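import Groth.Statements.S19985
import Groth.Agent.ConeFibreLib.Cones
import Groth.Agent.RelTildeLib.Basic
import Groth.Agent.RelProjLib.ConeComp
import Groth.Agent.RelProjLib.OfHom
import Groth.Agent.S8308
-- import your own Groth.Agent.* helpers here

set_option autoImplicit false
universe u
open CategoryTheory CategoryTheory.Limits AlgebraicGeometry Opposite TopologicalSpace
open scoped HomogeneousIdeal
noncomputable section
open EGA2

set_option linter.style.haveILetI false
set_option maxHeartbeats 1000000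
set_option backward.isDefEq.respectTransparency false

namespace Groth.Agent.S19985

open HomogeneousLocalization in
/-- `Spec T → D₊(f)` and `Spec T → D₊(f')` given by the same ring map agree in `Proj`. -/
theorem spec_awayι_eq {B σ : Type u} [CommRing B] [SetLike σ B] [AddSubgroupClass σ B] {ℬ : ℕ → σ} [GradedRing ℬ]
    {f f' : B} (hf : f ∈ ℬ 1) (hf' : f' ∈ ℬ 1) {T : Type u} [CommRing T] (ev : B →+* T)
    (hu : IsUnit (ev f)) (hu' : IsUnit (ev f')) :
    Spec.map (CommRingCat.ofHom ((IsLocalization.Away.lift f (S := Localization.Away f) hu).comp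
        (algebraMap (Away ℬ f) (Localization.Away f)))) ≫ Proj.awayι ℬ f hf one_pos =
      Spec.map (CommRingCat.ofHom ((IsLocalization.Away.lift f' (S := Localization.Away f') hu').comp
        (algebraMap (Away ℬ f') (Localization.Away f')))) ≫ Proj.awayι ℬ f' hf' one_pos := by
  have hux : IsUnit (ev (f * f')) := by rw [map_mul]; exact hu.mul hu'
  let γ : Away ℬ (f * f') →+* T := (IsLocalization.Away.lift (f * f') (S := Localization.Away (f * f')) hux).comp
    (algebraMap (Away ℬ (f * f')) (Localization.Away (f * f')))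
  have key : ∀ (a b : B) (hb : b ∈ ℬ 1) (hx : f * f' = a * b) (ha : IsUnit (ev a)),
      γ.comp (awayMap ℬ hb hx) = (IsLocalization.Away.lift a (S := Localization.Away a) ha).comp
        (algebraMap (Away ℬ a) (Localization.Away a)) := by
    intro a b hb hx ha
    refine RingHom.ext fun c => ?_
    simp only [γ, RingHom.comp_apply, HomogeneousLocalization.algebraMap_apply, HomogeneousLocalization.val_awayMap]
    rw [← RingHom.comp_apply]
    refine RingHom.congr_fun (IsLocalization.ringHom_ext (Submonoid.powers a) (RingHom.ext fun x => ?_)) c.val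
    simp only [RingHom.comp_apply, Localization.awayLift, IsLocalization.Away.lift_eq]
  rw [← key f f' hf' rfl hu, ← key f' f hf (mul_comm f f') hu']
  clear key
  clear_value γ
  rw [CommRingCat.ofHom_comp, CommRingCat.ofHom_comp,
    Spec.map_comp, Spec.map_comp, Category.assoc, Category.assoc,
    Proj.SpecMap_awayMap_awayι, Proj.SpecMap_awayMap_awayι]

theorem isAffineHom_of_cov {E X : Scheme.{u}} (π : E ⟶ X)
    (cov : ∀ x : X, ∃ (C D : CommRingCat.{u}) (ι : C ⟶ D) (a : Spec C ⟶ X) (b : Spec D ⟶ E),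
      IsOpenImmersion a ∧ x ∈ Set.range a.base ∧ IsPullback b (Spec.map ι) π a) : IsAffineHom π := by
  choose C D ι a b ha hx hpb using cov
  refine IsZariskiLocalAtTarget.of_openCover (P := @IsAffineHom)
    (Scheme.Cover.mkOfCovers (P := @IsOpenImmersion) X (fun x => Spec (C x)) a
      (fun x => ⟨x, by simpa using hx x⟩) ha) fun (x : X) => ?_
  change IsAffineHom (pullback.snd π (a x))
  rw [← MorphismProperty.cancel_left_of_respectsIso @IsAffineHom (hpb x).isoPullback.hom,
    (hpb x).isoPullback_hom_snd]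
  infer_instance

end Groth.Agent.S19985

namespace Groth.Agent.S19985

/-- Let 𝒮 be a quasi-coherent positively graded O_Y-algebra with 𝒮_0 = O_Y which is generated by 𝒮_1
(over every affine open U the ring 𝒮(U) is generated by its degree-0 and degree-1 parts), Ŝ = 𝒮[z]
(graded homomorphism ι : 𝒮 → Ŝ and a degree-one global section z, polynomial over affine opens), C =
Spec(𝒮), X = Proj(𝒮) and Ĉ = Proj(Ŝ) with their charts, E ⊆ C and Ê ⊆ Ĉ the pointed cones, i : C → Ĉ
the canonical open immersion and p : Ê → X the canonical retraction (the morphism which on each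
affine piece Spec Ŝ(U)_(ι f), f ∈ 𝒮(U) homogeneous of positive degree, is Spec of 𝒮(U)_(f) → Ŝ(U)_(ι
f) followed by the chart of X). Then p is of finite type (locally of finite type and quasi-compact)
and for every point x of X the fibre p⁻¹(x) = Ê ×_X Spec k(x) is isomorphic over k(x) to the affine
line Spec k(x)[T]; and for every factorisation i' : E → Ê of i restricted to E, the composite π = p
∘ i' : E → X is of finite type and its fibre at every x is isomorphic over k(x) to Spec k(x)[T,
T⁻¹]. -/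
theorem result {Y PC P : Scheme.{u}} (𝒮 𝒮h : RelProj.QCGrAlg Y) (h0 : RelCone.StrZeroBij 𝒮)
    (hgen : 𝒮.IsGenDegOne)
    (ι : 𝒮.toQCAlg ⟶ 𝒮h.toQCAlg) (z : 𝒮h.presheaf.obj (op ⊤)) (hz : RelCone.IsPolyOver 𝒮 𝒮h ι z)
    (pC : PC ⟶ Y)
    (chartC : ∀ (U : Y.Opens) (hU : IsAffineOpen U), (((pC ⁻¹ᵁ U : PC.Opens) : Scheme.{u}) ≅ Proj (𝒮h.deg U hU)))
    (hPC : RelProj.IsRelProj 𝒮h pC chartC)
    (p : P ⟶ Y)
    (chart : ∀ (U : Y.Opens) (hU : IsAffineOpen U), (((p ⁻¹ᵁ U : P.Opens) : Scheme.{u}) ≅ Proj (𝒮.deg U hU)))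
    (hP : RelProj.IsRelProj 𝒮 p chart)
    (i : 𝒮.toQCAlg.spec ⟶ PC) (hi : RelCone.IsConeImm 𝒮 hz pC chartC i)
    (r : ((RelCone.pointedProjCone 𝒮 hz pC chartC : PC.Opens) : Scheme.{u}) ⟶ P)
    (hr : (∀ (U : Y.Opens) (hU : IsAffineOpen U) (d : ℕ) (hd : 0 < d) (f : 𝒮.presheaf.obj (op U)) (hf : f ∈ 𝒮.deg U hU d)
        (g : Spec (CommRingCat.of (HomogeneousLocalization.Away (𝒮h.deg U hU) ((RelProj.gradedHomAt ι hz.graded U hU) f))) ⟶
          ((RelCone.pointedProjCone 𝒮 hz pC chartC : PC.Opens) : Scheme.{u})),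
        g ≫ (RelCone.pointedProjCone 𝒮 hz pC chartC).ι =
            Proj.awayι (𝒮h.deg U hU) ((RelProj.gradedHomAt ι hz.graded U hU) f) ((RelProj.gradedHomAt ι hz.graded U hU).2 hf) hd ≫
              RelProj.emb pC chartC U hU →
          g ≫ r =
            Spec.map (CommRingCat.ofHom (HomogeneousLocalization.Away.map (RelProj.gradedHomAt ι hz.graded U hU) f)) ≫
              Proj.awayι (𝒮.deg U hU) f hf hd ≫ RelProj.emb p chart U hU)) :
    (LocallyOfFiniteType r ∧ QuasiCompact r ∧
        ∀ x : ↥P, ∃ e : pullback r (P.fromSpecResidueField x) ≅ Spec (CommRingCat.of (Polynomial (P.residueField x))),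
          e.hom ≫ Spec.map (CommRingCat.ofHom (algebraMap (P.residueField x) (Polynomial (P.residueField x)))) =
            pullback.snd r (P.fromSpecResidueField x)) ∧
      ∀ i' : ((RelCone.pointedCone 𝒮 : 𝒮.toQCAlg.spec.Opens) : Scheme.{u}) ⟶
          ((RelCone.pointedProjCone 𝒮 hz pC chartC : PC.Opens) : Scheme.{u}),
        i' ≫ (RelCone.pointedProjCone 𝒮 hz pC chartC).ι = (RelCone.pointedCone 𝒮).ι ≫ i →
          LocallyOfFiniteType (i' ≫ r) ∧ QuasiCompact (i' ≫ r) ∧
        ∀ x : ↥P, ∃ e : pullback (i' ≫ r) (P.fromSpecResidueField x) ≅ Spec (CommRingCat.of (LaurentPolynomial (P.residueField x))),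
          e.hom ≫ Spec.map (CommRingCat.ofHom (algebraMap (P.residueField x) (LaurentPolynomial (P.residueField x)))) =
            pullback.snd (i' ≫ r) (P.fromSpecResidueField x) := by
  classical
  open Groth.Agent.RelProjLib.QMap in
  obtain ⟨⟨v0, hv0, huq⟩, -⟩ := Groth.Agent.S8308.result 𝒮 𝒮h h0 ι z hz pC chartC hPC p chart hP
  have huq' := fun r1 h => (huq r1 h).trans (huq r hr).symm
  clear v0 hv0 huq
  revert hr huq'
  revert r
  rw [Groth.Agent.RelProjLib.QMap.pointedProjCone_eq_domQ hz hPC]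
  intro r hr huq
  obtain ⟨v, hv, -⟩ := Groth.Agent.RelProjLib.QMap.existsUnique_on (RelProj.QGrHom.ofHom ι hz.graded) p chart pC chartC hP hPC
  have hv' : r = v := by
    refine (huq v ?_).symm
    intro U hU d hd f hf g hg
    have key : ∀ (χ : 𝒮.deg U hU →+*ᵍ 𝒮h.deg U hU), χ = (RelProj.QGrHom.ofHom ι hz.graded).gradedAt U hU U hU le_rfl →
        ∀ (g : Spec (CommRingCat.of (HomogeneousLocalization.Away (𝒮h.deg U hU) (χ f))) ⟶ (((RelProj.domQ (RelProj.QGrHom.ofHom ι hz.graded) pC chartC) : PC.Opens) : Scheme.{u})),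
          g ≫ (RelProj.domQ (RelProj.QGrHom.ofHom ι hz.graded) pC chartC).ι = Proj.awayι (𝒮h.deg U hU) (χ f) (χ.2 hf) hd ≫ RelProj.emb pC chartC U hU →
          g ≫ v = Spec.map (CommRingCat.ofHom (HomogeneousLocalization.Away.map χ f)) ≫
            Proj.awayι (𝒮.deg U hU) f hf hd ≫ RelProj.emb p chart U hU := by
      rintro _ rfl g hg
      let k : Groth.Agent.RelProjLib.QMap.Idx (g := 𝟙 Y) (𝒮 := 𝒮) := ⟨U, hU, U, hU, le_rfl, d, hd, f, hf⟩
      have : g = Groth.Agent.RelProjLib.QMap.lMap (RelProj.QGrHom.ofHom ι hz.graded) pC chartC k := by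
        rw [← cancel_mono (RelProj.domQ (RelProj.QGrHom.ofHom ι hz.graded) pC chartC).ι, hg, Groth.Agent.RelProjLib.QMap.lMap_ι]
        rfl
      rw [this, Groth.Agent.RelProjLib.QMap.lMap_comp hv k]
      rfl
    exact key _ (Groth.Agent.RelProjLib.QMap.gradedAt_ofHom hz.graded U hU).symm g hg
  subst hv'
  clear huq hr
  -- the charts
  have chartG : ∀ (U : Y.Opens) (hU : IsAffineOpen U) (g : 𝒮.presheaf.obj (op U)) (hg : g ∈ 𝒮.deg U hU 1),
      ∃ gl : Spec (CommRingCat.of (HomogeneousLocalization.Away (𝒮h.deg U hU) (RelProj.gradedHomAt ι hz.graded U hU g))) ⟶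
          (((RelProj.domQ (RelProj.QGrHom.ofHom ι hz.graded) pC chartC) : PC.Opens) : Scheme.{u}),
        ∃ _ : IsOpenImmersion gl,
        gl ≫ (RelProj.domQ (RelProj.QGrHom.ofHom ι hz.graded) pC chartC).ι = Proj.awayι (𝒮h.deg U hU) _ ((RelProj.gradedHomAt ι hz.graded U hU).2 hg) one_pos ≫
            RelProj.emb pC chartC U hU ∧
        gl ≫ r = Spec.map (CommRingCat.ofHom (HomogeneousLocalization.Away.map (RelProj.gradedHomAt ι hz.graded U hU) g)) ≫
            Proj.awayι (𝒮.deg U hU) g hg one_pos ≫ RelProj.emb p chart U hU ∧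
        r ⁻¹ᵁ (Proj.awayι (𝒮.deg U hU) g hg one_pos ≫ RelProj.emb p chart U hU).opensRange = gl.opensRange := by
    intro U hU g hg
    have key : ∀ (χ : 𝒮.deg U hU →+*ᵍ 𝒮h.deg U hU), χ = (RelProj.QGrHom.ofHom ι hz.graded).gradedAt U hU U hU le_rfl →
        ∃ gl : Spec (CommRingCat.of (HomogeneousLocalization.Away (𝒮h.deg U hU) (χ g))) ⟶ (((RelProj.domQ (RelProj.QGrHom.ofHom ι hz.graded) pC chartC) : PC.Opens) : Scheme.{u}),
          ∃ _ : IsOpenImmersion gl,
          gl ≫ (RelProj.domQ (RelProj.QGrHom.ofHom ι hz.graded) pC chartC).ι = Proj.awayι (𝒮h.deg U hU) _ (χ.2 hg) one_pos ≫ RelProj.emb pC chartC U hU ∧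
          gl ≫ r = Spec.map (CommRingCat.ofHom (HomogeneousLocalization.Away.map χ g)) ≫
              Proj.awayι (𝒮.deg U hU) g hg one_pos ≫ RelProj.emb p chart U hU ∧
          r ⁻¹ᵁ (Proj.awayι (𝒮.deg U hU) g hg one_pos ≫ RelProj.emb p chart U hU).opensRange = gl.opensRange := by
      rintro _ rfl
      let k : Groth.Agent.RelProjLib.QMap.Idx (g := 𝟙 Y) (𝒮 := 𝒮) := ⟨U, hU, U, hU, le_rfl, 1, one_pos, g, hg⟩
      exact ⟨Groth.Agent.RelProjLib.QMap.lMap (RelProj.QGrHom.ofHom ι hz.graded) pC chartC k,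
        Groth.Agent.RelProjLib.QMap.instIsOpenImmersionLMap _ _ _ _,
        Groth.Agent.RelProjLib.QMap.lMap_ι _ _ _ _,
        Groth.Agent.RelProjLib.QMap.lMap_comp hv k,
        Groth.Agent.RelProjLib.QMap.on_preimage hz.graded hP hPC hv U hU 1 one_pos g hg⟩
    exact key _ (Groth.Agent.RelProjLib.QMap.gradedAt_ofHom hz.graded U hU).symm
  have pick : ∀ x : P, ∃ (U : Y.Opens) (hU : IsAffineOpen U) (g : 𝒮.presheaf.obj (op U)) (hg : g ∈ 𝒮.deg U hU 1),
      x ∈ Set.range (Proj.awayι (𝒮.deg U hU) g hg one_pos ≫ RelProj.emb p chart U hU).base := by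
    intro x
    obtain ⟨U, hU, hxU, -⟩ := exists_isAffineOpen_mem_and_subset (U := (⊤ : Y.Opens))
      (show p x ∈ (⊤ : Y.Opens) from trivial)
    obtain ⟨g, hg⟩ := Groth.Agent.GrModLib.exists_mem_one_notMem
      (Groth.Agent.RelTildeLib.irrelevant_eq_span_one (hgen U hU)) ((chart U hU).hom ⟨x, hxU⟩)
    rw [← Proj.opensRange_awayι _ g.1 g.2 one_pos] at hg
    obtain ⟨w, hw⟩ := hg
    refine ⟨U, hU, g.1, g.2, w, ?_⟩
    refine (congrArg (fun t => RelProj.emb p chart U hU t) hw).trans ?_
    show ((chart U hU).hom ≫ (chart U hU).inv ≫ (p ⁻¹ᵁ U).ι) ⟨x, hxU⟩ = x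
    rw [Iso.hom_inv_id_assoc]
    rfl
  refine ⟨?_, fun i' hi' => ?_⟩
  · have cov : ∀ x : P, ∃ (C : CommRingCat.{u}) (a : Spec C ⟶ P) (b : Spec (CommRingCat.of (Polynomial C)) ⟶ _),
        IsOpenImmersion a ∧ x ∈ Set.range a.base ∧
          IsPullback b (Spec.map (CommRingCat.ofHom (algebraMap C (Polynomial C)))) r a := by
      intro x
      obtain ⟨U, hU, g, hg, hx⟩ := pick x
      obtain ⟨gl, hgl, -, hglr, hpre⟩ := chartG U hU g hg
      letI : Algebra (𝒮.presheaf.obj (op U)) (𝒮h.presheaf.obj (op U)) := (ι.hom.app (op U)).hom.toAlgebra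
      have hhat : Function.Bijective (Polynomial.aeval (R := 𝒮.presheaf.obj (op U)) (RelCone.restrictTop 𝒮h z U)) :=
        hz.bij U hU
      haveI := Groth.Agent.ConeFibreLib.isIso_thetaP hg (RelProj.gradedHomAt ι hz.graded U hU) (fun _ => rfl)
        (hz.deg_z U hU) hhat
      refine ⟨_, Proj.awayι (𝒮.deg U hU) g hg one_pos ≫ RelProj.emb p chart U hU,
        Spec.map (CommRingCat.ofHom (Groth.Agent.ConeFibreLib.thetaP hg (RelProj.gradedHomAt ι hz.graded U hU)
          (fun _ => rfl) hhat)) ≫ gl, inferInstance, hx, ?_⟩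
      refine (IsOpenImmersion.isPullback _ _ _ _ ?_ ?_).flip
      · rw [Category.assoc, hglr, ← Spec.map_comp_assoc, ← CommRingCat.ofHom_comp]
        congr 3
        exact RingHom.ext fun c => Groth.Agent.ConeFibreLib.thetaP_map hg _ (fun _ => rfl) hhat c
      · rw [hpre, Scheme.Hom.opensRange_comp_of_isIso]
    haveI : IsAffineHom r := isAffineHom_of_cov r fun x => by
      obtain ⟨C, a, b, h⟩ := cov x
      exact ⟨C, _, _, a, b, h⟩
    obtain ⟨h1, h2⟩ := Groth.Agent.ConeFibreLib.fibre_props r (fun C => CommRingCat.of (Polynomial C))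
      (fun C => CommRingCat.ofHom (algebraMap C (Polynomial C)))
      (fun C => Groth.Agent.ConeFibreLib.finiteType_polynomial C)
      (fun γ => Groth.Agent.ConeFibreLib.isPushout_polynomial γ) cov
    exact ⟨h1, inferInstance, h2⟩
  · have cov : ∀ x : P, ∃ (C : CommRingCat.{u}) (a : Spec C ⟶ P) (b : Spec (CommRingCat.of (LaurentPolynomial C)) ⟶ _),
        IsOpenImmersion a ∧ x ∈ Set.range a.base ∧
          IsPullback b (Spec.map (CommRingCat.ofHom (algebraMap C (LaurentPolynomial C)))) (i' ≫ r) a := by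
      intro x
      obtain ⟨U, hU, g, hg, hx⟩ := pick x
      obtain ⟨gl, hgl, hglι, hglr, hpre⟩ := chartG U hU g hg
      have hmem : ∀ q : Spec (𝒮.presheaf.obj (op U)), g ∉ q.asIdeal →
          𝒮.toQCAlg.ι U hU q ∈ RelCone.pointedCone 𝒮 := by
        intro q hq
        change q ∈ 𝒮.toQCAlg.ι U hU ⁻¹ᵁ RelCone.pointedCone 𝒮
        rw [Groth.Agent.RelSpecLib.ι_preimage_pointedCone, Groth.Agent.RelSpecLib.mem_vertexCompl]
        exact fun h => hq (h (HomogeneousIdeal.mem_irrelevant_of_mem _ one_pos hg))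
      have hrange := PrimeSpectrum.localization_away_comap_range (Localization.Away g) g
      let c : Spec (CommRingCat.of (Localization.Away g)) ⟶ 𝒮.toQCAlg.spec :=
        Spec.map (CommRingCat.ofHom (algebraMap (𝒮.presheaf.obj (op U)) (Localization.Away g))) ≫ 𝒮.toQCAlg.ι U hU
      have hc : Set.range c.base ⊆ Set.range (RelCone.pointedCone 𝒮).ι.base := by
        rw [Scheme.Opens.range_ι]
        rintro _ ⟨w, rfl⟩
        exact hmem _ (hrange.le ⟨w, rfl⟩)
      haveI : IsOpenImmersion (Spec.map (CommRingCat.ofHom (algebraMap (𝒮.presheaf.obj (op U)) (Localization.Away g)))) :=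
        IsOpenImmersion.of_isLocalization g
      let gl2 := IsOpenImmersion.lift (RelCone.pointedCone 𝒮).ι c hc
      have hgl2 : gl2 ≫ (RelCone.pointedCone 𝒮).ι = c := IsOpenImmersion.lift_fac _ _ _
      haveI : IsOpenImmersion gl2 := by
        haveI : IsOpenImmersion (gl2 ≫ (RelCone.pointedCone 𝒮).ι) := by rw [hgl2]; infer_instance
        exact IsOpenImmersion.of_comp _ (RelCone.pointedCone 𝒮).ι
      let ev : 𝒮h.presheaf.obj (op U) →+* Localization.Away g :=
        (algebraMap (𝒮.presheaf.obj (op U)) (Localization.Away g)).comp (hz.evalOne U hU)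
      have hevι : ∀ a, ev (RelProj.gradedHomAt ι hz.graded U hU a) = algebraMap _ (Localization.Away g) a :=
        fun a => congrArg (algebraMap _ (Localization.Away g)) (hz.evalOne_ι U hU a)
      have hu1 : IsUnit (ev (RelCone.restrictTop 𝒮h z U)) := by
        show IsUnit (algebraMap _ (Localization.Away g) (hz.evalOne U hU _))
        rw [hz.evalOne_z, map_one]
        exact isUnit_one
      have hu2 : IsUnit (ev (RelProj.gradedHomAt ι hz.graded U hU g)) := by
        rw [hevι]
        exact IsLocalization.Away.algebraMap_isUnit g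
      let γ : HomogeneousLocalization.Away (𝒮h.deg U hU) (RelProj.gradedHomAt ι hz.graded U hU g) →+* Localization.Away g :=
        (IsLocalization.Away.lift _ (S := Localization.Away (RelProj.gradedHomAt ι hz.graded U hU g)) hu2).comp
          (algebraMap (HomogeneousLocalization.Away (𝒮h.deg U hU) (RelProj.gradedHomAt ι hz.graded U hU g))
            (Localization.Away (RelProj.gradedHomAt ι hz.graded U hU g)))
      have hα : (algebraMap (𝒮.presheaf.obj (op U)) (Localization.Away g)).comp (hz.awayZToBase U hU) =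
          (IsLocalization.Away.lift _ (S := Localization.Away (RelCone.restrictTop 𝒮h z U)) hu1).comp
            (algebraMap (HomogeneousLocalization.Away (𝒮h.deg U hU) (RelCone.restrictTop 𝒮h z U))
              (Localization.Away (RelCone.restrictTop 𝒮h z U))) := by
        rw [RelCone.IsPolyOver.awayZToBase, ← RingHom.comp_assoc]
        congr 1
        refine IsLocalization.ringHom_ext (Submonoid.powers (RelCone.restrictTop 𝒮h z U)) (RingHom.ext fun a => ?_)
        simp only [RingHom.comp_apply, IsLocalization.Away.lift_eq]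
        rfl
      have hci : gl2 ≫ i' = Spec.map (CommRingCat.ofHom γ) ≫ gl := by
        rw [← cancel_mono (RelProj.domQ (RelProj.QGrHom.ofHom ι hz.graded) pC chartC).ι, Category.assoc, hi', reassoc_of% hgl2]
        simp only [Category.assoc]
        rw [hglι]
        simp only [c, Category.assoc]
        rw [hi U hU, ← Spec.map_comp_assoc, ← CommRingCat.ofHom_comp, hα,
          reassoc_of% (spec_awayι_eq (hz.deg_z U hU) ((RelProj.gradedHomAt ι hz.graded U hU).2 hg) ev hu1 hu2)]
        rfl
      have hγ : γ.comp (HomogeneousLocalization.Away.map (RelProj.gradedHomAt ι hz.graded U hU) g) =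
          algebraMap (HomogeneousLocalization.Away (𝒮.deg U hU) g) (Localization.Away g) := by
        refine RingHom.ext fun q => ?_
        obtain ⟨n, a, ha, rfl⟩ := HomogeneousLocalization.Away.mk_surjective _ hg q
        simp only [γ, RingHom.comp_apply, HomogeneousLocalization.algebraMap_apply,
          HomogeneousLocalization.Away.map_mk, HomogeneousLocalization.Away.val_mk]
        rw [Localization.mk_eq_mk', IsLocalization.Away.lift, IsLocalization.lift_mk', Units.mul_inv_eq_iff_eq_mul,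
          IsUnit.coe_liftRight]
        show ev (RelProj.gradedHomAt ι hz.graded U hU a) =
          Localization.mk a _ * ev (RelProj.gradedHomAt ι hz.graded U hU g ^ n)
        rw [hevι, map_pow, hevι, ← map_pow, ← Localization.mk_one_eq_algebraMap, ← Localization.mk_one_eq_algebraMap,
          Localization.mk_mul, Localization.mk_eq_mk_iff, Localization.r_iff_exists]
        exact ⟨1, by simp [mul_comm]⟩
      haveI := Groth.Agent.ConeFibreLib.isIso_thetaL (𝒜 := 𝒮.deg U hU) hg
      refine ⟨_, Proj.awayι (𝒮.deg U hU) g hg one_pos ≫ RelProj.emb p chart U hU,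
        Spec.map (CommRingCat.ofHom (Groth.Agent.ConeFibreLib.thetaL hg)) ≫ gl2, inferInstance, hx, ?_⟩
      refine (IsOpenImmersion.isPullback _ _ _ _ ?_ ?_).flip
      · rw [Category.assoc, reassoc_of% hci, hglr, ← Spec.map_comp_assoc, ← Spec.map_comp_assoc,
          ← CommRingCat.ofHom_comp, ← CommRingCat.ofHom_comp, RingHom.comp_assoc, hγ]
        congr 3
        exact RingHom.ext fun c => (Groth.Agent.ConeFibreLib.thetaL_val hg c).trans (LaurentPolynomial.C_eq_algebraMap c)
      · rw [Scheme.Hom.comp_preimage, hpre, Scheme.Hom.opensRange_comp_of_isIso]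
        refine le_antisymm ?_ ?_
        · intro e he
          obtain ⟨w, hw⟩ := he
          have hie : i ((RelCone.pointedCone 𝒮).ι e) = RelProj.emb pC chartC U hU
              (Proj.awayι (𝒮h.deg U hU) _ ((RelProj.gradedHomAt ι hz.graded U hU).2 hg) one_pos w) := by
            have h1 := congrArg (fun t : _ ⟶ PC => t e) hi'
            have h2 := congrArg (fun t : _ ⟶ PC => t w) hglι
            exact h1.symm.trans ((congrArg (fun t => (RelProj.domQ (RelProj.QGrHom.ofHom ι hz.graded) pC chartC).ι t) hw.symm).trans h2)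
          have hπe : (RelCone.pointedCone 𝒮).ι e ∈ 𝒮.toQCAlg.π ⁻¹ᵁ U := by
            show 𝒮.toQCAlg.π ((RelCone.pointedCone 𝒮).ι e) ∈ U
            rw [← Groth.Agent.RelSpecLib.coneImm_π hz hPC hi, Scheme.Hom.comp_apply, hie]
            exact ((chartC U hU).inv _).2
          rw [𝒮.toQCAlg.π_preimage U hU] at hπe
          obtain ⟨q, hq⟩ := hπe
          have h3 : RelProj.emb pC chartC U hU (Proj.awayι (𝒮h.deg U hU) (RelCone.restrictTop 𝒮h z U) (hz.deg_z U hU)
              one_pos (Spec.map (CommRingCat.ofHom (hz.awayZToBase U hU)) q)) = i (𝒮.toQCAlg.ι U hU q) :=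
            (congrArg (fun t : _ ⟶ PC => t q) (hi U hU)).symm
          have hqmem : g ∉ q.asIdeal := by
            intro hgq
            have h4 := (RelProj.emb pC chartC U hU).isOpenEmbedding.injective
              (h3.trans ((congrArg (fun t => i t) hq).trans hie))
            have h5 := (Groth.Agent.RelSpecLib.mem_awayι_apply hz U hU q (hz.graded U hU 1 g hg)).mpr
              (by rw [hz.evalOne_ι]; exact hgq)
            rw [h4] at h5
            have h6 : Proj.awayι (𝒮h.deg U hU) _ ((RelProj.gradedHomAt ι hz.graded U hU).2 hg) one_pos w ∈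
                Proj.basicOpen (𝒮h.deg U hU) (RelProj.gradedHomAt ι hz.graded U hU g) :=
              (Proj.opensRange_awayι _ _ ((RelProj.gradedHomAt ι hz.graded U hU).2 hg) one_pos).le ⟨w, rfl⟩
            exact h6 h5
          obtain ⟨w', hw'⟩ := hrange.ge hqmem
          refine ⟨w', (RelCone.pointedCone 𝒮).ι.isOpenEmbedding.injective ?_⟩
          rw [← Scheme.Hom.comp_apply, hgl2]
          exact (congrArg (fun t => 𝒮.toQCAlg.ι U hU t) hw').trans hq
        · rintro _ ⟨w, rfl⟩
          exact ⟨Spec.map (CommRingCat.ofHom γ) w, (congrArg (fun t : _ ⟶ (((RelProj.domQ (RelProj.QGrHom.ofHom ι hz.graded) pC chartC) : PC.Opens) : Scheme.{u}) => t w) hci).symm⟩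
    haveI : IsAffineHom (i' ≫ r) := isAffineHom_of_cov (i' ≫ r) fun x => by
      obtain ⟨C, a, b, h⟩ := cov x
      exact ⟨C, _, _, a, b, h⟩
    obtain ⟨h1, h2⟩ := Groth.Agent.ConeFibreLib.fibre_props (i' ≫ r) (fun C => CommRingCat.of (LaurentPolynomial C))
      (fun C => CommRingCat.ofHom (algebraMap C (LaurentPolynomial C)))
      (fun C => Groth.Agent.ConeFibreLib.finiteType_laurent C)
      (fun γ => Groth.Agent.ConeFibreLib.isPushout_laurent γ) cov
    exact ⟨h1, inferInstance, h2⟩

end Groth.Agent.S19985
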