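import Groth.Statements.S19986
import Groth.Agent.FibreDepth.Retro
-- import your own Groth.Agent.* helpers here

set_option autoImplicit false
universe u
open CategoryTheory CategoryTheory.Limits AlgebraicGeometry TopologicalSpace Topology
open CInt

namespace Groth.Agent.S19986

/-- Let f : X ⟶ S be locally of finite presentation, Y a closed subset of X which is locally
constructible in X, and F a finitely presented quasi-coherent O_X-module flat over S. Then the
function on Y sending y to the depth of the fibre module F_{f(y)} along Y ∩ X_{f(y)} at y (with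
values in ℕ ∪ {∞}) is locally constructible on the topological space Y: every point of Y has an open
neighbourhood V in Y on which the function takes only finitely many values and on which every level
set is a constructible subset of V (a member of the Boolean algebra generated by the retrocompact
open subsets of V). -/
theorem result {X S : Scheme.{u}} (f : X ⟶ S)
    [LocallyOfFinitePresentation f] (Y : Closeds ↥X) (hY : IsLocallyConstructible (Y : Set ↥X))
    (F : X.Modules) (hqc : Coh.IsQCoh F) (hfp : CohB1.IsFP F) (hfl : FlatMod.IsFlatOver f F)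
    (y₀ : ↥(Y : Set ↥X)) :
    ∃ V : Opens ↥(Y : Set ↥X), y₀ ∈ V ∧
      ((fun y : ↥(Y : Set ↥X) => CInt.fiberDepthAlong f F (Y : Set ↥X) y.1) '' (V : Set ↥(Y : Set ↥X))).Finite ∧
      ∀ t : ℕ∞, IsConstructible
        {v : ↥V | CInt.fiberDepthAlong f F (Y : Set ↥X) v.1.1 = t} := by
  obtain ⟨𝔐, hx⟩ := Groth.Agent.FibreDepth.exists_model f F hfp y₀.1
  let g : ↥(Subtype.val ⁻¹' Set.range 𝔐.emb : Set ↥(Y : Set ↥X)) → PrimeSpectrum 𝔐.B :=
    fun v => 𝔐.isOpenEmbedding.toIsEmbedding.toHomeomorph.symm ⟨v.1.1, v.2⟩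
  have hg : ∀ v, 𝔐.emb (g v) = v.1.1 := fun v =>
    congrArg Subtype.val (𝔐.isOpenEmbedding.toIsEmbedding.toHomeomorph.apply_symm_apply ⟨v.1.1, v.2⟩)
  have hrange : Set.range g = 𝔐.emb ⁻¹' (Y : Set ↥X) := by
    ext q
    constructor
    · rintro ⟨v, rfl⟩
      show 𝔐.emb (g v) ∈ (Y : Set ↥X)
      rw [hg]; exact v.1.2
    · intro hq
      exact ⟨⟨⟨𝔐.emb q, hq⟩, ⟨q, rfl⟩⟩, 𝔐.isOpenEmbedding.injective (hg _)⟩
  have hce : IsClosedEmbedding g := by
    have hi : IsInducing fun v : ↥(Subtype.val ⁻¹' Set.range 𝔐.emb : Set ↥(Y : Set ↥X)) => v.1.1 :=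
      (IsInducing.subtypeVal).comp IsInducing.subtypeVal
    have he : IsEmbedding g := by
      refine ⟨IsInducing.of_comp ?_ 𝔐.isOpenEmbedding.continuous ?_, fun v w h => ?_⟩
      · exact (Homeomorph.continuous _).comp (Continuous.subtype_mk hi.continuous _)
      · rw [show 𝔐.emb ∘ g = fun v => v.1.1 from funext hg]; exact hi
      · exact Subtype.ext (Subtype.ext ((hg v).symm.trans ((congrArg 𝔐.emb h).trans (hg w))))
    exact ⟨he, hrange ▸ Y.isClosed.preimage 𝔐.isOpenEmbedding.continuous⟩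
  have hc : IsConstructible (𝔐.emb ⁻¹' (Y : Set ↥X)) :=
    (hY.preimage_of_isOpenEmbedding 𝔐.isOpenEmbedding).isConstructible
  have hcomp : IsCompact (Set.range g)ᶜ := by
    rw [hrange]
    exact (Groth.Agent.ConstrPrespectral.isRetrocompact_of_isConstructible (isConstructible_compl.2 hc)).isCompact
  have hle : ∀ (n : ℕ∞) (v : ↥(Subtype.val ⁻¹' Set.range 𝔐.emb : Set ↥(Y : Set ↥X))),
      n ≤ CInt.fiberDepthAlong f F (Y : Set ↥X) v.1.1 ↔
        Groth.Agent.FibreDepth.DepthAlongGE f (CInt.fiberDepth f F) (Y : Set ↥X) n (𝔐.emb (g v)) := fun n v => by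
    rw [hg, Groth.Agent.FibreDepth.le_fiberDepthAlong_iff]
  have hcon : ∀ n : ℕ, IsConstructible {v : ↥(Subtype.val ⁻¹' Set.range 𝔐.emb : Set ↥(Y : Set ↥X)) |
      (n : ℕ∞) ≤ CInt.fiberDepthAlong f F (Y : Set ↥X) v.1.1} := by
    intro n
    obtain ⟨W, -, hWc, h⟩ := 𝔐.exists_depthAlong hfl (Y : Set ↥X) Y.isClosed n
    simp only [hle, ← h]
    exact (hWc hc).preimage_of_isClosedEmbedding hce hcomp
  have htop : ∀ v : ↥(Subtype.val ⁻¹' Set.range 𝔐.emb : Set ↥(Y : Set ↥X)),
      ((𝔐.m + 1 : ℕ) : ℕ∞) ≤ CInt.fiberDepthAlong f F (Y : Set ↥X) v.1.1 →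
        CInt.fiberDepthAlong f F (Y : Set ↥X) v.1.1 = ⊤ := fun v hv =>
    top_le_iff.1 ((hle ⊤ v).2 (𝔐.depthAlongGE_top _ _ ((hle _ v).1 hv)))
  refine ⟨⟨Subtype.val ⁻¹' Set.range 𝔐.emb, 𝔐.isOpenEmbedding.isOpen_range.preimage continuous_subtype_val⟩, hx, ?_, ?_⟩
  · refine Set.Finite.subset (((Set.finite_le_nat 𝔐.m).image (fun n : ℕ => (n : ℕ∞))).union (Set.finite_singleton ⊤)) ?_
    rintro _ ⟨y, hy, rfl⟩
    show CInt.fiberDepthAlong f F (Y : Set ↥X) y.1 ∈ _
    rcases le_or_gt ((𝔐.m + 1 : ℕ) : ℕ∞) (CInt.fiberDepthAlong f F (Y : Set ↥X) y.1) with h | h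
    · exact Or.inr (htop ⟨y, hy⟩ h)
    · obtain ⟨a, ha⟩ := ENat.ne_top_iff_exists.1 h.ne_top
      rw [← ha] at h ⊢
      exact Or.inl ⟨a, Nat.lt_succ_iff.1 (by exact_mod_cast h), rfl⟩
  · intro t
    show IsConstructible {v : ↥(Subtype.val ⁻¹' Set.range 𝔐.emb : Set ↥(Y : Set ↥X)) |
      CInt.fiberDepthAlong f F (Y : Set ↥X) v.1.1 = t}
    induction t using ENat.recTopCoe with
    | top =>
      convert hcon (𝔐.m + 1) using 1
      ext v
      exact ⟨fun h => le_top.trans_eq (Eq.symm h), htop v⟩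
    | coe t =>
      convert (hcon t).sdiff (hcon (t + 1)) using 1
      ext v
      simp only [Set.mem_ofPred_eq, Set.mem_sdiff]
      constructor
      · intro h
        rw [h]
        exact ⟨le_rfl, fun h' => absurd (Nat.cast_le.1 h') (by omega)⟩
      · rintro ⟨h1, h2⟩
        refine le_antisymm ?_ h1
        rw [not_le, Nat.cast_add, Nat.cast_one] at h2
        exact Order.le_of_lt_add_one h2

end Groth.Agent.S19986
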