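import Groth.Statements.S19996
import Groth.Agent.WildQuotLib.Break
open Groth.Agent.WildQuotLib

set_option autoImplicit false
universe u
open WildQuot

namespace Groth.Agent.S19996

/-- Let `k` be a field of characteristic `p > 0`, `A = k[[u]]`, and `σ` a `k`-algebra automorphism of
`A` of order exactly `p` with ramification break `m`, i.e. `σ u - u` has order `m + 1`. Then `p`
divides `m + 1` if and only if there are a uniformizer `s` of `A` (a power series of order `1`) and
a `σ`-invariant power series `a` with `σ s = s + a`. (The published statement has a third equivalent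
condition, that `Spec A` is a torsor under the effective model of the action; this row omits it.) -/
theorem result
    (p : ℕ) [Fact p.Prime] (k : Type u) [Field k] [CharP k p]
    (σ : PowerSeries k ≃ₐ[k] PowerSeries k) (hσp : σ ^ p = 1) (hσ1 : σ ≠ 1)
    (m : ℕ) (hm : (σ PowerSeries.X - PowerSeries.X).order = ((m + 1 : ℕ) : ℕ∞)) :
    p ∣ m + 1 ↔
      ∃ s a : PowerSeries k, s.order = 1 ∧ σ a = a ∧ σ s = s + a := by
  classical
  haveI : CharP (PowerSeries k) p := charP_of_injective_ringHom (PowerSeries.C_injective (R := k)) p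
  have hp := (Fact.out : p.Prime)
  constructor
  swap
  · rintro ⟨s, a, hs, ha, hsa⟩
    have h := (order_sub σ hσp hm (o := 1) (by simpa using hs)).2 (fun h => hp.one_lt.ne' (Nat.dvd_one.1 h))
    rw [hsa, add_sub_cancel_left] at h
    have := dvd_order_of_fixed σ hσp hm h ha
    rwa [add_comm] at this
  intro hdvd
  obtain ⟨e, he⟩ := hdvd
  obtain ⟨hxfix, hxord⟩ := norm_X σ hσp hm
  set x := ∏ i ∈ Finset.range p, (σ ^ i) PowerSeries.X with hxdef
  have hm0 := break_pos σ hσp hm
  -- the operator `σ - 1` is nilpotent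
  let T : PowerSeries k → PowerSeries k := fun w => σ w - w
  let D : Module.End k (PowerSeries k) := σ.toAlgHom.toLinearMap - 1
  have hDp : D ^ p = 0 := by
    haveI : CharP (Module.End k (PowerSeries k)) p := charP_of_injective_algebraMap (FaithfulSMul.algebraMap_injective k _) p
    have hcomm : Commute (σ.toAlgHom.toLinearMap : Module.End k (PowerSeries k)) 1 := Commute.one_right _
    have h1 : D ^ p = (σ.toAlgHom.toLinearMap : Module.End k (PowerSeries k)) ^ p - 1 ^ p := sub_pow_char_of_commute p hcomm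
    have h2 : ∀ (j : ℕ) (w : PowerSeries k), ((σ.toAlgHom.toLinearMap : Module.End k (PowerSeries k)) ^ j) w = (σ ^ j) w := by
      intro j
      induction j with
      | zero => simp
      | succ j ih => intro w; rw [pow_succ', pow_succ', Module.End.mul_apply, AlgEquiv.mul_apply, ih]; rfl
    rw [h1]
    refine LinearMap.ext fun w => ?_
    rw [LinearMap.sub_apply, h2, hσp, one_pow]
    simp
  -- an element whose image is fixed and nonzero
  obtain ⟨θ, hθ0, hθ⟩ : ∃ θ, σ θ - θ ≠ 0 ∧ σ (σ θ - θ) = σ θ - θ := by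
    have hX : D PowerSeries.X ≠ 0 := by
      show σ PowerSeries.X - PowerSeries.X ≠ 0
      intro h
      rw [h, PowerSeries.order_zero] at hm
      exact ENat.top_ne_coe _ hm
    obtain ⟨j, hj⟩ : ∃ j, (D ^ (j + 1)) PowerSeries.X ≠ 0 ∧ (D ^ (j + 2)) PowerSeries.X = 0 := by
      by_contra! h
      have : ∀ j, (D ^ (j + 1)) PowerSeries.X ≠ 0 := by
        intro j
        induction j with
        | zero => simpa using hX
        | succ j ih => exact h j ih
      obtain ⟨q, hq⟩ : ∃ q, p = q + 1 := ⟨p - 1, by have := hp.one_lt; omega⟩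
      exact this q (by rw [← hq, hDp]; rfl)
    refine ⟨(D ^ j) PowerSeries.X, ?_, ?_⟩
    · have := hj.1
      rw [pow_succ', Module.End.mul_apply] at this
      exact this
    · have := hj.2
      rw [pow_succ', Module.End.mul_apply, pow_succ', Module.End.mul_apply] at this
      exact sub_eq_zero.1 this
  -- improve by fixed elements
  set T₀ := σ θ - θ with hT₀
  obtain ⟨t, ht⟩ : ∃ t : ℕ, T₀.order = (t : ℕ∞) := ⟨_, (PowerSeries.coe_toNat_order hθ0).symm⟩
  obtain ⟨r, hr⟩ := dvd_order_of_fixed σ hσp hm ht hθ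
  have hxfix' : ∀ j : ℕ, σ (x ^ j) = x ^ j := fun j => by rw [map_pow, hxfix]
  -- `x ^ e * θ`
  have key : ∀ (N : ℕ) (w : PowerSeries k), σ w - w = x ^ e * T₀ → (∀ o : ℕ, w.order = (o : ℕ∞) → p * r + 1 < o + N) →
      ∃ w', σ w' - w' = x ^ e * T₀ ∧ w'.order = ((p * r + 1 : ℕ) : ℕ∞) := by
    intro N
    induction N with
    | zero =>
      intro w hw hN
      exfalso
      have hw0 : w ≠ 0 := fun h => by
        rw [h, map_zero, sub_zero, eq_comm, mul_eq_zero] at hw
        rcases hw with hw | hw
        · have := pow_eq_zero_iff'.1 hw; rw [this.1] at hxord; simp at hxord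
        · exact hθ0 hw
      obtain ⟨o, ho⟩ : ∃ o : ℕ, w.order = (o : ℕ∞) := ⟨_, (PowerSeries.coe_toNat_order hw0).symm⟩
      have h1 := order_sub_ge σ hσp hm w ho.ge
      rw [hw, PowerSeries.order_mul, PowerSeries.order_pow, hxord, ht, nsmul_eq_mul] at h1
      have h2 : o + m ≤ e * p + t := by exact_mod_cast h1
      have := hN o ho
      rw [mul_comm e p, hr] at h2
      omega
    | succ N ih =>
      intro w hw hN
      rcases eq_or_ne w 0 with rfl | hw0
      · exfalso
        rw [map_zero, sub_zero, eq_comm, mul_eq_zero] at hw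
        rcases hw with hw | hw
        · have := pow_eq_zero_iff'.1 hw; rw [this.1] at hxord; simp at hxord
        · exact hθ0 hw
      obtain ⟨o, ho⟩ : ∃ o : ℕ, w.order = (o : ℕ∞) := ⟨_, (PowerSeries.coe_toNat_order hw0).symm⟩
      by_cases hpo : p ∣ o
      · obtain ⟨j, rfl⟩ := hpo
        obtain ⟨g, hg, hg0⟩ := exists_eq_X_pow_mul ho
        have hxj : (x ^ j).order = ((p * j : ℕ) : ℕ∞) := by
          rw [PowerSeries.order_pow, hxord, nsmul_eq_mul]; push_cast; ring
        obtain ⟨g', hg', hg'0⟩ := exists_eq_X_pow_mul hxj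
        set c := PowerSeries.constantCoeff g / PowerSeries.constantCoeff g'
        refine ih (w - PowerSeries.C c * x ^ j) ?_ ?_
        · rw [map_sub, map_mul, hxfix', show σ (PowerSeries.C c) = PowerSeries.C c from σ.commutes c, ← hw]; ring
        · intro o' ho'
          have hd : PowerSeries.X ^ (p * j + 1) ∣ w - PowerSeries.C c * x ^ j := by
            rw [hg, hg', pow_succ, mul_left_comm, ← mul_sub]
            refine mul_dvd_mul_left _ (PowerSeries.X_dvd_iff.2 ?_)
            simp [c, div_mul_cancel₀ _ hg'0]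
          obtain ⟨q, hq⟩ := hd
          have h3 : (((p * j + 1 : ℕ) : ℕ∞)) ≤ (o' : ℕ∞) := by
            rw [← ho', hq, PowerSeries.order_mul, PowerSeries.order_X_pow]; exact le_self_add
          have h4 : p * j + 1 ≤ o' := by exact_mod_cast h3
          have := hN _ ho
          omega
      · refine ⟨w, hw, ?_⟩
        have h1 := (order_sub σ hσp hm ho).2 hpo
        rw [hw, PowerSeries.order_mul, PowerSeries.order_pow, hxord, ht, nsmul_eq_mul] at h1
        have h2 : e * p + t = o + m := by exact_mod_cast h1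
        rw [mul_comm e p, hr] at h2
        rw [ho]
        exact_mod_cast (show o = p * r + 1 by omega)
  obtain ⟨w, hw, hword⟩ := key (p * r + 2) (x ^ e * θ)
    (by rw [map_mul, hxfix', hT₀]; ring) (fun o _ => by omega)
  obtain ⟨g₁, hg₁, hg₁0⟩ := exists_eq_X_pow_mul hword
  obtain ⟨g₂, hg₂, hg₂0⟩ := exists_eq_X_pow_mul (hr ▸ ht)
  obtain ⟨v, hv⟩ := isUnit_iff_exists_inv.1 (PowerSeries.isUnit_iff_constantCoeff.2 (isUnit_iff_ne_zero.2 hg₂0))
  refine ⟨PowerSeries.X * (g₁ * v), x ^ e, ?_, hxfix' e, ?_⟩
  · have hv0 : PowerSeries.constantCoeff v ≠ 0 := fun h => by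
      have := congrArg PowerSeries.constantCoeff hv; simp [h] at this
    simpa using order_X_pow_mul (k := k) (o := 1) (g := g₁ * v) (by simp [hg₁0, hv0])
  have hws : w = T₀ * (PowerSeries.X * (g₁ * v)) := by
    rw [hg₁, hg₂, pow_succ]
    linear_combination -(PowerSeries.X ^ (p * r) * PowerSeries.X * g₁) * hv
  have h5 := hw
  rw [hws, map_mul, hθ, ← mul_sub, mul_comm (x ^ e)] at h5
  exact (eq_add_of_sub_eq (mul_left_cancel₀ hθ0 h5)).trans (add_comm _ _)

end Groth.Agent.S19996
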