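import Groth.Statements.S19998
import Groth.Agent.WildQuotLib.Family2
open Groth.Agent.WildQuotLib

set_option autoImplicit false
universe u
open WildQuot

namespace Groth.Agent.S19998

theorem main {p : ℕ} [Fact p.Prime] {R : Type u} [CommRing R] [IsLocalRing R] {n : ℕ} (a d : Fin n → R)
    (ha : ∀ i, a i ∈ IsLocalRing.maximalIdeal R) (hd : Ideal.span (Set.range d) = IsLocalRing.maximalIdeal R)
    (σ : ASRing p a d ≃ₐ[R] ASRing p a d)
    (hσ : ∀ i, σ (gen (asPoly p a d) i) = gen (asPoly p a d) i + algebraMap R (ASRing p a d) (a i)) :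
    Ideal.span (Set.range fun t : ASRing p a d => σ t - t) ≤ Ideal.span (Set.range (gen (asPoly p a d))) ^ p ∧
      Module.length (ASRing p a d) (ASRing p a d ⧸ Ideal.span (Set.range fun t : ASRing p a d => σ t - t)) =
        (p ^ n : ℕ∞) * Module.length R (R ⧸ Ideal.span (Set.range a)) := by
  classical
  set aI : Ideal R := Ideal.span (Set.range a) with haI
  set J : Ideal (ASRing p a d) := aI.map (algebraMap R (ASRing p a d))
  have hJ : Ideal.span (Set.range fun t : (ASRing p a d) => σ t - t) = J := by
    refine le_antisymm (Ideal.span_le.2 ?_) ?_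
    · rintro _ ⟨t, rfl⟩
      have ht : t ∈ Algebra.adjoin R (Set.range (gen (asPoly p a d))) :=
        (adjoin_gen (asPoly p a d)).symm ▸ trivial
      show σ t - t ∈ J
      induction ht using Algebra.adjoin_induction with
      | mem y hy =>
        obtain ⟨i, rfl⟩ := hy
        rw [hσ, add_sub_cancel_left]
        exact Ideal.mem_map_of_mem _ (Ideal.subset_span ⟨i, rfl⟩)
      | algebraMap r => rw [AlgEquiv.commutes, sub_self]; exact J.zero_mem
      | add y y' _ _ h h' => rw [map_add, add_sub_add_comm]; exact J.add_mem h h'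
      | mul y y' _ _ h h' =>
        rw [map_mul, show σ y * σ y' - y * y' = (σ y - y) * σ y' + y * (σ y' - y') by ring]
        exact J.add_mem (J.mul_mem_right _ h) (J.mul_mem_left _ h')
    · rw [show J = Ideal.span (algebraMap R (ASRing p a d) '' Set.range a) from Ideal.map_span _ _, Ideal.span_le]
      rintro _ ⟨_, ⟨i, rfl⟩, rfl⟩
      exact Ideal.subset_span ⟨gen (asPoly p a d) i, by show σ (gen (asPoly p a d) i) - gen (asPoly p a d) i = _; rw [hσ, add_sub_cancel_left]⟩
  have hm1 := map_maximalIdeal_le (p := p) a _ ha hd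
  have hmp : (IsLocalRing.maximalIdeal R).map (algebraMap R (ASRing p a d)) ≤ Ideal.span (Set.range (gen (asPoly p a d))) ^ p := by
    rw [show IsLocalRing.maximalIdeal R = _ from hd.symm, Ideal.map_span, Ideal.span_le]
    rintro _ ⟨_, ⟨i, rfl⟩, rfl⟩
    have h : algebraMap R (ASRing p a d) (d i) = gen (asPoly p a d) i ^ p - algebraMap R (ASRing p a d) (a i ^ (p - 1)) * gen (asPoly p a d) i := by
      rw [show gen (asPoly p a d) i ^ p = _ from gen_rel p a d i]; exact (add_sub_cancel_left _ _).symm
    rw [SetLike.mem_coe, h, map_pow]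
    refine sub_mem (Ideal.pow_mem_pow (Ideal.subset_span (Set.mem_range_self i)) p) ?_
    have h2 : algebraMap R (ASRing p a d) (a i) ∈ Ideal.span (Set.range (gen (asPoly p a d))) := hm1 (Ideal.mem_map_of_mem _ (ha i))
    have := Ideal.mul_mem_mul (Ideal.pow_mem_pow h2 (p - 1)) (Ideal.subset_span (Set.mem_range_self i) : gen (asPoly p a d) i ∈ Ideal.span (Set.range (gen (asPoly p a d))))
    rwa [← Submodule.pow_succ, Nat.sub_add_cancel (Fact.out : p.Prime).one_le] at this
  refine ⟨hJ ▸ (Ideal.map_mono (Ideal.span_le.2 (by rintro _ ⟨i, rfl⟩; exact ha i))).trans hmp, ?_⟩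
  rw [hJ]
  haveI : IsLocalRing (ASRing p a d) := isLocalRing_AS (p := p) a _ ha hd
  have hmax : IsLocalRing.maximalIdeal (ASRing p a d) = Ideal.span (Set.range (gen (asPoly p a d))) :=
    (IsLocalRing.eq_maximalIdeal (isMaximal_span_gen (p := p) a _ ha hd)).symm
  haveI : IsLocalHom (algebraMap R (ASRing p a d)) := ((IsLocalRing.local_hom_TFAE (algebraMap R (ASRing p a d))).out 0 3).2 (Ideal.map_le_iff_le_comap.1 (hm1.trans hmax.ge))
  have hres : ∀ t : (ASRing p a d), ∃ r : R, t - algebraMap R (ASRing p a d) r ∈ Ideal.span (Set.range (gen (asPoly p a d))) := fun t => by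
    have ht : t ∈ Algebra.adjoin R (Set.range (gen (asPoly p a d))) :=
      (adjoin_gen (asPoly p a d)).symm ▸ trivial
    induction ht using Algebra.adjoin_induction with
    | mem y hy => exact ⟨0, by rw [map_zero, sub_zero]; exact Ideal.subset_span hy⟩
    | algebraMap r => exact ⟨r, by rw [sub_self]; exact zero_mem _⟩
    | add y y' _ _ h h' =>
      obtain ⟨r, hr⟩ := h; obtain ⟨r', hr'⟩ := h'
      exact ⟨r + r', by rw [map_add, add_sub_add_comm]; exact add_mem hr hr'⟩
    | mul y y' _ _ h h' =>
      obtain ⟨r, hr⟩ := h; obtain ⟨r', hr'⟩ := h'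
      refine ⟨r * r', ?_⟩
      rw [map_mul, show y * y' - algebraMap R (ASRing p a d) r * algebraMap R (ASRing p a d) r' = (y - algebraMap R (ASRing p a d) r) * y' + algebraMap R (ASRing p a d) r * (y' - algebraMap R (ASRing p a d) r') by ring]
      exact add_mem (Ideal.mul_mem_right _ _ hr) (Ideal.mul_mem_left _ _ hr')
  have hsurj : Function.Surjective (algebraMap (IsLocalRing.ResidueField R) (IsLocalRing.ResidueField (ASRing p a d))) := by
    intro y
    obtain ⟨t, rfl⟩ := IsLocalRing.residue_surjective y
    obtain ⟨r, hr⟩ := hres t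
    refine ⟨IsLocalRing.residue R r, ?_⟩
    rw [← sub_eq_zero]
    show IsLocalRing.residue (ASRing p a d) (algebraMap R (ASRing p a d) r) - IsLocalRing.residue (ASRing p a d) t = 0
    rw [← map_sub, IsLocalRing.residue_eq_zero_iff, hmax]
    exact neg_mem_iff.1 (by rwa [neg_sub])
  have hone : Module.length (IsLocalRing.ResidueField R) (IsLocalRing.ResidueField (ASRing p a d)) = 1 := by
    rw [← Module.length_eq_one (R := IsLocalRing.ResidueField R) (M := IsLocalRing.ResidueField R)]
    exact (LinearEquiv.ofBijective (Algebra.linearMap (IsLocalRing.ResidueField R) (IsLocalRing.ResidueField (ASRing p a d)))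
      ⟨RingHom.injective _, hsurj⟩).symm.length_eq
  have hlen := IsLocalRing.length_restrictScalars R (ASRing p a d) ((ASRing p a d) ⧸ J)
  rw [hone, mul_one] at hlen
  rw [← hlen]
  obtain ⟨b, -⟩ := exists_basis_AS (p := p) a d
  let e : ((ASRing p a d) ⧸ J) ≃ₗ[R] ((Fin n → Fin p) → R ⧸ aI) :=
    ((Algebra.TensorProduct.quotIdealMapEquivTensorQuot (ASRing p a d) aI).toLinearEquiv.restrictScalars R).trans
      ((TensorProduct.congr b.equivFun (LinearEquiv.refl R (R ⧸ aI))).trans
        ((TensorProduct.comm R _ _).trans (TensorProduct.piScalarRight R R (R ⧸ aI) (Fin n → Fin p))))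
  rw [e.length_eq, Module.length_pi, ENat.card_eq_coe_fintype_card, Fintype.card_fun, Fintype.card_fin, Fintype.card_fin]
  push_cast
  rfl


open MvPolynomial in
/-- Let `k` be a field of characteristic `p > 0`, `n ≥ 2`, `R = k[[x_1, …, x_n]]`, `a_1, …, a_n ∈ R`
with zero constant term, `A = R[u_1, …, u_n] / (u_i ^ p - a_i ^ (p-1) u_i - x_i : i = 1..n)`, and
`σ` the `R`-algebra automorphism of `A` with `σ u_i = u_i + a_i` for every `i` (when some `a_i` is
non-zero it generates a group `G` of order `p`). Let `I ⊆ A` be the ideal generated by the elements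
`σ t - t`, `t ∈ A`, which defines the fixed-point scheme of `G`. Then `I ⊆ (u_1, …, u_n) ^ p` (the
`p`-th power of the maximal ideal of `A`), and the length of `A / I` over `A` equals `p ^ n` times
the length of `R / (a_1, …, a_n)` over `R`; in particular it is a multiple of `p ^ n`. (The
published statement is for an arbitrary moderately ramified action, which has this normal form with
`a_1, …, a_n` a system of parameters of `R`, and records only divisibility by `p ^ n`; here the
`a_i` are arbitrary non-units, both lengths being infinite when `(a_1, …, a_n)` is not primary to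
the maximal ideal of `R`.) -/
theorem result
    (p : ℕ) [Fact p.Prime] (k : Type u) [Field k] [CharP k p] (n : ℕ) (hn : 2 ≤ n)
    (a : Fin n → MvPowerSeries (Fin n) k)
    (ham : ∀ i, MvPowerSeries.constantCoeff (a i) = 0) :
    let R := MvPowerSeries (Fin n) k
    let I : Ideal (MvPolynomial (Fin n) R) :=
      Ideal.span (Set.range fun i : Fin n =>
        X i ^ p - C (a i ^ (p - 1)) * X i - C (MvPowerSeries.X i))
    let A := MvPolynomial (Fin n) R ⧸ I
    let u : Fin n → A := fun i => Ideal.Quotient.mk I (X i)
    ∀ σ : A ≃ₐ[R] A, (∀ i, σ (u i) = u i + algebraMap R A (a i)) →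
      Ideal.span (Set.range fun t : A => σ t - t) ≤ Ideal.span (Set.range u) ^ p ∧
        Module.length A (A ⧸ Ideal.span (Set.range fun t : A => σ t - t)) =
          (p ^ n : ℕ∞) * Module.length R (R ⧸ Ideal.span (Set.range a)) := by
  intro R I
  classical
  have hI : I = monicIdeal (asPoly p a MvPowerSeries.X) := (monicIdeal_asPoly p a MvPowerSeries.X).symm
  clear_value I
  subst hI
  intro A u σ hσ
  exact main a MvPowerSeries.X (fun i => (mem_maximalIdeal_iff_constantCoeff k _).2 (ham i)) (maximalIdeal_eq k n).symm σ hσ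

end Groth.Agent.S19998
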