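import Groth.Statements.S2000
import Mathlib.Tactic.LinearCombination
import Mathlib.Tactic.Ring
import Mathlib.Tactic.Abel
import Mathlib.RingTheory.Localization.BaseChange
import Mathlib.LinearAlgebra.TensorProduct.RightExactness
-- import your own Groth.Agent.* helpers here

set_option autoImplicit false
universe u
open TensorProduct
open EtAlg

namespace Groth.Agent.S2000

/-- Beauville–Laszlo, essential surjectivity with glueability: take a glueing pair (R -> R', f). Fix an
R'-module M', an R-module M₁ on which multiplication by f is bijective (i.e. an R_f-module), and α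
an R'-linear isomorphism from the localization of M' at f to R' ⊗_R M₁ (an isomorphism of
R'_f-modules). Then there is an R-module M, glueable for (R -> R', f), with an R'-isomorphism R' ⊗_R
M ≅ M' and an R-isomorphism M_f ≅ M₁ under which α becomes the canonical identification (R' ⊗_R M)_f
= R' ⊗_R M_f. -/
theorem result (R R' : Type u) [CommRing R] [CommRing R'] [Algebra R R'] (f : R)
    (hRR : EtGlue.IsGlueingPair R R' f) (M' : Type u) [AddCommGroup M'] [Module R' M'] (M₁ : Type u) [AddCommGroup M₁]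
    [Module R M₁] (hf : Function.Bijective fun x : M₁ => f • x)
    (α : LocalizedModule (Submonoid.powers (algebraMap R R' f)) M' ≃ₗ[R'] R' ⊗[R] M₁) :
    ∃ (M : Type u) (_ : AddCommGroup M) (_ : Module R M) (_ : EtGlue.IsGlueable R R' f M)
      (e' : R' ⊗[R] M ≃ₗ[R'] M') (e₁ : LocalizedModule (Submonoid.powers f) M ≃ₗ[R] M₁),
      ∀ m : M, α (LocalizedModule.mkLinearMap (Submonoid.powers (algebraMap R R' f)) M' (e' ((1 : R') ⊗ₜ[R] m))) =
        (1 : R') ⊗ₜ[R] e₁ (LocalizedModule.mkLinearMap (Submonoid.powers f) M m) := by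
  obtain ⟨hQ, _, hEx, hSurj⟩ := hRR
  letI : Module R M' := Module.compHom M' (algebraMap R R')
  haveI : IsScalarTower R R' M' := IsScalarTower.of_algebraMap_smul fun _ _ => rfl
  let g : R' := algebraMap R R' f
  let β : M' →ₗ[R'] R' ⊗[R] M₁ :=
    α.toLinearMap ∘ₗ LocalizedModule.mkLinearMap (Submonoid.powers g) M'
  let D : M' × M₁ →ₗ[R] R' ⊗[R] M₁ :=
    (β.restrictScalars R) ∘ₗ LinearMap.fst R M' M₁ - (TensorProduct.mk R R' M₁ 1) ∘ₗ LinearMap.snd R M' M₁
  let M : Submodule R (M' × M₁) := LinearMap.ker D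
  have hmem : ∀ (x : M') (y : M₁), (x, y) ∈ M ↔ β x = (1 : R') ⊗ₜ[R] y := by
    intro x y
    simp [M, D, sub_eq_zero]
  let p : M →ₗ[R] M' := (LinearMap.fst R M' M₁) ∘ₗ M.subtype
  let q : M →ₗ[R] M₁ := (LinearMap.snd R M' M₁) ∘ₗ M.subtype
  have hpq : ∀ m : M, β (p m) = (1 : R') ⊗ₜ[R] q m := fun m => (hmem _ _).1 m.2
  have hsm : ∀ (n : ℕ) (x : M'), f ^ n • x = g ^ n • x := fun n x => by
    rw [← map_pow]; exact (algebraMap_smul R' (f ^ n) x).symm
  have hfn : ∀ n : ℕ, Function.Bijective fun x : M₁ => f ^ n • x := by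
    intro n
    induction n with
    | zero => simp only [pow_zero, one_smul]; exact Function.bijective_id
    | succ n ih =>
      have h := ih.comp hf
      simpa [Function.comp_def, pow_succ, mul_smul] using h
  have hgn : ∀ n : ℕ, Function.Injective fun z : R' ⊗[R] M₁ => f ^ n • z := by
    intro n
    let e : M₁ ≃ₗ[R] M₁ := LinearEquiv.ofBijective (LinearMap.lsmul R M₁ (f ^ n)) (hfn n)
    have h1 : ∀ z : R' ⊗[R] M₁, f ^ n • z = LinearEquiv.lTensor R' e z := by
      intro z
      induction z using TensorProduct.induction_on with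
      | zero => simp
      | tmul a b => rw [LinearEquiv.lTensor_tmul, ← TensorProduct.tmul_smul]; rfl
      | add a b ha hb => simp [smul_add, ha, hb]
    intro a b hab
    apply (LinearEquiv.lTensor R' e).injective
    simpa only [← h1] using hab
  have hβsurj : ∀ z : R' ⊗[R] M₁, ∃ (n : ℕ) (x : M'), β x = f ^ n • z := by
    intro z
    obtain ⟨⟨x, s⟩, hx⟩ := IsLocalizedModule.surj (Submonoid.powers g)
      (LocalizedModule.mkLinearMap (Submonoid.powers g) M') (α.symm z)
    obtain ⟨n, hn⟩ := s.2
    refine ⟨n, x, ?_⟩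
    have h2 : β x = (s : R') • z := by
      have h3 := congrArg α hx
      simp only [Submonoid.smul_def, map_smul, LinearEquiv.apply_symm_apply] at h3
      exact h3.symm
    have h4 : (s : R') = algebraMap R R' (f ^ n) := by rw [map_pow]; exact hn.symm
    rw [h2, h4, algebraMap_smul]
  have hβker : ∀ x : M', β x = 0 → ∃ n : ℕ, f ^ n • x = 0 := by
    intro x hx
    have h1 : LocalizedModule.mkLinearMap (Submonoid.powers g) M' x = 0 := by
      apply α.injective
      simpa [β] using hx
    obtain ⟨c, hc⟩ := (IsLocalizedModule.eq_zero_iff (Submonoid.powers g)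
      (LocalizedModule.mkLinearMap (Submonoid.powers g) M')).1 h1
    obtain ⟨n, hn⟩ := c.2
    refine ⟨n, ?_⟩
    rw [hsm]
    have hn' : g ^ n = (c : R') := hn
    rw [hn']
    exact hc
  haveI hq : IsLocalizedModule (Submonoid.powers f) q := by
    constructor
    · intro s
      obtain ⟨n, hn⟩ := s.2
      have hn' : f ^ n = (s : R) := hn
      rw [Module.End.isUnit_iff]
      change Function.Bijective fun x : M₁ => (s : R) • x
      rw [← hn']
      exact hfn n
    · intro y
      obtain ⟨n, x, hx⟩ := hβsurj ((1 : R') ⊗ₜ[R] y)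
      have : (x, f ^ n • y) ∈ M := (hmem _ _).2 (by rw [hx, TensorProduct.tmul_smul])
      exact ⟨⟨⟨_, this⟩, ⟨f ^ n, n, rfl⟩⟩, rfl⟩
    · intro a b hab
      have hd : β (p a - p b) = 0 := by
        rw [map_sub, hpq, hpq, hab, sub_self]
      obtain ⟨n, hn⟩ := hβker _ hd
      refine ⟨⟨f ^ n, n, rfl⟩, ?_⟩
      rw [Submonoid.smul_def, Submonoid.smul_def]
      apply Subtype.ext
      refine Prod.ext ?_ ?_
      · rw [smul_sub, sub_eq_zero] at hn
        exact hn
      · exact congrArg (fun y => f ^ n • y) hab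
  let P : R' ⊗[R] M →ₗ[R'] M' := TensorProduct.AlgebraTensorModule.lift
    ((LinearMap.lsmul R' (M →ₗ[R] M')).flip p)
  have hP : ∀ (r : R') (m : M), P (r ⊗ₜ[R] m) = r • p m := fun r m => rfl
  have hP1 : ∀ m : M, P ((1 : R') ⊗ₜ[R] m) = p m := fun m => by rw [hP, one_smul]
  have hβP : ∀ ξ, β (P ξ) = LinearMap.lTensor R' q ξ := by
    intro ξ
    induction ξ using TensorProduct.induction_on with
    | zero => simp
    | tmul a b => rw [hP, map_smul, hpq, TensorProduct.smul_tmul']; simp
    | add a b ha hb => simp [ha, hb]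
  have key : ∀ z : R' ⊗[R] M₁, ∃ (y : M₁) (ξ : R' ⊗[R] M), z = (1 : R') ⊗ₜ[R] y + β (P ξ) := by
    intro z
    induction z using TensorProduct.induction_on with
    | zero => exact ⟨0, 0, by simp⟩
    | add a b ha hb =>
      obtain ⟨y, ξ, rfl⟩ := ha
      obtain ⟨y', ξ', rfl⟩ := hb
      refine ⟨y + y', ξ + ξ', ?_⟩
      simp only [TensorProduct.tmul_add, map_add]
      abel
    | tmul r m =>
      obtain ⟨n, x, hx⟩ := hβsurj ((1 : R') ⊗ₜ[R] m)
      obtain ⟨c, hc⟩ := (hQ (n + 1) (Nat.succ_pos n)).2 (Ideal.Quotient.mk _ r)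
      obtain ⟨r₀, rfl⟩ := Ideal.Quotient.mk_surjective c
      rw [Ideal.quotientMap_mk] at hc
      have hd := Ideal.Quotient.eq.1 hc
      rw [Ideal.map_span, Set.image_singleton, Ideal.mem_span_singleton'] at hd
      obtain ⟨s, hs⟩ := hd
      have hxM : (x, f ^ n • m) ∈ M := (hmem _ _).2 (by rw [hx, TensorProduct.tmul_smul])
      refine ⟨r₀ • m, -(f • (s ⊗ₜ[R] (⟨_, hxM⟩ : M))), ?_⟩
      have hr : r = algebraMap R R' r₀ - algebraMap R R' (f ^ (n + 1)) * s := by
        linear_combination (norm := ring_nf) hs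
      rw [map_neg, map_neg, hβP, map_smul]
      simp only [LinearMap.lTensor_tmul]
      show r ⊗ₜ[R] m = _ + -(f • (s ⊗ₜ[R] (f ^ n • m)))
      rw [hr, TensorProduct.sub_tmul, TensorProduct.tmul_smul, TensorProduct.tmul_smul, smul_smul, ← pow_succ',
        ← sub_eq_add_neg, ← Algebra.smul_def, ← TensorProduct.smul_tmul', Algebra.algebraMap_eq_smul_one,
        ← TensorProduct.smul_tmul']
  have Psurj : Function.Surjective P := by
    intro x
    obtain ⟨y, ξ, h⟩ := key (β x)
    have hm : (x - P ξ, y) ∈ M := (hmem _ _).2 (by rw [map_sub, h, add_sub_cancel_right])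
    refine ⟨(1 : R') ⊗ₜ[R] (⟨_, hm⟩ : M) + ξ, ?_⟩
    rw [map_add, hP1]
    exact sub_add_cancel x (P ξ)
  have Pinj : Function.Injective P := by
    rw [injective_iff_map_eq_zero]
    intro ξ hξ
    -- `ξ` is killed by a power of `f`
    let A := Localization.Away f
    let A' := Localization.Away (algebraMap R R' f)
    let e := IsLocalizedModule.linearEquiv (Submonoid.powers f) q (TensorProduct.mk R A M 1)
    have he : ∀ m, e (q m) = (1 : A) ⊗ₜ[R] m := fun m =>
      IsLocalizedModule.linearEquiv_apply (Submonoid.powers f) q (TensorProduct.mk R A M 1) m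
    have hζ : ∀ ζ : R' ⊗[R] M, TensorProduct.leftComm R R' A M
        (LinearEquiv.lTensor R' e (LinearMap.lTensor R' q ζ)) = (1 : A) ⊗ₜ[R] ζ := by
      intro ζ
      induction ζ using TensorProduct.induction_on with
      | zero => simp
      | tmul a b => simp [he]
      | add a b ha hb => simp [ha, hb, TensorProduct.tmul_add]
    have h1 : (TensorProduct.mk R A (R' ⊗[R] M) 1) ξ = 0 := by
      rw [TensorProduct.mk_apply, ← hζ ξ, ← hβP, hξ]
      simp
    obtain ⟨⟨_, n, rfl⟩, hn⟩ := (IsLocalizedModule.eq_zero_iff (Submonoid.powers f)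
      (TensorProduct.mk R A (R' ⊗[R] M) 1)).1 h1
    -- tensor the glueing sequence with `M`
    let ι : R →ₗ[R] R' × A := (Algebra.linearMap R R').prod (Algebra.linearMap R A)
    have haw : ∀ r : R, Localization.awayMap (algebraMap R R') f (algebraMap R A r) = algebraMap R' A' (algebraMap R R' r) :=
      fun r => IsLocalization.map_eq _ r
    let w : A →ₗ[R] A' :=
      { toFun := Localization.awayMap (algebraMap R R') f
        map_add' := map_add _
        map_smul' := fun r a => by
          simp only [RingHom.id_apply, Algebra.smul_def, map_mul, haw, IsScalarTower.algebraMap_apply R R' A'] }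
    let u : R' →ₗ[R] A' := (IsScalarTower.toAlgHom R R' A').toLinearMap
    let d : R' × A →ₗ[R] A' := u ∘ₗ LinearMap.fst R R' A - w ∘ₗ LinearMap.snd R R' A
    have hdd : ∀ x y, d (x, y) = algebraMap R' A' x - Localization.awayMap (algebraMap R R') f y := fun x y => rfl
    have hexact : Function.Exact ι d := by
      rintro ⟨x, y⟩
      constructor
      · intro h
        rw [hdd, sub_eq_zero] at h
        obtain ⟨r, hr1, hr2⟩ := hEx x y h
        exact ⟨r, Prod.ext hr1 hr2⟩
      · rintro ⟨r, hr⟩
        rw [← hr]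
        show d (algebraMap R R' r, algebraMap R A r) = 0
        rw [hdd, haw, sub_self]
    have hdsurj : Function.Surjective d := fun z => by
      obtain ⟨x, y, h⟩ := hSurj z
      exact ⟨(x, y), h⟩
    have hd0 : LinearMap.rTensor M d (LinearMap.rTensor M (LinearMap.inl R R' A) ξ) = 0 := by
      have hu : IsUnit (algebraMap R A' (f ^ n)) := by
        rw [map_pow, IsScalarTower.algebraMap_apply R R' A']
        exact (IsLocalization.Away.algebraMap_isUnit (S := A') (algebraMap R R' f)).pow n
      refine hu.smul_eq_zero.1 ?_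
      rw [algebraMap_smul, ← map_smul, ← map_smul]
      have hn' : f ^ n • ξ = 0 := hn
      rw [hn', map_zero, map_zero]
    obtain ⟨v, hv⟩ := (rTensor_exact M hexact hdsurj _).1 hd0
    obtain ⟨m, rfl⟩ : ∃ m : M, v = (1 : R) ⊗ₜ[R] m :=
      ⟨TensorProduct.lid R M v, by rw [← TensorProduct.lid_symm_apply, LinearEquiv.symm_apply_apply]⟩
    rw [LinearMap.rTensor_tmul] at hv
    have hv1 := congrArg (LinearMap.rTensor M (LinearMap.fst R R' A)) hv
    have hv2 := congrArg (LinearMap.rTensor M (LinearMap.snd R R' A)) hv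
    rw [← LinearMap.comp_apply, ← LinearMap.rTensor_comp] at hv1 hv2
    simp only [ι, LinearMap.rTensor_tmul, LinearMap.prod_apply, Function.prod_apply, Algebra.linearMap_apply,
      map_one, LinearMap.fst_apply, LinearMap.snd_apply] at hv1 hv2
    simp only [LinearMap.fst_comp_inl, LinearMap.snd_comp_inl, LinearMap.rTensor_id, LinearMap.id_coe, id_eq,
      LinearMap.rTensor_zero, LinearMap.zero_apply] at hv1 hv2
    have hp0 : p m = 0 := by rw [← hP1, hv1, hξ]
    have hq0 : q m = 0 := by
      apply e.injective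
      rw [he, map_zero]
      exact hv2
    have hm0 : m = 0 := Subtype.ext (Prod.ext hp0 hq0)
    rw [← hv1, hm0, TensorProduct.tmul_zero]
  let e₁ := IsLocalizedModule.iso (Submonoid.powers f) q
  have he₁ : ∀ m, e₁ (LocalizedModule.mkLinearMap (Submonoid.powers f) M m) = q m := fun m =>
    IsLocalizedModule.iso_mk_one (Submonoid.powers f) q m
  refine ⟨M, inferInstance, inferInstance, ⟨?_, ?_⟩, LinearEquiv.ofBijective P ⟨Pinj, Psurj⟩, e₁, ?_⟩
  · intro a b hab
    simp only [Prod.mk.injEq] at hab
    refine Subtype.ext (Prod.ext ?_ ?_)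
    · have := congrArg P hab.1
      rw [hP1, hP1] at this
      exact this
    · have := congrArg e₁ hab.2
      rw [he₁, he₁] at this
      exact this
  · intro x y hxy
    obtain ⟨⟨m, ⟨_, n, rfl⟩⟩, hm⟩ := IsLocalizedModule.surj (Submonoid.powers f)
      (LocalizedModule.mkLinearMap (Submonoid.powers f) M) y
    have hm' : f ^ n • y = LocalizedModule.mkLinearMap (Submonoid.powers f) M m := hm
    have h1 : EtGlue.locOfTensor R R' f M (f ^ n • x) = EtGlue.locOfTensor R R' f M ((1 : R') ⊗ₜ[R] m) := by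
      rw [map_smul, hxy, ← map_smul, hm']
      exact IsLocalizedModule.map_apply (Submonoid.powers f) _ _ _ m
    obtain ⟨⟨_, k, rfl⟩, hk⟩ := IsLocalizedModule.exists_of_eq (S := Submonoid.powers f) h1
    have hk' : f ^ k • f ^ n • x = f ^ k • ((1 : R') ⊗ₜ[R] m) := hk
    have h2 := congrArg (fun ζ => β (P ζ)) hk'
    simp only [hβP, map_smul, LinearMap.lTensor_tmul] at h2
    have h3 : q m = f ^ n • e₁ y := by rw [← he₁, ← hm', map_smul]
    rw [h3, TensorProduct.tmul_smul, ← hβP] at h2
    have h4 : β (P x) = (1 : R') ⊗ₜ[R] e₁ y := hgn n (hgn k h2)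
    refine ⟨⟨(P x, e₁ y), (hmem _ _).2 h4⟩, ?_, ?_⟩
    · apply Pinj
      rw [hP1]
      rfl
    · apply e₁.injective
      rw [he₁]
      rfl
  · intro m
    rw [he₁, ← hpq m]
    show β (P _) = _
    rw [hP1]

end Groth.Agent.S2000
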