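import Groth.Statements.S20000
import Groth.Agent.GaPoints.Basic
import Groth.Agent.SpreadOut.Basic

set_option backward.isDefEq.respectTransparency false
set_option maxHeartbeats 1000000

set_option autoImplicit false
universe u
open Neron

namespace Groth.Agent.S20000

open CategoryTheory CategoryTheory.Limits AlgebraicGeometry Opposite
open CategoryTheory.MonoidalCategory CategoryTheory.CartesianMonoidalCategory MonObj
open scoped TensorProduct

/-- An additive cocycle on a field extension is a coboundary. -/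
theorem exists_coboundary {K L : Type u} [Field K] [Field L] [Algebra K L] (c : L ⊗[K] L)
    (hc : Algebra.TensorProduct.map (AlgHom.id K L) Algebra.TensorProduct.includeRight c =
      Algebra.TensorProduct.map (AlgHom.id K L) Algebra.TensorProduct.includeLeft c +
        (Algebra.TensorProduct.includeRight (R := K) (A := L) (B := L ⊗[K] L)) c) :
    ∃ l : L, c = l ⊗ₜ[K] 1 - 1 ⊗ₜ[K] l := by
  obtain ⟨s, hs⟩ := (Algebra.linearMap K L).exists_leftInverse_of_injective
    (LinearMap.ker_eq_bot.2 (algebraMap K L).injective)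
  have hs1 : s 1 = 1 := by simpa using LinearMap.congr_fun hs 1
  let Φ : L ⊗[K] (L ⊗[K] L) →ₗ[K] L ⊗[K] L :=
    (TensorProduct.lid K (L ⊗[K] L)).toLinearMap ∘ₗ LinearMap.rTensor (L ⊗[K] L) s
  let m : L ⊗[K] L →ₗ[K] L := (TensorProduct.lid K L).toLinearMap ∘ₗ LinearMap.rTensor L s
  have h1 : ∀ z, Φ (Algebra.TensorProduct.map (AlgHom.id K L) Algebra.TensorProduct.includeRight z) = 1 ⊗ₜ[K] m z := fun z => by
    induction z using TensorProduct.induction_on with
    | zero => simp
    | tmul x y => simp [Φ, m, TensorProduct.tmul_smul]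
    | add x y hx hy => simp only [map_add, hx, hy, TensorProduct.tmul_add]
  have h2 : ∀ z, Φ (Algebra.TensorProduct.map (AlgHom.id K L) Algebra.TensorProduct.includeLeft z) = m z ⊗ₜ[K] 1 := fun z => by
    induction z using TensorProduct.induction_on with
    | zero => simp
    | tmul x y => simp [Φ, m, TensorProduct.smul_tmul']
    | add x y hx hy => simp only [map_add, hx, hy, TensorProduct.add_tmul]
  have h3 : Φ ((Algebra.TensorProduct.includeRight (R := K) (A := L) (B := L ⊗[K] L)) c) = c := by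
    simp [Φ, hs1]
  have h := congrArg Φ hc
  rw [map_add, h1, h2, h3] at h
  refine ⟨-m c, ?_⟩
  rw [TensorProduct.neg_tmul, TensorProduct.tmul_neg, sub_neg_eq_add, h]
  abel

section Lift

variable {κ : Type u} [Field κ] {G G'' : Over (Spec (CommRingCat.of κ))} [GrpObj G] [IsCommMonObj G] [GrpObj G'']
  {q : G ⟶ G''} [IsMonHom q] {i : Red.Ga (Spec (CommRingCat.of κ)) ⟶ G} [IsMonHom i]

/-- Points killed by the projection come from the kernel. -/
theorem exists_of_ker (hker : AlgGrp.IsKernel i q) {T : Over (Spec (CommRingCat.of κ))} (x : T ⟶ G) (hx : x ≫ q = 1) :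
    ∃ c : T ⟶ Red.Ga (Spec (CommRingCat.of κ)), c ≫ i = x := by
  have e : toUnit T ≫ η[G''] = (1 : T ⟶ G'') := Hom.one_def.symm
  exact ⟨hker.lift x (toUnit T) (hx.trans e.symm), hker.lift_fst _ _ _⟩

/-- Over a field a point of the quotient lifts. -/
theorem exists_point (hker : AlgGrp.IsKernel i q) (hq : Function.Surjective q.left.base) {K : Type u} [Field K]
    (sK : Spec (CommRingCat.of K) ⟶ Spec (CommRingCat.of κ)) (p : Over.mk sK ⟶ G'') :
    ∃ a : Over.mk sK ⟶ G, a ≫ q = p := by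
  have hmono : Mono i := by
    haveI : Mono η[G''] := mono_of_mono_fac (h := 𝟙 _) (show η[G''] ≫ toUnit G'' = 𝟙 _ from toUnit_unique _ _)
    exact ⟨fun a b h => hker.hom_ext h (toUnit_unique _ _)⟩
  let x₀ : Spec (CommRingCat.of K) := (inferInstance : Nonempty (PrimeSpectrum K)).some
  obtain ⟨g, hg⟩ := hq (p.left x₀)
  obtain ⟨z, -, -⟩ := Scheme.Pullback.exists_preimage_pullback (f := q.left) (g := p.left) g x₀ hg
  let Lc := (pullback q.left p.left).residueField z
  let zz : Spec Lc ⟶ pullback q.left p.left := (pullback q.left p.left).fromSpecResidueField z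
  obtain ⟨ιc, hιc⟩ := Spec.map_surjective (zz ≫ pullback.snd q.left p.left)
  letI : Algebra K Lc := ιc.hom.toAlgebra
  let e : Spec (CommRingCat.of Lc) ⟶ Spec (CommRingCat.of K) := Spec.map (CommRingCat.ofHom (algebraMap K Lc))
  have he : e = zz ≫ pullback.snd q.left p.left := hιc
  let TL : Over (Spec (CommRingCat.of κ)) := Over.mk (e ≫ sK)
  let eo : TL ⟶ Over.mk sK := Over.homMk e rfl
  let a₀ : TL ⟶ G := Over.homMk (zz ≫ pullback.fst q.left p.left) (by
    show (zz ≫ pullback.fst q.left p.left) ≫ G.hom = e ≫ sK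
    rw [← Over.w q, Category.assoc, pullback.condition_assoc, Over.w p, he, Category.assoc]
    rfl)
  have ha₀ : a₀ ≫ q = eo ≫ p := by
    ext
    show (zz ≫ pullback.fst q.left p.left) ≫ q.left = e ≫ p.left
    rw [Category.assoc, pullback.condition, he, Category.assoc]
  -- points of the double and triple products
  let L := (Lc : Type u)
  let T2 : Over (Spec (CommRingCat.of κ)) :=
    Over.mk (Spec.map (CommRingCat.ofHom (algebraMap K (L ⊗[K] L))) ≫ sK)
  let T3 : Over (Spec (CommRingCat.of κ)) :=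
    Over.mk (Spec.map (CommRingCat.ofHom (algebraMap K (L ⊗[K] (L ⊗[K] L)))) ≫ sK)
  have hover : ∀ {A B : Type u} [CommRing A] [CommRing B] [Algebra K A] [Algebra K B] (φ : A →ₐ[K] B),
      Spec.map (CommRingCat.ofHom φ.toRingHom) ≫ Spec.map (CommRingCat.ofHom (algebraMap K A)) ≫ sK =
        Spec.map (CommRingCat.ofHom (algebraMap K B)) ≫ sK := fun φ => by
    rw [← Spec.map_comp_assoc, ← CommRingCat.ofHom_comp]
    exact congrArg (fun r => Spec.map (CommRingCat.ofHom r) ≫ sK) φ.comp_algebraMap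
  let φ1 : L →ₐ[K] L ⊗[K] L := Algebra.TensorProduct.includeLeft
  let φ2 : L →ₐ[K] L ⊗[K] L := Algebra.TensorProduct.includeRight
  let ψ12 : L ⊗[K] L →ₐ[K] L ⊗[K] (L ⊗[K] L) := Algebra.TensorProduct.map (AlgHom.id K L) φ1
  let ψ13 : L ⊗[K] L →ₐ[K] L ⊗[K] (L ⊗[K] L) := Algebra.TensorProduct.map (AlgHom.id K L) φ2
  let ψ23 : L ⊗[K] L →ₐ[K] L ⊗[K] (L ⊗[K] L) := Algebra.TensorProduct.includeRight
  let u1 : T2 ⟶ TL := Over.homMk (Spec.map (CommRingCat.ofHom φ1.toRingHom)) (hover φ1)
  let u2 : T2 ⟶ TL := Over.homMk (Spec.map (CommRingCat.ofHom φ2.toRingHom)) (hover φ2)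
  let v12 : T3 ⟶ T2 := Over.homMk (Spec.map (CommRingCat.ofHom ψ12.toRingHom)) (hover ψ12)
  let v13 : T3 ⟶ T2 := Over.homMk (Spec.map (CommRingCat.ofHom ψ13.toRingHom)) (hover ψ13)
  let v23 : T3 ⟶ T2 := Over.homMk (Spec.map (CommRingCat.ofHom ψ23.toRingHom)) (hover ψ23)
  have hu : u1 ≫ eo = u2 ≫ eo := by
    ext
    show Spec.map (CommRingCat.ofHom φ1.toRingHom) ≫ e = Spec.map (CommRingCat.ofHom φ2.toRingHom) ≫ e
    rw [← Spec.map_comp, ← Spec.map_comp, ← CommRingCat.ofHom_comp, ← CommRingCat.ofHom_comp]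
    exact congrArg (fun r => Spec.map (CommRingCat.ofHom r)) (φ1.comp_algebraMap.trans φ2.comp_algebraMap.symm)
  have hv : ∀ (ψ ψ' : L ⊗[K] L →ₐ[K] L ⊗[K] (L ⊗[K] L)) (χ χ' : L →ₐ[K] L ⊗[K] L), ψ.comp χ = ψ'.comp χ' →
      Spec.map (CommRingCat.ofHom ψ.toRingHom) ≫ Spec.map (CommRingCat.ofHom χ.toRingHom) =
        Spec.map (CommRingCat.ofHom ψ'.toRingHom) ≫ Spec.map (CommRingCat.ofHom χ'.toRingHom) := fun ψ ψ' χ χ' h => by
    rw [← Spec.map_comp, ← Spec.map_comp, ← CommRingCat.ofHom_comp, ← CommRingCat.ofHom_comp]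
    exact congrArg (fun r : L →ₐ[K] L ⊗[K] (L ⊗[K] L) => Spec.map (CommRingCat.ofHom r.toRingHom)) h
  have e1 : v13 ≫ u1 = v12 ≫ u1 := Over.OverMorphism.ext (hv ψ13 ψ12 φ1 φ1 (AlgHom.ext fun x => by
    simp [ψ13, ψ12, φ1, φ2, Algebra.TensorProduct.one_def]))
  have e2 : v23 ≫ u1 = v12 ≫ u2 := Over.OverMorphism.ext (hv ψ23 ψ12 φ1 φ2 (AlgHom.ext fun x => by
    simp [ψ23, ψ12, φ1, φ2]))
  have e3 : v23 ≫ u2 = v13 ≫ u2 := Over.OverMorphism.ext (hv ψ23 ψ13 φ2 φ2 (AlgHom.ext fun x => by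
    simp [ψ23, ψ13, φ2]))
  obtain ⟨c, hc⟩ := exists_of_ker hker ((u1 ≫ a₀) * (u2 ≫ a₀)⁻¹) (by
    rw [MonObj.mul_comp, GrpObj.inv_comp, Category.assoc, Category.assoc, ha₀, ← Category.assoc u1,
      ← Category.assoc u2, hu, mul_inv_cancel])
  have hcoc : v13 ≫ c = (v12 ≫ c) * (v23 ≫ c) := by
    rw [← cancel_mono i, MonObj.mul_comp, Category.assoc, Category.assoc, Category.assoc, hc]
    simp only [MonObj.comp_mul, GrpObj.comp_inv, ← Category.assoc]
    rw [e1, e2, e3]
    group
  let fn : Γ(T2.left, ⊤) ≅ CommRingCat.of (L ⊗[K] L) := Scheme.ΓSpecIso _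
  let cc : L ⊗[K] L := fn.hom (Red.gaFn c)
  have hfn : ∀ (v : T3 ⟶ T2) (ψ : L ⊗[K] L →ₐ[K] L ⊗[K] (L ⊗[K] L)), v.left = Spec.map (CommRingCat.ofHom ψ.toRingHom) →
      (Scheme.ΓSpecIso (CommRingCat.of (L ⊗[K] (L ⊗[K] L)))).hom (Red.gaFn (v ≫ c)) = ψ cc := fun v ψ hv => by
    rw [GaPoints.gaFn_comp]
    show (v.left.appTop ≫ (Scheme.ΓSpecIso _).hom) (Red.gaFn c) = (fn.hom ≫ CommRingCat.ofHom ψ.toRingHom) (Red.gaFn c)
    rw [hv]
    exact ConcreteCategory.congr_hom (Scheme.ΓSpecIso_naturality _) _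
  obtain ⟨l, hl⟩ := exists_coboundary (K := K) cc (by
    have h := congrArg (fun z => (Scheme.ΓSpecIso (CommRingCat.of (L ⊗[K] (L ⊗[K] L)))).hom (Red.gaFn z)) hcoc
    simp only [GaPoints.gaFn_mul, map_add] at h
    erw [hfn v13 ψ13 rfl, hfn v12 ψ12 rfl, hfn v23 ψ23 rfl] at h
    exact h)
  obtain ⟨t, ht⟩ := GaPoints.gaFn_surjective (X := TL) ((Scheme.ΓSpecIso (CommRingCat.of L)).inv l)
  have hu_fn : ∀ (u : T2 ⟶ TL) (χ : L →ₐ[K] L ⊗[K] L), u.left = Spec.map (CommRingCat.ofHom χ.toRingHom) →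
      fn.hom (Red.gaFn (u ≫ t)) = χ l := fun u χ hu' => by
    rw [GaPoints.gaFn_comp, ht]
    show ((Scheme.ΓSpecIso (CommRingCat.of L)).inv ≫ u.left.appTop ≫ fn.hom) l = (CommRingCat.ofHom χ.toRingHom) l
    rw [hu']
    refine ConcreteCategory.congr_hom ?_ l
    show _ ≫ Scheme.Hom.appTop _ ≫ (Scheme.ΓSpecIso _).hom = _
    rw [Scheme.ΓSpecIso_naturality, Iso.inv_hom_id_assoc]
  have hct : c * (u2 ≫ t) = u1 ≫ t := by
    refine GaPoints.gaFn_injective ((ConcreteCategory.bijective_of_isIso fn.hom).1 ?_)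
    rw [GaPoints.gaFn_mul]
    erw [map_add, hu_fn u1 φ1 rfl, hu_fn u2 φ2 rfl]
    show cc + φ2 l = φ1 l
    rw [hl]
    simp [φ1, φ2]
  let a₁ : TL ⟶ G := a₀ * (t ≫ i)⁻¹
  have ha₁ : u1 ≫ a₁ = u2 ≫ a₁ := by
    have h := congrArg (fun z => z ≫ i) hct
    simp only [MonObj.mul_comp, hc, Category.assoc] at h
    simp only [a₁, MonObj.comp_mul, GrpObj.comp_inv]
    simp only [← Category.assoc] at h ⊢
    generalize u1 ≫ a₀ = x₁, u2 ≫ a₀ = x₂, (u1 ≫ t) ≫ i = y₁, (u2 ≫ t) ≫ i = y₂ at h ⊢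
    rw [← h, mul_comm x₁ _, mul_comm x₂ _]
    group
  have ha₁q : a₁ ≫ q = eo ≫ p := by
    have hi1 : i ≫ q = 1 := hker.w.trans Hom.one_def.symm
    rw [MonObj.mul_comp, GrpObj.inv_comp, Category.assoc, ha₀, hi1]
    simp
  -- descent
  haveI : Flat e := by
    rw [HasRingHomProperty.Spec_iff (P := @Flat)]
    haveI : Module.Free K Lc := Module.Free.of_divisionRing K Lc
    exact RingHom.flat_algebraMap_iff.2 Module.Flat.of_free
  haveI : Surjective e := ⟨fun y => ⟨(inferInstance : Nonempty (PrimeSpectrum L)).some,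
    Subsingleton.elim (α := PrimeSpectrum K) _ _⟩⟩
  haveI := isRegularEpi_of_flat_of_surjective_of_isAffine e
  have hcond : ∀ {Z : Scheme.{u}} (g₁ g₂ : Z ⟶ Spec (CommRingCat.of L)), g₁ ≫ e = g₂ ≫ e →
      g₁ ≫ a₁.left = g₂ ≫ a₁.left := fun {Z} g₁ g₂ h => by
    let w : Z ⟶ Spec (CommRingCat.of (L ⊗[K] L)) :=
      pullback.lift (f := e) (g := e) g₁ g₂ h ≫ (pullbackSpecIso K L L).hom
    have w1 : w ≫ u1.left = g₁ := by
      show (pullback.lift (f := e) (g := e) g₁ g₂ h ≫ (pullbackSpecIso K L L).hom) ≫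
        Spec.map (CommRingCat.ofHom (Algebra.TensorProduct.includeLeftRingHom)) = g₁
      rw [Category.assoc, pullbackSpecIso_hom_fst]
      exact pullback.lift_fst _ _ _
    have w2 : w ≫ u2.left = g₂ := by
      show (pullback.lift (f := e) (g := e) g₁ g₂ h ≫ (pullbackSpecIso K L L).hom) ≫
        Spec.map (CommRingCat.ofHom (Algebra.TensorProduct.includeRight (R := K) (A := L) (B := L)).toRingHom) = g₂
      rw [Category.assoc]
      erw [pullbackSpecIso_hom_snd]
      exact pullback.lift_snd _ _ _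
    rw [← w1, ← w2, Category.assoc, Category.assoc]
    exact congrArg (w ≫ ·) (congrArg CommaMorphism.left ha₁)
  let b : Spec (CommRingCat.of K) ⟶ G.left := EffectiveEpi.desc e a₁.left hcond
  have hb : e ≫ b = a₁.left := EffectiveEpi.fac e a₁.left hcond
  refine ⟨Over.homMk b ?_, ?_⟩
  · rw [← cancel_epi e, ← Category.assoc, hb]
    exact Over.w a₁
  · ext
    show b ≫ q.left = p.left
    rw [← cancel_epi e, ← Category.assoc, hb]
    exact congrArg CommaMorphism.left ha₁q

end Lift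


open CategoryTheory AlgebraicGeometry in
/-- Let `κ` be an arbitrary field and `G`, `G''` smooth connected commutative group schemes of finite
type over `κ`. Let `q : G → G''` be a homomorphism which is flat and surjective, and `i : 𝔾_a → G` a
homomorphism exhibiting the additive group as the kernel of `q` (so `0 → 𝔾_a → G → G'' → 0` is exact
in the fppf topology). If `G''` is unirational, i.e. admits a dominant `κ`-morphism from a nonempty
open subscheme of an affine space over `κ`, then so does `G`. (The published statement allows the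
kernel to be any repeated extension of copies of `𝔾_a`; this row is the case of a single copy, from
which the general case follows by induction on the length.) -/
theorem result
    (κ : Type u) [Field κ]
    (G G'' : Over (Spec (CommRingCat.of κ))) [GrpObj G] [IsCommMonObj G] [GrpObj G''] [IsCommMonObj G'']
    [Smooth G.hom] [LocallyOfFiniteType G.hom] [QuasiCompact G.hom] [ConnectedSpace G.left]
    [Smooth G''.hom] [LocallyOfFiniteType G''.hom] [QuasiCompact G''.hom] [ConnectedSpace G''.left]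
    (q : G ⟶ G'') [IsMonHom q] [Flat q.left] (hq : Function.Surjective q.left.base)
    (i : Red.Ga (Spec (CommRingCat.of κ)) ⟶ G) [IsMonHom i] (hker : AlgGrp.IsKernel i q)
    (huni : ∃ (n : ℕ) (V : (AffineSpace (ULift.{u} (Fin n)) (Spec (CommRingCat.of κ))).Opens)
        (ψ : (V : Scheme.{u}) ⟶ G''.left),
      (V : Set (AffineSpace (ULift.{u} (Fin n)) (Spec (CommRingCat.of κ)))).Nonempty ∧ DenseRange ψ.base ∧
      ψ ≫ G''.hom = V.ι ≫ (AffineSpace (ULift.{u} (Fin n)) (Spec (CommRingCat.of κ)) ↘ Spec (CommRingCat.of κ))) :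
    ∃ (n : ℕ) (V : (AffineSpace (ULift.{u} (Fin n)) (Spec (CommRingCat.of κ))).Opens)
        (ψ : (V : Scheme.{u}) ⟶ G.left),
      (V : Set (AffineSpace (ULift.{u} (Fin n)) (Spec (CommRingCat.of κ)))).Nonempty ∧ DenseRange ψ.base ∧
      ψ ≫ G.hom = V.ι ≫ (AffineSpace (ULift.{u} (Fin n)) (Spec (CommRingCat.of κ)) ↘ Spec (CommRingCat.of κ)) := by
  obtain ⟨n, V, ψ, hV, hdense, hψ⟩ := huni
  let S := Spec (CommRingCat.of κ)
  let An := AffineSpace (ULift.{u} (Fin n)) S
  let An1 := AffineSpace (ULift.{u} (Fin (n + 1))) S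
  haveI : IsIntegral An := by
    haveI : IsIntegral (Spec (CommRingCat.of (MvPolynomial (ULift.{u} (Fin n)) κ))) := inferInstance
    exact IsIntegral.of_isIso (AffineSpace.SpecIso (ULift.{u} (Fin n)) (CommRingCat.of κ)).inv
  have hηV : genericPoint An ∈ V :=
    ((genericPoint_spec An).mem_open_set_iff V.2).2 (by simpa using hV)
  let K := An.presheaf.stalk (genericPoint An)
  letI : Field K := inferInstanceAs (Field An.functionField)
  let ηA : Spec (CommRingCat.of K) ⟶ An := An.fromSpecStalk (genericPoint An)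
  let sK : Spec (CommRingCat.of K) ⟶ S := ηA ≫ (An ↘ S)
  let p : Over.mk sK ⟶ G'' := Over.homMk (V.fromSpecStalkOfMem _ hηV ≫ ψ) (by
    show (V.fromSpecStalkOfMem _ hηV ≫ ψ) ≫ G''.hom = sK
    rw [Category.assoc, hψ, Scheme.Opens.fromSpecStalkOfMem_ι_assoc])
  obtain ⟨a, ha⟩ := exists_point hker hq sK p
  haveI : LocallyOfFinitePresentation G.hom := inferInstance
  obtain ⟨V', hηV', g, hg, hgS⟩ := SpreadOut.spread_out' (An ↘ S) G.hom a.left (Over.w a)
  let cs : ULift.{u} (Fin n) → ULift.{u} (Fin (n + 1)) := fun j => ULift.up j.down.castSucc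
  let π : An1 ⟶ An := AffineSpace.reindex cs S
  have hπ : π ≫ (An ↘ S) = An1 ↘ S := AffineSpace.reindex_over cs S
  let W : An1.Opens := π ⁻¹ᵁ V'
  let TW : Over S := Over.mk (W.ι ≫ (An1 ↘ S))
  let gW : TW ⟶ G := Over.homMk ((π ∣_ V') ≫ g) (by
    show ((π ∣_ V') ≫ g) ≫ G.hom = W.ι ≫ (An1 ↘ S)
    rw [Category.assoc, hgS, morphismRestrict_ι_assoc, hπ])
  obtain ⟨t, ht⟩ := GaPoints.gaFn_surjective (X := TW)
    (W.ι.appTop (AffineSpace.coord S (ULift.up (Fin.last n))))
  let φ : TW ⟶ G := gW * (t ≫ i)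
  -- every point over the generic point is reached
  have key : ∀ z : G.left, q.left z = p.left (IsLocalRing.closedPoint K) → z ∈ Set.range φ.left := fun z hz => by
    obtain ⟨y, hy1, hy2⟩ := Scheme.Pullback.exists_preimage_pullback (f := q.left) (g := p.left) z _ hz
    let Ω := (pullback q.left p.left).residueField y
    let yy : Spec Ω ⟶ pullback q.left p.left := (pullback q.left p.left).fromSpecResidueField y
    let r : Spec Ω ⟶ Spec (CommRingCat.of K) := yy ≫ pullback.snd q.left p.left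
    let TΩ : Over S := Over.mk (r ≫ sK)
    let ro : TΩ ⟶ Over.mk sK := Over.homMk r rfl
    let zo : TΩ ⟶ G := Over.homMk (yy ≫ pullback.fst q.left p.left) (by
      show (yy ≫ pullback.fst q.left p.left) ≫ G.hom = r ≫ sK
      rw [← Over.w q, Category.assoc, pullback.condition_assoc, Over.w p, Category.assoc]
      rfl)
    have hzo : zo ≫ q = ro ≫ p := by
      ext
      show (yy ≫ pullback.fst q.left p.left) ≫ q.left = r ≫ p.left
      rw [Category.assoc, pullback.condition, Category.assoc]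
    obtain ⟨b, hb⟩ := exists_of_ker hker (zo * (ro ≫ a)⁻¹) (by
      rw [MonObj.mul_comp, GrpObj.inv_comp, Category.assoc, ha, hzo, mul_inv_cancel])
    let w₁ : TΩ.left ⟶ An1 := AffineSpace.homOfVector (r ≫ sK) fun j =>
      if h : j.down.val < n then (r ≫ ηA).appTop (AffineSpace.coord S (ULift.up ⟨j.down.val, h⟩)) else Red.gaFn b
    have hw₁ : w₁ ≫ π = r ≫ ηA := by
      refine AffineSpace.hom_ext ?_ fun j => ?_
      · rw [Category.assoc, hπ, AffineSpace.homOfVector_over]
        exact (Category.assoc r ηA (An ↘ S)).symm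
      · rw [Scheme.Hom.comp_appTop, CommRingCat.comp_apply, AffineSpace.reindex_appTop_coord,
          AffineSpace.homOfVector_appTop_coord, dif_pos (show (cs j).down.val < n from j.down.isLt)]
        rfl
    have hr : Set.range w₁ ⊆ Set.range W.ι := by
      rintro _ ⟨x, rfl⟩
      rw [Scheme.Opens.range_ι]
      show (π (w₁ x)) ∈ V'
      rw [← Scheme.Hom.comp_apply, hw₁, Scheme.Hom.comp_apply]
      have e : ηA (r x) = genericPoint An := (congrArg (fun y => ηA y)
        (Subsingleton.elim (α := PrimeSpectrum K) (r x) (IsLocalRing.closedPoint K))).trans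
        Scheme.fromSpecStalk_closedPoint
      exact (congrArg (fun y => y ∈ V') e).mpr hηV'
    let wo : TΩ ⟶ TW := Over.homMk (IsOpenImmersion.lift W.ι w₁ hr) (by
      show _ ≫ W.ι ≫ _ = _
      rw [IsOpenImmersion.lift_fac_assoc, AffineSpace.homOfVector_over]
      rfl)
    have h1 : wo ≫ gW = ro ≫ a := by
      ext
      show IsOpenImmersion.lift W.ι w₁ hr ≫ (π ∣_ V') ≫ g = r ≫ a.left
      rw [hg, ← Category.assoc, ← Category.assoc]
      congr 1
      rw [← cancel_mono V'.ι, Category.assoc, morphismRestrict_ι, IsOpenImmersion.lift_fac_assoc, hw₁]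
      exact (congrArg (r ≫ ·) (V'.fromSpecStalkOfMem_ι _ hηV').symm).trans (Category.assoc r _ V'.ι).symm
    have h2 : wo ≫ t = b := by
      refine GaPoints.gaFn_injective ?_
      rw [GaPoints.gaFn_comp, ht]
      erw [← CommRingCat.comp_apply]
      rw [← Scheme.Hom.comp_appTop]
      show (IsOpenImmersion.lift W.ι w₁ hr ≫ W.ι).appTop _ = _
      rw [IsOpenImmersion.lift_fac, AffineSpace.homOfVector_appTop_coord, dif_neg]
      simp
    have h3 : wo ≫ φ = zo := by
      rw [MonObj.comp_mul, h1, ← Category.assoc, h2, hb, mul_comm (ro ≫ a) (zo * (ro ≫ a)⁻¹), inv_mul_cancel_right]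
    let x₀ : ↑(Spec Ω) := (inferInstance : Nonempty (PrimeSpectrum Ω)).some
    refine ⟨wo.left x₀, ?_⟩
    rw [← Scheme.Hom.comp_apply, show wo.left ≫ φ.left = zo.left from congrArg CommaMorphism.left h3]
    show pullback.fst q.left p.left (yy x₀) = z
    rw [Scheme.fromSpecResidueField_apply, hy1]
  -- density
  let g₀ := p.left (IsLocalRing.closedPoint K)
  have hg₀ : Dense ({g₀} : Set G''.left) := by
    have hsub : Set.range ψ ⊆ closure {g₀} := by
      rintro _ ⟨v, rfl⟩
      have hspec : (⟨genericPoint An, hηV⟩ : V) ⤳ v :=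
        (subtype_specializes_iff _ _).2 ((genericPoint_spec An).specializes trivial)
      have e : g₀ = ψ ⟨genericPoint An, hηV⟩ := by
        show ψ (V.fromSpecStalkOfMem _ hηV (IsLocalRing.closedPoint _)) = _
        congr 1
        refine V.ι.isOpenEmbedding.injective ?_
        rw [← Scheme.Hom.comp_apply, Scheme.Opens.fromSpecStalkOfMem_ι]
        exact Scheme.fromSpecStalk_closedPoint
      rw [← specializes_iff_mem_closure, e]
      exact hspec.map ψ.continuous
    exact dense_iff_closure_eq.2 (top_le_iff.1 (hdense.closure_eq.ge.trans (closure_minimal hsub isClosed_closure)))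
  haveI : LocallyOfFiniteType (q.left ≫ G''.hom) := by rw [Over.w q]; infer_instance
  haveI : LocallyOfFiniteType q.left := locallyOfFiniteType_of_comp q.left G''.hom
  haveI : IsLocallyNoetherian G''.left := LocallyOfFiniteType.isLocallyNoetherian G''.hom
  haveI : LocallyOfFinitePresentation q.left := LocallyOfFinitePresentation.iff_locallyOfFiniteType.mpr inferInstance
  have hW : Dense (q.left ⁻¹' {g₀}) := hg₀.preimage q.left.isOpenMap
  refine ⟨n + 1, W, φ.left, ?_, hW.mono fun z hz => key z hz, Over.w φ⟩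
  obtain ⟨z, hz⟩ := hq g₀
  obtain ⟨w, -⟩ := key z hz
  exact ⟨W.ι w, w.2⟩

end Groth.Agent.S20000
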