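import Groth.Statements.S20004
import Groth.Agent.WildQuotLib.Extend2
open Groth.Agent.WildQuotLib IsLocalRing

set_option autoImplicit false
universe u v w
open WildQuot

namespace Groth.Agent.S20004

theorem card_auto_le {R : Type v} {A : Type u} [CommRing R] [CommRing A] [IsDomain A] [Algebra R A] [Module.Finite R A]
    (hinj : Function.Injective (algebraMap R A)) (S : Finset (A ≃ₐ[R] A)) : S.card ≤ Module.finrank R A := by
  classical
  haveI : IsDomain R := hinj.isDomain _
  obtain ⟨e, he⟩ := exists_linearIndependent_of_le_finrank (R := R) (M := A) le_rfl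
  have hext : ∀ a : A, ∃ c : R, c ≠ 0 ∧ c • a ∈ Submodule.span R (Set.range e) := by
    intro a
    by_contra! h
    have hli : LinearIndependent R (Fin.cons a e : Fin (Module.finrank R A + 1) → A) := by
      rw [Fintype.linearIndependent_iff]
      intro g hg
      rw [Fin.sum_univ_succ, Fin.cons_zero] at hg
      simp only [Fin.cons_succ] at hg
      have h0 : g 0 = 0 := by
        by_contra h0
        refine h (g 0) h0 ?_
        rw [eq_neg_of_add_eq_zero_left hg]
        exact neg_mem (sum_mem fun i _ => Submodule.smul_mem _ _ (Submodule.subset_span ⟨i, rfl⟩))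
      rw [h0, zero_smul, zero_add] at hg
      intro i
      exact Fin.cases h0 (fun j => Fintype.linearIndependent_iff.1 he (fun j => g j.succ) hg j) i
    have := hli.fintype_card_le_finrank
    simp at this
  have hdet : ∀ g : S → A, (∀ i, ∑ φ : S, g φ * φ.1 (e i) = 0) → g = 0 := by
    intro g hg
    have hL : LinearIndependent A (fun φ : S => ((φ.1 : A →* A) : A → A)) :=
      (linearIndependent_monoidHom A A).comp (fun φ : S => (φ.1 : A →* A)) (fun φ ψ h => by
        refine Subtype.ext (AlgEquiv.ext fun a => ?_)
        exact DFunLike.congr_fun h a)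
    funext φ
    refine Fintype.linearIndependent_iff.1 hL g ?_ φ
    funext a
    obtain ⟨c, hc0, hc⟩ := hext a
    let T : A →ₗ[R] A := ∑ φ : S, (g φ) • (φ.1.toLinearMap)
    have hT : ∀ y, T y = ∑ φ : S, g φ * φ.1 y := fun y => by simp [T]
    have hspan : Submodule.span R (Set.range e) ≤ LinearMap.ker T := Submodule.span_le.2 (by
      rintro _ ⟨i, rfl⟩
      exact LinearMap.mem_ker.2 ((hT _).trans (hg i)))
    have h2 := LinearMap.mem_ker.1 (hspan hc)
    rw [map_smul, Algebra.smul_def, mul_eq_zero] at h2
    rw [Finset.sum_apply, Pi.zero_apply]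
    simp only [Pi.smul_apply, smul_eq_mul]
    exact (hT a).symm.trans (h2.resolve_left fun h => hc0 (hinj (h.trans (map_zero _).symm)))
  have hli : LinearIndependent A (fun φ : S => fun i => φ.1 (e i)) := by
    rw [Fintype.linearIndependent_iff]
    intro g hg
    have := hdet g (fun i => by simpa [Finset.sum_apply] using congrFun hg i)
    exact fun φ => congrFun this φ
  simpa using hli.fintype_card_le_finrank

/-- Let `A` be a complete regular local ring of Krull dimension at least `2` and prime characteristic
`p`; let `k` be a field with `k → A` mapping onto the residue field, such that `k` has no Galois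
extension of degree `p`; let `G` be a group of order `p` acting on `A` by `k`-algebra automorphisms,
ramified precisely at the origin (for every non-maximal prime `P`, the inertia subgroup of `P` is
trivial). Let `R` be a `k`-algebra with an injective structure map `R → A` whose image is fixed by
`G` (so `R ⊆ A^G`), with `A` finite over `R`. Galois extensions of fraction fields are expressed
through automorphism counts: since `A` and `A^G` are normal domains finite over `R`,
`Frac(A^G)/Frac(R)` is Galois exactly when `p` times the number of `k`-algebra automorphisms of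
`A^G` fixing the image of `R` equals the rank `[Frac A : Frac R]` of `A` over `R`, and
`Frac(A)/Frac(R)` is Galois exactly when the number of `R`-algebra automorphisms of `A` equals that
rank. The row: the first equality implies the second. (The published statement assumes `R ⊆ A^G`
finite with `Frac(A^G)/Frac(R)` Galois and concludes that `Frac(A)/Frac(R)` is Galois; here `R` is
taken to contain `k`, as the norm subrings of the source do.) -/
theorem result
    (p : ℕ) [Fact p.Prime] (A : Type u) [CommRing A] [IsRegularLocalRing A] [CharP A p]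
    [IsAdicComplete (IsLocalRing.maximalIdeal A) A] (hdim : 2 ≤ ringKrullDim A)
    (k : Type v) [Field k] [Algebra k A]
    (hk : Function.Surjective (IsLocalRing.residue A ∘ algebraMap k A))
    (hkp : ∀ (L : Type v) [Field L] [Algebra k L], IsGalois k L → Module.finrank k L ≠ p)
    (G : Type w) [Group G] [Finite G] [MulSemiringAction G A] (hcard : Nat.card G = p)
    [SMulCommClass G k A]
    (hram : ∀ P : Ideal A, P.IsPrime → P ≠ IsLocalRing.maximalIdeal A → P.inertia G = ⊥)
    (R : Type v) [CommRing R] [Algebra k R] [Algebra R A] [IsScalarTower k R A] [Module.Finite R A]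
    (hRinj : Function.Injective (algebraMap R A))
    (hRG : ∀ (σ : G) (r : R), σ • algebraMap R A r = algebraMap R A r)
    (hgal : p * Nat.card {φ : FixedPoints.subalgebra k A G ≃ₐ[k] FixedPoints.subalgebra k A G //
        ∀ b : FixedPoints.subalgebra k A G, (b : A) ∈ Set.range (algebraMap R A) → (φ b : A) = b} =
      Module.finrank R A) :
    Nat.card (A ≃ₐ[R] A) = Module.finrank R A := by
  classical
  letI := Fintype.ofFinite G
  haveI := RegLocal.isDomain A
  have hbound := card_auto_le (R := R) (A := A) hRinj
  haveI : Finite (A ≃ₐ[R] A) := by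
    by_contra h
    rw [not_finite_iff_infinite] at h
    obtain ⟨S, hS⟩ := Infinite.exists_subset_card_eq (A ≃ₐ[R] A) (Module.finrank R A + 1)
    have := hbound S
    omega
  letI := Fintype.ofFinite (A ≃ₐ[R] A)
  refine le_antisymm (by rw [Nat.card_eq_fintype_card]; exact hbound Finset.univ) ?_
  rw [← hgal]
  have hfaith : ∀ σ : G, (∀ a : A, σ • a = a) → σ = 1 := fun σ hσ => by
    have hne : (⊥ : Ideal A) ≠ maximalIdeal A := fun h => by
      have h2 := hdim
      rw [ringKrullDim_eq_zero_of_isField (IsLocalRing.isField_iff_maximalIdeal_eq.2 h.symm)] at h2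
      exact absurd h2 (by decide)
    have hmem : σ ∈ (⊥ : Ideal A).inertia G := fun a => by
      show σ • a - a ∈ (⊥ : Ideal A)
      rw [hσ, sub_self]; exact Ideal.zero_mem _
    rwa [hram ⊥ Ideal.isPrime_bot hne, Subgroup.mem_bot] at hmem
  set S := {φ : FixedPoints.subalgebra k A G ≃ₐ[k] FixedPoints.subalgebra k A G //
        ∀ b : FixedPoints.subalgebra k A G, (b : A) ∈ Set.range (algebraMap R A) → (φ b : A) = b} with hS
  choose ψ hψ using fun φ : S => exists_extends hk hdim (by rwa [← Nat.card_eq_fintype_card]) hram hkp φ.1
  let F : S × G → (A ≃ₐ[R] A) := fun q =>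
    { (MulSemiringAction.toRingEquiv G A q.2).trans (ψ q.1).toRingEquiv with
      commutes' := fun r => by
        show ψ q.1 (q.2 • algebraMap R A r) = algebraMap R A r
        rw [hRG]
        exact (hψ q.1 ⟨algebraMap R A r, fun σ => hRG σ r⟩).trans (q.1.2 _ ⟨r, rfl⟩) }
  have hF : Function.Injective F := by
    rintro ⟨φ, σ⟩ ⟨φ', σ'⟩ h
    have h' : ∀ a, ψ φ (σ • a) = ψ φ' (σ' • a) := fun a => DFunLike.congr_fun h a
    obtain rfl : φ = φ' := by
      refine Subtype.ext (AlgEquiv.ext fun b => Subtype.ext ?_)
      rw [← hψ, ← hψ]
      have := h' (b : A)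
      rwa [b.2 σ, b.2 σ'] at this
    refine Prod.ext rfl ?_
    have h2 : σ'⁻¹ * σ = 1 := hfaith _ fun a => by
      rw [mul_smul, (ψ φ).injective (h' a), inv_smul_smul]
    exact (inv_mul_eq_one.1 h2).symm
  have := Nat.card_le_card_of_injective F hF
  rw [Nat.card_prod, hcard, mul_comm] at this
  exact this

end Groth.Agent.S20004
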