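import Groth.Statements.S20010
import Mathlib.AlgebraicGeometry.AffineTransitionLimit

set_option autoImplicit false
universe u
open CategoryTheory CategoryTheory.Limits AlgebraicGeometry TopologicalSpace
open ModPair

namespace Groth.Agent.S20010

set_option backward.isDefEq.respectTransparency false in
lemma aux {I : Type u} [SmallCategory I] [IsCofiltered I]
    (D : I ⥤ Scheme.{u}) (c : Cone D) (hc : IsLimit c)
    [∀ {i j : I} (t : i ⟶ j), IsAffineHom (D.map t)] [∀ i, CompactSpace (D.obj i)]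
    [∀ i, QuasiSeparatedSpace (D.obj i)] {ι : Type u} (U : ι → Scheme.{u}) (u : ∀ a, U a ⟶ c.pt)
    [∀ a, IsOpenImmersion (u a)] [∀ a, QuasiCompact (u a)]
    (hcov : ∀ x : c.pt, ∃ (a : ι) (y : U a), (u a).base y = x) :
    ∃ (i : I) (n : ℕ) (V : Fin n → Scheme.{u}) (v : ∀ j, V j ⟶ D.obj i) (a : Fin n → ι)
      (e : ∀ j, U (a j) ⟶ V j),
      (∀ j, IsOpenImmersion (v j) ∧ QuasiCompact (v j)) ∧
      (∀ x : D.obj i, ∃ (j : Fin n) (y : V j), (v j).base y = x) ∧
      ∀ j, IsPullback (e j) (u (a j)) (v j) (c.π.app i) := by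
  classical
  haveI : CompactSpace c.pt := Scheme.compactSpace_of_isLimit D c hc
  obtain ⟨T, hT⟩ := (isCompact_univ (X := c.pt)).elim_finite_subcover
    (fun a => ((u a).opensRange : Set c.pt)) (fun a => (u a).opensRange.2) (fun x _ => by
      obtain ⟨a, y, hy⟩ := hcov x
      exact Set.mem_iUnion.mpr ⟨a, y, hy⟩)
  have hq (a : ι) : IsCompact (((u a).opensRange : c.pt.Opens) : Set c.pt) := by
    haveI : CompactSpace (U a) := QuasiCompact.compactSpace_of_compactSpace (u a)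
    exact isCompact_range (u a).continuous
  choose k W hW hWU using fun a : T => exists_preimage_eq D c hc (u a.1).opensRange (hq a.1)
  obtain ⟨l, fl⟩ := IsCofiltered.inf_objs_exists (insert (Classical.choice IsCofiltered.nonempty)
    (Finset.univ.image k))
  replace fl : ∀ a, l ⟶ k a := fun a => (@fl (k a) (by simp)).some
  obtain ⟨m, g, hg⟩ := exists_map_eq_top D c hc (⨆ a, D.map (fl a) ⁻¹ᵁ W a) (by
    rw [Scheme.Hom.preimage_iSup]
    refine top_le_iff.mp fun x _ => ?_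
    obtain ⟨a, ha, hx⟩ := Set.mem_iUnion₂.mp (hT (Set.mem_univ x))
    refine TopologicalSpace.Opens.mem_iSup.mpr ⟨⟨a, ha⟩, ?_⟩
    rw [← Scheme.Hom.comp_preimage, c.w, hWU]
    exact hx)
  let e := T.equivFin.symm
  have hpre (j : Fin T.card) :
      c.π.app m ⁻¹ᵁ (D.map (g ≫ fl (e j)) ⁻¹ᵁ W (e j)) = (u (e j).1).opensRange := by
    rw [← Scheme.Hom.comp_preimage, c.w, hWU]
  let j' (j : Fin T.card) : U (e j).1 ⟶ (D.map (g ≫ fl (e j)) ⁻¹ᵁ W (e j) : (D.obj m).Opens) :=
    IsOpenImmersion.lift (D.map (g ≫ fl (e j)) ⁻¹ᵁ W (e j)).ι (u (e j).1 ≫ c.π.app m) (by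
      rw [Scheme.Opens.range_ι]
      rintro _ ⟨y, rfl⟩
      have : u (e j).1 y ∈ c.π.app m ⁻¹ᵁ (D.map (g ≫ fl (e j)) ⁻¹ᵁ W (e j)) := by
        rw [hpre]; exact ⟨y, rfl⟩
      exact this)
  refine ⟨m, T.card, fun j => (D.map (g ≫ fl (e j)) ⁻¹ᵁ W (e j) : (D.obj m).Opens),
    fun j => (D.map (g ≫ fl (e j)) ⁻¹ᵁ W (e j)).ι, fun j => (e j).1, j',
    fun j => ⟨inferInstance, ?_⟩, fun x => ?_, fun j => ?_⟩
  · haveI : CompactSpace (D.map (g ≫ fl (e j)) ⁻¹ᵁ W (e j) : (D.obj m).Opens) :=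
      isCompact_iff_compactSpace.mp ((D.map (g ≫ fl (e j))).isCompact_preimage (hW (e j)))
    exact quasiCompact_of_compactSpace _
  · have hx : x ∈ D.map g ⁻¹ᵁ (⨆ a, D.map (fl a) ⁻¹ᵁ W a) := hg ▸ trivial
    rw [Scheme.Hom.preimage_iSup] at hx
    obtain ⟨a, ha⟩ := TopologicalSpace.Opens.mem_iSup.mp hx
    obtain ⟨j, rfl⟩ := e.surjective a
    refine ⟨j, ⟨x, ?_⟩, rfl⟩
    rw [Functor.map_comp]
    exact ha
  · refine IsOpenImmersion.isPullback _ _ _ _ (IsOpenImmersion.lift_fac _ _ _).symm ?_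
    rw [Scheme.Opens.opensRange_ι, hpre]

/-- Let (X_i) be a cofiltered system of schemes with affine transition morphisms such that X_{i₀} is
quasi-compact and quasi-separated for some index i₀, let X be its limit, and let {U_a ⟶ X} be a
family of quasi-compact open immersions (open immersions of finite presentation) which is jointly
surjective (a covering family for the Zariski class). Then the covering descends: for some index i
there is a finite jointly surjective family {V_j ⟶ X_i}_{j < n} of quasi-compact open immersions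
such that every V_j ×_{X_i} X is one of the U_a, i.e. for each j some U_{a_j} ⟶ X is the base change
of V_j ⟶ X_i along X ⟶ X_i. -/
theorem result {I : Type u} [SmallCategory I] [IsCofiltered I]
    (D : I ⥤ Scheme.{u}) (c : Cone D) (hc : IsLimit c)
    [∀ (i j : I) (t : i ⟶ j), IsAffineHom (D.map t)] (i₀ : I) [CompactSpace (D.obj i₀)]
    [QuasiSeparatedSpace (D.obj i₀)] {ι : Type u} (U : ι → Scheme.{u}) (u : ∀ a, U a ⟶ c.pt)
    [∀ a, IsOpenImmersion (u a)] [∀ a, QuasiCompact (u a)] (hcov : ∀ x : c.pt, ∃ (a : ι) (y : U a), (u a).base y = x) :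
    ∃ (i : I) (n : ℕ) (V : Fin n → Scheme.{u}) (v : ∀ j, V j ⟶ D.obj i) (a : Fin n → ι)
      (e : ∀ j, U (a j) ⟶ V j),
      (∀ j, IsOpenImmersion (v j) ∧ QuasiCompact (v j)) ∧
      (∀ x : D.obj i, ∃ (j : Fin n) (y : V j), (v j).base y = x) ∧
      ∀ j, IsPullback (e j) (u (a j)) (v j) (c.π.app i) := by
  haveI : ∀ {i j : I} (t : i ⟶ j), IsAffineHom (D.map t) := fun {i j} t => inferInstance
  haveI : ∀ {i j : Over i₀} (f : i ⟶ j), IsAffineHom ((Over.forget i₀ ⋙ D).map f) := fun {i j} f =>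
    inferInstanceAs (IsAffineHom (D.map f.left))
  haveI : ∀ i : Over i₀, CompactSpace ((Over.forget i₀ ⋙ D).obj i) := fun i =>
    QuasiCompact.compactSpace_of_compactSpace (D.map i.hom)
  haveI : ∀ i : Over i₀, QuasiSeparatedSpace ((Over.forget i₀ ⋙ D).obj i) := fun i =>
    quasiSeparatedSpace_of_quasiSeparated (D.map i.hom)
  obtain ⟨i, n, V, v, a, e, h1, h2, h3⟩ := aux (Over.forget i₀ ⋙ D) (c.whisker (Over.forget i₀))
    ((Functor.Initial.isLimitWhiskerEquiv (Over.forget i₀) c).symm hc) U u hcov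
  exact ⟨i.left, n, V, v, a, e, h1, h2, h3⟩

end Groth.Agent.S20010
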