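import Groth.Statements.S20014
import Groth.Agent.NormalSch.Basic
import Groth.Agent.FinCondEasy.Components
import Groth.Agent.CompTopLib.Basic
import Groth.Agent.RootCoverLib.Conn
import Mathlib
-- import your own Groth.Agent.* helpers here

set_option autoImplicit false
universe u
open CategoryTheory CategoryTheory.Limits AlgebraicGeometry
open RatSing

namespace Groth.Agent.S20014

/-- Let k be a field, X an integral k-scheme which is separated and of finite type over k, and f : X̃ →
X a proper morphism of k-schemes which is birational — an isomorphism over some nonempty open subset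
of X — and for which O_X → f_*O_X̃ is an isomorphism (Γ(V, O_X) → Γ(f⁻¹V, O_X̃) bijective for every
open V of X). If X̃ is normal (every local ring an integrally closed domain), then X is normal. (In
the text this is the last clause of a lemma whose other hypotheses — X̃ Cohen–Macaulay, vanishing of
the higher direct images of O_X̃ and of the dualizing sheaf — and whose standing assumption that k
is perfect of positive characteristic play no role in this clause; they are omitted here.) -/
theorem result (k : Type u) [Field k]
    (X Xt : Scheme.{u}) [X.Over (Spec (CommRingCat.of k))] [Xt.Over (Spec (CommRingCat.of k))]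
    [IsIntegral X] [IsSeparated (X ↘ Spec (CommRingCat.of k))]
    [LocallyOfFiniteType (X ↘ Spec (CommRingCat.of k))] [QuasiCompact (X ↘ Spec (CommRingCat.of k))]
    (f : Xt ⟶ X) (hf : f ≫ (X ↘ Spec (CommRingCat.of k)) = Xt ↘ Spec (CommRingCat.of k)) [IsProper f]
    (U : X.Opens) (hU : (U : Set X).Nonempty) (hbir : IsIso (f ∣_ U))
    (hfib : ∀ V : X.Opens, IsIso (f.app V))
    (hXt : Pi1.IsNormalScheme Xt) : Pi1.IsNormalScheme X := by
  classical
  haveI : IsNoetherian (Spec (CommRingCat.of k)) := inferInstance
  haveI : LocallyOfFiniteType (Xt ↘ Spec (CommRingCat.of k)) := by rw [← hf]; infer_instance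
  haveI : QuasiCompact (Xt ↘ Spec (CommRingCat.of k)) := by rw [← hf]; infer_instance
  haveI : IsLocallyNoetherian Xt := LocallyOfFiniteType.isLocallyNoetherian (Xt ↘ Spec (CommRingCat.of k))
  haveI : CompactSpace Xt := QuasiCompact.compactSpace_of_compactSpace (Xt ↘ Spec (CommRingCat.of k))
  haveI : IsNoetherian Xt := {}
  obtain ⟨x₀, hx₀⟩ := hU
  haveI : Nonempty Xt := by
    obtain ⟨z, -⟩ := (f ∣_ U).homeomorph.surjective ⟨x₀, hx₀⟩
    exact ⟨z.1⟩
  haveI : IsIso (f.app (⊤ : X.Opens)) := hfib ⊤
  haveI : ConnectedSpace Xt := Groth.Agent.RootCoverLib.connectedSpace_of_idem fun e he => by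
    obtain ⟨a, ha⟩ : ∃ a : Γ(X, ⊤), f.app ⊤ a = e :=
      ⟨inv (f.app ⊤) e, by
        rw [← CommRingCat.comp_apply, IsIso.inv_hom_id, CommRingCat.id_apply]⟩
    have hinj : Function.Injective (f.app (⊤ : X.Opens)) :=
      (ConcreteCategory.bijective_of_isIso (f.app (⊤ : X.Opens))).1
    have ha' : IsIdempotentElem a := by
      refine hinj ?_
      rw [map_mul, ha]
      exact he
    rcases IsIdempotentElem.iff_eq_zero_or_one.1 ha' with h | h
    · exact Or.inl (by rw [← ha, h, map_zero]; rfl)
    · exact Or.inr (by rw [← ha, h, map_one]; rfl)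
  haveI : IrreducibleSpace Xt := by
    have hd : (irreducibleComponents (Xt : Type u)).PairwiseDisjoint id :=
      (Groth.Agent.FinCondEasy.pairwiseDisjoint_iff Xt).2 fun x => by
        haveI := (hXt x).1
        rw [nilradical_eq_zero]
        exact Ideal.isPrime_bot
    obtain ⟨x⟩ := (inferInstance : Nonempty Xt)
    have ho : IsOpen (irreducibleComponent x) :=
      Groth.Agent.CompTopLib.isOpen_of_disjoint (fun A hA B hB hne => hd hA hB hne)
        (fun _ => ⟨Set.univ, isOpen_univ, trivial,
          (TopologicalSpace.NoetherianSpace.finite_irreducibleComponents (α := Xt)).subset fun A hA => hA.1⟩)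
        (irreducibleComponent_mem_irreducibleComponents x)
    have hu := IsClopen.eq_univ ⟨isClosed_irreducibleComponent, ho⟩ ⟨x, mem_irreducibleComponent⟩
    have hi := (isIrreducible_irreducibleComponent (x := x))
    rw [hu] at hi
    exact (irreducibleSpace_def _).2 hi
  haveI : ∀ x : Xt, _root_.IsReduced (Xt.presheaf.stalk x) := fun x => by
    haveI := (hXt x).1
    infer_instance
  haveI := isReduced_of_isReduced_stalk Xt
  haveI : IsIntegral Xt := isIntegral_of_irreducibleSpace_of_isReduced Xt
  refine Groth.Agent.NormalSch.isNormalScheme_of_affine fun V hne _ => ?_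
  haveI := hfib V
  haveI : Nonempty (f ⁻¹ᵁ V : Xt.Opens) := by
    by_contra hc
    rw [not_nonempty_iff] at hc
    have hbot : f ⁻¹ᵁ V = ⊥ := TopologicalSpace.Opens.ext (Set.isEmpty_coe_sort.mp hc)
    haveI : Subsingleton Γ(Xt, f ⁻¹ᵁ V) := by rw [hbot]; infer_instance
    haveI : Subsingleton Γ(X, V) := (ConcreteCategory.bijective_of_isIso (f.app V)).1.subsingleton
    exact false_of_nontrivial_of_subsingleton Γ(X, V)
  haveI := Groth.Agent.NormalSch.isIntegrallyClosed_section hXt (f ⁻¹ᵁ V)
  exact IsIntegrallyClosed.of_equiv (CategoryTheory.asIso (f.app V)).commRingCatIsoToRingEquiv.symm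

end Groth.Agent.S20014
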