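import Groth.Statements.S20015
import Groth.Agent.LiaisonLib.Duality

set_option autoImplicit false
universe u
open Liaison

namespace Groth.Agent.S20015

set_option backward.isDefEq.respectTransparency false

theorem height_eq {K : Type u} [Field K] {n : ℕ} {c I J : Ideal (MvPolynomial (Fin (n + 1)) K)}
    (hc : c.IsHomogeneous (GrSyz.stdGr K (Fin (n + 1))))
    [LocCoh.IsCohenMacaulayRing (MvPolynomial (Fin (n + 1)) K ⧸ c)]
    (hJI : c.colon (J : Set (MvPolynomial (Fin (n + 1)) K)) = I) (hne : I ≠ ⊤) : I.height = c.height := by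
  have hcI : c ≤ I := hJI ▸ LiaisonLib.le_colon c J
  obtain ⟨P, hP⟩ := Ideal.nonempty_minimalPrimes hne
  refine le_antisymm ?_ (Ideal.height_mono hcI)
  have h1 := LiaisonLib.ass_of_minimal hP
  rw [← hJI] at h1
  exact (Ideal.height_mono hP.1.2).trans (LiaisonLib.height_associated hc (LiaisonLib.ass_colon_subset c J h1)).le

/-- Let K be a field, R = K[x_0, …, x_n] graded by degree, c ≥ 2, 𝔠 ⊂ R a homogeneous ideal of height c
such that R/𝔠 is a Gorenstein ring, and I, J ⊂ R homogeneous ideals directly linked by 𝔠, that is 𝔠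
: I = J and 𝔠 : J = I. Then R/I is a Cohen–Macaulay ring if and only if R/J is a Cohen–Macaulay
ring: of two directly linked subschemes of projective space one is arithmetically Cohen–Macaulay
exactly when the other is. (A Gorenstein ideal of the notes, one whose quotient is Cohen–Macaulay
with last graded Betti number 1, is rendered as: the quotient ring is Gorenstein; the statement is
given at the level of homogeneous ideals, as the notes define linkage.) -/
theorem result (K : Type u) [Field K] (n c : ℕ) (hc : 2 ≤ c)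
    (𝔠 I J : Ideal (MvPolynomial (Fin (n + 1)) K))
    (h𝔠 : 𝔠.IsHomogeneous (GrSyz.stdGr K (Fin (n + 1)))) (hI : I.IsHomogeneous (GrSyz.stdGr K (Fin (n + 1))))
    (hJ : J.IsHomogeneous (GrSyz.stdGr K (Fin (n + 1))))
    [LocCoh.IsGorensteinRing (MvPolynomial (Fin (n + 1)) K ⧸ 𝔠)] (h𝔠c : 𝔠.height = c)
    (hIJ : 𝔠.colon (I : Set (MvPolynomial (Fin (n + 1)) K)) = J) (hJI : 𝔠.colon (J : Set (MvPolynomial (Fin (n + 1)) K)) = I) :
    LocCoh.IsCohenMacaulayRing (MvPolynomial (Fin (n + 1)) K ⧸ I) ↔ LocCoh.IsCohenMacaulayRing (MvPolynomial (Fin (n + 1)) K ⧸ J) := by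
  haveI : LocCoh.IsCohenMacaulayRing (MvPolynomial (Fin (n + 1)) K ⧸ 𝔠) := LiaisonLib.cm_of_gorenstein
  constructor
  · intro h
    haveI := h
    exact LiaisonLib.cm_linked h𝔠 hI hIJ (hJI ▸ LiaisonLib.le_colon 𝔠 J) (height_eq h𝔠 hJI)
  · intro h
    haveI := h
    exact LiaisonLib.cm_linked h𝔠 hJ hJI (hIJ ▸ LiaisonLib.le_colon 𝔠 I) (height_eq h𝔠 hIJ)

end Groth.Agent.S20015
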