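import Groth.Statements.S20016
import Groth.Agent.ModPairLib.Cartier
import Groth.Agent.ModPairLib.Pair
import Mathlib.AlgebraicGeometry.Normalization
import Mathlib.AlgebraicGeometry.Morphisms.Etale

set_option autoImplicit false
universe u
open CategoryTheory AlgebraicGeometry TopologicalSpace Opposite
open ModPair

namespace Groth.Agent.S20016

set_option backward.isDefEq.respectTransparency false
set_option backward.isDefEq.respectTransparency.types false
set_option backward.defeqAttrib.useBackward true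
set_option maxHeartbeats 800000

/-- Sections integral over the base come from the base. -/
def Clo {A B : Scheme.{u}} (f : A ⟶ B) : Prop :=
  ∀ U : B.Opens, IsAffineOpen U → ∀ s : Γ(A, f ⁻¹ᵁ U), (f.app U).hom.IsIntegralElem s →
    s ∈ Set.range (f.app U).hom

lemma isIso_fromNormalization {A B : Scheme.{u}} (f : A ⟶ B) [QuasiCompact f] [QuasiSeparated f]
    (h : Clo f) (hi : ∀ U : B.Opens, IsAffineOpen U → Function.Injective (f.app U).hom) :
    IsIso f.fromNormalization := by
  apply IsZariskiLocalAtTarget.of_forall_exists_morphismRestrict (P := .isomorphisms _) fun x ↦ ?_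
  obtain ⟨_, ⟨U, hU, rfl⟩, hx, -⟩ := B.isBasis_affineOpens.exists_subset_of_mem_open
    (Set.mem_univ x) isOpen_univ
  refine ⟨U, hx, (isIso_morphismRestrict_iff_isIso_app _ hU).mpr ?_⟩
  letI := (f.app U).hom.toAlgebra
  rw [f.fromNormalization_app hU]
  haveI : IsIso (CommRingCat.ofHom (algebraMap Γ(B, U) (integralClosure Γ(B, U) Γ(A, f ⁻¹ᵁ U)))) := by
    rw [ConcreteCategory.isIso_iff_bijective]
    refine ⟨fun a b hab => hi U hU (congrArg Subtype.val hab), fun y => ?_⟩
    obtain ⟨a, ha⟩ := h U hU y.1 y.2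
    exact ⟨a, Subtype.ext ha⟩
  infer_instance

lemma clo_of_isIso {A B : Scheme.{u}} (f : A ⟶ B) [QuasiCompact f] [QuasiSeparated f]
    [IsIso f.fromNormalization] : Clo f := by
  intro U hU s hs
  letI := (f.app U).hom.toAlgebra
  have h1 : IsIso (f.fromNormalization.app U) := inferInstance
  rw [f.fromNormalization_app hU] at h1
  have h2 : IsIso (CommRingCat.ofHom (algebraMap Γ(B, U) (integralClosure Γ(B, U) Γ(A, f ⁻¹ᵁ U)))) :=
    IsIso.of_isIso_comp_right _ (f.normalizationObjIso hU).inv
  obtain ⟨a, ha⟩ := (ConcreteCategory.bijective_of_isIso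
    (CommRingCat.ofHom (algebraMap Γ(B, U) (integralClosure Γ(B, U) Γ(A, f ⁻¹ᵁ U))))).2 ⟨s, hs⟩
  exact ⟨a, congrArg Subtype.val ha⟩

lemma clo_comp_iso {A A' B : Scheme.{u}} (f : A ⟶ B) (e : A' ⟶ A) [IsIso e] (h : Clo f) : Clo (e ≫ f) := by
  intro U hU s hs
  obtain ⟨s', rfl⟩ := (ConcreteCategory.bijective_of_isIso (e.app (f ⁻¹ᵁ U))).2 s
  obtain ⟨p, hp, hps⟩ := hs
  have hint : (f.app U).hom.IsIntegralElem s' := by
    refine ⟨p, hp, (ConcreteCategory.bijective_of_isIso (e.app (f ⁻¹ᵁ U))).1 ?_⟩
    rw [Scheme.Hom.comp_app] at hps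
    rw [map_zero]
    exact (Polynomial.hom_eval₂ _ _ _ _).trans hps
  obtain ⟨a, ha⟩ := h U hU s' hint
  refine ⟨a, ?_⟩
  rw [Scheme.Hom.comp_app]
  exact congrArg (e.app (f ⁻¹ᵁ U)).hom ha

/-- The property for an open of `B` inside `V`. -/
def CloAt {B : Scheme.{u}} (V A : B.Opens) : Prop :=
  ∀ (hA : A ≤ V) (t : Γ(B, A)), (B.presheaf.map (homOfLE hA).op).hom.IsIntegralElem t →
    t ∈ Set.range (B.presheaf.map (homOfLE hA).op).hom

lemma image_preimage_ι {B : Scheme.{u}} (W V : B.Opens) : W.ι ''ᵁ (W.ι ⁻¹ᵁ V) = V ⊓ W := by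
  rw [Scheme.Hom.image_preimage_eq_opensRange_inf, Scheme.Opens.opensRange_ι, inf_comm]

lemma cloAt_congr {B : Scheme.{u}} {V A A' : B.Opens} (e : A = A') (h : CloAt V A) : CloAt V A' := e ▸ h

/-- Let (X, I_X) be a modulus pair — a scheme X with the quasi-coherent ideal sheaf I_X of an effective
Cartier divisor — with interior X° (the open complement of the support of I_X), and suppose O_X is
integrally closed in O_{X°}: for every affine open U of X, every section of O_X over U ∩ X° which is
integral over Γ(U, O_X) along the restriction map is the restriction of a section over U. Let g : Y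
⟶ X be an étale morphism and Y° = g⁻¹(X°). Then O_Y is integrally closed in O_{Y°}: for every affine
open V of Y, every section of O_Y over V ∩ Y° which is integral over Γ(V, O_Y) along the restriction
map is the restriction of a section over V. (The text does not spell out the phrase integrally
closed for sheaves; it is rendered here affine-locally through restriction maps.) -/
theorem result {X Y : Scheme.{u}}
    (IX : X.IdealSheafData) (hX : BlowUp.IsEffCartierIdeal IX)
    (hint : ∀ U ∈ X.affineOpens, ∀ s : Γ(X, U ⊓ ModPair.interior IX),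
      (X.presheaf.map (homOfLE (inf_le_left : U ⊓ ModPair.interior IX ≤ U)).op).hom.IsIntegralElem s →
        s ∈ Set.range (X.presheaf.map (homOfLE (inf_le_left : U ⊓ ModPair.interior IX ≤ U)).op).hom)
    (g : Y ⟶ X) [Etale g] :
    ∀ V ∈ Y.affineOpens, ∀ t : Γ(Y, V ⊓ g ⁻¹ᵁ ModPair.interior IX),
      (Y.presheaf.map (homOfLE (inf_le_left : V ⊓ g ⁻¹ᵁ ModPair.interior IX ≤ V)).op).hom.IsIntegralElem t →
        t ∈ Set.range (Y.presheaf.map (homOfLE (inf_le_left : V ⊓ g ⁻¹ᵁ ModPair.interior IX ≤ V)).op).hom := by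
  haveI := Groth.Agent.ModPairLib.isAffineHom_interior (Groth.Agent.ModPairLib.isLP_of_cart hX)
  haveI := Groth.Agent.ModPairLib.dominant_interior hX
  let U₀ := ModPair.interior IX
  have h1 : Clo U₀.ι := fun U hU s hs => by
    have := cloAt_congr (image_preimage_ι U₀ U).symm (V := U) (fun hA t ht => hint U hU t ht)
      ((image_preimage_ι U₀ U).trans_le inf_le_left) s
      (by rw [Scheme.Opens.ι_app] at hs; exact hs)
    rw [Scheme.Opens.ι_app]
    exact this
  haveI := isIso_fromNormalization U₀.ι h1 (fun U _ => U₀.ι.app_injective U)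
  haveI : IsIso (CategoryTheory.Limits.pullback.snd U₀.ι g).fromNormalization := by
    rw [← Scheme.Hom.normalizationPullback_snd]
    infer_instance
  have h2 := clo_of_isIso (CategoryTheory.Limits.pullback.snd U₀.ι g)
  let e := (isPullback_morphismRestrict g U₀).isoPullback
  have h3 : Clo (g ⁻¹ᵁ U₀).ι := by
    have := clo_comp_iso (CategoryTheory.Limits.pullback.snd U₀.ι g) e.hom h2
    rwa [IsPullback.isoPullback_hom_snd] at this
  intro V hV t ht
  refine cloAt_congr (image_preimage_ι (g ⁻¹ᵁ U₀) V) (fun hA s hs => ?_) inf_le_left t ht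
  have := h3 V hV s (by rw [Scheme.Opens.ι_app]; exact hs)
  rw [Scheme.Opens.ι_app] at this
  exact this

end Groth.Agent.S20016
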