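import Groth.Statements.S20017
import Groth.Agent.AssocBundleLib.Extend

set_option autoImplicit false
set_option backward.isDefEq.respectTransparency false
set_option backward.isDefEq.respectTransparency.types false
universe u
open CategoryTheory AlgebraicGeometry
open NonAbH1

namespace Groth.Agent.S20017

/-- Let X be a normal integral scheme (integral, with every local ring integrally closed), G a group
scheme over X whose structure morphism is finite and flat, and U ⊆ X a dense open subscheme. Then
the restriction map H¹(X, G) → H¹(U, G|_U) on classes of fppf G-torsors — X-schemes with a G-action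
which are pseudo-torsors and acquire sections on the members of some fppf covering family, up to
equivariant isomorphism — given by base change along the open immersion U → X, is injective. (G is
not assumed commutative; injectivity is that of a map of pointed sets.) -/
theorem result
    (X : Scheme.{u}) [AlgebraicGeometry.IsIntegral X] (hX : Pi1.IsNormalScheme X)
    (G : Over X) [GrpObj G] [IsFinite G.hom] [Flat G.hom]
    (U : X.Opens) (hU : Dense (U : Set X)) :
    Function.Injective (NonAbH1.H1Sch.bcMap U.ι G Scheme.fppfPrecoverage) := by
  intro c c' h
  induction c using Quot.ind with | mk P => ?_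
  induction c' using Quot.ind with | mk P' => ?_
  obtain ⟨φ⟩ := Groth.Agent.PrincBundLib.equivIso_of_cl_eq (P := P.bc U.ι) (Q := P'.bc U.ι) h
  haveI := Groth.Agent.FpqcDesc.isFinite_descends.{u}
  haveI := Groth.Agent.ASp.flat_descends.{u}
  have hfpqc : ∀ T : NonAbH1.TorsorSch G Scheme.fppfPrecoverage,
      NonAbH1.IsTorsorFor Scheme.fpqcPrecoverage T.act := fun T =>
    ⟨T.isTorsor.1, T.isTorsor.2.imp fun R' hR => ⟨Scheme.fppfPrecoverage_le_fpqcPrecoverage _ hR.1, hR.2⟩⟩
  have hsurjG : Surjective G.hom := ⟨fun s => ⟨(MonObj.one (X := G)).left s, by
    rw [← Scheme.Hom.comp_apply, Over.w]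
    rfl⟩⟩
  haveI := Groth.Agent.PrincBundLib.property_of_torsor @IsFinite P.act (hfpqc P) inferInstance
  haveI := Groth.Agent.PrincBundLib.property_of_torsor @IsFinite P'.act (hfpqc P') inferInstance
  haveI := Groth.Agent.PrincBundLib.property_of_torsor @Flat P.act (hfpqc P) inferInstance
  haveI := Groth.Agent.PrincBundLib.property_of_torsor @Surjective P.act (hfpqc P) hsurjG
  exact Quot.sound (Groth.Agent.AssocBundle.equivIso_of_equivIso_opens hX P P' (hfpqc P) (hfpqc P') U hU φ)

end Groth.Agent.S20017
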