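import Groth.Statements.S20018
import Mathlib

set_option autoImplicit false
open CAlg

namespace Groth.Agent.S20018

open PowerSeries in
/-- Product expansion of big Witt vectors: let R be a commutative ring and x ∈ 1 + tR[[t]] a formal
power series with constant term 1. Then x can be written uniquely as an infinite product ∏_{i ≥ 1}
(1 - α_i t^i) with α_i ∈ R. The infinite product is expressed through its truncations: there is a
unique sequence α : ℕ → R (α i standing for the coefficient attached to t^{i+1}) such that for every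
N the series x and the finite product ∏_{i=0}^{N} (1 - α_i t^{i+1}) agree modulo t^{N+2}. -/
theorem result
    (R : Type*) [CommRing R] (x : PowerSeries R) (hx : PowerSeries.constantCoeff x = 1) :
    ∃! α : ℕ → R, ∀ N : ℕ,
      PowerSeries.trunc (N + 2) x =
        PowerSeries.trunc (N + 2) (∏ i ∈ Finset.range (N + 1),
          (1 - PowerSeries.C (α i) * PowerSeries.X ^ (i + 1) : PowerSeries R)) := by
  let Q : ℕ → PowerSeries R := fun n => Nat.rec 1 (fun n q =>
    q * (1 - PowerSeries.C (PowerSeries.coeff (n+1) q - PowerSeries.coeff (n+1) x) * PowerSeries.X ^ (n+1))) n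
  let α : ℕ → R := fun n => PowerSeries.coeff (n+1) (Q n) - PowerSeries.coeff (n+1) x
  have hprod : ∀ β : ℕ → R, ∀ n, ∀ k ≤ n, PowerSeries.coeff k (∏ i ∈ Finset.range (n+1), (1 - PowerSeries.C (β i) * PowerSeries.X ^ (i + 1))) = PowerSeries.coeff k (∏ i ∈ Finset.range n, (1 - PowerSeries.C (β i) * PowerSeries.X ^ (i + 1))) := by
    intro β n k hk
    rw [Finset.prod_range_succ, mul_sub, mul_one, map_sub, ← mul_assoc, PowerSeries.coeff_mul_X_pow', if_neg (by omega), sub_zero]
  have hnew : ∀ β : ℕ → R, ∀ n, PowerSeries.coeff (n+1) (∏ i ∈ Finset.range (n+1), (1 - PowerSeries.C (β i) * PowerSeries.X ^ (i + 1))) = PowerSeries.coeff (n+1) (∏ i ∈ Finset.range n, (1 - PowerSeries.C (β i) * PowerSeries.X ^ (i + 1))) - β n := by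
    intro β n
    have h0 : PowerSeries.constantCoeff (∏ i ∈ Finset.range n, (1 - PowerSeries.C (β i) * PowerSeries.X ^ (i + 1))) = 1 := by
      rw [map_prod]; exact Finset.prod_eq_one fun i _ => by simp
    rw [Finset.prod_range_succ, mul_sub, mul_one, map_sub, ← mul_assoc, PowerSeries.coeff_mul_X_pow', if_pos le_rfl, Nat.sub_self, PowerSeries.coeff_zero_eq_constantCoeff, map_mul, h0, one_mul, PowerSeries.constantCoeff_C]
  have hQ : ∀ n, Q n = ∏ i ∈ Finset.range n, (1 - PowerSeries.C (α i) * PowerSeries.X ^ (i + 1)) := by
    intro n; induction n with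
    | zero => simp [Q]
    | succ n ih => rw [Finset.prod_range_succ, ← ih]
  have hgood : ∀ n, ∀ k ≤ n, PowerSeries.coeff k (Q n) = PowerSeries.coeff k x := by
    intro n; induction n with
    | zero => intro k hk; obtain rfl : k = 0 := by omega
              simp [Q, PowerSeries.coeff_zero_eq_constantCoeff, hx]
    | succ n ih =>
      intro k hk
      rw [show Q (n+1) = _ from hQ (n+1)]
      rcases Nat.lt_or_ge k (n+1) with h | h
      · rw [hprod α n k (by omega), ← hQ, ih k (by omega)]
      · obtain rfl : k = n + 1 := by omega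
        rw [hnew, ← hQ]; simp [α]
  refine ⟨α, fun N => ?_, fun β hβ => ?_⟩
  · ext k
    rw [PowerSeries.coeff_trunc, PowerSeries.coeff_trunc]
    split_ifs with hk
    · rw [← hQ, hgood (N+1) k (by omega)]
    · rfl
  · funext n
    induction n using Nat.strong_induction_on with
    | _ n ih =>
      have h1 := congrArg (Polynomial.coeff · (n+1)) (hβ n)
      simp only [PowerSeries.coeff_trunc, if_pos (show n + 1 < n + 2 by omega)] at h1
      rw [hnew, Finset.prod_congr rfl (fun i hi => by rw [ih i (Finset.mem_range.mp hi)]), ← hQ] at h1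
      show β n = PowerSeries.coeff (n+1) (Q n) - PowerSeries.coeff (n+1) x
      linear_combination h1

end Groth.Agent.S20018
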