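import Groth.Statements.S20019
import Groth.Agent.CharFin.Integral
import Groth.Agent.CharFin.Finite
import Groth.Agent.HopfGr.Cartier

set_option autoImplicit false
set_option linter.style.haveILetI false
open scoped TensorProduct
open HopfRep

namespace Groth.Agent.S20019

open Groth.Agent

/-- Let A → B be a surjective homomorphism of finitely generated commutative Hopf algebras over the
complex numbers, that is a closed embedding H ↪ G of complex linear algebraic groups with G = Spec A
and H = Spec B. For a comodule structure on the coordinate space ℂ^d with coaction e_i ↦ Σ_j e_j ⊗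
a_ji, its character is Σ_i a_ii. Then R(H) is a finite R(G)-module, with the complexified
representation rings realised inside the coordinate rings by characters: there are finitely many
characters f_1, …, f_r of H-comodule structures such that every ℂ-linear combination of characters
of H-comodule structures on coordinate spaces is of the form Σ_j s_j f_j with each s_j in the
ℂ-subalgebra of B generated by the images of the characters of G-comodule structures on coordinate
spaces. (The representation rings of the published statement are rendered through characters; over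
the complex numbers the characters of pairwise non-isomorphic simple comodules are linearly
independent, so the span of characters is the complexified representation ring.) -/
theorem result
    (A B : Type) [CommRing A] [HopfAlgebra ℂ A] [Algebra.FiniteType ℂ A]
    [CommRing B] [HopfAlgebra ℂ B] [Algebra.FiniteType ℂ B]
    (π : A →ₐc[ℂ] B) (hπ : Function.Surjective π) :
    ∃ F : Finset B,
      (↑F : Set B) ⊆ Set.range (fun p : (Σ d : ℕ, HopfRep.Comod ℂ B (Fin d → ℂ)) =>
          ∑ i : Fin p.1, TensorProduct.lid ℂ B (LinearMap.rTensor B (LinearMap.proj i)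
            (@HopfRep.Comod.coact ℂ B _ _ _ _ (Fin p.1 → ℂ) _ _ p.2 (Pi.single i 1)))) ∧
      (↑(Submodule.span ℂ (Set.range (fun p : (Σ d : ℕ, HopfRep.Comod ℂ B (Fin d → ℂ)) =>
          ∑ i : Fin p.1, TensorProduct.lid ℂ B (LinearMap.rTensor B (LinearMap.proj i)
            (@HopfRep.Comod.coact ℂ B _ _ _ _ (Fin p.1 → ℂ) _ _ p.2 (Pi.single i 1)))))) : Set B) ⊆
        ↑(Submodule.span (Algebra.adjoin ℂ (π '' Set.range (fun p : (Σ d : ℕ, HopfRep.Comod ℂ A (Fin d → ℂ)) =>
          ∑ i : Fin p.1, TensorProduct.lid ℂ A (LinearMap.rTensor A (LinearMap.proj i)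
            (@HopfRep.Comod.coact ℂ A _ _ _ _ (Fin p.1 → ℂ) _ _ p.2 (Pi.single i 1))))))
          (↑F : Set B)) := by
  classical
  let chA : (Σ d : ℕ, HopfRep.Comod ℂ A (Fin d → ℂ)) → A := CharFin.chr
  let chB : (Σ d : ℕ, HopfRep.Comod ℂ B (Fin d → ℂ)) → B := CharFin.chr
  show ∃ F : Finset B, (↑F : Set B) ⊆ Set.range chB ∧
      (↑(Submodule.span ℂ (Set.range chB)) : Set B) ⊆
        ↑(Submodule.span (Algebra.adjoin ℂ (π '' Set.range chA)) (↑F : Set B))
  haveI : IsReduced B := HopfGr.isReduced_charZero (k := ℂ)
  haveI : IsNoetherianRing B := Algebra.FiniteType.isNoetherianRing ℂ B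
  haveI : Nontrivial B := (Bialgebra.counitAlgHom ℂ B).toRingHom.domain_nontrivial
  obtain ⟨N, u, hu, hgen⟩ := CharFin.exists_generating_comatrix (k := ℂ) (A := A)
  let b : Matrix (Fin N) (Fin N) B := u.map π
  have hb : CharFin.IsComatrix (k := ℂ) b := hu.map π
  have hbgen : Algebra.adjoin ℂ (Set.range fun p : Fin N × Fin N => b p.1 p.2) = ⊤ := by
    have h : (fun p : Fin N × Fin N => b p.1 p.2) = (π : A →ₐ[ℂ] B) ∘ fun p => u p.1 p.2 := rfl
    rw [h, Set.range_comp, Algebra.adjoin_image, hgen, Algebra.map_top, AlgHom.range_eq_top]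
    exact hπ
  let S : Subalgebra ℂ B := Algebra.adjoin ℂ (π '' Set.range chA)
  let S₀ : Subalgebra ℂ B := Algebra.adjoin ℂ (Set.range fun i : Fin (N + 1) => b.charpoly.coeff i)
  have hS₀fg : S₀.FG := Subalgebra.fg_def.mpr ⟨_, Set.finite_range _, rfl⟩
  haveI : Algebra.FiniteType ℂ S₀ := (Subalgebra.fg_iff_finiteType _).mp hS₀fg
  haveI : IsNoetherianRing S₀ := Algebra.FiniteType.isNoetherianRing ℂ S₀
  have hS₀S : S₀ ≤ S := by
    rw [Algebra.adjoin_le_iff]
    rintro _ ⟨i, rfl⟩
    show b.charpoly.coeff i ∈ S
    rw [CharFin.charpoly_coeff_eq b (Nat.lt_succ_iff.mp i.2)]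
    refine S.mul_mem (S.pow_mem (S.neg_mem S.one_mem) _) (Algebra.subset_adjoin ?_)
    refine ⟨(CharFin.minors u (N - i)).trace,
      CharFin.trace_mem_range_chr (CharFin.isComatrix_minors hu _), ?_⟩
    rw [Matrix.trace, map_sum]
    refine Finset.sum_congr rfl fun s _ => ?_
    show (π : A →ₐ[ℂ] B) (CharFin.minors u (N - i) s s) = _
    rw [CharFin.minors, CharFin.minors, Matrix.of_apply, Matrix.of_apply, AlgHom.map_det,
      AlgHom.mapMatrix_apply, ← Matrix.submatrix_map]
    rfl
  have hbint : IsIntegral S₀ b := by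
    have hc : ∀ i, b.charpoly.coeff i ∈ S₀ := by
      intro i
      by_cases hi : i < N + 1
      · exact Algebra.subset_adjoin ⟨⟨i, hi⟩, rfl⟩
      · rw [Polynomial.coeff_eq_zero_of_natDegree_lt
          (by rw [Matrix.charpoly_natDegree_eq_dim, Fintype.card_fin]; omega)]
        exact S₀.zero_mem
    have hl : b.charpoly ∈ Polynomial.lifts (algebraMap S₀ B) := by
      rw [Polynomial.lifts_iff_coeff_lifts]
      exact fun i => ⟨⟨_, hc i⟩, rfl⟩
    obtain ⟨q, hq, -, hqm⟩ := Polynomial.lifts_and_degree_eq_and_monic hl b.charpoly_monic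
    refine ⟨q, hqm, ?_⟩
    rw [← Polynomial.aeval_def, ← Polynomial.aeval_map_algebraMap B, hq, Matrix.aeval_self_charpoly]
  haveI := CharFin.exists_fg_of_isIntegral S₀ hS₀fg
  haveI : IsNoetherian S₀ (integralClosure S₀ B) := isNoetherian_of_isNoetherianRing_of_finite _ _
  have hle : Submodule.span S₀ (Set.range chB) ≤ Subalgebra.toSubmodule (integralClosure S₀ B) := by
    rw [Submodule.span_le]
    rintro _ ⟨p, rfl⟩
    show IsIntegral S₀ (CharFin.chr p)
    rw [CharFin.chr_eq_trace]
    exact CharFin.isIntegral_trace_comatrix S₀ hb hbgen hbint (CharFin.isComatrix_matOf p.2)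
  haveI : IsNoetherian S₀ (Subalgebra.toSubmodule (integralClosure S₀ B)) :=
    inferInstanceAs (IsNoetherian S₀ (integralClosure S₀ B))
  have hfg : (Submodule.span S₀ (Set.range chB)).FG := Submodule.FG.of_le_of_isNoetherian hle
  obtain ⟨F, hFsub, hF⟩ := (Submodule.fg_span_iff_fg_span_finset_subset _).mp hfg
  refine ⟨F, hFsub, fun x hx => ?_⟩
  have h₁ : x ∈ Submodule.span S₀ (Set.range chB) := Submodule.span_le_restrictScalars ℂ S₀ _ hx
  rw [hF] at h₁
  clear hx
  induction h₁ using Submodule.span_induction with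
  | mem y hy => exact Submodule.subset_span hy
  | zero => exact Submodule.zero_mem _
  | add y z _ _ hy hz => exact Submodule.add_mem _ hy hz
  | smul c y _ hy => exact Submodule.smul_mem _ (⟨c, hS₀S c.2⟩ : S) hy

end Groth.Agent.S20019
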