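import Groth.Statements.S2002
import Groth.Agent.GluePairLib.Descent
import Mathlib
-- import your own Groth.Agent.* helpers here

set_option autoImplicit false
universe u
open TensorProduct
open EtAlg

namespace Groth.Agent.S2002

/-- Let (R -> R', f) be a glueing pair and M any R-module. Then M is flat over R if and only if R' ⊗_R M
is flat over R' and M_f is flat over R_f. -/
theorem result (R R' : Type u) [CommRing R] [CommRing R'] [Algebra R R'] (f : R)
    (hRR : EtGlue.IsGlueingPair R R' f) (M : Type u) [AddCommGroup M] [Module R M] :
    Module.Flat R M ↔ Module.Flat R' (R' ⊗[R] M) ∧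
      Module.Flat (Localization.Away f) (LocalizedModule (Submonoid.powers f) M) := by
  let e := LocalizedModule.equivTensorProduct (Submonoid.powers f) M
  constructor
  · intro _
    exact ⟨inferInstance, Module.Flat.of_linearEquiv e⟩
  · rintro ⟨h1, h2⟩
    haveI : Module.Flat (Localization.Away f) (Localization.Away f ⊗[R] M) :=
      @Module.Flat.of_linearEquiv _ _ _ _ _ _ _ _ h2 e.symm
    exact Groth.Agent.GluePairLib.flat hRR M

end Groth.Agent.S2002
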