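import Groth.Statements.S20022
import Groth.Agent.GrInjLib.Pieces

set_option autoImplicit false
universe u
open GrLC

namespace Groth.Agent.S20022

/-- Let R be a commutative ℤ-graded ring whose degree-zero subring R_0 is a field k and which is the
Laurent polynomial ring k[T, T⁻¹] on a homogeneous invertible element T of positive degree d, in the
following intrinsic sense: T is a unit lying in R_d, and every nonzero homogeneous element of degree
n equals a·T^j for some a ∈ R_0 and some integer j with j·d = n (so R_n = 0 unless d divides n, and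
R_{jd} = k·T^j). Then every graded R-module M is free in the graded sense: M has an R-basis
consisting of homogeneous elements. (The other case of condition (2), R = k concentrated in degree
zero, is not included.) -/
theorem result (R : Type u) [CommRing R]
    (𝒜 : ℤ → AddSubgroup R) [GradedRing 𝒜] (h0 : IsField (GrLC.deg0 𝒜))
    (d : ℤ) (hd : 0 < d) (T : Rˣ) (hT : (T : R) ∈ 𝒜 d)
    (hA : ∀ (n : ℤ) (x : R), x ∈ 𝒜 n → x ≠ 0 →
      ∃ j : ℤ, ∃ a ∈ 𝒜 0, j * d = n ∧ x = a * ((T ^ j : Rˣ) : R))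
    (M : Type u) [AddCommGroup M] [Module R M] (ℳ : ℤ → AddSubgroup M)
    [DirectSum.Decomposition ℳ] [SetLike.GradedSMul 𝒜 ℳ] :
    ∃ (κ : Type u) (b : Module.Basis κ R M), ∀ i : κ, SetLike.IsHomogeneousElem ℳ (b i) := by
  classical
  letI : Field (GrLC.deg0 𝒜) := h0.toField
  have hTinv : ((T⁻¹ : Rˣ) : R) ∈ 𝒜 (-d) := by
    have h1 : (T : R) * (DirectSum.decompose 𝒜 ((T⁻¹ : Rˣ) : R) (-d) : R) = 1 := by
      rw [← DirectSum.coe_decompose_mul_add_of_left_mem 𝒜 hT, add_neg_cancel, Units.mul_inv,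
        DirectSum.decompose_of_mem_same 𝒜 (SetLike.GradedOne.one_mem (A := 𝒜))]
    rw [show ((T⁻¹ : Rˣ) : R) = (DirectSum.decompose 𝒜 ((T⁻¹ : Rˣ) : R) (-d) : R) from
      (Units.inv_eq_of_mul_eq_one_right h1)]
    exact (DirectSum.decompose 𝒜 ((T⁻¹ : Rˣ) : R) (-d)).2
  have hpow : ∀ j : ℤ, ((T ^ j : Rˣ) : R) ∈ 𝒜 (j * d) := by
    intro j
    induction j using Int.induction_on with
    | zero => simpa using SetLike.GradedOne.one_mem (A := 𝒜)
    | succ j ih =>
      rw [zpow_add_one, Units.val_mul, add_mul, one_mul]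
      exact SetLike.GradedMul.mul_mem ih hT
    | pred j ih =>
      rw [zpow_sub_one, Units.val_mul, sub_mul, one_mul, sub_eq_add_neg]
      exact SetLike.GradedMul.mul_mem ih hTinv
  -- the bases of the pieces in degrees `0 ≤ r < d`
  let B := fun r : Fin d.toNat => Module.Basis.ofVectorSpace (GrLC.deg0 𝒜) (GrLC.comp 𝒜 ℳ (r : ℤ))
  let v : (Σ r : Fin d.toNat, Module.Basis.ofVectorSpaceIndex (GrLC.deg0 𝒜) (GrLC.comp 𝒜 ℳ (r : ℤ))) → M :=
    fun p => (B p.1 p.2).1
  have hv : ∀ p, v p ∈ ℳ ((p.1 : ℕ) : ℤ) := fun p => (B p.1 p.2).2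
  have hli : LinearIndependent R v := by
    rw [linearIndependent_iff']
    intro s c hc p hp
    rw [← DirectSum.sum_support_decompose 𝒜 (c p)]
    refine Finset.sum_eq_zero fun g _ => ?_
    by_cases hz : (DirectSum.decompose 𝒜 (c p) g : R) = 0
    · exact hz
    obtain ⟨j, -, -, hjd, -⟩ := hA g _ (DirectSum.decompose 𝒜 (c p) g).2 hz
    obtain ⟨r, ip⟩ := p
    -- the coefficients in degree zero
    let a : (Σ r : Fin d.toNat, Module.Basis.ofVectorSpaceIndex (GrLC.deg0 𝒜) (GrLC.comp 𝒜 ℳ (r : ℤ))) → GrLC.deg0 𝒜 :=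
      fun p => ⟨((T ^ (-j) : Rˣ) : R) * (DirectSum.decompose 𝒜 (c p) g : R), by
        have := SetLike.GradedMul.mul_mem (A := 𝒜) (hpow (-j)) (DirectSum.decompose 𝒜 (c p) g).2
        rwa [show -j * d + g = 0 by rw [neg_mul, hjd, neg_add_cancel]] at this⟩
    have hproj : ∀ (b : R) (g' e : ℤ) (x : M), x ∈ ℳ e →
        GrInjLib.proj ℳ (g' + e) (b • x) = (DirectSum.decompose 𝒜 b g' : R) • x := by
      intro b g' e x hx
      induction b using GrInjLib.smul_induction 𝒜 with
      | h0 => simp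
      | hadd r s hr hs => rw [add_smul, map_add, hr, hs, DirectSum.decompose_add, DirectSum.add_apply, AddSubgroup.coe_add, add_smul]
      | hhom a' r hr =>
        have hm := GrInjLib.smul_mem 𝒜 ℳ hr hx
        by_cases h : a' = g'
        · subst h; rw [DirectSum.decompose_of_mem_same 𝒜 hr, GrInjLib.proj_of_mem ℳ hm]
        · rw [DirectSum.decompose_of_mem_ne 𝒜 hr h, zero_smul, GrInjLib.proj_of_mem_ne ℳ hm (by omega)]
    let ev : ∀ q : (Σ r : Fin d.toNat, Module.Basis.ofVectorSpaceIndex (GrLC.deg0 𝒜) (GrLC.comp 𝒜 ℳ (r : ℤ))),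
        M := fun q => if q.1 = r then (DirectSum.decompose 𝒜 (c q) g : R) • v q else 0
    have hsum : ∑ q ∈ s, ev q = 0 := by
      have h1 := congrArg (GrInjLib.proj ℳ (g + ((r : ℕ) : ℤ))) hc
      rw [map_sum, map_zero] at h1
      refine Eq.trans (Finset.sum_congr rfl fun q _ => ?_) h1
      have h2 := hproj (c q) (g + ((r : ℕ) : ℤ) - ((q.1 : ℕ) : ℤ)) _ (v q) (hv q)
      rw [sub_add_cancel] at h2
      rw [h2]
      by_cases hq : q.1 = r
      · rw [show ev q = (DirectSum.decompose 𝒜 (c q) g : R) • v q from if_pos hq, hq, add_sub_cancel_right]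
      · rw [show ev q = 0 from if_neg hq]
        by_cases h0' : (DirectSum.decompose 𝒜 (c q) (g + ((r : ℕ) : ℤ) - ((q.1 : ℕ) : ℤ)) : R) = 0
        · rw [h0', zero_smul]
        · obtain ⟨j', -, -, hj', -⟩ := hA _ _ (DirectSum.decompose 𝒜 (c q) _).2 h0'
          exfalso
          refine hq (Fin.ext ?_)
          have h3 : (j' - j) * d = ((r : ℕ) : ℤ) - ((q.1 : ℕ) : ℤ) := by rw [sub_mul, hj', hjd]; ring
          have hr1 : ((r : ℕ) : ℤ) < d := by have := r.2; omega
          have hr2 : ((q.1 : ℕ) : ℤ) < d := by have := q.1.2; omega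
          rcases lt_trichotomy (j' - j) 0 with h4 | h4 | h4
          · nlinarith
          · rw [h4, zero_mul] at h3; omega
          · nlinarith
    -- read the relation in the basis of the piece of degree `r`
    let s' := (s.filter fun q => q.1 = r)
    have hs' : ∑ q ∈ s', ((a q : R) • v q) = 0 := by
      have h1 : ∑ q ∈ s', (DirectSum.decompose 𝒜 (c q) g : R) • v q = 0 := by
        rw [Finset.sum_filter]
        exact hsum
      rw [show (∑ q ∈ s', ((a q : R) • v q)) = ((T ^ (-j) : Rˣ) : R) • ∑ q ∈ s', (DirectSum.decompose 𝒜 (c q) g : R) • v q by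
        rw [Finset.smul_sum]; exact Finset.sum_congr rfl fun q _ => mul_smul _ _ _, h1, smul_zero]
    have hmem : ∀ q ∈ s', q.1 = r := fun q hq => (Finset.mem_filter.1 hq).2
    let t : Finset (Module.Basis.ofVectorSpaceIndex (GrLC.deg0 𝒜) (GrLC.comp 𝒜 ℳ (r : ℤ))) :=
      s'.preimage (fun i => (⟨r, i⟩ : Σ r : Fin d.toNat, Module.Basis.ofVectorSpaceIndex (GrLC.deg0 𝒜) (GrLC.comp 𝒜 ℳ (r : ℤ))))
        (fun i _ i' _ e => eq_of_heq (Sigma.mk.inj_iff.1 e).2)
    have ht : ∑ i ∈ t, a ⟨r, i⟩ • B r i = 0 := by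
      refine Subtype.ext ?_
      rw [Submodule.coe_sum, ZeroMemClass.coe_zero, ← hs']
      refine Finset.sum_preimage _ s' (fun i _ i' _ e => eq_of_heq (Sigma.mk.inj_iff.1 e).2) (fun q => (a q : R) • v q) fun q hq hn => absurd ?_ hn
      obtain ⟨r', i'⟩ := q
      have : r' = r := hmem _ hq
      subst this
      exact ⟨i', rfl⟩
    have ha0 := linearIndependent_iff'.1 (B r).linearIndependent t (fun i => a ⟨r, i⟩) ht ip
      (Finset.mem_preimage.2 (Finset.mem_filter.2 ⟨hp, rfl⟩))
    have h5 : ((T ^ (-j) : Rˣ) : R) * (DirectSum.decompose 𝒜 (c ⟨r, ip⟩) g : R) = 0 := congrArg Subtype.val ha0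
    exact (Units.mul_right_eq_zero _).1 h5
  have hsp : ⊤ ≤ Submodule.span R (Set.range v) := by
    intro x _
    induction x using DirectSum.Decomposition.inductionOn ℳ with
    | zero => exact zero_mem _
    | add y z hy hz => exact add_mem (hy trivial) (hz trivial)
    | @homogeneous g x =>
      set j := g / d with hj
      have hr0 : 0 ≤ g % d := Int.emod_nonneg _ hd.ne'
      have hr1 : g % d < d := Int.emod_lt_of_pos _ hd
      let r : Fin d.toNat := ⟨(g % d).toNat, by omega⟩
      have hrv : ((r : ℕ) : ℤ) = g % d := Int.toNat_of_nonneg hr0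
      have hy : ((T ^ (-j) : Rˣ) : R) • (x : M) ∈ ℳ ((r : ℕ) : ℤ) := by
        have := GrInjLib.smul_mem 𝒜 ℳ (hpow (-j)) x.2
        rwa [show -j * d + g = ((r : ℕ) : ℤ) by rw [hrv, hj, Int.emod_def]; ring] at this
      have hmem : ((T ^ (-j) : Rˣ) : R) • (x : M) ∈ Submodule.span R (Set.range v) := by
        have h1 := (B r).mem_span ⟨_, hy⟩
        have key : ∀ y : GrLC.comp 𝒜 ℳ (r : ℤ), y ∈ Submodule.span (GrLC.deg0 𝒜) (Set.range (B r)) →
            (y : M) ∈ Submodule.span R (Set.range v) := by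
          intro y hy
          induction hy using Submodule.span_induction with
          | mem y hy =>
            obtain ⟨i, rfl⟩ := hy
            exact Submodule.subset_span ⟨⟨r, i⟩, rfl⟩
          | zero => exact zero_mem _
          | add y z _ _ hy hz => exact add_mem hy hz
          | smul b y _ hy => exact Submodule.smul_mem _ (b : R) hy
        exact key _ h1
      rw [show (x : M) = ((T ^ j : Rˣ) : R) • (((T ^ (-j) : Rˣ) : R) • (x : M)) by
        rw [← mul_smul, ← Units.val_mul, ← zpow_add, add_neg_cancel, zpow_zero, Units.val_one, one_smul]]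
      exact Submodule.smul_mem _ _ hmem
  exact ⟨_, Module.Basis.mk hli hsp, fun p => ⟨_, by rw [Module.Basis.mk_apply]; exact hv p⟩⟩

end Groth.Agent.S20022
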