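import Groth.Statements.S20025
import Groth.Prelude.Def_W4c6intromoduliQuartic
import Mathlib

set_option autoImplicit false
universe u
open InvQ

namespace Groth.Agent.S20025

open MvPolynomial
set_option maxHeartbeats 800000

variable {k : Type u} [Field k]

lemma lin_subst (M : Matrix (Fin 2) (Fin 2) k) (i : Fin 2) :
    W4c6intromoduli.subst M (X i) = C (M i 0) * X 0 + C (M i 1) * X 1 := by
  simp [W4c6intromoduli.subst, Fin.sum_univ_two]

lemma lin_prop {a b c d : k} (hab : a ≠ 0 ∨ b ≠ 0) (hcd : c ≠ 0 ∨ d ≠ 0) (h : a * d = c * b) :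
    ∃ s : k, s ≠ 0 ∧ c = s * a ∧ d = s * b := by
  by_cases ha : a = 0
  · subst ha
    have hb : b ≠ 0 := hab.resolve_left (by simp)
    have hc : c = 0 := by simpa [hb] using h.symm
    refine ⟨d / b, div_ne_zero (hcd.resolve_left (by simp [hc])) hb, by simp [hc], by field_simp⟩
  · refine ⟨c / a, ?_, by field_simp, by field_simp; linear_combination h⟩
    intro hc
    rw [div_eq_zero_iff] at hc
    rcases hc with rfl | hc
    · simp [ha] at h; exact hcd.elim (fun h' => h' rfl) (fun h' => h' h)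
    · exact ha hc

lemma exists_rest : ∀ i j : Fin 4, i ≠ j → ∃ a b : Fin 4, a ≠ i ∧ a ≠ j ∧ b ≠ i ∧ b ≠ j ∧ a ≠ b ∧
    (Finset.univ : Finset (Fin 4)) = {i, j, a, b} := by decide

lemma not_both (M N : Matrix (Fin 2) (Fin 2) k) (c d : k) (hM : M.det ≠ 0) (hN : N.det ≠ 0)
    (hd : d ≠ 0)
    (h : C c * W4c6intromoduli.subst M (X 0 ^ 2 * X 1 * (X 0 - X 1)) =
      C d * W4c6intromoduli.subst N (X 0 ^ 2 * X 1 ^ 2)) : False := by
  simp only [map_mul, map_sub, map_pow, lin_subst] at h
  let U := fun x y : k => N 0 0 * x + N 0 1 * y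
  let V := fun x y : k => N 1 0 * x + N 1 1 * y
  have key : ∀ x y : k, (M 0 0 * x + M 0 1 * y) ^ 2 * (M 1 0 * x + M 1 1 * y) *
      ((M 0 0 * x + M 0 1 * y) - (M 1 0 * x + M 1 1 * y)) = 0 → U x y * V x y = 0 := by
    intro x y h0
    have h1 := congrArg (MvPolynomial.eval ![x, y]) h
    simp at h1
    rw [h0, mul_zero] at h1
    have : d * (U x y * V x y) ^ 2 = 0 := by simp only [U, V]; linear_combination -h1
    simpa [hd] using this
  have h1 := key (M 0 1) (-M 0 0) (by ring)
  have h2 := key (M 1 1) (-M 1 0) (by ring)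
  have h3 := key (M 0 1 - M 1 1) (-M 0 0 + M 1 0) (by ring)
  have hdet : U (M 0 1) (-M 0 0) * V (M 1 1) (-M 1 0) - U (M 1 1) (-M 1 0) * V (M 0 1) (-M 0 0) ≠ 0 := by
    have : U (M 0 1) (-M 0 0) * V (M 1 1) (-M 1 0) - U (M 1 1) (-M 1 0) * V (M 0 1) (-M 0 0) =
        N.det * M.det := by simp only [U, V, Matrix.det_fin_two]; ring
    rw [this]; exact mul_ne_zero hN hM
  have e3 : U (M 0 1 - M 1 1) (-M 0 0 + M 1 0) * V (M 0 1 - M 1 1) (-M 0 0 + M 1 0) =
      (U (M 0 1) (-M 0 0) - U (M 1 1) (-M 1 0)) * (V (M 0 1) (-M 0 0) - V (M 1 1) (-M 1 0)) := by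
    simp only [U, V]; ring
  rw [e3] at h3
  rcases mul_eq_zero.1 h1 with hu | hv
  · rw [hu, zero_mul, zero_sub, neg_ne_zero, mul_ne_zero_iff] at hdet
    rw [hu, (mul_eq_zero.1 h2).resolve_left hdet.1] at h3
    simp [hdet.1, hdet.2] at h3
  · rw [hv, mul_zero, sub_zero, mul_ne_zero_iff] at hdet
    rw [hv, (mul_eq_zero.1 h2).resolve_right hdet.2] at h3
    simp [hdet.1, hdet.2] at h3

/-- For the special fibre of the invariant map, over a field in which 2 and 3 are nonzero, consider a
split binary quartic f = ∏_i (μ_i X₀ − λ_i X₁) given by four root points (λ_i, μ_i) ≠ (0, 0), with a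
double zero (vanishing discriminant ∏_{i<j} (λ_j μ_i − λ_i μ_j)²) and no triple zero (no three root
points pairwise proportional); these are the forms of the fibre over the special point P³/Q² = 6 of
the invariant map. Then exactly one of the two alternatives holds: f is a nonzero constant times the
form X₀² X₁ (X₀ − X₁) after an invertible linear substitution of the variables, or f is a nonzero
constant times X₀² X₁² after such a substitution. So this fibre consists of exactly two classes
under substitutions and scalars (one double zero and two simple zeros; two double zeros). (The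
dimensions of the two orbits and which of them is open or closed in the fibre are not part of this
row; stated for split forms over any such field.) -/
theorem result (k : Type u) [Field k]
    (h2 : (2 : k) ≠ 0) (h3 : (3 : k) ≠ 0) (la mu : Fin 4 → k)
    (hne : ∀ i, la i ≠ 0 ∨ mu i ≠ 0) (hd : W4c6intromoduli.disc la mu = 0)
    (h3z : ∀ i j l : Fin 4, i ≠ j → j ≠ l → i ≠ l →
      ¬ (la i * mu j = la j * mu i ∧ la j * mu l = la l * mu j)) :
    Xor
      (∃ (M : Matrix (Fin 2) (Fin 2) k) (c : k), IsUnit M.det ∧ c ≠ 0 ∧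
        W4c6intromoduli.binForm la mu =
          MvPolynomial.C c * W4c6intromoduli.subst M
            (MvPolynomial.X 0 ^ 2 * MvPolynomial.X 1 * (MvPolynomial.X 0 - MvPolynomial.X 1)))
      (∃ (M : Matrix (Fin 2) (Fin 2) k) (c : k), IsUnit M.det ∧ c ≠ 0 ∧
        W4c6intromoduli.binForm la mu =
          MvPolynomial.C c * W4c6intromoduli.subst M
            (MvPolynomial.X 0 ^ 2 * MvPolynomial.X 1 ^ 2)) := by
  obtain ⟨⟨i, j⟩, hp, hz⟩ := Finset.prod_eq_zero_iff.1 hd
  have hij : i < j := (Finset.mem_filter.1 hp).2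
  rw [pow_eq_zero_iff two_ne_zero, sub_eq_zero] at hz
  obtain ⟨a, b, hai, haj, hbi, hbj, hab, huniv⟩ := exists_rest i j hij.ne
  obtain ⟨s, hs, hs1, hs2⟩ := lin_prop (hne i) (hne j) (show la i * mu j = la j * mu i by simpa [mul_comm] using hz.symm)
  have hia : la i * mu a ≠ la a * mu i := fun h => h3z j i a hij.ne' hai.symm haj.symm
    ⟨by simpa [mul_comm] using hz, h⟩
  have hib : la i * mu b ≠ la b * mu i := fun h => h3z j i b hij.ne' hbi.symm hbj.symm
    ⟨by simpa [mul_comm] using hz, h⟩
  have hf : W4c6intromoduli.binForm la mu = C s * (C (mu i) * X 0 - C (la i) * X 1) ^ 2 *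
      ((C (mu a) * X 0 - C (la a) * X 1) * (C (mu b) * X 0 - C (la b) * X 1)) := by
    rw [W4c6intromoduli.binForm, huniv, Finset.prod_insert (by simp [hij.ne, hai.symm, hbi.symm]),
      Finset.prod_insert (by simp [haj.symm, hbj.symm]), Finset.prod_insert (by simp [hab]),
      Finset.prod_singleton, hs1, hs2, map_mul, map_mul]
    ring
  have excl : ∀ (P : Prop) (Q : Prop), (P → Q → False) → (P ∨ Q) → Xor P Q := fun P Q hn ho =>
    ho.elim (fun p => Or.inl ⟨p, fun q => hn p q⟩) (fun q => Or.inr ⟨q, fun p => hn p q⟩)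
  refine excl _ _ ?_ ?_
  · rintro ⟨M, c, hM, hc, e1⟩ ⟨N, d, hN, hd', e2⟩
    exact not_both M N c d hM.ne_zero hN.ne_zero hd' (e1.symm.trans e2)
  by_cases hab' : la a * mu b = la b * mu a
  · obtain ⟨t, ht, ht1, ht2⟩ := lin_prop (hne a) (hne b) hab'
    refine Or.inr ⟨!![mu i, -la i; mu a, -la a], s * t, ?_, mul_ne_zero hs ht, ?_⟩
    · rw [Matrix.det_fin_two_of]
      refine Ne.isUnit fun h => hia ?_
      linear_combination h
    · rw [hf, ht1, ht2]
      simp only [map_mul, map_pow, lin_subst]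
      simp
      ring
  · set D := la a * mu b - la b * mu a with hD
    have hD0 : D ≠ 0 := sub_ne_zero.2 hab'
    obtain ⟨α, hα⟩ : ∃ α, α = (la i * mu b - la b * mu i) / D := ⟨_, rfl⟩
    obtain ⟨β, hβ⟩ : ∃ β, β = (la a * mu i - la i * mu a) / D := ⟨_, rfl⟩
    have hα0 : α ≠ 0 := by rw [hα]; exact div_ne_zero (sub_ne_zero.2 hib) hD0
    have hβ0 : β ≠ 0 := by rw [hβ]; exact div_ne_zero (sub_ne_zero.2 (Ne.symm hia)) hD0
    have e1 : mu i = α * mu a + β * mu b := by rw [hα, hβ]; field_simp; rw [hD]; ring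
    have e2 : la i = α * la a + β * la b := by rw [hα, hβ]; field_simp; rw [hD]; ring
    refine Or.inl ⟨!![mu i, -la i; α * mu a, -(α * la a)], s / (α * β), ?_,
      div_ne_zero hs (mul_ne_zero hα0 hβ0), ?_⟩
    · rw [Matrix.det_fin_two_of]
      refine Ne.isUnit fun h => hia ?_
      have : α * (la i * mu a - la a * mu i) = 0 := by linear_combination h
      exact sub_eq_zero.1 ((mul_eq_zero.1 this).resolve_left hα0)
    · have key : (C s : MvPolynomial (Fin 2) k) = C (s / (α * β)) * (C α * C β) := by rw [← map_mul, ← map_mul]; congr 1; field_simp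
      rw [hf, key]
      simp only [map_mul, map_sub, map_pow, lin_subst]
      simp
      rw [e1, e2]
      simp only [map_add, map_mul]
      ring

end Groth.Agent.S20025
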