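import Groth.Statements.S20027
import Groth.Agent.GrCoreLib.VeronesePresent
import Groth.Agent.GrCoreLib.VeroneseType
import Groth.Agent.GorLib.Ring
import Groth.Agent.GorLib.CM

set_option autoImplicit false
universe u
open GrLC

namespace Groth.Agent.S20027
open Groth.Agent.GrCoreLib
attribute [local instance] MvPolynomial.weightedGradedAlgebra


/-- Let k be a field, s ≥ 1, d ≥ 1, and R = k[X_1, …, X_s] graded with every variable in degree 1.
Present the Veronese subring R^(d) = ⊕_j R_{jd} as a commutative ring R' with an injective ring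
homomorphism φ : R' → R whose image is the set of polynomials whose homogeneous components in all
degrees not divisible by d are zero, and let m' be the maximal ideal of R' that is the preimage of
the ideal of polynomials with zero constant term (the irrelevant ideal of R^(d)). Let n be the least
integer such that n ≥ s and d divides n. Then the type of R^(d), namely the Bass number μ_s(m', R')
= dim over the residue field of Ext^s over the local ring R'_{m'} from its residue field to R'_{m'}
(here s = dim R'), equals the binomial coefficient (n − 1 choose s − 1). -/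
theorem result (k : Type u) [Field k] (s d : ℕ) (hs : 1 ≤ s)
    (hd : 1 ≤ d) (R' : Type u) [CommRing R'] (φ : R' →+* MvPolynomial (Fin s) k)
    (hφ : Function.Injective φ)
    (hrange : ∀ p : MvPolynomial (Fin s) k, p ∈ φ.range ↔
      ∀ j : ℕ, ¬ d ∣ j → MvPolynomial.homogeneousComponent j p = 0)
    (m' : Ideal R') [m'.IsMaximal]
    (hm' : m' = Ideal.comap φ (RingHom.ker (MvPolynomial.constantCoeff : MvPolynomial (Fin s) k →+* k)))
    (n : ℕ) (hsn : s ≤ n) (hdn : d ∣ n) (hmin : ∀ n' : ℕ, s ≤ n' → d ∣ n' → n ≤ n') :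
    GrLC.bassNum m' R' s = (Nat.choose (n - 1) (s - 1) : ℕ∞) := by
  classical
  let w : Fin s → ℤ := fun _ => 1
  have hw : ∀ i, 0 < w i := fun _ => one_pos
  set 𝒜 := GrInjLib.ringPieces (MvPolynomial.weightedHomogeneousSubmodule k w) with h𝒜
  have hpos : ∀ n : ℤ, n < 0 → 𝒜 n = ⊥ := weighted_pos w hw
  have h0 := weighted_isField (k := k) w hw
  haveI hG : LocCoh.IsGorensteinRing (MvPolynomial (Fin s) k) := Groth.Agent.GorLib.gorensteinRing_of_regular _
  haveI : LocCoh.IsCohenMacaulayRing (MvPolynomial (Fin s) k) :=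
    { isCohenMacaulayLocalRing_localization := fun p _ =>
        Groth.Agent.GorLib.isCohenMacaulay _ (hG.isGorensteinLocalRing_localization p) }
  have hn : ringKrullDim (MvPolynomial (Fin s) k) = s := by
    rw [MvPolynomial.ringKrullDim_of_isNoetherianRing, ringKrullDim_eq_zero_of_field]
    simp
  have hX1 : ∀ i : Fin s, (MvPolynomial.X i : MvPolynomial (Fin s) k) ∈ 𝒜 1 := fun i =>
    (MvPolynomial.mem_weightedHomogeneousSubmodule k w _ _).2 (MvPolynomial.isWeightedHomogeneous_X k w i)
  have hstd : Groth.Agent.GrFieldLib.irr 𝒜 = Ideal.span ((𝒜 1 : AddSubgroup _) : Set (MvPolynomial (Fin s) k)) := by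
    refine le_antisymm ?_ (Ideal.span_le.2 fun y hy =>
      Ideal.subset_span (Set.mem_iUnion₂.2 ⟨1, show (0 : ℤ) < 1 from one_pos, hy⟩))
    rw [h𝒜, weighted_irr w hw, Ideal.span_le]
    rintro _ ⟨i, rfl⟩
    exact Ideal.subset_span (hX1 i)
  let m := irrH 𝒜
  have hm := isStarLocal_irrH hpos h0
  obtain ⟨I⟩ := GrInjLib.exists_starInjRes 𝒜 𝒜
  have ha : GrLC.endDeg (I.Hgr m s) = (((-(s : ℤ) : ℤ) : WithTop ℤ) : WithBot (WithTop ℤ)) := by
    have h := weighted_endDeg w hw (m := m) rfl I
    simpa [w] using h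
  have hdeg : ∀ (e : Fin s →₀ ℕ), Finsupp.weight w e = ((e.degree : ℕ) : ℤ) := fun e => by
    rw [weight_one_eq_sum, Finsupp.degree_eq_sum]
  have hcoeff : ∀ (x : MvPolynomial (Fin s) k) (i : ℤ) (e : Fin s →₀ ℕ),
      MvPolynomial.coeff e (DirectSum.decompose 𝒜 x i : MvPolynomial (Fin s) k) ≠ 0 →
        Finsupp.weight w e = i ∧ MvPolynomial.coeff e x ≠ 0 := by
    intro x i e he
    have hmem : ∀ j, ∀ f, MvPolynomial.coeff f (DirectSum.decompose 𝒜 x j : MvPolynomial (Fin s) k) ≠ 0 →
        Finsupp.weight w f = j := fun j f hf =>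
      (MvPolynomial.mem_weightedHomogeneousSubmodule k w j _).1 (DirectSum.decompose 𝒜 x j).2 hf
    refine ⟨hmem i e he, ?_⟩
    rw [← DirectSum.sum_support_decompose 𝒜 x, MvPolynomial.coeff_sum, Finset.sum_eq_single i]
    · exact he
    · intro j _ hj
      by_contra hne
      exact hj ((hmem j e hne).symm.trans (hmem i e he))
    · intro hi
      rw [DFinsupp.notMem_support_iff.1 hi]
      rfl
  obtain ⟨hgr', hV⟩ := exists_pullGradedRing 𝒜 φ d hd hφ (fun j x hx => by
      rw [hrange]
      intro l hl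
      ext e
      rw [MvPolynomial.coeff_homogeneousComponent, MvPolynomial.coeff_zero]
      split_ifs with he
      · by_contra hne
        have h1 := (MvPolynomial.mem_weightedHomogeneousSubmodule k w _ _).1 hx hne
        rw [hdeg, he] at h1
        refine hl (Int.natCast_dvd_natCast.1 ?_)
        exact ⟨j, h1.trans (mul_comm _ _)⟩
      · rfl) (fun x i hi => by
      by_contra hne
      obtain ⟨e, he⟩ := MvPolynomial.support_nonempty.2 hne
      obtain ⟨hei, hex⟩ := hcoeff _ i e (MvPolynomial.mem_support_iff.1 he)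
      have h1 := (hrange (φ x)).1 ⟨x, rfl⟩ e.degree (fun h => hi (by
        rw [← hei, hdeg]; exact Int.natCast_dvd_natCast.2 h))
      refine hex ?_
      have h2 := congrArg (MvPolynomial.coeff e) h1
      rwa [MvPolynomial.coeff_homogeneousComponent, if_pos rfl, MvPolynomial.coeff_zero] at h2)
  have hm'' : m' = Groth.Agent.GrFieldLib.irr (pullPieces 𝒜 φ d) := by
    have hpos' := veronese_pos hV hpos
    have h0' := veronese_isField hV h0
    refine ((Groth.Agent.GrFieldLib.irr_isMaximal _ hpos' h0').eq_of_le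
      (Ideal.IsMaximal.ne_top ‹m'.IsMaximal›) ?_).symm
    refine Ideal.span_le.2 fun y hy => ?_
    obtain ⟨j, hj, hyj⟩ := Set.mem_iUnion₂.1 hy
    show y ∈ m'
    rw [hm', Ideal.mem_comap, RingHom.mem_ker, MvPolynomial.constantCoeff_eq]
    by_contra hne
    have h1 := (MvPolynomial.mem_weightedHomogeneousSubmodule k w _ _).1 (hV.map_mem hyj) hne
    rw [map_zero] at h1
    have : (0 : ℤ) < j * (d : ℤ) := mul_pos hj (by exact_mod_cast hd)
    omega
  have hρ : ((n - s : ℕ) : ℤ) < d := by
    by_contra h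
    have := hmin (n - d) (by omega) (Nat.dvd_sub hdn dvd_rfl)
    omega
  rw [bassNum_veronese hV hpos h0 hm rfl hstd hn I ha (ρ := ((n - s : ℕ) : ℤ)) (Int.natCast_nonneg _) hρ
    (by rw [show -(s : ℤ) - ((n - s : ℕ) : ℤ) = -(n : ℤ) by omega]; exact (Int.natCast_dvd_natCast.2 hdn).neg_right)
    m' hm'', finrank_deg0_weighted_one k (n - s)]
  norm_cast
  rw [show s + (n - s) - 1 = n - 1 by omega]
  exact Nat.choose_symm_of_eq_add (by omega)

end Groth.Agent.S20027
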