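import Groth.Statements.S2004
import Groth.Agent.GluePairLib.Descent
import Mathlib
-- import your own Groth.Agent.* helpers here

set_option autoImplicit false
universe u
open TensorProduct
open EtAlg

namespace Groth.Agent.S2004

/-- Let R -> R' induce bijections R/f^n R -> R'/f^n R' for all n > 0. Then (R -> R', f) is a glueing
pair if and only if R -> R' maps the f-power torsion of R bijectively onto the f-power torsion of R'
(stated as: injective on f-power torsion elements, and every f-power torsion element of R' is the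
image of one of R). -/
theorem result (R R' : Type u) [CommRing R] [CommRing R'] [Algebra R R'] (f : R)
    (hq : EtGlue.QuotPowBijective R R' f) :
    EtGlue.IsGlueingPair R R' f ↔
      ((∀ x : R, (∃ n : ℕ, f ^ n * x = 0) → algebraMap R R' x = 0 → x = 0) ∧
       (∀ x' : R', (∃ n : ℕ, algebraMap R R' f ^ n * x' = 0) →
          ∃ x : R, (∃ n : ℕ, f ^ n * x = 0) ∧ algebraMap R R' x = x')) := by
  let g := algebraMap R R' f
  constructor
  · intro h
    refine ⟨?_, ?_⟩
    · rintro x ⟨n, hn⟩ hx
      apply h.2.1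
      have hn' : algebraMap R (Localization.Away f) x = 0 :=
        (IsLocalization.map_eq_zero_iff (Submonoid.powers f) _ x).2 ⟨⟨f ^ n, n, rfl⟩, hn⟩
      simp only [hx, hn', map_zero]
    · rintro x' ⟨n, hn⟩
      have hn' : algebraMap R' (Localization.Away g) x' = 0 :=
        (IsLocalization.map_eq_zero_iff (Submonoid.powers g) _ x').2 ⟨⟨g ^ n, n, rfl⟩, hn⟩
      obtain ⟨x, hx1, hx2⟩ := h.2.2.1 x' 0 (by rw [hn', map_zero])
      obtain ⟨⟨_, k, rfl⟩, hk⟩ := (IsLocalization.map_eq_zero_iff (Submonoid.powers f) _ x).1 hx2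
      exact ⟨x, ⟨k, hk⟩, hx1⟩
  · rintro ⟨h1, h2⟩
    refine ⟨hq, ?_, ?_, ?_⟩
    · intro a b hab
      simp only [Prod.mk.injEq] at hab
      obtain ⟨⟨_, n, rfl⟩, hn⟩ := (IsLocalization.eq_iff_exists (Submonoid.powers f) _).1 hab.2
      exact sub_eq_zero.1 (h1 _ ⟨n, by rw [mul_sub]; exact sub_eq_zero.2 hn⟩ (by rw [map_sub, hab.1, sub_self]))
    · intro x y hxy
      obtain ⟨⟨r, ⟨_, n, rfl⟩⟩, rfl⟩ := IsLocalization.mk'_surjective (Submonoid.powers f) y
      have he : ∀ a : R, Localization.awayMap (algebraMap R R') f (algebraMap R (Localization.Away f) a) =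
          algebraMap R' _ (algebraMap R R' a) := fun a => IsLocalization.map_eq _ a
      have h3 := congrArg (Localization.awayMap (algebraMap R R') f)
        (IsLocalization.mk'_spec (Localization.Away f) r (⟨f ^ n, n, rfl⟩ : Submonoid.powers f))
      rw [map_mul, he, he, ← hxy, ← map_mul] at h3
      obtain ⟨⟨_, k, rfl⟩, hk⟩ := (IsLocalization.eq_iff_exists (Submonoid.powers g) _).1 h3
      simp only [g, map_pow] at hk
      obtain ⟨r0, s, hs⟩ : ∃ r0 s, x = algebraMap R R' r0 + algebraMap R R' (f ^ (k + n + 1)) * s :=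
        Groth.Agent.GluePairLib.exists_sub_mem_span hq (Nat.succ_pos _) x
      obtain ⟨c, hc⟩ := Groth.Agent.GluePairLib.exists_eq_mul hq (n := (k + n) + (k + n + 1)) (by omega)
        (r := f ^ k * r - f ^ (k + n) * r0) (s := s) (by
          simp only [map_sub, map_mul, map_pow, pow_add, pow_one] at hs ⊢
          rw [← hk, hs]; ring)
      obtain ⟨t, ⟨j, ht⟩, ht'⟩ := h2 (x - algebraMap R R' (r0 + f ^ (k + n + 1) * c)) ⟨k + n, by
        have := congrArg (algebraMap R R') hc
        simp only [map_sub, map_mul, map_add, map_pow, pow_add, pow_one] at this hk ⊢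
        linear_combination hk + this⟩
      refine ⟨r0 + f ^ (k + n + 1) * c + t, by rw [map_add, ht']; ring, ?_⟩
      rw [IsLocalization.eq_mk'_iff_mul_eq, ← map_mul, IsLocalization.eq_iff_exists (Submonoid.powers f)]
      refine ⟨⟨f ^ (k + j), k + j, rfl⟩, ?_⟩
      simp only [pow_add, pow_one] at hc ht ⊢
      linear_combination (-f ^ j) * hc + (f ^ k * f ^ n) * ht
    · intro z
      obtain ⟨⟨r', ⟨_, n, rfl⟩⟩, rfl⟩ := IsLocalization.mk'_surjective (Submonoid.powers g) z
      rcases Nat.eq_zero_or_pos n with rfl | hn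
      · refine ⟨r', 0, ?_⟩
        rw [map_zero, sub_zero, IsLocalization.eq_mk'_iff_mul_eq]
        simp
      obtain ⟨r, s, hrs⟩ := Groth.Agent.GluePairLib.exists_sub_mem_span hq hn r'
      refine ⟨s, -IsLocalization.mk' _ r (⟨f ^ n, n, rfl⟩ : Submonoid.powers f), ?_⟩
      have he : ∀ a : R, Localization.awayMap (algebraMap R R') f (algebraMap R (Localization.Away f) a) =
          algebraMap R' _ (algebraMap R R' a) := fun a => IsLocalization.map_eq _ a
      have h3 := congrArg (Localization.awayMap (algebraMap R R') f)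
        (IsLocalization.mk'_spec (Localization.Away f) r (⟨f ^ n, n, rfl⟩ : Submonoid.powers f))
      rw [map_mul, he, he] at h3
      rw [map_neg, sub_neg_eq_add, IsLocalization.eq_mk'_iff_mul_eq]
      simp only [g, map_pow] at h3 ⊢
      rw [hrs, map_add, map_mul, map_pow, map_pow]
      linear_combination h3

end Groth.Agent.S2004
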