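import Groth.Statements.S2008
import Mathlib
import Groth.Agent.TorsBCLib.Basic
-- import your own Groth.Agent.* helpers here

set_option autoImplicit false
universe u
open TensorProduct
open EtAlg

namespace Groth.Agent.S2008

/-- For a ring map R -> S and an ideal I of R the following are equivalent: (1) S is flat over R and
S/IS is faithfully flat over R/I; (2) S is flat over R and Spec(S/IS) -> Spec(R/I) is surjective;
(3) S is flat over R and S ⊗_R M is nonzero for every nonzero R-module M killed by I; (4) S is flat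
over R and S ⊗_R M is nonzero for every nonzero I-power torsion R-module M. (Faithfulness of base
change on these subcategories is stated as detection of nonzero objects, which is equivalent for an
exact functor.) -/
theorem result (R S : Type u) [CommRing R] [CommRing S] [Algebra R S] (I : Ideal R) :
    List.TFAE [
      Module.Flat R S ∧ Module.FaithfullyFlat (R ⧸ I) (S ⧸ I.map (algebraMap R S)),
      Module.Flat R S ∧ Function.Surjective (PrimeSpectrum.comap (Ideal.quotientMap (I.map (algebraMap R S)) (algebraMap R S) Ideal.le_comap_map)),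
      Module.Flat R S ∧ ∀ (M : Type u) [AddCommGroup M] [Module R M], (∀ (a : R) (m : M), a ∈ I → a • m = 0) →
        Nontrivial M → Nontrivial (S ⊗[R] M),
      Module.Flat R S ∧ ∀ (M : Type u) [AddCommGroup M] [Module R M], (∀ m : M, ∃ n : ℕ, ∀ a ∈ I ^ n, a • m = 0) →
        Nontrivial M → Nontrivial (S ⊗[R] M)] := by
  haveI hflat : ∀ [Module.Flat R S], Module.Flat (R ⧸ I) (S ⧸ I.map (algebraMap R S)) := fun {_} =>
    Module.Flat.of_linearEquiv (Algebra.TensorProduct.quotIdealMapEquivQuotTensor S I).toLinearEquiv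
  tfae_have 1 → 2 := by
    rintro ⟨h1, h2⟩
    exact ⟨h1, PrimeSpectrum.comap_surjective_of_faithfullyFlat⟩
  tfae_have 2 → 1 := by
    rintro ⟨h1, h2⟩
    haveI := h1
    exact ⟨h1, Module.FaithfullyFlat.of_comap_surjective h2⟩
  tfae_have 2 → 4 := by
    rintro ⟨h1, h2⟩
    refine ⟨h1, fun M _ _ hM hnt => ?_⟩
    haveI := h1
    obtain ⟨m, hm⟩ := exists_ne (0 : M)
    refine ⟨⟨(1 : S) ⊗ₜ[R] m, 0, fun h => hm (?_)⟩⟩
    refine (injective_iff_map_eq_zero _).1 (Groth.Agent.TorsBCLib.mk_injective I S (fun p hp hle htop => ?_) hM) m h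
    haveI := hp
    obtain ⟨q, hq⟩ := h2 ⟨p.map (Ideal.Quotient.mk I), Ideal.isPrime_map_quotientMk_of_isPrime hle⟩
    have hle' : p ≤ (q.asIdeal.comap (Ideal.Quotient.mk (I.map (algebraMap R S)))).comap (algebraMap R S) := by
      intro a ha
      have h3 := congrArg PrimeSpectrum.asIdeal hq
      have h4 : Ideal.Quotient.mk I a ∈ q.asIdeal.comap
          (Ideal.quotientMap (I.map (algebraMap R S)) (algebraMap R S) Ideal.le_comap_map) := by
        rw [show q.asIdeal.comap (Ideal.quotientMap (I.map (algebraMap R S)) (algebraMap R S) Ideal.le_comap_map) = _ from h3]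
        exact Ideal.mem_map_of_mem _ ha
      simpa [Ideal.mem_comap] using h4
    exact (Ideal.IsPrime.ne_top (I := q.asIdeal.comap (Ideal.Quotient.mk (I.map (algebraMap R S)))) inferInstance)
      (top_le_iff.1 (htop ▸ Ideal.map_le_iff_le_comap.2 hle'))
  tfae_have 4 → 3 := by
    rintro ⟨h1, h2⟩
    exact ⟨h1, fun M _ _ hM hnt => h2 M (fun m => ⟨1, fun a ha => hM a m (by simpa using ha)⟩) hnt⟩
  tfae_have 3 → 2 := by
    rintro ⟨h1, h2⟩
    refine ⟨h1, fun p => ?_⟩
    let P : PrimeSpectrum R := PrimeSpectrum.comap (Ideal.Quotient.mk I) p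
    have hk : ∀ (a : R) (m : P.asIdeal.ResidueField), a ∈ I → a • m = 0 := fun a m ha => by
      have : a ∈ P.asIdeal := by simp [P, Ideal.Quotient.eq_zero_iff_mem.2 ha]
      rw [Algebra.smul_def, Ideal.algebraMap_residueField_eq_zero.2 this, zero_mul]
    haveI := h2 _ hk inferInstance
    have hnt : Nontrivial (P.asIdeal.ResidueField ⊗[R] S) :=
      (TensorProduct.comm R S P.asIdeal.ResidueField).toEquiv.symm.nontrivial
    obtain ⟨q, hq⟩ := (PrimeSpectrum.nontrivial_iff_mem_rangeComap P).1 hnt
    have hq' : I.map (algebraMap R S) ≤ q.asIdeal := Ideal.map_le_iff_le_comap.2 fun a ha => by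
      show a ∈ (PrimeSpectrum.comap (algebraMap R S) q).asIdeal
      rw [hq]
      simp [P, Ideal.Quotient.eq_zero_iff_mem.2 ha]
    refine ⟨⟨q.asIdeal.map (Ideal.Quotient.mk _), Ideal.isPrime_map_quotientMk_of_isPrime hq'⟩, ?_⟩
    refine PrimeSpectrum.ext (Ideal.comap_injective_of_surjective _ Ideal.Quotient.mk_surjective ?_)
    refine Eq.trans ?_ (congrArg PrimeSpectrum.asIdeal hq)
    simp only [PrimeSpectrum.comap_asIdeal, Ideal.comap_comap, Ideal.quotientMap_comp_mk]
    rw [← Ideal.comap_comap, Ideal.comap_map_of_surjective _ Ideal.Quotient.mk_surjective, ← RingHom.ker_eq_comap_bot,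
      Ideal.mk_ker, sup_eq_left.2 hq']
  tfae_finish

end Groth.Agent.S2008
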