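import Groth.Statements.S2009
import Mathlib
import Groth.Agent.TorsBCLib.Basic
-- import your own Groth.Agent.* helpers here

set_option autoImplicit false
universe u
open TensorProduct
open EtAlg

namespace Groth.Agent.S2009

/-- Let R -> S be flat with S/IS faithfully flat over R/I. Then the natural map M -> S ⊗_R M is
bijective for every I-power torsion R-module M if and only if R/I -> S/IS is bijective. -/
theorem result (R S : Type u) [CommRing R] [CommRing S] [Algebra R S] (I : Ideal R)
    [Module.Flat R S] [Module.FaithfullyFlat (R ⧸ I) (S ⧸ I.map (algebraMap R S))] :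
    (∀ (M : Type u) [AddCommGroup M] [Module R M], (∀ m : M, ∃ n : ℕ, ∀ a ∈ I ^ n, a • m = 0) →
      Function.Bijective (TensorProduct.mk R S M 1)) ↔
    Function.Bijective (Ideal.quotientMap (I.map (algebraMap R S)) (algebraMap R S) Ideal.le_comap_map) := by
  constructor
  · intro h
    have h1 := h (R ⧸ I) fun m => ⟨1, fun a ha => by
      rw [Algebra.smul_def, Ideal.Quotient.algebraMap_eq,
        Ideal.Quotient.eq_zero_iff_mem.2 (by simpa using ha), zero_mul]⟩
    have h2 := (Algebra.TensorProduct.quotIdealMapEquivTensorQuot S I).symm.bijective.comp h1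
    convert h2 using 1
    funext x
    obtain ⟨r, rfl⟩ := Ideal.Quotient.mk_surjective x
    show _ = (Algebra.TensorProduct.quotIdealMapEquivTensorQuot S I).symm ((1 : S) ⊗ₜ[R] (Ideal.Quotient.mk I r))
    rw [Algebra.TensorProduct.quotIdealMapEquivTensorQuot_symm_tmul, Ideal.quotientMap_mk, Algebra.smul_def, mul_one]
    rfl
  · intro h M _ _ hM
    refine ⟨Groth.Agent.TorsBCLib.mk_injective I S (fun p hp hle htop => ?_) hM,
      Groth.Agent.TorsBCLib.mk_surjective I S (fun s => ?_) hM⟩
    · haveI := hp
      obtain ⟨q, hq⟩ := PrimeSpectrum.comap_surjective_of_faithfullyFlat (A := R ⧸ I) (B := S ⧸ I.map (algebraMap R S))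
        ⟨p.map (Ideal.Quotient.mk I), Ideal.isPrime_map_quotientMk_of_isPrime hle⟩
      have hle' : p ≤ (q.asIdeal.comap (Ideal.Quotient.mk (I.map (algebraMap R S)))).comap (algebraMap R S) := by
        intro a ha
        have h3 := congrArg PrimeSpectrum.asIdeal hq
        have h4 : Ideal.Quotient.mk I a ∈ q.asIdeal.comap (algebraMap (R ⧸ I) (S ⧸ I.map (algebraMap R S))) := by
          rw [show q.asIdeal.comap (algebraMap (R ⧸ I) (S ⧸ I.map (algebraMap R S))) = _ from h3]
          exact Ideal.mem_map_of_mem _ ha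
        exact h4
      exact (Ideal.IsPrime.ne_top (I := q.asIdeal.comap (Ideal.Quotient.mk (I.map (algebraMap R S)))) inferInstance)
        (top_le_iff.1 (htop ▸ Ideal.map_le_iff_le_comap.2 hle'))
    · obtain ⟨x, hx⟩ := h.2 (Ideal.Quotient.mk _ s)
      obtain ⟨r, rfl⟩ := Ideal.Quotient.mk_surjective x
      exact ⟨r, (Ideal.Quotient.eq).1 (hx.symm.trans (Ideal.quotientMap_mk ..))⟩

end Groth.Agent.S2009
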