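import Groth.Statements.S2010
import Groth.Agent.TorsBCLib.Basic

set_option autoImplicit false
universe u
open TensorProduct
open EtAlg

namespace Groth.Agent.S2010

open TensorProduct LinearMap

section
variable {R : Type u} [CommRing R] (S : Type u) [CommRing S] [Algebra R S]

theorem torsBij [Module.Flat R S] (I : Ideal R)
    (hq : Function.Bijective (Ideal.quotientMap (I.map (algebraMap R S)) (algebraMap R S) Ideal.le_comap_map))
    {M : Type u} [AddCommGroup M] [Module R M] (hM : ∀ m : M, ∃ n : ℕ, ∀ a ∈ I ^ n, a • m = 0) :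
    Function.Bijective (TensorProduct.mk R S M 1) := by
  refine ⟨Groth.Agent.TorsBCLib.mk_injective I S (fun p hp hle htop => ?_) hM,
    Groth.Agent.TorsBCLib.mk_surjective I S (fun s => ?_) hM⟩
  · apply hp.ne_top
    let e := RingEquiv.ofBijective _ hq
    have h1 : (p.map (Ideal.Quotient.mk I)).map (e : (R ⧸ I) →+* S ⧸ I.map (algebraMap R S)) = ⊤ := by
      rw [Ideal.map_map]
      have : ((e : (R ⧸ I) →+* S ⧸ I.map (algebraMap R S)).comp (Ideal.Quotient.mk I)) =
          (Ideal.Quotient.mk (I.map (algebraMap R S))).comp (algebraMap R S) := by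
        ext r; rfl
      rw [this, ← Ideal.map_map, htop, Ideal.map_top]
    have h2 : p.map (Ideal.Quotient.mk I) = ⊤ := by
      have h3 := congrArg (Ideal.map (e.symm : (S ⧸ I.map (algebraMap R S)) →+* R ⧸ I)) h1
      rw [Ideal.map_top, Ideal.map_map] at h3
      simpa using h3
    have h4 := congrArg (Ideal.comap (Ideal.Quotient.mk I)) h2
    rw [Ideal.comap_map_of_surjective' _ Ideal.Quotient.mk_surjective, Ideal.mk_ker, Ideal.comap_top, sup_eq_left.2 hle] at h4
    exact h4
  · obtain ⟨x, hx⟩ := hq.2 (Ideal.Quotient.mk _ s)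
    obtain ⟨r, rfl⟩ := Ideal.Quotient.mk_surjective x
    exact ⟨r, (Ideal.Quotient.eq).1 (hx.symm.trans (Ideal.quotientMap_mk ..))⟩

theorem killed_tensor {K : Type u} [AddCommGroup K] [Module R K] (f : R) (hK : ∀ v : K, ∃ t : ℕ, f ^ t • v = 0)
    (w : S ⊗[R] K) : ∃ t : ℕ, f ^ t • w = 0 := by
  induction w using TensorProduct.induction_on with
  | zero => exact ⟨0, smul_zero _⟩
  | tmul s v =>
    obtain ⟨t, ht⟩ := hK v
    exact ⟨t, by rw [← TensorProduct.tmul_smul, ht, TensorProduct.tmul_zero]⟩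
  | add a b ha hb =>
    obtain ⟨t, ht⟩ := ha
    obtain ⟨t', ht'⟩ := hb
    refine ⟨t + t', ?_⟩
    rw [smul_add, pow_add, mul_comm, mul_smul, ht, mul_comm, mul_smul, ht']; simp

theorem lT_ker [Module.Flat R S] {N P : Type u} [AddCommGroup N] [Module R N] [AddCommGroup P] [Module R P]
    (φ : N →ₗ[R] P) (y : S ⊗[R] N) (hy : φ.lTensor S y = 0) :
    ∃ w : S ⊗[R] ↥(ker φ), (ker φ).subtype.lTensor S w = y :=
  (Module.Flat.lTensor_exact S (LinearMap.exact_subtype_ker_map φ) y).1 hy

variable (N : Type u) [AddCommGroup N] [Module R N]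

noncomputable abbrev loc (f : R) : N →ₗ[R] LocalizedModule (Submonoid.powers f) N := LocalizedModule.mkLinearMap _ N

theorem loc_num (f : R) (x : LocalizedModule (Submonoid.powers f) N) :
    ∃ (j : ℕ) (n : N), f ^ j • x = loc N f n := by
  obtain ⟨⟨n, s⟩, hs⟩ := IsLocalizedModule.surj (Submonoid.powers f) (loc N f) x
  obtain ⟨j, hj⟩ := (Submonoid.mem_powers_iff _ _).1 s.2
  exact ⟨j, n, by rw [hj]; exact hs⟩

theorem loc_ker (f : R) (v : N) (hv : loc N f v = 0) : ∃ t : ℕ, f ^ t • v = 0 := by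
  obtain ⟨c, hc⟩ := IsLocalizedModule.exists_of_eq (S := Submonoid.powers f) (f := loc N f) (x₁ := v) (x₂ := 0) (by simpa using hv)
  obtain ⟨t, ht⟩ := (Submonoid.mem_powers_iff _ _).1 c.2
  exact ⟨t, by rw [ht]; simpa [Submonoid.smul_def] using hc⟩

theorem pow_smul_bij (f : R) (n : ℕ) :
    Function.Bijective (fun w : S ⊗[R] LocalizedModule (Submonoid.powers f) N => f ^ n • w) := by
  let m : LocalizedModule (Submonoid.powers f) N →ₗ[R] LocalizedModule (Submonoid.powers f) N :=
    algebraMap R (Module.End R _) (f ^ n)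
  have hm : Function.Bijective m :=
    (Module.End.isUnit_iff _).1 (IsLocalizedModule.map_units (loc N f) ⟨f ^ n, Submonoid.pow_mem _ (Submonoid.mem_powers f) n⟩)
  have h1 : (LinearMap.lTensor S m : S ⊗[R] _ → _) =
      fun w : S ⊗[R] LocalizedModule (Submonoid.powers f) N => f ^ n • w := by
    funext w
    induction w using TensorProduct.induction_on with
    | zero => simp
    | tmul s v => show s ⊗ₜ[R] (f ^ n • v) = _; rw [TensorProduct.tmul_smul]
    | add a b ha hb => rw [map_add, ha, hb, smul_add]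
  rw [← h1]
  exact ((LinearEquiv.ofBijective m hm).lTensor S).bijective

end

section
variable {R S N M : Type u} [CommRing R] [CommRing S] [Algebra R S] [Module.Flat R S]
  [AddCommGroup N] [Module R N] [AddCommGroup M] [Module R M] {E' : Type u} [AddCommGroup E'] [Module R E']
  {r : ℕ} (f : Fin r → R)

noncomputable abbrev d (f : Fin r → R) : N →ₗ[R] (∀ i, LocalizedModule (Submonoid.powers (f i)) N) :=
  LinearMap.pi fun i => loc N (f i)

def carrierE (f : Fin r → R) (i' : S ⊗[R] N →ₗ[R] E') (p' : E' →ₗ[R] S ⊗[R] M) :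
    Submodule R (E' × M × (∀ i, LocalizedModule (Submonoid.powers (f i)) N)) where
  carrier := {t | p' t.1 = (1 : S) ⊗ₜ[R] t.2.1 ∧ ∀ i, ∃ (k : ℕ) (n : N), f i ^ k • t.2.2 i = loc N (f i) n ∧
    f i ^ k • t.1 = i' ((1 : S) ⊗ₜ[R] n)}
  zero_mem' := ⟨by simp, fun i => ⟨0, 0, by simp⟩⟩
  add_mem' := by
    rintro a b ⟨ha, ha'⟩ ⟨hb, hb'⟩
    refine ⟨by simp [ha, hb, TensorProduct.tmul_add], fun i => ?_⟩
    obtain ⟨k, n, h1, h2⟩ := ha' i
    obtain ⟨k', n', h1', h2'⟩ := hb' i
    refine ⟨k' + k, f i ^ k' • n + f i ^ k • n', ?_, ?_⟩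
    · simp only [Prod.snd_add, Pi.add_apply, smul_add, map_add, map_smul, ← h1, ← h1']
      rw [smul_smul, smul_smul, ← pow_add, ← pow_add, add_comm k k']
    · simp only [Prod.fst_add, smul_add, TensorProduct.tmul_add, TensorProduct.tmul_smul, map_add, map_smul, ← h2, ← h2']
      rw [smul_smul, smul_smul, ← pow_add, ← pow_add, add_comm k k']
  smul_mem' := by
    rintro c a ⟨ha, ha'⟩
    refine ⟨by simp [ha, TensorProduct.tmul_smul], fun i => ?_⟩
    obtain ⟨k, n, h1, h2⟩ := ha' i
    refine ⟨k, c • n, ?_, ?_⟩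
    · simp only [Prod.smul_snd, Pi.smul_apply, map_smul, ← h1]; rw [smul_comm]
    · simp only [Prod.smul_fst, TensorProduct.tmul_smul, map_smul, ← h2]; rw [smul_comm]

end

/-- Let R -> S be flat and I a finitely generated ideal with R/I -> S/IS bijective; let N be an R-module
and M an I-power torsion R-module. For every short exact sequence 0 -> S ⊗_R N -> E' -> S ⊗_R M -> 0
of S-modules there are a short exact sequence 0 -> N -> E -> M -> 0 of R-modules and an R-linear map
E -> E' making the two squares with the maps n ↦ 1 ⊗ n and m ↦ 1 ⊗ m commute. -/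
theorem result (R S : Type u) [CommRing R] [CommRing S] [Algebra R S] [Module.Flat R S] (I : Ideal R)
    (hI : I.FG) (hq : Function.Bijective (Ideal.quotientMap (I.map (algebraMap R S)) (algebraMap R S) Ideal.le_comap_map))
    (N M : Type u) [AddCommGroup N] [Module R N] [AddCommGroup M] [Module R M]
    (hM : ∀ m : M, ∃ n : ℕ, ∀ a ∈ I ^ n, a • m = 0)
    (E' : Type u) [AddCommGroup E'] [Module S E'] [Module R E'] [IsScalarTower R S E'] (i' : S ⊗[R] N →ₗ[S] E') (p' : E' →ₗ[S] S ⊗[R] M)
    (hi' : Function.Injective i') (hp' : Function.Surjective p') (hex' : LinearMap.range i' = LinearMap.ker p') :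
    ∃ (E : Type u) (_ : AddCommGroup E) (_ : Module R E) (i : N →ₗ[R] E) (p : E →ₗ[R] M) (g : E →ₗ[R] E'),
      Function.Injective i ∧ Function.Surjective p ∧ LinearMap.range i = LinearMap.ker p ∧
      (∀ n : N, g (i n) = i' ((1 : S) ⊗ₜ[R] n)) ∧ (∀ e : E, p' (g e) = (1 : S) ⊗ₜ[R] p e) := by
  classical
  obtain ⟨r, f, hf⟩ := Submodule.fg_iff_exists_fin_generating_family.1 hI
  let i'R : S ⊗[R] N →ₗ[R] E' := i'.restrictScalars R
  let p'R : E' →ₗ[R] S ⊗[R] M := p'.restrictScalars R
  let dd : N →ₗ[R] (∀ i, LocalizedModule (Submonoid.powers (f i)) N) := d f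
  let C := (∀ i, LocalizedModule (Submonoid.powers (f i)) N) ⧸ LinearMap.range dd
  let T : Submodule R (∀ i, LocalizedModule (Submonoid.powers (f i)) N) :=
    { carrier := {x | ∃ n : ℕ, ∀ a ∈ I ^ n, a • x ∈ LinearMap.range dd}
      zero_mem' := ⟨0, fun a _ => by rw [smul_zero]; exact zero_mem _⟩
      add_mem' := by
        rintro a b ⟨n, hn⟩ ⟨n', hn'⟩
        refine ⟨n + n', fun c hc => ?_⟩
        rw [smul_add]
        exact add_mem (hn c (Ideal.pow_le_pow_right (by omega) hc)) (hn' c (Ideal.pow_le_pow_right (by omega) hc))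
      smul_mem' := by
        rintro c a ⟨n, hn⟩
        exact ⟨n, fun b hb => by rw [smul_comm]; exact Submodule.smul_mem _ _ (hn b hb)⟩ }
  let E : Submodule R (E' × M × (∀ i, LocalizedModule (Submonoid.powers (f i)) N)) :=
    carrierE f i'R p'R ⊓ T.comap ((LinearMap.snd R M _).comp (LinearMap.snd R E' _))
  have hdT : ∀ n : N, dd n ∈ T := fun n => ⟨0, fun a _ => Submodule.smul_mem _ _ ⟨n, rfl⟩⟩
  let ι : N →ₗ[R] ↥E := LinearMap.codRestrict E
    (LinearMap.prod (i'R.comp (TensorProduct.mk R S N 1)) (LinearMap.prod 0 dd))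
    (fun n => ⟨⟨by
      show p' (i' ((1 : S) ⊗ₜ[R] n)) = (1 : S) ⊗ₜ[R] (0 : M)
      rw [TensorProduct.tmul_zero, ← LinearMap.mem_ker, ← hex']
      exact ⟨_, rfl⟩, fun i => ⟨0, n, by simp [dd], by simp [i'R]⟩⟩, hdT n⟩)
  let π : ↥E →ₗ[R] M := ((LinearMap.fst R M _).comp (LinearMap.snd R E' _)).comp E.subtype
  let g : ↥E →ₗ[R] E' := (LinearMap.fst R E' _).comp E.subtype
  have hI1 : ∀ i, f i ∈ I := fun i => hf ▸ Submodule.subset_span ⟨i, rfl⟩
  have hkerd : ∀ v : ↥(LinearMap.ker dd), ∃ n : ℕ, ∀ a ∈ I ^ n, a • v = 0 := by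
    intro v
    let J : Ideal R := LinearMap.ker (LinearMap.toSpanSingleton R _ v)
    have hrad : I ≤ J.radical := by
      rw [← hf]; refine Submodule.span_le.2 ?_
      rintro _ ⟨i, rfl⟩
      obtain ⟨t, ht⟩ := loc_ker N (f i) v.1 (congrFun (LinearMap.mem_ker.1 v.2) i)
      exact ⟨t, by simpa [J, Subtype.ext_iff] using ht⟩
    obtain ⟨n, hn⟩ := Ideal.exists_pow_le_of_le_radical_of_fg hrad hI
    exact ⟨n, fun a ha => by simpa [J] using hn ha⟩
  let pr : ∀ i, S ⊗[R] (∀ i, LocalizedModule (Submonoid.powers (f i)) N) →ₗ[R]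
      S ⊗[R] LocalizedModule (Submonoid.powers (f i)) N := fun i => (LinearMap.proj i).lTensor S
  have hpr : ∀ w w', (∀ i, pr i w = pr i w') → w = w' := by
    intro w w' hh
    apply (TensorProduct.piRight R R S (fun i => LocalizedModule (Submonoid.powers (f i)) N)).injective
    funext i
    have hgen : ∀ u, TensorProduct.piRight R R S (fun i => LocalizedModule (Submonoid.powers (f i)) N) u i = pr i u := by
      intro u
      induction u using TensorProduct.induction_on with
      | zero => simp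
      | tmul s v => simp [pr]
      | add a b ha hb => rw [map_add, Pi.add_apply, ha, hb, map_add]
    rw [hgen, hgen, hh i]
  have hsurjz : ∀ v : ∀ i, S ⊗[R] LocalizedModule (Submonoid.powers (f i)) N, ∃ w, ∀ i, pr i w = v i := by
    intro v
    obtain ⟨w, hw⟩ := (TensorProduct.piRight R R S (fun i => LocalizedModule (Submonoid.powers (f i)) N)).surjective v
    refine ⟨w, fun i => ?_⟩
    rw [← hw]
    clear hw
    induction w using TensorProduct.induction_on with
    | zero => simp
    | tmul s x => simp [pr]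
    | add a b ha hb => rw [map_add, map_add, Pi.add_apply, ha, hb]
  have hprd : ∀ i (y : S ⊗[R] N), pr i (dd.lTensor S y) = (loc N (f i)).lTensor S y := fun i y => by
    rw [← LinearMap.comp_apply, ← LinearMap.lTensor_comp]; rfl
  refine ⟨↥E, inferInstance, inferInstance, ι, π, g, ?_, ?_, ?_, fun n => rfl, fun e => e.2.1.1⟩
  · refine (injective_iff_map_eq_zero _).2 fun n hn => ?_
    have h1 : i' ((1 : S) ⊗ₜ[R] n) = 0 := congrArg (fun e : ↥E => e.1.1) hn
    have h2 : n ∈ LinearMap.ker dd := congrArg (fun e : ↥E => e.1.2.2) hn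
    have h3 : (LinearMap.ker dd).subtype.lTensor S ((1 : S) ⊗ₜ[R] (⟨n, h2⟩ : ↥(LinearMap.ker dd))) = 0 := by
      rw [LinearMap.lTensor_tmul]; exact hi' (by rw [map_zero]; exact h1)
    have h4 := Module.Flat.lTensor_preserves_injective_linearMap (M := S) _ (LinearMap.ker dd).injective_subtype
      (h3.trans (map_zero _).symm)
    have h5 := (torsBij S I hq hkerd).1 (h4.trans (TensorProduct.tmul_zero _ (1 : S)).symm)
    exact congrArg Subtype.val h5
  · intro m
    obtain ⟨n, hn⟩ := hM m
    obtain ⟨e', he'⟩ := hp' ((1 : S) ⊗ₜ[R] m)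
    have hlift : ∀ a ∈ I ^ n, ∃ y, i' y = a • e' := fun a ha => by
      rw [← LinearMap.mem_range, hex', LinearMap.mem_ker, LinearMap.map_smul_of_tower, he', ← TensorProduct.tmul_smul, hn a ha,
        TensorProduct.tmul_zero]
    choose y hy using fun i => hlift (f i ^ n) (Ideal.pow_mem_pow (hI1 i) n)
    choose v hv using fun i => (pow_smul_bij S N (f i) n).2 ((loc N (f i)).lTensor S (y i))
    obtain ⟨z, hz⟩ := hsurjz v
    have hzkill : ∀ a ∈ I ^ n, a • (LinearMap.range dd).mkQ.lTensor S z = 0 := by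
      intro a ha
      obtain ⟨ya, hya⟩ := hlift a ha
      have h1 : a • z = dd.lTensor S ya := by
        apply hpr; intro i
        apply (pow_smul_bij S N (f i) n).1
        show f i ^ n • _ = f i ^ n • _
        rw [map_smul, hz, smul_comm, hprd]
        show a • (fun w => f i ^ n • w) (v i) = _
        rw [hv, ← map_smul, ← map_smul]
        congr 1
        apply hi'
        rw [LinearMap.map_smul_of_tower, LinearMap.map_smul_of_tower, hy, hya, smul_comm]
      rw [← map_smul, h1, ← LinearMap.comp_apply, ← LinearMap.lTensor_comp, LinearMap.range_mkQ_comp, LinearMap.lTensor_zero,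
        LinearMap.zero_apply]
    obtain ⟨q, gq, hgq⟩ := Submodule.fg_iff_exists_fin_generating_family.1 (Submodule.FG.pow hI n)
    let kap : C →ₗ[R] (Fin q → C) := LinearMap.pi fun j => gq j • LinearMap.id
    have hkap : kap.lTensor S ((LinearMap.range dd).mkQ.lTensor S z) = 0 := by
      apply (TensorProduct.piRight R R S (fun _ : Fin q => C)).injective
      rw [map_zero]
      funext j
      have : ∀ u, TensorProduct.piRight R R S (fun _ : Fin q => C) (kap.lTensor S u) j = gq j • u := by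
        intro u
        induction u using TensorProduct.induction_on with
        | zero => simp
        | tmul s c => simp [kap, TensorProduct.tmul_smul]
        | add a b ha hb => rw [map_add, map_add, Pi.add_apply, ha, hb, smul_add]
      rw [this, Pi.zero_apply]
      exact hzkill _ (hgq ▸ Submodule.subset_span ⟨j, rfl⟩)
    obtain ⟨w, hw⟩ := lT_ker S kap _ hkap
    have hkill : ∀ c : ↥(LinearMap.ker kap), ∀ a ∈ I ^ n, a • c = 0 := by
      intro c a ha
      have : I ^ n ≤ LinearMap.ker (LinearMap.toSpanSingleton R _ c) := by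
        rw [← hgq]; refine Submodule.span_le.2 ?_
        rintro _ ⟨j, rfl⟩
        have := congrFun (LinearMap.mem_ker.1 c.2) j
        simpa [kap, Subtype.ext_iff] using this
      simpa using this ha
    obtain ⟨τ, hτ⟩ := (torsBij S I hq fun c : ↥(LinearMap.ker kap) => ⟨n, hkill c⟩).2 w
    obtain ⟨x0, hx0⟩ := Submodule.mkQ_surjective _ τ.1
    have hx0T : x0 ∈ T := ⟨n, fun a ha => by
      rw [← Submodule.Quotient.mk_eq_zero, Submodule.Quotient.mk_smul]
      show a • (LinearMap.range dd).mkQ x0 = 0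
      rw [hx0, ← Submodule.coe_smul, hkill τ a ha, Submodule.coe_zero]⟩
    have h6 : (LinearMap.range dd).mkQ.lTensor S (z - (1 : S) ⊗ₜ[R] x0) = 0 := by
      rw [map_sub, ← hw, ← hτ, TensorProduct.mk_apply, LinearMap.lTensor_tmul, LinearMap.lTensor_tmul, hx0]
      exact sub_self _
    obtain ⟨y0, hy0⟩ := (lTensor_exact S (LinearMap.exact_map_mkQ_range dd) (Submodule.mkQ_surjective _) _).1 h6
    refine ⟨⟨(e' - i' y0, m, x0), ⟨?_, fun i => ?_⟩, hx0T⟩, rfl⟩
    · show p' (e' - i' y0) = _
      rw [map_sub, he', show p' (i' y0) = 0 from LinearMap.mem_ker.1 (hex' ▸ ⟨y0, rfl⟩), sub_zero]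
    · obtain ⟨j, n1, hj⟩ := loc_num N (f i) (x0 i)
      have h7 : (loc N (f i)).lTensor S (f i ^ j • (y i - f i ^ n • y0) - f i ^ n • ((1 : S) ⊗ₜ[R] n1)) = 0 := by
        have h8 : (loc N (f i)).lTensor S y0 = v i - (1 : S) ⊗ₜ[R] (x0 i) := by
          rw [← hprd, hy0, map_sub, hz]; simp [pr]
        rw [map_sub, map_smul, map_sub, map_smul, h8, ← hv i, map_smul, LinearMap.lTensor_tmul, ← hj,
          TensorProduct.tmul_smul]
        simp only [smul_sub]
        rw [smul_comm (f i ^ j) (f i ^ n) ((1 : S) ⊗ₜ[R] x0 i)]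
        abel
      obtain ⟨w', hw'⟩ := lT_ker S (loc N (f i)) _ h7
      obtain ⟨t, ht⟩ := killed_tensor S (f i) (fun a : ↥(LinearMap.ker (loc N (f i))) => by
        obtain ⟨t, ht⟩ := loc_ker N (f i) a.1 a.2
        exact ⟨t, Subtype.ext ht⟩) w'
      refine ⟨t + n + j, f i ^ (t + n) • n1, ?_, ?_⟩
      · rw [map_smul, ← hj, smul_smul, ← pow_add]
      · have h9 : f i ^ t • (f i ^ j • (y i - f i ^ n • y0) - f i ^ n • ((1 : S) ⊗ₜ[R] n1)) = 0 := by
          rw [← hw', ← map_smul, ht, map_zero]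
        have h10 := congrArg i' h9
        rw [LinearMap.map_smul_of_tower, map_zero, map_sub, LinearMap.map_smul_of_tower, map_sub, hy, LinearMap.map_smul_of_tower,
          LinearMap.map_smul_of_tower, smul_sub (f i ^ t), ← smul_sub (f i ^ n) e', sub_eq_zero, smul_smul, smul_smul, smul_smul,
          ← pow_add, ← pow_add, ← pow_add] at h10
        show f i ^ (t + n + j) • (e' - i' y0) = i'R _
        rw [TensorProduct.tmul_smul, map_smul]
        convert h10 using 2
        · congr 1; ring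
        · rfl
  · apply le_antisymm
    · rintro _ ⟨n, rfl⟩; rfl
    · rintro ⟨⟨e', m, x⟩, ⟨hpe, hx⟩, hxT⟩ hm
      change m = 0 at hm
      subst hm
      obtain ⟨y, rfl⟩ : e' ∈ LinearMap.range i' := by
        rw [hex', LinearMap.mem_ker]; exact hpe.trans (TensorProduct.tmul_zero _ _)
      have h1 : (1 : S) ⊗ₜ[R] x = dd.lTensor S y := by
        apply hpr; intro i
        obtain ⟨k, nn, hk1, hk2⟩ := hx i
        apply (pow_smul_bij S N (f i) k).1
        show f i ^ k • _ = f i ^ k • _
        have hk3 : f i ^ k • y = (1 : S) ⊗ₜ[R] nn := hi' (by rw [LinearMap.map_smul_of_tower]; exact hk2)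
        rw [hprd, ← map_smul ((loc N (f i)).lTensor S), hk3, LinearMap.lTensor_tmul]
        show _ = (1 : S) ⊗ₜ[R] loc N (f i) nn
        rw [← hk1, TensorProduct.tmul_smul]
        rfl
      obtain ⟨n, hn⟩ := hxT
      let Ct : Submodule R C :=
        { carrier := {c | ∀ a ∈ I ^ n, a • c = 0}
          zero_mem' := fun a _ => smul_zero a
          add_mem' := fun h h' a ha => by rw [smul_add, h a ha, h' a ha, add_zero]
          smul_mem' := fun c _ h a ha => by rw [smul_comm, h a ha, smul_zero] }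
      have hxC : (LinearMap.range dd).mkQ x ∈ Ct := fun a ha => by
        rw [← map_smul]; exact (Submodule.Quotient.mk_eq_zero _).2 (hn a ha)
      have h2 : Ct.subtype.lTensor S ((1 : S) ⊗ₜ[R] (⟨_, hxC⟩ : ↥Ct)) = 0 := by
        rw [LinearMap.lTensor_tmul]
        show (1 : S) ⊗ₜ[R] (LinearMap.range dd).mkQ x = 0
        rw [← LinearMap.lTensor_tmul, h1, ← LinearMap.comp_apply, ← LinearMap.lTensor_comp, LinearMap.range_mkQ_comp,
          LinearMap.lTensor_zero, LinearMap.zero_apply]
      have h3 := Module.Flat.lTensor_preserves_injective_linearMap (M := S) _ Ct.injective_subtype (h2.trans (map_zero _).symm)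
      have h4 := (torsBij S I hq fun c : ↥Ct => ⟨n, fun a ha => Subtype.ext (c.2 a ha)⟩).1
        (h3.trans (TensorProduct.tmul_zero _ (1 : S)).symm)
      obtain ⟨n0, hn0⟩ := (Submodule.Quotient.mk_eq_zero (LinearMap.range dd)).1 (congrArg Subtype.val h4)
      have h5 : dd.lTensor S (y - (1 : S) ⊗ₜ[R] n0) = 0 := by rw [map_sub, ← h1, LinearMap.lTensor_tmul, hn0, sub_self]
      obtain ⟨w, hw⟩ := lT_ker S dd _ h5
      obtain ⟨k, hk⟩ := (torsBij S I hq hkerd).2 w
      refine ⟨n0 + k.1, ?_⟩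
      apply Subtype.ext
      refine Prod.ext ?_ (Prod.ext rfl ?_)
      · show i' ((1 : S) ⊗ₜ[R] (n0 + k.1)) = i' y
        rw [TensorProduct.tmul_add]
        congr 1
        rw [← hk, TensorProduct.mk_apply, LinearMap.lTensor_tmul] at hw
        rw [show (LinearMap.ker dd).subtype k = k.1 from rfl] at hw
        rw [hw, add_sub_cancel]
      · show dd (n0 + k.1) = x
        rw [map_add, hn0, show dd k.1 = 0 from k.2, add_zero]

end Groth.Agent.S2010
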