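import Groth.Statements.S2012
import Groth.Agent.WLocalLib.WeakEtale
-- import your own Groth.Agent.* helpers here

set_option autoImplicit false
universe u
open EtAlg

namespace Groth.Agent.S2012

/-- Let A be a ring and I an ideal contained in its Jacobson radical. Let B be an A-algebra which is
flat, integral and of finite presentation over A and such that A/I -> B/IB is bijective. Then A -> B
is bijective. -/
theorem result (A B : Type u) [CommRing A] [CommRing B] [Algebra A B]
    (I : Ideal A) (hI : I ≤ (⊥ : Ideal A).jacobson) [Module.Flat A B] [Algebra.IsIntegral A B] [Algebra.FinitePresentation A B]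
    (hq : Function.Bijective (Ideal.quotientMap (I.map (algebraMap A B)) (algebraMap A B) Ideal.le_comap_map)) :
    Function.Bijective (algebraMap A B) := by
  haveI : Module.Finite A B := Algebra.IsIntegral.finite
  have hsurj : Function.Surjective (algebraMap A B) := by
    let N : Submodule A B := LinearMap.range (Algebra.linearMap A B)
    have : (⊤ : Submodule A B) ≤ N := by
      refine Submodule.le_of_le_smul_of_le_jacobson_bot Module.Finite.fg_top hI fun z _ => ?_
      obtain ⟨y, hy⟩ := hq.2 (Ideal.Quotient.mk _ z)
      obtain ⟨y, rfl⟩ := Ideal.Quotient.mk_surjective y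
      rw [Ideal.quotientMap_mk, Ideal.Quotient.eq] at hy
      rw [← Submodule.restrictScalars_mem A, ← Ideal.smul_top_eq_map] at hy
      exact Submodule.mem_sup.2 ⟨algebraMap A B y, ⟨y, rfl⟩, z - algebraMap A B y,
        by simpa using Submodule.neg_mem _ hy, add_sub_cancel _ _⟩
    exact fun z => this trivial
  refine ⟨(injective_iff_map_eq_zero _).2 fun x hx => ?_, hsurj⟩
  obtain ⟨t, ht, htx⟩ := Groth.Agent.WLocalLib.exists_kill (φ := algebraMap A B)
    (RingHom.flat_algebraMap_iff.2 inferInstance) hsurj x hx
  have htI : t - 1 ∈ I := by
    rw [← Ideal.Quotient.eq_zero_iff_mem]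
    refine hq.1 ?_
    rw [Ideal.quotientMap_mk, map_sub, ht, map_one, sub_self, map_zero, map_zero]
  have hu : IsUnit t := by
    have := (Ideal.mem_jacobson_bot.1 (hI htI)) 1
    rwa [mul_one, sub_add_cancel] at this
  exact hu.mul_right_eq_zero.1 htx

end Groth.Agent.S2012
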