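import Groth.Statements.S2014
import Mathlib
-- import your own Groth.Agent.* helpers here

set_option autoImplicit false
universe u
open EtAlg

namespace Groth.Agent.S2014

/-- Let R be a Noetherian local ring of Krull dimension 1 and x an element of the maximal ideal
contained in no minimal prime of R. Then the number of minimal prime ideals of R is at most the
length of R/xR as an R-module. -/
theorem result (R : Type u) [CommRing R] [IsNoetherianRing R] [IsLocalRing R]
    (hdim : ringKrullDim R = 1) (x : R) (hx : x ∈ IsLocalRing.maximalIdeal R) (hmin : ∀ p ∈ minimalPrimes R, x ∉ p) :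
    (Set.ncard (minimalPrimes R) : ℕ∞) ≤ Module.length R (R ⧸ Ideal.span {x}) := by
  classical
  set ℓ := Module.length R (R ⧸ Ideal.span {x})
  have hfin := minimalPrimes.finite_of_isNoetherianRing R
  letI := hfin.fintype
  let ι := (minimalPrimes R)
  haveI : ∀ p : ι, p.1.IsPrime := fun p => Ideal.minimalPrimes_isPrime p.2
  let J : ι → ℕ → Ideal R := fun p N => p.1 ⊔ Ideal.span {x ^ N}
  have hup : ∀ N : ℕ, Module.length R (R ⧸ Ideal.span {x ^ N}) ≤ N * ℓ := by
    intro N
    induction N with
    | zero =>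
      haveI : Subsingleton (R ⧸ Ideal.span {x ^ 0}) := Ideal.Quotient.subsingleton_iff.2 (by simp)
      simp [Module.length_eq_zero]
    | succ N ih =>
      let f : (R ⧸ Ideal.span {x}) →ₗ[R] (R ⧸ Ideal.span {x ^ (N + 1)}) :=
        Submodule.mapQ _ _ (LinearMap.mulLeft R (x ^ N)) (fun a ha => by
          obtain ⟨b, rfl⟩ := Ideal.mem_span_singleton'.1 ha
          exact Ideal.mem_span_singleton'.2 ⟨b, by simp [pow_succ]; ring⟩)
      let g : (R ⧸ Ideal.span {x ^ (N + 1)}) →ₗ[R] (R ⧸ Ideal.span {x ^ N}) :=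
        Submodule.factor (Ideal.span_singleton_le_span_singleton.2 (pow_dvd_pow x (Nat.le_succ N)))
      have hex : Function.Exact f g := by
        intro z
        obtain ⟨r, rfl⟩ := Ideal.Quotient.mk_surjective z
        constructor
        · intro hz
          obtain ⟨b, hb⟩ := Ideal.mem_span_singleton'.1 ((Submodule.Quotient.mk_eq_zero _).1 hz)
          exact ⟨Submodule.Quotient.mk b, congrArg Submodule.Quotient.mk (by rw [← show b * x ^ N = r from hb]; simp; ring)⟩
        · rintro ⟨y, hy⟩
          rw [← hy]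
          obtain ⟨b, rfl⟩ := Ideal.Quotient.mk_surjective y
          exact (Submodule.Quotient.mk_eq_zero _).2 (Ideal.mem_span_singleton'.2 ⟨b, by simp; ring⟩)
      rw [Module.length_eq_add_of_exact (LinearMap.range f).subtype g Subtype.val_injective
        (Submodule.factor_surjective _) (hex.linearMap_ker_eq ▸ LinearMap.exact_subtype_ker_map g)]
      push_cast
      rw [add_mul, one_mul, add_comm]
      exact add_le_add ih (Module.length_le_of_surjective f.rangeRestrict f.surjective_rangeRestrict)
  have hlow : ∀ (p : ι) (N : ℕ), (N : ℕ∞) ≤ Module.length R (R ⧸ J p N) := by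
    intro p N
    induction N with
    | zero => simp
    | succ N ih =>
      let f : (R ⧸ J p N) →ₗ[R] (R ⧸ J p (N + 1)) :=
        Submodule.mapQ _ _ (LinearMap.mulLeft R x) (fun a ha => by
          obtain ⟨q, hq, b, hb, rfl⟩ := Submodule.mem_sup.1 ha
          obtain ⟨c, rfl⟩ := Ideal.mem_span_singleton'.1 hb
          exact Submodule.mem_sup.2 ⟨x * q, Ideal.mul_mem_left _ _ hq, c * x ^ (N + 1),
            Ideal.mem_span_singleton'.2 ⟨c, rfl⟩, by simp [pow_succ]; ring⟩)
      let g : (R ⧸ J p (N + 1)) →ₗ[R] (R ⧸ (p.1 ⊔ Ideal.span {x})) :=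
        Submodule.factor (sup_le_sup_left (Ideal.span_singleton_le_span_singleton.2 (dvd_pow_self x (Nat.succ_ne_zero N))) _)
      have hf : Function.Injective f := by
        refine (injective_iff_map_eq_zero _).2 fun z hz => ?_
        obtain ⟨r, rfl⟩ := Ideal.Quotient.mk_surjective z
        obtain ⟨q, hq, b, hb, hqb⟩ := Submodule.mem_sup.1 ((Submodule.Quotient.mk_eq_zero _).1 hz)
        obtain ⟨c, rfl⟩ := Ideal.mem_span_singleton'.1 hb
        have h1 : x * (r - c * x ^ N) ∈ p.1 := by
          convert hq using 1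
          have h0 : q + c * x ^ (N + 1) = x * r := hqb
          linear_combination -h0
        refine (Submodule.Quotient.mk_eq_zero _).2 (Submodule.mem_sup.2 ⟨r - c * x ^ N,
          ((Ideal.IsPrime.mem_or_mem inferInstance h1).resolve_left (hmin _ p.2)), c * x ^ N,
          Ideal.mem_span_singleton'.2 ⟨c, rfl⟩, by ring⟩)
      have hex : Function.Exact f g := by
        intro z
        obtain ⟨r, rfl⟩ := Ideal.Quotient.mk_surjective z
        constructor
        · intro hz
          obtain ⟨q, hq, b, hb, hqb⟩ := Submodule.mem_sup.1 ((Submodule.Quotient.mk_eq_zero _).1 hz)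
          obtain ⟨c, rfl⟩ := Ideal.mem_span_singleton'.1 hb
          refine ⟨Submodule.Quotient.mk c, (Submodule.Quotient.eq _).2 (Submodule.mem_sup_left ?_)⟩
          show x * c - r ∈ p.1
          rw [show x * c - r = -q by linear_combination hqb]
          exact neg_mem hq
        · rintro ⟨y, hy⟩
          rw [← hy]
          obtain ⟨b, rfl⟩ := Ideal.Quotient.mk_surjective y
          exact (Submodule.Quotient.mk_eq_zero _).2 (Submodule.mem_sup_right
            (Ideal.mem_span_singleton'.2 ⟨b, by simp; ring⟩))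
      haveI : Nontrivial (R ⧸ (p.1 ⊔ Ideal.span {x})) := Ideal.Quotient.nontrivial_iff.2
        (ne_top_of_le_ne_top (IsLocalRing.maximalIdeal.isMaximal R).ne_top
          (sup_le (IsLocalRing.le_maximalIdeal (Ideal.IsPrime.ne_top inferInstance)) (Ideal.span_le.2 (by simpa using hx))))
      rw [Module.length_eq_add_of_exact f g hf (Submodule.factor_surjective _) hex]
      push_cast
      exact add_le_add ih (Order.one_le_iff_pos.2 Module.length_pos)
  let φ : R →ₗ[R] Π p : ι, R ⧸ p.1 := LinearMap.pi fun p => Submodule.mkQ p.1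
  have hc : ∀ p : ι, ∃ c : ℕ, Pi.single p ((Submodule.mkQ p.1) (x ^ c)) ∈ LinearMap.range φ := by
    intro p
    obtain ⟨a, ha, hap⟩ : ∃ a : R, (∀ q : ι, q ≠ p → a ∈ q.1) ∧ a ∉ p.1 := by
      by_contra hne
      push Not at hne
      have hle : ((Finset.univ.erase p).inf fun q : ι => q.1) ≤ p.1 := fun a ha => hne a fun q hq =>
        (Submodule.mem_finsetInf.1 ha) q (Finset.mem_erase.2 ⟨hq, Finset.mem_univ q⟩)
      obtain ⟨q, hq, hqp⟩ := (Ideal.IsPrime.inf_le' inferInstance).1 hle
      exact (Finset.mem_erase.1 hq).1 (Subtype.ext (le_antisymm hqp (p.2.2 ⟨inferInstance, bot_le⟩ hqp)))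
    have hrad : x ∈ (p.1 ⊔ Ideal.span {a}).radical := by
      rw [Ideal.radical_eq_sInf, Submodule.mem_sInf]
      rintro (Q : Ideal R) ⟨(hQ : p.1 ⊔ Ideal.span {a} ≤ Q), (hQp : Ideal.IsPrime Q)⟩
      have : Q = IsLocalRing.maximalIdeal R := by
        refine le_antisymm (IsLocalRing.le_maximalIdeal hQp.ne_top) ?_
        by_contra hlt
        haveI : Q.IsPrime := hQp
        have h1 : (⟨p.1, inferInstance⟩ : PrimeSpectrum R) < ⟨Q, hQp⟩ :=
          lt_of_le_of_ne (le_sup_left.trans hQ) fun h => hap (by
            have := hQ (Submodule.mem_sup_right (Ideal.mem_span_singleton_self a))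
            rwa [show p.1 = Q from congrArg PrimeSpectrum.asIdeal h])
        have h2 : (⟨Q, hQp⟩ : PrimeSpectrum R) < ⟨IsLocalRing.maximalIdeal R, inferInstance⟩ :=
          lt_of_le_of_ne (IsLocalRing.le_maximalIdeal hQp.ne_top) fun h => hlt (congrArg PrimeSpectrum.asIdeal h).ge
        let s : LTSeries (PrimeSpectrum R) := ⟨2, ![⟨p.1, inferInstance⟩, ⟨Q, hQp⟩, ⟨IsLocalRing.maximalIdeal R, inferInstance⟩],
          fun i => by fin_cases i <;> assumption⟩
        have h3 := Order.LTSeries.length_le_krullDim s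
        rw [show Order.krullDim (PrimeSpectrum R) = 1 from hdim] at h3
        exact absurd h3 (by simp [s])
      rw [this]; exact hx
    obtain ⟨c, hc⟩ := hrad
    obtain ⟨q, hq, b, hb, hqb⟩ := Submodule.mem_sup.1 hc
    obtain ⟨r, rfl⟩ := Ideal.mem_span_singleton'.1 hb
    refine ⟨c, r * a, funext fun q' => ?_⟩
    rcases eq_or_ne q' p with rfl | hne
    · rw [Pi.single_eq_same]
      exact (Submodule.Quotient.eq _).2 (by rw [show r * a - x ^ c = -q by linear_combination hqb]; exact neg_mem hq)
    · rw [Pi.single_eq_of_ne hne]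
      exact (Submodule.Quotient.mk_eq_zero _).2 (Ideal.mul_mem_left _ _ (ha q' hne))
  choose c hc using hc
  set C := ∑ p, c p
  have hmain : ∀ N : ℕ, (Fintype.card ι : ℕ∞) * N ≤ N * ℓ + (Fintype.card ι : ℕ∞) * (C * ℓ) := by
    intro N
    let π : (Π p : ι, R ⧸ p.1) →ₗ[R] Π p : ι, R ⧸ J p N := LinearMap.pi fun p =>
      (Submodule.factor (le_sup_left : p.1 ≤ J p N)).comp (LinearMap.proj p)
    let ψ : (R ⧸ Ideal.span {x ^ N}) →ₗ[R] Π p : ι, R ⧸ J p N := Submodule.liftQ _ (π.comp φ) (fun a ha => funext fun p =>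
      (Submodule.Quotient.mk_eq_zero _).2 (Submodule.mem_sup_right ha))
    have hK : ∀ p, ∀ z : R ⧸ J p N, x ^ C • (Pi.single p z : Π p : ι, R ⧸ J p N) ∈ LinearMap.range ψ := by
      intro p z
      obtain ⟨r, rfl⟩ := Ideal.Quotient.mk_surjective z
      obtain ⟨t, ht⟩ := hc p
      obtain ⟨e, he⟩ : ∃ e, C = e + c p := ⟨C - c p, (Nat.sub_add_cancel (Finset.single_le_sum (fun _ _ => Nat.zero_le _) (Finset.mem_univ p))).symm⟩
      refine ⟨Submodule.Quotient.mk (x ^ e * r * t), funext fun q => ?_⟩
      have h1 := congrFun ht q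
      show Submodule.Quotient.mk (x ^ e * r * t) = _
      rw [Pi.smul_apply]
      rcases eq_or_ne q p with rfl | hne
      · rw [Pi.single_eq_same] at h1 ⊢
        refine (Submodule.Quotient.eq _).2 (Submodule.mem_sup_left ?_)
        have h2 : t - x ^ c q ∈ q.1 := (Submodule.Quotient.eq _).1 h1
        rw [show x ^ e * r * t - x ^ C • r = x ^ e * r * (t - x ^ c q) by rw [he, smul_eq_mul, pow_add]; ring]
        exact Ideal.mul_mem_left _ _ h2
      · rw [Pi.single_eq_of_ne hne] at h1 ⊢
        rw [smul_zero]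
        exact (Submodule.Quotient.mk_eq_zero _).2 (Submodule.mem_sup_left
          (Ideal.mul_mem_left _ _ ((Submodule.Quotient.mk_eq_zero _).1 h1)))
    let τ : (ι → R ⧸ Ideal.span {x ^ C}) →ₗ[R] (Π p : ι, R ⧸ J p N) ⧸ LinearMap.range ψ :=
      LinearMap.lsum R _ R fun p => Submodule.liftQ _
        (((LinearMap.range ψ).mkQ.comp (LinearMap.single R _ p)).comp (Submodule.mkQ (J p N))) (fun a ha => by
          obtain ⟨b, rfl⟩ := Ideal.mem_span_singleton'.1 ha
          refine (Submodule.Quotient.mk_eq_zero _).2 ?_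
          convert hK p (Submodule.Quotient.mk b) using 1
          rw [← Pi.single_smul, ← Submodule.Quotient.mk_smul, smul_eq_mul, mul_comm b]
          rfl)
    have hτ : Function.Surjective τ := by
      intro z
      obtain ⟨v, rfl⟩ := Submodule.mkQ_surjective _ z
      choose r hr using fun p => Submodule.mkQ_surjective (J p N) (v p)
      refine ⟨fun p => Submodule.Quotient.mk (r p), ?_⟩
      conv_rhs => rw [← Finset.univ_sum_single v, map_sum]
      simp [τ, ← hr]
      exact Finset.sum_congr rfl fun p _ => rfl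
    calc (Fintype.card ι : ℕ∞) * N = ∑ _p : ι, (N : ℕ∞) := by simp
      _ ≤ ∑ p : ι, Module.length R (R ⧸ J p N) := Finset.sum_le_sum fun p _ => hlow p N
      _ = Module.length R (Π p : ι, R ⧸ J p N) := by rw [Module.length_pi_of_fintype]
      _ = Module.length R (LinearMap.range ψ) + Module.length R ((Π p : ι, R ⧸ J p N) ⧸ LinearMap.range ψ) :=
          Module.length_eq_add_of_exact _ _ (Submodule.subtype_injective _) (Submodule.mkQ_surjective _)
            (LinearMap.exact_subtype_mkQ _)
      _ ≤ N * ℓ + (Fintype.card ι : ℕ∞) * (C * ℓ) := by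
          refine add_le_add ((Module.length_le_of_surjective ψ.rangeRestrict ψ.surjective_rangeRestrict).trans (hup N))
            ((Module.length_le_of_surjective τ hτ).trans ?_)
          rw [Module.length_pi_of_fintype]
          exact (Finset.sum_le_sum fun p _ => hup C).trans (by simp)
  rw [Set.ncard_eq_toFinset_card', Set.toFinset_card]
  by_contra hlt
  push Not at hlt
  obtain ⟨l, hl⟩ := ENat.ne_top_iff_exists.1 hlt.ne_top
  have h1 := hmain (Fintype.card ι * (C * l) + 1)
  rw [← hl] at h1 hlt
  norm_cast at h1 hlt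
  have h2 : (Fintype.card ι * (C * l) + 1) * (l + 1) ≤ Fintype.card ι * (Fintype.card ι * (C * l) + 1) := by
    rw [mul_comm (Fintype.card ι) (Fintype.card ι * (C * l) + 1)]
    exact Nat.mul_le_mul_left _ hlt
  rw [Nat.mul_succ] at h2
  omega

end Groth.Agent.S2014
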