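import Groth.Statements.S2015
import Mathlib
-- import your own Groth.Agent.* helpers here

set_option autoImplicit false
universe u
open EtAlg

namespace Groth.Agent.S2015

/-- Let R be a nonzero ring such that for all a, b in R either a divides b or b divides a. Then each
finitely presented R-module decomposes as a direct sum of finitely many cyclic modules R/fR. -/
theorem result (R : Type u) [CommRing R] [Nontrivial R] (h : ∀ a b : R, a ∣ b ∨ b ∣ a)
    (M : Type u) [AddCommGroup M] [Module R M] [Module.FinitePresentation R M] :
    ∃ (n : ℕ) (f : Fin n → R), Nonempty (M ≃ₗ[R] ((i : Fin n) → R ⧸ Ideal.span {f i})) := by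
  classical
  -- a finite set of elements has one dividing all the others
  have hmin : ∀ (s : Finset R), s.Nonempty → ∃ a ∈ s, ∀ b ∈ s, a ∣ b := by
    intro s hs
    induction s using Finset.induction_on with
    | empty => exact absurd hs (by simp)
    | insert a s _ ih =>
        rcases s.eq_empty_or_nonempty with rfl | hs'
        · exact ⟨a, by simp, fun b hb => by simp at hb; simp [hb]⟩
        obtain ⟨c, hc, hcd⟩ := ih hs'
        rcases h a c with hac | hca
        · exact ⟨a, Finset.mem_insert_self _ _, fun b hb => (Finset.mem_insert.mp hb).elim (fun e => e ▸ dvd_rfl) (fun hb => hac.trans (hcd b hb))⟩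
        · exact ⟨c, Finset.mem_insert_of_mem hc, fun b hb => (Finset.mem_insert.mp hb).elim (fun e => e ▸ hca) (hcd b)⟩
  have key : ∀ (n : ℕ) (K : Submodule R (Fin n → R)), K.FG →
      ∃ f : Fin n → R, Nonempty (((Fin n → R) ⧸ K) ≃ₗ[R] ((i : Fin n) → R ⧸ Ideal.span {f i})) := by
    intro n
    induction n with
    | zero =>
        intro K _
        exact ⟨0, ⟨(0 : _ →ₗ[R] _) |> fun l => LinearEquiv.ofBijective l
          ⟨fun x y _ => Subsingleton.elim x y, fun y => ⟨0, Subsingleton.elim _ _⟩⟩⟩⟩
    | succ n ih =>
        intro K hK
        obtain ⟨s, rfl⟩ := hK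
        by_cases hz : ∀ v ∈ s, v = 0
        · refine ⟨0, ⟨?_⟩⟩
          have hK0 : Submodule.span R (s : Set (Fin (n + 1) → R)) = ⊥ :=
            Submodule.span_eq_bot.mpr hz
          exact (Submodule.quotEquivOfEqBot _ hK0).trans (LinearEquiv.piCongrRight fun i =>
            (Submodule.quotEquivOfEqBot (Ideal.span {(0 : Fin (n + 1) → R) i}) (by simp)).symm)
        push Not at hz
        obtain ⟨v₀, hv₀, -⟩ := hz
        obtain ⟨g, hg, hgd⟩ := hmin ((s ×ˢ Finset.univ).image fun q => q.1 q.2)
          ⟨_, Finset.mem_image.mpr ⟨(v₀, 0), by simp [hv₀], rfl⟩⟩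
        obtain ⟨⟨v, j₀⟩, hvj, rfl⟩ := Finset.mem_image.mp hg
        have hv : v ∈ s := (Finset.mem_product.mp hvj).1
        have hd : ∀ u ∈ s, ∀ j, v j₀ ∣ u j := fun u hu j =>
          hgd _ (Finset.mem_image.mpr ⟨(u, j), by simp [hu], rfl⟩)
        choose w₀ hw₀ using fun j => hd v hv j
        let w : Fin (n + 1) → R := Function.update w₀ j₀ 1
        have hvw : v = (v j₀) • w := by
          funext j
          by_cases hj : j = j₀
          · subst hj; simp [w]
          · simp only [w, Pi.smul_apply, Function.update_of_ne hj, smul_eq_mul]; exact hw₀ j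
        -- split off the coordinate j₀ along w
        let π : (Fin (n + 1) → R) →ₗ[R] R × (Fin n → R) :=
          (LinearMap.proj j₀).prod (LinearMap.pi fun i =>
            LinearMap.proj (j₀.succAbove i) - w (j₀.succAbove i) • LinearMap.proj j₀)
        have hπ : Function.Bijective π := by
          constructor
          · intro x y hxy
            have h1 : x j₀ = y j₀ := congrArg Prod.fst hxy
            funext j
            rcases Fin.eq_self_or_eq_succAbove j₀ j with rfl | ⟨i, rfl⟩
            · exact h1
            · have h2 := congrFun (congrArg Prod.snd hxy) i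
              simpa [π, h1] using h2
          · rintro ⟨r, z⟩
            refine ⟨r • w + j₀.insertNth 0 z, Prod.ext (by simp [π, w]) (funext fun i => ?_)⟩
            simp [π, w, Fin.succAbove_ne j₀ i]
        let K' : Submodule R (Fin n → R) :=
          Submodule.span R (((s.image fun u => (π u).2 : Finset _)) : Set (Fin n → R))
        obtain ⟨f', ⟨e'⟩⟩ := ih K' ⟨_, rfl⟩
        refine ⟨Fin.cons (v j₀) f', ⟨?_⟩⟩
        let Φ : (Fin (n + 1) → R) →ₗ[R] (i : Fin (n + 1)) → R ⧸ Ideal.span {(Fin.cons (v j₀) f' : Fin (n + 1) → R) i} :=
          LinearMap.pi (Fin.cases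
            ((Submodule.mkQ (Ideal.span {v j₀})).comp ((LinearMap.fst R R _).comp π))
            (fun i => (LinearMap.proj i).comp (e'.toLinearMap.comp ((Submodule.mkQ K').comp ((LinearMap.snd R R _).comp π)))))
        have hΦsurj : Function.Surjective Φ := by
          intro y
          obtain ⟨r, hr⟩ := Submodule.mkQ_surjective (Ideal.span {v j₀}) (y 0)
          obtain ⟨z, hz⟩ := Submodule.mkQ_surjective K' (e'.symm fun i => y i.succ)
          obtain ⟨x, hx⟩ := hπ.2 (r, z)
          refine ⟨x, funext fun i => ?_⟩
          cases i using Fin.cases with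
          | zero => show Submodule.mkQ _ (π x).1 = _; rw [hx]; exact hr
          | succ i =>
              show e' (Submodule.mkQ K' (π x).2) i = _
              rw [hx]; show e' (Submodule.mkQ K' z) i = _
              rw [hz, LinearEquiv.apply_symm_apply]
        have hker : LinearMap.ker Φ = Submodule.span R (s : Set (Fin (n + 1) → R)) := by
          have hΦiff : ∀ x, Φ x = 0 ↔ (π x).1 ∈ Ideal.span {v j₀} ∧ (π x).2 ∈ K' := by
            intro x
            constructor
            · intro hx
              refine ⟨(Submodule.Quotient.mk_eq_zero _).mp (congrFun hx 0), ?_⟩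
              refine (Submodule.Quotient.mk_eq_zero _).mp (e'.injective ?_)
              rw [map_zero]
              exact funext fun i => congrFun hx i.succ
            · rintro ⟨h1, h2⟩
              funext i
              cases i using Fin.cases with
              | zero => exact (Submodule.Quotient.mk_eq_zero _).mpr h1
              | succ i =>
                  show e' (Submodule.mkQ K' (π x).2) i = 0
                  rw [Submodule.mkQ_apply, (Submodule.Quotient.mk_eq_zero _).mpr h2, map_zero]; rfl
          apply le_antisymm
          · intro x hx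
            obtain ⟨h1, h2⟩ := (hΦiff x).mp hx
            obtain ⟨r, hr⟩ := Ideal.mem_span_singleton'.mp h1
            have hmap : K' = (Submodule.span R (s : Set (Fin (n + 1) → R))).map ((LinearMap.snd R R _).comp π) := by
              simp only [K', Submodule.map_span, Finset.coe_image]; rfl
            rw [hmap] at h2
            obtain ⟨y, hy, hy2⟩ := h2
            have hπv : π v = (v j₀, 0) := Prod.ext rfl (funext fun i => by
              show v (j₀.succAbove i) - w (j₀.succAbove i) * v j₀ = 0
              rw [congrFun hvw (j₀.succAbove i)]; simp [w]; ring)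
            obtain ⟨c, hc⟩ : v j₀ ∣ (π y).1 := by
              show v j₀ ∣ y j₀
              clear hy2
              induction hy using Submodule.span_induction with
              | mem u hu => exact hd u hu j₀
              | zero => exact dvd_zero _
              | add a b _ _ ha hb => exact dvd_add ha hb
              | smul c a _ ha => exact dvd_mul_of_dvd_right ha c
            have hx' : x = y + (r - c) • v := hπ.1 (by
              rw [map_add, map_smul, hπv]
              refine Prod.ext ?_ ?_
              · show (π x).1 = (π y).1 + (r - c) * v j₀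
                rw [hc, ← hr]; ring
              · simp only [Prod.snd_add, Prod.smul_snd, smul_zero, add_zero]
                exact hy2.symm)
            rw [hx']
            exact add_mem hy (Submodule.smul_mem _ _ (Submodule.subset_span hv))
          · rw [Submodule.span_le]
            intro u hu
            rw [SetLike.mem_coe, LinearMap.mem_ker, hΦiff]
            exact ⟨Ideal.mem_span_singleton.mpr (hd u hu j₀),
              Submodule.subset_span (Finset.mem_coe.mpr (Finset.mem_image_of_mem _ hu))⟩
        exact (Submodule.quotEquivOfEq _ _ hker.symm).trans (Φ.quotKerEquivOfSurjective hΦsurj)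
  obtain ⟨n, K, e, hK⟩ := Module.FinitePresentation.exists_fin R M
  obtain ⟨f, ⟨e'⟩⟩ := key n K hK
  exact ⟨n, f, ⟨e.trans e'⟩⟩

end Groth.Agent.S2015
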