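import Mathlib
import Groth.Statements.S2016
-- import your own Groth.Agent.* helpers here

set_option autoImplicit false
universe u
open EtAlg

namespace Groth.Agent.S2016


theorem exists_dvd_all {S ι : Type*} [CommRing S] (h : ∀ a b : S, a ∣ b ∨ b ∣ a) [Finite ι]
    [Nonempty ι] (a : ι → S) : ∃ i, ∀ j, a i ∣ a j := by
  classical
  haveI := Fintype.ofFinite ι
  suffices ∀ s : Finset ι, s.Nonempty → ∃ i, ∀ j ∈ s, a i ∣ a j by
    obtain ⟨i, hi⟩ := this Finset.univ Finset.univ_nonempty
    exact ⟨i, fun j => hi j (Finset.mem_univ j)⟩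
  intro s hs
  induction hs using Finset.Nonempty.cons_induction with
  | singleton x => exact ⟨x, fun j hj => by rw [Finset.mem_singleton.mp hj]⟩
  | cons x s hx hs ih =>
    obtain ⟨i, hi⟩ := ih
    rcases h (a x) (a i) with h1 | h1
    · refine ⟨x, fun j hj => ?_⟩
      rcases Finset.mem_cons.mp hj with rfl | hj
      · exact dvd_rfl
      · exact h1.trans (hi j hj)
    · refine ⟨i, fun j hj => ?_⟩
      rcases Finset.mem_cons.mp hj with rfl | hj
      · exact h1
      · exact hi j hj

/-- Elementary divisors over a ring in which divisibility is total. -/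
theorem exists_diag {S : Type*} [CommRing S] (h : ∀ a b : S, a ∣ b ∨ b ∣ a) :
    ∀ (m n : ℕ) (r : Fin n → (Fin m → S)), ∃ (e : (Fin m → S) ≃ₗ[S] (Fin m → S)) (f : Fin m → S),
      ∀ x, x ∈ Submodule.span S (Set.range r) ↔ ∀ i, f i ∣ e x i := by
  intro m
  induction m with
  | zero =>
    intro n r
    refine ⟨LinearEquiv.refl _ _, 0, fun x => ⟨fun _ i => i.elim0, fun _ => ?_⟩⟩
    rw [Subsingleton.elim x 0]
    exact zero_mem _
  | succ m ih =>
    intro n r
    rcases isEmpty_or_nonempty (Fin n) with hn | hn
    · refine ⟨LinearEquiv.refl _ _, 0, fun x => ?_⟩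
      rw [Set.range_eq_empty r, Submodule.span_empty, Submodule.mem_bot]
      simp [zero_dvd_iff, funext_iff]
    obtain ⟨⟨k0, i0⟩, hd⟩ := exists_dvd_all h (fun q : Fin n × Fin (m + 1) => r q.1 q.2)
    set a := r k0 i0 with ha
    choose w0 hw0 using fun k i => hd (k, i)
    let w : Fin n → Fin (m + 1) → S := Function.update w0 k0 (Function.update (w0 k0) i0 1)
    have hw : ∀ k, r k = a • w k := by
      intro k
      funext i
      rw [Pi.smul_apply, smul_eq_mul]
      by_cases hk : k = k0
      · subst hk
        by_cases hi : i = i0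
        · subst hi; simp [w, ha]
        · simpa [w, hi] using hw0 k i
      · simpa [w, hk] using hw0 k i
    set v := w k0 with hv
    have hv1 : v i0 = 1 := by simp [hv, w]
    let e1 : (Fin (m + 1) → S) ≃ₗ[S] S × (Fin m → S) :=
      { toFun := fun x => (x i0, fun j => x (i0.succAbove j) - x i0 * v (i0.succAbove j))
        map_add' := fun x y => by ext <;> simp <;> ring
        map_smul' := fun c x => by ext <;> simp <;> ring
        invFun := fun z => i0.insertNth z.1 (fun j => z.2 j + z.1 * v (i0.succAbove j))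
        left_inv := fun x => by
          funext i
          rcases Fin.eq_self_or_eq_succAbove i0 i with rfl | ⟨j, rfl⟩ <;> simp
        right_inv := fun z => by ext <;> simp }
    obtain ⟨e2, f2, hf2⟩ := ih n (fun k => a • (e1 (w k)).2)
    refine ⟨e1.trans ((LinearEquiv.prodCongr (LinearEquiv.refl S S) e2).trans
      (Fin.consLinearEquiv S (fun _ => S))), Fin.cons a f2, fun x => ?_⟩
    have hx : x ∈ Submodule.span S (Set.range r) ↔
        e1 x ∈ Submodule.prod (Submodule.span S {a})
          (Submodule.span S (Set.range fun k => a • (e1 (w k)).2)) := by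
      have : (Submodule.span S (Set.range r)).map e1.toLinearMap =
          Submodule.prod (Submodule.span S {a})
            (Submodule.span S (Set.range fun k => a • (e1 (w k)).2)) := by
        rw [Submodule.map_span, ← Set.range_comp]
        apply le_antisymm
        · rw [Submodule.span_le]
          rintro _ ⟨k, rfl⟩
          refine ⟨?_, ?_⟩
          · simp [e1, hw k, Ideal.mem_span_singleton]
          · simp only [Function.comp_apply, LinearEquiv.coe_coe, hw k, map_smul, Prod.smul_snd]
            exact Submodule.subset_span ⟨k, rfl⟩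
        · have h0 : (a, (0 : Fin m → S)) ∈
              Submodule.span S (Set.range (e1.toLinearMap ∘ r)) := by
            rw [show (a, (0 : Fin m → S)) = (e1.toLinearMap ∘ r) k0 by
              ext j
              · simp [e1, hw k0, ← hv, hv1]
              · simp [e1, hw k0, ← hv, hv1]]
            exact Submodule.subset_span (Set.mem_range_self _)
          have h1 : ∀ k, ((0 : S), a • (e1 (w k)).2) ∈
              Submodule.span S (Set.range (e1.toLinearMap ∘ r)) := by
            intro k
            have := sub_mem (Submodule.subset_span (Set.mem_range_self (f := e1.toLinearMap ∘ r) k))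
              (Submodule.smul_mem _ (w k i0) h0)
            convert this using 1
            ext j
            · simp [e1, hw k]; ring
            · simp [e1, hw k]; ring
          rintro ⟨c, z⟩ ⟨hc, hz⟩
          obtain ⟨c, rfl⟩ := Ideal.mem_span_singleton'.mp hc
          have hz' : ((0 : S), z) ∈ Submodule.span S (Set.range (e1.toLinearMap ∘ r)) := by
            have : Submodule.span S (Set.range fun k => a • (e1 (w k)).2) ≤
                (Submodule.span S (Set.range (e1.toLinearMap ∘ r))).comap (LinearMap.inr S S _) := by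
              rw [Submodule.span_le]
              rintro _ ⟨k, rfl⟩
              exact h1 k
            exact this hz
          have := add_mem (Submodule.smul_mem _ c h0) hz'
          simpa using this
      rw [← this]
      simp
    rw [hx, Submodule.mem_prod, ← Ideal.span, Ideal.mem_span_singleton, hf2, Fin.forall_fin_succ]
    simp

theorem exists_smul_mem_of_mem_span {R : Type*} [CommRing R] (p : Submonoid R) {S : Type*}
    [CommRing S] [Algebra R S] [IsLocalization p S] {m k : ℕ} (r : Fin k → Fin m → R) (x : Fin m → R)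
    (hx : (fun i => algebraMap R S (x i)) ∈
      Submodule.span S (Set.range fun j i => algebraMap R S (r j i))) :
    ∃ t ∈ p, t • x ∈ Submodule.span R (Set.range r) := by
  obtain ⟨c, hc⟩ := (Submodule.mem_span_range_iff_exists_fun S).mp hx
  obtain ⟨b, hb⟩ := IsLocalization.exist_integer_multiples_of_finite p c
  choose C hC using hb
  have : ∀ i, algebraMap R S ((b : R) * x i) = algebraMap R S (∑ j, C j * r j i) := by
    intro i
    have hi := congrFun hc i
    simp only [Finset.sum_apply, Pi.smul_apply, smul_eq_mul] at hi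
    rw [map_mul, ← hi, Finset.mul_sum, map_sum]
    refine Finset.sum_congr rfl fun j _ => ?_
    rw [map_mul, hC, Algebra.smul_def]
    ring
  choose u hu using fun i => (IsLocalization.eq_iff_exists p S).mp (this i)
  refine ⟨(∏ i, (u i : R)) * b, mul_mem (prod_mem fun i _ => (u i).2) b.2,
    (Submodule.mem_span_range_iff_exists_fun R).mpr ⟨fun j => (∏ i, (u i : R)) * C j, ?_⟩⟩
  funext i
  obtain ⟨d, hd⟩ := Finset.dvd_prod_of_mem (fun i => (u i : R)) (Finset.mem_univ i)
  simp only [Finset.sum_apply, Pi.smul_apply, smul_eq_mul, hd, mul_assoc, ← Finset.mul_sum]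
  linear_combination (-d) * hu i

/-- `g • id` factors through a finite sum of cyclic modules. -/
def Fac {R : Type u} [CommRing R] (M : Type u) [AddCommGroup M] [Module R M] (g : R) : Prop :=
  ∃ (ι : Type) (_ : Fintype ι) (f : ι → R) (ψ : M →ₗ[R] ((i : ι) → R ⧸ Ideal.span {f i}))
    (φ : ((i : ι) → R ⧸ Ideal.span {f i}) →ₗ[R] M), φ.comp ψ = g • LinearMap.id

def facIdeal (R : Type u) [CommRing R] (M : Type u) [AddCommGroup M] [Module R M] : Ideal R where
  carrier := {g | Fac M g}
  zero_mem' := ⟨Fin 0, inferInstance, Fin.elim0, 0, 0, by simp⟩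
  add_mem' := by
    rintro g g' ⟨ι, _, f, ψ, φ, h⟩ ⟨ι', _, f', ψ', φ', h'⟩
    refine ⟨ι ⊕ ι', inferInstance, Sum.elim f f',
      LinearMap.pi (fun | .inl i => (LinearMap.proj i).comp ψ | .inr i => (LinearMap.proj i).comp ψ'),
      φ.comp (LinearMap.pi fun i => LinearMap.proj (Sum.inl i)) +
        φ'.comp (LinearMap.pi fun i => LinearMap.proj (Sum.inr i)), ?_⟩
    ext x
    have e1 := LinearMap.congr_fun h x
    have e2 := LinearMap.congr_fun h' x
    simp only [LinearMap.comp_apply, LinearMap.smul_apply, LinearMap.id_apply] at e1 e2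
    simp only [LinearMap.comp_apply, LinearMap.smul_apply, LinearMap.id_apply, LinearMap.add_apply,
      add_smul]
    rw [← e1, ← e2]
    rfl
  smul_mem' := by
    rintro c g ⟨ι, _, f, ψ, φ, h⟩
    exact ⟨ι, inferInstance, f, c • ψ, φ, by rw [LinearMap.comp_smul, h, smul_smul, smul_eq_mul]⟩

theorem exists_fac_notMem {R : Type u} [CommRing R] (P : Ideal R) [P.IsPrime]
    (h : ∀ a b : Localization.AtPrime P, a ∣ b ∨ b ∣ a)
    (M : Type u) [AddCommGroup M] [Module R M] [Module.FinitePresentation R M] :
    ∃ g ∈ P.primeCompl, Fac M g := by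
  classical
  obtain ⟨m, m', Q, _, hQ, _⟩ := Module.FinitePresentation.exists_fin' R M
  have hK : Q.ker.FG := Module.FinitePresentation.fg_ker Q hQ
  obtain ⟨k, r, hr⟩ := Submodule.fg_iff_exists_fin_generating_family.mp hK
  let S := Localization.AtPrime P
  let ι : (Fin m → R) →ₗ[R] (Fin m → S) := LinearMap.compLeft (Algebra.linearMap R S) (Fin m)
  have hι : ∀ x i, ι x i = algebraMap R S (x i) := fun _ _ => rfl
  obtain ⟨e, f, hef⟩ := exists_diag h m k (fun j => ι (r j))
  -- denominators
  choose Fd hFd using fun i => IsLocalization.surj P.primeCompl (f i)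
  let F : Fin m → R := fun i => (Fd i).1
  let d : Fin m → P.primeCompl := fun i => (Fd i).2
  have hF : ∀ i, f i ∣ algebraMap R S (F i) ∧ algebraMap R S (F i) ∣ f i := fun i =>
    ⟨⟨_, (hFd i).symm⟩, by
      rw [← hFd i]
      exact (IsLocalization.map_units S (d i)).mul_right_dvd.mpr dvd_rfl⟩
  obtain ⟨bW, hbW⟩ := IsLocalization.exist_integer_multiples_of_finite P.primeCompl
    (fun q : Fin m × Fin m => e.symm (Pi.single q.1 1) q.2)
  choose W hW using fun i j => hbW (i, j)
  obtain ⟨bC, hbC⟩ := IsLocalization.exist_integer_multiples_of_finite P.primeCompl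
    (fun q : Fin m × Fin m => e (ι (Pi.single q.1 1)) q.2)
  choose C hC using fun i j => hbC (i, j)
  have hW' : ∀ i, ι (W i) = algebraMap R S bW • e.symm (Pi.single i 1) := fun i =>
    funext fun j => by rw [hι, hW, Pi.smul_apply, smul_eq_mul, Algebra.smul_def]
  -- cyclic modules mapping to `M`
  have hFW : ∀ i, ∃ t ∈ P.primeCompl, Q ((t * F i) • W i) = 0 := by
    intro i
    obtain ⟨t, ht, hmem⟩ := exists_smul_mem_of_mem_span P.primeCompl r (F i • W i) (S := S) (by
      change ι (F i • W i) ∈ Submodule.span S (Set.range fun j => ι (r j))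
      rw [hef, map_smul, hW', ← algebraMap_smul S (F i), smul_smul, map_smul,
        LinearEquiv.apply_symm_apply]
      intro j
      by_cases hij : j = i
      · subst hij
        simp only [Pi.smul_apply, Pi.single_eq_same, smul_eq_mul, mul_one]
        exact Dvd.dvd.mul_right (hF j).1 _
      · simp [hij])
    exact ⟨t, ht, by rw [mul_smul]; rwa [hr] at hmem⟩
  choose t ht htW using hFW
  -- `C` kills relations up to a denominator
  let ψ0 : (Fin m → R) →ₗ[R] (Fin m → R) :=
    Fintype.linearCombination R (fun j => fun i => C j i)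
  have hψ0 : ∀ x, ι (ψ0 x) = algebraMap R S bC • e (ι x) := by
    intro x
    have : ι.comp ψ0 = (algebraMap R S bC • (e.toLinearMap.restrictScalars R)).comp ι := by
      apply LinearMap.pi_ext'
      intro j
      ext i
      simp [ψ0, hι]
      refine (hC j i).trans ?_
      simp only [Algebra.smul_def]
    exact LinearMap.congr_fun this x
  have hrel : ∀ j i, ∃ v ∈ P.primeCompl, v * ψ0 (r j) i ∈ Ideal.span {t i * F i} := by
    intro j i
    have h1 : algebraMap R S (t i * F i) ∣ algebraMap R S (ψ0 (r j) i) := by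
      rw [← hι (ψ0 (r j)) i, hψ0, Pi.smul_apply, smul_eq_mul, map_mul]
      refine ((IsLocalization.map_units S (⟨t i, ht i⟩ : P.primeCompl)).mul_left_dvd).mpr ?_
      exact Dvd.dvd.mul_left
        ((hF i).2.trans ((hef _).mp (Submodule.subset_span (Set.mem_range_self j)) i)) _
    have h2 : algebraMap R S (ψ0 (r j) i) ∈ (Ideal.span {t i * F i}).map (algebraMap R S) := by
      rwa [Ideal.map_span, Set.image_singleton, Ideal.mem_span_singleton]
    obtain ⟨v, hv, hv2⟩ := (IsLocalization.algebraMap_mem_map_algebraMap_iff P.primeCompl S _ _).mp h2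
    exact ⟨v, hv, hv2⟩
  choose v hv hvmem using hrel
  set g1 := ∏ j, ∏ i, v j i with hg1
  have hg1m : g1 ∈ P.primeCompl := prod_mem fun j _ => prod_mem fun i _ => hv j i
  let π : (Fin m → R) →ₗ[R] ((i : Fin m) → R ⧸ Ideal.span {t i * F i}) :=
    LinearMap.pi fun i => (Submodule.mkQ (Ideal.span {t i * F i})).comp (LinearMap.proj i)
  have hker : LinearMap.ker Q ≤ LinearMap.ker (g1 • π.comp ψ0) := by
    rw [← hr, Submodule.span_le]
    rintro _ ⟨j, rfl⟩
    funext i
    change g1 • Submodule.Quotient.mk (ψ0 (r j) i) = (0 : R ⧸ Ideal.span {t i * F i})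
    rw [← Submodule.Quotient.mk_smul, Submodule.Quotient.mk_eq_zero, smul_eq_mul]
    obtain ⟨c, hc⟩ := (Finset.dvd_prod_of_mem (fun i => v j i) (Finset.mem_univ i)).trans
      (Finset.dvd_prod_of_mem (fun j => ∏ i, v j i) (Finset.mem_univ j))
    rw [hg1, hc, mul_comm (v j i), mul_assoc]
    exact Ideal.mul_mem_left _ _ (hvmem j i)
  let qe := Q.quotKerEquivOfSurjective hQ
  let ψ : M →ₗ[R] ((i : Fin m) → R ⧸ Ideal.span {t i * F i}) :=
    ((LinearMap.ker Q).liftQ _ hker).comp qe.symm.toLinearMap
  have hψ : ∀ x, ψ (Q x) = g1 • π (ψ0 x) := by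
    intro x
    have : qe.symm (Q x) = Submodule.Quotient.mk x := by
      rw [LinearEquiv.symm_apply_eq]; rfl
    simp [ψ, this]
  let φ0 : (Fin m → R) →ₗ[R] (Fin m → R) := Fintype.linearCombination R W
  let φ : ((i : Fin m) → R ⧸ Ideal.span {t i * F i}) →ₗ[R] M :=
    LinearMap.lsum R _ R fun i => Submodule.liftQ _ (LinearMap.toSpanSingleton R M (Q (W i))) (by
      change Ideal.span {t i * F i} ≤ _
      rw [Ideal.span_le, Set.singleton_subset_iff]
      simpa using htW i)
  have hφ : ∀ y, φ (π y) = Q (φ0 y) := by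
    intro y
    simp [φ, π, φ0, Fintype.linearCombination_apply, LinearMap.toSpanSingleton]
    exact Finset.sum_congr rfl fun x _ => rfl
  have hcomp : ∀ x, ι (φ0 (ψ0 x)) = ι ((bW * bC : R) • x) := by
    intro x
    have hφ0 : ι.comp φ0 = (algebraMap R S bW • (e.symm.toLinearMap.restrictScalars R)).comp ι := by
      apply LinearMap.pi_ext'
      intro j
      have hs : ι (Pi.single j 1) = Pi.single j 1 := by
        funext i
        by_cases hij : i = j
        · subst hij; simp [hι]
        · simp [hι, hij]
      ext i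
      simp [φ0, hs, hW']
      exact (Algebra.smul_def _ _).symm
    have := LinearMap.congr_fun hφ0 (ψ0 x)
    simp only [LinearMap.comp_apply] at this
    rw [this, hψ0, map_smul ι, LinearMap.smul_apply, LinearMap.restrictScalars_apply,
      LinearEquiv.coe_coe, map_smul, LinearEquiv.symm_apply_apply, smul_smul, ← map_mul,
      algebraMap_smul, mul_comm]
  choose w hw using fun j i => (IsLocalization.eq_iff_exists P.primeCompl S).mp
    (congrFun (hcomp (Pi.single j 1)) i)
  set g2 := ∏ j, ∏ i, (w j i : R) with hg2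
  refine ⟨g2 * (g1 * (bW * bC)), mul_mem (prod_mem fun j _ => prod_mem fun i _ => (w j i).2)
    (mul_mem hg1m (mul_mem bW.2 bC.2)), Fin m, inferInstance, fun i => t i * F i, g2 • ψ, φ, ?_⟩
  have h0 : (g2 * g1) • φ0.comp ψ0 = (g2 * (g1 * (bW * bC))) • LinearMap.id := by
    apply LinearMap.pi_ext'
    intro j
    ext i
    obtain ⟨c, hc⟩ := (Finset.dvd_prod_of_mem (fun i => (w j i : R)) (Finset.mem_univ i)).trans
      (Finset.dvd_prod_of_mem (fun j => ∏ i, (w j i : R)) (Finset.mem_univ j))
    have := hw j i
    simp only [LinearMap.comp_apply, LinearMap.smul_apply, LinearMap.single_apply, LinearMap.id_apply,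
      Pi.smul_apply, smul_eq_mul, hg2, hc] at this ⊢
    linear_combination (c * g1) * this
  refine LinearMap.ext fun y => ?_
  obtain ⟨x, rfl⟩ := hQ y
  have := congrArg Q (LinearMap.congr_fun h0 x)
  simp only [LinearMap.smul_apply, LinearMap.comp_apply, LinearMap.id_apply, map_smul] at this ⊢
  rw [hψ, map_smul, hφ, smul_smul, this]


/-- Let R be a ring such that for every maximal ideal m and all a, b in R_m, either a divides b or b
divides a in R_m. Then each finitely presented R-module is a direct summand of a direct sum of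
finitely many cyclic modules R/fR. -/
theorem result (R : Type u) [CommRing R]
    (h : ∀ (m : Ideal R) [m.IsMaximal], ∀ a b : Localization.AtPrime m, a ∣ b ∨ b ∣ a)
    (M : Type u) [AddCommGroup M] [Module R M] [Module.FinitePresentation R M] :
    ∃ (n : ℕ) (f : Fin n → R) (N : Type u) (_ : AddCommGroup N) (_ : Module R N),
      Nonempty ((M × N) ≃ₗ[R] ((i : Fin n) → R ⧸ Ideal.span {f i})) := by
  classical
  have h1 : (1 : R) ∈ facIdeal R M := by
    by_contra hne
    obtain ⟨m, hm, hle⟩ := Ideal.exists_le_maximal (facIdeal R M)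
      (fun ht => hne (ht ▸ Submodule.mem_top))
    obtain ⟨g, hg, hfac⟩ := exists_fac_notMem m (h m) M
    exact hg (hle hfac)
  obtain ⟨ι, _, f, ψ, φ, hφψ⟩ := h1
  let e := (Fintype.equivFin ι).symm
  let re : ((i : ι) → R ⧸ Ideal.span {f i}) ≃ₗ[R]
      ((j : Fin (Fintype.card ι)) → R ⧸ Ideal.span {f (e j)}) :=
    (LinearEquiv.piCongrLeft R (fun i => R ⧸ Ideal.span {f i}) e).symm
  have hid : ∀ x, φ (ψ x) = x := fun x => by simpa using LinearMap.congr_fun hφψ x
  refine ⟨Fintype.card ι, f ∘ e, LinearMap.ker φ, inferInstance, inferInstance, ⟨?_⟩⟩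
  suffices h : Nonempty ((M × LinearMap.ker φ) ≃ₗ[R] ((i : ι) → R ⧸ Ideal.span {f i})) from
    h.some.trans re
  refine ⟨?_⟩
  refine LinearEquiv.ofLinearMap (ψ.coprod (LinearMap.ker φ).subtype)
    (LinearMap.prod φ (((LinearMap.id : ((i : ι) → R ⧸ Ideal.span {f i}) →ₗ[R] _) - ψ.comp φ).codRestrict (LinearMap.ker φ)
      (fun p => by simp [hid]))) ?_ ?_
  · ext p : 1
    simp
  · refine LinearMap.ext fun z => ?_
    obtain ⟨x, ⟨n, hn⟩⟩ := z
    rw [LinearMap.mem_ker] at hn
    refine Prod.ext ?_ (Subtype.ext ?_)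
    · simp [hid, hn]
    · simp [hid, hn]

end Groth.Agent.S2016
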