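import Groth.Statements.S2017
import Groth.Agent.EtAlgEasy.FibreFT
-- import your own Groth.Agent.* helpers here

set_option autoImplicit false
universe u
open EtAlg

namespace Groth.Agent.S2017

/-- Let R be a Noetherian ring, A, B, C R-algebras of finite type, f : A -> B a surjective R-algebra map
and g : C -> B an R-algebra map making B a finite C-module. Then the fibre product A ×_B C (the
equalizer of f ∘ pr₁ and g ∘ pr₂ in A × C) is an R-algebra of finite type. -/
theorem result (R A B C : Type u) [CommRing R] [IsNoetherianRing R] [CommRing A] [CommRing B]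
    [CommRing C] [Algebra R A] [Algebra R B] [Algebra R C] [Algebra.FiniteType R A] [Algebra.FiniteType R B]
    [Algebra.FiniteType R C] (f : A →ₐ[R] B) (hf : Function.Surjective f) (g : C →ₐ[R] B)
    (hg : (g.toRingHom).Finite) :
    Algebra.FiniteType R ↥(AlgHom.equalizer (f.comp (AlgHom.fst R A C)) (g.comp (AlgHom.snd R A C))) := by
  classical
  let P := AlgHom.equalizer (f.comp (AlgHom.fst R A C)) (g.comp (AlgHom.snd R A C))
  have hidem : ∀ e : A × C, e * e = e → IsIntegral P e := fun e he =>
    ⟨Polynomial.X ^ 2 - Polynomial.X, Polynomial.monic_X_pow_sub (by simp [Polynomial.degree_X_le.trans_lt]),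
      by simp [sq, he]⟩
  have hlift : ∀ c : C, ∃ p : P, (p : A × C).2 = c := fun c =>
    ⟨⟨((hf (g c)).choose, c), (hf (g c)).choose_spec⟩, rfl⟩
  haveI : Algebra.IsIntegral P (A × C) := ⟨fun z => by
    have h2 : IsIntegral P ((0, z.2) : A × C) := by
      obtain ⟨p, hp⟩ := hlift z.2
      have : ((0, z.2) : A × C) = algebraMap P _ p * (0, 1) := by
        show _ = (p : A × C) * (0, 1)
        rw [← hp]
        exact Prod.ext (by simp) (by simp)
      rw [this]
      exact isIntegral_algebraMap.mul (hidem _ (by simp))
    have h1 : IsIntegral P ((z.1, 0) : A × C) := by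
      obtain ⟨F, hFm, hF⟩ := hg.to_isIntegral (f z.1)
      let fC : P →+* C := (RingHom.snd A C).comp P.val.toRingHom
      let π : P →+* A := (RingHom.fst A C).comp P.val.toRingHom
      obtain ⟨G, hG, -, hGm⟩ := Polynomial.lifts_and_natDegree_eq_and_monic
        (show F ∈ Polynomial.lifts fC from (Polynomial.lifts_iff_coeff_lifts F).2 fun n =>
          ⟨(hlift _).choose, (hlift _).choose_spec⟩) hFm
      have hw : f (G.eval₂ π z.1) = 0 := by
        show f.toRingHom (G.eval₂ π z.1) = 0
        rw [Polynomial.hom_eval₂]
        have : f.toRingHom.comp π = g.toRingHom.comp fC := RingHom.ext fun p => p.2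
        rw [this, ← Polynomial.eval₂_map, hG]
        exact hF
      let w : P := ⟨(G.eval₂ π z.1, 0), show f (G.eval₂ π z.1) = g 0 by rw [hw, map_zero]⟩
      rcases Nat.eq_zero_or_pos G.natDegree with h0 | h0
      · have hF1 : F = 1 := by rw [← hG, hGm.natDegree_eq_zero.1 h0, Polynomial.map_one]
        rw [hF1, Polynomial.eval₂_one] at hF
        have : f z.1 = g 0 := by rw [← mul_one (f z.1), hF, mul_zero, map_zero]
        exact (isIntegral_algebraMap (x := (⟨(z.1, 0), this⟩ : P)))
      · refine ⟨Polynomial.X * (G - Polynomial.C w), Polynomial.monic_X.mul (hGm.sub_of_left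
          (lt_of_le_of_lt Polynomial.degree_C_le (Polynomial.natDegree_pos_iff_degree_pos.1 h0))), ?_⟩
        refine Prod.ext ?_ ?_
        · show (RingHom.fst A C) _ = _
          rw [Polynomial.hom_eval₂]
          show Polynomial.eval₂ π z.1 _ = 0
          rw [Polynomial.eval₂_mul, Polynomial.eval₂_sub, Polynomial.eval₂_C]
          show _ * (G.eval₂ π z.1 - G.eval₂ π z.1) = 0
          rw [sub_self, mul_zero]
        · show (RingHom.snd A C) _ = _
          rw [Polynomial.hom_eval₂]
          show Polynomial.eval₂ fC 0 _ = 0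
          rw [Polynomial.eval₂_mul, Polynomial.eval₂_X, zero_mul]
    have : z = (z.1, 0) + (0, z.2) := by simp
    rw [this]
    exact h1.add h2⟩
  exact EtAlgEasy.finiteType_of_integral P

end Groth.Agent.S2017
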