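import Groth.Statements.S2018
import Mathlib
-- import your own Groth.Agent.* helpers here

set_option autoImplicit false
universe u
open EtAlg

namespace Groth.Agent.S2018

/-- Let g : A' -> A be a surjective ring map and f : B -> A an integral ring map. Then the projection
from the fibre product B ×_A A' (the equalizer of f ∘ pr₁ and g ∘ pr₂ in B × A') to A' is integral. -/
theorem result (A A' B : Type u) [CommRing A] [CommRing A'] [CommRing B] (g : A' →+* A)
    (hg : Function.Surjective g) (f : B →+* A) (hf : f.IsIntegral) :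
    ((RingHom.snd B A').comp ((f.comp (RingHom.fst B A')).eqLocus (g.comp (RingHom.snd B A'))).subtype).IsIntegral := by
  intro a'
  let C := (f.comp (RingHom.fst B A')).eqLocus (g.comp (RingHom.snd B A'))
  let π : C →+* A' := (RingHom.snd B A').comp C.subtype
  obtain ⟨P, hPm, hP⟩ := hf (g a')
  have hlift : ∀ c : B, ∃ z : C, (z : B × A').1 = c := fun c =>
    ⟨⟨(c, (hg (f c)).choose), show f c = g _ from (hg (f c)).choose_spec.symm⟩, rfl⟩
  let fC : C →+* B := (RingHom.fst B A').comp C.subtype
  obtain ⟨Q, hQ, -, hQm⟩ := Polynomial.lifts_and_natDegree_eq_and_monic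
    (show P ∈ Polynomial.lifts fC from (Polynomial.lifts_iff_coeff_lifts P).2 fun n =>
      ⟨(hlift _).choose, (hlift _).choose_spec⟩) hPm
  have hg0 : g (Q.eval₂ π a') = 0 := by
    rw [Polynomial.hom_eval₂]
    have : g.comp π = f.comp fC := RingHom.ext fun z => z.2.symm
    rw [this, ← Polynomial.eval₂_map, hQ]
    exact hP
  let z : C := ⟨(0, Q.eval₂ π a'), show f 0 = g (Q.eval₂ π a') by rw [map_zero, hg0]⟩
  show π.IsIntegralElem a'
  rcases Nat.eq_zero_or_pos Q.natDegree with h0 | h0
  · -- `P = 1`, so `A` is the zero ring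
    have hP1 : P = 1 := by rw [← hQ, hQm.natDegree_eq_zero.1 h0, Polynomial.map_one]
    rw [hP1, Polynomial.eval₂_one] at hP
    have hmem : g a' = f 0 := by
      rw [← mul_one (g a'), hP, mul_zero, map_zero]
    exact ⟨Polynomial.X - Polynomial.C ⟨(0, a'), hmem.symm⟩, Polynomial.monic_X_sub_C _, by
      simp [π]⟩
  · refine ⟨Q - Polynomial.C z, ?_, ?_⟩
    · refine hQm.sub_of_left ?_
      refine lt_of_le_of_lt Polynomial.degree_C_le ?_
      rw [← Polynomial.natDegree_pos_iff_degree_pos]
      exact h0
    · rw [Polynomial.eval₂_sub, Polynomial.eval₂_C]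
      exact sub_self _

end Groth.Agent.S2018
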