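import Groth.Statements.S2021
import Groth.Agent.MilnorLib.Glue
-- import your own Groth.Agent.* helpers here

set_option autoImplicit false
universe u
open TensorProduct
open EtAlg

namespace Groth.Agent.S2021

/-- Let B' = B ×_A A' be a fibre product of rings with A' -> A surjective, N a B-module, M' an A'-module
and φ : A ⊗_B N ≅ A ⊗_{A'} M'. If N and M' are finitely generated then so is the glued B'-module N
×_φ M'; if N and M' are finite projective then N ×_φ M' is finite projective over B'. -/
theorem result (B' B A' A : Type u) [CommRing B'] [CommRing B] [CommRing A'] [CommRing A]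
    [Algebra B' B] [Algebra B' A'] [Algebra B A] [Algebra A' A] [Algebra B' A] [IsScalarTower B' B A] [IsScalarTower B' A' A]
    (hsq : EtMil.IsFibreSquare B' B A' A)
    (N M' : Type u) [AddCommGroup N] [Module B N] [Module B' N] [IsScalarTower B' B N]
    [AddCommGroup M'] [Module A' M'] [Module B' M'] [IsScalarTower B' A' M'] (φ : A ⊗[B] N ≃ₗ[A] A ⊗[A'] M') :
    (Module.Finite B N → Module.Finite A' M' → Module.Finite B' ↥(EtMil.glue B' φ)) ∧
    (Module.Finite B N → Module.Projective B N → Module.Finite A' M' → Module.Projective A' M' →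
      Module.Finite B' ↥(EtMil.glue B' φ) ∧ Module.Projective B' ↥(EtMil.glue B' φ)) := by
  have e1 := LinearEquiv.ofBijective _
      (Groth.Agent.MilnorLib.liftBaseChange_glueFst_bijective φ hsq.1 (fun _ h => Groth.Agent.MilnorLib.exists_lift_ker hsq h) (Groth.Agent.MilnorLib.surjective_fst hsq))
  have e2 := LinearEquiv.ofBijective _
      (Groth.Agent.MilnorLib.liftBaseChange_glueSnd_bijective φ hsq.1 (fun _ h => Groth.Agent.MilnorLib.exists_lift_ker hsq h) (Groth.Agent.MilnorLib.surjective_fst hsq))
  have hfin : Module.Finite B N → Module.Finite A' M' → Module.Finite B' ↥(EtMil.glue B' φ) := by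
    intro _ _
    exact Groth.Agent.MilnorLib.glue_finite φ hsq.1 (fun _ h => Groth.Agent.MilnorLib.exists_lift_ker hsq h) (Groth.Agent.MilnorLib.surjective_fst hsq)
  refine ⟨hfin, fun h1 h2 h3 h4 => ⟨hfin h1 h3, ?_⟩⟩
  haveI : Module.FinitePresentation B N := Module.finitePresentation_of_projective B N
  haveI : Module.FinitePresentation A' M' := Module.finitePresentation_of_projective A' M'
  haveI := Module.Flat.of_linearEquiv e1
  haveI := Module.Flat.of_linearEquiv e2
  haveI := Module.finitePresentation_of_surjective e1.symm.toLinearMap e1.symm.surjective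
    (by rw [LinearMap.ker_eq_bot.2 e1.symm.injective]; exact Submodule.fg_bot)
  haveI := Module.finitePresentation_of_surjective e2.symm.toLinearMap e2.symm.surjective
    (by rw [LinearMap.ker_eq_bot.2 e2.symm.injective]; exact Submodule.fg_bot)
  haveI := Groth.Agent.MilnorLib.finitePresentation hsq ↥(EtMil.glue B' φ)
  haveI := Groth.Agent.MilnorLib.flat ↥(EtMil.glue B' φ) hsq
  exact Module.Flat.projective_of_finitePresentation

end Groth.Agent.S2021
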