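import Mathlib
import Groth.Statements.S2032

set_option autoImplicit false
universe u
open Smoothing

namespace Groth.Agent.S2032
open MvPolynomial

/-- For a finitely presented `R`-algebra `A` and `a ∈ A`, if `a` is elementary standard then `A_a` is
standard smooth over `R`. (Part (f), the converse for large powers of `a`, is not stated: as
published it fails, for example for the nodal cubic `A = {g ∈ ℚ[u] : g(0) = g(1)}` and `a =
u(u-1)`.) -/
theorem result {R A : Type u} [CommRing R] [CommRing A]
    [Algebra R A] [Algebra.FinitePresentation R A] (a : A)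
    (ha : Smoothing.IsElementaryStandard R A a) : Algebra.IsStandardSmooth R (Localization.Away a) := by
  classical
  obtain ⟨P, ⟨a₀, ha₀⟩, hkill⟩ := ha
  let v : Fin P.c → MvPolynomial (Fin P.n) R := fun i => P.rel (Fin.castLE P.hcm i)
  let J : Ideal (MvPolynomial (Fin P.n) R) := Ideal.span (Set.range v)
  let I : Ideal (MvPolynomial (Fin P.n) R) := Ideal.span (Set.range P.rel)
  have hJI : J ≤ I := Ideal.span_mono (Set.range_comp_subset_range _ _)
  have hker : ∀ x, x ∈ I ↔ P.hom x = 0 := fun x => by
    rw [show I = RingHom.ker P.hom.toRingHom from P.ker_eq.symm]; exact RingHom.mem_ker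
  let π : (MvPolynomial (Fin P.n) R ⧸ J) →ₐ[R] A := Ideal.Quotient.liftₐ J P.hom fun x hx => (hker x).mp (hJI hx)
  have hπ : ∀ x, π (Ideal.Quotient.mk J x) = P.hom x := fun x => rfl
  obtain ⟨al, hal⟩ := P.surj a
  let α := Ideal.Quotient.mk J al
  let N : Ideal (MvPolynomial (Fin P.n) R ⧸ J) := I.map (Ideal.Quotient.mk J)
  have hN0 : ∀ x, x ∈ N ↔ π x = 0 := by
    intro x
    obtain ⟨x, rfl⟩ := Ideal.Quotient.mk_surjective x
    rw [hπ, ← hker, Ideal.mem_quotient_iff_mem hJI]
  have hαN : ∀ x ∈ N, α * x ∈ N * N := by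
    intro x hx
    rw [show N = Ideal.span (Ideal.Quotient.mk J '' Set.range P.rel) from Ideal.map_span _ _] at hx
    induction hx using Submodule.span_induction with
    | mem y hy =>
      obtain ⟨_, ⟨j, rfl⟩, rfl⟩ := hy
      rw [← map_mul]
      by_cases hj : (j : ℕ) < P.c
      · rw [show Ideal.Quotient.mk J (al * P.rel j) = 0 from Ideal.Quotient.eq_zero_iff_mem.mpr
          (J.mul_mem_left _ (Ideal.subset_span ⟨⟨j, hj⟩, rfl⟩))]
        exact zero_mem _
      · have h := Ideal.mem_map_of_mem (Ideal.Quotient.mk J) (hkill al hal j (not_lt.mp hj))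
        have h0 : (Ideal.span (P.rel '' {j' : Fin P.m | (j' : ℕ) < P.c})).map (Ideal.Quotient.mk J) ≤ ⊥ := by
          rw [Ideal.map_le_iff_le_comap, Ideal.span_le]
          rintro _ ⟨j', hj', rfl⟩
          exact Ideal.mem_bot.mpr (Ideal.Quotient.eq_zero_iff_mem.mpr (Ideal.subset_span ⟨⟨j', hj'⟩, rfl⟩))
        rw [Ideal.map_sup, Ideal.map_pow, le_bot_iff.mp h0, bot_sup_eq, pow_two] at h
        exact h
    | zero => rw [mul_zero]; exact zero_mem _
    | add y z _ _ hy hz => rw [mul_add]; exact add_mem hy hz
    | smul r y _ hy => rw [smul_eq_mul, mul_left_comm]; exact Ideal.mul_mem_left _ _ hy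
  haveI : Module.Finite (MvPolynomial (Fin P.n) R ⧸ J) N :=
    Module.Finite.iff_fg.mpr (Ideal.FG.map (Submodule.fg_span (Set.finite_range P.rel)) _)
  obtain ⟨p, hp, -, hpc, hp0⟩ :=
    LinearMap.exists_monic_and_natDegree_eq_and_coeff_mem_pow_and_aeval_eq_zero
      (MvPolynomial (Fin P.n) R ⧸ J) (Algebra.lsmul (MvPolynomial (Fin P.n) R ⧸ J) (MvPolynomial (Fin P.n) R ⧸ J) N α) N (by
        rintro _ ⟨x, rfl⟩
        refine (Submodule.mem_smul_top_iff _ _ _).mpr ?_
        rw [smul_eq_mul]
        exact hαN x.1 x.2)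
  let r := p.eval α
  have hrN : ∀ x ∈ N, r * x = 0 := by
    intro x hx
    rw [Polynomial.aeval_algHom_apply] at hp0
    have h := congrArg Subtype.val (LinearMap.congr_fun hp0 ⟨x, hx⟩)
    simpa [r, Polynomial.coe_aeval_eq_eval] using h
  have hπr : π r = a ^ p.natDegree := by
    simp only [r, Polynomial.eval_eq_sum_range, map_sum, map_mul, map_pow]
    rw [Finset.sum_range_succ, Polynomial.Monic.coeff_natDegree hp, map_one, one_mul, Finset.sum_eq_zero, zero_add]
    · rw [show π α = a from (hπ al).trans hal]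
    · intro k hk
      rw [(hN0 _).mp (Ideal.pow_le_self (Nat.sub_ne_zero_of_lt (Finset.mem_range.mp hk)) (hpc k)), zero_mul]
  letI : Algebra (MvPolynomial (Fin P.n) R ⧸ J) (Localization.Away a) :=
    ((algebraMap A (Localization.Away a)).comp π.toRingHom).toAlgebra
  haveI : IsScalarTower R (MvPolynomial (Fin P.n) R ⧸ J) (Localization.Away a) :=
    IsScalarTower.of_algebraMap_eq (R := R) (S := MvPolynomial (Fin P.n) R ⧸ J) (A := Localization.Away a) fun x => by
      show _ = algebraMap A _ (π (algebraMap R _ x))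
      rw [AlgHom.commutes, ← IsScalarTower.algebraMap_apply]
  have hmap : ∀ x, algebraMap (MvPolynomial (Fin P.n) R ⧸ J) (Localization.Away a) x =
      algebraMap A (Localization.Away a) (π x) := fun x => rfl
  let s := α * r
  have hπs : π s = a ^ (p.natDegree + 1) := by
    rw [map_mul, hπr, show π α = a from (hπ al).trans hal, pow_succ']
  have hunit : IsUnit (algebraMap A (Localization.Away a) a) := IsLocalization.Away.algebraMap_isUnit a
  haveI : IsLocalization.Away s (Localization.Away a) := by
    refine IsLocalization.Away.mk s ?_ ?_ ?_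
    · rw [hmap, hπs, map_pow]; exact hunit.pow _
    · intro z
      obtain ⟨k, x, hx⟩ := IsLocalization.Away.surj a z
      obtain ⟨x', rfl⟩ := P.surj x
      refine ⟨k, Ideal.Quotient.mk J x' * α ^ (p.natDegree * k), ?_⟩
      rw [hmap, hmap, hπs, map_mul π, map_pow π, show π α = a from (hπ al).trans hal, hπ, map_mul, map_pow, map_pow,
        ← pow_mul, add_mul, one_mul, pow_add, ← hx]
      ring
    · intro x y h
      rw [hmap, hmap] at h
      obtain ⟨k, hk⟩ := IsLocalization.Away.exists_of_eq (x := a) h
      refine ⟨k + 1, ?_⟩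
      have hm : α ^ k * (x - y) ∈ N := by
        rw [hN0, map_mul, map_pow, map_sub, show π α = a from (hπ al).trans hal, mul_sub, hk, sub_self]
      rw [← sub_eq_zero, ← mul_sub,
        show s ^ (k + 1) * (x - y) = (α * r ^ k) * (r * (α ^ k * (x - y))) by simp only [s]; ring,
        hrN _ hm, mul_zero]
  let Q := Algebra.PreSubmersivePresentation.localizationAway (Localization.Away a) s
  let P₁ : Algebra.PreSubmersivePresentation R (MvPolynomial (Fin P.n) R ⧸ J) (Fin P.n) (Fin P.c) :=
    Algebra.PreSubmersivePresentation.naive (Fin.castLE P.hcn) (Fin.castLE_injective _)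
  have hj : IsUnit (Q.comp P₁).jacobian := by
    rw [Algebra.PreSubmersivePresentation.comp_jacobian_eq_jacobian_smul_jacobian,
      Algebra.smul_def, Algebra.PreSubmersivePresentation.localizationAway_jacobian]
    refine IsUnit.mul ?_ (IsLocalization.Away.algebraMap_isUnit s)
    rw [hmap, Algebra.PreSubmersivePresentation.jacobian_eq_jacobiMatrix_det]
    have hdet : P₁.jacobiMatrix.det = Smoothing.jacobianMinor P.rel (Fin.castLE P.hcm) (Fin.castLE P.hcn) := by
      unfold Smoothing.jacobianMinor
      rw [← Matrix.det_transpose]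
      congr 1
      ext i j : 1
      rw [Matrix.transpose_apply, Algebra.PreSubmersivePresentation.jacobiMatrix_apply]
      rfl
    rw [hdet]
    refine isUnit_of_mul_isUnit_right (x := algebraMap A _ a₀) ?_
    rw [← map_mul]
    convert hunit using 2
    rw [ha₀]
    congr 1
  exact Algebra.SubmersivePresentation.isStandardSmooth ⟨Q.comp P₁, hj⟩

end Groth.Agent.S2032
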