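import Mathlib
import Groth.Agent.SmoothingLib.Glue
import Groth.Statements.S2033

set_option autoImplicit false
universe u
open Smoothing

namespace Groth.Agent.S2033

open TensorProduct in
/-- Let `R` be Noetherian, `A → Λ` an `R`-algebra map with `A` finitely presented, `𝔮 ⊆ Λ` a prime
minimal over the radical of the extended singular ideal of `A`, and `𝔭` its contraction to `R`. If
the localized problem `R_𝔭 → R_𝔭 ⊗ A → Λ_𝔮` can be resolved at `𝔮Λ_𝔮`, then `A → Λ` factors through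
a finitely presented `R`-algebra `C` whose singular ideal over `R` does not extend into `𝔮`. -/
theorem result {R A Λ Rₚ Λq : Type u} [CommRing R] [IsNoetherianRing R] [CommRing A]
    [Algebra R A] [Algebra.FinitePresentation R A] [CommRing Λ] [Algebra R Λ] (φ : A →ₐ[R] Λ)
    (𝔮 : Ideal Λ) [𝔮.IsPrime] (hmin : 𝔮 ∈ (Smoothing.singRad R φ).minimalPrimes)
    [CommRing Rₚ] [Algebra R Rₚ] [IsLocalization.AtPrime Rₚ (𝔮.comap (algebraMap R Λ))]
    [CommRing Λq] [Algebra Λ Λq] [IsLocalization.AtPrime Λq 𝔮] [Algebra R Λq] [IsScalarTower R Λ Λq]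
    [Algebra Rₚ Λq] [IsScalarTower R Rₚ Λq]
    (hres : Smoothing.Resolvable Rₚ
      (Algebra.TensorProduct.lift (Algebra.ofId Rₚ Λq) ((IsScalarTower.toAlgHom R Λ Λq).comp φ)
        (fun _ _ => Commute.all _ _) : Rₚ ⊗[R] A →ₐ[Rₚ] Λq) (𝔮.map (algebraMap Λ Λq))) :
    ∃ (C : Type u) (_ : CommRing C) (_ : Algebra R C), Algebra.FinitePresentation R C ∧
      ∃ (g : A →ₐ[R] C) (h : C →ₐ[R] Λ), h.comp g = φ ∧
        ¬ (Smoothing.singularIdeal R C).map h ≤ 𝔮 := by
  classical
  obtain ⟨C, _, _, hC, g, h, hgh, -, hnle⟩ := hres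
  letI : Algebra R C := Algebra.compHom C (algebraMap R Rₚ)
  haveI : IsScalarTower R Rₚ C := IsScalarTower.of_algebraMap_eq fun _ => rfl
  haveI : IsLocalRing Λq := IsLocalization.AtPrime.isLocalRing Λq 𝔮
  have hsm : ∀ (qC : Ideal C) [qC.IsPrime], (∀ c, c ∈ qC ↔ ¬ IsUnit (h c)) → Algebra.IsSmoothAt R qC := by
    intro qC _ hq
    have hex : ∃ c ∈ Smoothing.singularIdeal Rₚ C, IsUnit (h c) := by
      by_contra hne
      refine hnle ?_
      rw [Smoothing.singRad, IsLocalization.AtPrime.map_eq_maximalIdeal 𝔮 Λq]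
      refine (Ideal.IsRadical.radical_le_iff (IsLocalRing.maximalIdeal.isMaximal Λq).isPrime.isRadical).2
        (Ideal.map_le_iff_le_comap.2 fun c hc => ?_)
      change ¬ IsUnit (h c)
      exact fun hu => hne ⟨c, hc, hu⟩
    obtain ⟨c, hc, hu⟩ := hex
    rw [Smoothing.singularIdeal, PrimeSpectrum.mem_vanishingIdeal] at hc
    haveI : Algebra.FormallySmooth Rₚ (Localization.AtPrime qC) := by
      by_contra hns
      exact (hq c).1 (hc ⟨qC, inferInstance⟩ hns) hu
    haveI : Algebra.FormallyEtale R Rₚ :=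
      Algebra.FormallyEtale.of_isLocalization (𝔮.comap (algebraMap R Λ)).primeCompl
    exact Algebra.FormallySmooth.comp R Rₚ (Localization.AtPrime qC)
  obtain ⟨D, _, _, hD, α, β, hαβ, hsmD⟩ := SmoothingLib.exists_smoothAt_of_local φ 𝔮
    (𝔮.comap (algebraMap R Λ)).primeCompl (Rₚ := Rₚ) ((g.restrictScalars R).comp Algebra.TensorProduct.includeRight)
    (h.restrictScalars R) (fun a => (AlgHom.congr_fun hgh ((1 : Rₚ) ⊗ₜ[R] a)).trans (by simp)) hsm
  haveI := hD
  exact ⟨D, inferInstance, inferInstance, hD, α, β, hαβ, SmoothingLib.not_map_singularIdeal_le β 𝔮 hsmD⟩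

end Groth.Agent.S2033
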