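import Mathlib
import Groth.Agent.S4573
import Groth.Agent.SymGrLib.GeomRegular
import Groth.Statements.S2036

set_option autoImplicit false
universe u
open CAlg

namespace Groth.Agent.S2036

/-- Let `k` be a field of characteristic `p > 0` and `A` a Noetherian local `k`-algebra. Then `A` is
geometrically regular over `k` if and only if `k → A` is formally smooth for the adic topology of
the maximal ideal. -/
theorem result {k A : Type u} [Field k] (p : ℕ)
    [Fact p.Prime] [CharP k p] [CommRing A] [IsLocalRing A] [IsNoetherianRing A] [Algebra k A] :
    CAlg.IsGeometricallyRegular k A ↔ CAlgX.IsAdicFormallySmooth k A (IsLocalRing.maximalIdeal A) := by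
  haveI : ExpChar k p := ExpChar.prime (Fact.out)
  refine ⟨fun h => (S4573.result p).2 fun k' _ _ hk' _ => h k' hk',
    fun h => SymGrLib.isGeometricallyRegular_of_isAdicFormallySmooth h⟩

end Groth.Agent.S2036
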