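import Mathlib
import Groth.Agent.EtLift.Basic
import Groth.Statements.S2041

set_option autoImplicit false
universe u
open CAlg Polynomial

namespace Groth.Agent.S2041

open TensorProduct in
/-- Let `I ⊆ A` be an ideal, `A → B` integral and `ē` an idempotent of `B/IB`. Then there is an étale
`A`-algebra `A'` with `A/I → A'/IA'` bijective and an idempotent of `A' ⊗ B` whose class modulo `I`
agrees with that of any lift of `ē`. -/
theorem result {A B : Type u} [CommRing A] [CommRing B] [Algebra A B]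
    [Algebra.IsIntegral A B] (I : Ideal A) (e : B ⧸ I.map (algebraMap A B)) (he : IsIdempotentElem e) :
    ∃ (A' : Type u) (_ : CommRing A') (_ : Algebra A A'), Algebra.Etale A A' ∧
      Function.Bijective (algebraMap (A ⧸ I) (A' ⧸ I.map (algebraMap A A'))) ∧
      ∃ e' : A' ⊗[A] B, IsIdempotentElem e' ∧
        ∀ b : B, Ideal.Quotient.mk (I.map (algebraMap A B)) b = e →
          e' - 1 ⊗ₜ b ∈ I.map (algebraMap A (A' ⊗[A] B)) := by
  obtain ⟨b, rfl⟩ := Ideal.Quotient.mk_surjective e
  let B' : Subalgebra A B := Algebra.adjoin A {b}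
  have hbb : b * b - b ∈ I.map (algebraMap A B) := by
    rw [← Ideal.Quotient.eq, map_mul]; exact he
  obtain ⟨Q, hQ, n, hn, hQ0⟩ : ∃ (Q : A[X]), Q.Monic ∧ ∃ n : ℕ, Q.map (Ideal.Quotient.mk I) = X ^ n ∧
      Polynomial.aeval (b * b - b) Q = 0 := by
    obtain ⟨Q, hQ, hQ0, hlt⟩ := exists_monic_aeval_eq_zero_forall_mem_of_mem_map (R := A) hbb
    refine ⟨Q, hQ, Q.natDegree, ?_, hQ0⟩
    ext i
    rw [coeff_map, coeff_X_pow]
    rcases eq_or_ne i Q.natDegree with rfl | hi
    · rw [if_pos rfl, hQ.coeff_natDegree, map_one]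
    · rw [if_neg hi]; exact Ideal.Quotient.eq_zero_iff_mem.mpr (hlt i hi)
  obtain ⟨A', i1, i2, i3, i4, P, hP1, hP2⟩ := EtLift.exists_idempotent_poly I Q hQ n hn
  refine ⟨A', i1, i2, i3, i4, Polynomial.aeval ((1 : A') ⊗ₜ[A] b) P, ?_, fun b' hb' => ?_⟩
  · obtain ⟨r, hr⟩ := Ideal.mem_span_singleton.mp hP1
    have h0 : Polynomial.aeval ((1 : A') ⊗ₜ[A] b) ((Q.comp (X * X - X)).map (algebraMap A A')) = 0 := by
      rw [aeval_map_algebraMap, show (1 : A') ⊗ₜ[A] b = Algebra.TensorProduct.includeRight b from rfl,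
        aeval_algHom_apply, aeval_comp]
      simp [hQ0]
    have := congrArg (Polynomial.aeval ((1 : A') ⊗ₜ[A] b)) hr
    rw [map_sub, map_mul, map_mul, h0, zero_mul, sub_eq_zero] at this
    exact this
  · set N := I.map (algebraMap A (A' ⊗[A] B))
    have hincl : ∀ x ∈ I.map (algebraMap A B), (1 : A') ⊗ₜ[A] x ∈ N := fun x hx => by
      have := Ideal.mem_map_of_mem (Algebra.TensorProduct.includeRight (R := A) (A := A') (B := B)).toRingHom hx
      rw [Ideal.map_map] at this
      rwa [show (Algebra.TensorProduct.includeRight (R := A) (A := A') (B := B)).toRingHom.comp (algebraMap A B) =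
        algebraMap A (A' ⊗[A] B) from RingHom.ext fun a => (Algebra.TensorProduct.includeRight (R := A) (A := A') (B := B)).commutes a] at this
    have h1 : ((1 : A') ⊗ₜ[A] b : A' ⊗[A] B) - 1 ⊗ₜ b' ∈ N := by
      rw [← TensorProduct.tmul_sub]
      exact hincl _ (Ideal.Quotient.eq.mp hb'.symm)
    have h2 : Polynomial.aeval ((1 : A') ⊗ₜ[A] b) (P - X) ∈ N := by
      have hle : Ideal.span {(X * X - X : A'[X])} ⊔ (I.map (algebraMap A A')).map C ≤
          N.comap (Polynomial.aeval ((1 : A') ⊗ₜ[A] b) : A'[X] →ₐ[A'] A' ⊗[A] B) := by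
        refine sup_le ((Ideal.span_singleton_le_iff_mem _).mpr ?_) ?_
        · rw [Ideal.mem_comap, map_sub, map_mul, aeval_X, Algebra.TensorProduct.tmul_mul_tmul, one_mul, ← TensorProduct.tmul_sub]
          exact hincl _ hbb
        · rw [Ideal.map_map, Ideal.map_le_iff_le_comap]
          intro a ha
          rw [Ideal.mem_comap, Ideal.mem_comap, RingHom.comp_apply, aeval_C, ← IsScalarTower.algebraMap_apply]
          exact Ideal.mem_map_of_mem _ ha
      exact hle hP2
    rw [map_sub, aeval_X] at h2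
    have := N.add_mem h2 h1
    rwa [sub_add_sub_cancel] at this

end Groth.Agent.S2041
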