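import Mathlib
import Groth.Agent.ArtinApproxLib.Core
import Groth.Statements.S2043

set_option autoImplicit false
universe u
open CAlg

namespace Groth.Agent.S2043

/-- Let `I ⊆ A` be an ideal, `B` a smooth `A`-algebra and `B → A/I` an `A`-algebra map. Then there is an
étale `A`-algebra `A'` with `A/I → A'/IA'` bijective and an `A`-algebra map `B → A'` lifting the
given map. -/
theorem result {A B : Type u} [CommRing A] [CommRing B] [Algebra A B]
    [Algebra.Smooth A B] (I : Ideal A) (σ : B →ₐ[A] A ⧸ I) :
    ∃ (A' : Type u) (_ : CommRing A') (_ : Algebra A A'), Algebra.Etale A A' ∧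
      Function.Bijective (algebraMap (A ⧸ I) (A' ⧸ I.map (algebraMap A A'))) ∧
      ∃ τ : B →ₐ[A] A', ∀ b : B,
        Ideal.Quotient.mk (I.map (algebraMap A A')) (τ b) =
          algebraMap (A ⧸ I) (A' ⧸ I.map (algebraMap A A')) (σ b) := by
  obtain ⟨A', _, _, hA', hbij, τ, hτ⟩ := ArtinApproxLib.exists_etale_section I σ
  have hq : algebraMap (A ⧸ I) (A' ⧸ I.map (algebraMap A A')) =
      Ideal.quotientMap (I.map (algebraMap A A')) (algebraMap A A') Ideal.le_comap_map :=
    Ideal.Quotient.ringHom_ext (RingHom.ext fun x => rfl)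
  exact ⟨A', inferInstance, inferInstance, hA', by rw [hq]; exact hbij, τ, fun b => by rw [hq]; exact hτ b⟩

end Groth.Agent.S2043
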