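import Mathlib
import Groth.Agent.EtLift.Basic
import Groth.Statements.S2044

set_option autoImplicit false
universe u
open CAlg Polynomial TensorProduct

namespace Groth.Agent.S2044

open TensorProduct in
/-- Let `I ⊆ A` be an ideal and `P` a finite projective `A/I`-module. Then there is an étale `A`-algebra
`A'` with `A/I → A'/IA'` bijective and a finite projective `A'`-module whose reduction modulo `IA'`
is the base change of `P`. -/
theorem result {A : Type u} [CommRing A] (I : Ideal A) (P : Type u)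
    [AddCommGroup P] [Module (A ⧸ I) P] [Module.Finite (A ⧸ I) P] [Module.Projective (A ⧸ I) P] :
    ∃ (A' : Type u) (_ : CommRing A') (_ : Algebra A A'), Algebra.Etale A A' ∧
      Function.Bijective (algebraMap (A ⧸ I) (A' ⧸ I.map (algebraMap A A'))) ∧
      ∃ (P' : Type u) (_ : AddCommGroup P') (_ : Module A' P'), Module.Finite A' P' ∧
        Module.Projective A' P' ∧
        Nonempty (((A' ⧸ I.map (algebraMap A A')) ⊗[A'] P') ≃ₗ[A' ⧸ I.map (algebraMap A A')]
          ((A' ⧸ I.map (algebraMap A A')) ⊗[A ⧸ I] P)) := by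
  classical
  obtain ⟨n, π, s, -, -, hπs⟩ := Module.Finite.exists_comp_eq_id_of_projective (A ⧸ I) P
  let E : Matrix (Fin n) (Fin n) (A ⧸ I) := LinearMap.toMatrix' (s ∘ₗ π)
  have hEE : E * E = E := by
    rw [← LinearMap.toMatrix'_comp, LinearMap.comp_assoc, ← LinearMap.comp_assoc π s π, hπs, LinearMap.id_comp]
  let M : Matrix (Fin n) (Fin n) A := fun i j => Quotient.out (E i j)
  have hM : (Ideal.Quotient.mk I).mapMatrix M = E := by
    ext i j
    exact Ideal.Quotient.mk_out _
  let Q := (M * M - M).charpoly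
  have hQ : Q.map (Ideal.Quotient.mk I) = Polynomial.X ^ n := by
    rw [← Matrix.charpoly_map, ← RingHom.mapMatrix_apply, map_sub, map_mul, hM, hEE, sub_self, Matrix.charpoly_zero,
      Fintype.card_fin]
  obtain ⟨A', i1, i2, i3, i4, p, hp1, hp2⟩ := EtLift.exists_idempotent_poly I Q (Matrix.charpoly_monic _) n hQ
  let M' : Matrix (Fin n) (Fin n) A' := (algebraMap A A').mapMatrix M
  let e' : Matrix (Fin n) (Fin n) A' := Polynomial.aeval M' p
  have hee : e' * e' = e' := by
    obtain ⟨r, hr⟩ := Ideal.mem_span_singleton.mp hp1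
    have h0 : Polynomial.aeval M' ((Q.comp (X * X - X)).map (algebraMap A A')) = 0 := by
      rw [aeval_map_algebraMap, show M' = (Algebra.ofId A A').mapMatrix M from rfl, aeval_algHom_apply, aeval_comp]
      simp only [map_sub, map_mul, aeval_X, Q, Matrix.aeval_self_charpoly, map_zero]
    have := congrArg (Polynomial.aeval M') hr
    rw [map_sub, map_mul, map_mul, h0, zero_mul, sub_eq_zero] at this
    exact this
  let κ := A' ⧸ I.map (algebraMap A A')
  let γ : A ⧸ I →+* κ := algebraMap (A ⧸ I) κ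
  let mk : A' →+* κ := Ideal.Quotient.mk _
  have hcomm : ∀ a : A, mk (algebraMap A A' a) = γ (Ideal.Quotient.mk I a) := fun a => rfl
  have hker : Ideal.span {(X * X - X : A'[X])} ⊔ (I.map (algebraMap A A')).map C ≤
      RingHom.ker ((mk.mapMatrix).comp (Polynomial.aeval M' : A'[X] →ₐ[A'] Matrix (Fin n) (Fin n) A').toRingHom) := by
    refine sup_le ((Ideal.span_singleton_le_iff_mem _).mpr ?_) ?_
    · show mk.mapMatrix (Polynomial.aeval M' (X * X - X)) = 0
      rw [map_sub, map_mul, aeval_X]
      have hM2 : mk.mapMatrix M' = γ.mapMatrix E := by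
        rw [← hM]; ext i j; exact hcomm _
      rw [map_sub, map_mul, hM2, ← map_mul, hEE, sub_self]
    · rw [Ideal.map_map, Ideal.map_le_iff_le_comap]
      intro a ha
      show mk.mapMatrix (Polynomial.aeval M' (C (algebraMap A A' a))) = 0
      rw [aeval_C]
      ext i j
      simp only [RingHom.mapMatrix_apply, Matrix.map_apply, Matrix.algebraMap_matrix_apply, Matrix.zero_apply]
      split
      · rw [Algebra.algebraMap_self_apply, hcomm, Ideal.Quotient.eq_zero_iff_mem.mpr ha, map_zero]
      · exact map_zero _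
  have he' : ∀ i j, mk (e' i j) = γ (E i j) := fun i j => by
    have h : mk.mapMatrix (Polynomial.aeval M' (p - X)) = 0 := hker hp2
    rw [map_sub, map_sub, sub_eq_zero, aeval_X] at h
    have h2 := congrFun (congrFun h i) j
    rw [← hM]
    exact h2.trans (hcomm _)
  let ε : (Fin n → A') →ₗ[A'] (Fin n → A') := Matrix.toLin' e'
  let P' := LinearMap.range ε
  have hεε : ε ∘ₗ ε = ε := by rw [← Matrix.toLin'_mul, hee]
  let ρ : (Fin n → A') →ₗ[A'] P' := ε.rangeRestrict
  let ι : P' →ₗ[A'] (Fin n → A') := P'.subtype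
  have hρι : ρ ∘ₗ ι = LinearMap.id := by
    refine LinearMap.ext fun x => Subtype.ext ?_
    obtain ⟨y, hy⟩ := x.2
    show ε (x : Fin n → A') = x
    rw [← hy, ← LinearMap.comp_apply, hεε]
  have hιρ : ι ∘ₗ ρ = ε := rfl
  refine ⟨A', i1, i2, i3, i4, P', inferInstance, inferInstance, Module.Finite.range ε,
    Module.Projective.of_split ι ρ hρι, ?_⟩
  let θ : κ ⊗[A'] (Fin n → A') ≃ₗ[κ] κ ⊗[A ⧸ I] (Fin n → A ⧸ I) :=
    (TensorProduct.piScalarRight A' κ κ (Fin n)).trans (TensorProduct.piScalarRight (A ⧸ I) κ κ (Fin n)).symm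
  let σ : (Fin n → A ⧸ I) →ₗ[A ⧸ I] (Fin n → A ⧸ I) := s ∘ₗ π
  have hθ : θ.toLinearMap ∘ₗ ε.baseChange κ = σ.baseChange κ ∘ₗ θ.toLinearMap := by
    have hsingle : ∀ j, θ ((1 : κ) ⊗ₜ[A'] Pi.single j (1 : A')) = (1 : κ) ⊗ₜ[A ⧸ I] Pi.single j (1 : A ⧸ I) := fun j => by
      apply (TensorProduct.piScalarRight (A ⧸ I) κ κ (Fin n)).injective
      simp only [θ, LinearEquiv.trans_apply, LinearEquiv.apply_symm_apply, TensorProduct.piScalarRight_apply,
        TensorProduct.piScalarRightHom_tmul]
      funext i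
      by_cases h : i = j <;> simp [h]
    ext j
    simp only [LinearMap.coe_comp, Function.comp_apply, LinearMap.coe_single, AlgebraTensorModule.curry_apply,
      TensorProduct.curry_apply, LinearMap.coe_restrictScalars, LinearEquiv.coe_coe, LinearMap.baseChange_tmul, hsingle]
    apply (TensorProduct.piScalarRight (A ⧸ I) κ κ (Fin n)).injective
    simp only [θ, LinearEquiv.trans_apply, LinearEquiv.apply_symm_apply, TensorProduct.piScalarRight_apply,
      TensorProduct.piScalarRightHom_tmul]
    funext i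
    rw [Algebra.smul_def, Algebra.smul_def, mul_one, mul_one, Ideal.Quotient.algebraMap_eq]
    have h1 : ε (Pi.single j 1) i = e' i j := by simp [ε, Matrix.toLin'_apply, Matrix.mulVec_single]
    have h2 : σ (Pi.single j 1) i = E i j := by simp [σ, E, LinearMap.toMatrix'_apply, Pi.single_apply]
    rw [h1, h2]
    exact he' i j
  refine ⟨LinearEquiv.ofLinear (π.baseChange κ ∘ₗ θ.toLinearMap ∘ₗ ι.baseChange κ)
    (ρ.baseChange κ ∘ₗ θ.symm.toLinearMap ∘ₗ s.baseChange κ) ?_ ?_⟩
  · refine LinearMap.ext fun x => ?_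
    simp only [LinearMap.comp_apply, LinearMap.id_apply, LinearEquiv.coe_coe]
    rw [show ι.baseChange κ (ρ.baseChange κ (θ.symm (s.baseChange κ x))) = ε.baseChange κ (θ.symm (s.baseChange κ x)) by
      rw [← hιρ, LinearMap.baseChange_comp]; rfl]
    have := LinearMap.congr_fun hθ (θ.symm (s.baseChange κ x))
    simp only [LinearMap.comp_apply, LinearEquiv.coe_coe, LinearEquiv.apply_symm_apply] at this
    rw [this, ← LinearMap.comp_apply, ← LinearMap.baseChange_comp, ← LinearMap.comp_apply, ← LinearMap.baseChange_comp,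
      show (π ∘ₗ σ) ∘ₗ s = LinearMap.id by
        show (π ∘ₗ s ∘ₗ π) ∘ₗ s = _
        rw [← LinearMap.comp_assoc π s π, hπs, LinearMap.id_comp, hπs],
      LinearMap.baseChange_id]
    rfl
  · refine LinearMap.ext fun x => ?_
    simp only [LinearMap.comp_apply, LinearMap.id_apply, LinearEquiv.coe_coe]
    rw [show s.baseChange κ (π.baseChange κ (θ (ι.baseChange κ x))) = σ.baseChange κ (θ (ι.baseChange κ x)) by
      rw [LinearMap.baseChange_comp]; rfl]
    have := LinearMap.congr_fun hθ (ι.baseChange κ x)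
    simp only [LinearMap.comp_apply, LinearEquiv.coe_coe] at this
    rw [← this, LinearEquiv.symm_apply_apply, ← LinearMap.comp_apply, ← LinearMap.baseChange_comp,
      ← LinearMap.comp_apply, ← LinearMap.baseChange_comp,
      show (ρ ∘ₗ ε) ∘ₗ ι = LinearMap.id by
        rw [← hιρ, ← LinearMap.comp_assoc, hρι, LinearMap.id_comp, hρι],
      LinearMap.baseChange_id]
    rfl

end Groth.Agent.S2044
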