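import Groth.Statements.S2049
import Groth.Agent.RGFlatLib.Domain

set_option autoImplicit false
set_option linter.style.haveILetI false
set_option backward.isDefEq.respectTransparency false
universe u
open CAlg

namespace Groth.Agent.S2049

/-- Let `A` be a valuation ring, `A → B` a local homomorphism of local rings essentially of finite type,
and `M` a finite `B`-module which is flat over `A`. Then `M` is finitely presented over `B`. -/
theorem result {A B M : Type u} [CommRing A] [IsDomain A]
    [ValuationRing A] [CommRing B] [IsLocalRing B] [Algebra A B] [IsLocalHom (algebraMap A B)]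
    [Algebra.EssFiniteType A B] [AddCommGroup M] [Module B M] [Module A M] [IsScalarTower A B M]
    [Module.Finite B M] [Module.Flat A M] : Module.FinitePresentation B M := by
  obtain ⟨n, π, hπ⟩ := Algebra.FiniteType.iff_quotient_mvPolynomial''.mp
    (inferInstance : Algebra.FiniteType A (Algebra.EssFiniteType.subalgebra A B))
  let ψ : MvPolynomial (Fin n) A →ₐ[A] B := (Algebra.EssFiniteType.subalgebra A B).val.comp π
  letI : Algebra (MvPolynomial (Fin n) A) B := ψ.toRingHom.toAlgebra
  letI : Module (MvPolynomial (Fin n) A) M := Module.compHom M ψ.toRingHom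
  haveI : IsScalarTower (MvPolynomial (Fin n) A) B M := .of_algebraMap_smul fun _ _ => rfl
  haveI : IsScalarTower A (MvPolynomial (Fin n) A) M := .of_algebraMap_smul fun r m => by
    show ψ (algebraMap A _ r) • m = r • m
    rw [ψ.commutes, algebraMap_smul]
  refine Groth.Agent.RGFlatLib.finitePresentation_of_flat_at (R := A)
    ⟨(IsLocalRing.maximalIdeal B).comap ψ.toRingHom, inferInstance⟩
    (fun t ht => IsLocalRing.notMem_maximalIdeal.mp ht) fun b => ?_
  obtain ⟨⟨x, s⟩, hx⟩ := IsLocalization.surj (Algebra.EssFiniteType.submonoid A B) b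
  obtain ⟨s', hs'⟩ := hπ s.1
  obtain ⟨x', hx'⟩ := hπ x
  refine ⟨s', IsLocalRing.notMem_maximalIdeal.mpr ?_, x', ?_⟩
  · show IsUnit ((π s' : Algebra.EssFiniteType.subalgebra A B) : B)
    rw [hs']
    exact s.2
  · show ((π x' : Algebra.EssFiniteType.subalgebra A B) : B) =
      ((π s' : Algebra.EssFiniteType.subalgebra A B) : B) * b
    rw [hs', hx', mul_comm]
    exact hx.symm

end Groth.Agent.S2049
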