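import Groth.Statements.S2054
import Groth.Agent.SerreLib.Normal
import Groth.Agent.S6879
import Groth.Agent.S6880
import Groth.Agent.S6873

set_option autoImplicit false
universe u
open CAlg

namespace Groth.Agent.S2054

/-- Let `R` be a Noetherian normal domain and `M` a finite `R`-module. Then `M` is reflexive (the map to
its double dual is bijective) if and only if `M` is torsion free and satisfies Serre's condition
`(S_2)`. -/
theorem result {R M : Type u} [CommRing R] [IsDomain R] [IsNoetherianRing R]
    [IsIntegrallyClosed R] [AddCommGroup M] [Module R M] [Module.Finite R M] :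
    Module.IsReflexive R M ↔ NoZeroSMulDivisors R M ∧ LocCoh.HasSk 2 R M := by
  have hR : LocCoh.HasSk 2 R R := (Groth.Agent.SerreLib.hasRk_one_and_hasSk_two_of_normal fun p _ =>
    ⟨IsLocalization.isDomain_of_le_nonZeroDivisors (Localization.AtPrime p) p.primeCompl_le_nonZeroDivisors,
      isIntegrallyClosed_of_isLocalization (R := R) (S := Localization.AtPrime p) p.primeCompl p.primeCompl_le_nonZeroDivisors⟩).2
  constructor
  · intro hrefl
    refine ⟨?_, (Groth.Agent.S6880.result R M).2 hR⟩
    obtain ⟨n, f, hf, -⟩ := (Groth.Agent.S6873.result R M).1 hrefl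
    exact Function.Injective.noZeroSMulDivisors f hf (map_zero f) (map_smul f)
  · rintro ⟨htf, hS2⟩
    rw [Groth.Agent.S6879.result R M]
    intro p _
    haveI : IsDomain (Localization.AtPrime p) :=
      IsLocalization.isDomain_of_le_nonZeroDivisors (Localization.AtPrime p) p.primeCompl_le_nonZeroDivisors
    haveI : IsIntegrallyClosed (Localization.AtPrime p) :=
      isIntegrallyClosed_of_isLocalization (R := R) (S := Localization.AtPrime p) p.primeCompl p.primeCompl_le_nonZeroDivisors
    haveI : Module.Finite (Localization.AtPrime p) (LocalizedModule p.primeCompl M) :=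
      Module.Finite.of_isLocalizedModule p.primeCompl (LocalizedModule.mkLinearMap p.primeCompl M)
    haveI : NoZeroSMulDivisors (Localization.AtPrime p) (LocalizedModule p.primeCompl M) := by
      refine ⟨fun {a m} h => ?_⟩
      obtain ⟨a, s, rfl⟩ := IsLocalization.exists_mk'_eq p.primeCompl a
      obtain ⟨⟨m, t⟩, rfl⟩ := IsLocalizedModule.mk'_surjective p.primeCompl (LocalizedModule.mkLinearMap p.primeCompl M) m
      rw [Function.uncurry_apply_pair, IsLocalizedModule.mk'_smul_mk', IsLocalizedModule.mk'_eq_zero'] at h
      obtain ⟨c, hc⟩ := h
      rw [Submonoid.smul_def, smul_smul] at hc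
      rcases smul_eq_zero.1 hc with h0 | h0
      · rcases mul_eq_zero.1 h0 with h1 | h1
        · exact absurd h1 (fun h2 => c.2 (h2 ▸ p.zero_mem))
        · left; rw [h1, IsLocalization.mk'_zero]
      · right; rw [Function.uncurry_apply_pair, h0, IsLocalizedModule.mk'_zero]
    rcases subsingleton_or_nontrivial (LocalizedModule p.primeCompl M) with hsub | hnt
    · left
      exact ⟨⟨fun a b _ => Subsingleton.elim a b, fun d => ⟨0, by
        haveI : Subsingleton (Module.Dual (Localization.AtPrime p) (LocalizedModule p.primeCompl M)) :=
          ⟨fun a b => LinearMap.ext fun x => by rw [Subsingleton.elim x 0, map_zero, map_zero]⟩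
        exact LinearMap.ext fun x => by rw [Subsingleton.elim x 0, map_zero, map_zero]⟩⟩⟩
    rcases lt_or_ge (1 : ℕ∞) p.height with h2 | h1
    · right
      have hdim : Module.supportDim (Localization.AtPrime p) (LocalizedModule p.primeCompl M) =
          (p.height : WithBot ℕ∞) := by
        have hann : Module.annihilator (Localization.AtPrime p) (LocalizedModule p.primeCompl M) = ⊥ := by
          refine (Submodule.eq_bot_iff _).2 fun a ha => ?_
          obtain ⟨m, hm⟩ := exists_ne (0 : LocalizedModule p.primeCompl M)
          exact (smul_eq_zero.1 (Module.mem_annihilator.1 ha m)).resolve_right hm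
        rw [Module.supportDim_eq_ringKrullDim_quotient_annihilator, hann,
          ringKrullDim_eq_of_ringEquiv (RingEquiv.quotientBot _), IsLocalization.AtPrime.ringKrullDim_eq_height p]
      have := hS2 p
      have h3 : (2 : ℕ∞) ≤ p.height := by simpa [one_add_one_eq_two] using Order.add_one_le_of_lt h2
      rw [hdim, min_eq_left (show ((2 : ℕ) : WithBot ℕ∞) ≤ _ from WithBot.coe_le_coe.2 h3)] at this
      exact WithBot.coe_le_coe.1 this
    · left
      haveI : IsPrincipalIdealRing (Localization.AtPrime p) := by
        by_cases hf : IsField (Localization.AtPrime p)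
        · letI := hf.toField; infer_instance
        · haveI := IsLocalization.isNoetherianRing p.primeCompl (Localization.AtPrime p) inferInstance
          haveI : Ring.KrullDimLE 1 (Localization.AtPrime p) := Ring.krullDimLE_iff.mpr (by
            rw [IsLocalization.AtPrime.ringKrullDim_eq_height p]; exact_mod_cast h1)
          haveI : Ring.DimensionLEOne (Localization.AtPrime p) := ⟨fun hne hpr => hpr.isMaximal_of_ne_bot hne⟩
          haveI : IsDedekindDomain (Localization.AtPrime p) := { (inferInstance : IsDomain _) with }
          infer_instance
      haveI : Module.Free (Localization.AtPrime p) (LocalizedModule p.primeCompl M) :=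
        Module.free_of_finite_type_torsion_free'
      infer_instance

end Groth.Agent.S2054
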