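import Mathlib
import Groth.Agent.TorsBCLib.Tors
import Groth.Statements.S2055

set_option autoImplicit false
universe u
open CAlg

namespace Groth.Agent.S2055

open TensorProduct in
/-- Let `R → S` be flat and `I ⊆ R` a finitely generated ideal with `R/I → S/IS` bijective. If one of
the `R`-modules `M`, `N` has every element killed by a power of `I`, then base change of linear maps
`Hom_R(M, N) → Hom_S(S ⊗ M, S ⊗ N)` is bijective. -/
theorem result {R S M N : Type u} [CommRing R] [CommRing S]
    [Algebra R S] [Module.Flat R S] (I : Ideal R) (hI : I.FG)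
    (hq : Function.Bijective (algebraMap (R ⧸ I) (S ⧸ I.map (algebraMap R S))))
    [AddCommGroup M] [Module R M] [AddCommGroup N] [Module R N]
    (hMN : (∀ x : M, ∃ n : ℕ, ∀ a ∈ I ^ n, a • x = 0) ∨ (∀ y : N, ∃ n : ℕ, ∀ a ∈ I ^ n, a • y = 0)) :
    Function.Bijective (fun f : M →ₗ[R] N => LinearMap.baseChange S f) := by
  open TensorProduct in
  classical
  let Γ := Groth.Agent.TorsBCLib.tors I N
  have hΓ := Groth.Agent.TorsBCLib.bij_torsion (S := S) hq Γ fun x => by
    obtain ⟨n, hn⟩ := x.2
    exact ⟨n, fun a ha => Subtype.ext (hn a ha)⟩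
  have hinjΓ : Function.Injective (Γ.subtype.lTensor S) :=
    Module.Flat.lTensor_preserves_injective_linearMap _ Γ.injective_subtype
  have hmem : ∀ (f : M →ₗ[R] N) (m : M), f m ∈ Γ := fun f m => by
    rcases hMN with h | h
    · obtain ⟨n, hn⟩ := h m
      exact ⟨n, fun a ha => by rw [← map_smul, hn a ha, map_zero]⟩
    · exact h _
  refine ⟨fun f g hfg => LinearMap.ext fun m => ?_, fun φ => ?_⟩
  · have h1 := LinearMap.congr_fun hfg (1 ⊗ₜ m)
    simp only [LinearMap.baseChange_tmul] at h1
    exact congrArg Subtype.val (hΓ.1 (a₁ := ⟨f m, hmem f m⟩) (a₂ := ⟨g m, hmem g m⟩) (hinjΓ h1))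
  · let φ' : M →ₗ[R] S ⊗[R] N := (φ.restrictScalars R).comp (Groth.Agent.TorsBCLib.unit (R := R) S M)
    have hr : ∀ m, φ' m ∈ LinearMap.range (Γ.subtype.lTensor S) := fun m => by
      rcases hMN with h | h
      · obtain ⟨n, hn⟩ := h m
        exact Groth.Agent.TorsBCLib.mem_range_tors hI N n _ fun a ha => by rw [← map_smul, hn a ha, map_zero]
      · have htop : Γ = ⊤ := top_le_iff.mp fun x _ => h x
        have hs : Function.Surjective (Γ.subtype.lTensor S) := LinearMap.lTensor_surjective S (by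
          intro x; exact ⟨⟨x, htop ▸ Submodule.mem_top⟩, rfl⟩)
        exact hs _
    let eΓ := LinearEquiv.ofBijective (Groth.Agent.TorsBCLib.unit (R := R) S Γ) hΓ
    let eI := LinearEquiv.ofInjective (Γ.subtype.lTensor S) hinjΓ
    let f : M →ₗ[R] N := Γ.subtype.comp ((eΓ.symm.toLinearMap.comp eI.symm.toLinearMap).comp (φ'.codRestrict _ hr))
    refine ⟨f, ?_⟩
    apply LinearMap.ext fun z => ?_
    induction z using TensorProduct.induction_on with
    | zero => simp
    | add x y hx hy => rw [map_add, map_add, hx, hy]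
    | tmul s m =>
      rw [LinearMap.baseChange_tmul, show s ⊗ₜ[R] m = s • ((1 : S) ⊗ₜ[R] m) from by rw [TensorProduct.smul_tmul', smul_eq_mul, mul_one], map_smul,
        show s ⊗ₜ[R] f m = s • ((1 : S) ⊗ₜ[R] f m) from by rw [TensorProduct.smul_tmul', smul_eq_mul, mul_one]]
      congr 1
      have h1 : Groth.Agent.TorsBCLib.unit (R := R) S Γ (eΓ.symm (eI.symm ⟨φ' m, hr m⟩)) = eI.symm ⟨φ' m, hr m⟩ := eΓ.apply_symm_apply _
      have h2 := congrArg Subtype.val (eI.apply_symm_apply ⟨φ' m, hr m⟩)
      exact (congrArg (Γ.subtype.lTensor S) h1).trans h2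

end Groth.Agent.S2055
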