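import Groth.Statements.S2058
import Groth.Agent.CAlgBasics.Depth
open IsLocalRing Groth.Agent.CAlgBasics
-- import your own Groth.Agent.* helpers here

set_option autoImplicit false
universe u
open CAlg

namespace Groth.Agent.S2058

/-- Let R be a Noetherian local ring which is not Artinian, is not a regular local ring of dimension
one, and has depth at most one. Then there is a finite ring map R → R' with R' ≠ 0, not bijective,
whose kernel and cokernel are killed by a power of the maximal ideal of R, such that the maximal
ideal of R is not an associated prime of the R-module R'. (This says that the four cases for a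
Noetherian local ring — Artinian, regular of dimension one, depth at least two, or admitting such a
map — cover everything; that they are mutually exclusive is not asserted.) -/
theorem result {R : Type u} [CommRing R] [IsLocalRing R] [IsNoetherianRing R]
    (h1 : ¬ IsArtinianRing R) (h2 : ¬ (IsRegularLocalRing R ∧ ringKrullDim R = 1))
    (h3 : LocCoh.depth R R ≤ 1) :
    ∃ (R' : Type u) (_ : CommRing R') (_ : Algebra R R'), Nontrivial R' ∧ Module.Finite R R' ∧
      ¬ Function.Bijective (algebraMap R R') ∧
      (∃ n : ℕ, (∀ x : R, algebraMap R R' x = 0 → ∀ a ∈ IsLocalRing.maximalIdeal R ^ n, a * x = 0) ∧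
        (∀ y : R', ∀ a ∈ IsLocalRing.maximalIdeal R ^ n, a • y ∈ Set.range (algebraMap R R'))) ∧
      IsLocalRing.maximalIdeal R ∉ associatedPrimes R R' := by

  classical
  by_cases hs : SocleZero R R
  · rcases subsingleton_or_nontrivial R with hR | hR
    · exact absurd (inferInstance : IsArtinianRing R) h1
    obtain ⟨r, hr, hreg⟩ := hs.exists_isSMulRegular
    have hns : ¬ SocleZeroMod R R r := by
      intro hh
      have h2' : (2 : ℕ∞) ≤ LocCoh.depth R R := two_le_depth_iff.mpr
        ⟨hs, fun s hs' hsreg => socleZeroMod_of_socleZeroMod hsreg hreg hr hh⟩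
      exact absurd (h2'.trans h3) (by norm_num)
    simp only [SocleZeroMod] at hns
    push Not at hns
    obtain ⟨z, hz, hzr⟩ := hns
    choose w hw using hz
    simp only [smul_eq_mul] at hw hzr
    let L := Localization.Away r
    have hinj : Function.Injective (algebraMap R L) := by
      refine IsLocalization.injective L (M := Submonoid.powers r) ?_
      rintro _ ⟨n, rfl⟩
      refine pow_mem ?_ n
      rw [mem_nonZeroDivisors_iff_right]
      intro y hy
      exact hreg.right_eq_zero_of_smul (by rw [smul_eq_mul, mul_comm]; exact hy)
    let iv : L := IsLocalization.Away.invSelf r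
    have hiv : algebraMap R L r * iv = 1 := IsLocalization.Away.mul_invSelf r
    let q : L := algebraMap R L z * iv
    have hq : ∀ a (ha : a ∈ maximalIdeal R), algebraMap R L a * q = algebraMap R L (w a ha) := by
      intro a ha
      calc algebraMap R L a * q = algebraMap R L (a * z) * iv := by simp only [q]; rw [map_mul, mul_assoc]
        _ = algebraMap R L (r * w a ha) * iv := by rw [hw a ha]
        _ = algebraMap R L (w a ha) := by rw [map_mul, mul_right_comm, hiv, one_mul]
    have hwm : ∀ a (ha : a ∈ maximalIdeal R), w a ha ∈ maximalIdeal R := by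
      intro a ha
      by_contra hu
      have hu : IsUnit (w a ha) := by simpa [mem_maximalIdeal] using hu
      obtain ⟨u, hu⟩ := hu
      have hre : r = a * (z * ↑u⁻¹) := by
        rw [← mul_assoc, hw a ha, ← hu, mul_assoc, Units.mul_inv, mul_one]
      have hle : maximalIdeal R ≤ Ideal.span {a} := by
        intro b hb
        rw [Ideal.mem_span_singleton]
        refine ⟨↑u⁻¹ * w b hb, hreg ?_⟩
        simp only [smul_eq_mul]
        calc r * b = a * (z * ↑u⁻¹) * b := by rw [← hre]
          _ = a * ↑u⁻¹ * (b * z) := by ring
          _ = r * (a * (↑u⁻¹ * w b hb)) := by rw [hw b hb]; ring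
      have hmax : maximalIdeal R = Ideal.span {a} :=
        le_antisymm hle ((Ideal.span_singleton_le_iff_mem _).mpr ha)
      apply h2
      have hd1 : (1 : WithBot ℕ∞) ≤ ringKrullDim R := by
        by_contra hlt
        have h0 : Ring.KrullDimLE 0 R := by
          rw [Ring.krullDimLE_iff]
          have hlt' : ringKrullDim R < 1 := lt_of_not_ge hlt
          exact ENat.WithBot.lt_add_one_iff.mp (by simpa using hlt')
        exact h1 (IsNoetherianRing.isArtinianRing_of_krullDimLE_zero)
      have hspan : (maximalIdeal R).spanFinrank ≤ 1 := by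
        rw [hmax]
        exact (Submodule.spanFinrank_span_le_ncard_of_finite (Set.finite_singleton a)).trans (by simp)
      have hge := ringKrullDim_le_spanFinrank_maximalIdeal R
      have hcast : ((maximalIdeal R).spanFinrank : WithBot ℕ∞) ≤ 1 := by exact_mod_cast hspan
      refine ⟨⟨le_antisymm ?_ hge⟩, le_antisymm (hge.trans hcast) hd1⟩
      exact hcast.trans hd1
    have hpow : ∀ n : ℕ, ∀ a ∈ maximalIdeal R, ∃ b ∈ maximalIdeal R,
        algebraMap R L a * q ^ n = algebraMap R L b := by
      intro n
      induction n with
      | zero => exact fun a ha => ⟨a, ha, by simp⟩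
      | succ n ih =>
        intro a ha
        obtain ⟨b, hb, hbe⟩ := ih a ha
        exact ⟨w b hb, hwm b hb, by rw [pow_succ, ← mul_assoc, hbe, hq b hb]⟩
    let R' : Subalgebra R L := Algebra.adjoin R {q}
    have hcok : ∀ y ∈ R', ∀ a ∈ maximalIdeal R, ∃ c : R, algebraMap R L a * y = algebraMap R L c := by
      intro y hy
      simp only [R', Algebra.adjoin_singleton_eq_range_aeval] at hy
      obtain ⟨p, rfl⟩ := hy
      intro a ha
      induction p using Polynomial.induction_on' with
      | add p p' hp hp' =>
        obtain ⟨c, hc⟩ := hp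
        obtain ⟨c', hc'⟩ := hp'
        exact ⟨c + c', by
          simp only [AlgHom.toRingHom_eq_coe, RingHom.coe_coe] at hc hc' ⊢
          rw [map_add, mul_add, map_add]; exact congrArg₂ (· + ·) hc hc'⟩
      | monomial n c =>
        obtain ⟨b, -, hb⟩ := hpow n a ha
        refine ⟨c * b, ?_⟩
        simp only [AlgHom.toRingHom_eq_coe, RingHom.coe_coe, Polynomial.aeval_monomial, map_mul]
        rw [← hb]; ring
    have hrm : ∀ y ∈ R', algebraMap R L r * y ∈ LinearMap.range (Algebra.linearMap R L) := fun y hy => by
      obtain ⟨c, hc⟩ := hcok y hy r hr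
      exact ⟨c, hc.symm⟩
    have hrU : IsUnit (algebraMap R L r) := IsUnit.of_mul_eq_one _ hiv
    refine ⟨↥R', inferInstance, inferInstance, ?_, ?_, ?_, ⟨1, ?_, ?_⟩, ?_⟩
    · haveI : Nontrivial L := hinj.nontrivial
      infer_instance
    · let φ : ↥(Subalgebra.toSubmodule R') →ₗ[R] L := r • (Subalgebra.toSubmodule R').subtype
      have hφ : Function.Injective φ := by
        intro x y hxy
        apply Subtype.ext
        simp only [φ, LinearMap.smul_apply, Submodule.subtype_apply, Algebra.smul_def] at hxy
        exact hrU.mul_left_cancel hxy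
      have hφr : LinearMap.range φ ≤ LinearMap.range (Algebra.linearMap R L) := by
        rintro _ ⟨y, rfl⟩
        simp only [φ, LinearMap.smul_apply, Submodule.subtype_apply, Algebra.smul_def]
        exact hrm y y.2
      haveI : IsNoetherian R ↥(LinearMap.range (Algebra.linearMap R L)) := isNoetherian_range _
      haveI : IsNoetherian R ↥(LinearMap.range φ) := isNoetherian_of_le hφr
      exact Module.Finite.equiv (LinearEquiv.ofInjective φ hφ).symm
    · intro hb
      obtain ⟨c, hc⟩ := hb.2 ⟨q, Algebra.subset_adjoin rfl⟩
      have hc' : algebraMap R L c = q := congrArg Subtype.val hc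
      refine hzr c (hinj ?_)
      calc algebraMap R L z = algebraMap R L r * q := by
            simp only [q]; rw [mul_left_comm, hiv, mul_one]
        _ = algebraMap R L (r * c) := by rw [map_mul, hc']
    · intro x hx a _
      have : algebraMap R L x = 0 := congrArg Subtype.val hx
      rw [(hinj (this.trans (map_zero _).symm)), mul_zero]
    · intro y a ha
      rw [pow_one] at ha
      obtain ⟨c, hc⟩ := hcok y y.2 a ha
      exact ⟨c, Subtype.ext (by rw [Algebra.smul_def]; exact hc.symm)⟩
    · intro hass
      obtain ⟨hp, x, hx⟩ := (isAssociatedPrime_iff (I := maximalIdeal R) (M := ↥R')).mp hass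
      have hrx : r • x = 0 := by
        have : r ∈ (maximalIdeal R) := hr
        rw [hx, Submodule.mem_colon_singleton, Submodule.mem_bot] at this
        exact this
      have hx0 : x = 0 := by
        have := congrArg Subtype.val hrx
        simp only [Algebra.smul_def] at this
        exact Subtype.ext ((hrU.mul_right_eq_zero).mp this)
      apply hp.ne_top
      rw [hx, hx0, eq_top_iff]
      intro t _
      rw [Submodule.mem_colon_singleton, smul_zero]
      exact Submodule.zero_mem _
  · simp only [SocleZero] at hs
    push Not at hs
    obtain ⟨s, hs, hs0⟩ := hs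
    simp only [smul_eq_mul] at hs
    let J : ℕ → Submodule R R := fun n => Submodule.annihilator ((maximalIdeal R) ^ n : Ideal R)
    have hJ : ∀ n x, x ∈ J n ↔ ∀ a ∈ maximalIdeal R ^ n, x * a = 0 := by
      intro n x
      simp [J, Submodule.mem_annihilator]
    have hmono : Monotone J := by
      intro i j hij x hx
      rw [hJ] at hx ⊢
      exact fun a ha => hx a (Ideal.pow_le_pow_right hij ha)
    obtain ⟨n, hn⟩ := monotone_stabilizes_iff_noetherian.mpr
      (inferInstance : IsNoetherian R R) ⟨J, hmono⟩
    have hn' : ∀ k, J k ≤ J n := fun k => (le_total k n).elim (fun h => hmono h) (fun h => (hn k h).ge)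
    refine ⟨R ⧸ (J n : Ideal R), inferInstance, inferInstance, ?_, inferInstance, ?_, ⟨n, ?_, ?_⟩, ?_⟩
    · refine Ideal.Quotient.nontrivial_iff.mpr fun htop => h1 ?_
      have h1n : (1 : R) ∈ J n := by rw [htop]; trivial
      rw [hJ] at h1n
      have hnil : IsNilpotent (maximalIdeal R) := ⟨n, eq_bot_iff.mpr fun a ha => by simpa using h1n a ha⟩
      exact isArtinianRing_iff_isNilpotent_maximalIdeal R |>.mpr hnil
    · intro hb
      refine hs0 (hb.1 ?_)
      rw [map_zero, Ideal.Quotient.algebraMap_eq, Ideal.Quotient.eq_zero_iff_mem]
      refine hn' 1 ?_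
      rw [hJ]
      exact fun a ha => by rw [mul_comm]; exact hs a (by simpa using ha)
    · intro x hx a ha
      rw [Ideal.Quotient.algebraMap_eq, Ideal.Quotient.eq_zero_iff_mem, hJ] at hx
      rw [mul_comm]; exact hx a ha
    · exact fun y a _ => Ideal.Quotient.mk_surjective _
    · intro hass
      obtain ⟨hp, x, hx⟩ := (isAssociatedPrime_iff (I := maximalIdeal R) (M := R ⧸ (J n : Ideal R))).mp hass
      obtain ⟨z, rfl⟩ := Ideal.Quotient.mk_surjective x
      apply hp.ne_top
      rw [hx, eq_top_iff]
      intro t _
      have hz : z ∈ J n := by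
        refine hn' (n + 1) ?_
        rw [hJ]
        intro a ha
        rw [pow_succ] at ha
        refine Submodule.mul_induction_on ha ?_ fun p q hp hq => by rw [mul_add, hp, hq, add_zero]
        intro p hp b hb
        have hb' : b * z ∈ J n := by
          have : b ∈ maximalIdeal R := hb
          rw [hx, Submodule.mem_colon_singleton, Submodule.mem_bot, Algebra.smul_def,
            Ideal.Quotient.algebraMap_eq, ← map_mul, Ideal.Quotient.eq_zero_iff_mem] at this
          exact this
        have := (hJ n _).mp hb' p hp
        rw [← this]; ring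
      rw [Submodule.mem_colon_singleton, Ideal.Quotient.eq_zero_iff_mem.mpr hz, smul_zero]
      exact Submodule.zero_mem _

end Groth.Agent.S2058
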