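import Mathlib
import Mathlib
import Groth.Statements.S2059

set_option autoImplicit false
universe u
open CAlg

namespace Groth.Agent.S2059

/-- Let `k` be a field and `S` a `k`-algebra generated by a set of cardinality smaller than that of `k`.
Then for every maximal ideal `𝔪` of `S` the residue field `S/𝔪` is algebraic over `k`, and `S` is a
Jacobson ring. -/
theorem result {k S : Type u} [Field k] [CommRing S] [Algebra k S]
    (s : Set S) (hs : Algebra.adjoin k s = ⊤) (hcard : Cardinal.mk s < Cardinal.mk k) :
    (∀ (m : Ideal S) [m.IsMaximal], Algebra.IsAlgebraic k (S ⧸ m)) ∧ IsJacobsonRing S := by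
  classical
  -- a field generated by fewer elements than `k` is algebraic
  have key : ∀ (K : Type u) [Field K] [Algebra k K] (t : Set K), Algebra.adjoin k t = ⊤ →
      Cardinal.mk t < Cardinal.mk k → Cardinal.aleph0 < Cardinal.mk k → Algebra.IsAlgebraic k K := by
    intro K _ _ t ht hct hk
    by_contra hcon
    rw [Algebra.isAlgebraic_def] at hcon
    push Not at hcon
    obtain ⟨x, hx⟩ := hcon
    have h1 : Cardinal.mk k ≤ Module.rank k K := (Transcendental.linearIndependent_sub_inv hx).cardinal_le_rank
    let F : MvPolynomial t k →ₐ[k] K := MvPolynomial.aeval fun x => (x : K)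
    have hF : Function.Surjective F := by
      rw [← AlgHom.range_eq_top, eq_top_iff, ← ht, Algebra.adjoin_le_iff]
      exact fun z hz => ⟨MvPolynomial.X ⟨z, hz⟩, MvPolynomial.aeval_X _ _⟩
    have h2 : Module.rank k K ≤ Cardinal.mk (t →₀ ℕ) := by
      refine (F.toLinearMap.rank_le_of_surjective hF).trans (le_of_eq ?_)
      exact (MvPolynomial.basisMonomials t k).mk_eq_rank''.symm
    have h3 : Cardinal.mk (t →₀ ℕ) ≤ max (Cardinal.mk t) Cardinal.aleph0 := by
      rcases isEmpty_or_nonempty t with he | hne
      · exact le_max_of_le_right Cardinal.mk_le_aleph0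
      · simp
    exact absurd (h1.trans (h2.trans h3)) (not_le.2 (max_lt hct hk))
  rcases le_or_gt (Cardinal.mk k) Cardinal.aleph0 with hk | hk
  · -- `S` is of finite type
    have hfin : s.Finite := Cardinal.lt_aleph0_iff_set_finite.1 (lt_of_lt_of_le hcard hk)
    haveI : Algebra.FiniteType k S := ⟨⟨hfin.toFinset, by rw [Set.Finite.coe_toFinset]; exact hs⟩⟩
    refine ⟨fun m _ => ?_, isJacobsonRing_of_finiteType (A := k)⟩
    letI := Ideal.Quotient.field m
    haveI : Algebra.FiniteType k (S ⧸ m) := Algebra.FiniteType.of_surjective (Ideal.Quotient.mkₐ k m) Ideal.Quotient.mk_surjective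
    haveI : Module.Finite k (S ⧸ m) := finite_of_finite_type_of_isJacobsonRing k (S ⧸ m)
    exact Algebra.IsAlgebraic.of_finite k _
  have alg : ∀ (T : Type u) [CommRing T] [Algebra k T] (t : Set T), Algebra.adjoin k t = ⊤ →
      Cardinal.mk t < Cardinal.mk k → ∀ (m : Ideal T) [m.IsMaximal], Algebra.IsAlgebraic k (T ⧸ m) := by
    intro T _ _ t ht hct m _
    letI := Ideal.Quotient.field m
    refine key (T ⧸ m) (Ideal.Quotient.mkₐ k m '' t) ?_ (lt_of_le_of_lt Cardinal.mk_image_le hct) hk
    rw [← AlgHom.map_adjoin, ht, Algebra.map_top, AlgHom.range_eq_top]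
    exact Ideal.Quotient.mk_surjective
  refine ⟨fun m _ => alg S s hs hcard m, isJacobsonRing_iff_prime_eq.2 fun P hP => le_antisymm (fun f hf => ?_) Ideal.le_jacobson⟩
  by_contra hfP
  let L := Localization.Away f
  let t : Set L := algebraMap S L '' s ∪ {IsLocalization.Away.invSelf f}
  have ht : Algebra.adjoin k t = ⊤ := by
    rw [eq_top_iff]
    intro z _
    obtain ⟨n, b, hz⟩ := IsLocalization.Away.surj f z
    have hb : algebraMap S L b ∈ Algebra.adjoin k t := by
      have : algebraMap S L b ∈ (Algebra.adjoin k s).map (IsScalarTower.toAlgHom k S L) := ⟨b, hs ▸ trivial, rfl⟩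
      rw [AlgHom.map_adjoin] at this
      exact Algebra.adjoin_mono Set.subset_union_left this
    have : z = algebraMap S L b * IsLocalization.Away.invSelf f ^ n := by
      rw [← hz, mul_assoc, ← mul_pow, IsLocalization.Away.mul_invSelf, one_pow, mul_one]
    rw [this]
    exact mul_mem hb (pow_mem (Algebra.subset_adjoin (R := k) (A := L) (s := t) (Set.mem_union_right _ (Set.mem_singleton _))) n)
  have hct : Cardinal.mk t < Cardinal.mk k := by
    refine lt_of_le_of_lt (Cardinal.mk_union_le _ _) (Cardinal.add_lt_of_lt hk.le (lt_of_le_of_lt Cardinal.mk_image_le hcard) ?_)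
    rw [Cardinal.mk_singleton]
    exact lt_trans Cardinal.one_lt_aleph0 hk
  -- the image of `P` extends to a maximal ideal of `L`
  have hPL : (P.map (algebraMap S L)).IsPrime :=
    IsLocalization.isPrime_of_isPrime_disjoint (Submonoid.powers f) L P hP (by
      rw [Set.disjoint_left]
      rintro x ⟨n, rfl⟩ hx
      exact hfP (hP.mem_of_pow_mem n hx))
  obtain ⟨M, hM, hle⟩ := Ideal.exists_le_maximal _ hPL.ne_top
  haveI := alg L t ht hct M
  let N := M.comap (algebraMap S L)
  have hN : N.IsMaximal := by
    haveI : N.IsPrime := Ideal.IsPrime.comap _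
    let φ : (S ⧸ N) →ₐ[k] L ⧸ M := Ideal.quotientMapₐ M (IsScalarTower.toAlgHom k S L) le_rfl
    haveI : Algebra.IsIntegral k (S ⧸ N) := by
      haveI : Algebra.IsIntegral k (L ⧸ M) := Algebra.IsAlgebraic.isIntegral
      exact Algebra.IsIntegral.of_injective φ Ideal.quotientMap_injective
    exact Ideal.Quotient.maximal_of_isField _ (isField_of_isIntegral_of_isField' (Field.toIsField k))
  have hfN : f ∈ N := (Ideal.mem_sInf.1 hf) ⟨fun x hx => hle (Ideal.mem_map_of_mem _ hx), hN⟩
  exact hM.ne_top (Ideal.eq_top_of_isUnit_mem _ hfN (IsLocalization.Away.algebraMap_isUnit f))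

end Groth.Agent.S2059
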