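import Groth.Statements.S2060
import Groth.Agent.SmLiftCrit.Ring
-- import your own Groth.Agent.* helpers here

set_option autoImplicit false
set_option backward.isDefEq.respectTransparency false
universe u
open CAlg

namespace Groth.Agent.S2060

/-- Let `R` be Noetherian, `S` of finite type over `R` and `𝔮` a prime of `S`. Then `R → S` is smooth at
`𝔮` if and only if for every surjection `B' → B` of Artinian local `R`-algebras whose kernel is
principal and killed by the maximal ideal of `B'`, every `R`-algebra map `S → B` under which the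
maximal ideal pulls back to `𝔮` lifts to `B'`. -/
theorem result {R S : Type u} [CommRing R] [IsNoetherianRing R]
    [CommRing S] [Algebra R S] [Algebra.FiniteType R S] (q : Ideal S) [q.IsPrime] :
    Algebra.IsSmoothAt R q ↔
      ∀ (B' B : Type u) [CommRing B'] [CommRing B] [IsLocalRing B'] [IsLocalRing B]
        [IsArtinianRing B'] [IsArtinianRing B] [Algebra R B'] [Algebra R B] (π : B' →ₐ[R] B),
        Function.Surjective π →
        (∃ t : B', RingHom.ker π.toRingHom = Ideal.span {t} ∧
          ∀ a ∈ IsLocalRing.maximalIdeal B', a * t = 0) →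
        ∀ g : S →ₐ[R] B, (IsLocalRing.maximalIdeal B).comap g = q →
          ∃ g' : S →ₐ[R] B', π.comp g' = g := by
  haveI : Algebra.FinitePresentation R S := Algebra.FinitePresentation.of_finiteType.1 inferInstance
  constructor
  · intro hsm B' B _ _ _ _ _ _ _ _ π hπ ⟨t, hker, hann⟩ g hg
    haveI := hsm
    obtain ⟨f, hf, hfs⟩ := Algebra.IsSmoothAt.exists_notMem_smooth R q
    haveI := hfs
    have hgf : IsUnit (g f) := by
      by_contra h
      exact hf (hg.le h)
    let g₁ : Localization.Away f →ₐ[R] B := IsLocalization.liftAlgHom (M := Submonoid.powers f) (f := g) (fun y => by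
      obtain ⟨n, hn⟩ := y.2
      rw [← hn, map_pow]
      exact hgf.pow n)
    have ht : t ∈ IsLocalRing.maximalIdeal B' := by
      intro hu
      have h0 : π t = 0 := (show t ∈ RingHom.ker π.toRingHom by rw [hker]; exact Ideal.mem_span_singleton_self t)
      exact not_isUnit_zero (h0 ▸ hu.map π)
    have hnil : IsNilpotent (RingHom.ker π.toRingHom) := ⟨2, by
      rw [hker, Ideal.span_singleton_pow, pow_two, hann t ht]
      exact Ideal.span_singleton_zero⟩
    refine ⟨(Algebra.FormallySmooth.liftOfSurjective g₁ π hπ hnil).comp (IsScalarTower.toAlgHom R S _), ?_⟩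
    rw [← AlgHom.comp_assoc, Algebra.FormallySmooth.comp_liftOfSurjective]
    exact AlgHom.ext fun s => IsLocalization.lift_eq _ s
  · intro H
    obtain ⟨f, hf, hfs⟩ := Groth.Agent.SmLiftCrit.isSmoothAt_of_lift q fun A _ _ _ _ J _ hJ g hg _ => by
      haveI : IsArtinianRing (A ⧸ J) := inferInstance
      obtain ⟨t, ht, hann⟩ := hJ
      exact H A (A ⧸ J) (Ideal.Quotient.mkₐ R J) (Ideal.Quotient.mkₐ_surjective R J)
        ⟨t, by rw [← ht]; exact Ideal.Quotient.mkₐ_ker R J, hann⟩ g hg
    exact (Algebra.basicOpen_subset_smoothLocus_iff_smooth.2 hfs) (show (⟨q, ‹_›⟩ : PrimeSpectrum S) ∈ PrimeSpectrum.basicOpen f from hf)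

end Groth.Agent.S2060
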