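import Mathlib
import Groth.Agent.AcycLib.Basic
import Groth.Agent.Depth.FlatLocal
import Groth.Statements.S2064

set_option autoImplicit false
universe u
open CategoryTheory
open CAlg

namespace Groth.Agent.S2064

/-- Let `R` be a Noetherian local ring and `0 → M_e → M_{e-1} → … → M_0` a complex of finite `R`-modules
with `depth(M_j) ≥ j`. If `i > 0` is the largest index at which the complex is not exact, then the
homology at `M_i` has depth at least one. -/
theorem result {R : Type u} [CommRing R] [IsLocalRing R] [IsNoetherianRing R]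
    (C : ChainComplex (ModuleCat.{u} R) ℕ) (e : ℕ) (hzero : ∀ j, e < j → Limits.IsZero (C.X j))
    (hfin : ∀ j, Module.Finite R (C.X j)) (hdepth : ∀ j, j ≤ e → (j : ℕ∞) ≤ LocCoh.depth R (C.X j))
    (i : ℕ) (hi : 0 < i) (hnot : ¬ C.ExactAt i) (habove : ∀ j, i < j → C.ExactAt j) :
    1 ≤ LocCoh.depth R (C.homology i) := by
  obtain ⟨i, rfl⟩ : ∃ i₀, i = i₀ + 1 := ⟨i - 1, by omega⟩
  haveI := hfin
  have hX : ∀ j : ℕ, (j : ℕ∞) ≤ LocCoh.depth R (C.X j) := fun j => by
    by_cases hj : j ≤ e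
    · exact hdepth j hj
    · haveI := ModuleCat.subsingleton_of_isZero (hzero j (by omega))
      rw [Groth.Agent.AcycLib.depth_subsingleton]; exact le_top
  have hB : ∀ k j, i + 1 ≤ j → e ≤ j + k → ((j + 1 : ℕ) : ℕ∞) ≤ LocCoh.depth R (LinearMap.range (C.d (j + 1) j).hom) := by
    intro k
    induction k with
    | zero =>
      intro j _ hj
      haveI := ModuleCat.subsingleton_of_isZero (hzero (j + 1) (by omega))
      haveI : Subsingleton (LinearMap.range (C.d (j + 1) j).hom) := (C.d (j + 1) j).hom.surjective_rangeRestrict.subsingleton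
      rw [Groth.Agent.AcycLib.depth_subsingleton]; exact le_top
    | succ k ih =>
      intro j hij hj
      have hex := (C.exactAt_iff' (j + 1 + 1) (j + 1) j (by simp) (by simp)).mp (habove (j + 1) (by omega))
      rw [ShortComplex.ShortExact.moduleCat_exact_iff_function_exact] at hex
      exact Groth.Agent.AcycLib.le_depth_range_of_exact (C.d (j + 1 + 1) (j + 1)).hom (C.d (j + 1) j).hom hex (j + 1)
        (hX (j + 1)) (ih (j + 1) (by omega) (by omega))
  let Z : Submodule R (C.X (i + 1)) := LinearMap.ker (C.d (i + 1) i).hom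
  let B : Submodule R (C.X (i + 1)) := LinearMap.range (C.d (i + 1 + 1) (i + 1)).hom
  have hBZ : B ≤ Z := by
    rintro _ ⟨w, rfl⟩
    exact congrArg (fun φ => φ.hom w) (C.d_comp_d (i + 1 + 1) (i + 1) i)
  have hB2 : ((2 : ℕ) : ℕ∞) ≤ LocCoh.depth R B :=
    (show ((2 : ℕ) : ℕ∞) ≤ ((i + 1 + 1 : ℕ) : ℕ∞) by exact_mod_cast (show 2 ≤ i + 1 + 1 by omega)).trans (hB e (i + 1) le_rfl (by omega))
  have hX1 : ((1 : ℕ) : ℕ∞) ≤ LocCoh.depth R (C.X (i + 1)) :=
    (show ((1 : ℕ) : ℕ∞) ≤ ((i + 1 : ℕ) : ℕ∞) by exact_mod_cast (show 1 ≤ i + 1 by omega)).trans (hX (i + 1))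
  have h := Groth.Agent.AcycLib.one_le_depth_subquot hX1 B Z hBZ hB2
  let S := C.sc' (i + 1 + 1) (i + 1) i
  have hr : LinearMap.range S.moduleCatToCycles = B.comap Z.subtype := by
    ext z
    constructor
    · rintro ⟨w, rfl⟩; exact ⟨w, rfl⟩
    · rintro ⟨w, hw⟩; exact ⟨w, Subtype.ext hw⟩
  let e1 := (ShortComplex.homologyMapIso (C.isoSc' (i + 1 + 1) (i + 1) i (by simp) (by simp)) ≪≫ S.moduleCatHomologyIso).toLinearEquiv
  exact (show (1 : ℕ∞) ≤ LocCoh.depth R (Z ⧸ B.comap Z.subtype) by simpa using h).trans (Groth.Agent.Depth.depth_congr (e1.trans (Submodule.quotEquivOfEq _ _ hr))).ge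

end Groth.Agent.S2064
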