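import Groth.Statements.S2065
import Groth.Agent.BELib.Converse
import Groth.Agent.S19962

set_option autoImplicit false
universe u
open CAlg

namespace Groth.Agent.S2065

/-- Let `R` be a Noetherian local ring and `0 → R^{n_e} → … → R^{n_1} → R^{n_0}` a complex of finite
free modules, the map `R^{n_{i+1}} → R^{n_i}` being given by the matrix `A i`. The complex is exact
at `R^{n_e}, …, R^{n_1}` if and only if for each `1 ≤ j ≤ e` the matrix of `R^{n_j} → R^{n_{j-1}}`
has rank `n_j - n_{j+1} + … ± n_e` and its ideal of minors of that size is the unit ideal or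
contains a regular sequence of length `j`. -/
theorem result {R : Type u} [CommRing R] [IsLocalRing R] [IsNoetherianRing R]
    (e : ℕ) (he : 1 ≤ e) (n : ℕ → ℕ) (A : (i : ℕ) → Matrix (Fin (n i)) (Fin (n (i + 1))) R)
    (hA : ∀ i, i + 2 ≤ e → A i * A (i + 1) = 0) :
    (LinearMap.ker (A (e - 1)).mulVecLin = ⊥ ∧
        ∀ i, i + 2 ≤ e → LinearMap.ker (A i).mulVecLin = LinearMap.range (A (i + 1)).mulVecLin) ↔
      ∀ j, 1 ≤ j → j ≤ e →
        (CAlgX.matrixRank (A (j - 1)) : ℤ) = ∑ t ∈ Finset.Icc j e, (-1 : ℤ) ^ (t - j) * (n t : ℤ) ∧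
          (CAlgX.detIdeal (A (j - 1)) = ⊤ ∨
            ∃ rs : List R, rs.length = j ∧ (∀ r ∈ rs, r ∈ CAlgX.detIdeal (A (j - 1))) ∧
              RingTheory.Sequence.IsRegular R rs) := by
  classical
  refine ⟨fun ⟨htop, hmid⟩ => ?_, fun h => Groth.Agent.S19962.result e he n A hA
    (fun j h1 h2 => (h j h1 h2).1) (fun j h1 h2 => (h j h1 h2).2)⟩
  let M : (i : ℕ) → Matrix (Fin (n i)) (Fin (n (i + 1))) R := fun i => if i < e then A i else 0
  have hMA : ∀ i, i < e → M i = A i := fun i hi => if_pos hi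
  have hMe : M e = 0 := if_neg (lt_irrefl e)
  have hex : ∀ i, i < e → LinearMap.ker (M i).mulVecLin = LinearMap.range (M (i + 1)).mulVecLin := by
    intro i hi
    rcases (Nat.succ_le_of_lt hi).lt_or_eq with hlt | heq
    · rw [hMA i hi, hMA (i + 1) hlt]
      exact hmid i hlt
    · subst heq
      rw [hMA i hi, hMe]
      simpa using htop
  obtain ⟨r, hr0, hr, hall⟩ := BELib.exists_rank e n M hMe hex
  have hrS : ∀ k i, i + k = e → (r i : ℤ) = ∑ t ∈ Finset.Icc (i + 1) e, (-1 : ℤ) ^ (t - (i + 1)) * (n t : ℤ) := by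
    intro k
    induction k with
    | zero =>
      intro i hi
      obtain rfl : i = e := by omega
      simp [hr0]
    | succ k ih =>
      intro i hi
      rw [← Finset.insert_Icc_add_one_left_eq_Icc (show i + 1 ≤ e by omega), Finset.sum_insert (by simp),
        Nat.sub_self, pow_zero, one_mul]
      have h1 := ih (i + 1) (by omega)
      have h2 : (r i : ℤ) + r (i + 1) = n (i + 1) := by exact_mod_cast hr i (by omega)
      have h3 : ∀ t ∈ Finset.Icc (i + 1 + 1) e, (-1 : ℤ) ^ (t - (i + 1)) * (n t : ℤ) =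
          -((-1 : ℤ) ^ (t - (i + 1 + 1)) * (n t : ℤ)) := fun t ht => by
        obtain ⟨h4, -⟩ := Finset.mem_Icc.1 ht
        rw [show t - (i + 1) = t - (i + 1 + 1) + 1 from by omega, pow_succ]
        ring
      rw [Finset.sum_congr rfl h3, Finset.sum_neg_distrib, ← h1]
      linarith
  intro j h1 h2
  obtain ⟨i, rfl⟩ : ∃ i, j = i + 1 := ⟨j - 1, by omega⟩
  have hi : i < e := h2
  obtain ⟨hbot, a, ha, hareg⟩ := hall i hi.le
  have hrank : CAlgX.matrixRank (A i) = r i := by
    rw [hMA i hi] at hbot ha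
    refine IsGreatest.csSup_eq ⟨fun h0 => ?_, fun s hs => not_lt.1 fun hlt => hs
      (le_bot_iff.1 ((BELib.minorIdeal_le_of_le (A i) hlt).trans hbot.le))⟩
    rw [h0, Ideal.mem_bot] at ha
    exact hareg.ne_zero ha
  refine ⟨?_, ?_⟩
  · exact (congrArg Nat.cast hrank).trans (hrS (e - i) i (by omega))
  · show CAlgX.detIdeal (A i) = ⊤ ∨ ∃ rs : List R, rs.length = i + 1 ∧
      (∀ x ∈ rs, x ∈ CAlgX.detIdeal (A i)) ∧ RingTheory.Sequence.IsRegular R rs
    rw [CAlgX.detIdeal, hrank, ← hMA i hi]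
    by_cases htop' : CAlgX.minorIdeal (M i) (r i) = ⊤
    · exact Or.inl htop'
    rcases BELib.exists_seq i R e n M hMe hex r hr0 hr hi.le with h | ⟨rs, hl, hm, hw⟩
    · exact Or.inl h
    refine Or.inr ⟨rs, hl, hm, hw, fun h => htop' ?_⟩
    rw [smul_eq_mul, Ideal.mul_top] at h
    exact top_le_iff.1 (h.le.trans (Ideal.span_le.2 hm))

end Groth.Agent.S2065
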