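import Groth.Statements.S2066
import Groth.Agent.DRingLib.PseudoCoherent
import Groth.Agent.DRingLib.Perfect
-- helpers

set_option autoImplicit false
universe u
open CategoryTheory
attribute [local instance] HasDerivedCategory.standard
open CAlg

namespace Groth.Agent.S2066

/-- An object `K` of `D(A)` is `m`-pseudo-coherent for every integer `m` if and only if some bounded
above complex of finite free modules represents it in `D(A)` ((1) iff (2)), and also if and only if
some bounded above complex of finite projective modules represents it ((2) iff (3)). -/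
theorem result {A : Type u} [CommRing A] (K : Dual.D A) :
    ((∀ m : ℤ, DRing.IsPseudoCoherent A m K) ↔ DRing.IsPseudoCoherent' A K) ∧
      ((∀ m : ℤ, DRing.IsPseudoCoherent A m K) ↔ ∃ (E : DRing.Cx A) (b : ℤ), DRing.VanishesAbove E b ∧
        DRing.TermwiseFiniteProjective E ∧ Nonempty (DRing.toD E ≅ K)) := by
  open Groth.Agent.DRingLib in
  have h1 : (∀ m : ℤ, DRing.IsPseudoCoherent A m K) ↔ DRing.IsPseudoCoherent' A K := by
    rw [isPseudoCoherent'_iff]
    exact forall_congr' fun m => isPseudoCoherent_iff m K
  refine ⟨h1, ⟨fun h => ?_, fun h => h1.2 ?_⟩⟩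
  · obtain ⟨E, b, hb, hE, he⟩ := h1.1 h
    refine ⟨E, b, hb, fun i => ?_, he⟩
    haveI := (hE i).2
    exact ⟨(hE i).1, Module.Projective.of_free⟩
  · obtain ⟨E, b, hb, hE, ⟨e⟩⟩ := h
    rw [Groth.Agent.DRingLib.isPseudoCoherent'_iff]
    intro m
    refine (Groth.Agent.DRingLib.pc_of_terms Groth.Agent.DRingLib.projClass_fFree hb m fun i _ => ?_).of_iso e
    exact Groth.Agent.DRingLib.isPseudoCoherent'_iff _ |>.1 (Groth.Agent.DRingLib.pcPrime_of_perf
      (Groth.Agent.DRingLib.perf_inD Groth.Agent.DRingLib.projClass_fProj (hE i))) _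

end Groth.Agent.S2066
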