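import Mathlib
import Groth.Agent.DRingLib.PseudoCoherent
import Groth.Statements.S2068

set_option autoImplicit false
universe u
open CategoryTheory
attribute [local instance] HasDerivedCategory.standard
open CAlg

namespace Groth.Agent.S2068

/-- If `K` is `m`-pseudo-coherent in `D(A)`, its cohomology in degree `m` is a finitely generated module
when nothing above degree `m` survives, and its cohomology in degree `m+1` is finitely presented
when nothing above degree `m+1` survives. -/
theorem result {A : Type u} [CommRing A] (K : Dual.D A) (m : ℤ)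
    (hK : DRing.IsPseudoCoherent A m K) :
    ((∀ i : ℤ, m < i → Limits.IsZero ((DerivedCategory.homologyFunctor (ModuleCat.{u} A) i).obj K)) →
        Module.Finite A ((DerivedCategory.homologyFunctor (ModuleCat.{u} A) m).obj K)) ∧
      ((∀ i : ℤ, m + 1 < i → Limits.IsZero ((DerivedCategory.homologyFunctor (ModuleCat.{u} A) i).obj K)) →
        Module.FinitePresentation A ((DerivedCategory.homologyFunctor (ModuleCat.{u} A) (m + 1)).obj K)) := by
  rw [DRingLib.isPseudoCoherent_iff] at hK
  refine ⟨fun h => DRingLib.finite_HD hK (fun i hi => h i (by omega)), fun h => ?_⟩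
  obtain ⟨T, Y, hT, h2, h₁, ⟨e⟩, ⟨eY⟩, -⟩ :=
    DRingLib.exists_top_triangle K (m + 1) (fun i hi => h i (by omega))
  have h3 : DRingLib.PC DRingLib.FFree m T.obj₃ :=
    DRingLib.PC.obj₃ DRingLib.projClass_fFree T hT
      (DRingLib.pc_of_aboveZero DRingLib.projClass_fFree h₁) (h2 ▸ hK)
  have hY : DRingLib.PC DRingLib.FFree (-1) (Dual.inD A Y) :=
    ((h3.of_iso e).shift' (m + 1) (by omega)).of_iso
      ((shiftEquiv (Dual.D A) (-(m + 1))).unitIso.app (Dual.inD A Y) ≪≫ eqToIso (by simp)).symm
  have := (DRingLib.pc_negOne_iff (A := A) Y).1 hY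
  exact Module.FinitePresentation.of_equiv eY.toLinearEquiv

end Groth.Agent.S2068
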