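import Mathlib
import Groth.Statements.S2073

set_option autoImplicit false
universe u
open CAlg

namespace Groth.Agent.S2073

/-- Let `R` be a domain and `R → S` an injective ring map of finite type. Then there are elements `y_1,
…, y_d` of `S` algebraically independent over `R`, a finitely generated `R`-subalgebra `S'` of `S`
containing them and integral over `R[y_1, …, y_d]`, and a nonzero `f ∈ R` such that every element of
`S` lands in `S'` after multiplication by a power of `f`. -/
theorem result {R S : Type u} [CommRing R] [IsDomain R] [CommRing S] [Algebra R S]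
    [Algebra.FiniteType R S] (hinj : Function.Injective (algebraMap R S)) :
    ∃ (d : ℕ) (y : Fin d → S) (S' : Subalgebra R S), AlgebraicIndependent R y ∧ (∀ i, y i ∈ S') ∧ S'.FG ∧
      (∀ s ∈ S', IsIntegral (Algebra.adjoin R (Set.range y)) s) ∧
      ∃ f : R, f ≠ 0 ∧ ∀ s : S, ∃ n : ℕ, (f ^ n) • s ∈ S' := by
  classical
  set K := FractionRing R
  set M := Algebra.algebraMapSubmonoid S (nonZeroDivisors R)
  set T := Localization M
  haveI : Nontrivial T := by
    refine ⟨⟨0, 1, fun h => ?_⟩⟩
    rw [← map_one (algebraMap S T), eq_comm, IsLocalization.map_eq_zero_iff M T] at h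
    obtain ⟨⟨_, a, ha, rfl⟩, h⟩ := h
    rw [mul_one] at h
    exact nonZeroDivisors.ne_zero ha (hinj (h.trans (map_zero _).symm))
  letI algKT : Algebra K T := localizationAlgebra (nonZeroDivisors R) S
  haveI : IsScalarTower R K T := IsScalarTower.of_algebraMap_eq fun a => by
    change _ = IsLocalization.map T (algebraMap R S) _ (algebraMap R K a)
    rw [IsLocalization.map_eq, ← IsScalarTower.algebraMap_apply]
  have hden : ∀ x : T, ∃ a : R, a ≠ 0 ∧ ∃ s : S, algebraMap R T a * x = algebraMap S T s := by
    intro x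
    obtain ⟨⟨s, ⟨_, a, ha, rfl⟩⟩, hs⟩ := IsLocalization.surj M x
    exact ⟨a, nonZeroDivisors.ne_zero ha, s, by
      rw [IsScalarTower.algebraMap_apply R S T, mul_comm]; exact hs⟩
  obtain ⟨n, π, hπ⟩ := Algebra.FiniteType.iff_quotient_mvPolynomial''.mp ‹Algebra.FiniteType R S›
  have hunit : ∀ a : R, a ≠ 0 → IsUnit (algebraMap R T a) := fun a ha => by
    rw [IsScalarTower.algebraMap_apply R K T]
    refine (IsUnit.mk0 _ ?_).map _
    exact IsFractionRing.to_map_ne_zero_of_mem_nonZeroDivisors (mem_nonZeroDivisors_of_ne_zero ha)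
  have haev : ∀ (m : ℕ) (v : Fin m → S) (p : MvPolynomial (Fin m) R),
      MvPolynomial.aeval (fun i => algebraMap S T (v i)) p =
        algebraMap S T (MvPolynomial.aeval v p) := fun _ v p =>
    (MvPolynomial.comp_aeval_apply v (IsScalarTower.toAlgHom R S T) p).symm
  haveI : Algebra.FiniteType K T := by
    refine Algebra.FiniteType.of_surjective
      (MvPolynomial.aeval (R := K) fun i => algebraMap S T (π (MvPolynomial.X i))) fun x => ?_
    obtain ⟨a, ha, s, hs⟩ := hden x
    obtain ⟨p, rfl⟩ := hπ s
    refine ⟨MvPolynomial.C (algebraMap R K a)⁻¹ * MvPolynomial.map (algebraMap R K) p, ?_⟩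
    rw [map_mul, MvPolynomial.aeval_C, MvPolynomial.aeval_map_algebraMap, haev, show (MvPolynomial.aeval fun i => π (MvPolynomial.X i)) = π from
        (MvPolynomial.aeval_unique π).symm, ← hs, IsScalarTower.algebraMap_apply R K T, ← mul_assoc,
      ← map_mul, inv_mul_cancel₀ (IsFractionRing.to_map_ne_zero_of_mem_nonZeroDivisors
        (mem_nonZeroDivisors_of_ne_zero ha)), map_one, one_mul]
  obtain ⟨d, g, hg, hgf⟩ := exists_finite_inj_algHom_of_fg K T
  choose a ha y hy using fun i => hden (g (MvPolynomial.X i))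
  let G : MvPolynomial (Fin d) K →ₐ[K] T := MvPolynomial.aeval fun i => algebraMap S T (y i)
  let h : MvPolynomial (Fin d) K →ₐ[K] MvPolynomial (Fin d) K :=
    MvPolynomial.aeval fun i => MvPolynomial.C (algebraMap R K (a i)) * MvPolynomial.X i
  let h' : MvPolynomial (Fin d) K →ₐ[K] MvPolynomial (Fin d) K :=
    MvPolynomial.aeval fun i => MvPolynomial.C (algebraMap R K (a i))⁻¹ * MvPolynomial.X i
  have hne : ∀ i, algebraMap R K (a i) ≠ 0 := fun i =>
    IsFractionRing.to_map_ne_zero_of_mem_nonZeroDivisors (mem_nonZeroDivisors_of_ne_zero (ha i))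
  have hG : G = g.comp h := by
    apply MvPolynomial.algHom_ext
    intro i
    simp only [G, h, AlgHom.comp_apply, MvPolynomial.aeval_X, map_mul]
    rw [← MvPolynomial.algebraMap_eq, AlgHom.commutes, ← IsScalarTower.algebraMap_apply, hy i]
  have hhh : h.comp h' = AlgHom.id K _ := by
    apply MvPolynomial.algHom_ext
    intro i
    simp only [h, h', AlgHom.comp_apply, AlgHom.id_apply, MvPolynomial.aeval_X, map_mul,
      MvPolynomial.aeval_C, MvPolynomial.algebraMap_eq]
    rw [← mul_assoc, ← map_mul, inv_mul_cancel₀ (hne i), map_one, one_mul]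
  have hhh' : h'.comp h = AlgHom.id K _ := by
    apply MvPolynomial.algHom_ext
    intro i
    simp only [h, h', AlgHom.comp_apply, AlgHom.id_apply, MvPolynomial.aeval_X, map_mul,
      MvPolynomial.aeval_C, MvPolynomial.algebraMap_eq]
    rw [← mul_assoc, ← map_mul, mul_inv_cancel₀ (hne i), map_one, one_mul]
  have hGinj : Function.Injective G := by
    rw [hG]
    exact hg.comp (Function.LeftInverse.injective (g := h') fun x => DFunLike.congr_fun hhh' x)
  let ψ : MvPolynomial (Fin d) R →ₐ[R] S := MvPolynomial.aeval y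
  have hGψ : ∀ p, G (MvPolynomial.map (algebraMap R K) p) = algebraMap S T (ψ p) := fun p => by
    simp only [G, ψ, MvPolynomial.aeval_map_algebraMap, haev]
  have hψinj : Function.Injective ψ := by
    intro p q hpq
    refine MvPolynomial.map_injective _ (IsFractionRing.injective R K) (hGinj ?_)
    rw [hGψ, hGψ, hpq]
  letI : Algebra (MvPolynomial (Fin d) R) (MvPolynomial (Fin d) K) :=
    MvPolynomial.algebraMvPolynomial
  letI algA : Algebra (MvPolynomial (Fin d) R) T := ((algebraMap S T).comp ψ.toRingHom).toAlgebra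
  letI algL : Algebra (MvPolynomial (Fin d) K) T := G.toRingHom.toAlgebra
  haveI : IsScalarTower (MvPolynomial (Fin d) R) (MvPolynomial (Fin d) K) T :=
    IsScalarTower.of_algebraMap_eq fun p => (hGψ p).symm
  have hGfin : G.toRingHom.Finite := by
    rw [hG]
    exact RingHom.Finite.comp hgf
      (RingHom.Finite.of_surjective _ fun x => ⟨h' x, DFunLike.congr_fun hhh x⟩)
  -- clear the denominators
  have key : ∀ s : S, ∃ f : R, f ≠ 0 ∧ IsIntegral (Algebra.adjoin R (Set.range y)) (f • s) := by
    intro s
    have h1 : IsIntegral (MvPolynomial (Fin d) K) (algebraMap S T s) := hGfin.to_isIntegral _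
    obtain ⟨⟨_, b, hb, rfl⟩, h2⟩ := IsIntegral.exists_multiple_integral_of_isLocalization
      ((nonZeroDivisors R).map (MvPolynomial.C (σ := Fin d))) (algebraMap S T s) h1
    obtain ⟨P, hP, hP0⟩ := h2
    change Polynomial.eval₂ ((algebraMap S T).comp ψ.toRingHom)
      (algebraMap S T (ψ (MvPolynomial.C b)) * algebraMap S T s) P = 0 at hP0
    rw [← map_mul, ← Polynomial.hom_eval₂, IsLocalization.map_eq_zero_iff M T] at hP0
    obtain ⟨⟨_, c, hc, rfl⟩, hc0⟩ := hP0
    refine ⟨c * b, mul_ne_zero (nonZeroDivisors.ne_zero hc) (nonZeroDivisors.ne_zero hb), ?_⟩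
    let ψ' : MvPolynomial (Fin d) R →+* Algebra.adjoin R (Set.range y) :=
      ψ.toRingHom.codRestrict _ fun p => by
        rw [Algebra.adjoin_range_eq_range_aeval]
        exact ⟨p, rfl⟩
    refine ⟨(P.scaleRoots (MvPolynomial.C c)).map ψ',
      ((Polynomial.monic_scaleRoots_iff _).2 hP).map _, ?_⟩
    rw [Polynomial.eval₂_map]
    change Polynomial.eval₂ ψ.toRingHom ((c * b) • s) _ = 0
    rw [show (c * b) • s = ψ.toRingHom (MvPolynomial.C c) * (ψ (MvPolynomial.C b) * s) by
      simp [ψ, Algebra.smul_def, map_mul, mul_assoc], Polynomial.scaleRoots_eval₂_mul]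
    by_cases hdeg : P.natDegree = 0
    · have : P = 1 := Polynomial.eq_one_of_monic_natDegree_zero hP hdeg
      subst this
      rw [Polynomial.eval₂_one, mul_one] at hc0
      exact absurd (hinj (hc0.trans (map_zero _).symm)) (nonZeroDivisors.ne_zero hc)
    · obtain ⟨N, hN⟩ := Nat.exists_eq_succ_of_ne_zero hdeg
      have hCc : ψ.toRingHom (MvPolynomial.C c) = algebraMap R S c := by simp [ψ]
      rw [hN, hCc, pow_succ, mul_assoc]
      erw [hc0]
      rw [mul_zero]
  choose f hf0 hfi using fun i => key (π (MvPolynomial.X i))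
  refine ⟨d, y, Algebra.adjoin R (Set.range y ∪ Set.range fun i => (∏ j, f j) • π (MvPolynomial.X i)),
    algebraicIndependent_iff_injective_aeval.2 hψinj,
    fun i => Algebra.subset_adjoin (Or.inl ⟨i, rfl⟩),
    Subalgebra.fg_def.2 ⟨_, (Set.finite_range _).union (Set.finite_range _), rfl⟩,
    fun s hs => ?_, ∏ j, f j, Finset.prod_ne_zero_iff.2 fun i _ => hf0 i, fun s => ?_⟩
  · induction hs using Algebra.adjoin_induction with
    | mem x hx =>
        rcases hx with hx | ⟨i, rfl⟩
        · exact isIntegral_algebraMap (x := (⟨x, Algebra.subset_adjoin hx⟩ :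
            Algebra.adjoin R (Set.range y)))
        · show IsIntegral (Algebra.adjoin R (Set.range y)) ((∏ j, f j) • π (MvPolynomial.X i))
          rw [← Finset.prod_erase_mul _ _ (Finset.mem_univ i), mul_smul, Algebra.smul_def,
            IsScalarTower.algebraMap_apply R (Algebra.adjoin R (Set.range y)) S]
          exact isIntegral_algebraMap.mul (hfi i)
    | algebraMap r =>
        rw [IsScalarTower.algebraMap_apply R (Algebra.adjoin R (Set.range y)) S]
        exact isIntegral_algebraMap
    | add x z _ _ hx hz => exact hx.add hz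
    | mul x z _ _ hx hz => exact hx.mul hz
  · obtain ⟨p, rfl⟩ := hπ s
    induction p using MvPolynomial.induction_on with
    | C r =>
        refine ⟨0, ?_⟩
        rw [← MvPolynomial.algebraMap_eq, AlgHom.commutes, pow_zero, one_smul]
        exact Subalgebra.algebraMap_mem _ r
    | add p q hp hq =>
        obtain ⟨m, hm⟩ := hp
        obtain ⟨m', hm'⟩ := hq
        refine ⟨m + m', ?_⟩
        rw [map_add, smul_add]
        refine add_mem ?_ ?_
        · rw [pow_add, mul_comm, mul_smul]; exact Subalgebra.smul_mem _ hm _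
        · rw [pow_add, mul_smul]; exact Subalgebra.smul_mem _ hm' _
    | mul_X p i hp =>
        obtain ⟨m, hm⟩ := hp
        refine ⟨m + 1, ?_⟩
        rw [map_mul, pow_succ, mul_smul, ← mul_smul_comm, ← smul_mul_assoc]
        exact mul_mem hm (Algebra.subset_adjoin (Or.inr ⟨i, rfl⟩))

end Groth.Agent.S2073
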