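import Mathlib
import Groth.Agent.Depth.Basic
import Groth.Agent.CMCat.Local
import Groth.Statements.S2083

set_option autoImplicit false
universe u
open CAlg

namespace Groth.Agent.S2083

/-- Let `R` be a Noetherian local ring, `M` a finite Cohen–Macaulay `R`-module and `g` a member of the
maximal ideal for which the support of `M/gM` has dimension exactly one less than that of `M`. Then
`g` is a nonzerodivisor on `M`, and the quotient `M/gM` is again Cohen–Macaulay, with depth one
smaller than that of `M`. -/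
theorem result {R M : Type u} [CommRing R] [IsLocalRing R] [IsNoetherianRing R]
    [AddCommGroup M] [Module R M] [Module.Finite R M] (hM : LocCoh.IsCohenMacaulayModule R M) (g : R)
    (hg : g ∈ IsLocalRing.maximalIdeal R)
    (hdim : Module.supportDim R (M ⧸ Ideal.span {g} • (⊤ : Submodule R M)) + 1 = Module.supportDim R M) :
    IsSMulRegular M g ∧ LocCoh.IsCohenMacaulayModule R (M ⧸ Ideal.span {g} • (⊤ : Submodule R M)) ∧
      LocCoh.depth R (M ⧸ Ideal.span {g} • (⊤ : Submodule R M)) + 1 = LocCoh.depth R M := by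
  open Pointwise in
  classical
  have hM0 : Nontrivial M := by
    by_contra hc
    haveI := not_nontrivial_iff_subsingleton.mp hc
    have h1 : Module.supportDim R M = ⊥ := Module.supportDim_eq_bot_of_subsingleton R M
    rw [LocCoh.IsCohenMacaulayModule, h1] at hM
    exact WithBot.coe_ne_bot hM.symm
  have hmtop : ∀ (N : Type u) [AddCommGroup N] [Module R N] [Module.Finite R N] [Nontrivial N],
      IsLocalRing.maximalIdeal R • (⊤ : Submodule R N) ≠ ⊤ := fun N _ _ _ _ h => by
    have := Submodule.eq_bot_of_le_smul_of_le_jacobson_bot (IsLocalRing.maximalIdeal R) ⊤ Module.Finite.fg_top h.ge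
      (IsLocalRing.maximalIdeal_le_jacobson _)
    exact top_ne_bot this
  let J : Ideal R := Ideal.span {g}
  haveI hM'0 : Nontrivial (M ⧸ J • (⊤ : Submodule R M)) := by
    refine Submodule.Quotient.nontrivial_iff.mpr fun h => hmtop M (top_le_iff.mp ?_)
    exact h.ge.trans (Submodule.smul_mono_left ((Ideal.span_singleton_le_iff_mem _).mpr hg))
  have hsub : ∀ (N : Type u) [AddCommGroup N] [Module R N] [Module.Finite R N] (P : Ideal R) (hP : P.IsPrime),
      (⟨P, hP⟩ : PrimeSpectrum R) ∈ Module.support R N → ringKrullDim (R ⧸ P) ≤ Module.supportDim R N := by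
    intro N _ _ _ P hP hmem
    rw [← Module.supportDim_quotient_eq_ringKrullDim P]
    have hss : Module.support R (R ⧸ P) ⊆ Module.support R N := fun q hq => by
      refine Module.mem_support_mono ?_ hmem
      rw [Module.support_eq_zeroLocus, Ideal.annihilator_quotient] at hq
      exact hq
    exact Order.krullDim_le_of_strictMono (fun q => ⟨q.1, hss q.2⟩) fun _ _ h => h
  obtain ⟨rs, hrs⟩ := Groth.Agent.Depth.exists_isMaxSeq (M := M) (hmtop M)
  have hd : LocCoh.depth R M = (rs.length : ℕ∞) := Groth.Agent.Depth.idealDepth_eq_length (hmtop M) hrs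
  rw [LocCoh.IsCohenMacaulayModule, hd] at hM
  rw [hM] at hdim
  have hreg : IsSMulRegular M g := by
    refine isSMulRegular_iff_right_eq_zero_of_smul.mpr fun x hx => ?_
    by_contra hx0
    have hmem : g ∈ ⋃ P ∈ associatedPrimes R M, (P : Set R) := by
      rw [biUnion_associatedPrimes_eq_zero_divisors]; exact ⟨x, hx0, hx⟩
    obtain ⟨P, hP, hgP⟩ := Set.mem_iUnion₂.mp hmem
    have h1 := Groth.Agent.CMCat.depth_le_ringKrullDim_quotient hd hP
    obtain ⟨hPp, f, hf⟩ := (isAssociatedPrime_iff_exists_injective_linearMap _ _).1 hP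
    have h2 : (⟨P, hPp⟩ : PrimeSpectrum R) ∈ Module.support R (M ⧸ J • (⊤ : Submodule R M)) := by
      rw [Module.support_quotient]
      refine ⟨Module.support_subset_of_injective f hf ?_, (Ideal.span_singleton_le_iff_mem _).mpr hgP⟩
      rw [Module.support_eq_zeroLocus, Ideal.annihilator_quotient]
      exact le_refl P
    have h3 := (add_le_add (h1.trans (hsub _ P hPp h2)) le_rfl).trans hdim.le
    exact absurd (WithBot.coe_le_coe.mp (by exact_mod_cast h3 : (((rs.length + 1 : ℕ) : ℕ∞) : WithBot ℕ∞) ≤ ((rs.length : ℕ∞) : WithBot ℕ∞))) (not_le.mpr (by exact_mod_cast Nat.lt_succ_self rs.length))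
  obtain ⟨n, hn⟩ : ∃ n, rs.length = n + 1 := by
    refine ⟨rs.length - 1, ?_⟩
    by_contra hne
    have h0 : rs.length = 0 := by omega
    obtain ⟨p, hp⟩ := Module.nonempty_support_of_nontrivial (R := R) (M := M ⧸ J • (⊤ : Submodule R M))
    have h1 : (0 : WithBot ℕ∞) ≤ Module.supportDim R (M ⧸ J • (⊤ : Submodule R M)) :=
      Order.krullDim_nonneg_iff.mpr ⟨⟨p, hp⟩⟩
    have h2 := (add_le_add h1 le_rfl).trans hdim.le
    rw [h0] at h2
    norm_num at h2
  have hdim' : Module.supportDim R (M ⧸ J • (⊤ : Submodule R M)) = ((n : ℕ∞) : WithBot ℕ∞) := by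
    rw [hn] at hdim
    push_cast at hdim
    generalize hs' : Module.supportDim R (M ⧸ J • (⊤ : Submodule R M)) = s at hdim ⊢
    induction s using WithBot.recBotCoe with
    | bot => rw [WithBot.bot_add] at hdim; exact absurd hdim.symm (by exact_mod_cast WithBot.coe_ne_bot)
    | coe s =>
      induction s using ENat.recTopCoe with
      | top =>
        have : (⊤ : ℕ∞) + 1 = (n : ℕ∞) + 1 := by exact_mod_cast hdim
        rw [top_add] at this; exact absurd this.symm (by exact_mod_cast ENat.coe_ne_top (n + 1))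
      | coe s =>
        have : s + 1 = n + 1 := by exact_mod_cast hdim
        rw [show s = n by omega]
  obtain ⟨t, htl, htm, htr⟩ := Groth.Agent.Depth.exists_seq_quotSMulTop (hmtop M) hg hreg hrs.1 hrs.2.1 hn
  have he : Submodule.map (LinearMap.id : M →ₗ[R] M) (g • (⊤ : Submodule R M)) = J • (⊤ : Submodule R M) := by
    rw [Submodule.map_id, Submodule.ideal_span_singleton_smul]
  have htr' : RingTheory.Sequence.IsWeaklyRegular (M ⧸ J • (⊤ : Submodule R M)) t :=
    ((Submodule.Quotient.equiv _ _ (LinearEquiv.refl R M) he).isWeaklyRegular_congr t).mp htr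
  have hge : (n : ℕ∞) ≤ LocCoh.depth R (M ⧸ J • (⊤ : Submodule R M)) :=
    (Groth.Agent.Depth.le_idealDepth_iff (hmtop _) n).mpr ⟨t, htl, htm, htr'⟩
  have hle : LocCoh.depth R (M ⧸ J • (⊤ : Submodule R M)) ≤ (n : ℕ∞) := by
    obtain ⟨rs', hrs'⟩ := Groth.Agent.Depth.exists_isMaxSeq (M := M ⧸ J • (⊤ : Submodule R M)) (hmtop _)
    have hd' : LocCoh.depth R (M ⧸ J • (⊤ : Submodule R M)) = (rs'.length : ℕ∞) := Groth.Agent.Depth.idealDepth_eq_length (hmtop _) hrs'
    obtain ⟨P, hP⟩ := associatedPrimes.nonempty R (M ⧸ J • (⊤ : Submodule R M))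
    have h1 := Groth.Agent.CMCat.depth_le_ringKrullDim_quotient hd' hP
    obtain ⟨hPp, f, hf⟩ := (isAssociatedPrime_iff_exists_injective_linearMap _ _).1 hP
    have h2 := h1.trans (hsub _ P hPp (Module.support_subset_of_injective f hf (by
      rw [Module.support_eq_zeroLocus, Ideal.annihilator_quotient]; exact le_refl P)))
    rw [hdim'] at h2
    rw [hd']
    exact_mod_cast h2
  have hfin := le_antisymm hle hge
  refine ⟨hreg, ?_, ?_⟩
  · rw [LocCoh.IsCohenMacaulayModule]
    exact hdim'.trans (congrArg _ hfin.symm)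
  · rw [hd, hn]
    exact (congrArg (· + 1) hfin).trans (by push_cast; rfl)

end Groth.Agent.S2083
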