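import Mathlib
import Groth.Agent.AcycLib.Basic
import Groth.Agent.CMCat.Local
import Groth.Agent.S2083
import Groth.Statements.S2084

set_option autoImplicit false
universe u
open CAlg
open scoped Pointwise

namespace Groth.Agent.S2084

/-- Let `R` be a Noetherian local ring admitting a finite Cohen–Macaulay module whose support is all of
`Spec R`. Then every maximal chain of prime ideals (starting at a minimal prime, ending at the
maximal ideal, with no prime strictly between consecutive members) has length equal to the dimension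
of `R`. -/
theorem result {R M : Type u} [CommRing R] [IsLocalRing R] [IsNoetherianRing R]
    [AddCommGroup M] [Module R M] [Module.Finite R M] (hM : LocCoh.IsCohenMacaulayModule R M)
    (hsupp : Module.support R M = Set.univ) (s : LTSeries (PrimeSpectrum R))
    (hhead : s.head.asIdeal ∈ minimalPrimes R) (hlast : s.last.asIdeal = IsLocalRing.maximalIdeal R)
    (hsat : ∀ i : Fin s.length, s (Fin.castSucc i) ⋖ s (Fin.succ i)) :
    (s.length : WithBot ℕ∞) = ringKrullDim R := by
  classical
  have hzero : ∀ (N : Type u) [AddCommGroup N] [Module R N] [Module.Finite R N], LocCoh.IsCohenMacaulayModule R N →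
      Nontrivial N ∧ ∀ P ∈ associatedPrimes R N, ∀ q : PrimeSpectrum R, q ∈ Module.support R N → q.asIdeal ≤ P → q.asIdeal = P := by
    intro N _ _ _ hN
    have hnt : Nontrivial N := by
      by_contra hc
      haveI := not_nontrivial_iff_subsingleton.mp hc
      rw [LocCoh.IsCohenMacaulayModule, Module.supportDim_eq_bot_of_subsingleton] at hN
      exact WithBot.coe_ne_bot hN.symm
    refine ⟨hnt, fun P hP q hq hle => ?_⟩
    by_contra hne
    haveI := hP.isPrime
    let p : PrimeSpectrum R := ⟨P, hP.isPrime⟩
    have hlt : q < p := lt_of_le_of_ne hle fun h => hne (congrArg PrimeSpectrum.asIdeal h)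
    obtain ⟨d, hd⟩ : ∃ d : ℕ, LocCoh.depth R N = (d : ℕ∞) := by
      obtain ⟨rs, hrs⟩ := Groth.Agent.Depth.exists_isMaxSeq (I := IsLocalRing.maximalIdeal R) (M := N) Groth.Agent.AcycLib.smul_top_ne_top
      exact ⟨rs.length, Groth.Agent.Depth.idealDepth_eq_length Groth.Agent.AcycLib.smul_top_ne_top hrs⟩
    have h1 := Groth.Agent.CMCat.depth_le_ringKrullDim_quotient hd hP
    have h2 : ringKrullDim (R ⧸ q.asIdeal) ≤ Module.supportDim R N := by
      rw [← Module.supportDim_quotient_eq_ringKrullDim q.asIdeal]
      have hss : Module.support R (R ⧸ q.asIdeal) ⊆ Module.support R N := fun r hr => by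
        refine Module.mem_support_mono ?_ hq
        rw [Module.support_eq_zeroLocus, Ideal.annihilator_quotient] at hr
        exact hr
      exact Order.krullDim_le_of_strictMono (fun r => ⟨r.1, hss r.2⟩) fun _ _ h => h
    rw [LocCoh.IsCohenMacaulayModule, hd] at hN
    rw [Groth.Agent.CatLib.ringKrullDim_quotient_eq_coheight q, hN] at h2
    rw [show P = p.asIdeal from rfl, Groth.Agent.CatLib.ringKrullDim_quotient_eq_coheight p] at h1
    have h3 := Order.coheight_add_one_le hlt
    have h4 : Order.coheight q ≤ (d : ℕ∞) := WithBot.coe_le_coe.mp h2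
    have h5 : (d : ℕ∞) ≤ Order.coheight p := WithBot.coe_le_coe.mp h1
    have h6 := ((add_le_add h5 le_rfl).trans h3).trans h4
    exact absurd h6 (not_le.mpr (by exact_mod_cast Nat.lt_succ_self d))
  suffices key : ∀ (l : ℕ) (N : Type u) [AddCommGroup N] [Module R N] [Module.Finite R N],
      LocCoh.IsCohenMacaulayModule R N → ∀ c : LTSeries (PrimeSpectrum R), c.length = l →
      c.head ∈ Module.support R N → (∀ q ∈ Module.support R N, q ≤ c.head → q = c.head) →
      c.last.asIdeal = IsLocalRing.maximalIdeal R → (∀ i : Fin c.length, c (Fin.castSucc i) ⋖ c (Fin.succ i)) →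
      Module.supportDim R N = (l : WithBot ℕ∞) by
    have h := key s.length M hM s rfl (hsupp ▸ Set.mem_univ _)
      (fun q _ hq => PrimeSpectrum.ext (le_antisymm hq (hhead.2 ⟨q.isPrime, bot_le⟩ hq))) hlast hsat
    rw [← h, Module.supportDim, hsupp]
    exact Order.krullDim_eq_of_orderIso OrderIso.Set.univ
  intro l
  induction l with
  | zero =>
    intro N _ _ _ hN c hc hhd hmin hl _
    have hh : c.head = c.last := congrArg c (Fin.ext (by simp [hc]))
    have hsub : ∀ a : Module.support R N, a.1 = c.head := fun a => hmin a.1 a.2 (by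
      rw [hh]; show a.1.asIdeal ≤ c.last.asIdeal
      rw [hl]; exact IsLocalRing.le_maximalIdeal a.1.isPrime.ne_top)
    haveI : Subsingleton (Module.support R N) := ⟨fun a b => Subtype.ext ((hsub a).trans (hsub b).symm)⟩
    haveI : Nonempty (Module.support R N) := ⟨⟨_, hhd⟩⟩
    rw [Module.supportDim, Order.krullDim_eq_zero]; rfl
  | succ l ih =>
    intro N _ _ _ hN c hc hhd hmin hl hst
    obtain ⟨hnt, hAss⟩ := hzero N hN
    let p0 := c.head
    let p1 : PrimeSpectrum R := c ⟨1, by omega⟩
    have hcov : p0 ⋖ p1 := by
      have := hst ⟨0, by omega⟩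
      exact this
    have hg : ∃ g ∈ p1.asIdeal, IsSMulRegular N g := by
      by_contra hcon; push Not at hcon
      have hsub : (p1.asIdeal : Set R) ⊆ ⋃ P ∈ associatedPrimes R N, (P : Set R) := fun g hgp => by
        rw [biUnion_associatedPrimes_eq_zero_divisors]
        have := hcon g hgp
        rw [isSMulRegular_iff_right_eq_zero_of_smul] at this
        push Not at this
        obtain ⟨x, hx, hx0⟩ := this
        exact ⟨x, hx0, hx⟩
      obtain ⟨P, hP, hle⟩ := (Ideal.subset_union_prime_finite (associatedPrimes.finite R N) p1.asIdeal p1.asIdeal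
        (fun i hi _ _ => hi.isPrime)).mp hsub
      haveI := hP.isPrime
      have h1 : p0.asIdeal = P := hAss P hP p0 hhd ((show p0.asIdeal ≤ p1.asIdeal from hcov.lt.le).trans hle)
      exact hcov.lt.not_ge (show p1.asIdeal ≤ p0.asIdeal from h1 ▸ hle)
    obtain ⟨g, hgp, hreg⟩ := hg
    have hgm : g ∈ IsLocalRing.maximalIdeal R := IsLocalRing.le_maximalIdeal p1.isPrime.ne_top hgp
    let N' := N ⧸ Ideal.span {g} • (⊤ : Submodule R N)
    let eq' : QuotSMulTop g N ≃ₗ[R] N' := Submodule.quotEquivOfEq _ _ (by rw [Submodule.ideal_span_singleton_smul])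
    have hdimN : Module.supportDim R N' + 1 = Module.supportDim R N := by
      rw [← Module.supportDim_eq_of_equiv eq']
      exact Module.supportDim_quotSMulTop_succ_eq_supportDim hreg hgm
    have hN' := (Groth.Agent.S2083.result hN g hgm hdimN).2.1
    obtain ⟨hnt', hAss'⟩ := hzero N' hN'
    have hp0A : p0.asIdeal ∈ associatedPrimes R N := by
      refine Module.associatedPrimes.minimalPrimes_annihilator_subset_associatedPrimes R N ⟨⟨p0.isPrime, Module.mem_support_iff_of_finite.mp hhd⟩, fun q hq hle => ?_⟩
      have := hmin ⟨q, hq.1⟩ (Module.mem_support_iff_of_finite.mpr hq.2) hle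
      exact (congrArg PrimeSpectrum.asIdeal this).ge
    obtain ⟨-, f, hf⟩ := (isAssociatedPrime_iff_exists_injective_linearMap _ _).1 hp0A
    let K : Submodule R N :=
      { carrier := {x | ∀ a ∈ p0.asIdeal, a • x = 0}
        add_mem' := fun hx hy a ha => by rw [smul_add, hx a ha, hy a ha, add_zero]
        zero_mem' := fun a _ => smul_zero a
        smul_mem' := fun r x hx a ha => by rw [smul_comm, hx a ha, smul_zero] }
    let gK : Submodule R K := Ideal.span {g} • ⊤
    let ι : (K ⧸ gK) →ₗ[R] N' := Submodule.mapQ gK _ K.subtype (Submodule.smul_top_le_comap_smul_top _ _)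
    have hι : Function.Injective ι := by
      rw [injective_iff_map_eq_zero]
      intro z hz
      obtain ⟨⟨z, hzK⟩, rfl⟩ := Submodule.Quotient.mk_surjective _ z
      rw [Submodule.mapQ_apply, Submodule.Quotient.mk_eq_zero, Submodule.ideal_span_singleton_smul,
        Submodule.mem_smul_pointwise_iff_exists] at hz
      obtain ⟨y, -, hy⟩ := hz
      have hyK : y ∈ K := fun a ha => (isSMulRegular_iff_right_eq_zero_of_smul.mp hreg) _ (by
        rw [smul_comm]; exact (congrArg (a • ·) hy).trans (hzK a ha))
      rw [Submodule.Quotient.mk_eq_zero]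
      have : (⟨z, hzK⟩ : K) = g • ⟨y, hyK⟩ := Subtype.ext hy.symm
      rw [this]
      exact Submodule.smul_mem_smul (Ideal.mem_span_singleton_self g) Submodule.mem_top
    have hKsupp : p1 ∈ Module.support R (K ⧸ gK) := by
      rw [Module.support_quotient]
      refine ⟨Module.mem_support_mono hcov.lt.le ?_, (Ideal.span_singleton_le_iff_mem _).mpr hgp⟩
      refine Module.support_subset_of_injective (f.codRestrict K fun x a ha => ?_) ?_ ?_
      · rw [← map_smul]
        obtain ⟨r, rfl⟩ := Ideal.Quotient.mk_surjective x
        rw [show a • Ideal.Quotient.mk p0.asIdeal r = 0 from Ideal.Quotient.eq_zero_iff_mem.mpr (Ideal.mul_mem_right r _ ha), map_zero]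
      · exact fun a b hab => hf (congrArg Subtype.val hab)
      · rw [Module.support_eq_zeroLocus, Ideal.annihilator_quotient]; exact le_refl p0.asIdeal
    have hp1A : p1.asIdeal ∈ associatedPrimes R N' := by
      haveI : Module.Finite R K := Module.Finite.iff_fg.mpr (IsNoetherian.noetherian K)
      refine associatedPrimes.subset_of_injective hι (Module.associatedPrimes.minimalPrimes_annihilator_subset_associatedPrimes R _
        ⟨⟨p1.isPrime, Module.mem_support_iff_of_finite.mp hKsupp⟩, fun q hq hle => ?_⟩)
      let q' : PrimeSpectrum R := ⟨q, hq.1⟩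
      have hq' : q' ∈ Module.support R (K ⧸ gK) := Module.mem_support_iff_of_finite.mpr hq.2
      rw [Module.support_quotient] at hq'
      have hp0q : p0.asIdeal ≤ q := fun a ha => (Module.mem_support_iff_of_finite.mp hq'.1)
        (Module.mem_annihilator.mpr fun x => Subtype.ext (x.2 a ha))
      have hgq : g ∈ q := hq'.2 (Ideal.mem_span_singleton_self g)
      have hne : p0 ≠ q' := fun he => by
        obtain rfl : p0.asIdeal = q := congrArg PrimeSpectrum.asIdeal he
        have := hf (show f (Ideal.Quotient.mk _ (1 : R)) = f 0 from by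
          refine (isSMulRegular_iff_right_eq_zero_of_smul.mp hreg) _ ?_ |>.trans (map_zero f).symm
          rw [← map_smul, show g • Ideal.Quotient.mk p0.asIdeal 1 = 0 from Ideal.Quotient.eq_zero_iff_mem.mpr (by simpa using hgq), map_zero])
        exact p0.isPrime.ne_top (p0.asIdeal.eq_top_iff_one.mpr (Ideal.Quotient.eq_zero_iff_mem.mp this))
      exact (hcov.eq_or_eq hp0q hle).resolve_left (fun h => hne h.symm) ▸ le_rfl
    have hne0 : c.length ≠ 0 := by omega
    have hh : (c.tail hne0).head = p1 := by
      rw [RelSeries.head_tail]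
      exact congrArg c (Fin.ext (by simp [Nat.mod_eq_of_lt (show 1 < c.length + 1 by omega)]))
    have hres := ih N' hN' (c.tail hne0) (by simp [hc])
      (by
        haveI := hp1A.isPrime
        obtain ⟨-, f', hf'⟩ := (isAssociatedPrime_iff_exists_injective_linearMap _ _).1 hp1A
        rw [hh]
        refine Module.support_subset_of_injective f' hf' ?_
        rw [Module.support_eq_zeroLocus, Ideal.annihilator_quotient]; exact le_refl p1.asIdeal)
      (fun q hq hle => by
        rw [hh] at hle ⊢
        exact PrimeSpectrum.ext (hAss' _ hp1A q hq hle))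
      (by rw [RelSeries.last_tail]; exact hl)
      (fun i => by
        have hlen : (c.tail hne0).length = c.length - 1 := rfl
        have := hst ⟨i + 1, by have := i.2; omega⟩
        exact this)
    rw [← hdimN, hres]
    push_cast
    rfl

end Groth.Agent.S2084
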