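import Mathlib
import Groth.Agent.GrCoreLib.Height
import Groth.Agent.Depth.FlatLocal
import Groth.Statements.S2085

set_option autoImplicit false
universe u
open CAlg

namespace Groth.Agent.S2085

/-- Let `M` be a finite module over a Noetherian ring `R`. Then every associated prime of `M` is minimal
in the support of `M` (no embedded primes) if and only if `M` satisfies Serre's condition `(S_1)`. -/
theorem result {R M : Type u} [CommRing R] [IsNoetherianRing R] [AddCommGroup M] [Module R M]
    [Module.Finite R M] :
    (∀ p ∈ associatedPrimes R M, p ∈ (Module.annihilator R M).minimalPrimes) ↔ LocCoh.HasSk 1 R M := by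
  open IsLocalRing in
  classical
  have hdep : ∀ (p : Ideal R) [p.IsPrime], Module.annihilator R M ≤ p →
      (LocCoh.depth (Localization.AtPrime p) (LocalizedModule p.primeCompl M) = 0 ↔ p ∈ associatedPrimes R M) := by
    intro p _ hann
    haveI : Nontrivial (LocalizedModule p.primeCompl M) :=
      Module.mem_support_iff.1 (Module.mem_support_iff_of_finite.2 hann : (⟨p, inferInstance⟩ : PrimeSpectrum R) ∈ Module.support R M)
    haveI : Module.Finite (Localization.AtPrime p) (LocalizedModule p.primeCompl M) :=
      Module.Finite.of_isLocalizedModule p.primeCompl (LocalizedModule.mkLinearMap p.primeCompl M)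
    have hI : maximalIdeal (Localization.AtPrime p) • (⊤ : Submodule (Localization.AtPrime p) (LocalizedModule p.primeCompl M)) ≠ ⊤ :=
      fun h => top_ne_bot (Submodule.eq_bot_of_le_smul_of_le_jacobson_bot (maximalIdeal _) ⊤ Module.Finite.fg_top h.ge
        (maximalIdeal_le_jacobson _))
    rw [LocCoh.depth, Groth.Agent.Depth.idealDepth_eq_zero_iff hI]
    constructor
    · rintro ⟨x, hx, hmx⟩
      obtain ⟨Q, hQ, hle⟩ := exists_le_isAssociatedPrime_of_isNoetherianRing (Localization.AtPrime p) x hx
      have hQm : Q = maximalIdeal _ := le_antisymm (le_maximalIdeal hQ.isPrime.ne_top)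
        (le_trans (fun r hr => Submodule.mem_colon_singleton.2 (hmx r hr)) hle)
      have hmem : maximalIdeal (Localization.AtPrime p) ∈ associatedPrimes (Localization.AtPrime p) (LocalizedModule p.primeCompl M) := hQm ▸ hQ
      have hp : (maximalIdeal (Localization.AtPrime p)).comap (algebraMap R (Localization.AtPrime p)) = p :=
        IsLocalization.AtPrime.comap_maximalIdeal _ p
      rw [← hp]
      exact (Module.associatedPrimes.preimage_comap_associatedPrimes_eq_associatedPrimes_of_isLocalizedModule
        p.primeCompl (Localization.AtPrime p) (LocalizedModule.mkLinearMap p.primeCompl M)).symm.subset hmem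
    · intro hp
      have hmem : maximalIdeal (Localization.AtPrime p) ∈ associatedPrimes (Localization.AtPrime p) (LocalizedModule p.primeCompl M) := by
        refine (Module.associatedPrimes.preimage_comap_associatedPrimes_eq_associatedPrimes_of_isLocalizedModule
          p.primeCompl (Localization.AtPrime p) (LocalizedModule.mkLinearMap p.primeCompl M)).subset ?_
        show (maximalIdeal (Localization.AtPrime p)).comap (algebraMap R (Localization.AtPrime p)) ∈ associatedPrimes R M
        rw [show (maximalIdeal (Localization.AtPrime p)).comap (algebraMap R (Localization.AtPrime p)) = p from IsLocalization.AtPrime.comap_maximalIdeal _ p]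
        exact hp
      obtain ⟨-, x, hx⟩ := isAssociatedPrime_iff.1 hmem
      refine ⟨x, fun h0 => (maximalIdeal.isMaximal _).ne_top (hx.trans ?_), fun r hr => ?_⟩
      · rw [h0, eq_top_iff]; exact fun r _ => by simp
      · rw [hx, Submodule.mem_colon_singleton, Submodule.mem_bot] at hr; exact hr
  have hdim : ∀ (p : Ideal R) [p.IsPrime], Module.annihilator R M ≤ p →
      ∃ h : ℕ∞, Module.supportDim (Localization.AtPrime p) (LocalizedModule p.primeCompl M) = (h : WithBot ℕ∞) ∧
        (h = 0 ↔ p ∈ (Module.annihilator R M).minimalPrimes) := by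
    intro p hp hann
    refine ⟨_, Groth.Agent.GrCoreLib.supportDim_localized_eq M ⟨p, hp⟩ hann, ?_⟩
    rw [Groth.Agent.GrCoreLib.relHeight, Order.height_eq_zero]
    constructor
    · intro hmin
      exact ⟨⟨hp, hann⟩, fun q hq hqp => @hmin ⟨⟨q, hq.1⟩, hq.2⟩ hqp⟩
    · intro hmin Q hQ
      exact hmin.2 ⟨Q.1.isPrime, Q.2⟩ hQ
  constructor
  · intro hass p _
    by_cases hann : Module.annihilator R M ≤ p
    · obtain ⟨h, hh, hmin⟩ := hdim p hann
      rcases eq_or_ne (LocCoh.depth (Localization.AtPrime p) (LocalizedModule p.primeCompl M)) 0 with h0 | h0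
      · rw [hh, hmin.2 (hass p ((hdep p hann).1 h0)), h0]
        exact min_le_right _ _
      · refine (min_le_left _ _).trans ?_
        exact_mod_cast ENat.one_le_iff_ne_zero.mpr h0
    · haveI : Subsingleton (LocalizedModule p.primeCompl M) := Module.notMem_support_iff.1
        (fun h => hann (Module.mem_support_iff_of_finite.1 h) : (⟨p, inferInstance⟩ : PrimeSpectrum R) ∉ Module.support R M)
      rw [Module.supportDim_eq_bot_of_subsingleton]
      exact (min_le_right _ _).trans bot_le
  · intro hS p hp
    haveI := hp.isPrime
    have hann : Module.annihilator R M ≤ p := by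
      have h := IsAssociatedPrime.annihilator_le hp
      rwa [Submodule.annihilator_top] at h
    obtain ⟨h, hh, hmin⟩ := hdim p hann
    refine hmin.1 ?_
    have h1 := hS p
    rw [hh, (hdep p hann).2 hp] at h1
    by_contra hne
    rw [Nat.cast_one, min_eq_left (by exact_mod_cast ENat.one_le_iff_ne_zero.mpr hne)] at h1
    exact absurd h1 (by simp)

end Groth.Agent.S2085
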