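import Groth.Statements.S2088
import Groth.Agent.ResExt.Main
-- import your own Groth.Agent.* helpers here

set_option autoImplicit false
universe u
open CAlg

namespace Groth.Agent.S2088

/-- Let `(R, 𝔪, k)` be a local ring and `K/k` a field extension. Then there is a flat local homomorphism
of local rings `R → R'` with `𝔪R' = 𝔪_{R'}` whose residue field is isomorphic to `K` over `k`. -/
theorem result {R K : Type u} [CommRing R] [IsLocalRing R] [Field K]
    [Algebra (IsLocalRing.ResidueField R) K] :
    ∃ (R' : Type u) (_ : CommRing R') (_ : IsLocalRing R') (_ : Algebra R R') (_ : IsLocalHom (algebraMap R R')),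
      Module.Flat R R' ∧ (IsLocalRing.maximalIdeal R).map (algebraMap R R') = IsLocalRing.maximalIdeal R' ∧
      Nonempty (IsLocalRing.ResidueField R' ≃ₐ[IsLocalRing.ResidueField R] K) := by
  obtain ⟨A₁, _, _, _, φ, hflat, hmax, hcomp, hker, hint⟩ :=
    Groth.Agent.ResExt.exists_purelyTranscendental_stage (A := R) K
  let _ : Algebra A₁ K := φ.toAlgebra
  have : Algebra.IsIntegral A₁ K := ⟨hint⟩
  obtain ⟨_, _⟩ := exists_wellFoundedLT (α := K)
  obtain ⟨S, _, _, hS, ψ, hψ, hψker⟩ :=
    Groth.Agent.ResExt.exists_flat_surjective (A := A₁) (K := K) hker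
  let _ : Algebra R S := ((algebraMap A₁ S).comp (algebraMap R A₁)).toAlgebra
  have : IsScalarTower R A₁ S := .of_algebraMap_eq' rfl
  have : Module.Flat R S := Module.Flat.trans R A₁ S
  let Q : Ideal S := RingHom.ker ψ
  have : Q.IsPrime := RingHom.ker_isPrime ψ
  have hu : ∀ y : Q.primeCompl, IsUnit ((ψ : S →+* K) y) := fun y => isUnit_iff_ne_zero.mpr y.2
  let θ : Localization.AtPrime Q →+* K := IsLocalization.lift hu
  have hm : (IsLocalRing.maximalIdeal R).map (algebraMap R (Localization.AtPrime Q)) =
      IsLocalRing.maximalIdeal (Localization.AtPrime Q) := by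
    rw [← Localization.AtPrime.map_eq_maximalIdeal]
    refine Eq.trans ?_ (congrArg (Ideal.map (algebraMap S (Localization.AtPrime Q))) hψker.symm)
    rw [hmax, Ideal.map_map (algebraMap R A₁) (algebraMap A₁ S), ← IsScalarTower.algebraMap_eq R A₁ S,
      Ideal.map_map, ← IsScalarTower.algebraMap_eq]
  have hloc : IsLocalHom (algebraMap R (Localization.AtPrime Q)) := by
    refine ⟨fun a ha => ?_⟩
    by_contra hne
    have h := Ideal.mem_map_of_mem (algebraMap R (Localization.AtPrime Q))
      ((IsLocalRing.mem_maximalIdeal a).mpr hne)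
    rw [hm] at h
    exact (IsLocalRing.mem_maximalIdeal _).mp h ha
  have : Module.Flat S (Localization.AtPrime Q) := IsLocalization.flat _ Q.primeCompl
  refine ⟨Localization.AtPrime Q, inferInstance, inferInstance, inferInstance, hloc,
    Module.Flat.trans R S _, hm, ?_⟩
  have hθs : Function.Surjective θ := fun x => by
    obtain ⟨y, rfl⟩ := hψ x
    exact ⟨algebraMap S _ y, IsLocalization.lift_eq hu y⟩
  have : IsLocalHom θ := IsLocalRing.of_surjective' θ hθs |> fun _ => IsLocalHom.of_surjective θ hθs
  let e : IsLocalRing.ResidueField (Localization.AtPrime Q) →+* K := IsLocalRing.ResidueField.lift θ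
  have hes : Function.Surjective e := fun x => by
    obtain ⟨y, rfl⟩ := hθs x
    exact ⟨IsLocalRing.residue _ y, rfl⟩
  refine ⟨AlgEquiv.ofRingEquiv (f := RingEquiv.ofBijective e ⟨e.injective, hes⟩) fun c => ?_⟩
  obtain ⟨r, rfl⟩ := IsLocalRing.residue_surjective c
  change θ (algebraMap R (Localization.AtPrime Q) r) = _
  rw [IsScalarTower.algebraMap_apply R S (Localization.AtPrime Q)]
  refine (IsLocalization.lift_eq hu _).trans ?_
  rw [IsScalarTower.algebraMap_apply R A₁ S]
  exact (ψ.commutes _).trans (RingHom.congr_fun hcomp r)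

end Groth.Agent.S2088
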