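import Mathlib
import Groth.Agent.Depth.Basic
import Groth.Statements.S2090

set_option autoImplicit false
universe u
open CAlg
open scoped Pointwise

namespace Groth.Agent.S2090

/-- Let `R` be Noetherian and `φ : M → N` a map of `R`-modules with `M` finite. Suppose that for every
prime `𝔭` either `φ_𝔭` is bijective, or `M_𝔭` has depth at least two and `𝔭` is not an associated
prime of `N`. Then `φ` is bijective. -/
theorem result {R M N : Type u} [CommRing R] [IsNoetherianRing R] [AddCommGroup M]
    [Module R M] [Module.Finite R M] [AddCommGroup N] [Module R N] (φ : M →ₗ[R] N)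
    (h : ∀ (p : Ideal R) [p.IsPrime],
      Function.Bijective (LocalizedModule.map p.primeCompl φ) ∨
        (2 ≤ LocCoh.depth (Localization.AtPrime p) (LocalizedModule p.primeCompl M) ∧
          p ∉ associatedPrimes R N)) :
    Function.Bijective φ := by
  open IsLocalRing RingTheory.Sequence in
  classical
  have hcomap : ∀ (p : Ideal R) [p.IsPrime], (maximalIdeal (Localization.AtPrime p)).comap
      (algebraMap R (Localization.AtPrime p)) = p := fun p _ => IsLocalization.AtPrime.comap_maximalIdeal _ p
  have hdepth : ∀ (p : Ideal R) [p.IsPrime], Nontrivial (LocalizedModule p.primeCompl M) →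
      2 ≤ LocCoh.depth (Localization.AtPrime p) (LocalizedModule p.primeCompl M) →
      ∃ r₁ ∈ maximalIdeal (Localization.AtPrime p), ∃ r₂ ∈ maximalIdeal (Localization.AtPrime p),
        IsWeaklyRegular (LocalizedModule p.primeCompl M) [r₁, r₂] := by
    intro p _ hnt h2
    haveI : Module.Finite (Localization.AtPrime p) (LocalizedModule p.primeCompl M) :=
      Module.Finite.of_isLocalizedModule p.primeCompl (LocalizedModule.mkLinearMap p.primeCompl M)
    have hI : maximalIdeal (Localization.AtPrime p) • (⊤ : Submodule (Localization.AtPrime p) (LocalizedModule p.primeCompl M)) ≠ ⊤ :=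
      fun h => top_ne_bot (Submodule.eq_bot_of_le_smul_of_le_jacobson_bot (maximalIdeal _) ⊤ Module.Finite.fg_top h.ge
        (maximalIdeal_le_jacobson _))
    obtain ⟨rs, hlen, hmem, hreg⟩ := (Groth.Agent.Depth.le_idealDepth_iff hI 2).1 h2
    obtain ⟨r₁, r₂, rfl⟩ := List.length_eq_two.1 hlen
    exact ⟨r₁, hmem _ (by simp), r₂, hmem _ (by simp), hreg⟩
  have hinj : Function.Injective φ := by
    rw [← LinearMap.ker_eq_bot]
    by_contra hne
    obtain ⟨x, hx, hx0⟩ := Submodule.exists_mem_ne_zero_of_ne_bot hne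
    obtain ⟨p, hp, hle⟩ := exists_le_isAssociatedPrime_of_isNoetherianRing R (⟨x, hx⟩ : LinearMap.ker φ)
      (fun h => hx0 (congrArg Subtype.val h))
    obtain ⟨hpp, y, hy⟩ := isAssociatedPrime_iff.1 hp
    have hy1 : LocalizedModule.mkLinearMap p.primeCompl M (y : M) ≠ 0 := by
      intro h0
      obtain ⟨⟨s, hs⟩, hs'⟩ := (IsLocalizedModule.eq_zero_iff p.primeCompl _).1 h0
      apply hs
      rw [SetLike.mem_coe, hy, Submodule.mem_colon_singleton, Submodule.mem_bot]
      exact Subtype.ext hs'
    rcases h p with hbij | ⟨h2, -⟩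
    · apply hy1
      apply hbij.1
      rw [map_zero]
      show LocalizedModule.map p.primeCompl φ (LocalizedModule.mk (y : M) 1) = 0
      rw [LocalizedModule.map_mk, LinearMap.mem_ker.1 y.2, LocalizedModule.zero_mk]
    · obtain ⟨r₁, hr₁, r₂, -, hreg⟩ := hdepth p ⟨_, 0, hy1⟩ h2
      apply hy1
      refine ((isWeaklyRegular_cons_iff _ _ _).1 hreg).1.right_eq_zero_of_smul ?_
      obtain ⟨⟨a, s⟩, has⟩ := IsLocalization.mk'_surjective p.primeCompl r₁
      simp only at has
      rw [← has] at hr₁ ⊢
      have ha : a ∈ p := (IsLocalization.AtPrime.mk'_mem_maximal_iff (Localization.AtPrime p) p a s).1 hr₁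
      rw [hy, Submodule.mem_colon_singleton, Submodule.mem_bot] at ha
      rw [IsLocalization.mk'_eq_mul_mk'_one, mul_comm, mul_smul, algebraMap_smul, ← map_smul,
        show a • (y : M) = 0 from congrArg Subtype.val ha, map_zero, smul_zero]
  refine ⟨hinj, ?_⟩
  rw [← LinearMap.range_eq_top]
  by_contra hne
  obtain ⟨z₀, hz₀⟩ : ∃ z, z ∉ LinearMap.range φ := by
    by_contra! hall
    exact hne (Submodule.eq_top_iff'.2 hall)
  obtain ⟨p, hp, hle⟩ := exists_le_isAssociatedPrime_of_isNoetherianRing R
    (Submodule.Quotient.mk z₀ : N ⧸ LinearMap.range φ) (by rwa [Ne, Submodule.Quotient.mk_eq_zero])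
  obtain ⟨hpp, zc, hzc⟩ := isAssociatedPrime_iff.1 hp
  obtain ⟨z, rfl⟩ := Submodule.Quotient.mk_surjective _ zc
  have hz : ∀ t, t ∈ p ↔ t • z ∈ LinearMap.range φ := fun t => by
    rw [hzc, Submodule.mem_colon_singleton, Submodule.mem_bot, ← Submodule.Quotient.mk_smul,
      Submodule.Quotient.mk_eq_zero]
  let L := Localization.AtPrime p
  let φp := LocalizedModule.map p.primeCompl φ
  let zp : LocalizedModule p.primeCompl N := LocalizedModule.mkLinearMap p.primeCompl N z
  have hnot : ∀ m, φp m ≠ zp := by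
    intro m hm
    induction m using LocalizedModule.induction_on with
    | _ m s =>
      rw [LocalizedModule.map_mk] at hm
      obtain ⟨u, hu⟩ := (LocalizedModule.mk_eq).1 hm
      rw [Submonoid.smul_def, Submonoid.smul_def, Submonoid.smul_def, Submonoid.smul_def, Submonoid.coe_one, one_smul,
        smul_smul] at hu
      refine ((u * s : p.primeCompl)).2 ((hz _).2 ⟨(u : R) • m, ?_⟩)
      rw [map_smul, hu]
      rfl
  rcases h p with hbij | ⟨h2, hN⟩
  · obtain ⟨m, hm⟩ := hbij.2 zp
    exact hnot m hm
  have hφp : Function.Injective φp := LocalizedModule.map_injective p.primeCompl φ hinj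
  have hmax : ∀ s ∈ maximalIdeal L, ∃ m, φp m = s • zp := by
    intro s hs
    obtain ⟨⟨a, t⟩, has⟩ := IsLocalization.mk'_surjective p.primeCompl s
    simp only at has
    rw [← has] at hs ⊢
    obtain ⟨m, hm⟩ := (hz a).1 ((IsLocalization.AtPrime.mk'_mem_maximal_iff L p a t).1 hs)
    refine ⟨IsLocalization.mk' L 1 t • LocalizedModule.mkLinearMap p.primeCompl M m, ?_⟩
    rw [map_smul, IsLocalization.mk'_eq_mul_mk'_one a t, mul_comm, mul_smul, algebraMap_smul]
    congr 1
    show φp (LocalizedModule.mk m 1) = _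
    rw [LocalizedModule.map_mk, hm]
    exact (LinearMap.map_smul (LocalizedModule.mkLinearMap p.primeCompl N) a z)
  have hnt : Nontrivial (LocalizedModule p.primeCompl M) := by
    by_contra hc
    haveI := not_nontrivial_iff_subsingleton.1 hc
    apply hN
    have hker : ∀ s ∈ maximalIdeal L, s • zp = 0 := fun s hs => by
      obtain ⟨m, hm⟩ := hmax s hs
      rw [← hm, Subsingleton.elim m 0, map_zero]
    have hzp : zp ≠ 0 := fun h0 => hnot 0 (by rw [map_zero, h0])
    have hmem : maximalIdeal L ∈ associatedPrimes L (LocalizedModule p.primeCompl N) := by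
      obtain ⟨Q, hQ, hQle⟩ := exists_le_isAssociatedPrime_of_isNoetherianRing L zp hzp
      have : Q = maximalIdeal L := le_antisymm (le_maximalIdeal hQ.isPrime.ne_top)
        (le_trans (fun r hr => Submodule.mem_colon_singleton.2 (hker r hr)) hQle)
      exact this ▸ hQ
    have h3 := (Module.associatedPrimes.preimage_comap_associatedPrimes_eq_associatedPrimes_of_isLocalizedModule
      p.primeCompl L (LocalizedModule.mkLinearMap p.primeCompl N)).symm.subset hmem
    rw [Set.mem_preimage, hcomap p] at h3
    exact h3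
  obtain ⟨r₁, hr₁, r₂, hr₂, hreg⟩ := hdepth p hnt h2
  obtain ⟨hreg1, hreg2⟩ := (isWeaklyRegular_cons_iff _ _ _).1 hreg
  choose! f hf using hmax
  have hcross : ∀ s ∈ maximalIdeal L, r₁ • f s = s • f r₁ := fun s hs => hφp (by
    rw [map_smul, map_smul, hf s hs, hf r₁ hr₁, smul_comm])
  obtain ⟨m', hm'⟩ : ∃ m', r₁ • m' = f r₁ := by
    have h3 := (isWeaklyRegular_cons_iff _ _ _).1 hreg2
    have h4 : (Submodule.Quotient.mk (f r₁) : QuotSMulTop r₁ (LocalizedModule p.primeCompl M)) = 0 := by
      refine h3.1.right_eq_zero_of_smul ?_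
      rw [← Submodule.Quotient.mk_smul, Submodule.Quotient.mk_eq_zero, ← hcross r₂ hr₂]
      exact Submodule.smul_mem_pointwise_smul _ _ _ Submodule.mem_top
    rw [Submodule.Quotient.mk_eq_zero, Submodule.mem_smul_pointwise_iff_exists] at h4
    obtain ⟨m', -, hm'⟩ := h4
    exact ⟨m', hm'⟩
  apply hN
  let w := zp - φp m'
  have hw : w ≠ 0 := fun h0 => hnot m' (sub_eq_zero.1 h0).symm
  have hws : ∀ s ∈ maximalIdeal L, s • w = 0 := by
    intro s hs
    have h1 : r₁ • (f s - s • m') = 0 := by
      rw [smul_sub, hcross s hs, smul_comm r₁ s m', hm', sub_self]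
    have h2 := hreg1.right_eq_zero_of_smul h1
    show s • (zp - φp m') = 0
    rw [smul_sub, ← hf s hs, ← map_smul, ← map_sub, h2, map_zero]
  obtain ⟨Q, hQ, hQle⟩ := exists_le_isAssociatedPrime_of_isNoetherianRing L w hw
  have hQm : Q = maximalIdeal L := le_antisymm (le_maximalIdeal hQ.isPrime.ne_top)
    (le_trans (fun r hr => Submodule.mem_colon_singleton.2 (hws r hr)) hQle)
  have h3 := (Module.associatedPrimes.preimage_comap_associatedPrimes_eq_associatedPrimes_of_isLocalizedModule
    p.primeCompl L (LocalizedModule.mkLinearMap p.primeCompl N)).symm.subset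
      (hQm ▸ hQ : maximalIdeal L ∈ associatedPrimes L (LocalizedModule p.primeCompl N))
  rw [Set.mem_preimage, hcomap p] at h3
  exact h3

end Groth.Agent.S2090
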