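import Groth.Statements.S2093
import Groth.Statements.S2093
import Groth.Agent.CMCat.ComplQuot
import Groth.Agent.Depth.FlatLocal

set_option autoImplicit false
set_option backward.isDefEq.respectTransparency false
set_option maxHeartbeats 1000000
universe u
open CAlg

namespace Groth.Agent.S2093

open IsLocalRing

/-- A noetherian local ring with a regular element `π` modulo which it is reduced, and of depth zero
modulo a power of `π`, is reduced. -/
theorem isReduced_local {B : Type u} [CommRing B] [IsNoetherianRing B] [IsLocalRing B]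
    (π : B) (hπ : IsSMulRegular B π) (hπm : π ∈ maximalIdeal B)
    (hred : (Ideal.span {π}).IsRadical) (m : ℕ) (z : B) (hz : z ∉ Ideal.span {π ^ m})
    (hann : ∀ a ∈ maximalIdeal B, a * z ∈ Ideal.span {π ^ m}) : IsReduced B := by
  classical
  have hmax : maximalIdeal B ≤ Ideal.span {π} := by
    have h0 : ∃ j, z ∉ Ideal.span {π ^ j} := ⟨m, hz⟩
    obtain ⟨j, hj⟩ : ∃ j, Nat.find h0 = j + 1 := Nat.exists_eq_succ_of_ne_zero fun h => by
      have := Nat.find_spec h0
      rw [h, pow_zero, Ideal.span_singleton_one] at this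
      exact this trivial
    have hin : z ∈ Ideal.span {π ^ j} := not_not.1 (Nat.find_min h0 (by omega))
    have hout := Nat.find_spec h0
    rw [hj] at hout
    have hjm : j + 1 ≤ m := hj ▸ Nat.find_min' h0 hz
    obtain ⟨z', rfl⟩ := Ideal.mem_span_singleton.1 hin
    have hz' : z' ∉ Ideal.span {π} := fun h => hout (by
      rw [Ideal.mem_span_singleton] at h ⊢
      rw [pow_succ]
      exact mul_dvd_mul_left _ h)
    have hann' : ∀ a ∈ maximalIdeal B, a * z' ∈ Ideal.span {π} := fun a ha => by
      obtain ⟨c, hc⟩ := Ideal.mem_span_singleton.1 (hann a ha)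
      obtain ⟨d, rfl⟩ := Nat.exists_eq_add_of_le hjm
      refine Ideal.mem_span_singleton.2 ⟨π ^ d * c, (hπ.pow j) ?_⟩
      show π ^ j * (a * z') = π ^ j * (π * (π ^ d * c))
      rw [← mul_left_comm a, hc]
      ring
    have hu : IsUnit z' := by
      by_contra hnu
      exact hz' (hred ⟨2, by rw [pow_two]; exact hann' z' hnu⟩)
    intro a ha
    have := hann' a ha
    rwa [Ideal.mul_unit_mem_iff_mem _ hu] at this
  refine ⟨fun w hw => ?_⟩
  by_contra hw0
  have hI : ∃ j, w ∉ Ideal.span {π ^ j} := by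
    by_contra h
    push Not at h
    refine hw0 ?_
    have : w ∈ ⨅ j, (Ideal.span {π} : Ideal B) ^ j :=
      Submodule.mem_iInf _ |>.2 fun j => by rw [Ideal.span_singleton_pow]; exact h j
    rwa [Ideal.iInf_pow_eq_bot_of_isLocalRing _ (fun h => (maximalIdeal.isMaximal B).ne_top
      (top_le_iff.1 (h.symm ▸ (Ideal.span_singleton_le_iff_mem _).2 hπm))), Submodule.mem_bot] at this
  obtain ⟨j, hj⟩ : ∃ j, Nat.find hI = j + 1 := Nat.exists_eq_succ_of_ne_zero fun h => by
    have := Nat.find_spec hI
    rw [h, pow_zero, Ideal.span_singleton_one] at this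
    exact this trivial
  obtain ⟨c, rfl⟩ := Ideal.mem_span_singleton.1 (not_not.1 (Nat.find_min hI (by omega : j < Nat.find hI)))
  have hout := Nat.find_spec hI
  rw [hj] at hout
  have hc : IsUnit c := by
    by_contra hnu
    refine hout ?_
    obtain ⟨d, rfl⟩ := Ideal.mem_span_singleton.1 (hmax hnu)
    exact Ideal.mem_span_singleton.2 ⟨d, by ring⟩
  obtain ⟨N, hN⟩ := hw
  rw [mul_pow, (hc.pow N).mul_left_eq_zero, ← pow_mul] at hN
  have h1 : (1 : B) = 0 := (hπ.pow (j * N)) (show π ^ (j * N) * 1 = π ^ (j * N) * 0 by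
    rw [mul_one, mul_zero, hN])
  exact one_ne_zero h1

/-- Let `(R, 𝔪)` be a Noetherian local domain and `x ∈ 𝔪` nonzero such that `R/xR` has no embedded
associated primes, and for every associated prime `𝔭` of `R/xR` the local ring `R_𝔭` is regular and
the completion of `R/𝔭` is reduced. Then the completion of `R` is reduced. -/
theorem result {R : Type u} [CommRing R] [IsDomain R] [IsLocalRing R]
    [IsNoetherianRing R] (x : R) (hx : x ≠ 0) (hxm : x ∈ IsLocalRing.maximalIdeal R)
    (hemb : ∀ p ∈ associatedPrimes R (R ⧸ Ideal.span {x}), p ∈ (Ideal.span {x}).minimalPrimes)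
    (hreg : ∀ p ∈ associatedPrimes R (R ⧸ Ideal.span {x}), ∀ (_ : p.IsPrime),
      IsRegularLocalRing (Localization.AtPrime p) ∧
        IsReduced (AdicCompletion ((IsLocalRing.maximalIdeal R).map (Ideal.Quotient.mk p)) (R ⧸ p))) :
    IsReduced (AdicCompletion (IsLocalRing.maximalIdeal R) R) := by
  classical
  let Rh := AdicCompletion (maximalIdeal R) R
  let φ := algebraMap R Rh
  haveI : Module.Flat R Rh := AdicCompletion.flat_of_isNoetherian _
  haveI : IsNoetherianRing Rh := RegLocal.isNoetherianRing_completion R _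
  haveI : IsLocalRing Rh :=
    RegLocal.isLocalRing_completion R (maximalIdeal R) (maximalIdeal.isMaximal R).ne_top
  have hreg' : ∀ r : R, r ≠ 0 → IsSMulRegular Rh (φ r) := fun r hr => by
    have : IsSMulRegular Rh r := IsSMulRegular.of_flat (S := Rh) (isRegular_iff_ne_zero.2 hr).left
    exact fun a b h => this (by simpa [Algebra.smul_def] using h)
  have hxne : Ideal.span {φ x} ≠ ⊤ := fun h => by
    refine (maximalIdeal.isMaximal Rh).ne_top (top_le_iff.1 (h ▸ ?_))
    rw [Ideal.span_singleton_le_iff_mem,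
      RegLocal.maximalIdeal_completion R (maximalIdeal R) (maximalIdeal.isMaximal R).ne_top]
    exact Ideal.mem_map_of_mem _ hxm
  refine ⟨fun w₀ hw₀ => ?_⟩
  by_contra h0
  have hI : ∃ j, w₀ ∉ Ideal.span {φ x ^ j} := by
    by_contra h
    push Not at h
    refine h0 ?_
    have : w₀ ∈ ⨅ j, (Ideal.span {φ x} : Ideal Rh) ^ j :=
      Submodule.mem_iInf _ |>.2 fun j => by rw [Ideal.span_singleton_pow]; exact h j
    rwa [Ideal.iInf_pow_eq_bot_of_isLocalRing _ hxne, Submodule.mem_bot] at this
  obtain ⟨j, hj⟩ : ∃ j, Nat.find hI = j + 1 := Nat.exists_eq_succ_of_ne_zero fun h => by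
    have := Nat.find_spec hI
    rw [h, pow_zero, Ideal.span_singleton_one] at this
    exact this trivial
  obtain ⟨w, rfl⟩ := Ideal.mem_span_singleton.1 (not_not.1 (Nat.find_min hI (by omega : j < Nat.find hI)))
  have hwx : w ∉ Ideal.span {φ x} := fun h => by
    refine (Nat.find_spec hI) ?_
    rw [hj]
    obtain ⟨d, rfl⟩ := Ideal.mem_span_singleton.1 h
    exact Ideal.mem_span_singleton.2 ⟨d, by ring⟩
  have hwnil : IsNilpotent w := by
    obtain ⟨N, hN⟩ := hw₀
    rw [mul_pow] at hN
    exact ⟨N, (((hreg' x hx).pow j).pow N) (by simpa using hN)⟩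
  obtain ⟨q, hq, hle⟩ := exists_le_isAssociatedPrime_of_isNoetherianRing Rh
    (Ideal.Quotient.mk (Ideal.span {φ x}) w)
    (mt Ideal.Quotient.eq_zero_iff_mem.1 hwx)
  obtain ⟨hqp, a, ha⟩ := (isAssociatedPrime_iff_exists_injective_linearMap _ _).1 hq |> fun h =>
    (show q.IsPrime ∧ ∃ a : Rh, ∀ s, s ∈ q ↔ s * a ∈ Ideal.span {φ x} from by
      obtain ⟨h1, g, hg⟩ := h
      obtain ⟨a, ha⟩ := Ideal.Quotient.mk_surjective (g (Ideal.Quotient.mk q 1))
      refine ⟨h1, a, fun s => ?_⟩
      have h2 : s • g (Ideal.Quotient.mk q 1) = g (Ideal.Quotient.mk q s) := by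
        rw [← map_smul, Algebra.smul_def, Ideal.Quotient.algebraMap_eq, ← map_mul, mul_one]
      rw [← Ideal.Quotient.eq_zero_iff_mem, ← Ideal.Quotient.eq_zero_iff_mem, map_mul,
        ← map_eq_zero_iff g hg, ← h2, ← ha, Algebra.smul_def, Ideal.Quotient.algebraMap_eq])
  haveI := hqp
  have hxq : φ x ∈ q := (ha _).2 (Ideal.mul_mem_right _ _ (Ideal.mem_span_singleton_self _))
  have hqtop : a ∉ Ideal.span {φ x} := fun h => hqp.ne_top ((Ideal.eq_top_iff_one _).2 ((ha 1).2 (by rwa [one_mul])))
  let P := q.comap φ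
  haveI : P.IsPrime := Ideal.comap_isPrime φ q
  have hPass : P ∈ associatedPrimes R (R ⧸ Ideal.span {x}) := by
    have hsub : (P : Set R) ⊆ ⋃ p ∈ associatedPrimes R (R ⧸ Ideal.span {x}), (p : Set R) := by
      rw [biUnion_associatedPrimes_eq_compl_regular]
      intro r hr hsr
      refine hqtop (Ideal.Quotient.eq_zero_iff_mem.1 ?_)
      have h1 := Module.Flat.lTensor_preserves_injective_linearMap (M := Rh)
        (LinearMap.lsmul R (R ⧸ Ideal.span {x}) r) hsr
      let e := Algebra.TensorProduct.quotIdealMapEquivTensorQuot Rh (Ideal.span {x})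
      have hmap : (Ideal.span {x}).map φ = Ideal.span {φ x} := by rw [Ideal.map_span, Set.image_singleton]
      rw [Ideal.Quotient.eq_zero_iff_mem, ← hmap, ← Ideal.Quotient.eq_zero_iff_mem]
      refine e.injective ?_
      rw [map_zero, Algebra.TensorProduct.quotIdealMapEquivTensorQuot_mk]
      refine h1 ?_
      have h2 : φ r * a ∈ (Ideal.span {x}).map φ := hmap ▸ (ha _).1 hr
      have h3 := congrArg e (Ideal.Quotient.eq_zero_iff_mem.2 h2)
      rw [map_zero, Algebra.TensorProduct.quotIdealMapEquivTensorQuot_mk] at h3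
      rw [map_zero, LinearMap.lTensor_tmul, ← h3, ← Algebra.smul_def, TensorProduct.smul_tmul]
      rfl
    obtain ⟨p, hp, hPp⟩ := (Ideal.subset_union_prime_finite (associatedPrimes.finite R _) ⊥ ⊥
      (fun p hp _ _ => hp.isPrime)).1 hsub
    have hPx : Ideal.span {x} ≤ P := (Ideal.span_singleton_le_iff_mem _).2 hxq
    exact (le_antisymm hPp ((hemb p hp).2 ⟨inferInstance, hPx⟩ hPp)) ▸ hp
  obtain ⟨hregP, hredP⟩ := hreg P hPass inferInstance
  have hrad : (P.map φ).IsRadical := by
    have hP : P ≠ ⊤ := Ideal.IsPrime.ne_top inferInstance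
    rw [Ideal.isRadical_iff_quotient_reduced]
    let e := (Ideal.quotEquivOfEq (CMCat.ker_complHom_mk (maximalIdeal R) P (maximalIdeal.isMaximal R).ne_top hP).symm).trans
      (RingHom.quotientKerEquivOfSurjective (CMCat.complHom_mk_surjective (maximalIdeal R) P))
    exact isReduced_of_injective e.toRingHom e.injective
  -- the uniformizer at `P`
  have hht : P.height = 1 := by
    haveI : (Ideal.span {x}).IsPrincipal := ⟨⟨x, rfl⟩⟩
    refine le_antisymm (Ideal.height_le_one_of_isPrincipal_of_mem_minimalPrimes _ P (hemb P hPass)) ?_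
    refine Order.one_le_iff_pos.2 (pos_iff_ne_zero.2 fun h => hx ?_)
    have hb : P = ⊥ := Ideal.height_eq_zero_iff_eq_bot.1 h
    have : x ∈ P := hxq
    rwa [hb] at this
  haveI := hregP
  let A := Localization.AtPrime P
  haveI : IsDiscreteValuationRing A := by
    have hd : ringKrullDim A = 1 := by
      rw [IsLocalization.AtPrime.ringKrullDim_eq_height P A, hht]
      rfl
    exact ((Depth.exists_isDVR_iff (R := A)).2 ⟨hregP, hd⟩).choose_spec
  obtain ⟨π₀, hπ₀⟩ := IsDiscreteValuationRing.exists_irreducible A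
  obtain ⟨⟨π, s⟩, hs⟩ := IsLocalization.surj P.primeCompl π₀
  have hgen : maximalIdeal A = Ideal.span {algebraMap R A π} := by
    rw [hπ₀.maximalIdeal_eq, ← hs]
    exact (Ideal.span_singleton_mul_right_unit (IsLocalization.map_units A s) π₀).symm
  have hπP : π ∈ P := (IsLocalization.AtPrime.to_map_mem_maximal_iff A P π).1
    (hgen ▸ Ideal.mem_span_singleton_self _)
  have hπ0 : π ≠ 0 := fun h => by
    rw [h, map_zero, Ideal.span_singleton_zero] at hgen
    exact IsDiscreteValuationRing.not_a_field A hgen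
  let B := Localization.AtPrime q
  let ψ : A →+* B := Localization.localRingHom P q φ rfl
  have hψ : ∀ r, ψ (algebraMap R A r) = algebraMap Rh B (φ r) := Localization.localRingHom_to_map P q φ rfl
  let πB := algebraMap Rh B (φ π)
  have hπreg : IsSMulRegular B πB := by
    have := IsSMulRegular.of_flat (S := B) (hreg' π hπ0)
    exact fun u v h => this (by simpa [Algebra.smul_def, smul_eq_mul] using h)
  have hπm : πB ∈ maximalIdeal B := (IsLocalization.AtPrime.to_map_mem_maximal_iff B q _).2 hπP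
  have hspan : Ideal.span {πB} = (P.map φ).map (algebraMap Rh B) := by
    have : (P.map φ).map (algebraMap Rh B) = (maximalIdeal A).map ψ := by
      rw [← IsLocalization.AtPrime.map_eq_maximalIdeal P A, Ideal.map_map, Ideal.map_map]
      congr 1
      exact RingHom.ext fun r => (hψ r).symm
    rw [this, hgen, Ideal.map_span, Set.image_singleton, hψ]
  have hradB : (Ideal.span {πB}).IsRadical := by
    rw [hspan]
    intro y hy
    obtain ⟨n, hn⟩ := hy
    obtain ⟨⟨b, t⟩, hb⟩ := IsLocalization.surj q.primeCompl y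
    have h1 : algebraMap Rh B (b ^ n) ∈ (P.map φ).map (algebraMap Rh B) := by
      rw [map_pow, ← hb, mul_pow]
      exact Ideal.mul_mem_right _ _ hn
    obtain ⟨t', ht', h2⟩ := (IsLocalization.algebraMap_mem_map_algebraMap_iff q.primeCompl B _ _).1 h1
    have h3 : t' * b ∈ P.map φ := by
      refine hrad ⟨n + 1, ?_⟩
      rw [show (t' * b) ^ (n + 1) = t' ^ n * (t' * b ^ n) * b by ring]
      exact Ideal.mul_mem_right b _ (Ideal.mul_mem_left _ (t' ^ n) h2)
    rw [← Ideal.mul_unit_mem_iff_mem _ (IsLocalization.map_units B t), hb]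
    exact (IsLocalization.algebraMap_mem_map_algebraMap_iff q.primeCompl B _ _).2 ⟨t', ht', h3⟩
  have hx0 : algebraMap R A x ≠ 0 := fun h => hx
    (IsLocalization.injective A P.primeCompl_le_nonZeroDivisors (by rw [h, map_zero]))
  obtain ⟨m, u, hu⟩ := IsDiscreteValuationRing.eq_unit_mul_pow_irreducible hx0 hπ₀
  have hxB : Ideal.span {algebraMap Rh B (φ x)} = Ideal.span {πB ^ m} := by
    rw [← hψ, hu, map_mul, map_pow,
      Ideal.span_singleton_mul_left_unit (u.isUnit.map ψ)]
    show _ = Ideal.span {(algebraMap Rh B (φ π)) ^ m}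
    rw [← hψ, ← hs, map_mul, mul_pow,
      Ideal.span_singleton_mul_right_unit (((IsLocalization.map_units A s).map ψ).pow m)]
  have hspanx : (Ideal.span {φ x}).map (algebraMap Rh B) = Ideal.span {πB ^ m} := by
    rw [Ideal.map_span, Set.image_singleton, hxB]
  have hz : algebraMap Rh B a ∉ Ideal.span {πB ^ m} := fun h => by
    rw [← hspanx, IsLocalization.algebraMap_mem_map_algebraMap_iff q.primeCompl] at h
    obtain ⟨t, ht, h⟩ := h
    exact ht ((ha t).2 h)
  have hann : ∀ b ∈ maximalIdeal B, b * algebraMap Rh B a ∈ Ideal.span {πB ^ m} := fun b hb => by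
    obtain ⟨⟨b', t⟩, hb'⟩ := IsLocalization.surj q.primeCompl b
    have : b' ∈ q := (IsLocalization.AtPrime.to_map_mem_maximal_iff B q b').1
      (hb' ▸ Ideal.mul_mem_right _ _ hb)
    rw [← Ideal.mul_unit_mem_iff_mem _ (IsLocalization.map_units B t), mul_right_comm, hb', ← map_mul,
      ← hspanx]
    exact Ideal.mem_map_of_mem _ ((ha b').1 this)
  haveI := isReduced_local πB hπreg hπm hradB m _ hz hann
  obtain ⟨t, ht⟩ := (IsLocalization.map_eq_zero_iff q.primeCompl B w).1
    (IsReduced.eq_zero _ (hwnil.map (algebraMap Rh B)))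
  refine t.2 (hle (Submodule.mem_colon_singleton.2 ?_))
  rw [Submodule.mem_bot, Algebra.smul_def, Ideal.Quotient.algebraMap_eq, ← map_mul, ht, map_zero]

end Groth.Agent.S2093
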