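import Mathlib
import Mathlib
import Groth.Statements.S2094

set_option autoImplicit false
set_option backward.isDefEq.respectTransparency false
universe u
open CAlg

namespace Groth.Agent.S2094

/-- The symmetric algebra of an `A`-module is a smooth `A`-algebra exactly when the module is finite
projective. -/
theorem result {A M : Type u} [CommRing A] [AddCommGroup M] [Module A M] :
    Algebra.Smooth A (SymmetricAlgebra A M) ↔ Module.Finite A M ∧ Module.Projective A M := by
  let ι := SymmetricAlgebra.ι A M
  constructor
  · intro hsm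
    letI : Module Aᵐᵒᵖ M := Module.compHom M ((RingHom.id A).fromOpposite fun x y => mul_comm x y)
    haveI : IsCentralScalar A M := ⟨fun a m => show (MulOpposite.unop (MulOpposite.op a)) • m = a • m from rfl⟩
    let φ : SymmetricAlgebra A M →ₐ[A] TrivSqZeroExt A M := SymmetricAlgebra.lift (TrivSqZeroExt.inrHom A M)
    have hφι : ∀ m, φ (ι m) = TrivSqZeroExt.inr m := fun m => SymmetricAlgebra.lift_ι_apply _ _
    constructor
    · obtain ⟨s, hs⟩ := (inferInstance : Algebra.FiniteType A (SymmetricAlgebra A M)).out
      classical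
      refine ⟨⟨s.image fun x => (φ x).snd, eq_top_iff.2 fun m _ => ?_⟩⟩
      let V : Submodule A M := Submodule.span A ↑(s.image fun x => (φ x).snd)
      have hall : ∀ z ∈ Algebra.adjoin A (s : Set (SymmetricAlgebra A M)), (φ z).snd ∈ V := fun z hz => by
        induction hz using Algebra.adjoin_induction with
        | mem x hx => exact Submodule.subset_span (Finset.mem_coe.2 (Finset.mem_image_of_mem _ hx))
        | algebraMap r => rw [AlgHom.commutes, TrivSqZeroExt.algebraMap_eq_inl, TrivSqZeroExt.snd_inl]; exact zero_mem _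
        | add x y _ _ hx hy => rw [map_add, TrivSqZeroExt.snd_add]; exact add_mem hx hy
        | mul x y _ _ hx hy =>
          rw [map_mul, TrivSqZeroExt.snd_mul, op_smul_eq_smul]
          exact add_mem (V.smul_mem _ hy) (V.smul_mem _ hx)
      have h := hall (ι m) (hs ▸ trivial)
      rwa [hφι, TrivSqZeroExt.snd_inr] at h
    · refine Module.Projective.of_lifting_property'' (R := A) ?_
      intro g hg
      haveI : IsCentralScalar A (M →₀ A) := ⟨fun a m => Finsupp.ext fun x => op_smul_eq_smul a (m x)⟩
      let P : TrivSqZeroExt A (M →₀ A) →ₐ[A] TrivSqZeroExt A M := TrivSqZeroExt.map g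
      have hP : Function.Surjective P := fun z => by
        obtain ⟨w, hw⟩ := hg z.snd
        exact ⟨TrivSqZeroExt.inl z.fst + TrivSqZeroExt.inr w, by
          ext <;> simp [P, hw]⟩
      have hnil : IsNilpotent (RingHom.ker (P : TrivSqZeroExt A (M →₀ A) →+* TrivSqZeroExt A M)) := by
        have hle : RingHom.ker (P : TrivSqZeroExt A (M →₀ A) →+* TrivSqZeroExt A M) ≤
            RingHom.ker (TrivSqZeroExt.fstHom A A (M →₀ A)) := fun z hz => by
          have := congrArg TrivSqZeroExt.fst (show P z = 0 from hz)
          simpa [P] using this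
        refine ⟨2, le_bot_iff.1 ?_⟩
        rw [pow_two, Ideal.mul_le]
        intro x hx y hy
        rw [Ideal.mem_bot]
        have hx' : x.fst = 0 := hle hx
        have hy' : y.fst = 0 := hle hy
        ext <;> simp [hx', hy']
      let ψ := Algebra.FormallySmooth.liftOfSurjective φ P hP hnil
      refine ⟨(TrivSqZeroExt.sndHom A (M →₀ A)) ∘ₗ ψ.toLinearMap ∘ₗ ι, LinearMap.ext fun m => ?_⟩
      have h := congrArg TrivSqZeroExt.snd (Algebra.FormallySmooth.liftOfSurjective_apply φ P hP hnil (ι m))
      rw [hφι, TrivSqZeroExt.snd_inr] at h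
      exact (TrivSqZeroExt.snd_map g _).symm.trans h
  · rintro ⟨hfin, hproj⟩
    have hfs : Algebra.FormallySmooth A (SymmetricAlgebra A M) := by
      rw [Algebra.FormallySmooth.iff_comp_surjective]
      intro B _ _ I _ g
      obtain ⟨l, hl⟩ := Module.projective_lifting_property (Ideal.Quotient.mkₐ A I).toLinearMap
        (g.toLinearMap ∘ₗ ι) Ideal.Quotient.mk_surjective
      refine ⟨SymmetricAlgebra.lift l, SymmetricAlgebra.algHom_ext (LinearMap.ext fun m => ?_)⟩
      show Ideal.Quotient.mkₐ A I (SymmetricAlgebra.lift l (ι m)) = g (ι m)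
      rw [SymmetricAlgebra.lift_ι_apply]
      exact LinearMap.congr_fun hl m
    obtain ⟨n, f, hf⟩ := Module.Finite.exists_fin' A M
    obtain ⟨s, hs⟩ := Module.projective_lifting_property f LinearMap.id hf
    have hfs' : ∀ m, f (s m) = m := fun m => LinearMap.congr_fun hs m
    let F : MvPolynomial (Fin n) A →ₐ[A] SymmetricAlgebra A M := MvPolynomial.aeval fun i => ι (f (Pi.single i 1))
    let ℓ : (Fin n → A) →ₗ[A] MvPolynomial (Fin n) A := Fintype.linearCombination A fun i => MvPolynomial.X i
    let G : SymmetricAlgebra A M →ₐ[A] MvPolynomial (Fin n) A := SymmetricAlgebra.lift (ℓ ∘ₗ s)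
    have hFℓ : ∀ v, F (ℓ v) = ι (f v) := fun v => by
      conv_rhs => rw [pi_eq_sum_univ' v]
      simp [F, ℓ, Fintype.linearCombination_apply, map_sum]
    have hFG : F.comp G = AlgHom.id A _ := SymmetricAlgebra.algHom_ext (LinearMap.ext fun m => by
      show F (G (ι m)) = ι m
      rw [SymmetricAlgebra.lift_ι_apply, LinearMap.comp_apply, hFℓ, hfs'])
    have hFG' : ∀ z, F (G z) = z := fun z => AlgHom.congr_fun hFG z
    haveI := hfs
    refine ⟨inferInstance, Algebra.FinitePresentation.of_surjective (fun z => ⟨G z, hFG' z⟩ : Function.Surjective F) ?_⟩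
    classical
    refine ⟨Finset.univ.image fun i => MvPolynomial.X i - G (F (MvPolynomial.X i)), le_antisymm ?_ ?_⟩
    · rw [Ideal.span_le, Finset.coe_image]
      rintro _ ⟨i, -, rfl⟩
      rw [SetLike.mem_coe, RingHom.mem_ker, map_sub]
      exact sub_eq_zero.2 (hFG' _).symm
    · intro p hp
      have key : ∀ p : MvPolynomial (Fin n) A, p - G (F p) ∈ Ideal.span
          (↑(Finset.univ.image fun i => MvPolynomial.X i - G (F (MvPolynomial.X i))) : Set (MvPolynomial (Fin n) A)) := by
        intro p
        induction p using MvPolynomial.induction_on with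
        | C a =>
          rw [← MvPolynomial.algebraMap_eq, AlgHom.commutes, AlgHom.commutes, sub_self]
          exact zero_mem _
        | add p q hp hq =>
          rw [map_add, map_add, show p + q - (G (F p) + G (F q)) = (p - G (F p)) + (q - G (F q)) by ring]
          exact add_mem hp hq
        | mul_X p i hp =>
          rw [map_mul, map_mul, show p * MvPolynomial.X i - G (F p) * G (F (MvPolynomial.X i)) =
            (p - G (F p)) * MvPolynomial.X i + G (F p) * (MvPolynomial.X i - G (F (MvPolynomial.X i))) by ring]
          exact add_mem (Ideal.mul_mem_right _ _ hp)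
            (Ideal.mul_mem_left _ _ (Ideal.subset_span (Finset.mem_coe.2 (Finset.mem_image_of_mem _ (Finset.mem_univ i)))))
      have h := key p
      have hp' : F p = 0 := hp
      rwa [hp', map_zero, sub_zero] at h

end Groth.Agent.S2094
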