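import Mathlib
import Mathlib
import Groth.Statements.S2095

set_option autoImplicit false
universe u
open CAlg

namespace Groth.Agent.S2095

open TensorProduct in
/-- Let `R → S` be a ring map, `𝔫 ⊆ S` an ideal and `R → R'` a ring map admitting an `R`-linear
retraction. If `R' → R' ⊗ S` is formally smooth for the adic topology of the extension of `𝔫`, then
`R → S` is formally smooth for the `𝔫`-adic topology. -/
theorem result {R S R' : Type u} [CommRing R] [CommRing S] [Algebra R S]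
    (𝔫 : Ideal S) [CommRing R'] [Algebra R R'] (ρ : R' →ₗ[R] R) (hρ : ∀ r : R, ρ (algebraMap R R' r) = r)
    (h : CAlgX.IsAdicFormallySmooth R' (R' ⊗[R] S)
      (𝔫.map (Algebra.TensorProduct.includeRight : S →ₐ[R] R' ⊗[R] S))) :
    CAlgX.IsAdicFormallySmooth R S 𝔫 := by
  intro A _ _ J hJ ψ hψ
  obtain ⟨k, hk⟩ := hψ
  let A' := R' ⊗[R] A
  let J' : Ideal A' := J.map (Algebra.TensorProduct.includeRight : A →ₐ[R] A')
  have hJ' : J' ^ 2 = ⊥ := by rw [← Ideal.map_pow, hJ, Ideal.map_bot]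
  -- the base change of `ψ`
  let ψ' : R' ⊗[R] S →ₐ[R'] A' ⧸ J' :=
    Algebra.TensorProduct.lift (Algebra.ofId R' _)
      ((Ideal.quotientMapₐ J' (Algebra.TensorProduct.includeRight : A →ₐ[R] A')
        Ideal.le_comap_map).comp ψ) (fun _ _ => .all _ _)
  have hψ' : ∀ x ∈ (𝔫.map (Algebra.TensorProduct.includeRight : S →ₐ[R] R' ⊗[R] S)) ^ k,
      ψ' x = 0 := by
    intro x hx
    rw [← Ideal.map_pow] at hx
    refine RingHom.mem_ker.mp ((?_ : _ ≤ RingHom.ker ψ'.toRingHom) hx)
    rw [Ideal.map_le_iff_le_comap]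
    intro y hy
    simp [ψ', Ideal.mem_comap, RingHom.mem_ker, hk y hy]
  obtain ⟨χ', hχ'⟩ := h A' J' hJ' ψ' ⟨k, hψ'⟩
  -- a presentation
  let P := MvPolynomial S R
  let π : P →ₐ[R] S := MvPolynomial.aeval id
  choose a ha using fun s : S => Ideal.Quotient.mk_surjective (ψ s)
  let φ : P →ₐ[R] A := MvPolynomial.aeval a
  have hφ : (Ideal.Quotient.mkₐ R J).comp φ = ψ.comp π := by
    refine MvPolynomial.algHom_ext fun s => ?_
    simp [φ, π, ha]
  have hφ' : ∀ p, Ideal.Quotient.mk J (φ p) = ψ (π p) := fun p => DFunLike.congr_fun hφ p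
  let ι : A →ₐ[R] A' := Algebra.TensorProduct.includeRight
  let g : P →ₐ[R] A' := (χ'.restrictScalars R).comp (Algebra.TensorProduct.includeRight.comp π)
  have hgJ : ∀ p, g p - ι (φ p) ∈ J' := by
    intro p
    rw [← Ideal.Quotient.eq]
    have h1 : Ideal.Quotient.mk J' (g p) = ψ' (1 ⊗ₜ π p) := DFunLike.congr_fun hχ' (1 ⊗ₜ π p)
    rw [h1]
    simp [ψ', ι, ← hφ']
  -- the retraction
  let ε : A' →ₗ[R] A := (TensorProduct.lid R A).toLinearMap ∘ₗ ρ.rTensor A
  have hει : ∀ a, ε (ι a) = a := by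
    intro a
    change TensorProduct.lid R A (ρ.rTensor A ((1 : R') ⊗ₜ[R] a)) = a
    simp [show ρ 1 = 1 by simpa using hρ 1]
  have hεA : ∀ (a : A) (z : A'), ε (ι a * z) = a * ε z := by
    intro a z
    induction z using TensorProduct.induction_on with
    | zero => simp
    | add x y hx hy => rw [mul_add, map_add, map_add, mul_add, hx, hy]
    | tmul r b =>
      change TensorProduct.lid R A (ρ.rTensor A (((1 : R') ⊗ₜ[R] a) * (r ⊗ₜ[R] b))) =
        a * TensorProduct.lid R A (ρ.rTensor A (r ⊗ₜ[R] b))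
      simp [Algebra.TensorProduct.tmul_mul_tmul]
  have hεJ : ∀ z ∈ J', ε z ∈ J := by
    intro z hz
    have hz' := hz
    rw [show J' = Ideal.map Algebra.TensorProduct.includeRight J from rfl] at hz'
    refine Submodule.span_induction (p := fun z _ => ∀ w : A', ε (w * z) ∈ J) ?_ ?_ ?_ ?_ hz' 1
      |> (one_mul z ▸ ·)
    · rintro _ ⟨j, hj, rfl⟩ w
      rw [mul_comm, hεA]
      exact J.mul_mem_right _ hj
    · intro w; simp
    · intro x y _ _ hx hy w
      rw [mul_add, map_add]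
      exact add_mem (hx w) (hy w)
    · intro r x _ hx w
      rw [smul_eq_mul, ← mul_assoc]
      exact hx _
  let D : P →ₗ[R] A := ε ∘ₗ (g.toLinearMap - (ι.comp φ).toLinearMap)
  have hDJ : ∀ p, D p ∈ J := fun p => hεJ _ (hgJ p)
  have hJ2 : ∀ x ∈ J, ∀ y ∈ J, x * y = 0 := fun x hx y hy => by
    have := Ideal.mul_mem_mul hx hy
    rwa [← pow_two, hJ, Ideal.mem_bot] at this
  let φ₁ : P →ₐ[R] A := AlgHom.ofLinearMap (φ.toLinearMap + D)
    (by change φ 1 + ε (g 1 - ι (φ 1)) = 1
        rw [map_one, map_one, map_one, sub_self, map_zero, add_zero]) (fun p q => by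
      have h2 : (g p - ι (φ p)) * (g q - ι (φ q)) = 0 := by
        have := Ideal.mul_mem_mul (hgJ p) (hgJ q)
        rwa [← pow_two, hJ', Ideal.mem_bot] at this
      have h3 : g (p * q) - ι (φ (p * q)) =
          ι (φ p) * (g q - ι (φ q)) + ι (φ q) * (g p - ι (φ p)) := by
        rw [map_mul, map_mul, map_mul]
        linear_combination h2
      have hD : D (p * q) = φ p * D q + φ q * D p := by
        change ε (g (p * q) - ι (φ (p * q))) = _
        rw [h3, map_add, hεA, hεA]
        rfl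
      simp only [LinearMap.add_apply, AlgHom.toLinearMap_apply, map_mul, hD]
      linear_combination (-1 : A) * hJ2 _ (hDJ p) _ (hDJ q))
  have hker : RingHom.ker π ≤ RingHom.ker φ₁ := by
    intro p hp
    rw [RingHom.mem_ker] at hp ⊢
    have hg : g p = 0 := by simp [g, hp]
    change φ p + ε (g p - ι (φ p)) = 0
    rw [hg, zero_sub, map_neg, hει, add_neg_cancel]
  have hπ : Function.Surjective π := fun s => ⟨MvPolynomial.X s, MvPolynomial.aeval_X id s⟩
  refine ⟨AlgHom.liftOfSurjective π hπ φ₁ hker, AlgHom.ext fun s => ?_⟩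
  obtain ⟨p, rfl⟩ := hπ s
  rw [AlgHom.comp_apply, AlgHom.liftOfSurjective_apply, ← hφ', Ideal.Quotient.mkₐ_eq_mk,
    Ideal.Quotient.eq]
  change φ p + D p - φ p ∈ J
  rw [add_sub_cancel_left]
  exact hDJ p

end Groth.Agent.S2095
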