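import Groth.Statements.S2096
import Groth.Agent.S0736
import Groth.Agent.S1974
import Groth.Agent.WLocalLib.Reduced
import Groth.Agent.WLocalLib.Olivier
-- import your own Groth.Agent.* helpers here

set_option autoImplicit false
universe u
open CAlg

namespace Groth.Agent.S2096

open scoped TensorProduct

/-- Let `B` be a Noetherian ind-étale `A`-algebra (a filtered colimit of étale algebras) and `𝔭` a prime
of `A`. Then only finitely many primes of `B` lie over `𝔭`, the fibre ring `B ⊗ κ(𝔭)` is reduced of
dimension zero, and each residue field extension `κ(𝔮)/κ(𝔭)` is separable algebraic. -/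
theorem result {A B : Type u} [CommRing A] [CommRing B] [Algebra A B] (hB : EtPBC.IsIndEtale A B)
    [IsNoetherianRing B] (p : Ideal A) [p.IsPrime] :
    {q : PrimeSpectrum B | q.asIdeal.LiesOver p}.Finite ∧ IsReduced (p.Fiber B) ∧ ringKrullDim (p.Fiber B) ≤ 0 ∧
      ∀ (q : Ideal B) [q.IsPrime] [q.LiesOver p],
        @Algebra.IsSeparable p.ResidueField q.ResidueField _ _
          (Ideal.ResidueField.mapₐ p q (Algebra.ofId A B) (q.over_def p)).toRingHom.toAlgebra := by
  haveI : Algebra.WeaklyEtale A B := S0736.result A B hB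
  haveI : Algebra.EssFiniteType B (B ⊗[A] p.ResidueField) := inferInstance
  haveI : IsNoetherianRing (B ⊗[A] p.ResidueField) := Algebra.EssFiniteType.isNoetherianRing B _
  haveI : IsNoetherianRing (p.Fiber B) :=
    isNoetherianRing_of_ringEquiv _ (Algebra.TensorProduct.comm A B p.ResidueField).toRingEquiv
  haveI : Algebra.WeaklyEtale p.ResidueField (p.Fiber B) := inferInstance
  haveI : IsReduced (p.Fiber B) := WLocalLib.isReduced_of_weaklyEtale p.ResidueField (p.Fiber B)
  have hmax : ∀ Q : Ideal (p.Fiber B), Q.IsPrime → Q.IsMaximal := fun Q _ => by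
    obtain ⟨M, hM, hQM⟩ := Ideal.exists_le_maximal Q Ideal.IsPrime.ne_top'
    let L := Localization.AtPrime M
    haveI : Algebra.WeaklyEtale (p.Fiber B) L := WLocalLib.weaklyEtale_of_isLocalization M.primeCompl
    haveI : Algebra.WeaklyEtale p.ResidueField L := Algebra.WeaklyEtale.trans p.ResidueField (p.Fiber B) L
    have hL : IsField L := WLocalLib.isField_of_weaklyEtale_field (k := p.ResidueField) (C := L)
    have hdisj : Disjoint (M.primeCompl : Set (p.Fiber B)) (Q : Set (p.Fiber B)) :=
      Set.disjoint_left.2 fun x hx hxQ => hx (hQM hxQ)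
    haveI hprime : (Q.map (algebraMap (p.Fiber B) L)).IsPrime :=
      IsLocalization.isPrime_of_isPrime_disjoint M.primeCompl L Q inferInstance hdisj
    letI := hL.toField
    have hb := (Ideal.eq_bot_or_top (Q.map (algebraMap (p.Fiber B) L))).resolve_right hprime.ne_top
    have h1 := IsLocalization.comap_map_of_isPrime_disjoint M.primeCompl L inferInstance hdisj
    have h2 := IsLocalization.AtPrime.comap_maximalIdeal L M
    rw [IsLocalRing.maximalIdeal_eq_bot, ← hb, h1] at h2
    exact h2 ▸ hM
  haveI : Ring.KrullDimLE 0 (p.Fiber B) := Ring.KrullDimLE.mk₀ hmax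
  refine ⟨?_, inferInstance, ?_, fun q _ _ => ?_⟩
  · haveI : IsArtinianRing (p.Fiber B) := IsNoetherianRing.isArtinianRing_of_krullDimLE_zero
    have h : Finite {q : PrimeSpectrum B | PrimeSpectrum.comap (algebraMap A B) q = ⟨p, inferInstance⟩} :=
      Finite.of_equiv (PrimeSpectrum (p.Fiber B)) (PrimeSpectrum.preimageEquivFiber A B ⟨p, inferInstance⟩).symm
    refine (Set.finite_coe_iff.1 h).subset fun q hq => ?_
    exact PrimeSpectrum.ext hq.over.symm
  · exact (Order.krullDimLE_iff 0 _).1 (inferInstance : Ring.KrullDimLE 0 (p.Fiber B))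
  · letI := Localization.AtPrime.algebraOfLiesOver p q
    have h := S1974.result A B p q
    convert h using 1
    refine Algebra.algebra_ext _ _ fun r => ?_
    obtain ⟨a, s, -, rfl⟩ := IsFractionRing.div_surjective (A ⧸ p) r
    obtain ⟨a, rfl⟩ := Ideal.Quotient.mk_surjective a
    obtain ⟨s, rfl⟩ := Ideal.Quotient.mk_surjective s
    show (Ideal.ResidueField.mapₐ p q (Algebra.ofId A B) (q.over_def p)) (_ / _) = algebraMap p.ResidueField q.ResidueField (_ / _)
    rw [map_div₀, map_div₀]
    congr 1 <;>
      exact ((Ideal.ResidueField.mapₐ p q (Algebra.ofId A B) (q.over_def p)).commutes _).trans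
        (IsScalarTower.algebraMap_apply A p.ResidueField q.ResidueField _)

end Groth.Agent.S2096
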