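import Groth.Statements.S2097
import Mathlib

set_option autoImplicit false
universe u
open CAlg

namespace Groth.Agent.S2097

/-- Let `R → S` be smooth, `A` an `R`-algebra and `I ⊆ A` an ideal all of whose elements are nilpotent.
Every `R`-algebra map `S → A/I` lifts to an `R`-algebra map `S → A`. -/
theorem result {R S A : Type u} [CommRing R] [CommRing S] [Algebra R S] [Algebra.Smooth R S]
    [CommRing A] [Algebra R A] (I : Ideal A) (hI : ∀ x ∈ I, IsNilpotent x) (g : S →ₐ[R] A ⧸ I) :
    ∃ f : S →ₐ[R] A, (Ideal.Quotient.mkₐ R I).comp f = g := by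
  classical
  obtain ⟨n, π, hπ, hfg⟩ := Algebra.FinitePresentation.out (R := R) (A := S)
  obtain ⟨s, hs⟩ := hfg
  choose u hu using fun i => Ideal.Quotient.mk_surjective (g (π (MvPolynomial.X i)))
  let ev : MvPolynomial (Fin n) R →ₐ[R] A := MvPolynomial.aeval u
  have hev : (Ideal.Quotient.mkₐ R I).comp ev = g.comp π := by
    ext i; simpa [ev] using hu i
  let J : Ideal A := Ideal.span (ev '' (s : Set (MvPolynomial (Fin n) R)))
  have hJI : J ≤ I := by
    refine Ideal.span_le.mpr ?_
    rintro _ ⟨r, hr, rfl⟩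
    have h0 : π r = 0 := by
      have : r ∈ RingHom.ker π.toRingHom := hs ▸ Submodule.subset_span hr
      exact this
    refine Ideal.Quotient.eq_zero_iff_mem.mp ?_
    exact (AlgHom.congr_fun hev r).trans (by simp [h0])
  have hJnil : IsNilpotent J := by
    have hfgJ : J.FG := ⟨s.image ev, by simp [J]⟩
    exact hfgJ.isNilpotent_iff_le_nilradical.mpr fun x hx => hI x (hJI hx)
  let φ : S →ₐ[R] A ⧸ J := AlgHom.liftOfSurjective π hπ ((Ideal.Quotient.mkₐ R J).comp ev) (by
    intro r hr
    have hr' : r ∈ RingHom.ker π.toRingHom := hr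
    rw [← hs] at hr'
    rw [RingHom.mem_ker]
    show Ideal.Quotient.mk J (ev r) = 0
    rw [Ideal.Quotient.eq_zero_iff_mem]
    clear hr
    induction hr' using Submodule.span_induction with
    | mem x hx => exact Ideal.subset_span ⟨x, hx, rfl⟩
    | zero => simp
    | add x y _ _ hx hy => rw [map_add]; exact add_mem hx hy
    | smul c x _ hx => rw [smul_eq_mul, map_mul]; exact Ideal.mul_mem_left _ _ hx)
  refine ⟨Algebra.FormallySmooth.lift J hJnil φ, AlgHom.ext fun x => ?_⟩
  obtain ⟨r, rfl⟩ := hπ x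
  have h1 := AlgHom.congr_fun (Algebra.FormallySmooth.comp_lift J hJnil φ) (π r)
  have h2 : φ (π r) = Ideal.Quotient.mk J (ev r) := by simp [φ]
  simp only [AlgHom.comp_apply, Ideal.Quotient.mkₐ_eq_mk, h2] at h1
  show Ideal.Quotient.mk I _ = g (π r)
  rw [← AlgHom.comp_apply g π, ← hev]
  exact Ideal.Quotient.eq.mpr (hJI (Ideal.Quotient.eq.mp h1))

end Groth.Agent.S2097
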