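import Mathlib
import Groth.Statements.S2098

set_option autoImplicit false
universe u
open CAlg

namespace Groth.Agent.S2098

variable {R : Type u} [CommRing R] [IsNoetherianRing R]

theorem finite_hom (K N : Type u) [AddCommGroup K] [Module R K] [Module.Finite R K] [AddCommGroup N] [Module R N]
    [Module.Finite R N] : Module.Finite R (K →ₗ[R] N) := by
  obtain ⟨m, π, hπ⟩ := Module.Finite.exists_fin' R K
  exact Module.Finite.of_injective (LinearMap.lcomp R N π) fun a b h =>
    LinearMap.ext fun x => by obtain ⟨z, rfl⟩ := hπ x; exact LinearMap.congr_fun h z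

/-- Artin–Rees for `Hom`. -/
theorem hom_le (I : Ideal R) (K N : Type u) [AddCommGroup K] [Module R K] [Module.Finite R K] [AddCommGroup N]
    [Module R N] [Module.Finite R N] : ∃ c : ℕ, ∀ n, c ≤ n → ∀ h : K →ₗ[R] N,
      (∀ x, h x ∈ I ^ n • (⊤ : Submodule R N)) → h ∈ I ^ (n - c) • (⊤ : Submodule R (K →ₗ[R] N)) := by
  classical
  obtain ⟨m, π, hπ⟩ := Module.Finite.exists_fin' R K
  let ev : (K →ₗ[R] N) →ₗ[R] (Fin m → N) :=
    LinearMap.pi fun i => LinearMap.applyₗ (π (Pi.single i 1))
  have hev : Function.Injective ev := by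
    intro a b h
    have : a ∘ₗ π = b ∘ₗ π := by
      refine LinearMap.pi_ext' fun i => LinearMap.ext_ring ?_
      simpa [ev] using congrFun h i
    exact LinearMap.ext fun x => by obtain ⟨z, rfl⟩ := hπ x; exact LinearMap.congr_fun this z
  obtain ⟨c, hc⟩ := I.exists_pow_inf_eq_pow_smul (LinearMap.range ev)
  refine ⟨c, fun n hn h hh => ?_⟩
  have h1 : ev h ∈ I ^ n • (⊤ : Submodule R (Fin m → N)) := by
    rw [← Finset.univ_sum_single (ev h)]
    refine Submodule.sum_mem _ fun i _ => ?_
    have h2 : LinearMap.single R (fun _ : Fin m => N) i (ev h i) ∈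
        (I ^ n • (⊤ : Submodule R N)).map (LinearMap.single R (fun _ : Fin m => N) i) :=
      Submodule.mem_map_of_mem (hh _)
    rw [Submodule.map_smul''] at h2
    exact Submodule.smul_mono le_rfl le_top h2
  have h2 : ev h ∈ I ^ n • (⊤ : Submodule R (Fin m → N)) ⊓ LinearMap.range ev := ⟨h1, h, rfl⟩
  rw [hc n hn] at h2
  have h3 : ev h ∈ (I ^ (n - c) • (⊤ : Submodule R (K →ₗ[R] N))).map ev := by
    rw [Submodule.map_smul'', Submodule.map_top]
    exact Submodule.smul_mono le_rfl inf_le_right h2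
  obtain ⟨h', hh', e⟩ := h3
  exact hev e ▸ hh'

omit [IsNoetherianRing R] in
theorem apply_mem (J : Ideal R) {K N : Type u} [AddCommGroup K] [Module R K] [AddCommGroup N] [Module R N]
    {h : K →ₗ[R] N} (hh : h ∈ J • (⊤ : Submodule R (K →ₗ[R] N))) (x : K) : h x ∈ J • (⊤ : Submodule R N) := by
  have h2 : LinearMap.applyₗ (R := R) (M₂ := N) x h ∈
      (J • (⊤ : Submodule R (K →ₗ[R] N))).map (LinearMap.applyₗ x) := Submodule.mem_map_of_mem hh
  rw [Submodule.map_smul''] at h2
  exact Submodule.smul_mono le_rfl le_top h2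

/-- Let `R` be Noetherian, `I` an ideal inside the Jacobson radical and `u : N → M` a map of finite
`R`-modules. If for arbitrarily large `n` the induced map `N/IⁿN → M/IⁿM` has a left inverse, then
`u` has a left inverse. -/
theorem result {R M N : Type u} [CommRing R] [IsNoetherianRing R] (I : Ideal R)
    (hI : I ≤ (⊥ : Ideal R).jacobson) [AddCommGroup M] [Module R M] [Module.Finite R M] [AddCommGroup N] [Module R N]
    [Module.Finite R N] (u : N →ₗ[R] M)
    (h : ∀ n₀ : ℕ, ∃ n, n₀ ≤ n ∧ ∃ s : (M ⧸ (I ^ n) • (⊤ : Submodule R M)) →ₗ[R] (N ⧸ (I ^ n) • (⊤ : Submodule R N)),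
      ∀ x : N, s (Submodule.Quotient.mk (u x)) = Submodule.Quotient.mk x) :
    ∃ s : M →ₗ[R] N, s.comp u = LinearMap.id := by
  classical
  obtain ⟨m, π, hπ⟩ := Module.Finite.exists_fin' R M
  have := finite_hom (R := R) (Fin m → R) N
  have := finite_hom (R := R) (LinearMap.ker π) N
  have := finite_hom (R := R) M N
  have := finite_hom (R := R) N N
  obtain ⟨c₁, hc₁⟩ := hom_le I (LinearMap.ker π) N
  let res := LinearMap.lcomp R N (LinearMap.ker π).subtype
  obtain ⟨c₂, hc₂⟩ := I.exists_pow_inf_eq_pow_smul (LinearMap.range res)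
  obtain ⟨c₃, hc₃⟩ := hom_le I N N
  let P := LinearMap.lcomp R N u
  suffices (LinearMap.range P).mkQ LinearMap.id = 0 by
    obtain ⟨s, hs⟩ := (Submodule.Quotient.mk_eq_zero _).mp this
    exact ⟨s, hs⟩
  rw [← Submodule.mem_bot R, ← Ideal.iInf_pow_smul_eq_bot_of_le_jacobson I hI, Submodule.mem_iInf]
  intro j
  obtain ⟨n, hn, s, hs⟩ := h (j + c₃ + c₂ + c₁)
  obtain ⟨t, ht⟩ := Module.projective_lifting_property (I ^ n • (⊤ : Submodule R N)).mkQ
    (s ∘ₗ (I ^ n • (⊤ : Submodule R M)).mkQ ∘ₗ π) (Submodule.mkQ_surjective _)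
  have hres : res t ∈ I ^ (n - c₁) • (⊤ : Submodule R (LinearMap.ker π →ₗ[R] N)) :=
    hc₁ n (by omega) _ fun x => by
      rw [← Submodule.Quotient.mk_eq_zero]
      have := LinearMap.congr_fun ht x
      simp only [LinearMap.comp_apply, Submodule.mkQ_apply, LinearMap.mem_ker.mp x.2] at this
      simpa [res] using this
  have hres2 : res t ∈ I ^ (n - c₁) • (⊤ : Submodule R (LinearMap.ker π →ₗ[R] N)) ⊓ LinearMap.range res :=
    ⟨hres, t, rfl⟩
  rw [hc₂ (n - c₁) (by omega)] at hres2
  have h3 : res t ∈ (I ^ (n - c₁ - c₂) • (⊤ : Submodule R ((Fin m → R) →ₗ[R] N))).map res := by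
    rw [Submodule.map_smul'', Submodule.map_top]
    exact Submodule.smul_mono le_rfl inf_le_right hres2
  obtain ⟨t', ht', e⟩ := h3
  have hker : LinearMap.ker π ≤ LinearMap.ker (t - t') := fun x hx => by
    have := LinearMap.congr_fun e ⟨x, hx⟩
    simp only [res, LinearMap.lcomp_apply, Submodule.subtype_apply] at this
    simp [this]
  let s' : M →ₗ[R] N :=
    (LinearMap.ker π).liftQ (t - t') hker ∘ₗ (π.quotKerEquivOfSurjective hπ).symm.toLinearMap
  have hs' : ∀ z, s' (π z) = t z - t' z := fun z => by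
    have : (π.quotKerEquivOfSurjective hπ).symm (π z) = Submodule.Quotient.mk z := by
      rw [LinearEquiv.symm_apply_eq]; rfl
    simp [s', this]
  have hdiff : P s' - LinearMap.id ∈ I ^ (n - c₁ - c₂ - c₃) • (⊤ : Submodule R (N →ₗ[R] N)) :=
    hc₃ _ (by omega) _ fun x => by
      obtain ⟨z, hz⟩ := hπ (u x)
      have h5 : t z - x ∈ I ^ n • (⊤ : Submodule R N) := by
        rw [← Submodule.Quotient.eq]
        have := LinearMap.congr_fun ht z
        simp only [LinearMap.comp_apply, Submodule.mkQ_apply, hz] at this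
        exact this.trans (hs x)
      have : (P s' - LinearMap.id : N →ₗ[R] N) x = (t z - x) - t' z := by
        simp only [P, LinearMap.sub_apply, LinearMap.lcomp_apply, LinearMap.id_apply, ← hz, hs']
        abel
      rw [this]
      exact Submodule.sub_mem _
        (Submodule.smul_mono (Ideal.pow_le_pow_right (by omega)) le_rfl h5) (apply_mem _ ht' z)
  have hle : I ^ (n - c₁ - c₂ - c₃) • (⊤ : Submodule R (N →ₗ[R] N)) ≤ I ^ j • ⊤ :=
    Submodule.smul_mono (Ideal.pow_le_pow_right (by omega)) le_rfl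
  have h4 : (LinearMap.range P).mkQ (P s' - LinearMap.id) ∈
      (I ^ j • (⊤ : Submodule R (N →ₗ[R] N))).map (LinearMap.range P).mkQ := Submodule.mem_map_of_mem (hle hdiff)
  rw [Submodule.map_smul'', Submodule.map_top, Submodule.range_mkQ, map_sub] at h4
  have h0 : (LinearMap.range P).mkQ (P s') = 0 := (Submodule.Quotient.mk_eq_zero _).mpr ⟨s', rfl⟩
  rw [h0, zero_sub, Submodule.neg_mem_iff] at h4
  exact h4

end Groth.Agent.S2098
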