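import Mathlib
import Groth.Statements.S2101

set_option autoImplicit false
universe u
open CAlg

namespace Groth.Agent.S2101

variable {R : Type u} [CommRing R] {r : ℕ}

/-- `a` is a non-zero-divisor modulo `I`. -/
def NZ {A : Type u} [CommRing A] (I : Ideal A) (a : A) : Prop := ∀ x, a * x ∈ I → x ∈ I

theorem isRegular_ofFn_iff {A : Type u} [CommRing A] (g : Fin r → A) :
    RingTheory.Sequence.IsRegular A (List.ofFn g) ↔
      (∀ k : Fin r, NZ (Ideal.span (g '' {i | i < k})) (g k)) ∧
        ¬ Ideal.span (Set.range g) = ⊤ := by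
  have hall : Ideal.ofList (List.ofFn g) = Ideal.span (Set.range g) := by
    simp [Ideal.ofList, List.mem_ofFn, Set.range]
  have htake : ∀ k : Fin r, Ideal.ofList ((List.ofFn g).take (k : ℕ)) =
      Ideal.span (g '' {i | i < k}) := by
    intro k
    simp only [Ideal.ofList]
    congr 1
    ext x
    simp only [List.mem_take_iff_getElem, List.length_ofFn, List.getElem_ofFn, Set.mem_setOf_eq,
      Set.mem_image]
    constructor
    · rintro ⟨j, hj, rfl⟩
      exact ⟨⟨j, lt_of_lt_of_le hj (min_le_right _ _)⟩, Fin.lt_def.mpr (lt_of_lt_of_le hj (min_le_left _ _)), rfl⟩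
    · rintro ⟨j, hj, rfl⟩
      exact ⟨j, lt_min (Fin.lt_def.mp hj) j.2, rfl⟩
  rw [RingTheory.Sequence.isRegular_iff, RingTheory.Sequence.isWeaklyRegular_iff]
  simp only [smul_eq_mul, Ideal.mul_top, isSMulRegular_quotient_iff_mem_of_smul_mem,
    List.getElem_ofFn, List.length_ofFn, hall, NZ, ne_eq]
  refine and_congr ⟨fun h k => ?_, fun h k hk => ?_⟩ ⟨fun h e => h e.symm, fun h e => h e.symm⟩
  · simpa [htake k] using h k k.2
  · simpa [htake ⟨k, hk⟩] using h ⟨k, hk⟩

theorem nz_all (f : Fin r → R)
    (h : ∀ (k : Fin r) (S : Finset (Fin r)), (∀ s ∈ S, s < k) → NZ (Ideal.span (f '' S)) (f k))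
    (S : Finset (Fin r)) : ∀ k ∉ S, NZ (Ideal.span (f '' S)) (f k) := by
  induction S using Finset.induction_on_max with
  | empty => exact fun k _ => h k ∅ (by simp)
  | insert M S hM ih =>
    intro k hk
    rcases lt_trichotomy k M with hlt | heq | hgt
    · simp only [Finset.mem_insert, not_or] at hk
      have h1 : NZ (Ideal.span (f '' S)) (f k) := ih k hk.2
      have h2 := h M (insert k S) (by
        intro s hs
        rcases Finset.mem_insert.mp hs with rfl | hs
        exacts [hlt, hM s hs])
      rw [Finset.coe_insert, Set.image_insert_eq, Ideal.span_insert] at h2 ⊢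
      intro x hx
      rw [Submodule.mem_sup] at hx
      obtain ⟨a, ha, b, hb, hab⟩ := hx
      obtain ⟨y, rfl⟩ := Ideal.mem_span_singleton'.mp ha
      have hy : y ∈ Ideal.span {f k} ⊔ Ideal.span (f '' S) := h2 y (by
        have : f M * y = f k * x + -b := by linear_combination hab
        rw [this]
        exact Submodule.add_mem_sup (Ideal.mul_mem_right _ _ (Ideal.mem_span_singleton_self _))
          (neg_mem hb))
      rw [Submodule.mem_sup] at hy
      obtain ⟨c, hc, d, hd, rfl⟩ := hy
      obtain ⟨z, rfl⟩ := Ideal.mem_span_singleton'.mp hc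
      have hz : x - f M * z ∈ Ideal.span (f '' S) := h1 _ (by
        have : f k * (x - f M * z) = b + f M * d := by linear_combination -hab
        rw [this]
        exact add_mem hb (Ideal.mul_mem_left _ _ hd))
      rw [show x = f M * z + (x - f M * z) by ring]
      exact Submodule.add_mem_sup (Ideal.mul_mem_right _ _ (Ideal.mem_span_singleton_self _)) hz
    · exact absurd (heq ▸ Finset.mem_insert_self M S) hk
    · refine h k _ fun s hs => ?_
      rcases Finset.mem_insert.mp hs with rfl | hs
      exacts [hgt, (hM s hs).trans hgt]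

theorem nz_of_perm (f : Fin r → R)
    (h : ∀ σ : Equiv.Perm (Fin r), ∀ k : Fin r,
      NZ (Ideal.span ((f ∘ σ) '' {i | i < k})) ((f ∘ σ) k))
    (S : Finset (Fin r)) (k : Fin r) (hk : k ∉ S) : NZ (Ideal.span (f '' S)) (f k) := by
  classical
  let L := S.toList ++ k :: ((Finset.univ \ insert k S).toList)
  have hnd : L.Nodup := by
    simp only [L, List.nodup_append, List.nodup_cons, Finset.nodup_toList, Finset.mem_toList,
      Finset.mem_sdiff, Finset.mem_univ, Finset.mem_insert, true_and, List.mem_cons]
    grind
  have hmem : ∀ x, x ∈ L := by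
    intro x
    simp only [L, List.mem_append, Finset.mem_toList, List.mem_cons, Finset.mem_sdiff,
      Finset.mem_univ, Finset.mem_insert, true_and]
    tauto
  let e := hnd.getEquivOfForallMemList L hmem
  have hlen : L.length = r := by simpa using Fintype.card_congr e
  let σ : Equiv.Perm (Fin r) := (finCongr hlen.symm).trans e
  have hlt : S.card < r := by
    have : S.card < L.length := by simp [L]
    omega
  let i₀ : Fin r := ⟨S.card, hlt⟩
  have hσk : σ i₀ = k := by
    simp [σ, e, L, i₀, List.getElem_append_right]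
  have himg : σ '' {i | i < i₀} = (S : Set (Fin r)) := by
    ext x
    constructor
    · rintro ⟨i, hi, rfl⟩
      have hi' : (i : ℕ) < S.toList.length := by simpa [i₀, Fin.lt_def] using hi
      simp only [σ, e, L, Equiv.trans_apply, List.Nodup.getEquivOfForallMemList_apply,
        List.get_eq_getElem, finCongr_apply, Fin.val_cast, List.getElem_append_left hi']
      exact Finset.mem_toList.mp (List.getElem_mem hi')
    · intro hx
      obtain ⟨n, hn, hnx⟩ := List.getElem_of_mem (Finset.mem_toList.mpr hx)
      have hn' : n < S.card := by simpa using hn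
      refine ⟨⟨n, hn'.trans hlt⟩, hn', ?_⟩
      simpa [σ, e, L, List.getElem_append_left hn] using hnx
  have h1 := h σ i₀
  rw [Set.image_comp, himg, Function.comp_apply, hσk] at h1
  exact h1

open MvPolynomial in
theorem mem_span_iff (f : Fin r → R) (T : Set (Fin r)) (p : MvPolynomial (Fin r) R) :
    p ∈ Ideal.span ((fun i => C (f i) * X i) '' T) ↔
      ∀ m, p.coeff m ∈ Ideal.span (f '' {i | i ∈ T ∧ m i ≠ 0}) := by
  classical
  constructor
  · intro hp
    induction hp using Submodule.span_induction with
    | mem x hx =>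
      obtain ⟨i, hi, rfl⟩ := hx
      intro m
      rw [coeff_C_mul, coeff_X']
      split_ifs with h
      · subst h
        exact Ideal.mul_mem_right _ _ (Ideal.subset_span ⟨i, ⟨hi, by simp⟩, rfl⟩)
      · simp
    | zero => simp
    | add x y _ _ hx hy => intro m; rw [coeff_add]; exact add_mem (hx m) (hy m)
    | smul a x _ hx =>
      intro m
      rw [smul_eq_mul, coeff_mul]
      refine sum_mem fun ab hab => Ideal.mul_mem_left _ _ (Ideal.span_mono ?_ (hx ab.2))
      refine Set.image_mono fun i hi => ⟨hi.1, ?_⟩
      have he := Finset.HasAntidiagonal.mem_antidiagonal.mp hab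
      have h2 := hi.2
      rw [← he, Finsupp.add_apply]
      omega
  · intro hp
    rw [p.as_sum]
    refine sum_mem fun m _ => ?_
    have hm := hp m
    generalize p.coeff m = c at hm
    induction hm using Submodule.span_induction with
    | mem x hx =>
      obtain ⟨i, ⟨hi, hmi⟩, rfl⟩ := hx
      have : monomial m (f i) = monomial (m - Finsupp.single i 1) (1 : R) * (C (f i) * X i) := by
        rw [C_mul_X_eq_monomial, monomial_mul, one_mul]
        congr 1
        rw [tsub_add_cancel_of_le]
        simpa [Finsupp.single_le_iff] using Nat.one_le_iff_ne_zero.mpr hmi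
      rw [this]
      exact Ideal.mul_mem_left _ _ (Ideal.subset_span ⟨i, hi, rfl⟩)
    | zero => simp
    | add x y _ _ hx hy => rw [map_add]; exact add_mem hx hy
    | smul a x _ hx =>
      rw [smul_eq_mul, ← C_mul_monomial]
      exact Ideal.mul_mem_left _ _ hx

open MvPolynomial in
theorem nz_poly_iff (f : Fin r → R) (k : Fin r) :
    NZ (Ideal.span ((fun i => C (f i) * X i) '' {i | i < k})) (C (f k) * X k) ↔
      ∀ S : Finset (Fin r), (∀ s ∈ S, s < k) → NZ (Ideal.span (f '' S)) (f k) := by
  classical
  constructor
  · intro h S hS x hx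
    let m : Fin r →₀ ℕ := Finsupp.equivFunOnFinite.symm fun i => if i ∈ S then 1 else 0
    have hm : ∀ i, (i < k ∧ m i ≠ 0) ↔ i ∈ S := fun i => by
      by_cases hi : i ∈ S <;> simp [m, hi, hS]
    have h1 := h (monomial m x) ((mem_span_iff f _ _).mpr fun n => by
      rw [C_mul_X_eq_monomial, monomial_mul, coeff_monomial]
      split_ifs with e
      · subst e
        convert hx using 2
        congr 1
        ext i
        simp only [Set.mem_setOf_eq, SetLike.mem_coe, Finsupp.add_apply, ne_eq, Nat.add_eq_zero_iff]
        constructor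
        · rintro ⟨hik, hne⟩
          exact (hm i).mp ⟨hik, fun h0 => hne ⟨by simp [hik.ne], h0⟩⟩
        · exact fun hi => ⟨hS i hi, fun h0 => ((hm i).mpr hi).2 h0.2⟩
      · simp)
    have h2 := (mem_span_iff f _ _).mp h1 m
    rw [coeff_monomial, if_pos rfl] at h2
    convert h2 using 3
    ext i
    exact (hm i).symm
  · intro h p hp
    refine (mem_span_iff f _ _).mpr fun m => ?_
    let S : Finset (Fin r) := Finset.univ.filter fun i => i < k ∧ m i ≠ 0
    have hS : (S : Set (Fin r)) = {i | i ∈ {i | i < k} ∧ m i ≠ 0} := by ext; simp [S]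
    rw [← hS]
    refine h S (fun s hs => ((Finset.mem_filter.mp hs).2).1) _ ?_
    have h1 := (mem_span_iff f _ _).mp hp (Finsupp.single k 1 + m)
    rw [C_mul_X_eq_monomial, coeff_monomial_mul] at h1
    convert h1 using 3
    rw [hS]
    ext i
    simp only [Set.mem_setOf_eq, Finsupp.add_apply]
    refine and_congr_right fun hi => ?_
    simp [hi.ne]

/-- For elements `f_1, …, f_r` generating a proper ideal, all reorderings are regular sequences in `R`
if and only if the products `f_i x_i` form a regular sequence in `R[x_1, …, x_r]`. -/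
theorem result {R : Type u} [CommRing R] {r : ℕ} (f : Fin r → R)
    (hf : Ideal.span (Set.range f) ≠ ⊤) :
    (∀ σ : Equiv.Perm (Fin r), RingTheory.Sequence.IsRegular R (List.ofFn (f ∘ σ))) ↔
      RingTheory.Sequence.IsRegular (MvPolynomial (Fin r) R)
        (List.ofFn fun i => MvPolynomial.C (f i) * MvPolynomial.X i) := by
  rw [isRegular_ofFn_iff, forall_congr' fun σ : Equiv.Perm (Fin r) => isRegular_ofFn_iff (f ∘ σ)]
  have hpoly : ¬ Ideal.span (Set.range fun i => (MvPolynomial.C (f i) * MvPolynomial.X i :
      MvPolynomial (Fin r) R)) = ⊤ := by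
    intro h
    have h1 : (1 : MvPolynomial (Fin r) R) ∈ Ideal.span (Set.range fun i =>
        (MvPolynomial.C (f i) * MvPolynomial.X i : MvPolynomial (Fin r) R)) := h ▸ Submodule.mem_top
    have h2 : Ideal.span (Set.range fun i =>
        (MvPolynomial.C (f i) * MvPolynomial.X i : MvPolynomial (Fin r) R)) ≤
          RingHom.ker (MvPolynomial.constantCoeff : MvPolynomial (Fin r) R →+* R) := by
      rw [Ideal.span_le]
      rintro _ ⟨i, rfl⟩
      simp [RingHom.mem_ker]
    have h3 : (MvPolynomial.constantCoeff : MvPolynomial (Fin r) R →+* R) 1 = 0 := h2 h1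
    rw [map_one] at h3
    exact hf (Ideal.eq_top_iff_one _ |>.mpr (by rw [h3]; exact zero_mem _))
  have hperm : ∀ σ : Equiv.Perm (Fin r), ¬ Ideal.span (Set.range (f ∘ σ)) = ⊤ := fun σ => by
    rw [Set.range_comp, σ.range_eq_univ, Set.image_univ]; exact hf
  simp only [hperm, not_false_iff, and_true, hpoly]
  constructor
  · intro h k
    exact (nz_poly_iff f k).mpr fun S hS => nz_of_perm f h S k fun hk => lt_irrefl _ (hS k hk)
  · intro h σ i
    have hP := nz_all f (fun k S hS => (nz_poly_iff f k).mp (h k) S hS)
      ((Finset.univ.filter (· < i)).image σ) (σ i) (by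
        simp only [Finset.mem_image, Finset.mem_filter, Finset.mem_univ, true_and, not_exists, not_and]
        intro j hj he
        exact absurd (σ.injective he) hj.ne)
    convert hP using 2
    · simp [Set.image_image]
    · rfl

end Groth.Agent.S2101
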