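import Groth.Statements.S2103
import Groth.Agent.RelDivLib.H1Quasi

set_option autoImplicit false
universe u
open CAlg

namespace Groth.Agent.S2103

open CategoryTheory CategoryTheory.Limits AlgebraicGeometry

set_option backward.isDefEq.respectTransparency false
set_option backward.defeqAttrib.useBackward true
set_option linter.style.haveILetI false


/-- Case `M = R`: an `H_1`-regular sequence in a ring (first Koszul homology zero) is quasi-regular (the
associated graded of the ideal it generates is a polynomial ring over the quotient). -/
theorem result {R : Type u} [CommRing R] {c : ℕ} (f : Fin c → R) (hf : CAlgX.IsH1Regular f) :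
    CAlgX.IsQuasiRegular f := by
  exact Groth.Agent.RelDivLib.isQuasiRegular_of_isH1Regular hf

end Groth.Agent.S2103
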