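import Mathlib
import Groth.Agent.SmoothingLib.Minor
import Groth.Statements.S2108

set_option autoImplicit false
universe u
open Smoothing

namespace Groth.Agent.S2108

/-- Let `A = R[x_1, …, x_n]/(f_1, …, f_m)` and `𝔮` a prime of `A` at which `R → A` is smooth. Then there
are `a ∈ A ∖ 𝔮`, an integer `c` and injections picking `c` relations and `c` variables such that `a`
is a multiple of the image of the corresponding Jacobian minor and `a f_ℓ` lies in the ideal
generated by the chosen relations plus the square of the relation ideal, for every `ℓ`. -/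
theorem result {R A : Type u} [CommRing R] [CommRing A] [Algebra R A] {n m : ℕ}
    (f : Fin m → MvPolynomial (Fin n) R) (φ : MvPolynomial (Fin n) R →ₐ[R] A) (hφ : Function.Surjective φ)
    (hker : RingHom.ker φ.toRingHom = Ideal.span (Set.range f)) (q : Ideal A) [q.IsPrime] [Algebra.IsSmoothAt R q] :
    ∃ a : A, a ∉ q ∧ ∃ (c : ℕ) (rows : Fin c ↪ Fin m) (cols : Fin c ↪ Fin n) (a' : A),
      a = a' * φ (Smoothing.jacobianMinor f rows cols) ∧
      ∀ a₁ : MvPolynomial (Fin n) R, φ a₁ = a → ∀ ℓ : Fin m,
        a₁ * f ℓ ∈ Ideal.span (Set.range (f ∘ rows)) ⊔ Ideal.span (Set.range f) ^ 2 := by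
  obtain ⟨c, rows, cols, s, hminor, hs, hJ⟩ := SmoothingLib.exists_rows_cols f φ hφ hker q
  let M := Smoothing.jacobianMinor f rows cols
  refine ⟨φ s * φ M, ?_, c, rows, cols, φ s, rfl, fun a₁ ha₁ l => ?_⟩
  · exact fun h => (‹q.IsPrime›.mem_or_mem h).elim hs hminor
  · have hd : a₁ - s * M ∈ Ideal.span (Set.range f) := by
      rw [← hker, RingHom.mem_ker]
      change φ (a₁ - s * M) = 0
      rw [map_sub, map_mul, ha₁, sub_self]
    rw [show a₁ * f l = M * (s * f l) + (a₁ - s * M) * f l by ring]
    refine Submodule.add_mem_sup (Ideal.mul_mem_left _ _ (hJ l)) ?_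
    rw [pow_two]
    exact Ideal.mul_mem_mul hd (Ideal.subset_span ⟨l, rfl⟩)

end Groth.Agent.S2108
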