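import Mathlib
import Groth.Agent.SmoothingLib.ConormalSym
import Groth.Statements.S2110

set_option autoImplicit false
universe u
open Smoothing

namespace Groth.Agent.S2110

/-- Let `A` be a finitely presented `R`-algebra. There is an `A`-algebra `C` of finite type with an
`A`-algebra retraction `C → A` such that for every `a ∈ A` with `A_a` smooth over `R`, the module of
differentials of `C_a` over `R` is a free `C_a`-module. -/
theorem result {R A : Type u} [CommRing R] [CommRing A] [Algebra R A]
    [Algebra.FinitePresentation R A] :
    ∃ (C : Type u) (_ : CommRing C) (_ : Algebra A C) (_ : Algebra R C) (_ : IsScalarTower R A C),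
      Algebra.FiniteType A C ∧ Nonempty (C →ₐ[A] A) ∧
      ∀ a : A, Algebra.Smooth R (Localization.Away a) →
        Module.Free (Localization.Away (algebraMap A C a)) Ω[Localization.Away (algebraMap A C a)⁄R] := by
  obtain ⟨n, π, hπ, hfg⟩ := Algebra.FinitePresentation.out (R := R) (A := A)
  obtain ⟨m, f, hf⟩ := Submodule.fg_iff_exists_fin_generating_family.1 hfg
  have hρ : ∀ y ∈ SmoothingLib.conormalRels π f, MvPolynomial.aeval (fun _ : Fin m => (0 : A)) y = 0 := by
    intro y hy
    have hle : SmoothingLib.conormalRels π f ≤
        RingHom.ker (MvPolynomial.aeval (fun _ : Fin m => (0 : A))) := by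
      refine Ideal.span_le.2 ?_
      rintro _ ⟨b, -, rfl⟩
      simp
    exact hle hy
  exact ⟨SmoothingLib.ConormalSym π f, inferInstance, inferInstance, inferInstance, inferInstance,
    Algebra.FiniteType.of_surjective (Ideal.Quotient.mkₐ A (SmoothingLib.conormalRels π f))
      (Ideal.Quotient.mkₐ_surjective A _),
    ⟨Ideal.Quotient.liftₐ _ (MvPolynomial.aeval fun _ => (0 : A)) hρ⟩,
    fun a ha => haveI := ha; SmoothingLib.free_kaehler_conormalSym π f hπ hf.symm a⟩

end Groth.Agent.S2110
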