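import Groth.Statements.S2111
import Mathlib

set_option autoImplicit false
universe u
open CAlg

namespace Groth.Agent.S2111

/-- Let `R` be a Noetherian normal domain with fraction field `K`. An element of `K` which lies in `R_𝔭`
for every prime `𝔭` of height one lies in `R`. -/
theorem result {R : Type u} [CommRing R] [IsDomain R] [IsNoetherianRing R]
    [IsIntegrallyClosed R] (x : FractionRing R)
    (hx : ∀ (p : Ideal R) [p.IsPrime], p.height = 1 →
      x ∈ Set.range (algebraMap (Localization.AtPrime p) (FractionRing R))) :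
    x ∈ Set.range (algebraMap R (FractionRing R)) := by
  classical
  let K := FractionRing R
  obtain ⟨a, b, hb, rfl⟩ := IsFractionRing.div_surjective (A := R) x
  have hb0 : b ≠ 0 := nonZeroDivisors.ne_zero hb
  have hbK : algebraMap R K b ≠ 0 := IsFractionRing.to_map_ne_zero_of_mem_nonZeroDivisors hb
  let B : Ideal R := Ideal.span {b}
  let colon : R → Ideal R := fun c => Submodule.comap (LinearMap.mulLeft R c) B
  have hcolon : ∀ c r, r ∈ colon c ↔ b ∣ c * r := fun c r => Ideal.mem_span_singleton
  by_cases hdvd : b ∣ a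
  · obtain ⟨r, rfl⟩ := hdvd
    exact ⟨r, by rw [map_mul, mul_div_cancel_left₀ _ hbK]⟩
  exfalso
  -- a maximal colon ideal above `(b : a)`
  let Sg : Set (Ideal R) := {I | ∃ c, ¬ b ∣ c ∧ colon a ≤ colon c ∧ I = colon c}
  obtain ⟨I, hI, hmax⟩ := set_has_maximal_iff_noetherian.mpr inferInstance Sg ⟨_, a, hdvd, le_rfl, rfl⟩
  obtain ⟨c, hc, hac, rfl⟩ := hI
  have hp : (colon c).IsPrime := by
    refine ⟨fun htop => hc ?_, fun {r s} hrs => ?_⟩
    · simpa using (hcolon c 1).mp (htop ▸ Submodule.mem_top)
    · by_contra hcon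
      push Not at hcon
      have h1 : ¬ b ∣ c * r := fun h => hcon.1 ((hcolon c r).mpr h)
      have h2 : colon c ≤ colon (c * r) := fun t ht => (hcolon _ t).mpr (by rw [mul_right_comm]; exact dvd_mul_of_dvd_left ((hcolon c t).mp ht) r)
      refine hmax _ ⟨c * r, h1, hac.trans h2, rfl⟩ (lt_of_le_of_ne h2 fun heq => hcon.2 ?_)
      rw [heq]
      exact (hcolon _ s).mpr (by rw [mul_assoc]; exact (hcolon c (r * s)).mp hrs)
  set p := colon c with hpdef
  have hbp : b ∈ p := (hcolon c b).mpr (dvd_mul_left b c)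
  have hpne : p ≠ ⊥ := fun h => hb0 (by simpa [h] using hbp)
  have hheight : p.height = 1 := by
    by_cases hA : ∀ t ∈ p, ∃ s ∈ p, c * t = b * s
    · exfalso
      refine hc ?_
      have hint : IsIntegral R (algebraMap R K c / algebraMap R K b) := by
        refine isIntegral_of_smul_mem_submodule (Submodule.map (Algebra.linearMap R K) p) ?_ ((IsNoetherian.noetherian p).map _) _ ?_
        · refine fun h => hb0 ?_
          have : algebraMap R K b ∈ Submodule.map (Algebra.linearMap R K) p := ⟨b, hbp, rfl⟩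
          rw [h, Submodule.mem_bot] at this
          exact absurd this hbK
        · rintro _ ⟨t, ht, rfl⟩
          obtain ⟨s, hs, hts⟩ := hA t ht
          refine ⟨s, hs, ?_⟩
          show algebraMap R K s = algebraMap R K c / algebraMap R K b * algebraMap R K t
          rw [div_mul_eq_mul_div, ← map_mul, hts, map_mul, mul_div_cancel_left₀ _ hbK]
      obtain ⟨r, hr⟩ := IsIntegrallyClosed.algebraMap_eq_of_integral hint
      refine ⟨r, IsFractionRing.injective R K ?_⟩
      rw [map_mul, hr, mul_div_cancel₀ _ hbK]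
    push Not at hA
    obtain ⟨t, ht, hts⟩ := hA
    obtain ⟨s, hs⟩ := (hcolon c t).mp ht
    have hsp : s ∉ p := fun h => hts s h hs
    have hmin : p ∈ (Ideal.span ({t} : Set R)).minimalPrimes := by
      refine ⟨⟨hp, (Ideal.span_singleton_le_iff_mem _).mpr ht⟩, fun q ⟨hq, htq⟩ hqp r hr => ?_⟩
      obtain ⟨u, hu⟩ := (hcolon c r).mp hr
      have hmul : b * (t * u) = b * (s * r) := by linear_combination r * hs - t * hu
      have h3 : s * r ∈ q := (mul_left_cancel₀ hb0 hmul) ▸ q.mul_mem_right _ ((Ideal.span_singleton_le_iff_mem _).mp htq)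
      exact (hq.mem_or_mem h3).resolve_left fun h => hsp (hqp h)
    refine le_antisymm (Ideal.height_le_one_of_isPrincipal_of_mem_minimalPrimes _ p hmin) ?_
    rw [Order.one_le_iff_ne_zero]
    intro h0
    exact hpne (Ideal.height_eq_zero_iff_eq_bot.mp h0)
  obtain ⟨z, hz⟩ := hx p hheight
  obtain ⟨u, ⟨s, hs⟩, rfl⟩ := IsLocalization.exists_mk'_eq p.primeCompl z
  refine hs (hac ((hcolon a s).mpr ⟨u, IsFractionRing.injective R K ?_⟩))
  have h4 := congrArg (algebraMap (Localization.AtPrime p) K) (IsLocalization.mk'_spec (Localization.AtPrime p) u ⟨s, hs⟩)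
  rw [map_mul, hz, ← IsScalarTower.algebraMap_apply R (Localization.AtPrime p) K, ← IsScalarTower.algebraMap_apply R (Localization.AtPrime p) K,
    div_mul_eq_mul_div, div_eq_iff hbK] at h4
  rw [map_mul, map_mul, mul_comm (algebraMap R K b)]
  exact h4
end Groth.Agent.S2111
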