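import Groth.Statements.S2112
import Mathlib
import Groth.Agent.GeomIrred.Basic

set_option autoImplicit false
universe u
open CAlg

namespace Groth.Agent.S2112
namespace Helper

theorem irr_of {A : Type u} [CommRing A] (h : CAlgX.HasUniqueMinimalPrime A) :
    IrreducibleSpace (PrimeSpectrum A) := by
  obtain ⟨p, hp, huniq⟩ := h
  rw [PrimeSpectrum.irreducibleSpace_iff_isPrime_nilradical]
  have : nilradical A = p := by
    show Ideal.radical (⊥ : Ideal A) = p
    rw [← Ideal.sInf_minimalPrimes]
    rw [show (⊥ : Ideal A).minimalPrimes = {p} from Set.eq_singleton_iff_unique_mem.2 ⟨hp, huniq⟩, sInf_singleton]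
  rw [this]
  exact hp.1.1

theorem unique_of (A : Type u) [CommRing A] (h : IrreducibleSpace (PrimeSpectrum A)) :
    CAlgX.HasUniqueMinimalPrime A := by
  have hn := PrimeSpectrum.irreducibleSpace_iff_isPrime_nilradical.1 h
  refine ⟨nilradical A, ⟨⟨hn, bot_le⟩, fun q hq _ => nilradical_le_prime q (H := hq.1)⟩, fun q hq => ?_⟩
  exact le_antisymm (hq.2 ⟨hn, bot_le⟩ (nilradical_le_prime q (H := hq.1.1))) (nilradical_le_prime q (H := hq.1.1))

end Helper


open TensorProduct in
/-- Let `k` be a separably closed field and `R`, `S` two `k`-algebras each having exactly one minimal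
prime ideal. Then `R ⊗_k S` has exactly one minimal prime ideal. -/
theorem result {k R S : Type u} [Field k] [IsSepClosed k] [CommRing R] [CommRing S]
    [Algebra k R] [Algebra k S] (hR : CAlgX.HasUniqueMinimalPrime R) (hS : CAlgX.HasUniqueMinimalPrime S) :
    CAlgX.HasUniqueMinimalPrime (R ⊗[k] S) := by
  haveI := Helper.irr_of hR
  haveI := Helper.irr_of hS
  exact Helper.unique_of (R ⊗[k] S) (Groth.Agent.GeomIrred.irreducibleSpace_tensor (A := S) (B := R))

end Groth.Agent.S2112
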