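import Groth.Statements.S2113
import Groth.Agent.CAlgBasics.DimOne

set_option autoImplicit false
universe u
open CAlg

namespace Groth.Agent.S2113

/-- A Noetherian ring in which each prime is maximal or else lies below infinitely many primes is a
Jacobson ring. -/
theorem result {R : Type u} [CommRing R] [IsNoetherianRing R]
    (h : ∀ (p : Ideal R) [p.IsPrime], p.IsMaximal ∨ {q : PrimeSpectrum R | p ≤ q.asIdeal}.Infinite) :
    IsJacobsonRing R := by
  rw [isJacobsonRing_iff_prime_eq]
  by_contra hc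
  push Not at hc
  obtain ⟨P, ⟨hP, hPne⟩, hmax⟩ := set_has_maximal_iff_noetherian.mpr ‹IsNoetherianRing R› {P : Ideal R | P.IsPrime ∧ P.jacobson ≠ P} (by obtain ⟨P, hP, h⟩ := hc; exact ⟨P, hP, h⟩)
  obtain ⟨x, hx, hxP⟩ := SetLike.not_le_iff_exists.mp (fun hle => hPne (le_antisymm hle Ideal.le_jacobson))
  have hnm : ¬ Ideal.IsMaximal P := fun h => hPne (Ideal.jacobson_eq_self_of_isMaximal (H := h))
  haveI := hP
  have hinf := (h P).resolve_left hnm
  have hall : ∀ q : Ideal (R ⧸ P), q.IsPrime → q ≠ ⊥ → Ideal.Quotient.mk P x ∈ q := by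
    intro q hq hq0
    have hlt : P < q.comap (Ideal.Quotient.mk P) := by
      refine lt_of_le_of_ne (fun a ha => by simp [Ideal.Quotient.eq_zero_iff_mem.mpr ha]) fun e => hq0 ?_
      rw [← Ideal.map_comap_of_surjective _ Ideal.Quotient.mk_surjective q, ← e, Ideal.map_quotient_self]
    have : (q.comap (Ideal.Quotient.mk P)).jacobson = q.comap (Ideal.Quotient.mk P) := by
      by_contra hne
      exact hmax (q.comap (Ideal.Quotient.mk P)) ⟨inferInstance, hne⟩ hlt
    have hx' := Ideal.jacobson_mono hlt.le hx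
    rw [this] at hx'
    exact hx'
  have hx0 : Ideal.Quotient.mk P x ≠ 0 := fun e => hxP (Ideal.Quotient.eq_zero_iff_mem.mp e)
  refine hinf (((Ideal.finite_minimalPrimes_of_isNoetherianRing (R ⧸ P) (Ideal.span {Ideal.Quotient.mk P x})).insert ⊥ |>.image (Ideal.comap (Ideal.Quotient.mk P))).preimage (fun a _ b _ h => PrimeSpectrum.ext h) |>.subset fun q hq => ?_)
  have hq' : P ≤ q.asIdeal := hq
  haveI : (q.asIdeal.map (Ideal.Quotient.mk P)).IsPrime := Ideal.map_isPrime_of_surjective Ideal.Quotient.mk_surjective (by simpa using hq')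
  refine ⟨q.asIdeal.map (Ideal.Quotient.mk P), ?_, ?_⟩
  · by_cases h0 : q.asIdeal.map (Ideal.Quotient.mk P) = ⊥
    · exact Set.mem_insert_iff.mpr (Or.inl h0)
    · exact Set.mem_insert_of_mem _ (Groth.Agent.CAlgBasics.isMaximal_of_forall_mem _ hx0 hall _ h0).2
  · rw [Ideal.comap_map_of_surjective _ Ideal.Quotient.mk_surjective, ← RingHom.ker_eq_comap_bot, Ideal.mk_ker, sup_eq_left.mpr hq']

end Groth.Agent.S2113
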