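import Groth.Statements.S2114
import Groth.Agent.N2Lib.Basic
import Groth.Agent.NagataCompleteLib.Complete

set_option autoImplicit false
universe u
open CAlg

namespace Groth.Agent.S2114

set_option backward.isDefEq.respectTransparency false
set_option maxHeartbeats 1000000


/-- Let `R ⊆ S` be an extension of domains which is of finite type and quasi-finite, with `R` Noetherian
and N-2 (integral closures in finite extensions of the fraction field are finite). Then `S` is N-2. -/
theorem result {R S : Type u} [CommRing R] [IsDomain R] [IsNoetherianRing R] [CommRing S]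
    [IsDomain S] [Algebra R S] (hinj : Function.Injective (algebraMap R S)) [Algebra.FiniteType R S]
    [Algebra.QuasiFinite R S] (hR : CAlg.IsN2 R) : CAlg.IsN2 S := by
  classical
  have h : ∀ p : MaximalSpectrum S, ∃ r : S, r ∉ p.asIdeal ∧ ∀ (_ : r ≠ 0),
      haveI : IsDomain (Localization.Away r) := IsLocalization.isDomain_localization
        (powers_le_nonZeroDivisors_of_noZeroDivisors ‹r ≠ 0›)
      CAlg.IsN2 (Localization.Away r) := by
    intro p
    haveI := p.isMaximal
    obtain ⟨S', hS', r, hr, hbij⟩ := Algebra.QuasiFiniteAt.exists_fg_and_exists_notMem_and_awayMap_bijective (R := R) p.asIdeal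
    refine ⟨(r : S), hr, fun hr0 => ?_⟩
    haveI : Module.Finite R S' := Module.Finite.iff_fg.2 hS'
    have hN2 : CAlg.IsN2 S' := Groth.Agent.NagataCompleteLib.isN2_of_finite (R0 := R)
      (fun a b h => hinj (congrArg Subtype.val h)) hR
    have hr' : r ≠ 0 := fun h => hr0 (by rw [h]; rfl)
    haveI : IsDomain (Localization.Away r) := IsLocalization.isDomain_localization
      (powers_le_nonZeroDivisors_of_noZeroDivisors hr')
    haveI : IsDomain (Localization.Away (r : S)) := IsLocalization.isDomain_localization
      (powers_le_nonZeroDivisors_of_noZeroDivisors hr0)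
    exact Groth.Agent.NagataCompleteLib.isN2_of_ringEquiv (RingEquiv.ofBijective _ hbij)
      (Groth.Agent.N2Lib.isN2_localization (Submonoid.powers r) (Localization.Away r) hN2)
  choose r hr hN using h
  have h1 : (1 : S) ∈ Ideal.span (Set.range r) := by
    by_contra hne
    obtain ⟨M, hM, hle⟩ := Ideal.exists_le_maximal (Ideal.span (Set.range r)) fun h => hne (by rw [h]; trivial)
    exact hr ⟨M, hM⟩ (hle (Ideal.subset_span ⟨⟨M, hM⟩, rfl⟩))
  obtain ⟨T, hT, hT1⟩ := Submodule.mem_span_finite_of_mem_span h1
  choose μ hμ using fun x : T => hT x.2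
  have hμ0 : ∀ x : T, r (μ x) ≠ 0 := fun x h => hr (μ x) (h ▸ Submodule.zero_mem _)
  haveI : ∀ x : T, IsDomain (Localization.Away (r (μ x))) := fun x => IsLocalization.isDomain_localization
    (powers_le_nonZeroDivisors_of_noZeroDivisors (hμ0 x))
  refine Groth.Agent.N2Lib.isN2_of_span (fun x : T => r (μ x)) ?_ (fun x => Localization.Away (r (μ x))) fun x => hN (μ x) (hμ0 x)
  rw [Ideal.eq_top_iff_one]
  refine Submodule.span_mono ?_ hT1
  intro y hy
  exact ⟨⟨y, hy⟩, hμ ⟨y, hy⟩⟩

end Groth.Agent.S2114
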