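import Groth.Statements.S2115
import Groth.Agent.FPApproxLib.Main

set_option autoImplicit false
universe u
open CategoryTheory AlgebraicGeometry
open Mor

namespace Groth.Agent.S2115

/-- Let `X` be quasi-compact and quasi-separated, `F` a quasi-coherent `O_X`-module, `U ⊆ X` a
quasi-compact open and `G` a finitely presented `O_U`-module with a map `φ : G → F|_U`. Then there
are a finitely presented `O_X`-module `G'` with a map `φ' : G' → F` and an isomorphism `G'|_U ≅ G`
identifying `φ'|_U` with `φ`. -/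
theorem result (X : Scheme.{u}) [CompactSpace X] [QuasiSeparatedSpace X]
    (F : X.Modules) (hF : Coh.IsQCoh F) (U : X.Opens) (hU : IsCompact (U : Set X)) (G : (U : Scheme.{u}).Modules)
    (hG : CohB1.IsFP G) (φ : G ⟶ F.restrict U.ι) :
    ∃ (G' : X.Modules) (φ' : G' ⟶ F) (e : G'.restrict U.ι ≅ G), CohB1.IsFP G' ∧
      e.hom ≫ φ = (Scheme.Modules.restrictFunctor U.ι).map φ' := by
  haveI := hG
  haveI hGq : Coh.IsQCoh G := inferInstance
  haveI := hF
  let j := U.ι
  haveI : QuasiCompact j := by
    refine (quasiCompact_iff _).2 fun W hW hWc => ?_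
    rw [U.ι.isOpenEmbedding.isInducing.isCompact_iff]
    have h1 := QuasiSeparatedSpace.inter_isCompact (U : Set X) W U.2 hU hW hWc
    convert h1 using 1
    rw [Set.image_preimage_eq_inter_range, Scheme.Opens.range_ι, Set.inter_comm]
  let η := (Scheme.Modules.restrictAdjunction j).unit.app F
  let h := (Scheme.Modules.pushforward j).map φ
  have hPq : Coh.IsQCoh (Limits.pullback η h) :=
    FPApproxLib.isQCoh_pullback' η h hF (QCohLib.isQCoh_pushforward _ j) (QCohLib.isQCoh_pushforward _ j)
  haveI := hPq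
  have hη : ∀ T ≤ U, Function.Bijective (η.app T) := fun T hT => by
    have e : j ''ᵁ (j ⁻¹ᵁ T) = T := by
      rw [Scheme.Hom.image_preimage_eq_opensRange_inf, Scheme.Opens.opensRange_ι, inf_eq_right]
      exact hT
    haveI : IsIso (homOfLE (j.image_preimage_le T)) := by
      rw [Subsingleton.elim (homOfLE (j.image_preimage_le T)) (eqToHom e)]
      infer_instance
    show Function.Bijective (((Scheme.Modules.restrictAdjunction j).unit.app F).app T)
    rw [Scheme.Modules.restrictAdjunction_unit_app_app]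
    exact ConcreteCategory.bijective_of_isIso (F.presheaf.map (homOfLE (j.image_preimage_le T)).op)
  have hfp : FPApproxLib.FPOn (Limits.pullback η h) U := fun x hx => by
    obtain ⟨_, ⟨T, hT, rfl⟩, hxT, hTU⟩ := X.isBasis_affineOpens.exists_subset_of_mem_open hx U.2
    refine ⟨T, hT, hxT, hTU, FPApproxLib.fp_of_bijective' _ (FPApproxLib.bijective_snd η h (hη T hTU)) ?_⟩
    have hT' : IsAffineOpen (j ⁻¹ᵁ T) := hT.preimage_of_isOpenImmersion j
      (by rw [Scheme.Opens.opensRange_ι]; exact hTU)
    haveI := QCohLib.finitePresentation_sections G hG hT'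
    haveI : IsIso (j.app T) := j.isIso_app T (by rw [Scheme.Opens.opensRange_ι]; exact hTU)
    letI := (j.app T).hom.toAlgebra
    letI := Module.compHom Γ(G, j ⁻¹ᵁ T) (j.app T).hom
    haveI : IsScalarTower Γ(X, T) Γ((U : Scheme.{u}), j ⁻¹ᵁ T) Γ(G, j ⁻¹ᵁ T) :=
      .of_algebraMap_smul fun _ _ => rfl
    haveI : Module.FinitePresentation Γ(X, T) Γ((U : Scheme.{u}), j ⁻¹ᵁ T) :=
      Module.FinitePresentation.of_equiv (LinearEquiv.ofBijective
        (Algebra.linearMap Γ(X, T) Γ((U : Scheme.{u}), j ⁻¹ᵁ T)) (ConcreteCategory.bijective_of_isIso (j.app T)))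
    exact (Module.FinitePresentation.trans Γ(X, T) Γ(G, j ⁻¹ᵁ T) Γ((U : Scheme.{u}), j ⁻¹ᵁ T) :)
  obtain ⟨G', ψ, hG'q, hG', hb⟩ := FPApproxLib.exists_extend (Limits.pullback η h) hU hfp
  let ε := (Scheme.Modules.restrictAdjunction j).counit
  let χ : G' ⟶ (Scheme.Modules.pushforward j).obj G := ψ ≫ Limits.pullback.snd η h
  haveI : IsIso ((Scheme.Modules.restrictFunctor j).map χ) := by
    rw [Scheme.Modules.Hom.isIso_iff_isIso_app]
    intro O
    refine (ConcreteCategory.isIso_iff_bijective _).2 ?_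
    have hle : j ''ᵁ O ≤ U := by
      rintro _ ⟨w, -, rfl⟩
      exact w.2
    show Function.Bijective ((Limits.pullback.snd η h).app (j ''ᵁ O) ∘ ψ.app (j ''ᵁ O))
    exact (FPApproxLib.bijective_snd η h (hη _ hle)).comp (hb _ hle)
  refine ⟨G', ψ ≫ Limits.pullback.fst η h, asIso ((Scheme.Modules.restrictFunctor j).map χ) ≪≫ asIso (ε.app G), hG', ?_⟩
  have hc : χ ≫ h = (ψ ≫ Limits.pullback.fst η h) ≫ η := by
    rw [Category.assoc, Category.assoc, Limits.pullback.condition]
  have hn := (ε.naturality φ).symm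
  simp only [Functor.comp_map, Functor.id_map] at hn
  rw [Iso.trans_hom, asIso_hom, asIso_hom, Category.assoc]
  erw [hn]
  rw [← Category.assoc]
  erw [← Functor.map_comp, hc, Functor.map_comp, Category.assoc,
    (Scheme.Modules.restrictAdjunction j).left_triangle_components F, Category.comp_id]

end Groth.Agent.S2115
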