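import Groth.Statements.S2118
import Mathlib

set_option autoImplicit false
universe u
open CategoryTheory
open CAlg

namespace Groth.Agent.S2118

open Limits

/-- Finite free modules over `M`. -/
structure Obj (R : Type u) [CommRing R] (M : Type u) [AddCommGroup M] [Module R M] : Type u where
  n : ℕ
  x : (Fin n →₀ R) →ₗ[R] M

variable {R : Type u} [CommRing R] {M : Type u} [AddCommGroup M] [Module R M]

noncomputable instance : Category.{u} (Obj R M) where
  Hom o o' := {a : (Fin o.n →₀ R) →ₗ[R] (Fin o'.n →₀ R) // o'.x ∘ₗ a = o.x}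
  id o := ⟨LinearMap.id, rfl⟩
  comp a b := ⟨b.1 ∘ₗ a.1, by rw [← LinearMap.comp_assoc, b.2, a.2]⟩

theorem hom_ext {o o' : Obj R M} {f g : o ⟶ o'} (h : f.1 = g.1) : f = g := Subtype.ext h

instance : Nonempty (Obj R M) := ⟨⟨0, 0⟩⟩

instance [Module.Flat R M] : IsFiltered (Obj R M) where
  cocone_objs o o' := by
    obtain ⟨k, a, y, hy, -⟩ := Module.Flat.exists_factorization_of_comp_eq_zero_of_free (R := R)
      (f := (0 : PUnit.{u+1} →ₗ[R] (Fin o.n →₀ R) × (Fin o'.n →₀ R))) (x := o.x.coprod o'.x) (LinearMap.comp_zero _)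
    exact ⟨⟨k, y⟩, ⟨a ∘ₗ LinearMap.inl _ _ _, by rw [← LinearMap.comp_assoc, ← hy, LinearMap.coprod_inl]⟩,
      ⟨a ∘ₗ LinearMap.inr _ _ _, by rw [← LinearMap.comp_assoc, ← hy, LinearMap.coprod_inr]⟩, trivial⟩
  cocone_maps o o' f g := by
    obtain ⟨k, a, y, hy, ha⟩ := Module.Flat.exists_factorization_of_comp_eq_zero_of_free (R := R)
      (f := f.1 - g.1) (x := o'.x) (by rw [LinearMap.comp_sub, f.2, g.2, sub_self])
    refine ⟨⟨k, y⟩, ⟨a, hy.symm⟩, hom_ext ?_⟩
    show a ∘ₗ f.1 = a ∘ₗ g.1
    exact sub_eq_zero.1 (by rw [← LinearMap.comp_sub]; exact ha)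

variable (R M) in
/-- The tautological diagram. -/
noncomputable def diagram : Obj R M ⥤ ModuleCat.{u} R where
  obj o := ModuleCat.of R (Fin o.n →₀ R)
  map a := ModuleCat.ofHom a.1

variable (R M) in
/-- The tautological cocone. -/
noncomputable def cocone : Cocone (diagram R M) where
  pt := ModuleCat.of R M
  ι := { app := fun o => ModuleCat.ofHom o.x
         naturality := fun _ _ a => ModuleCat.hom_ext a.2 }

/-- The object classifying one element. -/
noncomputable def one (m : M) : Obj R M := ⟨1, Finsupp.linearCombination R fun _ => m⟩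

section
variable (s : Cocone (diagram R M))

/-- Underlying function of the descended map. -/
noncomputable def g (m : M) : s.pt := (s.ι.app (one m)).hom (Finsupp.single (0 : Fin 1) 1)

theorem app_eq (o : Obj R M) (v : Fin o.n →₀ R) : (s.ι.app o).hom v = g s (o.x v) := by
  let a : one (o.x v) ⟶ o := ⟨Finsupp.linearCombination R fun _ : Fin 1 => v, by
    refine Finsupp.lhom_ext' fun i => LinearMap.ext_ring ?_
    simp [one]⟩
  have h := LinearMap.congr_fun (congrArg ModuleCat.Hom.hom (s.w a)) (Finsupp.single (0 : Fin 1) 1)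
  refine Eq.trans ?_ h
  show _ = (s.ι.app o).hom (Finsupp.linearCombination R (fun _ : Fin 1 => v) (Finsupp.single (0 : Fin 1) 1))
  simp

/-- The descended map. -/
noncomputable def desc : M →ₗ[R] s.pt where
  toFun := g s
  map_add' m m' := by
    let o : Obj R M := ⟨2, Finsupp.linearCombination R ![m, m']⟩
    have h0 := app_eq s o (Finsupp.single (0 : Fin 2) 1)
    have h1 := app_eq s o (Finsupp.single (1 : Fin 2) 1)
    have h2 := app_eq s o (Finsupp.single (0 : Fin 2) 1 + Finsupp.single (1 : Fin 2) 1)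
    simp [o] at h0 h1 h2
    rw [← h0, ← h1, ← h2]
    exact map_add (s.ι.app o).hom _ _
  map_smul' r m := by
    have h := app_eq s (one m) (r • Finsupp.single (0 : Fin 1) (1 : R))
    have h' : (one m).x (r • Finsupp.single (0 : Fin 1) (1 : R)) = r • m := by
      simp [one, Finsupp.smul_single]
      exact Finsupp.linearCombination_single R _ _
    rw [h'] at h
    exact h.symm.trans ((s.ι.app (one m)).hom.map_smul r _)

end

variable (R M) in
/-- The tautological cocone is colimiting. -/
noncomputable def isColimit : IsColimit (cocone R M) where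
  desc s := ModuleCat.ofHom (desc s)
  fac s o := ModuleCat.hom_ext (LinearMap.ext fun v => (app_eq s o v).symm)
  uniq s f hf := ModuleCat.hom_ext (LinearMap.ext fun m => by
    have h := LinearMap.congr_fun (congrArg ModuleCat.Hom.hom (hf (one m))) (Finsupp.single (0 : Fin 1) 1)
    refine Eq.trans ?_ h
    show f.hom m = f.hom (Finsupp.linearCombination R (fun _ : Fin 1 => m) (Finsupp.single (0 : Fin 1) 1))
    simp)


/-- An `R`-module `M` is flat if and only if it is isomorphic to the colimit of a diagram of finite free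
`R`-modules indexed by a nonempty directed preorder (in the same universe). -/
theorem result {R : Type u} [CommRing R] (M : Type u) [AddCommGroup M] [Module R M] :
    Module.Flat R M ↔
      ∃ (J : Type u) (_ : Preorder J) (_ : IsDirected J (fun a b => a ≤ b)) (_ : Nonempty J)
        (F : J ⥤ ModuleCat.{u} R), (∀ j, Module.Finite R (F.obj j) ∧ Module.Free R (F.obj j)) ∧
        Nonempty (Limits.colimit F ≅ ModuleCat.of R M) := by
  constructor
  · intro _
    obtain ⟨α, _, hdir, _, G, _⟩ := IsFiltered.exists_directed.{u} (Obj R M)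
    refine ⟨α, inferInstance, hdir, inferInstance, G ⋙ diagram R M,
      fun j => ⟨inferInstanceAs (Module.Finite R (Fin _ →₀ R)), inferInstanceAs (Module.Free R (Fin _ →₀ R))⟩, ⟨?_⟩⟩
    exact Functor.Final.colimitIso G (diagram R M) ≪≫
      (colimit.isColimit (diagram R M)).coconePointUniqueUpToIso (isColimit R M)
  · rintro ⟨J, _, _, _, F, hF, ⟨e⟩⟩
    refine Module.Flat.of_forall_exists_factorization fun {l f x} hxf => ?_
    have hrep : ∀ i : Fin l, ∃ j y, (colimit.ι F j).hom y = e.inv.hom (x (Finsupp.single i 1)) :=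
      fun i => Concrete.colimit_exists_rep F _
    choose j y hy using hrep
    classical
    obtain ⟨j₀, hj₀⟩ := Finset.exists_le (Finset.univ.image j)
    have hle : ∀ i, j i ≤ j₀ := fun i => hj₀ _ (Finset.mem_image_of_mem j (Finset.mem_univ i))
    let x' : (Fin l →₀ R) →ₗ[R] F.obj j₀ :=
      Finsupp.linearCombination R fun i => (F.map (homOfLE (hle i))).hom (y i)
    have hx' : (colimit.ι F j₀).hom ∘ₗ x' = e.inv.hom ∘ₗ x := by
      refine Finsupp.lhom_ext' fun i => LinearMap.ext_ring ?_
      simp only [LinearMap.comp_apply, Finsupp.lsingle_apply, x', Finsupp.linearCombination_single, one_smul]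
      rw [← hy i, ← LinearMap.comp_apply, ← ModuleCat.hom_comp, colimit.w]
    have h0 : (colimit.ι F j₀) (x' f) = 0 := by
      show ((colimit.ι F j₀).hom ∘ₗ x') f = 0
      rw [hx', LinearMap.comp_apply, hxf, map_zero]
    obtain ⟨j₁, i, hi⟩ := Concrete.colimit_rep_eq_zero (F := F) (hx := h0)
    obtain ⟨_, _⟩ := hF j₁
    let b := (Module.Free.chooseBasis R (F.obj j₁)).reindex (Fintype.equivFin _)
    refine ⟨_, b.repr.toLinearMap ∘ₗ (F.map i).hom ∘ₗ x',
      e.hom.hom ∘ₗ (colimit.ι F j₁).hom ∘ₗ b.repr.symm.toLinearMap, ?_, ?_⟩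
    · refine LinearMap.ext fun v => ?_
      simp only [LinearMap.comp_apply, LinearEquiv.coe_coe, LinearEquiv.symm_apply_apply]
      rw [← LinearMap.comp_apply (colimit.ι F j₁).hom, ← ModuleCat.hom_comp, colimit.w,
        ← LinearMap.comp_apply (colimit.ι F j₀).hom, hx', LinearMap.comp_apply]
      exact (LinearMap.congr_fun (congrArg ModuleCat.Hom.hom e.inv_hom_id) (x v)).symm
    · simp only [LinearMap.comp_apply, LinearEquiv.coe_coe]
      rw [show (F.map i).hom (x' f) = 0 from hi, map_zero]

end Groth.Agent.S2118
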