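import Groth.Statements.S2120
import Groth.Agent.SepDescLib.Basic

set_option autoImplicit false
universe u
open CategoryTheory AlgebraicGeometry
open Mor

namespace Groth.Agent.S2120

/-- Let `f : X → Y` be surjective and universally closed. If `X` is quasi-separated then so is `Y`; if
`X` is separated then so is `Y`. -/
theorem result {X Y : Scheme.{u}} (f : X ⟶ Y) [Surjective f] [UniversallyClosed f] :
    (QuasiSeparatedSpace X → QuasiSeparatedSpace Y) ∧ (X.IsSeparated → Y.IsSeparated) := by
  refine ⟨fun h => ?_, fun h => ⟨(SepDescLib.descend f (Limits.terminal.from Y)).1 ?_⟩⟩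
  · rw [quasiSeparatedSpace_iff_quasiSeparated] at h ⊢
    exact (SepDescLib.descend f _).2 (by rwa [Limits.terminal.comp_from])
  · rw [Limits.terminal.comp_from]
    infer_instance

end Groth.Agent.S2120
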