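import Groth.Statements.S2121
import Groth.Agent.QCRange.Basic

set_option autoImplicit false
universe u
open CategoryTheory AlgebraicGeometry
open Mor

namespace Groth.Agent.S2121

/-- Let `f : X → Y` be quasi-compact and `z` a point in the closure of `f(X)` (the underlying set of the
scheme theoretic image). Then there are a valuation ring `A` with fraction field `K` and morphisms
`Spec K → X`, `Spec A → Y` forming a commutative square with `f` and `Spec K → Spec A`, such that
the closed point of `Spec A` maps to `z`. -/
theorem result {X Y : Scheme.{u}} (f : X ⟶ Y) [QuasiCompact f] (z : Y)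
    (hz : z ∈ closure (Set.range f.base)) :
    ∃ (A : Type u) (_ : CommRing A) (_ : IsDomain A) (_ : ValuationRing A)
      (x : Spec (CommRingCat.of (FractionRing A)) ⟶ X) (y : Spec (CommRingCat.of A) ⟶ Y),
      x ≫ f = Spec.map (CommRingCat.ofHom (algebraMap A (FractionRing A))) ≫ y ∧
      y.base (IsLocalRing.closedPoint A) = z := by
  obtain ⟨x₀, h⟩ := Groth.Agent.QCRange.exists_specializes f z hz
  let φ : Y.presheaf.stalk z ⟶ X.residueField x₀ :=
    Y.presheaf.stalkSpecializes h ≫ f.stalkMap x₀ ≫ X.residue x₀
  obtain ⟨A, hA, hA_local⟩ := IsLocalRing.exists_factor_valuationRing φ.hom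
  let ψ : Y.presheaf.stalk z ⟶ .of A := CommRingCat.ofHom (φ.hom.codRestrict _ hA)
  let e : FractionRing A ≃ₐ[A] X.residueField x₀ := FractionRing.algEquiv A _
  refine ⟨A, inferInstance, inferInstance, inferInstance,
    Spec.map (CommRingCat.ofHom e.symm.toRingEquiv.toRingHom) ≫ X.fromSpecResidueField x₀,
    Spec.map ψ ≫ Y.fromSpecStalk z, ?_, ?_⟩
  · have w : X.fromSpecResidueField x₀ ≫ f =
        Spec.map (CommRingCat.ofHom (algebraMap A (X.residueField x₀))) ≫
          Spec.map ψ ≫ Y.fromSpecStalk z := by
      rw [Scheme.fromSpecResidueField, Category.assoc, ← Scheme.SpecMap_stalkMap_fromSpecStalk,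
        ← Scheme.SpecMap_stalkSpecializes_fromSpecStalk h]
      simp_rw [← Spec.map_comp_assoc]
      rfl
    rw [Category.assoc, w, ← Spec.map_comp_assoc]
    congr 1
    rw [← CommRingCat.ofHom_comp]
    congr 2
    ext a
    exact e.symm.commutes a
  · rw [Scheme.Hom.comp_base]
    change (Y.fromSpecStalk z).base ((Spec.map ψ).base (IsLocalRing.closedPoint A)) = z
    have : (Spec.map ψ).base (IsLocalRing.closedPoint A) = IsLocalRing.closedPoint (Y.presheaf.stalk z) :=
      IsLocalRing.comap_closedPoint (S := A) (φ.hom.codRestrict A.toSubring hA)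
    rw [this, Y.fromSpecStalk_closedPoint]

end Groth.Agent.S2121
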