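import Groth.Statements.S2123
import Mathlib

set_option autoImplicit false
universe u
open CategoryTheory AlgebraicGeometry
open Mor

namespace Groth.Agent.S2123

/-- Let `X` be an integral separated scheme and `x, y` points such that the closure of `x` is not
contained in the closure of `y`. Then, inside the function field of `X`, the local ring at `x` is
not contained in the local ring at `y`. -/
theorem result (X : Scheme.{u}) [IsIntegral X] [X.IsSeparated] (x y : X)
    (h : ¬ closure ({x} : Set X) ⊆ closure {y}) :
    ¬ Set.range (X.presheaf.stalkSpecializes (genericPoint_specializes x)) ⊆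
        Set.range (X.presheaf.stalkSpecializes (genericPoint_specializes y)) := by
  intro hsub
  apply h
  refine closure_minimal (Set.singleton_subset_iff.2 (specializes_iff_mem_closure.1 ?_)) isClosed_closure
  let ψx := X.presheaf.stalkSpecializes (genericPoint_specializes x)
  let ψy := X.presheaf.stalkSpecializes (genericPoint_specializes y)
  have hy : Function.Injective ψy.hom := IsFractionRing.injective (X.presheaf.stalk y) X.functionField
  have hmem : ∀ a, ∃ b, ψy.hom b = ψx.hom a := fun a => hsub ⟨a, rfl⟩
  choose φ₀ hφ₀ using hmem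
  let φ : X.presheaf.stalk x ⟶ X.presheaf.stalk y := CommRingCat.ofHom
    { toFun := φ₀
      map_one' := hy ((hφ₀ _).trans ((map_one ψx.hom).trans (map_one ψy.hom).symm))
      map_mul' := fun a b => hy ((hφ₀ _).trans ((map_mul ψx.hom a b).trans ((congrArg₂ (· * ·) (hφ₀ a).symm (hφ₀ b).symm).trans (map_mul ψy.hom _ _).symm)))
      map_zero' := hy ((hφ₀ _).trans ((map_zero ψx.hom).trans (map_zero ψy.hom).symm))
      map_add' := fun a b => hy ((hφ₀ _).trans ((map_add ψx.hom a b).trans ((congrArg₂ (· + ·) (hφ₀ a).symm (hφ₀ b).symm).trans (map_add ψy.hom _ _).symm))) }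
  have hφ : φ ≫ ψy = ψx := CommRingCat.hom_ext (RingHom.ext hφ₀)
  haveI : IsDominant (Spec.map ψy) := ⟨PrimeSpectrum.denseRange_comap_iff_ker_le_nilRadical _ |>.2
    (by rw [(RingHom.injective_iff_ker_eq_bot ψy.hom).1 hy]; exact bot_le)⟩
  have heq : Spec.map φ ≫ X.fromSpecStalk x = X.fromSpecStalk y := ext_of_isDominant (Spec.map ψy) (by
    rw [← Category.assoc, ← Spec.map_comp, hφ, Scheme.SpecMap_stalkSpecializes_fromSpecStalk,
      Scheme.SpecMap_stalkSpecializes_fromSpecStalk])
  have : y ∈ Set.range (X.fromSpecStalk x) := ⟨Spec.map φ (IsLocalRing.closedPoint (X.presheaf.stalk y)), by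
    rw [← Scheme.Hom.comp_apply, heq, Scheme.fromSpecStalk_closedPoint]⟩
  rwa [Scheme.range_fromSpecStalk] at this

end Groth.Agent.S2123
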