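import Groth.Statements.S2124
import Groth.Agent.AdicDecay.Complete
import Groth.Agent.AdicDecay.Completion
import Groth.Agent.AdicDecay.Free
-- import your own Groth.Agent.* helpers here

set_option autoImplicit false
universe u
open CAlg

namespace Groth.Agent.S2124

/-- Let `R` be Noetherian and `I`-adically complete and `α` any index set. The map from the `I`-adic
completion of the direct sum `⊕_α R` to the product `∏_α R^∧ = ∏_α R`, induced by the coordinate
projections, is universally injective. -/
theorem result {R : Type u} [CommRing R] [IsNoetherianRing R] (I : Ideal R)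
    [IsAdicComplete I R] (α : Type u) :
    CAlgX.UniversallyInjective R
      (LinearMap.pi fun a : α => AdicCompletion.map I (Finsupp.lapply a : (α →₀ R) →ₗ[R] R) :
        AdicCompletion I (α →₀ R) →ₗ[R] (α → AdicCompletion I R)) := by
  intro Q _ _
  have : IsAdicComplete I (AdicCompletion I R) := Groth.Agent.AdicDecay.isAdicComplete_of_equiv (I := I) (AdicCompletion.ofLinearEquiv I R).symm
  let o := AdicCompletion.ofLinearEquiv I R
  let e : AdicCompletion I (α →₀ R) ≃ₗ[R] W4c5adicflatcompl.decaying I α R :=
    (AdicDecay.finsuppEquiv I α R).trans (AdicDecay.congrDecay (I := I) (Z := α) o.symm)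
  have heq : (LinearMap.pi fun a : α => AdicCompletion.map I (Finsupp.lapply a : (α →₀ R) →ₗ[R] R) :
      AdicCompletion I (α →₀ R) →ₗ[R] (α → AdicCompletion I R)) =
      (LinearEquiv.piCongrRight fun _ : α => o).toLinearMap ∘ₗ
        ((W4c5adicflatcompl.decaying I α R).subtype ∘ₗ e.toLinearMap) := by
    refine LinearMap.ext fun x => funext fun a => ?_
    show _ = o (o.symm ((AdicDecay.finsuppEquiv I α R x : α → AdicCompletion I R) a))
    rw [LinearEquiv.apply_symm_apply, AdicDecay.finsuppEquiv_apply]
    rfl
  rw [heq, LinearMap.rTensor_comp, LinearMap.rTensor_comp, LinearMap.coe_comp, LinearMap.coe_comp]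
  exact (LinearEquiv.rTensor Q (LinearEquiv.piCongrRight fun _ : α => o)).injective.comp
    ((AdicDecay.universallyInjective_subtype I α Q).comp (LinearEquiv.rTensor Q e).injective)

end Groth.Agent.S2124
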