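import Groth.Statements.S2131

set_option autoImplicit false
universe u
open CAlg

namespace Groth.Agent.S2131

/-- For an `R`-linear map from a finite module to a finitely presented module, the primes at which its
localization is bijective form an open subset of `Spec R`. -/
theorem result {R M N : Type u} [CommRing R] [AddCommGroup M] [Module R M] [Module.Finite R M]
    [AddCommGroup N] [Module R N] [Module.FinitePresentation R N] (φ : M →ₗ[R] N) :
    IsOpen {p : PrimeSpectrum R | Function.Bijective (LocalizedModule.map p.asIdeal.primeCompl φ)} := by
  rw [isOpen_iff_forall_mem_open]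
  intro p hp
  have hp' : Function.Bijective (IsLocalizedModule.map p.asIdeal.primeCompl
      (LocalizedModule.mkLinearMap p.asIdeal.primeCompl M) (LocalizedModule.mkLinearMap p.asIdeal.primeCompl N) φ) := by
    exact hp
  obtain ⟨g, hg, hbij⟩ := Module.FinitePresentation.exists_notMem_bijective φ p.asIdeal _ _ hp'
  refine ⟨PrimeSpectrum.basicOpen g, fun q hq => ?_, (PrimeSpectrum.basicOpen g).2, hg⟩
  have hle : Submonoid.powers g ≤ q.asIdeal.primeCompl := Submonoid.powers_le.mpr hq
  constructor
  · intro a b
    induction a using LocalizedModule.induction_on with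
    | h m s =>
      induction b using LocalizedModule.induction_on with
      | h m' s' =>
        intro hab
        rw [LocalizedModule.map_mk, LocalizedModule.map_mk, LocalizedModule.mk_eq] at hab
        obtain ⟨u, hu⟩ := hab
        have h0 : LocalizedModule.map (Submonoid.powers g) φ (LocalizedModule.mk ((u : R) • (s' : R) • m - (u : R) • (s : R) • m') 1) = 0 := by
          rw [LocalizedModule.map_mk, map_sub, map_smul, map_smul, map_smul, map_smul]
          simp only [Submonoid.smul_def] at hu
          rw [hu, sub_self, LocalizedModule.zero_mk]
        have h1 := hbij.1 (h0.trans (map_zero _).symm)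
        rw [← LocalizedModule.zero_mk (1 : Submonoid.powers g), LocalizedModule.mk_eq] at h1
        obtain ⟨v, hv⟩ := h1
        refine LocalizedModule.mk_eq.mpr ⟨⟨v, hle v.2⟩ * u, ?_⟩
        simp only [one_smul, smul_zero, Submonoid.smul_def, smul_sub, sub_eq_zero] at hv
        simpa [Submonoid.smul_def, mul_smul] using hv
  · intro b
    induction b using LocalizedModule.induction_on with
    | h n s =>
      obtain ⟨z, hz⟩ := hbij.2 (LocalizedModule.mk n 1)
      induction z using LocalizedModule.induction_on with
      | h m t =>
        rw [LocalizedModule.map_mk, LocalizedModule.mk_eq] at hz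
        obtain ⟨v, hv⟩ := hz
        refine ⟨LocalizedModule.mk m (⟨t, hle t.2⟩ * s), ?_⟩
        rw [LocalizedModule.map_mk, LocalizedModule.mk_eq]
        refine ⟨⟨v, hle v.2⟩, ?_⟩
        simp only [Submonoid.smul_def, one_smul] at hv ⊢
        simp only [Submonoid.coe_mul, mul_smul]
        linear_combination (norm := module) (s : R) • hv

end Groth.Agent.S2131
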