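import Groth.Statements.S2132
import Mathlib

set_option autoImplicit false
universe u
open CategoryTheory
open CAlg

namespace Groth.Agent.S2132

/-- Let `F : J ⥤ CommRingCat` be a filtered diagram of henselian local rings with local transition maps
and `c` a colimit cocone. Then the colimit is a henselian local ring. -/
theorem result {J : Type u} [SmallCategory J] [IsFiltered J] (F : J ⥤ CommRingCat.{u})
    (hF : ∀ j, HenselianLocalRing (F.obj j)) (hloc : ∀ (i j : J) (a : i ⟶ j), IsLocalHom (F.map a).hom)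
    (c : Limits.Cocone F) (hc : Limits.IsColimit c) : HenselianLocalRing c.pt := by
  classical
  let π := fun j => (c.ι.app j).hom
  let hd := Limits.isColimitOfPreserves (forget CommRingCat.{u}) hc
  have hw : ∀ {i j : J} (a : i ⟶ j) (x : F.obj i), π j ((F.map a).hom x) = π i x := fun a x =>
    ConcreteCategory.congr_hom (c.w a) x
  have hsurj : ∀ y : c.pt, ∃ j x, π j x = y := fun y =>
    Limits.Types.jointly_surjective_of_isColimit hd y
  have heq : ∀ {j : J} (x x' : F.obj j), π j x = π j x' → ∃ (k : J) (a : j ⟶ k),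
      (F.map a).hom x = (F.map a).hom x' := fun {j} x x' h =>
    (Limits.Types.FilteredColimit.isColimit_eq_iff' hd x x').mp h
  -- the structure maps reflect units
  have hunit : ∀ {j : J} (x : F.obj j), IsUnit (π j x) → IsUnit x := by
    intro j x hx
    obtain ⟨y', hy'⟩ := hx.exists_right_inv
    obtain ⟨i, y, rfl⟩ := hsurj y'
    let k := IsFiltered.max j i
    obtain ⟨l, a, hl⟩ := heq ((F.map (IsFiltered.leftToMax j i)).hom x *
      (F.map (IsFiltered.rightToMax j i)).hom y) 1 (by rw [map_mul, map_one, hw, hw]; exact hy')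
    rw [map_mul, map_one] at hl
    have h1 := IsUnit.of_mul_eq_one _ hl
    haveI := hloc _ _ (IsFiltered.leftToMax j i)
    haveI := hloc _ _ a
    exact IsUnit.of_map (F.map (IsFiltered.leftToMax j i)).hom x (IsUnit.of_map (F.map a).hom _ h1)
  haveI : Nonempty J := IsFiltered.nonempty
  haveI : Nontrivial c.pt := by
    refine ⟨0, 1, fun h01 => ?_⟩
    obtain ⟨j⟩ := ‹Nonempty J›
    obtain ⟨k, a, hk⟩ := heq (0 : F.obj j) 1 (by rw [map_zero, map_one]; exact h01)
    haveI := hF k
    rw [map_zero, map_one] at hk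
    exact zero_ne_one hk
  haveI : IsLocalRing c.pt := by
    refine IsLocalRing.of_is_unit_or_is_unit_of_add_one fun {p q} hpq => ?_
    obtain ⟨i, x, rfl⟩ := hsurj p
    obtain ⟨j, y, rfl⟩ := hsurj q
    obtain ⟨k, a, hk⟩ := heq ((F.map (IsFiltered.leftToMax i j)).hom x +
      (F.map (IsFiltered.rightToMax i j)).hom y) 1 (by rw [map_add, map_one, hw, hw]; exact hpq)
    haveI := hF k
    rw [map_add, map_one] at hk
    rcases IsLocalRing.isUnit_or_isUnit_of_add_one hk with h | h
    · exact Or.inl (by simpa [hw] using h.map (π k))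
    · exact Or.inr (by simpa [hw] using h.map (π k))
  refine { is_henselian := fun f hf a₀ h₁ h₂ => ?_ }
  -- a common stage for the data
  choose idx rep hrep using hsurj
  obtain ⟨j, hj⟩ := IsFiltered.sup_objs_exists ((insert a₀ f.coeffs).image idx)
  have hget : ∀ y ∈ insert a₀ f.coeffs, ∃ x : F.obj j, π j x = y := fun y hy => by
    obtain ⟨a⟩ := hj (Finset.mem_image_of_mem idx hy)
    exact ⟨(F.map a).hom (rep y), (hw a _).trans (hrep y)⟩
  have hl : f ∈ Polynomial.lifts (π j) := by
    rw [Polynomial.lifts_iff_coeff_lifts]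
    intro k
    by_cases hk : f.coeff k = 0
    · exact ⟨0, by rw [hk, map_zero]⟩
    · exact hget _ (Finset.mem_insert_of_mem (Polynomial.coeff_mem_coeffs hk))
  obtain ⟨g, hg, -, hgm⟩ := Polynomial.lifts_and_natDegree_eq_and_monic hl hf
  obtain ⟨x₀, rfl⟩ := hget a₀ (Finset.mem_insert_self _ _)
  haveI := hF j
  have hev : ∀ q : Polynomial (F.obj j), (q.map (π j)).eval (π j x₀) = π j (q.eval x₀) := fun q => by
    rw [Polynomial.eval_map, Polynomial.eval₂_at_apply]
  have hm₁ : g.eval x₀ ∈ IsLocalRing.maximalIdeal (F.obj j) := by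
    intro hu
    apply h₁
    rw [← hg, hev]
    exact hu.map _
  have hm₂ : IsUnit (g.derivative.eval x₀) := hunit _ (by
    rwa [← hev, ← Polynomial.derivative_map, hg])
  obtain ⟨r, hr, hr'⟩ := HenselianLocalRing.is_henselian g hgm x₀ hm₁ hm₂
  refine ⟨π j r, ?_, fun hu => hr' (hunit _ ?_)⟩
  · rw [← hg]
    exact hr.map
  · rwa [map_sub]

end Groth.Agent.S2132
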