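import Groth.Statements.S2133
import Mathlib

set_option autoImplicit false
universe u
open CAlg

namespace Groth.Agent.S2133

/-- Let `R → R'` be an injective ring map of finite type and `g ∈ R` a nonzerodivisor on `R'` such that
every element of `R'` lands in `R` after multiplication by a power of `g` (so `R_g = R'_g`). Then
for every derivation `D` of `R` there is `N` such that `g^N D` extends to a derivation of `R'`. -/
theorem result {R R' : Type u} [CommRing R] [CommRing R'] [Algebra R R'] [Algebra.FiniteType R R']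
    (hinj : Function.Injective (algebraMap R R')) (g : R) (hg : IsSMulRegular R' (algebraMap R R' g))
    (hloc : ∀ x : R', ∃ n : ℕ, (algebraMap R R' g) ^ n * x ∈ Set.range (algebraMap R R')) (D : Derivation ℤ R R) :
    ∃ (N : ℕ) (D' : Derivation ℤ R' R'), ∀ r : R, D' (algebraMap R R' r) = algebraMap R R' (g ^ N * D r) := by
  classical
  let g' : R' := algebraMap R R' g
  let L := Localization.Away g'
  let ι : R' →+* L := algebraMap R' L
  have hι : Function.Injective ι := by
    refine IsLocalization.injective L (M := Submonoid.powers g') ?_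
    rintro _ ⟨n, rfl⟩
    refine mem_nonZeroDivisors_iff_right.mpr fun x hx => (hg.pow n) (?_ : g' ^ n • x = g' ^ n • (0 : R'))
    rw [smul_eq_mul, smul_eq_mul, mul_zero, mul_comm]
    exact hx
  have hgu : IsUnit (ι g') := IsLocalization.Away.algebraMap_isUnit g'
  have hsurj : ∀ z : L, ∃ (n : ℕ) (y : R'), ι g' ^ n * z = ι y := fun z => by
    obtain ⟨⟨y, ⟨_, n, rfl⟩⟩, h⟩ := IsLocalization.surj (Submonoid.powers g') z
    exact ⟨n, y, by rw [← map_pow, mul_comm]; exact h⟩
  haveI : IsLocalization.Away g L :=
    { map_units := fun y => by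
        obtain ⟨_, n, rfl⟩ := y
        rw [IsScalarTower.algebraMap_apply R R' L, map_pow, map_pow]
        exact hgu.pow n
      surj := fun z => by
        obtain ⟨n, y, hy⟩ := hsurj z
        obtain ⟨m, r, hr⟩ := hloc y
        refine ⟨⟨r, ⟨g ^ (n + m), n + m, rfl⟩⟩, ?_⟩
        rw [IsScalarTower.algebraMap_apply R R' L, IsScalarTower.algebraMap_apply R R' L, hr, map_mul, ← hy, map_pow,
          map_pow, map_pow]
        ring
      exists_of_eq := fun {x y} h => ⟨1, by
        rw [IsScalarTower.algebraMap_apply R R' L, IsScalarTower.algebraMap_apply R R' L] at h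
        rw [hinj (hι h)]⟩ }
  let φ : R →+* TrivSqZeroExt L L :=
    { toFun := fun r => (algebraMap R L r, algebraMap R L (D r))
      map_one' := TrivSqZeroExt.ext (map_one _) (by show algebraMap R L (D 1) = 0; rw [D.map_one_eq_zero, map_zero])
      map_mul' := fun a b => TrivSqZeroExt.ext (map_mul _ _ _) (by
        show algebraMap R L (D (a * b)) = _
        rw [D.leibniz, TrivSqZeroExt.snd_mul]
        show _ = algebraMap R L a • algebraMap R L (D b) + MulOpposite.op (algebraMap R L b) • algebraMap R L (D a)
        rw [op_smul_eq_smul]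
        simp [smul_eq_mul])
      map_zero' := TrivSqZeroExt.ext (map_zero _) (by show algebraMap R L (D 0) = 0; rw [map_zero, map_zero])
      map_add' := fun a b => TrivSqZeroExt.ext (map_add _ _ _) (by
        show algebraMap R L (D (a + b)) = _
        rw [map_add, map_add]; rfl) }
  have hu : IsUnit (φ g) := TrivSqZeroExt.isUnit_iff_isUnit_fst.mpr (IsLocalization.Away.algebraMap_isUnit g)
  let Φ : L →+* TrivSqZeroExt L L := IsLocalization.Away.lift g hu
  have hΦ : ∀ r, Φ (algebraMap R L r) = φ r := fun r => IsLocalization.Away.lift_eq g hu r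
  have hfst : ∀ z, (Φ z).fst = z := by
    have : (TrivSqZeroExt.fstHom L L L).toRingHom.comp Φ = RingHom.id L :=
      IsLocalization.ringHom_ext (Submonoid.powers g) (RingHom.ext fun r => by
        show (Φ (algebraMap R L r)).fst = algebraMap R L r
        rw [hΦ]; rfl)
    exact fun z => RingHom.congr_fun this z
  let δ : L → L := fun z => (Φ z).snd
  have δmul : ∀ x y, δ (x * y) = x * δ y + y * δ x := fun x y => by
    simp only [δ, map_mul, TrivSqZeroExt.snd_mul, hfst, op_smul_eq_smul, smul_eq_mul]
  have δadd : ∀ x y, δ (x + y) = δ x + δ y := fun x y => by simp only [δ, map_add, TrivSqZeroExt.snd_add]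
  have δalg : ∀ r, δ (ι (algebraMap R R' r)) = ι (algebraMap R R' (D r)) := fun r => by
    simp only [δ, ι, ← IsScalarTower.algebraMap_apply, hΦ]
    rfl
  obtain ⟨s, hs⟩ := (Algebra.FiniteType.out : (⊤ : Subalgebra R R').FG)
  choose e y hy using fun x : R' => hsurj (δ (ι x))
  let N := s.sup e
  have key : ∀ x : R', ∃ y : R', ι y = ι g' ^ N * δ (ι x) := by
    intro x
    have hx := (SetLike.le_def.mp hs.ge) (Algebra.mem_top (R := R) (x := x))
    induction hx using Algebra.adjoin_induction with
    | mem x hx =>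
      obtain ⟨d, hd⟩ := Nat.exists_eq_add_of_le (Finset.le_sup (f := e) (Finset.mem_coe.mp hx))
      refine ⟨g' ^ d * y x, ?_⟩
      rw [map_mul, ← hy x, map_pow, show N = e x + d from hd, pow_add]
      ring
    | algebraMap r => exact ⟨g' ^ N * algebraMap R R' (D r), by rw [δalg, map_mul, map_pow]⟩
    | add a b _ _ ha hb =>
      obtain ⟨u, hu⟩ := ha
      obtain ⟨v, hv⟩ := hb
      exact ⟨u + v, by rw [map_add, map_add, δadd, hu, hv]; ring⟩
    | mul a b _ _ ha hb =>
      obtain ⟨u, hu⟩ := ha
      obtain ⟨v, hv⟩ := hb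
      exact ⟨a * v + b * u, by rw [map_mul, δmul, map_add, map_mul, map_mul, hu, hv]; ring⟩
  choose D₀ hD₀ using key
  let Dl : R' →ₗ[ℤ] R' := (AddMonoidHom.mk' D₀ fun a b => hι (by rw [map_add, hD₀, hD₀, hD₀, map_add, δadd]; ring)).toIntLinearMap
  refine ⟨N, Derivation.mk' Dl fun a b => ?_, fun r => ?_⟩
  · show D₀ (a * b) = a • D₀ b + b • D₀ a
    refine hι ?_
    rw [smul_eq_mul, smul_eq_mul, map_add, map_mul, map_mul, hD₀, hD₀, hD₀, map_mul, δmul]
    ring
  · show D₀ (algebraMap R R' r) = _
    refine hι ?_
    rw [hD₀, δalg, map_mul, map_mul, map_pow, map_pow]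

end Groth.Agent.S2133
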