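import Groth.Statements.S2134
import Mathlib

set_option autoImplicit false
universe u
open CAlg

namespace Groth.Agent.S2134

/-- Let `K/k` be a field extension and `(K_α)` a nonempty family of intermediate fields, directed
downwards, with intersection `k`. For a `K`-subspace `V` of `K^n` (`n ≥ 1`), `V` contains a nonzero
vector with all coordinates in `k` if and only if for every `α` it contains a nonzero vector with
all coordinates in `K_α`. -/
theorem result {k K : Type u} [Field k] [Field K] [Algebra k K] {ι : Type u} [Nonempty ι]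
    (F : ι → IntermediateField k K) (hdir : ∀ a b : ι, ∃ c, F c ≤ F a ⊓ F b) (hinf : ⨅ a, F a = ⊥) (n : ℕ) (hn : 1 ≤ n)
    (V : Submodule K (Fin n → K)) :
    (∃ v ∈ V, v ≠ 0 ∧ ∀ i, v i ∈ Set.range (algebraMap k K)) ↔
      ∀ a, ∃ v ∈ V, v ≠ 0 ∧ ∀ i, v i ∈ F a := by
  classical
  constructor
  · rintro ⟨v, hv, hv0, hk⟩ a
    exact ⟨v, hv, hv0, fun i => by obtain ⟨c, hc⟩ := hk i; exact hc ▸ (F a).algebraMap_mem c⟩
  intro H
  let supp : (Fin n → K) → Finset (Fin n) := fun v => Finset.univ.filter fun i => v i ≠ 0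
  let P : ι → Finset (Finset (Fin n)) := fun a => Finset.univ.filter fun T =>
    ∃ v ∈ V, v ≠ 0 ∧ (∀ i, v i ∈ F a) ∧ supp v = T
  have hmem : ∀ {a T}, T ∈ P a ↔ ∃ v ∈ V, v ≠ 0 ∧ (∀ i, v i ∈ F a) ∧ supp v = T := by simp [P]
  have hmono : ∀ {a b}, F a ≤ F b → P a ⊆ P b := fun {a b} hab T hT => by
    obtain ⟨v, h1, h2, h3, h4⟩ := hmem.mp hT
    exact hmem.mpr ⟨v, h1, h2, fun i => hab (h3 i), h4⟩
  -- an index at which the possible supports are stable
  obtain ⟨a0, ha0⟩ : ∃ a0, ∀ a, (P a0).card ≤ (P a).card :=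
    ⟨Function.argmin (fun a => (P a).card), fun a => Function.argmin_le (fun a => (P a).card) a⟩
  obtain ⟨v0, hv0V, hv00, hv0F⟩ := H a0
  obtain ⟨T, hT, hTmin⟩ := (P a0).exists_min_image Finset.card ⟨supp v0, hmem.mpr ⟨v0, hv0V, hv00, hv0F, rfl⟩⟩
  obtain ⟨v, hvV, hv, hvF, hvT⟩ := hmem.mp hT
  obtain ⟨i0, hi0⟩ : ∃ i, v i ≠ 0 := Function.ne_iff.mp hv
  let w := (v i0)⁻¹ • v
  have hw1 : w i0 = 1 := inv_mul_cancel₀ hi0
  have hwF : ∀ j, w j ∈ F a0 := fun j => mul_mem (inv_mem (hvF i0)) (hvF j)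
  refine ⟨w, V.smul_mem _ hvV, fun h => one_ne_zero ((hw1.symm.trans (congrFun h i0))), fun i => ?_⟩
  suffices ∀ a, w i ∈ F a by
    have hbot : w i ∈ (⊥ : IntermediateField k K) := hinf ▸ (le_iInf fun a => IntermediateField.adjoin_le_iff.mpr (Set.singleton_subset_iff.mpr (this a))) (IntermediateField.mem_adjoin_simple_self k (w i))
    exact IntermediateField.mem_bot.mp hbot
  intro a
  obtain ⟨c, hc⟩ := hdir a a0
  have hPc : P c = P a0 := Finset.eq_of_subset_of_card_le (hmono (hc.trans inf_le_right)) (ha0 c)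
  obtain ⟨x, hxV, hx0, hxF, hxT⟩ := hmem.mp (hPc ▸ hT : T ∈ P c)
  have hxi : x i0 ≠ 0 := by
    have h1 : i0 ∈ supp v := by simp [supp, hi0]
    rw [hvT, ← hxT] at h1
    simpa [supp] using h1
  let y := (x i0)⁻¹ • x
  have hyF : ∀ j, y j ∈ F c := fun j => mul_mem (inv_mem (hxF i0)) (hxF j)
  have hyw : y = w := by
    by_contra hne
    have hsub : y - w ≠ 0 := sub_ne_zero.mpr hne
    have hP : supp (y - w) ∈ P a0 := hmem.mpr ⟨y - w, V.sub_mem (V.smul_mem _ hxV) (V.smul_mem _ hvV), hsub,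
      fun j => sub_mem ((hc.trans inf_le_right) (hyF j)) (hwF j), rfl⟩
    have hlt : (supp (y - w)).card < T.card := by
      refine Finset.card_lt_card ⟨fun j hj => ?_, fun hsup => ?_⟩
      · by_contra hjT
        have h1 : v j = 0 := by
          by_contra h
          exact hjT (hvT ▸ (by simp [supp, h]))
        have h2 : x j = 0 := by
          by_contra h
          exact hjT (hxT ▸ (by simp [supp, h]))
        simp [supp, y, w, h1, h2] at hj
      · have h1 : i0 ∈ supp (y - w) := hsup (hvT ▸ (by simp [supp, hi0]))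
        simp [supp, y, w, hxi, hi0] at h1
    exact absurd (hTmin _ hP) (not_le.mpr hlt)
  rw [← hyw]
  exact (hc.trans inf_le_left) (hyF i)
end Groth.Agent.S2134
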