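import Groth.Statements.S2136
import Groth.Agent.Unibranch.Unram
-- import your own Groth.Agent.* helpers here

set_option autoImplicit false
universe u
open CAlg

namespace Groth.Agent.S2136

/-- Let `A` be a domain, `A → B` a ring map of finite type, and `𝔮` a prime of `B` lying over `𝔭 ⊆ A`,
with `A_𝔭` geometrically unibranch, `A → B` unramified at `𝔮` and `A_𝔭 → B_𝔮` injective. Then `B_g`
is étale over `A` for some `g ∉ 𝔮`. (`B` is assumed of finite type over `A` throughout; the
published statement needs this only after inverting an element outside `𝔮`.) -/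
theorem result {A B : Type u} [CommRing A] [IsDomain A] [CommRing B]
    [Algebra A B] (q : Ideal B) [q.IsPrime] (p : Ideal A) [p.IsPrime] [q.LiesOver p]
    (hA : CAlg2.IsGeomUnibranch (Localization.AtPrime p)) [Algebra.FiniteType A B] [Algebra.IsUnramifiedAt A q]
    (hinj : Function.Injective (Localization.localRingHom p q (algebraMap A B) (q.over_def p))) :
    ∃ g : B, g ∉ q ∧ Algebra.Etale A (Localization.Away g) := by
  classical
  obtain ⟨Q, hQ, hQb⟩ := Ideal.exists_comap_eq_of_mem_minimalPrimes_of_injective hinj
    (⊥ : Ideal (Localization.AtPrime p)) (by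
      rw [IsDomain.minimalPrimes_eq_singleton_bot]; rfl)
  haveI := hQ
  have hP : ((Q.comap (algebraMap B (Localization.AtPrime q))).comap (algebraMap A B)) = ⊥ := by
    have h1 : (Localization.localRingHom p q (algebraMap A B) (q.over_def p)).comp
        (algebraMap A (Localization.AtPrime p)) =
        (algebraMap B (Localization.AtPrime q)).comp (algebraMap A B) := by
      ext a
      simp [Localization.localRingHom_to_map]
    rw [Ideal.comap_comap, ← h1, ← Ideal.comap_comap, hQb]
    exact (RingHom.injective_iff_ker_eq_bot _).mp (IsLocalization.injective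
      (Localization.AtPrime p) p.primeCompl_le_nonZeroDivisors)
  have hPq : Q.comap (algebraMap B (Localization.AtPrime q)) ≤ q :=
    (Ideal.comap_mono (IsLocalRing.le_maximalIdeal hQ.ne_top)).trans
      (le_of_eq (Localization.AtPrime.comap_maximalIdeal (I := q)))
  have hpq : p = q.comap (algebraMap A B) := q.over_def p
  subst hpq
  exact Unibranch.exists_etale_away q (Localization.AtPrime (q.comap (algebraMap A B))) hA _ hPq hP

end Groth.Agent.S2136
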