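import Groth.Statements.S2138
import Mathlib


set_option autoImplicit false
universe u
open CAlg

namespace Groth.Agent.S2138

open TensorProduct in
/-- On the base change to a flat algebra `S` of a torsion-free `R ⧸ p`-module, an element of `S` outside the
prime `pS` is a nonzerodivisor. -/
lemma smul_eq_zero_of_torsionFree {R S : Type u} [CommRing R] [CommRing S] [Algebra R S] [Module.Flat R S]
    (p : Ideal R) [p.IsPrime] [(p.map (algebraMap R S)).IsPrime]
    (T : Type u) [AddCommGroup T] [Module R T] [Module (R ⧸ p) T] [IsScalarTower R (R ⧸ p) T]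
    (htf : ∀ (a : R ⧸ p) (x : T), a • x = 0 → a = 0 ∨ x = 0)
    {t : S} (ht : t ∉ p.map (algebraMap R S)) (w : S ⊗[R] T) (hw : t • w = 0) : w = 0 := by
  classical
  let A := R ⧸ p
  let K := FractionRing A
  let V := LocalizedModule (nonZeroDivisors A) T
  -- the localization map
  let ι : T →ₗ[R] V := (LocalizedModule.mkLinearMap (nonZeroDivisors A) T).restrictScalars R
  have hι : Function.Injective ι := by
    rw [injective_iff_map_eq_zero]
    intro x hx
    obtain ⟨⟨a, ha⟩, hax⟩ := (IsLocalizedModule.eq_zero_iff (nonZeroDivisors A)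
      (LocalizedModule.mkLinearMap (nonZeroDivisors A) T)).1 hx
    exact (htf a x hax).resolve_left (nonZeroDivisors.ne_zero ha)
  apply Module.Flat.lTensor_preserves_injective_linearMap (M := S) ι hι
  rw [map_zero]
  -- the statement for `V`, a direct sum of copies of `K`
  let b := Module.Free.chooseBasis K V
  let e : S ⊗[R] V ≃ₗ[S] Module.Free.ChooseBasisIndex K V →₀ S ⊗[R] K :=
    (AlgebraTensorModule.congr (.refl S S) (b.repr.restrictScalars R)).trans
      (TensorProduct.finsuppRight R S S K _)
  have hw' : t • ι.lTensor S w = 0 := by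
    change t • (AlgebraTensorModule.lTensor S S ι) w = 0
    rw [← map_smul, hw, map_zero]
  apply e.injective
  rw [map_zero]
  ext i
  have hi : t • (e (ι.lTensor S w)) i = 0 := by
    rw [← Finsupp.smul_apply, ← map_smul, hw', map_zero, Finsupp.zero_apply]
  generalize (e (ι.lTensor S w)) i = z at hi ⊢
  -- the statement for `K`
  let j : A →ₗ[R] K := (IsScalarTower.toAlgHom R A K).toLinearMap
  have hj : Function.Injective j := IsFractionRing.injective A K
  have key : ∀ z : S ⊗[R] K, ∃ (a : R) (u : S ⊗[R] A), a ∉ p ∧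
      AlgebraTensorModule.lTensor S S j u = a • z := by
    intro z
    induction z using TensorProduct.induction_on with
    | zero => exact ⟨1, 0, p.ne_top_iff_one.1 ‹p.IsPrime›.ne_top, by simp⟩
    | tmul s k =>
      obtain ⟨x, ⟨y, hy⟩, rfl⟩ := IsLocalization.exists_mk'_eq (nonZeroDivisors A) k
      obtain ⟨a, rfl⟩ := Ideal.Quotient.mk_surjective y
      refine ⟨a, s ⊗ₜ x, fun h => nonZeroDivisors.ne_zero hy (Ideal.Quotient.eq_zero_iff_mem.2 h), ?_⟩
      rw [AlgebraTensorModule.lTensor_tmul, ← TensorProduct.tmul_smul]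
      congr 1
      rw [Algebra.smul_def, IsScalarTower.algebraMap_apply R A K]
      exact (IsLocalization.mk'_spec' K x ⟨_, hy⟩).symm
    | add z₁ z₂ h₁ h₂ =>
      obtain ⟨a₁, u₁, ha₁, e₁⟩ := h₁
      obtain ⟨a₂, u₂, ha₂, e₂⟩ := h₂
      refine ⟨a₁ * a₂, a₂ • u₁ + a₁ • u₂, fun h => (‹p.IsPrime›.mem_or_mem h).elim ha₁ ha₂, ?_⟩
      rw [map_add, LinearMap.map_smul_of_tower, LinearMap.map_smul_of_tower, e₁, e₂, smul_add, smul_smul,
        smul_smul, mul_comm a₁ a₂]
  obtain ⟨a, u, ha, hu⟩ := key z
  have hu0 : u = 0 := by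
    have h1 : t • u = 0 := by
      apply Module.Flat.lTensor_preserves_injective_linearMap (M := S) j hj
      change AlgebraTensorModule.lTensor S S j (t • u) = AlgebraTensorModule.lTensor S S j 0
      rw [map_smul, hu, smul_comm, hi, smul_zero, map_zero]
    let e₁ := (Algebra.TensorProduct.quotIdealMapEquivTensorQuot S p).toLinearEquiv
    have h2 : t • e₁.symm u = 0 := by rw [← map_smul, h1, map_zero]
    rw [Algebra.smul_def, mul_eq_zero] at h2
    rcases h2 with h2 | h2
    · exact absurd (Ideal.Quotient.eq_zero_iff_mem.1 h2) ht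
    · simpa using congrArg e₁ h2
  rw [hu0, map_zero] at hu
  have hak : IsUnit (algebraMap R K a) := by
    rw [IsScalarTower.algebraMap_apply R A K]
    refine Ne.isUnit (fun h => ha ?_)
    exact Ideal.Quotient.eq_zero_iff_mem.1 (IsFractionRing.injective A K (h.trans (map_zero _).symm))
  obtain ⟨c, hc⟩ := hak.exists_left_inv
  -- `a` is invertible on `S ⊗ K`
  have hinv : ∀ z : S ⊗[R] K, LinearMap.lTensor S ((LinearMap.mulLeft R c)) (a • z) = z := by
    intro z
    induction z using TensorProduct.induction_on with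
    | zero => simp
    | tmul s k =>
      rw [← TensorProduct.tmul_smul, LinearMap.lTensor_tmul, LinearMap.mulLeft_apply, Algebra.smul_def,
        ← mul_assoc, hc, one_mul]
    | add z₁ z₂ h₁ h₂ => rw [smul_add, map_add, h₁, h₂]
  rw [Finsupp.zero_apply, ← hinv z, ← hu, map_zero]


/-- Let `R → S` be flat and `𝔭` a prime of `R` whose extension `𝔮 = 𝔭S` is prime. Then for every `n` the
extension to `S` of the symbolic power `𝔭^{(n)}` (the contraction of `𝔭ⁿR_𝔭`) equals the symbolic
power `𝔮^{(n)}`. -/
theorem result {R S : Type u} [CommRing R] [CommRing S] [Algebra R S] [Module.Flat R S]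
    (p : Ideal R) [p.IsPrime] [(p.map (algebraMap R S)).IsPrime] (n : ℕ) :
    (((p ^ n).map (algebraMap R (Localization.AtPrime p))).comap (algebraMap R (Localization.AtPrime p))).map
        (algebraMap R S) =
      (((p.map (algebraMap R S)) ^ n).map (algebraMap S (Localization.AtPrime (p.map (algebraMap R S))))).comap
        (algebraMap S (Localization.AtPrime (p.map (algebraMap R S)))) := by
  classical
  set q := p.map (algebraMap R S)
  set Rp := Localization.AtPrime p
  set Sq := Localization.AtPrime q
  let L : ℕ → Ideal R := fun k => ((p ^ k).map (algebraMap R Rp)).comap (algebraMap R Rp)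
  have hL : ∀ k a, a ∈ L k ↔ ∃ s ∉ p, s * a ∈ p ^ k := by
    intro k a
    simp only [L, Ideal.mem_comap]
    rw [IsLocalization.algebraMap_mem_map_algebraMap_iff p.primeCompl]
    simp [Ideal.primeCompl, Submonoid.mem_mk]
  have hq : q.comap (algebraMap R S) = p := by
    refine le_antisymm ?_ Ideal.le_comap_map
    set p' := q.comap (algebraMap R S)
    have : q.LiesOver p' := ⟨rfl⟩
    obtain ⟨P, hPq, hPp, hlo⟩ :=
      Ideal.exists_ideal_le_liesOver_of_le (S := S) q (p := p) (q := p') Ideal.le_comap_map
    have : q ≤ P := Ideal.map_le_iff_le_comap.2 (by rw [hlo.over])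
    rw [hlo.over, Ideal.under_def]
    exact Ideal.comap_mono this
  -- elements outside `q` are nonzerodivisors modulo the extended symbolic powers
  have key : ∀ k (x : S) (t : S), t ∉ q → t * x ∈ (L k).map (algebraMap R S) →
      x ∈ (L k).map (algebraMap R S) := by
    intro k
    induction k with
    | zero =>
      intro x t _ _
      simp [L, Ideal.map_top]
    | succ k ih =>
      intro x t ht htx
      have hsucc : L (k + 1) ≤ L k := fun a ha => by
        obtain ⟨s, hs, hsa⟩ := (hL _ a).1 ha
        exact (hL _ a).2 ⟨s, hs, Ideal.pow_le_pow_right (Nat.le_succ k) hsa⟩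
      have hx : x ∈ (L k).map (algebraMap R S) := ih x t ht (Ideal.map_mono hsucc htx)
      let N : Submodule R (L k) := Submodule.comap (L k).subtype (L (k + 1))
      let T := (L k) ⧸ N
      have htors : Module.IsTorsionBySet R T p := by
        rintro y ⟨r, hr⟩
        obtain ⟨⟨a, ha⟩, rfl⟩ := Submodule.Quotient.mk_surjective _ y
        rw [← Submodule.Quotient.mk_smul, Submodule.Quotient.mk_eq_zero]
        obtain ⟨s, hs, hsa⟩ := (hL _ a).1 ha
        refine (hL _ _).2 ⟨s, hs, ?_⟩
        change s * (r * a) ∈ _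
        rw [pow_succ', mul_left_comm]
        exact Ideal.mul_mem_mul hr hsa
      let : Module (R ⧸ p) T := htors.module
      have : IsScalarTower R (R ⧸ p) T := htors.isScalarTower
      have htf : ∀ (a : R ⧸ p) (y : T), a • y = 0 → a = 0 ∨ y = 0 := by
        intro a y h
        obtain ⟨r, rfl⟩ := Ideal.Quotient.mk_surjective a
        obtain ⟨⟨a, ha⟩, rfl⟩ := Submodule.Quotient.mk_surjective _ y
        by_cases hr : r ∈ p
        · exact .inl (Ideal.Quotient.eq_zero_iff_mem.2 hr)
        right
        change r • Submodule.Quotient.mk (p := N) ⟨a, ha⟩ = 0 at h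
        rw [← Submodule.Quotient.mk_smul, Submodule.Quotient.mk_eq_zero] at h
        rw [Submodule.Quotient.mk_eq_zero]
        obtain ⟨s, hs, hsa⟩ := (hL _ _).1 (h : r * a ∈ L (k + 1))
        refine (hL _ a).2 ⟨s * r, fun h => (‹p.IsPrime›.mem_or_mem h).elim hs hr, ?_⟩
        rwa [mul_assoc]
      -- `S ⊗ I → S` and its image
      let μ : ∀ I : Ideal R, TensorProduct R S I →ₗ[S] S := fun I =>
        (TensorProduct.AlgebraTensorModule.rid R S S).toLinearMap ∘ₗ
          TensorProduct.AlgebraTensorModule.lTensor S S I.subtype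
      have hμ : ∀ I : Ideal R, Function.Injective (μ I) := fun I =>
        (TensorProduct.AlgebraTensorModule.rid R S S).injective.comp
          (Module.Flat.lTensor_preserves_injective_linearMap (M := S) I.subtype I.subtype_injective)
      have hμt : ∀ (I : Ideal R) (s : S) (a : I), μ I (s ⊗ₜ a) = (a : R) • s := fun I s a => by simp [μ]
      have hμr : ∀ (I : Ideal R) (y : S), y ∈ I.map (algebraMap R S) → ∃ z, μ I z = y := by
        intro I y hy
        have : I.map (algebraMap R S) ≤ LinearMap.range (μ I) := Ideal.map_le_iff_le_comap.2 fun a ha =>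
          ⟨1 ⊗ₜ ⟨a, ha⟩, by rw [hμt]; simp [Algebra.smul_def]⟩
        exact this hy
      obtain ⟨z, rfl⟩ := hμr _ x hx
      obtain ⟨v, hv⟩ := hμr _ _ htx
      let inc : L (k + 1) →ₗ[R] L k := Submodule.inclusion hsucc
      let π : L k →ₗ[R] T := N.mkQ
      have hcomp : ∀ v, μ (L k) (inc.lTensor S v) = μ (L (k + 1)) v := by
        intro v
        induction v using TensorProduct.induction_on with
        | zero => simp
        | tmul s a => rw [LinearMap.lTensor_tmul, hμt, hμt]; rfl
        | add a b ha hb => simp only [map_add, ha, hb]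
      have hex : Function.Exact inc π := by
        intro y
        rw [Submodule.mkQ_apply, Submodule.Quotient.mk_eq_zero]
        exact ⟨fun h => ⟨⟨y, h⟩, rfl⟩, by rintro ⟨w, rfl⟩; exact w.2⟩
      have hex' := lTensor_exact S hex N.mkQ_surjective
      have htz : inc.lTensor S v = t • z := hμ _ (by rw [hcomp, hv, map_smul, smul_eq_mul])
      have h0 : π.lTensor S z = 0 := by
        refine smul_eq_zero_of_torsionFree p T htf ht _ ?_
        change t • TensorProduct.AlgebraTensorModule.lTensor S S π z = 0
        rw [← map_smul, ← htz]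
        exact (hex' _).2 ⟨v, rfl⟩
      obtain ⟨w, rfl⟩ := (hex' z).1 h0
      rw [hcomp]
      clear hv htx hx htz h0
      induction w using TensorProduct.induction_on with
      | zero => simp
      | tmul s a =>
        rw [hμt, Algebra.smul_def]
        exact Ideal.mul_mem_right _ _ (Ideal.mem_map_of_mem _ a.2)
      | add a b ha hb => rw [map_add]; exact add_mem ha hb
  refine le_antisymm ?_ ?_
  · refine Ideal.map_le_iff_le_comap.2 fun a ha => ?_
    obtain ⟨s, hs, hsa⟩ := (hL n a).1 ha
    rw [Ideal.mem_comap, Ideal.mem_comap, IsLocalization.algebraMap_mem_map_algebraMap_iff q.primeCompl]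
    refine ⟨algebraMap R S s, fun h => hs (hq ▸ (h : algebraMap R S s ∈ q)), ?_⟩
    rw [← map_mul, ← Ideal.map_pow]
    exact Ideal.mem_map_of_mem _ hsa
  · intro x hx
    rw [Ideal.mem_comap, IsLocalization.algebraMap_mem_map_algebraMap_iff q.primeCompl] at hx
    obtain ⟨t, ht, htx⟩ := hx
    refine key n x t ht ?_
    rw [← Ideal.map_pow] at htx
    exact Ideal.map_mono (fun a ha => (hL n a).2 ⟨1, p.ne_top_iff_one.1 ‹p.IsPrime›.ne_top, by rwa [one_mul]⟩) htx

end Groth.Agent.S2138
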