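import Groth.Statements.S2140
import Groth.Agent.GenFree.Algebra

set_option autoImplicit false
universe u
open CAlg

namespace Groth.Agent.S2140

/-- Let `R → S` be an injective ring map of finite type between domains. Then there are nonzero `f ∈ R`
and `g ∈ S` such that `S_{fg}` is a finitely presented `R_f`-algebra. -/
theorem result {R S : Type u} [CommRing R] [IsDomain R] [CommRing S] [IsDomain S]
    [Algebra R S] [Algebra.FiniteType R S] (hinj : Function.Injective (algebraMap R S)) :
    ∃ (f : R) (g : S), f ≠ 0 ∧ g ≠ 0 ∧
      ∀ (Rf Sfg : Type u) [CommRing Rf] [CommRing Sfg] [Algebra R Rf] [IsLocalization.Away f Rf]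
        [Algebra S Sfg] [IsLocalization.Away (algebraMap R S f * g) Sfg] [Algebra Rf Sfg] [Algebra R Sfg]
        [IsScalarTower R S Sfg] [IsScalarTower R Rf Sfg], Algebra.FinitePresentation Rf Sfg := by
  obtain ⟨f, -, hf, -, hfp⟩ := Groth.Agent.GenFree.exists_algebra (R := R) (S := S) (one_ne_zero (α := R))
  refine ⟨f, 1, hf, one_ne_zero, fun Rf Sfg _ _ _ _ _ _ _ _ _ _ => ?_⟩
  let e₀ : Localization.Away f ≃ₐ[R] Rf := IsLocalization.algEquiv (.powers f) _ _
  letI : Algebra (Localization.Away f) Sfg :=
    ((algebraMap Rf Sfg).comp e₀.toRingEquiv.toRingHom).toAlgebra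
  haveI : IsScalarTower R (Localization.Away f) Sfg := .of_algebraMap_eq fun r => by
    show algebraMap R Sfg r = algebraMap Rf Sfg (e₀ (algebraMap R _ r))
    rw [e₀.commutes, ← IsScalarTower.algebraMap_apply]
  haveI : IsLocalization (Algebra.algebraMapSubmonoid S (Submonoid.powers f)) Sfg := by
    rw [show Algebra.algebraMapSubmonoid S (Submonoid.powers f) =
      Submonoid.powers (algebraMap R S f * 1) from
        (Submonoid.map_powers (algebraMap R S) f).trans (by rw [mul_one])]
    assumption
  haveI : Algebra.IsPushout R (Localization.Away f) S Sfg :=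
    ((Algebra.isLocalization_iff_isPushout (.powers f) (Localization.Away f)).mp ‹_›).symm
  haveI : Algebra.FinitePresentation (Localization.Away f) Sfg :=
    Algebra.FinitePresentation.equiv (Algebra.IsPushout.equiv R (Localization.Away f) S Sfg)
  have h : ((algebraMap Rf Sfg).comp e₀.toRingEquiv.toRingHom).FinitePresentation := ‹_›
  have h2 := h.comp (RingHom.FinitePresentation.of_surjective e₀.symm.toRingEquiv.toRingHom
    e₀.symm.surjective (by
      rw [show RingHom.ker e₀.symm.toRingEquiv.toRingHom = ⊥ from
        (RingHom.injective_iff_ker_eq_bot e₀.symm.toRingEquiv.toRingHom).mp e₀.symm.injective]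
      exact Submodule.fg_bot))
  have h3 : (algebraMap Rf Sfg).FinitePresentation := by
    convert h2
    ext x
    simp
  exact RingHom.finitePresentation_algebraMap.mp h3

end Groth.Agent.S2140
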