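import Groth.Statements.S2143
import Groth.Agent.DimFormulaLib.LocalDim
-- import your own Groth.Agent.* helpers here

set_option autoImplicit false
universe u
open CAlg

namespace Groth.Agent.S2143

/-- (1) = (3): let `S` be of finite type over a field `k` and `𝔭` a prime of `S`. The local dimension of
`Spec S` at `𝔭` is the infimum of `dim S_𝔪` over the maximal ideals `𝔪 ⊇ 𝔭`. -/
theorem result {k S : Type u} [Field k] [CommRing S] [Algebra k S] [Algebra.FiniteType k S]
    (p : Ideal S) [p.IsPrime] :
    FlatMor.localDim (PrimeSpectrum S) ⟨p, inferInstance⟩ =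
      ⨅ m : {m : Ideal S // m.IsMaximal ∧ p ≤ m}, ringKrullDim (Localization.AtPrime (hp := m.2.1.isPrime') m.1) := by
  obtain ⟨r, hr⟩ := Groth.Agent.DimFormulaLib.exists_nat_trdeg_quotient k S p
  obtain ⟨a, -, hd, hm⟩ := Groth.Agent.DimFormulaLib.localDim_eq_height_add k S ⟨p, inferInstance⟩ r hr
  exact hd.trans hm.symm

end Groth.Agent.S2143
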