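import Groth.Statements.S2144
import Groth.Agent.QFCoverLib.Model

set_option autoImplicit false
universe u
open CAlg

namespace Groth.Agent.S2144
open Groth.Agent.QFCoverLib TensorProduct


open TensorProduct in
/-- Let `R → A → B` be ring maps with `A → B` faithfully flat and of finite presentation. Then there are
an `R`-algebra `A₀` of finite presentation mapping to `A` and a faithfully flat finitely presented
`A₀`-algebra `B₀` with `B ≅ A ⊗_{A₀} B₀` as `A`-algebras. -/
theorem result {R A B : Type u} [CommRing R] [CommRing A] [CommRing B] [Algebra R A]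
    [Algebra A B] [Algebra.FinitePresentation A B] [Module.FaithfullyFlat A B] :
    ∃ (A₀ B₀ : Type u) (_ : CommRing A₀) (_ : CommRing B₀) (_ : Algebra R A₀) (_ : Algebra A₀ A) (_ : IsScalarTower R A₀ A)
      (_ : Algebra A₀ B₀), Algebra.FinitePresentation R A₀ ∧ Algebra.FinitePresentation A₀ B₀ ∧ Module.FaithfullyFlat A₀ B₀ ∧
      Nonempty (B ≃ₐ[A] A ⊗[A₀] B₀) := by
  obtain ⟨A₂, B₂, _, _, hA₂, hfp, hff, ⟨e⟩⟩ := exists_faithfullyFlat_model A B
  haveI : Algebra.FiniteType ℤ A₂ := (Subalgebra.fg_iff_finiteType A₂).1 hA₂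
  haveI : Algebra.FinitePresentation ℤ A₂ := Algebra.FinitePresentation.of_finiteType.mp inferInstance
  let A₀ := R ⊗[ℤ] A₂
  let φ : A₀ →ₐ[R] A := Algebra.TensorProduct.lift (Algebra.ofId R A) A₂.val fun _ _ => .all _ _
  letI algA : Algebra A₀ A := φ.toRingHom.toAlgebra
  letI algA₂ : Algebra A₂ A₀ := (Algebra.TensorProduct.includeRight : A₂ →ₐ[ℤ] R ⊗[ℤ] A₂).toRingHom.toAlgebra
  haveI : IsScalarTower R A₀ A := .of_algebraMap_eq fun r => (φ.commutes r).symm
  haveI : IsScalarTower A₂ A₀ A := .of_algebraMap_eq fun a => by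
    show (a : A) = Algebra.TensorProduct.lift (Algebra.ofId R A) A₂.val (fun _ _ => .all _ _) ((1 : R) ⊗ₜ[ℤ] a)
    rw [Algebra.TensorProduct.lift_tmul, map_one, one_mul]
    rfl
  exact ⟨A₀, A₀ ⊗[A₂] B₂, inferInstance, inferInstance, inferInstance, algA, inferInstance, inferInstance,
    inferInstance, inferInstance, inferInstance,
    ⟨e.trans (Algebra.TensorProduct.cancelBaseChange A₂ A₀ A A B₂).symm⟩⟩

end Groth.Agent.S2144
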