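import Groth.Statements.S2146
import Mathlib

set_option autoImplicit false
universe u
open CAlg

namespace Groth.Agent.S2146
/-- An algebra isomorphic to the base at a prime maps back to a localization of the base, and the
resulting augmentation has idempotent kernel after further localization. -/
theorem exists_retraction {R S : Type u} [CommRing R] [CommRing S] [Algebra R S]
    [Algebra.FinitePresentation R S] (q : Ideal S) [q.IsPrime] (p : Ideal R) [p.IsPrime] [q.LiesOver p]
    (h : Function.Bijective (Localization.localRingHom p q (algebraMap R S) (q.over_def p))) :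
    ∃ (f : R) (n : ℕ) (π : MvPolynomial (Fin n) R →ₐ[R] S) (σ : S →ₐ[R] Localization.Away f)
      (c : S) (a b : Fin n → R), f ∉ p ∧ Function.Surjective π ∧ (∀ j, b j ∣ f) ∧
      IsUnit (σ c) ∧ ∀ j, c * (algebraMap R S (b j) * π (MvPolynomial.X j) - algebraMap R S (a j)) = 0 := by
  classical
  obtain ⟨n, π, hπ, G, hG⟩ := Algebra.FinitePresentation.out (R := R) (A := S)
  have hj : ∀ x : S, ∃ a b, b ∉ p ∧ ∃ c ∉ q, c * (algebraMap R S b * x - algebraMap R S a) = 0 := by
    intro x
    obtain ⟨z, hz⟩ := h.2 (algebraMap S _ x)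
    obtain ⟨a, ⟨b, hb⟩, rfl⟩ := IsLocalization.exists_mk'_eq p.primeCompl z
    rw [Localization.localRingHom_mk', IsLocalization.mk'_eq_iff_eq_mul, ← map_mul,
      IsLocalization.eq_iff_exists q.primeCompl] at hz
    obtain ⟨⟨c, hc⟩, hcx⟩ := hz
    exact ⟨a, b, hb, c, hc, by rw [mul_sub, sub_eq_zero]; exact (by rw [hcx, mul_comm x])⟩
  choose a b hb c hc hcx using fun j => hj (π (MvPolynomial.X j))
  let L := Localization.AtPrime p
  let Φ : L ≃+* Localization.AtPrime q :=
    RingEquiv.ofBijective (Localization.localRingHom p q (algebraMap R S) (q.over_def p)) h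
  let τ : S →+* L := Φ.symm.toRingHom.comp (algebraMap S _)
  have hτR : ∀ r, τ (algebraMap R S r) = algebraMap R L r := fun r => by
    apply Φ.injective
    show Φ (Φ.symm _) = _
    rw [Φ.apply_symm_apply]
    exact (Localization.localRingHom_to_map p q _ (q.over_def p) r).symm
  have hτX : ∀ j, τ (π (MvPolynomial.X j)) = IsLocalization.mk' L (a j) ⟨b j, hb j⟩ := fun j => by
    apply Φ.injective
    show Φ (Φ.symm _) = Localization.localRingHom p q (algebraMap R S) (q.over_def p) _
    rw [Φ.apply_symm_apply, Localization.localRingHom_mk', IsLocalization.eq_mk'_iff_mul_eq,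
      ← map_mul, IsLocalization.eq_iff_exists q.primeCompl]
    refine ⟨⟨c j, hc j⟩, ?_⟩
    have := hcx j
    rw [mul_sub, sub_eq_zero, mul_comm (algebraMap R S (b j))] at this
    exact this
  -- first localization: the images of the generators
  let B := ∏ j, b j
  have hB : B ∉ p := (p.primeCompl.prod_mem fun j _ => hb j : B ∈ p.primeCompl)
  let LB := Localization.Away B
  have hbB : ∀ j, IsUnit (algebraMap R LB (b j)) := fun j =>
    isUnit_of_dvd_unit (map_dvd _ (Finset.dvd_prod_of_mem b (Finset.mem_univ j)))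
      (IsLocalization.Away.algebraMap_isUnit B)
  let θ : MvPolynomial (Fin n) R →ₐ[R] LB :=
    MvPolynomial.aeval fun j => algebraMap R LB (a j) * (hbB j).unit⁻¹.1
  have hBu : IsUnit (algebraMap R L B) := IsLocalization.map_units (M := p.primeCompl) L ⟨B, hB⟩
  let toL : LB →+* L := IsLocalization.Away.lift B hBu
  have htoL : ∀ r, toL (algebraMap R LB r) = algebraMap R L r := fun r =>
    IsLocalization.Away.lift_eq B hBu r
  have hθ : ∀ g, toL (θ g) = τ (π g) := by
    intro g
    suffices hh : toL.comp θ.toRingHom = τ.comp π.toRingHom from RingHom.congr_fun hh g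
    refine MvPolynomial.ringHom_ext (fun r => ?_) fun j => ?_
    · show toL (θ (MvPolynomial.C r)) = τ (π (MvPolynomial.C r))
      rw [← MvPolynomial.algebraMap_eq, θ.commutes, π.commutes, hτR, htoL]
    · show toL (θ (MvPolynomial.X j)) = τ (π (MvPolynomial.X j))
      rw [hτX, MvPolynomial.aeval_X, IsLocalization.eq_mk'_iff_mul_eq, ← htoL, ← htoL, ← map_mul]
      congr 1
      rw [mul_assoc, IsUnit.val_inv_mul, mul_one]
  have hrel : ∀ g : G, ∃ t ∉ p, algebraMap R LB t * θ g = 0 := fun g => by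
    obtain ⟨r, ⟨_, k, rfl⟩, hr⟩ := IsLocalization.exists_mk'_eq (.powers B) (θ (g : MvPolynomial (Fin n) R))
    have h0 : toL (θ (g : MvPolynomial (Fin n) R)) = 0 := by
      rw [hθ, show π (g : MvPolynomial (Fin n) R) = 0 from hG.le (Ideal.subset_span g.2), map_zero]
    have h1 : algebraMap R L r = 0 := by
      rw [← htoL, ← IsLocalization.mk'_spec LB r (⟨B ^ k, k, rfl⟩ : Submonoid.powers B), hr, map_mul, h0, zero_mul]
    obtain ⟨⟨t, ht⟩, htr⟩ := (IsLocalization.map_eq_zero_iff p.primeCompl L r).mp h1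
    refine ⟨t, ht, ?_⟩
    rw [← hr, IsLocalization.mul_mk'_eq_mk'_of_mul]
    rw [show t * r = 0 from htr, IsLocalization.mk'_zero]
  choose t ht htg using hrel
  let f₁ := B * ∏ g, t g
  have hf₁ : f₁ ∉ p := p.primeCompl.mul_mem hB (p.primeCompl.prod_mem fun g _ => ht g)
  let L₁ := Localization.Away f₁
  have hu₁ : IsUnit (algebraMap R L₁ B) := isUnit_of_dvd_unit
    (map_dvd _ (dvd_mul_right B _)) (IsLocalization.Away.algebraMap_isUnit f₁)
  let up : LB →ₐ[R] L₁ :=
    { IsLocalization.Away.lift B hu₁ with commutes' := fun r => IsLocalization.Away.lift_eq B hu₁ r }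
  have hker : ∀ g ∈ RingHom.ker π, up (θ g) = 0 := by
    have hle : Ideal.span (G : Set (MvPolynomial (Fin n) R)) ≤ RingHom.ker (up.comp θ) := by
      rw [Ideal.span_le]
      intro g hg
      have h1 : algebraMap R L₁ (t ⟨g, hg⟩) * up (θ g) = 0 := by
        rw [← up.commutes, ← map_mul, htg ⟨g, hg⟩, map_zero]
      exact (IsUnit.mul_right_eq_zero (isUnit_of_dvd_unit
        (map_dvd _ ((Finset.dvd_prod_of_mem t (Finset.mem_univ (⟨g, hg⟩ : G))).trans
          (dvd_mul_left _ B))) (IsLocalization.Away.algebraMap_isUnit f₁))).mp h1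
    intro g hg
    exact hle (hG.ge hg)
  let e := Ideal.quotientKerAlgEquivOfSurjective hπ
  let σ₁ : S →ₐ[R] L₁ := (Ideal.Quotient.liftₐ _ (up.comp θ) hker).comp e.symm.toAlgHom
  have hσ₁ : ∀ g, σ₁ (π g) = up (θ g) := fun g => by
    show Ideal.Quotient.liftₐ _ (up.comp θ) hker (e.symm (π g)) = _
    rw [show e.symm (π g) = Ideal.Quotient.mk _ g from (e.symm_apply_eq).mpr rfl]
    rfl
  have hu₁' : IsUnit (algebraMap R L f₁) := IsLocalization.map_units (M := p.primeCompl) L ⟨f₁, hf₁⟩
  let toL₁ : L₁ →+* L := IsLocalization.Away.lift f₁ hu₁'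
  have hσL : ∀ s, toL₁ (σ₁ s) = τ s := fun s => by
    obtain ⟨g, rfl⟩ := hπ s
    rw [hσ₁, ← hθ]
    suffices hh : toL₁.comp up.toRingHom = toL from RingHom.congr_fun hh _
    refine IsLocalization.ringHom_ext (.powers B) (RingHom.ext fun r => ?_)
    show toL₁ (up (algebraMap R LB r)) = toL (algebraMap R LB r)
    rw [up.commutes, htoL]
    exact IsLocalization.Away.lift_eq f₁ hu₁' r
  -- make the annihilator invertible
  let C := ∏ j, c j
  have hC : C ∉ q := (q.primeCompl.prod_mem fun j _ => hc j : C ∈ q.primeCompl)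
  obtain ⟨d, ⟨_, k, rfl⟩, hd⟩ := IsLocalization.exists_mk'_eq (.powers f₁) (σ₁ C)
  have hdp : d ∉ p := by
    intro hmem
    have h1 : IsUnit (τ C) := (IsLocalization.map_units (M := q.primeCompl) _ ⟨C, hC⟩).map Φ.symm
    have h2 : τ C * algebraMap R L (f₁ ^ k) = algebraMap R L d := by
      rw [← hσL, ← IsLocalization.Away.lift_eq (S := L₁) f₁ hu₁' (f₁ ^ k), ← map_mul, ← hd,
        IsLocalization.mk'_spec]
      exact IsLocalization.Away.lift_eq f₁ hu₁' d
    have h3 : IsUnit (algebraMap R L d) := by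
      rw [← h2]
      exact h1.mul (IsLocalization.map_units (M := p.primeCompl) L ⟨f₁ ^ k, p.primeCompl.pow_mem hf₁ k⟩)
    exact (IsLocalization.AtPrime.isUnit_to_map_iff L p d).mp h3 hmem
  have hu₂ : IsUnit (algebraMap R (Localization.Away (f₁ * d)) f₁) := isUnit_of_dvd_unit
    (map_dvd _ (dvd_mul_right f₁ d)) (IsLocalization.Away.algebraMap_isUnit (f₁ * d))
  let up₂ : L₁ →ₐ[R] Localization.Away (f₁ * d) :=
    { IsLocalization.Away.lift f₁ hu₂ with commutes' := fun r => IsLocalization.Away.lift_eq f₁ hu₂ r }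
  refine ⟨f₁ * d, n, π, up₂.comp σ₁, C, a, b, p.primeCompl.mul_mem hf₁ hdp, hπ,
    fun j => ((Finset.dvd_prod_of_mem b (Finset.mem_univ j)).trans (dvd_mul_right B _)).trans
      (dvd_mul_right f₁ d), ?_, fun j => ?_⟩
  · have h2 : up₂ (σ₁ C) * algebraMap R _ (f₁ ^ k) = algebraMap R _ d := by
      rw [← up₂.commutes, ← map_mul, ← hd, IsLocalization.mk'_spec, up₂.commutes]
    exact isUnit_of_mul_isUnit_left (h2 ▸ isUnit_of_dvd_unit (map_dvd _ (dvd_mul_left d f₁))
      (IsLocalization.Away.algebraMap_isUnit (f₁ * d)))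
  · obtain ⟨e', he'⟩ := Finset.dvd_prod_of_mem c (Finset.mem_univ j)
    show C * _ = 0
    rw [show C = c j * e' from he', mul_right_comm, hcx j, zero_mul]



/-- Let `S` be a finitely presented `R`-algebra and `𝔮` a prime of `S` over `𝔭` such that the induced
map `R_𝔭 → S_𝔮` is bijective. Then for some `f ∉ 𝔭` there is an `R_f`-algebra `C` with `S_f ≅ R_f ×
C` as `R_f`-algebras. -/
theorem result {R S : Type u} [CommRing R] [CommRing S] [Algebra R S]
    [Algebra.FinitePresentation R S] (q : Ideal S) [q.IsPrime] (p : Ideal R) [p.IsPrime] [q.LiesOver p]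
    (h : Function.Bijective (Localization.localRingHom p q (algebraMap R S) (q.over_def p))) :
    ∃ f : R, f ∉ p ∧ ∀ (Rf Sf : Type u) [CommRing Rf] [CommRing Sf] [Algebra R Rf] [IsLocalization.Away f Rf]
      [Algebra S Sf] [IsLocalization.Away (algebraMap R S f) Sf] [Algebra Rf Sf] [Algebra R Sf] [IsScalarTower R S Sf]
      [IsScalarTower R Rf Sf],
      ∃ (C : Type u) (_ : CommRing C) (_ : Algebra Rf C), Nonempty (Sf ≃ₐ[Rf] (Rf × C)) := by
  obtain ⟨f, n, π, σ, c, a, b, hfp, hπ, hbf, hcu, hcx⟩ := exists_retraction q p h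
  refine ⟨f, hfp, fun Rf Sf _ _ _ _ _ _ _ _ _ _ => ?_⟩
  let e₀ : Localization.Away f ≃ₐ[R] Rf := IsLocalization.algEquiv (.powers f) _ _
  let σr : S →+* Rf := (e₀.toAlgHom.comp σ).toRingHom
  have hσR : ∀ r, σr (algebraMap R S r) = algebraMap R Rf r := fun r => (e₀.toAlgHom.comp σ).commutes r
  have hu : IsUnit (σr (algebraMap R S f)) := by
    rw [hσR]; exact IsLocalization.Away.algebraMap_isUnit f
  let σ' : Sf →+* Rf := IsLocalization.Away.lift (algebraMap R S f) hu
  have hσ' : ∀ s, σ' (algebraMap S Sf s) = σr s := fun s => IsLocalization.Away.lift_eq _ hu s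
  have hσ'R : ∀ r, σ' (algebraMap Rf Sf r) = r := by
    intro r
    suffices hh : σ'.comp (algebraMap Rf Sf) = RingHom.id Rf from RingHom.congr_fun hh r
    refine IsLocalization.ringHom_ext (.powers f) (RingHom.ext fun x => ?_)
    show σ' (algebraMap Rf Sf (algebraMap R Rf x)) = algebraMap R Rf x
    rw [← IsScalarTower.algebraMap_apply, IsScalarTower.algebraMap_apply R S Sf, hσ', hσR]
  let x : Fin n → Sf := fun j =>
    algebraMap S Sf (algebraMap R S (b j) * π (MvPolynomial.X j) - algebraMap R S (a j))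
  have hcx' : ∀ j, algebraMap S Sf c * x j = 0 := fun j => by rw [← map_mul, hcx j, map_zero]
  let K : Ideal Sf := Ideal.span (Set.range x)
  have hxK : ∀ j, σ' (x j) = 0 := fun j => by
    have hu' : IsUnit (σ' (algebraMap S Sf c)) := by
      rw [hσ']; exact hcu.map e₀
    refine (IsUnit.mul_right_eq_zero hu').mp ?_
    rw [← map_mul, hcx' j, map_zero]
  have hbu : ∀ j, IsUnit (algebraMap R Rf (b j)) := fun j =>
    isUnit_of_dvd_unit (map_dvd _ (hbf j)) (IsLocalization.Away.algebraMap_isUnit f)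
  have hdec : ∀ s : S, ∃ r : Rf, algebraMap S Sf s - algebraMap Rf Sf r ∈ K := by
    intro s
    obtain ⟨g, rfl⟩ := hπ s
    induction g using MvPolynomial.induction_on with
    | C r =>
      refine ⟨algebraMap R Rf r, ?_⟩
      rw [← MvPolynomial.algebraMap_eq, π.commutes, ← IsScalarTower.algebraMap_apply,
        ← IsScalarTower.algebraMap_apply, sub_self]
      exact zero_mem _
    | add u v hu hv =>
      obtain ⟨r₁, h₁⟩ := hu
      obtain ⟨r₂, h₂⟩ := hv
      refine ⟨r₁ + r₂, ?_⟩
      have := add_mem h₁ h₂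
      rw [map_add, map_add, map_add]
      convert this using 1
      ring
    | mul_X u j hu =>
      obtain ⟨r, hr⟩ := hu
      refine ⟨r * (algebraMap R Rf (a j) * (hbu j).unit⁻¹.1), ?_⟩
      rw [map_mul, map_mul, map_mul]
      have h1 : algebraMap Rf Sf (algebraMap R Rf (b j)) * algebraMap Rf Sf (hbu j).unit⁻¹.1 = 1 := by
        rw [← map_mul, IsUnit.mul_val_inv, map_one]
      have h2 : x j = algebraMap Rf Sf (algebraMap R Rf (b j)) * algebraMap S Sf (π (MvPolynomial.X j)) -
          algebraMap Rf Sf (algebraMap R Rf (a j)) := by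
        simp [x, ← IsScalarTower.algebraMap_apply]
      have := add_mem (K.mul_mem_right (algebraMap S Sf (π (MvPolynomial.X j))) hr)
        (K.mul_mem_left (algebraMap Rf Sf r * algebraMap Rf Sf (hbu j).unit⁻¹.1)
          (Ideal.subset_span ⟨j, rfl⟩ : x j ∈ K))
      convert this using 1
      rw [h2, mul_sub]
      simp only [map_mul]
      linear_combination (-(algebraMap Rf Sf r * algebraMap S Sf (π (MvPolynomial.X j)))) * h1
  have hK : ∀ z, σ' z = 0 → z ∈ K := by
    intro z hz
    obtain ⟨s, ⟨_, k, rfl⟩, rfl⟩ := IsLocalization.exists_mk'_eq (.powers (algebraMap R S f)) z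
    obtain ⟨r, hr⟩ := hdec s
    have h0 : σ' (algebraMap S Sf s) = 0 := by
      rw [← IsLocalization.mk'_spec Sf s (⟨algebraMap R S f ^ k, k, rfl⟩ : Submonoid.powers (algebraMap R S f)), map_mul, hz, zero_mul]
    have hK0 : ∀ y ∈ K, σ' y = 0 := fun y hy => by
      have : K ≤ RingHom.ker σ' := Ideal.span_le.mpr (by rintro _ ⟨j, rfl⟩; exact hxK j)
      exact this hy
    have hr0 : r = 0 := by
      have := hK0 _ hr
      rwa [map_sub, h0, hσ'R, zero_sub, neg_eq_zero] at this
    rw [hr0, map_zero, sub_zero] at hr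
    rw [IsLocalization.mk'_eq_mul_mk'_one]
    exact K.mul_mem_right _ hr
  have hK0 : ∀ y ∈ K, σ' y = 0 := fun y hy => by
    have : K ≤ RingHom.ker σ' := Ideal.span_le.mpr (by rintro _ ⟨j, rfl⟩; exact hxK j)
    exact this hy
  have hidem : IsIdempotentElem K := by
    refine le_antisymm Ideal.mul_le_right ?_
    rw [Ideal.span_le]
    rintro _ ⟨j, rfl⟩
    have hu' : IsUnit (σ' (algebraMap S Sf c)) := by
      rw [hσ']; exact hcu.map e₀
    have h1 : algebraMap S Sf c - algebraMap Rf Sf (σ' (algebraMap S Sf c)) ∈ K :=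
      hK _ (by rw [map_sub, hσ'R, sub_self])
    have h2 : x j = -(algebraMap Rf Sf hu'.unit⁻¹.1) *
        ((algebraMap S Sf c - algebraMap Rf Sf (σ' (algebraMap S Sf c))) * x j) := by
      rw [sub_mul, hcx' j, zero_sub, neg_mul_neg, ← mul_assoc, ← map_mul, IsUnit.val_inv_mul,
        map_one, one_mul]
    rw [SetLike.mem_coe, h2]
    exact Ideal.mul_mem_left _ _ (Ideal.mul_mem_mul h1 (Ideal.subset_span ⟨j, rfl⟩))
  obtain ⟨ε, hε, hKε⟩ := (Ideal.isIdempotentElem_iff_of_fg K
    (Submodule.fg_span (Set.finite_range x))).mp hidem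
  let σa : Sf →ₐ[Rf] Rf := { σ' with commutes' := hσ'R }
  let Φ : Sf →ₐ[Rf] Rf × (Sf ⧸ Ideal.span {1 - ε}) := AlgHom.prod σa (Ideal.Quotient.mkₐ Rf _)
  refine ⟨Sf ⧸ Ideal.span {1 - ε}, inferInstance, inferInstance,
    ⟨AlgEquiv.ofBijective Φ ⟨(injective_iff_map_eq_zero _).mpr fun z hz => ?_, fun ⟨r, y⟩ => ?_⟩⟩⟩
  · have h1 : σ' z = 0 := congrArg Prod.fst hz
    have h2 : Ideal.Quotient.mk (Ideal.span {1 - ε}) z = 0 := congrArg Prod.snd hz
    obtain ⟨u, hu⟩ := Ideal.mem_span_singleton.mp (Ideal.Quotient.eq_zero_iff_mem.mp h2)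
    have h3 : z ∈ Ideal.span {ε} := by
      have h4 := hK z h1
      rw [hKε] at h4
      exact h4
    obtain ⟨v, hv⟩ := Ideal.mem_span_singleton.mp h3
    have hεe : ε * ε = ε := hε
    calc z = ε * z := by rw [hv, ← mul_assoc, hεe]
      _ = 0 := by rw [hu, ← mul_assoc, mul_sub, mul_one, hεe, sub_self, zero_mul]
  · obtain ⟨y, rfl⟩ := Ideal.Quotient.mk_surjective y
    have hσε : σ' ε = 0 := hK0 _ (by rw [hKε]; exact Ideal.mem_span_singleton_self ε)
    refine ⟨(1 - ε) * algebraMap Rf Sf r + ε * y, Prod.ext ?_ ?_⟩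
    · show σ' _ = r
      rw [map_add, map_mul, map_mul, map_sub, map_one, hσε, hσ'R]
      ring
    · show Ideal.Quotient.mk _ _ = Ideal.Quotient.mk _ y
      rw [Ideal.Quotient.eq, Ideal.mem_span_singleton]
      exact ⟨algebraMap Rf Sf r - y, by ring⟩

end Groth.Agent.S2146
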