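import Groth.Statements.S2149


set_option autoImplicit false
universe u
open CAlg

namespace Groth.Agent.S2149
open scoped TensorProduct

/-- Let `R → S` be a ring map and `u : M → M'` a map of `S`-modules. Then `u`, viewed as an `R`-linear
map, is universally injective exactly when, for every maximal ideal `𝔪` of `S`, the localized map
`M_𝔪 → M'_𝔪` is also universally injective as an `R`-linear map. -/
theorem result {R S M M' : Type u} [CommRing R] [CommRing S] [Algebra R S]
    [AddCommGroup M] [Module S M] [Module R M] [IsScalarTower R S M] [AddCommGroup M'] [Module S M'] [Module R M']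
    [IsScalarTower R S M'] (u : M →ₗ[S] M') :
    CAlgX.UniversallyInjective R (u.restrictScalars R) ↔
      ∀ (m : Ideal S) [m.IsMaximal],
        CAlgX.UniversallyInjective R ((LocalizedModule.map m.primeCompl u).restrictScalars R) := by
  have hc : ∀ (m : Ideal S) [m.IsMaximal] (Q : Type u) [AddCommGroup Q] [Module R Q] (z : M ⊗[R] Q),
      ((LocalizedModule.map m.primeCompl u).restrictScalars R).rTensor Q
        (((LocalizedModule.mkLinearMap m.primeCompl M).restrictScalars R).rTensor Q z) =
      ((LocalizedModule.mkLinearMap m.primeCompl M').restrictScalars R).rTensor Q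
        ((u.restrictScalars R).rTensor Q z) := by
    intro m _ Q _ _ z
    induction z using TensorProduct.induction_on with
    | zero => simp
    | add a b ha hb => simp only [map_add, ha, hb]
    | tmul a q => simp [LocalizedModule.map_mk]
  refine ⟨fun h m hm Q _ _ ↦ ?_, fun h Q _ _ ↦ ?_⟩
  · rw [injective_iff_map_eq_zero]
    intro y hy
    let gM := TensorProduct.AlgebraTensorModule.rTensor R Q (LocalizedModule.mkLinearMap m.primeCompl M)
    obtain ⟨⟨z, s⟩, hz⟩ := IsLocalizedModule.surj m.primeCompl gM y
    have hgz : gM z = (s : S) • y := hz.symm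
    have h1 : ((LocalizedModule.mkLinearMap m.primeCompl M').restrictScalars R).rTensor Q
        ((u.restrictScalars R).rTensor Q z) = 0 := by
      rw [← hc m Q z]
      change ((LocalizedModule.map m.primeCompl u).restrictScalars R).rTensor Q (gM z) = 0
      rw [hgz]
      change TensorProduct.AlgebraTensorModule.rTensor R Q
        ((LocalizedModule.map m.primeCompl u).restrictScalars S) ((s : S) • y) = 0
      rw [map_smul]
      change (s : S) • ((LocalizedModule.map m.primeCompl u).restrictScalars R).rTensor Q y = 0
      rw [hy, smul_zero]
    obtain ⟨t, ht⟩ := (IsLocalizedModule.eq_zero_iff m.primeCompl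
      (TensorProduct.AlgebraTensorModule.rTensor R Q (LocalizedModule.mkLinearMap m.primeCompl M'))).1 h1
    have h2 : (t : S) • z = 0 := by
      apply h Q
      rw [map_zero]
      change TensorProduct.AlgebraTensorModule.rTensor R Q u ((t : S) • z) = 0
      rw [map_smul]
      exact ht
    have h3 : (t * s : m.primeCompl) • y = 0 := by
      rw [Submonoid.smul_def, Submonoid.coe_mul, mul_smul, ← hgz, ← map_smul, h2, map_zero]
    exact IsLocalizedModule.smul_injective gM (t * s) (h3.trans (smul_zero _).symm)
  · rw [injective_iff_map_eq_zero]
    intro z hz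
    by_contra hne
    have htop : LinearMap.ker (LinearMap.toSpanSingleton S _ z) ≠ ⊤ := fun hh ↦ hne (by
      have h1 : (1 : S) ∈ LinearMap.ker (LinearMap.toSpanSingleton S _ z) := hh ▸ Submodule.mem_top
      simpa using h1)
    obtain ⟨m, hm, hle⟩ := Ideal.exists_le_maximal _ htop
    have h1 : TensorProduct.AlgebraTensorModule.rTensor R Q
        (LocalizedModule.mkLinearMap m.primeCompl M) z = 0 := by
      apply h m Q
      rw [map_zero]
      exact (hc m Q z).trans (by rw [hz, map_zero])
    obtain ⟨t, ht⟩ := (IsLocalizedModule.eq_zero_iff m.primeCompl _).1 h1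
    exact t.2 (hle (show (t : S) • z = 0 from ht))

end Groth.Agent.S2149
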