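import Groth.Statements.S2154
import Groth.Agent.AffLim.DescendConst

set_option autoImplicit false
universe u
open CategoryTheory AlgebraicGeometry
open Lim

namespace Groth.Agent.S2154

/-- Let `S` be quasi-compact and quasi-separated and `X = lim X_i` a cofiltered limit of quasi-compact
quasi-separated `S`-schemes locally of finite type over `S`, with finite transition morphisms. If `X
→ S` is integral then `X_i → S` is finite for all `i` beyond some index. -/
theorem result {I : Type u} [SmallCategory I] [IsCofiltered I] (S : Scheme.{u}) [CompactSpace S]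
    [QuasiSeparatedSpace S] (D : I ⥤ Over S) (c : Limits.Cone D) (hc : Limits.IsLimit c)
    [∀ (i j : I) (f : i ⟶ j), IsFinite (D.map f).left] [∀ i, CompactSpace (D.obj i).left]
    [∀ i, QuasiSeparatedSpace (D.obj i).left] [∀ i, LocallyOfFiniteType (D.obj i).hom] [IsIntegralHom c.pt.hom] :
    ∃ i₀ : I, ∀ (i : I) (_ : i ⟶ i₀), IsFinite (D.obj i).hom := by
  have := IsCofiltered.isConnected I
  obtain ⟨j⟩ := (inferInstance : Nonempty I)
  let t : D ⋙ Over.forget S ⟶ (Functor.const I).obj S :=
    { app := fun i => (D.obj i).hom
      naturality := fun i k a => by simp }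
  have : ∀ {i k : I} (a : i ⟶ k), IsAffineHom ((D ⋙ Over.forget S).map a) := fun a => by
    dsimp; infer_instance
  have : ∀ i, CompactSpace ((D ⋙ Over.forget S).obj i) := fun i =>
    inferInstanceAs (CompactSpace (D.obj i).left)
  have : ∀ i, QuasiSeparatedSpace ((D ⋙ Over.forget S).obj i) := fun i =>
    inferInstanceAs (QuasiSeparatedSpace (D.obj i).left)
  have : ∀ i, LocallyOfFiniteType (t.app i) := fun i =>
    inferInstanceAs (LocallyOfFiniteType (D.obj i).hom)
  have : IsIntegralHom (((Over.forget S).mapCone c).π.app j ≫ t.app j) := by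
    show IsIntegralHom ((c.π.app j).left ≫ (D.obj j).hom)
    rw [Over.w (c.π.app j)]; exact ‹IsIntegralHom c.pt.hom›
  exact AffLim.exists_isFinite_const t ((Over.forget S).mapCone c)
    (Limits.isLimitOfPreserves _ hc) j (fun a => by dsimp; infer_instance)

end Groth.Agent.S2154
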