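import Groth.Statements.S2157
import Groth.Agent.TildePullback.Conormal
import Mathlib

set_option autoImplicit false
set_option backward.isDefEq.respectTransparency false
universe u
open CategoryTheory AlgebraicGeometry
open Mor

namespace Groth.Agent.S2157

/-- For a ring map `R → A`, the sheaf of differentials of `Spec A → Spec R`, defined as the conormal
sheaf of the diagonal, is isomorphic as an `O_{Spec A}`-module to the sheaf associated with the
module of Kähler differentials `Ω_{A/R}` (the source also pins the isomorphism down by compatibility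
with the universal derivations, which is not restated here). -/
theorem result (R A : Type u) [CommRing R] [CommRing A] [Algebra R A] :
    Nonempty (Omega.sheaf (Spec.map (CommRingCat.ofHom (algebraMap R A))) ≅
      tilde (R := CommRingCat.of A) (ModuleCat.of A (Ω[A⁄R]))) := by
  let π : CommRingCat.of (TensorProduct R A A) ⟶ CommRingCat.of A :=
    CommRingCat.ofHom (Algebra.TensorProduct.lmul' R : TensorProduct R A A →ₐ[R] A).toRingHom
  have hπ : Function.Surjective π := fun a => ⟨a ⊗ₜ 1, by simp [π]⟩
  haveI : IsClosedImmersion (Spec.map π) := IsClosedImmersion.spec_of_surjective π hπ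
  have key : ∀ (t : TensorProduct R A A) (ω : (KaehlerDifferential.ideal R A).Cotangent),
      t • ω = ((π t : A) • (show Ω[A⁄R] from ω) : Ω[A⁄R]) := by
    intro t ω
    obtain ⟨x, rfl⟩ := (KaehlerDifferential.ideal R A).toCotangent_surjective ω
    have h0 : (t - algebraMap A (TensorProduct R A A) (π t : A)) • (KaehlerDifferential.ideal R A).toCotangent x = 0 := by
      refine (map_smul (KaehlerDifferential.ideal R A).toCotangent _ x).symm.trans ?_
      refine (Ideal.toCotangent_eq_zero _ _).mpr ?_
      rw [pow_two]
      refine Ideal.mul_mem_mul ?_ x.2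
      change π (t - algebraMap A (TensorProduct R A A) (π t : A)) = 0
      simp [π]
    rw [sub_smul, sub_eq_zero] at h0
    refine h0.trans ?_
    exact IsScalarTower.algebraMap_smul (TensorProduct R A A) (π t : A)
      (show Ω[A⁄R] from (KaehlerDifferential.ideal R A).toCotangent x)
  letI alg : Algebra (TensorProduct R A A) A := π.hom.toAlgebra
  let e₀ : TensorProduct (TensorProduct R A A) A (RingHom.ker π.hom) ≃ₗ[TensorProduct R A A] (KaehlerDifferential.ideal R A).Cotangent :=
    TensorProduct.congr
      ((LinearMap.quotKerEquivOfSurjective (Algebra.linearMap (TensorProduct R A A) A) hπ).symm.trans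
        (Submodule.quotEquivOfEq _ (RingHom.ker π.hom) rfl)) (LinearEquiv.refl (TensorProduct R A A) _) ≪≫ₗ
      TensorProduct.quotTensorEquivQuotSMul (RingHom.ker π.hom) (RingHom.ker π.hom)
  let e : TensorProduct (TensorProduct R A A) A (RingHom.ker π.hom) ≃ₗ[A] Ω[A⁄R] :=
    { toFun := fun z => e₀ z
      invFun := fun ω => e₀.symm ω
      left_inv := fun z => e₀.symm_apply_apply z
      right_inv := fun ω => e₀.apply_symm_apply ω
      map_add' := fun y z => map_add e₀ y z
      map_smul' := fun a z => by
        obtain ⟨t, rfl⟩ := hπ a
        change e₀ (algebraMap (TensorProduct R A A) A t • z) = _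
        rw [IsScalarTower.algebraMap_smul, map_smul, key]
        rfl }
  have hΔ := diagonal_SpecMap R A
  refine ⟨eqToIso (congrArg Omega.conormal hΔ) ≪≫
    Groth.Agent.TildePullback.conormalCompIso (Spec.map π) (pullbackSpecIso R A A).inv ≪≫
    (Scheme.Modules.pullback (Spec.map π)).mapIso (Groth.Agent.TildePullback.kerTildeIso π) ≪≫
    (Groth.Agent.TildePullback.tildePullbackIso π).app _ ≪≫
    (tilde.functor (CommRingCat.of A)).mapIso ?_⟩
  exact LinearEquiv.toModuleIso
    (X₁ := (ModuleCat.extendScalars.{u, u, u} π.hom).obj (ModuleCat.of (TensorProduct R A A) (RingHom.ker π.hom)))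
    (X₂ := ModuleCat.of A (Ω[A⁄R])) e

end Groth.Agent.S2157
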