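import Groth.Statements.S2160
import Groth.Agent.CAlgBasics.DimOne

set_option autoImplicit false
universe u
open CAlg

namespace Groth.Agent.S2160

/-- Let `R` be a Noetherian local domain of Krull dimension at least `2`. Then every nonempty open
subset of `Spec R` is infinite. -/
theorem result {R : Type u} [CommRing R] [IsDomain R] [IsLocalRing R] [IsNoetherianRing R]
    (hdim : 2 ≤ ringKrullDim R) (U : Set (PrimeSpectrum R)) (hU : IsOpen U) (hne : U.Nonempty) : U.Infinite := by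
  intro hfin
  obtain ⟨V, hV, hne', hVU⟩ : ∃ f : R, f ≠ 0 ∧ True ∧ (PrimeSpectrum.basicOpen f : Set (PrimeSpectrum R)) ⊆ U := by
    obtain ⟨x, hx⟩ := hne
    obtain ⟨_, ⟨f, rfl⟩, hxf, hsub⟩ := PrimeSpectrum.isTopologicalBasis_basic_opens.exists_subset_of_mem_open hx hU
    exact ⟨f, fun h => by simp [h] at hxf, trivial, hsub⟩
  classical
  have hg : ∀ q : PrimeSpectrum R, q.asIdeal ≠ ⊥ → ∃ g ∈ q.asIdeal, g ≠ 0 := fun q h => Submodule.exists_mem_ne_zero_of_ne_bot h
  choose G hG hG' using hg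
  let T := (hfin.subset hVU).toFinset.filter (fun q => q.asIdeal ≠ ⊥)
  have key := Groth.Agent.CAlgBasics.ringKrullDim_le_one_of_forall_mem (V * ∏ q : T, G q.1 (Finset.mem_filter.mp q.2).2)
    (mul_ne_zero hV (Finset.prod_ne_zero_iff.mpr fun q _ => hG' q.1 _)) (fun q hq hq0 => by
      by_cases hVq : V ∈ q
      · exact Ideal.mul_mem_right _ _ hVq
      · refine Ideal.mul_mem_left _ _ ?_
        refine hq.prod_mem_iff.mpr ⟨⟨⟨q, hq⟩, Finset.mem_filter.mpr ⟨(Set.Finite.mem_toFinset _).mpr hVq, hq0⟩⟩, Finset.mem_univ _, ?_⟩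
        exact hG ⟨q, hq⟩ hq0)
  exact absurd (hdim.trans key) (by simp)

end Groth.Agent.S2160
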