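import Groth.Statements.S2161
import Mathlib
import Groth.Agent.RadicialLib.Basic

set_option autoImplicit false
universe u
open CAlg

namespace Groth.Agent.S2161

/-- Let R → S be a ring map whose kernel consists of nilpotent elements, and suppose S is generated as
an R-algebra by elements x for which some power (T − x)ⁿ, n > 0, is the image of a polynomial over
R. Then Spec S → Spec R is a homeomorphism, and for every prime 𝔮 of S over 𝔭 the extension
κ(𝔮)/κ(𝔭) is purely inseparable. -/
theorem result {R S : Type u} [CommRing R] [CommRing S] [Algebra R S]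
    (hker : ∀ r : R, algebraMap R S r = 0 → IsNilpotent r) (G : Set S) (hG : Algebra.adjoin R G = ⊤)
    (hpow : ∀ x ∈ G, ∃ (n : ℕ) (P : Polynomial R), 0 < n ∧
      Polynomial.map (algebraMap R S) P = (Polynomial.X - Polynomial.C x) ^ n) :
    IsHomeomorph (PrimeSpectrum.comap (algebraMap R S)) ∧
      ∀ (q : Ideal S) [q.IsPrime] (p : Ideal R) [p.IsPrime] [q.LiesOver p],
        @IsPurelyInseparable p.ResidueField q.ResidueField _ _
          (Ideal.ResidueField.mapₐ p q (Algebra.ofId R S) (q.over_def p)).toRingHom.toAlgebra := by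
  have hepi : Groth.Agent.RadicialLib.FieldEpi R S :=
    Groth.Agent.RadicialLib.fieldEpi_of_adjoin G hG fun x hx K _ f g hfg => by
      obtain ⟨n, P, hn, hP⟩ := hpow x hx
      have h1 := congrArg (Polynomial.map f) hP
      have h2 := congrArg (Polynomial.map g) hP
      simp only [Polynomial.map_map, Polynomial.map_pow, Polynomial.map_sub, Polynomial.map_X, Polynomial.map_C] at h1 h2
      rw [hfg] at h1
      have h3 := congrArg (Polynomial.eval (f x)) (h1.symm.trans h2)
      simp only [Polynomial.eval_pow, Polynomial.eval_sub, Polynomial.eval_X, Polynomial.eval_C, sub_self, zero_pow hn.ne'] at h3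
      exact sub_eq_zero.mp (pow_eq_zero_iff hn.ne' |>.mp h3.symm)
  haveI : Algebra.IsIntegral R S := by
    refine ⟨fun s => ?_⟩
    have hs : s ∈ Algebra.adjoin R G := hG ▸ trivial
    refine (Algebra.adjoin_le (S := integralClosure R S) ?_ hs : s ∈ integralClosure R S)
    intro x hx
    obtain ⟨n, P, hn, hP⟩ := hpow x hx
    refine ⟨Polynomial.X ^ n + ∑ i ∈ Finset.range n, Polynomial.C (P.coeff i) * Polynomial.X ^ i, ?_, ?_⟩
    · refine Polynomial.monic_X_pow_add ?_
      exact (Polynomial.degree_sum_le _ _).trans_lt ((Finset.sup_lt_iff (WithBot.bot_lt_coe n)).mpr fun i hi =>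
        (Polynomial.degree_C_mul_X_pow_le i _).trans_lt (WithBot.coe_lt_coe.mpr (Finset.mem_range.mp hi)))
    · have hmon := Polynomial.Monic.pow (Polynomial.monic_X_sub_C x) n
      have hdeg : ((Polynomial.X - Polynomial.C x) ^ n).natDegree ≤ n :=
        Polynomial.natDegree_pow_le.trans ((Nat.mul_le_mul_left n (Polynomial.natDegree_X_sub_C_le x)).trans (mul_one n).le)
      have h1 : Polynomial.eval x ((Polynomial.X - Polynomial.C x) ^ n) = 0 := by simp [zero_pow hn.ne']
      rw [Polynomial.eval_eq_sum_range' (Nat.lt_succ_of_le hdeg), Finset.sum_range_succ] at h1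
      have htop : ((Polynomial.X - Polynomial.C x) ^ n).coeff n = 1 := by
        nontriviality S
        have := hmon.coeff_natDegree
        rwa [(Polynomial.monic_X_sub_C x).natDegree_pow, Polynomial.natDegree_X_sub_C, mul_one] at this
      rw [htop, one_mul] at h1
      simp only [← hP, Polynomial.coeff_map] at h1
      rw [← Polynomial.aeval_def]
      simpa [add_comm] using h1
  refine ⟨Groth.Agent.RadicialLib.isHomeomorph_comap hepi hker, fun q _ p _ _ => ?_⟩
  letI := (Ideal.ResidueField.mapₐ p q (Algebra.ofId R S) (q.over_def p)).toRingHom.toAlgebra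
  exact Groth.Agent.RadicialLib.isPurelyInseparable_residueField hepi p q fun r => by
    rw [RingHom.algebraMap_toAlgebra, ← IsScalarTower.algebraMap_apply]
    exact AlgHom.commutes _ r

end Groth.Agent.S2161
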