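import Groth.Statements.S2163
import Groth.Agent.CAlgBasics.MittagLefflerApps
import Groth.Agent.CAlgBasics.UnivInj

set_option autoImplicit false
universe u
open CAlg

namespace Groth.Agent.S2163

/-- A ring `R` is coherent — every finitely generated ideal is a finitely presented module — if and only
if for every index set `A` (in the same universe) the product module `R^A` is flat. -/
theorem result {R : Type u} [CommRing R] :
    (∀ I : Ideal R, I.FG → Module.FinitePresentation R I) ↔ ∀ (A : Type u), Module.Flat R (A → R) := by
  classical
  constructor
  · intro hR A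
    rw [Module.Flat.iff_rTensor_injective]
    intro I hI
    haveI := hR I hI
    have h1 : ∀ (x : TensorProduct R I (A → R)) (a : A),
        TensorProduct.lid R R (I.subtype.rTensor R (TensorProduct.piRightHom R R I (fun _ : A => R) x a)) =
          TensorProduct.lid R (A → R) (I.subtype.rTensor (A → R) x) a := by
      intro x a
      induction x with
      | zero => simp
      | tmul r g => simp
      | add p q hp hq => simp only [map_add, Pi.add_apply, hp, hq]
    refine (injective_iff_map_eq_zero _).mpr fun x hx => ?_
    apply Groth.Agent.CAlgBasics.piRightHom_injective (R := R) I (fun _ : A => R)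
    rw [map_zero]
    funext a
    apply Module.Flat.rTensor_preserves_injective_linearMap (M := R) I.subtype Subtype.val_injective
    apply (TensorProduct.lid R R).injective
    rw [h1, hx]
    simp
  · intro H I hI
    haveI : Module.Finite R I := Module.Finite.iff_fg.mpr hI
    obtain ⟨n, π, hπ⟩ := Module.Finite.exists_fin' R I
    refine Module.finitePresentation_of_surjective π hπ ?_
    let K := LinearMap.ker π
    haveI := H K
    let y : TensorProduct R (Fin n → R) (K → R) :=
      ∑ a, Pi.single a (1 : R) ⊗ₜ (fun k : K => (k : Fin n → R) a)
    have hy : π.rTensor (K → R) y = 0 := by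
      apply Module.Flat.rTensor_preserves_injective_linearMap (M := K → R) I.subtype Subtype.val_injective
      apply (TensorProduct.lid R (K → R)).injective
      funext k
      simp only [y, map_sum, LinearMap.rTensor_tmul, TensorProduct.lid_tmul, Finset.sum_apply,
        Pi.smul_apply, map_zero, Pi.zero_apply, Submodule.subtype_apply]
      have h0 : π (k : Fin n → R) = 0 := k.2
      rw [pi_eq_sum_univ' (k : Fin n → R), map_sum] at h0
      have h0' := congrArg Subtype.val h0
      simp only [Submodule.coe_sum, map_smul, Submodule.coe_smul, smul_eq_mul, ZeroMemClass.coe_zero] at h0'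
      rw [← h0']
      exact Finset.sum_congr rfl fun a _ => by rw [smul_eq_mul, mul_comm]
    have hex : Function.Exact K.subtype π := fun v => ⟨fun h => ⟨⟨v, h⟩, rfl⟩, fun ⟨w, hw⟩ => hw ▸ w.2⟩
    obtain ⟨t, ht⟩ := (rTensor_exact (K → R) hex hπ y).mp hy
    obtain ⟨T, rfl⟩ := TensorProduct.exists_finset t
    have hK : K = Submodule.span R ((fun p : K × (K → R) => (p.1 : Fin n → R)) '' (T : Set (K × (K → R)))) := by
      refine le_antisymm (fun k hk => ?_) (Submodule.span_le.mpr (by rintro _ ⟨p, -, rfl⟩; exact p.1.2))
      have h3 := congrArg (fun w => Groth.Agent.CAlgBasics.piCoord n (K → R) w) ht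
      simp only [y, Groth.Agent.CAlgBasics.piCoord_sum_single] at h3
      have h4 : k = ∑ p ∈ T, p.2 ⟨k, hk⟩ • (p.1 : Fin n → R) := by
        funext a
        have := congrFun (congrFun h3 a) ⟨k, hk⟩
        simp only [map_sum, LinearMap.rTensor_tmul, Finset.sum_apply] at this
        rw [← this, Finset.sum_apply]
        exact Finset.sum_congr rfl fun p _ => by simp [Groth.Agent.CAlgBasics.piCoord, mul_comm]
      rw [h4]
      exact Submodule.sum_mem _ fun p hp => Submodule.smul_mem _ _ (Submodule.subset_span ⟨p, hp, rfl⟩)
    change K.FG
    rw [hK]
    exact Submodule.fg_span (T.finite_toSet.image _)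

end Groth.Agent.S2163
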