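import Mathlib
import Mathlib
import Groth.Agent.CMCat.ComplQuot
import Groth.Statements.S2165

set_option autoImplicit false
universe u
open LCI

namespace Groth.Agent.S2165

/-- Let R be a regular ring, p a prime ideal of R and f_1, ..., f_r a regular sequence of R contained in
p. Then the local ring R_p/(f_1, ..., f_r) is a complete intersection: its completion is a regular
local ring modulo a regular sequence. The instance hypothesis that the quotient is local always
holds. -/
theorem result {R : Type u} [CommRing R] [IsRegularRing R]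
    (p : Ideal R) [p.IsPrime] (rs : List R) (hmem : ∀ r ∈ rs, r ∈ p)
    (hreg : RingTheory.Sequence.IsRegular R rs)
    [IsLocalRing (Localization.AtPrime p ⧸
      Ideal.map (algebraMap R (Localization.AtPrime p)) (Ideal.ofList rs))] :
    Pi1.IsCompleteIntersection (Localization.AtPrime p ⧸
      Ideal.map (algebraMap R (Localization.AtPrime p)) (Ideal.ofList rs)) := by
  let Rp := Localization.AtPrime p
  haveI : IsRegularLocalRing Rp := IsRegularRing.isRegularLocalRing_localization p
  have hne : IsLocalRing.maximalIdeal Rp ≠ ⊤ := (IsLocalRing.maximalIdeal.isMaximal Rp).ne_top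
  haveI := RegLocal.isLocalRing_completion Rp (IsLocalRing.maximalIdeal Rp) hne
  have hB := (RegLocal.isRegularLocalRing_completion_iff Rp (IsLocalRing.maximalIdeal Rp) hne).1 inferInstance
  haveI := RegLocal.faithfullyFlat_completion Rp (IsLocalRing.maximalIdeal Rp) hne
  let B := AdicCompletion (IsLocalRing.maximalIdeal Rp) Rp
  let rs' : List B := (rs.map (algebraMap R Rp)).map (algebraMap Rp B)
  have hreg' : RingTheory.Sequence.IsRegular Rp (rs.map (algebraMap R Rp)) :=
    hreg.1.isRegular_of_isLocalization_of_mem Rp p hmem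
  obtain ⟨e, -⟩ := CMCat.exists_complQuotEquiv (A := Rp) (Ideal.map (algebraMap R Rp) (Ideal.ofList rs))
  refine ⟨B, inferInstance, hB, rs', fun r hr => ?_, hreg'.of_faithfullyFlat, ⟨e.symm.trans (Ideal.quotEquivOfEq ?_)⟩⟩
  · obtain ⟨a, ha, rfl⟩ := List.mem_map.1 hr
    obtain ⟨b, hb, rfl⟩ := List.mem_map.1 ha
    rw [RegLocal.maximalIdeal_completion Rp _ hne]
    exact Ideal.mem_map_of_mem _ ((IsLocalization.AtPrime.to_map_mem_maximal_iff Rp p b).2 (hmem b hb))
  · show _ = Ideal.ofList rs'
    rw [Ideal.map_ofList, Ideal.map_ofList]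

end Groth.Agent.S2165
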