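import Groth.Statements.S2167
import Groth.Agent.CMFlatLib.Local
import Groth.Agent.S5758

set_option autoImplicit false
set_option backward.isDefEq.respectTransparency false
universe u
open LCI

namespace Groth.Agent.S2167

/-- Equivalence of (2) and (3), special case with R already a regular local ring: for a regular local
ring R and a proper ideal I, the ideal I is generated by a regular sequence if and only if the
conormal module I/I^2 can be generated by (dim R - dim R/I) elements, the inequality below being the
additive form of that count. -/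
theorem result {R : Type u} [CommRing R] [IsRegularLocalRing R]
    (I : Ideal R) (hI : I ≠ ⊤) :
    (∃ rs : List R, Ideal.ofList rs = I ∧ RingTheory.Sequence.IsRegular R rs) ↔
      (((⊤ : Submodule (R ⧸ I) I.Cotangent).spanFinrank : WithBot ℕ∞) + ringKrullDim (R ⧸ I)
        ≤ ringKrullDim R) := by
  classical
  haveI hcm : LocCoh.IsCohenMacaulayLocalRing R := Groth.Agent.CMFlatLib.cm_of_flat R R
    (by rw [Algebra.algebraMap_self, Ideal.map_id]; exact (IsLocalRing.maximalIdeal.isMaximal R).isPrime.radical)
  have hM : LocCoh.IsCohenMacaulayModule R R := hcm.supportDim_eq_depth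
  have hmem : ∀ rs : List R, Ideal.ofList rs = I → ∀ x ∈ rs, x ∈ IsLocalRing.maximalIdeal R := fun rs h x hx =>
    IsLocalRing.le_maximalIdeal hI (h ▸ Ideal.subset_span hx)
  have hdim : ∀ rs : List R, Ideal.ofList rs = I →
      Module.supportDim R (R ⧸ (Ideal.ofList rs • ⊤ : Submodule R R)) = ringKrullDim (R ⧸ I) := fun rs h => by
    rw [Module.supportDim_eq_of_equiv (Submodule.quotEquivOfEq _ I (by rw [h, Ideal.smul_eq_mul, Ideal.mul_top])),
      Module.supportDim_quotient_eq_ringKrullDim]
  have hspan : ∀ s : Set I.Cotangent, Submodule.span (R ⧸ I) s = ⊤ ↔ Submodule.span R s = ⊤ := fun s => by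
    rw [← Submodule.restrictScalars_span R (R ⧸ I) Ideal.Quotient.mk_surjective s, Submodule.restrictScalars_eq_top_iff]
  constructor
  · rintro ⟨rs, hrs, hreg⟩
    have h1 := ((Groth.Agent.S5758.result R R hM rs (hmem rs hrs)).1.1 hreg.toIsWeaklyRegular)
    rw [hdim rs hrs, Module.supportDim_self_eq_ringKrullDim] at h1
    rw [← h1, add_comm]
    refine add_le_add le_rfl ?_
    let t : Finset I.Cotangent := rs.toFinset.attach.image fun x =>
      I.toCotangent ⟨x.1, hrs ▸ Ideal.subset_span (List.mem_toFinset.1 x.2)⟩
    have ht : Submodule.span (R ⧸ I) (t : Set I.Cotangent) = ⊤ := by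
      rw [hspan, eq_top_iff]
      rintro z -
      obtain ⟨⟨y, hy⟩, rfl⟩ := I.toCotangent_surjective z
      have key : ∀ (w : R) (hw : w ∈ Submodule.span R {x | x ∈ rs}), ∀ hwI : w ∈ I,
          I.toCotangent ⟨w, hwI⟩ ∈ Submodule.span R (t : Set I.Cotangent) := by
        intro w hw
        induction hw using Submodule.span_induction with
        | mem x hx =>
          intro hwI
          exact Submodule.subset_span (Finset.mem_coe.2 (Finset.mem_image.2 ⟨⟨x, List.mem_toFinset.2 hx⟩, Finset.mem_attach _ _, rfl⟩))
        | zero => intro _; exact (map_zero I.toCotangent).symm ▸ zero_mem _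
        | add a b ha hb iha ihb =>
          intro _
          rw [show (⟨a + b, ‹_›⟩ : I) = ⟨a, hrs ▸ ha⟩ + ⟨b, hrs ▸ hb⟩ from rfl, map_add]
          exact add_mem (iha _) (ihb _)
        | smul c a ha iha =>
          intro _
          rw [show (⟨c • a, ‹_›⟩ : I) = c • ⟨a, hrs ▸ ha⟩ from rfl, map_smul]
          exact Submodule.smul_mem _ _ (iha _)
      exact key y (hrs.symm ▸ hy : y ∈ Ideal.ofList rs) hy
    have h2 : (⊤ : Submodule (R ⧸ I) I.Cotangent).spanFinrank ≤ rs.length := by
      rw [← ht]
      refine (Submodule.spanFinrank_span_le_ncard_of_finite t.finite_toSet).trans ?_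
      rw [Set.ncard_coe_finset]
      exact Finset.card_image_le.trans (by rw [Finset.card_attach]; exact rs.toFinset_card_le)
    exact_mod_cast h2
  · intro h
    haveI : IsNoetherianRing R := inferInstance
    have hfg : (⊤ : Submodule (R ⧸ I) I.Cotangent).FG := by
      haveI : Module.Finite R I.Cotangent := Module.Finite.of_surjective I.toCotangent I.toCotangent_surjective
      haveI : Module.Finite (R ⧸ I) I.Cotangent := Module.Finite.of_restrictScalars_finite R _ _
      exact Module.Finite.fg_top
    obtain ⟨s, hscard, hsfin, hs⟩ : ∃ s : Set I.Cotangent, s.ncard = (⊤ : Submodule (R ⧸ I) I.Cotangent).spanFinrank ∧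
        s.Finite ∧ Submodule.span (R ⧸ I) s = ⊤ := by
      refine ⟨_, Submodule.FG.generators_ncard hfg, Submodule.FG.finite_generators hfg, Submodule.span_generators _⟩
    choose g hg using I.toCotangent_surjective
    let rs : List R := (hsfin.toFinset.toList).map fun z => (g z).1
    have hlen : rs.length = (⊤ : Submodule (R ⧸ I) I.Cotangent).spanFinrank := by
      rw [List.length_map, Finset.length_toList, ← hscard, Set.ncard_eq_toFinset_card s hsfin]
    have hle : Ideal.ofList rs ≤ I := Ideal.span_le.2 fun x hx => by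
      obtain ⟨z, -, rfl⟩ := List.mem_map.1 hx
      exact (g z).2
    have hrs : Ideal.ofList rs = I := by
      refine le_antisymm hle (Submodule.le_of_le_smul_of_le_jacobson_bot (I := I) (IsNoetherian.noetherian I)
        ((IsLocalRing.le_maximalIdeal hI).trans (IsLocalRing.maximalIdeal_le_jacobson ⊥)) ?_)
      intro y hy
      have hy' : I.toCotangent ⟨y, hy⟩ ∈ Submodule.span R s := by
        rw [(hspan s).1 hs]; trivial
      have key : ∀ z ∈ Submodule.span R s, ∃ w : I, w.1 ∈ Ideal.ofList rs ∧ I.toCotangent w = z := by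
        intro z hz
        induction hz using Submodule.span_induction with
        | mem x hx => exact ⟨g x, Ideal.subset_span (List.mem_map.2 ⟨x, Finset.mem_toList.2 (hsfin.mem_toFinset.2 hx), rfl⟩), hg x⟩
        | zero => exact ⟨0, zero_mem _, map_zero _⟩
        | add a b _ _ iha ihb =>
          obtain ⟨u, hu, rfl⟩ := iha
          obtain ⟨v, hv, rfl⟩ := ihb
          exact ⟨u + v, add_mem hu hv, map_add _ _ _⟩
        | smul c a _ iha =>
          obtain ⟨u, hu, rfl⟩ := iha
          exact ⟨c • u, Submodule.smul_mem _ c hu, map_smul _ _ _⟩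
      obtain ⟨w, hw, hwy⟩ := key _ hy'
      have h2 := (Ideal.toCotangent_eq I).1 hwy.symm
      rw [pow_two] at h2
      exact Submodule.mem_sup.2 ⟨w.1, hw, y - w.1, h2, by ring⟩
    refine ⟨rs, hrs, (Groth.Agent.S5758.result R R hM rs (hmem rs hrs)).1.2 ?_, ?_⟩
    · refine le_antisymm ?_ (Groth.Agent.CMSeqLib.supportDim_quot_add_length_le rs (hmem rs hrs))
      rw [hdim rs hrs, Module.supportDim_self_eq_ringKrullDim, hlen, add_comm]
      exact h
    · rw [hrs, Ideal.smul_eq_mul, Ideal.mul_top]
      exact hI.symm

end Groth.Agent.S2167
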