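import Groth.Statements.S2170
import Mathlib

set_option autoImplicit false
open Finset
open Models

namespace Groth.Agent.S2170

/-- Let A be a symmetric real n × n matrix with non-negative off-diagonal entries and m a vector with
positive entries such that for every i, ∑_{j ≠ i} A_{ij} m_j ≤ −A_{ii} m_i. Then the kernel of A is
the span of the vectors equal to m on an index set I and zero off I, for those I such that A_{ij} =
0 whenever i ∈ I and j ∉ I and such that equality holds in the above inequality for every i ∈ I. The
published statement omits the symmetry of A (without which it fails) and applies it only to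
symmetric matrices; stated here with A symmetric. -/
theorem result {n : ℕ} (A : Matrix (Fin n) (Fin n) ℝ) (m : Fin n → ℝ)
    (hsymm : A.IsSymm) (hA : ∀ i j, i ≠ j → 0 ≤ A i j) (hm : ∀ i, 0 < m i)
    (hle : ∀ i, ∑ j ∈ univ.erase i, A i j * m j ≤ -(A i i * m i)) :
    LinearMap.ker (Matrix.mulVecLin A) = Submodule.span ℝ
      {x : Fin n → ℝ | ∃ I : Finset (Fin n), (∀ i ∈ I, ∀ j ∉ I, A i j = 0) ∧
        (∀ i ∈ I, ∑ j ∈ univ.erase i, A i j * m j = -(A i i * m i)) ∧
        x = fun i => if i ∈ I then m i else 0} := by
  classical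
  have hij : ∀ i j, A i j = A j i := fun i j => (hsymm.apply i j).symm
  apply le_antisymm
  · intro x hx
    rw [LinearMap.mem_ker, Matrix.mulVecLin_apply] at hx
    have hx' : ∀ i, ∑ j, A i j * x j = 0 := fun i => by
      simpa [Matrix.mulVec, dotProduct] using congrFun hx i
    let y : Fin n → ℝ := fun i => x i / m i
    let c : Fin n → ℝ := fun i => -(∑ j, A i j * m j)
    have hxy : ∀ i, x i = y i * m i := fun i => by simp [y, (hm i).ne']
    have hc : ∀ i, c i = -(A i i * m i) - ∑ j ∈ univ.erase i, A i j * m j := fun i => by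
      simp only [c]
      rw [← Finset.add_sum_erase _ _ (mem_univ i)]
      ring
    have hc0 : ∀ i, 0 ≤ c i := fun i => by rw [hc]; linarith [hle i]
    have hid : ∑ i, 2 * c i * m i * y i ^ 2
        + ∑ i, ∑ j, A i j * (m i * m j) * (y i - y j) ^ 2 = 0 := by
      have e1 : ∑ i, ∑ j, A i j * (m i * m j) * y j ^ 2
          = ∑ i, ∑ j, A i j * (m i * m j) * y i ^ 2 := by
        rw [Finset.sum_comm]
        refine Finset.sum_congr rfl fun i _ => Finset.sum_congr rfl fun j _ => ?_
        rw [hij j i]; ring
      have e2 : ∑ i, ∑ j, A i j * (m i * m j) * (y i * y j) = 0 := by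
        refine Finset.sum_eq_zero fun i _ => ?_
        calc ∑ j, A i j * (m i * m j) * (y i * y j)
            = ∑ j, x i * (A i j * x j) :=
              Finset.sum_congr rfl fun j _ => by rw [hxy i, hxy j]; ring
          _ = 0 := by rw [← Finset.mul_sum, hx', mul_zero]
      have e3 : ∑ i, 2 * c i * m i * y i ^ 2
          = -2 * ∑ i, ∑ j, A i j * (m i * m j) * y i ^ 2 := by
        rw [Finset.mul_sum]
        refine Finset.sum_congr rfl fun i _ => ?_
        simp only [c, mul_neg, neg_mul, Finset.mul_sum, Finset.sum_mul, ← Finset.sum_neg_distrib]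
        exact Finset.sum_congr rfl fun j _ => by ring
      have e4 : ∑ i, ∑ j, A i j * (m i * m j) * (y i - y j) ^ 2
          = ∑ i, ∑ j, A i j * (m i * m j) * y i ^ 2
            + ∑ i, ∑ j, A i j * (m i * m j) * y j ^ 2
            - 2 * ∑ i, ∑ j, A i j * (m i * m j) * (y i * y j) := by
        simp only [Finset.mul_sum, ← Finset.sum_add_distrib, ← Finset.sum_sub_distrib]
        exact Finset.sum_congr rfl fun i _ => Finset.sum_congr rfl fun j _ => by ring
      rw [e3, e4, e1, e2]; ring
    have hnn1 : ∀ i, 0 ≤ 2 * c i * m i * y i ^ 2 := fun i => by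
      have := hc0 i; have := (hm i).le; positivity
    have hnn2 : ∀ i j, 0 ≤ A i j * (m i * m j) * (y i - y j) ^ 2 := fun i j => by
      rcases eq_or_ne i j with rfl | h
      · simp
      · have := hA i j h; have := (hm i).le; have := (hm j).le; positivity
    have hz := (add_eq_zero_iff_of_nonneg (Finset.sum_nonneg fun i _ => hnn1 i)
      (Finset.sum_nonneg fun i _ => Finset.sum_nonneg fun j _ => hnn2 i j)).mp hid
    have hcy : ∀ i, y i ≠ 0 → c i = 0 := fun i hy => by
      have := (Finset.sum_eq_zero_iff_of_nonneg fun i _ => hnn1 i).mp hz.1 i (mem_univ i)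
      simpa [(hm i).ne', hy] using this
    have hAy : ∀ i j, y i ≠ y j → A i j = 0 := fun i j hy => by
      have h1 := (Finset.sum_eq_zero_iff_of_nonneg
        fun i _ => Finset.sum_nonneg fun j _ => hnn2 i j).mp hz.2 i (mem_univ i)
      have h2 := (Finset.sum_eq_zero_iff_of_nonneg fun j _ => hnn2 i j).mp h1 j (mem_univ j)
      simpa [(hm i).ne', (hm j).ne', sub_eq_zero, hy] using h2
    let T : Finset ℝ := (univ.image y).erase 0
    let vec : Finset (Fin n) → Fin n → ℝ := fun I i => if i ∈ I then m i else 0
    have hdec : x = ∑ t ∈ T, t • vec (univ.filter fun i => y i = t) := by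
      funext i
      simp only [Finset.sum_apply, Pi.smul_apply, smul_eq_mul, vec, Finset.mem_filter,
        mem_univ, true_and, mul_ite, mul_zero]
      rw [Finset.sum_ite_eq]
      by_cases hy : y i = 0
      · simp [T, hy, hxy i]
      · simp [T, hy, hxy i]
    rw [hdec]
    refine Submodule.sum_mem _ fun t ht => Submodule.smul_mem _ _ (Submodule.subset_span ?_)
    have ht0 : t ≠ 0 := (Finset.mem_erase.mp ht).1
    refine ⟨_, fun i hi j hj => ?_, fun i hi => ?_, rfl⟩
    · simp only [Finset.mem_filter, mem_univ, true_and] at hi hj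
      exact hAy i j (by rw [hi]; exact Ne.symm hj)
    · simp only [Finset.mem_filter, mem_univ, true_and] at hi
      have := hcy i (by rw [hi]; exact ht0)
      rw [hc] at this; linarith
  · rw [Submodule.span_le]
    rintro _ ⟨I, hI, hIeq, rfl⟩
    simp only [SetLike.mem_coe, LinearMap.mem_ker, Matrix.mulVecLin_apply]
    funext i
    simp only [Matrix.mulVec, dotProduct, mul_ite, mul_zero, Pi.zero_apply]
    by_cases hi : i ∈ I
    · have h : ∀ j, (if j ∈ I then A i j * m j else 0) = A i j * m j := fun j => by
        by_cases hj : j ∈ I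
        · simp [hj]
        · simp [hj, hI i hi j hj]
      rw [Finset.sum_congr rfl fun j _ => h j, ← Finset.add_sum_erase _ _ (mem_univ i), hIeq i hi]
      ring
    · refine Finset.sum_eq_zero fun j _ => ?_
      by_cases hj : j ∈ I
      · simp [hj, hij i j, hI j hj i hi]
      · simp [hj]

end Groth.Agent.S2170
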