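import Groth.Statements.S2171
import Groth.Agent.NumTypeLib.Basic
import Groth.Agent.NumTypeLib.Graph
import Groth.Agent.NumTypeLib.Contraction
import Groth.Agent.NumTypeLib.Pic

set_option autoImplicit false
open Finset
open Models

namespace Groth.Agent.S2171

open Groth.Agent.NumTypeLib

/-- Let A be a symmetric real n by n matrix with non-negative off-diagonal entries, m a vector with
positive entries such that A m = 0, and assume no proper non-empty index set I has A i j = 0 for all
i in I and j outside I. Then x^t A x is at most 0 for every real vector x, with equality exactly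
when x is a real multiple of m. -/
theorem result {n : ℕ} (A : Matrix (Fin n) (Fin n) ℝ)
    (m : Fin n → ℝ) (hsymm : A.IsSymm) (hA : ∀ i j, i ≠ j → 0 ≤ A i j) (hm : ∀ i, 0 < m i)
    (hAm : A.mulVec m = 0)
    (hconn : ∀ I : Finset (Fin n), I.Nonempty → I ≠ univ → ∃ i ∈ I, ∃ j ∉ I, A i j ≠ 0)
    (x : Fin n → ℝ) :
    dotProduct x (A.mulVec x) ≤ 0 ∧ (dotProduct x (A.mulVec x) = 0 ↔ ∃ q : ℝ, x = q • m) := by
  have hs : ∀ i j, A i j = A j i := fun i j => hsymm.apply j i
  have hAm' : ∀ i, ∑ j, A i j * m j = 0 := fun i => congrFun hAm i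
  have key : dotProduct x (A.mulVec x) = ∑ i, ∑ j, A i j * x i * x j := by
    simp only [dotProduct, Matrix.mulVec, Finset.mul_sum]
    exact Finset.sum_congr rfl fun i _ => Finset.sum_congr rfl fun j _ => by ring
  refine ⟨key ▸ quad_nonpos A m x hs hA hm hAm', fun h => ?_, ?_⟩
  · rcases Nat.eq_zero_or_pos n with rfl | hn
    · exact ⟨0, funext fun i => i.elim0⟩
    have hq := quad_eq_zero A m x hs hA hm hAm' hconn (key ▸ h)
    refine ⟨x ⟨0, hn⟩ / m ⟨0, hn⟩, funext fun i => ?_⟩
    have := (hm i).ne'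
    simp only [Pi.smul_apply, smul_eq_mul]
    rw [← hq i ⟨0, hn⟩, div_mul_cancel₀ _ this]
  · rintro ⟨q, rfl⟩
    simp [Matrix.mulVec_smul, hAm]

end Groth.Agent.S2171
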