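import Groth.Statements.S2183
import Groth.Agent.NumTypeLib.Basic
import Groth.Agent.NumTypeLib.Graph
import Groth.Agent.NumTypeLib.Contraction
import Groth.Agent.NumTypeLib.Pic

set_option autoImplicit false
open Finset
open Models Models.NumericalType

namespace Groth.Agent.S2183

open Groth.Agent.NumTypeLib

open Classical in
/-- Let T be a minimal numerical type with n > 1 indices and genus g at least 2, and let J be the set of
indices which are not (-2)-indices. Then J has at most 2g - 2 elements, and for j in J one has g j <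
g, m j * |a j j| at most 6g - 6, and m i * a i j at most 6g - 6 for every index i. -/
theorem result {n : ℕ} (T : Models.NumericalType n) (hmin : T.IsMinimal) (hn : 1 < n) (hg : 2 ≤ T.genus) :
    ((univ.filter fun j => ¬T.IsMinusTwo j).card : ℤ) ≤ 2 * T.genus - 2 ∧
      ∀ j, ¬T.IsMinusTwo j →
        T.g j < T.genus ∧ T.m j * |T.a j j| ≤ 6 * T.genus - 6 ∧
          ∀ i, T.m i * T.a i j ≤ 6 * T.genus - 6 := by
  have hnn : ∀ i, 0 ≤ term T i := fun i => term_nonneg T hn (hmin i)
  have htot := two_genus T
  have hsingle : ∀ j, term T j ≤ 2 * (T.genus - 1) := fun j => by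
    rw [← htot]; exact Finset.single_le_sum (fun i _ => hnn i) (Finset.mem_univ j)
  refine ⟨?_, fun j hj => ?_⟩
  · classical
    have h1 : ∑ j ∈ univ.filter (fun j => ¬T.IsMinusTwo j), (1 : ℤ) ≤
        ∑ j ∈ univ.filter (fun j => ¬T.IsMinusTwo j), term T j :=
      Finset.sum_le_sum fun j hj =>
        lt_of_le_of_ne (hnn j) (fun h => (Finset.mem_filter.1 hj).2 (minusTwo_of_term_zero T hn j h.symm))
    have h2 : ∑ j ∈ univ.filter (fun j => ¬T.IsMinusTwo j), term T j ≤ ∑ j, term T j :=
      Finset.sum_le_univ_sum_of_nonneg hnn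
    simp at h1
    linarith
  · have hj' := hsingle j
    have hm := T.m_pos j
    have hw := T.w_pos j
    have ha := diag_neg T hn j
    have h0 := T.g_nonneg j
    obtain ⟨k, hk⟩ := T.w_dvd j j
    unfold term at hj'
    have habs : T.m j * |T.a j j| ≤ 6 * T.genus - 6 := by
      rw [abs_of_neg ha]
      rcases h0.eq_or_lt' with h | h
      · have hk2 : k ≤ -3 := by
          have h1 : k ≠ -1 := fun e => hmin j ⟨h, by rw [hk, e]; ring⟩
          have h2 : k ≠ -2 := fun e => hj ⟨h, by rw [hk, e]; ring⟩
          have h3 : k < 0 := by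
            by_contra hc
            exact absurd ha (not_lt.2 (hk ▸ mul_nonneg hw.le (not_lt.1 hc)))
          omega
        rw [h, hk] at hj'
        rw [hk]
        nlinarith [mul_nonneg (mul_nonneg hm.le hw.le) (by omega : (0:ℤ) ≤ -k - 3)]
      · have := mul_nonneg (mul_nonneg hm.le hw.le) (by omega : (0:ℤ) ≤ T.g j - 1)
        nlinarith
    refine ⟨?_, habs, fun i => ?_⟩
    · rcases h0.eq_or_lt' with h | h
      · omega
      · have h1 : 1 ≤ T.m j * T.w j := one_le_mul_of_one_le_of_one_le hm hw
        nlinarith [mul_pos hm (neg_pos.2 ha),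
          mul_le_mul_of_nonneg_right h1 (by omega : (0:ℤ) ≤ T.g j - 1)]
    · rcases eq_or_ne i j with rfl | hne
      · nlinarith
      · rcases (T.offDiag_nonneg i j hne).eq_or_lt' with h | h
        · rw [h]; omega
        · exact (neighbour_bound T h).1.trans habs

end Groth.Agent.S2183
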