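import Groth.Statements.S2186
import Groth.Agent.LciIndepLib.Dominate

set_option autoImplicit false
set_option backward.isDefEq.respectTransparency false
universe u
open LCI IsLocalRing Groth.Agent.LciIndepLib

namespace Groth.Agent.S2186

/-- Let A -> B be a local homomorphism of complete Noetherian local rings, and take two factorizations A
-> S -> B and A -> S' -> B through Noetherian local rings with S -> B and S' -> B surjective, A -> S
and A -> S' flat, and regular closed fibres S/m_A S and S'/m_A S'. Then the kernel of S -> B is cut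
out by a regular sequence exactly when the kernel of S' -> B is. -/
theorem result {A B S S' : Type u} [CommRing A] [CommRing B]
    [CommRing S] [CommRing S'] [IsNoetherianRing A] [IsNoetherianRing B] [IsNoetherianRing S]
    [IsNoetherianRing S'] [IsLocalRing A] [IsLocalRing B] [IsLocalRing S] [IsLocalRing S']
    [IsAdicComplete (IsLocalRing.maximalIdeal A) A] [IsAdicComplete (IsLocalRing.maximalIdeal B) B]
    [Algebra A B] [Algebra A S] [Algebra A S'] [IsLocalHom (algebraMap A B)]
    [Module.Flat A S] [Module.Flat A S']
    [IsRegularLocalRing (S ⧸ Ideal.map (algebraMap A S) (IsLocalRing.maximalIdeal A))]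
    [IsRegularLocalRing (S' ⧸ Ideal.map (algebraMap A S') (IsLocalRing.maximalIdeal A))]
    (g : S →ₐ[A] B) (g' : S' →ₐ[A] B) (hg : Function.Surjective g)
    (hg' : Function.Surjective g') :
    (∃ rs : List S, Ideal.ofList rs = RingHom.ker g ∧ RingTheory.Sequence.IsRegular S rs) ↔
      (∃ rs' : List S', Ideal.ofList rs' = RingHom.ker g' ∧
        RingTheory.Sequence.IsRegular S' rs') := by
  classical
  haveI : IsLocalHom g.toRingHom := IsLocalHom.of_surjective _ hg
  haveI : IsLocalHom g'.toRingHom := IsLocalHom.of_surjective _ hg'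
  haveI : IsLocalHom (algebraMap A S) := ⟨fun a ha => by
    have h := ha.map g
    rw [g.commutes] at h
    exact isUnit_of_map_unit _ _ h⟩
  haveI : IsLocalHom (algebraMap A S') := ⟨fun a ha => by
    have h := ha.map g'
    rw [g'.commutes] at h
    exact isUnit_of_map_unit _ _ h⟩
  let H := AdicCompletion (maximalIdeal S) S
  let H' := AdicCompletion (maximalIdeal S') S'
  haveI : IsLocalHom (algebraMap A H) := by
    rw [IsScalarTower.algebraMap_eq A S H]; exact RingHom.isLocalHom_comp _ _
  haveI : IsLocalHom (algebraMap A H') := by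
    rw [IsScalarTower.algebraMap_eq A S' H']; exact RingHom.isLocalHom_comp _ _
  haveI : Module.Flat A H := Module.Flat.trans A S H
  haveI : Module.Flat A H' := Module.Flat.trans A S' H'
  haveI : IsRegularLocalRing (H ⧸ (maximalIdeal A).map (algebraMap A H)) := regular_fibre_completion
  haveI : IsRegularLocalRing (H' ⧸ (maximalIdeal A).map (algebraMap A H')) := regular_fibre_completion
  obtain ⟨gh, hgh, hker⟩ := exists_lift_completion g hg
  obtain ⟨gh', hgh', hker'⟩ := exists_lift_completion g' hg'
  obtain ⟨T, _, _, _, _, _, _, _, π, π', hπ, hπ', hcomp⟩ := exists_dominate gh gh' hgh hgh'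
  have hJ : (RingHom.ker gh.toRingHom).comap π.toRingHom = (RingHom.ker gh'.toRingHom).comap π'.toRingHom := by
    ext t
    simp only [Ideal.mem_comap, RingHom.mem_ker]
    rw [show gh.toRingHom (π.toRingHom t) = gh'.toRingHom (π'.toRingHom t) from AlgHom.congr_fun hcomp t]
  have h1 := rs_comap_iff π hπ (RingHom.ker gh.toRingHom) (RingHom.ker_ne_top _)
  have h2 := rs_comap_iff π' hπ' (RingHom.ker gh'.toRingHom) (RingHom.ker_ne_top _)
  rw [hJ, h2, hker, hker', rs_map_iff S H _ (RingHom.ker_ne_top _),
    rs_map_iff S' H' _ (RingHom.ker_ne_top _)] at h1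
  exact h1.symm

end Groth.Agent.S2186
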