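import Groth.Statements.S2188
import Groth.Agent.FerrVasc.Partial
-- import your own Groth.Agent.* helpers here

set_option autoImplicit false
universe u
open CategoryTheory
open LCI

namespace Groth.Agent.S2188

theorem core {R : Type u} [CommRing R] [IsNoetherianRing R] [IsLocalRing R] (I : Ideal R) (hI : I ≠ ⊤) (n : ℕ)
    (hpd : HasProjectiveDimensionLT (ModuleCat.of R I) n)
    (F G : Submodule (R ⧸ I) I.Cotangent) (hFG : IsCompl F G) (r : ℕ)
    (e : F ≃ₗ[R ⧸ I] (Fin r → R ⧸ I)) :
    ∃ (x : Fin r → R) (hx : ∀ i, x i ∈ I), RingTheory.Sequence.IsRegular R (List.ofFn x) ∧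
      Submodule.span (R ⧸ I) (Set.range fun i => I.toCotangent ⟨x i, hx i⟩) = F := by
  haveI := hpd
  obtain ⟨m, x, hx, hcls⟩ := Groth.Agent.FerrVasc.exists_part I F G hFG r e
  obtain ⟨y, hy, hyreg⟩ := Groth.Agent.FerrVasc.exists_regular_part r R I hI (r + m) x _ hx (Fin.castAdd m)
    (Fin.castAdd_injective _ _) (fun i => ⟨i, rfl⟩) n (hasProjectiveDimensionLT_of_ge _ n (n + 1) (Nat.le_succ n))
  have hyI : ∀ i, y i ∈ I := fun i => by
    have := add_mem (Ideal.mul_le_left (hy i) : y i - x (Fin.castAdd m i) ∈ I) (hx.mem (Fin.castAdd m i))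
    rwa [sub_add_cancel] at this
  refine ⟨y, hyI, ⟨hyreg, fun h => hI (top_le_iff.1 ?_)⟩, ?_⟩
  · rw [smul_eq_mul, Ideal.mul_top] at h
    rw [h]
    exact Ideal.span_le.2 fun a ha => by
      obtain ⟨i, rfl⟩ := (List.mem_ofFn' y a).1 ha
      exact hyI i
  · have hcl : (fun i => I.toCotangent ⟨y i, hyI i⟩) = fun i => (e.symm (Pi.single i 1) : I.Cotangent) := funext fun i => by
      rw [← hcls i, Ideal.toCotangent_eq, pow_two]
      exact hy i
    rw [hcl]
    have hb : (fun i => (e.symm (Pi.single i 1) : I.Cotangent)) = F.subtype ∘ e.symm ∘ Pi.basisFun (R ⧸ I) (Fin r) :=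
      funext fun i => by simp
    rw [hb, Set.range_comp, Submodule.span_image, Set.range_comp,
      show Submodule.span (R ⧸ I) (e.symm '' Set.range (Pi.basisFun (R ⧸ I) (Fin r))) = ⊤ from ?_, Submodule.map_top,
      Submodule.range_subtype]
    rw [show (e.symm '' Set.range (Pi.basisFun (R ⧸ I) (Fin r))) = e.symm.toLinearMap '' Set.range (Pi.basisFun (R ⧸ I) (Fin r)) from rfl,
      Submodule.span_image, Module.Basis.span_eq, Submodule.map_top, LinearEquiv.range]

/-- Let R be a Noetherian local ring and I an ideal of finite projective dimension as an R-module. If F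
is a direct summand of I/I^2 which is free of rank r over R/I, then there is a regular sequence x_1,
..., x_r of R inside I whose classes in I/I^2 generate F. -/
theorem result {R : Type u} [CommRing R]
    [IsNoetherianRing R] [IsLocalRing R] (I : Ideal R) (hI : I ≠ ⊤) (n : ℕ)
    (hpd : HasProjectiveDimensionLT (ModuleCat.of R I) n)
    (F G : Submodule (R ⧸ I) I.Cotangent) (hFG : IsCompl F G) (r : ℕ)
    (e : F ≃ₗ[R ⧸ I] (Fin r → R ⧸ I)) :
    ∃ (x : Fin r → R) (hx : ∀ i, x i ∈ I), RingTheory.Sequence.IsRegular R (List.ofFn x) ∧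
      Submodule.span (R ⧸ I) (Set.range fun i => I.toCotangent ⟨x i, hx i⟩) = F := by
  exact core I hI n hpd F G hFG r e

end Groth.Agent.S2188
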