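import Groth.Statements.S2190
import Groth.Agent.NumTypeLib.Basic
import Groth.Agent.NumTypeLib.Graph
import Groth.Agent.NumTypeLib.Contraction
import Groth.Agent.NumTypeLib.Pic

set_option autoImplicit false
open Finset
open Models Models.NumericalType

namespace Groth.Agent.S2190

open Groth.Agent.NumTypeLib

/-- A minimal numerical type of genus zero has a single index, with m = 1, a = 0, w = 1 and g = 0. -/
theorem result {n : ℕ} (T : Models.NumericalType n) (hmin : T.IsMinimal) (hg : T.genus = 0) :
    n = 1 ∧ ∀ i, T.m i = 1 ∧ T.a i i = 0 ∧ T.w i = 1 ∧ T.g i = 0 := by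
  obtain rfl : n = 1 := by
    by_contra hne
    have := one_le_genus T hmin (by have := T.pos; omega)
    omega
  refine ⟨rfl, fun i => ?_⟩
  rw [Fin.eq_zero i]
  have ha : T.a 0 0 = 0 := by
    have := sum_row T 0
    simpa [(T.m_pos 0).ne'] using this
  have h := two_genus T
  simp [term, ha, hg] at h
  have hm := T.m_pos 0
  have hw := T.w_pos 0
  have hg0 : T.g 0 = 0 := by
    by_contra hne
    have := T.g_nonneg 0
    nlinarith [mul_nonneg (mul_nonneg hm.le hw.le) (by omega : (0:ℤ) ≤ T.g 0 - 1)]
  rw [hg0] at h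
  have h1 : T.m 0 * T.w 0 = 1 := by linarith
  have h2 := Int.eq_one_of_mul_eq_one_right hm.le h1
  exact ⟨h2, ha, by rwa [h2, one_mul] at h1, hg0⟩

end Groth.Agent.S2190
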