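import Groth.Statements.S2191
import Groth.Agent.DPowLib.Basic
-- import your own Groth.Agent.* helpers here

set_option autoImplicit false
universe u v
open DPow

namespace Groth.Agent.S2191

/-- Part (2): if two ideals I and J of a ring carry divided power structures agreeing on their
intersection, then exactly one divided power structure on the ideal I + J restricts to the given
ones on I and on J. -/
theorem result {A : Type u} [CommRing A] {I J : Ideal A} (γ : DividedPowers I)
    (δ : DividedPowers J) (h : ∀ (n : ℕ) (x : A), x ∈ I ⊓ J → γ.dpow n x = δ.dpow n x) :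
    ∃! ε : DividedPowers (I ⊔ J),
      (∀ (n : ℕ) (x : A), x ∈ I → ε.dpow n x = γ.dpow n x) ∧
        (∀ (n : ℕ) (x : A), x ∈ J → ε.dpow n x = δ.dpow n x) := by
  classical
  have hex : ∀ x ∈ I ⊔ J, ∃ a ∈ I, ∃ b ∈ J, a + b = x := fun x hx => Submodule.mem_sup.1 hx
  choose A' hA' B' hB' hAB using hex
  let E : A → PowerSeries A := fun x => if hx : x ∈ I ⊔ J then γ.exp (A' x hx) * δ.exp (B' x hx) else 0
  have hwd : ∀ {a b : A}, a ∈ I → b ∈ J → E (a + b) = γ.exp a * δ.exp b := fun {a b} ha hb => by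
    have hx : a + b ∈ I ⊔ J := Submodule.add_mem_sup ha hb
    simp only [E, dif_pos hx]
    set t := A' _ hx - a with ht
    have htI : t ∈ I := sub_mem (hA' _ hx) ha
    have e : b = t + B' _ hx := by rw [ht]; linear_combination -(hAB _ hx)
    have htJ : t ∈ J := by rw [show t = b - B' _ hx from eq_sub_of_add_eq e.symm]; exact sub_mem hb (hB' _ hx)
    have hexp : γ.exp t = δ.exp t := PowerSeries.ext fun n => by
      simp [DividedPowers.exp, h n t ⟨htI, htJ⟩]
    rw [show A' _ hx = a + t by rw [ht]; ring, γ.exp_add ha htI, hexp, mul_assoc, ← δ.exp_add htJ (hB' _ hx), ← e]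
  have hz : ∀ {K : Ideal A} (ε : DividedPowers K), ε.exp 0 = 1 := fun {K} ε => PowerSeries.ext fun n => by
    rcases eq_or_ne n 0 with rfl | hn
    · simp [DividedPowers.exp, ε.dpow_zero (zero_mem K)]
    · simp [DividedPowers.exp, ε.dpow_eval_zero hn, hn]
  have hI : ∀ {x : A}, x ∈ I → E x = γ.exp x := fun {x} hx => by
    have := hwd hx (zero_mem J); rwa [add_zero, hz δ, mul_one] at this
  have hJ : ∀ {x : A}, x ∈ J → E x = δ.exp x := fun {x} hx => by
    have := hwd (zero_mem I) hx; rwa [zero_add, hz γ, one_mul] at this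
  obtain ⟨ε, hε⟩ := Groth.Agent.DPowLib.exists_of_exp (I := I ⊔ J) ((I : Set A) ∪ (J : Set A)) (by rw [Ideal.span_union, Ideal.span_eq, Ideal.span_eq]) E
    (fun x hx => by
      obtain ⟨a, ha, b, hb, rfl⟩ := Submodule.mem_sup.1 hx
      rw [hwd ha hb, PowerSeries.coeff_zero_eq_constantCoeff, map_mul, ← PowerSeries.coeff_zero_eq_constantCoeff]
      simp [DividedPowers.exp, γ.dpow_zero ha, δ.dpow_zero hb])
    (fun x hx => by
      obtain ⟨a, ha, b, hb, rfl⟩ := Submodule.mem_sup.1 hx
      rw [hwd ha hb, PowerSeries.coeff_mul, show Finset.HasAntidiagonal.antidiagonal 1 = {(0, 1), (1, 0)} by decide, Finset.sum_pair (by decide)]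
      simp [DividedPowers.exp, γ.dpow_zero ha, δ.dpow_zero hb, γ.dpow_one ha, δ.dpow_one hb, add_comm])
    (fun x hx n hn => by
      obtain ⟨a, ha, b, hb, rfl⟩ := Submodule.mem_sup.1 hx
      rw [hwd ha hb, PowerSeries.coeff_mul]
      refine Ideal.sum_mem _ fun k hk => ?_
      rw [Finset.HasAntidiagonal.mem_antidiagonal] at hk
      simp only [DividedPowers.exp, PowerSeries.coeff_mk]
      rcases eq_or_ne k.1 0 with h1 | h1
      · exact Ideal.mul_mem_left _ _ (Ideal.mem_sup_right (δ.dpow_mem (by omega) hb))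
      · exact Ideal.mul_mem_right _ _ (Ideal.mem_sup_left (γ.dpow_mem h1 ha)))
    (fun x hx y hy => by
      obtain ⟨a, ha, b, hb, rfl⟩ := Submodule.mem_sup.1 hx
      obtain ⟨a', ha', b', hb', rfl⟩ := Submodule.mem_sup.1 hy
      rw [add_add_add_comm, hwd ha hb, hwd ha' hb', hwd (add_mem ha ha') (add_mem hb hb'), γ.exp_add ha ha', δ.exp_add hb hb']
      ring)
    (fun c x hx => by
      obtain ⟨a, ha, b, hb, rfl⟩ := Submodule.mem_sup.1 hx
      rw [mul_add, hwd (I.mul_mem_left c ha) (J.mul_mem_left c hb), hwd ha hb, map_mul]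
      congr 1 <;> ext n <;> simp [DividedPowers.exp, PowerSeries.coeff_rescale, γ.dpow_mul, δ.dpow_mul, ha, hb])
    (fun n x => if x ∈ I then γ.dpow n x else δ.dpow n x)
    (fun x hx n => by
      try dsimp only
      split_ifs with h1
      · rw [hI h1]; simp [DividedPowers.exp]
      · rw [hJ (hx.resolve_left h1)]; simp [DividedPowers.exp])
    (fun x hx m n => by
      try dsimp only
      split_ifs with h1
      · exact γ.mul_dpow h1
      · exact δ.mul_dpow (hx.resolve_left h1))
    (fun x hx m n hn => by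
      try dsimp only
      split_ifs with h1
      · rw [hI (γ.dpow_mem hn h1)]; simp only [DividedPowers.exp, PowerSeries.coeff_mk]; exact γ.dpow_comp hn h1
      · rw [hJ (δ.dpow_mem hn (hx.resolve_left h1))]; simp only [DividedPowers.exp, PowerSeries.coeff_mk]
        exact δ.dpow_comp hn (hx.resolve_left h1))
  refine ⟨ε, ⟨fun n x hx => by rw [hε x (Ideal.mem_sup_left hx), hI hx]; simp [DividedPowers.exp],
    fun n x hx => by rw [hε x (Ideal.mem_sup_right hx), hJ hx]; simp [DividedPowers.exp]⟩, ?_⟩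
  rintro ε' ⟨e1, e2⟩
  refine DividedPowers.ext ε' ε fun n {x} hx => ?_
  obtain ⟨a, ha, b, hb, rfl⟩ := Submodule.mem_sup.1 hx
  rw [hε _ hx, hwd ha hb, PowerSeries.coeff_mul, ε'.dpow_add (Ideal.mem_sup_left ha) (Ideal.mem_sup_right hb)]
  exact Finset.sum_congr rfl fun k _ => by simp [DividedPowers.exp, e1 _ _ ha, e2 _ _ hb]

end Groth.Agent.S2191
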