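import Groth.Statements.S2194
import Groth.Agent.DPowLib.Universal
import Mathlib.RingTheory.MvPolynomial.Basic

set_option autoImplicit false
universe u
open DPow

namespace Groth.Agent.S2194

/-- Let (A, I) be a ring with a divided power structure on I, B an A-algebra and J an ideal of B
containing I B. Then there is a divided power ring (D, J') with a ring map B -> D carrying J into J'
whose composite with A -> B is a homomorphism of divided power rings, universal for such data: for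
every divided power ring (C, K) with a divided power homomorphism A -> C and every A-algebra map B
-> C carrying J into K there is exactly one divided power homomorphism D -> C compatible with the
maps from B. -/
theorem result {A B : Type u} [CommRing A] [CommRing B] [Algebra A B] {I : Ideal A}
    (γ : DividedPowers I) (J : Ideal B) (hIJ : I.map (algebraMap A B) ≤ J) :
    ∃ (D : Type u) (_ : CommRing D) (_ : Algebra B D) (JD : Ideal D) (γD : DividedPowers JD),
      J.map (algebraMap B D) ≤ JD ∧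
      γ.IsDPMorphism γD ((algebraMap B D).comp (algebraMap A B)) ∧
      ∀ (C : Type u) [CommRing C] [Algebra A C] (K : Ideal C) (δ : DividedPowers K),
        γ.IsDPMorphism δ (algebraMap A C) →
        ∀ ψ : B →ₐ[A] C, J.map ψ ≤ K →
          ∃! χ : D →+* C, χ.comp (algebraMap B D) = ψ ∧ γD.IsDPMorphism δ χ := by
  let Q := MvPolynomial (J × ℕ) B
  let f : A →+* Q := MvPolynomial.C.comp (algebraMap A B)
  let s : I ⊕ (J ⊕ J × ℕ) → Q := Sum.elim (fun a => f a) (Sum.elim (fun j => MvPolynomial.C (j : B)) fun jk => MvPolynomial.X jk)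
  let d : ℕ → I ⊕ (J ⊕ J × ℕ) → Q := fun n => Sum.elim (fun a => f (γ.dpow n a))
    (Sum.elim (fun j => MvPolynomial.X (j, n - 1))
      fun jk => (Nat.uniformBell n (jk.2 + 1) : Q) * MvPolynomial.X (jk.1, n * (jk.2 + 1) - 1))
  have hd : ∀ n a, n ≠ 0 → d n a ∈ Ideal.span (Set.range s) := by
    rintro n (a | j | jk) hn
    · exact Ideal.subset_span ⟨.inl ⟨_, γ.dpow_mem hn a.2⟩, rfl⟩
    · exact Ideal.subset_span ⟨.inr (.inr (j, n - 1)), rfl⟩
    · exact Ideal.mul_mem_left _ _ (Ideal.subset_span ⟨.inr (.inr (jk.1, n * (jk.2 + 1) - 1)), rfl⟩)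
  obtain ⟨D, hD, π, JD, γD, hπ, hJD, hadm, huniv⟩ := Groth.Agent.DPowLib.exists_universal s d hd
  letI algBD : Algebra B D := (π.comp MvPolynomial.C).toAlgebra
  have hX : ∀ (j : J) (k : ℕ), π (MvPolynomial.X (j, k)) = γD.dpow (k + 1) (π (MvPolynomial.C (j : B))) := fun j k =>
    ((hadm (.inr (.inl j))).2 (k + 1) k.succ_ne_zero).symm
  refine ⟨D, hD, algBD, JD, γD, ?_, ⟨?_, fun {n} a ha => ?_⟩, ?_⟩
  · rw [Ideal.map_le_iff_le_comap]
    exact fun j hj => (hadm (.inr (.inl ⟨j, hj⟩))).1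
  · rw [Ideal.map_le_iff_le_comap]
    exact fun a ha => (hadm (.inl ⟨a, ha⟩)).1
  · rcases eq_or_ne n 0 with rfl | hn
    · rw [γ.dpow_zero ha, map_one]
      exact γD.dpow_zero (hadm (.inl ⟨a, ha⟩)).1
    · exact (hadm (.inl ⟨a, ha⟩)).2 n hn
  intro C _ _ K δ hφ ψ hψ
  have hK : ∀ j : J, ψ (j : B) ∈ K := fun j => hψ (Ideal.mem_map_of_mem _ j.2)
  let F : Q →+* C := MvPolynomial.eval₂Hom ψ.toRingHom fun jk => δ.dpow (jk.2 + 1) (ψ (jk.1 : B))
  have hF : Groth.Agent.DPowLib.Adm s d δ F := by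
    rintro (a | j | jk)
    · have e : ∀ x, F (f x) = algebraMap A C x := fun x => (MvPolynomial.eval₂Hom_C _ _ _).trans (ψ.commutes x)
      refine ⟨?_, fun n hn => ?_⟩
      · show F (f a) ∈ K
        rw [e]; exact hφ.ideal_comp (Ideal.mem_map_of_mem _ a.2)
      · show δ.dpow n (F (f a)) = F (f (γ.dpow n a))
        rw [e, e]; exact hφ.dpow_comp a a.2
    · refine ⟨?_, fun n hn => ?_⟩
      · show F (MvPolynomial.C (j : B)) ∈ K
        rw [MvPolynomial.eval₂Hom_C]; exact hK j
      · show δ.dpow n (F (MvPolynomial.C (j : B))) = F (MvPolynomial.X (j, n - 1))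
        rw [MvPolynomial.eval₂Hom_C, MvPolynomial.eval₂Hom_X', Nat.sub_add_cancel (Nat.one_le_iff_ne_zero.2 hn)]
        rfl
    · refine ⟨?_, fun n hn => ?_⟩
      · show F (MvPolynomial.X jk) ∈ K
        rw [MvPolynomial.eval₂Hom_X']; exact δ.dpow_mem jk.2.succ_ne_zero (hK _)
      · show δ.dpow n (F (MvPolynomial.X jk)) = F ((Nat.uniformBell n (jk.2 + 1) : Q) * MvPolynomial.X (jk.1, n * (jk.2 + 1) - 1))
        rw [map_mul, map_natCast, MvPolynomial.eval₂Hom_X', MvPolynomial.eval₂Hom_X', δ.dpow_comp jk.2.succ_ne_zero (hK _),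
          Nat.sub_add_cancel (Nat.one_le_iff_ne_zero.2 (Nat.mul_ne_zero hn jk.2.succ_ne_zero))]
  obtain ⟨χ, hχ, hχdp⟩ := huniv C K δ F hF
  refine ⟨χ, ⟨RingHom.ext fun b => (RingHom.congr_fun hχ (MvPolynomial.C b)).trans (MvPolynomial.eval₂Hom_C _ _ _), hχdp⟩, ?_⟩
  rintro χ' ⟨hχ', hχ'dp⟩
  refine (RingHom.cancel_right hπ).1 (MvPolynomial.ringHom_ext (fun b => ?_) fun jk => ?_)
  · exact (RingHom.congr_fun hχ' b).trans ((RingHom.congr_fun hχ (MvPolynomial.C b)).trans (MvPolynomial.eval₂Hom_C _ _ _)).symm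
  · have e : χ' (π (MvPolynomial.C (jk.1 : B))) = ψ (jk.1 : B) := RingHom.congr_fun hχ' _
    show χ' (π (MvPolynomial.X jk)) = (χ.comp π) (MvPolynomial.X jk)
    rw [hχ, MvPolynomial.eval₂Hom_X', show π (MvPolynomial.X jk) = π (MvPolynomial.X (jk.1, jk.2)) from rfl, hX]
    exact (hχ'dp.map_dpow ((hadm (.inr (.inl jk.1))).1)).trans (congrArg _ e)

end Groth.Agent.S2194
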