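import Groth.Statements.S2197
import Mathlib
import Groth.Agent.DiscLib.Basic

set_option autoImplicit false
universe u
open Disc

namespace Groth.Agent.S2197

open TensorProduct

theorem ann_of_gens {A : Type u} {B : Type u} [CommRing A] [CommRing B] [Algebra A B] {s : Set B}
    (hs : Algebra.adjoin A s = ⊤) (ξ : B ⊗[A] B)
    (h : ∀ x ∈ s, (x ⊗ₜ[A] (1 : B)) * ξ = ((1 : B) ⊗ₜ[A] x) * ξ) :
    ξ ∈ Submodule.annihilator (RingHom.ker (Algebra.TensorProduct.lmul' (S := B) A)) := by
  rw [DiscLib.mem_annihilator_iff]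
  intro b
  have hb : b ∈ Algebra.adjoin A s := hs ▸ trivial
  induction hb using Algebra.adjoin_induction with
  | mem x hx => exact h x hx
  | algebraMap r =>
    rw [Algebra.algebraMap_eq_smul_one, TensorProduct.smul_tmul]
  | add x y _ _ hx hy => rw [add_tmul, tmul_add, add_mul, add_mul, hx, hy]
  | mul x y _ _ hx hy =>
    have e1 : (x * y) ⊗ₜ[A] (1 : B) = (x ⊗ₜ 1) * (y ⊗ₜ 1) := by simp
    have e2 : (1 : B) ⊗ₜ[A] (x * y) = (1 ⊗ₜ x) * (1 ⊗ₜ y) := by simp
    rw [e1, e2, mul_assoc, hy, ← mul_assoc, mul_comm (x ⊗ₜ 1) (1 ⊗ₜ y), mul_assoc, hx, ← mul_assoc,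
      mul_comm (1 ⊗ₜ y)]

section
variable {A B A' B' : Type u} [CommRing A] [CommRing B] [CommRing A'] [CommRing B'] [Algebra A B]
  [Algebra A A'] [Algebra A B'] [Algebra B B'] [Algebra A' B'] [IsScalarTower A B B'] [IsScalarTower A A' B']

/-- The natural map on the enveloping algebras. -/
noncomputable def φ : B ⊗[A] B →ₐ[A] B' ⊗[A'] B' :=
  Algebra.TensorProduct.lift
    (((Algebra.TensorProduct.includeLeft : B' →ₐ[A'] B' ⊗[A'] B').restrictScalars A).comp (IsScalarTower.toAlgHom A B B'))
    (((Algebra.TensorProduct.includeRight : B' →ₐ[A'] B' ⊗[A'] B').restrictScalars A).comp (IsScalarTower.toAlgHom A B B'))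
    (fun _ _ => Commute.all _ _)

theorem φ_tmul (b c : B) : (φ (b ⊗ₜ[A] c) : B' ⊗[A'] B') = algebraMap B B' b ⊗ₜ algebraMap B B' c := by
  simp [φ]

theorem mul'_φ (x : B ⊗[A] B) : Algebra.TensorProduct.lmul' (S := B') A' (φ x : B' ⊗[A'] B') =
    algebraMap B B' (Algebra.TensorProduct.lmul' (S := B) A x) := by
  induction x using TensorProduct.induction_on with
  | zero => simp
  | tmul b c => simp [φ_tmul]
  | add x y hx hy => simp [map_add, hx, hy]

variable [Algebra.IsPushout A B A' B']

/-- The base change of the enveloping algebra. -/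
noncomputable def eqv : B' ⊗[B] (B ⊗[A] B) ≃ₗ[B'] B' ⊗[A'] B' :=
  haveI h : Algebra.IsPushout A A' B B' := Algebra.IsPushout.symm ‹_›
  (AlgebraTensorModule.cancelBaseChange A B B' B' B).trans
    ((AlgebraTensorModule.cancelBaseChange A A' B' B' B).symm.trans
      (AlgebraTensorModule.congr (LinearEquiv.refl B' B') h.out.equiv))

theorem eqv_tmul (y : B') (x : B ⊗[A] B) :
    (eqv (A' := A') (y ⊗ₜ[B] x)) = (y ⊗ₜ[A'] (1 : B')) * φ x := by
  induction x using TensorProduct.induction_on with
  | zero => simp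
  | tmul b c =>
    simp [eqv, φ_tmul, IsBaseChange.equiv_tmul, Algebra.smul_def, mul_comm]
  | add u v hu hv => rw [tmul_add, map_add, map_add, mul_add, hu, hv]

theorem ann_eq [Algebra.FiniteType A B] [Module.Flat A A'] :
    Submodule.annihilator (RingHom.ker (Algebra.TensorProduct.lmul' (S := B') A')) =
      Ideal.map (φ : B ⊗[A] B →ₐ[A] B' ⊗[A'] B')
        (Submodule.annihilator (RingHom.ker (Algebra.TensorProduct.lmul' (S := B) A))) := by
  refine le_antisymm (fun ξ hξ => ?_) (Ideal.map_le_iff_le_comap.mpr fun ξ hξ => ?_)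
  · classical
    obtain ⟨s, hs⟩ := Algebra.FiniteType.out (R := A) (A := B)
    rw [DiscLib.mem_annihilator_iff] at hξ
    obtain ⟨t, rfl⟩ := (eqv (A := A) (B := B) (A' := A') (B' := B')).surjective ξ
    let g : s → B ⊗[A] B := fun x => ((x : B) ⊗ₜ 1) - (1 ⊗ₜ (x : B))
    let Ψ : B ⊗[A] B →ₗ[B] (s → B ⊗[A] B) := LinearMap.pi fun x => (LinearMap.mulLeft (B ⊗[A] B) (g x)).restrictScalars B
    have hflat : Module.Flat B B' :=
      Module.Flat.isBaseChange A B A' B' (Algebra.IsPushout.out (R := A) (S := B) (R' := A') (S' := B'))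
    have key : ∀ (x : B) (t : B' ⊗[B] (B ⊗[A] B)),
        eqv (A' := A') (LinearMap.lTensor B' ((LinearMap.mulLeft (B ⊗[A] B) (x ⊗ₜ 1 - 1 ⊗ₜ x)).restrictScalars B) t) =
          (algebraMap B B' x ⊗ₜ 1 - 1 ⊗ₜ algebraMap B B' x) * eqv (A' := A') t := by
      intro x t
      induction t using TensorProduct.induction_on with
      | zero => simp
      | tmul y z =>
        rw [LinearMap.lTensor_tmul, eqv_tmul, eqv_tmul]
        simp only [LinearMap.restrictScalars_apply, LinearMap.mulLeft_apply, map_mul, map_sub, φ_tmul, map_one]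
        ring
      | add u v hu hv => rw [map_add, map_add, hu, hv, map_add, mul_add]
    have h0 : LinearMap.lTensor B' Ψ t = 0 := by
      apply (TensorProduct.piRight B B B' (fun _ : s => B ⊗[A] B)).injective
      funext x
      have e : ∀ t, TensorProduct.piRight B B B' (fun _ : s => B ⊗[A] B) (LinearMap.lTensor B' Ψ t) x =
          LinearMap.lTensor B' ((LinearMap.mulLeft (B ⊗[A] B) (g x)).restrictScalars B) t := by
        intro t
        induction t using TensorProduct.induction_on with
        | zero => simp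
        | tmul y z => simp [Ψ]
        | add u v hu hv => rw [map_add, map_add, map_add, Pi.add_apply, hu, hv]
      rw [e, map_zero, Pi.zero_apply]
      apply (eqv (A := A) (B := B) (A' := A') (B' := B')).injective
      rw [map_zero, key, sub_mul, hξ, sub_self]
    obtain ⟨w, rfl⟩ := (Module.Flat.lTensor_exact B' (LinearMap.exact_subtype_ker_map Ψ) t).mp h0
    clear h0 hξ
    induction w using TensorProduct.induction_on with
    | zero => simp
    | tmul y z =>
      rw [LinearMap.lTensor_tmul, eqv_tmul]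
      refine Ideal.mul_mem_left _ _ (Ideal.mem_map_of_mem _ (ann_of_gens hs _ fun x hx => ?_))
      have := congrFun (LinearMap.mem_ker.mp z.2) ⟨x, hx⟩
      simp only [Ψ, g, LinearMap.pi_apply, LinearMap.restrictScalars_apply, LinearMap.mulLeft_apply,
        Pi.zero_apply, sub_mul, sub_eq_zero] at this
      exact this
    | add u v hu hv => rw [map_add, map_add]; exact Ideal.add_mem _ hu hv
  · rw [DiscLib.mem_annihilator_iff] at hξ
    rw [Ideal.mem_comap, DiscLib.mem_annihilator_iff]
    intro b
    haveI h : Algebra.IsPushout A A' B B' := Algebra.IsPushout.symm ‹_›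
    induction b using h.out.inductionOn with
    | zero => simp
    | tmul m =>
      have := congrArg (fun z => (φ z : B' ⊗[A'] B')) (hξ m)
      simpa [map_mul, φ_tmul] using this
    | smul a m hm =>
      rw [← TensorProduct.smul_tmul', TensorProduct.tmul_smul, smul_mul_assoc, smul_mul_assoc, hm]
    | add u v hu hv => rw [add_tmul, tmul_add, add_mul, add_mul, hu, hv]

theorem map_mul'_φ (I : Ideal (B ⊗[A] B)) :
    Ideal.map (Algebra.TensorProduct.lmul' (S := B') A') (Ideal.map (φ : B ⊗[A] B →ₐ[A] B' ⊗[A'] B') I) =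
      Ideal.map (algebraMap B B') (Ideal.map (Algebra.TensorProduct.lmul' (S := B) A) I) := by
  rw [← Ideal.map_coe (Algebra.TensorProduct.lmul' (S := B') A'), ← Ideal.map_coe (φ : B ⊗[A] B →ₐ[A] B' ⊗[A'] B'),
    ← Ideal.map_coe (Algebra.TensorProduct.lmul' (S := B) A), Ideal.map_map, Ideal.map_map]
  exact congrArg (fun f => Ideal.map f I) (RingHom.ext fun x => mul'_φ x)

end

/-- Part (2): let A -> B be a ring map of finite type and A -> A' a flat ring map, and let B' = B
tensor_A A'. Then the Noether different of B' over A' is the extension to B' of the Noether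
different of B over A. -/
theorem result {A B A' B' : Type u} [CommRing A] [CommRing B]
    [CommRing A'] [CommRing B'] [Algebra A B] [Algebra A A'] [Algebra A B'] [Algebra B B']
    [Algebra A' B'] [IsScalarTower A B B'] [IsScalarTower A A' B']
    [Algebra.IsPushout A B A' B'] [Algebra.FiniteType A B] [Module.Flat A A'] :
    Disc.noetherDifferent A' B' = (Disc.noetherDifferent A B).map (algebraMap B B') := by
  unfold Disc.noetherDifferent
  rw [ann_eq (A := A) (B := B)]
  exact map_mul'_φ _

end Groth.Agent.S2197
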