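import Groth.Statements.S2199
-- import your own Groth.Agent.* helpers here
import Groth.Agent.CancelLib.TorDim

set_option autoImplicit false
set_option backward.isDefEq.respectTransparency false
universe u
open LCI

namespace Groth.Agent.S2199

/-- For a Noetherian local ring (A, m) and proper ideals I inside J such that A/J has finite
Tor-dimension as a module over A/I (canonical algebra structure), the map I/mI -> J/mJ is injective:
an element of I lying in mJ already lies in mI. -/
theorem result {A : Type u} [CommRing A] [IsNoetherianRing A] [IsLocalRing A]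
    (I J : Ideal A) (hIJ : I ≤ J) (hJ : J ≠ ⊤) [Algebra (A ⧸ I) (A ⧸ J)]
    [IsScalarTower A (A ⧸ I) (A ⧸ J)] (hfd : DRing.HasFiniteTorDim (A ⧸ I) (A ⧸ J))
    (x : A) (hx : x ∈ I) (hxm : x ∈ IsLocalRing.maximalIdeal A * J) :
    x ∈ IsLocalRing.maximalIdeal A * I := by
  let e : (A ⧸ J) ≃ₗ[A ⧸ I] ((A ⧸ I) ⧸ J.map (Ideal.Quotient.mk I)) :=
    { (DoubleQuot.quotQuotEquivQuotOfLE hIJ).symm.toAddEquiv with
      map_smul' := fun c v => by
        obtain ⟨c, rfl⟩ := Ideal.Quotient.mk_surjective c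
        obtain ⟨v, rfl⟩ := Ideal.Quotient.mk_surjective v
        have h1 : (Ideal.Quotient.mk I c) • (Ideal.Quotient.mk J v) = Ideal.Quotient.mk J (c * v) := by
          rw [Algebra.smul_def, show algebraMap (A ⧸ I) (A ⧸ J) (Ideal.Quotient.mk I c) = Ideal.Quotient.mk J c from
            (IsScalarTower.algebraMap_apply A (A ⧸ I) (A ⧸ J) c).symm, map_mul]
        show (DoubleQuot.quotQuotEquivQuotOfLE hIJ).symm (Ideal.Quotient.mk I c • Ideal.Quotient.mk J v) =
          Ideal.Quotient.mk I c • (DoubleQuot.quotQuotEquivQuotOfLE hIJ).symm (Ideal.Quotient.mk J v)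
        rw [h1]
        rfl }
  obtain ⟨d, hd⟩ := hfd
  have hd' := PerfMorLib.hasTorDimLE_congr e hd
  have hpd := CancelLib.pdLT_of_torDimLE d ((A ⧸ I) ⧸ J.map (Ideal.Quotient.mk I)) hd'
  exact CancelLib.inf_le_of_pd hIJ hJ (d + 1) hpd ⟨hx, hxm⟩

end Groth.Agent.S2199
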