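import Groth.Statements.S2200
-- import your own Groth.Agent.* helpers here
import Groth.Agent.CancelLib.TorDim

set_option autoImplicit false
set_option backward.isDefEq.respectTransparency false
universe u
open LCI

namespace Groth.Agent.S2200

/-- Let (A, m) be a Noetherian local ring and I, J proper ideals with I inside J. If J is cut out by a
regular sequence and A/J has finite Tor-dimension as an A/I-module (canonical algebra structure),
then I is cut out by a regular sequence of A and the image of J in A/I by one of A/I. -/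
theorem result {A : Type u} [CommRing A] [IsNoetherianRing A] [IsLocalRing A]
    (I J : Ideal A) (hIJ : I ≤ J) (hJ : J ≠ ⊤) [Algebra (A ⧸ I) (A ⧸ J)]
    [IsScalarTower A (A ⧸ I) (A ⧸ J)] (hfd : DRing.HasFiniteTorDim (A ⧸ I) (A ⧸ J))
    (hJreg : ∃ rs : List A, Ideal.ofList rs = J ∧ RingTheory.Sequence.IsRegular A rs) :
    (∃ rs : List A, Ideal.ofList rs = I ∧ RingTheory.Sequence.IsRegular A rs) ∧
      ∃ rs' : List (A ⧸ I), Ideal.ofList rs' = J.map (Ideal.Quotient.mk I) ∧
        RingTheory.Sequence.IsRegular (A ⧸ I) rs' := by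
  let e : (A ⧸ J) ≃ₗ[A ⧸ I] ((A ⧸ I) ⧸ J.map (Ideal.Quotient.mk I)) :=
    { (DoubleQuot.quotQuotEquivQuotOfLE hIJ).symm.toAddEquiv with
      map_smul' := fun c v => by
        obtain ⟨c, rfl⟩ := Ideal.Quotient.mk_surjective c
        obtain ⟨v, rfl⟩ := Ideal.Quotient.mk_surjective v
        have h1 : (Ideal.Quotient.mk I c) • (Ideal.Quotient.mk J v) = Ideal.Quotient.mk J (c * v) := by
          rw [Algebra.smul_def, show algebraMap (A ⧸ I) (A ⧸ J) (Ideal.Quotient.mk I c) = Ideal.Quotient.mk J c from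
            (IsScalarTower.algebraMap_apply A (A ⧸ I) (A ⧸ J) c).symm, map_mul]
        show (DoubleQuot.quotQuotEquivQuotOfLE hIJ).symm (Ideal.Quotient.mk I c • Ideal.Quotient.mk J v) =
          Ideal.Quotient.mk I c • (DoubleQuot.quotQuotEquivQuotOfLE hIJ).symm (Ideal.Quotient.mk J v)
        rw [h1]
        rfl }
  obtain ⟨d, hd⟩ := hfd
  have hd' := PerfMorLib.hasTorDimLE_congr e hd
  have hpd := CancelLib.pdLT_of_torDimLE d ((A ⧸ I) ⧸ J.map (Ideal.Quotient.mk I)) hd'
  obtain ⟨rs, hrs, hreg⟩ := hJreg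
  obtain ⟨⟨l, hl, hlI⟩, ⟨l', hl', hlJ⟩⟩ :=
    CancelLib.isRegularIdeal_cancel hIJ (IsLocalRing.le_maximalIdeal hJ) ⟨rs, hreg, hrs⟩ (d + 1) hpd
  exact ⟨⟨l, hlI, hl⟩, l', hlJ, hl'⟩

end Groth.Agent.S2200
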