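import Groth.Statements.S2203
import Mathlib

set_option autoImplicit false
universe u
open CategoryTheory
open QCohCat

namespace Groth.Agent.S2203

open Polynomial TensorProduct

/-- Ring-isomorphism part of the statement: let A and B be commutative rings whose categories of modules
are equivalent. Then A and B are isomorphic as rings. (The source moreover describes the equivalence
as base change followed by tensoring with an invertible module.) -/
theorem result (A B : Type u) [CommRing A] [CommRing B]
    (F : ModuleCat.{u} A ≌ ModuleCat.{u} B) : Nonempty (A ≃+* B) := by
  open CategoryTheory in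
  have hA : ∀ (R : Type u) [CommRing R], Nonempty (R ≃+* CatCenter (ModuleCat.{u} R)) := by
    intro R _
    refine ⟨RingEquiv.ofBijective (Linear.toCatCenter R (ModuleCat.{u} R)) ⟨?_, ?_⟩⟩
    · intro r s h
      have := congrArg (fun z => (CatCenter.app z (ModuleCat.of R R)).hom (1:R)) h
      change r • (1:R) = s • (1:R) at this
      simpa using this
    · intro z
      refine ⟨(z.app (ModuleCat.of R R)).hom (1:R), ?_⟩
      ext M x
      have := congrArg (fun f => f.hom (1:R)) (CatCenter.naturality z (ModuleCat.ofHom (LinearMap.toSpanSingleton R M x)))
      simp at this
      exact this.symm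
  haveI := F.functor.additive_of_preserves_binary_products
  haveI : F.functor.IsLocalization (MorphismProperty.isomorphisms (ModuleCat.{u} A)) :=
    Functor.IsLocalization.of_equivalence_target (𝟭 _) _ F.functor F (Functor.leftUnitor _)
  obtain ⟨eA⟩ := hA A
  obtain ⟨eB⟩ := hA B
  refine ⟨eA.trans (RingEquiv.trans ?_ eB.symm)⟩
  refine RingEquiv.ofBijective (CatCenter.localizationRingHom F.functor (MorphismProperty.isomorphisms _)) ⟨fun r s h => ?_, fun w => ?_⟩
  · ext1 X
    apply F.functor.map_injective
    have := congrArg (fun z => CatCenter.app z (F.functor.obj X)) h
    simpa [CatCenter.localizationRingHom] using this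
  · refine ⟨{ app := fun X => F.functor.preimage (w.app (F.functor.obj X)), naturality := fun X Y f => ?_ }, ?_⟩
    · apply F.functor.map_injective
      simpa using CatCenter.naturality w (F.functor.map f)
    · apply CatCenter.ext_of_localization F.functor (MorphismProperty.isomorphisms _)
      intro X
      simp [CatCenter.localizationRingHom]
      exact F.functor.map_preimage _

end Groth.Agent.S2203
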