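import Groth.Statements.S2207
import Mathlib
-- import your own Groth.Agent.* helpers here

set_option autoImplicit false
universe u v
open DPow

namespace Groth.Agent.S2207

/-- Existence in case (2): let I = (x) be a principal ideal of A with a divided power structure and B
any A-algebra. Then there is a divided power structure on I B for which A -> B is a homomorphism of
divided power rings. -/
theorem result {A : Type u} {B : Type v} [CommRing A] [CommRing B] [Algebra A B]
    (x : A) (γ : DividedPowers (Ideal.span {x})) :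
    ∃ δ : DividedPowers ((Ideal.span {x}).map (algebraMap A B)), γ.IsDPMorphism δ (algebraMap A B) := by
  classical
  set f := algebraMap A B
  have hxI : x ∈ Ideal.span {x} := Ideal.mem_span_singleton_self x
  have hspan : ∀ {y : B}, y ∈ (Ideal.span {x}).map f ↔ ∃ b, y = f x * b := fun {y} => by
    rw [Ideal.map_span, Set.image_singleton, Ideal.mem_span_singleton']
    exact ⟨fun ⟨b, h⟩ => ⟨b, by rw [← h, mul_comm]⟩, fun ⟨b, h⟩ => ⟨b, by rw [h, mul_comm]⟩⟩
  choose c hc using fun (n : ℕ) (hn : n ≠ 0) => Ideal.mem_span_singleton'.1 (γ.dpow_mem hn hxI)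
  have hwd : ∀ (n : ℕ) (b b' : B), f x * b = f x * b' → f (γ.dpow n x) * b ^ n = f (γ.dpow n x) * b' ^ n := fun n b b' h => by
    rcases eq_or_ne n 0 with rfl | hn
    · simp
    obtain ⟨t, ht⟩ := sub_dvd_pow_sub_pow b b' n
    rw [← sub_eq_zero, ← mul_sub, ht, ← hc n hn, map_mul]
    linear_combination (f (c n hn) * t) * h
  let dp : ℕ → B → B := fun n y => if h : ∃ b, y = f x * b then f (γ.dpow n x) * h.choose ^ n else 0
  have hdp : ∀ n b, dp n (f x * b) = f (γ.dpow n x) * b ^ n := fun n b => by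
    have h : ∃ b', f x * b = f x * b' := ⟨b, rfl⟩
    simp only [dp, dif_pos h]
    exact hwd n _ b h.choose_spec.symm
  have hmem : ∀ {n : ℕ}, n ≠ 0 → ∀ b, f (γ.dpow n x) * b ∈ (Ideal.span {x}).map f := fun {n} hn b =>
    Ideal.mul_mem_right _ _ (Ideal.mem_map_of_mem f (γ.dpow_mem hn hxI))
  refine ⟨⟨dp, fun {n y} h => dif_neg (mt hspan.2 h), ?_, ?_, ?_, ?_, ?_, ?_, ?_⟩, le_rfl, fun {n} a ha => ?_⟩
  · intro y hy; obtain ⟨b, rfl⟩ := hspan.1 hy
    rw [hdp, γ.dpow_zero hxI, map_one, pow_zero, one_mul]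
  · intro y hy; obtain ⟨b, rfl⟩ := hspan.1 hy
    rw [hdp, γ.dpow_one hxI, pow_one]
  · intro n y hn hy; obtain ⟨b, rfl⟩ := hspan.1 hy
    rw [hdp]; exact hmem hn _
  · intro n y z hy hz
    obtain ⟨b, rfl⟩ := hspan.1 hy
    obtain ⟨b', rfl⟩ := hspan.1 hz
    rw [← mul_add, hdp, (Commute.all b b').add_pow', Finset.mul_sum]
    refine Finset.sum_congr rfl fun k hk => ?_
    rw [Finset.HasAntidiagonal.mem_antidiagonal] at hk
    subst hk
    have e := congrArg f (γ.mul_dpow (m := k.1) (n := k.2) hxI)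
    rw [map_mul, map_mul, map_natCast] at e
    rw [hdp, hdp, nsmul_eq_mul]
    linear_combination -(b ^ k.1 * b' ^ k.2) * e
  · intro n a y hy; obtain ⟨b, rfl⟩ := hspan.1 hy
    rw [mul_left_comm, hdp, hdp, mul_pow]; ring
  · intro m n y hy; obtain ⟨b, rfl⟩ := hspan.1 hy
    have e := congrArg f (γ.mul_dpow (m := m) (n := n) hxI)
    rw [map_mul, map_mul, map_natCast] at e
    rw [hdp, hdp, hdp, pow_add]
    linear_combination (b ^ m * b ^ n) * e
  · intro m n y hn hy; obtain ⟨b, rfl⟩ := hspan.1 hy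
    have e := congrArg f (γ.dpow_comp (m := m) hn hxI)
    nth_rewrite 1 [← hc n hn] at e
    rw [γ.dpow_mul hxI, map_mul, map_pow, map_mul, map_natCast] at e
    rw [hdp, hdp, ← hc n hn, map_mul, mul_assoc, mul_left_comm, hdp, mul_pow, ← pow_mul, mul_comm n m]
    linear_combination (b ^ (m * n)) * e
  · obtain ⟨a', rfl⟩ := Ideal.mem_span_singleton'.1 ha
    show dp n (f (a' * x)) = _
    rw [γ.dpow_mul hxI, map_mul, map_mul, map_pow, mul_comm (f a'), hdp]
    ring

end Groth.Agent.S2207
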