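import Groth.Statements.S2209
import Groth.Agent.SteinConn.Special
import Groth.Agent.ASp.OnePoint
import Groth.Agent.RegLocal.Basic
-- import your own Groth.Agent.* helpers here

set_option autoImplicit false
universe u
open CategoryTheory AlgebraicGeometry
open Models

namespace Groth.Agent.S2209

/-- Let R be a discrete valuation ring with fraction field K, C a smooth proper curve over K whose ring
of global functions is K (the map K -> H^0(C, O_C) is an isomorphism), and X a regular proper model
of C over R. Then the special fibre of X is connected. -/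
theorem result (R : Type u) [CommRing R] [IsDomain R]
    [IsDiscreteValuationRing R] (C X : Scheme.{u})
    (f : C ⟶ Spec (CommRingCat.of (FractionRing R))) (p : X ⟶ Spec (CommRingCat.of R))
    (hC : Curve.IsSmoothProperCurve (FractionRing R) C f) (hH0 : IsIso f.appTop)
    (hX : Models.IsRegularProperModel R X p C f) :
    ConnectedSpace ↥(Models.specialFibre R X p) := by
  obtain ⟨⟨hflat, hlft, hqc, g, hg⟩, hp, hreg⟩ := hX
  obtain ⟨-, -, hCint, -⟩ := hC
  haveI := hflat
  haveI := hp
  haveI := hCint
  haveI := hH0
  let K := FractionRing R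
  haveI : LocallyOfFinitePresentation p := Groth.Agent.ASp.locallyOfFinitePresentation_of_noetherian p
  -- `X` is integral
  haveI : ∀ x : X, _root_.IsReduced (X.presheaf.stalk x) := fun x => by
    haveI := hreg x
    haveI : IsDomain (X.presheaf.stalk x) := Groth.Agent.RegLocal.isDomain _
    infer_instance
  haveI : AlgebraicGeometry.IsReduced X := isReduced_of_isReduced_stalk X
  have hdense : DenseRange g := by
    rw [DenseRange, ← hg.isoPullback_hom_fst]
    show Dense (Set.range ((Limits.pullback.fst p _) ∘ hg.isoPullback.hom))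
    erw [Function.Surjective.range_comp (f := ⇑hg.isoPullback.hom)
      (Scheme.Hom.homeomorph hg.isoPullback.hom).surjective]
    rw [Scheme.Pullback.range_fst]
    refine Dense.preimage ?_ p.isOpenMap
    have hinj : Function.Injective (algebraMap R K) := IsFractionRing.injective R K
    haveI := (PrimeSpectrum.denseRange_comap_iff_ker_le_nilRadical (algebraMap R K)).2
      (by rw [(RingHom.injective_iff_ker_eq_bot _).1 hinj]; exact bot_le)
    exact this
  -- global functions are constant
  have hΓ : Function.Surjective (Coh.toGlobal p) := fun a => by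
    let i := (Scheme.ΓSpecIso (CommRingCat.of K))
    let c : K := (inv f.appTop ≫ i.hom).hom (g.appTop.hom a)
    have hc : f.appTop.hom (i.inv.hom c) = g.appTop.hom a := by
      show (inv f.appTop ≫ i.hom ≫ i.inv ≫ f.appTop).hom (g.appTop.hom a) = _
      simp
    have hcomp : ∀ r : R, g.appTop.hom (Coh.toGlobal p r) = f.appTop.hom (i.inv.hom (algebraMap R K r)) := fun r => by
      show ((Scheme.ΓSpecIso (CommRingCat.of R)).inv ≫ p.appTop ≫ g.appTop).hom r =
        (CommRingCat.ofHom (algebraMap R K) ≫ i.inv ≫ f.appTop).hom r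
      rw [← Scheme.Hom.comp_appTop, hg.w, Scheme.Hom.comp_appTop, ← Category.assoc, Scheme.ΓSpecIso_inv_naturality_assoc]
      simp [i]
    have hint : IsIntegral R c := by
      let Φ : Γ(X, ⊤) →+* K := (g.appTop ≫ inv f.appTop ≫ i.hom).hom
      have hΦ : Φ.comp (Coh.toGlobal p) = algebraMap R K := RingHom.ext fun r => by
        show (inv f.appTop ≫ i.hom).hom (g.appTop.hom (Coh.toGlobal p r)) = _
        rw [hcomp]
        show (i.inv ≫ f.appTop ≫ inv f.appTop ≫ i.hom).hom (algebraMap R K r) = _
        simp
      have h1 : (p.appTop.hom.comp (Scheme.ΓSpecIso (CommRingCat.of R)).inv.hom).IsIntegral :=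
        RingHom.IsIntegral.trans _ _
          (RingHom.isIntegral_of_surjective _ (ConcreteCategory.bijective_of_isIso (Scheme.ΓSpecIso (CommRingCat.of R)).inv).2)
          (isIntegral_appTop_of_universallyClosed p)
      obtain ⟨q, hq, hqa⟩ := h1 a
      refine ⟨q, hq, ?_⟩
      have := congrArg Φ hqa
      rw [map_zero, Polynomial.hom_eval₂] at this
      rw [← hΦ]
      exact this
    obtain ⟨r, hr⟩ := IsIntegrallyClosed.isIntegral_iff.1 hint
    refine ⟨r, (sub_eq_zero.1 ?_).symm⟩
    have h0 : g.appTop.hom (a - Coh.toGlobal p r) = 0 := by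
      refine (map_sub g.appTop.hom a (Coh.toGlobal p r)).trans ?_
      rw [sub_eq_zero]
      refine Eq.trans ?_ (hcomp r).symm
      rw [hr, hc]
      rfl
    refine eq_zero_of_basicOpen_eq_bot _ (TopologicalSpace.Opens.ext (Set.eq_empty_of_forall_notMem fun x hx => ?_))
    obtain ⟨z, hz⟩ := hdense.exists_mem_open (X.basicOpen (a - Coh.toGlobal p r)).2 ⟨x, hx⟩
    have hz' : z ∈ g ⁻¹ᵁ X.basicOpen (a - Coh.toGlobal p r) := hz
    rw [Scheme.preimage_basicOpen] at hz'
    have h0' : (g.app ⊤).hom (a - Coh.toGlobal p r) = 0 := h0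
    rw [h0', Scheme.basicOpen_zero] at hz'
    exact hz'
  -- nonempty special fibre
  obtain ⟨z⟩ := (inferInstance : Nonempty C)
  obtain ⟨x, -, hx⟩ := p.isClosedMap.specializingMap (IsLocalRing.specializes_closedPoint (p (g z)))
  let res := Spec.map (CommRingCat.ofHom (algebraMap R (IsLocalRing.ResidueField R)))
  haveI : IsClosedImmersion res := IsClosedImmersion.spec_of_surjective _ IsLocalRing.residue_surjective
  have hres : Set.range res = {IsLocalRing.closedPoint R} := by
    refine Set.eq_singleton_iff_unique_mem.2 ⟨⟨IsLocalRing.closedPoint _, ?_⟩, ?_⟩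
    · exact IsLocalRing.comap_closedPoint (IsLocalRing.residue R)
    · rintro _ ⟨t, rfl⟩
      rw [Subsingleton.elim (α := PrimeSpectrum (IsLocalRing.ResidueField R)) t (IsLocalRing.closedPoint _)]
      exact IsLocalRing.comap_closedPoint (IsLocalRing.residue R)
  have hr : Set.range (Limits.pullback.fst p res) = p ⁻¹' {IsLocalRing.closedPoint R} := by
    rw [Scheme.Pullback.range_fst, hres]
  have hc : _root_.IsConnected (Set.range (Limits.pullback.fst p res)) := by
    rw [hr]
    exact ⟨⟨x, hx⟩, Groth.Agent.SteinConn.isPreconnected_closedFibre p hΓ⟩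
  haveI := Subtype.connectedSpace hc
  exact ((Limits.pullback.fst p res).isEmbedding.toHomeomorph).connectedSpace_iff.2 inferInstance

end Groth.Agent.S2209
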