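import Groth.Statements.S2211
import Mathlib
-- import your own Groth.Agent.* helpers here

set_option autoImplicit false
universe u
open DPow

namespace Groth.Agent.S2211

/-- First part: let p be a prime and A a ring in which every integer prime to p is invertible, I an
ideal of A. Two divided power structures on I coincide exactly when their p-th divided power maps
agree on I. -/
theorem result {A : Type u} [CommRing A] (p : ℕ) (hp : p.Prime)
    (hA : ∀ n : ℕ, ¬ p ∣ n → IsUnit (n : A)) {I : Ideal A} (γ γ' : DividedPowers I) :
    γ = γ' ↔ ∀ x ∈ I, γ.dpow p x = γ'.dpow p x := by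
  haveI : Fact p.Prime := ⟨hp⟩
  refine ⟨fun h x _ => by rw [h], fun h => DividedPowers.ext γ γ' fun n {x} hx => ?_⟩
  induction n using Nat.strong_induction_on generalizing x with
  | _ n ih =>
    rcases Nat.eq_zero_or_pos n with rfl | hn
    · rw [γ.dpow_zero hx, γ'.dpow_zero hx]
    rcases Nat.lt_or_ge n 2 with h2 | h2
    · obtain rfl : n = 1 := by omega
      rw [γ.dpow_one hx, γ'.dpow_one hx]
    by_cases hpn : p ∣ n
    · obtain ⟨q, rfl⟩ := hpn
      have hq : 0 < q := Nat.pos_of_mul_pos_left hn
      have hu : IsUnit ((Nat.uniformBell q p : ℕ) : A) := hA _ fun hd => by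
        have e := Nat.uniformBell_mul_eq q hp.ne_zero
        have h0 : Nat.uniformBell q p ≠ 0 := fun h0 => by
          rw [h0, zero_mul, zero_mul] at e
          exact Nat.factorial_ne_zero _ e.symm
        have hv := congrArg (padicValNat p) e
        rw [mul_comm q p, padicValNat_factorial_mul, padicValNat.mul (by positivity) (Nat.factorial_ne_zero q),
          padicValNat.mul h0 (by positivity), padicValNat.pow] at hv
        have h1 : padicValNat p p.factorial = 1 := by
          have := padicValNat_factorial_mul (p := p) 1
          simpa using this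
        rw [h1] at hv
        have h3 : 1 ≤ padicValNat p (Nat.uniformBell q p) := one_le_padicValNat_of_dvd h0 hd
        omega
      have hlt : q < p * q := lt_mul_left hq hp.one_lt
      have e1 := γ.dpow_comp (m := q) hp.ne_zero hx
      have e2 := γ'.dpow_comp (m := q) hp.ne_zero hx
      rw [h x hx, ih q hlt (γ'.dpow_mem hp.ne_zero hx)] at e1
      rw [mul_comm p q]
      exact hu.mul_left_cancel (e1.symm.trans e2)
    · have e1 := γ.mul_dpow (m := 1) (n := n - 1) hx
      have e2 := γ'.mul_dpow (m := 1) (n := n - 1) hx
      rw [Nat.add_sub_cancel' hn, Nat.choose_one_right, γ.dpow_one hx, ih (n - 1) (by omega) hx] at e1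
      rw [Nat.add_sub_cancel' hn, Nat.choose_one_right, γ'.dpow_one hx] at e2
      exact (hA n hpn).mul_left_cancel (e1.symm.trans e2)

end Groth.Agent.S2211
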