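import Groth.Statements.S2213
import Groth.Agent.DPowLib.Universal
import Mathlib.RingTheory.MvPolynomial.Basic

set_option autoImplicit false
universe u
open DPow

namespace Groth.Agent.S2213

/-- Let (A, I) be a ring with divided powers and t a natural number. There is a divided power ring (D,
J) with an A-algebra structure making A -> D a divided power homomorphism and elements x_1, ..., x_t
of J, such that for every divided power ring (C, K) with a divided power homomorphism A -> C and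
every choice of k_1, ..., k_t in K there is exactly one divided power homomorphism D -> C over A
sending x_i to k_i (the divided power polynomial algebra). -/
theorem result {A : Type u} [CommRing A] {I : Ideal A} (γ : DividedPowers I) (t : ℕ) :
    ∃ (D : Type u) (_ : CommRing D) (_ : Algebra A D) (J : Ideal D) (δ : DividedPowers J)
      (x : Fin t → D), (∀ i, x i ∈ J) ∧ γ.IsDPMorphism δ (algebraMap A D) ∧
      ∀ (C : Type u) [CommRing C] [Algebra A C] (K : Ideal C) (ε : DividedPowers K),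
        γ.IsDPMorphism ε (algebraMap A C) → ∀ k : Fin t → C, (∀ i, k i ∈ K) →
          ∃! φ : D →ₐ[A] C, (∀ i, φ (x i) = k i) ∧ δ.IsDPMorphism ε φ.toRingHom := by
  let Q := MvPolynomial (Fin t × ℕ) A
  let s : I ⊕ Fin t × ℕ → Q := Sum.elim (fun a => MvPolynomial.C (a : A)) fun ik => MvPolynomial.X ik
  let d : ℕ → I ⊕ Fin t × ℕ → Q := fun n => Sum.elim (fun a => MvPolynomial.C (γ.dpow n a))
    fun ik => (Nat.uniformBell n (ik.2 + 1) : Q) * MvPolynomial.X (ik.1, n * (ik.2 + 1) - 1)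
  have hd : ∀ n a, n ≠ 0 → d n a ∈ Ideal.span (Set.range s) := by
    rintro n (a | ik) hn
    · exact Ideal.subset_span ⟨.inl ⟨_, γ.dpow_mem hn a.2⟩, rfl⟩
    · exact Ideal.mul_mem_left _ _ (Ideal.subset_span ⟨.inr (ik.1, n * (ik.2 + 1) - 1), rfl⟩)
  obtain ⟨D, hD, π, J, δ, hπ, hJ, hadm, huniv⟩ := Groth.Agent.DPowLib.exists_universal s d hd
  letI algAD : Algebra A D := (π.comp MvPolynomial.C).toAlgebra
  let x : Fin t → D := fun i => π (MvPolynomial.X (i, 0))
  have hX : ∀ i k, π (MvPolynomial.X (i, k)) = δ.dpow (k + 1) (x i) := fun i k => by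
    refine (((hadm (.inr (i, 0))).2 (k + 1) k.succ_ne_zero).trans ?_).symm
    show π ((Nat.uniformBell (k + 1) (0 + 1) : Q) * MvPolynomial.X (i, (k + 1) * (0 + 1) - 1)) = _
    simp [Nat.uniformBell_one_right]
  refine ⟨D, hD, algAD, J, δ, x, fun i => (hadm (.inr (i, 0))).1, ⟨?_, fun {n} a ha => ?_⟩, ?_⟩
  · rw [Ideal.map_le_iff_le_comap]
    exact fun a ha => (hadm (.inl ⟨a, ha⟩)).1
  · rcases eq_or_ne n 0 with rfl | hn
    · rw [γ.dpow_zero ha, map_one]
      exact δ.dpow_zero (hadm (.inl ⟨a, ha⟩)).1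
    · exact (hadm (.inl ⟨a, ha⟩)).2 n hn
  intro C _ _ K ε hφ k hk
  let F : Q →+* C := MvPolynomial.eval₂Hom (algebraMap A C) fun ik => ε.dpow (ik.2 + 1) (k ik.1)
  have hF : Groth.Agent.DPowLib.Adm s d ε F := by
    rintro (a | ik)
    · refine ⟨?_, fun n hn => ?_⟩
      · show F (MvPolynomial.C (a : A)) ∈ K
        rw [MvPolynomial.eval₂Hom_C]; exact hφ.ideal_comp (Ideal.mem_map_of_mem _ a.2)
      · show ε.dpow n (F (MvPolynomial.C (a : A))) = F (MvPolynomial.C (γ.dpow n a))
        rw [MvPolynomial.eval₂Hom_C, MvPolynomial.eval₂Hom_C]; exact hφ.dpow_comp a a.2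
    · refine ⟨?_, fun n hn => ?_⟩
      · show F (MvPolynomial.X ik) ∈ K
        rw [MvPolynomial.eval₂Hom_X']; exact ε.dpow_mem ik.2.succ_ne_zero (hk _)
      · show ε.dpow n (F (MvPolynomial.X ik)) = F ((Nat.uniformBell n (ik.2 + 1) : Q) * MvPolynomial.X (ik.1, n * (ik.2 + 1) - 1))
        rw [map_mul, map_natCast, MvPolynomial.eval₂Hom_X', MvPolynomial.eval₂Hom_X', ε.dpow_comp ik.2.succ_ne_zero (hk _),
          Nat.sub_add_cancel (Nat.one_le_iff_ne_zero.2 (Nat.mul_ne_zero hn ik.2.succ_ne_zero))]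
  obtain ⟨g, hg, hgdp⟩ := huniv C K ε F hF
  let φ : D →ₐ[A] C := { g with commutes' := fun a => (RingHom.congr_fun hg (MvPolynomial.C a)).trans (MvPolynomial.eval₂Hom_C _ _ _) }
  refine ⟨φ, ⟨fun i => ?_, hgdp⟩, ?_⟩
  · show g (π (MvPolynomial.X (i, 0))) = k i
    rw [show g (π (MvPolynomial.X (i, 0))) = F (MvPolynomial.X (i, 0)) from RingHom.congr_fun hg _, MvPolynomial.eval₂Hom_X']
    exact ε.dpow_one (hk i)
  · rintro φ' ⟨hφ', hφ'dp⟩
    refine AlgHom.coe_ringHom_injective ((RingHom.cancel_right hπ).1 (MvPolynomial.ringHom_ext (fun a => ?_) fun ik => ?_))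
    · exact (φ'.commutes a).trans (φ.commutes a).symm
    · show φ' (π (MvPolynomial.X (ik.1, ik.2))) = g (π (MvPolynomial.X ik))
      rw [show g (π (MvPolynomial.X ik)) = F (MvPolynomial.X ik) from RingHom.congr_fun hg _, MvPolynomial.eval₂Hom_X',
        hX, ← hφ' ik.1]
      exact hφ'dp.map_dpow (hadm (.inr (ik.1, 0))).1

end Groth.Agent.S2213
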