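import Groth.Statements.S2219
import Mathlib

set_option autoImplicit false
universe u
open Disc

namespace Groth.Agent.S2219

theorem trace_add_of_exact {k U V W : Type*} [Field k] [AddCommGroup U] [Module k U] [AddCommGroup V] [Module k V]
    [AddCommGroup W] [Module k W] [FiniteDimensional k V] (i : U →ₗ[k] V) (g : V →ₗ[k] W)
    (hi : Function.Injective i) (hg : Function.Surjective g) (hex : Function.Exact i g)
    (fU : U →ₗ[k] U) (f : V →ₗ[k] V) (fW : W →ₗ[k] W) (h1 : f ∘ₗ i = i ∘ₗ fU) (h2 : g ∘ₗ f = fW ∘ₗ g) :
    LinearMap.trace k V f = LinearMap.trace k U fU + LinearMap.trace k W fW := by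
  haveI : FiniteDimensional k U := FiniteDimensional.of_injective i hi
  haveI : FiniteDimensional k W := Module.Finite.of_surjective g hg
  obtain ⟨s, hs⟩ := g.exists_rightInverse_of_surjective (LinearMap.range_eq_top.2 hg)
  obtain ⟨r, hr⟩ := i.exists_leftInverse_of_injective (LinearMap.ker_eq_bot.2 hi)
  obtain ⟨r', hr'⟩ : ∃ r' : V →ₗ[k] U, r' = r ∘ₗ (LinearMap.id - s ∘ₗ g) := ⟨_, rfl⟩
  have hsum : i ∘ₗ r' + s ∘ₗ g = LinearMap.id := by
    refine LinearMap.ext fun v => ?_
    have hk : g (v - s (g v)) = 0 := by
      rw [map_sub, ← LinearMap.comp_apply g s, hs, LinearMap.id_apply, sub_self]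
    obtain ⟨u, hu⟩ := (hex _).1 hk
    rw [hr']
    show i (r (v - s (g v))) + s (g v) = v
    rw [← hu, ← LinearMap.comp_apply r i, hr, LinearMap.id_apply, hu, sub_add_cancel]
  have hri : r' ∘ₗ i = LinearMap.id := by
    refine LinearMap.ext fun u => ?_
    rw [hr']
    show r (i u - s (g (i u))) = u
    rw [hex.apply_apply_eq_zero, map_zero, sub_zero, ← LinearMap.comp_apply r i, hr, LinearMap.id_apply]
  calc LinearMap.trace k V f = LinearMap.trace k V (f ∘ₗ (i ∘ₗ r' + s ∘ₗ g)) := by rw [hsum, LinearMap.comp_id]
    _ = LinearMap.trace k V ((f ∘ₗ i) ∘ₗ r') + LinearMap.trace k V ((f ∘ₗ s) ∘ₗ g) := by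
      rw [LinearMap.comp_add, map_add, LinearMap.comp_assoc, LinearMap.comp_assoc]
    _ = _ := by
      rw [LinearMap.trace_comp_comm' r' (f ∘ₗ i), LinearMap.trace_comp_comm' g (f ∘ₗ s), h1, ← LinearMap.comp_assoc, hri, LinearMap.id_comp,
        ← LinearMap.comp_assoc, h2, LinearMap.comp_assoc, hs, LinearMap.comp_id]

theorem trace_lsmul_eq (k A : Type u) [Field k] [CommRing A] [Algebra k A] [FiniteDimensional k A] [IsLocalRing A]
    (a : A) (M : Type u) [AddCommGroup M] [Module A M] [hM : Module.Finite A M] :
    ∀ [Module k M] [IsScalarTower k A M],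
    LinearMap.trace k M ((a • (LinearMap.id : M →ₗ[A] M)).restrictScalars k) =
      ((Module.length A M).toNat : k) * Algebra.trace k (IsLocalRing.ResidueField A) (IsLocalRing.residue A a) := by
  haveI : IsArtinianRing A := IsArtinianRing.of_finite k A
  induction hM using IsNoetherianRing.induction_on_isQuotientEquivQuotientPrime A with
  | subsingleton N =>
    intro _ _
    rw [Subsingleton.elim ((a • (LinearMap.id : N →ₗ[A] N)).restrictScalars k) 0, map_zero, Module.length_eq_zero]
    simp
  | quotient N p e =>
    intro _ _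
    have hp : p.asIdeal = IsLocalRing.maximalIdeal A := IsLocalRing.eq_maximalIdeal (IsArtinianRing.isMaximal_of_isPrime _)
    haveI : IsSimpleModule A (A ⧸ p.asIdeal) := isSimpleModule_iff_isCoatom.2 (hp ▸ (IsLocalRing.maximalIdeal.isMaximal A).out)
    rw [e.length_eq, Module.length_eq_one]
    let e' : N ≃ₗ[k] IsLocalRing.ResidueField A :=
      (e.trans (Submodule.quotEquivOfEq _ _ hp)).restrictScalars k
    have h : e'.conj ((a • (LinearMap.id : N →ₗ[A] N)).restrictScalars k) =
        LinearMap.mulLeft k (IsLocalRing.residue A a) := by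
      refine LinearMap.ext fun x => ?_
      obtain ⟨y, rfl⟩ := e'.surjective x
      rw [LinearEquiv.conj_apply_apply, e'.symm_apply_apply]
      show (e.trans (Submodule.quotEquivOfEq _ _ hp)) (a • y) = _
      rw [map_smul]
      rfl
    rw [← LinearMap.trace_conj' _ e', h]
    simp only [ENat.toNat_one, Nat.cast_one, one_mul]
    rfl
  | exact N1 N2 N3 f g hf hg hfg ih1 ih3 =>
    intro _ _
    letI : Module k N1 := Module.compHom N1 (algebraMap k A)
    haveI : IsScalarTower k A N1 := IsScalarTower.of_algebraMap_smul fun r x => rfl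
    letI : Module k N3 := Module.compHom N3 (algebraMap k A)
    haveI : IsScalarTower k A N3 := IsScalarTower.of_algebraMap_smul fun r x => rfl
    haveI : FiniteDimensional k N2 := Module.Finite.trans A N2
    have hlen : ∀ (L : Type u) [AddCommGroup L] [Module A L] [Module.Finite A L], Module.length A L ≠ ⊤ := fun L _ _ _ =>
      Module.length_ne_top
    rw [trace_add_of_exact (f.restrictScalars k) (g.restrictScalars k) hf hg hfg
      ((a • (LinearMap.id : N1 →ₗ[A] N1)).restrictScalars k) ((a • (LinearMap.id : N2 →ₗ[A] N2)).restrictScalars k)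
      ((a • (LinearMap.id : N3 →ₗ[A] N3)).restrictScalars k)
      (LinearMap.ext fun x => (f.map_smul a x).symm) (LinearMap.ext fun x => g.map_smul a x), ih1, ih3,
      Module.length_eq_add_of_exact f g hf hg hfg, ENat.toNat_add (hlen N1) (hlen N3), Nat.cast_add, add_mul]

/-- Equivalence of (1) and (3): let k be a field and A a finite-dimensional local k-algebra with residue
field k'. Then the trace map Tr_{A/k} is not identically zero if and only if k' is separable over k
and the length of A as a module over itself is not divisible by the characteristic of k (no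
condition in characteristic zero). -/
theorem result (k A : Type u) [Field k] [CommRing A]
    [Algebra k A] [FiniteDimensional k A] [IsLocalRing A] :
    Algebra.trace k A ≠ 0 ↔
      (Algebra.IsSeparable k (IsLocalRing.ResidueField A) ∧
        ∀ p : ℕ, p.Prime → CharP k p → ¬ p ∣ (Module.length A A).toNat) := by
  have key : ∀ a : A, Algebra.trace k A a =
      ((Module.length A A).toNat : k) * Algebra.trace k (IsLocalRing.ResidueField A) (IsLocalRing.residue A a) := fun a => by
    rw [← trace_lsmul_eq k A a A, Algebra.trace_apply]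
    congr 1
  have hne : Algebra.trace k A ≠ 0 ↔
      ((Module.length A A).toNat : k) ≠ 0 ∧ Algebra.trace k (IsLocalRing.ResidueField A) ≠ 0 := by
    constructor
    · intro h
      refine ⟨fun h0 => h (LinearMap.ext fun a => by rw [key, h0, zero_mul, LinearMap.zero_apply]),
        fun h0 => h (LinearMap.ext fun a => by rw [key, h0, LinearMap.zero_apply, mul_zero, LinearMap.zero_apply])⟩
    · rintro ⟨h1, h2⟩ h
      refine h2 (LinearMap.ext fun x => ?_)
      obtain ⟨a, rfl⟩ := IsLocalRing.residue_surjective x
      have := key a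
      rw [h, LinearMap.zero_apply, eq_comm, mul_eq_zero] at this
      simpa using this.resolve_left h1
  rw [hne, and_comm]
  refine and_congr ⟨fun h => by_contra fun hs => h (Algebra.trace_eq_zero_of_not_isSeparable hs), fun h => ?_⟩ ?_
  · exact Algebra.trace_ne_zero k (IsLocalRing.ResidueField A)
  · constructor
    · intro h p hp hc hdvd
      exact h ((CharP.cast_eq_zero_iff k p _).2 hdvd)
    · intro h h0
      rcases CharP.exists' k with hz | ⟨p, hp, hc⟩
      · haveI := hz
        rw [Nat.cast_eq_zero] at h0
        have : Module.length A A ≠ ⊤ := by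
          haveI : IsArtinianRing A := IsArtinianRing.of_finite k A
          exact Module.length_ne_top
        rcases ENat.toNat_eq_zero.1 h0 with h1 | h1
        · exact not_subsingleton A (Module.length_eq_zero_iff.1 h1)
        · exact this h1
      · exact h p hp.out hc ((CharP.cast_eq_zero_iff k p _).1 h0)

end Groth.Agent.S2219
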