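import Groth.Statements.S2220
import Mathlib

set_option autoImplicit false
universe u
open AlgebraicGeometry
open Disc

namespace Groth.Agent.S2220

open TensorProduct CategoryTheory

theorem ann_map {C C' : Type u} [CommRing C] [CommRing C'] (φ : C →+* C') (hφ : φ.Flat) (J : Ideal C) (hJ : J.FG) :
    Submodule.annihilator (J.map φ) = (Submodule.annihilator J).map φ := by
  classical
  letI := φ.toAlgebra
  haveI : Module.Flat C C' := hφ
  refine le_antisymm (fun ξ hξ => ?_) (Ideal.map_le_iff_le_comap.mpr fun x hx => ?_)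
  · obtain ⟨s, hs⟩ := hJ
    let Ψ : C →ₗ[C] (s → C) := LinearMap.pi fun g => LinearMap.mulLeft C (g : C)
    have key : ∀ t, ∀ g : s, TensorProduct.piRight C C C' (fun _ : s => C) (LinearMap.lTensor C' Ψ t) g =
        LinearMap.lTensor C' (LinearMap.mulLeft C (g : C)) t := by
      intro t g
      induction t using TensorProduct.induction_on with
      | zero => simp
      | tmul y z => simp [Ψ]
      | add u v hu hv => rw [map_add, map_add, map_add, Pi.add_apply, hu, hv]
    have h0 : LinearMap.lTensor C' Ψ (ξ ⊗ₜ[C] (1 : C)) = 0 := by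
      apply (TensorProduct.piRight C C C' (fun _ : s => C)).injective
      funext g
      rw [key, map_zero, Pi.zero_apply, LinearMap.lTensor_tmul, LinearMap.mulLeft_apply, mul_one]
      apply (TensorProduct.rid C C').injective
      rw [TensorProduct.rid_tmul, map_zero]
      have := Submodule.mem_annihilator.mp hξ (φ g) (Ideal.mem_map_of_mem φ (hs ▸ Ideal.subset_span g.2))
      rw [Algebra.smul_def, RingHom.algebraMap_toAlgebra, mul_comm]
      exact this
    obtain ⟨w, hw⟩ := (Module.Flat.lTensor_exact C' (LinearMap.exact_subtype_ker_map Ψ) _).mp h0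
    have hw' := congrArg (TensorProduct.rid C C') hw
    rw [TensorProduct.rid_tmul, one_smul] at hw'
    rw [← hw']
    clear h0 hw hw' hξ
    induction w using TensorProduct.induction_on with
    | zero => simp
    | tmul y z =>
      rw [LinearMap.lTensor_tmul, TensorProduct.rid_tmul, Algebra.smul_def, RingHom.algebraMap_toAlgebra]
      refine Ideal.mul_mem_right _ _ (Ideal.mem_map_of_mem φ ?_)
      rw [← hs, Ideal.span, Submodule.mem_annihilator_span]
      intro g
      have h2 := congrFun (LinearMap.mem_ker.mp z.2) g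
      simp only [Ψ, LinearMap.pi_apply, LinearMap.mulLeft_apply, Pi.zero_apply] at h2
      simpa [smul_eq_mul, mul_comm] using h2
    | add u v hu hv => rw [map_add, map_add]; exact Ideal.add_mem _ hu hv
  · rw [Ideal.mem_comap, Ideal.map, Ideal.span, Submodule.mem_annihilator_span]
    rintro ⟨_, g, hg, rfl⟩
    have := Submodule.mem_annihilator.mp hx g hg
    rw [smul_eq_mul] at this ⊢
    rw [← map_mul, this, map_zero]

section
variable {A B' B : Type u} [CommRing A] [CommRing B'] [CommRing B] [Algebra A B'] [Algebra A B]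
  [Algebra B' B] [IsScalarTower A B' B]

theorem eq_of_openImm (h : IsOpenImmersion (Spec.map (CommRingCat.ofHom (algebraMap B' B)))) {Q : Type u} [CommRing Q]
    (f g : B →+* Q) (hfg : f.comp (algebraMap B' B) = g.comp (algebraMap B' B)) : f = g := by
  have e : Spec.map (CommRingCat.ofHom f) ≫ Spec.map (CommRingCat.ofHom (algebraMap B' B)) =
      Spec.map (CommRingCat.ofHom g) ≫ Spec.map (CommRingCat.ofHom (algebraMap B' B)) := by
    rw [← Spec.map_comp, ← Spec.map_comp, ← CommRingCat.ofHom_comp, ← CommRingCat.ofHom_comp, hfg]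
  rw [cancel_mono] at e
  exact congrArg CommRingCat.Hom.hom (Spec.map_injective e)

/-- The map on enveloping algebras. -/
noncomputable def φ : B' ⊗[A] B' →ₐ[A] B ⊗[A] B :=
  Algebra.TensorProduct.map (IsScalarTower.toAlgHom A B' B) (IsScalarTower.toAlgHom A B' B)

theorem flat_φ (h : IsOpenImmersion (Spec.map (CommRingCat.ofHom (algebraMap B' B)))) :
    RingHom.Flat (φ : B' ⊗[A] B' →ₐ[A] B ⊗[A] B).toRingHom := by
  have hf : (algebraMap B' B).Flat := by
    have : Flat (Spec.map (CommRingCat.ofHom (algebraMap B' B))) := inferInstance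
    exact (HasRingHomProperty.Spec_iff (P := @Flat)).mp this
  exact RingHom.Flat.tensorProductMap hf hf

theorem ker_eq (h : IsOpenImmersion (Spec.map (CommRingCat.ofHom (algebraMap B' B)))) :
    RingHom.ker (Algebra.TensorProduct.lmul' (S := B) A) =
      (RingHom.ker (Algebra.TensorProduct.lmul' (S := B') A)).map (φ : B' ⊗[A] B' →ₐ[A] B ⊗[A] B).toRingHom := by
  refine le_antisymm ?_ (Ideal.map_le_iff_le_comap.mpr fun x hx => ?_)
  · generalize hI : (RingHom.ker (Algebra.TensorProduct.lmul' (S := B') A)).map
      (φ : B' ⊗[A] B' →ₐ[A] B ⊗[A] B).toRingHom = I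
    have he : ∀ s : B, (1 : B) ⊗ₜ[A] s - s ⊗ₜ[A] (1 : B) ∈ I := by
      intro s
      rw [← Ideal.Quotient.eq]
      refine RingHom.congr_fun (eq_of_openImm h
        ((Ideal.Quotient.mk I).comp (Algebra.TensorProduct.includeRight : B →ₐ[A] B ⊗[A] B).toRingHom)
        ((Ideal.Quotient.mk I).comp (Algebra.TensorProduct.includeLeftRingHom : B →+* B ⊗[A] B)) ?_) s
      refine RingHom.ext fun b => Ideal.Quotient.eq.mpr ?_
      rw [← hI]
      have hb : (1 : B') ⊗ₜ[A] b - b ⊗ₜ[A] (1 : B') ∈ RingHom.ker (Algebra.TensorProduct.lmul' (S := B') A) := by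
        simp [RingHom.mem_ker]
      convert Ideal.mem_map_of_mem (φ : B' ⊗[A] B' →ₐ[A] B ⊗[A] B).toRingHom hb using 1
      simp [φ]
    rw [show RingHom.ker (Algebra.TensorProduct.lmul' (S := B) A) = _ from (KaehlerDifferential.span_range_eq_ideal A B).symm]
    exact Ideal.span_le.mpr (Set.range_subset_iff.mpr he)
  · rw [Ideal.mem_comap, RingHom.mem_ker]
    rw [RingHom.mem_ker] at hx
    have e : (Algebra.TensorProduct.lmul' (S := B) A).comp (φ : B' ⊗[A] B' →ₐ[A] B ⊗[A] B) =
        (IsScalarTower.toAlgHom A B' B).comp (Algebra.TensorProduct.lmul' (S := B') A) := by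
      ext <;> simp [φ]
    have := AlgHom.congr_fun e x
    simpa [hx] using this

theorem noetherDifferent_eq [Algebra.FiniteType A B']
    (h : IsOpenImmersion (Spec.map (CommRingCat.ofHom (algebraMap B' B)))) :
    Disc.noetherDifferent A B = (Disc.noetherDifferent A B').map (algebraMap B' B) := by
  unfold Disc.noetherDifferent
  rw [ker_eq h, ann_map _ (flat_φ h) _ (KaehlerDifferential.ideal_fg A B')]
  rw [← Ideal.map_coe (Algebra.TensorProduct.lmul' (S := B) A),
    ← Ideal.map_coe (Algebra.TensorProduct.lmul' (S := B') A), Ideal.map_map, Ideal.map_map]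
  refine congrArg (fun f => Ideal.map f _) (RingHom.ext fun x => ?_)
  induction x using TensorProduct.induction_on with
  | zero => simp
  | tmul b c => simp [φ]
  | add u v hu hv => rw [map_add, map_add, hu, hv]

end

/-- Part (2): for ring maps A -> B' -> B with B' of finite type over A and Spec B -> Spec B' an open
immersion, the Noether different of B over A is the ideal generated by the image of that of B'. -/
theorem result {A B' B : Type u} [CommRing A] [CommRing B']
    [CommRing B] [Algebra A B'] [Algebra A B] [Algebra B' B] [IsScalarTower A B' B]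
    [Algebra.FiniteType A B']
    (h : IsOpenImmersion (Spec.map (CommRingCat.ofHom (algebraMap B' B)))) :
    Disc.noetherDifferent A B = (Disc.noetherDifferent A B').map (algebraMap B' B) := by
  exact noetherDifferent_eq h

end Groth.Agent.S2220
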