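import Groth.Statements.S2222
import Groth.Agent.InjDimLib.Dev
import Groth.Agent.S7445
import Groth.Agent.S7768
import Groth.Agent.S7769
import Groth.Agent.RegLocal.GlobalDim
import Groth.Agent.QCohLib.Exact
import Groth.Agent.KRRAmple.Resolvable
import Groth.Agent.GrpSchLib.Dimension

set_option autoImplicit false
universe u
open CategoryTheory AlgebraicGeometry
attribute [local instance] HasDerivedCategory.standard
open QCohCat
open CategoryTheory.Limits

namespace Groth.Agent.S2222

open Groth.Agent
attribute [local instance] HasDerivedCategory.standard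
set_option backward.isDefEq.respectTransparency false

open CategoryTheory.Limits in
/-- A quasi-coherent module embeds in a quasi-coherent module which is injective among all modules. -/
theorem exists_mono_injective (X : Scheme.{u}) [IsNoetherian X] (G : X.Modules) (hG : Coh.IsQCoh G) :
    ∃ (S : ShortComplex X.Modules), S.ShortExact ∧ S.X₁ = G ∧ Injective S.X₂ ∧ Coh.IsQCoh S.X₂ ∧
      Coh.IsQCoh S.X₃ := by
  haveI : EnoughInjectives (QCohCat.QCoh X) := Groth.Agent.S7445.result X
  let G' : QCohCat.QCoh X := ⟨G, hG⟩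
  haveI hm : Mono ((QCohCat.isQCoh X).ι.map (Injective.ι G')) := inferInstance
  have hI : Injective (Injective.under G') := inferInstance
  let f : G ⟶ (Injective.under G').obj := (QCohCat.isQCoh X).ι.map (Injective.ι G')
  haveI : Mono f := hm
  let J : QCohCat.QCoh X := Injective.under G'
  let S := ShortComplex.mk f _ (cokernel.condition f)
  have hS : S.ShortExact := { exact := ShortComplex.exact_cokernel f }
  exact ⟨S, hS, rfl, Groth.Agent.S7769.result X J hI,
    (Injective.under G').property, Groth.Agent.QCohLib.isQCoh_X₃ hS hG (Injective.under G').property⟩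

open Groth.Agent.DCohLib in
theorem injDim_of_stalks (X : Scheme.{u}) [IsNoetherian X] : ∀ (n : ℕ) (G : X.Modules), Coh.IsQCoh G →
    (∀ x : X, HasInjectiveDimensionLT ((stkF x).obj G) (n + 1)) → HasInjectiveDimensionLT G (n + 1) := by
  intro n
  induction n with
  | zero =>
    intro G hG h
    rw [← injective_iff_hasInjectiveDimensionLT_one]
    refine (Groth.Agent.S7768.result G hG).2 fun x => ?_
    have h' : Injective ((stkF x).obj G) := injective_iff_hasInjectiveDimensionLT_one.2 (h x)
    exact (Module.injective_iff_injective_object (X.presheaf.stalk x) ((stkF x).obj G)).2 h'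
  | succ n ih =>
    intro G hG h
    obtain ⟨S, hS, rfl, hI, hQ, hC⟩ := exists_mono_injective X G hG
    refine hS.hasInjectiveDimensionLT_X₁ (n + 1) (ih S.X₃ hC fun x => ?_) ?_
    · have hM : Module.Injective (X.presheaf.stalk x) ((stkF x).obj S.X₂) :=
        (Groth.Agent.S7768.result S.X₂ hQ).1 hI x
      haveI : Injective ((stkF x).obj S.X₂) :=
        (Module.injective_iff_injective_object (X.presheaf.stalk x) ((stkF x).obj S.X₂)).1 hM
      exact (hS.map_of_exact (stkF x)).hasInjectiveDimensionLT_X₃ (n + 1)
        (hasInjectiveDimensionLT_of_ge ((stkF x).obj S.X₂) 1 (n + 1) (by omega)) (h x)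
    · exact hasInjectiveDimensionLT_of_ge S.X₂ 1 (n + 1 + 1) (by omega)

theorem injDim_le (X : Scheme.{u}) [IsNoetherian X] (hreg : Models.IsRegularScheme X) (d : ℕ)
    (hd : topologicalKrullDim X = d) (G : X.Modules) (hG : Coh.IsQCoh G) :
    HasInjectiveDimensionLT G (d + 1) := by
  refine injDim_of_stalks X d G hG fun x => ?_
  haveI : IsRegularLocalRing (X.presheaf.stalk x) := hreg x
  have hle : ringKrullDim (X.presheaf.stalk x) ≤ (d : ℕ) := by
    rw [ringKrullDim_stalk_eq_coheight]
    exact (Order.coheight_le_krullDim x).trans (le_of_eq ((ASp.topologicalKrullDim_eq_krullDim (A := X)).symm.trans hd))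
  obtain ⟨e, he⟩ : ∃ e : ℕ, ringKrullDim (X.presheaf.stalk x) = e := by
    have h1 : ringKrullDim (X.presheaf.stalk x) ≠ ⊥ := ringKrullDim_ne_bot
    have h2 : ringKrullDim (X.presheaf.stalk x) ≠ ⊤ := ringKrullDim_ne_top
    obtain ⟨k, hk⟩ := WithBot.ne_bot_iff_exists.1 h1
    cases k with
    | top => exact absurd hk.symm h2
    | coe k => exact ⟨k, hk.symm⟩
  have hed : e ≤ d := by rw [he] at hle; exact_mod_cast hle
  refine RegLocal.hasInjectiveDimensionLT_of_cyclic d _ fun I => ?_
  haveI := RegLocal.hasProjectiveDimensionLT (X.presheaf.stalk x) e he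
    (ModuleCat.of (X.presheaf.stalk x) ((X.presheaf.stalk x) ⧸ I))
  haveI := hasProjectiveDimensionLT_of_ge (ModuleCat.of (X.presheaf.stalk x) ((X.presheaf.stalk x) ⧸ I))
    (e + 1) (d + 1) (by omega)
  exact HasProjectiveDimensionLT.subsingleton _ (d + 1) (d + 1) le_rfl _


/-- Let X be a Noetherian scheme all of whose local rings are regular and whose underlying space has
Krull dimension d. (1) For coherent O_X-modules F and G, every morphism F -> G[n] in the derived
category D(O_X) is zero when n > d (Ext^n_X(F, G) = 0). (2) For bounded objects K and L of D(O_X)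
with coherent cohomology sheaves, if the cohomology sheaves of K vanish below degree a + d and those
of L vanish from degree a upward, every morphism K -> L is zero. -/
theorem result (X : Scheme.{u}) [IsNoetherian X]
    (hreg : Models.IsRegularScheme X) (d : ℕ) (hd : topologicalKrullDim X = d) :
    (∀ (F G : X.Modules), Coh.IsCoh F → Coh.IsCoh G → ∀ n : ℤ, (d : ℤ) < n →
        ∀ φ : DCoh.inD X F ⟶ (shiftFunctor (DCoh.D X) n).obj (DCoh.inD X G), φ = 0) ∧
      ∀ (K L : DCoh.D X) (a cK bL : ℤ), DCoh.IsCohD K → DCoh.IsCohD L →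
        DerivedCategory.IsGE K (a + d) → DerivedCategory.IsLE K cK →
        DerivedCategory.IsGE L bL → DerivedCategory.IsLE L (a - 1) →
        ∀ φ : K ⟶ L, φ = 0 := by
  constructor
  · intro F G hF hG n hn φ
    obtain ⟨m, rfl⟩ := Int.eq_ofNat_of_zero_le (a := n) (by omega)
    haveI := injDim_le X hreg d hd G hG.1
    letI := HasExt.standard X.Modules
    haveI := HasInjectiveDimensionLT.subsingleton G (d + 1) m (by omega) F
    haveI := (Abelian.Ext.homEquiv (C := X.Modules) (X := F) (Y := G) (n := m)).symm.subsingleton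
    exact (Subsingleton.elim (α := ShiftedHom ((DerivedCategory.singleFunctor X.Modules 0).obj F)
      ((DerivedCategory.singleFunctor X.Modules 0).obj G) (m : ℤ)) _ _)
  · intro K L a cK bL _ hL h1 h2 h3 h4 φ
    obtain ⟨k, hk⟩ : ∃ k : ℕ, cK ≤ a + d + k - 1 :=
      ⟨(cK + 1 - a - d).toNat, by have := Int.self_le_toNat (cK + 1 - a - d); omega⟩
    haveI : DerivedCategory.IsLE K (a + d + k - 1) :=
      DerivedCategory.TStructure.t.isLE_of_le K cK _ hk
    refine InjDimLib.eq_zero_of_src k (a + d) K (fun p A hp _ _ g => ?_) φ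
    obtain ⟨l, hl⟩ : ∃ l : ℕ, bL + l - 1 ≥ a - 1 :=
      ⟨(a - bL).toNat, by have := Int.self_le_toNat (a - bL); omega⟩
    haveI : DerivedCategory.IsLE L (bL + l - 1) :=
      DerivedCategory.TStructure.t.isLE_of_le L (a - 1) _ hl
    refine InjDimLib.eq_zero_of_tgt l bL L (fun q B _ _ e g' => ?_) g
    by_cases hq : a ≤ q
    · haveI hz := DerivedCategory.isZero_of_isLE L (a - 1) q (by omega)
      have : IsZero ((DerivedCategory.singleFunctor X.Modules q).obj B) :=
        Functor.map_isZero _ (hz.of_iso e)
      exact this.eq_of_tgt _ _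
    · haveI := injDim_le X hreg d hd B (Groth.Agent.DCohLib.isQCoh_of_iso' e.symm (hL q).1)
      exact InjDimLib.single_eq_zero d p q (by omega) g'

end Groth.Agent.S2222
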