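import Groth.Statements.S2224
import Groth.Agent.S1001
import Groth.Agent.FMPerfLib.FlatKernel

set_option autoImplicit false
universe u
open CategoryTheory AlgebraicGeometry
attribute [local instance] HasDerivedCategory.standard
open QCohCat

namespace Groth.Agent.S2224

/-- Case (2) with the kernel a single coherent module: let S be a Noetherian scheme, X -> S and Y -> S
of finite type, and K a coherent module on X x_S Y which is flat over X and whose support is proper
over Y. Assuming the derived functors L pr_1^*, - tensor^L K and R pr_2,* exist (assumed as unproved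
hypotheses), the Fourier-Mukai transform R pr_2,* (L pr_1^* M tensor^L K) of any bounded object M of
D(O_X) with coherent cohomology sheaves is a bounded object of D(O_Y) with coherent cohomology
sheaves. -/
theorem result {S X Y : Scheme.{u}} [IsNoetherian S]
    (a : X ⟶ S) (b : Y ⟶ S) [LocallyOfFiniteType a] [QuasiCompact a] [LocallyOfFiniteType b]
    [QuasiCompact b] (K : (Limits.pullback a b).Modules) (hK : Coh.IsCoh K)
    (hflat : FlatMod.IsFlatOver (Limits.pullback.fst a b) K)
    (hsupp : ClSub.IsProperOver (Limits.pullback.snd a b) (CohB1.support K))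
    [DCoh.HasLpull (Limits.pullback.fst a b)] [DCoh.HasLTensorMod K]
    [DCoh.HasRpush (Limits.pullback.snd a b)]
    (M : DCoh.D X) (hM : DCoh.IsCohD M) (m n : ℤ) (hMge : DerivedCategory.IsGE M m)
    (hMle : DerivedCategory.IsLE M n) :
    DCoh.IsCohD ((DCoh.Rpush (Limits.pullback.snd a b)).obj
        ((DCoh.LTensorMod K).obj ((DCoh.Lpull (Limits.pullback.fst a b)).obj M))) ∧
      ∃ m' n' : ℤ, DerivedCategory.IsGE ((DCoh.Rpush (Limits.pullback.snd a b)).obj
          ((DCoh.LTensorMod K).obj ((DCoh.Lpull (Limits.pullback.fst a b)).obj M))) m' ∧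
        DerivedCategory.IsLE ((DCoh.Rpush (Limits.pullback.snd a b)).obj
          ((DCoh.LTensorMod K).obj ((DCoh.Lpull (Limits.pullback.fst a b)).obj M))) n' := by
  haveI : IsLocallyNoetherian X := LocallyOfFiniteType.isLocallyNoetherian a
  haveI : IsLocallyNoetherian Y := LocallyOfFiniteType.isLocallyNoetherian b
  haveI : CompactSpace X := QuasiCompact.compactSpace_of_compactSpace a
  haveI : CompactSpace Y := QuasiCompact.compactSpace_of_compactSpace b
  haveI : IsNoetherian Y := ⟨⟩
  haveI : IsLocallyNoetherian (Limits.pullback a b) :=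
    LocallyOfFiniteType.isLocallyNoetherian (Limits.pullback.snd a b)
  haveI : CompactSpace ↥(Limits.pullback a b) :=
    QuasiCompact.compactSpace_of_compactSpace (Limits.pullback.snd a b)
  haveI : IsNoetherian (Limits.pullback a b) := ⟨⟩
  haveI := hMge
  haveI := hMle
  let L := (DCoh.Lpull (Limits.pullback.fst a b)).obj M
  have hpc : ∀ i : ℤ, DCoh.IsPseudoCoherentD i L := fun i =>
    Groth.Agent.DCohLib.isPseudoCoherentD_lpull _ i M (Groth.Agent.DCohMore.isPseudoCoherentD_of_coh M n hM i)
  have hq := Groth.Agent.DCohMore.isQCohD_of_pc hpc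
  obtain ⟨-, c, hc⟩ := (Groth.Agent.TildePerf.pc_iff_noetherian L hq 0).1 (hpc 0)
  haveI := hc
  have hL : DCoh.IsCohD L := fun i =>
    ((Groth.Agent.TildePerf.pc_iff_noetherian L hq i).1 (hpc i)).1 i le_rfl
  obtain ⟨e⟩ := Groth.Agent.DCohMore.nonempty_lTensorMod_single K L
  let F := Groth.Agent.DCohMore.sgl₀ K
  have hF : DCoh.IsCohD (DCoh.toD (Limits.pullback a b) F) := fun i => by
    refine Groth.Agent.DCohLib.isCoh_iso
      ((DerivedCategory.homologyFunctorFactors _ i).app F).symm ?_
    rcases eq_or_ne i 0 with rfl | hi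
    · exact Groth.Agent.DCohLib.isCoh_iso
        (HomologicalComplex.singleObjHomologySelfIso (ComplexShape.up ℤ) 0 K).symm hK
    · exact Groth.Agent.DCohMore.isCoh_of_isZero
        ((HomologicalComplex.exactAt_iff_isZero_homology _ _).1
          (HomologicalComplex.exactAt_single_obj (ComplexShape.up ℤ) 0 K i hi))
  haveI : (DCoh.toD (Limits.pullback a b) F).IsLE 0 :=
    (DerivedCategory.isLE_iff _ _).2 fun i hi =>
      ((HomologicalComplex.exactAt_iff_isZero_homology _ _).1
        (HomologicalComplex.exactAt_single_obj (ComplexShape.up ℤ) 0 K i (by omega))).of_iso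
          ((DerivedCategory.homologyFunctorFactors _ i).app F)
  have hcoh : DCoh.IsCohD ((DCoh.LTensorMod K).obj L) :=
    Groth.Agent.DCohMore.isCohD_of_iso' e.symm (Groth.Agent.FMPerfLib.isCohD_lTensorCx F 0 hF L c hL)
  haveI := Groth.Agent.DCohMore.isLE_lTensorCx F 0 L c
  haveI : ((DCoh.LTensorMod K).obj L).IsLE (c + 0) :=
    (DerivedCategory.TStructure.t (C := (Limits.pullback a b).Modules)).isLE_of_iso e.symm (c + 0)
  obtain ⟨l, hl⟩ :=
    Groth.Agent.FMPerfLib.exists_isGE_transform (Limits.pullback.fst a b) K hflat M m n hMge hMle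
  haveI := hl
  obtain ⟨h1, h2, r', h3⟩ := Groth.Agent.S1001.result (Limits.pullback.snd a b) _ l (c + 0) hcoh fun i =>
    Groth.Agent.ClSubLib.isProperOver_subset _ hsupp
      (Groth.Agent.PullbackMod.isClosed_support_of_isFT (hcoh i).2)
      (Groth.Agent.DCohMore.support_lTensorMod_subset L K i)
  exact ⟨h1, l, r', h2, h3⟩

end Groth.Agent.S2224
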