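import Groth.Statements.S2225
import Groth.Agent.GorLib.Quotient
import Groth.Agent.GorLib.Ring
import Groth.Agent.FormalAmpleLib.Kernel
import Groth.Agent.RegLocal.Basic

set_option autoImplicit false
universe u
open CategoryTheory AlgebraicGeometry
open Models

namespace Groth.Agent.S2225

/-- Part (1), for the closed fibre: let R be a discrete valuation ring with fraction field K, C a smooth
proper curve over K and X a regular model of C over R (flat, of finite type, all local rings
regular). Then every local ring of the special fibre X_k is a Gorenstein local ring; together with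
flatness and regularity of the generic fibre this says X -> Spec R is a Gorenstein morphism. -/
theorem result (R : Type u) [CommRing R] [IsDomain R]
    [IsDiscreteValuationRing R] (C X : Scheme.{u})
    (f : C ⟶ Spec (CommRingCat.of (FractionRing R))) (p : X ⟶ Spec (CommRingCat.of R))
    (hC : Curve.IsSmoothProperCurve (FractionRing R) C f) (hX : Models.IsModel R X p C f)
    (hreg : Models.IsRegularScheme X) (x : ↥(Models.specialFibre R X p)) :
    LocCoh.IsGorensteinLocalRing ((Models.specialFibre R X p).presheaf.stalk x) := by
  classical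
  haveI : Flat p := hX.1
  obtain ⟨π, hπ⟩ := IsDiscreteValuationRing.exists_irreducible R
  let ψ : CommRingCat.of R ⟶ CommRingCat.of (IsLocalRing.ResidueField R) :=
    CommRingCat.ofHom (algebraMap R (IsLocalRing.ResidueField R))
  have hψ : Function.Surjective ψ := IsLocalRing.residue_surjective
  let i : Models.specialFibre R X p ⟶ X := Limits.pullback.fst p (Spec.map ψ)
  have hpb : IsPullback i (Limits.pullback.snd p (Spec.map ψ)) p (Spec.map ψ) := IsPullback.of_hasPullback _ _
  haveI : IsClosedImmersion (Spec.map ψ) := IsClosedImmersion.spec_of_surjective ψ hψ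
  haveI : IsClosedImmersion i := MorphismProperty.of_isPullback hpb.flip inferInstance
  let f : X.presheaf.stalk (i x) := Groth.Agent.FormalAmple.baseStalk p (i x) π
  have hker : RingHom.ker (i.stalkMap x).hom = Ideal.span {f} := by
    rw [Groth.Agent.FormalAmple.ker_stalkMap_of_isPullback hpb hψ x]
    show (RingHom.ker (algebraMap R (IsLocalRing.ResidueField R))).map _ = _
    rw [IsLocalRing.ResidueField.algebraMap_eq, IsLocalRing.ker_residue, hπ.maximalIdeal_eq, Ideal.map_span, Set.image_singleton]
  haveI := hreg (i x)
  haveI : IsDomain (X.presheaf.stalk (i x)) := Groth.Agent.RegLocal.isDomain (X.presheaf.stalk (i x))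
  have hinj : Function.Injective (p.stalkMap (i x)).hom := by
    have hflat : (p.stalkMap (i x)).hom.Flat := Flat.stalkMap p (i x)
    algebraize [(p.stalkMap (i x)).hom]
    haveI : IsLocalHom (algebraMap ((Spec (CommRingCat.of R)).presheaf.stalk (p (i x))) (X.presheaf.stalk (i x))) := inferInstanceAs (IsLocalHom (p.stalkMap (i x)).hom)
    haveI : Module.FaithfullyFlat ((Spec (CommRingCat.of R)).presheaf.stalk (p (i x))) (X.presheaf.stalk (i x)) :=
      Module.FaithfullyFlat.of_flat_of_isLocalHom
    exact FaithfulSMul.algebraMap_injective _ _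
  have hf0 : f ≠ 0 := by
    intro h0
    have e : f = (p.stalkMap (i x)).hom ((Spec (CommRingCat.of R)).presheaf.germ ⊤ (p (i x)) trivial
        ((Scheme.ΓSpecIso (CommRingCat.of R)).inv π)) :=
      (Scheme.Hom.germ_stalkMap_apply p ⊤ (i x) trivial _).symm
    rw [e, ← map_zero (p.stalkMap (i x)).hom] at h0
    have h2 := hinj h0
    rw [← map_zero ((Spec (CommRingCat.of R)).presheaf.germ ⊤ (p (i x)) trivial).hom] at h2
    have h3 := germ_injective_of_isIntegral _ (U := ⊤) (p (i x)) trivial h2
    exact hπ.ne_zero ((Scheme.ΓSpecIso (CommRingCat.of R)).commRingCatIsoToRingEquiv.symm.injective (h3.trans (map_zero _).symm))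
  have hfm : f ∈ IsLocalRing.maximalIdeal (X.presheaf.stalk (i x)) := by
    have h1 : (i.stalkMap x).hom f = 0 := RingHom.mem_ker.1 (hker ▸ Ideal.mem_span_singleton_self f)
    exact fun hu => not_isUnit_zero (h1 ▸ hu.map (i.stalkMap x).hom)
  have hG := (Groth.Agent.GorLib.gorenstein_quot_iff (X.presheaf.stalk (i x)) f hfm (IsSMulRegular.of_ne_zero hf0)).1
    (Groth.Agent.GorLib.gorensteinLocal_of_regular _)
  exact Groth.Agent.GorLib.gorenstein_of_ringEquiv
    ((Ideal.quotEquivOfEq hker.symm).trans (RingHom.quotientKerEquivOfSurjective (i.stalkMap_surjective x))) hG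

end Groth.Agent.S2225
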