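import Groth.Statements.S2227
import Groth.Agent.NodePtLib.EtaleLocal.Scheme
import Groth.Agent.NodePtLib.EtaleLocal.DVR
import Groth.Agent.NodePtLib.EtaleLocal.Smooth

set_option autoImplicit false
universe u
open CategoryTheory AlgebraicGeometry
open Models

namespace Groth.Agent.S2227

open CategoryTheory CategoryTheory.Limits AlgebraicGeometry

open Groth.Agent NodePtLib IsLocalRing
set_option backward.isDefEq.respectTransparency false

/-- Let R be a discrete valuation ring with uniformizer ϖ and X → Spec R an at-worst-nodal family of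
relative dimension one. For every point x of X lying over the closed point of Spec R there are: a
discrete valuation ring R' with an étale ring map R → R' sending ϖ to a uniformizer of R', an
element h of R'[u, v] which is either 0 or the constant ϖⁿ for some n (via R → R'), a scheme U with
an étale morphism e : U → X whose image contains x, and an étale morphism g : U → Spec(R'[u, v]/(uv
− h)), such that the two composites U → Spec R (through g and through e) agree. (The étaleness of g
is part of the statement here; the published display leaves it implicit.) -/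
theorem result (R : Type u) [CommRing R] [IsDomain R]
    [IsDiscreteValuationRing R] (ϖ : R) (hϖ : Irreducible ϖ) (X : Scheme.{u})
    (p : X ⟶ Spec (CommRingCat.of R)) (hp : Curv2.IsNodalFamily p) (x : X)
    (hx : p.base x = IsLocalRing.closedPoint R) :
    ∃ (R' : Type u) (_ : CommRing R') (_ : IsDomain R') (_ : IsDiscreteValuationRing R')
      (_ : Algebra R R') (_ : Algebra.Etale R R') (_ : Irreducible (algebraMap R R' ϖ))
      (h : MvPolynomial (Fin 2) R') (_ : h = 0 ∨ ∃ n : ℕ, h = MvPolynomial.C (algebraMap R R' ϖ ^ n))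
      (U : Scheme.{u}) (e : U ⟶ X) (_ : Etale e) (x' : U) (_ : e.base x' = x)
      (g : U ⟶ Spec (CommRingCat.of (MvPolynomial (Fin 2) R' ⧸
        Ideal.span {MvPolynomial.X 0 * MvPolynomial.X 1 - h}))) (_ : Etale g),
      g ≫ Spec.map (CommRingCat.ofHom ((Ideal.Quotient.mk _).comp
          (MvPolynomial.C.comp (algebraMap R R')))) = e ≫ p := by
  haveI := hp.1
  haveI := hp.2.1
  let Rc := CommRingCat.of R
  have hV : IsAffineOpen (⊤ : (Spec Rc).Opens) := isAffineOpen_top _
  let i₀ : R →+* Γ(Spec Rc, ⊤) := (Scheme.ΓSpecIso Rc).inv.hom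
  have hi₀ : Function.Bijective i₀ := (Scheme.ΓSpecIso Rc).symm.commRingCatIsoToRingEquiv.bijective
  rcases goodPt_of_family p hp x with hs | hn
  · -- smooth points
    obtain ⟨V, W, hV', hW, e, hxW, g, hgC, hg⟩ := EtaleLocal.exists_etale_line p (fun s => (hp.2.2 s).1) x hs
    obtain rfl : V = ⊤ := top_unique fun y _ => by
      have h1 : closedPoint R ∈ V := hx ▸ e hxW
      exact Specializes.mem_open (specializes_closedPoint y) V.2 h1
    let 𝔭 := (hW.primeIdealOf ⟨x, hxW⟩).asIdeal
    let φ : R →+* Γ(X, W) := (p.appLE ⊤ W e).hom.comp i₀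
    let gR : MvPolynomial (Fin 1) R →+* Γ(X, W) := g.comp (MvPolynomial.map i₀)
    have hgR : gR.Etale := by
      refine RingHom.Etale.stableUnderComposition _ _ (RingHom.Etale.of_bijective ?_) hg
      exact (MvPolynomial.mapEquiv (Fin 1) (RingEquiv.ofBijective i₀ hi₀)).bijective
    have hgRC : ∀ r, gR (MvPolynomial.C r) = φ r := fun r => by
      show g (MvPolynomial.map i₀ (MvPolynomial.C r)) = _
      rw [MvPolynomial.map_C]
      exact RingHom.congr_fun hgC (i₀ r)
    -- shift the coordinate away from zero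
    obtain ⟨g', hg', hgC', hX⟩ : ∃ g' : MvPolynomial (Fin 1) R →+* Γ(X, W), g'.Etale ∧
        (∀ r, g' (MvPolynomial.C r) = φ r) ∧ g' (MvPolynomial.X 0) ∉ 𝔭 := by
      by_cases h0 : gR (MvPolynomial.X 0) ∈ 𝔭
      · let sh : MvPolynomial (Fin 1) R →+* MvPolynomial (Fin 1) R :=
          MvPolynomial.eval₂Hom MvPolynomial.C fun i => MvPolynomial.X i + 1
        let sh' : MvPolynomial (Fin 1) R →+* MvPolynomial (Fin 1) R :=
          MvPolynomial.eval₂Hom MvPolynomial.C fun i => MvPolynomial.X i - 1
        have h1 : sh'.comp sh = RingHom.id _ := MvPolynomial.ringHom_ext (fun r => by simp [sh, sh']) fun i => by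
          simp [sh, sh']
        have h2 : sh.comp sh' = RingHom.id _ := MvPolynomial.ringHom_ext (fun r => by simp [sh, sh']) fun i => by
          simp [sh, sh']
        have hbij : Function.Bijective sh := ⟨Function.LeftInverse.injective (g := sh') fun w => RingHom.congr_fun h1 w,
          Function.RightInverse.surjective (g := sh') fun w => RingHom.congr_fun h2 w⟩
        refine ⟨gR.comp sh, RingHom.Etale.stableUnderComposition _ _ (RingHom.Etale.of_bijective hbij) hgR,
          fun r => by rw [RingHom.comp_apply, show sh (MvPolynomial.C r) = MvPolynomial.C r from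
            MvPolynomial.eval₂Hom_C _ _ _, hgRC], fun hmem => ?_⟩
        rw [RingHom.comp_apply, show sh (MvPolynomial.X 0) = MvPolynomial.X 0 + 1 from MvPolynomial.eval₂Hom_X' _ _ _,
          map_add, map_one] at hmem
        exact (hW.primeIdealOf ⟨x, hxW⟩).2.ne_top ((Ideal.eq_top_iff_one _).2 ((Ideal.add_mem_iff_right _ h0).1 hmem))
      · exact ⟨gR, hgR, hgRC, h0⟩
    let τ := g' (MvPolynomial.X 0)
    let Q := Localization.Away τ
    let jQ : Γ(X, W) →+* Q := algebraMap _ Q
    have hjQ : RingHom.Etale (R := Γ(X, W)) (S := Q) jQ :=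
      RingHom.etale_algebraMap.2 (Algebra.Etale.of_isLocalizationAway τ)
    obtain ⟨E, hE⟩ := EtaleLocal.exists_equiv_torus R
    let L := Localization.Away (MvPolynomial.X 0 : MvPolynomial (Fin 1) R)
    let ψ : L →+* Q := IsLocalization.Away.lift (MvPolynomial.X 0) (g := jQ.comp g')
      (IsLocalization.Away.algebraMap_isUnit τ)
    have hψe : ∀ w, ψ (algebraMap _ L w) = jQ (g' w) := fun w => IsLocalization.Away.lift_eq _ _ w
    have hψ : RingHom.Etale (R := L) (S := Q) ψ := by
      refine EtaleLocal.etale_of_comp (algebraMap _ L) ψ (RingHom.etale_algebraMap.2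
        (Algebra.Etale.of_isLocalizationAway (MvPolynomial.X 0 : MvPolynomial (Fin 1) R))) ?_
      have h := RingHom.Etale.stableUnderComposition _ _ hg' hjQ
      rwa [show ψ.comp (algebraMap _ L) = jQ.comp g' from RingHom.ext hψe]
    let em := ψ.comp E.symm.toRingHom
    have hem : RingHom.Etale em :=
      RingHom.Etale.stableUnderComposition _ _ (RingHom.Etale.of_bijective (f := E.symm.toRingHom) E.symm.bijective) hψ
    have hdisj : Disjoint (Submonoid.powers τ : Set Γ(X, W)) 𝔭 := Set.disjoint_left.2 fun w ⟨n, hn⟩ hw => by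
      subst hn
      exact hX (Ideal.IsPrime.mem_of_pow_mem inferInstance n hw)
    haveI : (𝔭.map jQ).IsPrime :=
      IsLocalization.isPrime_of_isPrime_disjoint (.powers τ) Q 𝔭 inferInstance hdisj
    haveI : Etale (Spec.map (CommRingCat.ofHom jQ)) := (HasRingHomProperty.Spec_iff (P := @Etale)).2 hjQ
    refine ⟨R, inferInstance, inferInstance, inferInstance, Algebra.id R, inferInstance, by simpa using hϖ, 1,
      Or.inr ⟨0, by simp⟩, Spec (CommRingCat.of Q), Spec.map (CommRingCat.ofHom jQ) ≫ hW.fromSpec, inferInstance,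
      ⟨𝔭.map jQ, inferInstance⟩, ?_, Spec.map (CommRingCat.ofHom em), (HasRingHomProperty.Spec_iff (P := @Etale)).2 hem, ?_⟩
    · show hW.fromSpec (Spec.map (CommRingCat.ofHom jQ) ⟨𝔭.map jQ, inferInstance⟩) = x
      refine Eq.trans (congrArg hW.fromSpec ?_) (hW.fromSpec_primeIdealOf ⟨_, hxW⟩)
      exact PrimeSpectrum.ext (IsLocalization.comap_map_of_isPrime_disjoint (.powers τ) Q inferInstance hdisj)
    · rw [Category.assoc, ← IsAffineOpen.SpecMap_appLE_fromSpec p hV' hW e]
      have hfS : hV'.fromSpec = Spec.map (Scheme.ΓSpecIso Rc).inv := by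
        rw [IsAffineOpen.fromSpec_top, Scheme.isoSpec_Spec_inv]
      rw [hfS, ← Spec.map_comp, ← Spec.map_comp, ← Spec.map_comp]
      refine congrArg Spec.map (CommRingCat.hom_ext (RingHom.ext fun r => ?_))
      show ψ (E.symm (Ideal.Quotient.mk _ (MvPolynomial.C r))) = jQ (φ r)
      rw [← hE r, E.symm_apply_apply, hψe, hgC']
  · -- nodes
    obtain ⟨_, ⟨U₀, hU, rfl⟩, hxU, -⟩ := X.isBasis_affineOpens.exists_subset_of_mem_open
      (Set.mem_univ x) isOpen_univ
    have hUV : U₀ ≤ p ⁻¹ᵁ (⊤ : (Spec Rc).Opens) := fun w _ => trivial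
    let z := p.asFiber x
    have hx₀ : p.fiberι (p x) z = x := p.fiberι_asFiber x
    have hz : p.fiberι (p x) z ∈ U₀ := by rw [hx₀]; exact hxU
    letI := (p.appLE ⊤ U₀ hUV).hom.toAlgebra
    haveI : Algebra.FinitePresentation Γ(Spec Rc, ⊤) Γ(X, U₀) := p.finitePresentation_appLE hV hU hUV
    haveI : Module.Flat Γ(Spec Rc, ⊤) Γ(X, U₀) := p.flat_appLE hV hU hUV
    obtain ⟨R', Q, _, _, gV, gU, pp, a, e, 𝔔, _, hgV, hgU, he, hcomp, hep, hQ⟩ :=
      EtaleLocal.exists_etale_model _ (EtaleLocal.nodeData p (p x) z hV hU hUV hz trivial hn)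
    let φ : R →+* Γ(X, U₀) := (p.appLE ⊤ U₀ hUV).hom.comp i₀
    have hfS : hV.fromSpec = Spec.map (Scheme.ΓSpecIso Rc).inv := by
      rw [IsAffineOpen.fromSpec_top, Scheme.isoSpec_Spec_inv]
    have hcl : (𝔔.comap gU).comap φ = maximalIdeal R := by
      have h := congrArg PrimeSpectrum.asIdeal (show
        Spec.map (CommRingCat.ofHom φ) (hU.primeIdealOf ⟨_, hz⟩) = closedPoint R from ?_)
      · rw [hQ]; exact h
      have h2 : Spec.map (CommRingCat.ofHom φ) = hU.fromSpec ≫ p := by
        rw [← IsAffineOpen.SpecMap_appLE_fromSpec p hV hU hUV, hfS, ← Spec.map_comp]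
        rfl
      rw [h2, Scheme.Hom.comp_apply]
      refine (congrArg p (hU.fromSpec_primeIdealOf ⟨_, hz⟩)).trans ?_
      show p (p.fiberι (p x) z) = closedPoint R
      rw [hx₀]
      exact hx
    obtain ⟨R'', i1, i2, i3, i4, i5, hirr, h, hh, Q'', iQ, gU'', hgU'', e'', he'', 𝔔'', _, hQ'', hc''⟩ :=
      EtaleLocal.exists_model_dvr hϖ φ (gV.comp i₀) gU pp a e 𝔔
        (RingHom.Etale.stableUnderComposition _ _ (RingHom.Etale.of_bijective hi₀) hgV) hgU he
        (RingHom.ext fun r => RingHom.congr_fun hcomp (i₀ r)) hep hcl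
    haveI : Etale (Spec.map (CommRingCat.ofHom gU'')) := (HasRingHomProperty.Spec_iff (P := @Etale)).2 hgU''
    refine ⟨R'', i1, i2, i3, i4, i5, hirr, h, hh, Spec (CommRingCat.of Q''),
      Spec.map (CommRingCat.ofHom gU'') ≫ hU.fromSpec, inferInstance, ⟨𝔔'', inferInstance⟩, ?_,
      Spec.map (CommRingCat.ofHom e''), (HasRingHomProperty.Spec_iff (P := @Etale)).2 he'', ?_⟩
    · show hU.fromSpec (Spec.map (CommRingCat.ofHom gU'') ⟨𝔔'', inferInstance⟩) = x
      refine Eq.trans (congrArg hU.fromSpec ?_) ((hU.fromSpec_primeIdealOf ⟨_, hz⟩).trans hx₀)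
      exact PrimeSpectrum.ext (hQ''.trans hQ)
    · rw [Category.assoc, ← IsAffineOpen.SpecMap_appLE_fromSpec p hV hU hUV, hfS, ← Spec.map_comp, ← Spec.map_comp,
        ← Spec.map_comp]
      exact congrArg Spec.map (CommRingCat.hom_ext hc''.symm)

end Groth.Agent.S2227
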