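import Groth.Statements.S2232
import Groth.Agent.S0921
import Groth.Agent.S1001
import Groth.Agent.S1005
import Groth.Agent.FMPerfLib.Bounded

set_option autoImplicit false
universe u
open CategoryTheory AlgebraicGeometry
attribute [local instance] HasDerivedCategory.standard
open QCohCat

namespace Groth.Agent.S2232

/-- Case (3): let S be Noetherian, X -> S and Y -> S of finite type with all local rings of X regular,
and K a bounded complex of modules on X x_S Y with coherent cohomology sheaves whose supports are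
proper over Y. Assuming the derived functors L pr_1^*, - tensor^L K and R pr_2,* exist (unproved
hypotheses carried as binders), the Fourier-Mukai transform of a bounded object of D(O_X) with
coherent cohomology sheaves is a bounded object of D(O_Y) with coherent cohomology sheaves. -/
theorem result {S X Y : Scheme.{u}} [IsNoetherian S]
    (a : X ⟶ S) (b : Y ⟶ S) [LocallyOfFiniteType a] [QuasiCompact a] [LocallyOfFiniteType b]
    [QuasiCompact b] (hreg : Models.IsRegularScheme X)
    (K : CochainComplex (Limits.pullback a b).Modules ℤ)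
    (hKcoh : DCoh.IsCohD (DCoh.toD (Limits.pullback a b) K)) (kₗ kᵤ : ℤ)
    (hKge : DerivedCategory.IsGE (DCoh.toD (Limits.pullback a b) K) kₗ)
    (hKle : DerivedCategory.IsLE (DCoh.toD (Limits.pullback a b) K) kᵤ)
    (hsupp : ∀ i : ℤ, ClSub.IsProperOver (Limits.pullback.snd a b)
      (CohB1.support (DCoh.HD (DCoh.toD (Limits.pullback a b) K) i)))
    [DCoh.HasLpull (Limits.pullback.fst a b)] [DCoh.HasLTensorCx K]
    [DCoh.HasRpush (Limits.pullback.snd a b)]
    (M : DCoh.D X) (hM : DCoh.IsCohD M) (m n : ℤ) (hMge : DerivedCategory.IsGE M m)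
    (hMle : DerivedCategory.IsLE M n) :
    DCoh.IsCohD ((DCoh.Rpush (Limits.pullback.snd a b)).obj
        ((DCoh.LTensorCx K).obj ((DCoh.Lpull (Limits.pullback.fst a b)).obj M))) ∧
      ∃ m' n' : ℤ, DerivedCategory.IsGE ((DCoh.Rpush (Limits.pullback.snd a b)).obj
        ((DCoh.LTensorCx K).obj ((DCoh.Lpull (Limits.pullback.fst a b)).obj M))) m' ∧
        DerivedCategory.IsLE ((DCoh.Rpush (Limits.pullback.snd a b)).obj
        ((DCoh.LTensorCx K).obj ((DCoh.Lpull (Limits.pullback.fst a b)).obj M))) n' := by
  haveI : IsLocallyNoetherian X := LocallyOfFiniteType.isLocallyNoetherian a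
  haveI : IsLocallyNoetherian Y := LocallyOfFiniteType.isLocallyNoetherian b
  haveI : CompactSpace X := QuasiCompact.compactSpace_of_compactSpace a
  haveI : CompactSpace Y := QuasiCompact.compactSpace_of_compactSpace b
  haveI : IsNoetherian Y := ⟨⟩
  haveI : IsLocallyNoetherian (Limits.pullback a b) :=
    LocallyOfFiniteType.isLocallyNoetherian (Limits.pullback.snd a b)
  haveI : CompactSpace ↥(Limits.pullback a b) :=
    QuasiCompact.compactSpace_of_compactSpace (Limits.pullback.snd a b)
  haveI := hMge
  haveI := hMle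
  haveI := hKge
  haveI := hKle
  have hP := Groth.Agent.S0921.result (Limits.pullback.fst a b) M (Groth.Agent.S1005.result X hreg M m n hM)
  let ι := ↥(Finset.Icc kₗ kᵤ)
  let Zf : ι → Set ↥(Limits.pullback a b) := fun i =>
    CohB1.support (DCoh.HD (DCoh.toD (Limits.pullback a b) K) i.1)
  have hZp : ClSub.IsProperOver (Limits.pullback.snd a b) (Set.iUnion Zf) :=
    Groth.Agent.ClSubLib.isProperOver_iUnion _ Zf fun i => hsupp i.1
  have hZ : ∀ i : ℤ, CohB1.support (DCoh.HD (DCoh.toD (Limits.pullback a b) K) i) ⊆ Set.iUnion Zf := by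
    intro i x hx
    by_cases hi : i ∈ Finset.Icc kₗ kᵤ
    · exact Set.mem_iUnion.2 ⟨⟨i, hi⟩, hx⟩
    · have hz : Limits.IsZero (DCoh.HD (DCoh.toD (Limits.pullback a b) K) i) := by
        rw [Finset.mem_Icc] at hi
        rcases lt_or_ge i kₗ with h | h
        · exact DerivedCategory.isZero_of_isGE _ kₗ i h
        · exact DerivedCategory.isZero_of_isLE _ kᵤ i (by omega)
      exact absurd (ModuleCat.subsingleton_of_isZero
        ((Groth.Agent.DCohLib.stkF x).map_isZero hz)) hx
  obtain ⟨hc, ⟨l, r, hl, hr⟩, hs⟩ :=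
    Groth.Agent.FMPerfLib.cohBddOn_lTensorCx _ hP K hKcoh kₗ kᵤ hKge hKle _ hZ
  haveI := hl
  haveI := hr
  obtain ⟨h1, h2, r', h3⟩ := Groth.Agent.S1001.result (Limits.pullback.snd a b) _ l r hc fun i =>
    Groth.Agent.ClSubLib.isProperOver_subset _ hZp
      (Groth.Agent.PullbackMod.isClosed_support_of_isFT (hc i).2) (hs i)
  exact ⟨h1, l, r', h2, h3⟩

end Groth.Agent.S2232
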