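import Groth.Statements.S2235
import Groth.Agent.TateLib.Koszul
import Groth.Agent.GorInvLib.Det
import Groth.Agent.RelDivLib.FlatSeq

set_option autoImplicit false
universe u
open TensorProduct
open Disc

namespace Groth.Agent.S2235

theorem aux {A P B : Type u} [CommRing A] [CommRing P] [Algebra A P] [CommRing B] [Algebra A B] [Module.Flat A B]
    {n : ℕ} (f : Fin n → P) (hf : LCI.IsKoszulRegularSeq P (List.ofFn f))
    (π : P →ₐ[A] B) (hπ : Function.Surjective π) (hker : RingHom.ker π = Ideal.span (Set.range f))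
    (g : Fin n → P ⊗[A] B)
    (hgker : Ideal.span (Set.range g) = RingHom.ker (Algebra.TensorProduct.productMap π (AlgHom.id A B)))
    (c : Matrix (Fin n) (Fin n) (P ⊗[A] B)) (hc : ∀ i, f i ⊗ₜ[A] (1 : B) = ∑ j, c i j * g j) :
    Submodule.annihilator (RingHom.ker (Algebra.TensorProduct.lmul' (S := B) A)) =
      Ideal.span {Algebra.TensorProduct.map π (AlgHom.id A B) c.det} := by
  let q := Algebra.TensorProduct.map π (AlgHom.id A B)
  have hq : Function.Surjective q := fun z => by
    induction z using TensorProduct.induction_on with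
    | zero => exact ⟨0, map_zero _⟩
    | tmul x y => obtain ⟨p, rfl⟩ := hπ x; exact ⟨p ⊗ₜ y, rfl⟩
    | add x y hx hy => obtain ⟨a, rfl⟩ := hx; obtain ⟨b, rfl⟩ := hy; exact ⟨a + b, map_add _ _ _⟩
  let f' : Fin n → P ⊗[A] B := fun i => f i ⊗ₜ[A] (1 : B)
  have hqker : RingHom.ker q = Ideal.span (Set.range f') := by
    rw [show RingHom.ker q = (RingHom.ker π).map (Algebra.TensorProduct.includeLeft : P →ₐ[A] P ⊗[A] B) from
      Algebra.TensorProduct.rTensor_ker (C := B) π hπ, hker, Ideal.map_span, ← Set.range_comp]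
    rfl
  have hf' : LCI.IsKoszulRegularSeq (P ⊗[A] B) (List.ofFn f') := by
    have := RelDivLib.isKoszulRegularSeq_flat (S := P ⊗[A] B) hf
    rwa [List.map_ofFn] at this
  have hm : ∀ z, Algebra.TensorProduct.lmul' (S := B) A (q z) = Algebra.TensorProduct.productMap π (AlgHom.id A B) z := by
    intro z
    induction z using TensorProduct.induction_on with
    | zero => simp
    | tmul x y => simp [q]
    | add x y hx hy => simp only [map_add, hx, hy]
  have hgm : ∀ j, q (g j) ∈ RingHom.ker (Algebra.TensorProduct.lmul' (S := B) A) := fun j => by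
    rw [RingHom.mem_ker, hm]
    exact RingHom.mem_ker.1 (hgker ▸ Ideal.subset_span ⟨j, rfl⟩)
  refine le_antisymm (fun x hx => ?_) ?_
  · obtain ⟨a, rfl⟩ := hq x
    have ha : ∀ j, a * g j ∈ Ideal.span (Set.range f') := fun j => by
      rw [← hqker, RingHom.mem_ker, map_mul]
      exact Submodule.mem_annihilator.1 hx _ (hgm j)
    obtain ⟨u, hu, v, hv, rfl⟩ := Submodule.mem_sup.1
      (TateLib.mem_of_forall_mul_mem f' g c hc hf' a ha)
    obtain ⟨w, rfl⟩ := Ideal.mem_span_singleton'.1 hv
    rw [map_add, RingHom.mem_ker.1 (hqker.symm ▸ hu : u ∈ RingHom.ker q), zero_add, map_mul]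
    exact Ideal.mem_span_singleton'.2 ⟨q w, rfl⟩
  · rw [Ideal.span_singleton_le_iff_mem, Submodule.mem_annihilator]
    intro y hy
    obtain ⟨z, rfl⟩ := hq y
    rw [RingHom.mem_ker, hm, ← RingHom.mem_ker, ← hgker] at hy
    obtain ⟨w, hw⟩ := Ideal.mem_span_range_iff_exists_fun.1 hy
    show q c.det * q z = 0
    rw [← map_mul, ← RingHom.mem_ker, hqker, ← hw, Finset.mul_sum]
    refine Ideal.sum_mem _ fun j _ => ?_
    rw [mul_left_comm, mul_comm c.det]
    refine Ideal.mul_mem_left _ _ (GorInvLib.mul_det_mem g c _ (fun i => ?_) j)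
    rw [show (c.mulVec g) i = f' i from (hc i).symm]
    exact Ideal.subset_span ⟨i, rfl⟩

/-- Let A -> P be a ring map, f_1, ..., f_n a Koszul-regular sequence in P with B = P/(f_1, ..., f_n)
flat over A, and g_1, ..., g_n a Koszul-regular sequence in P tensor_A B generating the kernel of
the multiplication map P tensor_A B -> B. Write f_i tensor 1 = sum_j c_ij g_j. Then the annihilator
of the kernel of B tensor_A B -> B is the principal ideal generated by the image of det(c_ij). -/
theorem result {A P : Type u} [CommRing A] [CommRing P] [Algebra A P]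
    {n : ℕ} (f : Fin n → P) (hf : LCI.IsKoszulRegularSeq P (List.ofFn f))
    [Module.Flat A (P ⧸ Ideal.span (Set.range f))]
    (g : Fin n → P ⊗[A] (P ⧸ Ideal.span (Set.range f)))
    (hg : LCI.IsKoszulRegularSeq (P ⊗[A] (P ⧸ Ideal.span (Set.range f))) (List.ofFn g))
    (hgker : Ideal.span (Set.range g) = RingHom.ker (Algebra.TensorProduct.productMap
      (Ideal.Quotient.mkₐ A (Ideal.span (Set.range f))) (AlgHom.id A (P ⧸ Ideal.span (Set.range f)))))
    (c : Matrix (Fin n) (Fin n) (P ⊗[A] (P ⧸ Ideal.span (Set.range f))))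
    (hc : ∀ i, f i ⊗ₜ[A] (1 : P ⧸ Ideal.span (Set.range f)) = ∑ j, c i j * g j) :
    Submodule.annihilator (RingHom.ker
        (Algebra.TensorProduct.lmul' (S := P ⧸ Ideal.span (Set.range f)) A)) =
      Ideal.span {Algebra.TensorProduct.map (Ideal.Quotient.mkₐ A (Ideal.span (Set.range f)))
        (AlgHom.id A (P ⧸ Ideal.span (Set.range f))) (Matrix.det c)} := by
  exact aux f hf (Ideal.Quotient.mkₐ A (Ideal.span (Set.range f))) Ideal.Quotient.mk_surjective Ideal.mk_ker g hgker c hc

end Groth.Agent.S2235
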