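import Groth.Statements.S2236
import Groth.Agent.NLLib.LCI
import Groth.Agent.PerfMorLib.Poly
import Groth.Agent.FibPdLib.Basic
set_option backward.isDefEq.respectTransparency false
set_option linter.style.haveILetI false

set_option autoImplicit false
universe u
attribute [local instance] HasDerivedCategory.standard
open LCI

namespace Groth.Agent.S2236

open CategoryTheory in
/-- Finite tor dimension of a finite module over a noetherian ring bounds its projective dimension. -/
theorem pdLT {T : Type u} [CommRing T] [IsNoetherianRing T] : ∀ (r : ℕ) (M : Type u) [AddCommGroup M] [Module T M]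
    [Module.Finite T M], DRing.HasTorDimLE T r M → HasProjectiveDimensionLT (ModuleCat.of T M) (r + 1) := by
  intro r
  induction r with
  | zero =>
    intro M _ _ _ h
    rw [DRingLib.hasTorDimLE_zero_iff] at h
    rw [PdFlat.hasPDLT_one_iff]
    haveI := h
    haveI := Module.finitePresentation_of_finite T M
    exact Module.Flat.projective_of_finitePresentation
  | succ r ih =>
    intro M _ _ _ h
    obtain ⟨a, p, hp⟩ := Module.Finite.exists_fin' T M
    haveI : Module.Finite T (LinearMap.ker p) := Module.Finite.of_fg (IsNoetherian.noetherian _)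
    exact (RegLocal.syzygy_iff p hp r).2 (ih _ (WEField.torDim_shift_down _ _ M (LinearMap.ker p).subtype p
      Subtype.val_injective hp (LinearMap.exact_subtype_ker_map p) r h))

open CategoryTheory in
/-- Equivalence of (1) and (3): let A be a Noetherian ring and B an A-algebra of finite type which has
finite Tor-dimension as an A-module (so that A -> B is a perfect ring map). Then NL_{B/A} has
tor-amplitude in [-1, 0] if and only if A -> B is a local complete intersection homomorphism (some
presentation has Koszul-regular kernel ideal). -/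
theorem result {A B : Type u} [CommRing A] [CommRing B]
    [Algebra A B] [IsNoetherianRing A] [Algebra.FiniteType A B] (hB : DRing.HasFiniteTorDim A B) :
    DRing.HasTorAmplitudeIn B (-1) 0 (LCI.NL A B) ↔ LCI.IsLCI A B := by
  refine ⟨fun h => ?_, fun h => (NLLib.isPerfect_and_amp_of_isLCI h).2⟩
  obtain ⟨n, φ, hφ⟩ := Algebra.FiniteType.iff_quotient_mvPolynomial''.mp ‹Algebra.FiniteType A B›
  let T := MvPolynomial (Fin n) A
  letI : Algebra T B := φ.toRingHom.toAlgebra
  obtain ⟨d, hd⟩ := PerfMorLib.hasFiniteTorDim_iff.2 (PerfMorLib.td_mvPolynomial_fin n (φ := algebraMap T B)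
    (by
      rw [show (algebraMap T B).comp MvPolynomial.C = algebraMap A B from φ.comp_algebraMap]
      exact PerfMorLib.hasFiniteTorDim_iff.1 hB))
  haveI : Module.Finite T B := Module.Finite.of_surjective (Algebra.linearMap T B) hφ
  have hB' := pdLT d B hd
  haveI := hB'
  haveI : HasProjectiveDimensionLT (ModuleCat.of T B) (d + 1 + 1) :=
    hasProjectiveDimensionLT_of_ge _ (d + 1) (d + 1 + 1) (Nat.le_succ _)
  haveI : HasProjectiveDimensionLT (ModuleCat.of T T) (d + 1) :=
    hasProjectiveDimensionLT_of_ge _ 1 (d + 1) (Nat.le_add_left 1 d)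
  let J : Ideal T := RingHom.ker (algebraMap T B)
  let Sc : ShortComplex (ModuleCat.{u} T) := ShortComplex.mk (ModuleCat.ofHom J.subtype)
    (ModuleCat.ofHom (Algebra.linearMap T B)) (by ext ⟨x, hx⟩; exact hx)
  have hS : Sc.ShortExact :=
    { exact := (ShortComplex.ShortExact.moduleCat_exact_iff_function_exact _).2 fun x =>
        ⟨fun hx => ⟨⟨x, hx⟩, rfl⟩, by rintro ⟨y, hy⟩; rw [← hy]; exact y.2⟩
      mono_f := (ModuleCat.mono_iff_injective _).2 Subtype.val_injective
      epi_g := (ModuleCat.epi_iff_surjective _).2 hφ }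
  have hpd : HasProjectiveDimensionLT (ModuleCat.of T J) (d + 1) :=
    hS.hasProjectiveDimensionLT_X₁ (d + 1) ‹_› ‹_›
  haveI := (NLLib.hasTorAmplitude_iff_flat (NLLib.gens φ hφ)).1 h
  have h7 := NLLib.flat_ideal_cotangent (NLLib.gens φ hφ).toExtension
  have hk : (NLLib.gens φ hφ).toExtension.ker = J := NLLib.ker_gens φ hφ
  haveI : Module.Flat (T ⧸ J) J.Cotangent :=
    (congrArg (fun I : Ideal T => Module.Flat (T ⧸ I) I.Cotangent) hk).mp h7
  haveI : Module.Finite T J.Cotangent := Module.Finite.of_surjective _ J.toCotangent_surjective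
  haveI : Module.Finite (T ⧸ J) J.Cotangent := Module.Finite.of_restrictScalars_finite T _ _
  haveI : Module.FinitePresentation (T ⧸ J) J.Cotangent := Module.finitePresentation_of_finite _ _
  haveI : Module.Projective (T ⧸ J) J.Cotangent := Module.Flat.projective_of_finitePresentation
  refine ⟨inferInstance, n, φ, hφ, fun p hp => ?_⟩
  obtain ⟨g, hg, rs, hrs, hgen⟩ := S2189.result J (d + 1) hpd p.asIdeal hp
  exact ⟨g, hg, rs, CILib.isKoszulRegularSeq_of_isWeaklyRegular rs hrs.toIsWeaklyRegular, hgen.symm⟩

end Groth.Agent.S2236
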