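import Groth.Statements.S2237
import Groth.Agent.S9169
import Groth.Agent.CILib.LCIFlat
-- import your own Groth.Agent.* helpers here

set_option backward.isDefEq.respectTransparency false
set_option linter.style.haveILetI false

set_option autoImplicit false
universe u
attribute [local instance] HasDerivedCategory.standard
open LCI

namespace Groth.Agent.S2237

/-- Implication (2) to (5), affine form: let A -> B be flat, quasi-finite and a local complete
intersection homomorphism (finite type with a Koszul-regular presentation). Then for every prime q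
of B there are g in B outside q, a natural number n and polynomials f_1, ..., f_n in A[x_1, ...,
x_n] such that B_g is isomorphic as an A-algebra to A[x_1, ..., x_n]/(f_1, ..., f_n). -/
theorem result {A B : Type u} [CommRing A]
    [CommRing B] [Algebra A B] [Module.Flat A B] [Algebra.QuasiFinite A B] (hlci : LCI.IsLCI A B)
    (q : Ideal B) [q.IsPrime] :
    ∃ g : B, g ∉ q ∧ ∃ (n : ℕ) (f : Fin n → MvPolynomial (Fin n) A),
      Nonempty (Localization.Away g ≃ₐ[A]
        (MvPolynomial (Fin n) A ⧸ Ideal.span (Set.range f))) := by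
  have hs : Synt.IsSyntomic A B := Groth.Agent.CILib.isSyntomic_iff_flat_and_isLCI.2 ⟨inferInstance, hlci⟩
  haveI := hlci.1
  let p := q.comap (algebraMap A B)
  haveI : q.LiesOver p := ⟨rfl⟩
  let e := PrimeSpectrum.preimageEquivFiber A B ⟨p, inferInstance⟩
  let Q := e ⟨⟨q, inferInstance⟩, rfl⟩
  have hQ : Q.asIdeal.comap (Algebra.TensorProduct.includeRight : B →ₐ[A] p.Fiber B).toRingHom = q := by
    have := congrArg (fun x => x.1.asIdeal) (e.symm_apply_apply ⟨⟨q, inferInstance⟩, rfl⟩)
    exact this
  obtain ⟨g, hg, n, c, F, hF, ⟨E⟩⟩ := (Groth.Agent.S9169.result A B p q Q.asIdeal hQ).1.1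
    ⟨1, fun h1 => Ideal.IsPrime.ne_top ‹q.IsPrime› ((Ideal.eq_top_iff_one q).2 h1),
      Groth.Agent.CILib.isSyntomic_away hs 1 _⟩
  refine ⟨g, hg, ?_⟩
  haveI : Algebra.QuasiFinite A (Localization.Away g) := Algebra.QuasiFinite.trans A B _
  haveI : Algebra.QuasiFinite A (Synt.RelGCIRing A n c F) :=
    Algebra.QuasiFinite.of_surjective_algHom E.toAlgHom E.surjective
  have hnt : Nontrivial ((⟨p, inferInstance⟩ : PrimeSpectrum A).asIdeal.Fiber (Synt.RelGCIRing A n c F)) := by
    haveI hP : (q.map (algebraMap B (Localization.Away g))).IsPrime :=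
      IsLocalization.isPrime_of_isPrime_disjoint (Submonoid.powers g) _ q inferInstance
        ((Ideal.disjoint_powers_iff_notMem_of_isPrime _).2 hg)
    let Pg : Ideal (Synt.RelGCIRing A n c F) := (q.map (algebraMap B (Localization.Away g))).comap E.symm
    haveI : Pg.IsPrime := Ideal.IsPrime.comap _
    have hPg : Pg.comap (algebraMap A (Synt.RelGCIRing A n c F)) = p := by
      show ((q.map (algebraMap B (Localization.Away g))).comap E.symm.toRingHom).comap _ = _
      rw [Ideal.comap_comap, show E.symm.toRingHom.comp (algebraMap A _) = algebraMap A _ from E.symm.toAlgHom.comp_algebraMap,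
        IsScalarTower.algebraMap_eq A B (Localization.Away g), ← Ideal.comap_comap, ← Ideal.under_def B,
        IsLocalization.under_map_of_isPrime_disjoint (Submonoid.powers g) _ ‹q.IsPrime›
          ((Ideal.disjoint_powers_iff_notMem_of_isPrime _).2 hg)]
    exact ((PrimeSpectrum.preimageEquivFiber A (Synt.RelGCIRing A n c F) ⟨p, inferInstance⟩)
      ⟨⟨Pg, inferInstance⟩, PrimeSpectrum.ext hPg⟩).nontrivial
  obtain ⟨hcn, hdim⟩ := hF ⟨p, inferInstance⟩ hnt
  haveI := hnt
  haveI : IsArtinianRing (p.Fiber (Synt.RelGCIRing A n c F)) := IsArtinianRing.of_finite p.ResidueField (p.Fiber (Synt.RelGCIRing A n c F))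
  have h0 : ringKrullDim (p.Fiber (Synt.RelGCIRing A n c F)) = 0 :=
    le_antisymm ((Ring.krullDimLE_iff (n := 0)).1
      ((isArtinianRing_iff_isNoetherianRing_krullDimLE_zero (R := p.Fiber (Synt.RelGCIRing A n c F))).1 inferInstance).2) ringKrullDim_nonneg_of_nontrivial
  have : n - c = 0 := by exact_mod_cast (h0.symm.trans hdim).symm
  obtain rfl : c = n := by omega
  exact ⟨c, F, ⟨E⟩⟩

end Groth.Agent.S2237
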