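import Groth.Statements.S2340
import Groth.Agent.QAffLib.Basic

set_option autoImplicit false
set_option linter.style.haveILetI false
set_option linter.unusedVariables false
set_option backward.isDefEq.respectTransparency false
universe u
open CategoryTheory CategoryTheory.Limits AlgebraicGeometry
open EGA2

namespace Groth.Agent.S2340

/-- Let f : X → Y and g : Y → Z be morphisms of schemes with g ∘ f quasi-affine and g quasi-separated.
Then f is quasi-affine. -/
theorem result {X Y Z : Scheme.{u}} (f : X ⟶ Y) (g : Y ⟶ Z) [QuasiSeparated g]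
    (h : Mor2.IsQuasiAffine (f ≫ g)) : Mor2.IsQuasiAffine f := by
  haveI := h.1
  haveI : QuasiCompact f := QuasiCompact.of_comp f g
  refine Groth.Agent.QAffLib.isQuasiAffine_of_cover _ fun y => ?_
  obtain ⟨V, hV, hyV, -⟩ := exists_isAffineOpen_mem_and_subset (U := (⊤ : Z.Opens)) (show g y ∈ (⊤ : Z.Opens) from trivial)
  obtain ⟨W, hW, hyW, hle⟩ := exists_isAffineOpen_mem_and_subset (U := g ⁻¹ᵁ V) (show y ∈ g ⁻¹ᵁ V from hyV)
  refine ⟨W, hW, hyW, ?_⟩
  haveI := h.2 V hV
  exact Groth.Agent.QAffLib.open_of_le _ ((f ≫ g) ⁻¹ᵁ V) (f.preimage_mono hle) (Groth.Agent.QAffLib.qc_preimage f hW)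

end Groth.Agent.S2340
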