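import Groth.Statements.S2342
import Groth.Agent.ValSection.Basic

set_option autoImplicit false
universe u
open CategoryTheory CategoryTheory.Limits AlgebraicGeometry
open EGA2

namespace Groth.Agent.S2342

/-- Let A be a valuation ring with Y = Spec A, X an integral separated scheme and f : X → Y a morphism
which is closed as a map of topological spaces, such that the fibre over the generic point of Y
consists of exactly one point x and the induced map from the residue field of the generic point of Y
to that of x is bijective. Then f is an isomorphism. -/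
theorem result (A : Type u) [CommRing A] [IsDomain A] [ValuationRing A]
    (X : Scheme.{u}) [IsIntegral X] [X.IsSeparated] (f : X ⟶ Spec (CommRingCat.of A)) (hf : IsClosedMap f.base)
    (x : X) (hx : f.base ⁻¹' {genericPoint (Spec (CommRingCat.of A))} = {x})
    (hres : Function.Bijective (f.residueFieldMap x).hom) : IsIso f := by
  let K := FractionRing A
  let g : Spec (CommRingCat.of K) ⟶ Spec (CommRingCat.of A) :=
    Spec.map (CommRingCat.ofHom (algebraMap A K))
  have hfx : f x = genericPoint (Spec (CommRingCat.of A)) :=
    (hx.ge (rfl : x ∈ ({x} : Set X)) : x ∈ f.base ⁻¹' {genericPoint (Spec (CommRingCat.of A))})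
  have hgη : g (IsLocalRing.closedPoint K) = f x := by
    rw [hfx, genericPoint_eq_bot_of_affine]
    refine PrimeSpectrum.ext ?_
    show (IsLocalRing.maximalIdeal K).comap (algebraMap A K) = ⊥
    rw [IsLocalRing.maximalIdeal_eq_bot]
    exact (RingHom.injective_iff_ker_eq_bot _).1 (IsFractionRing.injective A K)
  obtain ⟨ψ, hψ⟩ : ∃ ψ : (Spec (CommRingCat.of A)).residueField (f x) ⟶ CommRingCat.of K,
      Spec.map ψ ≫ (Spec (CommRingCat.of A)).fromSpecResidueField (f x) = g := by
    have key : ∀ y, g (IsLocalRing.closedPoint K) = y →
        ∃ ψ : (Spec (CommRingCat.of A)).residueField y ⟶ CommRingCat.of K,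
          Spec.map ψ ≫ (Spec (CommRingCat.of A)).fromSpecResidueField y = g := by
      rintro y rfl
      exact ⟨_, Scheme.descResidueField_stalkClosedPointTo_fromSpecResidueField K _ g⟩
    exact key _ hgη
  have : IsIso (f.residueFieldMap x) := (ConcreteCategory.isIso_iff_bijective _).2 hres
  let i₁ : Spec (CommRingCat.of K) ⟶ X :=
    Spec.map (inv (f.residueFieldMap x) ≫ ψ) ≫ X.fromSpecResidueField x
  have w : i₁ ≫ f = g := by
    simp only [i₁, Category.assoc, ← Scheme.Hom.SpecMap_residueFieldMap_fromSpecResidueField]
    rw [← Spec.map_comp_assoc, IsIso.hom_inv_id_assoc, hψ]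
  have : IsSeparated f := inferInstance
  obtain ⟨s, ⟨hs, hs'⟩, -⟩ := Groth.Agent.ValSection.existsUnique_section A K f hf i₁ w
  have hxgen : genericPoint X = x := by
    have h1 : f (genericPoint X) = genericPoint (Spec (CommRingCat.of A)) := by
      refine (Specializes.antisymm ?_ (genericPoint_specializes _)).eq
      rw [← hfx]
      exact (genericPoint_specializes x).map f.continuous
    exact hx.le (show genericPoint X ∈ f.base ⁻¹' _ from h1)
  have hsx : x ∈ Set.range s := by
    refine ⟨g (IsLocalRing.closedPoint K), ?_⟩
    rw [← Scheme.Hom.comp_apply, show g ≫ s = i₁ from hs']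
    simp [i₁]
  have : IsClosedImmersion s := by
    have : IsClosedImmersion (s ≫ f) := by rw [hs]; infer_instance
    exact IsClosedImmersion.of_comp s f
  have : Surjective s := ⟨fun z =>
    ((hxgen ▸ genericPoint_specializes z : x ⤳ z)).mem_closed
      s.isClosedEmbedding.isClosed_range hsx⟩
  have : IsIso s := isIso_of_isClosedImmersion_of_surjective s
  exact ⟨s, by rw [← cancel_epi s, ← Category.assoc, hs]; simp, hs⟩

end Groth.Agent.S2342
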