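import Groth.Statements.S2343
import Groth.Agent.Hensel.QuasiFinite
import Mathlib.AlgebraicGeometry.Morphisms.QuasiFinite
import Mathlib.AlgebraicGeometry.Morphisms.Finite
import Mathlib.AlgebraicGeometry.Morphisms.Proper

set_option autoImplicit false
universe u
open CategoryTheory CategoryTheory.Limits AlgebraicGeometry
open EGA2

namespace Groth.Agent.S2343

/-- Let A be a complete Noetherian local ring, X a separated scheme locally of finite type over Spec A,
and x a point of X over the closed point which is isolated in its fibre. Then the local ring of X at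
x is a finite A-module and the canonical morphism Spec O_{X,x} → X is both an open and a closed
immersion (X is the disjoint sum of Spec O_{X,x} and another open subscheme). -/
theorem result (A : Type u) [CommRing A] [IsLocalRing A] [IsNoetherianRing A]
    [IsAdicComplete (IsLocalRing.maximalIdeal A) A] (X : Scheme.{u}) (f : X ⟶ Spec (CommRingCat.of A)) [LocallyOfFiniteType f] [IsSeparated f]
    (x : X) (hx : f.base x = IsLocalRing.closedPoint A)
    (hisol : IsOpen ((Subtype.val : (f.base ⁻¹' {IsLocalRing.closedPoint A}) → X) ⁻¹' {x})) :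
    ((Scheme.ΓSpecIso (CommRingCat.of A)).inv ≫ f.appTop ≫ X.presheaf.germ ⊤ x trivial).hom.Finite ∧ IsOpenImmersion (X.fromSpecStalk x) ∧ IsClosedImmersion (X.fromSpecStalk x) := by
  obtain ⟨_, ⟨V, hV, rfl⟩, hxV, -⟩ := X.isBasis_affineOpens.exists_subset_of_mem_open
    (Set.mem_univ x) isOpen_univ
  replace hV : IsAffineOpen V := hV
  -- quasi-finiteness at `x`
  have hqf : f.QuasiFiniteAt x := by
    rw [Scheme.Hom.quasiFiniteAt_iff_isOpen_singleton_asFiber,
      ← (f.fiberHomeo (f x)).isOpen_image]
    simp only [Set.image_singleton, Scheme.Hom.asFiber, Homeomorph.apply_symm_apply]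
    have key : ∀ (p : ↥(Spec (CommRingCat.of A))) (hp : f.base x = p),
        IsOpen ((Subtype.val : (f.base ⁻¹' {p}) → X) ⁻¹' {x}) →
          IsOpen ({⟨x, hp⟩} : Set (f.base ⁻¹' {p})) := by
      intro p hp h
      convert h using 1
      ext ⟨y, hy⟩
      simp [Subtype.ext_iff]
    exact key (f.base x) rfl (hx ▸ hisol)
  let φ : CommRingCat.of A ⟶ Γ(X, V) :=
    (Scheme.ΓSpecIso (CommRingCat.of A)).inv ≫ f.appLE ⊤ V le_top
  have hfac : hV.fromSpec ≫ f = Spec.map φ := by
    rw [← IsAffineOpen.SpecMap_appLE_fromSpec f (isAffineOpen_top _) hV le_top,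
      IsAffineOpen.fromSpec_top, Scheme.isoSpec_Spec_inv, ← Spec.map_comp]
  have hft : φ.hom.FiniteType := by
    have : LocallyOfFiniteType (Spec.map φ) := hfac ▸ inferInstance
    exact (HasRingHomProperty.Spec_iff (P := @LocallyOfFiniteType)).mp this
  algebraize [φ.hom]
  let q := hV.primeIdealOf ⟨x, hxV⟩
  have hq : q.asIdeal.comap (algebraMap A Γ(X, V)) = IsLocalRing.maximalIdeal A := by
    have h : f.base (hV.fromSpec.base q) = (Spec.map φ).base q := congr(($hfac).base q)
    rw [show hV.fromSpec q = x from hV.fromSpec_primeIdealOf ⟨x, hxV⟩] at h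
    exact congr(($(h.symm.trans hx)).asIdeal)
  haveI : Algebra.QuasiFiniteAt A q.asIdeal := by
    let e := f.appLE ⊤ V le_top
    have h1 : e.hom.QuasiFiniteAt q.asIdeal := hqf.quasiFiniteAt hV (isAffineOpen_top _) le_top hxV
    letI : Algebra A Γ(Spec (CommRingCat.of A), ⊤) :=
      (Scheme.ΓSpecIso (CommRingCat.of A)).inv.hom.toAlgebra
    letI : Algebra Γ(Spec (CommRingCat.of A), ⊤) Γ(X, V) := e.hom.toAlgebra
    haveI : IsScalarTower A Γ(Spec (CommRingCat.of A), ⊤) Γ(X, V) :=
      IsScalarTower.of_algebraMap_eq' rfl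
    haveI : Algebra.QuasiFinite Γ(Spec (CommRingCat.of A), ⊤) (Localization.AtPrime q.asIdeal) := h1
    haveI : Module.Finite A Γ(Spec (CommRingCat.of A), ⊤) := by
      refine Module.Finite.of_surjective (Algebra.linearMap A _) ?_
      exact (Scheme.ΓSpecIso (CommRingCat.of A)).symm.commRingCatIsoToRingEquiv.surjective
    exact Algebra.QuasiFinite.trans A Γ(Spec (CommRingCat.of A), ⊤) _
  haveI : HenselianLocalRing A := Hensel.henselianRing_maximalIdeal_iff.1 inferInstance
  letI : Algebra Γ(X, V) (X.presheaf.stalk x) := (X.presheaf.germ V x hxV).hom.toAlgebra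
  haveI : IsLocalization.AtPrime (X.presheaf.stalk x) q.asIdeal :=
    hV.isLocalization_stalk ⟨x, hxV⟩
  obtain ⟨e, -, heq, hinv⟩ := Hensel.exists_finIdem q.asIdeal hq
  haveI : IsLocalization.Away e (X.presheaf.stalk x) := by
    refine (IsLocalization.iff_of_le_of_exists_dvd (Submonoid.powers e) q.asIdeal.primeCompl
      (Submonoid.powers_le.2 heq) fun n hn => ?_).2 inferInstance
    obtain ⟨a, ha⟩ := hinv n hn
    exact ⟨e, Submonoid.mem_powers e, ⟨e * a, by linear_combination -ha⟩⟩
  letI : Algebra A (X.presheaf.stalk x) := (φ ≫ X.presheaf.germ V x hxV).hom.toAlgebra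
  haveI : IsScalarTower A Γ(X, V) (X.presheaf.stalk x) := IsScalarTower.of_algebraMap_eq' rfl
  haveI := Hensel.finite_localization q.asIdeal hq
  haveI hfin : Module.Finite A (X.presheaf.stalk x) :=
    Module.Finite.equiv ((IsLocalization.algEquiv q.asIdeal.primeCompl
      (Localization.AtPrime q.asIdeal) (X.presheaf.stalk x)).restrictScalars A).toLinearEquiv
  let ψ := (Scheme.ΓSpecIso (CommRingCat.of A)).inv ≫ f.appTop ≫ X.presheaf.germ ⊤ x trivial
  have hψ : ψ = φ ≫ X.presheaf.germ V x hxV := by
    simp only [ψ, φ, Scheme.Hom.appLE, Category.assoc, X.presheaf.germ_res]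
    rfl
  have hψfin : ψ.hom.Finite := by
    rw [hψ]
    exact RingHom.finite_algebraMap.2 hfin
  have hopen : IsOpenImmersion (X.fromSpecStalk x) := by
    rw [← hV.fromSpecStalk_eq_fromSpecStalk hxV]
    show IsOpenImmersion (Spec.map (X.presheaf.germ V x hxV) ≫ hV.fromSpec)
    haveI : IsOpenImmersion (Spec.map (X.presheaf.germ V x hxV)) :=
      IsOpenImmersion.of_isLocalization e (R := Γ(X, V)) (S := X.presheaf.stalk x)
    infer_instance
  refine ⟨hψfin, hopen, ?_⟩
  have hcomp : X.fromSpecStalk x ≫ f = Spec.map ψ := by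
    have h := Scheme.toSpecΓ_naturality f
    rw [← SpecMap_ΓSpecIso_hom] at h
    calc X.fromSpecStalk x ≫ f
        = X.fromSpecStalk x ≫ (f ≫ Spec.map (Scheme.ΓSpecIso (CommRingCat.of A)).hom) ≫
            Spec.map (Scheme.ΓSpecIso (CommRingCat.of A)).inv := by
          simp [← Spec.map_comp]
      _ = Spec.map ψ := by
          rw [h, Category.assoc, Scheme.fromSpecStalk_toSpecΓ_assoc, ← Spec.map_comp,
            ← Spec.map_comp]
          simp [ψ]
  haveI : IsFinite (X.fromSpecStalk x ≫ f) := by
    rw [hcomp]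
    exact (IsFinite.SpecMap_iff _).2 hψfin
  haveI : IsProper (X.fromSpecStalk x) := IsProper.of_comp _ f
  exact IsClosedImmersion.of_isPreimmersion _ (X.fromSpecStalk x).isClosedMap.isClosed_range

end Groth.Agent.S2343
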