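import Groth.Statements.S2346
import Groth.Agent.S4443
import Mathlib

set_option autoImplicit false
universe u
open CategoryTheory CategoryTheory.Limits AlgebraicGeometry
open EGA2

namespace Groth.Agent.S2346

/-- Let X and Y be irreducible algebraic curves over k (separated, of finite type, local rings at closed
points one-dimensional) and f : X → Y a k-morphism. Then f is dominant if and only if every fibre
f⁻¹(y) is a finite set. -/
theorem result (k : Type u) [Field k] (X Y : Scheme.{u}) [X.Over (Spec (CommRingCat.of k))] [Y.Over (Spec (CommRingCat.of k))]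
    [LocallyOfFiniteType (X ↘ (Spec (CommRingCat.of k)))] [QuasiCompact (X ↘ (Spec (CommRingCat.of k)))] [IsSeparated (X ↘ (Spec (CommRingCat.of k)))] [LocallyOfFiniteType (Y ↘ (Spec (CommRingCat.of k)))] [QuasiCompact (Y ↘ (Spec (CommRingCat.of k)))] [IsSeparated (Y ↘ (Spec (CommRingCat.of k)))] [IrreducibleSpace X] [IrreducibleSpace Y]
    (hX : (∀ x : X, IsClosed ({x} : Set X) → ringKrullDim (X.presheaf.stalk x) = 1)) (hY : (∀ x : Y, IsClosed ({x} : Set Y) → ringKrullDim (Y.presheaf.stalk x) = 1))
    (f : X ⟶ Y) (hf : f ≫ (Y ↘ (Spec (CommRingCat.of k))) = X ↘ (Spec (CommRingCat.of k))) :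
    IsDominant f ↔ ∀ y : Y, (f.base ⁻¹' {y}).Finite := by
  haveI : IsLocallyNoetherian X := LocallyOfFiniteType.isLocallyNoetherian (X ↘ (Spec (CommRingCat.of k)))
  haveI : JacobsonSpace X := LocallyOfFiniteType.jacobsonSpace (X ↘ (Spec (CommRingCat.of k)))
  haveI : JacobsonSpace Y := LocallyOfFiniteType.jacobsonSpace (Y ↘ (Spec (CommRingCat.of k)))
  haveI : LocallyOfFiniteType f := by
    haveI : LocallyOfFiniteType (f ≫ (Y ↘ (Spec (CommRingCat.of k)))) := hf ▸ inferInstance
    exact locallyOfFiniteType_of_comp f (Y ↘ (Spec (CommRingCat.of k)))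
  have hcX := Groth.Agent.S4443.result k X hX
  have hcY := Groth.Agent.S4443.result k Y hY
  have hηX : ¬ IsClosed ({genericPoint X} : Set X) := by
    intro h
    have huniv : (Set.univ : Set X) = {genericPoint X} := by
      rw [← (genericPoint_spec X).def, h.closure_eq]
    have := (hcX.2 Set.univ isClosed_univ).mpr ⟨huniv ▸ Set.finite_singleton _, fun x hx => by
      rw [huniv] at hx; exact hx ▸ h⟩
    exact this rfl
  have hηY : ¬ IsClosed ({genericPoint Y} : Set Y) := by
    intro h
    have huniv : (Set.univ : Set Y) = {genericPoint Y} := by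
      rw [← (genericPoint_spec Y).def, h.closure_eq]
    have := (hcY.2 Set.univ isClosed_univ).mpr ⟨huniv ▸ Set.finite_singleton _, fun x hx => by
      rw [huniv] at hx; exact hx ▸ h⟩
    exact this rfl
  have hXinf : ¬ (Set.univ : Set X).Finite := by
    intro hfin
    have hC : IsClosed {x : X | IsClosed ({x} : Set X)} := by
      have h2 : IsClosed (⋃ x ∈ {x : X | IsClosed ({x} : Set X)}, ({x} : Set X)) :=
        (hfin.subset (Set.subset_univ _)).isClosed_biUnion fun x hx => hx
      rwa [Set.biUnion_of_singleton] at h2
    have := closure_closedPoints (X := X)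
    rw [show closedPoints X = {x : X | IsClosed ({x} : Set X)} from rfl, hC.closure_eq] at this
    exact hηX (this.ge (Set.mem_univ (genericPoint X)))
  have hclosed : ∀ x : X, IsClosed ({x} : Set X) → IsClosed ({f x} : Set Y) := fun x hx =>
    f.closePoints_subset_preimage_closedPoints hx
  constructor
  · intro hdom y
    have hη : f (genericPoint X) = genericPoint Y := by
      refine hcY.1 _ fun hc => hηY ?_
      have hsub : Set.range f ⊆ {f (genericPoint X)} := by
        rintro _ ⟨x, rfl⟩
        have := ((genericPoint_spec X).specializes trivial : genericPoint X ⤳ x).map f.continuous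
        exact this.mem_closed hc rfl
      have := closure_mono hsub
      rw [f.denseRange.closure_range, hc.closure_eq] at this
      have e : genericPoint Y = f (genericPoint X) := this (Set.mem_univ _)
      rw [e]; exact hc
    by_cases hy : IsClosed ({y} : Set Y)
    · refine ((hcX.2 _ (hy.preimage f.continuous)).mp fun h => ?_).1
      have h1 : f (genericPoint X) = y := h.ge (Set.mem_univ _)
      exact hηY (hη ▸ h1 ▸ hy)
    · rw [hcY.1 y hy]
      refine (Set.finite_singleton (genericPoint X)).subset fun x hx => ?_
      by_contra hne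
      have hxc : IsClosed ({x} : Set X) := by
        by_contra h; exact hne (hcX.1 x h)
      have := hclosed x hxc
      rw [show f x = genericPoint Y from hx] at this
      exact hηY this
  · intro hfib
    refine ⟨dense_iff_closure_eq.mpr ?_⟩
    by_contra hne
    obtain ⟨hfin, -⟩ := (hcY.2 _ isClosed_closure).mp hne
    refine hXinf ?_
    refine (hfin.biUnion fun y _ => hfib y).subset fun x _ => ?_
    exact Set.mem_iUnion₂.mpr ⟨f x, subset_closure (Set.mem_range_self x), rfl⟩

end Groth.Agent.S2346
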