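import Groth.Statements.S2349
import Groth.Agent.ValSection.Basic

set_option autoImplicit false
set_option linter.style.haveILetI false
set_option backward.isDefEq.respectTransparency false
universe u
open CategoryTheory CategoryTheory.Limits AlgebraicGeometry
open EGA2

namespace Groth.Agent.S2349

/-- Let f : X → Y be separated and of finite type, and let j_i : X_i → X and h_i : Y_i → Y (i in a
finite index type) be closed immersions with morphisms f_i : X_i → Y_i satisfying j_i ≫ f = f_i ≫
h_i, such that the images of the j_i cover X. Then f is proper if and only if every f_i is proper. -/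
theorem result {X Y : Scheme.{u}} (f : X ⟶ Y) [IsSeparated f] [LocallyOfFiniteType f] [QuasiCompact f]
    (ι : Type u) [Finite ι] (Xi Yi : ι → Scheme.{u}) (j : ∀ i, Xi i ⟶ X) (h : ∀ i, Yi i ⟶ Y) (fi : ∀ i, Xi i ⟶ Yi i)
    [∀ i, IsClosedImmersion (j i)] [∀ i, IsClosedImmersion (h i)] (hcomm : ∀ i, j i ≫ f = fi i ≫ h i)
    (hcov : ∀ x : X, ∃ i, x ∈ Set.range (j i).base) : IsProper f ↔ ∀ i, IsProper (fi i) := by
  constructor
  · intro hf i
    haveI : IsProper (fi i ≫ h i) := hcomm i ▸ inferInstance
    exact IsProper.of_comp (fi i) (h i)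
  intro hp
  haveI : ∀ i, IsProper (j i ≫ f) := fun i => by
    rw [hcomm i]
    haveI := hp i
    infer_instance
  haveI : UniversallyClosed f := by
    constructor
    intro X' Y' i₁ i₂ f' H
    show IsClosedMap f'
    intro C hC
    have hclosed : ∀ k, IsClosedMap (pullback.fst i₁ (j k) ≫ f') := fun k =>
      (inferInstance : UniversallyClosed (j k ≫ f)).universally_isClosedMap _ _ _
        ((IsPullback.of_hasPullback i₁ (j k)).paste_horiz H)
    have hC' : f' '' C = ⋃ k, (pullback.fst i₁ (j k) ≫ f') '' (pullback.fst i₁ (j k) ⁻¹' C) := by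
      refine Set.Subset.antisymm ?_ (Set.iUnion_subset fun k => ?_)
      · rintro _ ⟨c, hc, rfl⟩
        obtain ⟨k, z, hz⟩ := hcov (i₁ c)
        obtain ⟨t, ht₁, -⟩ := Scheme.Pullback.exists_preimage_pullback c z hz.symm
        exact Set.mem_iUnion.2 ⟨k, t, (ht₁.symm ▸ hc : pullback.fst i₁ (j k) t ∈ C),
          congrArg f' ht₁⟩
      · rintro _ ⟨t, ht, rfl⟩
        exact ⟨_, ht, rfl⟩
    rw [hC']
    exact isClosed_iUnion_of_finite fun k =>
      hclosed k _ (hC.preimage (pullback.fst i₁ (j k)).continuous)
  exact ⟨⟩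

end Groth.Agent.S2349
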