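import Groth.Statements.S2358
import Groth.Agent.NormalSch.Birational
import Groth.Agent.DVRCrit.Local

set_option autoImplicit false
universe u
open CategoryTheory CategoryTheory.Limits AlgebraicGeometry
open EGA2

namespace Groth.Agent.S2358

/-- Let X be an integral normal scheme, g : X' → X an integral morphism, U a dense open of X and s : U →
X' a section of g over U. Then there is a section of g over all of X extending s. -/
theorem result {X X' : Scheme.{u}} [IsIntegral X] (hX : Pi1.IsNormalScheme X)
    (g : X' ⟶ X) [IsIntegralHom g] (U : X.Opens) (hU : Dense (U : Set X)) (s : (U : Scheme.{u}) ⟶ X') (hs : s ≫ g = U.ι) :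
    ∃ s' : X ⟶ X', s' ≫ g = 𝟙 X ∧ U.ι ≫ s' = s := by
  obtain ⟨x, hx⟩ := hU.nonempty
  haveI : Nonempty U := ⟨⟨x, hx⟩⟩
  let ηU := genericPoint (U : Scheme.{u})
  let I := Scheme.IdealSheafData.vanishingIdeal (⟨closure {s ηU}, isClosed_closure⟩ : TopologicalSpace.Closeds X')
  have hrange : Set.range I.subschemeι = closure {s ηU} := by
    rw [Scheme.IdealSheafData.range_subschemeι, Scheme.IdealSheafData.coe_support_vanishingIdeal]
    rfl
  haveI : IsReduced I.subscheme := Groth.Agent.DVRCrit.isReduced_vanishingIdeal _
  obtain ⟨η, hη⟩ : s ηU ∈ Set.range I.subschemeι := hrange ▸ subset_closure rfl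
  have huniv : closure ({η} : Set I.subscheme) = Set.univ := by
    rw [I.subschemeι.isClosedEmbedding.isInducing.closure_eq_preimage_closure_image, Set.image_singleton, hη,
      ← hrange, Set.preimage_range]
  haveI : IrreducibleSpace I.subscheme :=
    (irreducibleSpace_def _).mpr (by rw [Set.top_eq_univ, ← huniv]; exact isIrreducible_singleton.closure)
  haveI : IsIntegral I.subscheme := isIntegral_of_irreducibleSpace_of_isReduced _
  haveI : IsReduced (U : Scheme.{u}) := inferInstance
  obtain ⟨t, ht⟩ := Groth.Agent.DVRCrit.exists_factor_closed I.subschemeι s (by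
    rintro _ ⟨p, rfl⟩
    rw [hrange]
    exact ((genericPoint_spec (U : Scheme.{u})).specializes trivial |>.map s.continuous).mem_closure)
  have htg : t ≫ I.subschemeι ≫ g = U.ι := by rw [← Category.assoc, ht, hs]
  obtain ⟨h1, h2⟩ := Groth.Agent.NormalSch.birational_of_section (I.subschemeι ≫ g) U t htg
  haveI := Groth.Agent.NormalSch.isIso_of_integral_birational hX (I.subschemeι ≫ g) h1 h2
  refine ⟨inv (I.subschemeι ≫ g) ≫ I.subschemeι, ?_, ?_⟩
  · rw [Category.assoc, IsIso.inv_hom_id]
  · rw [← htg]
    simp [ht]

end Groth.Agent.S2358
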