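import Groth.Statements.S2456
import Groth.Agent.CohenRingLib.Basic
-- import your own Groth.Agent.* helpers here

set_option autoImplicit false
universe u
open EGA41

namespace Groth.Agent.S2456

open IsLocalRing in
/-- Let W be a Cohen ring (a field of characteristic zero, or a complete discrete valuation ring with
maximal ideal generated by the residue characteristic), C a complete Noetherian local ring and J ≠ C
an ideal of C. Then every local homomorphism u : W → C/J is induced by a local homomorphism v : W →
C. -/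
theorem result {W C : Type u} [CommRing W] [IsLocalRing W] (hW : EGA41.IsCohenRingEGA W)
    [CommRing C] [IsLocalRing C] [IsNoetherianRing C] [IsAdicComplete (maximalIdeal C) C]
    (J : Ideal C) (hJ : J ≠ ⊤) [IsLocalRing (C ⧸ J)] (u : W →+* C ⧸ J) [IsLocalHom u] :
    ∃ v : W →+* C, IsLocalHom v ∧ (Ideal.Quotient.mk J).comp v = u := by
  have hJm : J ≤ maximalIdeal C := IsLocalRing.le_maximalIdeal hJ
  haveI : IsHausdorff ((maximalIdeal C).map (Ideal.Quotient.mk J)) (C ⧸ J) :=
    IsHausdorff.of_le_jacobson _ _ (by
      refine le_trans ?_ (IsLocalRing.jacobson_eq_maximalIdeal ⊥ bot_ne_top).ge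
      rw [Ideal.map_le_iff_le_comap]
      intro c hc
      rw [Ideal.mem_comap, IsLocalRing.mem_maximalIdeal]
      intro hu
      obtain ⟨d, hd⟩ := hu.exists_right_inv
      obtain ⟨d, rfl⟩ := Ideal.Quotient.mk_surjective d
      rw [← map_mul, ← map_one (Ideal.Quotient.mk J), Ideal.Quotient.eq] at hd
      refine (maximalIdeal.isMaximal C).ne_top ((Ideal.eq_top_iff_one _).2 ?_)
      have h1 := (maximalIdeal C).sub_mem (Ideal.mul_mem_right d _ hc) (hJm hd)
      rwa [sub_sub_cancel] at h1)
  refine Groth.Agent.CohenRingLib.exists_lift hW J hJm u ?_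
  rw [Ideal.map_le_iff_le_comap]
  intro a ha
  obtain ⟨c, hc⟩ := Ideal.Quotient.mk_surjective (u a)
  rw [Ideal.mem_comap, ← hc]
  refine Ideal.mem_map_of_mem _ ((IsLocalRing.mem_maximalIdeal c).2 fun hu => ?_)
  have h1 := hu.map (Ideal.Quotient.mk J)
  rw [hc] at h1
  exact (IsLocalRing.mem_maximalIdeal a).1 ha (isUnit_of_map_unit u a h1)

end Groth.Agent.S2456
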