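import Groth.Statements.S2457
import Groth.Agent.CohenRingLib.Basic
-- import your own Groth.Agent.* helpers here

set_option autoImplicit false
universe u
open EGA41

namespace Groth.Agent.S2457

open IsLocalRing in
/-- Let W and W' be Cohen rings with residue fields K and K' and u : K ≅ K' an isomorphism. Then u is
induced by some isomorphism v : W ≅ W'. -/
theorem result {W W' : Type u} [CommRing W] [IsLocalRing W] [CommRing W'] [IsLocalRing W']
    (hW : EGA41.IsCohenRingEGA W) (hW' : EGA41.IsCohenRingEGA W') (u : ResidueField W ≃+* ResidueField W') :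
    ∃ v : W ≃+* W', ∀ x : W, residue W' (v x) = u (residue W x) := by
  haveI := Groth.Agent.CohenRingLib.isAdicComplete_of_cohen hW
  haveI := Groth.Agent.CohenRingLib.isAdicComplete_of_cohen hW'
  obtain ⟨v, hv, hvu⟩ := Groth.Agent.CohenRingLib.exists_lift_residue hW u.toRingHom
  obtain ⟨p, hp⟩ := CharP.exists (ResidueField W)
  haveI := hp
  haveI : CharP (ResidueField W') p := charP_of_injective_ringHom (f := u.toRingHom) u.injective p
  have hm := Groth.Agent.CohenRingLib.maximalIdeal_of_cohen hW p
  have hm' := Groth.Agent.CohenRingLib.maximalIdeal_of_cohen hW' p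
  have hsurj : Function.Surjective v := Groth.Agent.CohenRingLib.surjective_of_residue v
    (by rw [hm, hm', Ideal.map_span, Set.image_singleton, map_natCast]) fun z => by
      obtain ⟨y, hy⟩ := u.surjective z
      obtain ⟨x, rfl⟩ := residue_surjective y
      exact ⟨x, (hvu x).trans hy⟩
  have hinj : Function.Injective v := by
    haveI := Groth.Agent.CohenRingLib.charZero_of_cohen hW'
    haveI := Groth.Agent.CohenRingLib.isDomain_of_cohen hW'
    rw [injective_iff_map_eq_zero]
    intro a ha
    rcases hW with ⟨hf, -⟩ | ⟨_, hdvr, -, q, hq, hqm⟩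
    · by_contra h0
      obtain ⟨b, hb⟩ := hf.mul_inv_cancel h0
      have := congrArg v hb
      rw [map_mul, ha, zero_mul, map_one] at this
      exact zero_ne_one this
    · haveI := hdvr
      by_contra h0
      have hirr : Irreducible (q : W) := (IsDiscreteValuationRing.irreducible_iff_uniformizer (q : W)).2 hqm
      obtain ⟨n, w, rfl⟩ := IsDiscreteValuationRing.eq_unit_mul_pow_irreducible h0 hirr
      rw [map_mul, map_pow, map_natCast, mul_eq_zero] at ha
      exact ha.elim (fun h => (w.isUnit.map v).ne_zero h) fun h =>
        hq.ne_zero (Nat.cast_eq_zero.1 (eq_zero_of_pow_eq_zero h))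
  exact ⟨RingEquiv.ofBijective v ⟨hinj, hsurj⟩, hvu⟩

end Groth.Agent.S2457
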