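import Groth.Statements.S2458
import Groth.Agent.SqZeroPresLib.Basic
-- import your own Groth.Agent.* helpers here

set_option autoImplicit false
universe u
open EGA41

namespace Groth.Agent.S2458

open IsLocalRing in
/-- Let A be an Artinian local ring whose maximal ideal 𝔪 satisfies 𝔪² = 0. Then there is a regular
local ring B with maximal ideal 𝔫 such that A ≅ B/𝔫². -/
theorem result {A : Type u} [CommRing A] [IsLocalRing A] [IsArtinianRing A]
    (h : maximalIdeal A ^ 2 = ⊥) :
    ∃ (B : Type u) (_ : CommRing B) (_ : IsRegularLocalRing B), Nonempty (A ≃+* B ⧸ IsLocalRing.maximalIdeal B ^ 2) := by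
  classical
  by_cases hchar : ∃ (W : Type u) (_ : CommRing W) (_ : IsRegularRing W) (v : W →+* A) (e : ℕ) (t : Fin e → W),
      Function.Surjective ((residue A).comp v) ∧
      RingHom.ker ((residue A).comp v) = Ideal.span (Set.range t) ∧
      ∃ ht : ∀ i, v (t i) ∈ maximalIdeal A,
        LinearIndependent (ResidueField A) (fun i => (maximalIdeal A).toCotangent ⟨v (t i), ht i⟩)
  · obtain ⟨W, _, _, v, e, t, hv, hkW, ht, hli⟩ := hchar
    exact Groth.Agent.SqZeroPresLib.exists_regular_presentation h W v t hv hkW ht hli
  exfalso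
  apply hchar
  obtain _ | ⟨p, hp, hpk⟩ := CharP.exists' (ResidueField A)
  · -- residue characteristic zero
    have hunit : ∀ y : nonZeroDivisors ℤ, IsUnit (Int.castRingHom A y) := fun y => by
      refine IsLocalRing.notMem_maximalIdeal.1 fun hmem => ?_
      have h1 := (residue_eq_zero_iff _).2 hmem
      rw [eq_intCast, map_intCast, Int.cast_eq_zero] at h1
      exact nonZeroDivisors.coe_ne_zero y h1
    letI : Algebra ℚ A := (IsLocalization.lift (M := nonZeroDivisors ℤ) (S := ℚ) hunit).toAlgebra
    have hfs : @Algebra.FormallySmooth ℚ (ResidueField A) _ _ (ResidueField.algebra A) :=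
      @Groth.Agent.FieldExtLib.formallySmooth_field_of_perfectField ℚ (ResidueField A) _ _ (ResidueField.algebra A) _
    exact Groth.Agent.SqZeroPresLib.field_case (F := ℚ) h hfs
  · by_cases hpA : (p : A) = 0
    · haveI : CharP A p := (CharP.charP_iff_prime_eq_zero hp.1).2 hpA
      letI := ZMod.algebra A p
      exact Groth.Agent.SqZeroPresLib.field_case (F := ZMod p) h
        (Groth.Agent.FieldExtLib.formallySmooth_field_of_perfectField (ZMod p) _)
    · exact Groth.Agent.SqZeroPresLib.cohen_case h p hpA

end Groth.Agent.S2458
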