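import Groth.Statements.S2459
import Groth.Agent.CohenRingLib.Basic
-- import your own Groth.Agent.* helpers here

set_option autoImplicit false
universe u
open EGA41

namespace Groth.Agent.S2459

open IsLocalRing in
/-- Let A be an Artinian local ring with maximal ideal 𝔪 and residue field of characteristic p (p = 0
allowed). Then A is isomorphic to a quotient of a Cohen ring if and only if 𝔪 is generated by p·1. -/
theorem result {A : Type u} [CommRing A] [IsLocalRing A] [IsArtinianRing A]
    (p : ℕ) [CharP (ResidueField A) p] :
    (∃ (W : Type u) (_ : CommRing W) (I : Ideal W), EGA41.IsCohenRingEGA W ∧ Nonempty (A ≃+* W ⧸ I)) ↔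
      maximalIdeal A = Ideal.span {(p : A)} := by
  constructor
  · rintro ⟨W, _, I, hW, ⟨e⟩⟩
    haveI hWl : IsLocalRing W := by
      rcases id hW with ⟨hf, -⟩ | ⟨_, hdvr, -⟩
      · letI := hf.toField; infer_instance
      · haveI := hdvr; infer_instance
    let f : W →+* A := e.symm.toRingHom.comp (Ideal.Quotient.mk I)
    have hf : Function.Surjective f := e.symm.surjective.comp Ideal.Quotient.mk_surjective
    haveI : IsLocalHom f := hf.isLocalHom f
    haveI : CharP (IsLocalRing.ResidueField W) p :=
      (RingHom.charP_iff (IsLocalRing.ResidueField.map f) (RingHom.injective _) p).2 inferInstance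
    have hm := Groth.Agent.CohenRingLib.maximalIdeal_of_cohen hW p
    rw [← IsLocalRing.map_maximalIdeal_of_surjective f hf, hm, Ideal.map_span, Set.image_singleton, map_natCast]
  · intro hm
    haveI : IsAdicComplete (maximalIdeal A) A :=
      _root_.FiniteCompleteLib.isAdicComplete_of_isNilpotent _ (by
        obtain ⟨k, hk⟩ := IsArtinianRing.isNilpotent_jacobson_bot (R := A)
        exact ⟨k, bot_unique ((Ideal.pow_right_mono (IsLocalRing.jacobson_eq_maximalIdeal ⊥ bot_ne_top).ge k).trans hk.le)⟩)
    obtain ⟨W, _, _, hW, -, ⟨e⟩⟩ := Groth.Agent.CohenRingLib.exists_cohenRing (ResidueField A)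
    haveI := Groth.Agent.CohenRingLib.isAdicComplete_of_cohen hW
    obtain ⟨v, hv, hve⟩ := Groth.Agent.CohenRingLib.exists_lift_residue hW e.toRingHom
    haveI : CharP (ResidueField W) p := charP_of_injective_ringHom (f := e.symm.toRingHom) e.symm.injective p
    have hsurj : Function.Surjective v := Groth.Agent.CohenRingLib.surjective_of_residue v
      (by rw [Groth.Agent.CohenRingLib.maximalIdeal_of_cohen hW p, hm, Ideal.map_span, Set.image_singleton, map_natCast])
      fun z => by
        obtain ⟨y, hy⟩ := e.surjective z
        obtain ⟨x, rfl⟩ := IsLocalRing.residue_surjective y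
        exact ⟨x, (hve x).trans hy⟩
    exact ⟨W, inferInstance, RingHom.ker v, hW, ⟨(RingHom.quotientKerEquivOfSurjective hsurj).symm⟩⟩

end Groth.Agent.S2459
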