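import Groth.Statements.S2460
import Mathlib
import Groth.Agent.ArtFunLib.PS
import Groth.Agent.AdicLemmas.Basic
import Groth.Agent.AdicRingLib.RigFinite
import Groth.Agent.GrSegreLib.Torsion
import Groth.Agent.GrSegreLib.Dim
import Groth.Agent.WildQuotLib.PSReg
import Groth.Agent.RegLocal.Basic

set_option autoImplicit false
universe u
open EGA41

namespace Groth.Agent.S2460

open IsLocalRing in
/-- Let A be a complete Noetherian local domain containing a field k₀ such that the residue field of A
is a finite extension of k₀. Then there are n and an injective local k₀-algebra homomorphism from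
the power series ring k₀[[T_1, …, T_n]] into A making A a finite module over it. -/
theorem result {k₀ A : Type u} [Field k₀] [CommRing A] [IsDomain A] [IsLocalRing A] [IsNoetherianRing A]
    [IsAdicComplete (maximalIdeal A) A] [Algebra k₀ A] [Module.Finite k₀ (ResidueField A)] :
    ∃ (n : ℕ) (w : MvPowerSeries (Fin n) k₀ →ₐ[k₀] A), Function.Injective w ∧ IsLocalHom w.toRingHom ∧ w.toRingHom.Finite := by
  classical
  let m := maximalIdeal A
  obtain ⟨d, hd⟩ := Groth.Agent.RegLocal.exists_nat_ringKrullDim (R := A)
  obtain ⟨s, hs, hcard⟩ := Ideal.exists_finset_card_eq_height_of_isNoetherianRing m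
  have hc : s.card = d := by
    have h := maximalIdeal_height_eq_ringKrullDim (R := A)
    rw [hd, ← hcard] at h
    exact_mod_cast h
  subst hc
  let x : Fin s.card → A := fun i => (s.equivFin.symm i : A)
  have hx : ∀ i, x i ∈ m := fun i => hs.1.2 (Ideal.subset_span (s.equivFin.symm i).2)
  have hrad : m ≤ (Ideal.span (Set.range x)).radical := by
    have hr : Set.range x = (s : Set A) := by
      ext a
      refine ⟨?_, fun ha => ⟨s.equivFin ⟨a, ha⟩, by simp [x]⟩⟩
      rintro ⟨i, rfl⟩
      exact (s.equivFin.symm i).2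
    rw [hr, Ideal.radical_eq_sInf]
    refine le_sInf fun J hJ => ?_
    exact hs.2 ⟨hJ.2, hJ.1⟩ (IsLocalRing.le_maximalIdeal hJ.2.ne_top)
  obtain ⟨w, hw⟩ := Groth.Agent.ArtFunLib.ps_exists_lift (Λ := k₀) m x hx
  let P := MvPowerSeries (Fin s.card) k₀
  letI algP : Algebra P A := w.toRingHom.toAlgebra
  haveI : IsScalarTower k₀ P A := IsScalarTower.of_algebraMap_eq fun c => (w.commutes c).symm
  let I : Ideal P := Ideal.span (Set.range MvPowerSeries.X)
  let J : Ideal A := Ideal.span (Set.range x)
  have hIJ : I.map (algebraMap P A) = J := by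
    rw [Ideal.map_span, ← Set.range_comp]
    exact congrArg _ (congrArg Set.range (funext hw))
  have hJm : J ≤ m := Ideal.span_le.2 (Set.range_subset_iff.2 hx)
  obtain ⟨N, hN⟩ := Ideal.exists_pow_le_of_le_radical_of_fg hrad (IsNoetherian.noetherian m)
  haveI : Module.Finite k₀ (A ⧸ m) := ‹Module.Finite k₀ (ResidueField A)›
  haveI : Module.Finite k₀ (A ⧸ J) := by
    haveI := Groth.Agent.AdicRingLib.finite_quotient_pow (A := k₀) m inferInstance N
    exact Module.Finite.of_surjective (Ideal.Quotient.factorₐ k₀ hN).toLinearMap (Ideal.Quotient.factor_surjective hN)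
  haveI : Module.Finite P (A ⧸ J) := Module.Finite.of_restrictScalars_finite k₀ P (A ⧸ J)
  haveI : IsAdicComplete I P := by infer_instance
  have hpow : ∀ n, (I ^ n • ⊤ : Submodule P A) ≤ (m ^ n).restrictScalars P := fun n => by
    rw [Ideal.smul_top_eq_map, Ideal.map_pow, hIJ]
    exact Ideal.pow_right_mono hJm n
  haveI : IsHausdorff I A := ⟨fun a ha => IsHausdorff.haus (I := m) inferInstance a fun n => by
    have h := ha n
    rw [SModEq.zero] at h ⊢
    rw [smul_eq_mul, Ideal.mul_top]
    exact hpow n h⟩
  haveI : Module.Finite P (A ⧸ (I • ⊤ : Submodule P A)) := by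
    have e : (I • ⊤ : Submodule P A) = J.restrictScalars P := by rw [Ideal.smul_top_eq_map, hIJ]
    exact Module.Finite.equiv ((Submodule.Quotient.restrictScalarsEquiv P J).symm.trans (Submodule.quotEquivOfEq _ _ e.symm))
  haveI hfin : Module.Finite P A := Groth.Agent.AdicLemmas.module_finite_of_quotient_finite I A inferInstance
  haveI : Algebra.IsIntegral P A := Algebra.IsIntegral.of_finite P A
  let q : Ideal P := RingHom.ker (algebraMap P A)
  haveI hq : q.IsPrime := RingHom.ker_isPrime _
  have hdim : ringKrullDim A ≤ ringKrullDim (P ⧸ q) := by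
    have hi : (RingHom.kerLift (algebraMap P A)).IsIntegral :=
      RingHom.IsIntegral.tower_top (f := Ideal.Quotient.mk q) _ (algebraMap_isIntegral_iff.2 inferInstance)
    exact le_of_eq (Groth.Agent.GrSegreLib.ringKrullDim_eq_of_integral_injective _ (RingHom.kerLift_injective _) hi).symm
  have hinj : Function.Injective (algebraMap P A) := by
    rw [RingHom.injective_iff_ker_eq_bot]
    by_contra hne
    haveI : (⊥ : Ideal P).IsPrime := Ideal.isPrime_bot
    have h1 := Groth.Agent.GrSegreLib.ringKrullDim_quotient_succ_le (p := (⊥ : Ideal P)) (q := q) (bot_lt_iff_ne_bot.2 hne)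
    rw [ringKrullDim_eq_of_ringEquiv (RingEquiv.quotientBot P), Groth.Agent.WildQuotLib.ringKrullDim_eq] at h1
    rw [hd] at hdim
    have h2 := (add_le_add hdim le_rfl).trans h1
    norm_cast at h2
    omega
  refine ⟨s.card, w, hinj, ?_, hfin⟩
  exact (algebraMap_isIntegral_iff.2 ‹Algebra.IsIntegral P A›).isLocalHom hinj


end Groth.Agent.S2460
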