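import Groth.Statements.S2464
import Groth.Agent.PBasisLib.Kaehler
-- import your own Groth.Agent.* helpers here

set_option autoImplicit false
universe u
open EGA41

namespace Groth.Agent.S2464

/-- Let p be a prime, B a ring of characteristic p and A → B an injective ring map whose image contains
every p-th power, and (x_α) a p-basis of B over A. Let E be an A-algebra and q : E → B a surjective
A-algebra homomorphism whose kernel K has K^p = 0. (i) q admits an A-algebra right inverse if and
only if, for all z ∈ E and a ∈ A with a ↦ q(z)^p in B, the image of a in E is z^p. (ii) When this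
holds, for every family (z_α) in E with q(z_α) = x_α there is a unique A-algebra homomorphism v : B
→ E with v(x_α) = z_α for all α, and q ∘ v is the identity. -/
theorem result (p : ℕ) [Fact p.Prime] {A B : Type u} [CommRing A] [CommRing B] [Algebra A B] [CharP B p]
    (hinj : Function.Injective (algebraMap A B)) (hpow : ∀ b : B, b ^ p ∈ Set.range (algebraMap A B))
    {ι : Type u} (x : ι → B) (hx : EGA41.IsPBasis p A x)
    {E : Type u} [CommRing E] [Algebra A E] (q : E →ₐ[A] B) (hq : Function.Surjective q) (hK : RingHom.ker q.toRingHom ^ p = ⊥) :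
    ((∃ v : B →ₐ[A] E, q.comp v = AlgHom.id A B) ↔ ∀ (z : E) (a : A), algebraMap A B a = q z ^ p → algebraMap A E a = z ^ p) ∧
    ((∀ (z : E) (a : A), algebraMap A B a = q z ^ p → algebraMap A E a = z ^ p) →
      ∀ z : ι → E, (∀ i, q (z i) = x i) →
        (∃! v : B →ₐ[A] E, ∀ i, v (x i) = z i) ∧ ∀ v : B →ₐ[A] E, (∀ i, v (x i) = z i) → q.comp v = AlgHom.id A B) := by
  classical
  have hp : p.Prime := Fact.out
  let A' := EGA41.pPowerSubalgebra p A B
  have hA' : ∀ r : A', ∃ a, algebraMap A B a = (r : B) := by
    intro r
    refine AlgHom.mem_range _ |>.1 (Algebra.adjoin_le (S := (Algebra.ofId A B).range) ?_ r.2)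
    rintro _ ⟨b, rfl⟩
    exact hpow b
  choose e he using hA'
  have he' : ∀ r a, algebraMap A B a = ((r : A') : B) → e r = a := fun r a h => hinj ((he r).trans h.symm)
  have hpE : (p : E) = 0 := by
    rw [← map_natCast (algebraMap A E), show (p : A) = 0 from hinj (by rw [map_natCast, CharP.cast_eq_zero, map_zero]), map_zero]
  have key : (∀ (z : E) (a : A), algebraMap A B a = q z ^ p → algebraMap A E a = z ^ p) →
      ∀ z : ι → E, (∀ i, q (z i) = x i) →
        (∃! v : B →ₐ[A] E, ∀ i, v (x i) = z i) ∧
          ∀ v : B →ₐ[A] E, (∀ i, v (x i) = z i) → q.comp v = AlgHom.id A B := by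
    intro h z hz
    let φh : A' →+* E :=
      (algebraMap A E).comp
        { toFun := e
          map_one' := he' _ _ (by rw [map_one]; rfl)
          map_mul' := fun r s => he' _ _ (by rw [map_mul, he, he]; rfl)
          map_zero' := he' _ _ (by rw [map_zero]; rfl)
          map_add' := fun r s => he' _ _ (by rw [map_add, he, he]; rfl) }
    letI : Algebra A' E := φh.toAlgebra
    haveI : IsScalarTower A A' E := IsScalarTower.of_algebraMap_eq fun a => by
      show algebraMap A E a = algebraMap A E (e (algebraMap A A' a))
      rw [he' _ a (IsScalarTower.algebraMap_apply A A' B a)]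
    obtain ⟨w₀, hw₀, hu⟩ := Groth.Agent.PBasisLib.existsUnique_lift (R := A') hp.pos x (Groth.Agent.PBasisLib.powElt p x)
      hx.1 hx.2 (fun i => rfl) z (fun i => (h (z i) _ (by rw [hz]; exact he _)).symm)
    refine ⟨⟨w₀.restrictScalars A, hw₀, fun v hv => ?_⟩, fun v hv => ?_⟩
    · let v' : B →ₐ[A'] E :=
        { v.toRingHom with
          commutes' := fun r => by
            show v (r : B) = algebraMap A E (e r)
            rw [← he r, AlgHom.commutes] }
      have := hu v' hv
      exact AlgHom.ext fun b => AlgHom.congr_fun this b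
    · refine AlgHom.ext fun b => ?_
      show q (v b) = b
      have hb : b ∈ Algebra.adjoin A' (Set.range x) := by
        rw [Groth.Agent.PBasisLib.adjoin_eq_top_of_span x hx.2]; trivial
      induction hb using Algebra.adjoin_induction with
      | mem y hy => obtain ⟨i, rfl⟩ := hy; rw [hv, hz]
      | algebraMap r =>
        show q (v (r : B)) = (r : B)
        rw [← he r, AlgHom.commutes, AlgHom.commutes]
      | add a b _ _ ha hb => rw [map_add, map_add, ha, hb]
      | mul a b _ _ ha hb => rw [map_mul, map_mul, ha, hb]
  refine ⟨⟨fun ⟨v, hv⟩ z a ha => ?_, fun h => ?_⟩, key⟩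
  · rcases subsingleton_or_nontrivial E with hE | hE
    · exact Subsingleton.elim _ _
    haveI : CharP E p := (CharP.charP_iff_prime_eq_zero hp).2 hpE
    haveI : ExpChar E p := .prime hp
    have hker : z - v (q z) ∈ RingHom.ker q.toRingHom := by
      show q (z - v (q z)) = 0
      rw [map_sub, show q (v (q z)) = q z from AlgHom.congr_fun hv (q z), sub_self]
    have h0 : (z - v (q z)) ^ p = 0 := by
      have := Ideal.pow_mem_pow hker p
      rwa [hK, Submodule.mem_bot] at this
    rw [sub_pow_char, sub_eq_zero] at h0
    rw [h0, ← map_pow, ← ha, AlgHom.commutes]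
  · choose z hz using fun i => hq (x i)
    obtain ⟨⟨v, hv, -⟩, h2⟩ := key h z hz
    exact ⟨v, h2 v hv⟩

end Groth.Agent.S2464
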