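import Groth.Statements.S2465
import Groth.Agent.PBasisLib.Fields
-- import your own Groth.Agent.* helpers here

set_option autoImplicit false
universe u
open EGA41

namespace Groth.Agent.S2465

/-- Let p be a prime, B a ring of characteristic p, A → B injective with image containing all p-th
powers, (x_α) a p-basis of B over A, and L a B-module. (i) An additive derivation D : A → L extends
to a derivation of B if and only if D vanishes on the elements of A mapping to p-th powers. (ii) In
that case, for every family (y_α) in L there is a unique derivation D' of B into L extending D with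
D'(x_α) = y_α for all α. -/
theorem result (p : ℕ) [Fact p.Prime] {A B : Type u} [CommRing A] [CommRing B] [Algebra A B] [CharP B p]
    (hinj : Function.Injective (algebraMap A B)) (hpow : ∀ b : B, b ^ p ∈ Set.range (algebraMap A B))
    {ι : Type u} (x : ι → B) (hx : EGA41.IsPBasis p A x)
    (L : Type u) [AddCommGroup L] [Module B L] [Module A L] [IsScalarTower A B L] (D : Derivation ℤ A L) :
    ((∃ D' : Derivation ℤ B L, ∀ a : A, D' (algebraMap A B a) = D a) ↔ ∀ (a : A) (b : B), algebraMap A B a = b ^ p → D a = 0) ∧
    ((∀ (a : A) (b : B), algebraMap A B a = b ^ p → D a = 0) →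
      ∀ y : ι → L, ∃! D' : Derivation ℤ B L, (∀ a : A, D' (algebraMap A B a) = D a) ∧ ∀ i, D' (x i) = y i) := by
  classical
  let A' := EGA41.pPowerSubalgebra p A B
  have hA' : ∀ r : A', ∃ a, algebraMap A B a = (r : B) := by
    intro r
    refine AlgHom.mem_range _ |>.1 (Algebra.adjoin_le (S := (Algebra.ofId A B).range) ?_ r.2)
    rintro _ ⟨b, rfl⟩
    exact hpow b
  choose e he using hA'
  have he' : ∀ r a, algebraMap A B a = ((r : A') : B) → e r = a := fun r a h => hinj ((he r).trans h.symm)
  have key : (∀ (a : A) (b : B), algebraMap A B a = b ^ p → D a = 0) →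
      ∀ y : ι → L, ∃! D' : Derivation ℤ B L, (∀ a : A, D' (algebraMap A B a) = D a) ∧ ∀ i, D' (x i) = y i := by
    intro hD y
    let D₀ : Derivation ℤ A' L := Derivation.mk' (AddMonoidHom.mk' (fun r => D (e r)) (fun r s => by
      rw [← map_add]; congr 1
      exact he' _ _ (by rw [map_add, he, he]; rfl))).toIntLinearMap (fun r s => by
        show D (e (r * s)) = r • D (e s) + s • D (e r)
        rw [he' (r * s) (e r * e s) (by rw [map_mul, he, he]; rfl), Derivation.leibniz,
          ← algebraMap_smul B (e r), ← algebraMap_smul B (e s), he, he]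
        rfl)
    obtain ⟨D', ⟨h1, h2⟩, h3⟩ := Groth.Agent.PBasisLib.existsUnique_derivation (R := A') (p := p)
      (Fact.out : p.Prime).pos x (Groth.Agent.PBasisLib.powElt p x) hx.1 hx.2 (fun i => rfl) D₀
      (fun i => hD _ (x i) (he _)) y
    refine ⟨D', ⟨fun a => ?_, h2⟩, fun D'' ⟨g1, g2⟩ => h3 D'' ⟨fun r => ?_, g2⟩⟩
    · have := h1 (algebraMap A A' a)
      rw [← IsScalarTower.algebraMap_apply] at this
      rw [this]
      show D (e _) = D a
      rw [he' _ a (IsScalarTower.algebraMap_apply A A' B a)]
    · show D'' (r : B) = D (e r)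
      rw [← g1, he]
  refine ⟨⟨fun ⟨D', hD'⟩ a b hab => ?_, fun hD => ?_⟩, key⟩
  · rw [← hD', hab, Derivation.leibniz_pow, ← Nat.cast_smul_eq_nsmul B, CharP.cast_eq_zero, zero_smul]
  · obtain ⟨D', ⟨h1, -⟩, -⟩ := key hD 0
    exact ⟨D', h1⟩

end Groth.Agent.S2465
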