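import Groth.Statements.S2475
import Groth.Agent.PBasisLib.Fields
-- import your own Groth.Agent.* helpers here

set_option autoImplicit false
universe u
open EGA41

namespace Groth.Agent.S2475

/-- Let K be a field of characteristic p > 0, k₀ ⊆ K a subfield and (k_α) a decreasing filtered family
of subfields of K containing k₀. Then ⋂_α k_α(K^p) = k₀(K^p) if and only if the canonical map
Ω_{K/k₀} → lim_α Ω_{K/k_α} is injective (an element of Ω_{K/k₀} whose image in every Ω_{K/k_α}
vanishes is zero). (Conditions (b), (b') of the source, on admissible subfields, are not stated.) -/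
theorem result (p : ℕ) [Fact p.Prime] {k₀ K : Type u} [Field k₀] [Field K] [Algebra k₀ K] [CharP K p]
    {ι : Type u} [Preorder ι] [IsDirected ι (· ≤ ·)] [Nonempty ι] (k : ι → IntermediateField k₀ K) (hk : Antitone k) :
    (⨅ i, k i ⊔ IntermediateField.adjoin k₀ (Set.range fun y : K => y ^ p)) = IntermediateField.adjoin k₀ (Set.range fun y : K => y ^ p) ↔
      ∀ ω : Ω[K⁄k₀], (∀ i, KaehlerDifferential.map k₀ (k i) K K ω = 0) → ω = 0 := by
  classical
  set P : IntermediateField k₀ K := IntermediateField.adjoin k₀ (Set.range fun y : K => y ^ p) with hP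
  have hpow : ∀ y : K, y ^ p ∈ P := fun y => IntermediateField.subset_adjoin _ _ ⟨y, rfl⟩
  -- `P` is `k₀[K^p]`
  have hPsub : ∀ a : K, a ∈ P ↔ a ∈ EGA41.pPowerSubalgebra p k₀ K := by
    intro a
    refine ⟨fun ha => ?_, fun ha => IntermediateField.algebra_adjoin_le_adjoin k₀ _ ha⟩
    have hinv : ∀ x ∈ EGA41.pPowerSubalgebra p k₀ K, x⁻¹ ∈ EGA41.pPowerSubalgebra p k₀ K := fun x hx =>
      (Groth.Agent.PBasisLib.toSubfieldOfPow p (EGA41.pPowerSubalgebra p k₀ K).toSubring
        fun b => Groth.Agent.PBasisLib.pow_mem_pPower p b).inv_mem hx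
    have hle : P ≤ (EGA41.pPowerSubalgebra p k₀ K).toIntermediateField hinv :=
      IntermediateField.adjoin_le_iff.2 fun z hz => Algebra.subset_adjoin hz
    exact hle ha
  have hDP : ∀ (i : ι), ∀ a ∈ k i ⊔ P, KaehlerDifferential.D (k i) K a = 0 := by
    intro i a ha
    set D := KaehlerDifferential.D (k i) K
    let Z : IntermediateField k₀ K :=
      { carrier := {a | D a = 0}
        mul_mem' := fun {a b} (ha : D a = 0) (hb : D b = 0) => by show D (a * b) = 0; simp [ha, hb]
        one_mem' := D.map_one_eq_zero
        add_mem' := fun {a b} (ha : D a = 0) (hb : D b = 0) => by show D (a + b) = 0; simp [ha, hb]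
        zero_mem' := map_zero D
        algebraMap_mem' := fun c => D.map_algebraMap ⟨algebraMap k₀ K c, (k i).algebraMap_mem c⟩
        inv_mem' := fun a (ha : D a = 0) => by show D a⁻¹ = 0; rw [Derivation.leibniz_inv, ha, smul_zero] }
    have hle : k i ⊔ P ≤ Z := sup_le (fun b hb => D.map_algebraMap ⟨b, hb⟩) (IntermediateField.adjoin_le_iff.2
      (by rintro _ ⟨b, rfl⟩; show D (b ^ p) = 0; rw [Derivation.leibniz_pow, ← Nat.cast_smul_eq_nsmul K, CharP.cast_eq_zero, zero_smul]))
    exact hle ha
  constructor
  · intro hinf ω hω
    -- independence over `P` descends to some `k i ⊔ P`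
    have key : ∀ {N : Type u} (v : N → K) (s : Finset N),
        (∀ c : N → K, (∀ e ∈ s, c e ∈ P) → ∑ e ∈ s, c e * v e = 0 → ∀ e ∈ s, c e = 0) →
        ∃ i, ∀ c : N → K, (∀ e ∈ s, c e ∈ k i ⊔ P) → ∑ e ∈ s, c e * v e = 0 → ∀ e ∈ s, c e = 0 := by
      intro N v s
      induction s using Finset.induction with
      | empty => exact fun _ => ⟨Classical.arbitrary ι, by simp⟩
      | insert a s ha ih =>
        intro hs
        obtain ⟨i₀, hi₀⟩ := ih fun c hc hsum e he => by
          have := hs (Function.update c a 0) (fun e he => by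
              rcases Finset.mem_insert.1 he with rfl | he
              · rw [Function.update_self]; exact P.zero_mem
              · rw [Function.update_of_ne (ne_of_mem_of_not_mem he ha)]; exact hc e he)
            (by
              rw [Finset.sum_insert ha, Function.update_self, zero_mul, zero_add, ← hsum]
              refine Finset.sum_congr rfl fun e he => ?_
              rw [Function.update_of_ne (ne_of_mem_of_not_mem he ha)]) e (Finset.mem_insert_of_mem he)
          rwa [Function.update_of_ne (ne_of_mem_of_not_mem he ha)] at this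
        by_contra hcon
        have hrep : ∀ i, i₀ ≤ i → ∃ d : N → K, (∀ e ∈ s, d e ∈ k i ⊔ P) ∧ v a = ∑ e ∈ s, d e * v e := by
          intro i hi
          have hcon' := not_exists.1 hcon i
          push Not at hcon'
          obtain ⟨c, hc, hsum, e, he, hne⟩ := hcon'
          have hle : k i ⊔ P ≤ k i₀ ⊔ P := sup_le_sup_right (hk hi) _
          rw [Finset.sum_insert ha] at hsum
          have hca : c a ≠ 0 := fun h0 => by
            rcases Finset.mem_insert.1 he with rfl | he
            · exact hne h0
            · rw [h0, zero_mul, zero_add] at hsum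
              exact hne (hi₀ c (fun e he => hle (hc e (Finset.mem_insert_of_mem he))) hsum e he)
          refine ⟨fun e => -c e / c a, fun e he => div_mem (neg_mem (hc e (Finset.mem_insert_of_mem he)))
            (hc a (Finset.mem_insert_self _ _)), mul_left_cancel₀ hca ?_⟩
          rw [Finset.mul_sum]
          rw [show ∑ e ∈ s, c a * (-c e / c a * v e) = ∑ e ∈ s, -(c e * v e) from
            Finset.sum_congr rfl fun e _ => by field_simp, Finset.sum_neg_distrib]
          exact eq_neg_of_add_eq_zero_left hsum
        obtain ⟨d, hd, hda⟩ := hrep i₀ le_rfl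
        have hdP : ∀ e ∈ s, d e ∈ P := by
          intro e he
          rw [← hinf, ← SetLike.mem_coe, IntermediateField.coe_iInf, Set.mem_iInter]
          intro j
          obtain ⟨i, hi, hij⟩ := directed_of (α := ι) (· ≤ ·) i₀ j
          obtain ⟨d', hd', hd'a⟩ := hrep i hi
          have heq : d e - d' e = 0 := hi₀ (fun e => d e - d' e)
            (fun e he => sub_mem (hd e he) ((sup_le_sup_right (hk hi) P : k i ⊔ P ≤ k i₀ ⊔ P) (hd' e he)))
            (by rw [Finset.sum_congr rfl fun e _ => sub_mul (d e) (d' e) (v e), Finset.sum_sub_distrib, ← hda, ← hd'a, sub_self]) e he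
          rw [sub_eq_zero.1 heq]
          exact (sup_le_sup_right (hk hij) P : k i ⊔ P ≤ k j ⊔ P) (hd' e he)
        have := hs (Function.update (fun e => -d e) a 1) (fun e he => by
            rcases Finset.mem_insert.1 he with rfl | he
            · rw [Function.update_self]; exact P.one_mem
            · rw [Function.update_of_ne (ne_of_mem_of_not_mem he ha)]; exact neg_mem (hdP e he))
          (by
            rw [Finset.sum_insert ha, Function.update_self, one_mul, hda, ← Finset.sum_add_distrib]
            refine Finset.sum_eq_zero fun e he => ?_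
            rw [Function.update_of_ne (ne_of_mem_of_not_mem he ha)]
            ring) a (Finset.mem_insert_self _ _)
        rw [Function.update_self] at this
        exact one_ne_zero this
    -- a finite `p`-independent family supporting `ω`
    obtain ⟨b, hb, hbspan, hbind⟩ := exists_linearIndependent K (Set.range (KaehlerDifferential.D k₀ K))
    rw [KaehlerDifferential.span_range_derivation] at hbspan
    obtain ⟨l, hl⟩ := (Finsupp.mem_span_iff_linearCombination K b ω).1 (hbspan ▸ Submodule.mem_top)
    choose x hx using fun t : ↥l.support => hb t.1.2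
    have hlin : LinearIndependent K (fun t : ↥l.support => KaehlerDifferential.D k₀ K (x t)) := by
      have : (fun t : ↥l.support => KaehlerDifferential.D k₀ K (x t)) = fun t : ↥l.support => (t.1 : Ω[K⁄k₀]) :=
        funext hx
      rw [this]
      exact hbind.comp _ Subtype.val_injective
    have hpi : EGA41.IsPIndependent p k₀ x := (Groth.Agent.PBasisLib.pIndependent_iff p x).2 hlin
    haveI : Finite {e : ↥l.support →₀ ℕ // ∀ t, e t < p} := by
      refine Finite.of_injective (fun e t => (⟨e.1 t, e.2 t⟩ : Fin p)) fun e e' h => ?_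
      refine Subtype.ext (Finsupp.ext fun t => ?_)
      exact congrArg Fin.val (congrFun h t)
    haveI := Fintype.ofFinite {e : ↥l.support →₀ ℕ // ∀ t, e t < p}
    obtain ⟨i, hi⟩ := key (fun e : {e : ↥l.support →₀ ℕ // ∀ t, e t < p} => EGA41.pMonomial x e.1) Finset.univ
      fun c hc hsum e _ => congrArg Subtype.val (Fintype.linearIndependent_iff.1 hpi
        (fun e => ⟨c e, (hPsub _).1 (hc e (Finset.mem_univ _))⟩)
        (by simpa [Subalgebra.smul_def] using hsum) e)
    have hle : ∀ a ∈ EGA41.pPowerSubalgebra p (k i) K, a ∈ k i ⊔ P := fun a ha => by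
      induction ha using Algebra.adjoin_induction with
      | mem z hz => obtain ⟨y, rfl⟩ := hz; exact (le_sup_right : P ≤ k i ⊔ P) (hpow y)
      | algebraMap r => exact (le_sup_left : k i ≤ k i ⊔ P) r.2
      | add a b _ _ ha hb => exact add_mem ha hb
      | mul a b _ _ ha hb => exact mul_mem ha hb
    have hpi' : EGA41.IsPIndependent p (k i) x := Fintype.linearIndependent_iff.2 fun g hg e =>
      Subtype.ext (hi (fun e => (g e : K)) (fun e _ => hle _ (g e).2) (by simpa [Subalgebra.smul_def] using hg) e (Finset.mem_univ _))
    have hlin' := (Groth.Agent.PBasisLib.pIndependent_iff p x).1 hpi'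
    have hl0 : ∀ t : ↥l.support, l t.1 = 0 := Fintype.linearIndependent_iff.1 hlin' (fun t => l t.1) (by
      rw [← hω i, ← hl, Finsupp.linearCombination_apply, Finsupp.sum, ← Finset.sum_coe_sort l.support, map_sum]
      refine Finset.sum_congr rfl fun t _ => ?_
      rw [map_smul, ← hx t, KaehlerDifferential.map_D, Algebra.algebraMap_self, RingHom.id_apply])
    have : l = 0 := Finsupp.support_eq_empty.1 (Finset.eq_empty_of_forall_notMem fun t ht =>
      Finsupp.mem_support_iff.1 ht (hl0 ⟨t, ht⟩))
    rw [← hl, this, map_zero]
  · intro h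
    refine le_antisymm (fun a ha => ?_) (le_iInf fun i => le_sup_right)
    rw [← SetLike.mem_coe, IntermediateField.coe_iInf, Set.mem_iInter] at ha
    have h0 : KaehlerDifferential.D k₀ K a = 0 := h _ fun i => by
      rw [KaehlerDifferential.map_D, Algebra.algebraMap_self, RingHom.id_apply]
      exact hDP i a (ha i)
    have hmem := Groth.Agent.PBasisLib.mem_adjoin_of_forall_derivation (k := k₀) p (∅ : Set K) (a := a) fun D _ => by
      rw [← Derivation.liftKaehlerDifferential_comp_D D, h0, map_zero]
    rw [Algebra.adjoin_empty, Algebra.mem_bot] at hmem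
    obtain ⟨⟨z, hz⟩, rfl⟩ := hmem
    exact (hPsub z).2 hz

end Groth.Agent.S2475
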