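import Groth.Statements.S4575
import Groth.Agent.RegLocal.Basic
-- import your own Groth.Agent.* helpers here

set_option autoImplicit false
universe u
open IsLocalRing
open EGA41

namespace Groth.Agent.S4575

/-- Let R be a regular local ring with maximal ideal m and n a proper ideal with R/n regular. Then
(n/n²) ⊗_R K → (m/m²) ⊗_R K is injective, K the residue field; stated in the equivalent form n ∩ m²
= m·n (the kernel of n/mn → m/m² is (n ∩ m²)/mn). -/
theorem result {R : Type u} [CommRing R] [IsRegularLocalRing R]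
    (n : Ideal R) (hn : n ≠ ⊤) (hreg : IsRegularRing (R ⧸ n)) :
    n ⊓ maximalIdeal R ^ 2 = maximalIdeal R * n := by
  classical
  obtain ⟨d, hd⟩ := Groth.Agent.RegLocal.exists_nat_ringKrullDim R
  haveI := Groth.Agent.RegLocal.isLocalRing_quot hn
  haveI : IsRegularLocalRing (R ⧸ n) := IsRegularLocalRing.of_isRegularRing_of_isLocalRing _
  obtain ⟨x, c, hc, hx, hnx⟩ := Groth.Agent.RegLocal.exists_generators_of_quot_regular R hd n
  have hxm : ∀ i, x i ∈ maximalIdeal R := fun i => hx ▸ Ideal.subset_span ⟨i, rfl⟩
  refine le_antisymm ?_ (le_inf Ideal.mul_le_right ?_)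
  · rintro z ⟨hzn, hz2⟩
    rw [hnx] at hzn
    obtain ⟨a, rfl⟩ := Ideal.mem_span_range_iff_exists_fun.1 hzn
    let v : Fin d → CotangentSpace R := fun i => (maximalIdeal R).toCotangent ⟨x i, hxm i⟩
    have hspan : Submodule.span (ResidueField R) (Set.range v) = ⊤ := by
      rw [show Set.range v = (maximalIdeal R).toCotangent '' Set.range (fun i => (⟨x i, hxm i⟩ : maximalIdeal R)) by
        rw [← Set.range_comp]; rfl, CotangentSpace.span_image_eq_top_iff, eq_top_iff]
      rintro ⟨y, hy⟩ -
      rw [← hx] at hy
      obtain ⟨b, hb⟩ := Ideal.mem_span_range_iff_exists_fun.1 hy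
      rw [show (⟨y, hx ▸ Ideal.mem_span_range_iff_exists_fun.2 ⟨b, hb⟩⟩ : maximalIdeal R) = ∑ i, b i • ⟨x i, hxm i⟩ from
        Subtype.ext (by simp [← hb])]
      exact Submodule.sum_mem _ fun i _ => Submodule.smul_mem _ _ (Submodule.subset_span ⟨i, rfl⟩)
    have hcard : Fintype.card (Fin d) = Module.finrank (ResidueField R) (CotangentSpace R) := by
      have h := (IsRegularLocalRing.iff_finrank_cotangentSpace R).1 inferInstance
      rw [hd] at h
      rw [Fintype.card_fin]
      exact_mod_cast h.symm
    have hli : LinearIndependent (ResidueField R) v := linearIndependent_of_top_le_span_of_card_eq_finrank hspan.ge hcard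
    have hli' := hli.comp (Fin.castLE hc) (Fin.castLE_injective hc)
    have h0 : ∀ i, residue R (a i) = 0 := Fintype.linearIndependent_iff.1 hli' (fun i => residue R (a i)) (by
      have : (maximalIdeal R).toCotangent (∑ i, a i • ⟨x (Fin.castLE hc i), hxm _⟩) = 0 := by
        rw [Ideal.toCotangent_eq_zero]
        simpa using hz2
      rw [map_sum] at this
      rw [← this]
      refine Finset.sum_congr rfl fun i _ => ?_
      rw [map_smul, ← algebraMap_smul (ResidueField R) (a i)]
      rfl)
    refine Ideal.sum_mem _ fun i _ => ?_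
    exact Ideal.mul_mem_mul ((residue_eq_zero_iff _).1 (h0 i)) (hnx ▸ Ideal.subset_span ⟨i, rfl⟩)
  · rw [pow_two]
    exact Ideal.mul_mono_right (IsLocalRing.le_maximalIdeal hn)

end Groth.Agent.S4575
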