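import Groth.Statements.S4612
import Groth.Agent.NagataJacLib.Gradient
import Groth.Agent.S2477
import Groth.Agent.S4574
import Groth.Agent.S4575
import Groth.Agent.S2471
-- import your own Groth.Agent.* helpers here

set_option autoImplicit false
universe u
open IsLocalRing
open EGA41

namespace Groth.Agent.S4612

theorem exists_projection {k A : Type u} [CommRing k] [CommRing A] [Algebra k A] (q p : Ideal A) [p.IsPrime]
    (hqp : q ≤ p) [(p.map (Ideal.Quotient.mk q)).IsPrime] :
    ∃ π : Localization.AtPrime p →ₐ[k] Localization.AtPrime (p.map (Ideal.Quotient.mk q)),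
      Function.Surjective π ∧ RingHom.ker π = q.map (algebraMap A (Localization.AtPrime p)) := by
  set pB := p.map (Ideal.Quotient.mk q)
  have hc : p = pB.comap (Ideal.Quotient.mk q) := by
    rw [Ideal.comap_map_of_surjective _ Ideal.Quotient.mk_surjective, ← RingHom.ker_eq_comap_bot, Ideal.mk_ker,
      sup_eq_left.2 hqp]
  let π₀ := Localization.localRingHom p pB (Ideal.Quotient.mk q) hc
  have hπ : ∀ a, π₀ (algebraMap A _ a) = algebraMap _ _ (Ideal.Quotient.mk q a) :=
    fun a => Localization.localRingHom_to_map p pB _ hc a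
  have hcomm : ∀ c, π₀ (algebraMap k _ c) = algebraMap k (Localization.AtPrime pB) c := fun c => by
    rw [IsScalarTower.algebraMap_apply k A (Localization.AtPrime p), hπ,
      IsScalarTower.algebraMap_apply k (A ⧸ q) (Localization.AtPrime pB)]
    rfl
  let π : Localization.AtPrime p →ₐ[k] Localization.AtPrime pB := { π₀ with commutes' := hcomm }
  have hmem : ∀ a, Ideal.Quotient.mk q a ∈ pB ↔ a ∈ p := fun a => by
    conv_rhs => rw [hc]
    exact Ideal.mem_comap.symm
  refine ⟨π, fun z => ?_, le_antisymm (fun z hz => ?_) ?_⟩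
  · obtain ⟨⟨x, s⟩, hxs⟩ := IsLocalization.surj pB.primeCompl z
    obtain ⟨a, rfl⟩ := Ideal.Quotient.mk_surjective x
    obtain ⟨b, hb⟩ := Ideal.Quotient.mk_surjective (s : A ⧸ q)
    have hbp : b ∈ p.primeCompl := fun h => s.2 (hb ▸ (hmem b).2 h)
    refine ⟨IsLocalization.mk' _ a ⟨b, hbp⟩, (IsLocalization.map_units (Localization.AtPrime pB) s).mul_right_cancel ?_⟩
    show π₀ _ * _ = _
    rw [hxs, ← hb, ← hπ, ← hπ, ← map_mul]
    exact congrArg _ (IsLocalization.mk'_spec (Localization.AtPrime p) a ⟨b, hbp⟩)
  · obtain ⟨⟨a, s⟩, has⟩ := IsLocalization.surj p.primeCompl z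
    have h0 : algebraMap (A ⧸ q) (Localization.AtPrime pB) (Ideal.Quotient.mk q a) = 0 := by
      rw [← hπ, ← has, map_mul, show π₀ z = 0 from hz, zero_mul]
    obtain ⟨⟨t, ht⟩, hta⟩ := (IsLocalization.map_eq_zero_iff pB.primeCompl _ _).1 h0
    obtain ⟨b, rfl⟩ := Ideal.Quotient.mk_surjective t
    have hbp : b ∈ p.primeCompl := fun h => ht ((hmem b).2 h)
    rw [← Ideal.mul_unit_mem_iff_mem _ (IsLocalization.map_units (Localization.AtPrime p) s), has,
      ← Ideal.unit_mul_mem_iff_mem _ (IsLocalization.map_units (Localization.AtPrime p) (⟨b, hbp⟩ : p.primeCompl)),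
      ← map_mul]
    exact Ideal.mem_map_of_mem _ (Ideal.Quotient.eq_zero_iff_mem.1 ((map_mul _ _ _).trans hta))
  · rw [Ideal.map_le_iff_le_comap]
    intro a ha
    show π₀ (algebraMap A _ a) = 0
    rw [hπ, Ideal.Quotient.eq_zero_iff_mem.2 ha, map_zero]

/-- Nagata's Jacobian criterion for quotients of power series rings: let k be a field, A = k[[T_1, …,
T_r]], q ⊆ p ideals of A with p prime, B = A/q. Suppose A/p contains a sub-k-algebra isomorphic to a
power series algebra k[[X_1, …, X_s]] over which A/p is finite and such that the fraction field L of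
A/p is a separable extension of the fraction field L' of k[[X_1, …, X_s]]; here this is given as an
injective k-algebra map k[[X_1, …, X_s]] → A/p making A/p a finite module, with fraction fields L',
L and a compatible L'-algebra structure on L. Then the following are equivalent: B_p is formally
smooth over k for the adic topology of its maximal ideal; there are k-derivations D_1, …, D_m of A
into itself and f_1, …, f_m ∈ q generating qA_p with det(D_i f_j) ∉ p; B_p is a regular local ring.
(The published statement remarks that the hypothesis on A/p always holds when k has characteristic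
zero.) -/
theorem result {k : Type u} [Field k] (r : ℕ)
    (q p : Ideal (MvPowerSeries (Fin r) k)) [p.IsPrime] (hqp : q ≤ p) [(p.map (Ideal.Quotient.mk q)).IsPrime]
    (s : ℕ) [Algebra (MvPowerSeries (Fin s) k) (MvPowerSeries (Fin r) k ⧸ p)]
    [IsScalarTower k (MvPowerSeries (Fin s) k) (MvPowerSeries (Fin r) k ⧸ p)]
    [Module.Finite (MvPowerSeries (Fin s) k) (MvPowerSeries (Fin r) k ⧸ p)]
    (hinj : Function.Injective (algebraMap (MvPowerSeries (Fin s) k) (MvPowerSeries (Fin r) k ⧸ p)))
    {L' L : Type u} [Field L'] [Field L]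
    [Algebra (MvPowerSeries (Fin s) k) L'] [IsFractionRing (MvPowerSeries (Fin s) k) L']
    [Algebra (MvPowerSeries (Fin r) k ⧸ p) L] [IsFractionRing (MvPowerSeries (Fin r) k ⧸ p) L]
    [Algebra L' L] [Algebra (MvPowerSeries (Fin s) k) L]
    [IsScalarTower (MvPowerSeries (Fin s) k) (MvPowerSeries (Fin r) k ⧸ p) L]
    [IsScalarTower (MvPowerSeries (Fin s) k) L' L] [Algebra.IsSeparable L' L] :
    [CAlgX.IsAdicFormallySmooth k (Localization.AtPrime (p.map (Ideal.Quotient.mk q)))
        (maximalIdeal (Localization.AtPrime (p.map (Ideal.Quotient.mk q)))),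
     ∃ (m : ℕ) (D : Fin m → Derivation k (MvPowerSeries (Fin r) k) (MvPowerSeries (Fin r) k))
        (f : Fin m → MvPowerSeries (Fin r) k), (∀ i, f i ∈ q) ∧
        q.map (algebraMap (MvPowerSeries (Fin r) k) (Localization.AtPrime p)) =
          Ideal.span (Set.range fun i => algebraMap (MvPowerSeries (Fin r) k) (Localization.AtPrime p) (f i)) ∧
        Matrix.det (Matrix.of fun i j => D i (f j)) ∉ p,
     IsRegularLocalRing (Localization.AtPrime (p.map (Ideal.Quotient.mk q)))].TFAE := by
  obtain ⟨π, hπ, hker⟩ := exists_projection (k := k) q p hqp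
  haveI : IsRegularRing (MvPowerSeries (Fin r) k) := RegLocLib.isRegularRing_of_isRegularLocalRing _
  haveI : IsNoetherianRing (Localization.AtPrime (p.map (Ideal.Quotient.mk q))) :=
    IsLocalization.isNoetherianRing (p.map (Ideal.Quotient.mk q)).primeCompl _ inferInstance
  tfae_have 1 → 3 := fun h => (S2471.result.1 h).1
  tfae_have 2 → 1 := by
    rintro ⟨m, D, f, -, hgen, hdet⟩
    exact NagataJacLib.adic_of_det p (S4574.result (S2477.key r) p) π hπ D f (hker.trans hgen) hdet
  tfae_have 3 → 2 := by
    intro hreg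
    have hL'L : Function.Injective (algebraMap (MvPowerSeries (Fin r) k ⧸ p) L) :=
      IsFractionRing.injective (MvPowerSeries (Fin r) k ⧸ p) L
    have hsep : ∀ a : MvPowerSeries (Fin r) k ⧸ p, ∃ Q : Polynomial (MvPowerSeries (Fin s) k),
        Polynomial.aeval a Q = 0 ∧ Polynomial.aeval a (Polynomial.derivative Q) ≠ 0 := by
      intro a
      set z := algebraMap (MvPowerSeries (Fin r) k ⧸ p) L a with hz
      have hs : IsSeparable L' z := Algebra.IsSeparable.isSeparable L' z
      have hne : Polynomial.aeval z (Polynomial.derivative (minpoly L' z)) ≠ 0 :=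
        hs.aeval_derivative_ne_zero (minpoly.aeval L' z)
      obtain ⟨⟨b, hb⟩, hbQ⟩ := IsLocalization.integerNormalization_map_to_map
        (nonZeroDivisors (MvPowerSeries (Fin s) k)) (minpoly L' z)
      set Q := IsLocalization.integerNormalization (nonZeroDivisors (MvPowerSeries (Fin s) k)) (minpoly L' z)
      have hbQ' : Polynomial.map (algebraMap (MvPowerSeries (Fin s) k) L') Q =
          Polynomial.C (algebraMap (MvPowerSeries (Fin s) k) L' b) * minpoly L' z := by
        rw [hbQ, ← Polynomial.smul_eq_C_mul]
        exact (algebraMap_smul L' b _).symm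
      refine ⟨Q, hL'L ?_, fun h => hne ?_⟩
      · rw [map_zero, ← Polynomial.aeval_algebraMap_apply, ← Polynomial.aeval_map_algebraMap L', hbQ', map_mul,
          ← hz, minpoly.aeval, mul_zero]
      · have h1 := congrArg (algebraMap (MvPowerSeries (Fin r) k ⧸ p) L) h
        rw [map_zero, ← Polynomial.aeval_algebraMap_apply, ← Polynomial.aeval_map_algebraMap L',
          ← Polynomial.derivative_map, hbQ', Polynomial.derivative_C_mul, map_mul, Polynomial.aeval_C, ← hz] at h1
        refine (mul_eq_zero.1 h1).resolve_left ?_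
        rw [map_eq_zero]
        exact IsFractionRing.to_map_ne_zero_of_mem_nonZeroDivisors hb
    haveI : IsRegularLocalRing (Localization.AtPrime p) := inferInstance
    haveI := hreg
    haveI : IsRegularLocalRing (Localization.AtPrime p ⧸ q.map (algebraMap _ (Localization.AtPrime p))) :=
      IsRegularLocalRing.of_ringEquiv (R := Localization.AtPrime (p.map (Ideal.Quotient.mk q)))
        ((Ideal.quotEquivOfEq hker.symm).trans (RingHom.quotientKerEquivOfSurjective (f := π.toRingHom) hπ)).symm
    have hJ : q.map (algebraMap _ (Localization.AtPrime p)) ≠ ⊤ := hker ▸ RingHom.ker_ne_top _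
    have hcap := S4575.result (q.map (algebraMap _ (Localization.AtPrime p))) hJ
      (RegLocLib.isRegularRing_of_isRegularLocalRing _)
    refine NagataJacLib.exists_det_of_detect (MvPowerSeries.pderiv k) p q hqp fun x hx hxD => hcap.le ?_
    exact ⟨Ideal.mem_map_of_mem _ hx, NagataJacLib.mem_sq_of_pderiv_mem p L hinj hL'L hsep x (hqp hx) hxD⟩
  tfae_finish

end Groth.Agent.S4612
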