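import Groth.Statements.S2480
import Groth.Agent.NagataJacLib.CharZero
import Groth.Agent.NagataJacLib.CharP
import Groth.Agent.S4612
import Groth.Agent.JacobianLib.Adic
import Groth.Agent.SymGrLib.Extension
-- import your own Groth.Agent.* helpers here

set_option autoImplicit false
universe u
open EGA41

namespace Groth.Agent.S2480

open IsLocalRing in
/-- Let k be a field of characteristic exponent p such that k is a finite extension of k^p (no condition
in characteristic zero); let A be a complete Noetherian local ring with residue field K, K₀ a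
separable extension of k contained in A compatibly with k, over which K is finite, and suppose A is
a formally smooth K₀-algebra for its adic topology. Let q be an ideal of A and 𝔭 a prime ideal
containing q, and B = A/q. Then B_𝔭 is a formally smooth k-algebra for its adic topology if and only
if there exist k-derivations D_1, …, D_m of A into itself and elements f_1, …, f_m of q whose images
generate qA_𝔭, with det(D_i f_j) ∉ 𝔭. (Condition (b') of the source is not stated.) -/
theorem result (p : ℕ) {k K₀ A : Type u} [Field k] [ExpChar k p]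
    (hk : p = 1 ∨ Module.Finite (frobenius k p).fieldRange k)
    [Field K₀] [Algebra k K₀] [Algebra.IsGeometricallyReduced k K₀]
    [CommRing A] [IsLocalRing A] [IsNoetherianRing A] [IsAdicComplete (maximalIdeal A) A]
    [Algebra k A] [Algebra K₀ A] [IsScalarTower k K₀ A] [Module.Finite K₀ (ResidueField A)]
    (hA : CAlgX.IsAdicFormallySmooth K₀ A (maximalIdeal A))
    (q 𝔭 : Ideal A) [𝔭.IsPrime] (hq : q ≤ 𝔭) [(𝔭.map (Ideal.Quotient.mk q)).IsPrime] :
    CAlgX.IsAdicFormallySmooth k (Localization.AtPrime (𝔭.map (Ideal.Quotient.mk q))) (maximalIdeal (Localization.AtPrime (𝔭.map (Ideal.Quotient.mk q)))) ↔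
      ∃ (m : ℕ) (D : Fin m → Derivation k A A) (f : Fin m → A), (∀ i, f i ∈ q) ∧
        q.map (algebraMap A (Localization.AtPrime 𝔭)) = Ideal.span (Set.range fun i => algebraMap A (Localization.AtPrime 𝔭) (f i)) ∧
        Matrix.det (Matrix.of fun i j => D i (f j)) ∉ 𝔭 := by
  have hk0 : Algebra.FormallySmooth k K₀ :=
    FieldExtLib.formallySmooth_of_isGeometricallyReduced inferInstance
  have hAk : CAlgX.IsAdicFormallySmooth k A (maximalIdeal A) := SymGrLib.isAdicFormallySmooth_trans (A := K₀) (maximalIdeal A) hA
  obtain ⟨hreg, hinjA⟩ := S2471.result.1 hAk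
  haveI := hreg
  obtain ⟨π, hπ, hker⟩ := S4612.exists_projection (k := k) q 𝔭 hq
  haveI : IsNoetherianRing (Localization.AtPrime (𝔭.map (Ideal.Quotient.mk q))) :=
    IsLocalization.isNoetherianRing (𝔭.map (Ideal.Quotient.mk q)).primeCompl _ inferInstance
  refine ⟨fun hB => ?_, fun ⟨m, D, f, _, hgen, hdet⟩ =>
    NagataJacLib.adic_of_det 𝔭 (S4574.result hAk 𝔭) π hπ D f (hker.trans hgen) hdet⟩
  refine NagataJacLib.exists_det_of_detect (fun D : Derivation k A A => D) 𝔭 q hq fun z hz hzD => ?_
  rcases ‹ExpChar k p› with _ | ⟨hp⟩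
  · have hz2 := NagataJacLib.mem_sq_charZero 𝔭 z (hq hz) hzD
    haveI : IsRegularRing A := RegLocLib.isRegularRing_of_isRegularLocalRing A
    haveI : IsRegularLocalRing (Localization.AtPrime 𝔭) := inferInstance
    haveI := (S2471.result.1 hB).1
    haveI : IsRegularLocalRing (Localization.AtPrime 𝔭 ⧸ q.map (algebraMap _ (Localization.AtPrime 𝔭))) :=
      IsRegularLocalRing.of_ringEquiv (R := Localization.AtPrime (𝔭.map (Ideal.Quotient.mk q)))
        ((Ideal.quotEquivOfEq hker.symm).trans (RingHom.quotientKerEquivOfSurjective (f := π.toRingHom) hπ)).symm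
    have hJ : q.map (algebraMap _ (Localization.AtPrime 𝔭)) ≠ ⊤ := hker ▸ RingHom.ker_ne_top _
    have hcap := S4575.result (q.map (algebraMap _ (Localization.AtPrime 𝔭))) hJ
      (RegLocLib.isRegularRing_of_isRegularLocalRing _)
    exact hcap.le ⟨Ideal.mem_map_of_mem _ hz, hz2⟩
  · haveI := Fact.mk hp
    haveI : ExpChar k p := ExpChar.prime hp
    have hdz := NagataJacLib.mem_smul_top_charP p (hk.resolve_left hp.ne_one) hinjA 𝔭 z hzD
    letI : Algebra (Localization.AtPrime 𝔭) (Localization.AtPrime (𝔭.map (Ideal.Quotient.mk q))) :=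
      π.toRingHom.toAlgebra
    haveI : IsScalarTower k (Localization.AtPrime 𝔭) (Localization.AtPrime (𝔭.map (Ideal.Quotient.mk q))) :=
      IsScalarTower.of_algHom π
    have hz0 : algebraMap A (Localization.AtPrime 𝔭) z ∈ RingHom.ker π :=
      hker ▸ Ideal.mem_map_of_mem _ hz
    rw [← hker]
    exact JacobianLib.mem_of_adic hπ hB hz0 hdz

end Groth.Agent.S2480
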