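import Mathlib
import Groth.Agent.AdicFS.SmallExt
import Groth.Agent.SymGrLib.Extension
import Groth.Statements.S2481

set_option autoImplicit false
universe u
open EGA41

namespace Groth.Agent.S2481

open IsLocalRing in
/-- Let A → B be a local homomorphism of Noetherian local rings with the adic topologies, K the residue
field of B. Then B is formally smooth over A if and only if: for every Artinian local ring C with a
local homomorphism A → C, every nilpotent ideal J of C and every local A-algebra homomorphism u : B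
→ C/J inducing a bijection of residue fields (so that C has residue field K and u induces the
identity on it), u is induced by a local A-algebra homomorphism B → C. -/
theorem result {A B : Type u} [CommRing A] [IsLocalRing A] [IsNoetherianRing A] [CommRing B] [IsLocalRing B] [IsNoetherianRing B]
    [Algebra A B] [IsLocalHom (algebraMap A B)] :
    EGA41.IsFormallySmoothAdic A (maximalIdeal A) B (maximalIdeal B) ↔
      ∀ (C : Type u) [CommRing C] [IsLocalRing C] [IsArtinianRing C] [Algebra A C] [IsLocalHom (algebraMap A C)]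
        (J : Ideal C), IsNilpotent J → ∀ [IsLocalRing (C ⧸ J)] (u : B →ₐ[A] C ⧸ J) [IsLocalHom u.toRingHom],
        Function.Bijective (ResidueField.map u.toRingHom) →
        ∃ f : B →ₐ[A] C, IsLocalHom f.toRingHom ∧ (Ideal.Quotient.mkₐ A J).comp f = u := by
  classical
  constructor
  · intro h C _ _ _ _ _ J hJ _ u _ _
    haveI : IsNoetherianRing C := inferInstance
    obtain ⟨n, hn⟩ := (isArtinianRing_iff_isNilpotent_maximalIdeal C).1 ‹_›
    haveI : IsLocalHom (Ideal.Quotient.mk J) := IsLocalHom.of_surjective _ Ideal.Quotient.mk_surjective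
    have hmQ : maximalIdeal (C ⧸ J) ≤ (maximalIdeal C).map (Ideal.Quotient.mk J) := fun z hz => by
      obtain ⟨a, rfl⟩ := Ideal.Quotient.mk_surjective z
      exact Ideal.mem_map_of_mem _ fun hu => hz (hu.map _)
    have hC : ((maximalIdeal A) ^ n).map (algebraMap A C) = ⊥ := by
      rw [Ideal.map_pow, eq_bot_iff, ← Ideal.zero_eq_bot, ← hn]
      exact Ideal.pow_right_mono (IsLocalRing.map_maximalIdeal_le _) n
    obtain ⟨f, hf⟩ := h C J hJ ⟨n, hC⟩ u ⟨n, fun x hx => by
      have h1 := Ideal.mem_map_of_mem u.toRingHom hx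
      rw [Ideal.map_pow] at h1
      have h2 := Ideal.pow_right_mono ((IsLocalRing.map_maximalIdeal_le u.toRingHom).trans hmQ) n h1
      rw [← Ideal.map_pow, hn, Ideal.zero_eq_bot, Ideal.map_bot, Ideal.mem_bot] at h2
      exact h2⟩
    refine ⟨f, ⟨fun x hx => isUnit_of_map_unit u.toRingHom x ?_⟩, hf⟩
    show IsUnit (u x)
    rw [show u x = Ideal.Quotient.mk J (f x) from (AlgHom.congr_fun hf x).symm]
    exact hx.map (Ideal.Quotient.mk J)
  · intro h
    have hfs : CAlgX.IsAdicFormallySmooth A B (maximalIdeal B) := by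
      refine Groth.Agent.AdicFS.iff_lift_small.2 fun C _ _ _ _ _ J hJ _ _ ψ _ hψ => ?_
      obtain ⟨f, -, hf⟩ := h C J ⟨2, hJ⟩ ψ hψ
      exact ⟨f, hf⟩
    intro C _ _ J hJ _ u hu
    exact (Groth.Agent.SymGrLib.isFormallySmoothAdic_bot hfs) C J hJ ⟨1, by rw [pow_one, Ideal.map_bot]⟩ u hu

end Groth.Agent.S2481
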