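import Groth.Statements.S2482
import Groth.Agent.CohenPresLib.FlatIso
import Groth.Agent.S2454
import Mathlib
-- import your own Groth.Agent.* helpers here

set_option autoImplicit false
universe u
open EGA41

namespace Groth.Agent.S2482

open IsLocalRing in
/-- (a) ⟹ (b): let A, B be complete discrete valuation rings and u : A → B a ring homomorphism with
u(𝔪_A)B = 𝔪_B, such that the residue field L of B is separable over the residue field K of A. Then
for every complete discrete valuation ring B', every homomorphism u' : A → B' with u'(𝔪_A)B' =
𝔪_{B'} and every isomorphism σ of residue fields L ≅ L' compatible with the maps from K, there is an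
isomorphism w : B ≅ B' with u' = w ∘ u inducing σ on residue fields. -/
theorem result {A B B' : Type u} [CommRing A] [IsDomain A] [IsDiscreteValuationRing A] [IsAdicComplete (maximalIdeal A) A]
    [CommRing B] [IsDomain B] [IsDiscreteValuationRing B] [IsAdicComplete (maximalIdeal B) B]
    [CommRing B'] [IsDomain B'] [IsDiscreteValuationRing B'] [IsAdicComplete (maximalIdeal B') B']
    (u : A →+* B) [IsLocalHom u] (hu : (maximalIdeal A).map u = maximalIdeal B)
    (hsep : letI := (ResidueField.map u).toAlgebra; Algebra.IsGeometricallyReduced (ResidueField A) (ResidueField B))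
    (u' : A →+* B') [IsLocalHom u'] (hu' : (maximalIdeal A).map u' = maximalIdeal B')
    (σ : ResidueField B ≃+* ResidueField B') (hσ : (σ : ResidueField B →+* ResidueField B').comp (ResidueField.map u) = ResidueField.map u') :
    ∃ w : B ≃+* B', (w : B →+* B').comp u = u' ∧ ∀ b : B, residue B' (w b) = σ (residue B b) := by
  letI : Algebra A B := u.toAlgebra
  letI : Algebra A B' := u'.toAlgebra
  haveI : IsLocalHom (algebraMap A B) := ‹IsLocalHom u›
  haveI : IsLocalHom (algebraMap A B') := ‹IsLocalHom u'›
  have hinj : ∀ (C : Type u) [CommRing C] [IsDomain C] [IsDiscreteValuationRing C] (g : A →+* C),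
      (maximalIdeal A).map g = maximalIdeal C → Function.Injective g := by
    intro C _ _ _ g hg
    rw [RingHom.injective_iff_ker_eq_bot]
    by_contra hne
    obtain ⟨ϖ, hϖ⟩ := IsDiscreteValuationRing.exists_irreducible A
    obtain ⟨n, hn⟩ := IsDiscreteValuationRing.ideal_eq_span_pow_irreducible hne hϖ
    have h1 : g ϖ ^ n = 0 := by
      rw [← map_pow, ← RingHom.mem_ker, hn]
      exact Ideal.mem_span_singleton_self _
    have h2 : g ϖ = 0 := eq_zero_of_pow_eq_zero h1
    rw [hϖ.maximalIdeal_eq, Ideal.map_span, Set.image_singleton, h2, Ideal.span_singleton_eq_bot.2 rfl] at hg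
    exact IsDiscreteValuationRing.not_isField C ((IsLocalRing.isField_iff_maximalIdeal_eq).2 hg.symm)
  have hflat : ∀ (C : Type u) [CommRing C] [IsDomain C] [Algebra A C],
      Function.Injective (algebraMap A C) → Module.Flat A C := by
    intro C _ _ _ hi
    rw [IsDedekindDomain.flat_iff_torsion_eq_bot, ← Submodule.isTorsionFree_iff_torsion_eq_bot,
      Module.isTorsionFree_iff_smul_eq_zero]
    intro r c h
    rw [Algebra.smul_def, mul_eq_zero] at h
    exact h.imp_left fun h' => hi (h'.trans (map_zero _).symm)
  haveI : Module.Flat A B := hflat B (hinj B u hu)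
  haveI : Module.Flat A B' := hflat B' (hinj B' u' hu')
  have hC : EGA41.IsCohenAlgebra A B := ⟨inferInstance, inferInstance, inferInstance, inferInstance, hu, by
    convert hsep using 1
    refine Algebra.algebra_ext _ _ fun r => ?_
    obtain ⟨a, rfl⟩ := residue_surjective r
    rfl⟩
  have hfs := CohenPresLib.adic_of_egaAdic (S2454.result hC)
  have hk : RingHom.ker ((σ : ResidueField B →+* ResidueField B').comp (residue B)) = (maximalIdeal A).map (algebraMap A B) := by
    ext d
    rw [RingHom.mem_ker, RingHom.comp_apply, RingEquiv.coe_toRingHom, map_eq_zero_iff σ σ.injective,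
      residue_eq_zero_iff]
    exact (SetLike.ext_iff.1 hu d).symm
  have hk' : RingHom.ker (residue B') = (maximalIdeal A).map (algebraMap A B') :=
    (IsLocalRing.ker_residue).trans hu'.symm
  obtain ⟨v, hv⟩ := CohenPresLib.exists_algEquiv_over (maximalIdeal A) le_rfl hfs
    ((σ : ResidueField B →+* ResidueField B').comp (residue B)) (σ.surjective.comp residue_surjective) hk
    (residue B') residue_surjective hk' fun a => by
      show residue B' (u' a) = σ (residue B (u a))
      have h1 := RingHom.congr_fun hσ (residue A a)
      rw [RingHom.comp_apply, ResidueField.map_residue, ResidueField.map_residue] at h1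
      exact h1.symm
  exact ⟨v.toRingEquiv, RingHom.ext v.commutes, hv⟩

end Groth.Agent.S2482
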