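import Groth.Statements.S2483
import Groth.Agent.FieldExtLib.CompleteLift
-- import your own Groth.Agent.* helpers here

set_option autoImplicit false
universe u v
open EGA41

namespace Groth.Agent.S2483

open IsLocalRing in
theorem exists_other_section {k : Type v} {C : Type u} [Field k] [PerfectField k] [CommRing C] [IsLocalRing C]
    [IsNoetherianRing C] [IsAdicComplete (maximalIdeal C) C] (huniq : ∀ {S : Type u} [CommRing S] (g h : k →+* S), g = h)
    [Algebra k (ResidueField C)]
    (hm : maximalIdeal C ≠ ⊥) (u : ResidueField C →+* C) (hu : ∀ x, residue C (u x) = x)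
    (hΩ : ¬ Subsingleton (Ω[ResidueField C⁄ℤ])) :
    ∃ v : ResidueField C →+* C, (∀ x, residue C (v x) = x) ∧ v ≠ u := by
  classical
  let K := ResidueField C
  obtain ⟨z, hz⟩ : ∃ z : Ω[K⁄ℤ], z ≠ 0 := by
    by_contra h
    push Not at h
    exact hΩ (subsingleton_of_forall_eq 0 h)
  obtain ⟨φ, hφ⟩ : ∃ φ : Ω[K⁄ℤ] →ₗ[K] K, φ z ≠ 0 := by
    by_contra h
    push Not at h
    exact hz ((Module.forall_dual_apply_eq_zero_iff K z).1 h)
  let δ : Derivation ℤ K K :=
    Derivation.mk' (AddMonoidHom.mk' (fun c => φ (KaehlerDifferential.D ℤ K c)) (fun a b => by rw [map_add, map_add])).toIntLinearMap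
      (fun a b => by
        show φ (KaehlerDifferential.D ℤ K (a * b)) = a • φ (KaehlerDifferential.D ℤ K b) + b • φ (KaehlerDifferential.D ℤ K a)
        rw [Derivation.leibniz, map_add, map_smul, map_smul])
  have hδ : ∃ c, δ c ≠ 0 := by
    by_contra h
    push Not at h
    apply hφ
    have : φ = 0 := LinearMap.ext_on_range (KaehlerDifferential.span_range_derivation ℤ K) (fun c => (h c : φ _ = 0))
    rw [this, LinearMap.zero_apply]
  obtain ⟨x, hx, hx2⟩ : ∃ x, x ∈ maximalIdeal C ∧ x ∉ maximalIdeal C ^ 2 := by
    by_contra h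
    push Not at h
    refine hm (Submodule.eq_bot_of_le_smul_of_le_jacobson_bot (maximalIdeal C) _ (IsNoetherian.noetherian _) ?_
      (IsLocalRing.maximalIdeal_le_jacobson _))
    rw [smul_eq_mul, ← pow_two]
    exact h
  let Q := C ⧸ maximalIdeal C ^ (1 + 1)
  have hxx : Ideal.Quotient.mk (maximalIdeal C ^ (1 + 1)) x * Ideal.Quotient.mk _ x = 0 := by
    rw [← map_mul, Ideal.Quotient.eq_zero_iff_mem, ← pow_two]
    exact Ideal.pow_mem_pow hx 2
  have hxm : ∀ c : C, residue C c = 0 → Ideal.Quotient.mk (maximalIdeal C ^ (1 + 1)) c * Ideal.Quotient.mk _ x = 0 := fun c hc => by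
    rw [← map_mul, Ideal.Quotient.eq_zero_iff_mem, pow_succ, pow_one]
    exact Ideal.mul_mem_mul ((residue_eq_zero_iff c).1 hc) hx
  let f₀ : K →+* Q :=
    { toFun := fun c => Ideal.Quotient.mk _ (u c + u (δ c) * x)
      map_one' := by simp
      map_mul' := fun a b => by
        simp only [map_add, map_mul, Derivation.leibniz, smul_eq_mul]
        linear_combination -(Ideal.Quotient.mk (maximalIdeal C ^ (1 + 1)) (u (δ a)) * Ideal.Quotient.mk _ (u (δ b))) * hxx
      map_zero' := by simp
      map_add' := fun a b => by simp only [map_add, add_mul, map_mul]; ring }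
  letI : Algebra k C := (u.comp (algebraMap k K)).toAlgebra
  haveI : Algebra.FormallySmooth k K :=
    Groth.Agent.FieldExtLib.formallySmooth_of_isGeometricallyReduced Groth.Agent.FieldExtLib.isGeometricallyReduced_of_perfectField
  let fA : K →ₐ[k] Q := { f₀ with commutes' := fun c => RingHom.congr_fun (huniq (f₀.comp (algebraMap k K)) (algebraMap k Q)) c }
  obtain ⟨F, hF⟩ := Groth.Agent.FieldExtLib.exists_lift_complete (maximalIdeal C) 1 fA
  have hF' : ∀ c, Ideal.Quotient.mk (maximalIdeal C ^ (1 + 1)) (F c) = Ideal.Quotient.mk _ (u c + u (δ c) * x) :=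
    fun c => AlgHom.congr_fun hF c
  refine ⟨F.toRingHom, fun c => ?_, fun h => ?_⟩
  · have h1 := Ideal.pow_le_self (by norm_num) (Ideal.Quotient.eq.1 (hF' c))
    rw [← residue_eq_zero_iff, map_sub, map_add, map_mul, (residue_eq_zero_iff x).2 hx, mul_zero, add_zero, hu,
      sub_eq_zero] at h1
    exact h1
  · obtain ⟨c, hc⟩ := hδ
    apply hx2
    have h1 := hF' c
    rw [show F c = u c from RingHom.congr_fun h c, map_add, left_eq_add, Ideal.Quotient.eq_zero_iff_mem] at h1
    have hunit : IsUnit (u (δ c)) := (Ne.isUnit hc).map u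
    exact (Ideal.unit_mul_mem_iff_mem _ hunit).1 h1

open IsLocalRing in
/-- Let C be a complete Noetherian local ring with maximal ideal 𝔍 ≠ 0 and residue field K, and u : K →
C a ring homomorphism which is a section of the residue map. Then u is the only such section if and
only if Ω_{K/ℤ} = 0. -/
theorem result {C : Type u} [CommRing C] [IsLocalRing C] [IsNoetherianRing C] [IsAdicComplete (maximalIdeal C) C]
    (hm : maximalIdeal C ≠ ⊥) (u : ResidueField C →+* C) (hu : ∀ x, residue C (u x) = x) :
    (∀ v : ResidueField C →+* C, (∀ x, residue C (v x) = x) → v = u) ↔ Subsingleton (Ω[ResidueField C⁄ℤ]) := by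
  constructor
  · intro h
    by_contra hΩ
    obtain _ | ⟨p, hp, hpk⟩ := CharP.exists' (ResidueField C)
    · obtain ⟨v, hv, hne⟩ := exists_other_section (k := ℚ) (fun g h => RingHom.ext_rat g h) hm u hu hΩ
      exact hne (h v hv)
    · haveI := hp
      letI := ZMod.algebra (ResidueField C) p
      obtain ⟨v, hv, hne⟩ := exists_other_section (k := ZMod p) (fun g h => RingHom.ext_zmod g h) hm u hu hΩ
      exact hne (h v hv)
  · intro hΩ v hv
    have key : ∀ n x, v x - u x ∈ maximalIdeal C ^ (n + 1) := by
      intro n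
      induction n with
      | zero =>
        intro x
        rw [zero_add, pow_one, ← residue_eq_zero_iff, map_sub, hv, hu, sub_self]
      | succ n ih =>
        letI : Algebra (ResidueField C) C := u.toAlgebra
        let M := C ⧸ maximalIdeal C ^ (n + 1 + 1)
        haveI : @IsScalarTower ℤ (ResidueField C) M Algebra.toSMul _ Algebra.toSMul := IsScalarTower.of_algebraMap_eq' (RingHom.ext_int _ _)
        let d : Derivation ℤ (ResidueField C) M :=
          Derivation.mk' (AddMonoidHom.mk' (fun x => (Ideal.Quotient.mk _ (v x - u x) : M)) (fun a b => by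
            rw [← map_add, map_add v, map_add u]; congr 1; ring)).toIntLinearMap (fun a b => by
            show Ideal.Quotient.mk _ (v (a * b) - u (a * b)) =
              Ideal.Quotient.mk _ (u a) * Ideal.Quotient.mk _ (v b - u b) + Ideal.Quotient.mk _ (u b) * Ideal.Quotient.mk _ (v a - u a)
            rw [← map_mul (Ideal.Quotient.mk _), ← map_mul (Ideal.Quotient.mk _), ← map_add, Ideal.Quotient.eq]
            have : v (a * b) - u (a * b) - (u a * (v b - u b) + u b * (v a - u a)) = (v a - u a) * (v b - u b) := by
              rw [map_mul, map_mul]; ring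
            rw [this]
            refine Ideal.pow_le_pow_right (show n + 1 + 1 ≤ (n + 1) + (n + 1) by omega) ?_
            rw [pow_add]
            exact Ideal.mul_mem_mul (ih a) (ih b))
        intro x
        rw [← Ideal.Quotient.eq_zero_iff_mem]
        show d x = 0
        rw [← Derivation.liftKaehlerDifferential_comp_D d x, Subsingleton.elim (KaehlerDifferential.D ℤ _ x) 0, map_zero]
    refine RingHom.ext fun x => sub_eq_zero.1 (IsHausdorff.haus (I := maximalIdeal C) inferInstance _ fun n => ?_)
    rw [SModEq.zero, smul_eq_mul, Ideal.mul_top]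
    exact Ideal.pow_le_pow_right n.le_succ (key n x)

end Groth.Agent.S2483
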