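import Groth.Statements.S2484
import Groth.Agent.FieldExtLib.Imperfection
-- import your own Groth.Agent.* helpers here

set_option autoImplicit false
universe u
open EGA41

namespace Groth.Agent.S2484

/-- Let K ⊆ E ⊆ F be fields. (i) If F is a separable extension of E, then Υ_{F/E/K} = 0, i.e. the
canonical map Ω_{E/K} ⊗_E F → Ω_{F/K} is injective. (ii) Conversely, if F is separable over K and
this map is injective, then F is separable over E. (Separable means geometrically reduced.) -/
theorem result {K E F : Type u} [Field K] [Field E] [Field F] [Algebra K E] [Algebra E F] [Algebra K F] [IsScalarTower K E F] :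
    (Algebra.IsGeometricallyReduced E F → Function.Injective (KaehlerDifferential.mapBaseChange K E F)) ∧
    (Algebra.IsGeometricallyReduced K F → Function.Injective (KaehlerDifferential.mapBaseChange K E F) → Algebra.IsGeometricallyReduced E F) := by
  refine ⟨fun h => ?_, fun h hinj => ?_⟩
  · haveI := Groth.Agent.FieldExtLib.formallySmooth_of_isGeometricallyReduced h
    haveI : Subsingleton (Algebra.H1Cotangent E F) := Algebra.FormallySmooth.subsingleton_h1Cotangent
    rw [← LinearMap.ker_eq_bot, (Algebra.H1Cotangent.exact_δ_mapBaseChange K E F).linearMap_ker_eq,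
      LinearMap.range_eq_bot]
    exact LinearMap.ext fun x => by rw [Subsingleton.elim x 0, map_zero]; rfl
  · haveI := Groth.Agent.FieldExtLib.formallySmooth_of_isGeometricallyReduced h
    haveI : Subsingleton (Algebra.H1Cotangent K F) := Algebra.FormallySmooth.subsingleton_h1Cotangent
    rw [← Groth.Agent.FieldExtLib.formallySmooth_iff_isGeometricallyReduced]
    refine ⟨inferInstance, ⟨fun x y => ?_⟩⟩
    have h0 : ∀ z : Algebra.H1Cotangent E F, z = 0 := fun z => by
      have h1 : Algebra.H1Cotangent.δ K E F z = 0 :=
        hinj ((Function.Exact.apply_apply_eq_zero (Algebra.H1Cotangent.exact_δ_mapBaseChange K E F) z).trans (map_zero _).symm)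
      obtain ⟨w, hw⟩ := (Algebra.H1Cotangent.exact_map_δ K E F z).1 h1
      rw [← hw, Subsingleton.elim w 0, map_zero]
    rw [h0 x, h0 y]

end Groth.Agent.S2484
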