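import Groth.Statements.S2486
import Groth.Agent.PBasisLib.Fields
-- import your own Groth.Agent.* helpers here

set_option autoImplicit false
universe u
open EGA41

namespace Groth.Agent.S2486

/-- Let p be a prime, B an A-algebra of characteristic p and (x_α) a family of elements of B. Then (a) B
is generated as an A[B^p]-algebra by the x_α if and only if (b) (x_α) is a system of p-generators of
B over A; these imply (c) Ω_{B/A} is generated by the d x_α; and if B is an A[B^p]-algebra of finite
type, (c) implies (a). -/
theorem result (p : ℕ) [Fact p.Prime] {A B : Type u} [CommRing A] [CommRing B] [Algebra A B] [CharP B p]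
    {ι : Type u} (x : ι → B) :
    (Algebra.adjoin (EGA41.pPowerSubalgebra p A B) (Set.range x) = ⊤ ↔ EGA41.IsPGenerating p A x) ∧
    (EGA41.IsPGenerating p A x → Submodule.span B (Set.range fun i => KaehlerDifferential.D A B (x i)) = ⊤) ∧
    (Algebra.FiniteType (EGA41.pPowerSubalgebra p A B) B →
      Submodule.span B (Set.range fun i => KaehlerDifferential.D A B (x i)) = ⊤ → EGA41.IsPGenerating p A x) := by
  classical
  refine ⟨Groth.Agent.PBasisLib.adjoin_eq_top_iff_isPGenerating p x, fun h => ?_, fun hft h => ?_⟩
  · rw [eq_top_iff, ← KaehlerDifferential.span_range_derivation, Submodule.span_le]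
    rintro _ ⟨b, rfl⟩
    exact Groth.Agent.PBasisLib.derivation_eq_zero_of_adjoin_top p x
      (Groth.Agent.PBasisLib.adjoin_eq_top_of_span x h) (KaehlerDifferential.D A B)
      (Submodule.span B (Set.range fun i => KaehlerDifferential.D A B (x i)))
      (fun i => Submodule.subset_span (Set.mem_range_self (f := fun i => KaehlerDifferential.D A B (x i)) i)) b
  · rw [← Groth.Agent.PBasisLib.adjoin_eq_top_iff_isPGenerating]
    haveI := hft
    set C := Algebra.adjoin (EGA41.pPowerSubalgebra p A B) (Set.range x) with hC
    haveI : Algebra.FiniteType C B := Algebra.FiniteType.of_restrictScalars_finiteType (EGA41.pPowerSubalgebra p A B) C B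
    haveI : Subsingleton Ω[B⁄C] := by
      have hsurj := KaehlerDifferential.map_surjective A C B
      have h0 : KaehlerDifferential.map A C B B = 0 := by
        refine LinearMap.ext_on_range h fun i => ?_
        rw [KaehlerDifferential.map_D, LinearMap.zero_apply]
        exact (KaehlerDifferential.D C B).map_algebraMap (⟨x i, Algebra.subset_adjoin (Set.mem_range_self i)⟩ : C)
      refine subsingleton_of_forall_eq 0 fun z => ?_
      obtain ⟨w, rfl⟩ := hsurj z
      rw [h0, LinearMap.zero_apply]
    have hsurj := Groth.Agent.PBasisLib.surjective_of_kaehler_zero p (A := C) (B := B) 1 fun b => by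
      rw [pow_one]
      exact ⟨⟨b ^ p, C.algebraMap_mem ⟨b ^ p, Groth.Agent.PBasisLib.pow_mem_pPower p b⟩⟩, rfl⟩
    rw [eq_top_iff]
    intro b _
    obtain ⟨c, rfl⟩ := hsurj b
    exact c.2

end Groth.Agent.S2486
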