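import Mathlib
import Groth.Agent.CohenPresLib.FlatIso
import Groth.Statements.S2487

set_option autoImplicit false
universe u
open EGA41

namespace Groth.Agent.S2487

open IsLocalRing TensorProduct in
/-- Let A be a Noetherian local ring, J an ideal contained in the maximal ideal, A₀ = A/J, and B₀ a
complete Noetherian local ring with a local homomorphism A₀ → B₀ making B₀ formally smooth over A₀
(adic topologies). Then (existence) there are a complete Noetherian local ring B, a local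
homomorphism A → B making B a flat A-module, and an A₀-algebra isomorphism u : A₀ ⊗_A B ≅ B₀;
(uniqueness) if (B', u') is another such pair, there is an A-algebra isomorphism v : B ≅ B' with u'
∘ (1 ⊗ v) = u. -/
theorem result {A : Type u} [CommRing A] [IsLocalRing A] [IsNoetherianRing A]
    (J : Ideal A) (hJ : J ≤ maximalIdeal A) [IsLocalRing (A ⧸ J)]
    (B₀ : Type u) [CommRing B₀] [IsLocalRing B₀] [IsNoetherianRing B₀] [IsAdicComplete (maximalIdeal B₀) B₀]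
    [Algebra (A ⧸ J) B₀] [IsLocalHom (algebraMap (A ⧸ J) B₀)]
    (hfs : EGA41.IsFormallySmoothAdic (A ⧸ J) (maximalIdeal (A ⧸ J)) B₀ (maximalIdeal B₀)) :
    (∃ (B : Type u) (_ : CommRing B) (_ : IsLocalRing B) (_ : IsNoetherianRing B) (_ : Algebra A B) (_ : IsLocalHom (algebraMap A B)),
      IsAdicComplete (maximalIdeal B) B ∧ Module.Flat A B ∧ Nonempty ((A ⧸ J) ⊗[A] B ≃ₐ[A ⧸ J] B₀)) ∧
    ∀ (B B' : Type u) [CommRing B] [IsLocalRing B] [IsNoetherianRing B] [Algebra A B] [IsLocalHom (algebraMap A B)]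
      [CommRing B'] [IsLocalRing B'] [IsNoetherianRing B'] [Algebra A B'] [IsLocalHom (algebraMap A B')],
      IsAdicComplete (maximalIdeal B) B → Module.Flat A B → IsAdicComplete (maximalIdeal B') B' → Module.Flat A B' →
      ∀ (u : (A ⧸ J) ⊗[A] B ≃ₐ[A ⧸ J] B₀) (u' : (A ⧸ J) ⊗[A] B' ≃ₐ[A ⧸ J] B₀),
      ∃ v : B ≃ₐ[A] B', (u' : (A ⧸ J) ⊗[A] B' →ₐ[A ⧸ J] B₀).comp
          (Algebra.TensorProduct.map (AlgHom.id (A ⧸ J) (A ⧸ J)) (v : B →ₐ[A] B')) = (u : (A ⧸ J) ⊗[A] B →ₐ[A ⧸ J] B₀) := by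
  obtain ⟨C, _, _, _, hnoe, hcomp, hloc, hflat, π, hπ, hπa, hker, hC⟩ :=
    CohenPresLib.exists_lift_quotient J hJ B₀ hfs
  refine ⟨⟨C, inferInstance, inferInstance, hnoe, inferInstance, hloc, hcomp, hflat, ?_⟩, ?_⟩
  · obtain ⟨e, -⟩ := CohenPresLib.quotient_equiv_of_ker J π hπ hπa hker
    exact ⟨e⟩
  intro B B' _ _ _ _ _ _ _ _ _ _ hB hfB hB' hfB' u u'
  haveI := hnoe
  haveI := hcomp
  haveI := hloc
  haveI := hB
  haveI := hfB
  haveI := hB'
  haveI := hfB'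
  have key : ∀ (D : Type u) [CommRing D] [IsLocalRing D] [IsNoetherianRing D]
      [IsAdicComplete (maximalIdeal D) D] [Algebra A D] [IsLocalHom (algebraMap A D)] [Module.Flat A D]
      (w : (A ⧸ J) ⊗[A] D ≃ₐ[A ⧸ J] B₀), ∃ v : C ≃ₐ[A] D, ∀ c, w ((1 : A ⧸ J) ⊗ₜ[A] v c) = π c := by
    intro D _ _ _ _ _ _ _ w
    refine CohenPresLib.exists_algEquiv_over J hJ hC π hπ hker
      ((w.toAlgHom.toRingHom).comp
        (Algebra.TensorProduct.includeRight : D →ₐ[A] (A ⧸ J) ⊗[A] D).toRingHom) ?_ ?_ ?_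
    · intro y
      obtain ⟨d, hd⟩ := TensorProduct.mk_surjective A D (A ⧸ J) Ideal.Quotient.mk_surjective (w.symm y)
      exact ⟨d, (congrArg w hd).trans (w.apply_symm_apply y)⟩
    · ext d
      rw [RingHom.mem_ker]
      have h1 : d ∈ J.map (algebraMap A D) ↔ (1 : A ⧸ J) ⊗ₜ[A] d = 0 := by
        have h2 := SetLike.ext_iff.1 (LinearMap.ker_tensorProductMk (R := A) (I := J) D) d
        rw [Ideal.smul_top_eq_map] at h2
        exact h2.symm
      rw [h1]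
      exact map_eq_zero_iff w w.injective
    · intro a
      rw [hπa]
      show w ((1 : A ⧸ J) ⊗ₜ[A] algebraMap A D a) = _
      rw [show (1 : A ⧸ J) ⊗ₜ[A] algebraMap A D a = algebraMap (A ⧸ J) ((A ⧸ J) ⊗[A] D) (Ideal.Quotient.mk J a) from
        (Algebra.TensorProduct.tmul_one_eq_one_tmul a).symm]
      exact w.commutes _
  obtain ⟨v₁, h₁⟩ := key B u
  obtain ⟨v₂, h₂⟩ := key B' u'
  refine ⟨v₁.symm.trans v₂, AlgHom.ext fun z => ?_⟩
  obtain ⟨b, rfl⟩ : ∃ b : B, (1 : A ⧸ J) ⊗ₜ[A] b = z :=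
    TensorProduct.mk_surjective A B (A ⧸ J) Ideal.Quotient.mk_surjective z
  show u' ((1 : A ⧸ J) ⊗ₜ[A] v₂ (v₁.symm b)) = u ((1 : A ⧸ J) ⊗ₜ[A] b)
  rw [h₂, ← h₁, v₁.apply_symm_apply]

end Groth.Agent.S2487
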