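import Groth.Statements.S2558
import Groth.Agent.UnivOpenAtLib.Basic
import Groth.Agent.AffTest.Basic
-- import your own Groth.Agent.* helpers here

set_option autoImplicit false
open CategoryTheory AlgebraicGeometry
universe u
open EGA43

namespace Groth.Agent.S2558

open CategoryTheory.Limits in
/-- Let f : X ⟶ Y be locally of finite presentation. Suppose that for every irreducible scheme Y' and
every morphism of finite type g : Y' ⟶ Y, each irreducible component of X ×_Y Y' has dense image in
Y'. Then f is universally open. -/
theorem result {X Y : Scheme.{u}} (f : X ⟶ Y) [LocallyOfFinitePresentation f]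
    (h : ∀ (Y' : Scheme.{u}) (g : Y' ⟶ Y) [IrreducibleSpace Y'] [LocallyOfFiniteType g] [QuasiCompact g],
      ∀ Z ∈ irreducibleComponents (↥(pullback f g) : Type u), Dense ((pullback.snd f g).base '' Z)) :
    UniversallyOpen f := by
  refine Groth.Agent.AffTest.universallyOpen_of_snd f fun n hn => ?_
  let A := AffineSpace (ULift.{u} (Fin n)) Y
  rw [isOpenMap_iff_nhds_le]
  intro x' S hS
  have hat : EGA43.IsOpenAt (pullback.snd f (A ↘ Y)).base x' := by
    refine ((Groth.Agent.S3404.result (pullback.snd f (A ↘ Y)) x').2 inferInstance).2 fun y'' hy'' => ?_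
    let Z : TopologicalSpace.Closeds A := ⟨closure {y''}, isClosed_closure⟩
    let I := Scheme.IdealSheafData.vanishingIdeal Z
    have hrange : Set.range I.subschemeι.base = closure {y''} := by
      rw [Scheme.IdealSheafData.range_subschemeι]; exact (Scheme.IdealSheafData.coe_support_vanishingIdeal (Z := Z))
    obtain ⟨η, hη⟩ := hrange.superset (subset_closure rfl : y'' ∈ closure {y''})
    obtain ⟨z', hz'⟩ := hrange.superset (specializes_iff_mem_closure.1 hy'')
    haveI : IrreducibleSpace I.subscheme := by
      haveI : Nonempty I.subscheme := ⟨η⟩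
      have : PreirreducibleSpace I.subscheme := by
        refine ⟨?_⟩
        have : (Set.univ : Set I.subscheme) ⊆ closure {η} := fun w _ => by
          rw [I.subschemeι.isClosedEmbedding.isEmbedding.closure_eq_preimage_closure_image, Set.image_singleton, hη]
          exact hrange.subset ⟨w, rfl⟩
        rw [← Set.univ_subset_iff.1 this]
        exact isIrreducible_singleton.closure.2
      exact ⟨⟨η⟩⟩
    obtain ⟨p, hp1, hp2⟩ := Scheme.Pullback.exists_preimage_pullback (f := pullback.snd f (A ↘ Y)) (g := I.subschemeι) x' z' hz'.symm
    have sq := (IsPullback.of_hasPullback (pullback.snd f (A ↘ Y)) I.subschemeι).paste_horiz (IsPullback.of_hasPullback f (A ↘ Y))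
    have hC := irreducibleComponent_mem_irreducibleComponents (sq.isoPullback.hom.base p)
    obtain ⟨c, hc⟩ := QuasiSober.sober hC.1 (isClosed_irreducibleComponent (x := sq.isoPullback.hom.base p))
    have hd := h _ (I.subschemeι ≫ (A ↘ Y)) _ hC
    let snd' := pullback.snd f (I.subschemeι ≫ (A ↘ Y))
    have hcη : snd'.base c = η := by
      have hsub : closure (snd'.base '' irreducibleComponent (sq.isoPullback.hom.base p)) ⊆ closure {snd'.base c} := by
        refine closure_minimal ?_ isClosed_closure
        rintro _ ⟨w, hw, rfl⟩
        exact specializes_iff_mem_closure.1 ((hc.specializes hw).map (Scheme.Hom.continuous _))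
      have h1 : snd'.base c ⤳ η := specializes_iff_mem_closure.2 (hsub (hd η))
      have h2 : η ⤳ snd'.base c := by
        rw [specializes_iff_mem_closure, I.subschemeι.isClosedEmbedding.isEmbedding.closure_eq_preimage_closure_image,
          Set.image_singleton, hη]
        exact hrange.subset ⟨_, rfl⟩
      exact (h1.antisymm h2).eq
    let q := sq.isoPullback.inv.base c
    have hq : (pullback.snd (pullback.snd f (A ↘ Y)) I.subschemeι).base q = η := by
      rw [← Scheme.Hom.comp_apply, sq.isoPullback_inv_snd]; exact hcη
    refine ⟨(pullback.fst (pullback.snd f (A ↘ Y)) I.subschemeι).base q, ?_, ?_⟩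
    · rw [← hp1]
      refine Specializes.map ?_ (Scheme.Hom.continuous _)
      have h1 := (hc.specializes mem_irreducibleComponent).map sq.isoPullback.inv.continuous
      rwa [← Scheme.Hom.comp_apply, sq.isoPullback.hom_inv_id] at h1
    · rw [← Scheme.Hom.comp_apply, pullback.condition, Scheme.Hom.comp_apply, hq, hη]
  exact Filter.mem_of_superset (hat _ hS) (Set.image_preimage_subset _ _)

end Groth.Agent.S2558
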