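import Groth.Statements.S2563
import Mathlib

set_option autoImplicit false
open TensorProduct
universe u
open EGA43

namespace Groth.Agent.S2563

section
open TensorProduct
variable {A : Type*} [CommRing A] {M : Type*} [AddCommGroup M] [Module A M]

lemma le_of_le_sup_nil (J : Ideal A) (hJ : IsNilpotent J) (N P : Submodule A M)
    (h : P ≤ N ⊔ J • P) : P ≤ N := by
  obtain ⟨n, hn⟩ := hJ
  have key : ∀ m : ℕ, P ≤ N ⊔ (J ^ m) • P := by
    intro m
    induction m with
    | zero => rw [Submodule.pow_zero, Ideal.one_eq_top, Submodule.top_smul]; exact le_sup_right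
    | succ m ih =>
      refine ih.trans (sup_le le_sup_left ?_)
      calc (J ^ m) • P ≤ (J ^ m) • (N ⊔ J • P) := Submodule.smul_mono le_rfl h
        _ = (J ^ m) • N ⊔ (J ^ m) • (J • P) := Submodule.smul_sup _ _ _
        _ ≤ N ⊔ (J ^ (m + 1)) • P := by
          rw [← mul_smul, ← pow_succ]
          exact sup_le_sup Submodule.smul_le_right le_rfl
  have := key n
  rwa [hn, Submodule.zero_eq_bot, Submodule.bot_smul, sup_bot_eq] at this

end

/-- Let A be a commutative ring, J a nilpotent ideal of A, and (B_i) a family of commutative A-algebras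
such that an element of A vanishing in every B_i is zero. Let M be an A-module such that each B_i
⊗_A M is a free B_i-module and (A/J) ⊗_A M is a free (A/J)-module. Then M is a free A-module. -/
theorem result {A : Type u} [CommRing A] (J : Ideal A) (hJ : IsNilpotent J)
    {ι : Type u} (B : ι → Type u) [∀ i, CommRing (B i)] [∀ i, Algebra A (B i)]
    (hB : ∀ a : A, (∀ i, algebraMap A (B i) a = 0) → a = 0)
    (M : Type u) [AddCommGroup M] [Module A M]
    (hfree : ∀ i, Module.Free (B i) (B i ⊗[A] M)) (hfreeJ : Module.Free (A ⧸ J) ((A ⧸ J) ⊗[A] M)) :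
    Module.Free A M := by
  classical
  let bJ := Module.Free.chooseBasis (A ⧸ J) ((A ⧸ J) ⊗[A] M)
  let q : M →ₗ[A] (A ⧸ J) ⊗[A] M := TensorProduct.mk A (A ⧸ J) M 1
  have hq : Function.Surjective q := fun x => by
    induction x using TensorProduct.induction_on with
    | zero => exact ⟨0, map_zero _⟩
    | tmul a m =>
      obtain ⟨a, rfl⟩ := Ideal.Quotient.mk_surjective a
      refine ⟨a • m, ?_⟩
      show (1 : A ⧸ J) ⊗ₜ[A] (a • m) = _
      rw [← TensorProduct.smul_tmul, Algebra.smul_def, mul_one]; rfl
    | add x y hx hy =>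
      obtain ⟨u, rfl⟩ := hx; obtain ⟨v, rfl⟩ := hy
      exact ⟨u + v, map_add _ _ _⟩
  choose m hm using fun κ => hq (bJ κ)
  let φ : (Module.Free.ChooseBasisIndex (A ⧸ J) ((A ⧸ J) ⊗[A] M) →₀ A) →ₗ[A] M :=
    Finsupp.linearCombination A m
  have hqφ : ∀ a, q (φ a) = Finsupp.linearCombination A bJ a := by
    intro a
    rw [Finsupp.apply_linearCombination]
    congr 1
    exact congrArg _ (funext hm)
  have hkerq : ∀ x : M, q x = 0 → x ∈ J • (⊤ : Submodule A M) := by
    intro x hx
    have := congrArg (TensorProduct.quotTensorEquivQuotSMul M J) hx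
    rw [map_zero] at this
    rw [← Submodule.Quotient.mk_eq_zero]
    simpa [q] using this
  have hsurj : Function.Surjective φ := by
    rw [← LinearMap.range_eq_top, eq_top_iff]
    refine le_of_le_sup_nil J hJ _ _ fun x _ => ?_
    let c := bJ.repr (q x)
    choose lift hlift using fun r : A ⧸ J => Ideal.Quotient.mk_surjective r
    let a : Module.Free.ChooseBasisIndex (A ⧸ J) ((A ⧸ J) ⊗[A] M) →₀ A :=
      Finsupp.onFinset c.support (fun κ => if c κ = 0 then 0 else lift (c κ))
        (fun κ h => by simpa using fun h' => h (if_pos h'))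
    have ha : ∀ κ, Ideal.Quotient.mk J (a κ) = c κ := by
      intro κ
      simp only [a, Finsupp.onFinset_apply]
      split
      · rename_i h; rw [map_zero, h]
      · exact hlift _
    refine Submodule.mem_sup.2 ⟨φ a, LinearMap.mem_range_self _ _, x - φ a, hkerq _ ?_, by abel⟩
    rw [map_sub, hqφ, sub_eq_zero]
    apply bJ.repr.injective
    ext κ
    have : bJ.repr (Finsupp.linearCombination A bJ a) κ = Ideal.Quotient.mk J (a κ) := by
      rw [Finsupp.linearCombination_apply, map_finsuppSum]
      simp +contextual [Finsupp.sum, ← algebraMap_smul (A ⧸ J) (a _), Finsupp.single_apply]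
    rw [this, ha]
  have hker : LinearMap.ker φ ≤ J • ⊤ := by
    intro a ha
    have h0 : q (φ a) = 0 := by rw [show φ a = 0 from ha, map_zero]
    rw [hqφ] at h0
    have hc : ∀ κ, a κ ∈ J := by
      intro κ
      have := congrArg (fun z => bJ.repr z κ) h0
      simp only [map_zero, Finsupp.zero_apply] at this
      rw [← Ideal.Quotient.eq_zero_iff_mem, ← this, Finsupp.linearCombination_apply, map_finsuppSum]
      simp +contextual [Finsupp.sum, ← algebraMap_smul (A ⧸ J) (a _), Finsupp.single_apply]
    rw [← a.sum_single]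
    refine Submodule.sum_mem _ fun κ _ => ?_
    rw [← mul_one (a κ), ← smul_eq_mul, ← Finsupp.smul_single]
    exact Submodule.smul_mem_smul (hc κ) Submodule.mem_top
  have hinj : Function.Injective φ := by
    rw [← LinearMap.ker_eq_bot, Submodule.eq_bot_iff]
    intro a ha
    ext κ
    refine hB _ fun i => ?_
    haveI := hfree i
    let ψ := φ.baseChange (B i)
    have hψ : Function.Surjective ψ := LinearMap.lTensor_surjective (B i) hsurj
    obtain ⟨s, hs⟩ := Module.projective_lifting_property ψ LinearMap.id hψ
    let pr := LinearMap.id - (s.comp ψ).restrictScalars A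
    let ψA := φ.lTensor (B i)
    have hψA : ∀ z, ψA z = ψ z := fun z => rfl
    have hKJ : LinearMap.ker ψA ≤ J • ⊤ := by
      have hex := lTensor_exact (B i) (M := LinearMap.ker φ) (f := (LinearMap.ker φ).subtype) (g := φ)
        (fun x => ⟨fun h => ⟨⟨x, h⟩, rfl⟩, by rintro ⟨y, rfl⟩; exact y.2⟩) hsurj
      intro z hz
      obtain ⟨w, rfl⟩ := (hex z).1 hz
      clear hz
      induction w using TensorProduct.induction_on with
      | zero => rw [map_zero]; exact Submodule.zero_mem _
      | add u v hu hv => rw [map_add]; exact Submodule.add_mem _ hu hv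
      | tmul b y =>
        rw [LinearMap.lTensor_tmul, Submodule.subtype_apply]
        have hy := hker y.2
        refine Submodule.smul_induction_on (p := fun y => b ⊗ₜ[A] y ∈ J • ⊤) hy (fun r hr n _ => ?_)
          (fun u v hu hv => by rw [TensorProduct.tmul_add]; exact Submodule.add_mem _ hu hv)
        rw [TensorProduct.tmul_smul]
        exact Submodule.smul_mem_smul hr Submodule.mem_top
    have hK : LinearMap.ker ψA ≤ J • LinearMap.ker ψA := by
      intro z hz
      have h1 : pr z = z := by
        show z - s (ψ z) = z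
        rw [← hψA, show ψA z = 0 from hz, map_zero, sub_zero]
      rw [← h1]
      have h2 := Submodule.mem_map_of_mem (f := pr) (hKJ hz)
      rw [Submodule.map_smul''] at h2
      refine Submodule.smul_mono le_rfl ?_ h2
      rintro _ ⟨u, -, rfl⟩
      show ψA (u - s (ψ u)) = 0
      rw [map_sub, hψA, hψA, show ψ (s (ψ u)) = ψ u from LinearMap.congr_fun hs _, sub_self]
    have hz : (1 : B i) ⊗ₜ[A] a = 0 := by
      have hmem : (1 : B i) ⊗ₜ[A] a ∈ LinearMap.ker ψA := by
        show φ.lTensor (B i) _ = 0
        rw [LinearMap.lTensor_tmul, show φ a = 0 from ha, TensorProduct.tmul_zero]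
      simpa using le_of_le_sup_nil J hJ ⊥ _ (by simpa using hK) hmem
    have := congrArg (fun z => TensorProduct.finsuppScalarRight A A (B i) _ z κ) hz
    simpa [Algebra.smul_def] using this
  exact Module.Free.of_equiv (LinearEquiv.ofBijective φ ⟨hinj, hsurj⟩)

end Groth.Agent.S2563
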