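import Groth.Statements.S2569
import Groth.Agent.S4977
-- import your own Groth.Agent.* helpers here

set_option autoImplicit false
set_option backward.isDefEq.respectTransparency false
set_option linter.style.haveILetI false
open CategoryTheory AlgebraicGeometry
universe u
open EGA43

namespace Groth.Agent.S2569

/-- Let Y be locally Noetherian and f : X ⟶ Y separated, of finite type and universally submersive
(every base change is a topological quotient map onto its target), with all fibres geometrically
connected. If the fibre over a point y is proper over the residue field of y, then f is proper over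
some open neighbourhood of y. -/
theorem result {X Y : Scheme.{u}} [IsLocallyNoetherian Y] (f : X ⟶ Y)
    [IsSeparated f] [LocallyOfFiniteType f] [QuasiCompact f]
    (hsub : MorphismProperty.universally (topologically fun g => Topology.IsQuotientMap g) f)
    (hconn : ∀ y : Y, GeometricallyConnected (f.fiberToSpecResidueField y))
    (y : Y) (hy : IsProper (f.fiberToSpecResidueField y)) :
    ∃ U : Y.Opens, y ∈ U ∧ IsProper (f ∣_ U) := by
  haveI : Surjective f := ⟨(hsub (𝟙 _) (𝟙 _) f (IsPullback.of_vert_isIso ⟨by simp⟩)).surjective⟩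
  have hfib : ∀ y' : Y, _root_.IsPreconnected (f ⁻¹' {y'}) := fun y' => by
    haveI := hconn y'
    haveI : Subsingleton ↥(Spec (Y.residueField y')) := inferInstanceAs (Subsingleton (PrimeSpectrum _))
    haveI : Nonempty ↥(Spec (Y.residueField y')) := inferInstanceAs (Nonempty (PrimeSpectrum _))
    haveI : ConnectedSpace ↥(f.fiber y') :=
      GeometricallyConnected.connectedSpace_of_subsingleton (f.fiberToSpecResidueField y')
    rw [← f.range_fiberι]
    exact (isConnected_range (f.fiberι y').continuous).isPreconnected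
  have hop : IsOpen ((f.fiberι y).base ⁻¹' (Set.univ : Set X)) := isOpen_univ
  have hP : IsProper (Scheme.Opens.ι (⟨(f.fiberι y).base ⁻¹' (Set.univ : Set X), hop⟩ : (f.fiber y).Opens) ≫
      f.fiberToSpecResidueField y) := by
    haveI := hy
    haveI : IsIso (Scheme.Opens.ι (⟨(f.fiberι y).base ⁻¹' (Set.univ : Set X), hop⟩ : (f.fiber y).Opens)) :=
      inferInstanceAs (IsIso (f.fiber y).topIso.hom)
    infer_instance
  have h1 : ∀ y' : Y, y' ⤳ y → (∃ x ∈ (Set.univ : Set X), f.base x = y' ∧
      Set.univ ∩ f.base ⁻¹' {y'} = connectedComponentIn (f.base ⁻¹' {y'}) x) ∧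
      ∀ (K : Type u) [Field K] [Algebra (IsLocalRing.ResidueField (Y.presheaf.stalk y')) K],
        _root_.IsPreconnected ((FBase.bcπ (f.fiberToSpecResidueField y') K ≫ f.fiberι y').base ⁻¹' Set.univ) := by
    intro y' _
    refine ⟨?_, ?_⟩
    · obtain ⟨x, hx⟩ := f.surjective y'
      refine ⟨x, trivial, hx, ?_⟩
      rw [Set.univ_inter]
      exact Set.Subset.antisymm ((hfib y').subset_connectedComponentIn hx subset_rfl) (connectedComponentIn_subset _ _)
    · intro K _ _
      haveI := hconn y'
      rw [Set.preimage_univ]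
      haveI : ConnectedSpace ↥(FBase.bc (f.fiberToSpecResidueField y') K) :=
        GeometricallyConnected.geometrically_connectedSpace (f := f.fiberToSpecResidueField y') _ _ _
          (IsPullback.of_hasPullback _ _)
      exact isPreconnected_univ
  have h3 : ∀ (Y' : Scheme.{u}) (h : Y' ⟶ Y) (E : Set Y'), E ⊆ h.base ⁻¹' (f.base '' Set.univ) →
      (∃ W : Set ↥(Limits.pullback f h), IsOpen W ∧
        W ∩ (Limits.pullback.fst f h).base ⁻¹' Set.univ = (Limits.pullback.snd f h).base ⁻¹' E ∩ (Limits.pullback.fst f h).base ⁻¹' Set.univ) →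
      ∃ V : Set Y', IsOpen V ∧ V ∩ h.base ⁻¹' (f.base '' Set.univ) = E := by
    intro Y' h E _ hW
    obtain ⟨W, hW, hWE⟩ := hW
    rw [Set.preimage_univ, Set.inter_univ, Set.inter_univ] at hWE
    refine ⟨E, ?_, ?_⟩
    · exact (hsub (Limits.pullback.fst f h) h (Limits.pullback.snd f h) (IsPullback.of_hasPullback f h).flip).isOpen_preimage.1
        (show IsOpen ((Limits.pullback.snd f h).base ⁻¹' E) from hWE ▸ hW)
    · rw [Set.image_univ, Set.range_eq_univ.2 f.surjective, Set.preimage_univ, Set.inter_univ]
  obtain ⟨U, hyU, hC, hP'⟩ := Groth.Agent.S4977.result y f Set.univ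
    (Topology.IsConstructible.isLocallyConstructible (Topology.IsConstructible.univ)) h1 hop hP h3
  refine ⟨U, hyU, ?_⟩
  let C : TopologicalSpace.Closeds ↥(f ⁻¹ᵁ U) := ⟨(f ⁻¹ᵁ U).ι.base ⁻¹' Set.univ, hC⟩
  let j := (Scheme.IdealSheafData.vanishingIdeal (X := (f ⁻¹ᵁ U).toScheme) C).subschemeι
  haveI : Surjective j := ⟨by
    rw [← Set.range_eq_univ, Scheme.IdealSheafData.range_subschemeι, Scheme.IdealSheafData.coe_support_vanishingIdeal]
    rfl⟩
  haveI : IsProper (j ≫ f ∣_ U) := hP'
  haveI : UniversallyClosed (f ∣_ U) := UniversallyClosed.of_comp_surjective j (f ∣_ U)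
  exact { }

end Groth.Agent.S2569
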