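import Groth.Statements.S2571
import Groth.Agent.UnivOpenSectLib.Scheme
import Groth.Agent.S0593

set_option autoImplicit false
open CategoryTheory AlgebraicGeometry
universe u
open EGA43

namespace Groth.Agent.S2571

open CategoryTheory.Limits in
/-- Let Y be locally Noetherian, f : X ⟶ Y locally of finite type, and g : Y' ⟶ Y locally of finite
type, universally open and surjective. If the base change X ×_Y Y' ⟶ Y' is an affine morphism, then
f is affine. -/
theorem result {X Y Y' : Scheme.{u}} [IsLocallyNoetherian Y]
    (f : X ⟶ Y) [LocallyOfFiniteType f] (g : Y' ⟶ Y) [LocallyOfFiniteType g] [UniversallyOpen g] [Surjective g]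
    [IsAffineHom (pullback.snd f g)] : IsAffineHom f := by
  rw [IsZariskiLocalAtTarget.iff_of_openCover (P := @IsAffineHom) Y.affineCover]
  intro i
  let e := Y.affineCover.f i
  let U := Y.affineCover.X i
  haveI : IsAffine U := inferInstanceAs (IsAffine (Y.affineCover.X i))
  haveI : IsLocallyNoetherian U := isLocallyNoetherian_of_isOpenImmersion e
  let fU : pullback f e ⟶ U := pullback.snd f e
  let gU : pullback g e ⟶ U := pullback.snd g e
  haveI : LocallyOfFiniteType gU := MorphismProperty.pullback_snd _ _ inferInstance
  haveI : LocallyOfFinitePresentation gU := inferInstance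
  haveI : UniversallyOpen gU := MorphismProperty.pullback_snd _ _ inferInstance
  haveI : Surjective gU := MorphismProperty.pullback_snd _ _ inferInstance
  obtain ⟨U', π, hπ, hπs, h⟩ := Groth.Agent.UnivOpenSectLib.exists_finite_splitting_qcqs gU
  choose V r hV hr using h
  let 𝒱 : U'.OpenCover := U'.openCoverOfIsOpenCover V
    (TopologicalSpace.IsOpenCover.mk (eq_top_iff.2 fun y _ => TopologicalSpace.Opens.mem_iSup.2 ⟨y, hV y⟩))
  haveI : IsAffineHom (pullback.snd fU π) := by
    rw [IsZariskiLocalAtTarget.iff_of_openCover (P := @IsAffineHom) 𝒱]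
    intro y
    let l : (V y).toScheme ⟶ Y' := r y ≫ pullback.fst g e
    have hl : l ≫ g = ((V y).ι ≫ π) ≫ e := by
      rw [Category.assoc, pullback.condition, ← Category.assoc, hr]
    have s1 := ((IsPullback.of_hasPullback (pullback.snd fU π) (V y).ι).paste_horiz
      (IsPullback.of_hasPullback fU π)).paste_horiz (IsPullback.of_hasPullback f e)
    have s2 : IsPullback (pullback.fst (pullback.snd f g) l ≫ pullback.fst f g) (pullback.snd (pullback.snd f g) l)
        f (((V y).ι ≫ π) ≫ e) := hl ▸
      (IsPullback.of_hasPullback (pullback.snd f g) l).paste_horiz (IsPullback.of_hasPullback f g)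
    haveI : IsAffineHom (pullback.snd (pullback.snd f g) l) := MorphismProperty.pullback_snd _ _ inferInstance
    show IsAffineHom (pullback.snd (pullback.snd fU π) (V y).ι)
    rw [← IsPullback.isoIsPullback_hom_snd _ _ s1 s2]
    infer_instance
  haveI : IsAffine U' := isAffine_of_isAffineHom π
  haveI : IsAffine (pullback fU π) := isAffine_of_isAffineHom (pullback.snd fU π)
  haveI : IsFinite (pullback.fst fU π) := MorphismProperty.pullback_fst _ _ hπ
  haveI : Surjective (pullback.fst fU π) := MorphismProperty.pullback_fst _ _ hπs
  haveI : IsAffine (pullback f e) := Groth.Agent.S0593.result _ _ (pullback.fst fU π)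
  show IsAffineHom fU
  infer_instance

end Groth.Agent.S2571
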