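import Groth.Statements.S2572
import Groth.Agent.FpqcDesc.Topo
import Groth.Agent.DVRCrit.Local
import Groth.Agent.DedFlatLib.Basic
import Groth.Agent.NagNorm.Basic
import Groth.Agent.ASp.OnePoint
open TopologicalSpace
-- import your own Groth.Agent.* helpers here

set_option autoImplicit false
open CategoryTheory AlgebraicGeometry
universe u
open EGA43

namespace Groth.Agent.S2572

/-- Let Y be an irreducible locally Noetherian scheme whose local rings are regular of dimension at most
one, f : X ⟶ Y locally of finite type, and y a point of Y. If every irreducible component of X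
meeting the fibre over y has dense image in Y, then there is an open subset U of X containing that
fibre such that the restriction of f to U is universally open. -/
theorem result {X Y : Scheme.{u}} [IsLocallyNoetherian Y]
    [IrreducibleSpace Y]
    (hY : ∀ y : Y, IsRegularLocalRing (Y.presheaf.stalk y) ∧ ringKrullDim (Y.presheaf.stalk y) ≤ 1)
    (f : X ⟶ Y) [LocallyOfFiniteType f] (y : Y)
    (h : ∀ Z ∈ irreducibleComponents (X : Type u), (Z ∩ f.base ⁻¹' {y}).Nonempty → Dense (f.base '' Z)) :
    ∃ U : X.Opens, f.base ⁻¹' {y} ⊆ (U : Set X) ∧ UniversallyOpen (U.ι ≫ f) := by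
  classical
  haveI : IsLocallyNoetherian X := LocallyOfFiniteType.isLocallyNoetherian f
  have hlf := NagNorm.locallyFinite_irreducibleComponents (X := (X : Type u)) fun x => by
    obtain ⟨W, hW, hxW, -⟩ := exists_isAffineOpen_mem_and_subset (X := X) (U := ⊤) (x := x) trivial
    haveI := IsLocallyNoetherian.component_noetherian (X := X) ⟨W, hW⟩
    exact ⟨W, W.2.mem_nhds hxW, noetherianSpace_of_isAffineOpen W hW⟩
  have hcl : IsClosed (⋃ Z : {Z : irreducibleComponents (X : Type u) // ¬ Dense (f.base '' Z.1)}, (Z.1 : Set X)) :=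
    (hlf.comp_injective Subtype.val_injective).isClosed_iUnion fun Z => isClosed_of_mem_irreducibleComponents _ Z.1.2
  let U : X.Opens := ⟨_, hcl.isOpen_compl⟩
  refine ⟨U, fun z hz => ?_, ?_⟩
  · intro hmem
    obtain ⟨⟨Z, hZ⟩, hzZ⟩ := Set.mem_iUnion.1 hmem
    exact hZ (h Z.1 Z.2 ⟨z, hzZ, hz⟩)
  let I := Scheme.IdealSheafData.vanishingIdeal (X := (U : Scheme.{u})) ⊤
  let i := I.subschemeι
  haveI : IsReduced I.subscheme := DVRCrit.isReduced_vanishingIdeal _
  haveI : Surjective i := ⟨fun z => by
    show z ∈ Set.range i
    rw [Scheme.IdealSheafData.range_subschemeι, Scheme.IdealSheafData.coe_support_vanishingIdeal]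
    trivial⟩
  haveI : IsLocallyNoetherian I.subscheme := LocallyOfFiniteType.isLocallyNoetherian (i ≫ U.ι ≫ f)
  haveI : Flat (i ≫ U.ι ≫ f) := by
    refine DedFlatLib.flat_of_assPoints _ (fun y => (hY y).1) (fun y => (hY y).2) fun w hw => ?_
    have hass := (AssLib.isAssPoint_structureModule_iff w).1 hw
    have hfld : IsField (I.subscheme.presheaf.stalk w) := by
      rw [IsLocalRing.isField_iff_maximalIdeal_eq]
      obtain ⟨hP, c, hc⟩ := (isAssociatedPrime_iff_exists_injective_linearMap _ _).1 hass
      rw [eq_bot_iff]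
      intro a ha
      have h1 : a * c 1 = 0 := by
        rw [← smul_eq_mul, ← map_smul, Algebra.smul_def, mul_one,
          show algebraMap _ (I.subscheme.presheaf.stalk w ⧸ _) _ = Ideal.Quotient.mk _ _ from rfl,
          Ideal.Quotient.eq_zero_iff_mem.2 ha, map_zero]
      have hc1 : c 1 ≠ 0 := fun he => one_ne_zero (hc (he.trans (map_zero c).symm))
      by_cases hcu : IsUnit (c 1)
      · exact hcu.mul_left_eq_zero.1 h1
      · exfalso
        refine hc1 (IsReduced.eq_zero _ ⟨2, ?_⟩)
        have h2 : c 1 * c 1 = 0 := by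
          rw [← smul_eq_mul, ← map_smul, Algebra.smul_def, mul_one,
            show algebraMap _ (I.subscheme.presheaf.stalk w ⧸ _) _ = Ideal.Quotient.mk _ _ from rfl,
            Ideal.Quotient.eq_zero_iff_mem.2 (show c 1 ∈ IsLocalRing.maximalIdeal _ from hcu), map_zero]
        rw [pow_two, h2]
    have hmax : ∀ t : I.subscheme, t ⤳ w → t = w := fun t ht =>
      DedFlatLib.eq_of_specializes_of_dim_zero ht (ringKrullDim_eq_zero_of_isField hfld)
    let z : X := U.ι (i w)
    have hzmax : ∀ t : X, t ⤳ z → t = z := by
      intro t ht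
      obtain ⟨t', rfl⟩ : t ∈ Set.range U.ι := ht.mem_open U.ι.isOpenEmbedding.isOpen_range ⟨_, rfl⟩
      obtain ⟨t'', rfl⟩ := i.surjective t'
      rw [hmax t'' (i.isEmbedding.isInducing.specializes_iff.1 (U.ι.isEmbedding.isInducing.specializes_iff.1 ht))]
    let C := irreducibleComponent z
    have hC : closure ({z} : Set X) = C := by
      have hg := (isIrreducible_irreducibleComponent (x := z)).isGenericPoint_genericPoint isClosed_irreducibleComponent
      have hgz := hzmax _ (hg.specializes mem_irreducibleComponent)
      exact (congrArg (fun t => closure ({t} : Set X)) hgz).symm.trans hg.def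
    have hdense : Dense (f.base '' C) := by
      by_contra hd
      exact (i w).2 (Set.mem_iUnion.2 ⟨⟨⟨C, irreducibleComponent_mem_irreducibleComponents z⟩, hd⟩, mem_irreducibleComponent⟩)
    have hgen : ∀ y : Y, f z ⤳ y := fun y => by
      rw [specializes_iff_mem_closure]
      have h1 : f.base '' C ⊆ closure {f z} := by
        rw [← hC]
        exact (image_closure_subset_closure_image f.continuous).trans (by rw [Set.image_singleton])
      exact closure_minimal h1 isClosed_closure (hdense y)
    rw [ringKrullDim_stalk_eq_coheight]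
    have heq : ((i ≫ U.ι ≫ f).base w) = f z := rfl
    rw [heq, WithBot.coe_eq_zero, Order.coheight_eq_zero]
    intro y hy
    exact hgen y
  haveI : LocallyOfFinitePresentation (i ≫ U.ι ≫ f) := ASp.locallyOfFinitePresentation_of_noetherian _
  haveI : UniversallyOpen (i ≫ U.ι ≫ f) := inferInstance
  exact SchTopo.universallyOpen_of_surjective_comp i (U.ι ≫ f)

end Groth.Agent.S2572
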