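import Groth.Statements.S2573
import Mathlib
import Groth.Agent.GenFreeIrred.Module
-- import your own Groth.Agent.* helpers here

set_option autoImplicit false
universe u
open EGA43

namespace Groth.Agent.S2573

/-- Let A be a commutative ring whose spectrum is irreducible, with unique minimal prime p, let B be a
finitely presented A-algebra and M a finitely presented B-module. If the localization M_p is flat
over A_p, then there is t ∉ p such that M_t is a free A_t-module. -/
theorem result {A B : Type u} [CommRing A] [CommRing B] [Algebra A B]
    [Algebra.FinitePresentation A B] (p : Ideal A) [p.IsPrime] (hp : minimalPrimes A = {p})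
    (M : Type u) [AddCommGroup M] [Module B M] [Module A M] [IsScalarTower A B M] [Module.FinitePresentation B M]
    (hflat : Module.Flat (Localization.AtPrime p) (LocalizedModule p.primeCompl M)) :
    ∃ t : A, t ∉ p ∧ Module.Free (Localization.Away t) (LocalizedModule (Submonoid.powers t) M) := by
  haveI := hflat
  have hnil : nilradical A = p := by
    refine le_antisymm (fun x hx => ?_) ?_
    · obtain ⟨k, hk⟩ := mem_nilradical.1 hx
      exact ‹p.IsPrime›.mem_of_pow_mem k (hk ▸ p.zero_mem)
    · rw [nilradical_eq_sInf]
      refine le_sInf fun q hq => ?_
      obtain ⟨q', hq', hle⟩ := @Ideal.exists_minimalPrimes_le A _ ⊥ q hq bot_le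
      have h' : q' ∈ minimalPrimes A := hq'
      rw [hp, Set.mem_singleton_iff] at h'
      exact h' ▸ hle
  obtain ⟨t, ht, hfree⟩ := Groth.Agent.GenFreeIrred.exists_free_of_flat (A := A) (B := B) p hnil M
  exact ⟨t, ht, Module.Free.of_equiv' hfree (LocalizedModule.equivTensorProduct (Submonoid.powers t) M).symm⟩

end Groth.Agent.S2573
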