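import Groth.Statements.S2575
import Groth.Agent.EtAlgEasy.FibLocusFin
-- import your own Groth.Agent.* helpers here

set_option autoImplicit false
open CategoryTheory AlgebraicGeometry
universe u
open EGA43

namespace Groth.Agent.S2575

open CategoryTheory.Limits in
/-- Let g : Y ⟶ S and f : X ⟶ Y be such that X and Y are of finite presentation over S (locally of
finite presentation, quasi-compact and quasi-separated). For each point s of S let f_s be the
induced morphism from the fibre of f ≫ g over s to the fibre of g over s. Then the set of s for
which f_s is an isomorphism is locally constructible in S. -/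
theorem result {X Y S : Scheme.{u}} (f : X ⟶ Y) (g : Y ⟶ S)
    [LocallyOfFinitePresentation g] [QuasiCompact g] [QuasiSeparated g]
    [LocallyOfFinitePresentation (f ≫ g)] [QuasiCompact (f ≫ g)] [QuasiSeparated (f ≫ g)] :
    Topology.IsLocallyConstructible {s : S |
      IsIso (pullback.lift (pullback.fst (f ≫ g) (S.fromSpecResidueField s) ≫ f) (pullback.snd (f ≫ g) (S.fromSpecResidueField s))
          ((Category.assoc _ _ _).trans pullback.condition) :
        pullback (f ≫ g) (S.fromSpecResidueField s) ⟶ pullback g (S.fromSpecResidueField s))} := by
  have key : ∀ s, IsOpenImmersion (FibreMapConstr.fib f g s) ↔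
      Mono (FibreMapConstr.fib f g s) ∧ Flat (FibreMapConstr.fib f g s) := fun s => by
    haveI : LocallyOfFinitePresentation f := FlatLocus.locallyOfFinitePresentation_of_comp f g
    haveI : LocallyOfFinitePresentation (FibreMapConstr.fib f g s) :=
      MorphismProperty.of_isPullback (EtAlgEasy.FibreMorph.isPullback_fib f g s) inferInstance
    exact ⟨fun _ => ⟨inferInstance, inferInstance⟩, fun ⟨_, _⟩ => IsOpenImmersion.of_flat_of_mono _⟩
  have h := (EtAlgEasy.FibreMorph.isLocallyConstructible_mono f g).inter
    (EtAlgEasy.FibLocus.isLocallyConstructible_locus _ EtAlgEasy.FibLocus.genConstr_flat f g)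
  simp_rw [isIso_iff_isOpenImmersion_and_surjective, key, surjective_iff]
  haveI : LocallyOfFinitePresentation f := FlatLocus.locallyOfFinitePresentation_of_comp f g
  haveI : QuasiCompact f := QuasiCompact.of_comp f g
  exact h.inter (FibreMapConstr.isLocallyConstructible_surjective f g)

end Groth.Agent.S2575
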