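import Groth.Statements.S2586
-- import your own Groth.Agent.* helpers here
import Groth.Agent.FlatSeqLib.FinPres

set_option backward.isDefEq.respectTransparency false

set_option autoImplicit false
open TensorProduct
universe u
open EGA43

namespace Groth.Agent.S2586

/-- Let A ⟶ B be a ring map with B finitely presented over A, M a finitely presented B-module, q a prime
of B with contraction p, and g₁, …, gₙ elements of q. Suppose the localization M_q is flat over A
and the gᵢ form a regular sequence on the localization at q of the fibre module M ⊗_A κ(p). Then the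
gᵢ form a regular sequence on M_q, and for every i the localization at q of M/(g₁, …, gᵢ)M is flat
over A. -/
theorem result {A B : Type u} [CommRing A] [CommRing B] [Algebra A B]
    [Algebra.FinitePresentation A B] (M : Type u) [AddCommGroup M] [Module B M] [Module A M] [IsScalarTower A B M]
    [Module.FinitePresentation B M] (q : Ideal B) [q.IsPrime] (g : List B) (hg : ∀ b ∈ g, b ∈ q)
    (hflat : Module.Flat A (LocalizedModule q.primeCompl M))
    (hreg : RingTheory.Sequence.IsRegular
      (LocalizedModule q.primeCompl (M ⊗[A] (q.comap (algebraMap A B)).ResidueField)) g) :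
    RingTheory.Sequence.IsRegular (LocalizedModule q.primeCompl M) g ∧
      ∀ i ≤ g.length, Module.Flat A
        (LocalizedModule q.primeCompl (M ⧸ (Ideal.span {b | b ∈ g.take i} • (⊤ : Submodule B M)))) := by
  obtain ⟨e⟩ := FlatSeqLib.nonempty_fibreEquiv (A := A) q M
  obtain ⟨hw, hf⟩ := FlatSeqLib.isWeaklyRegular_and_flat_fp q g M hg ((e.isWeaklyRegular_congr g).2 hreg.toIsWeaklyRegular)
  refine ⟨⟨hw, fun h => hreg.top_ne_smul ?_⟩, fun i _ => ?_⟩
  · let f : LocalizedModule q.primeCompl M →ₗ[B]
        LocalizedModule q.primeCompl (M ⊗[A] (q.comap (algebraMap A B)).ResidueField) :=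
      e.toLinearMap ∘ₗ Submodule.mkQ _
    have hf' : LinearMap.range f = ⊤ := LinearMap.range_eq_top.2 (e.surjective.comp (Submodule.mkQ_surjective _))
    rw [← hf', ← Submodule.map_top, ← Submodule.map_smul'']
    exact congrArg (Submodule.map f) h
  · obtain ⟨e'⟩ := FlatSeqLib.nonempty_locQuot q.primeCompl (Ideal.span {b | b ∈ g.take i}) (M := M)
    haveI := hf i
    exact Module.Flat.of_linearEquiv
      (M := LocalizedModule q.primeCompl M ⧸ (Ideal.ofList (g.take i) • ⊤ : Submodule B (LocalizedModule q.primeCompl M)))
      (e'.restrictScalars A)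

end Groth.Agent.S2586
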