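import Groth.Statements.S2594
import Groth.Agent.OpenDim.EquidimCrit
import Groth.Agent.LocDimBC.Scheme
import Groth.Agent.OpenDim.Constr
-- import your own Groth.Agent.* helpers here

set_option autoImplicit false
open CategoryTheory AlgebraicGeometry
universe u
open EGA43

namespace Groth.Agent.S2594

open CategoryTheory.Limits in
/-- Let f : X ⟶ Y be locally of finite type and equidimensional at a point x, and g : Y' ⟶ Y a flat
morphism with Y' locally Noetherian (the source states this for arbitrary Y', but its proof reduces
to the case where every irreducible component passes through the point, which needs the irreducible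
components to be locally finite). Then the base change X ×_Y Y' ⟶ Y' is equidimensional at every
point lying over x. -/
theorem result {X Y Y' : Scheme.{u}} (f : X ⟶ Y) [LocallyOfFiniteType f] (g : Y' ⟶ Y) [Flat g] [IsLocallyNoetherian Y']
    (x : X) (h : EGA43.IsEquidimAt f x) (x' : ↥(pullback f g)) (hx' : (pullback.fst f g).base x' = x) :
    EGA43.IsEquidimAt (pullback.snd f g) x' := by
  classical
  obtain ⟨e, U, hxU, hcomp, hfib⟩ := h
  let f' := pullback.snd f g
  let π := pullback.fst f g
  haveI : LocallyOfFiniteType f' := MorphismProperty.pullback_snd _ _ inferInstance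
  have hw : ∀ w ∈ U, OpenDim.MaxInFibre f w → OpenDim.trd f w = e := fun w hwU hwmax => by
    let v : U := ⟨w, hwU⟩
    let g₁ := U.ι ≫ f
    haveI : LocallyOfFiniteType g₁ := inferInstance
    obtain ⟨y, hy⟩ : ∃ y, g₁ v = y := ⟨_, rfl⟩
    have hfib' : ∀ Z ∈ irreducibleComponents (↥(g₁.fiber y) : Type u), topologicalKrullDim (↥Z : Type u) = e :=
      hy ▸ hfib v
    obtain ⟨w₁, hw₁⟩ : v ∈ Set.range (g₁.fiberι y) := by rw [g₁.range_fiberι]; exact hy
    have hmax₁ : ∀ z : g₁.fiber y, z ⤳ w₁ → z = w₁ := fun z hz => by
      refine (g₁.fiberι _).isEmbedding.injective (U.ι.isOpenEmbedding.injective ?_)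
      have hs := (hz.map (g₁.fiberι y).continuous).map U.ι.continuous
      rw [hw₁] at hs ⊢
      exact hwmax _ (((g₁.range_fiberι y).le ⟨z, rfl⟩ : g₁ (g₁.fiberι y z) = y).trans hy.symm) hs
    let Z := closure ({w₁} : Set ↥(g₁.fiber y))
    have hZ : Z ∈ irreducibleComponents ↥(g₁.fiber y) :=
      DimFormulaLib.closure_mem_irreducibleComponents hmax₁
    have h1 := hfib' Z hZ
    have hemb := (g₁.fiberι y).isEmbedding
    have himg : g₁.fiberι y '' Z = (closure {v} ∩ Set.univ) ∩ g₁ ⁻¹' {y} := by
      have hZeq : Z = g₁.fiberι y ⁻¹' closure {v} :=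
        (hemb.isInducing.closure_eq_preimage_closure_image _).trans (congrArg (fun S => g₁.fiberι y ⁻¹' closure S)
          (Set.image_singleton.trans (congrArg (fun t => ({t} : Set U.toScheme)) hw₁)))
      rw [hZeq, Set.inter_univ, Set.image_preimage_eq_inter_range, g₁.range_fiberι]
      rfl
    have hdim : topologicalKrullDim ↥Z = topologicalKrullDim ↥(g₁.fiberι y '' Z) :=
      IsHomeomorph.topologicalKrullDim_eq _ (hemb.homeomorphImage Z).isHomeomorph
    have h2 : topologicalKrullDim ↥(g₁.fiberι y '' Z) = (OpenDim.trd g₁ v : WithBot ℕ∞) := by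
      refine le_antisymm (OpenDim.dim_inter_le g₁ (closure {v}) isClosed_closure Set.univ isOpen_univ y _ himg
        fun z hz => ?_) (OpenDim.trd_le_dim_inter g₁ (closure {v}) isClosed_closure Set.univ isOpen_univ y _ himg
        (himg.symm ▸ ⟨⟨subset_closure rfl, trivial⟩, hy⟩))
      rw [himg] at hz
      exact_mod_cast OpenDim.trd_le g₁ (specializes_iff_mem_closure.2 hz.1.1) (hy.trans (show g₁ z = y from hz.2).symm)
    have h3 := OpenDim.resTrdegAt_ι' f v
    rw [OpenDim.resTrdegAt_eq_trd, OpenDim.resTrdegAt_eq_trd] at h3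
    have h4 : OpenDim.trd g₁ v = OpenDim.trd f w := by exact_mod_cast h3
    rw [hdim, h2, h4] at h1
    exact_mod_cast h1
  have hdimx : FlatMor.fibreDimAt f x = (e : WithBot ℕ∞) := by
    obtain ⟨ζ, hfζ, hζx, hmax, hdim⟩ := OpenDim.exists_maxInFibre_fibreDimAt f x
    rw [hdim, hw ζ (hζx.mem_open U.isOpen hxU) hmax]
  refine OpenDim.isEquidimAt_of_generic f' x' e (fun ξ' hmax' hsp => ?_) ?_
  · have hξU : π ξ' ∈ U := (hx' ▸ hsp.map π.continuous).mem_open U.isOpen hxU
    have hξmax : OpenDim.IsMaxPt (π ξ') := fun z hz => by
      obtain ⟨z', hz', rfl⟩ := Flat.generalizingMap (f := π) hz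
      rw [hmax' z' hz']
    have hηmax : OpenDim.IsMaxPt (f (π ξ')) := by
      let v : U := ⟨π ξ', hξU⟩
      have hv : ∀ v' : U, v' ⤳ v → v' = v := fun v' hv' =>
        U.ι.isOpenEmbedding.injective (hξmax _ (hv'.map U.ι.continuous))
      obtain ⟨W, hW, -, hcl⟩ := hcomp (closure ({v} : Set U.toScheme))
        (DimFormulaLib.closure_mem_irreducibleComponents (F := U.toScheme) hv)
      replace hcl := (closure_image_closure (U.ι ≫ f).continuous).symm.trans hcl
      have hcl' : closure ({f (π ξ')} : Set Y) = W :=
        (congrArg closure (Set.image_singleton (f := fun z : U.toScheme => (U.ι ≫ f) z) (a := v)).symm).trans hcl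
      exact OpenDim.isMaxPt_of_closure_mem (hcl' ▸ hW)
    refine ⟨fun η hη => ?_, ?_⟩
    · -- generizations of the image lie in the same fibre over the base
      have hgη : g η = f (π ξ') := by
        refine hηmax _ ?_
        have := hη.map g.continuous
        rwa [show g (f' ξ') = f (π ξ') by
          rw [← Scheme.Hom.comp_apply, ← Scheme.Hom.comp_apply, pullback.condition]] at this
      let k := Y.fromSpecResidueField (f (π ξ'))
      -- over the residue field everything is flat
      haveI : Subsingleton ↥(Spec (Y.residueField (f (π ξ')))) := inferInstanceAs (Subsingleton (PrimeSpectrum _))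
      haveI : AlgebraicGeometry.IsIntegral (Spec (Y.residueField (f (π ξ')))) := inferInstance
      haveI : Flat (pullback.snd f k) := inferInstance
      let q := pullback.fst g k
      have h1 : IsPullback (pullback.fst f' q ≫ π) (pullback.snd f' q) f (pullback.snd g k ≫ k) := by
        rw [← pullback.condition]
        exact (IsPullback.of_hasPullback f' q).paste_horiz (IsPullback.of_hasPullback f g)
      have h2 : IsPullback (pullback.lift (pullback.fst f' q ≫ π) (pullback.snd f' q ≫ pullback.snd g k)
          (by rw [Category.assoc (pullback.snd f' q)]; exact h1.w)) (pullback.snd f' q) (pullback.snd f k)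
          (pullback.snd g k) :=
        IsPullback.of_right (by rw [pullback.lift_fst]; exact h1) (pullback.lift_snd _ _ _)
          (IsPullback.of_hasPullback f k)
      haveI : Flat (pullback.snd f' q) := MorphismProperty.of_isPullback h2 ‹Flat (pullback.snd f k)›
      obtain ⟨t', ht'⟩ : f' ξ' ∈ Set.range q := by
        rw [Scheme.Pullback.range_fst, Scheme.range_fromSpecResidueField]
        show g (f' ξ') = f (π ξ')
        rw [← Scheme.Hom.comp_apply, ← pullback.condition]
        rfl
      obtain ⟨t, ht⟩ : η ∈ Set.range q := by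
        rw [Scheme.Pullback.range_fst, Scheme.range_fromSpecResidueField]
        exact hgη
      obtain ⟨v, hv1, hv2⟩ := Scheme.Pullback.exists_preimage_pullback (f := f') (g := q) ξ' t' ht'.symm
      have hts : t ⤳ pullback.snd f' q v := by
        rw [hv2]
        exact q.isEmbedding.isInducing.specializes_iff.1 (by rw [ht, ht']; exact hη)
      obtain ⟨z, hz, hzt⟩ := Flat.generalizingMap (f := pullback.snd f' q) hts
      have hz' := hz.map (pullback.fst f' q).continuous
      rw [hv1] at hz'
      calc η = q (pullback.snd f' q z) := by rw [hzt, ht]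
        _ = f' (pullback.fst f' q z) := by rw [← Scheme.Hom.comp_apply, ← pullback.condition]; rfl
        _ = f' ξ' := congrArg f' (hmax' _ hz')
    · have h1 := LocDimBC.fibreDimAt_baseChange (IsPullback.of_hasPullback f g) ξ'
      rw [OpenDim.fibreDimAt_eq_trd f' (fun z _ hz => hmax' z hz),
        OpenDim.fibreDimAt_eq_trd f (fun z _ hz => hξmax z hz), hw _ hξU (fun z _ hz => hξmax z hz)] at h1
      exact_mod_cast h1
  · rw [LocDimBC.fibreDimAt_baseChange (IsPullback.of_hasPullback f g), show π x' = x from hx', hdimx]

end Groth.Agent.S2594
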