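import Groth.Statements.S2595
import Groth.Agent.FibreDepth.AssScheme
import Groth.Agent.DimFormulaLib.Equidim
import Groth.Agent.FlatLocus.Scheme
-- import your own Groth.Agent.* helpers here

set_option autoImplicit false
open CategoryTheory AlgebraicGeometry
universe u
open EGA43

namespace Groth.Agent.S2595

attribute [local instance] Algebra.TensorProduct.rightAlgebra

/-- Let Y be locally Noetherian, f : X ⟶ Y locally of finite type and x a point of X. If O_{Y,f x} ⟶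
O_{X,x} is flat and the local ring at x of the fibre through x is Cohen–Macaulay, then f is
equidimensional at x. -/
theorem result {X Y : Scheme.{u}} [IsLocallyNoetherian Y] (f : X ⟶ Y)
    [LocallyOfFiniteType f] (x : X) (hflat : (f.stalkMap x).hom.Flat)
    (hCM : LocCoh.IsCohenMacaulayLocalRing ((f.fiber (f.base x)).presheaf.stalk (f.asFiber x))) :
    EGA43.IsEquidimAt f x := by
  haveI : LocallyOfFinitePresentation f := inferInstance
  obtain ⟨𝔐, q₀, rfl⟩ := FibreDepth.exists_model_self f x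
  obtain ⟨c⟩ := DimFormulaLib.exists_chart f (𝔐.emb q₀)
  haveI := c.isNoetherianRing
  haveI : IsNoetherianRing c.B := Algebra.FiniteType.isNoetherianRing c.A c.B
  obtain ⟨g₀, hg₀, hg₀min⟩ := DimFormulaLib.exists_open_dim_le c.B c.q
  have hfl : IsOpen {z : X | (f.stalkMap z).hom.Flat} := FlatLocus.isOpen_flat_stalkMap f
  let P := MvPolynomial (Fin 𝔐.m) 𝔐.A
  obtain ⟨e, he, hpd, hcd⟩ := (𝔐.coprof_iff q₀ 0).1 (by
    rw [Nat.cast_zero, add_zero, ← Module.supportDim_self_eq_ringKrullDim]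
    exact hCM.supportDim_eq_depth.le)
  rw [Nat.sub_zero] at hcd
  let W₀ : Set (PrimeSpectrum P) := FibreDepth.PdSet 𝔐.A P 𝔐.M e ∩
    {r | FibreDepth.CodimGE 𝔐.A (Module.annihilator P 𝔐.M) r e}
  have hW₀ : IsOpen W₀ :=
    (FibreDepth.isOpen_pdSet_mvPolynomial 𝔐.M e).inter (FibreDepth.isOpen_codimGE _ e)
  let U : X.Opens := (c.j ''ᵁ PrimeSpectrum.basicOpen g₀) ⊓ ⟨{z : X | (f.stalkMap z).hom.Flat} ∩
    𝔐.emb '' (𝔐.pt ⁻¹' W₀), hfl.inter (𝔐.isOpenEmbedding.isOpenMap _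
      (hW₀.preimage (PrimeSpectrum.continuous_comap _)))⟩
  refine ⟨𝔐.m - e, U, ⟨⟨c.q, hg₀, c.hq⟩, hflat, q₀, ⟨⟨𝔐.flat q₀ hflat, hpd⟩, hcd⟩, rfl⟩, fun Z hZ => ?_,
    fun x' Z hZ => ?_⟩
  · obtain ⟨ξ, rfl, hξmin⟩ := DimFormulaLib.exists_generic_of_mem_irreducibleComponents (F := U.toScheme) hZ
    haveI : Flat (U.ι ≫ f) := Flat.of_stalkMap _ fun z => by
      rw [Scheme.Hom.stalkMap_comp]
      exact RingHom.Flat.comp (show (f.stalkMap (U.ι z)).hom.Flat from z.2.2.1) (Flat.stalkMap U.ι z)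
    refine ⟨closure {(U.ι ≫ f) ξ}, DimFormulaLib.closure_mem_irreducibleComponents fun w hw => ?_, ?_, ?_⟩
    · obtain ⟨ξ', hξ', rfl⟩ := Flat.generalizingMap (U.ι ≫ f) hw
      rw [hξmin ξ' hξ']
    · refine specializes_iff_mem_closure.1 ?_
      obtain ⟨(P₁ : PrimeSpectrum c.B), hP₁, hP₁e⟩ := ξ.2.1
      have hmin : P₁.asIdeal ∈ minimalPrimes c.B := PrimeSpectrum.isMin_iff.1 fun P' hP' => by
        have h1 : c.j P' ⤳ U.ι ξ := by
          rw [Scheme.Opens.ι_apply, ← hP₁e]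
          exact ((PrimeSpectrum.le_iff_specializes _ _).1 hP').map c.j.continuous
        have h3 := hξmin ⟨c.j P', h1.mem_open U.isOpen ξ.2⟩ ((subtype_specializes_iff _ _).2 h1)
        exact (show P' = P₁ from c.j.isOpenEmbedding.injective ((congrArg Subtype.val h3).trans hP₁e.symm)).ge
      have hle : P₁ ≤ c.q := hg₀min _ hmin hP₁
      rw [Scheme.Hom.comp_apply, Scheme.Opens.ι_apply, ← hP₁e]
      exact (c.specializes hle).map f.continuous
    · rw [closure_image_closure (U.ι ≫ f).continuous, Set.image_singleton]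
  · obtain ⟨z, rfl, hzmin⟩ := DimFormulaLib.exists_generic_of_mem_irreducibleComponents hZ
    set w := ((U.ι ≫ f).fiberHomeo _ z).1 with hw
    obtain ⟨-, q, ⟨⟨-, hpd'⟩, hcd'⟩, hq⟩ := w.2.2
    have hne : ringKrullDim ((f.fiber (f.base (𝔐.emb q))).presheaf.stalk (f.asFiber (𝔐.emb q))) ≠ ⊥ :=
      ne_bot_of_gt (lt_of_lt_of_le (WithBot.bot_lt_coe 0) ringKrullDim_nonneg_of_nontrivial)
    obtain ⟨q', hsp, hb, h0⟩ := 𝔐.exists_min_le q hne
    have hU' : 𝔐.emb q' ∈ U := hsp.mem_open U.isOpen (hq.symm ▸ w.2)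
    have hq' : 𝔐.emb q' = 𝔐.emb q := by
      have hfw : f (U.ι w) = (U.ι ≫ f) x' := ((U.ι ≫ f).fiberHomeo _ z).2
      have h4 : (U.ι ≫ f) ⟨𝔐.emb q', hU'⟩ = (U.ι ≫ f) x' := by
        refine (?_ : f (𝔐.emb q') = _)
        rw [← hfw, Scheme.Opens.ι_apply, ← hq]
        exact hb
      have h6 := hzmin (((U.ι ≫ f).fiberHomeo _).symm ⟨⟨𝔐.emb q', hU'⟩, h4⟩) (by
        refine ((U.ι ≫ f).fiberHomeo _).isInducing.specializes_iff.1 ?_
        rw [Homeomorph.apply_symm_apply]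
        exact (subtype_specializes_iff _ _).2 ((subtype_specializes_iff _ _).2 (hq ▸ hsp)))
      have h7 := congrArg (fun v => U.ι ((U.ι ≫ f).fiberHomeo _ v).1) h6
      simp only [Homeomorph.apply_symm_apply] at h7
      exact h7.trans hq.symm
    rw [hq'] at h0
    obtain ⟨d, t, hd, ht, hm⟩ := 𝔐.exists_dims q
    haveI := FibreDepth.isRegularLocalRing_fibRing (A := 𝔐.A) (𝔐.pt q)
    obtain ⟨-, hle⟩ := (FibreDepth.tensDepth_eq_zero_iff (P := P) 𝔐.M d hd).1
      ((𝔐.depth_eq q).symm.trans (𝔐.dep_zero_of_supp_zero q h0))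
    have h1 : d ≤ e := not_lt.1 fun hlt => hle e hlt hpd'
    have h3 : e ≤ d :=
      (FibreDepth.codimAt_ann_of_supp_zero (P := P) 𝔐.M d hd ((𝔐.supp_eq q).symm.trans h0) e).1 hcd'
    obtain ⟨t', ht'⟩ : ∃ t' : ℕ, DimFormulaLib.resTrdegAt f (𝔐.emb q) = t' := by
      obtain ⟨c'⟩ := DimFormulaLib.exists_chart f (𝔐.emb q)
      obtain ⟨n, hn⟩ := DimFormulaLib.exists_nat_trdeg_quotient_pair (A := c'.A) c'.q
      exact ⟨n, c'.resTrdegAt_self.trans hn⟩
    have htt : t = t' := by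
      have h := DimFormulaLib.height_in_fibre f _ (f.asFiber (𝔐.emb q)) t' (by
        rw [show (f.fiberHomeo _ (f.asFiber (𝔐.emb q))).1 = 𝔐.emb q from f.fiberι_asFiber _]
        exact ht')
      rw [FibreDepth.clDim, DimFormulaLib.topologicalKrullDim_closure_singleton, h] at ht
      exact_mod_cast ht.symm
    rw [DimFormulaLib.topologicalKrullDim_closure_singleton,
      DimFormulaLib.height_in_fibre (U.ι ≫ f) _ z (𝔐.m - e) ((DimFormulaLib.resTrdegAt_ι f w).trans (by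
        rw [Scheme.Opens.ι_apply, ← hq, ht', show 𝔐.m - e = t' by omega]))]
    rfl

end Groth.Agent.S2595
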