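import Groth.Statements.S2596
import Groth.Agent.DVRCrit.Local

set_option autoImplicit false
open CategoryTheory AlgebraicGeometry
universe u
open EGA43

namespace Groth.Agent.S2596

open CategoryTheory.Limits in
/-- Let Y be locally Noetherian, f : X ⟶ Y separated and of finite type, and y a point of Y. Suppose
that for every discrete valuation ring A with fraction field K and every morphism g : Spec A ⟶ Y
sending the closed point to y, every K-point σ of X ×_Y Spec A lying over the generic point Spec K ⟶
Spec A extends to a section of X ×_Y Spec A ⟶ Spec A. Then f is proper over some open neighbourhood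
of y. -/
theorem result {X Y : Scheme.{u}} [IsLocallyNoetherian Y]
    (f : X ⟶ Y) [IsSeparated f] [LocallyOfFiniteType f] [QuasiCompact f] (y : Y)
    (h : ∀ (A : Type u) [CommRing A] [IsDomain A] [IsDiscreteValuationRing A]
      (g : Spec (CommRingCat.of A) ⟶ Y), g.base (IsLocalRing.closedPoint A) = y →
      ∀ σ : Spec (CommRingCat.of (FractionRing A)) ⟶ pullback f g,
        σ ≫ pullback.snd f g = Spec.map (CommRingCat.ofHom (algebraMap A (FractionRing A))) →
        ∃ s : Spec (CommRingCat.of A) ⟶ pullback f g, s ≫ pullback.snd f g = 𝟙 _ ∧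
          Spec.map (CommRingCat.ofHom (algebraMap A (FractionRing A))) ≫ s = σ) :
    ∃ U : Y.Opens, y ∈ U ∧ IsProper (f ∣_ U) := by
  refine DVRCrit.exists_isProper_restrict_of_liftAt f y ?_
  intro A _ _ _ σ g hg w
  obtain ⟨s, hs, hs'⟩ := h A g hg
    (Limits.pullback.lift σ (Spec.map (CommRingCat.ofHom (algebraMap A (FractionRing A)))) w)
    (Limits.pullback.lift_snd _ _ _)
  refine ⟨s ≫ Limits.pullback.fst f g, ?_, ?_⟩
  · rw [Category.assoc, Limits.pullback.condition, ← Category.assoc, hs, Category.id_comp]
  · rw [← Category.assoc, hs', Limits.pullback.lift_fst]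

end Groth.Agent.S2596
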