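import Groth.Statements.S5167
import Mathlib
import Groth.Agent.GorLib.DepthVanish
import Groth.Agent.GorLib.FiniteLength
import Groth.Agent.GorLib.Ring


set_option autoImplicit false
universe u
open LocCoh

namespace Groth.Agent.S5167

/-- Let A be a Noetherian local ring which is a quotient of a regular local ring, m its maximal ideal, M
a finite A-module and n ≥ 0. Then H^i_m(M) is of finite length for all i ≤ n if and only if
depth(M_p) > n − dim(A/p) for every prime p ≠ m. -/
theorem result (R : Type u) [CommRing R] [IsRegularLocalRing R] (A : Type u) [CommRing A] [IsLocalRing A] [IsNoetherianRing A] (π : R →+* A) (hπ : Function.Surjective π) (M : Type u) [AddCommGroup M] [Module A M] [Module.Finite A M] (n : ℕ) : (∀ i : ℕ, i ≤ n → IsFiniteLength A (LocCoh.H (IsLocalRing.maximalIdeal A) i M)) ↔ ∀ p : PrimeSpectrum A, p.asIdeal ≠ IsLocalRing.maximalIdeal A → ∀ e : ℕ, ringKrullDim (A ⧸ p.asIdeal) = e → (n : ℕ∞) < LocCoh.depth (Localization.AtPrime p.asIdeal) (LocalizedModule p.asIdeal.primeCompl M) + e := by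
  constructor
  · intro h p hp e he
    rw [GorLib.natCast_lt_depth_add_iff]
    intro j hj
    exact (GorLib.isFiniteLength_H_iff_quotient π hπ (GorLib.gorensteinLocal_of_regular R) M (j + e)).mp
      (h (j + e) hj) p.asIdeal hp j (by rw [he]; rfl)
  · intro h i hi
    refine (GorLib.isFiniteLength_H_iff_quotient π hπ (GorLib.gorensteinLocal_of_regular R) M i).mpr
      fun p hp hpm j hj => ?_
    obtain ⟨e, he⟩ := GorLib.exists_dim_quotient p
    have hje : j + e = i := by rw [he] at hj; exact_mod_cast hj
    exact (GorLib.natCast_lt_depth_add_iff _ n e).mp (h ⟨p, hp⟩ hpm e he) j (by omega)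

end Groth.Agent.S5167
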