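import Groth.Statements.S3831
import Groth.Agent.NormalTensor.Henselian
-- import your own Groth.Agent.* helpers here

set_option autoImplicit false
universe u
open Hensel18

namespace Groth.Agent.S3831
open TensorProduct

/-- Let A be a henselian Noetherian local ring whose formal fibres are geometrically normal. Then the
formal fibres of A are geometrically integral: for every prime p of A and every field extension K of
the residue field k(p), the ring K ⊗_{k(p)} (k(p) ⊗_A Â) is an integral domain. -/
theorem result (A : Type u) [CommRing A] [HenselianLocalRing A]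
    [IsNoetherianRing A] (hA : EGA4.HasGeomNormalFormalFibres A) (p : Ideal A) [p.IsPrime]
    (K : Type u) [Field K] [Algebra p.ResidueField K] :
    IsDomain (TensorProduct p.ResidueField K (EGA4.formalFibre A p)) := by
  let κ := p.ResidueField
  let F := EGA4.formalFibre A p
  haveI := Groth.Agent.RegLocal.faithfullyFlat_completion A _ (IsLocalRing.maximalIdeal.isMaximal A).ne_top
  haveI : Nontrivial (κ ⊗[A] EGA4.Cpl A) := inferInstance
  refine Groth.Agent.GeomIrred.isDomain_tensor_of_algebraicClosure ?_ K
  have h1 : IsDomain (F ⊗[κ] AlgebraicClosure κ) := by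
    refine Groth.Agent.GeomIrred.isDomain_tensor_algebraic fun L hL => ?_
    haveI : FiniteDimensional κ L := hL
    haveI hd := Groth.Agent.NormalTensor.isDomain_completion_tensor_finite hA p L
    let e : F ⊗[κ] L ≃+* EGA4.Cpl A ⊗[A] L :=
      (Algebra.TensorProduct.comm κ F L).toRingEquiv.trans
        ((Algebra.TensorProduct.cancelBaseChange A κ L L (EGA4.Cpl A)).toRingEquiv.trans
          (Algebra.TensorProduct.comm A L (EGA4.Cpl A)).toRingEquiv)
    exact e.injective.isDomain
  exact (Algebra.TensorProduct.comm κ (AlgebraicClosure κ) F).toRingEquiv.injective.isDomain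

end Groth.Agent.S3831
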