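import Groth.Statements.S2910
import Groth.Agent.QuotLib.Geom

set_option autoImplicit false
open CategoryTheory CategoryTheory.Limits AlgebraicGeometry
universe u
open SGA1

namespace Groth.Agent.S2910

/-- Let a finite group G act faithfully on a connected scheme X, let p : X ⟶ Y be a quotient of X by G
with Y locally Noetherian and p finite, and suppose p is etale. Then G acts freely on the geometric
points of X (all inertia groups are trivial), and every automorphism of X over Y is the action of
exactly one element of G. -/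
theorem result {X Y : Scheme.{u}} {G : Type u} [Group G] [Finite G] (ρ : G →* Aut X)
    (p : X ⟶ Y) (hp : SGA1.IsQuot ρ p) [IsLocallyNoetherian Y] [IsFinite p] [ConnectedSpace X]
    (hfaith : Function.Injective ρ) [Etale p] :
    (∀ (K : Type u) [Field K] [IsAlgClosed K] (ξ : Spec (CommRingCat.of K) ⟶ X) (g : G), ξ ≫ (ρ g).hom = ξ → g = 1) ∧
    ∀ u : Aut X, u.hom ≫ p = p → ∃! g : G, ρ g = u := by
  haveI : Nonempty X := ConnectedSpace.toNonempty
  have hover : ∀ g : G, (ρ g).hom ≫ p = 𝟙 X ≫ p := fun g => by rw [hp.inv g, Category.id_comp]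
  refine ⟨fun K _ _ ξ g hg => hfaith ?_, fun u hu => ?_⟩
  · rw [map_one]
    refine Iso.ext ?_
    exact Groth.Agent.QuotLib.eq_of_eq_at_point p _ (𝟙 X) (hover g) ξ (by rw [hg, Category.comp_id])
  · obtain ⟨x⟩ := ‹Nonempty X›
    obtain ⟨g, hg⟩ := Groth.Agent.QuotLib.exists_comp_eq_point hp (X.fromSpecResidueField x)
      (X.fromSpecResidueField x ≫ u.hom) (by rw [Category.assoc, hu])
    have e : ρ g = u := Iso.ext (Groth.Agent.QuotLib.eq_of_eq_at_point p _ u.hom (by rw [hp.inv g, hu])
      (X.fromSpecResidueField x) hg)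
    exact ⟨g, e, fun g' hg' => hfaith (hg'.trans e.symm)⟩

end Groth.Agent.S2910
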