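import Groth.Statements.S2911
import Groth.Agent.QuotLib.EtaleQuot
import Groth.Agent.QuotLib.Props
import Groth.Agent.EtDescent.Scheme

set_option autoImplicit false
open CategoryTheory CategoryTheory.Limits AlgebraicGeometry
universe u
open SGA1

namespace Groth.Agent.S2911

/-- With the existence of the quotient taken as a hypothesis: Let Y be locally Noetherian, f : X ⟶ Y
etale, separated and quasi-compact, G a finite group acting on X by Y-automorphisms, p : X ⟶ X' a
quotient of X by G and q : X' ⟶ Y the induced morphism. Then p and q are etale, and if f is finite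
then q is finite. -/
theorem result {X X' Y : Scheme.{u}} {G : Type u} [Group G] [Finite G] (ρ : G →* Aut X)
    [IsLocallyNoetherian Y] (f : X ⟶ Y) [Etale f] [IsSeparated f] [QuasiCompact f] (hρ : ∀ g : G, (ρ g).hom ≫ f = f)
    (p : X ⟶ X') (hp : SGA1.IsQuot ρ p) (q : X' ⟶ Y) (hq : p ≫ q = f) :
    Etale p ∧ Etale q ∧ (IsFinite f → IsFinite q) := by
  subst hq
  haveI := hp.affine
  have hpe : Etale p := Groth.Agent.QuotLib.etale_of_etale hp (p ≫ q) hρ
  haveI : Surjective p := ⟨Groth.Agent.QuotLib.surjective hp⟩
  have hqe : Etale q := Groth.Agent.EtDescent.etale_of_precomp p q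
  refine ⟨hpe, hqe, fun hf => ?_⟩
  haveI : IsAffineHom q := (Groth.Agent.QuotLib.isAffineHom_iff hp q).1 inferInstance
  haveI : LocallyOfFiniteType q := inferInstance
  rw [IsFinite.iff_isProper_and_isAffineHom]
  haveI : IsSeparated q := inferInstance
  haveI : UniversallyClosed q := UniversallyClosed.of_comp_surjective p q
  exact ⟨{}, inferInstance⟩

end Groth.Agent.S2911
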