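import Groth.Statements.S2912
import Groth.Agent.SchDesc.Finite
import Groth.Agent.SchDesc.Local
import Groth.Agent.SchDesc.QAff

set_option autoImplicit false
set_option linter.style.haveILetI false
open CategoryTheory CategoryTheory.Limits AlgebraicGeometry Opposite
universe u
open SGA1

namespace Groth.Agent.S2912

/-- Let g : S' ⟶ S be flat, surjective, quasi-compact and universally injective. Then every descent
datum relative to g (on an arbitrary S'-scheme) is isomorphic to the canonical descent datum of some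
S-scheme. (Descent data relative to g are taken in functor-of-points form.) -/
theorem result {S' S : Scheme.{u}} (g : S' ⟶ S) [Flat g] [Surjective g] [QuasiCompact g]
    [UniversallyInjective g] (D : Desc.SchDD g) : ∃ U : Over S, Nonempty ((Desc.toDD g).obj U ≅ D) := by
  haveI : Groth.Agent.SchDesc.IsFpqc g := Groth.Agent.SchDesc.IsFpqc.of_quasiCompact g
  obtain ⟨Q⟩ : Nonempty (Groth.Agent.SchDesc.Quot D ⊤) := by
    refine Groth.Agent.SchDesc.quot_top fun v => ?_
    obtain ⟨S₀, hS₀, hv, -⟩ := exists_isAffineOpen_mem_and_subset (U := (⊤ : S.Opens))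
      (show g (D.obj.hom v) ∈ (⊤ : S.Opens) from trivial)
    refine ⟨D.obj.hom ⁻¹ᵁ g ⁻¹ᵁ S₀, hv, ?_⟩
    haveI : IsAffine (S₀ : Scheme.{u}) := hS₀
    have hsq := (isPullback_morphismRestrict g S₀).flip
    let p₀ := g ∣_ S₀
    haveI : Groth.Agent.SchDesc.IsFpqc p₀ := Groth.Agent.SchDesc.IsFpqc.of_isPullback hsq
    haveI : UniversallyInjective p₀ := MorphismProperty.of_isPullback hsq ‹UniversallyInjective g›
    let D₀ := Groth.Agent.SchDesc.pull D (g ⁻¹ᵁ S₀).ι (morphismRestrict_ι g S₀).symm
    haveI : IsSeparated p₀ := by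
      haveI := (UniversallyInjective.iff_diagonal (f := p₀)).mp ‹_›
      exact ⟨IsClosedImmersion.of_isPreimmersion _ (by rw [Set.range_eq_univ.mpr (pullback.diagonal p₀).surjective]; exact isClosed_univ)⟩
    haveI : (g ⁻¹ᵁ S₀ : Scheme.{u}).IsSeparated := ⟨by
      rw [show terminal.from (g ⁻¹ᵁ S₀ : Scheme.{u}) = p₀ ≫ terminal.from _ from (terminal.hom_ext _ _)]
      infer_instance⟩
    obtain ⟨Q₀⟩ : Nonempty (Groth.Agent.SchDesc.Quot D₀ ⊤) := Groth.Agent.SchDesc.quot_top fun v => by
      obtain ⟨W, hW, hvW, -⟩ := exists_isAffineOpen_mem_and_subset (U := (⊤ : D₀.obj.left.Opens))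
        (show v ∈ (⊤ : D₀.obj.left.Opens) from trivial)
      let f := pullback.fst (D₀.obj.hom ≫ p₀) p₀
      haveI : UniversallyInjective f := MorphismProperty.pullback_fst (P := @UniversallyInjective) _ _ ‹_›
      have hst : Groth.Agent.SchDesc.Stable D₀ W := fun t ht => by
        let d := pullback.lift (f := D₀.obj.hom ≫ p₀) (g := p₀) (𝟙 D₀.obj.left) D₀.obj.hom (Category.id_comp _)
        have e : d (f t) = t := f.injective (by rw [← Scheme.Hom.comp_apply, pullback.lift_fst]; rfl)
        have h1 : d ≫ Groth.Agent.SchDesc.act D₀ = 𝟙 _ :=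
          Groth.Agent.SchDesc.move_self D₀ (𝟙 _) D₀.obj.hom (Category.id_comp _) (Category.id_comp _)
        rw [← e, ← Scheme.Hom.comp_apply, h1]
        exact ht
      refine ⟨W, hvW, Groth.Agent.SchDesc.quot_of_restrict D₀ W hst ?_⟩
      haveI : IsAffine (W : Scheme.{u}) := hW
      haveI : IsAffineHom (Groth.Agent.SchDesc.restrictDD D₀ W hst).obj.hom :=
        IsAffineHom.of_comp (W.ι ≫ D₀.obj.hom) (terminal.from _)
      refine Groth.Agent.SchDesc.quot_top_of_affine @IsAffineHom
        (fun f g hf => MorphismProperty.pullback_snd (P := @IsAffineHom) f g hf) _ ‹_›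
        fun Q U l q i hQ hU hl hl' _ _ _ _ D' hD' => ?_
      haveI : IsAffine D'.obj.left := isAffine_of_isAffineHom D'.obj.hom
      exact Groth.Agent.SchDesc.quot_of_quasiAffine D'
    exact Groth.Agent.SchDesc.quot_of_pull_open D S₀ Q₀
  exact Q.effective

end Groth.Agent.S2912
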