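import Groth.Statements.S2913
-- import your own Groth.Agent.* helpers here

set_option autoImplicit false
open CategoryTheory CategoryTheory.Limits AlgebraicGeometry Opposite
universe u
open SGA1

namespace Groth.Agent.S2913

/-- Let g : S' ⟶ S be a surjective morphism of schemes such that for every open U of S the map O_S(U) →
O_{S'}(g⁻¹U) is injective. Then g is an epimorphism in the category of schemes. -/
theorem result {S' S : Scheme.{u}} (g : S' ⟶ S) [Surjective g]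
    (hinj : ∀ U : S.Opens, Function.Injective (g.app U).hom) : Epi g := by
  refine ⟨fun {Z} h₁ h₂ e => ?_⟩
  have hb : h₁.base = h₂.base := by
    refine ConcreteCategory.hom_ext _ _ fun y => ?_
    obtain ⟨x, rfl⟩ := g.surjective y
    rw [← Scheme.Hom.comp_apply, e, Scheme.Hom.comp_apply]
  refine Scheme.Hom.ext hb fun U => ?_
  refine CommRingCat.hom_ext (RingHom.ext fun a => hinj _ ?_)
  have h3 : ∀ (k : S' ⟶ Z) (hk : g ≫ h₂ = k) (hk' : g ⁻¹ᵁ (h₂ ⁻¹ᵁ U) ≤ k ⁻¹ᵁ U),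
      (g ≫ h₂).appLE U (g ⁻¹ᵁ (h₂ ⁻¹ᵁ U)) le_rfl = k.appLE U _ hk' := by rintro k rfl hk'; rfl
  have e2 := h3 (g ≫ h₁) e.symm (by rw [e]; rfl)
  rw [← Scheme.Hom.appLE_comp_appLE g h₂ U (h₂ ⁻¹ᵁ U) _ le_rfl le_rfl,
    ← Scheme.Hom.appLE_comp_appLE g h₁ U (h₂ ⁻¹ᵁ U) _ (by rw [show h₁ ⁻¹ᵁ U = h₂ ⁻¹ᵁ U from
      congrArg (fun f => (TopologicalSpace.Opens.map f).obj U) hb]) le_rfl,
    Scheme.Hom.appLE_eq_app, Scheme.Hom.appLE_eq_app] at e2
  exact (congrArg (fun φ : _ ⟶ _ => CommRingCat.Hom.hom φ a) e2).symm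

end Groth.Agent.S2913
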