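import Groth.Statements.S2914
import Groth.Agent.QuotLib.DescGen
import Groth.Agent.S2913

set_option autoImplicit false
open CategoryTheory CategoryTheory.Limits AlgebraicGeometry Opposite
universe u
open SGA1

namespace Groth.Agent.S2914

/-- Let g : S' ⟶ S be a morphism of schemes whose underlying map is a quotient map, and such that for
every open U of S the sequence O_S(U) → O_{S'}(g⁻¹U) ⇉ O_{S''}(h⁻¹U) is an equalizer, where S'' = S'
×_S S' with structure map h and the two arrows are restriction along the projections. Then g is an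
effective epimorphism in the category of schemes. -/
theorem result {S' S : Scheme.{u}} (g : S' ⟶ S) (hq : Topology.IsQuotientMap g.base)
    (hinj : ∀ U : S.Opens, Function.Injective (g.app U).hom)
    (heq : ∀ (U : S.Opens) (s' : Γ(S', g ⁻¹ᵁ U)), (SGA1.overlapFstApp g U).hom s' = (SGA1.overlapSndApp g U).hom s' →
      s' ∈ Set.range (g.app U).hom) :
    EffectiveEpi g := by
  let R : ∀ U : S.Opens, Γ(S', g ⁻¹ᵁ U) → Prop := fun U s' =>
    (SGA1.overlapFstApp g U).hom s' = (SGA1.overlapSndApp g U).hom s'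
  have hd : Groth.Agent.QuotLib.DescGen.Data g R := ⟨hq, hinj, fun U s h => heq U s h⟩
  haveI : Surjective g := ⟨hq.surjective⟩
  have hh : ∀ {W : Scheme.{u}} (e : S' ⟶ W),
      (∀ {T : Scheme.{u}} (g₁ g₂ : T ⟶ S'), g₁ ≫ g = g₂ ≫ g → g₁ ≫ e = g₂ ≫ e) →
      (∀ x x' : S', g.base x = g.base x' → e.base x = e.base x') ∧
        ∀ (W' : W.Opens) (U : S.Opens) (le : g ⁻¹ᵁ U ≤ e ⁻¹ᵁ W') (s : Γ(W, W')), R U ((e.appLE W' _ le).hom s) := by
    intro W e he
    have key := he (pullback.fst g g) (pullback.snd g g) pullback.condition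
    refine ⟨fun x x' hx => ?_, fun W' U le s => ?_⟩
    · obtain ⟨z, rfl, rfl⟩ := Scheme.Pullback.exists_preimage_pullback x x' hx
      exact congrArg (fun k : _ ⟶ W => k.base z) key
    · have h3 : ∀ (k : pullback g g ⟶ W) (_ : k = pullback.fst g g ≫ e)
          (h1 : pullback.fst g g ⁻¹ᵁ (g ⁻¹ᵁ U) ≤ k ⁻¹ᵁ W')
          (h2 : pullback.fst g g ⁻¹ᵁ (g ⁻¹ᵁ U) ≤ (pullback.fst g g ≫ e) ⁻¹ᵁ W'),
          k.appLE W' _ h1 = (pullback.fst g g ≫ e).appLE W' _ h2 := by rintro k rfl h1 h2; rfl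
      have hF : pullback.fst g g ⁻¹ᵁ (g ⁻¹ᵁ U) ≤ (pullback.fst g g ≫ e) ⁻¹ᵁ W' := fun z hz => le hz
      have h4 := h3 _ key.symm ((SGA1.fst_preimage_eq_snd_preimage g U).le.trans (fun z hz => le hz)) hF
      have e1 : e.appLE W' (g ⁻¹ᵁ U) le ≫ SGA1.overlapFstApp g U = e.appLE W' (g ⁻¹ᵁ U) le ≫ SGA1.overlapSndApp g U := by
        rw [SGA1.overlapFstApp, SGA1.overlapSndApp, ← Scheme.Hom.appLE_eq_app, Scheme.Hom.appLE_comp_appLE,
          Scheme.Hom.appLE_comp_appLE]
        exact h4.symm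
      exact congrArg (fun k : _ ⟶ _ => CommRingCat.Hom.hom k s) e1
  exact ⟨⟨{
    desc := fun e he => Groth.Agent.QuotLib.DescGen.desc hd e (hh e he)
    fac := fun e he => Groth.Agent.QuotLib.DescGen.comp_desc hd e (hh e he)
    uniq := fun e he m hm => by
      haveI : Epi g := Groth.Agent.S2913.result g hinj
      rw [← cancel_epi g, hm, Groth.Agent.QuotLib.DescGen.comp_desc hd e (hh e he)] }⟩⟩

end Groth.Agent.S2914
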