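import Groth.Statements.S2916
import Groth.Agent.SubmEtLib.Connected
-- import your own Groth.Agent.* helpers here

set_option autoImplicit false
open CategoryTheory CategoryTheory.Limits AlgebraicGeometry Opposite
universe u
open SGA1

open Groth.Agent CategoryTheory.Limits
namespace Groth.Agent.S2916

/-- Let g : S' ⟶ S be universally submersive with geometrically connected fibres (the base change of S'
to any algebraically closed field valued point of S is connected). Then S' is connected whenever S
is, and for schemes X, Y etale over S every S'-morphism between their base changes comes from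
exactly one S-morphism X ⟶ Y. -/
theorem result {S' S : Scheme.{u}} (g : S' ⟶ S)
    (hg : SGA1.UnivSubmersive g)
    (hconn : ∀ (K : Type u) [Field K] [IsAlgClosed K] (ξ : Spec (CommRingCat.of K) ⟶ S), ConnectedSpace ↑(pullback g ξ)) :
    (ConnectedSpace S → ConnectedSpace S') ∧
    ∀ (X Y : Over S) [Etale X.hom] [Etale Y.hom], Function.Bijective ((Over.pullback g).map : (X ⟶ Y) → _) := by
  refine ⟨fun hS => SubmEtLib.connectedSpace_of_univSubmersive g hg hconn, fun X Y _ _ => ⟨fun u u' h => ?_, fun f' => ?_⟩⟩
  · have h' : pullback.fst X.hom g ≫ u.left = pullback.fst X.hom g ≫ u'.left := by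
      have e := congrArg (fun k => k.left ≫ pullback.fst Y.hom g) h
      simp only [Over.pullback_map_left] at e
      exact (pullback.lift_fst _ _ _).symm.trans (e.trans (pullback.lift_fst _ _ _))
    obtain ⟨w, -, hw⟩ := SubmEtLib.exists_unique_desc g hg X.hom Y.hom (pullback.fst X.hom g ≫ u.left)
      (by rw [Category.assoc, Over.w u, pullback.condition])
      (fun {T} a b hab => by rw [← Category.assoc, ← Category.assoc, hab])
    exact Over.OverMorphism.ext ((hw u.left ⟨Over.w u, rfl⟩).trans (hw u'.left ⟨Over.w u', h'⟩).symm)
  · let v : pullback X.hom g ⟶ Y.left := f'.left ≫ pullback.fst Y.hom g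
    have hw : f'.left ≫ pullback.snd Y.hom g = pullback.snd X.hom g := Over.w f'
    have hv : v ≫ Y.hom = pullback.snd X.hom g ≫ g := by
      simp only [v, Category.assoc, pullback.condition, reassoc_of% hw]
    obtain ⟨u, ⟨hu, hu'⟩, -⟩ := SubmEtLib.exists_unique_desc g hg X.hom Y.hom v hv
      (fun {T} a b hab => SubmEtLib.comp_eq_of_connected g hconn X.hom Y.hom v hv a b hab)
    refine ⟨Over.homMk u hu, Over.OverMorphism.ext (pullback.hom_ext ?_ ?_)⟩
    · exact (pullback.lift_fst _ _ _).trans hu'.symm
    · exact (pullback.lift_snd _ _ _).trans hw.symm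

end Groth.Agent.S2916
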