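import Groth.Statements.S2924
import Groth.Agent.WeakUnram.KummerTame
import Groth.Agent.KummerRegLib.Basic

set_option autoImplicit false
universe u
open IsLocalRing
open SGA1

namespace Groth.Agent.S2924



/-- Let A be a regular local ring, f_1, …, f_r part of a regular system of parameters and n_i ≥ 1
invertible in the residue field. Then the Kummer algebra A[T_1, …, T_r]/(T_i^{n_i} − f_i) is tamely
ramified along each f_i (at every point of its generic fibre, with respect to the discrete valuation
rings A_{(f_i)}). -/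
theorem result (A : Type u) [CommRing A] [IsRegularLocalRing A] [IsDomain A] (r : ℕ) (f : Fin r → A)
    (hm : ∀ i, f i ∈ maximalIdeal A)
    (hf : LinearIndependent (ResidueField A) (fun i => (maximalIdeal A).toCotangent ⟨f i, hm i⟩))
    [∀ i, (Ideal.span {f i}).IsPrime] (n : Fin r → ℕ) (hn : ∀ i, 1 ≤ n i) (hu : ∀ i, IsUnit ((n i : ℕ) : ResidueField A)) :
    SGA1.IsTameAlong f (algebraMap A (SGA1.kummerAlg A f n)) := by
  classical
  intro i q hqp hq
  let P : Ideal A := Ideal.span {f i}
  let Ai := Localization.AtPrime P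
  have hne : ∀ j, f j ≠ 0 := fun j h0 => hf.ne_zero j (by
    have : (⟨f j, hm j⟩ : IsLocalRing.maximalIdeal A) = 0 := Subtype.ext h0
    show (IsLocalRing.maximalIdeal A).toCotangent ⟨f j, hm j⟩ = 0
    rw [this, map_zero])
  have hnot : ∀ j, j ≠ i → f j ∉ P := by
    intro j hj hmem
    obtain ⟨c, hc⟩ := Ideal.mem_span_singleton'.1 hmem
    have h1 : (IsLocalRing.maximalIdeal A).toCotangent ⟨f j, hm j⟩ =
        IsLocalRing.residue A c • (IsLocalRing.maximalIdeal A).toCotangent ⟨f i, hm i⟩ := by
      rw [show (⟨f j, hm j⟩ : IsLocalRing.maximalIdeal A) = c • ⟨f i, hm i⟩ from Subtype.ext hc.symm, map_smul]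
      rfl
    have h2 := linearIndependent_iff'.1 hf {i, j}
      (fun k => if k = j then (1 : IsLocalRing.ResidueField A) else -IsLocalRing.residue A c) (by
      rw [Finset.sum_pair (Ne.symm hj), if_neg (Ne.symm hj), if_pos rfl, one_smul, h1, neg_smul, neg_add_cancel]) j
      (by simp)
    rw [if_pos rfl] at h2
    exact one_ne_zero h2
  let K := FractionRing A
  have hunit : ∀ y : P.primeCompl, IsUnit (algebraMap A K y) := fun y =>
    isUnit_iff_ne_zero.2 ((map_ne_zero_iff _ (IsFractionRing.injective A K)).2 fun h => y.2 (h ▸ P.zero_mem))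
  letI : Algebra Ai K := (IsLocalization.lift (M := P.primeCompl) hunit).toAlgebra
  haveI : IsScalarTower A Ai K := IsScalarTower.of_algebraMap_eq fun a =>
    (IsLocalization.lift_eq (M := P.primeCompl) hunit a).symm
  haveI : IsFractionRing Ai K := IsFractionRing.isFractionRing_of_isDomain_of_isLocalization P.primeCompl Ai K
  have hπ : IsLocalRing.maximalIdeal Ai = Ideal.span {algebraMap A Ai (f i)} := by
    rw [← Localization.AtPrime.map_eq_maximalIdeal, Ideal.map_span, Set.image_singleton]
  have hπ0 : algebraMap A Ai (f i) ≠ 0 :=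
    (map_ne_zero_iff _ (IsLocalization.injective Ai P.primeCompl_le_nonZeroDivisors)).2 (hne i)
  haveI : IsNoetherianRing Ai := IsLocalization.isNoetherianRing P.primeCompl Ai inferInstance
  haveI : IsDiscreteValuationRing Ai :=
    ((IsDiscreteValuationRing.TFAE Ai (fun hF => hπ0 (by
      have hb : IsLocalRing.maximalIdeal Ai = ⊥ := (IsLocalRing.isField_iff_maximalIdeal_eq).1 hF
      rw [hπ, Ideal.span_singleton_eq_bot] at hb
      exact hb))).out 4 0 rfl rfl).1 ⟨⟨_, hπ⟩⟩
  let φ : A →+* SGA1.kummerAlg A f n := algebraMap A _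
  let F := q.ResidueField
  let ψ : SGA1.kummerAlg A f n →+* F := algebraMap _ F
  have hinjA : Function.Injective (ψ.comp φ) := by
    rw [RingHom.injective_iff_ker_eq_bot, ← RingHom.comap_ker, Ideal.ker_algebraMap_residueField]
    exact hq
  letI : Algebra K F := (IsFractionRing.lift hinjA).toAlgebra
  have hKF : ∀ a, algebraMap K F (algebraMap A K a) = ψ (φ a) := fun a => IsFractionRing.lift_algebraMap hinjA a
  have hgen : SGA1.genericResidueMap φ P q hq = (algebraMap K F).comp (algebraMap Ai K) :=
    IsLocalization.ringHom_ext P.primeCompl (RingHom.ext fun a => by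
      show SGA1.genericResidueMap φ P q hq (algebraMap A Ai a) = algebraMap K F (algebraMap Ai K (algebraMap A Ai a))
      rw [← IsScalarTower.algebraMap_apply A Ai K, hKF]
      exact IsLocalization.lift_eq _ a)
  show EtRam.IsTamelyRamified Ai (SGA1.genericResidueMap φ P q hq)
  rw [hgen]
  let x : Fin r → F := fun j => ψ (KummerRegLib.T f n j)
  have hx : ∀ j, x j ^ n j = algebraMap K F (algebraMap Ai K (algebraMap A Ai (f j))) := fun j => by
    rw [← IsScalarTower.algebraMap_apply A Ai K, hKF, ← map_pow ψ, KummerRegLib.T_pow]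
  refine WeakUnram.tame_adjoin_finset Ai (Finset.univ.image x) ?_ ?_
  · intro z hz
    obtain ⟨j, -, rfl⟩ := Finset.mem_image.1 hz
    refine WeakUnram.tame_adjoin_root (n j) ?_ (algebraMap A Ai (f j)) ?_ (x j) (hx j)
    · rw [← map_natCast (algebraMap A Ai)]
      exact ((isUnit_map_iff (IsLocalRing.residue A) _).1 (by rw [map_natCast]; exact hu j)).map _
    · rcases eq_or_ne j i with rfl | hj
      · exact Or.inr ((IsDiscreteValuationRing.irreducible_iff_uniformizer _).2 hπ)
      · exact Or.inl (IsLocalization.map_units Ai (⟨f j, hnot j hj⟩ : P.primeCompl))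
  · rw [eq_top_iff]
    rintro z -
    have hB : ∀ b, ψ b ∈ IntermediateField.adjoin K ((Finset.univ.image x : Finset F) : Set F) := by
      intro b
      have hb : b ∈ Algebra.adjoin A (Set.range (KummerRegLib.T f n)) := by
        rw [KummerRegLib.adjoin_T]; exact Algebra.mem_top
      induction hb using Algebra.adjoin_induction with
      | mem y hy =>
        obtain ⟨j, rfl⟩ := hy
        exact IntermediateField.subset_adjoin K _ (Finset.mem_coe.2 (Finset.mem_image_of_mem x (Finset.mem_univ j)))
      | algebraMap a => rw [← hKF a]; exact IntermediateField.algebraMap_mem _ _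
      | add y z _ _ hy hz => rw [map_add]; exact add_mem hy hz
      | mul y z _ _ hy hz => rw [map_mul]; exact mul_mem hy hz
    obtain ⟨b, c, -, rfl⟩ := IsFractionRing.div_surjective (SGA1.kummerAlg A f n ⧸ q) z
    obtain ⟨b, rfl⟩ := Ideal.Quotient.mk_surjective b
    obtain ⟨c, rfl⟩ := Ideal.Quotient.mk_surjective c
    exact div_mem (hB b) (hB c)


end Groth.Agent.S2924
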