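import Groth.Statements.S2926
import Groth.Agent.ProjSerreLib.Main

set_option autoImplicit false
universe u
open CategoryTheory AlgebraicGeometry
attribute [local instance] HasDerivedCategory.standard
open ProjDual

namespace Groth.Agent.S2926

/-- Serre duality on projective space, for a finite locally free module: let k be a field, X = P^r_k and
F a finite locally free O_X-module; assume the internal Hom functor Hom_{O_X}(F, −) exists as the
right adjoint of − ⊗ F (an instance binder). For every i ≤ r the k-dual of H^i(X, F) is k-linearly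
isomorphic to H^{r−i}(X, Hom_{O_X}(F, O_X(−r−1))). (The published statement is for coherent F, with
Ext^{r−i}(F, O_X(−r−1)) on the right; stated here in the locally free case.) -/
theorem result (k : Type u) [Field k] (r : ℕ) (F : (CohB1.ProjSpace r k).Modules) (hF : FlatMod.IsFinLocFree F) [DCoh.HasSheafHom F] (i : ℕ) (hi : i ≤ r) : Nonempty (Module.Dual k (Coh.HH (CohB1.ProjSpace r k) F i) ≃ₗ[k] Coh.HH (CohB1.ProjSpace r k) ((DCoh.sheafHom F).obj (Twist.twistProjSpace r k (-((r : ℤ) + 1)))) (r - i)) := by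
  haveI := Groth.Agent.CMRegLib.isNoetherian_projSpace (k := k) (n := r)
  haveI : ModSite.HasSheafHom (O := (CohB1.ProjSpace r k).sheaf) F :=
    Groth.Agent.ModTensor.hasSheafHom (O := (CohB1.ProjSpace r k).sheaf) F
  obtain ⟨θ⟩ := Groth.Agent.ProjSerreLib.nonempty_sheafHom_iso F (Twist.twistProjSpace r k (-((r : ℤ) + 1)))
  have hF' := Groth.Agent.ProjSerreLib.flf_hF hF (-((r : ℤ) + 1))
  have hG := Groth.Agent.DCohLib.isFinLocFree_iso θ hF'
  haveI := Groth.Agent.EulerIneqLib.finite_HH (k := k) (Groth.Agent.CurveLib.isCoh_of_isFinLocFree hF) i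
  haveI := Groth.Agent.EulerIneqLib.finite_HH (k := k) (Groth.Agent.CurveLib.isCoh_of_isFinLocFree hG) (r - i)
  refine ⟨LinearEquiv.ofFinrankEq _ _ ?_⟩
  rw [Subspace.dual_finrank_eq, ← Groth.Agent.CurveLib.hMap_bijective_finrank (k := k) θ (r - i)]
  rcases Nat.eq_zero_or_pos r with rfl | hr
  · obtain rfl : i = 0 := by omega
    haveI := Groth.Agent.HorrocksPnLib.subsingleton_PS_zero (k := k)
    let x := Classical.arbitrary (CohB1.ProjSpace 0 k)
    obtain ⟨q, hq⟩ := Groth.Agent.ASBunKS.exists_rank' hF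
    obtain ⟨q', hq'⟩ := Groth.Agent.ASBunKS.exists_rank' hF'
    obtain ⟨e⟩ := Groth.Agent.CurveLib.freeAt_of_isFinLocFreeOfRank hq x
    obtain ⟨e'⟩ := Groth.Agent.CurveLib.freeAt_of_isFinLocFreeOfRank hq' x
    obtain ⟨o⟩ := Groth.Agent.CurveLib.freeAt_of_isFinLocFreeOfRank (Groth.Agent.CurveLib.isFinLocFreeOfRank_one
      (Groth.Agent.CMRegLib.isInvertible_O (k := k) (n := 0) (-(((0 : ℕ) : ℤ) + 1)))) x
    have hqq : q' = q := by
      have h1 := (LinearEquiv.ofBijective _ (Groth.Agent.LocFreeHomLib.theta_bijective_flf F hF (Twist.twistProjSpace 0 k (-(((0 : ℕ) : ℤ) + 1))) x)).finrank_eq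
      rw [e'.finrank_eq, (LinearEquiv.arrowCongr e o).finrank_eq] at h1
      simpa [Module.finrank_linearMap] using h1
    subst hqq
    obtain ⟨α⟩ := Groth.Agent.HorrocksPnLib.nonempty_iso_free_of_subsingleton x hq
    obtain ⟨β⟩ := Groth.Agent.HorrocksPnLib.nonempty_iso_free_of_subsingleton x hq'
    exact Groth.Agent.CurveLib.hMap_bijective_finrank (k := k) (α ≪≫ β.symm) 0
  · exact Groth.Agent.ProjSerreLib.finrank_duality' hr hi hF

end Groth.Agent.S2926
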