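import Groth.Statements.S2929
import Groth.Agent.FinCritLib.Crit
import Groth.Agent.S5165
import Groth.Agent.GorLib.Ring

set_option autoImplicit false
universe u
open LocCoh

namespace Groth.Agent.S2929

/-- Let A be a Noetherian ring which is a quotient of a regular ring, I an ideal, M a finite A-module
and i ≥ 0. For a prime p write c(p) for the codimension of V(p) ∩ V(I) in V(p). Suppose that for
every prime p not containing I with c(p) finite, the local cohomology H^{i−c(p)} of M_p with support
in the maximal ideal of A_p vanishes (no condition when c(p) > i). Then the local cohomology module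
H^i_I(M) is a finite A-module. -/
theorem result (R : Type u) [CommRing R] [IsRegularRing R] (A : Type u) [CommRing A] [IsNoetherianRing A] (π : R →+* A) (hπ : Function.Surjective π) (I : Ideal A) (M : Type u) [AddCommGroup M] [Module A M] [Module.Finite A M] (i : ℕ) (h : ∀ p : PrimeSpectrum A, ¬ I ≤ p.asIdeal → ∀ (c j : ℕ), SGA2.relCodim I p = c → j + c = i → Subsingleton (LocCoh.H (IsLocalRing.maximalIdeal (Localization.AtPrime p.asIdeal)) j (LocalizedModule p.asIdeal.primeCompl M))) : Module.Finite A (LocCoh.H I i M) := by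
  rcases i with _ | j
  · haveI : IsNoetherian A M := inferInstance
    exact Module.Finite.of_injective (LocCohLib.h0 I (ModuleCat.of A M)) LocCohLib.h0_injective
  letI := π.toAlgebra
  letI : Module R M := Module.compHom M π
  haveI : IsScalarTower R A M := IsScalarTower.of_algebraMap_smul fun _ _ => rfl
  haveI := GorLib.finite_of_quotient π hπ M (fun _ _ => rfl)
  have hR := GorLib.gorensteinRing_of_regular R
  obtain ⟨D, hD⟩ := S5165.result R M
  obtain ⟨F⟩ := FinCritLib.nonempty_fRes D (ModuleCat.of R M) hD
  obtain ⟨P, hfin, hzero⟩ := FinCritLib.exists_projectiveResolution F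
  have hRfin := FinCritLib.finite_H_succ P D (I.comap π) hR hfin hzero j fun p q hpq hp hq hht => ?_
  · have hI : (I.comap π).map (algebraMap R A) = I := Ideal.map_comap_of_surjective π hπ I
    obtain ⟨φ, hφ⟩ := hI ▸ LocCohLib.exists_indep (R := R) (R' := A) (I.comap π) M (j + 1)
    obtain ⟨s, hs⟩ := hRfin.fg_top
    classical
    refine ⟨⟨s.image φ.symm, Submodule.eq_top_iff'.mpr fun y => ?_⟩⟩
    obtain ⟨x, rfl⟩ := φ.symm.surjective y
    have hx : x ∈ Submodule.span R (s : Set _) := hs.symm ▸ Submodule.mem_top
    induction hx using Submodule.span_induction with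
    | mem x hx => exact Submodule.subset_span (Finset.mem_image_of_mem _ hx)
    | zero => rw [map_zero]; exact zero_mem _
    | add a b _ _ ha hb => rw [map_add]; exact add_mem ha hb
    | smul r a _ ha =>
      rw [show φ.symm (r • a) = algebraMap R A r • φ.symm a from
        φ.injective (by rw [hφ, AddEquiv.apply_symm_apply, AddEquiv.apply_symm_apply])]
      exact Submodule.smul_mem _ _ ha
  · by_cases hker : RingHom.ker π ≤ p.asIdeal
    · have hlift : ∀ x : PrimeSpectrum R, RingHom.ker π ≤ x.asIdeal →
          ∃ y : PrimeSpectrum A, PrimeSpectrum.comap π y = x := fun x hx => by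
        haveI : (x.asIdeal.map π).IsPrime := Ideal.map_isPrime_of_surjective hπ hx
        refine ⟨⟨x.asIdeal.map π, inferInstance⟩, PrimeSpectrum.ext ?_⟩
        change (x.asIdeal.map π).comap π = x.asIdeal
        rw [Ideal.comap_map_of_surjective π hπ, ← RingHom.ker_eq_comap_bot, sup_eq_left.mpr hx]
      obtain ⟨p', rfl⟩ := hlift p hker
      obtain ⟨q', rfl⟩ := hlift q (hker.trans hpq)
      have hle : p' ≤ q' := (Ideal.comap_le_comap_iff_of_surjective π hπ _ _).mp hpq
      have hIp : ¬ I ≤ p'.asIdeal := fun hI => hp (Ideal.comap_mono hI)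
      have hIq : I ≤ q'.asIdeal := (Ideal.comap_le_comap_iff_of_surjective π hπ _ _).mp hq
      have hc : SGA2.relCodim I p' = ((1 : ℕ) : ℕ∞) := by
        rw [Nat.cast_one]
        refine le_antisymm ?_ (le_iInf fun q₁ => ?_)
        · refine (iInf_le _ (⟨q', hle, hIq⟩ : {x : PrimeSpectrum A // p' ≤ x ∧ I ≤ x.asIdeal})).trans (le_of_eq ?_)
          rw [← GorLib.height_Ici_comap π hπ M (fun _ _ => rfl) p' q' hle]
          have h1 := GorLib.height_Ici_add hR (PrimeSpectrum.comap π p') (PrimeSpectrum.comap π q') hpq
          rw [hht, add_comm _ (1 : ℕ∞)] at h1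
          exact WithTop.add_right_cancel (Ideal.height_ne_top (PrimeSpectrum.comap π p').2.ne_top) h1
        · refine le_trans le_add_self (Order.height_add_one_le
            (show (⟨p', Set.mem_Ici.mpr le_rfl⟩ : Set.Ici p') < ⟨q₁.1, q₁.2.1⟩ from ?_))
          exact lt_of_le_of_ne q₁.2.1 fun he => hIp (le_of_le_of_eq q₁.2.2 (congrArg
            (fun x : Set.Ici p' => x.1.asIdeal) he).symm)
      exact (GorLib.subsingleton_LocH_quotient π hπ M (fun _ _ => rfl) p'.asIdeal j).mp (h p' hIp 1 j hc rfl)
    · exact GorLib.subsingleton_LocH_of_not_le π hπ M (fun _ _ => rfl) p.asIdeal hker j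

end Groth.Agent.S2929
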