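import Groth.Statements.S2931
import Mathlib
import Groth.Agent.GorLib.RelCodim
import Groth.Agent.GorLib.SupportChain
import Groth.Agent.GorLib.LocalVanishing


set_option autoImplicit false
universe u
open LocCoh

namespace Groth.Agent.S2931

open CategoryTheory CategoryTheory.Limits AlgebraicGeometry

lemma height_Ici_trans {R A : Type u} [CommRing R] [IsRegularRing R] [CommRing A] [IsNoetherianRing A] (π : R →+* A)
    (hπ : Function.Surjective π) (M : Type u) [AddCommGroup M] [Module A M] [Module R M]
    (hc : ∀ (r : R) (m : M), r • m = π r • m) (q p Q : PrimeSpectrum A) (h1 : q ≤ p) (h2 : p ≤ Q) :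
    Order.height (⟨Q, h1.trans h2⟩ : Set.Ici q) =
      Order.height (⟨p, h1⟩ : Set.Ici q) + Order.height (⟨Q, h2⟩ : Set.Ici p) := by
  have hH : ∀ (a b : PrimeSpectrum A) (hab : a ≤ b),
      Order.height (⟨b, hab⟩ : Set.Ici a) + (a.asIdeal.comap π).height = (b.asIdeal.comap π).height := fun a b hab => by
    rw [← GorLib.height_Ici_comap π hπ M hc a b hab]
    exact GorLib.height_Ici_add (GorLib.gorensteinRing_of_regular R) _ _ _
  obtain ⟨a, ha⟩ := GorLib.exists_height_eq (q.asIdeal.comap π)
  obtain ⟨b, hb⟩ := GorLib.exists_height_eq (p.asIdeal.comap π)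
  obtain ⟨c, hcc⟩ := GorLib.exists_height_eq (Q.asIdeal.comap π)
  have e1 := hH q Q (h1.trans h2)
  have e2 := hH q p h1
  have e3 := hH p Q h2
  rw [ha, hcc] at e1
  rw [ha, hb] at e2
  rw [hb, hcc] at e3
  revert e1 e2 e3
  induction Order.height (⟨Q, h1.trans h2⟩ : Set.Ici q) using ENat.recTopCoe with
  | top => simp
  | coe x =>
    induction Order.height (⟨p, h1⟩ : Set.Ici q) using ENat.recTopCoe with
    | top => simp
    | coe y =>
      induction Order.height (⟨Q, h2⟩ : Set.Ici p) using ENat.recTopCoe with
      | top => simp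
      | coe z => intro e1 e2 e3; norm_cast at e1 e2 e3 ⊢; omega


/-- Affine form (coherence of R^p i_*(F) for p < n being finiteness of H^i_I for i ≤ n). Let A be a
Noetherian ring which is a quotient of a regular ring, I an ideal and M a finite A-module such that
M_p is zero or Cohen–Macaulay for every prime p not containing I. Then H^i_I(M) is a finite A-module
for every i ≤ n if and only if for every prime p not containing I which is minimal in the support of
M, the codimension of V(p) ∩ V(I) in V(p) is greater than n. -/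
theorem result (R : Type u) [CommRing R] [IsRegularRing R] (A : Type u) [CommRing A] [IsNoetherianRing A] (π : R →+* A) (hπ : Function.Surjective π) (I : Ideal A) (M : Type u) [AddCommGroup M] [Module A M] [Module.Finite A M] (hCM : ∀ p : PrimeSpectrum A, ¬ I ≤ p.asIdeal → Subsingleton (LocalizedModule p.asIdeal.primeCompl M) ∨ LocCoh.IsCohenMacaulayModule (Localization.AtPrime p.asIdeal) (LocalizedModule p.asIdeal.primeCompl M)) (n : ℕ) : (∀ i : ℕ, i ≤ n → Module.Finite A (LocCoh.H I i M)) ↔ ∀ p : PrimeSpectrum A, ¬ I ≤ p.asIdeal → p.asIdeal ∈ (Module.annihilator A M).minimalPrimes → (n : ℕ∞) < SGA2.relCodim I p := by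
  rw [GorLib.finite_H_iff_adjDepth π hπ I M n]
  letI : Module R M := Module.compHom M π
  constructor
  · intro h p hp hpmin
    have h1 := h p hp
    haveI : Nontrivial (LocalizedModule p.asIdeal.primeCompl M) := by
      rw [← Module.mem_support_iff, Module.mem_support_iff_of_finite]
      exact hpmin.1.2
    have h0 : Module.supportDim (Localization.AtPrime p.asIdeal) (LocalizedModule p.asIdeal.primeCompl M) ≤ 0 := by
      haveI : Subsingleton (Module.support (Localization.AtPrime p.asIdeal) (LocalizedModule p.asIdeal.primeCompl M)) := by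
        have key : ∀ x ∈ Module.support (Localization.AtPrime p.asIdeal) (LocalizedModule p.asIdeal.primeCompl M),
            x.asIdeal.comap (algebraMap A _) = p.asIdeal := fun x hx => by
          have h1 : x.asIdeal.comap (algebraMap A _) ≤ p.asIdeal := fun y hy => by
            by_contra hyq
            exact x.isPrime.ne_top (Ideal.eq_top_of_isUnit_mem _ hy
              (IsLocalization.map_units _ (⟨y, hyq⟩ : p.asIdeal.primeCompl)))
          exact le_antisymm h1 (hpmin.2 ⟨Ideal.comap_isPrime _ _, Module.mem_support_iff_of_finite.mp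
            ((QGorLib.mem_support_localized_iff p.asIdeal x).mp hx)⟩ h1)
        exact ⟨fun a b => Subtype.ext (PrimeSpectrum.localization_comap_injective _ p.asIdeal.primeCompl
          (PrimeSpectrum.ext ((key a a.2).trans (key b b.2).symm)))⟩
      exact Order.krullDim_nonpos_of_subsingleton
    have hd : LocCoh.depth (Localization.AtPrime p.asIdeal) (LocalizedModule p.asIdeal.primeCompl M) = 0 :=
      nonpos_iff_eq_zero.mp (WithBot.coe_le_coe.mp ((QGorLib.depth_le_supportDim _).trans h0))
    rw [LocCoh.adjDepth, hd, zero_add] at h1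
    rwa [GorLib.relCodim_eq_height]
  · intro h p hp
    rcases hCM p hp with hsub | hcm
    · rw [LocCoh.adjDepth, CAlgBasics.depth_eq_top, top_add]
      exact ENat.natCast_lt_top n
    · haveI hnt : Nontrivial (LocalizedModule p.asIdeal.primeCompl M) := by
        by_contra hsub
        rw [not_nontrivial_iff_subsingleton] at hsub
        have h2 : Module.supportDim (Localization.AtPrime p.asIdeal) (LocalizedModule p.asIdeal.primeCompl M) =
            ((LocCoh.depth (Localization.AtPrime p.asIdeal) (LocalizedModule p.asIdeal.primeCompl M) : ℕ∞) : WithBot ℕ∞) := hcm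
        rw [(Module.supportDim_eq_bot_iff_subsingleton (Localization.AtPrime p.asIdeal) _).mpr hsub] at h2
        exact WithBot.bot_ne_coe h2
      have hp' : Module.annihilator A M ≤ p.asIdeal := by
        rw [← Module.mem_support_iff_of_finite, Module.mem_support_iff]
        exact hnt
      obtain ⟨q0, hq0, hq0p⟩ := Ideal.exists_minimalPrimes_le hp'
      let q : PrimeSpectrum A := ⟨q0, hq0.1.1⟩
      have hqp : q ≤ p := hq0p
      have hqI : ¬ I ≤ q.asIdeal := fun hle => hp (hle.trans hq0p)
      have hn := h q hqI hq0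
      have hge := GorLib.height_Ici_le_supportDim_localized M q p hq0.1.2 hqp
      have hcm' : Module.supportDim (Localization.AtPrime p.asIdeal) (LocalizedModule p.asIdeal.primeCompl M) =
          ((LocCoh.depth (Localization.AtPrime p.asIdeal) (LocalizedModule p.asIdeal.primeCompl M) : ℕ∞) : WithBot ℕ∞) := hcm
      have hdep := WithBot.coe_le_coe.mp (hge.trans hcm'.le)
      rw [LocCoh.adjDepth, ← GorLib.relCodim_eq_height]
      refine lt_of_lt_of_le ?_ (add_le_add hdep le_rfl)
      rcases eq_or_ne (SGA2.relCodim I p) ⊤ with htop | htop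
      · rw [htop, add_top]; exact ENat.natCast_lt_top n
      haveI : Nonempty {Q : PrimeSpectrum A // p ≤ Q ∧ I ≤ Q.asIdeal} := by
        by_contra hne
        rw [not_nonempty_iff] at hne
        exact htop (by rw [SGA2.relCodim, iInf_of_empty])
      obtain ⟨⟨Q, hpQ, hIQ⟩, hQ⟩ := ENat.exists_eq_iInf
        fun Q : {Q : PrimeSpectrum A // p ≤ Q ∧ I ≤ Q.asIdeal} => Order.height (⟨Q.1, Q.2.1⟩ : Set.Ici p)
      rw [show SGA2.relCodim I p = _ from hQ.symm, ← height_Ici_trans π hπ M (fun _ _ => rfl) q p Q hqp hpQ]
      exact lt_of_lt_of_le hn (iInf_le (fun Q : {Q : PrimeSpectrum A // q ≤ Q ∧ I ≤ Q.asIdeal} =>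
        Order.height (⟨Q.1, Q.2.1⟩ : Set.Ici q)) ⟨Q, hqp.trans hpQ, hIQ⟩)

end Groth.Agent.S2931
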