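import Groth.Statements.S2932
import Groth.Agent.S3353
import Groth.Agent.S2823
import Groth.Agent.S2824
import Groth.Agent.CMGraded.Glue
-- import your own Groth.Agent.* helpers here

set_option autoImplicit false
universe u
open ParaF

namespace Groth.Agent.S2932

set_option backward.isDefEq.respectTransparency false
set_option linter.style.haveILetI false

open IsLocalRing RingTheory.Sequence

/-- Localisations of complete intersections are complete intersections. -/
theorem ci_localization {A : Type u} [CommRing A] [IsLocalRing A] (hA : SGA2.IsAbsCompleteIntersection A)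
    (p : Ideal A) [p.IsPrime] : SGA2.IsAbsCompleteIntersection (Localization.AtPrime p) := by
  obtain ⟨B, hBr, hBreg, rs, hm, hreg, ⟨e⟩⟩ := hA
  let π : B →+* A := e.symm.toRingHom.comp (Ideal.Quotient.mk _)
  have hπ : Function.Surjective π := e.symm.surjective.comp Ideal.Quotient.mk_surjective
  have hker : RingHom.ker π = Ideal.span {r | r ∈ rs} := by
    ext b
    simp [π, RingHom.mem_ker, Ideal.Quotient.eq_zero_iff_mem]
  let q := p.comap π
  have hq : ∀ r ∈ rs, r ∈ q := fun r hr => by
    show π r ∈ p
    rw [RingHom.mem_ker.1 (hker.ge (Ideal.subset_span hr) : r ∈ RingHom.ker π)]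
    exact p.zero_mem
  have hreg' := hreg.1.isRegular_of_isLocalization_of_mem (Localization.AtPrime q) q hq
  let g := Localization.localRingHom q p π rfl
  have hg : Function.Surjective g := fun z => by
    obtain ⟨⟨a, ⟨t, ht⟩⟩, rfl⟩ := IsLocalization.mk'_surjective p.primeCompl z
    obtain ⟨b, rfl⟩ := hπ a
    obtain ⟨s, rfl⟩ := hπ t
    exact ⟨IsLocalization.mk' _ b (⟨s, fun hs => ht hs⟩ : q.primeCompl), Localization.localRingHom_mk' _ _ _ _ _ _⟩
  refine ⟨Localization.AtPrime q, inferInstance, RegLocal.isRegularLocalRing_localization B q,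
    rs.map (algebraMap B (Localization.AtPrime q)), ?_, hreg',
    ⟨(RingHom.quotientKerEquivOfSurjective hg).symm.trans (Ideal.quotEquivOfEq ?_)⟩⟩
  · intro x hx
    obtain ⟨r, hr, rfl⟩ := List.mem_map.1 hx
    exact (IsLocalization.AtPrime.to_map_mem_maximal_iff (Localization.AtPrime q) q r).2 (hq r hr)
  · rw [CMGraded.ker_localRingHom hπ q p rfl, hker, Ideal.map_span]
    congr 1
    ext x
    simp

theorem ufd_aux : ∀ (n : ℕ) (A : Type u) [CommRing A] [IsLocalRing A] [IsNoetherianRing A],
    SGA2.IsAbsCompleteIntersection A →
    (∀ p : PrimeSpectrum A, ringKrullDim (Localization.AtPrime p.asIdeal) ≤ 3 →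
      IsDomain (Localization.AtPrime p.asIdeal) ∧ UniqueFactorizationMonoid (Localization.AtPrime p.asIdeal)) →
    ringKrullDim A < n → IsDomain A ∧ UniqueFactorizationMonoid A := by
  intro n
  induction n with
  | zero =>
    intro A _ _ _ _ _ hn
    exact absurd hn (not_lt.2 (by exact_mod_cast ringKrullDim_nonneg_of_nontrivial))
  | succ n ih =>
    intro A _ _ _ hA h hn
    have eA : Localization.AtPrime (maximalIdeal A) ≃+* A :=
      (IsLocalization.atUnits A (maximalIdeal A).primeCompl (S := Localization.AtPrime (maximalIdeal A))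
        fun a ha => by simpa [Ideal.primeCompl, IsUnit.mem_submonoid_iff] using ha).symm.toRingEquiv
    by_cases h3 : ringKrullDim A ≤ 3
    · obtain ⟨hd, hu⟩ := h ⟨maximalIdeal A, inferInstance⟩ ((ringKrullDim_eq_of_ringEquiv eA).trans_le h3)
      exact ⟨eA.toMulEquiv.symm.isDomain, eA.toMulEquiv.uniqueFactorizationMonoid hu⟩
    obtain ⟨d, hd⟩ := RegLocal.exists_nat_ringKrullDim A
    have hd4 : 4 ≤ d := by
      rw [hd] at h3
      exact Nat.lt_of_not_le fun hle => h3 (by exact_mod_cast hle)
    have h4 : (4 : WithBot ℕ∞) ≤ ringKrullDim A := by rw [hd]; exact_mod_cast hd4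
    have hpar := Groth.Agent.S3353.result A hA h4
    refine (Groth.Agent.S2823.result A (le_trans (by norm_num) h4)).2
      ⟨((Groth.Agent.S2824.result A).1 hpar).2, ?_, fun y hy => ?_⟩
    · obtain ⟨B, hBr, hBreg, rs, hm, hreg, ⟨e⟩⟩ := id hA
      haveI : IsLocalRing (B ⧸ Ideal.ofList rs) := e.isLocalRing
      have h4' := PicLiftLib.four_le_depth hm hreg (by rwa [← ringKrullDim_eq_of_ringEquiv e])
      have h5 := FlatDepth.depth_eq_of_ringEquiv e
      exact le_trans (by norm_num) (h4'.trans h5.le)
    · let p : Ideal A := y.asIdeal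
      let L := Localization.AtPrime p
      haveI := IsLocalization.isNoetherianRing p.primeCompl L inferInstance
      have hlt : ringKrullDim L < ringKrullDim A := by
        have hp : p < maximalIdeal A := lt_of_le_of_ne (le_maximalIdeal y.isPrime.ne_top) fun e => by
          apply hy
          exact PrimeSpectrum.ext e
        rw [IsLocalization.AtPrime.ringKrullDim_eq_height p L, ← maximalIdeal_height_eq_ringKrullDim]
        exact_mod_cast Ideal.height_strict_mono_of_isPrime hp
      obtain ⟨hdL, huL⟩ := ih L (ci_localization hA p) (fun P hP => by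
          let Q : Ideal A := P.asIdeal.comap (algebraMap A L)
          haveI : IsLocalization.AtPrime (Localization.AtPrime P.asIdeal) Q :=
            IsLocalization.isLocalization_isLocalization_atPrime_isLocalization p.primeCompl
              (Localization.AtPrime P.asIdeal) P.asIdeal
          let E := (IsLocalization.algEquiv Q.primeCompl (Localization.AtPrime Q) (Localization.AtPrime P.asIdeal)).toRingEquiv
          obtain ⟨h1, h2⟩ := h ⟨Q, inferInstance⟩ ((ringKrullDim_eq_of_ringEquiv E).trans_le hP)
          exact ⟨E.toMulEquiv.symm.isDomain, E.toMulEquiv.uniqueFactorizationMonoid h2⟩)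
        (by
          obtain ⟨e, he⟩ := RegLocal.exists_nat_ringKrullDim L
          rw [he, hd] at hlt
          rw [hd] at hn
          rw [he]
          norm_cast at hlt hn ⊢
          omega)
      let Ey := (IsLocalization.algEquiv p.primeCompl L ((AlgebraicGeometry.Spec.structureSheaf A).presheaf.stalk y)).toRingEquiv
      exact ⟨Ey.toMulEquiv.symm.isDomain, Ey.toMulEquiv.uniqueFactorizationMonoid huL⟩

/-- Let A be a Noetherian local ring which is a complete intersection (a quotient of a regular local
ring by a regular sequence) and which is factorial in codimension ≤ 3: for every prime p with dim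
A_p ≤ 3 the local ring A_p is a factorial domain. Then A is a factorial domain. -/
theorem result (A : Type u) [CommRing A] [IsLocalRing A] [IsNoetherianRing A] (hA : SGA2.IsAbsCompleteIntersection A) (h : ∀ p : PrimeSpectrum A, ringKrullDim (Localization.AtPrime p.asIdeal) ≤ 3 → IsDomain (Localization.AtPrime p.asIdeal) ∧ UniqueFactorizationMonoid (Localization.AtPrime p.asIdeal)) : IsDomain A ∧ UniqueFactorizationMonoid A := by
  obtain ⟨d, hd⟩ := RegLocal.exists_nat_ringKrullDim A
  exact ufd_aux (d + 1) A hA h (by rw [hd]; exact_mod_cast Nat.lt_succ_self d)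

end Groth.Agent.S2932
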