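import Groth.Statements.S2933
import Groth.Agent.EGA4Dim.Hartshorne

set_option autoImplicit false
universe u
open LocCoh

namespace Groth.Agent.S2933

/-- Let A be a Noetherian ring with connected spectrum and d ≥ 1 an integer such that every prime p with
dim A_p ≥ d has depth A_p ≥ 2. Then for any two minimal primes p', p'' of A there is a finite
sequence of minimal primes starting at p' and ending at p'' such that any two consecutive members
are both contained in some prime of height at most d − 1 (Spec A is connected in codimension d − 1). -/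
theorem result (A : Type u) [CommRing A] [IsNoetherianRing A] [ConnectedSpace (PrimeSpectrum A)] (d : ℕ) (hd : 1 ≤ d) (h : ∀ p : PrimeSpectrum A, (d : ℕ∞) ≤ p.asIdeal.height → (2 : ℕ∞) ≤ LocCoh.depth (Localization.AtPrime p.asIdeal) (Localization.AtPrime p.asIdeal)) (p' p'' : PrimeSpectrum A) (hp' : p'.asIdeal ∈ minimalPrimes A) (hp'' : p''.asIdeal ∈ minimalPrimes A) : ∃ l : List (PrimeSpectrum A), l.head? = some p' ∧ l.getLast? = some p'' ∧ (∀ p ∈ l, p.asIdeal ∈ minimalPrimes A) ∧ List.IsChain (fun p q => ∃ r : PrimeSpectrum A, p ≤ r ∧ q ≤ r ∧ r.asIdeal.height ≤ (d - 1 : ℕ)) l := by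
  obtain ⟨l, hl, hlast⟩ := List.exists_isChain_cons_of_relationReflTransGen
    (Groth.Agent.EGA4Dim.reflTransGen_minLink d (fun p hp hdp => h ⟨p, hp⟩ hdp) ⟨p'.asIdeal, hp'⟩ ⟨p''.asIdeal, hp''⟩)
  refine ⟨((⟨p'.asIdeal, hp'⟩ : minimalPrimes A) :: l).map fun P => ⟨P.1, P.2.1.1⟩, by simp, ?_, ?_, ?_⟩
  · rw [List.getLast?_map, List.getLast?_eq_some_getLast (List.cons_ne_nil _ _), hlast]
    rfl
  · intro p hp
    obtain ⟨P, -, rfl⟩ := List.mem_map.1 hp
    exact P.2
  · rw [List.isChain_map]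
    refine hl.imp fun P Q ⟨q, hq, h1, h2, h3⟩ => ⟨⟨q, hq⟩, h1, h2, ?_⟩
    have hd' : (((d - 1 : ℕ) : ℕ∞) + 1) = (d : ℕ∞) := by exact_mod_cast Nat.sub_add_cancel hd
    rw [← hd'] at h3
    exact (ENat.add_le_add_iff_right ENat.one_ne_top).1 h3

end Groth.Agent.S2933
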