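import Groth.Statements.S2938
import Mathlib
import Groth.Agent.Depth.Basic

set_option autoImplicit false
universe u
open scoped TensorProduct
open LocCoh

namespace Groth.Agent.S2938

open CategoryTheory CategoryTheory.Limits AlgebraicGeometry



/-- Suppose A and B are Noetherian rings with a ring map A → B, I is an ideal of A and M is a finitely
generated A-module. When B is A-flat, depth_{IB}(B ⊗_A M) ≥ depth_I(M); when B is faithfully flat
over A, the two depths are equal. -/
theorem result (A B : Type u) [CommRing A] [CommRing B] [Algebra A B] [IsNoetherianRing A] [IsNoetherianRing B] (I : Ideal A) (M : Type u) [AddCommGroup M] [Module A M] [Module.Finite A M] : (Module.Flat A B → LocCoh.idealDepth I M ≤ LocCoh.idealDepth (I.map (algebraMap A B)) (B ⊗[A] M)) ∧ (Module.FaithfullyFlat A B → LocCoh.idealDepth (I.map (algebraMap A B)) (B ⊗[A] M) = LocCoh.idealDepth I M) := by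
  have hbc := TensorProduct.isBaseChange A M B
  refine ⟨fun hflat => ?_, fun hff => Groth.Agent.Depth.idealDepth_baseChange B (TensorProduct A B M) hbc⟩
  by_cases hB : I.map (algebraMap A B) • (⊤ : Submodule B (TensorProduct A B M)) = ⊤
  · rw [LocCoh.idealDepth.eq_def (I.map _), if_pos hB]; exact le_top
  have hI : I • (⊤ : Submodule A M) ≠ ⊤ := by
    intro hI
    refine hB (top_le_iff.mp fun z _ => ?_)
    induction z using TensorProduct.induction_on with
    | zero => exact zero_mem _
    | tmul b m =>
      have hm : m ∈ I • (⊤ : Submodule A M) := by rw [hI]; exact Submodule.mem_top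
      refine Submodule.smul_induction_on hm (fun r hr n _ => ?_) (fun u v hu hv => ?_)
      · rw [TensorProduct.tmul_smul, ← algebraMap_smul B r]
        exact Submodule.smul_mem_smul (Ideal.mem_map_of_mem _ hr) trivial
      · rw [TensorProduct.tmul_add]; exact add_mem hu hv
    | add u v hu hv => exact add_mem (hu trivial) (hv trivial)
  obtain ⟨rs, hrs⟩ := Groth.Agent.Depth.exists_isMaxSeq (M := M) hI
  rw [Groth.Agent.Depth.idealDepth_eq_length hI hrs, LocCoh.idealDepth, if_neg hB]
  refine le_trans (by rw [List.length_map]) (le_iSup₂ (f := fun (s : List B) _ => (s.length : ℕ∞))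
    (rs.map (algebraMap A B)) ⟨hrs.1.of_flat_of_isBaseChange hbc, fun r hr => ?_⟩)
  obtain ⟨r, hr', rfl⟩ := List.mem_map.mp hr
  exact Ideal.mem_map_of_mem _ (hrs.2.1 r hr')

end Groth.Agent.S2938
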