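import Groth.Statements.S2942
import Groth.Agent.LefAmpleLib.IdealPow
import Groth.Agent.LefAmpleLib.Long
-- import your own Groth.Agent.* helpers here

set_option autoImplicit false
universe u
open CategoryTheory AlgebraicGeometry
open Lef

namespace Groth.Agent.S2942

/-- Over a field and for the structure sheaf. Let k be a field and X a proper k-scheme; let 𝓘 be a
quasi-coherent ideal sheaf whose ideal module is invertible with an ample inverse L (so 𝓘 defines an
effective Cartier divisor Y with O_X(Y) = L ample), and suppose that at every closed point x the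
local ring O_{X,x} has depth greater than n. Then there is m₀ such that for all m ≥ m₀ the map
H^i(X, O_X) → H^i(X, O_X/𝓘^{m+1}) induced by the quotient map is bijective for every i < n and
injective for i = n. -/
theorem result (k : Type u) [Field k] (X : Scheme.{u}) [X.Over (Spec (CommRingCat.of k))] [IsProper (X ↘ (Spec (CommRingCat.of k)))] (𝓘 : X.IdealSheafData) (L : X.Modules) (hL : ClSub.IsInverseOf L (ClSub.idealMod 𝓘)) (hamp : CohB1.IsAmple L) (n : ℕ) (hdepth : ∀ x : X, IsClosed ({x} : Set X) → (n : ℕ∞) < LocCoh.depth (X.presheaf.stalk x) (X.presheaf.stalk x)) : ∃ m₀ : ℕ, ∀ m : ℕ, m₀ ≤ m → (∀ i : ℕ, i < n → Function.Bijective (Sheaf.H.map ((SheafOfModules.toSheaf X.ringCatSheaf).map (ClSub.toSubscheme (𝓘 ^ (m + 1)))) i)) ∧ Function.Injective (Sheaf.H.map ((SheafOfModules.toSheaf X.ringCatSheaf).map (ClSub.toSubscheme (𝓘 ^ (m + 1)))) n) := by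
  haveI := EulerIneqLib.isNoetherian_proper (X := X) k
  obtain ⟨m₀, hm₀⟩ := LefAmpleLib.eventually_subsingleton_ideal_tensor k hL hamp
    (BCLib.isFinLocFree_structureModule X) (r := n + 1) fun x hx => by
      rw [Nat.cast_succ]
      exact Order.add_one_le_of_lt (hdepth x hx)
  refine ⟨m₀, fun m hm => ?_⟩
  haveI := HilbObsLib.epi_toSubscheme (𝓘 ^ (m + 1))
  have hS := QCohLib.toAb_shortExact (CMRegLib.shortExact_ker (ClSub.toSubscheme (𝓘 ^ (m + 1))))
  have h1 : ∀ i, i < n + 1 → Subsingleton (Coh.HH X (ClSub.idealMod (𝓘 ^ (m + 1))) i) := fun i hi =>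
    haveI := hm₀ (m + 1) (hm.trans m.le_succ) i hi
    ProjCoh.subsingleton_of_iso (AmpleLib.unitL (ClSub.idealMod (𝓘 ^ (m + 1)))) i
  exact ⟨fun i hi => ⟨LefAmpleLib.injective_H_map_g hS i (h1 i (hi.trans n.lt_succ_self)),
    LefAmpleLib.surjective_H_map_g hS i (h1 (i + 1) (Nat.succ_lt_succ hi))⟩,
    LefAmpleLib.injective_H_map_g hS n (h1 n n.lt_succ_self)⟩

end Groth.Agent.S2942
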