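import Groth.Statements.S2943
import Groth.Agent.DualCxLib.Shift
import Groth.Agent.LocCohLib.ExtComp
-- Template for statement S2943 (row 2942; see the milestone table for weights).
-- Copy to Groth/Agent/S2943.lean and replace the sorry. The statement below is byte-identical to the frozen
-- statement Dual.GrothFrozen.S2943 (Groth/Statements/S2943.lean; the theorem Dual.local_duality_regular);
-- the grader kernel-checks Groth.Agent.S2943.result against that frozen type. Keep the theorem IN THIS FILE
-- (a `result` declared elsewhere and merely imported here is not credited); helpers may live anywhere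
-- under Groth/Agent/.
-- helpers: DualCxLib

set_option autoImplicit false
universe u
open CategoryTheory Opposite
open Dual Groth.Agent.DualCxLib

namespace Groth.Agent.S2943

/-- Local duality for a regular local ring: let A be a regular local ring of dimension r with maximal
ideal m, κ → E an injective hull of the residue field (a dualizing module for A), and M a finite
A-module. For every i ≤ r the local cohomology module H^i_m(M) is isomorphic to Hom_A(Ext^{r−i}_A(M,
A), E). (The published statement gives the isomorphism as the map induced by the Yoneda pairing;
here only the existence of an A-linear isomorphism is asserted.) -/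
theorem result (A : Type u) [CommRing A] [IsRegularLocalRing A] (r : ℕ) (hr : ringKrullDim A = r) (E : Type u) [AddCommGroup E] [Module A E] (f : IsLocalRing.ResidueField A →ₗ[A] E) (hf : InjHull.IsInjectiveHull f) (M : Type u) [AddCommGroup M] [Module A M] [Module.Finite A M] (i : ℕ) (hi : i ≤ r) : Nonempty (LocCoh.H (IsLocalRing.maximalIdeal A) i M ≃ₗ[A] ((((Ext A (ModuleCat.{u} A) (r - i)).obj (op (ModuleCat.of A M))).obj (ModuleCat.of A A)) →ₗ[A] E)) := by
  have hω := isDualizing_self_shift (A := A) r
  have hn := isNormalized_self_shift (A := A) r hr
  let S := model hω
  obtain ⟨e⟩ := S.nonempty_E0_equiv hω hn hf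
  let φ := LinearEquiv.ofBijective _ (S.bijective_phi hω hn e hf i M (-(i : ℤ)) (neg_add_cancel _))
  exact ⟨φ.trans (((extEquiv r i hi M).trans
    (Groth.Agent.LocCohLib.extComp (ModuleCat.of A M) (ModuleCat.of A A) (r - i)).symm).congrLeft E A)⟩

end Groth.Agent.S2943
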