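import Groth.Statements.S2945
import Groth.Agent.LefAmpleLib.Punctured
import Groth.Agent.S14995
import Groth.Agent.S9831
-- import your own Groth.Agent.* helpers here

set_option autoImplicit false
universe u
open CategoryTheory CategoryTheory.Limits AlgebraicGeometry
open Lef

set_option linter.style.haveILetI false
set_option backward.isDefEq.respectTransparency false

namespace Groth.Agent.S2945

/-- Let A be a Noetherian local ring which is a quotient of a regular local ring, t an A-regular element
of the maximal ideal such that A is complete for the t-adic topology, X the punctured spectrum of A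
and Y = V(t) ∩ X. If A_p has depth ≥ 2 for every prime p with dim A/p = 1 (the closed points of X),
then Lef(X, Y) holds: for every open U ⊇ Y of X and every finite locally free O_U-module D, Hom(D,
O_U) → lim_n Hom(D, O_U/t^{n+1}O_U) is bijective. -/
theorem result (R : Type u) [CommRing R] [IsRegularLocalRing R] (A : Type u) [CommRing A] [IsLocalRing A] [IsNoetherianRing A] (π : R →+* A) (hπ : Function.Surjective π) (t : A) (ht : t ∈ IsLocalRing.maximalIdeal A) (hreg : IsSMulRegular A t) [IsAdicComplete (Ideal.span {t}) A] (hdepth : ∀ p : PrimeSpectrum A, ringKrullDim (A ⧸ p.asIdeal) = 1 → (2 : ℕ∞) ≤ LocCoh.depth (Localization.AtPrime p.asIdeal) (Localization.AtPrime p.asIdeal)) : Lef.LefCond (↑(FEt.puncturedSpec A) : Scheme.{u}) ((Spec.map (CommRingCat.ofHom (Ideal.Quotient.mk (Ideal.span {t})))).ker.comap (FEt.puncturedSpec A).ι) := by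
  haveI : IsRegularRing R :=
    { isRegularLocalRing_localization := fun q _ => RegLocal.isRegularLocalRing_localization R q }
  let X := FEt.puncturedSpec A
  haveI : TopologicalSpace.NoetherianSpace (Spec (CommRingCat.of A)) :=
    inferInstanceAs (TopologicalSpace.NoetherianSpace (PrimeSpectrum A))
  haveI : CompactSpace (X : Scheme.{u}) :=
    isCompact_iff_compactSpace.1 (TopologicalSpace.NoetherianSpace.isCompact (X : Set (Spec (CommRingCat.of A))))
  haveI : IsLocallyNoetherian (X : Scheme.{u}) := isLocallyNoetherian_of_isOpenImmersion X.ι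
  haveI : AlgebraicGeometry.IsNoetherian (X : Scheme.{u}) :=
    AlgebraicGeometry.IsNoetherian.mk
  have hne : ∀ x : (X : Scheme.{u}), (X.ι x).asIdeal ≠ IsLocalRing.maximalIdeal A := fun x e =>
    x.2 (show (X.ι x) = IsLocalRing.closedPoint A from PrimeSpectrum.ext e)
  have hmk : ∀ (q : PrimeSpectrum A), q.asIdeal ≠ IsLocalRing.maximalIdeal A → q ∈ X := fun q hq e =>
    hq (congrArg PrimeSpectrum.asIdeal (show q = IsLocalRing.closedPoint A from e))
  have hclosed : ∀ x : (X : Scheme.{u}), IsClosed ({x} : Set (X : Scheme.{u})) →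
      (2 : ℕ∞) ≤ LocCoh.depth ((X : Scheme.{u}).presheaf.stalk x)
        ((Coh.structureModule (X : Scheme.{u})).presheaf.stalk x) := fun x hx => by
    rw [LefAmpleLib.depth_stalk_open]
    refine hdepth _ ?_
    have hle : (X.ι x).asIdeal ≤ IsLocalRing.maximalIdeal A := IsLocalRing.le_maximalIdeal (X.ι x).2.ne_top
    obtain ⟨s, hs, hsp⟩ := SetLike.exists_of_lt (lt_of_le_of_ne hle (hne x))
    refine LefAmpleLib.ringKrullDim_quotient_eq_one _ s hs hsp fun q hq hle' hsq => by_contra fun hqm => ?_
    let z : (X : Scheme.{u}) := ⟨⟨q, hq⟩, hmk ⟨q, hq⟩ hqm⟩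
    have hxz : x ⤳ z := X.isOpenEmbedding'.isInducing.specializes_iff.1
      ((PrimeSpectrum.le_iff_specializes (X.ι x) ⟨q, hq⟩).1 hle')
    have : z = x := hxz.mem_closed hx rfl
    exact hsp (show s ∈ (X.ι x).asIdeal from this ▸ hsq)
  have hreg' := LefAmpleLib.mono_smulMod X t hreg
  have hbij := (S3372.result R A π hπ t ht _ (DevLib.isCoh_structureModule (X : Scheme.{u})) hreg' 1
    (fun x hx => by exact_mod_cast hclosed x hx) 0).1 Nat.zero_lt_one
  intro U hU D hD
  obtain ⟨hDq, -⟩ := PullbackMod.isQCoh_and_isFP_of_isFinLocFree D hD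
  haveI : IsLocallyNoetherian U.toScheme := isLocallyNoetherian_of_isOpenImmersion U.ι
  haveI := hDq
  obtain ⟨M, hMq, hMf, ⟨e⟩⟩ := S9831.result U (TopologicalSpace.NoetherianSpace.isCompact _) D
    (CurveLib.isCoh_of_isFinLocFree hD).2
  have hM : Coh.IsCoh M := ⟨hMq, hMf⟩
  have hout : ∀ y : (X : Scheme.{u}), y ∉ U → y ∉ (LefAmpleLib.idealT X t).support := fun y hy h => hy (hU h)
  have hcl : ∀ y : (X : Scheme.{u}), y ∉ U → ringKrullDim (A ⧸ (X.ι y).asIdeal) = 1 := fun y hy => by
    refine LefAmpleLib.ringKrullDim_quotient_eq_one _ t ht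
      (LefAmpleLib.notMem_asIdeal_of_notMem X t y (hout y hy)) fun q hq hle htq => by_contra fun hqm => ?_
    let z : (X : Scheme.{u}) := ⟨⟨q, hq⟩, hmk ⟨q, hq⟩ hqm⟩
    have hyz : y ⤳ z := X.isOpenEmbedding'.isInducing.specializes_iff.1
      ((PrimeSpectrum.le_iff_specializes (X.ι y) ⟨q, hq⟩).1 hle)
    exact LefAmpleLib.notMem_asIdeal_of_notMem X t z (hout z fun hz => hy (hyz.mem_open U.2 hz)) htq
  refine LefAmpleLib.homToFormalBijective_restrict U.ι _ M e
    (S14995.result _ _ M (DevLib.isCoh_structureModule _) hM U fun y hy => ?_) (fun n =>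
    S14995.result _ _ M (IntLib.isCoh_quotMod _) hM U fun y hy => ?_)
    (LefAmpleLib.homToFormalBijective_open_coh X _ (LefAmpleLib.homToFormalBijective_unit X t hbij) hM)
  · rw [LefAmpleLib.depth_stalk_open]
    exact hdepth _ (hcl y hy)
  · have hy' : y ∉ CohB1.support (ClSub.quotMod (LefAmpleLib.idealT X t ^ (n + 1))) := fun h =>
      hout y hy ((Scheme.IdealSheafData.support_pow_succ _ n).le (IntLib.support_quotMod_subset _ h))
    haveI : Subsingleton ((ClSub.quotMod (LefAmpleLib.idealT X t ^ (n + 1))).presheaf.stalk y) := not_not.1 hy'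
    rw [CAlgBasics.depth_eq_top]
    exact le_top

end Groth.Agent.S2945
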