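import Groth.Statements.S2948
import Groth.Agent.LefPicLib.Main

set_option autoImplicit false
universe u
open CategoryTheory CategoryTheory.Limits AlgebraicGeometry
open Lef

namespace Groth.Agent.S2948

/-- Let X be a locally Noetherian scheme, 𝓘 a quasi-coherent ideal sheaf with Y = V(𝓘), and p ≥ 0;
suppose Lef(X, Y) holds and H^1(X, 𝓘^{n+1}/𝓘^{n+2}) = 0 for every n ≥ p (these are the groups H^1(Y,
P_n) of the source, P_n being supported on Y). Then for every open U ⊇ Y and every n ≥ p, if two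
invertible O_U-modules have isomorphic pullbacks to the closed subscheme Y_n ∩ U = V(𝓘^{n+1}) ∩ U,
they are isomorphic. -/
theorem result (X : Scheme.{u}) [IsLocallyNoetherian X] (𝓘 : X.IdealSheafData) (h : Lef.LefCond X 𝓘) (p : ℕ) (hH1 : ∀ n : ℕ, p ≤ n → Subsingleton (Coh.HH X (kernel (Lef.quotMap (Lef.pow_succ_le 𝓘 n))) 1)) (U : X.Opens) (hU : (𝓘.support : Set X) ⊆ (U : Set X)) (n : ℕ) (hn : p ≤ n) (L L' : (U : Scheme.{u}).Modules) (hL : PicF.IsInvertible L) (hL' : PicF.IsInvertible L') (e : Nonempty ((Scheme.Modules.pullback (((𝓘.comap U.ι) ^ (n + 1)).subschemeι)).obj L ≅ (Scheme.Modules.pullback (((𝓘.comap U.ι) ^ (n + 1)).subschemeι)).obj L')) : Nonempty (L ≅ L') := by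
  haveI : IsLocallyNoetherian U.toScheme := isLocallyNoetherian_of_isOpenImmersion U.ι
  obtain ⟨e⟩ := e
  obtain ⟨M, hM, ⟨η⟩⟩ := Groth.Agent.AmpleEmb.exists_isInverseOf hL'
  let i := ((𝓘.comap U.ι) ^ (n + 1)).subschemeι
  obtain ⟨d⟩ := Groth.Agent.LefPicLib.nonempty_iso_of_lef 𝓘 h U hU n (fun m hm => hH1 m (hn.trans hm))
    (Groth.Agent.AmpleLib.isInvertible_tensor hL hM)
    (Groth.Agent.AmpleLib.pullTensor i L M ≪≫ Groth.Agent.AmpleLib.tIso e (Iso.refl _) ≪≫
      (Groth.Agent.AmpleLib.pullTensor i L' M).symm ≪≫ (Scheme.Modules.pullback i).mapIso η ≪≫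
      Groth.Agent.AmpleLib.pullO i)
  haveI := Groth.Agent.VBLib.isEquivalence_tensR (Groth.Agent.AmpleLib.comm M L' ≪≫ η)
  exact ⟨(Groth.Agent.CurveLib.tensR M).preimageIso (d ≪≫ η.symm)⟩

end Groth.Agent.S2948
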