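import Groth.Statements.S2950
import Groth.Agent.HyperAlg.AdicPurity
import Groth.Agent.ParaFLiftLib.Graded

set_option autoImplicit false
universe u
open Pi1

namespace Groth.Agent.S2950

/-- Purity part, for the local rings. Let A → B be a flat local homomorphism of Noetherian local rings
and let B₀ = B/m_A B be the local ring of the closed fibre. If B₀ has depth ≥ 3 and every finite
étale cover of the punctured spectrum of B₀ extends to Spec B₀, then every finite étale cover of the
punctured spectrum of B extends to Spec B. -/
theorem result (A B : Type u) [CommRing A] [CommRing B] [IsLocalRing A] [IsLocalRing B] [IsNoetherianRing A] [IsNoetherianRing B] [Algebra A B] [IsLocalHom (algebraMap A B)] [Module.Flat A B] [IsLocalRing (B ⧸ (IsLocalRing.maximalIdeal A).map (algebraMap A B))] (hd : (3 : ℕ∞) ≤ LocCoh.depth (B ⧸ (IsLocalRing.maximalIdeal A).map (algebraMap A B)) (B ⧸ (IsLocalRing.maximalIdeal A).map (algebraMap A B))) (h0 : FEt.PurityHolds (B ⧸ (IsLocalRing.maximalIdeal A).map (algebraMap A B))) : FEt.PurityHolds B :=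
  (HyperAlg.purityHolds_of_normallyFlat B ((IsLocalRing.maximalIdeal A).map (algebraMap A B))
    (fun h => not_subsingleton (B ⧸ (IsLocalRing.maximalIdeal A).map (algebraMap A B))
      (Ideal.Quotient.subsingleton_iff.2 h))
    hd (fun n => ParaFLiftLib.free_graded_of_flat A B n) h0).2

end Groth.Agent.S2950
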