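import Groth.Statements.S2953
import Groth.Agent.RootDLib.Z
-- import your own Groth.Agent.* helpers here

set_option autoImplicit false
open RootPairing
open scoped Pointwise
universe u
open RootD

namespace Groth.Agent.S2953

/-- For a finite crystallographic reduced root pairing with a base b: an element of the Weyl group which
maps positive roots (relative to b) to positive roots is the identity. -/
theorem result {ι R M N : Type*} [CommRing R] [CharZero R] [IsDomain R] [AddCommGroup M] [Module R M]
    [AddCommGroup N] [Module R N] (P : RootPairing ι R M N) [Finite ι] [P.IsCrystallographic] [P.IsReduced]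
    (b : P.Base) (g : P.Aut) (hg : g ∈ P.weylGroup) (hpos : ∀ i, b.IsPos i → b.IsPos (g • i)) : g = 1 := by
  have h := Groth.Agent.RootDLib.isSimple_base P b
  refine h.eq_one_of_mapsTo hg fun i hi => ?_
  exact (RootPairing.Base.IsPos.induction_on_add (P := P) (b := b) (p := fun k => k ∈ RootD.posOf P (b.support : Set ι))
    (hpos i (RootPairing.Base.isPos_of_mem_support hi)) (fun k hk => Groth.Agent.RootDLib.root_mem_natSpan P hk)
    (fun a c k hk ha hc => by
      show P.root k ∈ RootD.natSpan P (b.support : Set ι)
      rw [hk]; exact add_mem ha (Groth.Agent.RootDLib.root_mem_natSpan P hc)) : g • i ∈ RootD.posOf P (b.support : Set ι))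

end Groth.Agent.S2953
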