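import Groth.Statements.S2955
import Groth.Agent.RootDLib.Sub2
-- import your own Groth.Agent.* helpers here

set_option autoImplicit false
open RootPairing
open scoped Pointwise Classical
universe u
open RootD

namespace Groth.Agent.S2955

/-- Let P be a finite crystallographic reduced root pairing over a domain of characteristic zero, with a
base b, and write 2ρ for the sum of the positive roots with respect to b. Then for every simple root
β (an index in the support of b) the reflection in β sends 2ρ to 2ρ − 2β (equivalently, the coroot
of β pairs to 1 with ρ; only the reflection identity is asserted). -/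
theorem result {ι R M N : Type*} [CommRing R] [CharZero R] [IsDomain R] [AddCommGroup M] [Module R M]
    [AddCommGroup N] [Module R N] (P : RootPairing ι R M N) [Finite ι] [P.IsCrystallographic] [P.IsReduced]
    [Fintype ι] (b : P.Base) (j : ι) (hj : j ∈ b.support) :
    P.reflection j (∑ i, if b.IsPos i then P.root i else 0) =
      (∑ i, if b.IsPos i then P.root i else 0) - (2 : R) • P.root j := by
  classical
  have hΔ := Groth.Agent.RootDLib.isSimple_base P b
  have hsc : ∀ i, b.IsPos i ↔ i ∈ RootD.posOf P (b.support : Set ι) := by
    have h1 : ∀ i, b.IsPos i → i ∈ RootD.posOf P (b.support : Set ι) := fun i hi =>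
      RootPairing.Base.IsPos.induction_on_add (p := fun k => k ∈ RootD.posOf P (b.support : Set ι)) hi
        (fun k hk => Groth.Agent.RootDLib.root_mem_natSpan P hk) (fun a c k hk ha hc => by
          show P.root k ∈ RootD.natSpan P (b.support : Set ι)
          rw [hk]; exact add_mem ha (Groth.Agent.RootDLib.root_mem_natSpan P hc))
    refine fun i => ⟨h1 i, fun h => ?_⟩
    by_contra hn
    exact hΔ.isPosSys.disjoint h (h1 _ ((RootPairing.Base.IsPos.neg_iff_not b i).2 hn))
  have hj' : j ∈ RootD.posOf P (b.support : Set ι) := hΔ.subset_posOf hj
  rw [← Finset.sum_filter]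
  simp only [hsc]
  rw [← Finset.add_sum_erase _ _ (show j ∈ Finset.univ.filter (· ∈ RootD.posOf P (b.support : Set ι)) by simpa using hj'),
    map_add, map_sum, RootPairing.reflection_apply_self]
  have e : ∑ x ∈ (Finset.univ.filter (· ∈ RootD.posOf P (b.support : Set ι))).erase j, P.reflection j (P.root x) =
      ∑ x ∈ (Finset.univ.filter (· ∈ RootD.posOf P (b.support : Set ι))).erase j, P.root x := by
    have hb := Groth.Agent.RootDLib.IsSimple.bijOn_refl P hΔ (Finset.mem_coe.2 hj)
    refine Finset.sum_bij (fun x _ => Groth.Agent.RootDLib.refl P j • x) (fun x hx => ?_) (fun x _ y _ h => MulAction.injective _ h)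
      (fun y hy => ?_) fun x _ => (P.root_reflectionPerm j x).symm
    · have := hb.mapsTo (show x ∈ RootD.posOf P (b.support : Set ι) \ {j} by simpa [and_comm] using hx)
      simpa [and_comm] using this
    · obtain ⟨x, hx, he⟩ := hb.surjOn (show y ∈ RootD.posOf P (b.support : Set ι) \ {j} by simpa [and_comm] using hy)
      exact ⟨x, by simpa [and_comm] using hx, he⟩
  rw [e, two_smul]
  abel

end Groth.Agent.S2955
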