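import Groth.Statements.S2957
import Groth.Agent.S2953

set_option autoImplicit false
open RootPairing
open scoped Pointwise
universe u
open RootD

namespace Groth.Agent.S2957


open Groth.Agent.RootDLib

variable {ι R M N : Type*} [CommRing R] [CharZero R] [AddCommGroup M] [Module R M] [AddCommGroup N] [Module R N]
  (P : RootPairing ι R M N) (b : P.Base)

theorem height_comb {p x y : ι} {a c : ℤ} (h : P.root p = a • P.root x + c • P.root y) :
    b.height p = a * b.height x + c * b.height y := by
  obtain ⟨f, -, -, hf⟩ := b.exists_root_eq_sum_int x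
  obtain ⟨g, -, -, hg⟩ := b.exists_root_eq_sum_int y
  rw [RootPairing.Base.height_eq_sum hf, RootPairing.Base.height_eq_sum hg,
    RootPairing.Base.height_eq_sum (f := fun j => a * f j + c * g j) (by
      rw [h, hf, hg, Finset.smul_sum, Finset.smul_sum, ← Finset.sum_add_distrib]
      exact Finset.sum_congr rfl fun j _ => by rw [add_smul, mul_smul, mul_smul]),
    Finset.sum_add_distrib, Finset.mul_sum, Finset.mul_sum]

theorem same_sign {p x y : ι} (hx : x ∈ b.support) (hy : y ∈ b.support) (hxy : x ≠ y) {a c : ℤ}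
    (h : P.root p = a • P.root x + c • P.root y) : (0 ≤ a ∧ 0 ≤ c) ∨ (a ≤ 0 ∧ c ≤ 0) := by
  classical
  let f : ι → ℤ := fun j => (if j = x then a else 0) + if j = y then c else 0
  have hs : Function.support f ⊆ b.support := by
    intro j hj
    by_contra hjs
    apply hj
    have h1 : j ≠ x := fun e => hjs (e ▸ hx)
    have h2 : j ≠ y := fun e => hjs (e ▸ hy)
    simp [f, h1, h2]
  have hsum : ∑ j ∈ b.support, f j • P.root j = P.root p := by
    simp only [f, add_smul, ite_smul, zero_smul, Finset.sum_add_distrib, Finset.sum_ite_eq', hx, hy, if_true]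
    exact h.symm
  have hfx : f x = a := by simp [f, hxy]
  have hfy : f y = c := by simp [f, Ne.symm hxy]
  rcases b.pos_or_neg_of_sum_smul_root_mem f ⟨p, hsum.symm⟩ hs with h0 | h0
  · exact Or.inl ⟨hfx ▸ h0.le x, hfy ▸ h0.le y⟩
  · exact Or.inr ⟨hfx ▸ h0.le x, hfy ▸ h0.le y⟩

variable [P.IsCrystallographic]

theorem exists_comb_closure {x y : ι} {v : P.Aut}
    (hv : v ∈ Subgroup.closure {RootPairing.Equiv.reflection P x, RootPairing.Equiv.reflection P y}) :
    ∀ p : ι, (∃ a c : ℤ, P.root p = a • P.root x + c • P.root y) →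
      ∃ a c : ℤ, P.root (v • p) = a • P.root x + c • P.root y := by
  induction hv using Subgroup.closure_induction_left with
  | one => simp
  | mul_left g hg u _ ih =>
    intro p hp
    obtain ⟨a, c, h⟩ := ih p hp
    rw [mul_smul]
    generalize u • p = k at h
    rcases hg with rfl | rfl <;>
      simp only [refl_smul_idx, RootPairing.root_reflectionPerm, RootPairing.reflection_apply_root' ℤ]
    · exact ⟨a - P.pairingIn ℤ k x, c, by rw [h, sub_smul]; abel⟩
    · exact ⟨a, c - P.pairingIn ℤ k y, by rw [h, sub_smul]; abel⟩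
  | inv_mul_cancel g hg u _ ih =>
    intro p hp
    obtain ⟨a, c, h⟩ := ih p hp
    rw [mul_smul]
    generalize u • p = k at h
    rcases hg with rfl | rfl <;> rw [RootPairing.Equiv.reflection_inv] <;>
      simp only [refl_smul_idx, RootPairing.root_reflectionPerm, RootPairing.reflection_apply_root' ℤ]
    · exact ⟨a - P.pairingIn ℤ k x, c, by rw [h, sub_smul]; abel⟩
    · exact ⟨a, c - P.pairingIn ℤ k y, by rw [h, sub_smul]; abel⟩

/-- The inversion set. -/
def inv (w : P.Aut) : Set ι := {k | b.IsPos k ∧ ¬ b.IsPos (w • k)}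

variable [IsDomain R] [Finite ι] [P.IsReduced]

theorem ncard_inv_lt {w : P.Aut} {g : ι} (hg : g ∈ b.support) (hneg : ¬ b.IsPos (w • g)) :
    (inv P b (w * RootPairing.Equiv.reflection P g)).ncard < (inv P b w).ncard := by
  have hngpos : ∀ k, b.IsPos (ng P k) ↔ ¬ b.IsPos k := fun k => RootPairing.Base.IsPos.neg_iff_not b k
  have hsub : (RootPairing.Equiv.reflection P g • ·) '' inv P b (w * RootPairing.Equiv.reflection P g) ⊆
      inv P b w \ {g} := by
    rintro _ ⟨k, ⟨hk, hk'⟩, rfl⟩
    have hkg : k ≠ g := by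
      rintro rfl
      rw [mul_smul, refl_self, smul_ng, hngpos] at hk'
      exact hk' hneg
    refine ⟨⟨hk.reflectionPerm hg hkg, by rwa [mul_smul] at hk'⟩, fun e => ?_⟩
    have : k = ng P g := by
      have := congrArg (RootPairing.Equiv.reflection P g • ·) (Set.mem_singleton_iff.1 e)
      simpa only [refl_refl, refl_self] using this
    rw [this, hngpos] at hk
    exact hk (RootPairing.Base.isPos_of_mem_support hg)
  have h1 := Set.ncard_le_ncard hsub (Set.toFinite _)
  rw [Set.ncard_image_of_injective _ (MulAction.injective _)] at h1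
  exact h1.trans_lt (Set.ncard_lt_ncard ⟨Set.diff_subset, fun h =>
    (h ⟨RootPairing.Base.isPos_of_mem_support hg, hneg⟩).2 rfl⟩ (Set.toFinite _))

theorem zsmul_smul (g : P.Aut) (z : ℤ) (x : M) : g • (z • x) = z • (g • x) :=
  map_zsmul (DistribMulAction.toAddMonoidHom M g) z x

/-- For a finite crystallographic reduced root pairing with a base b: let α, β be simple roots and w an
element of the Weyl group with w(α) = β. Then there are simple roots α = α_0, ..., α_m = β and Weyl
group elements w_0, ..., w_{m-1} with w = w_{m-1} ... w_0, w_i(α_i) = α_{i+1}, and each w_i lying in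
the subgroup generated by the reflections in α_i and in a simple root γ_i, where γ_i = α_{i+1}
whenever α_i ≠ α_{i+1}. -/
theorem result {ι R M N : Type*} [CommRing R] [CharZero R] [IsDomain R] [AddCommGroup M] [Module R M]
    [AddCommGroup N] [Module R N] (P : RootPairing ι R M N) [Finite ι] [P.IsCrystallographic] [P.IsReduced]
    (b : P.Base) (α β : ι) (hα : α ∈ b.support) (hβ : β ∈ b.support) (w : P.Aut) (hw : w ∈ P.weylGroup)
    (hwα : w • α = β) :
    ∃ (m : ℕ) (a : Fin (m + 1) → ι) (ws : Fin m → P.Aut),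
      (∀ i, a i ∈ b.support) ∧ a 0 = α ∧ a (Fin.last m) = β ∧
      (∀ i, ws i ∈ P.weylGroup) ∧
      w = (List.ofFn fun i : Fin m => ws (Fin.rev i)).prod ∧
      (∀ i : Fin m, ws i • a (Fin.castSucc i) = a (Fin.succ i)) ∧
      ∀ i : Fin m, ∃ γ ∈ b.support,
        ws i ∈ Subgroup.closure {Equiv.reflection P (a (Fin.castSucc i)), Equiv.reflection P γ} ∧
        (a (Fin.castSucc i) ≠ a (Fin.succ i) → γ = a (Fin.succ i)) := by
  classical
  induction hn : (inv P b w).ncard using Nat.strong_induction_on generalizing w α with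
  | _ n ih =>
    subst hn
    by_cases h1 : ∀ i, b.IsPos i → b.IsPos (w • i)
    · have := S2953.result P b w hw h1
      subst this
      rw [one_smul] at hwα
      exact ⟨0, fun _ => α, Fin.elim0, fun _ => hα, rfl, hwα, fun i => i.elim0, by simp, fun i => i.elim0,
        fun i => i.elim0⟩
    obtain ⟨γ, hγ, hneg⟩ : ∃ γ ∈ b.support, ¬ b.IsPos (w • γ) := by
      by_contra hc
      push Not at hc
      refine h1 fun i hi => RootPairing.Base.IsPos.induction_on_add (p := fun k => b.IsPos (w • k)) hi hc
        fun a c k hk ha hcs => ha.add (hc c hcs) ?_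
      rw [root_smul, hk, smul_add, ← root_smul, ← root_smul]
    have hαγ : α ≠ γ := fun e => hneg (e ▸ hwα.symm ▸ RootPairing.Base.isPos_of_mem_support hβ)
    set D := Subgroup.closure {RootPairing.Equiv.reflection P α, RootPairing.Equiv.reflection P γ} with hD
    have hDW : D ≤ P.weylGroup := (Subgroup.closure_le _).2 (by
      rintro _ (rfl | rfl) <;> exact P.reflection_mem_weylGroup _)
    have hsD : RootPairing.Equiv.reflection P γ ∈ D := Subgroup.subset_closure (Or.inr rfl)
    have hex : ∃ k, ∃ v ∈ D, (inv P b (w * v)).ncard = k := ⟨_, 1, one_mem _, rfl⟩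
    obtain ⟨v, hv, hvk⟩ := Nat.find_spec hex
    have hlt : (inv P b (w * v)).ncard < (inv P b w).ncard :=
      hvk ▸ (Nat.find_min' hex ⟨_, hsD, rfl⟩).trans_lt (ncard_inv_lt P b hγ hneg)
    have hpos : ∀ g, g ∈ b.support → RootPairing.Equiv.reflection P g ∈ D → b.IsPos ((w * v) • g) := by
      intro g hg hgD
      by_contra hn
      have h2 := ncard_inv_lt P b hg hn
      rw [hvk, mul_assoc] at h2
      exact absurd (Nat.find_min' hex ⟨_, mul_mem hv hgD, rfl⟩) (not_le.2 h2)
    have hpα := hpos α hα (Subgroup.subset_closure (Or.inl rfl))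
    have hpγ := hpos γ hγ hsD
    set δ := v⁻¹ • α
    obtain ⟨a, c, hδ⟩ : ∃ a c : ℤ, P.root δ = a • P.root α + c • P.root γ :=
      exists_comb_closure P (inv_mem hv) α ⟨1, 0, by simp⟩
    have hwδ : (w * v) • δ = β := by rw [mul_smul, smul_inv_smul, hwα]
    have hcomb : P.root β = a • P.root ((w * v) • α) + c • P.root ((w * v) • γ) := by
      rw [← hwδ, root_smul, hδ, smul_add, zsmul_smul, zsmul_smul, ← root_smul, ← root_smul]
    have hh := height_comb P b hcomb
    rw [RootPairing.Base.height_one_of_mem_support hβ] at hh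
    rw [RootPairing.Base.isPos_iff] at hpα hpγ
    have hac : (a = 1 ∧ c = 0) ∨ (a = 0 ∧ c = 1) := by
      rcases same_sign P b hα hγ hαγ hδ with ⟨ha, hc⟩ | ⟨ha, hc⟩
      · rcases eq_or_lt_of_le ha with ha0 | ha0 <;> rcases eq_or_lt_of_le hc with hc0 | hc0
        · exfalso; simp [← ha0, ← hc0] at hh
        · refine Or.inr ⟨ha0.symm, ?_⟩
          have : c * 1 ≤ c * b.height ((w * v) • γ) := Int.mul_le_mul_of_nonneg_left hpγ hc
          rw [← ha0] at hh
          linarith
        · refine Or.inl ⟨?_, hc0.symm⟩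
          have : a * 1 ≤ a * b.height ((w * v) • α) := Int.mul_le_mul_of_nonneg_left hpα ha
          rw [← hc0] at hh
          linarith
        · exfalso
          have h3 : 1 ≤ a * b.height ((w * v) • α) := one_le_mul_of_one_le_of_one_le ha0 hpα
          have h4 : 1 ≤ c * b.height ((w * v) • γ) := one_le_mul_of_one_le_of_one_le hc0 hpγ
          linarith
      · exfalso
        have h3 := Int.mul_nonpos_of_nonpos_of_nonneg ha hpα.le
        have h4 := Int.mul_nonpos_of_nonpos_of_nonneg hc hpγ.le
        linarith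
    have hδαγ : δ = α ∨ δ = γ := by
      rcases hac with ⟨rfl, rfl⟩ | ⟨rfl, rfl⟩
      · exact Or.inl (P.root.injective (by simpa using hδ))
      · exact Or.inr (P.root.injective (by simpa using hδ))
    have hδmem : δ ∈ b.support := hδαγ.elim (fun e => e ▸ hα) (fun e => e ▸ hγ)
    obtain ⟨m, a', ws, ha', ha0, hlast, hws, hprod, hmap, hγs⟩ :=
      ih _ hlt δ hδmem (w * v) (mul_mem hw (hDW hv)) hwδ rfl
    refine ⟨m + 1, Fin.cons α a', Fin.cons v⁻¹ ws, Fin.cases hα ha', rfl, ?_,
      Fin.cases (inv_mem (hDW hv)) hws, ?_, ?_, ?_⟩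
    · rw [← Fin.succ_last, Fin.cons_succ, hlast]
    · rw [List.ofFn_succ', List.prod_concat]
      simp only [Fin.rev_castSucc, Fin.rev_last, Fin.cons_succ, Fin.cons_zero]
      rw [← hprod, mul_inv_cancel_right]
    · intro i
      induction i using Fin.cases with
      | zero => simpa using ha0.symm
      | succ i => simpa [← Fin.succ_castSucc] using hmap i
    · intro i
      induction i using Fin.cases with
      | zero =>
        refine ⟨γ, hγ, by simpa using inv_mem hv, fun hne => ?_⟩
        simp only [Fin.castSucc_zero, Fin.cons_zero, Fin.cons_succ, ha0] at hne ⊢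
        exact (hδαγ.resolve_left (Ne.symm hne)).symm
      | succ i => simpa [← Fin.succ_castSucc] using hγs i

end Groth.Agent.S2957
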