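import Groth.Statements.S2964
import Mathlib.Algebra.Lie.Engel
import Mathlib.Algebra.Lie.BaseChange
import Mathlib.RingTheory.Support
import Mathlib.RingTheory.LocalRing.Module
import Mathlib.RingTheory.Adjoin.FG
import Mathlib.RingTheory.FiniteType
-- import your own Groth.Agent.* helpers here

set_option autoImplicit false
set_option linter.style.haveILetI false
set_option maxHeartbeats 1000000
universe u
open scoped TensorProduct
open SGA3t2b

namespace Groth.Agent.S2964

/-- An endomorphism of a finite module which is nilpotent on all fibres is nilpotent. -/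
theorem isNilpotent_of_fibres {A M : Type u} [CommRing A] [AddCommGroup M] [Module A M] [Module.Finite A M]
    (u : Module.End A M) (h : ∀ (p : Ideal A) [p.IsPrime], IsNilpotent (u.baseChange p.ResidueField)) :
    IsNilpotent u := by
  let S : Subalgebra A (Module.End A M) := Algebra.adjoin A {u}
  letI : CommRing S := Algebra.adjoinCommRingOfComm A (fun a ha b hb => by
    rw [Set.mem_singleton_iff.mp ha, Set.mem_singleton_iff.mp hb])
  haveI : Module.Finite S M := Module.Finite.of_restrictScalars_finite A S M
  let v : S := ⟨u, Algebra.subset_adjoin rfl⟩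
  suffices hv : IsNilpotent v by
    obtain ⟨n, hn⟩ := hv
    exact ⟨n, congrArg Subtype.val hn⟩
  rw [nilpotent_iff_mem_prime]
  intro P hP
  haveI := hP
  let p : Ideal A := P.comap (algebraMap A S)
  haveI : P.LiesOver p := ⟨rfl⟩
  have hsupp : (⟨P, hP⟩ : PrimeSpectrum S) ∈ Module.support S M := by
    rw [Module.support_eq_zeroLocus]
    intro a ha
    rw [SetLike.mem_coe, Module.mem_annihilator] at ha
    have : a = 0 := Subtype.ext (LinearMap.ext fun m => ha m)
    rw [this]
    exact zero_mem _
  haveI := (Module.mem_support_iff_nontrivial_residueField_tensorProduct _).mp hsupp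
  let K := P.ResidueField
  let ρ : p.ResidueField →ₐ[A] K := Ideal.ResidueField.mapₐ p P (Algebra.ofId A S) rfl
  let b : p.ResidueField →ₗ[A] M →ₗ[A] K ⊗[S] M :=
    LinearMap.mk₂ A (fun c m => ρ c ⊗ₜ[S] m)
      (fun c c' m => by simp only [map_add, TensorProduct.add_tmul])
      (fun r c m => by simp only [map_smul, TensorProduct.smul_tmul'])
      (fun c m m' => TensorProduct.tmul_add _ _ _)
      (fun r c m => TensorProduct.tmul_smul r _ m)
  let Θ := TensorProduct.lift b
  have hΘ : ∀ z, Θ (u.baseChange p.ResidueField z) = v • Θ z := by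
    intro z
    induction z with
    | zero => simp
    | tmul c m =>
      show ρ c ⊗ₜ[S] u m = v • (ρ c ⊗ₜ[S] m)
      rw [← TensorProduct.tmul_smul]
      rfl
    | add x y hx hy => simp only [map_add, smul_add, hx, hy]
  obtain ⟨k, hk⟩ := h p
  have hpow : ∀ (j : ℕ) z, Θ ((u.baseChange p.ResidueField ^ j) z) = v ^ j • Θ z := by
    intro j
    induction j with
    | zero => intro z; simp
    | succ j ih => intro z; rw [pow_succ, Module.End.mul_apply, ih, hΘ, smul_smul, ← pow_succ]
  have hkill : ∀ m : M, v ^ k • ((1 : K) ⊗ₜ[S] m) = 0 := fun m => by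
    have h1 := hpow k ((1 : p.ResidueField) ⊗ₜ m)
    rw [hk, LinearMap.zero_apply, map_zero] at h1
    have h2 : Θ ((1 : p.ResidueField) ⊗ₜ m) = (1 : K) ⊗ₜ[S] m := by
      show ρ 1 ⊗ₜ[S] m = _
      rw [map_one]
    rw [h2] at h1
    exact h1.symm
  by_contra hvP
  have hv0 : algebraMap S K (v ^ k) ≠ 0 := fun h0 => hvP (hP.mem_of_pow_mem k (Ideal.algebraMap_residueField_eq_zero.mp h0))
  obtain ⟨z, hz⟩ := exists_ne (0 : K ⊗[S] M)
  refine hz ?_
  clear hz
  induction z with
  | zero => rfl
  | tmul c m =>
    have h1 : algebraMap S K (v ^ k) • ((1 : K) ⊗ₜ[S] m) = 0 := by rw [algebraMap_smul]; exact hkill m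
    have h2 := (smul_eq_zero.mp h1).resolve_left hv0
    have h3 : c ⊗ₜ[S] m = c • ((1 : K) ⊗ₜ[S] m) := by rw [TensorProduct.smul_tmul', smul_eq_mul, mul_one]
    rw [h3, h2, smul_zero]
  | add x y hx hy => rw [hx, hy, add_zero]

/-- Engel's theorem for a Lie algebra finite as a module over any commutative ring. -/
theorem isNilpotent_of_forall {A L : Type u} [CommRing A] [LieRing L] [LieAlgebra A L] [Module.Finite A L]
    (h : ∀ x : L, IsNilpotent (LieAlgebra.ad A L x)) : LieRing.IsNilpotent L := by
  classical
  obtain ⟨n, e, he⟩ := Module.Finite.exists_fin (R := A) (M := L)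
  have hc : ∀ i j, ∃ c : Fin n → A, ∑ k, c k • e k = ⁅e i, e j⁆ := fun i j =>
    (Submodule.mem_span_range_iff_exists_fun A).mp (he ▸ Submodule.mem_top)
  choose c hc using hc
  let T : Finset A := Finset.univ.image fun q : Fin n × Fin n × Fin n => c q.1 q.2.1 q.2.2
  let A0 : Subalgebra ℤ A := Algebra.adjoin ℤ (T : Set A)
  haveI : Algebra.FiniteType ℤ A0 := A0.fg_iff_finiteType.mp (Subalgebra.fg_adjoin_finset T)
  haveI : IsNoetherianRing A0 := Algebra.FiniteType.isNoetherianRing ℤ A0
  letI : LieAlgebra A0 L := { lie_smul := fun a x y => lie_smul (a : A) x y }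
  let V : Submodule A0 L := Submodule.span A0 (Set.range e)
  have hV : ∀ x ∈ V, ∀ y ∈ V, ⁅x, y⁆ ∈ V := by
    intro x hx y hy
    induction hx using Submodule.span_induction with
    | mem x hx =>
      induction hy using Submodule.span_induction with
      | mem y hy =>
        obtain ⟨i, rfl⟩ := hx
        obtain ⟨j, rfl⟩ := hy
        rw [← hc i j]
        refine Submodule.sum_mem _ fun k _ => ?_
        have hmem : c i j k ∈ A0 :=
          Algebra.subset_adjoin (Finset.mem_image.mpr ⟨(i, j, k), Finset.mem_univ _, rfl⟩)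
        exact V.smul_mem (⟨_, hmem⟩ : A0) (Submodule.subset_span ⟨k, rfl⟩)
      | zero => rw [lie_zero]; exact zero_mem _
      | add a b _ _ ha hb => rw [lie_add]; exact add_mem ha hb
      | smul r a _ ha => rw [lie_smul]; exact V.smul_mem r ha
    | zero => rw [zero_lie]; exact zero_mem _
    | add a b _ _ ha hb => rw [add_lie]; exact add_mem ha hb
    | smul r a _ ha => rw [smul_lie]; exact V.smul_mem r ha
  let L0 : LieSubalgebra A0 L := { V with lie_mem' := fun {x y} hx hy => hV x hx y hy }
  haveI : Module.Finite A0 V := Module.Finite.span_of_finite A0 (Set.finite_range e)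
  haveI : IsNoetherian A0 L0 := inferInstanceAs (IsNoetherian A0 V)
  have had : ∀ x : L0, IsNilpotent (LieAlgebra.ad A0 L0 x) := fun x => by
    obtain ⟨k, hk⟩ := h x.1
    refine ⟨k, LinearMap.ext fun y => Subtype.ext ?_⟩
    have hpow : ∀ (j : ℕ) (y : L0), (((LieAlgebra.ad A0 L0 x) ^ j) y).1 = ((LieAlgebra.ad A L x.1) ^ j) y.1 := by
      intro j
      induction j with
      | zero => intro y; simp
      | succ j ih => intro y; rw [pow_succ, pow_succ, Module.End.mul_apply, Module.End.mul_apply, ih]; rfl
    rw [hpow, hk]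
    rfl
  haveI hnil : LieRing.IsNilpotent L0 := (LieAlgebra.isNilpotent_iff_forall (R := A0)).mpr had
  obtain ⟨k, hk⟩ := (LieModule.isNilpotent_iff A0 L0 L0).mp hnil
  have hspan : Submodule.span A ((fun y : L0 => y.1) '' (Set.univ : Set L0)) = ⊤ := by
    rw [eq_top_iff, ← he, Submodule.span_le]
    rintro _ ⟨i, rfl⟩
    exact Submodule.subset_span ⟨⟨e i, Submodule.subset_span ⟨i, rfl⟩⟩, trivial, rfl⟩
  have hle : ∀ j : ℕ, (LieModule.lowerCentralSeries A L L j).toSubmodule ≤
      Submodule.span A ((fun y : L0 => y.1) '' ((LieModule.lowerCentralSeries A0 L0 L0 j : Set L0))) := by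
    intro j
    induction j with
    | zero =>
      rw [LieModule.lowerCentralSeries_zero, LieModule.lowerCentralSeries_zero, LieSubmodule.top_coe, hspan]
      exact le_top
    | succ j ih =>
      rw [LieModule.lowerCentralSeries_succ, LieSubmodule.lieIdeal_oper_eq_linear_span', Submodule.span_le]
      rintro _ ⟨x, -, y, hy, rfl⟩
      have hy' := ih hy
      have hx : x ∈ Submodule.span A ((fun y : L0 => y.1) '' (Set.univ : Set L0)) := hspan ▸ Submodule.mem_top
      rw [SetLike.mem_coe]
      clear hy
      induction hx using Submodule.span_induction with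
      | mem x hx =>
        induction hy' using Submodule.span_induction with
        | mem y hy =>
          obtain ⟨x, -, rfl⟩ := hx
          obtain ⟨y, hy, rfl⟩ := hy
          refine Submodule.subset_span ⟨⁅x, y⁆, ?_, rfl⟩
          rw [SetLike.mem_coe, LieModule.lowerCentralSeries_succ]
          exact LieSubmodule.lie_mem_lie (LieSubmodule.mem_top x) hy
        | zero => rw [lie_zero]; exact zero_mem _
        | add a b _ _ ha hb => rw [lie_add]; exact add_mem ha hb
        | smul r a _ ha => rw [lie_smul]; exact Submodule.smul_mem _ r ha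
      | zero => rw [zero_lie]; exact zero_mem _
      | add a b _ _ ha hb => rw [add_lie]; exact add_mem ha hb
      | smul r a _ ha => rw [smul_lie]; exact Submodule.smul_mem _ r ha
  refine (LieModule.isNilpotent_iff A L L).mpr ⟨k, (LieSubmodule.toSubmodule_eq_bot _).mp (eq_bot_iff.mpr ?_)⟩
  refine (hle k).trans (Submodule.span_le.mpr ?_)
  rintro _ ⟨y, hy, rfl⟩
  rw [hk] at hy
  rw [(LieSubmodule.mem_bot y).mp hy]
  exact zero_mem _

/-- (i) ⇒ (iii): let d be a Lie algebra over a commutative ring A which is finitely presented as an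
A-module. If for every prime p of A the fibre Lie algebra κ(p) ⊗_A d is nilpotent, then d is
nilpotent (its lower central series vanishes, i.e. there is N with ad(x_1) ⋯ ad(x_N) = 0 for all
x_i); and the same conclusion holds if ad(x) is nilpotent for every x in d. -/
theorem result {A : Type u} [CommRing A] {L : Type u} [LieRing L] [LieAlgebra A L]
    [Module.FinitePresentation A L] :
    ((∀ p : PrimeSpectrum A, LieRing.IsNilpotent (p.asIdeal.ResidueField ⊗[A] L)) → LieRing.IsNilpotent L) ∧
    ((∀ x : L, IsNilpotent (LieAlgebra.ad A L x)) → LieRing.IsNilpotent L) := by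
  refine ⟨fun hp => isNilpotent_of_forall (A := A) fun x => isNilpotent_of_fibres _ fun p _ => ?_,
    fun hx => isNilpotent_of_forall (A := A) hx⟩
  haveI := hp ⟨p, inferInstance⟩
  show IsNilpotent ((LieModule.toEnd A L L x).baseChange p.ResidueField)
  rw [← LieModule.toEnd_baseChange]
  exact LieModule.isNilpotent_toEnd_of_isNilpotent _ _ _ _

end Groth.Agent.S2964
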