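import Groth.Statements.S2965
-- import your own Groth.Agent.* helpers here

set_option autoImplicit false
universe u
open SGA3t2b

namespace Groth.Agent.S2965

open Polynomial in
/-- Implication (iv) ⇒ (i) (global form, finite free module): let u be an endomorphism of a finite free
module M over a commutative ring A whose characteristic polynomial is X^r · Q with Q(0) invertible.
Then M is the direct sum of two u-stable submodules M', M'' such that u is nilpotent on M' and
bijective on M''. -/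
theorem result {A : Type u} [CommRing A] {M : Type u} [AddCommGroup M] [Module A M]
    [Module.Free A M] [Module.Finite A M] (u : M →ₗ[A] M) (r : ℕ) (Q : A[X]) (hQ : IsUnit (Q.coeff 0))
    (h : u.charpoly = X ^ r * Q) :
    ∃ M' M'' : Submodule A M, IsCompl M' M'' ∧ (∀ x ∈ M', u x ∈ M') ∧ (∀ x ∈ M'', u x ∈ M'') ∧
      (∃ n : ℕ, ∀ x ∈ M', (u ^ n) x = 0) ∧ Set.BijOn u M'' M'' := by
  have hcop : IsCoprime (X ^ r) Q := by
    refine IsCoprime.pow_left ?_
    obtain ⟨c, hc⟩ := hQ
    refine ⟨-(C ((c⁻¹ : Aˣ) : A)) * Q.divX, C ((c⁻¹ : Aˣ) : A), ?_⟩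
    have e := Q.X_mul_divX_add
    calc -(C ((c⁻¹ : Aˣ) : A)) * Q.divX * X + C ((c⁻¹ : Aˣ) : A) * Q
        = -(C ((c⁻¹ : Aˣ) : A)) * Q.divX * X + C ((c⁻¹ : Aˣ) : A) * (X * Q.divX + C (Q.coeff 0)) := by rw [e]
      _ = C (((c⁻¹ : Aˣ) : A) * Q.coeff 0) := by rw [map_mul]; ring
      _ = 1 := by rw [← hc, Units.inv_mul, map_one]
  let M' := LinearMap.ker (aeval u (X ^ r : A[X]))
  let M'' := LinearMap.ker (aeval u Q)
  have hsup : M' ⊔ M'' = ⊤ := by
    rw [sup_ker_aeval_eq_ker_aeval_mul_of_coprime u hcop, ← h, LinearMap.aeval_self_charpoly, LinearMap.ker_zero]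
  have hdis : Disjoint M' M'' := disjoint_ker_aeval_of_isCoprime u hcop
  have hstab : ∀ (P : A[X]), ∀ x ∈ LinearMap.ker (aeval u P), u x ∈ LinearMap.ker (aeval u P) := by
    intro P x hx
    rw [LinearMap.mem_ker] at hx ⊢
    have hcomm : aeval u (P * X) = aeval u (X * P) := by rw [mul_comm]
    simp only [map_mul, aeval_X] at hcomm
    have := LinearMap.congr_fun hcomm x
    simp only [Module.End.mul_apply, hx, map_zero] at this
    exact this
  refine ⟨M', M'', ⟨hdis, codisjoint_iff.mpr hsup⟩, hstab _, hstab _, ⟨r, fun x hx => ?_⟩, ?_⟩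
  · have : aeval u (X ^ r : A[X]) x = 0 := hx
    simpa using this
  obtain ⟨a, b, hab⟩ : IsCoprime (X : A[X]) Q := by
    obtain ⟨c, hc⟩ := hQ
    refine ⟨-(C ((c⁻¹ : Aˣ) : A)) * Q.divX, C ((c⁻¹ : Aˣ) : A), ?_⟩
    have e := Q.X_mul_divX_add
    calc -(C ((c⁻¹ : Aˣ) : A)) * Q.divX * X + C ((c⁻¹ : Aˣ) : A) * Q
        = -(C ((c⁻¹ : Aˣ) : A)) * Q.divX * X + C ((c⁻¹ : Aˣ) : A) * (X * Q.divX + C (Q.coeff 0)) := by rw [e]
      _ = C (((c⁻¹ : Aˣ) : A) * Q.coeff 0) := by rw [map_mul]; ring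
      _ = 1 := by rw [← hc, Units.inv_mul, map_one]
  have key : ∀ x ∈ M'', aeval u a (u x) = x := by
    intro x hx
    have h1 := LinearMap.congr_fun (congrArg (aeval u) hab) x
    simp only [map_add, map_mul, map_one, aeval_X, LinearMap.add_apply, Module.End.mul_apply,
      Module.End.one_apply] at h1
    rw [show aeval u Q x = 0 from hx, map_zero, add_zero] at h1
    exact h1
  refine ⟨fun x hx => hstab _ x hx, fun x hx y hy hxy => ?_, fun y hy => ⟨aeval u a y, ?_, ?_⟩⟩
  · rw [← key x hx, ← key y hy, hxy]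
  · show aeval u Q (aeval u a y) = 0
    rw [← Module.End.mul_apply, ← map_mul, mul_comm, map_mul, Module.End.mul_apply,
      show aeval u Q y = 0 from hy, map_zero]
  · have hcomm : aeval u (X * a) = aeval u (a * X) := by rw [mul_comm]
    simp only [map_mul, aeval_X] at hcomm
    have h2 := LinearMap.congr_fun hcomm y
    simp only [Module.End.mul_apply] at h2
    rw [h2]
    exact key y hy

end Groth.Agent.S2965
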