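import Groth.Statements.S2966
import Groth.Agent.UnipH7.Basic
import Groth.Agent.S7966
-- import your own Groth.Agent.* helpers here

set_option autoImplicit false
universe u
open scoped TensorProduct
open SGA3t2b

namespace Groth.Agent.S2966

/-- In Hopf-algebra form (with unipotent taken in the representation-theoretic sense: affine and every
non-zero finite-dimensional representation has a non-zero fixed vector): let k be a field, A_M the
coordinate Hopf algebra of an affine k-group M of finite type which is of multiplicative type in the
sense that it becomes diagonalisable over an algebraic closure of k, and A_U that of a unipotent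
affine k-group U of finite type. Then (i) every homomorphism M -> U and (ii) every homomorphism U ->
M is trivial: every bialgebra map A_U -> A_M, resp. A_M -> A_U, factors through the counit. -/
theorem result {k : Type u} [Field k] {AM AU : Type u} [CommRing AM] [CommRing AU]
    [HopfAlgebra k AM] [HopfAlgebra k AU] [Algebra.FiniteType k AM] [Algebra.FiniteType k AU]
    (hM : HopfRep.IsDiagonalizable (AlgebraicClosure k) (AlgebraicClosure k ⊗[k] AM)) (hU : HopfRep.IsUnipotent k AU) :
    (∀ φ : AU →ₐc[k] AM, SGA3t2b.IsTrivialBialgHom φ) ∧ (∀ ψ : AM →ₐc[k] AU, SGA3t2b.IsTrivialBialgHom ψ) := by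
  constructor
  · intro φ u
    have h := Groth.Agent.S7966.result k AM AU hM hU k
      (Bialgebra.TensorProduct.map (BialgHom.id k k) φ) ((1 : k) ⊗ₜ[k] u)
    have h' := congrArg (Algebra.TensorProduct.lid k AM) h
    rw [Bialgebra.TensorProduct.map_tmul] at h'
    simpa [TensorProduct.counit_tmul, Algebra.smul_def] using h'
  · intro ψ m
    let K := AlgebraicClosure k
    have hUK : HopfRep.IsUnipotent K (K ⊗[k] AU) :=
      Groth.Agent.Comodule.unipotent_baseChange_iff.mp hU
    have hfil := Groth.Agent.Comodule.isUnipotent_iff_fil.mp hUK
    let ψK : K ⊗[k] AM →ₐc[K] K ⊗[k] AU := Bialgebra.TensorProduct.map (BialgHom.id K K) ψ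
    have key : ψK.toLinearMap = Algebra.linearMap K (K ⊗[k] AU) ∘ₗ Coalgebra.counit := by
      refine LinearMap.ext_on hM ?_
      intro g hg
      have h1 : ψK g = 1 := Groth.Agent.UnipH7.groupLike_eq_one hfil (hg.map ψK)
      rw [LinearMap.comp_apply, hg.counit_eq_one]
      rw [show ψK.toLinearMap g = ψK g from rfl, h1]
      simp [Algebra.TensorProduct.one_def]
    have h2 := LinearMap.congr_fun key ((1 : K) ⊗ₜ[k] m)
    apply Algebra.TensorProduct.includeRight_injective (A := K) (algebraMap k K).injective
    simp [ψK, TensorProduct.counit_tmul, Algebra.smul_def] at h2 ⊢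
    exact h2

end Groth.Agent.S2966
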