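import Groth.Statements.S2967
-- import your own Groth.Agent.* helpers here

set_option autoImplicit false
set_option backward.isDefEq.respectTransparency false
universe u
open SGA3t2b

namespace Groth.Agent.S2967

/-- A commutative p-Lie algebra over a field k of characteristic p is recorded as a k-vector space g
together with its p-th power map φ, which is additive and Frobenius-semilinear. Let g be
finite-dimensional and non-zero, and assume every element of g is killed by some iterate of φ (g is
unipotent). Then the k-subspace of g spanned by the image φ(g) is a proper subspace. -/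
theorem result {k : Type u} [Field k] (p : ℕ) [Fact p.Prime] [CharP k p]
    {V : Type u} [AddCommGroup V] [Module k V] [FiniteDimensional k V] [Nontrivial V]
    (φ : V →ₛₗ[frobenius k p] V) (hφ : ∀ x : V, ∃ n : ℕ, φ^[n] x = 0) :
    Submodule.span k (Set.range φ) ≠ ⊤ := by
  classical
  intro htop
  let b := Module.finBasis k V
  choose n hn using fun i => hφ (b i)
  let N := Finset.univ.sup n
  have hz : ∀ i, φ^[N] (b i) = 0 := fun i => by
    have hle : n i ≤ N := Finset.le_sup (f := n) (Finset.mem_univ i)
    rw [← Nat.sub_add_cancel hle, Function.iterate_add_apply, hn]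
    exact Function.iterate_fixed (map_zero φ) _
  have hspan : ∀ m : ℕ, Submodule.span k (Set.range fun x => φ^[m] x) = ⊤ := by
    intro m
    induction m with
    | zero => exact eq_top_iff.2 fun x _ => Submodule.subset_span ⟨x, rfl⟩
    | succ m ih =>
      rw [← htop]
      refine le_antisymm (Submodule.span_le.2 ?_) (Submodule.span_le.2 ?_)
      · rintro _ ⟨x, rfl⟩
        exact Submodule.subset_span ⟨φ^[m] x, (Function.iterate_succ_apply' φ m x).symm⟩
      · rintro _ ⟨y, rfl⟩
        have hy : y ∈ Submodule.span k (Set.range fun x => φ^[m] x) := by rw [ih]; exact Submodule.mem_top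
        induction hy using Submodule.span_induction with
        | mem z hz =>
          obtain ⟨x, rfl⟩ := hz
          exact Submodule.subset_span ⟨x, Function.iterate_succ_apply' φ m x⟩
        | zero => rw [map_zero]; exact zero_mem _
        | add z w _ _ hz hw => rw [map_add]; exact add_mem hz hw
        | smul c z _ hz => rw [LinearMap.map_smulₛₗ]; exact Submodule.smul_mem _ _ hz
  have hN : ∀ x : V, φ^[N] x = 0 := by
    intro x
    have hx : x ∈ Submodule.span k (Set.range b) := by rw [b.span_eq]; exact Submodule.mem_top
    induction hx using Submodule.span_induction with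
    | mem z hz' => obtain ⟨i, rfl⟩ := hz'; exact hz i
    | zero => exact Function.iterate_fixed (map_zero φ) _
    | add z w _ _ hz' hw => rw [iterate_map_add, hz', hw, add_zero]
    | smul c z _ hz' =>
      have : ∀ m, ∃ d : k, φ^[m] (c • z) = d • φ^[m] z := by
        intro m
        induction m with
        | zero => exact ⟨c, rfl⟩
        | succ m ih =>
          obtain ⟨d, hd⟩ := ih
          exact ⟨frobenius k p d, by rw [Function.iterate_succ_apply', Function.iterate_succ_apply', hd, LinearMap.map_smulₛₗ]⟩
      obtain ⟨d, hd⟩ := this N
      rw [hd, hz', smul_zero]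
  have h2 := hspan N
  rw [show (fun x => φ^[N] x) = fun _ => (0 : V) from funext hN, Set.range_const, Submodule.span_zero_singleton] at h2
  exact bot_ne_top h2

end Groth.Agent.S2967
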