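import Groth.Statements.S2968
import Groth.Agent.PBW.RestrictedHopf
import Groth.Agent.Comodule.UnipotentDual
import Groth.Prelude.Def_LieHopf
-- import your own Groth.Agent.* helpers here

set_option autoImplicit false
set_option backward.isDefEq.respectTransparency false
universe u
open SGA3t2b

namespace Groth.Agent.S2968

open scoped TensorProduct in
theorem der_pow {k : Type u} [Field k] {p : ℕ} [Fact p.Prime] [CharP k p] {A : Type u} [CommRing A] [Bialgebra k A]
    (g : WithConv (A →ₗ[k] k))
    (hg : ∀ a b : A, g (a * b) = Coalgebra.counit (R := k) a * g b + g a * Coalgebra.counit (R := k) b)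
    (m : ℕ) (a b : A) :
    (g ^ p ^ m) (a * b) = Coalgebra.counit (R := k) a * (g ^ p ^ m) b + (g ^ p ^ m) a * Coalgebra.counit (R := k) b := by
  let q : ∀ e : WithConv (A →ₗ[k] k), WithConv (A ⊗[k] A →ₗ[k] k) := fun e =>
    WithConv.toConv (e.ofConv ∘ₗ LinearMap.mul' k A)
  let P : WithConv (A →ₗ[k] k) → WithConv (A →ₗ[k] k) → WithConv (A ⊗[k] A →ₗ[k] k) := fun e e' =>
    WithConv.toConv (LinearMap.mul' k k ∘ₗ TensorProduct.map e.ofConv e'.ofConv)
  have hq : ∀ e e', q (e * e') = q e * q e' := fun e e' => by
    apply WithConv.ofConv_injective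
    exact LinearMap.convMul_comp_coalgHom_distrib e e' (Bialgebra.mulCoalgHom k A)
  have hP : ∀ a a' c c', P a c * P a' c' = P (a * a') (c * c') := fun a a' c c' => by
    have h1 := TensorProduct.map_convMul_map (f := a) (h := a') (g := c) (k := c')
    have h2 := LinearMap.algHom_comp_convMul_distrib (Algebra.TensorProduct.lmul' k (S := k))
      (WithConv.toConv (TensorProduct.map a.ofConv c.ofConv)) (WithConv.toConv (TensorProduct.map a'.ofConv c'.ofConv))
    rw [h1] at h2
    simp only [Algebra.TensorProduct.lmul'_toLinearMap] at h2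
    apply WithConv.ofConv_injective
    exact h2.symm
  have hq1 : q 1 = 1 := by
    apply WithConv.ofConv_injective; refine TensorProduct.ext' fun x y => ?_
    simp [q, LinearMap.convOne_def, mul_comm]
  have hP1 : P 1 1 = 1 := by
    apply WithConv.ofConv_injective; refine TensorProduct.ext' fun x y => ?_
    simp [P, LinearMap.convOne_def, mul_comm]
  have hqpow : ∀ e n, q (e ^ n) = q e ^ n := fun e n => by
    induction n with
    | zero => simpa using hq1
    | succ n ih => rw [pow_succ, hq, ih, pow_succ]
  have hPl : ∀ e n, P (e ^ n) 1 = P e 1 ^ n := fun e n => by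
    induction n with
    | zero => simpa using hP1
    | succ n ih => rw [pow_succ, pow_succ, ← ih, hP, mul_one]
  have hPr : ∀ e n, P 1 (e ^ n) = P 1 e ^ n := fun e n => by
    induction n with
    | zero => simpa using hP1
    | succ n ih => rw [pow_succ, pow_succ, ← ih, hP, mul_one]
  have hone : ∀ x : A, (1 : WithConv (A →ₗ[k] k)).ofConv x = Coalgebra.counit (R := k) x := fun x => by
    simp [LinearMap.convOne_def]
  have hbase : q g = P g 1 + P 1 g := by
    apply WithConv.ofConv_injective; refine TensorProduct.ext' fun x y => ?_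
    show g (x * y) = LinearMap.mul' k k (TensorProduct.map g.ofConv (1 : WithConv (A →ₗ[k] k)).ofConv (x ⊗ₜ y)) +
      LinearMap.mul' k k (TensorProduct.map (1 : WithConv (A →ₗ[k] k)).ofConv g.ofConv (x ⊗ₜ y))
    rw [hg x y, TensorProduct.map_tmul, TensorProduct.map_tmul, LinearMap.mul'_apply, LinearMap.mul'_apply, hone, hone,
      add_comm]
  have hmain : ∀ n, q (g ^ p ^ n) = P (g ^ p ^ n) 1 + P 1 (g ^ p ^ n) := by
    intro n
    induction n with
    | zero => simpa using hbase
    | succ n ih =>
      rw [pow_succ, pow_mul, hqpow, ih, Groth.Agent.PBW.add_pow_char' (R := k), hPl (g ^ p ^ n) p, hPr (g ^ p ^ n) p]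
      show P (g ^ p ^ n) 1 * P 1 (g ^ p ^ n) = P 1 (g ^ p ^ n) * P (g ^ p ^ n) 1
      rw [hP, hP, mul_one, one_mul]
  have := congrArg (fun e : WithConv (A ⊗[k] A →ₗ[k] k) => e.ofConv (a ⊗ₜ b)) (hmain m)
  refine this.trans ?_
  show LinearMap.mul' k k (TensorProduct.map (g ^ p ^ m).ofConv (1 : WithConv (A →ₗ[k] k)).ofConv (a ⊗ₜ b)) +
    LinearMap.mul' k k (TensorProduct.map (1 : WithConv (A →ₗ[k] k)).ofConv (g ^ p ^ m).ofConv (a ⊗ₜ b)) = _
  rw [TensorProduct.map_tmul, TensorProduct.map_tmul, LinearMap.mul'_apply, LinearMap.mul'_apply, hone, hone, add_comm]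

/-- In characteristic p, in Hopf-algebra form (with unipotent in the representation-theoretic sense
`HopfRep.IsUnipotent`): let k be a field of characteristic p > 0 and A a finite-type commutative
Hopf algebra over k (the coordinate Hopf algebra of an affine algebraic k-group) which is unipotent.
Then the Lie algebra of the group is a unipotent p-Lie algebra: for every ε-derivation D : A -> k
there is n > 0 such that the iterated p-operation of D, computed here as the p^n-fold convolution
power of D (this is how the p-operation is rendered in this statement; its axioms are not proved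
here), vanishes. -/
theorem result {k : Type u} [Field k] (p : ℕ) [Fact p.Prime] [CharP k p] {A : Type u} [CommRing A]
    [HopfAlgebra k A] [Algebra.FiniteType k A] (hU : HopfRep.IsUnipotent k A) (D : LieHopf.Lie k A) :
    ∃ n : ℕ, 0 < n ∧ LieHopf.convPow (D.toLinearMap.restrictScalars k ∘ₗ LinearMap.id) (p ^ n) = 0 := by
  classical
  have hfil := Groth.Agent.Comodule.isUnipotent_iff_fil.mp hU
  set f : A →ₗ[k] k := D.toLinearMap.restrictScalars k ∘ₗ LinearMap.id with hf
  have hconv : ∀ n, LieHopf.convPow f n = (WithConv.toConv f ^ n).ofConv := by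
    intro n
    induction n with
    | zero => ext a; simp [LieHopf.convPow, LinearMap.convOne_def]
    | succ n ih => rw [pow_succ, LieHopf.convPow, ih]; rfl
  have hder : ∀ a b : A, (WithConv.toConv f) (a * b) =
      Coalgebra.counit (R := k) a * (WithConv.toConv f) b + (WithConv.toConv f) a * Coalgebra.counit (R := k) b := by
    intro a b
    refine (LieHopf.dlin_mul D a b).trans ?_
    rw [mul_comm (Bialgebra.counitAlgHom k A b)]
    rfl
  have h1 : f 1 = 0 := LieHopf.dlin_one D
  have hvan : ∀ n, Groth.Agent.Comodule.Van n (WithConv.toConv f ^ n) := by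
    intro n
    induction n with
    | zero => exact Groth.Agent.Comodule.van_zero _
    | succ n ih => rw [pow_succ]; exact ih.mul (Groth.Agent.Comodule.van_one_iff.2 h1)
  obtain ⟨S, hS⟩ := (Algebra.FiniteType.out : (⊤ : Subalgebra k A).FG)
  choose N hN using hfil
  let n := S.sup N + 1
  refine ⟨n, Nat.succ_pos _, ?_⟩
  rw [hconv]
  have hle : S.sup N ≤ p ^ n := ((Nat.le_succ _).trans (Nat.lt_pow_self (Fact.out : p.Prime).one_lt).le)
  have hd := der_pow (p := p) (WithConv.toConv f) hder n
  set g := WithConv.toConv f ^ p ^ n with hg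
  have hg1 : g.ofConv 1 = 0 := by
    have h2 : g (1 * 1 : A) = Coalgebra.counit (R := k) (1 : A) * g 1 + g (1 : A) * Coalgebra.counit (R := k) (1 : A) := hd 1 1
    rw [one_mul, Bialgebra.counit_one, one_mul, mul_one] at h2
    exact (add_eq_left.mp h2.symm)
  refine LinearMap.ext fun a => ?_
  have ha : a ∈ Algebra.adjoin k (S : Set A) := by rw [hS]; exact Algebra.mem_top
  show g.ofConv a = 0
  induction ha using Algebra.adjoin_induction with
  | mem x hx => exact (hvan (p ^ n)).mono ((Finset.le_sup hx).trans hle) x (hN x)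
  | algebraMap r => rw [Algebra.algebraMap_eq_smul_one, map_smul, hg1, smul_zero]
  | add x y _ _ hx hy => rw [map_add, hx, hy, add_zero]
  | mul x y _ _ hx hy =>
    refine (hd x y).trans ?_
    show _ * g.ofConv y + g.ofConv x * _ = 0
    rw [hx, hy, mul_zero, zero_mul, add_zero]

end Groth.Agent.S2968
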