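import Groth.Statements.S2970
import Groth.Agent.MultType.GroupLikeLift
-- import your own Groth.Agent.* helpers here

set_option autoImplicit false
universe u
open TensorProduct SGA3b
open SGA3b

namespace Groth.Agent.S2970

open MultType

/-- Let R be a ring, I an ideal consisting of nilpotent elements, and H = Spec A an R-group of
multiplicative type. If the base change of H to R/I is diagonalisable, then H is diagonalisable.
(Affine group schemes over an affine base are taken in Hopf-algebra form; base change is the tensor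
product.) -/
theorem result (R : Type u) [CommRing R] (A : Type u) [CommRing A] [HopfAlgebra R A] (I : Ideal R) (hI : ∀ x ∈ I, IsNilpotent x)
    (h : IsMultType R A) (h0 : IsDiag (R ⧸ I) ((R ⧸ I) ⊗[R] A)) : IsDiag R A := by
  classical
  obtain ⟨U, hU⟩ := exists_cover h
  obtain ⟨M, _, ⟨e₀⟩⟩ := h0
  letI : ∀ i, Algebra R (U.T i) := fun i => inferInstance
  haveI : ∀ i, IsScalarTower R R (U.T i) := fun i => IsScalarTower.left R
  have hK : I ≤ nilradical R := fun x hx => mem_nilradical.2 (hI x hx)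
  let ld : R ⊗[R] A ≃ₐc[R] A := Bialgebra.TensorProduct.lid R A
  choose y hy hyq using fun m : M => exists_groupLike_lift (R := R) (B := A) U hU I hK
    (e₀.symm (MonoidAlgebra.single m 1)) ((MonoidAlgebra.isGroupLikeElem_single_one m).map e₀.symm)
  let q := Algebra.TensorProduct.map (Ideal.Quotient.mkₐ R I) (AlgHom.id R A)
  have hq : ∀ w : R ⊗[R] A, q w = (1 : R ⧸ I) ⊗ₜ[R] ld w := by
    intro w
    induction w using TensorProduct.induction_on with
    | zero => simp
    | tmul r a =>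
      show (algebraMap R (R ⧸ I) r) ⊗ₜ[R] a = (1 : R ⧸ I) ⊗ₜ[R] (r • a)
      rw [TensorProduct.tmul_smul, TensorProduct.smul_tmul', Algebra.smul_def, _root_.mul_one]
    | add a b ha hb => simp only [map_add, ha, hb, TensorProduct.tmul_add]
  let x : M → A := fun m => ld (y m)
  have hx : ∀ m, IsGroupLikeElem R (x m) := fun m => (hy m).map ld
  have hx0 : ∀ m, (1 : R ⧸ I) ⊗ₜ[R] x m = e₀.symm (MonoidAlgebra.single m 1) := fun m =>
    (hq (y m)).symm.trans (hyq m)
  have eqA : ∀ {a b : A}, IsGroupLikeElem R a → IsGroupLikeElem R b →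
      (1 : R ⧸ I) ⊗ₜ[R] a = (1 : R ⧸ I) ⊗ₜ[R] b → a = b := by
    intro a b ha hb hab
    refine sub_eq_zero.1 (U.detect _ fun i => ?_)
    let mk := Ideal.Quotient.mkₐ R (I.map (algebraMap R (U.T i)))
    let σ : (R ⧸ I) →ₐ[R] U.T i ⧸ I.map (algebraMap R (U.T i)) :=
      Ideal.Quotient.liftₐ I (Algebra.ofId R _) fun r hr =>
        Ideal.Quotient.eq_zero_iff_mem.2 (Ideal.mem_map_of_mem _ hr)
    have hl : ∀ z : A, IsGroupLikeElem R z → IsGroupLikeElem (U.T i) ((1 : U.T i) ⊗ₜ[R] z) := fun z hz => by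
      have := isGroupLikeElem_map (Algebra.ofId R (U.T i)) (hz.map (ld.symm : A →ₐc[R] R ⊗[R] A))
      rw [show (ld.symm : A →ₐc[R] R ⊗[R] A) z = (1 : R) ⊗ₜ[R] z from rfl] at this
      simpa [Algebra.ofId_apply] using this
    have h2 := mem_map_ker mk Ideal.Quotient.mk_surjective ((1 : U.T i) ⊗ₜ[R] a - (1 : U.T i) ⊗ₜ[R] b) (by
      have h3 := congr(Algebra.TensorProduct.map σ (AlgHom.id R A) $hab)
      simp only [Algebra.TensorProduct.map_tmul, map_one, AlgHom.id_apply] at h3
      rw [map_sub, sub_eq_zero]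
      simpa using h3)
    rw [show RingHom.ker mk = I.map (algebraMap R (U.T i)) from Ideal.Quotient.mkₐ_ker R _] at h2
    rw [TensorProduct.tmul_sub, groupLike_eq_of_nil (hU i) (hl a ha) (hl b hb) _
      (Ideal.map_le_iff_le_comap.2 fun r hr => mem_nilradical.2 ((hI r hr).map _)) h2, sub_self]
  let θ : M →* A :=
    { toFun := x
      map_one' := eqA (hx 1) IsGroupLikeElem.one (by
        rw [hx0, ← MonoidAlgebra.one_def, map_one, Algebra.TensorProduct.one_def])
      map_mul' := fun a b => eqA (hx _) ((hx a).mul (hx b)) (by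
        rw [hx0, show (1 : R ⧸ I) ⊗ₜ[R] (x a * x b) = ((1 : R ⧸ I) ⊗ₜ[R] x a) * ((1 : R ⧸ I) ⊗ₜ[R] x b) by simp,
          hx0, hx0, ← map_mul, MonoidAlgebra.single_mul_single, _root_.mul_one]) }
  let φ : MonoidAlgebra R M →ₐc[R] A :=
    BialgHom.ofAlgHom (MonoidAlgebra.lift R A M θ)
      (by ext m; simp [θ, (hx m).counit_eq_one]) (by ext m; simp [θ, (hx m).comul_eq_tmul_self])
  have hφ : ∀ m, φ (MonoidAlgebra.single m 1) = x m := fun m => by simp [φ, θ]
  let f₀ := Algebra.TensorProduct.map (AlgHom.id (R ⧸ I) (R ⧸ I)) (φ : MonoidAlgebra R M →ₐ[R] A)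
  let θ' : M →* (R ⧸ I) ⊗[R] MonoidAlgebra R M :=
    (Algebra.TensorProduct.includeRight : MonoidAlgebra R M →ₐ[R] _).toMonoidHom.comp (MonoidAlgebra.of R M)
  let H : (R ⧸ I) ⊗[R] A →ₐ[R ⧸ I] (R ⧸ I) ⊗[R] MonoidAlgebra R M :=
    (MonoidAlgebra.lift (R ⧸ I) _ M θ').comp (e₀ : (R ⧸ I) ⊗[R] A →ₐc[R ⧸ I] MonoidAlgebra (R ⧸ I) M).toAlgHom
  have hHx : ∀ m, H ((1 : R ⧸ I) ⊗ₜ[R] x m) = (1 : R ⧸ I) ⊗ₜ[R] MonoidAlgebra.single m 1 := fun m => by
    rw [hx0]
    show MonoidAlgebra.lift (R ⧸ I) _ M θ' (e₀ (e₀.symm (MonoidAlgebra.single m 1))) = _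
    rw [show e₀ (e₀.symm (MonoidAlgebra.single m 1)) = MonoidAlgebra.single m 1 from e₀.apply_symm_apply _]
    simp [θ']
  have hHf : H.comp f₀ = AlgHom.id _ _ := Algebra.TensorProduct.ext (by ext) (MonoidAlgebra.algHom_ext'
    (MonoidHom.ext fun m => by simp [f₀, hφ, hHx]) (by ext))
  have hfH : ∀ z, f₀ (H z) = z := by
    intro z
    obtain ⟨z, rfl⟩ : ∃ w, e₀.symm w = z := ⟨e₀ z, e₀.symm_apply_apply z⟩
    induction z using MonoidAlgebra.induction_linear with
    | zero => simp
    | add p r hp hr => simp only [map_add, hp, hr]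
    | single m t =>
      rw [show (MonoidAlgebra.single m t : MonoidAlgebra (R ⧸ I) M) = t • MonoidAlgebra.single m 1 by simp,
        map_smul, map_smul, map_smul, ← hx0, hHx]
      simp [f₀, hφ]
  have hbij : ∀ i, Function.Bijective
      (Algebra.TensorProduct.map (AlgHom.id (U.T i) (U.T i)) (φ : MonoidAlgebra R M →ₐ[R] A)) := by
    intro i
    let K := I.map (algebraMap R (U.T i))
    refine bijective_of_nil (R := R) (hU i) (isDiag_tensor (U.T i) ⟨M, inferInstance, ⟨BialgEquiv.refl R _⟩⟩) K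
      (Ideal.map_le_iff_le_comap.2 fun r hr => mem_nilradical.2 ((hI r hr).map _)) φ ?_
    let T' := U.T i ⧸ K
    letI : Algebra (R ⧸ I) T' := (Ideal.Quotient.lift I (algebraMap R T') fun r hr =>
      Ideal.Quotient.eq_zero_iff_mem.2 (Ideal.mem_map_of_mem _ hr)).toAlgebra
    haveI : IsScalarTower R (R ⧸ I) T' := IsScalarTower.of_algebraMap_eq fun r => rfl
    let ε₀ : (R ⧸ I) ⊗[R] MonoidAlgebra R M ≃ₐ[R ⧸ I] (R ⧸ I) ⊗[R] A :=
      AlgEquiv.ofAlgHom f₀ H (AlgHom.ext hfH) hHf
    let ε' := ((Algebra.TensorProduct.cancelBaseChange R (R ⧸ I) T' T' (MonoidAlgebra R M)).symm.trans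
      (Algebra.TensorProduct.congr (AlgEquiv.refl : T' ≃ₐ[T'] T') ε₀)).trans
        (Algebra.TensorProduct.cancelBaseChange R (R ⧸ I) T' T' A)
    have : ∀ z, Algebra.TensorProduct.map (AlgHom.id T' T') (φ : MonoidAlgebra R M →ₐ[R] A) z = ε' z := by
      intro z
      induction z using TensorProduct.induction_on with
      | zero => simp
      | tmul t c => simp [ε', ε₀, f₀]
      | add a b ha hb => simp only [map_add, ha, hb]
    rw [funext this]
    exact ε'.bijective
  have hinj : Function.Injective φ := by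
    rw [injective_iff_map_eq_zero]
    intro z hz
    refine U.detect _ fun i => (hbij i).1 ?_
    rw [map_zero, Algebra.TensorProduct.map_tmul]
    simp [hz]
  have hsurj : Function.Surjective φ := by
    intro a
    suffices Submodule.Quotient.mk (p := LinearMap.range (φ : MonoidAlgebra R M →ₐ[R] A).toLinearMap) a = 0 by
      exact (Submodule.Quotient.mk_eq_zero _).1 this
    refine U.detect _ fun i => ?_
    obtain ⟨w, hw⟩ := (hbij i).2 ((1 : U.T i) ⊗ₜ[R] a)
    have key : ∀ w, (LinearMap.range (φ : MonoidAlgebra R M →ₐ[R] A).toLinearMap).mkQ.lTensor (U.T i)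
        (Algebra.TensorProduct.map (AlgHom.id (U.T i) (U.T i)) (φ : MonoidAlgebra R M →ₐ[R] A) w) = 0 := by
      intro w
      induction w using TensorProduct.induction_on with
      | zero => simp
      | tmul t c =>
        have h0 : Submodule.Quotient.mk (p := LinearMap.range (φ : MonoidAlgebra R M →ₐ[R] A).toLinearMap)
            ((φ : MonoidAlgebra R M →ₐ[R] A) c) = 0 :=
          (Submodule.Quotient.mk_eq_zero _).2 (LinearMap.mem_range.2 ⟨c, rfl⟩)
        rw [Algebra.TensorProduct.map_tmul, LinearMap.lTensor_tmul, Submodule.mkQ_apply, h0, TensorProduct.tmul_zero]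
      | add a b ha hb => simp only [map_add, ha, hb, add_zero]
    have := key w
    rw [hw, LinearMap.lTensor_tmul] at this
    exact this
  exact ⟨M, inferInstance, ⟨(BialgEquiv.ofBijective φ ⟨hinj, hsurj⟩).symm⟩⟩

end Groth.Agent.S2970
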