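import Groth.Statements.S2971
import Groth.Agent.MultType.Nil
-- import your own Groth.Agent.* helpers here

set_option autoImplicit false
universe u
open TensorProduct SGA3b
open SGA3b

namespace Groth.Agent.S2971

open MultType

/-- Let R be a ring, I an ideal consisting of nilpotent elements and H = Spec A an R-group of
multiplicative type. If the base change of H to R/I is isotrivial (resp. quasi-isotrivial), so is H.
(Affine group schemes over an affine base are taken in Hopf-algebra form; base change is the tensor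
product.) -/
theorem result (R : Type u) [CommRing R] (A : Type u) [CommRing A] [HopfAlgebra R A] (I : Ideal R) (hI : ∀ x ∈ I, IsNilpotent x) (h : IsMultType R A) :
    (IsIsotrivial (R ⧸ I) ((R ⧸ I) ⊗[R] A) → IsIsotrivial R A) ∧
    (IsQuasiIsotrivial (R ⧸ I) ((R ⧸ I) ⊗[R] A) → IsQuasiIsotrivial R A) := by
  obtain ⟨U, hU⟩ := exists_cover h
  refine ⟨fun h0 => ?_, isQuasiIsotrivial_of_nil I hI U hU⟩
  obtain ⟨R₀, _, _, _, _, _, hd⟩ := h0
  letI : Algebra R R₀ := ((algebraMap (R ⧸ I) R₀).comp (algebraMap R (R ⧸ I))).toAlgebra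
  haveI : IsScalarTower R (R ⧸ I) R₀ := IsScalarTower.of_algebraMap_eq' rfl
  obtain ⟨R', _, _, he, hff, hd', hfin⟩ :=
    exists_splitting_lift_nil I hI A U hU R₀ (isDiag_congr (cbc (R := R) (A := A) (R ⧸ I) R₀) hd)
  exact ⟨R', inferInstance, inferInstance, he, hfin inferInstance, hff, hd'⟩

end Groth.Agent.S2971
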