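import Groth.Statements.S6058
import Groth.Agent.MultType.TorsionPoints

set_option autoImplicit false
universe u
open TensorProduct SGA3b
open SGA3b

namespace Groth.Agent.S6058

/-- Let A be a Noetherian ring, separated and complete for the I-adic topology, and H = Spec C a
commutative affine A-group (C cocommutative) with C flat and of finite type over A, such that the
reduction H₀ = Spec ((A/I) ⊗ C) is an isotrivial (A/I)-group of multiplicative type and such that
for every n > 0 the kernel ₙH = Spec (C/Jₙ) of the n-th power map is finite over A (Jₙ the ideal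
generated by the image of the augmentation ideal under the n-th power endomorphism). Then H is an
isotrivial A-group of multiplicative type. (Affine group schemes over an affine base are taken in
Hopf-algebra form; base change is the tensor product.) -/
theorem result (A : Type u) [CommRing A] [IsNoetherianRing A] (I : Ideal A) [IsAdicComplete I A]
    (C : Type u) [CommRing C] [HopfAlgebra A C] [Coalgebra.IsCocomm A C] [Module.Flat A C] (hft : Algebra.FiniteType A C)
    (h0 : IsIsotrivial (A ⧸ I) ((A ⧸ I) ⊗[A] C))
    (hfin : ∀ n : ℕ, 0 < n → Module.Finite A (C ⧸ torsionIdeal A C n)) :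
    IsIsotrivial A C := by
  obtain ⟨e, S, _, _, M, _, ψ, h1, h2, h3, hFG, he, heI, hψ, hker⟩ :=
    Groth.Agent.MultType.exists_split_part (I := I) hft (fun k => inferInstance) h0
  haveI := h1
  haveI := h2
  haveI := h3
  have hI := IsAdicComplete.le_jacobson_bot I
  obtain ⟨hH, -, -⟩ := Groth.Agent.MultType.isIsotrivial_split_part hI he heI S hFG ψ hψ hker
  haveI := hH
  rw [Groth.Agent.MultType.eq_zero_of_torsion_finite hI hft he heI S hFG ψ hψ hker hfin, TensorProduct.tmul_zero,
    Ideal.span_singleton_zero] at hker
  exact ⟨S, inferInstance, inferInstance, h1, h2, h3, M, inferInstance,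
    ⟨BialgEquiv.ofBijective ψ ⟨(RingHom.injective_iff_ker_eq_bot _).2 hker, hψ⟩⟩⟩

end Groth.Agent.S6058
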