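import Groth.Statements.S2980
import Groth.Agent.MultType.LiftForm
import Groth.Agent.Hensel.FiniteEtale
-- import your own Groth.Agent.* helpers here

set_option autoImplicit false
universe u
open TensorProduct SGA3b
open SGA3b

namespace Groth.Agent.S2980

/-- Let R be a Noetherian ring, separated and complete for the I-adic topology. Every isotrivial
(R/I)-group of multiplicative type Spec A₀ is the base change of some isotrivial R-group of
multiplicative type Spec A. (Affine group schemes over an affine base are taken in Hopf-algebra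
form; base change is the tensor product.) -/
theorem result (R : Type u) [CommRing R] [IsNoetherianRing R] (I : Ideal R) [IsAdicComplete I R]
    (A₀ : Type u) [CommRing A₀] [HopfAlgebra (R ⧸ I) A₀] (h0 : IsIsotrivial (R ⧸ I) A₀) :
    ∃ (A : Type u) (_ : CommRing A) (_ : HopfAlgebra R A), IsIsotrivial R A ∧ Nonempty (((R ⧸ I) ⊗[R] A) ≃ₐc[R ⧸ I] A₀) := by
  classical
  have hI : I ≤ Ideal.jacobson ⊥ := IsAdicComplete.le_jacobson_bot I
  haveI : HenselianRing R I := inferInstance
  obtain ⟨S₀, _, _, _, _, _, M, _, ⟨e⟩⟩ := h0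
  obtain ⟨S, _, _, _, _, ⟨ε⟩⟩ := Groth.Agent.Hensel.exists_finite_etale_lift (A := R) (I := I) S₀
  haveI : Module.Flat R S := Algebra.Smooth.flat R S
  have hff : Module.FaithfullyFlat R S := by
    refine { submodule_ne_top := fun {m} hm htop => ?_ }
    haveI := hm
    have hIm : I ≤ m := by
      intro x hx
      have h := hI hx
      rw [Ideal.jacobson, Ideal.mem_sInf] at h
      exact h ⟨bot_le, hm⟩
    have hm' : (m.map (Ideal.Quotient.mk I)).IsMaximal :=
      Ideal.IsMaximal.map_of_surjective_of_ker_le Ideal.Quotient.mk_surjective (by rwa [Ideal.mk_ker])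
    apply Module.FaithfullyFlat.submodule_ne_top (M := S₀) hm'
    rw [Ideal.smul_top_eq_map] at htop ⊢
    have h1 : (1 : S) ∈ (m.map (algebraMap R S) : Ideal S) := by
      have : (1 : S) ∈ Submodule.restrictScalars R (m.map (algebraMap R S)) := by rw [htop]; trivial
      exact this
    let Φ : S →+* S₀ := (ε : (R ⧸ I) ⊗[R] S →+* S₀).comp
      (Algebra.TensorProduct.includeRight : S →ₐ[R] (R ⧸ I) ⊗[R] S).toRingHom
    have hΦ : Φ.comp (algebraMap R S) = (algebraMap (R ⧸ I) S₀).comp (Ideal.Quotient.mk I) := RingHom.ext fun r => by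
      show ε ((Algebra.TensorProduct.includeRight : S →ₐ[R] (R ⧸ I) ⊗[R] S) (algebraMap R S r)) = _
      rw [AlgHom.commutes, IsScalarTower.algebraMap_apply R (R ⧸ I) ((R ⧸ I) ⊗[R] S), AlgEquiv.commutes]
      rfl
    have h2 := Ideal.mem_map_of_mem Φ h1
    rw [Ideal.map_map, map_one, hΦ, ← Ideal.map_map, ← Ideal.eq_top_iff_one] at h2
    rw [h2]
    rfl
  have hd : IsDiag ((R ⧸ I) ⊗[R] S) (((R ⧸ I) ⊗[R] S) ⊗[R ⧸ I] A₀) :=
    MultType.isDiag_of_algHom ε.symm.toAlgHom ⟨M, inferInstance, ⟨e⟩⟩
  obtain ⟨N, _, ⟨e₀⟩⟩ := hd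
  have hjac : ∀ (U : Type u) [CommRing U] [Algebra R U] [Module.Finite R U],
      I.map (algebraMap R U) ≤ Ideal.jacobson ⊥ := fun U _ _ _ => Hensel.map_le_jacobson_of_isIntegral hI
  obtain ⟨A, _, _, hd, he⟩ := MultType.LiftForm.exists_lift_form I A₀ S e₀ (hjac S) (hjac (S ⊗[R] S))
    (fun b hb => by
      obtain ⟨s, rfl⟩ : ∃ s : S ⊗[R] S, (1 : R ⧸ I) ⊗ₜ[R] s = b := by
        clear hb
        induction b using TensorProduct.induction_on with
        | zero => exact ⟨0, TensorProduct.tmul_zero _ _⟩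
        | tmul r s =>
          obtain ⟨r, rfl⟩ := Ideal.Quotient.mk_surjective r
          refine ⟨r • s, ?_⟩
          rw [TensorProduct.tmul_smul, TensorProduct.smul_tmul', Algebra.smul_def, mul_one]
          rfl
        | add x y hx hy =>
          obtain ⟨x, rfl⟩ := hx
          obtain ⟨y, rfl⟩ := hy
          exact ⟨x + y, TensorProduct.tmul_add _ _ _⟩
      have key : ∀ a b : S ⊗[R] S, (1 : R ⧸ I) ⊗ₜ[R] a = (1 : R ⧸ I) ⊗ₜ[R] b ↔
          a - b ∈ I.map (algebraMap R (S ⊗[R] S)) := by
        intro a b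
        rw [← (TensorProduct.quotTensorEquivQuotSMul (S ⊗[R] S) I).injective.eq_iff,
          TensorProduct.quotTensorEquivQuotSMul_mk_one_tmul, TensorProduct.quotTensorEquivQuotSMul_mk_one_tmul,
          Submodule.Quotient.eq, Ideal.smul_top_eq_map]
        rfl
      obtain ⟨u, hu, hus⟩ := Hensel.exists_idempotent_of_finite (A := R) (I := I) hI Hensel.gabberRoot
        (B := S ⊗[R] S) (b := s) ((key _ _).1 (by
          have h := hb.eq
          rwa [Algebra.TensorProduct.tmul_mul_tmul, one_mul] at h))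
      exact ⟨u, hu, (key _ _).2 hus⟩)
    (hjac (S ⊗[R] (S ⊗[R] S)))
  exact ⟨A, inferInstance, inferInstance, ⟨S, inferInstance, inferInstance, inferInstance, inferInstance, hff, hd⟩, he⟩

end Groth.Agent.S2980
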