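import Groth.Statements.S2983
import Groth.Agent.MultType.Torsion

set_option autoImplicit false
universe u
open TensorProduct SGA3b
open SGA3b

namespace Groth.Agent.S2983

open MultType

section
variable {R : Type u} [CommRing R] {R' : Type u} [CommRing R'] [Algebra R R']
  {B : Type u} [CommRing B] [HopfAlgebra R B] {N : Type u} [CommGroup N]
  (e : (R' ⊗[R] B) ≃ₐc[R'] MonoidAlgebra R' N)

lemma coef_mul_self {g : B} (hg : IsGroupLikeElem R g) (n : N) :
    coef e n g * coef e n g = coef e n g := by
  have h := congr($(coef_convMul_self e n) g)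
  simpa [LinearMap.convMul_apply, hg.comul_eq_tmul_self] using h

lemma coef_mul_ne {g : B} (hg : IsGroupLikeElem R g) {m n : N} (h : m ≠ n) :
    coef e m g * coef e n g = 0 := by
  have h := congr($(coef_convMul_ne e h) g)
  simpa [LinearMap.convMul_apply, hg.comul_eq_tmul_self] using h

lemma sum_coef {g : B} (hg : IsGroupLikeElem R g) {S : Finset N} (hS : (emb e g).coeff.support ⊆ S) :
    ∑ n ∈ S, coef e n g = 1 := by
  have h := counit_emb e g
  conv_lhs at h => rw [← MonoidAlgebra.sum_single (emb e g)]
  rw [Finsupp.sum, map_sum, hg.counit_eq_one, map_one] at h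
  rw [← h]
  simp only [MonoidAlgebra.counit_single, CommSemiring.counit_apply, ← coef_def]
  exact (Finset.sum_subset hS fun n _ hn => Finsupp.notMem_support_iff.1 hn).symm

/-- The annihilator of the difference of two group-like elements is generated, after the base change,
by the idempotent where they agree. -/
lemma exists_agree [Module.Flat R R'] {g h : B} (hg : IsGroupLikeElem R g) (hh : IsGroupLikeElem R h) :
    ∃ ε : R', ε * ε = ε ∧ (∀ n, coef e n g * coef e n h * ε = coef e n g * coef e n h) ∧
      Ideal.map (algebraMap R R') (Submodule.span R {g - h}).annihilator = Ideal.span {ε} := by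
  classical
  let S := (emb e g).coeff.support ∪ (emb e h).coeff.support
  let ε := ∑ n ∈ S, coef e n g * coef e n h
  have h0 : ∀ n ∉ S, coef e n g = 0 := fun n hn =>
    Finsupp.notMem_support_iff.1 fun hn' => hn (Finset.mem_union_left _ hn')
  have hε : ∀ n, coef e n g * ε = coef e n g * coef e n h := by
    intro n
    by_cases hn : n ∈ S
    · rw [Finset.mul_sum, Finset.sum_eq_single n
        (fun m _ hm => by rw [← mul_assoc, coef_mul_ne e hg (Ne.symm hm), zero_mul]) (absurd hn),
        ← mul_assoc, coef_mul_self e hg]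
    · rw [h0 n hn, zero_mul, zero_mul]
  have hε' : ∀ n, coef e n g * coef e n h * ε = coef e n g * coef e n h := fun n => by
    rw [mul_comm (coef e n g) (coef e n h), mul_assoc, hε, ← mul_assoc, mul_comm _ (coef e n g),
      mul_assoc, coef_mul_self e hh, mul_comm]
  have hεh : ∀ n, coef e n h * ε = coef e n g * coef e n h := by
    intro n
    by_cases hn : n ∈ S
    · rw [Finset.mul_sum, Finset.sum_eq_single n
        (fun m _ hm => by rw [mul_comm (coef e m g), ← mul_assoc, coef_mul_ne e hh (Ne.symm hm), zero_mul])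
        (absurd hn), mul_comm (coef e n g) (coef e n h), ← mul_assoc, coef_mul_self e hh]
    · have : coef e n h = 0 := Finsupp.notMem_support_iff.1 fun hn' => hn (Finset.mem_union_right _ hn')
      rw [this, zero_mul, mul_zero]
  have hεid : ε * ε = ε := by
    show (∑ n ∈ S, coef e n g * coef e n h) * ε = _
    rw [Finset.sum_mul]
    exact Finset.sum_congr rfl fun n _ => hε' n
  refine ⟨ε, hεid, hε', ?_⟩
  let x := g - h
  let u : R →ₗ[R] B := LinearMap.toSpanSingleton R B x
  have hker : (Submodule.span R {x}).annihilator = LinearMap.ker u := by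
    ext r
    rw [Submodule.mem_annihilator_span_singleton, LinearMap.mem_ker]
    rfl
  show Ideal.map _ (Submodule.span R {x}).annihilator = _
  refine le_antisymm (Ideal.map_le_iff_le_comap.2 fun r hr => ?_) ?_
  · rw [Submodule.mem_annihilator_span_singleton] at hr
    have hr' : ∀ n, algebraMap R R' r * coef e n g = algebraMap R R' r * coef e n h := by
      intro n
      have h1 : coef e n (r • g) = coef e n (r • h) := by
        rw [sub_eq_zero.1 (show r • g - r • h = 0 by rw [← smul_sub]; exact hr)]
      rw [map_smul, map_smul, Algebra.smul_def, Algebra.smul_def] at h1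
      exact h1
    rw [Ideal.mem_comap, Ideal.mem_span_singleton']
    refine ⟨algebraMap R R' r, ?_⟩
    show algebraMap R R' r * (∑ n ∈ S, _) = _
    rw [Finset.mul_sum]
    calc ∑ n ∈ S, algebraMap R R' r * (coef e n g * coef e n h)
        = ∑ n ∈ S, algebraMap R R' r * coef e n g := Finset.sum_congr rfl fun n _ => by
          rw [← mul_assoc, mul_comm _ (coef e n g), mul_assoc, ← hr' n, mul_comm (algebraMap R R' r),
            ← mul_assoc, coef_mul_self e hg, mul_comm]
      _ = algebraMap R R' r := by
          rw [← Finset.mul_sum, sum_coef e hg Finset.subset_union_left, _root_.mul_one]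
  · rw [Ideal.span_le, Set.singleton_subset_iff, hker]
    have hex := Module.Flat.lTensor_exact R' (LinearMap.exact_subtype_ker_map u)
    have hz : (u.lTensor R') (ε ⊗ₜ[R] (1 : R)) = 0 := by
      apply EquivLike.injective e
      rw [map_zero, LinearMap.lTensor_tmul, LinearMap.toSpanSingleton_apply, one_smul,
        show ε ⊗ₜ[R] x = ε • ((1 : R') ⊗ₜ[R] x) by simp [TensorProduct.smul_tmul'], map_smul]
      ext n
      show ε * coef e n x = 0
      rw [map_sub, mul_sub, mul_comm ε, mul_comm ε, hε, hεh, sub_self]
    obtain ⟨y, hy⟩ := (hex _).1 hz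
    have : ∀ z : R' ⊗[R] LinearMap.ker u,
        TensorProduct.rid R R' ((LinearMap.ker u).subtype.lTensor R' z) ∈
          Ideal.map (algebraMap R R') (LinearMap.ker u) := by
      intro z
      induction z using TensorProduct.induction_on with
      | zero => simp
      | tmul a b =>
        simp only [LinearMap.lTensor_tmul, Submodule.coe_subtype, TensorProduct.rid_tmul, Algebra.smul_def]
        exact Ideal.mul_mem_right _ _ (Ideal.mem_map_of_mem _ b.2)
      | add a b ha hb => rw [map_add, map_add]; exact Ideal.add_mem _ ha hb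
    have h2 := this y
    rw [hy, TensorProduct.rid_tmul, one_smul] at h2
    exact h2

end

section
variable {R : Type u} [CommRing R] {B : Type u} [CommRing B] [HopfAlgebra R B]

lemma le_of_map_le {t : Set R} (ht : Ideal.span t = ⊤) {K K0 : Ideal R}
    (h : ∀ f ∈ t, ∃ c : Chart R B, c.f = f ∧
      K.map (algebraMap R c.R') ≤ K0.map (algebraMap R c.R')) : K ≤ K0 := by
  intro x hx
  rw [← Ideal.Quotient.eq_zero_iff_mem]
  refine eq_zero_of_charts ht fun f hf => ?_
  obtain ⟨c, rfl, hc⟩ := h f hf
  refine c.exists_pow_smul_eq_zero ?_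
  apply (TensorProduct.tensorQuotEquivQuotSMul c.R' K0).injective
  rw [map_zero, TensorProduct.tensorQuotEquivQuotSMul_tmul_mk, Submodule.Quotient.mk_eq_zero,
    Ideal.smul_top_eq_map, Algebra.smul_def, _root_.mul_one]
  exact hc (Ideal.mem_map_of_mem _ hx)

lemma agree_dichotomy (hB : IsMultType R B) (hconn : ∀ e : R, IsIdempotentElem e → e = 0 ∨ e = 1)
    {g h : B} (hg : IsGroupLikeElem R g) (hh : IsGroupLikeElem R h) (hne : g ≠ h)
    (c : Chart R B) (n : c.M) : c.coef n g * c.coef n h = 0 := by
  set K := (Submodule.span R {g - h}).annihilator with hK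
  obtain ⟨s, hs, hc⟩ := exists_charts hB
  obtain ⟨t, hts, ht⟩ := Ideal.span_eq_top_iff_finite s |>.1 hs
  choose d hd using fun f : t => hc f.1 (hts f.2)
  choose ε hεid hε hεK using fun f : t => exists_agree (d f).e hg hh
  have hloc : ∀ f : t, ∃ K0 : Ideal R, K0.FG ∧ K0 ≤ K ∧
      K.map (algebraMap R (d f).R') ≤ K0.map (algebraMap R (d f).R') := by
    intro f
    have hm : ε f ∈ K.map (algebraMap R (d f).R') := by
      rw [hK, hεK f]; exact Ideal.mem_span_singleton_self _
    obtain ⟨T, hT, hgT⟩ := Submodule.mem_span_finite_of_mem_span hm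
    classical
    obtain ⟨T', hT', rfl⟩ := Finset.subset_set_image_iff.1 hT
    refine ⟨Ideal.span T', ⟨T', rfl⟩, Ideal.span_le.2 hT', ?_⟩
    rw [hK, hεK f, Ideal.span_le, Set.singleton_subset_iff, Ideal.map_span, SetLike.mem_coe]
    simpa using hgT
  choose K0 h0 h1 h2 using hloc
  have hfg : K.FG := by
    have : K = ⨆ f, K0 f := le_antisymm (le_of_map_le (B := B) ht fun f hf => ⟨d ⟨f, hf⟩, hd ⟨f, hf⟩,
      (h2 ⟨f, hf⟩).trans (Ideal.map_mono (le_iSup K0 _))⟩) (iSup_le h1)
    rw [this]
    exact Submodule.fg_iSup _ h0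
  have hidem : K * K = K := le_antisymm Ideal.mul_le_right (le_of_map_le (B := B) ht fun f hf => by
    refine ⟨d ⟨f, hf⟩, hd ⟨f, hf⟩, ?_⟩
    rw [Ideal.map_mul, hK, hεK ⟨f, hf⟩, Ideal.span_singleton_mul_span_singleton, hεid ⟨f, hf⟩])
  obtain ⟨r, hr, hKr⟩ := (Ideal.isIdempotentElem_iff_of_fg K hfg).1 hidem
  rcases hconn r hr with rfl | rfl
  · obtain ⟨ε', hε'id, hε', hεK'⟩ := exists_agree c.e hg hh
    rw [← hK, hKr, Ideal.submodule_span_eq, Ideal.map_span, Set.image_singleton, map_zero] at hεK'
    have : ε' = 0 := by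
      have hm := Ideal.mem_span_singleton_self ε'
      rw [← hεK'] at hm
      simpa using hm
    rw [← hε' n, this, mul_zero]
  · exfalso
    refine hne (sub_eq_zero.1 ?_)
    have h1 : (1 : R) ∈ K := by rw [hKr]; exact Submodule.mem_span_singleton_self _
    rw [hK, Submodule.mem_annihilator_span_singleton, one_smul] at h1
    exact h1

end

end Groth.Agent.S2983

namespace Groth.Agent.S2983

/-- Let R be a ring with connected spectrum (no idempotents other than 0 and 1), G = Spec A a
diagonalisable R-group of finite type, and H = Spec (A/J) a closed subgroup (J a Hopf ideal) which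
is of multiplicative type. Then H is diagonalisable. (Affine group schemes over an affine base are
taken in Hopf-algebra form; base change is the tensor product.) -/
theorem result (R : Type u) [CommRing R] (A : Type u) [CommRing A] [HopfAlgebra R A] [Nontrivial R] (hconn : ∀ e : R, IsIdempotentElem e → e = 0 ∨ e = 1)
    (hG : IsDiagFT R A) (J : Ideal A) [J.IsHopfIdeal R] (hH : IsMultType R (A ⧸ J)) : IsDiag R (A ⧸ J) := by
  obtain ⟨M, _, -, ⟨e⟩⟩ := hG
  let G : MonoidAlgebra R M →ₐc[R] A ⧸ J :=
    (Bialgebra.Quotient.mkBialgHom J).comp (e.symm : MonoidAlgebra R M →ₐc[R] A)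
  let θ : M →* A ⧸ J := (G : MonoidAlgebra R M →* A ⧸ J).comp (MonoidAlgebra.of R M)
  have hgl : ∀ m, IsGroupLikeElem R (θ m) := fun m => (MonoidAlgebra.isGroupLikeElem_single_one m).map G
  refine MultType.isDiag_of_hom θ hgl (eq_top_iff.2 fun z _ => ?_) ?_
  · obtain ⟨a, rfl⟩ := Ideal.Quotient.mk_surjective z
    have : ∀ y, G y ∈ Submodule.span R (Set.range θ) := by
      intro y
      induction y using MonoidAlgebra.induction_linear with
      | zero => simp
      | add a b ha hb => rw [map_add]; exact Submodule.add_mem _ ha hb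
      | single m r =>
        rw [show (MonoidAlgebra.single m r : MonoidAlgebra R M) = r • MonoidAlgebra.single m 1 by simp, map_smul]
        exact Submodule.smul_mem _ _ (Submodule.subset_span ⟨m, rfl⟩)
    have h2 : e.symm (e a) = a := e.symm_apply_apply _
    have h3 := this (e a)
    change Ideal.Quotient.mk J (e.symm (e a)) ∈ _ at h3
    rwa [h2] at h3
  · rw [LinearIndepOn, linearIndependent_iff']
    intro S r hr j hj
    refine MultType.eq_zero_of_forall_chart hH fun c => ?_
    apply (TensorProduct.rid R c.R').injective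
    rw [TensorProduct.rid_tmul, map_zero, Algebra.smul_def, _root_.mul_one]
    obtain ⟨m, hm⟩ := j.2
    have hgj : IsGroupLikeElem R (j : A ⧸ J) := hm ▸ hgl m
    have hkey : ∀ n, algebraMap R c.R' (r j) * c.coef n (j : A ⧸ J) = 0 := by
      intro n
      have h1 := congrArg (fun z : A ⧸ J => c.coef n z * c.coef n (j : A ⧸ J)) hr
      beta_reduce at h1
      rw [map_sum, Finset.sum_mul, Finset.sum_eq_single j _ (absurd hj), map_smul, map_zero, zero_mul,
        Algebra.smul_def, mul_assoc] at h1
      · rw [id, coef_mul_self c.e hgj] at h1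
        exact h1
      · intro i hi hij
        obtain ⟨mi, hmi⟩ := i.2
        rw [id, map_smul, smul_mul_assoc, agree_dichotomy hH hconn (hmi ▸ hgl mi) hgj
          (fun h => hij (Subtype.ext h)) c n, smul_zero]
    calc algebraMap R c.R' (r j)
        = algebraMap R c.R' (r j) * ∑ n ∈ (MultType.emb c.e (j : A ⧸ J)).coeff.support, c.coef n (j : A ⧸ J) := by
          rw [sum_coef c.e hgj le_rfl, _root_.mul_one]
      _ = 0 := by rw [Finset.mul_sum]; exact Finset.sum_eq_zero fun n _ => hkey n

end Groth.Agent.S2983
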