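import Groth.Statements.S2984
import Groth.Agent.MultType.Torsion

set_option autoImplicit false
universe u
open TensorProduct SGA3b
open SGA3b

namespace Groth.Agent.S2984

/-- Let R be a ring and G = Spec A an R-group scheme of multiplicative type and of finite type, with A a
Hopf algebra over R. Then A is finite over R if and only if the n-th power map of G is trivial for
some n > 0 (the kernel ₙG is all of G). (Affine group schemes over an affine base are taken in
Hopf-algebra form; base change is the tensor product.) -/
theorem result (R : Type u) [CommRing R] (A : Type u) [CommRing A] [HopfAlgebra R A] (hft : Algebra.FiniteType R A) (h : IsMultType R A) :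
    Module.Finite R A ↔ ∃ n : ℕ, 0 < n ∧ torsionIdeal R A n = ⊥ := by
  classical
  constructor
  · intro hfin
    obtain ⟨s, hs, hc⟩ := MultType.exists_charts h
    obtain ⟨t, hts, ht⟩ := Ideal.span_eq_top_iff_finite s |>.1 hs
    choose c hcf using fun f : t => hc f.1 (hts f.2)
    let d : t → ℕ := fun f => if hM : Finite (c f).M then Nat.card (c f).M else 1
    have hd : ∀ f, 0 < d f := fun f => by
      simp only [d]
      split_ifs
      · exact Nat.card_pos
      · exact Nat.one_pos
    refine ⟨∏ f : t, d f, Finset.prod_pos fun f _ => hd f, le_bot_iff.1 ?_⟩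
    rw [MultType.torsionIdeal_le_iff]
    intro a
    rw [Ideal.mem_bot]
    refine MultType.eq_zero_of_charts ht fun f hf => ?_
    have hf' : ∃ m : t, f = (c m).f := ⟨⟨f, hf⟩, (hcf ⟨f, hf⟩).symm⟩
    obtain ⟨m, rfl⟩ := hf'
    refine (c m).exists_pow_smul_eq_zero (MultType.tmul_eq_zero (c m).e fun k => ?_)
    rcases subsingleton_or_nontrivial (c m).R' with _ | _
    · exact Subsingleton.elim _ _
    haveI : Module.Finite (c m).R' (MonoidAlgebra (c m).R' (c m).M) :=
      Module.Finite.equiv ((c m).e : ((c m).R' ⊗[R] A) ≃ₐ[(c m).R'] MonoidAlgebra (c m).R' (c m).M).toLinearEquiv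
    haveI hM : Finite (c m).M := Module.Finite.finite_basis (MonoidAlgebra.basis (c m).M (c m).R')
    obtain ⟨q, hq⟩ : d m ∣ ∏ f : t, d f := Finset.dvd_prod_of_mem _ (Finset.mem_univ m)
    have hpw : (MultType.pw (∏ f : t, d f) : MonoidAlgebra (c m).R' (c m).M →ₐ[(c m).R'] _) =
        (Algebra.ofId (c m).R' _).comp (Bialgebra.counitAlgHom (c m).R' _) :=
      MonoidAlgebra.algHom_ext' (MonoidHom.ext fun x => by
        have : x ^ d m = 1 := by simp only [d, dif_pos hM]; exact pow_card_eq_one'
        have h' : x ^ (∏ f : t, d f) = 1 := by rw [hq, pow_mul, this, one_pow]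
        show MultType.pw (∏ f : t, d f) (MonoidAlgebra.single x 1) =
          algebraMap (c m).R' _ (Bialgebra.counitAlgHom (c m).R' _ (MonoidAlgebra.single x 1))
        rw [MultType.pw_single, h']
        simp [MonoidAlgebra.one_def]) (by ext)
    show MultType.coef (c m).e k _ = 0
    rw [MultType.coef_def, map_sub, MultType.emb_powConv, hpw, AlgHom.commutes]
    show ((algebraMap (c m).R' _ (Coalgebra.counit (R := (c m).R') (MultType.emb (c m).e a))) - _ :
      MonoidAlgebra (c m).R' (c m).M).coeff k = 0
    rw [MultType.counit_emb, ← IsScalarTower.algebraMap_apply, sub_self]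
    simp
  · rintro ⟨n, hn, hJ⟩
    refine MultType.finite_of_charts h fun c => ?_
    rcases subsingleton_or_nontrivial c.R' with _ | _
    · haveI : Subsingleton (c.R' ⊗[R] A) := Module.subsingleton c.R' _
      infer_instance
    haveI := MultType.fg_of_finiteType hft c.e
    have hpw : (MultType.pw n : MonoidAlgebra c.R' c.M →ₐ[c.R'] _) =
        (Algebra.ofId c.R' _).comp (Bialgebra.counitAlgHom c.R' _) :=
      MultType.algHom_ext_emb c.e fun a => by
        have h0 : powConv R A n a = algebraMap R A (Coalgebra.counit a) := by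
          rw [← sub_eq_zero, ← Ideal.mem_bot, ← hJ]
          exact MultType.powConv_sub_mem n a
        rw [← MultType.emb_powConv, h0, AlgHom.commutes]
        show _ = algebraMap c.R' _ (Coalgebra.counit (R := c.R') (MultType.emb c.e a))
        rw [MultType.counit_emb, ← IsScalarTower.algebraMap_apply]
    have htor : Monoid.IsTorsion c.M := fun x => isOfFinOrder_iff_pow_eq_one.2 ⟨n, hn, by
      have h1 := congr($hpw (MonoidAlgebra.single x 1))
      simp [MonoidAlgebra.one_def] at h1
      exact MonoidAlgebra.single_left_injective one_ne_zero h1⟩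
    haveI : Finite c.M := CommGroup.finite_of_fg_torsion c.M htor
    haveI : Module.Finite c.R' (MonoidAlgebra c.R' c.M) :=
      Module.Finite.of_basis (MonoidAlgebra.basis c.M c.R')
    exact Module.Finite.equiv (c.e : (c.R' ⊗[R] A) ≃ₐ[c.R'] MonoidAlgebra c.R' c.M).toLinearEquiv.symm

end Groth.Agent.S2984
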