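import Groth.Statements.S2993
import Groth.Agent.S5414
import Groth.Agent.GrpHomLib.Artinian


set_option autoImplicit false
set_option backward.isDefEq.respectTransparency false
set_option linter.style.haveILetI false
universe u
open Par

namespace Groth.Agent.S2993

open AlgebraicGeometry CategoryTheory MonObj MonoidalCategory CartesianMonoidalCategory in
/-- In the case proved in the text (G smooth over S; the editors note that flatness suffices): let S be
a locally Noetherian scheme of dimension ≤ 1, G and H two S-group schemes of finite type and f : G →
H a homomorphism of S-groups which is quasi-finite and separated. If G is smooth over S then f is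
affine. -/
theorem result {S : Scheme.{u}} [IsLocallyNoetherian S] (hS : topologicalKrullDim S ≤ 1)
    (G H : Over S) [GrpObj G] [GrpObj H] [LocallyOfFiniteType G.hom] [QuasiCompact G.hom] [LocallyOfFiniteType H.hom] [QuasiCompact H.hom]
    [Smooth G.hom] (f : G ⟶ H) [IsMonHom f] [LocallyQuasiFinite f.left] [QuasiCompact f.left] [IsSeparated f.left] :
    IsAffineHom f.left := by
  refine Groth.Agent.S5414.result S hS G H f fun s => ?_
  let m : Spec (CommRingCat.of (S.residueField s)) ⟶ S := S.fromSpecResidueField s
  let F := Over.pullback m
  letI : GrpObj (F.obj G) := Functor.grpObjObj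
  letI : GrpObj (F.obj H) := Functor.grpObjObj
  haveI : LocallyOfFiniteType (F.obj G).hom :=
    MorphismProperty.pullback_snd G.hom m (inferInstance : LocallyOfFiniteType G.hom)
  haveI : LocallyOfFiniteType (F.obj H).hom :=
    MorphismProperty.pullback_snd H.hom m (inferInstance : LocallyOfFiniteType H.hom)
  have sq : IsPullback (Limits.pullback.fst G.hom m) (F.map f).left f.left (Limits.pullback.fst H.hom m) := by
    refine IsPullback.of_bot (v₂₁ := Limits.pullback.snd H.hom m) (v₂₂ := H.hom) (h₃₁ := m) ?_ ?_
      (IsPullback.of_hasPullback H.hom m)
    · rw [show (F.map f).left ≫ Limits.pullback.snd H.hom m = Limits.pullback.snd G.hom m from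
        Limits.pullback.lift_snd _ _ _, Over.w f]
      exact IsPullback.of_hasPullback G.hom m
    · exact (Limits.pullback.lift_fst _ _ _).symm
  haveI : IsMonHom (F.map f) := inferInstance
  haveI : QuasiCompact (F.map f).left := MorphismProperty.of_isPullback (P := @QuasiCompact) sq ‹_›
  haveI : LocallyQuasiFinite (F.map f).left := MorphismProperty.of_isPullback (P := @LocallyQuasiFinite) sq ‹_›
  haveI : LocallyOfFiniteType ((F.map f).left ≫ (F.obj H).hom) := by rw [Over.w (F.map f)]; infer_instance
  haveI : LocallyOfFiniteType (F.map f).left := locallyOfFiniteType_of_comp _ (F.obj H).hom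
  haveI : QuasiCompact (Limits.pullback.snd (F.map f).left η[F.obj H].left) :=
    MorphismProperty.pullback_snd _ _ (inferInstance : QuasiCompact (F.map f).left)
  haveI : LocallyQuasiFinite (Limits.pullback.snd (F.map f).left η[F.obj H].left) :=
    MorphismProperty.pullback_snd _ _ (inferInstance : LocallyQuasiFinite (F.map f).left)
  haveI : IsLocallyArtinian (𝟙_ (Over (Spec (CommRingCat.of (S.residueField s))))).left :=
    inferInstanceAs (IsLocallyArtinian (Spec (CommRingCat.of (S.residueField s))))
  exact Groth.Agent.GrpHomLib.isFinite_of_ker (F.map f) (IsFinite.of_locallyQuasiFinite _)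


end Groth.Agent.S2993
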