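import Groth.Statements.S3006
import Groth.Agent.FixedSmooth.NormalizerLocal
-- import your own Groth.Agent.* helpers here

set_option autoImplicit false
set_option backward.isDefEq.respectTransparency false
set_option backward.isDefEq.respectTransparency.types false
universe u
open CategoryTheory MonoidalCategory CartesianMonoidalCategory MonObj GrpObj AlgebraicGeometry
open Red

namespace Groth.Agent.S3006

/-- Let S be a scheme, G an S-group scheme smooth and of finite presentation over S, and q : Q → G a
closed subgroup scheme which is a torus. Then the centralizer and the normalizer of Q in G exist as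
closed subgroup schemes of G (characterized on points as in `Red.IsCentralizerOf` /
`Red.IsNormalizerOf`) and are smooth over S. -/
theorem result (S : Scheme.{u}) (G Q : Over S) [GrpObj G] [GrpObj Q] [Smooth G.hom] [LocallyOfFinitePresentation G.hom] [QuasiCompact G.hom] [QuasiSeparated G.hom] (q : Q ⟶ G) [IsMonHom q] (hq : IsClosedImmersion q.left) (hQ : Red.IsTorus Q) : (∃ (Z : Over S) (_ : GrpObj Z) (z : Z ⟶ G), Red.IsCentralizerOf q z ∧ IsClosedImmersion z.left ∧ Smooth Z.hom) ∧ ∃ (N : Over S) (_ : GrpObj N) (n : N ⟶ G), Red.IsNormalizerOf q n ∧ IsClosedImmersion n.left ∧ Smooth N.hom := by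
  haveI := hq
  haveI : Mono q := ⟨fun a b e => Over.OverMorphism.ext ((cancel_mono q.left).1 (congrArg CommaMorphism.left e))⟩
  obtain ⟨S', c, h₁, h₂, h₃, h⟩ := hQ
  have hT : Groth.Agent.WeilClosedLib.IsMultTypeLoc Q := ⟨S', c, h₁, h₂, h₃, fun s' => by
    obtain ⟨U, hU, r, e⟩ := h s'
    exact ⟨U, hU, Fin r → ℤ, inferInstance, e⟩⟩
  haveI := FixedSmooth.isAffineHom_of_isMultTypeLoc hT
  haveI : IsSeparated Q.hom := inferInstance
  haveI := FixedSmooth.isSeparated_of_closed_subgroup q
  haveI : LocallyOfFinitePresentation Q.hom := FixedSmooth.locallyOfFinitePresentation_of_isMultTypeFT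
    ⟨S', c, h₁, h₂, h₃, fun s' => by
      obtain ⟨U, hU, r, e⟩ := h s'
      exact ⟨U, hU, Fin r → ℤ, inferInstance, inferInstance, e⟩⟩
  exact ⟨FixedSmooth.exists_smooth_centralizer_separated hT q,
    FixedSmooth.exists_smooth_normalizer_closed hT inferInstance q⟩

end Groth.Agent.S3006
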