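import Groth.Statements.S3014
import Groth.Agent.AlgClosIsoLib.Basic
-- import your own Groth.Agent.* helpers here

set_option autoImplicit false
set_option backward.isDefEq.respectTransparency false
set_option backward.isDefEq.respectTransparency.types false
set_option maxHeartbeats 1000000
universe u
open CategoryTheory MonoidalCategory CartesianMonoidalCategory MonObj GrpObj AlgebraicGeometry
open Red

namespace Groth.Agent.S3014

/-- (i)⇒(ii): Let G and G' be reductive S-groups and f : S' → S a surjective morphism such that the base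
changes of G and G' to S' are isomorphic as group schemes. Then for every s ∈ S the geometric fibres
G_{s̄} and G'_{s̄} are isomorphic. -/
theorem result (S : Scheme.{u}) (G G' : Over S) [GrpObj G] [GrpObj G'] (hG : Red.IsReductive G) (hG' : Red.IsReductive G') (S' : Scheme.{u}) (f : S' ⟶ S) [Surjective f] (hiso : Nonempty (Grp.mk (Red.bc f G) ≅ Grp.mk (Red.bc f G'))) (s : S) : Nonempty (Grp.mk (Red.geomFibre s G) ≅ Grp.mk (Red.geomFibre s G')) := by
  obtain ⟨s', rfl⟩ := f.surjective s
  obtain ⟨e⟩ := hiso
  haveI := hG.1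
  haveI := hG'.1
  haveI := hG.2.1
  haveI := hG'.2.1
  let κ := S.residueField (f s')
  let K := AlgebraicClosure κ
  let κ' := S'.residueField s'
  let Ω := AlgebraicClosure κ'
  letI : Algebra κ Ω := ((algebraMap κ' Ω).comp (f.residueFieldMap s').hom).toAlgebra
  let φ : K →ₐ[κ] Ω := IsAlgClosed.lift
  letI : Algebra K Ω := φ.toRingHom.toAlgebra
  let p : Spec (CommRingCat.of Ω) ⟶ S' :=
    Spec.map (CommRingCat.ofHom (algebraMap κ' Ω)) ≫ S'.fromSpecResidueField s'
  have hsq : p ≫ f = Groth.Agent.AlgClosIso.sp K Ω ≫ Red.geomPt (f s') := by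
    simp only [p, Category.assoc, Red.geomPt]
    rw [← Scheme.Hom.SpecMap_residueFieldMap_fromSpecResidueField, ← Category.assoc, ← Spec.map_comp,
      ← Category.assoc, ← Spec.map_comp]
    congr 2
    exact (CommRingCat.hom_ext φ.comp_algebraMap).symm
  haveI : IsAffine (Red.geomFibre (f s') G).left := Groth.Agent.AlgClosIso.isAffine_bc _ G
  haveI : IsAffine (Red.geomFibre (f s') G').left := Groth.Agent.AlgClosIso.isAffine_bc _ G'
  haveI : LocallyOfFiniteType (Red.geomFibre (f s') G).hom := MorphismProperty.pullback_snd _ _ inferInstance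
  haveI : LocallyOfFiniteType (Red.geomFibre (f s') G').hom := MorphismProperty.pullback_snd _ _ inferInstance
  exact Groth.Agent.AlgClosIso.nonempty_iso (K := K) (Ω := Ω) _ _
    (Groth.Agent.HomDesc.bcGrpIso _ _ rfl G ≪≫ (Groth.Agent.HomDesc.bcGrpIso p f hsq G).symm ≪≫
      (Over.pullback p).mapGrp.mapIso e ≪≫ Groth.Agent.HomDesc.bcGrpIso p f hsq G' ≪≫
      (Groth.Agent.HomDesc.bcGrpIso _ _ rfl G').symm)

end Groth.Agent.S3014
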