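import Groth.Statements.S3015
import Groth.Agent.GrpSchLib.Component
import Groth.Prelude.Def_Red

set_option autoImplicit false
universe u
open CategoryTheory MonoidalCategory CartesianMonoidalCategory MonObj GrpObj AlgebraicGeometry TensorProduct
open SGA3

namespace Groth.Agent.S3015

/-- The field case. -/
theorem mul_dense {K : Type u} [Field K] (H : Over (Spec (CommRingCat.of K))) [GrpObj H] (U V : Set H.left)
    (hUo : IsOpen U) (hVo : IsOpen V) (hU : Dense U) (hV : Dense V) (g : H.left) :
    ∃ z : ↥(H ⊗ H).left, (fst H H).left z ∈ U ∧ (snd H H).left z ∈ V ∧ μ[H].left z = g := by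
  let T := H ⊗ GrpSchLib.ptObj g
  let c : T ⟶ H := snd _ _ ≫ GrpSchLib.ptHom g
  let f : T ⟶ H := fst _ _
  let v : T ⟶ H := f⁻¹ * c
  let φ : T ≅ T :=
    { hom := lift v (snd _ _)
      inv := lift (c * f⁻¹) (snd _ _)
      hom_inv_id := by
        apply CartesianMonoidalCategory.hom_ext
        · rw [Category.assoc, lift_fst, MonObj.comp_mul, GrpObj.comp_inv, lift_fst, ← Category.assoc,
            lift_snd, Category.id_comp]
          simp [v, c, f]
        · simp
      inv_hom_id := by
        apply CartesianMonoidalCategory.hom_ext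
        · rw [Category.assoc, lift_fst, MonObj.comp_mul, GrpObj.comp_inv, lift_fst, ← Category.assoc,
            lift_snd, Category.id_comp]
          simp [c, f]
        · simp }
  haveI : UniversallyOpen f.left :=
    MorphismProperty.of_isPullback (P := @UniversallyOpen) GrpSchLib.isPullback_fst_snd.flip inferInstance
  haveI : IsIso φ.hom.left := ((CategoryTheory.Over.forget _).mapIso φ).isIso_hom
  have hv : IsOpenMap v.left := by
    rw [show v = φ.hom ≫ f from (lift_fst _ _).symm, Over.comp_left, Scheme.Hom.comp_base, TopCat.coe_comp]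
    exact f.left.isOpenMap.comp φ.hom.left.homeomorph.isOpenMap
  obtain ⟨pt⟩ : Nonempty (GrpSchLib.ptObj g).left := inferInstance
  haveI : Nonempty H.left := ⟨g⟩
  obtain ⟨t₀, -⟩ := GrpSchLib.surjective_snd (G := GrpSchLib.ptObj g) H pt
  haveI : Nonempty T.left := ⟨t₀⟩
  have hd : Dense (f.left ⁻¹' U ∩ v.left ⁻¹' V) :=
    (hU.preimage f.left.isOpenMap).inter_of_isOpen_left (hV.preimage hv) (hUo.preimage f.left.continuous)
  obtain ⟨t, htU, htV⟩ := hd.nonempty
  refine ⟨(lift f v).left t, ?_, ?_, ?_⟩
  · rw [← Scheme.Hom.comp_apply, ← Over.comp_left, lift_fst]; exact htU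
  · rw [← Scheme.Hom.comp_apply, ← Over.comp_left, lift_snd]; exact htV
  · rw [← Scheme.Hom.comp_apply, ← Over.comp_left, ← Hom.mul_def, show f * v = c from mul_inv_cancel_left f c,
      Over.comp_left, Scheme.Hom.comp_apply]
    exact GrpSchLib.ptHom_apply g _

/-- Let A be a local artinian ring, G a group scheme over A, and U, V dense open subsets of G. Then U ·
V, the image of U ×_A V under the multiplication, is the whole underlying space of G: every point of
G is the product of a point of G ×_A G whose two projections lie in U and V. -/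
theorem result (A : Type u) [CommRing A] [IsArtinianRing A] [IsLocalRing A]
    (G : Over (Spec (CommRingCat.of A))) [GrpObj G] (U V : G.left.Opens)
    (hU : Dense (U : Set G.left)) (hV : Dense (V : Set G.left)) (g : G.left) :
    ∃ z : ↥(G ⊗ G).left, (fst G G).left.base z ∈ U ∧ (snd G G).left.base z ∈ V ∧ μ[G].left.base z = g := by
  let j : Spec (CommRingCat.of (IsLocalRing.ResidueField A)) ⟶ Spec (CommRingCat.of A) :=
    Spec.map (CommRingCat.ofHom (IsLocalRing.residue A))
  haveI : IsClosedImmersion j := IsClosedImmersion.spec_of_surjective _ Ideal.Quotient.mk_surjective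
  haveI : Surjective j := ⟨fun p => ⟨IsLocalRing.closedPoint (IsLocalRing.ResidueField A), Subsingleton.elim (α := PrimeSpectrum A) _ _⟩⟩
  let p := Limits.pullback.fst G.hom j
  haveI : IsClosedImmersion p :=
    MorphismProperty.of_isPullback (P := @IsClosedImmersion) (IsPullback.of_hasPullback G.hom j).flip inferInstance
  haveI : Surjective p :=
    MorphismProperty.of_isPullback (P := @Surjective) (IsPullback.of_hasPullback G.hom j).flip inferInstance
  let e := p.isEmbedding.toHomeomorphOfSurjective p.surjective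
  obtain ⟨g', rfl⟩ := p.surjective g
  obtain ⟨z, hz1, hz2, hz3⟩ := mul_dense (Red.bc j G) (p ⁻¹' (U : Set G.left)) (p ⁻¹' (V : Set G.left))
    (U.2.preimage p.continuous) (V.2.preimage p.continuous) (hU.preimage e.isOpenMap) (hV.preimage e.isOpenMap) g'
  let F := CategoryTheory.Over.pullback j
  let w : (Red.bc j G ⊗ Red.bc j G).left ⟶ (G ⊗ G).left :=
    (Functor.LaxMonoidal.μ F G G).left ≫ Limits.pullback.fst (G ⊗ G).hom j
  have hw : ∀ (h : G ⊗ G ⟶ G), w ≫ h.left = (Functor.LaxMonoidal.μ F G G ≫ F.map h).left ≫ p := fun h => by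
    rw [Over.comp_left, Category.assoc, Category.assoc,
      show (F.map h).left ≫ p = Limits.pullback.fst (G ⊗ G).hom j ≫ h.left from Limits.pullback.lift_fst _ _ _]
  refine ⟨w z, ?_, ?_, ?_⟩
  · show (w ≫ (fst G G).left) z ∈ U
    rw [hw, show Functor.LaxMonoidal.μ F G G ≫ F.map (fst G G) = fst (F.obj G) (F.obj G) by simp]
    exact hz1
  · show (w ≫ (snd G G).left) z ∈ V
    rw [hw, show Functor.LaxMonoidal.μ F G G ≫ F.map (snd G G) = snd (F.obj G) (F.obj G) by simp]
    exact hz2
  · show (w ≫ μ[G].left) z = _
    rw [hw, Scheme.Hom.comp_apply]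
    exact congrArg p hz3

end Groth.Agent.S3015
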