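import Groth.Statements.S3019
import Groth.Agent.Comodule.LineStab
-- import your own Groth.Agent.* helpers here

set_option autoImplicit false
universe u
open CategoryTheory MonoidalCategory CartesianMonoidalCategory MonObj GrpObj AlgebraicGeometry TensorProduct
open SGA3

namespace Groth.Agent.S3019

/-- Let A be a finitely generated commutative Hopf algebra over a field k (an affine algebraic k-group
G) and I a Hopf ideal (a closed subgroup scheme H). Then there are a finite-dimensional A-comodule V
and a nonzero vector v ∈ V such that, for every k-algebra R, an R-point of G kills I exactly when it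
carries v to an R-multiple of v: H is the stabilizer of the line through v. -/
theorem result (k : Type u) [Field k] (A : Type u) [CommRing A] [HopfAlgebra k A]
    [Algebra.FiniteType k A] (I : Ideal A) [I.IsHopfIdeal k] :
    ∃ (V : Type u) (_ : AddCommGroup V) (_ : Module k V) (_ : HopfRep.Comod k A V) (_ : Module.Finite k V) (v : V),
      v ≠ 0 ∧ Dyn.Represents k A I (fun R _ _ g => SGA3.StabilizesLine k A v R g) := by
  let π : A →ₐc[k] A ⧸ I := Bialgebra.Quotient.mkBialgHom I
  have hker : RingHom.ker (π : A →+* A ⧸ I) = I := Ideal.mk_ker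
  haveI : IsNoetherianRing A := Algebra.FiniteType.isNoetherianRing k A
  obtain ⟨V, i1, i2, c, i3, v, χ, hv, -, hχ, hst⟩ := Comodule.exists_line_stabilizer π
  refine ⟨V, i1, i2, c, i3, v, hv, fun R _ _ g => ⟨fun hg => ?_, fun hg a ha => hst R g hg a (hker.symm ▸ ha)⟩⟩
  let g' : (A ⧸ I) →ₐ[k] R := Ideal.Quotient.liftₐ I g hg
  refine ⟨g' χ, ?_⟩
  have hcomp : g.toLinearMap = g'.toLinearMap ∘ₗ (π : A →ₐ[k] A ⧸ I).toLinearMap := by
    ext a; rfl
  rw [hcomp, LinearMap.lTensor_comp, LinearMap.comp_apply]
  rw [show LinearMap.lTensor V (π : A →ₐ[k] A ⧸ I).toLinearMap (c.coact v) = v ⊗ₜ[k] χ from hχ]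
  rfl

end Groth.Agent.S3019
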