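import Groth.Statements.S3021
import Groth.Agent.Comodule.Basic
-- import your own Groth.Agent.* helpers here

set_option autoImplicit false
set_option backward.isDefEq.respectTransparency false
universe u
open CategoryTheory MonoidalCategory CartesianMonoidalCategory MonObj GrpObj AlgebraicGeometry TensorProduct
open SGA3

namespace Groth.Agent.S3021

theorem eq_zero_of_rcon_proj {k : Type u} [CommRing k] {C : Type u} [AddCommGroup C] [Module k C]
    [Module.Projective k C] {M : Type u} [AddCommGroup M] [Module k M] {x : M ⊗[k] C}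
    (h : ∀ f : C →ₗ[k] k, Groth.Agent.Comodule.rcon f x = 0) : x = 0 := by
  obtain ⟨s, hs⟩ := (Module.projective_def'.mp (inferInstance : Module.Projective k C))
  have h1 : s.lTensor M x = 0 := Groth.Agent.Comodule.eq_zero_of_rcon fun f => by
    rw [Groth.Agent.Comodule.rcon_lTensor]; exact h _
  have h2 := congrArg ((Finsupp.linearCombination k id).lTensor M) h1
  rwa [← LinearMap.lTensor_comp_apply, hs, LinearMap.lTensor_id_apply, map_zero] at h2

/-- Let A be a commutative ring, C an A-coalgebra which is projective as an A-module, V a C-comodule and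
M an A-submodule of V. Then there is a smallest subcomodule of V containing M, and it is finitely
generated over A when M is. -/
theorem result (A : Type u) [CommRing A] (C : Type u) [AddCommGroup C] [Module A C]
    [Coalgebra A C] [Module.Projective A C] (V : Type u) [AddCommGroup V] [Module A V] [HopfRep.Comod A C V]
    (M : Submodule A V) :
    ∃ W : Submodule A V, HopfRep.IsSubcomod (k := A) (A := C) W ∧ M ≤ W ∧
      (∀ W' : Submodule A V, HopfRep.IsSubcomod (k := A) (A := C) W' → M ≤ W' → W ≤ W') ∧
      (M.FG → W.FG) := by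
  classical
  let ρ := HopfRep.Comod.coact (k := A) (A := C) (V := V)
  let W : Submodule A V := Submodule.span A {w | ∃ (f : C →ₗ[A] A) (v : V), v ∈ M ∧ Groth.Agent.Comodule.dact f v = w}
  have hMW : M ≤ W := fun v hv => Submodule.subset_span ⟨_, v, hv, Groth.Agent.Comodule.dact_one v⟩
  have hstab : ∀ (g : C →ₗ[A] A), W ≤ W.comap (Groth.Agent.Comodule.dact g) := by
    intro g
    rw [Submodule.span_le]
    rintro _ ⟨f, v, hv, rfl⟩
    exact Submodule.subset_span ⟨_, v, hv, Groth.Agent.Comodule.dact_mul g f v⟩
  refine ⟨W, fun w hw => ?_, hMW, fun W' hW' hMW' => ?_, fun hfg => ?_⟩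
  · have hx : W.mkQ.rTensor C (ρ w) = 0 := eq_zero_of_rcon_proj fun f => by
      rw [Groth.Agent.Comodule.rcon_rTensor, Submodule.mkQ_apply, Submodule.Quotient.mk_eq_zero]
      exact hstab f hw
    exact ((rTensor_exact C (LinearMap.exact_subtype_mkQ W) W.mkQ_surjective) (ρ w)).mp hx
  · rw [Submodule.span_le]
    rintro _ ⟨f, v, hv, rfl⟩
    obtain ⟨y, hy⟩ := hW' v (hMW' hv)
    show Groth.Agent.Comodule.rcon f (HopfRep.Comod.coact (k := A) (A := C) v) ∈ W'
    rw [← hy, Groth.Agent.Comodule.rcon_rTensor]
    exact SetLike.coe_mem _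
  · obtain ⟨S, hS⟩ := hfg
    choose T hT using fun v : V => TensorProduct.exists_finset (ρ v)
    let U : Submodule A V := Submodule.span A ((S.biUnion fun v => (T v).image Prod.fst : Finset V) : Set V)
    have hU : ∀ v ∈ M, ∀ f : C →ₗ[A] A, Groth.Agent.Comodule.dact f v ∈ U := by
      intro v hv f
      rw [← hS] at hv
      refine (Submodule.span_le (p := U.comap (Groth.Agent.Comodule.dact f))).mpr ?_ hv
      intro s hs
      show Groth.Agent.Comodule.rcon f (ρ s) ∈ U
      rw [hT s, map_sum]
      refine Submodule.sum_mem _ fun p hp => ?_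
      rw [Groth.Agent.Comodule.rcon_tmul]
      refine Submodule.smul_mem _ _ (Submodule.subset_span ?_)
      exact Finset.mem_biUnion.mpr ⟨s, hs, Finset.mem_image_of_mem _ hp⟩
    have hWU : W ≤ U := Submodule.span_le.mpr (by rintro _ ⟨f, v, hv, rfl⟩; exact hU v hv f)
    -- finitely many dual-basis functionals detect W
    obtain ⟨s, hs⟩ := (Module.projective_def'.mp (inferInstance : Module.Projective A C))
    let co : C → (C →ₗ[A] A) := fun c => Finsupp.lapply c ∘ₗ s
    let J : Finset C := S.biUnion fun v => (T v).biUnion fun p => (s p.2).support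
    let Q : Finset V := (S ×ˢ J).image (fun q : V × C => Groth.Agent.Comodule.dact (co q.2) q.1)
    refine ⟨Q, le_antisymm ?_ ?_⟩
    · rw [Submodule.span_le]
      intro x hx
      rw [Finset.mem_coe, Finset.mem_image] at hx
      obtain ⟨⟨v, c⟩, hq, rfl⟩ := hx
      exact Submodule.subset_span ⟨_, v, by rw [← hS]; exact Submodule.subset_span (Finset.mem_product.mp hq).1, rfl⟩
    · rw [Submodule.span_le]
      rintro _ ⟨f, v, hv, rfl⟩
      rw [← hS] at hv
      let P : Submodule A V := Submodule.comap (Groth.Agent.Comodule.dact f) (Submodule.span A (Q : Set V))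
      suffices hSP : (S : Set V) ⊆ P from Submodule.span_le.mpr hSP hv
      intro v hv
      have key : Groth.Agent.Comodule.dact f v = ∑ c ∈ J, f c • Groth.Agent.Comodule.dact (co c) v := by
        show Groth.Agent.Comodule.rcon f (ρ v) = ∑ c ∈ J, f c • Groth.Agent.Comodule.rcon (co c) (ρ v)
        rw [hT v]
        simp only [map_sum, Groth.Agent.Comodule.rcon_tmul, Finset.smul_sum]
        rw [Finset.sum_comm]
        refine Finset.sum_congr rfl fun p hp => ?_
        simp only [smul_smul, ← Finset.sum_smul]
        congr 1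
        conv_lhs => rw [← show Finsupp.linearCombination A id (s p.2) = p.2 from LinearMap.congr_fun hs p.2,
          Finsupp.linearCombination_apply, Finsupp.sum, map_sum]
        refine Finset.sum_subset_zero_on_sdiff
          (fun c hc => Finset.mem_biUnion.mpr ⟨v, hv, Finset.mem_biUnion.mpr ⟨p, hp, hc⟩⟩)
          (fun c hc => ?_) (fun c hc => ?_)
        · have : s p.2 c = 0 := Finsupp.notMem_support_iff.mp (Finset.mem_sdiff.mp hc).2
          simp [co, this]
        · simp [co, mul_comm]
      show Groth.Agent.Comodule.dact f v ∈ Submodule.span A (Q : Set V)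
      rw [key]
      refine Submodule.sum_mem _ fun c hc => Submodule.smul_mem _ _ (Submodule.subset_span ?_)
      exact Finset.mem_image.mpr ⟨(v, c), Finset.mem_product.mpr ⟨hv, hc⟩, rfl⟩

end Groth.Agent.S3021
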