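import Groth.Statements.S3024
import Groth.Agent.MonoFibre.SchemeImage
import Groth.Agent.SpreadOut.Components
-- import your own Groth.Agent.* helpers here

set_option autoImplicit false
universe u
open CategoryTheory MonoidalCategory CartesianMonoidalCategory MonObj GrpObj AlgebraicGeometry TensorProduct
open SGA3

open CategoryTheory.Limits

namespace Groth.Agent.S3024

/-- A nonempty scheme has a point without proper generalization. -/
theorem exists_maximal_point (X : Scheme.{u}) [Nonempty X] : ∃ ξ₀ : X, ∀ x : X, x ⤳ ξ₀ → x = ξ₀ := by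
  let x₀ : X := Classical.arbitrary X
  obtain ⟨ξ₀, hη⟩ : ∃ ξ₀, IsGenericPoint ξ₀ (irreducibleComponent x₀) :=
    QuasiSober.sober isIrreducible_irreducibleComponent isClosed_irreducibleComponent
  refine ⟨ξ₀, fun x hx => ?_⟩
  have h2 : irreducibleComponent x₀ ⊆ closure {x} := by
    rw [← hη.def]
    exact closure_minimal (Set.singleton_subset_iff.mpr hx.mem_closure) isClosed_closure
  have h3 : closure {x} = irreducibleComponent x₀ :=
    ((irreducibleComponent_mem_irreducibleComponents x₀).eq_of_subset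
      (isIrreducible_singleton.closure) h2).symm
  exact (show IsGenericPoint x (irreducibleComponent x₀) from h3).eq hη

/-- A schematically dominant quasi-compact homomorphism of groups over a field is surjective. -/
theorem surjective_of_dominant_hom {k : Type u} [Field k] {H K : Over (Spec (CommRingCat.of k))} [GrpObj H] [GrpObj K]
    (g : H ⟶ K) [IsMonHom g] [IsSchemeTheoreticallyDominant g.left] [QuasiCompact g.left] : Surjective g.left := by
  refine ⟨fun y => ?_⟩
  let T : Over (Spec (CommRingCat.of k)) := Over.mk (K.left.fromSpecResidueField y ≫ K.hom)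
  let yT : T ⟶ K := Over.homMk (K.left.fromSpecResidueField y) rfl
  obtain ⟨hdom, hqc⟩ := MonoFibre.SchemeImage.whiskerLeft_dominant T g
  haveI := hdom
  haveI := hqc
  -- translation
  let τ : T ⊗ K ≅ T ⊗ K :=
    { hom := lift (fst T K) ((fst T K ≫ yT) * snd T K)
      inv := lift (fst T K) ((fst T K ≫ yT)⁻¹ * snd T K)
      hom_inv_id := by
        refine CartesianMonoidalCategory.hom_ext _ _ (by simp) ?_
        simp [MonObj.comp_mul, GrpObj.comp_inv]
      inv_hom_id := by
        refine CartesianMonoidalCategory.hom_ext _ _ (by simp) ?_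
        simp [MonObj.comp_mul] }
  haveI : IsIso τ.hom.left := ((Over.forget _).mapIso τ).isIso_hom
  haveI : Nonempty (T ⊗ K).left := by
    haveI : Nonempty T.left := ⟨IsLocalRing.closedPoint (K.left.residueField y)⟩
    exact ⟨(lift (𝟙 T) (1 : T ⟶ K)).left (Classical.arbitrary T.left)⟩
  obtain ⟨ξ₀, hη⟩ := exists_maximal_point (T ⊗ K).left
  have hrange : ∀ ξ : (T ⊗ K).left, (∀ x, x ⤳ ξ → x = ξ) → ∃ z, (T ◁ g).left z = ξ := fun ξ hξ => by
    obtain ⟨z, -, hz⟩ := SpreadOut.exists_specializes_of_mem_closure_image (T ◁ g).left isClosed_univ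
      (y := ξ) (by rw [Set.image_univ, (T ◁ g).left.denseRange.closure_range]; trivial)
    exact ⟨z, hξ _ hz⟩
  obtain ⟨z, hz⟩ := hrange ξ₀ hη
  have hη' : ∀ x, x ⤳ τ.hom.left ξ₀ → x = τ.hom.left ξ₀ := fun x hx => by
    obtain ⟨x', rfl⟩ := τ.hom.left.surjective x
    rw [hη x' (τ.hom.left.isOpenEmbedding.isInducing.specializes_iff.mp hx)]
  obtain ⟨w, hw⟩ := hrange _ hη'
  let T' : Over (Spec (CommRingCat.of k)) := Over.mk ((T ⊗ H).left.fromSpecResidueField z ≫ (T ⊗ H).hom)
  let A : T' ⟶ T ⊗ H := Over.homMk ((T ⊗ H).left.fromSpecResidueField z) rfl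
  haveI : Nonempty T'.left := ⟨IsLocalRing.closedPoint ((T ⊗ H).left.residueField z)⟩
  let t' : T'.left := Classical.arbitrary T'.left
  have ht' : A.left t' = z := Scheme.fromSpecResidueField_apply _ _
  obtain ⟨ψ, hψ⟩ : ∃ ψ : T' ⟶ T ⊗ K, ψ = (A ≫ (T ◁ g)) ≫ τ.hom := ⟨_, rfl⟩
  have hmem : ψ.left t' = (T ◁ g).left w := by
    rw [hψ, Over.comp_left, Over.comp_left, Scheme.Hom.comp_apply, Scheme.Hom.comp_apply, ht', hz, hw]
  obtain ⟨ζ, -, hζ⟩ := Scheme.Pullback.exists_preimage_pullback t' w hmem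
  let c : Over.mk (pullback.fst ψ.left (T ◁ g).left ≫ T'.hom) ⟶ T' :=
    Over.homMk (pullback.fst _ _) rfl
  let B : Over.mk (pullback.fst ψ.left (T ◁ g).left ≫ T'.hom) ⟶ T ⊗ H :=
    Over.homMk (pullback.snd _ _) (by
      show _ ≫ (T ⊗ H).hom = pullback.fst _ _ ≫ T'.hom
      rw [← Over.w (T ◁ g), ← Category.assoc, ← pullback.condition, Category.assoc, Over.w ψ])
  have e : c ≫ (A ≫ (T ◁ g)) ≫ τ.hom = B ≫ (T ◁ g) := by
    rw [← hψ]
    exact Over.OverMorphism.ext pullback.condition
  have e2 : (c ≫ A ≫ fst T H ≫ yT) * ((c ≫ A ≫ snd T H) ≫ g) = (B ≫ snd T H) ≫ g := by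
    have := congrArg (· ≫ snd T K) e
    simpa [τ, MonObj.comp_mul] using this
  have e3 : c ≫ A ≫ fst T H ≫ yT = ((B ≫ snd T H) * (c ≫ A ≫ snd T H)⁻¹) ≫ g := by
    rw [MonObj.mul_comp, GrpObj.inv_comp, ← e2, _root_.mul_inv_cancel_right]
  refine ⟨((B ≫ snd T H) * (c ≫ A ≫ snd T H)⁻¹).left ζ, ?_⟩
  rw [← Scheme.Hom.comp_apply, ← Over.comp_left, ← e3, Over.comp_left, Over.comp_left, Over.comp_left,
    Scheme.Hom.comp_apply, Scheme.Hom.comp_apply, Scheme.Hom.comp_apply]
  exact Scheme.fromSpecResidueField_apply _ _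

/-- Let f : H → G be a quasi-compact homomorphism of group schemes over a field k. Then f factors as a
homomorphism f' : H → H' followed by a homomorphism i : H' → G which is a closed immersion (H' is
the schematic image of f, a closed subgroup scheme of G), with f' schematically dominant,
quasi-compact and surjective. -/
theorem result (k : Type u) [Field k] (H G : Over (Spec (CommRingCat.of k))) [GrpObj H] [GrpObj G]
    (f : H ⟶ G) [IsMonHom f] [QuasiCompact f.left] :
    ∃ (H' : Over (Spec (CommRingCat.of k))) (_ : GrpObj H') (i : H' ⟶ G) (f' : H ⟶ H'),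
      IsMonHom i ∧ IsMonHom f' ∧ f' ≫ i = f ∧ IsClosedImmersion i.left ∧
      f'.left.ker = ⊥ ∧ QuasiCompact f'.left ∧ Surjective f'.left := by
  let H' : Over (Spec (CommRingCat.of k)) := Over.mk (f.left.imageι ≫ G.hom)
  let i : H' ⟶ G := Over.homMk f.left.imageι rfl
  let g : H ⟶ H' := Over.homMk f.left.toImage (by
    show f.left.toImage ≫ f.left.imageι ≫ G.hom = H.hom
    rw [Scheme.Hom.toImage_imageι_assoc, Over.w f])
  have hgi : g ≫ i = f := Over.OverMorphism.ext f.left.toImage_imageι
  haveI : IsClosedImmersion i.left := inferInstanceAs (IsClosedImmersion f.left.imageι)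
  haveI : IsSchemeTheoreticallyDominant g.left := MonoFibre.SchemeImage.toImage_dominant f.left
  obtain ⟨he, hd⟩ := MonoFibre.SchemeImage.exists_div f i g hgi
  obtain ⟨inst, hi⟩ := MonoFibre.SchemeImage.exists_grpObj i he hd
  letI := inst
  haveI : Mono i := (Over.forget _).mono_of_mono_map (show Mono i.left by infer_instance)
  haveI hg : IsMonHom g := ⟨by rw [← cancel_mono i, Category.assoc, hgi, IsMonHom.one_hom f, IsMonHom.one_hom i],
    by rw [← cancel_mono i, Category.assoc, hgi, IsMonHom.mul_hom f, Category.assoc, IsMonHom.mul_hom i,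
      ← Category.assoc, tensorHom_comp_tensorHom, hgi]⟩
  haveI : QuasiCompact g.left := inferInstanceAs (QuasiCompact f.left.toImage)
  refine ⟨H', inst, i, g, hi, hg, hgi, inferInstance, ‹IsSchemeTheoreticallyDominant g.left›.ker_eq_bot, ‹_›,
    surjective_of_dominant_hom g⟩

end Groth.Agent.S3024
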