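import Groth.Statements.S3026
import Groth.Agent.ProjActLib.AffineQuot
import Groth.Agent.GrpQuotLib.OnePointGrp
import Groth.Agent.MonoFibre.Affinization
import Groth.Agent.GrpSchLib.Smooth
-- import your own Groth.Agent.* helpers here

set_option autoImplicit false
set_option backward.isDefEq.respectTransparency.types false
set_option linter.style.haveILetI false
universe u
open CategoryTheory MonoidalCategory CartesianMonoidalCategory MonObj GrpObj AlgebraicGeometry TensorProduct
open SGA3

namespace Groth.Agent.S3026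

open CategoryTheory.Limits in
theorem smooth_algClosed (k : Type u) [Field k] [IsAlgClosed k] (G : Over (Spec (CommRingCat.of k))) [GrpObj G]
    [LocallyOfFiniteType G.hom] [IsIso G.hom.appTop] : Smooth G.hom := by
  obtain ⟨F, hF, u, hu, huc, hur, hus⟩ := ProjActLib.exists_red G
  haveI := hu
  haveI := huc
  haveI := hur
  haveI := hus
  obtain ⟨X, p, hX, hXs, hps, hpf, hpl, hp⟩ := GrpQuotLib.exists_quotient_surjective F G u
  haveI := hX
  haveI := hps
  haveI := hpf
  have hb : Function.Bijective (X.hom.appTop ≫ p.left.appTop).hom := by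
    rw [← Scheme.Hom.comp_appTop, Over.w p]
    exact (ConcreteCategory.isIso_iff_bijective _).mp inferInstance
  haveI : IsIso X.hom.appTop := by
    refine (ConcreteCategory.isIso_iff_bijective _).mpr ⟨fun a b h => hb.1 ?_, fun y => ?_⟩
    · exact congrArg p.left.appTop.hom h
    · obtain ⟨z, hz⟩ := hb.2 (p.left.appTop.hom y)
      exact ⟨z, GrpQuotLib.appTop_injective p.left hz⟩
  have hsub : ∀ (a b : G ⟶ X), a = b := fun a b => Over.OverMorphism.ext (ext_of_isAffine (by
    rw [← cancel_epi X.hom.appTop, ← Scheme.Hom.comp_appTop, ← Scheme.Hom.comp_appTop, Over.w, Over.w]))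
  obtain ⟨r, hr₁, hr₂⟩ : ∃ r, r ≫ ((u ▷ G) ≫ MonObj.mul) = 𝟙 G ∧ r ≫ snd F G = 1 :=
    ⟨hp.lift (𝟙 G) 1 (hsub _ _), hp.lift_fst _ _ _, hp.lift_snd _ _ _⟩
  have hsec : (r ≫ fst F G) ≫ u = 𝟙 G := by
    refine Eq.trans ?_ hr₁
    conv_rhs => rw [show r = lift (r ≫ fst F G) (1 : G ⟶ G) by
      rw [← hr₂, ← comp_lift, lift_fst_snd, Category.comp_id]]
    simp [Hom.one_def, MonObj.lift_comp_one_right]
  haveI : Mono u := Over.mono_of_mono_left u
  haveI : IsIso u := ⟨r ≫ fst F G, (cancel_mono u).1 (by rw [Category.assoc, hsec]; simp), hsec⟩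
  haveI : IsIso u.left := ((Over.forget _).mapIso (asIso u)).isIso_hom
  haveI : IsReduced G.left := isReduced_of_isOpenImmersion (inv u.left)
  exact GrpSchLib.smooth_of_isReduced G

/-- Let N be a group scheme of finite type over a field k such that the structure map identifies k with
the ring of global functions of N. Then N is smooth over k. (The same lemma also gives connectedness
and commutativity.) -/
theorem result (k : Type u) [Field k] (N : Over (Spec (CommRingCat.of k))) [GrpObj N]
    [LocallyOfFiniteType N.hom] [QuasiCompact N.hom]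
    (hO : Function.Bijective ((Scheme.ΓSpecIso (CommRingCat.of k)).inv ≫ N.hom.appTop).hom) :
    Smooth N.hom := by
  haveI : IsSeparated N.hom := GrpSchLib.isSeparated_hom
  let f : Spec (CommRingCat.of (AlgebraicClosure k)) ⟶ Spec (CommRingCat.of k) :=
    Spec.map (CommRingCat.ofHom (algebraMap k (AlgebraicClosure k)))
  haveI : IsIso ((Scheme.ΓSpecIso (CommRingCat.of k)).inv ≫ N.hom.appTop) :=
    (ConcreteCategory.isIso_iff_bijective _).mpr hO
  haveI : IsIso N.hom.appTop := IsIso.of_isIso_comp_left (Scheme.ΓSpecIso (CommRingCat.of k)).inv _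
  haveI : QuasiCompact (Over.mk f).hom := inferInstanceAs (QuasiCompact f)
  haveI : QuasiSeparated (Over.mk f).hom := inferInstanceAs (QuasiSeparated f)
  have hpo := MonoFibre.Affinization.isPushout_appTop N (Over.mk f)
  letI : GrpObj ((Over.pullback f).obj N) := Functor.grpObjObj
  haveI : LocallyOfFiniteType ((Over.pullback f).obj N).hom :=
    MorphismProperty.pullback_snd N.hom f (inferInstance : LocallyOfFiniteType N.hom)
  haveI : IsIso ((Over.pullback f).obj N).hom.appTop := hpo.isIso_inr_of_isIso
  have hs : Smooth (Limits.pullback.snd N.hom f) := smooth_algClosed _ ((Over.pullback f).obj N)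
  exact MorphismProperty.of_pullback_snd_of_descendsAlong (P := @Smooth)
    (Q := @Surjective ⊓ @Flat ⊓ @QuasiCompact) (g := f) ⟨⟨inferInstance, inferInstance⟩, inferInstance⟩ hs

end Groth.Agent.S3026
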