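import Groth.Statements.S3030
import Groth.Agent.ArtGrpLib.CosetScheme
import Groth.Agent.ArtGrpLib.QuotGrp
import Groth.Agent.S3036
-- import your own Groth.Agent.* helpers here

set_option autoImplicit false
universe u
open CategoryTheory MonoidalCategory CartesianMonoidalCategory MonObj GrpObj AlgebraicGeometry TensorProduct
open SGA3

namespace Groth.Agent.S3030

/-- Let A be a local artinian ring, F and G group schemes flat and locally of finite type over A, and u
: F → G a homomorphism which is a quasi-compact monomorphism with F normal in G. Then there are a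
group scheme Q over A and a homomorphism p : G → Q which is faithfully flat and locally of finite
presentation, with kernel F (the square u, p, unit is cartesian); Q is separated and flat over A,
and smooth over A when G is. -/
theorem result (A : Type u) [CommRing A] [IsArtinianRing A] [IsLocalRing A]
    (F G : Over (Spec (CommRingCat.of A))) [GrpObj F] [GrpObj G] [Flat F.hom] [LocallyOfFiniteType F.hom]
    [Flat G.hom] [LocallyOfFiniteType G.hom] (u : F ⟶ G) [IsMonHom u] [Mono u] [QuasiCompact u.left]
    (hN : AlgGrp.IsNormalHom u) :
    ∃ (Q : Over (Spec (CommRingCat.of A))) (_ : GrpObj Q) (p : G ⟶ Q), IsMonHom p ∧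
      Flat p.left ∧ Surjective p.left ∧ LocallyOfFinitePresentation p.left ∧ AlgGrp.IsKernel u p ∧
      IsSeparated Q.hom ∧ Flat Q.hom ∧ (Smooth G.hom → Smooth Q.hom) := by
  haveI : IsClosedImmersion u.left := Groth.Agent.S3036.result A F G u
  obtain ⟨X, p, h1, -, h3, h4, h5, h6, h7, h8⟩ := Groth.Agent.ArtGrpLib.exists_quotient F G u
  haveI := h3
  haveI := h4
  haveI := h5
  obtain ⟨s, q, hq, hs, hf, hl, hk⟩ := Groth.Agent.ArtGrpLib.exists_group_of_left u hN p h6
  exact ⟨X, s, q, hq, hf, hs, hl, hk, h1, h7, h8⟩

end Groth.Agent.S3030
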