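import Groth.Statements.S3032


set_option autoImplicit false
universe u
open CategoryTheory MonoidalCategory CartesianMonoidalCategory MonObj GrpObj AlgebraicGeometry TensorProduct
open SGA3

namespace Groth.Agent.S3032

open CategoryTheory CategoryTheory.Limits AlgebraicGeometry

open TensorProduct
set_option backward.isDefEq.respectTransparency false

/-- Let R be a Noetherian commutative ring, C an R-coalgebra which is flat as an R-module, V a
C-comodule and M a finitely generated R-submodule of V. Then M is contained in a subcomodule of V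
which is finitely generated over R. -/
theorem result (R : Type u) [CommRing R] [IsNoetherianRing R] (C : Type u) [AddCommGroup C]
    [Module R C] [Coalgebra R C] [Module.Flat R C] (V : Type u) [AddCommGroup V] [Module R V] [HopfRep.Comod R C V]
    (M : Submodule R V) (hM : M.FG) :
    ∃ W : Submodule R V, HopfRep.IsSubcomod (k := R) (A := C) W ∧ M ≤ W ∧ W.FG := by
  classical
  let ρ : V →ₗ[R] V ⊗[R] C := HopfRep.Comod.coact (k := R) (A := C)
  -- a finitely generated submodule W' with the coaction of M inside W' ⊗ C
  obtain ⟨s, hs⟩ := hM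
  have h1 : ∀ v : V, ∃ W : Submodule R V, W.FG ∧ ρ v ∈ LinearMap.range (W.subtype.rTensor C) := fun v => by
    induction ρ v using TensorProduct.induction_on with
    | zero => exact ⟨⊥, Submodule.fg_bot, 0, map_zero _⟩
    | tmul a c => exact ⟨R ∙ a, Submodule.fg_span_singleton a, ⟨⟨a, Submodule.mem_span_singleton_self a⟩ ⊗ₜ c, rfl⟩⟩
    | add x y hx hy =>
      obtain ⟨W, hW, hxW⟩ := hx
      obtain ⟨W₂, hW₂, hyW⟩ := hy
      refine ⟨W ⊔ W₂, hW.sup hW₂, Submodule.add_mem _ ?_ ?_⟩
      · obtain ⟨z, rfl⟩ := hxW
        exact ⟨(Submodule.inclusion (le_sup_left : W ≤ W ⊔ W₂)).rTensor C z, by rw [← LinearMap.rTensor_comp_apply]; rfl⟩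
      · obtain ⟨z, rfl⟩ := hyW
        exact ⟨(Submodule.inclusion (le_sup_right : W₂ ≤ W ⊔ W₂)).rTensor C z, by rw [← LinearMap.rTensor_comp_apply]; rfl⟩
  choose F hF hFρ using h1
  let W' : Submodule R V := s.sup F
  have hW' : W'.FG := Submodule.fg_finset_sup s F fun v _ => hF v
  -- the elements whose coaction lies in W' ⊗ C
  let q : V ⊗[R] C →ₗ[R] (V ⧸ W') ⊗[R] C := W'.mkQ.rTensor C
  let W : Submodule R V := LinearMap.ker (q ∘ₗ ρ)
  have hex : Function.Exact W'.subtype W'.mkQ := LinearMap.exact_subtype_mkQ W'
  have hq : ∀ v : V, v ∈ W ↔ ρ v ∈ LinearMap.range (W'.subtype.rTensor C) := fun v =>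
    (Module.Flat.rTensor_exact C hex (ρ v))
  have hWW' : W ≤ W' := fun v hv => by
    obtain ⟨z, hz⟩ := (hq v).1 hv
    have h2 := LinearMap.congr_fun (HopfRep.Comod.counit_comp (k := R) (A := C) (V := V)) v
    have h3 : v = TensorProduct.rid R V ((CoalgebraStruct.counit (R := R) (A := C)).lTensor V (ρ v)) := by
      rw [show (CoalgebraStruct.counit (R := R) (A := C)).lTensor V (ρ v) = v ⊗ₜ[R] 1 from h2]
      simp
    rw [h3, ← hz]
    clear hz h3 h2 hv
    induction z using TensorProduct.induction_on with
    | zero => simp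
    | tmul a c => simpa using W'.smul_mem _ a.2
    | add x y hx hy => simp only [map_add]; exact W'.add_mem hx hy
  have hWfg : W.FG := by
    haveI : Module.Finite R W' := Module.Finite.iff_fg.2 hW'
    haveI : IsNoetherian R W' := isNoetherian_of_isNoetherianRing_of_finite R W'
    exact Submodule.fg_of_fg_map_injective _ (Submodule.inclusion_injective hWW')
      (IsNoetherian.noetherian ((⊤ : Submodule R W).map (Submodule.inclusion hWW'))) |> fun h =>
        Module.Finite.iff_fg.1 (Module.finite_def.2 h)
  refine ⟨W, fun w hw => ?_, ?_, hWfg⟩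
  · have hexW : Function.Exact W.subtype (q ∘ₗ ρ) := LinearMap.exact_subtype_ker_map _
    show ρ w ∈ LinearMap.range (W.subtype.rTensor C)
    refine (Module.Flat.rTensor_exact C hexW (ρ w)).1 ?_
    rw [LinearMap.rTensor_comp_apply]
    have hc := LinearMap.congr_fun (HopfRep.Comod.coassoc (k := R) (A := C) (V := V)) w
    apply (TensorProduct.assoc R (V ⧸ W') C C).injective
    rw [map_zero]
    have hnat : ∀ t : (V ⊗[R] C) ⊗[R] C, TensorProduct.assoc R (V ⧸ W') C C (q.rTensor C t) =
        (W'.mkQ.rTensor (C ⊗[R] C)) (TensorProduct.assoc R V C C t) := fun t => by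
      induction t using TensorProduct.induction_on with
      | zero => simp
      | tmul a c =>
        induction a using TensorProduct.induction_on with
        | zero => simp
        | tmul a b => simp [q]
        | add x y hx hy => simp only [add_tmul, map_add, hx, hy]
      | add x y hx hy => simp only [map_add, hx, hy]
    rw [hnat, show TensorProduct.assoc R V C C (ρ.rTensor C (ρ w)) =
      (CoalgebraStruct.comul (R := R) (A := C)).lTensor V (ρ w) from hc, ← LinearMap.comp_apply,
      LinearMap.rTensor_comp_lTensor, ← LinearMap.lTensor_comp_rTensor, LinearMap.comp_apply,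
      show W'.mkQ.rTensor C (ρ w) = 0 from hw, map_zero]
  · rw [← hs, Submodule.span_le]
    intro v hv
    refine (hq v).2 ?_
    obtain ⟨z, hz⟩ := hFρ v
    refine ⟨(Submodule.inclusion (Finset.le_sup (f := F) hv : F v ≤ W')).rTensor C z, ?_⟩
    rw [← LinearMap.rTensor_comp_apply]
    exact hz


end Groth.Agent.S3032
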