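import Groth.Statements.S3033
import Groth.Agent.MonoFibre.HomogComp
import Groth.Agent.S9777
import Groth.Agent.DimFormulaLib.Misc

set_option autoImplicit false
universe u
open CategoryTheory MonoidalCategory CartesianMonoidalCategory MonObj GrpObj AlgebraicGeometry TensorProduct
open SGA3

namespace Groth.Agent.S3033

theorem dim_connectedComponent_homeo {α β : Type u} [TopologicalSpace α] [TopologicalSpace β] (e : α ≃ₜ β) (x : α) :
    topologicalKrullDim ↥(connectedComponent (e x)) = topologicalKrullDim ↥(connectedComponent x) := by
  have h : e '' connectedComponent x = connectedComponent (e x) := by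
    refine Set.Subset.antisymm ((isConnected_connectedComponent.image e e.continuous.continuousOn).2.subset_connectedComponent
      ⟨x, mem_connectedComponent, rfl⟩) fun y hy => ⟨e.symm y, ?_, e.apply_symm_apply y⟩
    have := (isConnected_connectedComponent (x := e x)).image e.symm e.symm.continuous.continuousOn
    exact this.2.subset_connectedComponent ⟨e x, mem_connectedComponent, e.symm_apply_apply x⟩ ⟨y, hy, rfl⟩
  rw [← h]
  exact (IsHomeomorph.topologicalKrullDim_eq _ (e.image (connectedComponent x)).isHomeomorph).symm

/-- Over a field all components have the dimension of the scheme. -/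
theorem dim_component {k : Type u} [Field k] (G X : Over (Spec (CommRingCat.of k))) [GrpObj G]
    [LocallyOfFiniteType G.hom] [LocallyOfFiniteType X.hom] (a : AlgGrp.Action G X)
    (hΦ : Surjective (lift a.act (snd G X)).left) :
    ∃ d, ∀ x : X.left, topologicalKrullDim ↥(connectedComponent x) = d := by
  let K := AlgebraicClosure k
  let j : Spec (CommRingCat.of K) ⟶ Spec (CommRingCat.of k) := Spec.map (CommRingCat.ofHom (algebraMap k K))
  let A := MonoFibre.bcAction j a
  have hA := MonoFibre.bcAction_surjective j a hΦ
  let Y := Red.bc j X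
  let q : Y.left ⟶ X.left := Limits.pullback.fst X.hom j
  haveI : Flat q := MonoFibre.flat_fst_field j X
  haveI : LocallyOfFiniteType Y.hom := inferInstanceAs (LocallyOfFiniteType (Limits.pullback.snd X.hom j))
  haveI : LocallyOfFiniteType (Red.bc j G).hom := inferInstanceAs (LocallyOfFiniteType (Limits.pullback.snd G.hom j))
  haveI : IsLocallyNoetherian Y.left := LocallyOfFiniteType.isLocallyNoetherian Y.hom
  haveI : IsLocallyNoetherian X.left := LocallyOfFiniteType.isLocallyNoetherian X.hom
  haveI : JacobsonSpace Y.left := LocallyOfFiniteType.jacobsonSpace Y.hom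
  -- all components upstairs have the dimension of the whole scheme
  have hclosed : ∀ w : Y.left, ∃ (c : 𝟙_ (Over (Spec (CommRingCat.of K))) ⟶ Y),
      connectedComponent (c.left (IsLocalRing.closedPoint K)) = connectedComponent w ∧
        IsClosed ({c.left (IsLocalRing.closedPoint K)} : Set Y.left) := fun w => by
    obtain ⟨z, hz, hzc⟩ := nonempty_inter_closedPoints (X := Y.left) (⟨w, mem_connectedComponent⟩ : (connectedComponent w).Nonempty)
      isClosed_connectedComponent.isLocallyClosed
    refine ⟨CategoryTheory.Over.homMk (pointOfClosedPoint Y.hom z (mem_closedPoints_iff.1 hzc)) (pointOfClosedPoint_comp _ _ _),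
      (connectedComponent_eq ?_).symm, ?_⟩
    rotate_left
    · show IsClosed ({pointOfClosedPoint Y.hom z (mem_closedPoints_iff.1 hzc) (IsLocalRing.closedPoint K)} : Set Y.left)
      exact (pointOfClosedPoint_apply Y.hom z (mem_closedPoints_iff.1 hzc) _).symm ▸ mem_closedPoints_iff.1 hzc
    show pointOfClosedPoint Y.hom z (mem_closedPoints_iff.1 hzc) (IsLocalRing.closedPoint K) ∈ _
    exact (pointOfClosedPoint_apply Y.hom z (mem_closedPoints_iff.1 hzc) _).symm ▸ hz
  have hsame : ∀ w w' : Y.left,
      topologicalKrullDim ↥(connectedComponent w) = topologicalKrullDim ↥(connectedComponent w') := fun w w' => by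
    obtain ⟨c, hc, -⟩ := hclosed w
    obtain ⟨c', hc', hc'cl⟩ := hclosed w'
    rw [← hc, ← hc']
    let pt : ↥(𝟙_ (Over (Spec (CommRingCat.of K)))).left := IsLocalRing.closedPoint K
    obtain ⟨g, hg⟩ := MonoFibre.exists_orbitMap_eq A hA c (c'.left pt)
    obtain ⟨h, hh⟩ := MonoFibre.exists_ratPt_mem (G := Red.bc j G)
      (hc'cl.preimage (A.orbitMap c).left.continuous) ⟨g, hg⟩
    have he : (MonoFibre.translXHomeo A h) (c.left pt) = c'.left pt := by
      show (MonoFibre.translX A h).left (c.left pt) = _
      rw [← Scheme.Hom.comp_apply, ← CategoryTheory.Over.comp_left, MonoFibre.comp_translX_eq_orbit,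
        CategoryTheory.Over.comp_left, Scheme.Hom.comp_apply]
      exact hh
    show topologicalKrullDim ↥(connectedComponent (c.left pt)) = topologicalKrullDim ↥(connectedComponent (c'.left pt))
    rw [← he, dim_connectedComponent_homeo]
  refine ⟨topologicalKrullDim Y.left, fun x => ?_⟩
  obtain ⟨ξ, hξx, hξ⟩ := MonoFibre.exists_isMaxPt x
  rw [MonoFibre.connectedComponent_eq_closure a hΦ hξ hξx]
  let C : TopologicalSpace.Closeds X.left := ⟨closure {ξ}, isClosed_closure⟩
  let i := (Scheme.IdealSheafData.vanishingIdeal C).subschemeι
  let Z : Over (Spec (CommRingCat.of k)) := CategoryTheory.Over.mk (i ≫ X.hom)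
  have hi : Set.range i = closure {ξ} := by
    show Set.range i = _
    rw [Scheme.IdealSheafData.range_subschemeι, Scheme.IdealSheafData.coe_support_vanishingIdeal]; rfl
  haveI : LocallyOfFiniteType Z.hom := inferInstanceAs (LocallyOfFiniteType (i ≫ X.hom))
  have e1 : topologicalKrullDim ↥(closure {ξ} : Set X.left) = topologicalKrullDim Z.left := by
    rw [← hi]
    exact (IsHomeomorph.topologicalKrullDim_eq _ i.isEmbedding.toHomeomorph.isHomeomorph).symm
  let m : Limits.pullback Z.hom j ⟶ Y.left :=
    Limits.pullback.map Z.hom j X.hom j i (𝟙 _) (𝟙 _) (by simp [Z]) (by simp)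
  haveI : IsClosedImmersion m := by
    refine MorphismProperty.of_isPullback (P := @IsClosedImmersion)
      ((?_ : IsPullback m (Limits.pullback.fst Z.hom j) q i)).flip inferInstance
    refine IsPullback.of_right (h₁₂ := Limits.pullback.snd X.hom j) (v₁₃ := j) (h₂₂ := X.hom) ?_ ?_
      (IsPullback.of_hasPullback X.hom j).flip
    · rw [show m ≫ Limits.pullback.snd X.hom j = Limits.pullback.snd Z.hom j from Limits.pullback.lift_snd _ _ _ |>.trans (Category.comp_id _)]
      exact (IsPullback.of_hasPullback Z.hom j).flip
    · exact Limits.pullback.lift_fst _ _ _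
  have hm : Set.range m = q ⁻¹' closure {ξ} := by
    rw [Scheme.Pullback.range_map, hi]
    simp [q]
  rw [e1, ← S9777.dim_eq (Limits.pullback.snd Z.hom j) Z.hom (φ := CommRingCat.ofHom (algebraMap k K))
    (IsPullback.of_hasPullback Z.hom j)]
  refine le_antisymm (m.isEmbedding.toIsInducing.topologicalKrullDim_le) ?_
  obtain ⟨w, hw⟩ := (MorphismProperty.of_isPullback (P := @Surjective) (IsPullback.of_hasPullback X.hom j).flip
    (inferInstanceAs (Surjective (Spec.map (CommRingCat.ofHom (algebraMap k K)))))).surj ξ
  obtain ⟨ζ, hζw, hζ⟩ := MonoFibre.exists_isMaxPt w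
  have hsub : connectedComponent w ⊆ Set.range m := by
    rw [MonoFibre.connectedComponent_eq_closure A hA hζ hζw, hm]
    refine closure_minimal (Set.singleton_subset_iff.2 ?_) (isClosed_closure.preimage q.continuous)
    show q ζ ∈ closure {ξ}
    rw [hξ (q ζ) ((hζw.map q.continuous).trans (specializes_of_eq hw))]
    exact subset_closure rfl
  have hY : topologicalKrullDim Y.left ≤ topologicalKrullDim ↥(connectedComponent w) := by
    refine DimFormulaLib.topologicalKrullDim_le_of_components _ fun η₀ hη => ?_
    rw [← MonoFibre.connectedComponent_eq_closure A hA hη (specializes_refl η₀)]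
    exact (hsame η₀ w).le
  refine hY.trans ?_
  calc topologicalKrullDim ↥(connectedComponent w) ≤ topologicalKrullDim ↥(Set.range m) :=
        (Topology.IsEmbedding.inclusion hsub).toIsInducing.topologicalKrullDim_le
    _ = _ := (IsHomeomorph.topologicalKrullDim_eq _ m.isEmbedding.toHomeomorph.isHomeomorph).symm

/-- Let A be a local artinian ring and G a group scheme locally of finite type over A acting on a
nonempty A-scheme X locally of finite type, such that the morphism G ×_A X → X ×_A X, (g, x) ↦ (g·x,
x), is surjective. Then all connected components of X have the same dimension. The published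
statement also asserts that the connected components are irreducible; that is not asserted here (it
is stated separately). -/
theorem result (A : Type u) [CommRing A] [IsArtinianRing A] [IsLocalRing A]
    (G X : Over (Spec (CommRingCat.of A))) [GrpObj G] [LocallyOfFiniteType G.hom] [LocallyOfFiniteType X.hom] [Nonempty X.left]
    (a : AlgGrp.Action G X) (hΦ : Surjective (lift a.act (snd G X)).left) (x y : X.left) :
    topologicalKrullDim ↥(connectedComponent x) = topologicalKrullDim ↥(connectedComponent y) := by
  let j : Spec (CommRingCat.of (IsLocalRing.ResidueField A)) ⟶ Spec (CommRingCat.of A) :=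
    Spec.map (CommRingCat.ofHom (IsLocalRing.residue A))
  haveI : IsClosedImmersion j := IsClosedImmersion.spec_of_surjective _ Ideal.Quotient.mk_surjective
  haveI : Surjective j := ⟨fun p => ⟨IsLocalRing.closedPoint (IsLocalRing.ResidueField A), Subsingleton.elim (α := PrimeSpectrum A) _ _⟩⟩
  let p := Limits.pullback.fst X.hom j
  haveI : IsClosedImmersion p :=
    MorphismProperty.of_isPullback (P := @IsClosedImmersion) (IsPullback.of_hasPullback X.hom j).flip inferInstance
  haveI : Surjective p :=
    MorphismProperty.of_isPullback (P := @Surjective) (IsPullback.of_hasPullback X.hom j).flip inferInstance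
  let e := p.isEmbedding.toHomeomorphOfSurjective p.surjective
  haveI : LocallyOfFiniteType (Red.bc j G).hom := inferInstanceAs (LocallyOfFiniteType (Limits.pullback.snd G.hom j))
  haveI : LocallyOfFiniteType (Red.bc j X).hom := inferInstanceAs (LocallyOfFiniteType (Limits.pullback.snd X.hom j))
  obtain ⟨d, hd⟩ := dim_component (Red.bc j G) (Red.bc j X) (MonoFibre.bcAction j a) (MonoFibre.bcAction_surjective j a hΦ)
  obtain ⟨x', rfl⟩ := e.surjective x
  obtain ⟨y', rfl⟩ := e.surjective y
  rw [dim_connectedComponent_homeo, dim_connectedComponent_homeo]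
  exact (hd x').trans (hd y').symm

end Groth.Agent.S3033
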