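import Groth.Statements.S3034
import Groth.Agent.GrpQuotLib.KerGrp
import Groth.Agent.S5417
import Groth.Agent.S3036
-- import your own Groth.Agent.* helpers here

set_option autoImplicit false
set_option backward.isDefEq.respectTransparency.types false
universe u
open CategoryTheory MonoidalCategory CartesianMonoidalCategory MonObj GrpObj AlgebraicGeometry TensorProduct
open SGA3

namespace Groth.Agent.S3034

/-- Let A be a local artinian ring and u : G → H a quasi-compact homomorphism between group schemes
locally of finite type over A, with G flat over A and the kernel of u flat over A. Then u factors as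
a homomorphism p : G → C which is faithfully flat and locally of finite presentation followed by a
homomorphism i : C → H which is a closed immersion. (Stated here for G flat over A; the published
statement also covers non-flat G.) -/
theorem result (A : Type u) [CommRing A] [IsArtinianRing A] [IsLocalRing A]
    (G H : Over (Spec (CommRingCat.of A))) [GrpObj G] [GrpObj H] [LocallyOfFiniteType G.hom] [LocallyOfFiniteType H.hom]
    [Flat G.hom] (u : G ⟶ H) [IsMonHom u] [QuasiCompact u.left]
    (hN : Flat (Limits.pullback.snd u.left (η[H] : 𝟙_ (Over (Spec (CommRingCat.of A))) ⟶ H).left)) :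
    ∃ (C : Over (Spec (CommRingCat.of A))) (_ : GrpObj C) (p : G ⟶ C) (i : C ⟶ H), IsMonHom p ∧ IsMonHom i ∧ p ≫ i = u ∧
      Flat p.left ∧ Surjective p.left ∧ LocallyOfFinitePresentation p.left ∧ IsClosedImmersion i.left := by
  haveI : IsLocallyNoetherian (Spec (CommRingCat.of A)) := inferInstance
  haveI : LocallyOfFinitePresentation G.hom := LocallyOfFinitePresentation.iff_locallyOfFiniteType.mpr inferInstance
  let K := Limits.pullback u η[H]
  let k : K ⟶ G := Limits.pullback.fst u η[H]
  obtain ⟨hgK, hk⟩ := GrpQuotLib.exists_grpObj_kernel u
  letI : GrpObj K := hgK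
  haveI : IsMonHom k := hk
  have hK : AlgGrp.IsKernel k u := by
    show IsPullback k (toUnit K) u η[H]
    rw [toUnit_unique (toUnit K) (Limits.pullback.snd u η[H])]
    exact IsPullback.of_hasPullback _ _
  haveI : Flat K.hom := by
    have h := GrpQuotLib.isPullback_left (IsPullback.of_hasPullback u η[H])
    rw [← Over.w (Limits.pullback.snd u η[H])]
    rw [← h.isoPullback_hom_snd, Category.assoc]
    show Flat (h.isoPullback.hom ≫ Limits.pullback.snd u.left η[H].left ≫ 𝟙 _)
    rw [Category.comp_id]
    exact MorphismProperty.RespectsIso.precomp _ _ _ hN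
  obtain ⟨Q, hQ, q, hq, ⟨hs, hf, hp, -⟩, hl, m, hm, hmono, hqm⟩ := S5417.result (Spec (CommRingCat.of A)) G H (Or.inl inferInstance) u K k hK
  haveI := hs
  haveI := hl
  haveI := hm
  haveI := hmono
  haveI : LocallyOfFiniteType Q.hom := inferInstance
  haveI : QuasiCompact m.left := ⟨fun U hUo hU => by
    have hc := (inferInstance : QuasiCompact u.left).isCompact_preimage U hUo hU
    have : m.left ⁻¹' U = q.left '' (u.left ⁻¹' U) := by
      rw [← hqm, Over.comp_left, Scheme.Hom.comp_base, TopCat.coe_comp, Set.preimage_comp,
        Set.image_preimage_eq _ q.left.surjective]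
    rw [this]
    exact hc.image q.left.continuous⟩
  exact ⟨Q, hQ, q, m, hq, hm, hqm, hf, hs, hp, S3036.result A Q H m⟩

end Groth.Agent.S3034
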