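import Groth.Statements.S3038
import Groth.Agent.MonoFibre.HomFlat
import Groth.Agent.MonoFibre.RedSubgroup
import Groth.Agent.MonoFibre.FlatOrbit
import Groth.Prelude.Def_Red

set_option autoImplicit false
universe u
open CategoryTheory MonoidalCategory CartesianMonoidalCategory MonObj GrpObj AlgebraicGeometry TensorProduct
open SGA3 CategoryTheory.Limits

namespace Groth.Agent.S3038

theorem universallyOpen_of_comp_surjective {X Y Z : Scheme.{u}} (f : X ⟶ Y) (g : Y ⟶ Z) [Surjective f]
    [UniversallyOpen (f ≫ g)] : UniversallyOpen g := by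
  refine ⟨MorphismProperty.universally_mk' _ _ fun {T} t _ => ?_⟩
  have sq : IsPullback (pullback.snd (pullback.snd t g) f ≫ 𝟙 _) (pullback.fst (pullback.snd t g) f) f (pullback.snd t g) := by
    rw [Category.comp_id]; exact (IsPullback.of_hasPullback _ f).flip
  have h1 : IsPullback (pullback.fst (pullback.snd t g) f ≫ pullback.fst t g) (pullback.snd (pullback.snd t g) f) t (f ≫ g) :=
    (IsPullback.of_hasPullback (pullback.snd t g) f).flip.paste_vert (IsPullback.of_hasPullback t g).flip |>.flip
  have h2 : UniversallyOpen (pullback.fst (pullback.snd t g) f ≫ pullback.fst t g) :=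
    MorphismProperty.of_isPullback (P := @UniversallyOpen) h1.flip ‹_›
  haveI : Surjective (pullback.fst (pullback.snd t g) f) :=
    MorphismProperty.of_isPullback (P := @Surjective) (IsPullback.of_hasPullback (pullback.snd t g) f).flip ‹_›
  refine IsOpenMap.of_comp (pullback.fst (pullback.snd t g) f).continuous (pullback.fst (pullback.snd t g) f).surjective ?_
  exact (pullback.fst (pullback.snd t g) f ≫ pullback.fst t g).isOpenMap

/-- Over a perfect field, an open homomorphism is universally open. -/
theorem universallyOpen_perfect {K : Type u} [Field K] [PerfectField K] {G H : Over (Spec (CommRingCat.of K))}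
    [GrpObj G] [GrpObj H] [LocallyOfFiniteType G.hom] [LocallyOfFiniteType H.hom] (u : G ⟶ H) [IsMonHom u]
    (hu : ∃ p : G.left, MonoFibre.IsMaxPt (u.left p)) : UniversallyOpen u.left := by
  obtain ⟨G₀, _, iG, _, _, hG₀red, hG₀⟩ := MonoFibre.exists_redSubgroup (G := G) Set.univ isClosed_univ trivial
    (fun _ _ _ _ _ => trivial) (fun _ _ _ => trivial)
  obtain ⟨H₀, _, iH, _, _, hH₀red, hH₀⟩ := MonoFibre.exists_redSubgroup (G := H) Set.univ isClosed_univ trivial
    (fun _ _ _ _ _ => trivial) (fun _ _ _ => trivial)
  haveI := hH₀red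
  haveI : IsReduced G₀.left := hG₀red
  haveI : Surjective iG.left := ⟨Set.range_eq_univ.mp hG₀⟩
  haveI : Surjective iH.left := ⟨Set.range_eq_univ.mp hH₀⟩
  obtain ⟨z, hz⟩ : ∃ z : G₀.left ⟶ H₀.left, z ≫ iH.left = iG.left ≫ u.left := by
    refine ⟨IsClosedImmersion.lift iH.left (iG.left ≫ u.left) ?_, IsClosedImmersion.lift_fac _ _ _⟩
    rw [← Scheme.IdealSheafData.map_bot (f := iG.left ≫ u.left), ← Scheme.nilradical_eq_bot,
      ← Scheme.IdealSheafData.vanishingIdeal_top, Scheme.IdealSheafData.map_vanishingIdeal]
    refine (Scheme.IdealSheafData.le_support_iff_le_vanishingIdeal).mp ?_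
    refine closure_minimal ?_ (Scheme.IdealSheafData.support _).isClosed
    rintro _ ⟨x, -, rfl⟩
    rw [Scheme.Hom.support_ker]
    exact subset_closure (hH₀.ge (Set.mem_univ _))
  let w : G₀ ⟶ H₀ := CategoryTheory.Over.homMk z (by
    rw [← CategoryTheory.Over.w iH, ← Category.assoc, hz, Category.assoc, CategoryTheory.Over.w u, CategoryTheory.Over.w iG])
  have hw : w ≫ iH = iG ≫ u := CategoryTheory.Over.OverMorphism.ext hz
  haveI : Mono iH := (CategoryTheory.Over.forget _).mono_of_mono_map (show Mono iH.left by infer_instance)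
  haveI : IsMonHom w := by
    refine ⟨?_, ?_⟩
    · rw [← cancel_mono iH, Category.assoc, hw, ← Category.assoc, IsMonHom.one_hom, IsMonHom.one_hom, IsMonHom.one_hom]
    · rw [← cancel_mono iH, Category.assoc, hw, ← Category.assoc, IsMonHom.mul_hom, Category.assoc, IsMonHom.mul_hom,
        Category.assoc, IsMonHom.mul_hom, ← Category.assoc, ← Category.assoc, tensorHom_comp_tensorHom,
        tensorHom_comp_tensorHom, hw]
  obtain ⟨p, hp⟩ := hu
  obtain ⟨p₀, rfl⟩ := iG.left.surjective p
  have hmax : MonoFibre.IsMaxPt (w.left p₀) := fun θ hθ => iH.left.injective (by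
    have h : iH.left (w.left p₀) = u.left (iG.left p₀) := by
      rw [← Scheme.Hom.comp_apply, ← Scheme.Hom.comp_apply]; exact congrArg (fun m => m p₀) hz
    rw [h]
    exact hp _ (h ▸ hθ.map iH.left.continuous))
  haveI : Subsingleton ↥(Spec (CommRingCat.of K)) := inferInstanceAs (Subsingleton (PrimeSpectrum K))
  haveI : Flat G₀.hom := MonoFibre.flat_to_spec_field
  haveI : Flat w.left := MonoFibre.flat_hom_of_flat_at w ⟨p₀, by
    letI := (MonoFibre.isField_stalk_of_isMaxPt (y := w.left p₀) hmax).toField
    exact MonoFibre.flat_of_field _⟩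
  haveI : LocallyOfFiniteType H₀.hom := by rw [← CategoryTheory.Over.w iH]; infer_instance
  haveI : LocallyOfFiniteType G₀.hom := by rw [← CategoryTheory.Over.w iG]; infer_instance
  haveI : IsLocallyNoetherian H₀.left := LocallyOfFiniteType.isLocallyNoetherian H₀.hom
  haveI : LocallyOfFiniteType (w.left ≫ H₀.hom) := by rw [CategoryTheory.Over.w w]; infer_instance
  haveI : LocallyOfFiniteType w.left := locallyOfFiniteType_of_comp w.left H₀.hom
  haveI : LocallyOfFinitePresentation w.left := inferInstance
  haveI : UniversallyOpen iH.left := by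
    refine ⟨MorphismProperty.universally_mk' _ _ fun {T} t _ => ?_⟩
    intro U hU
    haveI : Surjective (pullback.fst t iH.left) :=
      MorphismProperty.of_isPullback (P := @Surjective) (IsPullback.of_hasPullback t iH.left).flip inferInstance
    haveI : IsClosedImmersion (pullback.fst t iH.left) :=
      MorphismProperty.of_isPullback (P := @IsClosedImmersion) (IsPullback.of_hasPullback t iH.left).flip inferInstance
    have h := (pullback.fst t iH.left).isClosedEmbedding.isClosedMap Uᶜ hU.isClosed_compl
    rw [Set.image_compl_eq ⟨(pullback.fst t iH.left).isClosedEmbedding.injective, (pullback.fst t iH.left).surjective⟩] at h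
    exact isClosed_compl_iff.mp h
  haveI : UniversallyOpen z := inferInstanceAs (UniversallyOpen w.left)
  haveI : UniversallyOpen (iG.left ≫ u.left) := by rw [← hz]; infer_instance
  exact universallyOpen_of_comp_surjective iG.left u.left

/-- (ii) ⇒ (i): let A be a local artinian ring and u : G → H a homomorphism between group schemes
locally of finite type over A. If the underlying map of u is open, then u is universally open. -/
theorem result (A : Type u) [CommRing A] [IsArtinianRing A] [IsLocalRing A]
    (G H : Over (Spec (CommRingCat.of A))) [GrpObj G] [GrpObj H] [LocallyOfFiniteType G.hom] [LocallyOfFiniteType H.hom]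
    (u : G ⟶ H) [IsMonHom u] (hu : IsOpenMap u.left.base) : UniversallyOpen u.left := by
  let j₀ : Spec (CommRingCat.of (IsLocalRing.ResidueField A)) ⟶ Spec (CommRingCat.of A) :=
    Spec.map (CommRingCat.ofHom (IsLocalRing.residue A))
  let j₁ : Spec (CommRingCat.of (AlgebraicClosure (IsLocalRing.ResidueField A))) ⟶ Spec (CommRingCat.of (IsLocalRing.ResidueField A)) :=
    Spec.map (CommRingCat.ofHom (algebraMap (IsLocalRing.ResidueField A) (AlgebraicClosure (IsLocalRing.ResidueField A))))
  let j := j₁ ≫ j₀
  haveI : IsClosedImmersion j₀ := IsClosedImmersion.spec_of_surjective _ Ideal.Quotient.mk_surjective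
  haveI : Surjective j₀ := ⟨fun p => ⟨IsLocalRing.closedPoint (IsLocalRing.ResidueField A), Subsingleton.elim (α := PrimeSpectrum A) _ _⟩⟩
  haveI : Flat j₁ := MonoFibre.flat_to_field (Field.toIsField (IsLocalRing.ResidueField A)) _
  haveI : Surjective j₁ := inferInstance
  haveI : Surjective j := inferInstanceAs (Surjective (j₁ ≫ j₀))
  let u' : Red.bc j G ⟶ Red.bc j H := (CategoryTheory.Over.pullback j).map u
  have sq : IsPullback u'.left (pullback.fst G.hom j) (pullback.fst H.hom j) u.left := by
    refine IsPullback.of_right (h₁₂ := pullback.snd H.hom j) (v₁₃ := j) (h₂₂ := H.hom) ?_ ?_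
      (IsPullback.of_hasPullback H.hom j).flip
    · rw [CategoryTheory.Over.w u, show u'.left ≫ pullback.snd H.hom j = pullback.snd G.hom j from CategoryTheory.Over.w u']
      exact (IsPullback.of_hasPullback G.hom j).flip
    · simp [u']; exact pullback.lift_fst _ _ _
  haveI : LocallyOfFiniteType (Red.bc j G).hom := inferInstanceAs (LocallyOfFiniteType (pullback.snd G.hom j))
  haveI : LocallyOfFiniteType (Red.bc j H).hom := inferInstanceAs (LocallyOfFiniteType (pullback.snd H.hom j))
  haveI : IsMonHom u' := inferInstanceAs (IsMonHom ((CategoryTheory.Over.pullback j).map u))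
  -- the image of `u'` contains a maximal point
  have hne : (pullback.fst H.hom j ⁻¹' Set.range u.left).Nonempty := by
    obtain ⟨w, hw⟩ := (MorphismProperty.of_isPullback (P := @Surjective) (IsPullback.of_hasPullback H.hom j).flip
      ‹Surjective j›).surj (u.left (η[G].left (IsLocalRing.closedPoint A)))
    exact ⟨w, ⟨_, hw.symm⟩⟩
  obtain ⟨w, hw⟩ := hne
  obtain ⟨ξ, hξw, hξ⟩ := MonoFibre.exists_isMaxPt w
  obtain ⟨g, hg⟩ := hξw.mem_open (hu.isOpen_range.preimage (pullback.fst H.hom j).continuous) hw
  obtain ⟨r, hr, -⟩ := Scheme.Pullback.exists_preimage_pullback (f := pullback.fst H.hom j) (g := u.left) ξ g hg.symm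
  have hp : MonoFibre.IsMaxPt (u'.left (sq.isoPullback.inv r)) := by
    rw [← Scheme.Hom.comp_apply, IsPullback.isoPullback_inv_fst, hr]; exact hξ
  haveI := universallyOpen_perfect u' ⟨_, hp⟩
  haveI : UniversallyOpen (pullback.fst G.hom j ≫ u.left) := by
    rw [← sq.w]
    haveI : UniversallyOpen (pullback.fst H.hom j) := by
      haveI : UniversallyOpen j₀ := by
        refine ⟨MorphismProperty.universally_mk' _ _ fun {T} t _ => ?_⟩
        intro U hU
        haveI : Surjective (pullback.fst t j₀) :=
          MorphismProperty.of_isPullback (P := @Surjective) (IsPullback.of_hasPullback t j₀).flip inferInstance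
        haveI : IsClosedImmersion (pullback.fst t j₀) :=
          MorphismProperty.of_isPullback (P := @IsClosedImmersion) (IsPullback.of_hasPullback t j₀).flip inferInstance
        have h := (pullback.fst t j₀).isClosedEmbedding.isClosedMap Uᶜ hU.isClosed_compl
        rw [Set.image_compl_eq ⟨(pullback.fst t j₀).isClosedEmbedding.injective, (pullback.fst t j₀).surjective⟩] at h
        exact isClosed_compl_iff.mp h
      haveI : UniversallyOpen j₁ := inferInstance
      exact MorphismProperty.of_isPullback (P := @UniversallyOpen) (IsPullback.of_hasPullback H.hom j).flip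
        (inferInstanceAs (UniversallyOpen (j₁ ≫ j₀)))
    infer_instance
  haveI : Surjective (pullback.fst G.hom j) :=
    MorphismProperty.of_isPullback (P := @Surjective) (IsPullback.of_hasPullback G.hom j).flip inferInstance
  exact universallyOpen_of_comp_surjective (pullback.fst G.hom j) u.left

end Groth.Agent.S3038
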