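import Groth.Statements.S3043
import Mathlib.AlgebraicGeometry.Morphisms.Integral
import Mathlib.AlgebraicGeometry.Morphisms.UniversallyInjective
-- import your own Groth.Agent.* helpers here

set_option autoImplicit false
set_option backward.isDefEq.respectTransparency false
universe u
open CategoryTheory MonoidalCategory CartesianMonoidalCategory MonObj GrpObj AlgebraicGeometry TensorProduct
open SGA3

namespace Groth.Agent.S3043

/-- Let π : X → S be a morphism of schemes admitting a section ε (ε followed by π is the identity). If π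
is injective on underlying points, then π is an integral morphism. -/
theorem result (X S : Scheme.{u}) (π : X ⟶ S) (ε : S ⟶ X) (hε : ε ≫ π = 𝟙 S)
    (hinj : Function.Injective π.base) : IsIntegralHom π := by
  have hεπ : ∀ s, π (ε s) = s := fun s => by rw [← Scheme.Hom.comp_apply, hε]; rfl
  have hπε : ∀ x, ε (π x) = x := fun x => hinj (hεπ (π x))
  have hUI : UniversallyInjective π := by
    refine (List.TFAE.out (tfae_universallyInjective π) 0 2 rfl rfl).mpr ?_
    refine ⟨hinj, fun x => ?_⟩
    obtain ⟨s, rfl⟩ : ∃ s : ↥S, ε s = x := Exists.intro (π x) (hπε x)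
    haveI : IsIso ((ε ≫ π).residueFieldMap s) := by rw [hε]; infer_instance
    have hb : Function.Bijective ((π.residueFieldMap (ε s) ≫ ε.residueFieldMap s) : _ ⟶ _).hom := by
      rw [← Scheme.residueFieldMap_comp]
      exact ConcreteCategory.bijective_of_isIso _
    have hsur : Function.Surjective (π.residueFieldMap (ε s)).hom := fun z => by
      obtain ⟨w, hw⟩ := hb.2 (ε.residueFieldMap s z)
      exact ⟨w, (ε.residueFieldMap s).hom.injective hw⟩
    algebraize [(π.residueFieldMap (ε s)).hom]
    refine isPurelyInseparable_iff.mpr fun z => ?_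
    obtain ⟨w, rfl⟩ := hsur z
    exact ⟨isIntegral_algebraMap, fun _ => ⟨w, rfl⟩⟩
  have hclosed : IsClosedMap π := fun Z hZ => by
    have : π '' Z = ε ⁻¹' Z := Set.ext fun s => ⟨fun ⟨x, hx, hxs⟩ => by
      show ε s ∈ Z
      rw [← hxs, hπε]; exact hx, fun hs => ⟨ε s, hs, hεπ s⟩⟩
    rw [this]; exact hZ.preimage ε.continuous
  haveI : IsAffineHom π := isAffineHom_of_isInducing π
    (Topology.IsClosedEmbedding.of_continuous_injective_isClosedMap π.continuous hinj hclosed).toIsInducing
    hclosed.isClosed_range
  haveI : UniversallyClosed π := by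
    rw [universallyClosed_iff]
    intro A B i₁ i₂ π' sq Z hZ
    haveI : UniversallyInjective π' := MorphismProperty.of_isPullback (P := @UniversallyInjective) sq.flip inferInstance
    let σ : B ⟶ A := sq.lift (𝟙 B) (i₂ ≫ ε) (by rw [Category.assoc, hε, Category.comp_id, Category.id_comp])
    have hσ : σ ≫ π' = 𝟙 B := sq.lift_fst _ _ _
    have hσπ : ∀ b, π' (σ b) = b := fun b => by rw [← Scheme.Hom.comp_apply, hσ]; rfl
    have hinj' : Function.Injective π' := π'.injective
    have : π' '' Z = σ ⁻¹' Z := Set.ext fun b => ⟨fun ⟨x, hx, hxb⟩ => by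
      show σ b ∈ Z
      rw [← hxb, hinj' (hσπ (π' x))]; exact hx, fun hb => ⟨σ b, hb, hσπ b⟩⟩
    rw [this]; exact hZ.preimage σ.continuous
  exact IsIntegralHom.iff_universallyClosed_and_isAffineHom.mpr ⟨inferInstance, inferInstance⟩

end Groth.Agent.S3043
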