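import Groth.Statements.S3049
import Groth.Agent.DescentStalkLib.UnivSub
-- import your own Groth.Agent.* helpers here

set_option autoImplicit false
set_option backward.isDefEq.respectTransparency false
set_option backward.isDefEq.respectTransparency.types false
open CategoryTheory CategoryTheory.Limits AlgebraicGeometry Opposite
universe u
open EtDesc

namespace Groth.Agent.S3049

open Groth.Agent.DescentStalkLib Groth.Agent.EtPtsLib

theorem secPull_eq_unit {X' X : Scheme.{u}} (f : X' ⟶ X) (F : EtDesc.Sh X) (s : EtDesc.sect F (EtCoh.top X)) :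
    EtDesc.secPull f F s = ((EtDesc.pullSh f).obj F).obj.map (EtCore.bcTopIso f).inv.op
      (((EtDesc.adjSh f).unit.app F).hom.app (op (EtCoh.top X)) s) := rfl

theorem injective_secPull {X' X : Scheme.{u}} (f : X' ⟶ X) (hf : EtDesc.IsUnivSubmersive f) (F : EtDesc.Sh X) :
    Function.Injective (EtDesc.secPull f F) :=
  (ConcreteCategory.bijective_of_isIso (((EtDesc.pullSh f).obj F).obj.map (EtCore.bcTopIso f).inv.op)).1.comp
    (injective_unit_app f hf F (EtCoh.top X))

theorem germAt_top {X : Scheme.{u}} {Ω : Type u} [Field Ω] [IsAlgClosed Ω] (G : EtDesc.Sh X)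
    (γ : Spec (CommRingCat.of Ω) ⟶ (EtCoh.top X).left) (s : EtDesc.sect G (EtCoh.top X)) :
    germAt γ s = germ _ G (EtCoh.top X) (liftTop (γ ≫ (EtCoh.top X).hom)) s :=
  congrArg (fun m => germ _ G (EtCoh.top X) m s) (liftTop_eq _ _)

theorem germ_app_top {X : Scheme.{u}} {G H : EtDesc.Sh X} (a : G ⟶ H) {Ω : Type u} [Field Ω] [IsAlgClosed Ω]
    (ω : Spec (CommRingCat.of Ω) ⟶ X) (t : EtDesc.sect G (EtCoh.top X)) :
    germ ω H (EtCoh.top X) (liftTop ω) (a.hom.app (op (EtCoh.top X)) t) =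
      stMap ω a (germ ω G (EtCoh.top X) (liftTop ω) t) :=
  (stMap_germ ω a (EtCoh.top X) (liftTop ω) t).symm

theorem germ_eq_of_app_eq {X : Scheme.{u}} {G H : EtDesc.Sh X} {a : G ⟶ H} {t : EtDesc.sect G (EtCoh.top X)}
    {r : EtDesc.sect H (EtCoh.top X)} (h : a.hom.app (op (EtCoh.top X)) t = r) {Ω : Type u} [Field Ω] [IsAlgClosed Ω]
    (ω : Spec (CommRingCat.of Ω) ⟶ X) :
    stMap ω a (germ ω G (EtCoh.top X) (liftTop ω) t) = germ ω H (EtCoh.top X) (liftTop ω) r := by
  subst h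
  exact (germ_app_top a ω t).symm

theorem app_eq_of_germ_eq {X : Scheme.{u}} {G H : EtDesc.Sh X} {a : G ⟶ H} {t : EtDesc.sect G (EtCoh.top X)}
    {r : EtDesc.sect H (EtCoh.top X)}
    (h : ∀ (Ω : Type u) [Field Ω] [IsAlgClosed Ω] (ω : Spec (CommRingCat.of Ω) ⟶ X),
      stMap ω a (germ ω G (EtCoh.top X) (liftTop ω) t) = germ ω H (EtCoh.top X) (liftTop ω) r) :
    a.hom.app (op (EtCoh.top X)) t = r :=
  eq_of_germs fun _ => (germAt_top _ _ _).trans ((germ_app_top a _ t).trans ((h _ _).trans (germAt_top _ _ _).symm))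

theorem app_top_X2 {X' X : Scheme.{u}} {f : X' ⟶ X} {G H : EtDesc.Sh (pullback f f)} {a : G ⟶ H}
    {t : EtDesc.sect G (EtCoh.top (pullback f f))} {r : EtDesc.sect H (EtCoh.top (pullback f f))} :
    a.hom.app (op (EtCoh.top (pullback f f))) t = r ↔ a.hom.app (op (EtCoh.top (EtDesc.X2 f))) t = r :=
  Iff.rfl

theorem germ_canIso_secPull {X' X : Scheme.{u}} (f : X' ⟶ X) (F : EtDesc.Sh X) (s : EtDesc.sect F (EtCoh.top X))
    {Ω : Type u} [Field Ω] [IsAlgClosed Ω] (ω : Spec (CommRingCat.of Ω) ⟶ EtDesc.X2 f) :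
    stMap ω (EtDesc.canIso f F).hom (germ ω _ (EtCoh.top (EtDesc.X2 f)) (liftTop ω)
        (EtDesc.secPull (pullback.fst f f) ((EtDesc.pullSh f).obj F) (EtDesc.secPull f F s))) =
      germ ω _ (EtCoh.top (EtDesc.X2 f)) (liftTop ω)
        (EtDesc.secPull (pullback.snd f f) ((EtDesc.pullSh f).obj F) (EtDesc.secPull f F s)) := by
  rw [germ_secPull, germ_secPull, germ_secPull, germ_secPull,
    stMap_canIso f F ω _ (by rw [Category.assoc, Category.assoc, pullback.condition]), tr_germTop]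

theorem range_subset {X' X : Scheme.{u}} (f : X' ⟶ X) (F : EtDesc.Sh X) (s : EtDesc.sect F (EtCoh.top X)) :
    (EtDesc.canIso f F).hom.hom.app (op (EtCoh.top (EtDesc.X2 f)))
        (EtDesc.secPull (pullback.fst f f) ((EtDesc.pullSh f).obj F) (EtDesc.secPull f F s)) =
      EtDesc.secPull (pullback.snd f f) ((EtDesc.pullSh f).obj F) (EtDesc.secPull f F s) := by
  exact app_top_X2.1 <| app_eq_of_germ_eq (X := pullback f f) fun Ω _ _ ω => germ_canIso_secPull f F s ω

theorem germAt_map_top {X : Scheme.{u}} {Ω : Type u} [Field Ω] [IsAlgClosed Ω] (G : EtDesc.Sh X) {B : X.Etale}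
    (i : B ⟶ EtCoh.top X) (γ : Spec (CommRingCat.of Ω) ⟶ B.left) (s : EtDesc.sect G (EtCoh.top X)) :
    germAt γ (G.obj.map i.op s) = germ _ G (EtCoh.top X) (liftTop (γ ≫ B.hom)) s :=
  (germ_res _ G i (liftOf γ) s).trans (congrArg (fun m => germ _ G (EtCoh.top X) m s) (liftTop_eq _ _))

theorem map_inv_map_hom {X : Scheme.{u}} (G : EtDesc.Sh X) {A B : X.Etale} (e : A ≅ B) (s : EtDesc.sect G B) :
    G.obj.map e.inv.op (G.obj.map e.hom.op s) = s := by
  rw [← Functor.map_comp_apply, ← op_comp, Iso.inv_hom_id, op_id]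
  exact FunctorToTypes.map_id_apply _ _

theorem coherent_of_eq {X' X : Scheme.{u}} (f : X' ⟶ X) (F : EtDesc.Sh X)
    (s' : EtDesc.sect ((EtDesc.pullSh f).obj F) (EtCoh.top X'))
    (h : (EtDesc.canIso f F).hom.hom.app (op (EtCoh.top (EtDesc.X2 f)))
        (EtDesc.secPull (pullback.fst f f) ((EtDesc.pullSh f).obj F) s') =
      EtDesc.secPull (pullback.snd f f) ((EtDesc.pullSh f).obj F) s') (U : X.Etale)
    (i : (EtCoh.bc f).obj U ⟶ EtCoh.top X') :
    Coherent f F U (((EtDesc.pullSh f).obj F).obj.map i.op s') := by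
  intro Ω _ _ γ₁ γ₂ h12 t ht
  rw [germAt_map_top] at ht ⊢
  refine eq_of_canIso f F (imPt_eq f h12) t _ _ ht fun ω e₁ e₂ => ?_
  have h1 := germ_eq_of_app_eq (X := pullback f f) (app_top_X2.2 h) ω
  rw [germ_secPull, germ_secPull] at h1
  rw [tr_germTop, tr_germTop]
  exact h1

theorem mem_range_secPull {X' X : Scheme.{u}} (f : X' ⟶ X) (hf : EtDesc.IsUnivSubmersive f) (F : EtDesc.Sh X)
    (s' : EtDesc.sect ((EtDesc.pullSh f).obj F) (EtCoh.top X'))
    (h : (EtDesc.canIso f F).hom.hom.app (op (EtCoh.top (EtDesc.X2 f)))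
        (EtDesc.secPull (pullback.fst f f) ((EtDesc.pullSh f).obj F) s') =
      EtDesc.secPull (pullback.snd f f) ((EtDesc.pullSh f).obj F) s') :
    s' ∈ Set.range (EtDesc.secPull f F) := by
  obtain ⟨s, hs⟩ := mem_range_unit f hf F (coherent_of_eq f F s' h (EtCoh.top X) (EtCore.bcTopIso f).hom)
  exact ⟨s, (secPull_eq_unit f F s).trans
    ((congrArg (((EtDesc.pullSh f).obj F).obj.map (EtCore.bcTopIso f).inv.op) hs).trans
      (map_inv_map_hom _ (EtCore.bcTopIso f) s'))⟩

/-- Let f : X' -> X be universally submersive and F a sheaf of sets on X_et, with inverse images F' on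
X' and F'' on X'' = X' x_X X'. Then Gamma(X, F) -> Gamma(X', F') is injective with image the
sections whose two pullbacks to X'' agree (under the canonical identification pr_1^* F' = pr_2^*
F'); i.e. the sequence Gamma(X, F) -> Gamma(X', F') => Gamma(X'', F'') is exact. -/
theorem result {X' X : Scheme.{u}} (f : X' ⟶ X)
    (hf : EtDesc.IsUnivSubmersive f) (F : EtDesc.Sh X) :
    Function.Injective (EtDesc.secPull f F) ∧
    Set.range (EtDesc.secPull f F) =
      {s' | (EtDesc.canIso f F).hom.hom.app (op (EtCoh.top (EtDesc.X2 f)))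
          (EtDesc.secPull (pullback.fst f f) ((EtDesc.pullSh f).obj F) s') =
        EtDesc.secPull (pullback.snd f f) ((EtDesc.pullSh f).obj F) s'} := by
  refine ⟨injective_secPull f hf F, Set.Subset.antisymm ?_ fun s' h => mem_range_secPull f hf F s' h⟩
  rintro _ ⟨s, rfl⟩
  exact range_subset f F s

end Groth.Agent.S3049
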