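import Groth.Statements.S3053
import Groth.Agent.DeligneLib.Points

set_option autoImplicit false
open CategoryTheory CategoryTheory.Limits Opposite
universe u
open ToposFin

namespace Groth.Agent.S3053

/-- Let C be a small category with finite limits and J a Grothendieck topology on C such that every
covering sieve of every object contains finitely many arrows which already generate a covering
sieve. Then the site (C, J) has enough points: there is a small conservative family of points of its
topos of sheaves. The published statement is for locally coherent topoi and reduces to this case. -/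
theorem result (C : Type u) [SmallCategory C] [HasFiniteLimits C]
    (J : GrothendieckTopology C)
    (hJ : ∀ (U : C) (S : Sieve U), S ∈ J U →
      ∃ (n : ℕ) (V : Fin n → C) (g : ∀ k, V k ⟶ U), (∀ k, S (g k)) ∧ Sieve.ofArrows V g ∈ J U) :
    GrothendieckTopology.HasEnoughPoints.{u} J := by
  refine Groth.Agent.DeligneLib.hasEnoughPoints.{u, u} (Q := fun _ => True)
    { cover := fun X => J.superset_covering ?_ (J.top_mem X)
      refine' := fun U _ R hR => ?_
      pullback := fun _ _ _ _ _ => trivial
      wide := by intros; trivial }
  · intro Y f _
    exact ⟨Y, 𝟙 _, f, ⟨Y, 𝟙 _, f, trivial, Category.id_comp f⟩, Category.id_comp f⟩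
  · obtain ⟨n, V, g, hg, h⟩ := hJ U R hR
    exact ⟨n, V, g, fun k => ⟨trivial, hg k⟩, h⟩

end Groth.Agent.S3053
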