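import Groth.Statements.S3058
import Groth.Agent.ToposFinLib.Local

set_option autoImplicit false
open CategoryTheory CategoryTheory.Limits Opposite
universe u
open ToposFin

namespace Groth.Agent.S3058

set_option backward.isDefEq.respectTransparency false
set_option backward.isDefEq.respectTransparency.types false
open Groth.Agent.ToposFinLib

/-- For a topos of sheaves of sets on a small site: the coproduct of a small family of objects is
quasi-compact if and only if every member is quasi-compact and all but finitely many members are
initial (empty) objects. -/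
theorem result {C : Type u} [SmallCategory C] {J : GrothendieckTopology C} {ι : Type u}
    (F : ι → ToposFin.Sh J) :
    ToposFin.IsQC (∐ F) ↔ (∀ i, ToposFin.IsQC (F i)) ∧ {i | IsEmpty (F i ≅ ⊥_ (ToposFin.Sh J))}.Finite := by
  have hc : IsColimit (Cofan.mk (∐ F) (Sigma.ι F)) := coproductIsCoproduct F
  constructor
  · intro h
    refine ⟨fun i => isQC_summand hc i h, ?_⟩
    obtain ⟨s, hs⟩ := IsQC.exists_finset h (cov_sigma_ι F)
    refine Set.Finite.subset s.finite_toSet fun i hi => ?_
    by_contra hni
    obtain ⟨hI⟩ := isInitial_of_cov_initial (cov_pullback' hs (Sigma.ι F i)) fun k =>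
      isInitial_of_inj_eq hc i (k := k.1) (fun e => hni (e ▸ k.2))
        (pullback.fst _ _) (pullback.snd _ _) pullback.condition
    exact hi.false (hI.uniqueUpToIso initialIsInitial)
  · rintro ⟨h1, h2⟩
    have := h2.to_subtype
    refine isQC_of_finite_cov (κ := {i | IsEmpty (F i ≅ ⊥_ (Sh J))}) (g := fun i => Sigma.ι F i.1) ?_ fun i => h1 _
    intro Z a b w
    refine Sigma.hom_ext _ _ fun i => ?_
    by_cases hi : IsEmpty (F i ≅ ⊥_ (Sh J))
    · exact w ⟨i, hi⟩
    · obtain ⟨e⟩ := not_isEmpty_iff.1 hi
      exact (initialIsInitial.ofIso e.symm).hom_ext _ _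

end Groth.Agent.S3058
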