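import Groth.Statements.S3067
import Groth.Agent.ToposFinLib.Local

set_option autoImplicit false
open CategoryTheory CategoryTheory.Limits Opposite
universe u
open ToposFin

namespace Groth.Agent.S3067

set_option backward.isDefEq.respectTransparency false
set_option backward.isDefEq.respectTransparency.types false
open Groth.Agent.ToposFinLib

/-- In the topos of sheaves of sets on a small site that admits a generating family of quasi-compact
objects, let (g_i : Y_i → Y) be a jointly epimorphic family of morphisms with every Y_i coherent.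
Then Y is quasi-separated if and only if every g_i is quasi-compact, and Y is quasi-separated if and
only if every fibre product Y_i ×_Y Y_j is quasi-compact. -/
theorem result {C : Type u} [SmallCategory C] {J : GrothendieckTopology C} (hE : ToposFin.HasQCGenerators J) {Y : ToposFin.Sh J} {ι : Type u}
    (Yi : ι → ToposFin.Sh J) (g : ∀ i, Yi i ⟶ Y) (hg : Epi (Sigma.desc g)) (hY : ∀ i, ToposFin.IsCoherent (Yi i)) :
    (ToposFin.IsQS Y ↔ ∀ i, ToposFin.IsQCHom (g i)) ∧
    (ToposFin.IsQS Y ↔ ∀ i j, ToposFin.IsQC (pullback (g i) (g j))) := by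
  have hg' := (cov_iff_epi g).2 hg
  have h1 : (∀ i j, IsQC (pullback (g i) (g j))) → ∀ i, IsQCHom (g i) := fun h i => by
    refine isQCHom_of_cov hE _ hg' fun j => ?_
    exact isQCHom_of_isQS _ (h i j) (hY j).2
  have h2 : (∀ i, IsQCHom (g i)) → IsQS Y := fun h => isQS_of_cov hg' (fun i => (hY i).2) h
  exact ⟨⟨fun h i => isQCHom_of_isQS _ (hY i).1 h, h2⟩,
    ⟨fun h i j => h _ _ (g i) (g j) (hY i).1 (hY j).1, fun h => h2 (h1 h)⟩⟩

end Groth.Agent.S3067
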