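import Groth.Statements.S3068
import Groth.Agent.ToposFinLib.Coprod

set_option autoImplicit false
open CategoryTheory CategoryTheory.Limits Opposite
universe u
open ToposFin

namespace Groth.Agent.S3068

set_option backward.isDefEq.respectTransparency false
set_option backward.isDefEq.respectTransparency.types false
open Groth.Agent.ToposFinLib

/-- For a topos of sheaves of sets on a small site: given a generating family of quasi-compact objects
G_a, an object Y is quasi-separated if and only if every morphism G_a -> Y is quasi-compact. -/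
theorem result {C : Type u} [SmallCategory C] {J : GrothendieckTopology C} {α : Type u} (G : α → ToposFin.Sh J) (hG : ∀ a, ToposFin.IsQC (G a))
    (hgen : ∀ X : ToposFin.Sh J, ∃ (ι : Type u) (a : ι → α) (π : ∀ i, G (a i) ⟶ X), Epi (Sigma.desc π))
    (Y : ToposFin.Sh J) :
    ToposFin.IsQS Y ↔ ∀ (a : α) (s : G a ⟶ Y), ToposFin.IsQCHom s := by
  refine ⟨fun h a s => isQCHom_of_isQS s (hG a) h, fun h => ?_⟩
  refine isQS_of_gen (P := fun A => ∃ a, A = G a)
    (fun Z => by obtain ⟨ι, a, π, hπ⟩ := hgen Z; exact ⟨ι, _, π, fun i => ⟨a i, rfl⟩, (cov_iff_epi π).2 hπ⟩)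
    fun {A B} s t ⟨a, ha⟩ ⟨b, hb⟩ => ?_
  subst ha; subst hb
  exact h a s _ t (hG b)

end Groth.Agent.S3068
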