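import Groth.Statements.S3079
import Groth.Agent.ToposFinLib.FP
import Mathlib.CategoryTheory.Sites.Canonical
import Mathlib.CategoryTheory.Sites.Sheaf
import Mathlib.CategoryTheory.Limits.Types.Equalizers
import Mathlib.CategoryTheory.Limits.Shapes.Opposites.Products
import Mathlib.CategoryTheory.Limits.Shapes.Opposites.Equalizers
import Mathlib.CategoryTheory.Limits.Yoneda

set_option autoImplicit false
universe w v u
open CategoryTheory
open SGA4

namespace Groth.Agent.S3079

set_option backward.isDefEq.respectTransparency false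
set_option backward.isDefEq.respectTransparency.types false
open Opposite Limits Groth.Agent.ToposFinLib

section
variable {C : Type u} [SmallCategory C] {J : GrothendieckTopology C}

/-- Jointly epimorphic families cover for the canonical topology of the topos. -/
theorem cov_mem_canonical {ι : Type*} {F : ι → Sheaf J (Type u)} {X : Sheaf J (Type u)} {π : ∀ i, F i ⟶ X}
    (h : Cov π) : Sieve.ofArrows F π ∈ Sheaf.canonicalTopology (Sheaf J (Type u)) X := by
  refine Sheaf.mem_finestTopology_of_forall_isSheafFor ?_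
  rintro P ⟨Z, rfl⟩ Y f x hx
  let T := (Sieve.ofArrows F π).pullback f
  have hT : Cov (fun p : Σ Y', {g : Y' ⟶ Y // T g} => p.2.1) :=
    cov_of_factor (cov_pullback' h f) fun i => ⟨⟨_, pullback.fst f (π i), by
      change Sieve.ofArrows F π (pullback.fst f (π i) ≫ f)
      rw [pullback.condition]
      exact (Sieve.ofArrows F π).downward_closed (Sieve.ofArrows_mk F π i) _⟩, 𝟙 _, Category.id_comp _⟩
  obtain ⟨z, hz⟩ := exists_glue hT (fun p => x p.2.1 p.2.2) fun p q => hx _ _ p.2.2 q.2.2 pullback.condition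
  exact ⟨z, fun Y' g hg => hz ⟨Y', g, hg⟩, fun z' hz' => hT _ _ _ fun p => (hz' p.2.1 p.2.2).trans (hz p).symm⟩

theorem cov_of_mem_canonical {X : Sheaf J (Type u)} {S : Sieve X}
    (hS : S ∈ Sheaf.canonicalTopology (Sheaf J (Type u)) X) : Cov (fun p : Σ Y, {g : Y ⟶ X // S g} => p.2.1) :=
  fun Z _ _ e => ((Sheaf.isSheaf_yoneda_obj Z).isSeparated S hS).ext fun Y g hg => e ⟨Y, g, hg⟩

variable (G : (Sheaf J (Type u))ᵒᵖ ⥤ Type w)

section
variable (hG : Presieve.IsSheaf (Sheaf.canonicalTopology (Sheaf J (Type u))) G)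
include hG

theorem eq_of_cov {ι : Type*} {F : ι → Sheaf J (Type u)} {X : Sheaf J (Type u)} {π : ∀ i, F i ⟶ X} (h : Cov π)
    {a b : G.obj (op X)} (e : ∀ i, G.map (π i).op a = G.map (π i).op b) : a = b :=
  (hG.isSeparated _ (cov_mem_canonical h)).ext fun Y g hg => by
    obtain ⟨_, m, _, ⟨i⟩, rfl⟩ := hg
    simp only [op_comp, Functor.map_comp_apply, e i]

theorem preservesLimit_of_isSheaf {I : Type u} [SmallCategory I] (K : I ⥤ (Sheaf J (Type u))ᵒᵖ) : PreservesLimit K G := by
  classical
  refine preservesLimit_of_preserves_limit_cone (limit.isLimit K) (((Types.isLimit_iff _).2 fun x hx => ?_).some)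
  let hc := limit.isLimit K
  let ι : ∀ i, (K.obj i).unop ⟶ (limit K).unop := fun i => (limit.π K i).unop
  have hcov : Cov ι := fun Z a b e => Quiver.Hom.op_inj (limit.hom_ext fun i => Quiver.Hom.unop_inj (e i))
  let val : ∀ U : C, (Σ i, (K.obj i).unop.obj.obj (op U)) → G.obj (op (ToposFin.eps J U)) :=
    fun U p => G.map (el p.2).op (x p.1)
  let st : ∀ U : C, Setoid (Σ i, (K.obj i).unop.obj.obj (op U)) := fun U => Setoid.ker (val U)
  have hval : ∀ {U V : C} (g : V ⟶ U) (p : Σ i, (K.obj i).unop.obj.obj (op U)),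
      val V ⟨p.1, (K.obj p.1).unop.obj.map g.op p.2⟩ =
        G.map ((presheafToSheaf J (Type u)).map (yoneda.map g)).op (val U p) := fun g p => by
    simp only [val, ← el_map, op_comp, Functor.map_comp_apply]
  let P : Cᵒᵖ ⥤ Type u :=
    { obj := fun U => Quotient (st U.unop)
      map := fun {U V} g => TypeCat.ofHom (Quotient.map (fun p => ⟨p.1, (K.obj p.1).unop.obj.map g p.2⟩)
        fun p q (e : val U.unop p = val U.unop q) => show val V.unop _ = val V.unop _ from by
          rw [show g = g.unop.op from rfl, hval g.unop p, hval g.unop q, e])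
      map_id := fun U => by
        refine ConcreteCategory.hom_ext _ _ fun q => ?_
        obtain ⟨p, rfl⟩ := Quotient.exists_rep q
        exact congrArg (Quotient.mk _) (by simp)
      map_comp := fun f g => by
        refine ConcreteCategory.hom_ext _ _ fun q => ?_
        obtain ⟨p, rfl⟩ := Quotient.exists_rep q
        exact congrArg (Quotient.mk _) (by simp) }
  let m : ∀ i, (K.obj i).unop ⟶ (presheafToSheaf J (Type u)).obj P := fun i =>
    ⟨({ app := fun U => TypeCat.ofHom fun y => Quotient.mk (st U.unop) ⟨i, y⟩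
        naturality := fun U V g => rfl } : (K.obj i).unop.obj ⟶ P) ≫ toSheafify J P⟩
  have hm : ∀ {i j : I} (u : i ⟶ j), (K.map u).unop ≫ m i = m j := by
    intro i j u
    refine hom_ext_app fun U y => ?_
    refine congrArg ((toSheafify J P).app (op U)) (Quotient.sound ?_)
    change G.map (el ((K.map u).unop.hom.app (op U) y)).op (x i) = G.map (el y).op (x j)
    rw [← el_comp, op_comp, Functor.map_comp_apply]
    exact congrArg _ (hx u)
  let d : (limit K).unop ⟶ (presheafToSheaf J (Type u)).obj P :=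
    (limit.lift K ⟨op ((presheafToSheaf J (Type u)).obj P),
      { app := fun i => (m i).op, naturality := fun i j u => by
          refine Quiver.Hom.unop_inj ?_
          simp [hm u] }⟩).unop
  have hd : ∀ i, ι i ≫ d = m i := fun i => by
    apply Quiver.Hom.op_inj
    exact limit.lift_π (F := K) _ i
  have key1 : ∀ (U : C) (i j : I) (f : (K.obj i).unop.obj.obj (op U)) (g : (K.obj j).unop.obj.obj (op U)),
      (ι i).hom.app _ f = (ι j).hom.app _ g → G.map (el f).op (x i) = G.map (el g).op (x j) := by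
    intro U i j f g e
    have e' : (toSheafify J P).app (op U) (Quotient.mk (st U) ⟨i, f⟩) =
        (toSheafify J P).app (op U) (Quotient.mk (st U) ⟨j, g⟩) :=
      (congrArg (fun k => k.hom.app (op U) f) (hd i)).symm.trans
        ((congrArg (d.hom.app (op U)) e).trans (congrArg (fun k => k.hom.app (op U) g) (hd j)))
    have hS := Presheaf.equalizerSieve_mem J (toSheafify J P) _ _ e'
    refine eq_of_cov G hG (cov_eps_map (fun p : Σ V, {w : V ⟶ U // Presheaf.equalizerSieve (F := P)
      (Quotient.mk (st U) ⟨i, f⟩) (Quotient.mk (st U) ⟨j, g⟩) w} => p.2.1) (J.superset_covering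
        (fun V w hw => Sieve.ofArrows_mk _ _ (⟨V, w, hw⟩ : Σ V, {w : V ⟶ U // Presheaf.equalizerSieve (F := P)
          (Quotient.mk (st U) ⟨i, f⟩) (Quotient.mk (st U) ⟨j, g⟩) w})) hS)) fun p => ?_
    exact (hval p.2.1 ⟨i, f⟩).symm.trans ((Quotient.exact p.2.2).trans (hval p.2.1 ⟨j, g⟩))
  have key : ∀ {T : Sheaf J (Type u)} (i j : I) (f : T ⟶ (K.obj i).unop) (g : T ⟶ (K.obj j).unop),
      f ≫ ι i = g ≫ ι j → G.map f.op (x i) = G.map g.op (x j) := by
    intro T i j f g e
    refine eq_of_cov G hG (cov_el T) fun p => ?_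
    rw [← Functor.map_comp_apply, ← Functor.map_comp_apply, ← op_comp, ← op_comp, el_comp, el_comp]
    exact key1 _ i j _ _ (congrArg (fun k => k.hom.app _ p.2) e)
  have hS := cov_mem_canonical hcov
  have hrep : ∀ {T : Sheaf J (Type u)} {f : T ⟶ (limit K).unop},
      Sieve.ofArrows (fun i => (K.obj i).unop) ι f → ∃ (i : I) (t : T ⟶ (K.obj i).unop), t ≫ ι i = f := by
    rintro T f ⟨_, t, _, ⟨i⟩, rfl⟩
    exact ⟨i, t, rfl⟩
  let fam : Presieve.FamilyOfElements G (Sieve.ofArrows (fun i => (K.obj i).unop) ι).arrows :=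
    fun T f hf => G.map (hrep hf).choose_spec.choose.op (x (hrep hf).choose)
  have hfam : fam.Compatible := fun T₁ T₂ W g₁ g₂ f₁ f₂ h₁ h₂ e => by
    simp only [fam, ← Functor.map_comp_apply, ← op_comp]
    exact key _ _ _ _ (by rw [Category.assoc, Category.assoc, (hrep h₁).choose_spec.choose_spec,
      (hrep h₂).choose_spec.choose_spec, e])
  obtain ⟨z, hz, -⟩ := hG _ hS fam hfam
  have hz' : ∀ i, G.map (ι i).op z = x i := fun i => by
    have hi := Sieve.ofArrows_mk (fun i => (K.obj i).unop) ι i
    refine (hz _ hi).trans ?_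
    exact (key (hrep hi).choose i (hrep hi).choose_spec.choose (𝟙 _)
      ((hrep hi).choose_spec.choose_spec.trans (Category.id_comp _).symm)).trans (by simp)
  exact ⟨z, hz', fun z' h => eq_of_cov G hG hcov fun i => (h i).trans (hz' i).symm⟩

end

theorem isSheaf_of_preserves [PreservesLimitsOfSize.{u, u} G] :
    Presieve.IsSheaf (Sheaf.canonicalTopology (Sheaf J (Type u))) G := by
  classical
  have prod : ∀ {ι : Type u} (F : ι → Sheaf J (Type u)) (z : ∀ i, G.obj (op (F i))),
      ∃! y : G.obj (op (∐ F)), ∀ i, G.map (Sigma.ι F i).op y = z i := by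
    intro ι F z
    have h := isLimitOfPreserves G (Cofan.IsColimit.op (coproductIsCoproduct F))
    obtain ⟨y, hy, hu⟩ := (Types.isLimit_iff _).1 ⟨h⟩ (fun j => z j.as) (fun {i j} f => by
      obtain ⟨⟨e⟩⟩ := f
      obtain ⟨i⟩ := i
      obtain ⟨j⟩ := j
      cases e
      simp)
    exact ⟨y, fun i => hy ⟨i⟩, fun y' h' => hu y' fun j => h' j.as⟩
  have main : ∀ {ι : Type u} {F : ι → Sheaf J (Type u)} {X : Sheaf J (Type u)} {π : ∀ i, F i ⟶ X}, Cov π →
      ∀ x : ∀ i, G.obj (op (F i)), (∀ i j, G.map (pullback.fst (π i) (π j)).op (x i) = G.map (pullback.snd (π i) (π j)).op (x j)) →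
      ∃! z, ∀ i, G.map (π i).op z = x i := by
    intro ι F X π hπ x hx
    let a : (∐ fun p : ι × ι => pullback (π p.1) (π p.2)) ⟶ ∐ F := Sigma.desc fun p => pullback.fst _ _ ≫ Sigma.ι F p.1
    let b : (∐ fun p : ι × ι => pullback (π p.1) (π p.2)) ⟶ ∐ F := Sigma.desc fun p => pullback.snd _ _ ≫ Sigma.ι F p.2
    have w : a ≫ Sigma.desc π = b ≫ Sigma.desc π := Sigma.hom_ext _ _ fun p => by simp [a, b, pullback.condition]
    have hgl : ∀ s : Cofork a b, ∃ d : X ⟶ s.pt, ∀ i, π i ≫ d = Sigma.ι F i ≫ s.π := fun s =>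
      exists_glue hπ _ fun i j => by
        have := congrArg (fun k => Sigma.ι (fun p : ι × ι => pullback (π p.1) (π p.2)) (i, j) ≫ k) s.condition
        simpa [a, b] using this
    choose d hd using hgl
    have hc : IsColimit (Cofork.ofπ (Sigma.desc π) w) := Cofork.IsColimit.mk _ d
      (fun s => Sigma.hom_ext _ _ fun i => by simp [hd])
      (fun s m hm => hπ _ _ _ fun i => by rw [hd, ← hm]; simp)
    have : PreservesLimitsOfSize.{0, 0} G := preservesSmallestLimits_of_preservesLimits G
    have hl := isLimitForkMapOfIsLimit G _ (Cofork.isColimitOfπEquivIsLimitOp _ _ w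
      (by rw [← op_comp, ← op_comp, w]) rfl hc)
    obtain ⟨y, hy, -⟩ := prod F x
    have hab : G.map a.op y = G.map b.op y := by
      refine (prod _ fun p : ι × ι => G.map (pullback.fst (π p.1) (π p.2)).op (x p.1)).unique (fun p => ?_) fun p => ?_
      · rw [← Functor.map_comp_apply, ← op_comp]
        simp [a, hy]
      · rw [← Functor.map_comp_apply, ← op_comp]
        simp [b, hy, hx]
    obtain ⟨z, hz, hu⟩ := Types.unique_of_type_equalizer _ _ hl y hab
    refine ⟨z, fun i => ?_, fun z' hz' => hu z' ?_⟩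
    · rw [← Sigma.ι_desc π i, op_comp, Functor.map_comp_apply, hz, hy]
    · refine (prod F x).unique (fun i => ?_) hy
      rw [← Functor.map_comp_apply, ← op_comp, Sigma.ι_desc]
      exact hz' i
  intro X S hS x hx
  have hc := cov_of_mem_canonical hS
  let T : Type u := Σ U : C, Σ y : X.obj.obj (op U), Σ V : C, {f : V ⟶ U // imgSieve (fun p : Σ Y, {g : Y ⟶ X // S g} => p.2.1) y f}
  let idx : T → Σ Y, {g : Y ⟶ X // S g} := fun t => t.2.2.2.2.choose
  have hT : Cov (fun t => (idx t).2.1) := cov_of_local _ fun U y =>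
    J.superset_covering (fun V f hf => ⟨⟨U, y, V, f, hf⟩, hf.choose_spec⟩) (local_of_cov hc U y)
  obtain ⟨z, hz, hu⟩ := main hT (fun t => x (idx t).2.1 (idx t).2.2)
    fun s t => hx _ _ (idx s).2.2 (idx t).2.2 pullback.condition
  refine ⟨z, fun Y g hg => ?_, fun z' hz' => hu z' fun t => hz' _ (idx t).2.2⟩
  have hYcov := cov_pullback' hT g
  refine (main hYcov (fun t => G.map (pullback.fst g (idx t).2.1).op (x g hg)) fun s t => ?_).unique
    (fun t => ?_) fun t => rfl
  · simp only [← Functor.map_comp_apply, ← op_comp, pullback.condition]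
  · rw [← Functor.map_comp_apply, ← op_comp, pullback.condition, op_comp, Functor.map_comp_apply, hz t]
    exact (hx _ _ hg (idx t).2.2 pullback.condition).symm

end

open CategoryTheory.Limits in
/-- For the topos of sheaves of sets on a small site (C, J): a presheaf F on the topos with values in an
arbitrary category E' is a sheaf for the canonical topology of the topos if and only if F, as a
functor on the opposite category, preserves all u-small limits (i.e. turns u-small colimits of
sheaves into limits in E'). -/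
theorem result {C : Type u} [SmallCategory C] (J : GrothendieckTopology C)
    {E' : Type v} [Category.{w} E'] (F : (Sheaf J (Type u))ᵒᵖ ⥤ E') :
    Presheaf.IsSheaf (Sheaf.canonicalTopology (Sheaf J (Type u))) F ↔ PreservesLimitsOfSize.{u, u} F := by
  constructor
  · intro h
    refine ⟨fun {I} _ => ⟨fun {K} => ⟨fun {c} hc => ⟨coyonedaJointlyReflectsLimits _ _ fun A => ?_⟩⟩⟩⟩
    have := preservesLimit_of_isSheaf (F ⋙ coyoneda.obj A) (h A.unop) K
    exact isLimitOfPreserves (F ⋙ coyoneda.obj A) hc
  · intro h A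
    exact isSheaf_of_preserves (F ⋙ coyoneda.obj (op A))

end Groth.Agent.S3079
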