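import Groth.Statements.S3080
import Groth.Agent.GiraudLib.SheafTopos
-- import your own Groth.Agent.* helpers here

set_option autoImplicit false
universe v u
open CategoryTheory
open SGA4

namespace Groth.Agent.S3080

open CategoryTheory.Limits in
/-- Let (C, J) and (D, K) be small sites and f a functor from sheaves of sets on (C, J) to sheaves of
sets on (D, K) which preserves finite limits and sends u-small jointly epimorphic families to
jointly epimorphic families. Then f is a left adjoint (so it is the inverse-image functor of a
morphism of topoi) and f preserves all u-small colimits. -/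
theorem result {C D : Type u} [SmallCategory C] [SmallCategory D]
    (J : GrothendieckTopology C) (K : GrothendieckTopology D) (f : Sheaf J (Type u) ⥤ Sheaf K (Type u))
    [PreservesFiniteLimits f] (hf : SGA4.PreservesEpiFamilies.{u + 1, u + 1, u} f) :
    f.IsLeftAdjoint ∧ PreservesColimitsOfSize.{u, u} f := by
  let G := Groth.Agent.GiraudLib.sheafAxioms J
  haveI : PreservesColimitsOfSize.{u, u} f :=
    G.preservesColimits_of_covers (Groth.Agent.GiraudLib.sheafAxioms K) f fun {α B A} g hg =>
      (Groth.Agent.GiraudLib.covers_iff_isEpiFamily _).2
        (hf α B A g ((Groth.Agent.GiraudLib.covers_iff_isEpiFamily g).1 hg))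
  exact ⟨G.isLeftAdjoint_of_preservesColimits f, inferInstance⟩

end Groth.Agent.S3080
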