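import Groth.Statements.S3082
import Mathlib
-- import your own Groth.Agent.* helpers here

set_option autoImplicit false
universe u
open CategoryTheory
open SGA4

namespace Groth.Agent.S3082

/-- Let (C, J) be a small site and G a set of objects of C such that each object of C has a covering
family whose members all lie in G. Then the sheafifications of the presheaves represented by the
members of G form a detecting family in the category Sh(C, J) of set-valued sheaves on (C, J): any
morphism of sheaves that is bijective on sections over each member of G is an isomorphism. -/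
theorem result {C : Type u} [SmallCategory C] (J : GrothendieckTopology C) (G : Set C)
    (hG : ∀ X : C, ∃ (ι : Type u) (Y : ι → C) (f : ∀ i, Y i ⟶ X), Sieve.ofArrows Y f ∈ J X ∧ ∀ i, Y i ∈ G) :
    (ObjectProperty.ofObj fun X : G => (presheafToSheaf J (Type u)).obj (yoneda.obj (X : C))).IsDetecting := by
  intro F F' f hf
  let A := sheafificationAdjunction J (Type u)
  have hb : ∀ Y ∈ G, Function.Bijective (f.hom.app ⟨Y⟩) := by
    intro Y hY
    let e : ∀ K : Sheaf J (Type u),
        ((presheafToSheaf J (Type u)).obj (yoneda.obj Y) ⟶ K) ≃ K.obj.obj ⟨Y⟩ :=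
      fun K => (A.homEquiv _ K).trans yonedaEquiv
    have comm : ∀ h, e F' (h ≫ f) = f.hom.app ⟨Y⟩ (e F h) := by
      intro h
      change yonedaEquiv (A.homEquiv _ F' (h ≫ f)) = f.hom.app ⟨Y⟩ (yonedaEquiv (A.homEquiv _ F h))
      rw [A.homEquiv_naturality_right]
      rfl
    refine Function.bijective_iff_existsUnique _ |>.2 fun b => ?_
    obtain ⟨h, hh, huniq⟩ := hf _ (ObjectProperty.ofObj_apply _ ⟨Y, hY⟩) ((e F').symm b)
    refine ⟨e F h, ?_, fun a ha => ?_⟩
    · show f.hom.app ⟨Y⟩ (e F h) = b
      rw [← comm, hh, Equiv.apply_symm_apply]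
    · obtain ⟨k, rfl⟩ := (e F).surjective a
      rw [huniq k]
      refine (e F').injective ?_
      rw [comm, Equiv.apply_symm_apply]
      exact ha
  have sep : ∀ (K : Sheaf J (Type u)) (X : C) (S : Sieve X), S ∈ J X →
      Presieve.IsSheafFor K.obj S.arrows :=
    fun K X S hS => (isSheaf_iff_isSheaf_of_type J _).1 K.property _ hS
  have hinj : ∀ X : C, Function.Injective (f.hom.app ⟨X⟩) := by
    intro X a b hab
    obtain ⟨ι, Y, g, hS, hY⟩ := hG X
    refine (sep F X _ hS).isSeparatedFor.ext ?_
    rintro Z q ⟨W, u, v, ⟨i⟩, rfl⟩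
    simp only [op_comp, F.obj.map_comp]
    have : F.obj.map (g i).op a = F.obj.map (g i).op b := by
      refine (hb _ (hY i)).1 ?_
      have na := ConcreteCategory.congr_hom (f.hom.naturality (g i).op)
      exact (na a).trans ((congrArg _ hab).trans (na b).symm)
    exact congrArg (F.obj.map u.op) this
  have hsurj : ∀ X : C, Function.Surjective (f.hom.app ⟨X⟩) := by
    intro X b
    obtain ⟨ι, Y, g, hS, hY⟩ := hG X
    have hex : ∀ (Z : C) (q : Z ⟶ X), Sieve.ofArrows Y g q →
        ∃ a : F.obj.obj ⟨Z⟩, f.hom.app ⟨Z⟩ a = F'.obj.map q.op b := by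
      rintro Z q ⟨W, u, v, ⟨i⟩, rfl⟩
      obtain ⟨a, ha⟩ := (hb _ (hY i)).2 (F'.obj.map (g i).op b)
      refine ⟨F.obj.map u.op a, ?_⟩
      have na := ConcreteCategory.congr_hom (f.hom.naturality u.op) a
      refine na.trans ((congrArg (F'.obj.map u.op) ha).trans ?_)
      simp
    let x : Presieve.FamilyOfElements F.obj (Sieve.ofArrows Y g).arrows :=
      fun Z q hq => (hex Z q hq).choose
    have hx : x.Compatible := by
      intro Z₁ Z₂ W p₁ p₂ q₁ q₂ h₁ h₂ comm
      refine hinj W ?_
      have n₁ := ConcreteCategory.congr_hom (f.hom.naturality p₁.op) (x q₁ h₁)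
      have n₂ := ConcreteCategory.congr_hom (f.hom.naturality p₂.op) (x q₂ h₂)
      refine n₁.trans (Eq.trans ?_ n₂.symm)
      refine (congrArg (F'.obj.map p₁.op) (hex _ q₁ h₁).choose_spec).trans
        (Eq.trans ?_ (congrArg (F'.obj.map p₂.op) (hex _ q₂ h₂).choose_spec).symm)
      have := congrArg (fun t : W ⟶ X => F'.obj.map t.op b) comm
      simpa using this
    obtain ⟨a, ha, -⟩ := sep F X _ hS x hx
    refine ⟨a, (sep F' X _ hS).isSeparatedFor.ext fun Z q hq => ?_⟩
    have na := ConcreteCategory.congr_hom (f.hom.naturality q.op) a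
    exact na.symm.trans ((congrArg _ (ha q hq)).trans (hex Z q hq).choose_spec)
  haveI : ∀ X, IsIso (f.hom.app X) := fun X =>
    (isIso_iff_bijective _).2 ⟨hinj X.unop, hsurj X.unop⟩
  haveI : IsIso f.hom := NatIso.isIso_of_isIso_app _
  haveI : IsIso ((sheafToPresheaf J (Type u)).map f) := ‹IsIso f.hom›
  exact isIso_of_reflects_iso f (sheafToPresheaf J (Type u))

end Groth.Agent.S3082
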