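import Groth.Statements.S3087
import Groth.Agent.SiteBase.ExtZeroPre
-- import your own Groth.Agent.* helpers here

set_option autoImplicit false
universe u
open CategoryTheory
open SGA4

namespace Groth.Agent.S3087

open CategoryTheory.Limits in
/-- For the ringed topos of sheaves on a small site (C, J) with sheaf of rings A, localised at an object
X of C: the restriction functor j_X^* from sheaves of A-modules to sheaves of A|X-modules on the
site of objects over X admits a left adjoint (extension by zero j_{X!}), and any such left adjoint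
is exact (preserves finite limits and finite colimits) and faithful. -/
theorem result {C : Type u} [SmallCategory C] (J : GrothendieckTopology C) (X : C)
    (A : Sheaf J RingCat.{u}) :
    (SheafOfModules.overFunctor.{u} A X).IsRightAdjoint ∧
    ∀ (L : SheafOfModules.{u} (A.over X) ⥤ SheafOfModules.{u} A) (_ : L ⊣ SheafOfModules.overFunctor.{u} A X),
      PreservesFiniteLimits L ∧ PreservesFiniteColimits L ∧ L.Faithful := by
  let F := SheafOfModules.forget (A.over X)
  let η₀ := PresheafOfModules.sheafificationAdjunction (J := J) (𝟙 A.obj)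
  let L₀ : SheafOfModules.{u} (A.over X) ⥤ SheafOfModules.{u} A :=
    F ⋙ Groth.Agent.SiteBase.ExtZeroPre.jFun A.obj X ⋙
      PresheafOfModules.sheafification.{u} (𝟙 A.obj)
  let e : (SheafOfModules.forget A ⋙ PresheafOfModules.restrictScalars (𝟙 A.obj)) ⋙
      PresheafOfModules.pushforward₀ (Over.forget X) A.obj ≅
      SheafOfModules.overFunctor.{u} A X ⋙ F :=
    NatIso.ofComponents (fun _ => PresheafOfModules.isoMk (fun _ => Iso.refl _) (fun _ _ _ => rfl))
      (fun _ => rfl)
  let adj₀ : L₀ ⊣ SheafOfModules.overFunctor.{u} A X :=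
    ((Groth.Agent.SiteBase.ExtZeroPre.jAdj A.obj X).comp η₀).restrictFullyFaithful
      (iC := F) (iD := 𝟭 _)
      (SheafOfModules.fullyFaithfulForget _) (Functor.FullyFaithful.id _) (Iso.refl _) e
  refine ⟨⟨_, ⟨adj₀⟩⟩, fun L adj => ?_⟩
  haveI : (SheafOfModules.overFunctor.{u} A X).IsRightAdjoint := ⟨_, ⟨adj₀⟩⟩
  haveI := adj₀.leftAdjoint_preservesColimits
  haveI hfc₀ : PreservesFiniteColimits L₀ := ⟨fun K _ _ => inferInstance⟩
  haveI : L₀.PreservesMonomorphisms := ⟨fun {M N} f _ => by
    haveI : PreservesFiniteLimits (PresheafOfModules.sheafification.{u} (J := J) (𝟙 A.obj)) :=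
      inferInstance
    have hm : Mono (F.map f) := inferInstance
    haveI : Mono ((Groth.Agent.SiteBase.ExtZeroPre.jFun A.obj X).map (F.map f)) :=
      @Functor.PreservesMonomorphisms.preserves _ _ _ _ (Groth.Agent.SiteBase.ExtZeroPre.jFun A.obj X)
        Groth.Agent.SiteBase.ExtZeroPre.preservesMonomorphisms_jFun _ _ (F.map f) hm
    exact inferInstanceAs (Mono ((PresheafOfModules.sheafification.{u} (𝟙 A.obj)).map
      ((Groth.Agent.SiteBase.ExtZeroPre.jFun A.obj X).map (F.map f))))⟩
  haveI : (SheafOfModules.overFunctor.{u} A X).Additive := by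
    haveI := adj₀.rightAdjoint_preservesLimits
    exact Functor.additive_of_preserves_binary_products _
  haveI : L₀.Additive := adj₀.left_adjoint_additive
  haveI : L₀.PreservesHomology := Functor.preservesHomology_of_preservesMonos_and_cokernels _
  haveI hfl₀ : PreservesFiniteLimits L₀ := Functor.preservesFiniteLimits_of_preservesHomology _
  let i : L₀ ≅ L := adj₀.leftAdjointUniq adj
  haveI hf₀ : L₀.Faithful := by
    refine ⟨fun {M N} a b hab => ?_⟩
    apply SheafOfModules.Hom.ext
    refine PresheafOfModules.hom_ext fun Y => ModuleCat.hom_ext (LinearMap.ext fun x => ?_)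
    let φ := Y.unop.hom
    let P := (Groth.Agent.SiteBase.ExtZeroPre.jFun A.obj X).obj (F.obj N)
    let η := η₀.unit.app P
    have key : (Groth.Agent.SiteBase.ExtZeroPre.jFun A.obj X).map (F.map a) ≫ η =
        (Groth.Agent.SiteBase.ExtZeroPre.jFun A.obj X).map (F.map b) ≫ η :=
      (η₀.unit.naturality _).trans
        ((congrArg (fun t => η₀.unit.app _ ≫ (SheafOfModules.forget A ⋙
          PresheafOfModules.restrictScalars (𝟙 A.obj)).map t) hab).trans (η₀.unit.naturality _).symm)
    have h₁ := congrArg (fun t => t.app (Opposite.op Y.unop.left)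
      (Groth.Agent.SiteBase.ExtZeroPre.ι (F.obj M) Y.unop.left φ x)) key
    have h₂ : η.app (Opposite.op Y.unop.left) (Groth.Agent.SiteBase.ExtZeroPre.ι (F.obj N) Y.unop.left φ
        ((F.map a).app Y x)) = η.app (Opposite.op Y.unop.left)
        (Groth.Agent.SiteBase.ExtZeroPre.ι (F.obj N) Y.unop.left φ ((F.map b).app Y x)) :=
      (congrArg (η.app _) (Groth.Agent.SiteBase.ExtZeroPre.jFun_map_ι (F.map a) Y.unop.left φ x)).symm.trans
        (h₁.trans (congrArg (η.app _)
          (Groth.Agent.SiteBase.ExtZeroPre.jFun_map_ι (F.map b) Y.unop.left φ x)))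
    let s := Presheaf.equalizerSieve (F := P.presheaf)
      (Groth.Agent.SiteBase.ExtZeroPre.ι (F.obj N) Y.unop.left φ ((F.map a).app Y x))
      (Groth.Agent.SiteBase.ExtZeroPre.ι (F.obj N) Y.unop.left φ ((F.map b).app Y x))
    have hs : s ∈ J Y.unop.left :=
      Presheaf.equalizerSieve_mem J (CategoryTheory.toSheafify J P.presheaf) _ _ h₂
    have hsep : Presieve.IsSheafFor (N.val.presheaf ⋙ CategoryTheory.forget AddCommGrpCat)
        ((Sieve.overEquiv Y.unop).symm s).arrows :=
      (isSheaf_iff_isSheaf_of_type _ _).1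
        (Presheaf.isSheaf_comp_of_isSheaf _ _ (CategoryTheory.forget AddCommGrpCat) N.isSheaf) _
        (J.overEquiv_symm_mem_over Y.unop _ hs)
    refine hsep.isSeparatedFor.ext fun W g hg => ?_
    have hg' : s g.left := (Sieve.overEquiv_symm_iff _ _).1 hg
    have e₁ := Groth.Agent.SiteBase.ExtZeroPre.jObj_map_ι (F.obj N) g.left φ g rfl ((F.map a).app Y x)
    have e₂ := Groth.Agent.SiteBase.ExtZeroPre.jObj_map_ι (F.obj N) g.left φ g rfl ((F.map b).app Y x)
    classical
    exact DirectSum.of_injective (β := fun ψ : W.left ⟶ X =>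
      Groth.Agent.SiteBase.ExtZeroPre.fib (F.obj N) W.left ψ) W.hom (e₁.symm.trans (hg'.trans e₂))
  exact ⟨preservesFiniteLimits_of_natIso i, preservesFiniteColimits_of_natIso i,
    Functor.Faithful.of_iso i⟩

end Groth.Agent.S3087
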