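import Groth.Statements.S3092
import Groth.Agent.HyperLib.CoskHomology
import Mathlib.CategoryTheory.Sites.PreservesSheafification
import Mathlib.CategoryTheory.Sites.EpiMono
import Mathlib.Algebra.Homology.QuasiIso

set_option autoImplicit false
universe u
open CategoryTheory
open Hyper

set_option backward.isDefEq.respectTransparency false

namespace Groth.Agent.S3092

open Groth.Agent.HyperLib.CoskLift Groth.Agent.S8565.S8565Aux

open Opposite CategoryTheory.Limits in
/-- In the topos of sheaves of sets on a small site; coskeleta assumed to exist: let v : K -> L be a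
morphism of simplicial sheaves of sets and n ≥ 0 such that v_p is an isomorphism for p < n, v_n is
an epimorphism, and K, L are n-coskeletal (the units K -> cosk_n K, L -> cosk_n L are isomorphisms).
Then every v_p is an epimorphism and v induces a quasi-isomorphism between the chain complexes of
free abelian sheaves Z[K] -> Z[L]. -/
theorem result {C : Type u} [SmallCategory C] (J : GrothendieckTopology C)
    [∀ (n : ℕ) (F : (SimplexCategory.Truncated n)ᵒᵖ ⥤ Sheaf J (Type u)),
      (SimplexCategory.Truncated.inclusion n).op.HasRightKanExtension F]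
    {K L : SimplicialObject (Sheaf J (Type u))} (v : K ⟶ L) (n : ℕ)
    (h1 : ∀ p : ℕ, p < n → IsIso (v.app (op (SimplexCategory.mk p))))
    (h2 : Epi (v.app (op (SimplexCategory.mk n))))
    (h3 : IsIso ((SimplicialObject.coskAdj n).unit.app K) ∧ IsIso ((SimplicialObject.coskAdj n).unit.app L)) :
    (∀ p : ℕ, Epi (v.app (op (SimplexCategory.mk p)))) ∧
    QuasiIso ((AlgebraicTopology.alternatingFaceMapComplex _).map
      (Functor.whiskerRight v (Sheaf.composeAndSheafify J AddCommGrpCat.free.{u}))) := by
  let f : (K ⋙ sheafToPresheaf J (Type u) : SimplicialObject (Cᵒᵖ ⥤ Type u)) ⟶ L ⋙ sheafToPresheaf J (Type u) :=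
    Functor.whiskerRight v (sheafToPresheaf J (Type u))
  have hiso : ∀ (p : ℕ), p < n → ∀ V, Function.Bijective ((f.app (op (SimplexCategory.mk p))).app V) := by
    intro p hp V
    haveI := h1 p hp
    haveI : IsIso ((f.app (op (SimplexCategory.mk p))).app V) :=
      inferInstanceAs (IsIso (((sheafToPresheaf J (Type u)).map (v.app (op (SimplexCategory.mk p)))).app V))
    exact (isIso_iff_bijective _).1 inferInstance
  have hsurj : Presheaf.IsLocallySurjective J (f.app (op (SimplexCategory.mk n))) :=
    (Sheaf.isLocallySurjective_iff_epi _).2 h2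
  have hK : ∀ V, IsIso ((SimplicialObject.coskAdj n).unit.app (secs (K ⋙ sheafToPresheaf J (Type u)) V)) :=
    fun V => isCoskeletal_comp n K (sheafToPresheaf J (Type u) ⋙ (evaluation Cᵒᵖ (Type u)).obj V) h3.1
  have hL : ∀ V, IsIso ((SimplicialObject.coskAdj n).unit.app (secs (L ⋙ sheafToPresheaf J (Type u)) V)) :=
    fun V => isCoskeletal_comp n L (sheafToPresheaf J (Type u) ⋙ (evaluation Cᵒᵖ (Type u)).obj V) h3.2
  refine ⟨fun p => ?_, (quasiIso_iff _).2 fun i => ?_⟩
  · rw [← Sheaf.isLocallySurjective_iff_epi]
    refine ⟨fun {U} z => ?_⟩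
    obtain ⟨S, hS, hgood⟩ := locally_good J f n hiso hsurj (op (SimplexCategory.mk p)) z
    refine J.superset_covering (fun V w hw => ?_) hS
    exact mem_range_of_goodSet (secsMap f (op V)) (fun q hq => hiso q hq _) (hK _) (hL _) _ (hgood w hw)
  · rw [quasiIsoAt_iff_isIso_homologyMap]
    exact Groth.Agent.HyperLib.CoskLift.isIso_homologyMap J f n hiso hsurj hK hL i

end Groth.Agent.S3092
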