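import Groth.Statements.S3093

-- import your own Groth.Agent.* helpers here

set_option autoImplicit false
universe u
open CohTop

namespace Groth.Agent.S3093

/-- Let X be a topological space and K ⊆ X a compact subset such that any two distinct points of K have
disjoint open neighbourhoods in X. If A and B are subsets of K that are closed in K and W is an open
subset of X containing A ∩ B, then there are open subsets U ⊇ A and V ⊇ B of X with U ∩ V ⊆ W. -/
theorem result {X : Type u} [TopologicalSpace X] {K : Set X} (hK : IsCompact K)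
    (hsep : ∀ x ∈ K, ∀ y ∈ K, x ≠ y → ∃ U V : Set X, IsOpen U ∧ IsOpen V ∧ x ∈ U ∧ y ∈ V ∧ Disjoint U V)
    {A B W : Set X} (hA : A ⊆ K) (hB : B ⊆ K) (hAc : IsClosed (Subtype.val ⁻¹' A : Set K))
    (hBc : IsClosed (Subtype.val ⁻¹' B : Set K)) (hW : IsOpen W) (hABW : A ∩ B ⊆ W) :
    ∃ U V : Set X, IsOpen U ∧ IsOpen V ∧ A ⊆ U ∧ B ⊆ V ∧ U ∩ V ⊆ W := by
  have hT : T2Space K := ⟨fun x y hxy => by
    obtain ⟨U, V, hU, hV, hx, hy, hd⟩ := hsep x.1 x.2 y.1 y.2 (fun e => hxy (Subtype.ext e))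
    exact ⟨Subtype.val ⁻¹' U, Subtype.val ⁻¹' V, hU.preimage continuous_subtype_val,
      hV.preimage continuous_subtype_val, hx, hy, hd.preimage _⟩⟩
  haveI : CompactSpace K := isCompact_iff_compactSpace.1 hK
  let A' : Set K := (Subtype.val ⁻¹' A) \ (Subtype.val ⁻¹' W)
  let B' : Set K := (Subtype.val ⁻¹' B) \ (Subtype.val ⁻¹' W)
  have hcA : IsCompact (Subtype.val '' A' : Set X) :=
    ((hAc.sdiff (hW.preimage continuous_subtype_val)).isCompact).image continuous_subtype_val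
  have hcB : IsCompact (Subtype.val '' B' : Set X) :=
    ((hBc.sdiff (hW.preimage continuous_subtype_val)).isCompact).image continuous_subtype_val
  have hs : SeparatedNhds (Subtype.val '' A' : Set X) (Subtype.val '' B') := by
    refine hcA.induction_on (p := fun S => SeparatedNhds S (Subtype.val '' B')) (SeparatedNhds.empty_left _)
      (fun S T hST h => h.mono hST subset_rfl) (fun S T hS hT => hS.union_left hT) ?_
    rintro _ ⟨a, ⟨ha, haW⟩, rfl⟩
    suffices h : SeparatedNhds ({a.1} : Set X) (Subtype.val '' B') by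
      obtain ⟨U, V, hU, hV, h1, h2, h3⟩ := h
      exact ⟨U, mem_nhdsWithin_of_mem_nhds (hU.mem_nhds (h1 rfl)), ⟨U, V, hU, hV, subset_rfl, h2, h3⟩⟩
    refine hcB.induction_on (p := fun T => SeparatedNhds ({a.1} : Set X) T) (SeparatedNhds.empty_right _)
      (fun S T hST h => h.mono subset_rfl hST) (fun S T hS hT => hS.union_right hT) ?_
    rintro _ ⟨b, ⟨hb, hbW⟩, rfl⟩
    obtain ⟨U, V, hU, hV, hx, hy, hd⟩ := hsep a.1 a.2 b.1 b.2 (fun e => haW (hABW ⟨ha, e ▸ hb⟩))
    exact ⟨V, mem_nhdsWithin_of_mem_nhds (hV.mem_nhds hy),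
      ⟨U, V, hU, hV, Set.singleton_subset_iff.2 hx, subset_rfl, hd⟩⟩
  obtain ⟨U, V, hU, hV, h1, h2, h3⟩ := hs
  refine ⟨U ∪ W, V ∪ W, hU.union hW, hV.union hW, fun x hx => ?_, fun x hx => ?_, ?_⟩
  · by_cases hxW : x ∈ W
    · exact Or.inr hxW
    · exact Or.inl (h1 ⟨⟨x, hA hx⟩, ⟨hx, hxW⟩, rfl⟩)
  · by_cases hxW : x ∈ W
    · exact Or.inr hxW
    · exact Or.inl (h2 ⟨⟨x, hB hx⟩, ⟨hx, hxW⟩, rfl⟩)
  · rintro x ⟨hx1 | hx1, hx2 | hx2⟩
    · exact absurd hx2 (fun h => Set.disjoint_left.1 h3 hx1 h)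
    all_goals assumption

end Groth.Agent.S3093
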