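import Groth.Statements.S3096
import Groth.Agent.PBCLib.Final
import Groth.Agent.PBCLib.Rows
import Groth.Agent.CdpLib.TopVanish
import Groth.Agent.AcycCompLib.Basic
import Groth.Agent.S9777
-- import your own Groth.Agent.* helpers here

set_option autoImplicit false
set_option backward.isDefEq.respectTransparency false
universe u
open CategoryTheory CategoryTheory.Limits AlgebraicGeometry Opposite
open EtPBC

namespace Groth.Agent.S3096

/-- Let f : X ⟶ S be a proper morphism every fibre of which has (topological Krull) dimension at most n,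
let p be a prime number with p = 0 in the ring of global functions of S, and let F be an abelian
sheaf on the small étale site of X every section of which, over every object of the site, is killed
by a power of p. Then R^q f_* F = 0 for every q > n. (The published statement allows any p-torsion
sheaf, i.e. one whose sections have p-power order étale-locally; the hypothesis here is slightly
stronger, so the statement is slightly weaker.) -/
theorem result {X S : Scheme.{u}} (f : X ⟶ S) [IsProper f] [EtCoh.BCCont f]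
    (p : ℕ) (hp : p.Prime) (hS : (p : Γ(S, ⊤)) = 0) (n : ℕ)
    (hdim : ∀ s : S, topologicalKrullDim (f.fiber s) ≤ n)
    (F : EtCoh.Ab X) (hF : ∀ (U : X.Etale) (s : EtCoh.sect F U), ∃ k : ℕ, p ^ k • s = 0)
    (q : ℕ) (hq : n < q) :
    IsZero ((EtCoh.Rpush f q).obj F) := by
  haveI : Fact p.Prime := ⟨hp⟩
  have hT : EtAcyc.IsLTorsion ({p} : Set ℕ) F := fun U s x => by
    obtain ⟨k, hk⟩ := hF U s
    refine ⟨U, 𝟙 U, p ^ k, ⟨x, rfl⟩, ⟨pow_pos hp.pos k, fun r hr hrk => ?_⟩, ?_⟩
    · exact Set.mem_singleton_iff.2 ((Nat.prime_dvd_prime_iff_eq hr hp).1 (hr.dvd_of_dvd_pow hrk))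
    · rw [op_id, CategoryTheory.Functor.map_id]
      exact hk
  have hT' : EtCoh.IsTorsion F := fun U s x => by
    obtain ⟨k, hk⟩ := hF U s
    refine ⟨U, 𝟙 U, ⟨x, rfl⟩, isOfFinAddOrder_iff_nsmul_eq_zero.2 ⟨p ^ k, pow_pos hp.pos k, ?_⟩⟩
    rw [op_id, CategoryTheory.Functor.map_id]
    exact hk
  refine (EtPtsLib.isZero_iff_ab _).2 fun Ω _ _ ξ => ?_
  haveI : CharP Ω p := (CharP.charP_iff_prime_eq_zero hp).2 (by
    rw [← map_natCast (ξ.appTop ≫ (Scheme.ΓSpecIso (CommRingCat.of Ω)).hom).hom p, hS, map_zero])
  obtain ⟨e⟩ := PBCLib.nonempty_stalk_Rpush_iso (fun g _ => PBCLib.bcAll_of_proper g) f ξ F hT' q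
  refine IsZero.of_iso ?_ e
  let g := pullback.snd f ξ
  haveI : IsProper g := MorphismProperty.pullback_snd _ _ inferInstance
  have hc : CdpLib.HasCompl Ω (pullback f ξ) := CdpLib.HasCompl.of_immersion g (𝟙 _)
  have hd : topologicalKrullDim ↥(pullback f ξ) ≤ n := by
    let s : S := ξ (IsLocalRing.closedPoint Ω)
    let φ := S.descResidueField (Scheme.stalkClosedPointTo ξ)
    have hφ : Spec.map φ ≫ S.fromSpecResidueField s = ξ :=
      Scheme.descResidueField_stalkClosedPointTo_fromSpecResidueField Ω S ξ
    let sqv := IsPullback.of_hasPullback f (S.fromSpecResidueField s)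
    let l : pullback f ξ ⟶ pullback f (S.fromSpecResidueField s) := sqv.lift (pullback.fst f ξ) (g ≫ Spec.map φ)
      (by rw [pullback.condition, Category.assoc, hφ])
    have h' : IsPullback l g (pullback.snd f (S.fromSpecResidueField s)) (Spec.map φ) := by
      refine IsPullback.of_right ?_ (sqv.lift_snd _ _ _) sqv
      rw [sqv.lift_fst, hφ]
      exact IsPullback.of_hasPullback f ξ
    haveI : LocallyOfFiniteType (pullback.snd f (S.fromSpecResidueField s)) :=
      MorphismProperty.pullback_snd _ _ inferInstance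
    exact (S9777.dim_eq (k := S.residueField s) (K := Ω) g (pullback.snd f (S.fromSpecResidueField s)) h').le.trans (hdim s)
  haveI := CdpLib.cohDimLEAt_dim p hc n hd _ (fun U t x => by
    obtain ⟨V, m, j, hv, hj, hz⟩ := AcycCompLib.isLTorsion_pull (pullback.fst f ξ) hT U t x
    refine ⟨V, m, hv, j.primeFactorsList.length, ?_⟩
    rw [← Nat.eq_prime_pow_of_unique_prime_dvd hj.1.ne' fun {r} hr hrj => hj.2 r hr hrj]
    exact hz) q hq
  exact AddCommGrpCat.isZero_of_subsingleton _

end Groth.Agent.S3096
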