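import Groth.Statements.S3097
import Groth.Agent.SmoothPushLib.FlcSmooth
set_option backward.isDefEq.respectTransparency.types false
-- import your own Groth.Agent.* helpers here

set_option autoImplicit false
universe u
open CategoryTheory CategoryTheory.Limits AlgebraicGeometry Opposite
open EtPBC

namespace Groth.Agent.S3097

/-- Specialization of cohomology groups, abelian case: let f : X → Y be proper and smooth, n a natural
number invertible on Y, and F a finite locally constant abelian sheaf on the small étale site of X
killed by n (that is, locally constant constructible). Then for every q the higher direct image R^q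
f_* F is finite locally constant on Y. (The published statement says only 'constructible', with the
locally constant hypothesis given in the surrounding text; that hypothesis is needed, as a
skyscraper sheaf shows. The published statement also allows any torsion prime to the residue
characteristics; killed by an invertible n is the basic case.) -/
theorem result {X Y : Scheme.{u}} (f : X ⟶ Y) [IsProper f] [Smooth f]
    [EtCoh.BCCont f] (n : ℕ) (hn : IsUnit (n : Γ(Y, ⊤)))
    (F : EtCoh.Ab X) (hF : EtCoh.IsFiniteLocallyConstant F) (hFn : EtCoh.KilledBy n F) (q : ℕ) :
    EtCoh.IsFiniteLocallyConstant ((EtCoh.Rpush f q).obj F) := by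
  refine Groth.Agent.SmoothPushLib.flc_Rpush_smooth f F hF (fun Ω _ _ ξ => ?_) q
  haveI : Nonempty Y := ⟨(ξ ≫ f) default⟩
  have hu := (hn.map (ξ ≫ f).appTop.hom).map (Scheme.ΓSpecIso (CommRingCat.of Ω)).hom.hom
  rw [map_natCast, map_natCast] at hu
  refine ⟨n, Nat.pos_of_ne_zero fun h0 => ?_, hu.ne_zero, fun s => ?_⟩
  · rw [h0, Nat.cast_zero] at hu
    exact not_isUnit_zero hu
  · obtain ⟨U, l, t, rfl⟩ := (Scheme.pointSmallEtale ξ).toPresheafFiber_jointly_surjective (P := F.obj) s
    exact (map_nsmul _ n t).symm.trans ((congrArg _ (hFn U t)).trans (map_zero _))

end Groth.Agent.S3097
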