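import Groth.Statements.S3098
import Groth.Agent.SmoothPushLib.FlcSmooth
import Groth.Agent.SmoothPushLib.Connected
import Groth.Agent.S3097
set_option backward.isDefEq.respectTransparency.types false
-- import your own Groth.Agent.* helpers here

set_option autoImplicit false
universe u
open CategoryTheory CategoryTheory.Limits AlgebraicGeometry Opposite
open EtPBC

namespace Groth.Agent.S3098

/-- Let f : X -> Y be proper and smooth with Y connected, n invertible on Y, F a finite locally constant
abelian sheaf on the small etale site of X killed by n, and let a, b be two geometric points of Y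
(spectra of separably closed fields). Then for every q the cohomology groups of the two geometric
fibres with coefficients in the restrictions of F are isomorphic. -/
theorem result {X Y : Scheme.{u}} (f : X ⟶ Y) [IsProper f] [Smooth f]
    [EtCoh.BCCont f] (hY : ConnectedSpace Y) (n : ℕ) (hn : IsUnit (n : Γ(Y, ⊤)))
    (F : EtCoh.Ab X) (hF : EtCoh.IsFiniteLocallyConstant F) (hFn : EtCoh.KilledBy n F)
    {Ω Ω' : Type u} [Field Ω] [IsSepClosed Ω] [Field Ω'] [IsSepClosed Ω']
    (a : Spec (CommRingCat.of Ω) ⟶ Y) (b : Spec (CommRingCat.of Ω') ⟶ Y)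
    [EtCoh.BCCont (pullback.fst f a)] [EtCoh.BCCont (pullback.fst f b)] (q : ℕ) :
    Nonempty (EtCoh.H (pullback f a) ((EtCoh.pull (pullback.fst f a)).obj F) q ≃+
      EtCoh.H (pullback f b) ((EtCoh.pull (pullback.fst f b)).obj F) q) := by
  haveI := hY
  have hflc := Groth.Agent.S3097.result f n hn F hF hFn q
  obtain ⟨e⟩ := Groth.Agent.SmoothPushLib.nonempty_stalk_addEquiv _ hflc a b
  have hu := (hn.map a.appTop.hom).map (Scheme.ΓSpecIso (CommRingCat.of Ω)).hom.hom
  rw [map_natCast, map_natCast] at hu
  have hn0 : 0 < n := Nat.pos_of_ne_zero fun h0 => by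
    rw [h0, Nat.cast_zero] at hu
    exact not_isUnit_zero hu
  have hT := Groth.Agent.PBCLib.isTorsion_of_killedBy' hn0 hFn
  obtain ⟨ea⟩ := Groth.Agent.PBCLib.nonempty_stalk_Rpush_iso
    (fun {_ _} g _ => Groth.Agent.PBCLib.bcAll_of_proper g) f a F hT q
  obtain ⟨eb⟩ := Groth.Agent.PBCLib.nonempty_stalk_Rpush_iso
    (fun {_ _} g _ => Groth.Agent.PBCLib.bcAll_of_proper g) f b F hT q
  exact ⟨ea.addCommGroupIsoToAddEquiv.symm.trans (e.trans eb.addCommGroupIsoToAddEquiv)⟩

end Groth.Agent.S3098
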