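import Groth.Statements.S3108
import Groth.Agent.RelPurLib.CodimTwo

set_option autoImplicit false
universe u
open CategoryTheory CategoryTheory.Limits AlgebraicGeometry Opposite
open EtPBC

namespace Groth.Agent.S3108

/-- With f : X -> S smooth and j : U -> X an open immersion whose complement has codimension at least 2
in every fibre of f (every point of a fibre X_s outside U has local ring in X_s of dimension at
least 2), for every torsion abelian sheaf F on the small etale site of S one has R^1 j_* ((j ≫ f)^*
F) = 0. (The source states it for sheaves of ind-finite groups; the abelian ones are the torsion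
abelian sheaves.) -/
theorem result {X U S : Scheme.{u}} (f : X ⟶ S) [Smooth f]
    (j : U ⟶ X) [IsOpenImmersion j] [EtCoh.BCCont j] [EtCoh.BCCont (j ≫ f)]
    (hcodim : ∀ (s : S) (z : f.fiber s), (f.fiberι s).base z ∉ Set.range j →
      (2 : WithBot ℕ∞) ≤ ringKrullDim ((f.fiber s).presheaf.stalk z))
    (F : EtCoh.Ab S) (hF : EtCoh.IsTorsion F) :
    IsZero ((EtCoh.Rpush j 1).obj ((EtCoh.pull (j ≫ f)).obj F)) := by
  have hd := Groth.Agent.RelPurLib.depthGE_three_smooth f j (fun s z hz => hcodim s z hz) F hF
  exact (((Groth.Agent.EtDepthLib.depthGE_iff j _ 3).1 hd).2.2 1 le_rfl (by norm_num)).of_iso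
    ((EtCoh.Rpush j 1).mapIso ((Groth.Agent.BCDLib.pullCompIso f j).app F))

end Groth.Agent.S3108
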