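import Groth.Statements.S3109
import Groth.Agent.RelPurLib.RegPurity
import Groth.Agent.RelPurLib.RestrIso

set_option autoImplicit false
universe u
open CategoryTheory CategoryTheory.Limits AlgebraicGeometry Opposite
open EtDual

namespace Groth.Agent.S3109

/-- Let k be a perfect field, X a regular scheme locally of finite type over k, Y a regular closed
subscheme of X (i : Y -> X) of codimension c at every point of Y (dim O_{X,i(y)} = dim O_{Y,y} + c),
j : U -> X the open immersion of the complement, and n nonzero in k. Then the local cohomology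
sheaves H^q_Y(X, Z/n) vanish for q ≠ 2c and H^{2c}_Y(X, Z/n) is, on the members of an etale covering
of X, isomorphic to i_* of the constant sheaf Z/n on Y. -/
theorem result (k : Type u) [Field k] [PerfectField k]
    {X Y U : Scheme.{u}} (f : X ⟶ Spec (CommRingCat.of k)) [LocallyOfFiniteType f] (i : Y ⟶ X)
    [IsClosedImmersion i] (c : ℕ)
    (hXreg : ∀ x : X, IsRegularLocalRing (X.presheaf.stalk x))
    (hYreg : ∀ y : Y, IsRegularLocalRing (Y.presheaf.stalk y))
    (hcodim : ∀ y : Y, ringKrullDim (X.presheaf.stalk (i.base y)) = ringKrullDim (Y.presheaf.stalk y) + c)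
    (j : U ⟶ X) [IsOpenImmersion j]
    (hU : Set.range j = (Set.range i)ᶜ) [EtCoh.BCCont j] [EtCoh.BCCont i]
    (n : ℕ) (hn : (n : k) ≠ 0) :
    (∀ q : ℕ, q ≠ 2 * c → IsZero ((EtDual.locCoh j q).obj (EtCoh.const X (ZMod n)))) ∧
      ∃ (ι : Type u) (V : ι → X.Etale), EtCoh.Covers V ∧ ∀ a : ι,
        Nonempty (EtCoh.restr ((EtDual.locCoh j (2 * c)).obj (EtCoh.const X (ZMod n))) (V a) ≅
          EtCoh.restr ((EtCoh.push i).obj (EtCoh.const Y (ZMod n))) (V a)) := by
  haveI : Smooth f := RelPurLib.smooth_of_regular_perfect f hXreg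
  haveI : Smooth (i ≫ f) := RelPurLib.smooth_of_regular_perfect (i ≫ f) hYreg
  have hnX : IsUnit (n : Γ(X, ⊤)) := by
    simpa using ((Ne.isUnit hn).map (Scheme.ΓSpecIso (CommRingCat.of k)).inv.hom).map f.appTop.hom
  refine ⟨RelPurLib.isZero_locCoh_regular f i c hcodim j hU n hnX, ?_⟩
  choose V v hv e using RelPurLib.exists_pull_iso_regular f i c hcodim j hU n hnX
  exact ⟨X, V, fun x => ⟨x, v x, hv x⟩, fun x => RelPurLib.nonempty_restr_iso_of_pull (V x) (e x)⟩

end Groth.Agent.S3109
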