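import Groth.Statements.S3110
import Groth.Agent.CdFieldLib.Shriek

set_option autoImplicit false
set_option backward.isDefEq.respectTransparency false
universe u
open CategoryTheory CategoryTheory.Limits AlgebraicGeometry Opposite
open EtDual

namespace Groth.Agent.S3110

/-- Let f : X -> S factor as an open immersion j : X -> P followed by a proper morphism p : P -> S (a
compactification of f), and suppose every fibre of f has dimension at most d. Then for every torsion
abelian sheaf F on the small etale site of X and every i > 2d, R^i p_* (j_! F) = 0; that is, R^i f_!
F = 0 computed through this compactification. (The source states it for Rf_!, which it proves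
independent of the compactification.) -/
theorem result {X P S : Scheme.{u}} (j : X ⟶ P) [IsOpenImmersion j]
    (p : P ⟶ S) [IsProper p] [EtCoh.BCCont p] (d : ℕ)
    (hdim : ∀ s : S, topologicalKrullDim ((j ≫ p).fiber s) ≤ d)
    (F : EtCoh.Ab X) (hF : EtCoh.IsTorsion F) (i : ℕ) (hi : 2 * d < i) :
    IsZero ((EtCoh.Rpush p i).obj ((EtShriek.extZero j).obj F)) := by
  exact Groth.Agent.CdFieldLib.isZero_Rpush_extZero j p d hdim F hF i hi

end Groth.Agent.S3110
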