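import Groth.Statements.S3113
import Groth.Agent.ShriekProper.Commute
import Groth.Agent.ShriekProper.Model
import Groth.Agent.PBCLib.Fibration
-- import your own Groth.Agent.* helpers here

set_option autoImplicit false
universe u
open CategoryTheory CategoryTheory.Limits AlgebraicGeometry Opposite
open EtDual

namespace Groth.Agent.S3113

set_option backward.isDefEq.respectTransparency false
attribute [local instance] Groth.Agent.S0101.result

/-- Let j₁ : U -> X and j₂ : V -> Y be open immersions and g : U -> V, f : X -> Y proper morphisms with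
j₁ ≫ f = g ≫ j₂. Then for every abelian sheaf F on the small etale site of U killed by some n > 0
and every q, the sheaves j₂! (R^q g_* F) and R^q f_* (j₁! F) are isomorphic. (The source's statement
is that a canonical arrow between total derived functors is an isomorphism, for complexes of modules
over a torsion ring, under a bound on the fibre dimension needed for unbounded complexes; it is
stated here degree by degree, as the existence of an isomorphism, without the dimension bound.) -/
theorem result {U V X Y : Scheme.{u}} (j₁ : U ⟶ X) [IsOpenImmersion j₁] (j₂ : V ⟶ Y)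
    [IsOpenImmersion j₂] (g : U ⟶ V) [IsProper g] [EtCoh.BCCont g] (f : X ⟶ Y) [IsProper f] [EtCoh.BCCont f]
    (w : j₁ ≫ f = g ≫ j₂) (n : ℕ) (hn : 0 < n) (F : EtCoh.Ab U) (hF : EtCoh.KilledBy n F) (q : ℕ) :
    Nonempty ((EtShriek.extZero j₂).obj ((EtCoh.Rpush g q).obj F) ≅
      (EtCoh.Rpush f q).obj ((EtShriek.extZero j₁).obj F)) := by
  haveI : EtShriek.JCont j₁ := inferInstance
  haveI : EtShriek.JCont j₂ := inferInstance
  haveI := Groth.Agent.ShriekProper.isIso_extZeroToLowerShriek_open j₁
  haveI := Groth.Agent.ShriekProper.isIso_extZeroToLowerShriek_open j₂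
  obtain ⟨e⟩ := Groth.Agent.ShriekProper.nonempty_lowerShriek_Rpush f j₂ g j₁ w q F (Groth.Agent.PBCLib.isTorsion_of_killedBy' hn hF)
  exact ⟨(asIso (Groth.Agent.ShriekLib.extZeroToLowerShriek j₂)).app _ ≪≫ e ≪≫
    (EtCoh.Rpush f q).mapIso ((asIso (Groth.Agent.ShriekLib.extZeroToLowerShriek j₁)).app F).symm⟩

end Groth.Agent.S3113
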