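import Groth.Statements.S3116
import Groth.Agent.FLCLib.Generic
-- import your own Groth.Agent.* helpers here

set_option autoImplicit false
set_option backward.isDefEq.respectTransparency false
universe u
open CategoryTheory CategoryTheory.Limits AlgebraicGeometry Opposite
open EtPBC

namespace Groth.Agent.S3116

/-- For abelian sheaves: let X be locally noetherian and F an abelian sheaf on the small etale site of X
whose geometric stalks (at all geometric points with separably closed residue field) are finite.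
Then F is constructible if and only if for every natural number n the set of points x of X such that
the stalk of F at some geometric point over x has exactly n elements is locally constructible. -/
theorem result (X : Scheme.{u}) [IsLocallyNoetherian X] (F : EtCoh.Ab X)
    (hfin : ∀ (Ω : Type u) [Field Ω] [IsSepClosed Ω] (ξ : Spec (CommRingCat.of Ω) ⟶ X),
      Finite ((EtCoh.stalk ξ).obj F)) :
    EtPBC.IsConstructible F ↔ ∀ n : ℕ, Topology.IsLocallyConstructible
      {x : X | ∃ (Ω : Type u) (_ : Field Ω) (_ : IsSepClosed Ω) (ξ : Spec (CommRingCat.of Ω) ⟶ X),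
        Set.range ξ = {x} ∧ Nat.card ((EtCoh.stalk ξ).obj F) = n} := by
  have hind : ∀ (Ω Ω' : Type u) [Field Ω] [IsSepClosed Ω] [Field Ω'] [IsSepClosed Ω']
      (ξ : Spec (CommRingCat.of Ω) ⟶ X) (ζ : Spec (CommRingCat.of Ω') ⟶ X), ξ default = ζ default →
      Nat.card ((EtCoh.stalk ξ).obj F) = Nat.card ((EtCoh.stalk ζ).obj F) := by
    intro Ω Ω' _ _ _ _ ξ ζ e
    have key : ∀ (Ω Ω' : Type u) [Field Ω] [IsSepClosed Ω] [Field Ω'] [IsSepClosed Ω']
        (ξ : Spec (CommRingCat.of Ω) ⟶ X) (ζ : Spec (CommRingCat.of Ω') ⟶ X), ξ default = ζ default →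
        Nat.card ((EtCoh.stalk ξ).obj F) ≤ Nat.card ((EtCoh.stalk ζ).obj F) := by
      intro Ω Ω' _ _ _ _ ξ ζ e
      haveI := hfin Ω ξ
      haveI := hfin Ω' ζ
      obtain ⟨q, -, σ, hq, hσ⟩ := FLCLib.exists_sigma F (⟨EtCoh.top X, EtPtsLib.topLift ξ⟩ : FLCLib.Nbhd ξ)
      obtain ⟨l, -⟩ := Scheme.pointSmallEtaleFiberObjToPreimage_surjective ζ rfl q.1
        ⟨q.point, q.hom_point.trans e⟩
      exact Nat.card_le_card_of_injective _ (FLCLib.injective_germ_sigma hq hσ l (e ▸ specializes_rfl))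
    exact le_antisymm (key Ω Ω' ξ ζ e) (key Ω' Ω ζ ξ e.symm)
  constructor
  · intro hF n x
    obtain ⟨_, ⟨U, hU, rfl⟩, hxU, -⟩ := X.isBasis_affineOpens.exists_subset_of_mem_open (Set.mem_univ x) isOpen_univ
    haveI : IsAffine (Scheme.Opens.toScheme U) := hU
    refine ⟨U, U.2.mem_nhds hxU, U.2, ?_⟩
    obtain ⟨ι, _, T, g, hg, hc, hcov, hflc⟩ := (FLCLib.isConstructible_iff F).1 hF U hU
    let C : Set X := {x : X | ∃ (Ω : Type u) (_ : Field Ω) (_ : IsSepClosed Ω) (ξ : Spec (CommRingCat.of Ω) ⟶ X),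
        Set.range ξ = {x} ∧ Nat.card ((EtCoh.stalk ξ).obj F) = n}
    show Topology.IsConstructible ((Scheme.Opens.ι U) ⁻¹' C)
    let G := fun i => g i ≫ Scheme.Opens.ι U
    have hG : ∀ i (t : T i), ∀ (Ω : Type u) [Field Ω] [IsSepClosed Ω] (ζ : Spec (CommRingCat.of Ω) ⟶ T i),
        ζ default = t → (G i t ∈ C ↔ Nat.card ((EtCoh.stalk ζ).obj ((EtCoh.pull (G i)).obj F)) = n) := by
      intro i t Ω _ _ ζ hζ
      have e : (ζ ≫ G i) default = G i t := by rw [Scheme.Hom.comp_apply, hζ]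
      have ec : Nat.card ((EtCoh.stalk ζ).obj ((EtCoh.pull (G i)).obj F)) = Nat.card ((EtCoh.stalk (ζ ≫ G i)).obj F) :=
        Nat.card_congr ((FLCLib.stalkPullIso (G i) ζ).app F).addCommGroupIsoToAddEquiv.toEquiv
      rw [ec]
      constructor
      · rintro ⟨Ω', _, _, ξ, hξ, hn⟩
        exact (hind Ω Ω' _ ξ (e.trans (FLCLib.mem_range_of_range ξ hξ).symm)).trans hn
      · intro hn
        exact ⟨Ω, inferInstance, inferInstance, ζ ≫ G i, e ▸ FLCLib.range_geomPt _, hn⟩
    have hcl : ∀ i, IsClopen ((G i) ⁻¹' C) := fun i => by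
      have hloc : ∀ t : T i, ∃ N : Set (T i), IsOpen N ∧ t ∈ N ∧ ∀ s ∈ N, (G i s ∈ C ↔ G i t ∈ C) := fun t => by
        obtain ⟨m, N, hN, htN, hm⟩ := FLCLib.flc_card ((FLCLib.flc_pull_pull_iff _ _).2 (hflc i)) t
        refine ⟨N, hN, htN, fun s hs => ?_⟩
        rw [hG i s _ (EtPtsLib.geomPt s) (EtPtsLib.geomPt_default s),
          hG i t _ (EtPtsLib.geomPt t) (EtPtsLib.geomPt_default t),
          (hm _ _ ((EtPtsLib.geomPt_default s).symm ▸ hs)).2, (hm _ _ ((EtPtsLib.geomPt_default t).symm ▸ htN)).2]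
      refine ⟨⟨isOpen_iff_forall_mem_open.2 fun t ht => ?_⟩, isOpen_iff_forall_mem_open.2 fun t ht => ?_⟩
      · obtain ⟨N, hN, htN, h⟩ := hloc t
        exact ⟨N, fun y hy hy' => ht ((h y hy).1 hy'), hN, htN⟩
      · obtain ⟨N, hN, htN, h⟩ := hloc t
        exact ⟨N, fun y hy => (h y hy).2 ht, hN, htN⟩
    have e : (Scheme.Opens.ι U) ⁻¹' C = ⋃ i, g i '' ((G i) ⁻¹' C) := by
      ext z
      constructor
      · intro hz
        obtain ⟨i, t, rfl⟩ := hcov z
        refine Set.mem_iUnion.2 ⟨i, t, ?_, rfl⟩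
        show (g i ≫ Scheme.Opens.ι U) t ∈ C
        rw [Scheme.Hom.comp_apply]; exact hz
      · intro hz
        obtain ⟨i, t, ht, rfl⟩ := Set.mem_iUnion.1 hz
        show Scheme.Opens.ι U (g i t) ∈ C
        rw [← Scheme.Hom.comp_apply]; exact ht
    rw [e]
    refine Topology.IsConstructible.iUnion fun i => ?_
    haveI := hg i
    haveI : CompactSpace (T i) := by
      rw [← isCompact_univ_iff, (g i).isEmbedding.isInducing.isCompact_iff, Set.image_univ]
      exact FLCLib.isCompact_of_isConstructible (hc i)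
    haveI := FLCLib.quasiSeparatedSpace_of_isEmbedding (g i).isEmbedding (hc i)
    exact FLCLib.isConstructible_image_of_isEmbedding (g i).isEmbedding (hc i)
      ((hcl i).isClosed.isCompact.isConstructible (hcl i).isOpen)
  · intro h
    refine (FLCLib.GenCard.genConst fun x => ?_).isConstructible
    let n := Nat.card ((EtCoh.stalk (EtPtsLib.geomPt x)).obj F)
    obtain ⟨U, hxU, hUo, hUc⟩ := h n x
    obtain ⟨A, hA, hA'⟩ := FLCLib.exists_finset_opens hUc
    classical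
    let O : Set X := ⋂ V ∈ A.filter (fun V => (⟨x, mem_of_mem_nhds hxU⟩ : U) ∈ V), Subtype.val '' V
    refine ⟨n, U ∩ O, hUo.inter (isOpen_biInter_finset fun V hV => hUo.isOpenMap_subtype_val _ (hA V (Finset.mem_filter.1 hV).1).1),
      ⟨mem_of_mem_nhds hxU, ?_⟩, fun Ω _ _ ξ hξ hs => ⟨hfin Ω ξ, ?_⟩⟩
    · exact Set.mem_iInter₂.2 fun V hV => ⟨_, (Finset.mem_filter.1 hV).2, rfl⟩
    · have hy := hA' ⟨x, mem_of_mem_nhds hxU⟩ ⟨ξ default, hξ.1⟩ (fun V hV => ⟨fun hxV => ?_, fun hyV => ?_⟩)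
        ⟨_, inferInstance, inferInstance, EtPtsLib.geomPt x,
          (FLCLib.range_geomPt _).trans (congrArg ({·}) (EtPtsLib.geomPt_default x)), rfl⟩
      · obtain ⟨Ω', _, _, ζ, hζ, hn⟩ := hy
        exact (hind Ω Ω' ξ ζ (FLCLib.mem_range_of_range ζ hζ).symm).trans hn
      · obtain ⟨w, hw, hwe⟩ := Set.mem_iInter₂.1 hξ.2 V (Finset.mem_filter.2 ⟨hV, hxV⟩)
        exact (Subtype.ext hwe : w = ⟨ξ default, hξ.1⟩) ▸ hw
      · obtain ⟨w, hw, hwe⟩ := hs.mem_open (hUo.isOpenMap_subtype_val _ (hA V hV).1) ⟨_, hyV, rfl⟩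
        exact (Subtype.ext hwe : w = ⟨x, mem_of_mem_nhds hxU⟩) ▸ hw

end Groth.Agent.S3116
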