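import Groth.Statements.S3126
import Groth.Agent.AcycCritLib.EtRestLoc
set_option backward.isDefEq.respectTransparency false
set_option backward.isDefEq.respectTransparency.types false
set_option linter.style.haveILetI false
set_option maxHeartbeats 1000000
-- import your own Groth.Agent.* helpers here

set_option autoImplicit false
universe u
open CategoryTheory CategoryTheory.Limits AlgebraicGeometry
open SGA4h

namespace Groth.Agent.S3126

/-- Let A be a strictly henselian Noetherian local ring, S = Spec A, n an integer invertible in A and f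
: X → S a morphism which is locally acyclic (in the sense of vanishing cycles for ℤ/n-coefficients
prime to the residue characteristics), quasi-compact and quasi-separated (the last two are assumed
here in addition to the published hypotheses). Assume that every geometric fibre X_t of f has
H^0(X_t, ℤ/n) ≅ ℤ/n and H^q(X_t, ℤ/n) = 0 for q > 0. Then the unit ℤ/n → f_* f^* ℤ/n is an
isomorphism and R^q f_* (ℤ/n) = 0 for q > 0. (Local acyclicity and the fibre hypothesis are stated
for all separably closed fields Ω, a priori more than algebraic geometric points; as hypotheses this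
only weakens the statement.) -/
theorem result {X : Scheme.{u}} (A : Type u) [CommRing A] [IsNoetherianRing A]
    (hA : EtCoh.IsStrictlyHenselianLocalRing A) (n : ℕ) (hn : IsUnit (n : A)) (f : X ⟶ Spec (CommRingCat.of A))
    [QuasiCompact f] [QuasiSeparated f] (hf : EtRest.IsLocallyAcyclic f)
    (hfib : ∀ (Ω : Type u) [Field Ω] [IsSepClosed Ω] (t : Spec (CommRingCat.of Ω) ⟶ Spec (CommRingCat.of A)),
      Nonempty (EtCoh.H (pullback f t) (EtCoh.const (pullback f t) (ZMod n)) 0 ≃+ ZMod n) ∧
      ∀ q : ℕ, 0 < q → Subsingleton (EtCoh.H (pullback f t) (EtCoh.const (pullback f t) (ZMod n)) q)) :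
    IsIso ((EtCoh.pullPushAdj f).unit.app (EtCoh.const (Spec (CommRingCat.of A)) (ZMod n))) ∧
    ∀ q : ℕ, 0 < q → IsZero ((EtCoh.Rpush f q).obj (EtCoh.const X (ZMod n))) := by
  haveI := hA.1
  have hn0 : n ≠ 0 := by
    rintro rfl
    rw [Nat.cast_zero] at hn
    exact not_isUnit_zero hn
  rcases (Nat.succ_le_of_lt (Nat.pos_of_ne_zero hn0)).lt_or_eq with hn1 | hn1
  swap
  · obtain rfl : n = 1 := hn1.symm
    haveI : (EtCoh.push f).Additive := (EtCoh.pullPushAdj f).right_adjoint_additive
    haveI : (EtCoh.pull f).Additive := (EtCoh.pullPushAdj f).left_adjoint_additive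
    have h0 : ∀ Z : Scheme.{u}, IsZero (EtCoh.const Z (ZMod 1)) := fun Z => by
      haveI : (constantSheaf Z.smallEtaleTopology AddCommGrpCat.{u + 1}).Additive := by
        unfold constantSheaf; infer_instance
      haveI : Subsingleton (ULift.{u + 1} (ZMod 1)) := inferInstance
      exact Functor.map_isZero _ (AddCommGrpCat.isZero_of_subsingleton (AddCommGrpCat.of (ULift.{u + 1} (ZMod 1))))
    refine ⟨?_, fun q _ => ((EtCoh.push f).rightDerived q).map_isZero (h0 X)⟩
    exact isIso_of_source_target_iso_zero _ (h0 _).isoZero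
      ((EtCoh.push f).map_isZero ((EtCoh.pull f).map_isZero (h0 _))).isoZero
  have hL : ∀ ℓ ∈ {ℓ : ℕ | ℓ.Prime ∧ ℓ ∣ n}, ℓ.Prime → ∀ x : X, (ℓ : X.residueField x) ≠ 0 := by
    rintro ℓ ⟨-, hdvd⟩ - x h
    let φ : A →+* X.residueField x := (Spec.preimage (X.fromSpecResidueField x ≫ f)).hom
    have hu : IsUnit (n : X.residueField x) := map_natCast φ n ▸ hn.map φ
    obtain ⟨k, rfl⟩ := hdvd
    rw [Nat.cast_mul, h, zero_mul] at hu
    exact not_isUnit_zero hu
  have hprim : EtAcyc.PrimesIn {ℓ : ℕ | ℓ.Prime ∧ ℓ ∣ n} n := ⟨Nat.pos_of_ne_zero hn0, fun p hp hd => ⟨hp, hd⟩⟩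
  have hgf : ∀ m, EtAcyc.GeomFibresAcyclicN {ℓ : ℕ | ℓ.Prime ∧ ℓ ∣ n} m f := fun m y Ω _ _ _ _ =>
    Groth.Agent.AcycCritLib.isAcyclicSchemeN_of_zmod hn1 (hfib Ω _).1.some.toEquiv (hfib Ω _).2 m
  obtain ⟨hu, hR⟩ := Groth.Agent.AcycCritLib.unit_Rpush_of_geomFibres f
    (Groth.Agent.AcycCritLib.strictFibres_of_isLocallyAcyclic f hf hL) hgf _
    (Groth.Agent.CompBCLib.isLTorsion_of_killedBy hprim (Groth.Agent.PBCLib.killedBy_const _ n))
  exact ⟨hu, fun q hq => (hR q hq).of_iso
    ((EtCoh.Rpush f q).mapIso (EtCore.pullConst f (ZMod n)).symm)⟩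

end Groth.Agent.S3126
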