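import Groth.Statements.S3129
import Mathlib.NumberTheory.LegendreSymbol.AddCharacter
import Mathlib.NumberTheory.MulChar.Basic

set_option autoImplicit false
open BigOperators
open SGA4h

namespace Groth.Agent.S3129

/-- Let F be a finite field with q elements, N ≥ 1, χ₀, …, χ_N multiplicative characters of F with
values in a domain, not all trivial and with product 1, and Ψ a nontrivial additive character of F.
Put τ(χ, Ψ) = −Σ_{x ∈ F} Ψ(x) χ⁻¹(x) and J(χ) = (−1)^{N−1} Σ χ₁⁻¹(x₁) ⋯ χ_N⁻¹(x_N), the sum over x₁,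
…, x_N ∈ F^* with x₁ + ⋯ + x_N = −1. Then q · J(χ) = τ(χ₀, Ψ) ⋯ τ(χ_N, Ψ). -/
theorem result (F : Type) [Field F] [Fintype F] [DecidableEq F] (R : Type) [CommRing R] [IsDomain R]
    (N : ℕ) (hN : 1 ≤ N) (χ : Fin (N + 1) → MulChar F R) (hprod : ∏ i, χ i = 1) (hnt : ∃ i, χ i ≠ 1)
    (Ψ : AddChar F R) (hΨ : Ψ ≠ 1) :
    (Fintype.card F : R) * ((-1) ^ (N - 1) *
        ∑ x ∈ (Finset.univ : Finset (Fin N → Fˣ)).filter (fun x => ∑ i, ((x i : Fˣ) : F) = -1),
          ∏ i : Fin N, (χ i.succ)⁻¹ ((x i : Fˣ) : F)) =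
      ∏ i : Fin (N + 1), (-(∑ y : F, Ψ y * (χ i)⁻¹ y)) := by
  classical
  have usum : ∀ h : F → R, ∑ a, h a = h 0 + ∑ u : Fˣ, h u := fun h => by
    rw [← Finset.add_sum_erase _ _ (Finset.mem_univ (0 : F))]
    congr 1
    refine Finset.sum_bij' (fun a ha => Units.mk0 a (Finset.ne_of_mem_erase ha)) (fun u _ => (u : F))
      (by simp) (by simp) (by simp) (by simp) (by simp)
  have h0 : ∀ φ : MulChar F R, φ (0 : F) = 0 := fun φ => φ.map_nonunit not_isUnit_zero
  have huse : ∀ φ : MulChar F R, ∑ u : Fˣ, φ u = ∑ a, φ a := fun φ => by rw [usum, h0, zero_add]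
  obtain ⟨j, hj⟩ : ∃ j : Fin N, χ j.succ ≠ 1 := by
    by_contra hc
    push Not at hc
    obtain ⟨i, hi⟩ := hnt
    refine hi ?_
    induction i using Fin.cases with
    | zero => simpa [Fin.prod_univ_succ, hc] using hprod
    | succ i => exact hc i
  have hzero : ∑ x : Fin N → Fˣ, ∏ i : Fin N, (χ i.succ)⁻¹ ((x i : Fˣ) : F) = 0 := by
    rw [← Fintype.prod_sum (fun (i : Fin N) (u : Fˣ) => (χ i.succ)⁻¹ (u : F))]
    refine Finset.prod_eq_zero (Finset.mem_univ j) ?_
    rw [huse]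
    exact MulChar.sum_eq_zero_of_ne_one (inv_ne_one.mpr hj)
  have hy : ∀ t : F, ∑ u : Fˣ, Ψ ((u : F) * t) =
      (if t = 0 then (Fintype.card F : R) else 0) - 1 := by
    intro t
    have h := usum (fun a => Ψ (a * t))
    simp only [zero_mul, AddChar.map_zero_eq_one] at h
    rw [eq_sub_iff_add_eq, add_comm, ← h]
    split_ifs with ht
    · simp [ht]
    · rw [Fintype.sum_equiv (Equiv.mulRight₀ t ht) (fun a => Ψ (a * t)) (fun a => Ψ a) fun a => rfl]
      exact AddChar.sum_eq_zero_of_ne_one hΨ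
  let e : Fˣ × (Fin N → Fˣ) ≃ (Fin (N + 1) → Fˣ) :=
    { toFun := fun p => Fin.cons p.1 (fun i => p.1 * p.2 i)
      invFun := fun w => (w 0, fun i => (w 0)⁻¹ * w i.succ)
      left_inv := fun p => by ext <;> simp
      right_inv := fun w => by funext i; induction i using Fin.cases <;> simp }
  have step : ∀ (y : Fˣ) (x : Fin N → Fˣ),
      ∏ i, Ψ ((e (y, x) i : Fˣ) : F) * (χ i)⁻¹ ((e (y, x) i : Fˣ) : F) =
        Ψ ((y : F) * (1 + ∑ i, ((x i : Fˣ) : F))) * ∏ i : Fin N, (χ i.succ)⁻¹ ((x i : Fˣ) : F) := by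
    intro y x
    have h1 : (∏ i, (χ i)⁻¹ (y : F)) = 1 := by
      simp only [MulChar.inv_apply']
      have h := congrArg (fun φ : MulChar F R => φ ((y⁻¹ : Fˣ) : F)) hprod
      simp only [MulChar.one_apply_coe] at h
      rw [← h]
      have hev : ∀ s : Finset (Fin (N + 1)), (∏ i ∈ s, χ i) ((y⁻¹ : Fˣ) : F) =
          ∏ i ∈ s, χ i ((y⁻¹ : Fˣ) : F) := fun s => by
        induction s using Finset.induction_on with
        | empty => rw [Finset.prod_empty, Finset.prod_empty, MulChar.one_apply_coe]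
        | insert a s ha ih => rw [Finset.prod_insert ha, Finset.prod_insert ha, MulChar.mul_apply, ih]
      rw [hev]
      exact Finset.prod_congr rfl fun i _ => by rw [Units.val_inv_eq_inv_val]
    have hsum : ∀ (s : Finset (Fin (N + 1))) (g : Fin (N + 1) → F),
        Ψ (∑ i ∈ s, g i) = ∏ i ∈ s, Ψ (g i) := fun s g => by
      induction s using Finset.induction_on with
      | empty => simp
      | insert a s ha ih => rw [Finset.sum_insert ha, Finset.prod_insert ha, AddChar.map_add_eq_mul, ih]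
    rw [Finset.prod_mul_distrib, ← hsum, Fin.prod_univ_succ, Fin.sum_univ_succ,
      mul_add, mul_one, Finset.mul_sum]
    simp only [e, Equiv.coe_fn_mk, Fin.cons_zero, Fin.cons_succ, Units.val_mul, map_mul]
    rw [Finset.prod_mul_distrib]
    rw [Fin.prod_univ_succ] at h1
    linear_combination (Ψ ((y : F) + ∑ i : Fin N, (y : F) * ((x i : Fˣ) : F)) *
      ∏ i : Fin N, (χ i.succ)⁻¹ ((x i : Fˣ) : F)) * h1
  have hexp : ∏ i : Fin (N + 1), (-(∑ y : F, Ψ y * (χ i)⁻¹ y)) = (-1) ^ (N + 1) *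
      ∑ w : Fin (N + 1) → Fˣ, ∏ i, Ψ ((w i : Fˣ) : F) * (χ i)⁻¹ ((w i : Fˣ) : F) := by
    rw [Finset.prod_neg, Finset.card_univ, Fintype.card_fin]
    congr 1
    rw [← Fintype.prod_sum (fun (i : Fin (N + 1)) (u : Fˣ) => Ψ (u : F) * (χ i)⁻¹ (u : F))]
    refine Finset.prod_congr rfl fun i _ => ?_
    rw [usum, h0, mul_zero, zero_add]
  rw [hexp, ← Fintype.sum_equiv e _ (fun w => ∏ i, Ψ ((w i : Fˣ) : F) * (χ i)⁻¹ ((w i : Fˣ) : F))
    fun _ => rfl, Fintype.sum_prod_type_right, Finset.sum_filter]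
  obtain ⟨m, rfl⟩ : ∃ m, N = m + 1 := ⟨N - 1, by omega⟩
  rw [show (-1 : R) ^ (m + 1 + 1) = (-1) ^ (m + 1 - 1) by rw [Nat.add_sub_cancel, pow_add, pow_add]; ring,
    mul_left_comm]
  congr 1
  rw [Finset.mul_sum]
  calc ∑ x : Fin (m + 1) → Fˣ, (Fintype.card F : R) *
          (if ∑ i, ((x i : Fˣ) : F) = -1 then ∏ i, (χ i.succ)⁻¹ ((x i : Fˣ) : F) else 0)
      = ∑ x : Fin (m + 1) → Fˣ, ((if 1 + ∑ i, ((x i : Fˣ) : F) = 0 then (Fintype.card F : R)
          else 0) - 1) * ∏ i, (χ i.succ)⁻¹ ((x i : Fˣ) : F) := by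
        simp only [sub_mul, one_mul, Finset.sum_sub_distrib, hzero, sub_zero]
        refine Finset.sum_congr rfl fun x _ => ?_
        simp only [add_eq_zero_iff_neg_eq, @eq_comm _ (-1 : F)]
        split_ifs <;> simp
    _ = _ := by
        refine Finset.sum_congr rfl fun x _ => ?_
        simp only [step]
        rw [← Finset.sum_mul, hy]

end Groth.Agent.S3129
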