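import Groth.Statements.S3133
import Mathlib

set_option autoImplicit false
open Polynomial
open SGA4h

namespace Groth.Agent.S3133

/-- Let A be a square matrix over a commutative ring and n ≥ 1, and let B be the matrix on n blocks of
the endomorphism (x_1, …, x_n) ↦ (A x_n, x_1, …, x_{n-1}). Then det(1 − B·T) = det(1 − A·Tⁿ), i.e.
the reverse characteristic polynomial of B is that of A expanded by n. -/
theorem result (R : Type) [CommRing R] (m : Type) [Fintype m] [DecidableEq m]
    (A : Matrix m m R) (n : ℕ) (hn : 1 ≤ n) :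
    (Matrix.of fun (p q : Fin n × m) =>
        if p.1.val = 0 then (if q.1.val = n - 1 then A p.2 q.2 else 0)
        else (if q.1.val + 1 = p.1.val ∧ p.2 = q.2 then 1 else 0)).charpolyRev =
      Polynomial.expand R n A.charpolyRev := by
  classical
  obtain ⟨N, rfl⟩ : ∃ N, n = N + 1 := ⟨n - 1, by omega⟩
  let T : Polynomial R := Polynomial.X
  let B : Matrix (Fin (N + 1) × m) (Fin (N + 1) × m) R := Matrix.of fun p q =>
        if p.1.val = 0 then (if q.1.val = N + 1 - 1 then A p.2 q.2 else 0)
        else (if q.1.val + 1 = p.1.val ∧ p.2 = q.2 then 1 else 0)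
  let P : Matrix (Fin (N + 1) × m) (Fin (N + 1) × m) (Polynomial R) := 1 - T • B.map Polynomial.C
  let U : Matrix (Fin (N + 1) × m) (Fin (N + 1) × m) (Polynomial R) := Matrix.of fun p q =>
    if q.1.val ≤ p.1.val ∧ p.2 = q.2 then T ^ (p.1.val - q.1.val) else 0
  have hU : U.det = 1 := by
    have htri : (U.transpose).BlockTriangular Prod.fst := by
      intro p q hpq
      simp only [Matrix.transpose_apply, U, Matrix.of_apply]
      rw [if_neg]
      rintro ⟨h, -⟩
      exact absurd hpq (not_lt.mpr h)
    rw [← Matrix.det_transpose, htri.det_fintype]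
    refine Finset.prod_eq_one fun k _ => ?_
    have : (U.transpose).toSquareBlock Prod.fst k = 1 := by
      refine Matrix.ext ?_
      rintro ⟨⟨i, a⟩, hi⟩ ⟨⟨j, b⟩, hj⟩
      change i = k at hi
      change j = k at hj
      subst hi hj
      simp [Matrix.toSquareBlock_def, U, Matrix.one_apply, eq_comm]
    rw [this, Matrix.det_one]
  -- `P * U` is block upper triangular
  have hPU : ∀ (p q : Fin (N + 1) × m), (P * U) p q =
      if p.1.val = 0 then (if p = q then 1 else 0) - T ^ (N + 1 - q.1.val) * Polynomial.C (A p.2 q.2)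
      else (if p = q then 1 else 0) := by
    intro p q
    have hsum : (T • B.map Polynomial.C * U) p q =
        T * ∑ r, Polynomial.C (B p r) * U r q := by
      rw [Matrix.smul_mul, Matrix.smul_apply, Matrix.mul_apply, smul_eq_mul]
      rfl
    rw [show P = 1 - T • B.map Polynomial.C from rfl, Matrix.sub_mul, one_mul, Matrix.sub_apply, hsum]
    by_cases hp : p.1.val = 0
    · rw [if_pos hp]
      rw [Finset.sum_eq_single (⟨⟨N, Nat.lt_succ_self N⟩, q.2⟩ : Fin (N + 1) × m)]
      · have hq := q.1.isLt
        simp only [B, U, Matrix.of_apply]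
        rw [if_pos hp, if_pos (show N = N + 1 - 1 by omega),
          if_pos (show q.1.val ≤ N ∧ True from ⟨by omega, trivial⟩), hp]
        have hone : (if q.1.val ≤ 0 ∧ p.2 = q.2 then T ^ (0 - q.1.val) else 0)
            = if p = q then (1 : Polynomial R) else 0 := by
          by_cases h : p = q
          · subst h
            rw [if_pos ⟨hp.le, rfl⟩, if_pos rfl, hp, Nat.sub_zero, pow_zero]
          · rw [if_neg h, if_neg]
            rintro ⟨h1, h2⟩
            exact h (Prod.ext (Fin.ext (by omega)) h2)
        rw [hone, show N + 1 - q.1.val = (N - q.1.val) + 1 by omega, pow_succ]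
        ring
      · intro r _ hr
        by_cases h1 : r.1.val = N
        · have h2 : r.2 ≠ q.2 := fun h2 => hr (Prod.ext (Fin.ext h1) h2)
          simp only [U, Matrix.of_apply]
          rw [if_neg (fun h => h2 h.2), mul_zero]
        · simp only [B, Matrix.of_apply]
          rw [if_pos hp, if_neg (by omega), map_zero, zero_mul]
      · simp
    · rw [if_neg hp]
      have hlt := p.1.isLt
      rw [Finset.sum_eq_single (⟨⟨p.1.val - 1, by omega⟩, p.2⟩ : Fin (N + 1) × m)]
      · simp only [B, U, Matrix.of_apply]
        rw [if_neg hp, if_pos (show p.1.val - 1 + 1 = p.1.val ∧ True from ⟨by omega, trivial⟩),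
          map_one, one_mul]
        by_cases h : p = q
        · subst h
          rw [if_pos ⟨le_rfl, rfl⟩, if_neg (by omega), if_pos rfl, Nat.sub_self, pow_zero, mul_zero,
            sub_zero]
        · rw [if_neg h]
          by_cases h2 : p.2 = q.2
          · by_cases h1 : q.1.val ≤ p.1.val - 1
            · rw [if_pos ⟨by omega, h2⟩, if_pos ⟨h1, h2⟩, ← pow_succ',
                show p.1.val - 1 - q.1.val + 1 = p.1.val - q.1.val by omega, sub_self]
            · have h3 : q.1.val ≠ p.1.val := fun h3 => h (Prod.ext (Fin.ext h3.symm) h2)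
              rw [if_neg (by omega), if_neg (fun hh => h1 hh.1), mul_zero, sub_zero]
          · rw [if_neg (fun hh => h2 hh.2), if_neg (fun hh => h2 hh.2), mul_zero, sub_zero]
      · intro r _ hr
        simp only [B, Matrix.of_apply]
        rw [if_neg hp, if_neg, map_zero, zero_mul]
        rintro ⟨h1, h2⟩
        exact hr (Prod.ext (Fin.ext (by show r.1.val = p.1.val - 1; omega)) h2.symm)
      · simp
  have htri2 : (P * U).BlockTriangular Prod.fst := by
    intro p q hpq
    have h : q.1.val < p.1.val := hpq
    rw [hPU, if_neg (by omega), if_neg]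
    rintro rfl
    exact lt_irrefl _ h
  show P.det = Polynomial.expand R (N + 1) A.charpolyRev
  rw [← mul_one P.det, ← hU, ← Matrix.det_mul, htri2.det_fintype,
    Finset.prod_eq_single (0 : Fin (N + 1))]
  · rw [Matrix.charpolyRev, AlgHom.map_det]
    let e : {p : Fin (N + 1) × m // p.1 = 0} ≃ m :=
      { toFun := fun p => p.1.2
        invFun := fun a => ⟨(0, a), rfl⟩
        left_inv := fun p => Subtype.ext (Prod.ext p.2.symm rfl)
        right_inv := fun a => rfl }
    rw [← Matrix.det_submatrix_equiv_self e]
    congr 1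
    refine Matrix.ext ?_
    rintro ⟨⟨i, a⟩, hi⟩ ⟨⟨j, b⟩, hj⟩
    change i = 0 at hi
    change j = 0 at hj
    subst hi hj
    rw [Matrix.submatrix_apply, Matrix.toSquareBlock_def, Matrix.of_apply, hPU]
    by_cases h : a = b
    · subst h; simp [e, T]
    · simp [e, T, h]
  · intro k _ hk
    have : (P * U).toSquareBlock Prod.fst k = 1 := by
      refine Matrix.ext ?_
      rintro ⟨⟨i, a⟩, hi⟩ ⟨⟨j, b⟩, hj⟩
      change i = k at hi
      change j = k at hj
      subst hi hj
      rw [Matrix.toSquareBlock_def, Matrix.of_apply, hPU]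
      have hk' : j.val ≠ 0 := fun h => hk (Fin.ext h)
      simp [Matrix.one_apply, hk']
    rw [this, Matrix.det_one]
  · simp

end Groth.Agent.S3133
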