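import Groth.Statements.S3134
import Mathlib.LinearAlgebra.Matrix.Charpoly.Coeff
import Mathlib.RingTheory.PowerSeries.Basic

set_option autoImplicit false
open Polynomial
open SGA4h

namespace Groth.Agent.S3134

/-- Jacobi's formula. -/
theorem derivative_det' {R : Type} [CommRing R] {m : Type} [Fintype m] [DecidableEq m]
    (M : Matrix m m (Polynomial R)) :
    Polynomial.derivative M.det = (M.adjugate * M.map Polynomial.derivative).trace := by
  have h1 : Polynomial.derivative M.det = ∑ i, (M.updateRow i fun j => Polynomial.derivative (M i j)).det := by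
    simp only [← Matrix.det_transpose (M.updateRow _ _)]
    rw [← Matrix.det_transpose M, Matrix.det_apply', map_sum]
    simp only [Matrix.det_apply', Matrix.transpose_apply]
    rw [Finset.sum_comm (s := Finset.univ (α := m))]
    refine Finset.sum_congr rfl fun σ _ => ?_
    simp only [← zsmul_eq_mul, map_zsmul, ← Finset.smul_sum]
    congr 1
    rw [Polynomial.derivative_prod_finset]
    refine Finset.sum_congr rfl fun i _ => ?_
    rw [← Finset.mul_prod_erase Finset.univ _ (Finset.mem_univ i), Matrix.updateRow_self, mul_comm]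
    refine congrArg (_ * ·) (Finset.prod_congr rfl fun j hj => ?_)
    rw [Matrix.updateRow_ne (Finset.ne_of_mem_erase hj)]
  rw [h1, Matrix.trace]
  simp only [Matrix.diag, Matrix.mul_apply, Matrix.map_apply]
  rw [Finset.sum_comm]
  refine Finset.sum_congr rfl fun i _ => ?_
  rw [Matrix.det_eq_sum_mul_adjugate_row _ i]
  refine Finset.sum_congr rfl fun j _ => ?_
  rw [Matrix.updateRow_self, mul_comm]
  simp [Matrix.adjugate_apply]

/-- For a square matrix A over a commutative ring, with P(T) = det(1 − A·T), one has −T·P′(T) = P(T) ·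
Σ_{n ≥ 1} Tr(Aⁿ) Tⁿ as formal power series (equivalently T d/dT log P(T)⁻¹ = Σ_{n≥1} Tr(Aⁿ) Tⁿ). -/
theorem result (R : Type) [CommRing R] (m : Type) [Fintype m] [DecidableEq m]
    (A : Matrix m m R) :
    ((-(X * Polynomial.derivative A.charpolyRev) : R[X]) : PowerSeries R) =
      (A.charpolyRev : PowerSeries R) * PowerSeries.mk (fun n => if n = 0 then 0 else (A ^ n).trace) := by
  classical
  let φ : R[X] →+* PowerSeries R := Polynomial.coeToPowerSeries.ringHom
  let G : Matrix m m (PowerSeries R) := Matrix.of fun i j => PowerSeries.mk fun n => (A ^ n) i j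
  let M : Matrix m m R[X] := 1 - (X : R[X]) • A.map Polynomial.C
  let Ac : Matrix m m (PowerSeries R) := A.map (PowerSeries.C (R := R))
  have hM : φ.mapMatrix M = 1 - (PowerSeries.X : PowerSeries R) • Ac := by
    ext i j : 1
    by_cases h : i = j <;> simp [M, φ, Ac, h, Polynomial.coe_sub] <;> exact mul_comm _ _
  have hG : φ.mapMatrix M * G = 1 := by
    rw [hM, sub_mul, one_mul, smul_mul_assoc]
    ext i j n
    cases n with
    | zero => simp [G, Matrix.mul_apply, Matrix.one_apply, apply_ite (PowerSeries.constantCoeff (R := R))]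
    | succ n =>
      simp [G, Ac, Matrix.mul_apply, Matrix.one_apply, apply_ite (PowerSeries.coeff (R := R) (n + 1)),
        PowerSeries.coeff_C_mul, pow_succ']
  have hadj : φ.mapMatrix M.adjugate = φ M.det • G := by
    have h := congrArg φ.mapMatrix (Matrix.adjugate_mul M)
    rw [map_mul] at h
    calc φ.mapMatrix M.adjugate = φ.mapMatrix M.adjugate * (φ.mapMatrix M * G) := by rw [hG, mul_one]
      _ = φ M.det • G := by
        rw [← mul_assoc, h]
        ext i j : 1
        simp [Matrix.mul_apply, Matrix.one_apply, apply_ite φ]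
  have hD : M.map Polynomial.derivative = -A.map Polynomial.C := by
    ext i j : 1
    by_cases h : i = j <;> simp [M, h]
  change φ (-(X * Polynomial.derivative A.charpolyRev)) = φ A.charpolyRev * _
  rw [Matrix.charpolyRev, derivative_det', hD]
  change φ (-(X * (M.adjugate * -A.map Polynomial.C).trace)) = φ M.det * _
  rw [Matrix.mul_neg, Matrix.trace_neg, mul_neg, neg_neg, map_mul,
    show φ (M.adjugate * A.map Polynomial.C).trace = (φ.mapMatrix M.adjugate * Ac).trace from by
      refine (AddMonoidHom.map_trace φ.toAddMonoidHom _).trans ?_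
      congr 1
      simp only [RingHom.toAddMonoidHom_eq_coe, AddMonoidHom.coe_coe]
      rw [← RingHom.mapMatrix_apply]
      refine (map_mul φ.mapMatrix _ _).trans (congrArg _ ?_)
      ext i j : 1
      simp [φ, Ac],
    hadj, smul_mul_assoc, Matrix.trace_smul, smul_eq_mul, mul_left_comm]
  congr 1
  ext n
  cases n with
  | zero => simp [φ]
  | succ n => simp [φ, G, Ac, Matrix.trace, Matrix.mul_apply, pow_succ, PowerSeries.coeff_mul_C]

end Groth.Agent.S3134
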