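import Groth.Statements.S3139
import Groth.Agent.DetCxLib.Complex
-- import your own Groth.Agent.* helpers here

set_option autoImplicit false
set_option backward.isDefEq.respectTransparency false
set_option maxHeartbeats 800000
set_option synthInstance.maxHeartbeats 200000
universe u
open CategoryTheory
attribute [local instance] HasDerivedCategory.standard
open SGA4h

namespace Groth.Agent.S3139

open CategoryTheory.Limits CochainComplex in
lemma det_cone_step {A : Type u} [CommRing A] {K K' : CochainComplex (ModuleCat.{u} A) ℤ}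
    {u : K ⟶ K} {u' : K' ⟶ K'} {h : K ⟶ K'} (H : Homotopy (h ≫ u') (u ≫ h)) (i : ℤ)
    [Module.Finite A (K.X (i + 1))] [Module.Free A (K.X (i + 1))] [Module.Finite A (K'.X i)] [Module.Free A (K'.X i)] :
    Module.Finite A ((mappingCone h).X i) ∧ Module.Free A ((mappingCone h).X i) ∧
    SGA4h.detOneSub ((mappingCone h).X i) ((mappingCone.mapOfHomotopy H).f i) =
      SGA4h.detOneSub (K.X (i + 1)) (u.f (i + 1)) * SGA4h.detOneSub (K'.X i) (u'.f i) := by
  classical
  let p₁ := (mappingCone.fst h).1.v i (i + 1) rfl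
  let p₂ := (mappingCone.snd h).v i i (add_zero i)
  let j₁ := (mappingCone.inl h).v (i + 1) i (by omega)
  let j₂ := (mappingCone.inr h).f i
  have e11 : j₁ ≫ p₁ = 𝟙 _ := mappingCone.inl_v_fst_v _ _ _ _
  have e12 : j₁ ≫ p₂ = 0 := mappingCone.inl_v_snd_v _ _ _ _
  have e21 : j₂ ≫ p₁ = 0 := mappingCone.inr_f_fst_v _ _ _ _
  have e22 : j₂ ≫ p₂ = 𝟙 _ := mappingCone.inr_f_snd_v _ _
  have esum : p₁ ≫ j₁ + p₂ ≫ j₂ = 𝟙 _ := mappingCone.id_X h i (i + 1) rfl
  let e : ((mappingCone h).X i) ≃ₗ[A] (K.X (i + 1)) × (K'.X i) :=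
    LinearEquiv.ofLinearMap (p₁.hom.prod p₂.hom) (j₁.hom.coprod j₂.hom)
      (LinearMap.ext fun x => by
        obtain ⟨x, y⟩ := x
        have h1 := ConcreteCategory.congr_hom e11 x
        have h2 := ConcreteCategory.congr_hom e12 x
        have h3 := ConcreteCategory.congr_hom e21 y
        have h4 := ConcreteCategory.congr_hom e22 y
        simp only [ModuleCat.comp_apply, ModuleCat.id_apply] at h1 h2 h3 h4
        simp [h1, h2, h3, h4])
      (LinearMap.ext fun z => by
        have h1 := ConcreteCategory.congr_hom esum z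
        simpa using h1)
  refine ⟨Module.Finite.equiv e.symm, Module.Free.of_equiv e.symm, ?_⟩
  let b₁ := Module.Free.chooseBasis A (K.X (i + 1))
  let b₂ := Module.Free.chooseBasis A (K'.X i)
  let w := (mappingCone.mapOfHomotopy H).f i
  have w11 : (j₁ ≫ w) ≫ p₁ = u.f (i + 1) := by
    simp [j₁, p₁, w, mappingCone.mapOfHomotopy]
  have w21 : (j₂ ≫ w) ≫ p₁ = 0 := by
    simp [j₂, p₁, w, mappingCone.mapOfHomotopy]
  have w22 : (j₂ ≫ w) ≫ p₂ = u'.f i := by
    simp [j₂, p₂, w, mappingCone.mapOfHomotopy]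
  let b := (b₁.prod b₂).map e.symm
  have hmat : LinearMap.toMatrix b b w.hom =
      Matrix.fromBlocks (LinearMap.toMatrix b₁ b₁ (u.f (i + 1)).hom) 0
        (LinearMap.toMatrix b₁ b₂ ((j₁ ≫ w) ≫ p₂).hom) (LinearMap.toMatrix b₂ b₂ (u'.f i).hom) := by
    ext x y
    rw [← w11, ← w22]
    have hw := ConcreteCategory.congr_hom w21
    rcases x with x | x <;> rcases y with y | y <;>
      simp [b, e, LinearMap.toMatrix_apply, Module.Basis.map_apply, LinearMap.coprod_apply]
    · have := hw (b₂ y)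
      simp at this
      simp [this]
  rw [Groth.Agent.DetCxLib.detOneSub_eq b, Groth.Agent.DetCxLib.detOneSub_eq b₁, Groth.Agent.DetCxLib.detOneSub_eq b₂,
    hmat, Matrix.fromBlocks_map, Matrix.fromBlocks_smul, ← Matrix.fromBlocks_one]
  rw [sub_eq_add_neg (Matrix.fromBlocks (1 : Matrix _ _ (Polynomial A)) 0 0 1), Matrix.fromBlocks_neg, Matrix.fromBlocks_add]
  simp only [Matrix.map_zero _ (map_zero Polynomial.C), smul_zero, neg_zero, add_zero, zero_add, ← sub_eq_add_neg]
  exact Matrix.det_fromBlocks_zero₁₂ _ _ _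

open CategoryTheory.Limits DerivedCategory CochainComplex in
lemma exists_homotopyEquiv {A : Type u} [CommRing A] (K K' : CochainComplex (ModuleCat.{u} A) ℤ)
    [K.IsKProjective] [K'.IsKProjective] (u : K ⟶ K) (u' : K' ⟶ K')
    (φ : DerivedCategory.Q.obj K ≅ DerivedCategory.Q.obj K')
    (hφ : DerivedCategory.Q.map u ≫ φ.hom = φ.hom ≫ DerivedCategory.Q.map u') :
    ∃ h : K ⟶ K', IsIso ((HomotopyCategory.quotient _ _).map h) ∧ Nonempty (Homotopy (h ≫ u') (u ≫ h)) := by
  obtain ⟨h', hh⟩ := (IsKProjective.Qh_map_bijective K _).surjective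
    ((quotientCompQhIso (ModuleCat.{u} A)).hom.app K ≫ φ.hom ≫ (quotientCompQhIso (ModuleCat.{u} A)).inv.app K')
  obtain ⟨g', hg⟩ := (IsKProjective.Qh_map_bijective K' _).surjective
    ((quotientCompQhIso (ModuleCat.{u} A)).hom.app K' ≫ φ.inv ≫ (quotientCompQhIso (ModuleCat.{u} A)).inv.app K)
  obtain ⟨h, rfl⟩ := (HomotopyCategory.quotient _ _).map_surjective h'
  refine ⟨h, ⟨g', (IsKProjective.Qh_map_bijective _ _).injective ?_, (IsKProjective.Qh_map_bijective _ _).injective ?_⟩,
    ⟨HomotopyCategory.homotopyOfEq _ _ ((IsKProjective.Qh_map_bijective _ _).injective ?_)⟩⟩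
  · simp [hg, hh]
  · simp [hg, hh]
  · have n₁ : Qh.map ((HomotopyCategory.quotient _ _).map u) =
        (quotientCompQhIso (ModuleCat.{u} A)).hom.app K ≫ Q.map u ≫ (quotientCompQhIso (ModuleCat.{u} A)).inv.app K := by
      rw [← cancel_mono ((quotientCompQhIso (ModuleCat.{u} A)).hom.app K)]
      simp only [Category.assoc, Iso.inv_hom_id_app, Category.comp_id]
      exact (quotientCompQhIso (ModuleCat.{u} A)).hom.naturality u
    have n₂ : Qh.map ((HomotopyCategory.quotient _ _).map u') =
        (quotientCompQhIso (ModuleCat.{u} A)).hom.app K' ≫ Q.map u' ≫ (quotientCompQhIso (ModuleCat.{u} A)).inv.app K' := by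
      rw [← cancel_mono ((quotientCompQhIso (ModuleCat.{u} A)).hom.app K')]
      simp only [Category.assoc, Iso.inv_hom_id_app, Category.comp_id]
      exact (quotientCompQhIso (ModuleCat.{u} A)).hom.naturality u'
    rw [Functor.map_comp, Functor.map_comp, Functor.map_comp, Functor.map_comp, hh, n₁, n₂]
    simp only [Category.assoc, Iso.inv_hom_id_app_assoc, reassoc_of% hφ]


/-- Let A be a commutative ring, K and K' bounded cochain complexes of finite free A-modules with
endomorphisms u and u', and suppose (K, u) and (K', u') are isomorphic in the derived category D(A):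
there is an isomorphism K ≅ K' in D(A) intertwining the images of u and u'. Then det(1 - u t, K) =
det(1 - u' t, K'), where det(1 - u t, K) = ∏ᵢ det(1 - u t, Kⁱ)^{(-1)^i}; the equality is stated
cross-multiplied, as ∏_{i even} det(1 - u t, Kⁱ) · ∏_{i odd} det(1 - u' t, K'ⁱ) = ∏_{i odd} det(1 -
u t, Kⁱ) · ∏_{i even} det(1 - u' t, K'ⁱ) in A[t]. (The source works with finite projective modules;
finite free is the special case stated here.) -/
theorem result (A : Type u) [CommRing A]
    (K K' : CochainComplex (ModuleCat.{u} A) ℤ) (a b : ℤ) [K.IsStrictlyGE a] [K.IsStrictlyLE b] [K'.IsStrictlyGE a] [K'.IsStrictlyLE b]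
    (hK : ∀ i : ℤ, Module.Finite A (K.X i) ∧ Module.Free A (K.X i)) (hK' : ∀ i : ℤ, Module.Finite A (K'.X i) ∧ Module.Free A (K'.X i))
    (u : K ⟶ K) (u' : K' ⟶ K') (φ : DerivedCategory.Q.obj K ≅ DerivedCategory.Q.obj K')
    (hφ : DerivedCategory.Q.map u ≫ φ.hom = φ.hom ≫ DerivedCategory.Q.map u') :
    SGA4h.detEven K u * SGA4h.detOdd K' u' = SGA4h.detOdd K u * SGA4h.detEven K' u' := by
  classical
  haveI hF : ∀ i, Module.Finite A (K.X i) := fun i => (hK i).1
  haveI : ∀ i, Module.Free A (K.X i) := fun i => (hK i).2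
  haveI : ∀ i, Module.Finite A (K'.X i) := fun i => (hK' i).1
  haveI : ∀ i, Module.Free A (K'.X i) := fun i => (hK' i).2
  haveI : ∀ i, Projective (K.X i) := fun i => ModuleCat.projective_of_categoryTheory_projective _
  haveI : ∀ i, Projective (K'.X i) := fun i => ModuleCat.projective_of_categoryTheory_projective _
  haveI : K.IsKProjective := CochainComplex.isKProjective_of_projective K b
  haveI : K'.IsKProjective := CochainComplex.isKProjective_of_projective K' b
  obtain ⟨h, hiso, ⟨H⟩⟩ := exists_homotopyEquiv K K' u u' φ hφ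
  have hzK : ∀ i, i ∉ Finset.Icc a b → Limits.IsZero (K.X i) := fun i hi => by
    rcases not_and_or.1 (fun e => hi (Finset.mem_Icc.2 e)) with h | h
    · exact K.isZero_of_isStrictlyGE a i (lt_of_not_ge h)
    · exact K.isZero_of_isStrictlyLE b i (lt_of_not_ge h)
  have hzK' : ∀ i, i ∉ Finset.Icc a b → Limits.IsZero (K'.X i) := fun i hi => by
    rcases not_and_or.1 (fun e => hi (Finset.mem_Icc.2 e)) with h | h
    · exact K'.isZero_of_isStrictlyGE a i (lt_of_not_ge h)
    · exact K'.isZero_of_isStrictlyLE b i (lt_of_not_ge h)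
  have hzC : ∀ i, i ∉ Finset.Icc (a - 1) b → Limits.IsZero ((CochainComplex.mappingCone h).X i) := fun i hi => by
    rw [Finset.mem_Icc] at hi
    rw [CochainComplex.mappingCone.isZero_X_iff]
    exact ⟨hzK _ (by rw [Finset.mem_Icc]; omega), hzK' _ (by rw [Finset.mem_Icc]; omega)⟩
  have hC := fun i => det_cone_step H i
  obtain ⟨s⟩ : Nonempty (Homotopy (𝟙 (CochainComplex.mappingCone h)) 0) := by
    rw [← HomotopyCategory.isZero_quotient_obj_iff]
    exact Pretriangulated.Triangle.isZero₃_of_isIso₁ _ (HomotopyCategory.mappingCone_triangleh_distinguished h) hiso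
  have key := Groth.Agent.DetCxLib.detEven_eq_detOdd _ (a - 1) b (fun i => ⟨(hC i).1, (hC i).2.1⟩) hzC s
    (CochainComplex.mappingCone.mapOfHomotopy H)
  have fin : ∀ (L : CochainComplex (ModuleCat.{u} A) ℤ) (v : L ⟶ L) (c d : ℤ)
      (_ : ∀ i, i ∉ Finset.Icc c d → Limits.IsZero (L.X i)) (p : ℤ → Prop) (g : ℤ → ℤ) (_ : Function.Injective g),
      Set.Finite (Function.mulSupport fun i : {i : ℤ // p i} => SGA4h.detOneSub (L.X (g i)) (v.f (g i))) := by
    intro L v c d hz p g hg
    refine ((Finset.Icc c d).finite_toSet.preimage (f := fun i : {i : ℤ // p i} => g i)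
      ((hg.comp Subtype.val_injective).injOn)).subset fun i hi => ?_
    by_contra hn
    exact hi (Groth.Agent.DetCxLib.detOneSub_of_isZero (hz _ hn) _)
  let sh : ∀ (p q : ℤ → Prop), (∀ i, q i ↔ p (i - 1)) → {i : ℤ // p i} ≃ {i : ℤ // q i} := fun p q hpq =>
    { toFun := fun i => ⟨i.1 + 1, (hpq _).2 (by simpa using i.2)⟩
      invFun := fun i => ⟨i.1 - 1, (hpq _).1 i.2⟩
      left_inv := fun i => by simp
      right_inv := fun i => by simp }
  have split : ∀ (p q : ℤ → Prop), (∀ i, q i ↔ p (i - 1)) →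
      ∏ᶠ i : {i : ℤ // p i}, SGA4h.detOneSub _ ((CochainComplex.mappingCone.mapOfHomotopy H).f i.1) =
        (∏ᶠ i : {i : ℤ // q i}, SGA4h.detOneSub (K.X i.1) (u.f i.1)) *
          ∏ᶠ i : {i : ℤ // p i}, SGA4h.detOneSub (K'.X i.1) (u'.f i.1) := by
    intro p q hpq
    rw [finprod_congr fun i : {i : ℤ // p i} => (hC i.1).2.2]
    refine (finprod_mul_distrib (fin K u a b hzK p (fun i => i + 1) (add_left_injective 1)) (fin K' u' a b hzK' p id Function.injective_id)).trans ?_
    congr 1
    exact finprod_eq_of_bijective _ (sh p q hpq).bijective fun _ => rfl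
  rw [SGA4h.detEven, SGA4h.detOdd] at key
  rw [split _ (fun i => Odd i) (fun i => by simp [Int.odd_iff, Int.even_iff]),
    split _ (fun i => Even i) (fun i => by simp [Int.odd_iff, Int.even_iff])] at key
  simp only [SGA4h.detEven, SGA4h.detOdd]
  exact key.symm

end Groth.Agent.S3139
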