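import Groth.Statements.S8540
import Groth.Agent.FLCLib.Gen
import Groth.Agent.S0142
-- import your own Groth.Agent.* helpers here

set_option autoImplicit false
set_option backward.isDefEq.respectTransparency false
universe u
open CategoryTheory CategoryTheory.Limits AlgebraicGeometry Opposite
open EtPBC

namespace Groth.Agent.S8540

/-- Let X be a Noetherian scheme and F a torsion abelian sheaf on the small etale site of X. Then F is
constructible if and only if F is a Noetherian object of the category of abelian etale sheaves on X
(ascending chain condition on subsheaves). -/
theorem result (X : Scheme.{u}) [IsNoetherian X] (F : EtCoh.Ab X)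
    (hF : EtCoh.IsTorsion F) :
    EtPBC.IsConstructible F ↔ IsNoetherianObject F := by
  constructor
  · intro h
    exact (isNoetherianObject_iff_monotone_chain_condition F).2 fun c =>
      (S0142.result X F h c).imp fun N hN m hm => (hN m hm).symm
  · intro h
    exact FLCLib.isConstructible_of_noetherian hF

end Groth.Agent.S8540
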