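import Groth.Statements.S3194
import Groth.Agent.K0ResLib.Basic

set_option autoImplicit false
universe u
open CategoryTheory
open SGA6

namespace Groth.Agent.S3194

open Limits

variable (A : Type u) [CommRing A] [IsDomain A] [IsPrincipalIdealRing A]

abbrev PF : ObjectProperty (ModuleCat.{u} A) := fun M => Module.Finite A M

noncomputable def rk : KZero.K0sub (PF A) →+ ℤ :=
  QuotientAddGroup.lift _ (FreeAbelianGroup.lift fun M => (Module.finrank A M.1 : ℤ)) <| by
    rw [KZero.relSub, AddSubgroup.closure_le]
    rintro x ⟨S, h₁, h₂, h₃, hS, rfl⟩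
    simp only [SetLike.mem_coe, AddMonoidHom.mem_ker, map_sub, FreeAbelianGroup.lift_apply_of]
    haveI : Module.Finite A S.X₂ := h₂
    have he : LinearMap.range S.f.hom = LinearMap.ker S.g.hom :=
      (CategoryTheory.ShortComplex.moduleCat_exact_iff_range_eq_ker S).1 hS.exact
    have h := Submodule.finrank_quotient_add_finrank (LinearMap.range S.f.hom)
    rw [LinearEquiv.finrank_eq ((Submodule.quotEquivOfEq _ _ he).trans
        (S.g.hom.quotKerEquivOfSurjective ((ModuleCat.epi_iff_surjective _).1 hS.epi_g))),
      LinearMap.finrank_range_of_inj ((ModuleCat.mono_iff_injective _).1 hS.mono_f)] at h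
    omega

theorem mem_closure (M : Type u) [AddCommGroup M] [Module A M] [hM : Module.Finite A M] :
    KZero.clSub (PF A) (ModuleCat.of A M) ∈ AddSubgroup.closure {KZero.clSub (PF A) (ModuleCat.of A A)} := by
  have step : ∀ (N₁ N₂ N₃ : Type u) [AddCommGroup N₁] [Module A N₁] [Module.Finite A N₁] [AddCommGroup N₂] [Module A N₂]
      [Module.Finite A N₂] [AddCommGroup N₃] [Module A N₃] [Module.Finite A N₃] (f : N₁ →ₗ[A] N₂) (g : N₂ →ₗ[A] N₃),
      Function.Injective f → Function.Surjective g → Function.Exact f g →
      KZero.clSub (PF A) (ModuleCat.of A N₂) =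
        KZero.clSub (PF A) (ModuleCat.of A N₁) + KZero.clSub (PF A) (ModuleCat.of A N₃) := by
    intro N₁ N₂ N₃ _ _ _ _ _ _ _ _ _ f g hf hg hfg
    let S : ShortComplex (ModuleCat.{u} A) :=
      ShortComplex.mk (ModuleCat.ofHom f) (ModuleCat.ofHom g) (ModuleCat.hom_ext hfg.linearMap_comp_eq_zero)
    exact Groth.Agent.K0ResLib.clSub_add (P := PF A) (S := S)
      { exact := (CategoryTheory.ShortComplex.ShortExact.moduleCat_exact_iff_function_exact S).2 hfg
        mono_f := (ModuleCat.mono_iff_injective _).2 hf
        epi_g := (ModuleCat.epi_iff_surjective _).2 hg } ‹_› ‹_› ‹_›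
  refine IsNoetherianRing.induction_on_isQuotientEquivQuotientPrime A (M := M) hM
    (motive := fun N _ _ _ => KZero.clSub (PF A) (ModuleCat.of A N) ∈
      AddSubgroup.closure {KZero.clSub (PF A) (ModuleCat.of A A)}) ?_ ?_ ?_
  · intro N _ _ _ _
    have := step N N N (0 : N →ₗ[A] N) 0 (fun a b _ => Subsingleton.elim a b)
      (fun a => ⟨a, Subsingleton.elim _ _⟩) (fun a => ⟨fun _ => ⟨a, Subsingleton.elim _ _⟩, fun _ => Subsingleton.elim _ _⟩)
    rw [left_eq_add.mp this]
    exact zero_mem _
  · intro N _ _ _ p e
    obtain ⟨a, ha⟩ := IsPrincipalIdealRing.principal p.1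
    have e' : (A ⧸ p.1) ≃ₗ[A] N := e.symm
    by_cases h0 : a = 0
    · have hbot : p.1 = ⊥ := by rw [ha, h0, Submodule.span_zero_singleton]
      have := step A N PUnit.{u + 1} (((Submodule.quotEquivOfEqBot _ hbot).symm.trans e').toLinearMap) 0
        ((Submodule.quotEquivOfEqBot _ hbot).symm.trans e').injective (Function.surjective_to_subsingleton _)
        ((LinearMap.exact_zero_iff_surjective _ _).2 ((Submodule.quotEquivOfEqBot _ hbot).symm.trans e').surjective)
      have z := step PUnit.{u + 1} PUnit.{u + 1} PUnit.{u + 1} (0 : _ →ₗ[A] _) 0 (fun a b _ => rfl) (fun a => ⟨a, rfl⟩)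
        (fun a => ⟨fun _ => ⟨a, rfl⟩, fun _ => rfl⟩)
      rw [this, left_eq_add.mp z, add_zero]
      exact AddSubgroup.subset_closure rfl
    · have := step A A N (LinearMap.lsmul A A a) (e'.toLinearMap ∘ₗ p.1.mkQ)
        (fun x y h => mul_left_cancel₀ h0 h) (e'.surjective.comp p.1.mkQ_surjective) (fun x => by
          simp only [LinearMap.comp_apply, LinearEquiv.coe_coe, LinearEquiv.map_eq_zero_iff, Submodule.mkQ_apply,
            Submodule.Quotient.mk_eq_zero, ha, Submodule.mem_span_singleton, Set.mem_range, LinearMap.lsmul_apply,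
            smul_eq_mul]
          exact exists_congr fun c => by rw [mul_comm])
      rw [left_eq_add.mp this]
      exact zero_mem _
  · intro N₁ _ _ _ N₂ _ _ _ N₃ _ _ _ f g hf hg hfg h₁ h₃
    rw [step N₁ N₂ N₃ f g hf hg hfg]
    exact add_mem h₁ h₃

/-- Let A be a principal ideal domain and K_•(Spec A) = K₀ of the category of finitely generated
A-modules (free abelian group on finitely generated modules modulo short exact sequences). The
homomorphism ℤ ⟶ K_•(Spec A) sending k to k·[A] is bijective. -/
theorem result (A : Type u) [CommRing A] [IsDomain A] [IsPrincipalIdealRing A] :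
    Function.Bijective (fun k : ℤ => k • KZero.clSub (fun M : ModuleCat.{u} A => Module.Finite A M) (ModuleCat.of A A)) := by
  have hr : rk A (KZero.clSub (PF A) (ModuleCat.of A A)) = 1 := by
    rw [Groth.Agent.K0ResLib.clSub_of (P := PF A) (show Module.Finite A A from inferInstance)]
    refine (QuotientAddGroup.lift_mk' _ _ _).trans ((FreeAbelianGroup.lift_apply_of _ _).trans ?_)
    simp [Module.finrank_self]
  refine ⟨fun a b h => ?_, fun x => ?_⟩
  · have := congrArg (rk A) h
    simpa [map_zsmul, hr] using this
  · have : x ∈ AddSubgroup.closure {KZero.clSub (PF A) (ModuleCat.of A A)} := by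
      induction x using QuotientAddGroup.induction_on with
      | H x =>
        induction x using FreeAbelianGroup.induction_on with
        | zero => exact zero_mem _
        | of M =>
          rw [← Groth.Agent.K0ResLib.clSub_of (P := PF A) M.2]
          haveI : Module.Finite A M.1 := M.2
          exact mem_closure A M.1
        | neg K h => rw [QuotientAddGroup.mk_neg]; exact neg_mem h
        | add x y hx hy => rw [QuotientAddGroup.mk_add]; exact add_mem hx hy
    obtain ⟨n, hn⟩ := AddSubgroup.mem_closure_singleton.1 this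
    exact ⟨n, hn⟩

end Groth.Agent.S3194
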