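import Groth.Statements.S3198
import Groth.Agent.FibGenLib.Main
-- import your own Groth.Agent.* helpers here

set_option autoImplicit false
universe u
open CategoryTheory CategoryTheory.Limits AlgebraicGeometry
attribute [local instance] HasDerivedCategory.standard
open SGA6

set_option backward.isDefEq.respectTransparency false

namespace Groth.Agent.S3198

/-- Let f : X ⟶ S be a flat morphism of Noetherian schemes such that for every point s of S the map ℤ ⟶
K₀(Coh X_s), k ↦ k·[O_{X_s}], is bijective. Pullback along f is exact (instance hypotheses) and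
preserves coherence (hypothesis hf); the induced homomorphism f^* : K₀(Coh S) ⟶ K₀(Coh X) is
surjective. (The source adds that f^* is bijective when f has a section of finite tor-dimension.) -/
theorem result {X S : Scheme.{u}} [IsNoetherian X] [IsNoetherian S] (f : X ⟶ S) [Flat f]
    [(Scheme.Modules.pullback f).Additive] [PreservesFiniteLimits (Scheme.Modules.pullback f)] [PreservesFiniteColimits (Scheme.Modules.pullback f)]
    (hf : ∀ M : S.Modules, Coh.IsCoh M → Coh.IsCoh ((Scheme.Modules.pullback f).obj M))
    (hfib : ∀ s : S, Function.Bijective (fun k : ℤ => k • KZero.clSub (fun M : (f.fiber s).Modules => Coh.IsCoh M) (Coh.structureModule (f.fiber s)))) :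
    Function.Surjective (SGA6.mapSub (Scheme.Modules.pullback f) (fun M : (S).Modules => Coh.IsCoh M) (fun M : (X).Modules => Coh.IsCoh M) hf) := by
  intro y
  let R := (SGA6.mapSub (Scheme.Modules.pullback f) (fun M : (S).Modules => Coh.IsCoh M) (fun M : (X).Modules => Coh.IsCoh M) hf).range
  have hR : R = ⊤ := FibGenLib.eq_top f R fun s => by
    have hZ := (K0Fam.isPiece_closureStructureSheaf s).coh
    refine ⟨Unit, fun _ => (Scheme.Modules.pullback f).obj (Cyc.closureStructureSheaf s), fun _ =>
      ⟨hf _ hZ, fun x hx => FibGenLib.supp_closure f s hx, fun x hx => FibGenLib.kills_closure f s hx,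
        ⟨K0LocLib.cl (Cyc.closureStructureSheaf s), KRRAmple.mapSub_cl _ _ _ hf hZ⟩⟩, ?_⟩
    obtain ⟨e⟩ := FibGenLib.exists_fibre_iso f s
    have hC : Coh.IsCoh ((Scheme.Modules.pullback (f.fiberι s)).obj
        ((Scheme.Modules.pullback f).obj (Cyc.closureStructureSheaf s))) :=
      PullbackMod.isCoh_pullback (f.fiberι s) _ (hf _ hZ)
    refine eq_top_iff.2 fun c _ => ?_
    obtain ⟨k, rfl⟩ := (hfib s).2 c
    show k • KZero.clSub _ _ ∈ _
    refine AddSubgroup.zsmul_mem _ (AddSubgroup.subset_closure (Set.mem_range.2 ⟨(), ?_⟩)) k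
    exact (FibGenLib.cl_congr f e hC).symm
  have : y ∈ R := hR ▸ AddSubgroup.mem_top y
  exact this

end Groth.Agent.S3198
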