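import Groth.Statements.S3201
import Groth.Agent.KZeroLib.Heart
-- import your own Groth.Agent.* helpers here

set_option autoImplicit false
set_option backward.isDefEq.respectTransparency false
universe w v u
open CategoryTheory CategoryTheory.Limits
open SGA6

namespace Groth.Agent.S3201

open Limits Pretriangulated
open scoped ZeroObject

variable {C : Type u} [Category.{v} C] [Abelian C] (P : ObjectProperty C) [P.IsClosedUnderIsomorphisms]
  [P.ContainsZero] [P.IsClosedUnderKernels] [P.IsClosedUnderCokernels] [P.IsClosedUnderExtensions]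

theorem prop_zero' {M : C} (h : IsZero M) : P M := P.prop_of_isZero h

/-- The middle object of an exact five-term sequence. -/
theorem prop_of_five {A B M A' B' : C} (f : A ⟶ B) (g : B ⟶ M) (d : M ⟶ A')
    (f' : A' ⟶ B') (w₂ : f ≫ g = 0) (w₃ : g ≫ d = 0) (w₁ : d ≫ f' = 0) (e₂ : (ShortComplex.mk f g w₂).Exact)
    (e₃ : (ShortComplex.mk g d w₃).Exact) (e₁ : (ShortComplex.mk d f' w₁).Exact)
    (hA : P A) (hB : P B) (hA' : P A') (hB' : P B') : P M := by
  let g' := kernel.lift d g w₃
  haveI : Epi g' := (ShortComplex.exact_iff_epi_kernel_lift _).1 e₃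
  let c := cokernel.desc f g' (by rw [← cancel_mono (kernel.ι d), Category.assoc, kernel.lift_ι, zero_comp]; exact w₂)
  have hc_epi : Epi c := epi_of_epi_fac (cokernel.π_desc _ _ _)
  have hc_mono : Mono c := by
    haveI hm : Mono (cokernel.desc f g w₂) := (ShortComplex.exact_iff_mono_cokernel_desc _).1 e₂
    have : c ≫ kernel.ι d = cokernel.desc f g w₂ := by
      rw [← cancel_epi (cokernel.π f), cokernel.π_desc, ← Category.assoc, cokernel.π_desc]; exact kernel.lift_ι _ _ _
    exact mono_of_mono_fac this
  haveI : IsIso c := isIso_of_mono_of_epi c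
  have hk : P (kernel d) := P.prop_of_iso (asIso c) (P.prop_cokernel f hA hB)
  let d' := kernel.lift f' d w₁
  haveI : Epi d' := (ShortComplex.exact_iff_epi_kernel_lift _).1 e₁
  have hS : (ShortComplex.mk (kernel.ι d) d' (by
      rw [← cancel_mono (kernel.ι _), Category.assoc, kernel.lift_ι, zero_comp]; exact kernel.condition d)).ShortExact :=
    { exact := ShortComplex.exact_of_f_is_kernel _ (KernelFork.IsLimit.ofι _ _ (fun x hx => kernel.lift d x (by
        rw [← kernel.lift_ι f' d w₁, reassoc_of% hx, zero_comp]))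
        (fun x hx => kernel.lift_ι _ _ _) (fun x hx m hm => (cancel_mono (kernel.ι d)).1 (by simpa using hm))) }
  exact P.prop_X₂_of_shortExact hS hk (P.prop_kernel f' hA' hB')

variable [HasDerivedCategory.{w} C]

theorem heartHyp :
    Groth.Agent.KZeroLib.HeartHyp P (fun K : DerivedCategory C =>
        (∀ i : ℤ, P ((DerivedCategory.homologyFunctor C i).obj K)) ∧ ∃ a b : ℤ, (DerivedCategory.TStructure.t (C := C)).IsGE K a ∧ (DerivedCategory.TStructure.t (C := C)).IsLE K b) where
  isoP e h := P.prop_of_iso e h
  kerP f hM hN := P.prop_kernel f hM hN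
  toQ M hM := ⟨fun i => by
    by_cases hi : i = 0
    · subst hi
      exact P.prop_of_iso ((DerivedCategory.singleFunctorCompHomologyFunctorIso C 0).app M).symm hM
    · rcases lt_or_gt_of_ne hi with h | h
      · exact prop_zero' P (DerivedCategory.isZero_of_isGE _ 0 i h)
      · exact prop_zero' P (DerivedCategory.isZero_of_isLE _ 0 i h), 0, 0, inferInstance, inferInstance⟩
  coh K hK i := hK.1 i
  bdd K hK := hK.2
  isoQ e := fun ⟨hc, a, b, ha, hb⟩ => ⟨fun i => P.prop_of_iso ((DerivedCategory.homologyFunctor C i).mapIso e) (hc i),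
    a, b, DerivedCategory.TStructure.t.isGE_of_iso e a, DerivedCategory.TStructure.t.isLE_of_iso e b⟩
  shiftQ K n := fun ⟨hc, a, b, ha, hb⟩ => ⟨fun i =>
    P.prop_of_iso ((((DerivedCategory.homologyFunctor C 0).shiftIso n i (n + i) rfl).app K)).symm (hc _),
    a - n, b - n, DerivedCategory.TStructure.t.isGE_shift K a n (a - n) (by omega),
    DerivedCategory.TStructure.t.isLE_shift K b n (b - n) (by omega)⟩
  obj₃Q T hT := fun ⟨hc, a, b, ha, hb⟩ ⟨hc', a', b', ha', hb'⟩ => by
    refine ⟨fun i => ?_, ?_⟩
    · exact prop_of_five P _ _ _ _ _ _ _ (DerivedCategory.HomologySequence.exact₂ T hT i)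
        (DerivedCategory.HomologySequence.exact₃ T hT i (i + 1) rfl)
        (DerivedCategory.HomologySequence.exact₁ T hT i (i + 1) rfl) (hc i) (hc' i) (hc (i + 1)) (hc' (i + 1))
    · have h1 : DerivedCategory.TStructure.t.IsGE (T.obj₁⟦(1 : ℤ)⟧) (min (a - 1) a') :=
        haveI := DerivedCategory.TStructure.t.isGE_shift T.obj₁ a 1 (a - 1) (by omega)
        DerivedCategory.TStructure.t.isGE_of_ge _ _ (a - 1) (by omega)
      have h2 : DerivedCategory.TStructure.t.IsGE T.obj₂ (min (a - 1) a') :=
        DerivedCategory.TStructure.t.isGE_of_ge _ _ a' (by omega)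
      have h1' : DerivedCategory.TStructure.t.IsLE (T.obj₁⟦(1 : ℤ)⟧) (max (b - 1) b') :=
        haveI := DerivedCategory.TStructure.t.isLE_shift T.obj₁ b 1 (b - 1) (by omega)
        DerivedCategory.TStructure.t.isLE_of_le _ (b - 1) _ (by omega)
      have h2' : DerivedCategory.TStructure.t.IsLE T.obj₂ (max (b - 1) b') :=
        DerivedCategory.TStructure.t.isLE_of_le _ b' _ (by omega)
      exact ⟨_, _, DerivedCategory.TStructure.t.isGE₂ _ (rot_of_distTriang _ hT) _ h2 h1,
        DerivedCategory.TStructure.t.isLE₂ _ (rot_of_distTriang _ hT) _ h2' h1'⟩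
  zeroQ := ⟨fun i => prop_zero' P (Functor.map_isZero _ (isZero_zero _)), 0, 0,
    (DerivedCategory.isGE_iff _ 0).2 fun i _ => Functor.map_isZero _ (isZero_zero _),
    (DerivedCategory.isLE_iff _ 0).2 fun i _ => Functor.map_isZero _ (isZero_zero _)⟩

/-- Let C be an abelian category (with a derived category) and P a thick ('épaisse') class of objects of
C: a full subcategory closed under isomorphisms, containing zero, and closed under kernels,
cokernels and extensions. Let K₀(P) be the free abelian group on the objects of P modulo the short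
exact sequences of C with terms in P, and D^b_P(C) the full triangulated subcategory of D(C) on
bounded objects all of whose cohomology objects lie in P. Then the homomorphism K₀(P) → K₀(D^b_P(C))
induced by X ↦ X[0] is an isomorphism: there is an isomorphism of groups carrying the class of each
X in P to the class of X placed in degree 0. -/
theorem result {C : Type u} [Category.{v} C] [Abelian C] [HasDerivedCategory.{w} C]
    (P : ObjectProperty C) [P.IsClosedUnderIsomorphisms] [P.ContainsZero] [P.IsClosedUnderKernels] [P.IsClosedUnderCokernels] [P.IsClosedUnderExtensions] :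
    ∃ φ : KZero.K0sub P ≃+ KZero.K0tr (fun K : DerivedCategory C =>
        (∀ i : ℤ, P ((DerivedCategory.homologyFunctor C i).obj K)) ∧ ∃ a b : ℤ, (DerivedCategory.TStructure.t (C := C)).IsGE K a ∧ (DerivedCategory.TStructure.t (C := C)).IsLE K b),
      ∀ X : C, P X → φ (KZero.clSub P X) =
        KZero.clTr (fun K : DerivedCategory C => (∀ i : ℤ, P ((DerivedCategory.homologyFunctor C i).obj K)) ∧ ∃ a b : ℤ, (DerivedCategory.TStructure.t (C := C)).IsGE K a ∧ (DerivedCategory.TStructure.t (C := C)).IsLE K b)
          ((DerivedCategory.singleFunctor C 0).obj X) := by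
  exact ⟨Groth.Agent.KZeroLib.k0Equiv (heartHyp P), fun X hX => Groth.Agent.KZeroLib.toTr_clSub (heartHyp P) hX⟩

end Groth.Agent.S3201
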