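import Groth.Statements.S3206
import Mathlib

open MvPowerSeries
namespace Groth.Agent.S3206

open MvPowerSeries

variable {k : Type} [Field k] {n : ℕ}

/-- Vanishing in degrees below `N`. -/
def Z (N : ℕ) (g : MvPowerSeries (Fin n) k) : Prop := ∀ d : Fin n →₀ ℕ, d.degree < N → coeff d g = 0

theorem Z.mono {M N : ℕ} {g : MvPowerSeries (Fin n) k} (h : Z N g) (hMN : M ≤ N) : Z M g :=
  fun d hd => h d (hd.trans_le hMN)

theorem Z.zero (N : ℕ) : Z N (0 : MvPowerSeries (Fin n) k) := fun d _ => map_zero _

theorem Z.add {N : ℕ} {g h : MvPowerSeries (Fin n) k} (hg : Z N g) (hh : Z N h) : Z N (g + h) :=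
  fun d hd => by rw [map_add, hg d hd, hh d hd, add_zero]

theorem Z.sub {N : ℕ} {g h : MvPowerSeries (Fin n) k} (hg : Z N g) (hh : Z N h) : Z N (g - h) :=
  fun d hd => by rw [map_sub, hg d hd, hh d hd, sub_zero]

theorem Z.sum {N : ℕ} {ι : Type} (s : Finset ι) {g : ι → MvPowerSeries (Fin n) k} (hg : ∀ i ∈ s, Z N (g i)) :
    Z N (∑ i ∈ s, g i) :=
  fun d hd => by rw [map_sum]; exact Finset.sum_eq_zero fun i hi => hg i hi d hd

theorem Z.mul {a b : ℕ} {g h : MvPowerSeries (Fin n) k} (hg : Z a g) (hh : Z b h) : Z (a + b) (g * h) :=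
  fun d hd => coeff_of_lt_order <| lt_of_lt_of_le (show (d.degree : ℕ∞) < ((a + b : ℕ) : ℕ∞) from Nat.cast_lt.2 hd)
    (le_trans (by push_cast; exact add_le_add (nat_le_order hg) (nat_le_order hh)) le_order_mul)

theorem Z.C_mul {N : ℕ} {g : MvPowerSeries (Fin n) k} (c : k) (hg : Z N g) : Z N (C c * g) :=
  fun d hd => by rw [coeff_C_mul, hg d hd, mul_zero]

theorem Z.X (i : Fin n) : Z 1 (X i : MvPowerSeries (Fin n) k) := fun d hd => by
  classical
  rw [coeff_X, if_neg]
  rintro rfl
  simp at hd

theorem eq_zero_of_Z {g : MvPowerSeries (Fin n) k} (h : ∀ N, Z N g) : g = 0 :=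
  ext fun d => by rw [map_zero]; exact h (d.degree + 1) d (Nat.lt_succ_self _)

theorem coeff_single_mul (l : Fin n) (g h : MvPowerSeries (Fin n) k) :
    coeff (Finsupp.single l 1) (g * h) = constantCoeff g * coeff (Finsupp.single l 1) h +
      coeff (Finsupp.single l 1) g * constantCoeff h := by
  classical
  rw [coeff_mul, Finsupp.antidiagonal_single, Finset.sum_map]
  simp [Finset.Nat.antidiagonal_succ]

/-- The quadratic form with coefficient matrix `T`. -/
noncomputable def quad (T : Fin n → Fin n → k) (y : Fin n → MvPowerSeries (Fin n) k) : MvPowerSeries (Fin n) k :=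
  ∑ i, ∑ j, C (T i j) * (y i * y j)

theorem toMultiset_inj {a b : Fin n →₀ ℕ} (h : Finsupp.toMultiset a = Finsupp.toMultiset b) : a = b := by
  simpa using congrArg Multiset.toFinsupp h

theorem pair_cases {a b i j : Fin n}
    (h : Finsupp.single a 1 + Finsupp.single b 1 = Finsupp.single i (1 : ℕ) + Finsupp.single j 1) :
    (a = i ∧ b = j) ∨ (a = j ∧ b = i) := by
  have ha := DFunLike.congr_fun h a
  have hb := DFunLike.congr_fun h b
  have hi := DFunLike.congr_fun h i
  have hj := DFunLike.congr_fun h j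
  simp only [Finsupp.add_apply, Finsupp.single_apply] at ha hb hi hj
  grind

theorem z_sub_quad (n : ℕ) (T : Fin n → Fin n → k) (f : MvPowerSeries (Fin n) k) (h0 : coeff 0 f = 0)
    (h1 : ∀ i, coeff (Finsupp.single i 1) f = 0)
    (hT : ∀ a b, a ≤ b → T a b = coeff (Finsupp.single a 1 + Finsupp.single b 1) f)
    (hT' : ∀ a b, b < a → T a b = 0) : Z 3 (f - quad T X) := by
  classical
  have hq2 : Z 2 (quad T X) := Z.sum _ fun i _ => Z.sum _ fun j _ => ((Z.X i).mul (Z.X j)).C_mul _
  intro d hd
  rcases Nat.lt_or_ge d.degree 2 with hd2 | hd2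
  · rw [map_sub, hq2 d hd2, sub_zero]
    rcases Nat.eq_zero_or_pos d.degree with hz | hp
    · rw [Finsupp.degree_eq_zero_iff] at hz; rw [hz, h0]
    · obtain ⟨i, e⟩ := Multiset.card_eq_one.1 (show (Finsupp.toMultiset d).card = 1 by
        rw [Finsupp.card_toMultiset]
        exact show d.degree = 1 by omega)
      have hde : d = Finsupp.single i 1 := toMultiset_inj (by rw [e, Finsupp.toMultiset_single, one_smul])
      rw [hde]; exact h1 i
  have hdeg : d.degree = 2 := by omega
  obtain ⟨a, b, hab, rfl⟩ : ∃ a b, a ≤ b ∧ d = Finsupp.single a 1 + Finsupp.single b 1 := by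
    obtain ⟨a, b, e⟩ := Multiset.card_eq_two.1 (show (Finsupp.toMultiset d).card = 2 by
      rw [Finsupp.card_toMultiset]; exact hdeg)
    have hde : d = Finsupp.single a 1 + Finsupp.single b 1 := toMultiset_inj (by
      rw [e, map_add, Finsupp.toMultiset_single, Finsupp.toMultiset_single]; simp)
    rcases le_total a b with h | h
    · exact ⟨a, b, h, hde⟩
    · exact ⟨b, a, h, hde.trans (add_comm _ _)⟩
  rw [map_sub, sub_eq_zero, quad, map_sum]
  simp only [map_sum, coeff_C_mul, X_def, monomial_mul_monomial, mul_one, coeff_monomial]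
  rw [← Finset.univ_product_univ.symm.subst (motive := fun s => ∑ p ∈ s, T p.1 p.2 * (if
      Finsupp.single a 1 + Finsupp.single b 1 = Finsupp.single p.1 (1 : ℕ) + Finsupp.single p.2 1 then (1 : k) else 0) = _)
      (Finset.sum_product _ _ _), Finset.sum_eq_single (a, b)]
  · simp [hT a b hab]
  · rintro ⟨i, j⟩ _ hne
    by_cases e : Finsupp.single a 1 + Finsupp.single b 1 = Finsupp.single i (1 : ℕ) + Finsupp.single j 1
    · rcases pair_cases e with h | ⟨rfl, rfl⟩
      · exact absurd (Prod.ext h.1.symm h.2.symm) hne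
      · rw [hT' _ _ (lt_of_le_of_ne hab fun h => hne (by rw [h])), zero_mul]
    · rw [if_neg e, mul_zero]
  · simp

/-- Division by the variables. -/
noncomputable def δ (j : Fin n) (g : MvPowerSeries (Fin n) k) : MvPowerSeries (Fin n) k :=
  fun m => if ∀ l, l < j → m l = 0 then coeff (m + Finsupp.single j 1) g else 0

theorem coeff_δ (j : Fin n) (g : MvPowerSeries (Fin n) k) (m : Fin n →₀ ℕ) :
    coeff m (δ j g) = if ∀ l, l < j → m l = 0 then coeff (m + Finsupp.single j 1) g else 0 := rfl

theorem sum_X_δ (g : MvPowerSeries (Fin n) k) (hg : constantCoeff g = 0) : ∑ j, X j * δ j g = g := by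
  classical
  ext d
  simp only [map_sum, X_def, coeff_monomial_mul, one_mul, coeff_δ]
  rcases eq_or_ne d 0 with rfl | hd
  · rw [Finset.sum_eq_zero fun j _ => if_neg fun h => by simpa using h j]
    rw [coeff_zero_eq_constantCoeff, hg]
  · have hne : d.support.Nonempty := Finsupp.support_nonempty_iff.2 hd
    let j₀ := d.support.min' hne
    have hj₀ : d j₀ ≠ 0 := Finsupp.mem_support_iff.1 (d.support.min'_mem hne)
    have hlow : ∀ l, l < j₀ → d l = 0 := fun l hl => by
      by_contra h
      exact absurd (d.support.min'_le l (Finsupp.mem_support_iff.2 h)) (not_le.2 hl)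
    have hle : Finsupp.single j₀ 1 ≤ d := Finsupp.single_le_iff.2 (Nat.one_le_iff_ne_zero.2 hj₀)
    rw [Finset.sum_eq_single j₀]
    · rw [if_pos hle, if_pos, tsub_add_cancel_of_le hle]
      intro l hl
      simp [Finsupp.tsub_apply, hlow l hl]
    · intro j _ hj
      split_ifs with h1 h2
      · exfalso
        have hdj : d j ≠ 0 := by have := Finsupp.single_le_iff.1 h1; omega
        rcases lt_or_gt_of_ne hj with hlt | hlt
        · exact hdj (hlow j hlt)
        · have := h2 j₀ hlt
          simp [Finsupp.tsub_apply, hj] at this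
          exact hj₀ this
      all_goals rfl
    · simp

theorem Z.delta {N : ℕ} (j : Fin n) {g : MvPowerSeries (Fin n) k} (hg : Z (N + 1) g) : Z N (δ j g) :=
  fun d hd => by
    rw [coeff_δ]
    split_ifs
    · exact hg _ (by rw [map_add, Finsupp.degree_single]; omega)
    · rfl

theorem exists_morse (n : ℕ) (T : Fin n → Fin n → k) (G : Matrix (Fin n) (Fin n) k)
    (hG : G * (Matrix.of fun i j => T i j + T j i) = 1) (r : MvPowerSeries (Fin n) k) (hr : Z 3 r) :
    ∃ ε : Fin n → MvPowerSeries (Fin n) k, (∀ i, Z 2 (ε i)) ∧ r + quad T X - quad T (fun i => MvPowerSeries.X i + ε i) = 0 := by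
  classical
  let M : Matrix (Fin n) (Fin n) k := Matrix.of fun i j => T i j + T j i
  let L : Fin n → MvPowerSeries (Fin n) k := fun i => ∑ j, C (M i j) * MvPowerSeries.X j
  let ψ : Fin n → MvPowerSeries (Fin n) k → MvPowerSeries (Fin n) k := fun i g => ∑ j, C (G j i) * δ j g
  have hψ : ∀ g, constantCoeff g = 0 → ∑ i, L i * ψ i g = g := fun g hg => by
    have hxj : ∀ j, ∑ i, C (G j i) * L i = MvPowerSeries.X j := fun j => by
      simp only [L, Finset.mul_sum, ← mul_assoc, ← map_mul]
      rw [Finset.sum_comm]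
      simp only [← Finset.sum_mul, ← map_sum]
      have : ∀ l, ∑ i, G j i * M i l = (1 : Matrix (Fin n) (Fin n) k) j l := fun l => by
        rw [← hG]; rfl
      simp only [this, Matrix.one_apply]
      simp
    conv_rhs => rw [← sum_X_δ g hg]
    simp only [ψ, Finset.mul_sum]
    rw [Finset.sum_comm]
    refine Finset.sum_congr rfl fun j _ => ?_
    rw [← hxj j, Finset.sum_mul]
    exact Finset.sum_congr rfl fun i _ => by ring
  have hexp : ∀ e : Fin n → MvPowerSeries (Fin n) k,
      quad T (fun i => MvPowerSeries.X i + e i) = quad T X + ∑ i, L i * e i + quad T e := fun e => by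
    have h : ∑ i, L i * e i = ∑ i, ∑ j, C (T i j) * (e i * MvPowerSeries.X j + MvPowerSeries.X i * e j) := by
      simp only [L, M, Matrix.of_apply, map_add, add_mul, Finset.sum_add_distrib, Finset.sum_mul, mul_add]
      congr 1
      · exact Finset.sum_congr rfl fun i _ => Finset.sum_congr rfl fun j _ => by ring
      · rw [Finset.sum_comm]
        exact Finset.sum_congr rfl fun i _ => Finset.sum_congr rfl fun j _ => by ring
    rw [h]
    simp only [quad, ← Finset.sum_add_distrib]
    exact Finset.sum_congr rfl fun i _ => Finset.sum_congr rfl fun j _ => by ring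
  let E : ℕ → Fin n → MvPowerSeries (Fin n) k := fun N => Nat.rec (fun _ => 0) (fun _ e i => ψ i (r - quad T e)) N
  have hψZ : ∀ (N : ℕ) i g, Z (N + 1) g → Z N (ψ i g) := fun N i g hg => Z.sum _ fun j _ => (hg.delta j).C_mul _
  have hE2 : ∀ N i, Z 2 (E N i) := by
    intro N
    induction N with
    | zero => exact fun i => Z.zero 2
    | succ N ih =>
      exact fun i => hψZ 2 i _ (hr.sub ((Z.sum _ fun a _ => Z.sum _ fun b _ => (((ih a).mul (ih b)).C_mul _).mono (by omega))))
  have hquad : ∀ (N : ℕ) (a b : Fin n → MvPowerSeries (Fin n) k), (∀ i, Z 2 (a i)) → (∀ i, Z 2 (b i)) →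
      (∀ i, Z N (a i - b i)) → Z (N + 2) (quad T a - quad T b) := fun N a b ha hb hab => by
    have e : quad T a - quad T b = ∑ i, ∑ j, C (T i j) * ((a i - b i) * a j + b i * (a j - b j)) := by
      simp only [quad, ← Finset.sum_sub_distrib]
      exact Finset.sum_congr rfl fun i _ => Finset.sum_congr rfl fun j _ => by ring
    rw [e]
    exact Z.sum _ fun i _ => Z.sum _ fun j _ =>
      (((hab i).mul (ha j)).add (((hb i).mul (hab j)).mono (by omega))).C_mul _
  have hψsub : ∀ i g h, ψ i g - ψ i h = ψ i (g - h) := fun i g h => by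
    simp only [ψ, ← Finset.sum_sub_distrib]
    refine Finset.sum_congr rfl fun j _ => ?_
    rw [← mul_sub]
    congr 1
    ext d
    simp only [map_sub, coeff_δ]
    split_ifs <;> simp
  have hdiff : ∀ N i, Z (N + 2) (E (N + 1) i - E N i) := by
    intro N
    induction N with
    | zero => exact fun i => (hE2 1 i).sub (hE2 0 i)
    | succ N ih =>
      intro i
      change Z _ (ψ i (r - quad T (E (N + 1))) - ψ i (r - quad T (E N)))
      rw [hψsub, sub_sub_sub_cancel_left]
      exact hψZ _ _ _ ((hquad _ _ _ (hE2 N) (hE2 (N + 1)) fun l => fun d hd => by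
        rw [map_sub, ← neg_sub, ← map_sub, ih l d hd, neg_zero]).mono (by omega))
  have hstab : ∀ N M, N ≤ M → ∀ i, Z (N + 2) (E M i - E N i) := fun N M h i => by
    induction M, h using Nat.le_induction with
    | base => rw [sub_self]; exact Z.zero _
    | succ M hM ih =>
      have e : E (M + 1) i - E N i = (E (M + 1) i - E M i) + (E M i - E N i) := by ring
      rw [e]
      exact ((hdiff M i).mono (by omega)).add ih
  let ε : Fin n → MvPowerSeries (Fin n) k := fun i d => coeff d (E d.degree i)
  have hε : ∀ N i, Z N (ε i - E N i) := fun N i d hd => by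
    rw [map_sub, sub_eq_zero]
    change coeff d (E d.degree i) = _
    have := hstab d.degree N hd.le i d (by omega)
    rw [map_sub, sub_eq_zero] at this
    exact this.symm
  have hε2 : ∀ i, Z 2 (ε i) := fun i d hd => by
    have := hE2 d.degree i d hd
    exact this
  refine ⟨ε, hε2, eq_zero_of_Z fun N => ?_⟩
  rw [hexp]
  have hc : constantCoeff (r - quad T (E N)) = 0 := by
    rw [← coeff_zero_eq_constantCoeff]
    exact (hr.sub ((Z.sum _ fun a _ => Z.sum _ fun b _ => (((hE2 N a).mul (hE2 N b)).C_mul _).mono (by omega)))) 0 (by simp)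
  have h1 := hψ _ hc
  have e : r + quad T X - (quad T X + ∑ i, L i * ε i + quad T ε) =
      ∑ i, L i * (E (N + 1) i - ε i) + (quad T (E N) - quad T ε) := by
    have : ∑ i, L i * E (N + 1) i = r - quad T (E N) := h1
    simp only [mul_sub, Finset.sum_sub_distrib, this]
    ring
  rw [e]
  refine Z.add (Z.sum _ fun i _ => ?_) ((hquad N _ _ (hE2 N) hε2 fun i => fun d hd => by
    rw [map_sub, ← neg_sub, ← map_sub, hε N i d hd, neg_zero]).mono (by omega))
  have h2 : Z N (E (N + 1) i - ε i) := by
    have e : E (N + 1) i - ε i = (E (N + 1) i - E N i) - (ε i - E N i) := by ring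
    rw [e]
    exact ((hdiff N i).mono (by omega)).sub (hε N i)
  have hL : Z 0 (L i) := fun d hd => absurd hd (Nat.not_lt_zero _)
  simpa using hL.mul h2

end Groth.Agent.S3206


set_option autoImplicit false
open SGA7

namespace Groth.Agent.S3206

/-- Let k be a field and f a formal power series in n variables over k without constant term whose
partial derivatives ∂f/∂x_1, …, ∂f/∂x_n generate the maximal ideal of k[[x_1, …, x_n]]. Then there
are power series ε_1, …, ε_n with no terms of degree < 2 and a quadratic form q such that f = q(x_1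
+ ε_1, …, x_n + ε_n). -/
theorem result (k : Type) [Field k] (n : ℕ) (f : MvPowerSeries (Fin n) k)
    (hf0 : MvPowerSeries.constantCoeff f = 0)
    (hJ : Ideal.span (Set.range fun i : Fin n => MvPowerSeries.pderiv k i f) = IsLocalRing.maximalIdeal (MvPowerSeries (Fin n) k)) :
    ∃ (ε : Fin n → MvPowerSeries (Fin n) k) (_ : ∀ i (m : Fin n →₀ ℕ), m.degree < 2 → MvPowerSeries.coeff m (ε i) = 0)
      (q : MvPolynomial (Fin n) k) (_ : q.IsHomogeneous 2)
      (_ : MvPowerSeries.HasSubst (fun i : Fin n => MvPowerSeries.X i + ε i)),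
      f = MvPowerSeries.subst (fun i : Fin n => MvPowerSeries.X i + ε i) (q : MvPowerSeries (Fin n) k) := by
  classical
  let T : Fin n → Fin n → k := fun i j => if i ≤ j then coeff (Finsupp.single i 1 + Finsupp.single j 1) f else 0
  let M : Matrix (Fin n) (Fin n) k := Matrix.of fun i j => T i j + T j i
  have hpd0 : ∀ i, constantCoeff (pderiv k i f) = 0 := fun i => by
    have h : pderiv k i f ∈ IsLocalRing.maximalIdeal (MvPowerSeries (Fin n) k) := hJ ▸ Ideal.subset_span ⟨i, rfl⟩
    rw [IsLocalRing.mem_maximalIdeal, mem_nonunits_iff, isUnit_iff_constantCoeff, isUnit_iff_ne_zero, not_not] at h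
    exact h
  have hlin : ∀ i, coeff (Finsupp.single i 1) f = 0 := fun i => by
    have h := hpd0 i
    rw [← coeff_zero_eq_constantCoeff, coeff_pderiv] at h
    simpa using h
  have hM : ∀ i j, coeff (Finsupp.single j 1) (pderiv k i f) = M i j := fun i j => by
    rw [coeff_pderiv]
    rcases lt_trichotomy i j with h | h | h
    · have hne : (Finsupp.single j 1 : Fin n →₀ ℕ) i = 0 := by simp [h.ne]
      simp [M, T, hne, h.le, not_le.2 h, add_comm (Finsupp.single i (1 : ℕ))]
    · subst h
      simp [M, T]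
      ring
    · have hne : (Finsupp.single j 1 : Fin n →₀ ℕ) i = 0 := by simp [h.ne']
      simp [M, T, hne, h.le, not_le.2 h]
  obtain ⟨G, hG⟩ : ∃ G : Matrix (Fin n) (Fin n) k, G * M = 1 := by
    have hX : ∀ j : Fin n, (X j : MvPowerSeries (Fin n) k) ∈ Ideal.span (Set.range fun i => pderiv k i f) := fun j => by
      rw [hJ, IsLocalRing.mem_maximalIdeal, mem_nonunits_iff, isUnit_iff_constantCoeff]
      simp
    choose g hg using fun j => (Ideal.mem_span_range_iff_exists_fun).1 (hX j)
    refine ⟨fun j i => constantCoeff (g j i), ?_⟩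
    ext j l
    have h := congrArg (coeff (Finsupp.single l 1)) (hg j)
    rw [map_sum, coeff_index_single_X] at h
    simp only [coeff_single_mul, hpd0, hM, mul_zero, add_zero] at h
    rw [Matrix.mul_apply, Matrix.one_apply, h]
    simp [eq_comm]
  have key := exists_morse n T G hG (f - quad T X) ?_
  · obtain ⟨ε, hε, he⟩ := key
    refine ⟨ε, fun i m hm => hε i m hm, ∑ i, ∑ j, MvPolynomial.C (T i j) * (MvPolynomial.X i * MvPolynomial.X j), ?_, ?_, ?_⟩
    · refine MvPolynomial.IsHomogeneous.sum _ _ _ fun i _ => MvPolynomial.IsHomogeneous.sum _ _ _ fun j _ => ?_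
      exact MvPolynomial.IsHomogeneous.C_mul ((MvPolynomial.isHomogeneous_X k i).mul (MvPolynomial.isHomogeneous_X k j)) _
    · refine hasSubst_of_constantCoeff_zero fun i => ?_
      rw [map_add, constantCoeff_X, zero_add, ← coeff_zero_eq_constantCoeff]
      exact hε i 0 (by simp)
    · rw [subst_coe]
      simp only [map_sum, map_mul, MvPolynomial.aeval_X, MvPolynomial.aeval_C]
      change f = quad T (fun i => X i + ε i)
      rw [← sub_eq_zero, ← he]
      ring
  · exact z_sub_quad n T f (by rwa [coeff_zero_eq_constantCoeff]) hlin (fun a b h => if_pos h) (fun a b h => if_neg (not_le.2 h))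


end Groth.Agent.S3206
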