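import Groth.Statements.S3207
import Mathlib

set_option autoImplicit false
universe u
open CategoryTheory CategoryTheory.Limits AlgebraicGeometry
open SGA7

namespace Groth.Agent.S3207

open CategoryTheory.Limits

/-- Every point is a specialization of a maximal point. -/
theorem exists_maximal_generization {X : Scheme.{u}} (x : X) :
    ∃ η : X, η ⤳ x ∧ ∀ t : X, t ⤳ η → t = η := by
  obtain ⟨η, hη⟩ := QuasiSober.sober (isIrreducible_irreducibleComponent (x := x))
    isClosed_irreducibleComponent
  refine ⟨η, hη.specializes mem_irreducibleComponent, fun t ht => ?_⟩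
  have h : irreducibleComponent x ⊆ closure {t} := by
    rw [← hη.def]
    exact closure_minimal (Set.singleton_subset_iff.2 ht.mem_closure) isClosed_closure
  have h' : IsGenericPoint t (irreducibleComponent x) :=
    ((irreducibleComponent_mem_irreducibleComponents x).2 isIrreducible_singleton.closure h).antisymm h
  exact h'.eq hη

/-- Let g : T -> S be locally quasi-finite, of finite presentation, separated and flat. If for every
maximal point s of S (a point with no proper generization) the fibre of g over s is either empty or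
mapped isomorphically onto Spec κ(s) (rank at most 1), then g is an open immersion. -/
theorem result {T S : Scheme.{u}} (g : T ⟶ S) [LocallyQuasiFinite g]
    [LocallyOfFinitePresentation g] [QuasiCompact g] [IsSeparated g] [Flat g]
    (h : ∀ s : S, (∀ t : S, t ⤳ s → t = s) →
      IsEmpty ↑(pullback g (S.fromSpecResidueField s)) ∨ IsIso (pullback.snd g (S.fromSpecResidueField s))) :
    IsOpenImmersion g := by
  let P := pullback g g
  let p₁ : P ⟶ T := pullback.fst g g
  let Δ : T ⟶ P := pullback.diagonal g
  have hΔ : Δ ≫ p₁ = 𝟙 T := pullback.diagonal_fst g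
  haveI : IsClosedImmersion Δ := inferInstanceAs (IsClosedImmersion (pullback.diagonal g))
  have hmax : ∀ η : T, (∀ t : T, t ⤳ η → t = η) → ∀ s : S, s ⤳ g η → s = g η := fun η hη s hs => by
    obtain ⟨t, ht, rfl⟩ := Flat.generalizingMap g hs
    rw [hη t ht]
  have hfib : ∀ η : T, (∀ t : T, t ⤳ η → t = η) →
      IsIso (pullback.snd p₁ (T.fromSpecResidueField η)) := fun η hη => by
    have hne : ¬ IsEmpty ↑(pullback g (S.fromSpecResidueField (g η))) := fun he => by
      obtain ⟨z, -⟩ := Scheme.Pullback.exists_preimage_pullback (f := g) (g := S.fromSpecResidueField (g η)) η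
        (IsLocalRing.closedPoint (S.residueField (g η))) (Scheme.fromSpecResidueField_apply (g η) _).symm
      exact he.false z
    haveI := (h (g η) (hmax η hη)).resolve_left hne
    let e : pullback p₁ (T.fromSpecResidueField η) ≅
        pullback g (Spec.map (g.residueFieldMap η) ≫ S.fromSpecResidueField (g η)) :=
      pullback.congrHom rfl rfl ≪≫ pullbackSymmetry _ _ ≪≫ pullbackRightPullbackFstIso g g _ ≪≫
        pullbackSymmetry _ _ ≪≫ pullback.congrHom rfl (Scheme.Hom.SpecMap_residueFieldMap_fromSpecResidueField g η).symm
    have he : e.hom ≫ pullback.snd _ _ = pullback.snd _ _ := by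
      simp [e, p₁, pullback.map]
      erw [pullback.lift_snd, pullbackSymmetry_hom_comp_snd, pullbackRightPullbackFstIso_hom_fst,
        pullbackSymmetry_hom_comp_fst]
    have : IsIso (pullback.snd g (Spec.map (g.residueFieldMap η) ≫ S.fromSpecResidueField (g η))) := by
      rw [← pullbackLeftPullbackSndIso_inv_snd_snd g (S.fromSpecResidueField (g η)) (Spec.map (g.residueFieldMap η))]
      infer_instance
    rw [← he]
    infer_instance
  haveI : Surjective Δ := ⟨fun z => by
    obtain ⟨η, hη, hmaxη⟩ := exists_maximal_generization (p₁ z)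
    obtain ⟨z', hz', hz'η⟩ := Flat.generalizingMap p₁ hη
    haveI := hfib η hmaxη
    let q := pullback.snd p₁ (T.fromSpecResidueField η)
    obtain ⟨a, ha, -⟩ := Scheme.Pullback.exists_preimage_pullback (f := p₁) (g := T.fromSpecResidueField η) z'
      (IsLocalRing.closedPoint (T.residueField η)) (hz'η.trans (Scheme.fromSpecResidueField_apply η _).symm)
    obtain ⟨b, hb, -⟩ := Scheme.Pullback.exists_preimage_pullback (f := p₁) (g := T.fromSpecResidueField η) (Δ η)
      (IsLocalRing.closedPoint (T.residueField η))
      ((by rw [← Scheme.Hom.comp_apply, hΔ]; rfl : p₁ (Δ η) = η).trans (Scheme.fromSpecResidueField_apply η _).symm)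
    have hab : a = b := (q.homeomorph).injective (Subsingleton.elim _ _)
    have hmem : z' ∈ Set.range Δ := ⟨η, by rw [← ha, hab, hb]⟩
    exact Δ.isClosedEmbedding.isClosed_range.stableUnderSpecialization hz' hmem⟩
  haveI : UniversallyClosed p₁ := by
    haveI : UniversallyClosed (Δ ≫ p₁) := hΔ ▸ inferInstance
    exact UniversallyClosed.of_comp_surjective Δ p₁
  haveI : IsProper p₁ := {}
  haveI : IsFinite p₁ := (IsFinite.iff_isProper_and_locallyQuasiFinite p₁).2 ⟨inferInstance, inferInstance⟩
  haveI : IsIso p₁ := by
    rw [Scheme.Hom.isIso_iff_finrank_eq]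
    ext x
    obtain ⟨η, hη, hmaxη⟩ := exists_maximal_generization x
    haveI := hfib η hmaxη
    obtain ⟨V, hV, hxV, hVc⟩ := (IsLocallyConstant.iff_exists_open _).1 (Scheme.Hom.isLocallyConstant_finrank p₁) x
    rw [← hVc η (hη.mem_open hV hxV), ← Scheme.fromSpecResidueField_apply η (IsLocalRing.closedPoint (T.residueField η)),
      ← Scheme.Hom.finrank_pullback_snd, Scheme.Hom.finrank_eq_one_of_isIso]
    rfl
  haveI : IsIso Δ := by
    have : Δ = inv p₁ := IsIso.eq_inv_of_inv_hom_id (f := p₁) hΔ
    rw [this]
    infer_instance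
  haveI : Mono g := (pullback.isIso_diagonal_iff g).1 (inferInstanceAs (IsIso Δ))
  exact IsOpenImmersion.of_flat_of_mono g

end Groth.Agent.S3207
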