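import Groth.Statements.S3208
import Mathlib

set_option autoImplicit false
open SGA7

namespace Groth.Agent.S3208

/-- Let E be a commutative ring which is finitely generated and torsion-free as an additive group, u an
element of E of finite multiplicative order (u^m = 1 for some m > 0), and n ≥ 2 an integer with u ≡
1 modulo nE (i.e. 1 - u = n·v for some v ∈ E). Then u² = 1, and if n ≥ 3 then u = 1. -/
theorem result (E : Type) [CommRing E] [NoZeroSMulDivisors ℤ E] [Module.Finite ℤ E] (u : E) (m : ℕ) (hm : 0 < m)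
    (hu : u ^ m = 1) (n : ℕ) (hn : 2 ≤ n) (hcong : ∃ v : E, 1 - u = (n : E) * v) :
    u ^ 2 = 1 ∧ (3 ≤ n → u = 1) := by
  classical
  have canc : ∀ (p k : ℕ) (z : E), 0 < p → ((p : E) ^ k) * z = 0 → z = 0 := by
    intro p k z hp h
    have h' : ((p : ℤ) ^ k) • z = 0 := by rw [zsmul_eq_mul]; push_cast; exact h
    exact (smul_eq_zero.mp h').resolve_left (pow_ne_zero _ (by exact_mod_cast hp.ne'))
  have expand : ∀ (x : E) (q : ℕ), ∃ c, (1 + x) ^ q = 1 + (q : E) * x + (q.choose 2 : E) * x ^ 2 + x ^ 3 * c := by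
    intro x q; induction q with
    | zero => exact ⟨0, by simp⟩
    | succ q ih =>
      obtain ⟨c, hc⟩ := ih
      refine ⟨c * (1 + x) + (q.choose 2 : E), ?_⟩
      rw [pow_succ, hc, Nat.choose_succ_succ, Nat.choose_one_right]; push_cast; ring
  have prime_case : ∀ (p a q : ℕ), p.Prime → q.Prime → 1 ≤ a → (3 ≤ p ∨ 2 ≤ a) → ∀ x : E, (∃ y, x = (p : E) ^ a * y) → (1 + x) ^ q = 1 → x = 0 := by
    intro p a q hp hq ha hpa x hx hpow
    obtain ⟨c, hc⟩ := expand x q
    have h0 : (q : E) * x + (q.choose 2 : E) * x ^ 2 + x ^ 3 * c = 0 := by linear_combination hpow - hc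
    have hall : ∀ i, ∃ y, x = (p : E) ^ (a + i) * y := by
      intro i; induction i with
      | zero => exact hx
      | succ i ih =>
        obtain ⟨y, hy⟩ := ih
        obtain ⟨b, hb⟩ := Nat.exists_eq_add_of_le (show 1 ≤ a + i by omega)
        suffices ∃ y', y = (p : E) * y' by
          obtain ⟨y', rfl⟩ := this
          exact ⟨y', by rw [hy, ← add_assoc, pow_succ]; ring⟩
        by_cases hqp : q = p
        · subst hqp
          have h1 : (q : E) ^ (a + i + 1) * y + (q.choose 2 : E) * ((q : E) ^ (a + i) * y) ^ 2 + ((q : E) ^ (a + i) * y) ^ 3 * c = 0 := by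
            rw [hy] at h0; rw [pow_succ]; linear_combination h0
          rcases hpa with h3 | h2
          · obtain ⟨t, ht⟩ : q ∣ q.choose 2 := hq.dvd_choose_self (by norm_num) (by omega)
            refine ⟨-((q : E) ^ b * t * y ^ 2 + (q : E) ^ (2 * b) * y ^ 3 * c), ?_⟩
            rw [← sub_eq_zero]
            refine canc q (a + i + 1) _ hq.pos ?_
            rw [hb] at h1 ⊢; rw [ht] at h1; push_cast at h1
            linear_combination (norm := ring_nf) h1
          · obtain ⟨b', rfl⟩ : ∃ b', b = b' + 1 := ⟨b - 1, by omega⟩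
            refine ⟨-((q.choose 2 : E) * (q : E) ^ b' * y ^ 2 + (q : E) ^ (2 * (b' + 1)) * y ^ 3 * c), ?_⟩
            rw [← sub_eq_zero]
            refine canc q (a + i + 1) _ hq.pos ?_
            rw [hb] at h1 ⊢
            linear_combination (norm := ring_nf) h1
        · have h1 : (q : E) * y = (p : E) * (-((q.choose 2 : E) * (p : E) ^ b * y ^ 2 + (p : E) ^ (2 * b + 1) * y ^ 3 * c)) := by
            rw [← sub_eq_zero]
            refine canc p (a + i) _ hp.pos ?_
            rw [hy] at h0; rw [hb] at h0 ⊢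
            linear_combination (norm := ring_nf) h0
          set w := -((q.choose 2 : E) * (p : E) ^ b * y ^ 2 + (p : E) ^ (2 * b + 1) * y ^ 3 * c)
          have hgc : IsCoprime (p : ℤ) (q : ℤ) :=
            Int.isCoprime_iff_nat_coprime.mpr (by simpa using (Nat.coprime_primes hp hq).mpr (Ne.symm hqp))
          obtain ⟨s, t, hst⟩ := hgc
          have hst' : (s : E) * (p : E) + (t : E) * (q : E) = 1 := by exact_mod_cast congrArg (fun z : ℤ => (z : E)) hst
          exact ⟨(s : E) * y + (t : E) * w, by linear_combination (t : E) * h1 - y * hst'⟩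
    have hF : Module.Free ℤ E := inferInstance
    refine (Module.Free.chooseBasis ℤ E).forall_coord_eq_zero_iff.mp fun i => ?_
    by_contra hne
    obtain ⟨k, hk⟩ := pow_unbounded_of_one_lt ((Module.Free.chooseBasis ℤ E).coord i x).natAbs hp.one_lt
    obtain ⟨y, hy⟩ := hall k
    have hdvd : (p : ℤ) ^ (a + k) ∣ (Module.Free.chooseBasis ℤ E).coord i x := by
      refine ⟨(Module.Free.chooseBasis ℤ E).coord i y, ?_⟩
      rw [hy, show (p : E) ^ (a + k) * y = ((p : ℤ) ^ (a + k)) • y by rw [zsmul_eq_mul]; push_cast; ring, map_zsmul, smul_eq_mul]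
    have hle := Nat.le_of_dvd (Int.natAbs_pos.mpr hne) (Int.natAbs_dvd_natAbs.mpr hdvd)
    rw [Int.natAbs_pow, Int.natAbs_natCast] at hle
    have := Nat.pow_le_pow_right hp.pos (show k ≤ a + k by omega)
    omega
  have main : ∀ (p a : ℕ), p.Prime → 1 ≤ a → (3 ≤ p ∨ 2 ≤ a) → ∀ (m : ℕ), ∀ w : E, 0 < m → w ^ m = 1 → (∃ y, w - 1 = (p : E) ^ a * y) → w = 1 := by
    intro p a hp ha hpa m
    induction m using Nat.strong_induction_on with
    | _ m ih =>
      intro w hm hw hy
      rcases Nat.lt_or_ge m 2 with h | h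
      · obtain rfl : m = 1 := by omega
        rwa [pow_one] at hw
      obtain ⟨q, hq, hqm⟩ := Nat.exists_prime_and_dvd (show m ≠ 1 by omega)
      obtain ⟨k, rfl⟩ := hqm
      have hk : 0 < k := by by_contra h0; simp [show k = 0 by omega] at hm
      refine ih k (lt_mul_of_one_lt_left hk hq.one_lt) w hk ?_ hy
      refine sub_eq_zero.mp (prime_case p a q hp hq ha hpa _ ?_ ?_)
      · obtain ⟨y, hy⟩ := hy
        obtain ⟨z, hz⟩ := sub_one_dvd_pow_sub_one w k
        exact ⟨y * z, by rw [hz, hy]; ring⟩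
      · rw [add_sub_cancel, ← pow_mul, mul_comm, hw]
  obtain ⟨v, hv⟩ := hcong
  have h3 : 3 ≤ n → u = 1 := by
    intro h
    obtain ⟨p, a, hp, ha, hpa, ⟨t, ht⟩⟩ : ∃ p a : ℕ, p.Prime ∧ 1 ≤ a ∧ (3 ≤ p ∨ 2 ≤ a) ∧ p ^ a ∣ n := by
      by_cases h4 : 4 ∣ n
      · exact ⟨2, 2, Nat.prime_two, by norm_num, Or.inr le_rfl, by simpa using h4⟩
      · rcases Nat.even_or_odd n with ⟨k, hk⟩ | hodd
        · obtain ⟨p, hp, hpk⟩ := Nat.exists_prime_and_dvd (show k ≠ 1 by omega)
          refine ⟨p, 1, hp, le_rfl, Or.inl ?_, by rw [pow_one, hk]; exact dvd_add hpk hpk⟩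
          rcases hp.two_le.lt_or_eq with h2 | h2
          · exact h2
          · obtain ⟨c, hc⟩ := hpk
            exact absurd ⟨c, by subst h2; omega⟩ h4
        · obtain ⟨p, hp, hpn⟩ := Nat.exists_prime_and_dvd (show n ≠ 1 by omega)
          refine ⟨p, 1, hp, le_rfl, Or.inl ?_, by rwa [pow_one]⟩
          have := hodd.of_dvd_nat hpn
          rcases hp.two_le.lt_or_eq with h2 | h2
          · exact h2
          · subst h2; exact absurd this (by decide)
    refine main p a hp ha hpa m u hm hu ⟨-((t : E) * v), ?_⟩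
    rw [ht] at hv; push_cast at hv
    linear_combination -hv
  refine ⟨?_, h3⟩
  rcases Nat.lt_or_ge n 3 with h | h
  · obtain rfl : n = 2 := by omega
    refine main 2 2 Nat.prime_two (by norm_num) (Or.inr le_rfl) m (u ^ 2) hm (by rw [← pow_mul, mul_comm, pow_mul, hu, one_pow]) ⟨v ^ 2 - v, ?_⟩
    have : u = 1 - 2 * v := by push_cast at hv; linear_combination -hv
    rw [this]; push_cast; ring
  · rw [h3 h, one_pow]

end Groth.Agent.S3208
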