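import Groth.Statements.S3209
import Mathlib
-- import your own Groth.Agent.* helpers here

set_option autoImplicit false
universe u
open TensorProduct
open SGA7

namespace Groth.Agent.S3209

/-- Let f : B' → B be a surjective map of R-algebras with kernel J, g : C → B a map of R-algebras, P =
B' ×_B C their fibre product (the equalizer of f ∘ pr₁ and g ∘ pr₂ in B' × C) and S an R-algebra
such that S ⊗_R J → S ⊗_R B' is injective (this holds when Tor_1^R(B, S) = 0, the published
hypothesis, and in particular when S is flat). Then the canonical map S ⊗_R P → (S ⊗_R B') ×_{S ⊗_R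
B} (S ⊗_R C) is bijective: it is injective, and every pair with the same image in S ⊗_R B comes from
S ⊗_R P. -/
theorem result (R B' B C S : Type u) [CommRing R] [CommRing B'] [CommRing B] [CommRing C]
    [CommRing S] [Algebra R B'] [Algebra R B] [Algebra R C] [Algebra R S]
    (f : B' →ₐ[R] B) (hf : Function.Surjective f) (g : C →ₐ[R] B)
    (hJ : Function.Injective (LinearMap.lTensor S (LinearMap.ker f.toLinearMap).subtype)) :
    letI P := AlgHom.equalizer (f.comp (AlgHom.fst R B' C)) (g.comp (AlgHom.snd R B' C))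
    letI φ₁ := Algebra.TensorProduct.map (AlgHom.id R S) ((AlgHom.fst R B' C).comp P.val)
    letI φ₂ := Algebra.TensorProduct.map (AlgHom.id R S) ((AlgHom.snd R B' C).comp P.val)
    Function.Injective (fun z : S ⊗[R] ↥P => (φ₁ z, φ₂ z)) ∧
    ∀ (x : S ⊗[R] B') (y : S ⊗[R] C),
      Algebra.TensorProduct.map (AlgHom.id R S) f x = Algebra.TensorProduct.map (AlgHom.id R S) g y →
        ∃ z : S ⊗[R] ↥P, φ₁ z = x ∧ φ₂ z = y := by
  let P := AlgHom.equalizer (f.comp (AlgHom.fst R B' C)) (g.comp (AlgHom.snd R B' C))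
  let φ₁ := Algebra.TensorProduct.map (AlgHom.id R S) ((AlgHom.fst R B' C).comp P.val)
  let φ₂ := Algebra.TensorProduct.map (AlgHom.id R S) ((AlgHom.snd R B' C).comp P.val)
  show Function.Injective (fun z : S ⊗[R] ↥P => (φ₁ z, φ₂ z)) ∧
    ∀ (x : S ⊗[R] B') (y : S ⊗[R] C),
      Algebra.TensorProduct.map (AlgHom.id R S) f x = Algebra.TensorProduct.map (AlgHom.id R S) g y →
        ∃ z : S ⊗[R] ↥P, φ₁ z = x ∧ φ₂ z = y
  let J := LinearMap.ker f.toLinearMap
  let p₁ : P →ₗ[R] B' := ((AlgHom.fst R B' C).comp P.val).toLinearMap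
  let p₂ : P →ₗ[R] C := ((AlgHom.snd R B' C).comp P.val).toLinearMap
  let ι : J →ₗ[R] P :=
    { toFun := fun x => ⟨((x : B'), 0), by
        show f (x : B') = g 0
        rw [map_zero]
        exact x.2⟩
      map_add' := fun x y => Subtype.ext (Prod.ext rfl (by simp))
      map_smul' := fun r x => Subtype.ext (Prod.ext rfl (by simp)) }
  have hex : Function.Exact ι p₂ := by
    intro z
    constructor
    · intro hz
      obtain ⟨⟨b, c⟩, hbc⟩ := z
      have hz' : c = 0 := hz
      subst hz'
      have hb : f b = 0 := (show f b = g 0 from hbc).trans (map_zero g)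
      exact ⟨⟨b, hb⟩, rfl⟩
    · rintro ⟨x, rfl⟩
      rfl
  have hp₂ : Function.Surjective p₂ := fun c => by
    obtain ⟨b, hb⟩ := hf (g c)
    exact ⟨⟨(b, c), hb⟩, rfl⟩
  have hexf : Function.Exact J.subtype f.toLinearMap := LinearMap.exact_subtype_ker_map _
  have hE := lTensor_exact S hex hp₂
  have hEf := lTensor_exact S hexf hf
  have e₁ : ∀ z, φ₁ z = p₁.lTensor S z := fun z => by
    induction z using TensorProduct.induction_on with
    | zero => simp
    | tmul a b => rfl
    | add a b ha hb => rw [map_add, map_add, ha, hb]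
  have e₂ : ∀ z, φ₂ z = p₂.lTensor S z := fun z => by
    induction z using TensorProduct.induction_on with
    | zero => simp
    | tmul a b => rfl
    | add a b ha hb => rw [map_add, map_add, ha, hb]
  have ef : ∀ z, Algebra.TensorProduct.map (AlgHom.id R S) f z = f.toLinearMap.lTensor S z := fun z => by
    induction z using TensorProduct.induction_on with
    | zero => simp
    | tmul a b => rfl
    | add a b ha hb => rw [map_add, map_add, ha, hb]
  have eg : ∀ z, Algebra.TensorProduct.map (AlgHom.id R S) g z = g.toLinearMap.lTensor S z := fun z => by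
    induction z using TensorProduct.induction_on with
    | zero => simp
    | tmul a b => rfl
    | add a b ha hb => rw [map_add, map_add, ha, hb]
  have hcomp : ∀ w, p₁.lTensor S (ι.lTensor S w) = J.subtype.lTensor S w := fun w => by
    rw [← LinearMap.lTensor_comp_apply]
    rfl
  constructor
  · intro z z' h
    simp only [Prod.mk.injEq, e₁, e₂] at h
    rw [← sub_eq_zero]
    obtain ⟨w, hw⟩ := (hE (z - z')).mp (by rw [map_sub, h.2, sub_self])
    have hw0 : w = 0 := hJ (by rw [map_zero, ← hcomp, hw, map_sub, h.1, sub_self])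
    rw [← hw, hw0, map_zero]
  · intro x y hxy
    rw [ef, eg] at hxy
    obtain ⟨z₀, hz₀⟩ := LinearMap.lTensor_surjective S hp₂ y
    have hsq : f.toLinearMap ∘ₗ p₁ = g.toLinearMap ∘ₗ p₂ := LinearMap.ext fun z => z.2
    obtain ⟨w, hw⟩ := (hEf (x - p₁.lTensor S z₀)).mp (by
      rw [map_sub, ← LinearMap.lTensor_comp_apply, hsq, LinearMap.lTensor_comp_apply, hz₀, hxy, sub_self])
    refine ⟨z₀ + ι.lTensor S w, ?_, ?_⟩
    · rw [e₁, map_add, hcomp, hw, add_sub_cancel]
    · rw [e₂, map_add, hE.apply_apply_eq_zero, add_zero, hz₀]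

end Groth.Agent.S3209
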