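import Groth.Statements.S3210
import Groth.Agent.GrpInfLib.TorsLift
import Groth.Agent.MonoFibre.RigidityProper
import Groth.Agent.ASp.PropDescend
import Groth.Agent.FixedSmooth.Split
import Groth.Prelude.Def_Red

set_option autoImplicit false
universe u
open CategoryTheory CategoryTheory.Limits AlgebraicGeometry MonObj
open SGA7

namespace Groth.Agent.S3210

open FixedSmooth MonoidalCategory CartesianMonoidalCategory GrpObj

theorem one_eq_eta {C : Type*} [Category C] [CartesianMonoidalCategory C] (G : C) [GrpObj G] :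
    (1 : 𝟙_ C ⟶ G) = η[G] := by
  rw [Hom.one_def, toUnit_unique (toUnit _) (𝟙 _), Category.id_comp]

/-- The integral base as an object over a base. -/
noncomputable abbrev ringObj {S : Scheme.{u}} {W : Type u} [CommRing W] (φ : Spec (CommRingCat.of W) ⟶ S) : Over S :=
  Over.mk φ

theorem eq_of_residue_over {S : Scheme.{u}} (G : Over S) [GrpObj G] [IsCommMonObj G] [Smooth G.hom]
    {W : Type u} [CommRing W] [IsLocalRing W] (φ : Spec (CommRingCat.of W) ⟶ S) (n : ℕ) (hn : IsUnit (n : W))
    (a b : ringObj φ ⟶ G) (ha : a ^ n = 1) (hb : b ^ n = 1)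
    (h : Spec.map (CommRingCat.ofHom (IsLocalRing.residue W)) ≫ a.left =
      Spec.map (CommRingCat.ofHom (IsLocalRing.residue W)) ≫ b.left) : a = b := by
  let i : (Over.map φ).obj (GrpInfLib.baseObj W) ≅ ringObj φ :=
    Over.isoMk (Iso.refl _) (by simp)
  let E : (ringObj φ ⟶ G) ≃* (GrpInfLib.baseObj W ⟶ Red.bc φ G) :=
    (precompEquiv i).trans (adjEquiv φ G _)
  haveI : Smooth (Red.bc φ G).hom := inferInstanceAs (Smooth (pullback.snd G.hom φ))
  haveI : IsCommMonObj (Red.bc φ G) := inferInstance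
  refine E.injective (GrpInfLib.eq_of_reduction (Red.bc φ G) n hn _ _ (by rw [← map_pow, ha, map_one])
    (by rw [← map_pow, hb, map_one]) ?_)
  show GrpInfLib.resMap W ≫ (Over.mapPullbackAdj φ).homEquiv _ G (i.hom ≫ a) =
    GrpInfLib.resMap W ≫ (Over.mapPullbackAdj φ).homEquiv _ G (i.hom ≫ b)
  rw [← Adjunction.homEquiv_naturality_left, ← Adjunction.homEquiv_naturality_left]
  congr 1
  ext1
  show Spec.map _ ≫ 𝟙 _ ≫ a.left = Spec.map _ ≫ 𝟙 _ ≫ b.left
  rw [Category.id_comp, Category.id_comp]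
  exact h

theorem exists_extension {S : Scheme.{u}} (G : Over S) [IsProper G.hom] {W L : Type u} [CommRing W]
    [IsDomain W] [ValuationRing W] [Field L] [Algebra W L] [IsFractionRing W L]
    (φ : Spec (CommRingCat.of W) ⟶ S) (y : Over.mk (Spec.map (CommRingCat.ofHom (algebraMap W L)) ≫ φ) ⟶ G) :
    ∃! Y : ringObj φ ⟶ G,
      (Over.homMk (Spec.map (CommRingCat.ofHom (algebraMap W L))) rfl :
        Over.mk (Spec.map (CommRingCat.ofHom (algebraMap W L)) ≫ φ) ⟶ ringObj φ) ≫ Y = y := by
  let S' : ValuativeCommSq G.hom := { R := W, K := L, i₁ := y.left, i₂ := φ, commSq := ⟨Over.w y⟩ }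
  have hv : ValuativeCriterion G.hom := by
    have h : (ValuativeCriterion ⊓ @QuasiCompact ⊓ @QuasiSeparated ⊓ @LocallyOfFiniteType) G.hom := by
      rw [← IsProper.eq_valuativeCriterion]; infer_instance
    exact h.1.1.1
  obtain ⟨hu⟩ := hv S'
  refine ⟨Over.homMk hu.default.l hu.default.fac_right, Over.OverMorphism.ext hu.default.fac_left, fun Y hY => ?_⟩
  refine Over.OverMorphism.ext ?_
  have := hu.uniq ⟨Y.left, congrArg CommaMorphism.left hY, Over.w Y⟩
  exact congrArg CommSq.LiftStruct.l this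

theorem comm_of_isMonHom_inv {C : Type*} [Category C] [CartesianMonoidalCategory C] {G : C} [GrpObj G]
    [IsMonHom ι[G]] {T : C} (a b : T ⟶ G) : a * b = b * a := by
  have h : (a * b)⁻¹ = a⁻¹ * b⁻¹ := by
    rw [Hom.inv_def, Hom.inv_def, Hom.inv_def]
    exact MonObj.mul_comp _ _ _
  have := congrArg (·⁻¹) h
  simpa using this

/-- A smooth separated group over a base is commutative when a dense fibre is. -/
theorem isCommMonObj_of_generic {S T : Scheme.{u}} [IsReduced S] (g : T ⟶ S) [IsDominant g] (B : Over S)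
    [GrpObj B] [Smooth B.hom] [IsSeparated B.hom]
    (h : ∀ (X : Over T) (a b : X ⟶ Red.bc g B), a * b = b * a) : IsCommMonObj B := by
  haveI : Smooth (B ⊗ B).hom := inferInstanceAs (Smooth (pullback.fst B.hom B.hom ≫ B.hom))
  haveI : IsReduced (B ⊗ B).left := ASp.isReduced_of_smooth (B ⊗ B).hom
  let T' : Over T := Over.mk (pullback.snd (B ⊗ B).hom g)
  let m : (Over.map g).obj T' ⟶ B ⊗ B := Over.homMk (pullback.fst (B ⊗ B).hom g) pullback.condition
  haveI : IsDominant m.left := by
    rw [isDominant_iff, DenseRange]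
    show Dense (Set.range (pullback.fst (B ⊗ B).hom g))
    rw [Scheme.Pullback.range_fst]
    exact (IsDominant.denseRange (f := g)).preimage (B ⊗ B).hom.isOpenMap
  have hc : m ≫ (fst B B * snd B B) = m ≫ (snd B B * fst B B) := by
    rw [MonObj.comp_mul, MonObj.comp_mul]
    apply (adjEquiv g B T').injective
    rw [map_mul, map_mul]
    exact h _ _ _
  have heq : (fst B B * snd B B : B ⊗ B ⟶ B) = snd B B * fst B B :=
    Over.OverMorphism.ext (ext_of_isDominant_of_isSeparated B.hom
      ((Over.w _).trans (Over.w _).symm) m.left (congrArg CommaMorphism.left hc))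
  refine ⟨?_⟩
  have hμ : (μ[B] : B ⊗ B ⟶ B) = fst B B * snd B B := by
    rw [Hom.mul_def, lift_fst_snd, Category.id_comp]
  rw [hμ, MonObj.comp_mul]
  simp only [braiding_hom_fst, braiding_hom_snd]
  exact heq.symm

variable {R K Ω : Type u} [CommRing R] [IsDomain R] [IsDiscreteValuationRing R] [Field K] [Algebra R K]
  [IsFractionRing R K] [Field Ω] [Algebra K Ω]

/-- Torsion points of an abelian scheme are fixed by inertia. -/
theorem fixed_of_abelianScheme (W : ValuationSubring Ω) (hW : SGA7.LiesOver K R W) (n : ℕ)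
    (hn : IsUnit (n : R)) (B : Over (Spec (CommRingCat.of R))) [GrpObj B] [IsCommMonObj B] [IsProper B.hom]
    [Smooth B.hom] (σ : Ω ≃ₐ[K] Ω) (hσ : SGA7.IsInertia W σ)
    (y : (Over.map (Spec.map (CommRingCat.ofHom (algebraMap R K)))).obj (SGA7.pt Ω) ⟶ B) (hy : y ^ n = 1) :
    (Over.map (Spec.map (CommRingCat.ofHom (algebraMap R K)))).map (SGA7.specAut σ) ≫ y = y := by
  let ψ : R →+* W := ((algebraMap K Ω).comp (algebraMap R K)).codRestrict W.toSubring hW.1
  let φ := Spec.map (CommRingCat.ofHom ψ)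
  have hgen : Spec.map (CommRingCat.ofHom (algebraMap W Ω)) ≫ φ =
      Spec.map (CommRingCat.ofHom (algebraMap K Ω)) ≫ Spec.map (CommRingCat.ofHom (algebraMap R K)) := by
    simp only [φ, ← Spec.map_comp]
    rfl
  let j : (Over.map (Spec.map (CommRingCat.ofHom (algebraMap R K)))).obj (SGA7.pt Ω) ≅
      Over.mk (Spec.map (CommRingCat.ofHom (algebraMap W Ω)) ≫ φ) := Over.isoMk (Iso.refl _) (by simp [hgen])
  obtain ⟨Y, hY, huY⟩ := exists_extension B φ (j.inv ≫ y)
  let ιW : Over.mk (Spec.map (CommRingCat.ofHom (algebraMap W Ω)) ≫ φ) ⟶ ringObj φ :=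
    Over.homMk (Spec.map (CommRingCat.ofHom (algebraMap W Ω))) rfl
  have hY' : j.hom ≫ ιW ≫ Y = y := by rw [hY, Iso.hom_inv_id_assoc]
  have hYn : Y ^ n = 1 := by
    refine (exists_extension B φ (1 : Over.mk (Spec.map (CommRingCat.ofHom (algebraMap W Ω)) ≫ φ) ⟶ B)).unique ?_
      (MonObj.comp_one _)
    show ιW ≫ Y ^ n = 1
    rw [MonObj.comp_pow, hY, ← MonObj.comp_pow, hy, MonObj.comp_one]
  let σW : W →+* W := ((σ : Ω →+* Ω).comp W.subtype).codRestrict W.toSubring fun x => (hσ x.1 x.2).1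
  have hψ : σW.comp ψ = ψ := RingHom.ext fun r => Subtype.ext (σ.commutes (algebraMap R K r))
  let s : ringObj φ ⟶ ringObj φ := Over.homMk (Spec.map (CommRingCat.ofHom σW)) (by
    show Spec.map _ ≫ Spec.map _ = Spec.map _
    rw [← Spec.map_comp, ← CommRingCat.ofHom_comp, hψ])
  have hnW : IsUnit (n : W) := by
    have := hn.map ψ
    rwa [map_natCast] at this
  have hsY : s ≫ Y = Y := by
    refine eq_of_residue_over B φ n hnW _ _ (by rw [← MonObj.comp_pow, hYn, MonObj.comp_one]) hYn ?_
    show Spec.map _ ≫ Spec.map _ ≫ Y.left = _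
    rw [← Category.assoc, ← Spec.map_comp, ← CommRingCat.ofHom_comp]
    congr 3
    refine RingHom.ext fun x => ?_
    show IsLocalRing.residue W (σW x) = IsLocalRing.residue W x
    rw [← sub_eq_zero, ← map_sub, IsLocalRing.residue_eq_zero_iff, ValuationSubring.valuation_lt_one_iff]
    exact (hσ x.1 x.2).2
  have hcomm : (Over.map (Spec.map (CommRingCat.ofHom (algebraMap R K)))).map (SGA7.specAut σ) ≫ j.hom ≫ ιW =
      (j.hom ≫ ιW) ≫ s := by
    ext1
    show Spec.map _ ≫ 𝟙 _ ≫ Spec.map _ = (𝟙 _ ≫ Spec.map _) ≫ Spec.map _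
    simp only [Category.id_comp]
    erw [← Spec.map_comp, ← Spec.map_comp]
    rfl
  calc (Over.map (Spec.map (CommRingCat.ofHom (algebraMap R K)))).map (SGA7.specAut σ) ≫ y
      = ((Over.map (Spec.map (CommRingCat.ofHom (algebraMap R K)))).map (SGA7.specAut σ) ≫ j.hom ≫ ιW) ≫ Y := by
        simp only [Category.assoc, hY']
    _ = j.hom ≫ ιW ≫ (s ≫ Y) := by rw [hcomm]; simp only [Category.assoc]
    _ = y := by rw [hsY, hY']


/-- Direction (i) ⇒ (v bis) of the Néron–Ogg–Chafarévitch criterion (only this direction of the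
criterion is stated): let R be a discrete valuation ring with fraction field K and residue
characteristic different from the prime ℓ, Ω a separable closure of K, W a valuation subring of Ω
lying over R, and A an abelian variety over K (a proper, geometrically integral group scheme). If A
extends to an abelian scheme over R (a proper smooth group scheme over Spec R with connected
geometric fibres whose generic fibre is K-isomorphic to A), then for every ν every element of the
inertia group at W fixes all the ℓ^ν-torsion Ω-points of A. -/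
theorem result (R K Ω : Type u) [CommRing R] [IsDomain R] [IsDiscreteValuationRing R] [Field K]
    [Algebra R K] [IsFractionRing R K] [Field Ω] [Algebra K Ω] [IsSepClosure K Ω]
    (W : ValuationSubring Ω) (hW : SGA7.LiesOver K R W) (ℓ : ℕ) (hℓ : ℓ.Prime) (hℓp : (ℓ : IsLocalRing.ResidueField R) ≠ 0)
    (A : Over (Spec (CommRingCat.of K))) [GrpObj A] [IsProper A.hom] [GeometricallyIntegral A.hom]
    (hgood : (∃ (B : Over (Spec (CommRingCat.of R))) (_ : GrpObj B), IsProper B.hom ∧ Smooth B.hom ∧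
        (∀ (k' : Type u) [Field k'] (t : Spec (CommRingCat.of k') ⟶ Spec (CommRingCat.of R)), ConnectedSpace ↑(pullback B.hom t)) ∧
        Nonempty ((Over.pullback (Spec.map (CommRingCat.ofHom (algebraMap R K)))).obj B ≅ A))) :
    ∀ (ν : ℕ) (σ : Ω ≃ₐ[K] Ω), SGA7.IsInertia W σ → ∀ x : SGA7.Pts Ω A, x ^ (ℓ ^ ν) = 1 → SGA7.galAct σ x = x := by
  obtain ⟨B, strB, hBp, hBs, hBc, ⟨e⟩⟩ := hgood
  letI := strB
  haveI := hBp
  haveI := hBs
  let g := Spec.map (CommRingCat.ofHom (algebraMap R K))
  let e' : Red.bc g B ≅ A := e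
  haveI : IsProper (Red.bc g B).hom := inferInstanceAs (IsProper (pullback.snd B.hom g))
  haveI : GeometricallyIntegral (Red.bc g B).hom := by
    haveI : IsIso e'.hom.left := (Over.forget _).map_isIso e'.hom
    rw [← Over.w e'.hom]
    exact (MorphismProperty.cancel_left_of_respectsIso @GeometricallyIntegral _ _).2 inferInstance
  haveI : IsMonHom ι[Red.bc g B] := MonoFibre.Rigidity.isMonHom_of_proper ι[Red.bc g B] (by
    rw [← Hom.inv_def, ← one_eq_eta, inv_one])
  haveI : IsDominant g := by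
    rw [isDominant_iff, DenseRange]
    exact PrimeSpectrum.denseRange_comap_iff_ker_le_nilRadical _ |>.2
      (by
        intro a ha
        rw [show a = 0 from IsFractionRing.injective R K ((RingHom.mem_ker.1 ha).trans (map_zero _).symm)]
        exact zero_mem _)
  haveI : IsCommMonObj B := isCommMonObj_of_generic g B fun X a b => comm_of_isMonHom_inv a b
  let c : 𝟙_ (Over (Spec (CommRingCat.of K))) ⟶ A := η[Red.bc g B] ≫ e'.hom
  let e₀ : Red.bc g B ⟶ A := e'.hom * (toUnit _ ≫ c)⁻¹
  let t : A ⟶ Red.bc g B := (𝟙 A * (toUnit A ≫ c)) ≫ e'.inv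
  have ht₁ : e₀ ≫ t = 𝟙 _ := by
    rw [← Category.assoc, MonObj.comp_mul, Category.comp_id, ← Category.assoc, toUnit_unique (e₀ ≫ toUnit A) (toUnit _),
      inv_mul_cancel_right, Iso.hom_inv_id]
  have ht₂ : t ≫ e₀ = 𝟙 A := by
    have h1 : t ≫ e'.hom = 𝟙 A * (toUnit A ≫ c) := by
      simp only [t, Category.assoc, Iso.inv_hom_id, Category.comp_id]
    have h2 : t ≫ toUnit (Red.bc g B) ≫ c = toUnit A ≫ c := by
      rw [← Category.assoc, toUnit_unique (t ≫ toUnit (Red.bc g B)) (toUnit A)]
    rw [MonObj.comp_mul, GrpObj.comp_inv, h1, h2, mul_inv_cancel_right]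
  haveI : IsMonHom e₀ := MonoFibre.Rigidity.isMonHom_of_proper e₀ (by
    rw [MonObj.comp_mul, GrpObj.comp_inv, ← Category.assoc _ (toUnit _), toUnit_unique (η[Red.bc g B] ≫ toUnit _) (𝟙 _),
      Category.id_comp, mul_inv_cancel, one_eq_eta])
  intro ν σ hσ x hx
  have hn : IsUnit ((ℓ ^ ν : ℕ) : R) := by
    rw [← IsLocalRing.residue_ne_zero_iff_isUnit, map_natCast, Nat.cast_pow]
    exact pow_ne_zero _ hℓp
  have hpow : (x ≫ t) ^ (ℓ ^ ν) = 1 := by
    have h1 : ((x ≫ t) ^ (ℓ ^ ν)) ≫ e₀ = 1 := by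
      rw [MonObj.pow_comp, Category.assoc, ht₂, Category.comp_id, hx]
    have h2 := congrArg (· ≫ t) h1
    simp only [Category.assoc, ht₁, Category.comp_id] at h2
    rw [h2, ← MonObj.one_comp (f := e₀), Category.assoc, ht₁, Category.comp_id]
  have key := fixed_of_abelianScheme W hW (ℓ ^ ν) hn B σ hσ ((adjEquiv g B (SGA7.pt Ω)).symm (x ≫ t))
    (by rw [← map_pow, hpow, map_one])
  have key2 : SGA7.specAut σ ≫ (x ≫ t) = x ≫ t := by
    apply (adjEquiv g B (SGA7.pt Ω)).symm.injective
    exact ((Over.mapPullbackAdj g).homEquiv_naturality_left_symm (SGA7.specAut σ) (x ≫ t)).trans key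
  have h3 := congrArg (· ≫ e₀) key2
  simpa only [SGA7.galAct, Category.assoc, ht₂, Category.comp_id] using h3


end Groth.Agent.S3210
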