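import Groth.Statements.S3211
import Groth.Agent.GrpExtLib.Dedekind
import Groth.Agent.NeronGrpLib.Group
import Groth.Agent.NeronGrpLib.Connected
-- import your own Groth.Agent.* helpers here

set_option autoImplicit false
universe u
open CategoryTheory CategoryTheory.Limits AlgebraicGeometry MonObj
open SGA7

namespace Groth.Agent.S3211

set_option backward.isDefEq.respectTransparency false

/-- (i) ⟺ (iv): let R be a discrete valuation ring with fraction field K, A an abelian variety over K (a
proper, geometrically integral group scheme) and N a Néron model of A over Spec R. Then A extends to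
an abelian scheme over R (a proper smooth group scheme with connected geometric fibres and generic
fibre K-isomorphic to A) if and only if N is proper over Spec R. -/
theorem result (R : Type u) [CommRing R] [IsDomain R] [IsDiscreteValuationRing R]
    (A : Over (Spec (CommRingCat.of (FractionRing R)))) [GrpObj A] [IsProper A.hom] [GeometricallyIntegral A.hom]
    (N : Over (Spec (CommRingCat.of R))) (e : (Neron.genericFibre R).obj N ≅ A) (hN : Neron.IsNeronModelOf R N A e) :
    (∃ (B : Over (Spec (CommRingCat.of R))) (_ : GrpObj B), IsProper B.hom ∧ Smooth B.hom ∧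
        (∀ (k' : Type u) [Field k'] (t : Spec (CommRingCat.of k') ⟶ Spec (CommRingCat.of R)), ConnectedSpace ↑(pullback B.hom t)) ∧
        Nonempty ((Over.pullback (Spec.map (CommRingCat.ofHom (algebraMap R (FractionRing R))))).obj B ≅ A)) ↔ IsProper N.hom := by
  let K := FractionRing R
  let g : Spec (CommRingCat.of K) ⟶ Spec (CommRingCat.of R) := Spec.map (CommRingCat.ofHom (algebraMap R K))
  obtain ⟨hNs, hNsep, hNlft, hNqc, hNbij⟩ := hN
  constructor
  · rintro ⟨B, strB, hBp, hBs, -, ⟨eB⟩⟩
    letI := strB
    haveI := hBp
    haveI := hBs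
    have hBbij : ∀ Y : Over (Spec (CommRingCat.of R)), Smooth Y.hom →
        Function.Bijective (fun h : Y ⟶ B => (Neron.genericFibre R).map h ≫ eB.hom) := by
      intro Y hY
      haveI := hY
      have h := Groth.Agent.GrpExtLib.bijective_restrict K B Y
      exact ((Iso.homToEquiv eB).bijective).comp h
    obtain ⟨ψ, hψ, -⟩ := (hBbij N hNs).existsUnique e.hom
    obtain ⟨χ, hχ, -⟩ := (hNbij B hBs).existsUnique eB.hom
    have h1 : ψ ≫ χ = 𝟙 N := (hNbij N hNs).1 (by
      show (Neron.genericFibre R).map (ψ ≫ χ) ≫ e.hom = (Neron.genericFibre R).map (𝟙 _) ≫ e.hom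
      rw [Functor.map_comp, Category.assoc, hχ]
      exact hψ.trans (by rw [CategoryTheory.Functor.map_id]; exact (Category.id_comp _).symm))
    have h2 : χ ≫ ψ = 𝟙 B := (hBbij B hBs).1 (by
      show (Neron.genericFibre R).map (χ ≫ ψ) ≫ eB.hom = (Neron.genericFibre R).map (𝟙 _) ≫ eB.hom
      rw [Functor.map_comp, Category.assoc, hψ]
      exact hχ.trans (by rw [CategoryTheory.Functor.map_id]; exact (Category.id_comp _).symm))
    haveI : IsIso ψ := ⟨χ, h1, h2⟩
    haveI : IsIso ψ.left := (Over.forget _).map_isIso ψ
    rw [← Over.w ψ]
    infer_instance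
  · intro hp
    letI : GrpObj ((Neron.genericFibre R).obj N) := GrpObj.ofIso e.symm
    haveI := hNs
    haveI := hp
    haveI : MorphismProperty.IsMultiplicative @Smooth :=
      { id_mem := fun X => inferInstanceAs (Smooth (𝟙 X))
        comp_mem := fun f g hf hg => by haveI := hf; haveI := hg; infer_instance }
    obtain ⟨grp, -⟩ := Groth.Agent.NeronGrpLib.exists_grpObj (Neron.genericFibre R) N (fun Y => Smooth Y.hom)
      (inferInstanceAs (Smooth (𝟙 (Spec (CommRingCat.of R))))) hNs
      (fun X Y hX hY => by
        haveI := hX
        haveI := hY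
        exact inferInstanceAs (Smooth (pullback.fst X.hom Y.hom ≫ X.hom)))
      (fun Y hY => by
        have h := ((Iso.homToEquiv e.symm).bijective).comp (hNbij Y hY)
        simpa [Function.comp_def] using h)
    letI := grp
    refine ⟨N, grp, hp, hNs, ?_, ⟨e⟩⟩
    haveI : GeometricallyIntegral (pullback.snd N.hom g) := by
      haveI : IsIso e.hom.left := (Over.forget _).map_isIso e.hom
      show GeometricallyIntegral ((Neron.genericFibre R).obj N).hom
      rw [← Over.w e.hom]
      exact (MorphismProperty.cancel_left_of_respectsIso @GeometricallyIntegral _ _).2 inferInstance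
    haveI : AlgebraicGeometry.IsIntegral (pullback N.hom g) :=
      GeometricallyIntegral.isIntegral_of_subsingleton (pullback.snd N.hom g)
    haveI : IsReduced N.left := ASp.isReduced_of_smooth N.hom
    haveI := GrpInfLib.isDominant_fraction R K
    haveI : IsDominant (pullback.fst N.hom g) := by
      rw [isDominant_iff, DenseRange]
      show Dense (Set.range _)
      rw [Scheme.Pullback.range_fst]
      exact (IsDominant.denseRange (f := g)).preimage N.hom.isOpenMap
    have hη : η[N].left ≫ N.hom = 𝟙 _ := Over.w η[N]
    have hbij := Groth.Agent.NeronGrpLib.bijApp_of_section N.hom η[N].left hη (pullback.snd N.hom g)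
      (pullback.fst N.hom g) g pullback.condition
      (pullback.lift (g ≫ η[N].left) (𝟙 _) (by rw [Category.assoc, hη]; exact (Category.comp_id _).trans (Category.id_comp _).symm))
      (pullback.lift_fst _ _ _)
    haveI : IsLocallyNoetherian (Spec (CommRingCat.of R)) := inferInstance
    haveI := Groth.Agent.SteinConn.geometricallyConnected N.hom hbij
    intro k' _ t
    haveI : GeometricallyConnected (pullback.snd N.hom t) := MorphismProperty.pullback_snd _ _ inferInstance
    exact GeometricallyConnected.connectedSpace_of_subsingleton (pullback.snd N.hom t)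

end Groth.Agent.S3211
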