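import Groth.Statements.S8721
import Groth.Agent.QLinLib

set_option autoImplicit false
universe u v
open SGA7II

namespace Groth.Agent.S8721

theorem exists_ss {k : Type u} [Field k] (p : ℕ) (r : ℕ) {V : Type v} [AddCommGroup V] [Module k V]
    [FiniteDimensional k V] (φ : V →+ V)
    (hφ : ∀ (c : k) (v : V), φ (c • v) = c ^ (p ^ r) • φ v) :
    ∃ (N : ℕ), let W : Submodule k V := ⨅ n : ℕ, Submodule.span k (Set.range (φ^[n + 1]))
      W = Submodule.span k (Set.range (φ^[N + 1])) ∧
        Submodule.span k (φ '' (W : Set V)) = W := by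
  let S : ℕ → Submodule k V := fun n => Submodule.span k (Set.range (φ^[n + 1]))
  have hstep : ∀ n, S (n + 1) = Submodule.span k (φ '' (S n : Set V)) := by
    intro n
    apply le_antisymm
    · rw [Submodule.span_le]
      rintro _ ⟨v, rfl⟩
      rw [Function.iterate_succ_apply']
      exact Submodule.subset_span ⟨_, Submodule.subset_span ⟨v, rfl⟩, rfl⟩
    · rw [Submodule.span_le]
      rintro _ ⟨w, hw, rfl⟩
      induction hw using Submodule.span_induction with
      | mem x hx =>
        obtain ⟨v, rfl⟩ := hx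
        exact Submodule.subset_span ⟨v, Function.iterate_succ_apply' _ _ _⟩
      | zero => rw [map_zero]; exact zero_mem _
      | add x y _ _ hx hy => rw [map_add]; exact add_mem hx hy
      | smul c x _ hx => rw [hφ]; exact Submodule.smul_mem _ _ hx
  have hanti : Antitone S := antitone_nat_of_succ_le fun n => by
    refine Submodule.span_mono ?_
    rintro _ ⟨v, rfl⟩
    exact ⟨φ v, (Function.iterate_succ_apply _ _ _).symm⟩
  obtain ⟨N, hN⟩ := IsArtinian.monotone_stabilizes (R := k) (M := V) ⟨S, hanti⟩
  have hW : (⨅ n : ℕ, S n) = S N := by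
    refine le_antisymm (iInf_le _ N) (le_iInf fun n => ?_)
    rcases le_total n N with h | h
    · exact hanti h
    · exact le_of_eq (hN n h)
  refine ⟨N, hW, ?_⟩
  show Submodule.span k (φ '' ((⨅ n : ℕ, S n : Submodule k V) : Set V)) = ⨅ n : ℕ, S n
  rw [hW, ← hstep]
  exact (hN (N + 1) (Nat.le_succ N)).symm

/-- restriction of `φ` to a stable subspace on which it is semisimple -/
theorem exists_fixed_basis_sub {k : Type u} [Field k] [IsSepClosed k] (p : ℕ) [Fact p.Prime]
    [CharP k p] (r : ℕ) (hr : 0 < r) {V : Type v} [AddCommGroup V] [Module k V]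
    [FiniteDimensional k V] (φ : V →+ V) (hφ : ∀ (c : k) (v : V), φ (c • v) = c ^ (p ^ r) • φ v)
    (W : Submodule k V) (hW : Submodule.span k (φ '' (W : Set V)) = W) :
    ∃ b : Module.Basis (Fin (Module.finrank k W)) k W, ∀ i, φ (b i : V) = (b i : V) := by
  have hst : ∀ w ∈ W, φ w ∈ W := fun w hw => by
    have h : φ w ∈ Submodule.span k (φ '' (W : Set V)) := Submodule.subset_span ⟨w, hw, rfl⟩
    rwa [hW] at h
  let ψ : W →+ W :=
    { toFun := fun w => ⟨φ w, hst w w.2⟩
      map_zero' := by ext; simp
      map_add' := fun a b => by ext; simp }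
  have hψ : ∀ (c : k) (w : W), ψ (c • w) = c ^ (p ^ r) • ψ w := fun c w => Subtype.ext (hφ c w)
  have hss : Submodule.span k (Set.range ψ) = ⊤ := by
    refine Submodule.map_injective_of_injective W.injective_subtype ?_
    rw [Submodule.map_span, Submodule.map_top, Submodule.range_subtype]
    conv_rhs => rw [← hW]
    congr 1
    ext x
    constructor
    · rintro ⟨_, ⟨w, rfl⟩, rfl⟩; exact ⟨w, w.2, rfl⟩
    · rintro ⟨w, hw, rfl⟩; exact ⟨_, ⟨⟨w, hw⟩, rfl⟩, rfl⟩
  obtain ⟨b, hb⟩ := QLinLib.exists_fixed_basis p ψ hr hψ hss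
  exact ⟨b, fun i => congrArg Subtype.val (hb i)⟩


/-- Let k be a separably closed field of characteristic p > 0, q = p^r with r >= 1, V a
finite-dimensional k-vector space and phi : V -> V additive with phi(c v) = c^q phi(v). Let V_ss be
the intersection, over n >= 1, of the k-subspaces spanned by the images of the iterates phi^n (the
semisimple part of V). Then V_ss has a k-basis consisting of phi-fixed vectors, and every phi-fixed
vector of V is a linear combination of this basis with coefficients c satisfying c^q = c; that is,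
V_ss is obtained from the F_q-space of fixed vectors by extension of scalars. -/
theorem result (k : Type u) [Field k] [IsSepClosed k] (p : ℕ)
    [Fact p.Prime] [CharP k p] (r : ℕ) (hr : 0 < r) (V : Type v) [AddCommGroup V] [Module k V]
    [FiniteDimensional k V] (φ : V →+ V) (hφ : ∀ (c : k) (v : V), φ (c • v) = c ^ (p ^ r) • φ v) :
    let Vss : Submodule k V := ⨅ n : ℕ, Submodule.span k (Set.range (φ^[n + 1]))
    ∃ b : Module.Basis (Fin (Module.finrank k ↥Vss)) k ↥Vss, (∀ i, φ (b i : V) = (b i : V)) ∧
      ∀ v : V, φ v = v → ∃ c : Fin (Module.finrank k ↥Vss) → k,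
        (∀ i, c i ^ (p ^ r) = c i) ∧ v = ∑ i, c i • (b i : V) := by
  intro Vss
  obtain ⟨N, hN, hfix⟩ := exists_ss p r φ hφ
  obtain ⟨b, hb⟩ := exists_fixed_basis_sub p r hr φ hφ Vss hfix
  refine ⟨b, hb, fun v hv => ?_⟩
  have hmem : v ∈ Vss := by
    refine (Submodule.mem_iInf _).mpr fun n => ?_
    exact Submodule.subset_span ⟨v, Function.iterate_fixed hv _⟩
  let c := b.repr ⟨v, hmem⟩
  have hvc : v = ∑ i, c i • (b i : V) := by
    have h := congrArg Subtype.val (b.sum_repr ⟨v, hmem⟩)
    simp only [Submodule.coe_sum, Submodule.coe_smul] at h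
    exact h.symm
  refine ⟨c, fun i => ?_, hvc⟩
  have heq : ∑ i, (c i ^ p ^ r) • b i = ∑ i, c i • b i := by
    refine Subtype.ext ?_
    simp only [Submodule.coe_sum, Submodule.coe_smul]
    rw [← hvc]
    conv_rhs => rw [← hv, hvc, map_sum]
    exact Finset.sum_congr rfl fun j _ => by rw [hφ, hb]
  have h1 := b.repr_sum_self (fun j => c j ^ p ^ r)
  rw [heq, b.repr_sum_self] at h1
  exact (congrFun h1 i).symm

end Groth.Agent.S8721
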