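import Groth.Statements.S3213
import Groth.Agent.QLinLib
import Groth.Agent.S8721

set_option autoImplicit false
universe u v
open SGA7II

namespace Groth.Agent.S3213

/-- Let k be a separably closed field of characteristic p > 0, q = p^r (r >= 1), V a finite-dimensional
k-vector space and phi : V -> V additive with phi(c v) = c^q phi(v). Then the additive map v |-> v -
phi(v) is surjective. -/
theorem result (k : Type u) [Field k] [IsSepClosed k] (p : ℕ) [Fact p.Prime] [CharP k p]
    (r : ℕ) (hr : 0 < r) (V : Type v) [AddCommGroup V] [Module k V] [FiniteDimensional k V] (φ : V →+ V)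
    (hφ : ∀ (c : k) (v : V), φ (c • v) = c ^ (p ^ r) • φ v) :
    Function.Surjective (fun v : V => v - φ v) := by
  intro v
  obtain ⟨N, hN, hfix⟩ := S8721.exists_ss p r φ hφ
  obtain ⟨b, hb⟩ := S8721.exists_fixed_basis_sub p r hr φ hφ _ hfix
  have hmem : φ^[N + 1] v ∈ Submodule.span k {x : V | φ x = x} := by
    have h1 : φ^[N + 1] v ∈ Submodule.span k (Set.range (φ^[N + 1])) :=
      Submodule.subset_span ⟨v, rfl⟩
    rw [← hN] at h1
    let w : ↥(⨅ n : ℕ, Submodule.span k (Set.range (φ^[n + 1]))) := ⟨_, h1⟩
    have h2 : (w : V) = ∑ i, b.repr w i • (b i : V) := by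
      have h := congrArg Subtype.val (b.sum_repr w)
      simp only [Submodule.coe_sum, Submodule.coe_smul] at h
      exact h.symm
    rw [show φ^[N + 1] v = (w : V) from rfl, h2]
    exact Submodule.sum_mem _ fun i _ => Submodule.smul_mem _ _ (Submodule.subset_span (hb i))
  obtain ⟨u, -, hu⟩ := QLinLib.exists_sub_eq_of_mem_span_fixed p φ hr hφ hmem
  refine ⟨u + ∑ i ∈ Finset.range (N + 1), φ^[i] v, ?_⟩
  show u + _ - φ (u + _) = v
  have htel : ∑ i ∈ Finset.range (N + 1), φ^[i] v - φ (∑ i ∈ Finset.range (N + 1), φ^[i] v)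
      = v - φ^[N + 1] v := by
    rw [map_sum, ← Finset.sum_sub_distrib]
    have := Finset.sum_range_sub' (fun i => φ^[i] v) (N + 1)
    simp only [Function.iterate_succ_apply', Function.iterate_zero_apply] at this
    rw [Function.iterate_succ_apply']
    exact this
  rw [map_add, add_sub_add_comm, hu, htel]
  abel

end Groth.Agent.S3213
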