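import Groth.Statements.S3214
import Mathlib


set_option autoImplicit false
open Polynomial
universe u
open SGA7II

namespace Groth.Agent.S3214

/-- In the recursive form established in its proof: let A = Z[X_1, ..., X_a] (a >= 1), P = prod_i (T -
X_i) in A[T] and S_i the i-th elementary symmetric function. Writing a_j for the coefficient of
T^{a-1} in the remainder of T^{a-1+j} modulo P, one has a_0 = 1 and sum_{i=0}^{a} (-1)^i S_i a_{j-i}
= 0 for every j > 0 (with a_m = 0 for m < 0); equivalently sum_j (-1)^j a_j is the inverse of sum_i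
S_i. (The source works in formal power series; the identity involves only polynomials.) -/
theorem result (a : ℕ) (ha : 0 < a) :
    let P : (MvPolynomial (Fin a) ℤ)[X] := ∏ i : Fin a, (X - C (MvPolynomial.X i))
    let coef : ℤ → MvPolynomial (Fin a) ℤ := fun j =>
      if j < 0 then 0 else ((X : (MvPolynomial (Fin a) ℤ)[X]) ^ (a - 1 + j.toNat) %ₘ P).coeff (a - 1)
    coef 0 = 1 ∧ ∀ j : ℕ, 0 < j →
      (∑ i ∈ Finset.range (a + 1), (-1 : MvPolynomial (Fin a) ℤ) ^ i * MvPolynomial.esymm (Fin a) ℤ i *
        coef ((j : ℤ) - i)) = 0 := by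
  intro P coef
  refine ⟨?_, fun j hj => ?_⟩
  · have hdeg : ((X : (MvPolynomial (Fin a) ℤ)[X]) ^ (a - 1)).degree < P.degree := by
      rw [degree_X_pow, show P.degree = (a : WithBot ℕ) by simp [P, degree_prod]]
      exact_mod_cast (show a - 1 < a by omega)
    have hm : P.Monic := monic_prod_of_monic _ _ fun i _ => monic_X_sub_C _
    simp only [coef, lt_self_iff_false, if_false, Int.toNat_zero, add_zero,
      (modByMonic_eq_self_iff hm).2 hdeg, coeff_X_pow_self]
  · let L : (MvPolynomial (Fin a) ℤ)[X] →ₗ[MvPolynomial (Fin a) ℤ] MvPolynomial (Fin a) ℤ :=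
      (lcoeff (MvPolynomial (Fin a) ℤ) (a - 1)).comp (modByMonicHom P)
    have hm : P.Monic := monic_prod_of_monic _ _ fun i _ => monic_X_sub_C _
    have hP : P = ∑ i ∈ Finset.range (a + 1),
        ((-1 : MvPolynomial (Fin a) ℤ) ^ i * MvPolynomial.esymm (Fin a) ℤ i) •
          (X : (MvPolynomial (Fin a) ℤ)[X]) ^ (a - i) := by
      have h := Multiset.prod_X_sub_X_eq_sum_esymm
        ((Finset.univ : Finset (Fin a)).val.map (MvPolynomial.X : Fin a → MvPolynomial (Fin a) ℤ))
      rw [Multiset.map_map, Multiset.card_map, Finset.card_val, Finset.card_univ, Fintype.card_fin] at h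
      refine (Eq.trans rfl h).trans (Finset.sum_congr rfl fun i _ => ?_)
      rw [MvPolynomial.esymm_eq_multiset_esymm, smul_eq_C_mul, C_mul, C_pow, C_neg, C_1, mul_assoc]
    have h0 : L ((X : (MvPolynomial (Fin a) ℤ)[X]) ^ (j - 1) * P) = 0 := by
      show ((X ^ (j - 1) * P) %ₘ P).coeff (a - 1) = 0
      rw [(modByMonic_eq_zero_iff_dvd hm).2 (dvd_mul_left P _), coeff_zero]
    nth_rw 1 [hP] at h0
    rw [Finset.mul_sum, map_sum] at h0
    refine Eq.trans (Finset.sum_congr rfl fun i hi => ?_) h0
    rw [Finset.mem_range] at hi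
    rw [mul_smul_comm, map_smul, smul_eq_mul, ← pow_add]
    congr 1
    show coef ((j : ℤ) - i) = ((X ^ (j - 1 + (a - i))) %ₘ P).coeff (a - 1)
    by_cases hji : (j : ℤ) - i < 0
    · have hdeg : ((X : (MvPolynomial (Fin a) ℤ)[X]) ^ (j - 1 + (a - i))).degree < P.degree := by
        rw [degree_X_pow, show P.degree = (a : WithBot ℕ) by simp [P, degree_prod]]
        exact_mod_cast (show j - 1 + (a - i) < a by omega)
      rw [(modByMonic_eq_self_iff hm).2 hdeg, coeff_X_pow, if_neg (by omega)]
      simp only [coef, if_pos hji]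
    · simp only [coef, if_neg hji]
      rw [show a - 1 + ((j : ℤ) - i).toNat = j - 1 + (a - i) by omega]

end Groth.Agent.S3214
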