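import Groth.Statements.S3215
import Groth.Agent.QuadSplitLib.Even

set_option autoImplicit false
universe u
open SGA7II

namespace Groth.Agent.S3215

/-- Let A be a commutative ring and Q(x) = sum over pairs i <= j of a_{ij} x_i x_j a quadratic form in
2m variables on the free module A^{2m} (the source allows a locally free module, which is free
Zariski-locally; the variables indexed by two copies of Fin m, ordered first copy then second),
whose polar bilinear form (matrix entries 2a_{ii} on the diagonal, a_{ij} for i < j) has invertible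
determinant (Q is ordinary). Then there are finitely many etale A-algebras B_t whose spectra jointly
cover Spec A and, over each B_t, an invertible matrix g with Q(g x) = sum_j x_j x_{m+j}, the split
form. -/
theorem result (A : Type u) [CommRing A] (m : ℕ)
    (a : (Fin m ⊕ Fin m) → (Fin m ⊕ Fin m) → A) :
    let rk : Fin m ⊕ Fin m → ℕ := Sum.elim Fin.val (fun k => m + k.val)
    let QB : ∀ (B : Type u) [CommRing B] [Algebra A B], ((Fin m ⊕ Fin m) → B) → B :=
      fun B _ _ x => ∑ i, ∑ j, if rk i ≤ rk j then algebraMap A B (a i j) * x i * x j else 0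
    IsUnit (Matrix.det (Matrix.of fun i j : Fin m ⊕ Fin m =>
      if i = j then a i i + a i i else if rk i ≤ rk j then a i j else a j i)) →
    ∃ (n : ℕ) (B : Fin n → Type u) (_ : ∀ t, CommRing (B t)) (_ : ∀ t, Algebra A (B t)),
      (∀ t, Algebra.Etale A (B t)) ∧
      (∀ p : PrimeSpectrum A, ∃ (t : Fin n) (q : PrimeSpectrum (B t)),
        q.asIdeal.comap (algebraMap A (B t)) = p.asIdeal) ∧
      ∀ t, ∃ g : Matrix (Fin m ⊕ Fin m) (Fin m ⊕ Fin m) (B t), IsUnit g.det ∧
        ∀ x : Fin m ⊕ Fin m → B t, QB (B t) (g.mulVec x) = ∑ j : Fin m, x (Sum.inl j) * x (Sum.inr j) := by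
  classical
  intro rk QB hdet
  let E : Fin m ⊕ Fin m ≃ Fin (2 * m) := finSumFinEquiv.trans (finCongr (two_mul m).symm)
  have hrk : ∀ i, (E i).val = rk i := fun i => by rcases i with i | i <;> simp [E, rk, Nat.add_comm]
  let U : Matrix (Fin (2 * m)) (Fin (2 * m)) A :=
    Matrix.of fun i j => if i ≤ j then a (E.symm i) (E.symm j) else 0
  have hle : ∀ i j, E i ≤ E j ↔ rk i ≤ rk j := fun i j => by rw [Fin.le_def, hrk, hrk]
  have hinj : ∀ i j, rk i = rk j → i = j := fun i j h => E.injective (Fin.ext (by rw [hrk, hrk, h]))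
  have hupm : CliffRegLib.upMat (QuadGrpLib.co U) = U := by
    ext i j
    simp only [CliffRegLib.upMat, Matrix.of_apply, QuadGrpLib.co_mk, U]
    rcases lt_trichotomy i j with h | h | h
    · simp [h.ne, h, h.le, h.not_ge]
    · subst h; simp
    · simp [h.ne', h.not_ge, h.not_gt]
  have hpolar : IsUnit (QuadGrpLib.polarOf (QuadGrpLib.co U)).det := by
    rw [QuadGrpLib.polarOf_co, ← Matrix.det_submatrix_equiv_self E]
    convert hdet using 2
    ext i j
    simp only [Matrix.submatrix_apply, Matrix.add_apply, Matrix.transpose_apply, Matrix.of_apply, U,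
      Equiv.symm_apply_apply, hle]
    by_cases h : i = j
    · subst h; simp
    · rcases lt_trichotomy (rk i) (rk j) with h' | h' | h'
      · simp [h, h'.le, not_le.2 h']
      · exact absurd (hinj _ _ h') h
      · simp [h, h'.le, not_le.2 h']
  obtain ⟨t, B, iC, iA, hE, hcov, hS⟩ := QuadSplitLib.exists_split_cover (QuadGrpLib.co U) hpolar
  refine ⟨t, B, iC, iA, hE, hcov, fun s => ?_⟩
  obtain ⟨g, hg⟩ := hS s
  let L : (Fin m ⊕ Fin m → B s) ≃ₗ[B s] (Fin m ⊕ Fin m → B s) :=
    g.trans (LinearEquiv.funCongrLeft (B s) (B s) E)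
  refine ⟨LinearMap.toMatrix' L.toLinearMap, ?_, fun x => ?_⟩
  · rw [LinearMap.det_toMatrix']
    exact LinearEquiv.isUnit_det' L
  rw [LinearMap.toMatrix'_mulVec, ← hg x, QuadSplitLib.bq, CliffRegLib.qf_apply]
  simp only [QB]
  rw [← E.sum_comp]
  refine Finset.sum_congr rfl fun i _ => ?_
  rw [← E.sum_comp]
  refine Finset.sum_congr rfl fun j _ => ?_
  have hu : CliffRegLib.upMat (algebraMap A (B s) ∘ QuadGrpLib.co U) (E i) (E j) =
      algebraMap A (B s) (U (E i) (E j)) := by
    conv_rhs => rw [← hupm]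
    simp only [CliffRegLib.upMat, Matrix.of_apply, Function.comp_apply]
    split_ifs <;> simp
  rw [hu]
  simp only [U, Matrix.of_apply, Equiv.symm_apply_apply, hle, L, LinearEquiv.coe_coe,
    LinearEquiv.trans_apply, LinearEquiv.funCongrLeft_apply, LinearMap.funLeft_apply]
  split_ifs with h
  · ring
  · simp

end Groth.Agent.S3215
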