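import Mathlib
import Groth.Agent.AzumayaAlg.Fibre
import Groth.Statements.S3245

set_option autoImplicit false
universe u
open TensorProduct
open Dix

namespace Groth.Agent.S3245

/-- (i) ⇔ (ii) over a local base: let R be a local ring with residue field k and A an R-algebra which is
finite and free as an R-module and nonzero. Then A is an Azumaya R-algebra (A ⊗_R A° → End_R(A)
bijective) if and only if k ⊗_R A is a central simple k-algebra. -/
theorem result (R : Type u) [CommRing R] [IsLocalRing R] (A : Type u) [Ring A] [Algebra R A] [Module.Finite R A] [Module.Free R A] [Nontrivial A] : IsAzumaya R A ↔ (Algebra.IsCentral (IsLocalRing.ResidueField R) ((IsLocalRing.ResidueField R) ⊗[R] A) ∧ IsSimpleRing ((IsLocalRing.ResidueField R) ⊗[R] A)) := by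
  haveI : Module.Projective R A := Module.Projective.of_free
  constructor
  · intro hA
    haveI := AzumayaAlg.isAzumaya_baseChange (R := R) (IsLocalRing.ResidueField R) A
    exact AzumayaAlg.isCentral_isSimple_of_isAzumaya _
  · intro h
    refine AzumayaAlg.isAzumaya_of_fibres A fun m hm => ?_
    let e : IsLocalRing.ResidueField R ≃ₐ[R] m.ResidueField :=
      (Ideal.quotientEquivAlgOfEq R (IsLocalRing.eq_maximalIdeal hm).symm).trans
        (AlgEquiv.ofBijective (IsScalarTower.toAlgHom R (R ⧸ m) m.ResidueField) (Ideal.bijective_algebraMap_quotient_residueField m))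
    let E := Algebra.TensorProduct.congr e (AlgEquiv.refl (R := R) (A₁ := A))
    haveI := h.2
    refine ⟨⟨fun z hz => ?_⟩, IsSimpleRing.of_ringEquiv E.toRingEquiv inferInstance⟩
    have hz' : E.symm z ∈ Subalgebra.center (IsLocalRing.ResidueField R) (IsLocalRing.ResidueField R ⊗[R] A) :=
      Subalgebra.mem_center_iff.2 fun y => E.injective (by
        rw [map_mul, map_mul, E.apply_symm_apply]
        exact Subalgebra.mem_center_iff.1 hz _)
    obtain ⟨c, hc⟩ := Algebra.mem_bot.1 (h.1.out hz')
    refine Algebra.mem_bot.2 ⟨e c, ?_⟩
    rw [← E.apply_symm_apply z, ← hc, Algebra.TensorProduct.algebraMap_apply, Algebra.TensorProduct.algebraMap_apply]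
    simp [E]

end Groth.Agent.S3245
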