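import Groth.Statements.S3248
import Mathlib
import Groth.Agent.CSADescent.Tensor
-- import your own Groth.Agent.* helpers here

set_option autoImplicit false
universe u
open TensorProduct
open Dix

namespace Groth.Agent.S3248

/-- Stated for a commutative subalgebra: let A be a central simple algebra of dimension r² over a field
k and L a commutative k-algebra embedded in A by an injective k-algebra homomorphism ι, such that A
is free of rank r for the right L-module structure a · l = a ι(l) (given here as a module structure
together with that compatibility). Then L ⊗_k A is isomorphic as an L-algebra to the matrix algebra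
M_r(L). (Only the existence of an isomorphism is stated; the text names the map a ⊗ l ↦ (y ↦ a y
l).) -/
theorem result (k : Type u) [Field k] (A : Type u) [Ring A] [Algebra k A] [Algebra.IsCentral k A] [IsSimpleRing A] [FiniteDimensional k A] (L : Type u) [CommRing L] [Algebra k L] (ι : L →ₐ[k] A) (hι : Function.Injective ι) [Module L A] (hmod : ∀ (l : L) (a : A), l • a = a * ι l) [Module.Free L A] (r : ℕ) (hr : 0 < r) (hA : Module.finrank k A = r ^ 2) (hrank : Module.finrank L A = r) : Nonempty ((L ⊗[k] A) ≃ₐ[L] Matrix (Fin r) (Fin r) L) := by
  classical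
  haveI : Nontrivial A := Module.nontrivial_of_finrank_pos (R := k) (hA ▸ pow_pos hr 2)
  haveI : Nontrivial L := ι.toRingHom.domain_nontrivial
  haveI : IsScalarTower k L A := ⟨fun c l a => by
    rw [hmod, hmod, map_smul, mul_smul_comm]⟩
  haveI : SMulCommClass L k A := ⟨fun l c a => by rw [hmod, hmod, smul_mul_assoc]⟩
  haveI : SMulCommClass k L A := SMulCommClass.symm _ _ _
  haveI : Module.Finite k L := Module.Finite.of_injective ι.toLinearMap hι
  haveI : Module.Finite L A := Module.Finite.of_restrictScalars_finite k L A
  let f : A →ₐ[k] Module.End L A :=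
    { toFun := fun a =>
        { toFun := fun x => a * x
          map_add' := mul_add a
          map_smul' := fun l x => by simp only [hmod, RingHom.id_apply, mul_assoc] }
      map_one' := LinearMap.ext fun x => one_mul x
      map_mul' := fun a b => LinearMap.ext fun x => mul_assoc a b x
      map_zero' := LinearMap.ext fun x => zero_mul x
      map_add' := fun a b => LinearMap.ext fun x => add_mul a b x
      commutes' := fun c => LinearMap.ext fun x => (Algebra.smul_def c x).symm }
  let Φ : (L ⊗[k] A) →ₐ[L] Module.End L A :=
    Algebra.TensorProduct.lift (Algebra.ofId L (Module.End L A)) f fun l a => Algebra.commutes l (f a)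
  let ιop : L →ₐ[k] Aᵐᵒᵖ := ι.toOpposite fun a b => by
    show ι a * ι b = ι b * ι a
    rw [← map_mul, ← map_mul, mul_comm]
  let ψ : (L ⊗[k] A) →ₐ[k] A ⊗[k] Aᵐᵒᵖ :=
    (Algebra.TensorProduct.map (AlgHom.id k A) ιop).comp (Algebra.TensorProduct.comm k L A).toAlgHom
  have hψ : Function.Injective ψ := by
    have h1 : Function.Injective (ιop.toLinearMap.lTensor A) :=
      Module.Flat.lTensor_preserves_injective_linearMap _ (fun a b h => hι (MulOpposite.op_injective h))
    exact h1.comp (Algebra.TensorProduct.comm k L A).injective
  have hcomp : ∀ (t : L ⊗[k] A) (x : A), AlgHom.mulLeftRight k A (ψ t) x = Φ t x := by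
    intro t x
    induction t using TensorProduct.induction_on with
    | zero => simp
    | tmul l a =>
      show AlgHom.mulLeftRight k A (a ⊗ₜ MulOpposite.op (ι l)) x = (algebraMap L _ l * f a) x
      rw [AlgHom.mulLeftRight_apply]
      show a * x * ι l = l • (a * x)
      rw [hmod]
    | add s t hs ht => simp [map_add, hs, ht]
  have hinj : Function.Injective Φ := fun s t h => hψ <|
    (Groth.Agent.CSADescent.mulLeftRight_bijective (k := k) (A := A)).1 <|
      LinearMap.ext fun x => by rw [hcomp, hcomp, h]
  have hLA : Module.finrank L (L ⊗[k] A) = Module.finrank L (Module.End L A) := by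
    rw [Module.finrank_baseChange, hA, Module.finrank_linearMap, hrank, sq]
  have hkd : Module.finrank k (L ⊗[k] A) = Module.finrank k (Module.End L A) := by
    rw [← Module.finrank_mul_finrank k L (L ⊗[k] A), ← Module.finrank_mul_finrank k L (Module.End L A), hLA]
  have hbij : Function.Bijective Φ := ⟨hinj,
    (LinearMap.injective_iff_surjective_of_finrank_eq_finrank hkd
      (f := Φ.toLinearMap.restrictScalars k)).1 hinj⟩
  let b : Module.Basis (Fin r) L A := (Module.finBasis L A).reindex (finCongr hrank)
  exact ⟨(AlgEquiv.ofBijective Φ hbij).trans (algEquivMatrix b)⟩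

end Groth.Agent.S3248
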