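import Groth.Statements.S3252
import Mathlib.LinearAlgebra.PerfectPairing.Basic
import Mathlib.LinearAlgebra.Determinant

set_option autoImplicit false
universe u
open Zeta

namespace Groth.Agent.S3252

lemma exists_adapted {K V W : Type*} [Field K] [AddCommGroup V] [Module K V] [FiniteDimensional K V]
    [AddCommGroup W] [Module K W] [FiniteDimensional K W] (B : V →ₗ[K] W →ₗ[K] K) [B.IsPerfPair]
    (f : V →ₗ[K] V) (g : W →ₗ[K] W) (c : K) (hfg : ∀ v w, B (f v) (g w) = c * B v w) :
    ∃ (bV : Module.Basis (Fin (Module.finrank K V)) K V) (bW : Module.Basis (Fin (Module.finrank K V)) K W),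
      (LinearMap.toMatrix bV bV f).transpose * LinearMap.toMatrix bW bW g = c • 1 := by
  let bV := Module.finBasis K V
  let e : W ≃ₗ[K] Module.Dual K V := B.flip.toPerfPair
  let bW := bV.dualBasis.map e.symm
  refine ⟨bV, bW, Matrix.ext fun i j => ?_⟩
  have hpair : ∀ l m, B (bV l) (bW m) = if l = m then 1 else 0 := fun l m => by
    rw [show bW m = e.symm (bV.dualBasis m) from Module.Basis.map_apply _ _ _,
      show B (bV l) (e.symm (bV.dualBasis m)) = (bV.dualBasis m) (bV l) from LinearMap.apply_toPerfPair_flip (p := B) _ _]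
    simp [Module.Basis.coe_dualBasis, Finsupp.single_apply]
  have h := hfg (bV i) (bW j)
  rw [hpair, ← bV.sum_repr (f (bV i)), ← bW.sum_repr (g (bW j))] at h
  simp only [map_sum, map_smul, LinearMap.sum_apply, LinearMap.smul_apply, hpair, smul_eq_mul, mul_ite, mul_one,
    mul_zero, Finset.sum_ite_eq', Finset.sum_ite_eq, Finset.mem_univ, if_true] at h
  simp only [Matrix.mul_apply, Matrix.transpose_apply, LinearMap.toMatrix_apply, Matrix.smul_apply, Matrix.one_apply,
    smul_eq_mul, mul_ite, mul_one, mul_zero]
  rw [← h]
  exact Finset.sum_congr rfl fun l _ => mul_comm _ _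

/-- Let V and W be finite-dimensional vector spaces over a field L, B : V × W -> L a perfect pairing, F
an endomorphism of V and G an endomorphism of W with B(F v, G w) = c · B(v, w) for all v, w, where c
is a scalar (in the application, V = H^i, W = H^{2d-i}, F and G Frobenius, c = q^d). Then det F ·
det G = c ^ dim V. -/
theorem result (L : Type u) [Field L] (V W : Type u)
    [AddCommGroup V] [Module L V] [FiniteDimensional L V] [AddCommGroup W] [Module L W] [FiniteDimensional L W]
    (B : V →ₗ[L] W →ₗ[L] L) [B.IsPerfPair] (F : V →ₗ[L] V) (G : W →ₗ[L] W) (c : L)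
    (hFG : ∀ (v : V) (w : W), B (F v) (G w) = c * B v w) :
    LinearMap.det F * LinearMap.det G = c ^ Module.finrank L V := by
  obtain ⟨bV, bW, h⟩ := exists_adapted B F G c hFG
  have := congrArg Matrix.det h
  rw [Matrix.det_mul, Matrix.det_transpose, Matrix.det_smul, Matrix.det_one, mul_one, Fintype.card_fin,
    LinearMap.det_toMatrix, LinearMap.det_toMatrix] at this
  exact this

end Groth.Agent.S3252
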