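import Groth.Statements.S3256
import Groth.Agent.SurfPtBlow.RelMin
-- import your own Groth.Agent.* helpers here

set_option autoImplicit false
set_option backward.isDefEq.respectTransparency false
set_option maxHeartbeats 800000
set_option synthInstance.maxHeartbeats 200000
universe u
open AlgebraicGeometry CategoryTheory CategoryTheory.Limits
open ArSurf

namespace Groth.Agent.S3256

/-- Let R be a Dedekind domain and X an arithmetic surface over Spec R. Then there are a relatively
minimal arithmetic surface Y over Spec R and an R-morphism X -> Y inducing an isomorphism on generic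
fibres. -/
theorem result {R : Type u} [CommRing R] [IsDedekindDomain R]
    (X : Over (Spec (CommRingCat.of R))) (hX : ArSurf.IsArithSurface R X) :
    ∃ (Y : Over (Spec (CommRingCat.of R))) (f : X ⟶ Y), ArSurf.IsArithSurface R Y ∧
      Neron.IsRelMinimalRegularModel R Y ∧ IsIso ((Neron.genericFibre R).map f) := by
    classical
    let P : ℕ → Prop := fun n => ∃ (Y : Over (Spec (CommRingCat.of R))) (f : X ⟶ Y), ArSurf.IsArithSurface R Y ∧
      IsIso ((Neron.genericFibre R).map f) ∧ (SurfPtBlow.badSet X.left \ SurfPtBlow.contracted f.left).ncard = n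
    have hP : ∃ n, P n := ⟨_, X, 𝟙 X, hX, by rw [CategoryTheory.Functor.map_id]; infer_instance, rfl⟩
    obtain ⟨Y, f, hY, hf, hn⟩ := Nat.find_spec hP
    refine ⟨Y, f, hY, ⟨hY.1, hY.2.2.2.2, hY.2.2.2.1, fun Y' hY'r hY'p hY'f g hg => ?_⟩, hf⟩
    by_contra hgi
    obtain ⟨hY', V₀, hV₀, hV₀i⟩ := SurfPtBlow.arith_of_generic_iso hg hY hY'r hY'p hY'f
    haveI := hX.2.1
    haveI := hY.2.1
    haveI := hY'.2.1
    haveI := (SurfPtBlow.arSurf_facts hX).2
    haveI := (SurfPtBlow.arSurf_facts hY).2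
    haveI := (SurfPtBlow.arSurf_facts hY').2
    haveI := SurfPtBlow.isProper_hom_left hX hY f
    haveI := SurfPtBlow.isProper_hom_left hY hY' g
    obtain ⟨-, V₁, hV₁, hV₁i⟩ := SurfPtBlow.arith_of_generic_iso hf hX hY.1 hY.2.2.2.2 hY.2.2.2.1
    have hfg : IsIso ((Neron.genericFibre R).map (f ≫ g)) := by
      haveI := hf
      haveI := hg
      rw [Functor.map_comp]; infer_instance
    obtain ⟨-, V₂, hV₂, hV₂i⟩ := SurfPtBlow.arith_of_generic_iso hfg hX hY'r hY'p hY'f
    have hsub := SurfPtBlow.contracted_subset_badSet hfg hX hY' ⟨V₂, hV₂, hV₂i⟩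
    have hmono : SurfPtBlow.contracted f.left ⊆ SurfPtBlow.contracted (f ≫ g).left := fun ξ hξ => ⟨hξ.1, by
      rw [Over.comp_left, Scheme.Hom.comp_apply, ← Set.image_singleton]
      exact g.left.isClosedMap _ hξ.2⟩
    have hsurj : ∀ {A B : Scheme.{u}} [IsIntegral A] [IsIntegral B] (h : A ⟶ B) [IsProper h] (V : B.Opens),
        (V : Set B).Nonempty → IsIso (h ∣_ V) → Function.Surjective h := fun h _ V hV hVi z => by
      obtain ⟨hgen, -⟩ := BirQFLib.birational_of_isIso_restrict h V hV hVi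
      have hz := BirQFLib.denseRange_generic h hgen z
      rwa [h.isClosedMap.isClosed_range.closure_eq] at hz
    obtain ⟨y, hy⟩ : ∃ y : Y'.left, ∀ V : Y'.left.Opens, y ∈ V → ¬ IsIso (g.left ∣_ V) := by
      by_contra h
      push Not at h
      choose V hV hVi using h
      haveI : IsIso g.left := (IsZariskiLocalAtTarget.iff_of_iSup_eq_top (P := MorphismProperty.isomorphisms Scheme) V
        (top_le_iff.1 fun y _ => TopologicalSpace.Opens.mem_iSup.2 ⟨y, hV y⟩)).2 hVi
      haveI : IsIso ((Over.forget _).map g) := ‹IsIso g.left›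
      exact hgi (isIso_of_reflects_iso g (Over.forget _))
    obtain ⟨hyc, -⟩ := SurfPtBlow.closed_of_not_iso hY'.1 hY'.2.2.1.le g.left ⟨V₀, hV₀, hV₀i⟩ y hy
    have hn' : IsIntegrallyClosed (Y'.left.presheaf.stalk y) := by
      haveI := hY'r y
      exact (PurityLib.isIntegrallyClosed_of_regular _).2
    obtain ⟨ξ, hξ, hξy⟩ := SurfPtBlow.exists_contracted g.left ⟨V₀, hV₀, hV₀i⟩ y hyc hn' (hsurj g.left V₀ hV₀ hV₀i) hy
    obtain ⟨ζ, hζ⟩ := hsurj f.left V₁ hV₁ hV₁i ξ
    have hζc : ¬ IsClosed ({ζ} : Set X.left) := fun hc => hξ.1 (by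
      rw [← hζ, ← Set.image_singleton]; exact f.left.isClosedMap _ hc)
    have hζ1 : ζ ∈ SurfPtBlow.contracted (f ≫ g).left := ⟨hζc, by
      rw [Over.comp_left, Scheme.Hom.comp_apply, hζ]; exact hξ.2⟩
    have hζ2 : ζ ∉ SurfPtBlow.contracted f.left := fun h => hξ.1 (hζ ▸ h.2)
    have hlt : (SurfPtBlow.badSet X.left \ SurfPtBlow.contracted (f ≫ g).left).ncard <
        (SurfPtBlow.badSet X.left \ SurfPtBlow.contracted f.left).ncard :=
      Set.ncard_lt_ncard ⟨Set.sdiff_subset_sdiff_right hmono, fun h => (h ⟨hsub hζ1, hζ2⟩).2 hζ1⟩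
        ((SurfPtBlow.finite_badSet hX).subset Set.sdiff_subset)
    exact absurd (Nat.find_le (h := hP) ⟨Y', f ≫ g, hY', hfg, rfl⟩) (not_le.2 (hn ▸ hlt))

end Groth.Agent.S3256
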