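import Groth.Statements.S3257
import Groth.Agent.SurfPtBlow.Factor
import Groth.Agent.SurfPtBlow.ArSurfFacts
-- import your own Groth.Agent.* helpers here

set_option autoImplicit false
set_option backward.isDefEq.respectTransparency false
set_option maxHeartbeats 800000
set_option synthInstance.maxHeartbeats 200000
universe u
open AlgebraicGeometry CategoryTheory CategoryTheory.Limits
open ArSurf

namespace Groth.Agent.S3257

/-- Let R be a Dedekind domain, X and Y arithmetic surfaces over Spec R, f : X -> Y an R-morphism and y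
a closed point of Y such that f restricts to an isomorphism over Y minus y while the fibre of f over
y is irreducible and has more than one point (so the exceptional locus of the birational morphism f
is irreducible). Then f is the blowing-up of Y at y: it has the universal property of the blow-up
along the ideal of the reduced closed point y (BlowUp.IsBlowUp). (The factorization result of the
source says more generally that every birational morphism of regular fibered surfaces is a finite
sequence of blow-ups of closed points.) -/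
theorem result {R : Type u} [CommRing R] [IsDedekindDomain R]
    (X Y : Over (Spec (CommRingCat.of R))) (hX : ArSurf.IsArithSurface R X) (hY : ArSurf.IsArithSurface R Y)
    (f : X ⟶ Y) (y : Y.left) (hy : IsClosed ({y} : Set Y.left))
    (hiso : IsIso (f.left ∣_ (⟨{y}ᶜ, hy.isOpen_compl⟩ : Y.left.Opens)))
    (hirr : IsPreirreducible (f.left.base ⁻¹' {y}))
    (hbig : ∃ x x' : X.left, x ≠ x' ∧ f.left.base x = y ∧ f.left.base x' = y) :
    BlowUp.IsBlowUp f.left (Scheme.IdealSheafData.vanishingIdeal ⟨{y}, hy⟩) := by
    haveI := (SurfPtBlow.arSurf_facts hX).2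
    haveI := (SurfPtBlow.arSurf_facts hY).2
    haveI := hX.2.1
    haveI := hY.2.1
    haveI := SurfPtBlow.isProper_hom_left hX hY f
    let U : Y.left.Opens := ⟨{y}ᶜ, hy.isOpen_compl⟩
    have hnot : ∀ V : Y.left.Opens, y ∈ V → ¬ IsIso (f.left ∣_ V) := fun V hV hiso => by
      obtain ⟨x, x', hne, hx, hx'⟩ := hbig
      haveI := hiso
      refine hne (congrArg Subtype.val ((f.left ∣_ V).homeomorph.injective (a₁ := ⟨x, show f.left x ∈ V from hx.symm ▸ hV⟩)
        (a₂ := ⟨x', show f.left x' ∈ V from hx'.symm ▸ hV⟩) (Subtype.ext ?_)))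
      rw [Scheme.Hom.homeomorph_apply, Scheme.Hom.homeomorph_apply, morphismRestrict_base]
      exact hx.trans hx'.symm
    have hηU : genericPoint Y.left ∈ U := fun h => by
      rw [Set.mem_singleton_iff] at h
      have h1 : closure {genericPoint Y.left} = Set.univ := genericPoint_closure _
      rw [h, hy.closure_eq] at h1
      have hall : ∀ z : Y.left, z = y := fun z => (h1.symm ▸ Set.mem_univ z : z ∈ ({y} : Set Y.left))
      haveI : Subsingleton Y.left := ⟨fun a b => (hall a).trans (hall b).symm⟩
      have := hY.2.2.1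
      rw [ASp.topologicalKrullDim_eq_krullDim (A := Y.left), Order.krullDim_eq_zero] at this
      exact absurd this (by norm_num)
    have hbir : ∃ V : Y.left.Opens, (V : Set Y.left).Nonempty ∧ IsIso (f.left ∣_ V) := ⟨U, ⟨_, hηU⟩, hiso⟩
    obtain ⟨hy', hd, Y', π, hπ, g, hg⟩ :=
      SurfPtBlow.exists_factor_step hX.1 hX.2.2.1.le hY.1 hY.2.2.1.le f.left hbir y hnot
    obtain ⟨hN, hint, hprop, hbg, hsurj⟩ := SurfPtBlow.factor_props f.left hbir hd π hπ g hg
    haveI := hN
    haveI := hint
    haveI := hprop
    have hY' := SurfPtBlow.regular_blowUp hπ hY.1 hd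
    have hdY' : topologicalKrullDim Y' ≤ 2 :=
      (SurfPtBlow.topologicalKrullDim_le_of_isClosedMap g.continuous g.isClosedMap hsurj).trans hX.2.2.1.le
    have hfy : ∀ ξ ∈ SurfPtBlow.contracted f.left, f.left ξ = y := fun ξ hξ => by
      by_contra hne
      exact SurfPtBlow.mem_not_iso_of_contracted f.left hξ U hne hiso
    obtain ⟨γ, hγ⟩ := QuasiSober.sober (α := X.left)
      (show IsIrreducible (f.left.base ⁻¹' {y}) from ⟨⟨hbig.choose, hbig.choose_spec.choose_spec.2.1⟩, hirr⟩)
      (hy.preimage f.left.continuous)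
    have hηX : genericPoint X.left ∉ f.left.base ⁻¹' {y} := fun h => hηU (by
      obtain ⟨V, hV, hVi⟩ := hbir
      exact (BirQFLib.birational_of_isIso_restrict f.left V hV hVi).1.symm.trans h)
    have hone : ∀ ξ ∈ SurfPtBlow.contracted f.left, ξ = γ := fun ξ hξ =>
      SurfPtBlow.eq_of_not_closed hX.2.2.1.le hγ hηX (hfy ξ hξ) hξ.1
    obtain ⟨ξ₀, hξ₀, hξ₀g⟩ := SurfPtBlow.exists_contracted_sdiff hY.1 f.left hd π hπ g hg hsurj
    have hall : ∀ z : Y', ∃ V : Y'.Opens, z ∈ V ∧ IsIso (g ∣_ V) := fun z => by
      by_contra h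
      push Not at h
      obtain ⟨hzc, -⟩ := SurfPtBlow.closed_of_not_iso hY' hdY' g hbg z h
      obtain ⟨ξ, hξ, -⟩ := SurfPtBlow.exists_contracted g hbg z hzc
        (haveI := hY' z; (PurityLib.isIntegrallyClosed_of_regular _).2) hsurj h
      have hξf : ξ ∈ SurfPtBlow.contracted f.left := ⟨hξ.1, by
        haveI := TwistShriek.PointBlow.isProper hπ
        rw [← hg, Scheme.Hom.comp_apply, ← Set.image_singleton]
        exact π.isClosedMap _ hξ.2⟩
      exact hξ₀g ((hone ξ₀ hξ₀).trans (hone ξ hξf).symm ▸ hξ)
    haveI : IsIso g := by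
      choose V hV hVi using hall
      exact (IsZariskiLocalAtTarget.iff_of_iSup_eq_top (P := MorphismProperty.isomorphisms Scheme) V
        (top_le_iff.1 fun z _ => TopologicalSpace.Opens.mem_iSup.2 ⟨z, hV z⟩)).2 hVi
    rw [← hg]
    exact AlmostBlowLib.isBlowUp_of_iso hπ (asIso g)

end Groth.Agent.S3257
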