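import Groth.Statements.S3260
import Groth.Agent.EtSurfLib.Transfer
import Groth.Agent.CanonFacLib.ExcFinite
import Groth.Agent.S7314

set_option backward.isDefEq.respectTransparency false
set_option maxHeartbeats 2000000
set_option synthInstance.maxHeartbeats 200000
set_option linter.style.haveILetI false

set_option autoImplicit false
universe u
open AlgebraicGeometry CategoryTheory CategoryTheory.Limits
open ArSurf

namespace Groth.Agent.S3260

noncomputable section
open Groth.Agent

attribute [local instance 10] specializationOrder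

/-- The genus condition passes to localisations. -/
theorem genus_loc {R : Type u} [CommRing R] [IsDomain R] (m : Ideal R) [m.IsPrime] (A : Type u) [CommRing A] [IsDomain A]
    [IsDiscreteValuationRing A] [Algebra R A] [IsLocalization.AtPrime A m] (X : Over (Spec (CommRingCat.of R)))
    (Xl : Over (Spec (CommRingCat.of A))) (pr : Xl.left ⟶ X.left)
    (sq : IsPullback pr Xl.hom X.hom (Spec.map (CommRingCat.ofHom (algebraMap R A))))
    (hg : FGA.eulerCharLE (FractionRing R) ((Neron.genericFibre R).obj X).left (Coh.structureModule _) 1 ≤ 0) :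
    FGA.eulerCharLE (FractionRing A) ((Neron.genericFibre A).obj Xl).left (Coh.structureModule _) 1 ≤ 0 := by
  haveI : FaithfulSMul R A := (faithfulSMul_iff_algebraMap_injective R A).2
    (IsLocalization.injective A (Ideal.primeCompl_le_nonZeroDivisors m))
  haveI : FaithfulSMul R (FractionRing A) := (faithfulSMul_iff_algebraMap_injective R _).2 (by
    rw [IsScalarTower.algebraMap_eq R A (FractionRing A)]
    exact (IsFractionRing.injective A (FractionRing A)).comp (FaithfulSMul.algebraMap_injective R A))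
  haveI : IsFractionRing R (FractionRing A) := IsFractionRing.of_field R (FractionRing A) fun z => by
    obtain ⟨a, b, hb, rfl⟩ := IsFractionRing.div_surjective A z
    obtain ⟨x, s, rfl⟩ := IsLocalization.exists_mk'_eq m.primeCompl a
    obtain ⟨y, t, rfl⟩ := IsLocalization.exists_mk'_eq m.primeCompl b
    refine ⟨x * t, y * s, ?_⟩
    have hne : ∀ r : m.primeCompl, algebraMap R (FractionRing A) r ≠ 0 := fun r h =>
      r.2 (by rw [(map_eq_zero_iff _ (FaithfulSMul.algebraMap_injective R (FractionRing A))).1 h]; exact m.zero_mem)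
    have e : ∀ (p : R) (r : m.primeCompl), algebraMap A (FractionRing A) (IsLocalization.mk' A p r) =
        algebraMap R (FractionRing A) p / algebraMap R (FractionRing A) r := fun p r => by
      rw [eq_div_iff (hne r), IsScalarTower.algebraMap_apply R A (FractionRing A) r, ← map_mul,
        IsLocalization.mk'_spec, ← IsScalarTower.algebraMap_apply]
    rw [e, e, map_mul, map_mul, div_div_div_eq, mul_comm (algebraMap R (FractionRing A) (s : R))]
  let φ : FractionRing R ≃ₐ[R] FractionRing A := IsLocalization.algEquiv (nonZeroDivisors R) _ _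
  letI : Algebra (FractionRing R) (FractionRing A) := φ.toRingEquiv.toRingHom.toAlgebra
  let w := Spec.map (CommRingCat.ofHom (algebraMap (FractionRing R) (FractionRing A)))
  haveI : IsIso w := by
    haveI : IsIso (CommRingCat.ofHom (algebraMap (FractionRing R) (FractionRing A))) :=
      inferInstanceAs (IsIso φ.toRingEquiv.toCommRingCatIso.hom)
    infer_instance
  have hbase : w ≫ Neron.genPt R = Neron.genPt A ≫ Spec.map (CommRingCat.ofHom (algebraMap R A)) := by
    show w ≫ Spec.map _ = Spec.map _ ≫ Spec.map _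
    rw [← Spec.map_comp, ← Spec.map_comp]
    congr 1
    ext r
    exact φ.commutes r
  let P := ((Neron.genericFibre R).obj X).left
  let Q := ((Neron.genericFibre A).obj Xl).left
  have sP : IsPullback (pullback.fst X.hom (Neron.genPt R)) (pullback.snd X.hom (Neron.genPt R)) X.hom (Neron.genPt R) :=
    IsPullback.of_hasPullback _ _
  have sQ : IsPullback (pullback.fst Xl.hom (Neron.genPt A)) (pullback.snd Xl.hom (Neron.genPt A)) Xl.hom (Neron.genPt A) :=
    IsPullback.of_hasPullback _ _
  let g : Q ⟶ P := sP.lift (pullback.fst Xl.hom (Neron.genPt A) ≫ pr) (pullback.snd Xl.hom (Neron.genPt A) ≫ w) (by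
    simp only [Category.assoc, sq.w, hbase]
    rw [pullback.condition_assoc])
  have hbig : IsPullback (g ≫ pullback.fst X.hom (Neron.genPt R)) (pullback.snd Xl.hom (Neron.genPt A)) X.hom
      (w ≫ Neron.genPt R) := by
    rw [sP.lift_fst, hbase]
    exact sQ.paste_horiz sq
  have hG : IsPullback g (pullback.snd Xl.hom (Neron.genPt A)) (pullback.snd X.hom (Neron.genPt R)) w :=
    IsPullback.of_right hbig (sP.lift_snd _ _ _) sP
  haveI : IsIso g := (MorphismProperty.isomorphisms Scheme).of_isPullback hG.flip (show IsIso w from inferInstance)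
  letI oQ : Q.Over (Spec (CommRingCat.of (FractionRing R))) :=
    ⟨g ≫ (P ↘ Spec (CommRingCat.of (FractionRing R)))⟩
  have hrank : Module.finrank (FractionRing R) (FractionRing A) = 1 := by
    rw [← (AlgEquiv.ofBijective (Algebra.ofId (FractionRing R) (FractionRing A))
      φ.bijective).toLinearEquiv.finrank_eq, Module.finrank_self]
  have hh : ∀ i, Module.finrank (FractionRing A) (Coh.HH Q (Coh.structureModule Q) i) =
      Module.finrank (FractionRing R) (Coh.HH P (Coh.structureModule P) i) := fun i => by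
    have hov : (Q ↘ Spec (CommRingCat.of (FractionRing A))) ≫ w = Q ↘ Spec (CommRingCat.of (FractionRing R)) :=
      hG.w.symm
    have h1 := CastLib.finrank_restrict (k := FractionRing R) (k' := FractionRing A) Q hov (Coh.structureModule Q) i
    rw [hrank, one_mul] at h1
    haveI : Coh.IsQCoh (Coh.structureModule P) := CohBase.isQCoh_structureModule
    rw [← h1, ← CurveP1Lib.finrank_HH_pullback (k := FractionRing R) g rfl (Coh.structureModule P) i]
    exact (ShBCLib.finrank_HH_iso (K := FractionRing R) (AmpleLib.pullO g) i).symm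
  show FGA.eulerCharLE (FractionRing A) Q (Coh.structureModule Q) 1 ≤ 0
  refine le_of_eq_of_le ?_ hg
  unfold FGA.eulerCharLE
  simp only [hh]
  rfl

variable {R R' : Type u} [CommRing R] [IsDedekindDomain R] [CommRing R'] [IsDedekindDomain R'] [Algebra R R']
  [Algebra.Etale R R']

theorem lqf (R R' : Type u) [CommRing R] [CommRing R'] [Algebra R R'] [Algebra.Etale R R'] :
    LocallyQuasiFinite (Spec.map (CommRingCat.ofHom (algebraMap R R'))) :=
  (HasRingHomProperty.Spec_iff (P := @LocallyQuasiFinite)).2 (RingHom.quasiFinite_algebraMap.2 inferInstance)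

theorem eq_of_specializes {Y Z : Scheme.{u}} (q : Y ⟶ Z) [LocallyQuasiFinite q] (a b : Y) (h : a ⤳ b) (he : q a = q b) :
    a = b := by
  haveI := (q.isDiscrete_preimage_singleton (q b)).to_subtype
  have h2 : (⟨a, he⟩ : q ⁻¹' {q b}) ⤳ ⟨b, rfl⟩ := (subtype_specializes_iff _ _).2 h
  exact congrArg Subtype.val h2.eq

/-- Exceptional curves descend along étale extensions of the base. -/
theorem exists_exc_below (hR : ¬ IsField R) (X : Over (Spec (CommRingCat.of R))) (hX : ArSurf.IsArithSurface R X)
    (hg : FGA.eulerCharLE (FractionRing R) ((Neron.genericFibre R).obj X).left (Coh.structureModule _) 1 ≤ 0)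
    (X' : Over (Spec (CommRingCat.of R'))) (hX' : ArSurf.IsArithSurface R' X') (q : X'.left ⟶ X.left)
    (sq : IsPullback q X'.hom X.hom (Spec.map (CommRingCat.ofHom (algebraMap R R'))))
    {E : Scheme.{u}} (ι : E ⟶ X'.left) [IsClosedImmersion ι] (hE : Models.IsExcCurve ι)
    (m' : Ideal R') [m'.IsMaximal] (hm' : m' ≠ ⊥) (hι : ∀ e, ((X'.hom (ι e) : PrimeSpectrum R')).asIdeal = m') :
    ∃ (C : Scheme.{u}) (j : C ⟶ X.left) (_ : IsClosedImmersion j), Models.IsExcCurve j := by
  let v := Spec.map (CommRingCat.ofHom (algebraMap R R'))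
  haveI : Etale v := (HasRingHomProperty.Spec_iff (P := @Etale)).2 (RingHom.etale_algebraMap.2 inferInstance)
  haveI : LocallyQuasiFinite v := lqf R R'
  let m : Ideal R := m'.comap (algebraMap R R')
  haveI : m.IsPrime := inferInstance
  have hm0 : m ≠ ⊥ := fun h => hm' (by
    have he : v (⟨⊥, Ideal.isPrime_bot⟩ : PrimeSpectrum R') = v (⟨m', inferInstance⟩ : PrimeSpectrum R') := by
      apply PrimeSpectrum.ext
      refine Eq.trans ?_ h.symm
      exact le_bot_iff.1 ((Ideal.comap_mono (bot_le : (⊥ : Ideal R') ≤ m')).trans h.le)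
    exact (congrArg PrimeSpectrum.asIdeal
      (eq_of_specializes v _ _ ((PrimeSpectrum.le_iff_specializes _ _).1 bot_le) he)).symm)
  haveI : m.IsMaximal := (inferInstance : m.IsPrime).isMaximal hm0
  let A := Localization.AtPrime m
  let A' := Localization.AtPrime m'
  haveI : IsDiscreteValuationRing A := IsLocalization.AtPrime.isDiscreteValuationRing_of_dedekind_domain R hm0 A
  haveI : IsDiscreteValuationRing A' := IsLocalization.AtPrime.isDiscreteValuationRing_of_dedekind_domain R' hm' A'
  let ρ : A →+* A' := Localization.localRingHom m m' (algebraMap R R') rfl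
  haveI : IsLocalHom ρ := Localization.isLocalHom_localRingHom m m' (algebraMap R R') rfl
  let l := Spec.map (CommRingCat.ofHom (algebraMap R A))
  let l' := Spec.map (CommRingCat.ofHom (algebraMap R' A'))
  let u := Spec.map (CommRingCat.ofHom ρ)
  have hbase : u ≫ l = l' ≫ v := by
    show Spec.map _ ≫ Spec.map _ = Spec.map _ ≫ Spec.map _
    rw [← Spec.map_comp, ← Spec.map_comp]
    congr 1
    ext r
    exact Localization.localRingHom_to_map m m' (algebraMap R R') rfl r
  let Xl : Over (Spec (CommRingCat.of A)) := (Over.pullback l).obj X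
  let pr : Xl.left ⟶ X.left := pullback.fst X.hom l
  have sl : IsPullback pr Xl.hom X.hom l := IsPullback.of_hasPullback _ _
  let Xl' : Over (Spec (CommRingCat.of A')) := (Over.pullback u).obj Xl
  let ql : Xl'.left ⟶ Xl.left := pullback.fst Xl.hom u
  have su : IsPullback ql Xl'.hom Xl.hom u := IsPullback.of_hasPullback _ _
  let pr' : Xl'.left ⟶ X'.left := sq.lift (ql ≫ pr) (Xl'.hom ≫ l') (by
    simp only [Category.assoc, sl.w]
    rw [reassoc_of% su.w, hbase])
  have hq' : pr' ≫ q = ql ≫ pr := sq.lift_fst _ _ _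
  have sl' : IsPullback pr' Xl'.hom X'.hom l' := by
    refine IsPullback.of_right ?_ (sq.lift_snd _ _ _) sq
    rw [hq', ← hbase]
    exact su.paste_horiz sl
  obtain ⟨ι', hι'1, hι'i, sqE, hι'c⟩ := EtSurf.exists_lift_curve m' sl' ι hι
  haveI := hι'i
  obtain ⟨hp', hf', -⟩ := EtSurf.pr_facts m' sl'
  haveI := hp'
  haveI := hf'
  obtain ⟨hp, hf, hr⟩ := EtSurf.pr_facts m sl
  haveI := hp
  haveI := hf
  have hE' : Models.IsExcCurve ι' := EtSurf.exc_up pr' ι ι' sqE hE
  obtain ⟨-, k₀, _, e, -⟩ := id hE
  haveI := SurfPtBlow.isIntegral_P1 (k := k₀)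
  haveI : Nonempty E := ⟨e.hom (genericPoint _)⟩
  haveI : IsIntegral E := isIntegral_of_isOpenImmersion e.inv
  haveI := hX.2.1
  haveI := hX'.2.1
  haveI := (SurfPtBlow.arSurf_facts hX).2
  -- the chain upstairs
  obtain ⟨c₀, hc₀⟩ : ∃ c, c ≠ genericPoint E := by
    by_contra h
    push Not at h
    haveI : Subsingleton E := ⟨fun a b => (h a).trans (h b).symm⟩
    haveI : Subsingleton (CohB1.ProjSpace 1 k₀) := e.hom.homeomorph.injective.subsingleton
    have h0 := topologicalKrullDim_zero_of_discreteTopology (CohB1.ProjSpace 1 k₀)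
    rw [SurfPtBlow.dim_P1] at h0
    exact absurd h0 (by decide)
  let ξ' := ι' (genericPoint E)
  have hg' : X'.hom (genericPoint X'.left) = genericPoint (Spec (CommRingCat.of R')) := CastLib.apply_genericPoint hX'
  obtain ⟨η', hη'⟩ := (EtSurf.pr_facts m' sl').2.2 (genericPoint X'.left) (by
    rw [hg', CastLib.asIdeal_genericPoint]
    exact bot_le)
  have hgs : η' ⤳ ξ' := pr'.isEmbedding.isInducing.specializes_iff.1 (hη' ▸ genericPoint_specializes _)
  have hne' : η' ≠ ξ' := fun h => hm' (by
    have h1 : pr' ξ' = ι (genericPoint E) := by rw [← hι'1]; rfl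
    rw [← h, hη'] at h1
    rw [← hι (genericPoint E), ← h1, hg', CastLib.asIdeal_genericPoint])
  have hcs : ξ' ⤳ ι' c₀ := (genericPoint_specializes c₀).map ι'.continuous
  have hcne : ξ' ≠ ι' c₀ := fun h => hc₀ (ι'.isClosedEmbedding.injective h.symm)
  have hd' : (2 : WithBot ℕ∞) ≤ topologicalKrullDim Xl'.left :=
    EtSurf.exists_lift_chain (𝟙 _) (c := ι' c₀) hgs hcs hne' hcne
  have hXl' : ArSurf.IsArithSurface A' Xl' := EtSurf.locSurf m' sl' hX' hd'
  -- the chain downstairs
  have hstrict : ∀ a b : Xl'.left, a ⤳ b → ql a = ql b → a = b := fun a b hab he => by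
    haveI : LocallyQuasiFinite q := MorphismProperty.of_isPullback (P := @LocallyQuasiFinite) sq.flip inferInstance
    refine pr'.isEmbedding.injective (eq_of_specializes q _ _ (hab.map pr'.continuous) ?_)
    simp only [← Scheme.Hom.comp_apply, hq']
    simp only [Scheme.Hom.comp_apply, he]
  have hd : (2 : WithBot ℕ∞) ≤ topologicalKrullDim Xl.left :=
    EtSurf.exists_lift_chain (𝟙 _) (c := ql (ι' c₀)) (hgs.map ql.continuous) (hcs.map ql.continuous)
      (fun h => hne' (hstrict _ _ hgs h)) (fun h => hcne (hstrict _ _ hcs h))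
  have hXl : ArSurf.IsArithSurface A Xl := EtSurf.locSurf m sl hX hd
  obtain ⟨ω, hω⟩ := CanonFac.exists_canonical hXl
  obtain ⟨ω', hω'⟩ := CanonFac.exists_canonical hXl'
  haveI := hXl.2.1
  haveI := hXl'.2.1
  haveI := (SurfPtBlow.arSurf_facts hXl).1
  haveI := (SurfPtBlow.arSurf_facts hXl).2
  haveI := (SurfPtBlow.arSurf_facts hXl').1
  haveI := (SurfPtBlow.arSurf_facts hXl').2
  obtain ⟨n, i, hi, hiX⟩ := hXl.2.2.2.2
  haveI := hi
  obtain ⟨eω⟩ := S13307.result Xl.left (Spec (CommRingCat.of A)) (Spec (CommRingCat.of A')) Xl.hom u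
    ⟨n, i, inferInstance, hiX⟩ (Or.inl hXl.2.2.2.1) ω hω ω' hω'
  obtain ⟨Γ', hΓ'k, hneg⟩ := CanonFac.exists_neg_of_excCurve hXl' hω' ι' hE' hι'c
  haveI := Γ'.isClosedImmersion
  haveI := Γ'.isIntegral
  let ξ := ql (Γ'.ι (genericPoint Γ'.curve.left))
  -- the image curve
  have hloc : ∀ z : Γ'.curve.left, Xl'.hom (Γ'.ι z) = IsLocalRing.closedPoint A' := fun z =>
    CastLib.apply_eq_closedPoint Γ'.ι Xl'.hom Γ'.curve.hom Γ'.w z
  have hu : u (IsLocalRing.closedPoint A') = IsLocalRing.closedPoint A := IsLocalRing.comap_closedPoint ρ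
  have hξv : ∀ z : Γ'.curve.left, Xl.hom (ql (Γ'.ι z)) = IsLocalRing.closedPoint A := fun z => by
    have := congrArg (fun f => f (Γ'.ι z)) su.w
    simp only [Scheme.Hom.comp_apply] at this
    rw [this, hloc, hu]
  have lt : ∀ {T : Scheme.{u}} {p r : T}, p ⤳ r → r ≠ p → r < p := fun {T p r} h hne => lt_of_le_not_ge
    (Scheme.le_iff_specializes.2 h) fun h' => hne ((Scheme.le_iff_specializes.1 h').antisymm h).eq
  have hξ1 : Order.coheight ξ = 1 := by
    have hmem : Γ'.ι (genericPoint Γ'.curve.left) = ξ' := by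
      have h1 := congrArg Scheme.IdealSheafData.support hΓ'k
      rw [CanonFac.ker_eq_cl Γ'.ι, CanonFac.ker_eq_cl ι'] at h1
      have ha : ξ' ∈ (CastLib.cl (Γ'.ι (genericPoint Γ'.curve.left))).support := by
        rw [h1, CastLib.mem_support_cl]
      have hb : Γ'.ι (genericPoint Γ'.curve.left) ∈ (CastLib.cl ξ').support := by
        rw [← h1, CastLib.mem_support_cl]
      rw [CastLib.mem_support_cl] at ha hb
      exact (ha.antisymm hb).eq
    have hξe : ξ = ql ξ' := congrArg ql hmem
    have h0 : Order.krullDim Xl.left ≤ 2 := by rw [← ASp.topologicalKrullDim_eq_krullDim]; exact hXl.2.2.1.le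
    have e1 := Order.coheight_add_one_le (lt (hgs.map ql.continuous) fun h => hne' (hstrict _ _ hgs h.symm))
    have e2 := Order.coheight_add_one_le (lt (hcs.map ql.continuous) fun h => hcne (hstrict _ _ hcs h.symm))
    have e3 : Order.coheight (ql (ι' c₀)) ≤ 2 :=
      WithBot.coe_le_coe.1 (((Order.coheight_le_krullDim _).trans h0).trans_eq rfl)
    rw [hξe]
    refine le_antisymm ?_ (le_trans (by simp) e1)
    have h := e2.trans e3
    revert h
    cases Order.coheight (ql ξ') with
    | top => intro h; simp at h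
    | coe n => intro h; norm_cast at h ⊢; omega
  have hV := CastLib.VSurf.of_arith hXl
  obtain ⟨r, Γs, hΓs⟩ := hV.exists_componentList' hXl.2.2.1
  obtain ⟨-, -, hall⟩ := hV.toFibreGood.componentList hΓs
  obtain ⟨i₀, hi₀⟩ := hall ξ (hξv _) hξ1
  let Γ := Γs i₀
  haveI := Γ.isClosedImmersion
  haveI := Γ.isIntegral
  haveI := CastLib.isProper_vertComp Γ
  haveI := CastLib.isProper_vertComp Γ'
  have hkerΓ : Γ.ι.ker = CastLib.cl ξ := by rw [CastLib.ker_vertComp, hi₀]
  have hrΓ : ∀ z, z ∈ Set.range Γ.ι ↔ ξ ⤳ z := fun z => by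
    rw [← CastLib.mem_support_cl, ← hkerΓ, ← SetLike.mem_coe, Scheme.Hom.support_ker,
      Γ.ι.isClosedEmbedding.isClosed_range.closure_eq]
  obtain ⟨ν, hν⟩ := DVRCrit.exists_factor_closed Γ.ι (Γ'.ι ≫ ql) (by
    rintro _ ⟨z, rfl⟩
    exact (hrΓ _).2 (((genericPoint_specializes z).map Γ'.ι.continuous).map ql.continuous))
  letI algk : Algebra (IsLocalRing.ResidueField A) (IsLocalRing.ResidueField A') :=
    (IsLocalRing.ResidueField.map ρ).toAlgebra
  haveI : FiniteDimensional (IsLocalRing.ResidueField A) (IsLocalRing.ResidueField A') := by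
    haveI : IsScalarTower R R' (IsLocalRing.ResidueField A') := IsScalarTower.of_algebraMap_eq fun r => by
      show IsLocalRing.residue A' (algebraMap R A' r) = IsLocalRing.residue A' (algebraMap R' A' (algebraMap R R' r))
      rw [IsScalarTower.algebraMap_apply R R' A' r]
    haveI : IsScalarTower R (IsLocalRing.ResidueField A) (IsLocalRing.ResidueField A') :=
      IsScalarTower.of_algebraMap_eq fun r => by
        show IsLocalRing.residue A' (algebraMap R A' r) =
          IsLocalRing.ResidueField.map ρ (IsLocalRing.residue A (algebraMap R A r))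
        rw [IsLocalRing.ResidueField.map_residue, Localization.localRingHom_to_map,
          IsScalarTower.algebraMap_apply R R' A' r]
    haveI : Algebra.FiniteType R R' := inferInstance
    letI : Field (R' ⧸ m') := Ideal.Quotient.field _
    letI : Field (R ⧸ m) := Ideal.Quotient.field _
    letI : Algebra (R ⧸ m) (R' ⧸ m') := (Ideal.quotientMap m' (algebraMap R R') le_rfl).toAlgebra
    haveI : IsScalarTower R (R ⧸ m) (R' ⧸ m') := IsScalarTower.of_algebraMap_eq fun _ => rfl
    haveI : Algebra.FiniteType R (R' ⧸ m') :=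
      Algebra.FiniteType.of_surjective (IsScalarTower.toAlgHom R R' (R' ⧸ m')) Ideal.Quotient.mk_surjective
    haveI : Algebra.FiniteType (R ⧸ m) (R' ⧸ m') := Algebra.FiniteType.of_restrictScalars_finiteType R (R ⧸ m) (R' ⧸ m')
    haveI : Module.Finite (R ⧸ m) (R' ⧸ m') := finite_of_finite_type_of_isJacobsonRing _ _
    haveI : Module.Finite R (R' ⧸ m') := Module.Finite.trans (R ⧸ m) (R' ⧸ m')
    have hsurj : Function.Surjective (algebraMap R' (IsLocalRing.ResidueField A')) := by
      intro z
      obtain ⟨r, hr⟩ := (IsLocalization.AtPrime.equivQuotMaximalIdeal m' A').surjective z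
      obtain ⟨r, rfl⟩ := Ideal.Quotient.mk_surjective r
      exact ⟨r, hr⟩
    have hker : ∀ a ∈ m', algebraMap R' (IsLocalRing.ResidueField A') a = 0 := fun a ha => by
      show IsLocalRing.residue A' (algebraMap R' A' a) = 0
      rw [IsLocalRing.residue_eq_zero_iff]
      exact (IsLocalization.AtPrime.to_map_mem_maximal_iff A' m' a).2 ha
    let ψ : (R' ⧸ m') →ₐ[R] IsLocalRing.ResidueField A' :=
      Ideal.Quotient.liftₐ m' (IsScalarTower.toAlgHom R R' _) hker
    have hψ : Function.Surjective ψ := fun z => by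
      obtain ⟨r, hr⟩ := hsurj z
      exact ⟨Ideal.Quotient.mk m' r, by rw [← hr]; rfl⟩
    have hfin := Module.Finite.of_surjective ψ.toLinearMap hψ
    haveI : Module.Finite R (IsLocalRing.ResidueField A') := hfin
    exact Module.Finite.of_restrictScalars_finite R _ _
  letI oΓ : Γ.curve.left.Over (Spec (CommRingCat.of (IsLocalRing.ResidueField A))) := ⟨Γ.curve.hom⟩
  letI oΓ' : Γ'.curve.left.Over (Spec (CommRingCat.of (IsLocalRing.ResidueField A'))) := ⟨Γ'.curve.hom⟩
  have hνk : ν ≫ Γ.curve.hom = Γ'.curve.hom ≫ Spec.map (CommRingCat.ofHom (algebraMap (IsLocalRing.ResidueField A)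
      (IsLocalRing.ResidueField A'))) := by
    haveI : IsClosedImmersion (Spec.map (CommRingCat.ofHom (IsLocalRing.residue A))) :=
      IsClosedImmersion.spec_of_surjective _ IsLocalRing.residue_surjective
    rw [← cancel_mono (Spec.map (CommRingCat.ofHom (IsLocalRing.residue A))), Category.assoc, Category.assoc, ← Γ.w,
      reassoc_of% hν, su.w, reassoc_of% Γ'.w, ← Spec.map_comp, ← Spec.map_comp]
    congr 2
  obtain ⟨n', i', hi', -⟩ := hXl'.2.2.2.2
  haveI := hi'
  haveI : IsAffineHom i' := inferInstance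
  obtain ⟨Pa, hPa⟩ := TwistShriek.exists_isAmple_projSpaceOver n' (Spec (CommRingCat.of A'))
  have hωi : PicF.IsInvertible ω := CanonFac.isInvertible_of_isCanonical hω
  have hΓneg : ArSurf.inter A Xl ω Γ < 0 := by
    by_contra hnn
    push Not at hnn
    refine absurd hneg (not_lt.2 ?_)
    have h := EtSurf.curveDeg_nonneg_pullback (k := IsLocalRing.ResidueField A) (k' := IsLocalRing.ResidueField A')
      Γ.dim_eq Γ'.dim_eq ν hνk (AmpleLib.isAmple_pullback Γ'.ι (AmpleLib.isAmple_pullback i' hPa))
      (AmpleLib.isInvertible_pullback Γ.ι hωi) hnn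
    refine h.trans_eq (CastLib.curveDeg_iso Γ'.dim_eq.le ?_)
    exact (Scheme.Modules.pullbackComp ν Γ.ι).app ω ≪≫ (Scheme.Modules.pullbackCongr hν).app ω ≪≫
      ((Scheme.Modules.pullbackComp Γ'.ι ql).app ω).symm ≪≫ (Scheme.Modules.pullback Γ'.ι).mapIso eω.symm
  have hgl := genus_loc m A X Xl pr sl hg
  have hC := CastLib.isEffCartier_vertComp hXl Γ
  obtain ⟨L, hL⟩ := CastLib.exists_inverse_idealMod hC
  obtain ⟨k', _, _, hfin, e', he', hself⟩ := S13320.result A Xl hXl hgl Γ L hL ω hω hΓneg
  haveI := hfin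
  have hexc : Models.IsExcCurve Γ.ι := CastLib.isExcCurve_of_selfInt Γ.ι hC e' he' hL hself
  -- down to the surface
  have hm_closed : IsClosed ({(⟨m, inferInstance⟩ : PrimeSpectrum R)} : Set (Spec (CommRingCat.of R))) :=
    (PrimeSpectrum.isClosed_singleton_iff_isMaximal _).2 inferInstance
  have hξm : X.hom (pr ξ) = (⟨m, inferInstance⟩ : PrimeSpectrum R) := by
    have := congrArg (fun f => f ξ) sl.w
    simp only [Scheme.Hom.comp_apply] at this
    rw [this]
    refine Eq.trans (congrArg l (hξv _)) (PrimeSpectrum.ext ?_)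
    exact EtSurf.le_closedPoint m
  have hrange : Set.range (Γ.ι ≫ pr) = closure {pr ξ} := by
    ext z
    constructor
    · rintro ⟨w, rfl⟩
      exact specializes_iff_mem_closure.1 (((hrΓ _).1 ⟨w, rfl⟩).map pr.continuous)
    · intro hz
      have hs : pr ξ ⤳ z := specializes_iff_mem_closure.2 hz
      have hzm : X.hom z = (⟨m, inferInstance⟩ : PrimeSpectrum R) :=
        (hs.map X.hom.continuous).mem_closed hm_closed hξm
      obtain ⟨a, rfl⟩ := hr z (le_of_eq (congrArg PrimeSpectrum.asIdeal hzm))
      obtain ⟨w, rfl⟩ := (hrΓ a).2 (pr.isEmbedding.isInducing.specializes_iff.1 hs)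
      exact ⟨w, rfl⟩
  haveI : IsClosedImmersion (Γ.ι ≫ pr) :=
    IsClosedImmersion.of_isPreimmersion _ (hrange ▸ isClosed_closure)
  have sqΓ : IsPullback (𝟙 Γ.curve.left) Γ.ι (Γ.ι ≫ pr) pr := IsPullback.of_horiz_isIso_mono ⟨by simp⟩
  have hgen : (Γ.ι ≫ pr) (genericPoint Γ.curve.left) = pr ξ := by
    have h1 : Γ.ι (genericPoint Γ.curve.left) = ξ := hi₀
    rw [Scheme.Hom.comp_apply, h1]
  have hCX : BlowUp.IsEffCartierIdeal (Γ.ι ≫ pr).ker := by
    rw [CanonFac.ker_eq_cl (Γ.ι ≫ pr), hgen]
    refine SurfPtBlow.isEffCartier_closure hX.1 _ ?_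
    haveI := EtSurf.isIso_stalkMap pr ξ
    have h1 := ringKrullDim_eq_of_ringEquiv (asIso (pr.stalkMap ξ)).commRingCatIsoToRingEquiv
    rw [ringKrullDim_stalk_eq_coheight, ringKrullDim_stalk_eq_coheight, WithBot.coe_inj] at h1
    rw [h1, hξ1]
  exact ⟨_, Γ.ι ≫ pr, inferInstance, EtSurf.exc_down pr (Γ.ι ≫ pr) Γ.ι sqΓ hCX hexc⟩

end


/-- Let R -> R' be an étale homomorphism of Dedekind domains with Spec R' -> Spec R surjective, X a
relatively minimal arithmetic surface over Spec R whose generic fibre has arithmetic genus ≥ 1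
(χ_K(O) ≤ 0), and suppose X' = X ×_{Spec R} Spec R' is integral. Then X' is a relatively minimal
arithmetic surface over Spec R'. (The source states 'X minimal iff X ×_S S' minimal' for S' -> S
étale surjective or a completion; only the passage of relative minimality up to X' in the étale case
is stated here.) -/
theorem result {R R' : Type u} [CommRing R] [IsDedekindDomain R] [CommRing R'] [IsDedekindDomain R']
    [Algebra R R'] [Algebra.Etale R R'] (hsurj : Function.Surjective (PrimeSpectrum.comap (algebraMap R R')))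
    (X : Over (Spec (CommRingCat.of R))) (hX : ArSurf.IsArithSurface R X) (hmin : Neron.IsRelMinimalRegularModel R X)
    (hg : FGA.eulerCharLE (FractionRing R) ((Neron.genericFibre R).obj X).left (Coh.structureModule _) 1 ≤ 0)
    [IsIntegral ((Over.pullback (Spec.map (CommRingCat.ofHom (algebraMap R R')))).obj X).left] :
    ArSurf.IsArithSurface R' ((Over.pullback (Spec.map (CommRingCat.ofHom (algebraMap R R')))).obj X) ∧
      Neron.IsRelMinimalRegularModel R' ((Over.pullback (Spec.map (CommRingCat.ofHom (algebraMap R R')))).obj X) := by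
  let v := Spec.map (CommRingCat.ofHom (algebraMap R R'))
  let X' := (Over.pullback v).obj X
  haveI : Etale v := (HasRingHomProperty.Spec_iff (P := @Etale)).2 (RingHom.etale_algebraMap.2 inferInstance)
  haveI : Surjective v := ⟨hsurj⟩
  haveI : LocallyQuasiFinite v := lqf R R'
  let q : X'.left ⟶ X.left := pullback.fst X.hom v
  have sq : IsPullback q X'.hom X.hom v := IsPullback.of_hasPullback _ _
  haveI : IsIntegral X'.left := ‹_›
  haveI := hX.2.1
  haveI := hX.2.2.2.1
  haveI : Etale q := MorphismProperty.of_isPullback (P := @Etale) sq.flip inferInstance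
  haveI : Surjective q := MorphismProperty.of_isPullback (P := @Surjective) sq.flip inferInstance
  haveI : LocallyQuasiFinite q := MorphismProperty.of_isPullback (P := @LocallyQuasiFinite) sq.flip inferInstance
  haveI := (Groth.Agent.SurfPtBlow.arSurf_facts hX).2
  have hreg' : ∀ x, IsRegularLocalRing (X'.left.presheaf.stalk x) := fun x =>
    Groth.Agent.BlowChartLib.regular_stalk_of_smooth q x (hX.1 _)
  have hdim' : topologicalKrullDim X'.left = 2 := by
    refine le_antisymm ((Groth.Agent.EtSurf.dim_le_of_fibres q (eq_of_specializes q)).trans hX.2.2.1.le) ?_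
    obtain ⟨l, hl⟩ := Order.le_krullDim_iff.1 (show ((2 : ℕ) : WithBot ℕ∞) ≤ Order.krullDim X.left by
      rw [← Groth.Agent.ASp.topologicalKrullDim_eq_krullDim, hX.2.2.1]; rfl)
    let p0 := l.toFun ⟨0, by omega⟩
    let p1 := l.toFun ⟨1, by omega⟩
    let p2 := l.toFun ⟨2, by omega⟩
    have h01 : p0 < p1 := l.strictMono (show _ < _ from (by norm_num [Fin.lt_def]))
    have h12 : p1 < p2 := l.strictMono (show _ < _ from (by norm_num [Fin.lt_def]))
    obtain ⟨c, hc⟩ := q.surjective p0
    exact Groth.Agent.EtSurf.exists_lift_chain q (c := c) (Scheme.le_iff_specializes.1 h12.le)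
      (hc ▸ Scheme.le_iff_specializes.1 h01.le) h12.ne' (hc ▸ h01.ne')
  have hX' : ArSurf.IsArithSurface R' X' :=
    ⟨hreg', inferInstance, hdim', MorphismProperty.of_isPullback (P := @Flat) sq inferInstance,
      Groth.Agent.EtSurf.exists_proj_baseChange sq hX.2.2.2.2⟩
  refine ⟨hX', hreg', hX'.2.2.2.2, hX'.2.2.2.1, fun Y hYr hYp hYf g hgen => ?_⟩
  by_cases hR' : IsField R'
  · -- over a field the generic fibre is everything
    haveI := hgen
    haveI : IsIso (Neron.genPt R') := by
      letI := hR'.toField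
      haveI : IsIso (CommRingCat.ofHom (algebraMap R' (FractionRing R'))) :=
        (ConcreteCategory.isIso_iff_bijective _).2 ((IsLocalization.atUnits R' (nonZeroDivisors R') (S := FractionRing R') fun x hx => isUnit_iff_ne_zero.2 (nonZeroDivisors.ne_zero hx)).bijective)
      exact inferInstanceAs (IsIso (Spec.map _))
    let h := ((Neron.genericFibre R').map g).left
    have h1 : h ≫ pullback.fst Y.hom (Neron.genPt R') = pullback.fst X'.hom (Neron.genPt R') ≫ g.left :=
      pullback.lift_fst _ _ _
    haveI : IsIso h := inferInstanceAs (IsIso ((Over.forget _).map ((Neron.genericFibre R').map g)))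
    haveI : IsIso (pullback.fst X'.hom (Neron.genPt R')) := inferInstance
    haveI : IsIso (pullback.fst X'.hom (Neron.genPt R') ≫ g.left) := h1 ▸ inferInstance
    haveI : IsIso g.left := IsIso.of_isIso_comp_left (pullback.fst X'.hom (Neron.genPt R')) _
    haveI : IsIso ((Over.forget _).map g) := ‹IsIso g.left›
    exact isIso_of_reflects_iso g (Over.forget _)
  have hR : ¬ IsField R := fun h => hR' (by
    letI := h.toField
    by_contra hn
    obtain ⟨M, hM⟩ := Ideal.exists_maximal R'
    haveI : Subsingleton (PrimeSpectrum R) := inferInstance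
    have he : v (⟨⊥, Ideal.isPrime_bot⟩ : PrimeSpectrum R') = v (⟨M, hM.isPrime⟩ : PrimeSpectrum R') :=
      Subsingleton.elim (α := PrimeSpectrum R) _ _
    exact Ring.ne_bot_of_isMaximal_of_not_isField hM hn (congrArg PrimeSpectrum.asIdeal
      (eq_of_specializes v _ _ ((PrimeSpectrum.le_iff_specializes _ _).1 bot_le) he)).symm)
  obtain ⟨hY, hbir⟩ := Groth.Agent.SurfPtBlow.arith_of_generic_iso hgen hX' hYr hYp hYf
  haveI := hY.2.1
  haveI := (Groth.Agent.SurfPtBlow.arSurf_facts hX').2
  haveI := (Groth.Agent.SurfPtBlow.arSurf_facts hY).2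
  haveI := (Groth.Agent.SurfPtBlow.arSurf_facts hY).1
  haveI := Groth.Agent.SurfPtBlow.isProper_hom_left hX' hY g
  have hseq := Groth.Agent.S7314.result g.left hbir hX'.1 hX'.2.2.1 hY.1 hY.2.2.1
  rcases Groth.Agent.CanonFac.exists_exc_of_seq hseq with hi | ⟨E, ι, hι, hE, y, hy⟩
  · haveI : IsIso ((Over.forget _).map g) := hi
    exact isIso_of_reflects_iso g (Over.forget _)
  exfalso
  haveI := hι
  have hy' : IsClosed ({y} : Set Y.left) := by
    rw [← hy, Scheme.Hom.comp_base, TopCat.coe_comp, Set.range_comp]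
    exact g.left.isClosedMap _ ι.isClosedEmbedding.isClosed_range
  have hc : IsClosed ({Y.hom y} : Set (Spec (CommRingCat.of R'))) := by
    rw [← Set.image_singleton]
    exact Y.hom.isClosedMap _ hy'
  haveI hmax : (Y.hom y : PrimeSpectrum R').asIdeal.IsMaximal :=
    (PrimeSpectrum.isClosed_singleton_iff_isMaximal _).1 hc
  obtain ⟨C, j, hj, hjE⟩ := exists_exc_below hR X hX hg X' hX' q sq ι hE (Y.hom y : PrimeSpectrum R').asIdeal
    (Ring.ne_bot_of_isMaximal_of_not_isField hmax hR') fun c => by
      have h1 : g.left (ι c) = y := hy.le ⟨c, rfl⟩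
      rw [← Over.w g, Scheme.Hom.comp_apply, h1]
  haveI := hj
  exact Groth.Agent.CastLib.not_isExcCurve_of_relMin hR hX hmin j hjE

end Groth.Agent.S3260
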