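import Groth.Statements.S3319
import Groth.Agent.CastLib.InterForm
import Groth.Agent.SteinConn.Special
import Groth.Agent.SurfPtBlow.DvrModel
-- import your own Groth.Agent.* helpers here

set_option autoImplicit false
set_option backward.isDefEq.respectTransparency false
set_option maxHeartbeats 800000
set_option synthInstance.maxHeartbeats 200000
universe u
open CategoryTheory CategoryTheory.Limits AlgebraicGeometry
open Models

namespace Groth.Agent.S3319

/-- In the following situation (R a discrete valuation ring, C a smooth proper curve over its fraction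
field with H^0(C, O_C) = K, X a regular proper model, Γ_1, …, Γ_n the irreducible components of the
closed fibre, L_j ⊗ I(Γ_j) ≅ O_X), there is no non-empty proper subset I of the indices with (Γ_i ·
Γ_j) = 0 for all i in I and j outside I. -/
theorem result (R : Type u) [CommRing R] [IsDomain R] [IsDiscreteValuationRing R]
    (C X : Scheme.{u}) (f : C ⟶ Spec (CommRingCat.of (FractionRing R))) (p : X ⟶ Spec (CommRingCat.of R))
    (hC : Curve.IsSmoothProperCurve (FractionRing R) C f) (hH0 : IsIso f.appTop)
    (hX : Models.IsRegularProperModel R X p C f)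
    {n : ℕ} (Γ : Fin n → ArSurf.VertComp R (Over.mk p)) (hΓ : Models.IsComponentList R (Over.mk p) Γ)
    (L : Fin n → X.Modules) (hL : ∀ i, ClSub.IsInverseOf (L i) (ClSub.idealMod (Γ i).ι.ker)) (I : Finset (Fin n)) (hI : I.Nonempty) (hI' : I ≠ Finset.univ) :
    ∃ i ∈ I, ∃ j ∉ I, ArSurf.inter R (Over.mk p) (L j) (Γ i) ≠ 0 := by
    have hS := Groth.Agent.CastLib.VSurf.of_model hC hX
    haveI : IsProper (Over.mk p).hom := hS.proper
    have hconn : _root_.IsPreconnected (Models.specialFibreSet R (Over.mk p)) := by
      obtain ⟨g, hg⟩ := hX.1.2.2.2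
      haveI : Flat p := hX.1.1
      haveI : IsProper p := hX.2.1
      exact Groth.Agent.SteinConn.isPreconnected_closedFibre p (Groth.Agent.SurfPtBlow.toGlobal_surjective hg hH0)
    exact hS.exists_link hΓ hconn hL I hI hI'

end Groth.Agent.S3319
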