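import Groth.Statements.S3320
import Groth.Agent.CastLib.InterForm
import Groth.Agent.SteinConn.Special
import Groth.Agent.SurfPtBlow.DvrModel
-- import your own Groth.Agent.* helpers here

set_option autoImplicit false
set_option backward.isDefEq.respectTransparency false
set_option maxHeartbeats 800000
set_option synthInstance.maxHeartbeats 200000
universe u
open CategoryTheory CategoryTheory.Limits AlgebraicGeometry
open Models

namespace Groth.Agent.S3320

/-- In the following situation (R a discrete valuation ring, C a smooth proper curve over its fraction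
field with H^0(C, O_C) = K, X a regular proper model, Γ_1, …, Γ_n the irreducible components of the
closed fibre with multiplicities m_i, L_j ⊗ I(Γ_j) ≅ O_X), for every integer vector a one has
Σ_{i,j} a_i a_j (Γ_i · Γ_j) ≤ 0, with equality if and only if a is a rational multiple of (m_1, …,
m_n). -/
theorem result (R : Type u) [CommRing R] [IsDomain R] [IsDiscreteValuationRing R]
    (C X : Scheme.{u}) (f : C ⟶ Spec (CommRingCat.of (FractionRing R))) (p : X ⟶ Spec (CommRingCat.of R))
    (hC : Curve.IsSmoothProperCurve (FractionRing R) C f) (hH0 : IsIso f.appTop)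
    (hX : Models.IsRegularProperModel R X p C f)
    {n : ℕ} (Γ : Fin n → ArSurf.VertComp R (Over.mk p)) (hΓ : Models.IsComponentList R (Over.mk p) Γ)
    (L : Fin n → X.Modules) (hL : ∀ i, ClSub.IsInverseOf (L i) (ClSub.idealMod (Γ i).ι.ker)) (a : Fin n → ℤ) :
    (∑ q : Fin n × Fin n, a q.1 * a q.2 * ArSurf.inter R (Over.mk p) (L q.2) (Γ q.1)) ≤ 0 ∧
      ((∑ q : Fin n × Fin n, a q.1 * a q.2 * ArSurf.inter R (Over.mk p) (L q.2) (Γ q.1)) = 0 ↔
        ∃ c : ℚ, ∀ i, (a i : ℚ) = c * (Models.mult R (Over.mk p) (Γ i) : ℚ)) := by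
    have hS := Groth.Agent.CastLib.VSurf.of_model hC hX
    haveI : IsProper (Over.mk p).hom := hS.proper
    have hconn : _root_.IsPreconnected (Models.specialFibreSet R (Over.mk p)) := by
      obtain ⟨g, hg⟩ := hX.1.2.2.2
      haveI : Flat p := hX.1.1
      haveI : IsProper p := hX.2.1
      exact Groth.Agent.SteinConn.isPreconnected_closedFibre p (Groth.Agent.SurfPtBlow.toGlobal_surjective hg hH0)
    have hsym : ∀ i j : Fin n, i ≠ j → ArSurf.inter R (Over.mk p) (L j) (Γ i) = ArSurf.inter R (Over.mk p) (L i) (Γ j) :=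
      fun i j hij => hS.inter_symm (fun e => hij (hΓ.1 e)) (hL i) (hL j)
    let M : Fin n → Fin n → ℤ := fun i j => ArSurf.inter R (Over.mk p) (L j) (Γ i)
    have hoff : ∀ i j, i ≠ j → 0 ≤ M i j := fun i j hij => (hS.inter_nonneg_of_ne (fun e => hij (hΓ.1 e)) (hL j)).1
    have hm : ∀ i, 0 < Models.mult R (Over.mk p) (Γ i) := hS.mult_pos hΓ
    have hrow : ∀ i, ∑ j, (Models.mult R (Over.mk p) (Γ j) : ℤ) * M i j = 0 := fun i => hS.sum_mult_inter_list hΓ hL (Γ i)
    rw [Fintype.sum_prod_type]
    refine ⟨Groth.Agent.CastLib.form_nonpos M _ hsym hoff hm (fun i => (hrow i).le) a, fun h0 =>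
      Groth.Agent.CastLib.proportional_of_form_eq_zero M _ hsym hoff hm hrow
        (fun I hI hI' => hS.exists_link hΓ hconn hL I hI hI') a h0, ?_⟩
    rintro ⟨c, hc⟩
    have h : ((∑ i, ∑ j, a i * a j * M i j : ℤ) : ℚ) = 0 := by
      push_cast
      refine Finset.sum_eq_zero fun i _ => ?_
      have h1 : ∑ j, (a j : ℚ) * (M i j : ℚ) = 0 := by
        have h2 : ((∑ j, (Models.mult R (Over.mk p) (Γ j) : ℤ) * M i j : ℤ) : ℚ) = 0 := by rw [hrow i]; simp
        push_cast at h2
        simp only [hc, mul_assoc, ← Finset.mul_sum, h2, mul_zero]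
      simp only [mul_assoc, ← Finset.mul_sum, h1, mul_zero]
    exact_mod_cast h

end Groth.Agent.S3320
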