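import Groth.Statements.S3334
import Groth.Agent.SepPointG0Lib.Point
import Groth.Agent.CurveP1Lib.Rational
import Groth.Agent.CurveFF.BC
import Groth.Agent.GeomIrred.CurvPoint

set_option autoImplicit false
universe u
open CategoryTheory CategoryTheory.Limits AlgebraicGeometry
open Models

namespace Groth.Agent.S3334

set_option backward.isDefEq.respectTransparency false
set_option maxHeartbeats 1000000
attribute [local instance] Curv2.resAlgebra
attribute [local instance] Curv2.stalkAlgebra
attribute [local instance high] FunFld.Place.algRes
set_option linter.style.haveILetI false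

/-- Let R be a discrete valuation ring with fraction field K and C a smooth proper curve over K with
H^0(C, O_C) = K and genus dim_K H^1(C, O_C) = 0. Then there is a finite separable field extension K
→ K' of degree at most 2 such that C_{K'} is K'-isomorphic to the projective line over K' (so that
C_{K'} is the generic fibre of the projective line over the integral closure of R in K'). The
printed statement says degree 2; the argument produces an extension of degree at most 2, which is
what is asserted here. -/
theorem result (R : Type u) [CommRing R] [IsDomain R] [IsDiscreteValuationRing R]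
    (C : Scheme.{u}) (f : C ⟶ Spec (CommRingCat.of (FractionRing R)))
    (hC : Curve.IsSmoothProperCurve (FractionRing R) C f) (hH0 : IsIso f.appTop)
    (hg : Models.curveGenus (FractionRing R) C f = 0) :
    ∃ (K' : Type u) (_ : Field K') (ψ : FractionRing R →+* K'),
      Models.IsFiniteSeparable ψ ∧ Models.homDegree ψ ≤ 2 ∧
      ∃ e : (pullback f (Spec.map (CommRingCat.ofHom ψ))) ≅ CohB1.ProjSpace 1 K',
        e.hom ≫ CohB1.ProjSpace.toSpec 1 K' = (pullback.snd f (Spec.map (CommRingCat.ofHom ψ))) := by
  classical
  obtain ⟨h1, h2, h3, hdim⟩ := hC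
  letI : C.Over (Spec (CommRingCat.of (FractionRing R))) := ⟨f⟩
  haveI : IsProper (C ↘ Spec (CommRingCat.of (FractionRing R))) := h1
  haveI : Smooth (C ↘ Spec (CommRingCat.of (FractionRing R))) := h2
  haveI := h3
  haveI := Groth.Agent.VBLib.isRegCurve_of_smooth (X := C) (FractionRing R) hdim.le
  have h0 : Module.finrank (FractionRing R) (Coh.HH C (Coh.structureModule C) 0) = 1 := by
    letI : Algebra (FractionRing R) Γ(C, ⊤) := (Coh.toGlobal (C ↘ Spec (CommRingCat.of (FractionRing R)))).toAlgebra
    let e : Coh.HH C (Coh.structureModule C) 0 ≃ₗ[FractionRing R] Γ(C, ⊤) :=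
      { (Groth.Agent.CurveLib.secOf (Coh.structureModule C)) with
        map_smul' := fun r c => Groth.Agent.CurveLib.secOf_smul (k := FractionRing R) _ r c }
    haveI : IsIso (C ↘ Spec (CommRingCat.of (FractionRing R))).appTop := hH0
    have hb : Function.Bijective (algebraMap (FractionRing R) Γ(C, ⊤)) :=
      (ConcreteCategory.bijective_of_isIso (((Scheme.ΓSpecIso (CommRingCat.of (FractionRing R))).inv ≫
        (C ↘ Spec (CommRingCat.of (FractionRing R))).appTop)) :)
    rw [e.finrank_eq, ← (AlgEquiv.ofBijective (Algebra.ofId (FractionRing R) Γ(C, ⊤)) hb).toLinearEquiv.finrank_eq,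
      Module.finrank_self]
  have hg' : Curv2.genus (FractionRing R) C = 0 := hg
  obtain ⟨y, hy, hsep, hdeg⟩ := Groth.Agent.SepPointG0Lib.exists_point (FractionRing R) C hdim h0 hg'
  rw [Groth.Agent.CurveFF.deg_placeOf (k := FractionRing R) hdim hy] at hdeg
  have hfin : Module.Finite (FractionRing R) (C.residueField y) := by
    refine Module.finite_of_finrank_pos ?_
    rw [← Groth.Agent.CurveFF.deg_placeOf (k := FractionRing R) hdim hy]
    exact Groth.Agent.FF.deg_pos (Groth.Agent.CurveFF.isFunctionField (FractionRing R) hdim h0) _
  obtain ⟨hs1, hs2, hs3, hs4⟩ := Groth.Agent.CurveFF.setup_bc (FractionRing R) (X := C) hdim h0 (C.residueField y)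
  haveI := hs1
  haveI := hs2
  haveI := hs3
  haveI : IsProper (Curv2.bc (FractionRing R) C (C.residueField y) ↘ Spec (CommRingCat.of (C.residueField y))) :=
    inferInstanceAs (IsProper (pullback.snd f (Spec.map (CommRingCat.ofHom (algebraMap (FractionRing R) (C.residueField y))))))
  let s : Spec (CommRingCat.of (C.residueField y)) ⟶ Curv2.bc (FractionRing R) C (C.residueField y) :=
    pullback.lift (C.fromSpecResidueField y) (𝟙 _) (by
      rw [Category.id_comp]
      exact (Groth.Agent.GeomIrred.spec_resMap (FractionRing R) C y).symm)
  obtain ⟨e, he⟩ := Groth.Agent.CurveP1Lib.exists_iso_P1_of_section hs4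
    ((Groth.Agent.CurveFF.genus_bc (FractionRing R) C (C.residueField y)).trans hg') s (pullback.lift_snd _ _ _)
    (by haveI := Groth.Agent.VBLib.IsRegCurve.pir (X := Curv2.bc (FractionRing R) C (C.residueField y)) (s default); infer_instance)
  exact ⟨C.residueField y, inferInstance, algebraMap (FractionRing R) (C.residueField y), ⟨hfin, hsep⟩, hdeg, e, he⟩

end Groth.Agent.S3334
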