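import Groth.Statements.S3337
import Groth.Agent.CastLib.MinimalSmooth
import Groth.Agent.S3338
-- import your own Groth.Agent.* helpers here

set_option autoImplicit false
set_option backward.isDefEq.respectTransparency false
set_option maxHeartbeats 800000
set_option synthInstance.maxHeartbeats 200000
universe u
open CategoryTheory CategoryTheory.Limits AlgebraicGeometry
open Models

namespace Groth.Agent.S3337

/-- Let R be a discrete valuation ring with fraction field K and C a smooth proper curve over K with
H^0(C, O_C) = K. If C has a proper smooth model over R (good reduction), then every minimal model of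
C is smooth over R. -/
theorem result (R : Type u) [CommRing R] [IsDomain R] [IsDiscreteValuationRing R]
    (C X : Scheme.{u}) (f : C ⟶ Spec (CommRingCat.of (FractionRing R))) (p : X ⟶ Spec (CommRingCat.of R))
    (hC : Curve.IsSmoothProperCurve (FractionRing R) C f) (hH0 : IsIso f.appTop)
    (hgood : Models.HasGoodReduction R C f) (hX : Models.IsMinimalModel R X p C f) :
    Smooth p := by
    obtain ⟨Y, q, hYm, hqp, hqs⟩ := hgood
    haveI := hqp
    haveI := hqs
    have hY : Models.IsMinimalModel R Y q C f := Groth.Agent.S3338.result R C Y f q hC hH0 hYm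
    obtain ⟨gX, hgX⟩ := hX.1.1.2.2.2
    obtain ⟨gY, hgY⟩ := hY.1.1.2.2.2
    rcases Groth.Agent.CastLib.iso_or_P1 hC hH0 hX hY hgX hgY with ⟨e, he, -⟩ | ⟨e, he⟩
    · rw [show p = e.inv ≫ q by rw [← he, e.inv_hom_id_assoc]]
      infer_instance
    · refine Groth.Agent.CastLib.smooth_of_smooth_closedFibre hC hX.1 ?_
      haveI := Groth.Agent.ProjSmoothLib.smooth_toSpec 1 (IsLocalRing.ResidueField R)
      rw [← he]
      exact inferInstanceAs (Smooth (e.hom ≫ CohB1.ProjSpace.toSpec 1 (IsLocalRing.ResidueField R)))

end Groth.Agent.S3337
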