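import Groth.Statements.S3339
import Groth.Agent.NodePtLib.MaxOpen
import Groth.Agent.NodePtLib.Sub
import Groth.Agent.FlatLocus.PointScheme
import Groth.Agent.FieldExtLib.Separable
import Groth.Agent.BlowCompLib.Basic
import Groth.Agent.SurfPtBlow.Meet
import Groth.Agent.RegLocal.Basic
import Groth.Agent.S9442
import Groth.Agent.S1592
import Groth.Agent.S1593
import Mathlib

set_option autoImplicit false
universe u
open CategoryTheory CategoryTheory.Limits AlgebraicGeometry
open Models

namespace Groth.Agent.S3339

section Ring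

open IsLocalRing TensorProduct

/-- A regular local algebra, essentially of finite type, with separable residue field is formally smooth. -/
theorem formallySmooth_of_regular_sep {k C : Type u} [Field k] [CommRing C] [Algebra k C]
    [Algebra.EssFiniteType k C] [IsRegularLocalRing C] [Algebra.IsGeometricallyReduced k (ResidueField C)] :
    Algebra.FormallySmooth k C := by
  let S₁ := Algebra.EssFiniteType.subalgebra k C
  let q : Ideal S₁ := (maximalIdeal C).comap (algebraMap S₁ C)
  haveI : q.IsPrime := Ideal.IsPrime.comap _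
  have hM : q.primeCompl = Algebra.EssFiniteType.submonoid k C := by
    ext a
    exact IsLocalRing.notMem_maximalIdeal
  haveI : IsLocalization.AtPrime C q := by
    show IsLocalization q.primeCompl C
    rw [hM]; infer_instance
  let e : Localization.AtPrime q ≃ₐ[S₁] C := IsLocalization.algEquiv q.primeCompl _ _
  haveI : IsRegularLocalRing (Localization.AtPrime q) := IsRegularLocalRing.of_ringEquiv e.symm.toRingEquiv
  let ek : Localization.AtPrime q ≃ₐ[k] C := e.restrictScalars k
  let g : q.ResidueField →ₐ[k] ResidueField C :=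
    { ResidueField.map (ek : Localization.AtPrime q →+* C) with
      commutes' := fun c => congrArg (residue C) (ek.commutes c) }
  haveI : Algebra.IsGeometricallyReduced k q.ResidueField :=
    Algebra.IsGeometricallyReduced.of_injective g (g : q.ResidueField →+* ResidueField C).injective
  haveI : Algebra.FormallySmooth k (Localization.AtPrime q) := (S9442.result k S₁ q).2 inferInstance
  exact Algebra.FormallySmooth.of_equiv ek

/-- The local computation at the contracted point. -/
theorem core {A B O : Type u} [CommRing A] [IsDomain A] [IsLocalRing A] [IsPrincipalIdealRing A] [CommRing B]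
    [IsRegularLocalRing B] [CommRing O] [IsLocalRing O] [IsNoetherianRing O] [Algebra A B] [Algebra A O]
    [IsLocalHom (algebraMap A B)] [Algebra.EssFiniteType A B] (hd : ringKrullDim B = 2)
    (ψ : B →+* O) [IsLocalHom ψ] (hψ : ψ.comp (algebraMap A B) = algebraMap A O)
    [Module.Flat A O] [Algebra.FormallySmooth A O] [IsLocalHom (algebraMap A O)]
    (hO : (maximalIdeal A).map (algebraMap A O) = maximalIdeal O) :
    Module.Flat A B ∧ (algebraMap (A ⧸ maximalIdeal A) ((A ⧸ maximalIdeal A) ⊗[A] B)).FormallySmooth ∧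
      ringKrullDim (B ⧸ (maximalIdeal A).map (algebraMap A B)) ≠ 0 := by
  haveI : IsDomain B := RegLocal.isDomain B
  haveI := Module.FaithfullyFlat.of_flat_of_isLocalHom (A := A) (B := O)
  have hinjO : Function.Injective (algebraMap A O) := FaithfulSMul.algebraMap_injective A O
  have hinj : Function.Injective (algebraMap A B) :=
    Function.Injective.of_comp (f := ψ) (by rw [← RingHom.coe_comp, hψ]; exact hinjO)
  obtain ⟨π, hπ⟩ := IsPrincipalIdealRing.principal (maximalIdeal A)
  rw [← Ideal.span] at hπ
  have hπm : π ∈ maximalIdeal A := hπ ▸ Ideal.mem_span_singleton_self π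
  let J := (maximalIdeal A).map (algebraMap A B)
  have hJ : J = Ideal.span {algebraMap A B π} := by
    show (maximalIdeal A).map (algebraMap A B) = _
    rw [hπ, Ideal.map_span, Set.image_singleton]
  have hreg : IsRegularLocalRing (B ⧸ J) ∧ ringKrullDim (B ⧸ J) ≠ 0 := by
    by_cases h0 : π = 0
    · have hb : J = ⊥ := by rw [hJ, h0, map_zero]; exact Ideal.span_singleton_eq_bot.2 rfl
      let e := (Ideal.quotEquivOfEq hb).trans (RingEquiv.quotientBot B)
      refine ⟨IsRegularLocalRing.of_ringEquiv e.symm, ?_⟩
      rw [ringKrullDim_eq_of_ringEquiv e, hd]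
      decide
    · have hmem : algebraMap A B π ∈ maximalIdeal B := map_nonunit (algebraMap A B) π hπm
      have hnot : algebraMap A B π ∉ maximalIdeal B ^ 2 := fun h2 => by
        have h4 : (maximalIdeal B).map ψ ≤ maximalIdeal O :=
          Ideal.map_le_iff_le_comap.2 fun b hb => map_nonunit ψ b hb
        have h5 : algebraMap A O π ∈ maximalIdeal O ^ 2 := by
          rw [← hψ]
          have := Ideal.pow_right_mono h4 2
          rw [← Ideal.map_pow] at this
          exact this (Ideal.mem_map_of_mem ψ h2)
        have h6 : maximalIdeal O ≤ maximalIdeal O • maximalIdeal O := by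
          rw [smul_eq_mul, ← pow_two]
          calc maximalIdeal O = Ideal.span {algebraMap A O π} := by
                rw [← hO, hπ, Ideal.map_span, Set.image_singleton]
            _ ≤ maximalIdeal O ^ 2 := (Ideal.span_singleton_le_iff_mem _).2 h5
        have h7 : maximalIdeal O = ⊥ := Submodule.eq_bot_of_le_smul_of_le_jacobson_bot _ _
          (IsNoetherian.noetherian _) h6 (maximalIdeal_le_jacobson _)
        refine h0 (hinjO ?_)
        rw [map_zero, ← Ideal.mem_bot, ← h7]
        exact map_nonunit (algebraMap A O) π hπm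
      obtain ⟨h1, -, h2⟩ := RegLocal.quot_singleton B (d := 2) (by exact_mod_cast hd) hmem hnot
      let e := Ideal.quotEquivOfEq hJ
      haveI := h1
      refine ⟨IsRegularLocalRing.of_ringEquiv e.symm, ?_⟩
      rw [ringKrullDim_eq_of_ringEquiv e, h2]
      decide
  refine ⟨?_, ?_, hreg.2⟩
  · haveI : Module.IsTorsionFree A B := by
      rw [Module.isTorsionFree_iff_smul_eq_zero]
      intro a b hab
      rw [Algebra.smul_def, mul_eq_zero] at hab
      exact hab.imp_left fun h => hinj (by rw [h, map_zero])
    infer_instance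
  · let k := A ⧸ maximalIdeal A
    letI : Field k := Ideal.Quotient.field _
    haveI := hreg.1
    haveI : Algebra.EssFiniteType A (B ⧸ J) := Algebra.EssFiniteType.comp A B (B ⧸ J)
    haveI : Algebra.EssFiniteType k (B ⧸ J) := Algebra.EssFiniteType.of_comp A k (B ⧸ J)
    let JO := (maximalIdeal A).map (algebraMap A O)
    haveI : JO.IsMaximal := by
      show ((maximalIdeal A).map (algebraMap A O)).IsMaximal
      rw [hO]; infer_instance
    letI : Field (O ⧸ JO) := Ideal.Quotient.field _
    haveI : Algebra.FormallySmooth k (O ⧸ JO) :=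
      Algebra.FormallySmooth.of_equiv
        (Algebra.TensorProduct.quotIdealMapEquivQuotTensor O (maximalIdeal A)).symm
    haveI : Algebra.IsGeometricallyReduced k (O ⧸ JO) :=
      FieldExtLib.formallySmooth_iff_isGeometricallyReduced.1 inferInstance
    let χ : B ⧸ J →+* O ⧸ JO := Ideal.quotientMap JO ψ (Ideal.map_le_iff_le_comap.2 fun a ha => by
      show ψ (algebraMap A B a) ∈ JO
      rw [← RingHom.comp_apply ψ (algebraMap A B), hψ]
      exact Ideal.mem_map_of_mem _ ha)
    haveI : IsLocalHom χ := ⟨fun x hx => by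
      obtain ⟨b, rfl⟩ := Ideal.Quotient.mk_surjective x
      have : IsUnit (Ideal.Quotient.mk JO (ψ b)) := hx
      refine (IsUnit.of_map ψ b ?_).map _
      refine IsLocalRing.notMem_maximalIdeal.1 fun hm => ?_
      rw [← hO] at hm
      exact this.ne_zero (Ideal.Quotient.eq_zero_iff_mem.2 hm)⟩
    let g : ResidueField (B ⧸ J) →ₐ[k] O ⧸ JO :=
      { ResidueField.lift χ with
        commutes' := fun c => by
          obtain ⟨a, rfl⟩ := Ideal.Quotient.mk_surjective c
          show Ideal.Quotient.mk JO (ψ (algebraMap A B a)) = Ideal.Quotient.mk JO (algebraMap A O a)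
          rw [← RingHom.comp_apply ψ (algebraMap A B), hψ] }
    haveI : Algebra.IsGeometricallyReduced k (ResidueField (B ⧸ J)) :=
      Algebra.IsGeometricallyReduced.of_injective g (g : ResidueField (B ⧸ J) →+* O ⧸ JO).injective
    haveI : Algebra.FormallySmooth k (B ⧸ J) := formallySmooth_of_regular_sep
    rw [RingHom.formallySmooth_algebraMap]
    exact Algebra.FormallySmooth.of_equiv (Algebra.TensorProduct.quotIdealMapEquivQuotTensor B (maximalIdeal A))

end Ring

theorem pid_stalk {R : Type u} [CommRing R] [IsDomain R] [IsDiscreteValuationRing R] (y : Spec (CommRingCat.of R)) :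
    IsDomain ((Spec (CommRingCat.of R)).presheaf.stalk y) ∧
      IsPrincipalIdealRing ((Spec (CommRingCat.of R)).presheaf.stalk y) := by
  let P : PrimeSpectrum R := y
  letI : Algebra R ((Spec (CommRingCat.of R)).presheaf.stalk y) :=
    StructureSheaf.stalkAlgebra (R := R) P
  haveI : IsLocalization.AtPrime ((Spec (CommRingCat.of R)).presheaf.stalk y) P.asIdeal :=
    StructureSheaf.IsLocalization.to_stalk (R := R) P
  haveI : IsDomain ((Spec (CommRingCat.of R)).presheaf.stalk y) :=
    IsLocalization.isDomain_of_atPrime _ P.asIdeal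
  haveI : IsDedekindDomain ((Spec (CommRingCat.of R)).presheaf.stalk y) :=
    IsLocalization.AtPrime.isDedekindDomain R P.asIdeal _
  exact ⟨inferInstance, IsPrincipalIdealRing.of_finite_primes (Set.Finite.subset
    (Set.toFinite {⊥, IsLocalRing.maximalIdeal _}) fun p (hp : p.IsPrime) => by
      by_cases h : p = ⊥
      · exact Or.inl h
      · exact Or.inr (IsLocalRing.eq_maximalIdeal (hp.isMaximal h)))⟩

/-- In a curve, a point which is not closed is generic. -/
theorem gen_of_comps {F : Scheme.{u}} (hF : ∀ Z ∈ irreducibleComponents (F : Type u), topologicalKrullDim Z = 1)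
    {z ze : F} (h : z ⤳ ze) (hne : z ≠ ze) : NodePtLib.Gen (T := (F : Type u)) z := by
  intro w hw
  by_contra hwz
  obtain ⟨η, hη, hW⟩ := Groth.Agent.S4673.dim_component (irreducibleComponent_mem_irreducibleComponents w)
  have hηw : η ⤳ w := specializes_iff_mem_closure.2 (hW.ge mem_irreducibleComponent)
  have l1 : ze < z := lt_of_le_not_ge (Scheme.le_iff_specializes.2 h) fun h' =>
    hne ((h.antisymm (Scheme.le_iff_specializes.1 h')).eq)
  have l2 : z < w := lt_of_le_not_ge (Scheme.le_iff_specializes.2 hw) fun h' =>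
    hwz ((hw.antisymm (Scheme.le_iff_specializes.1 h')).eq)
  have h1 := hF _ (irreducibleComponent_mem_irreducibleComponents w)
  rw [← hW, DimFormulaLib.topologicalKrullDim_closure_singleton] at h1
  have h2 : (2 : ℕ∞) ≤ Order.height η := calc
    (2 : ℕ∞) = 0 + 1 + 1 := by norm_num
    _ ≤ Order.height ze + 1 + 1 := by gcongr; exact bot_le
    _ ≤ Order.height z + 1 := by gcongr; exact Order.height_add_one_le l1
    _ ≤ Order.height w := Order.height_add_one_le l2
    _ ≤ Order.height η := Order.height_mono (Scheme.le_iff_specializes.2 hηw)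
  rw [show Order.height η = (1 : ℕ∞) from WithBot.coe_inj.1 h1] at h2
  exact absurd h2 (by decide)

/-- The contracted point has a nodal fibre nearby. -/
theorem flat_smooth_contract {R : Type u} [CommRing R] [IsDomain R] [IsDiscreteValuationRing R] {X X' : Scheme.{u}}
    (b : X ⟶ X') (p' : X' ⟶ Spec (CommRingCat.of R)) [LocallyOfFinitePresentation p'] [IsLocallyNoetherian X]
    (hfam : Curv2.IsNodalFamily (b ≫ p')) (s : Spec (CommRingCat.of R)) (z : (b ≫ p').fiber s)
    (hgen : NodePtLib.Gen (T := (((b ≫ p').fiber s : Scheme.{u}) : Type u)) z) (hcl : ¬ IsClosed ({z} : Set _))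
    (hreg : IsRegularLocalRing (X'.presheaf.stalk (b ((b ≫ p').fiberι s z))))
    (hdim : ringKrullDim (X'.presheaf.stalk (b ((b ≫ p').fiberι s z))) = 2) :
    (p'.stalkMap (b ((b ≫ p').fiberι s z))).hom.Flat ∧
      (p'.stalkMap (b ((b ≫ p').fiberι s z))).hom.FormallySmooth ∧
      ¬ NodePtLib.Gen (T := ((p'.fiber (p' (b ((b ≫ p').fiberι s z))) : Scheme.{u}) : Type u))
        (p'.asFiber (b ((b ≫ p').fiberι s z))) := by
  let p := b ≫ p'
  let ξ := p.fiberι s z
  haveI := hfam.1
  haveI := hfam.2.1
  obtain ⟨hc, hn⟩ := hfam.2.2 s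
  letI : (p.fiber s).Over (Spec (CommRingCat.of ((Spec (CommRingCat.of R)).residueField s))) :=
    ⟨p.fiberToSpecResidueField s⟩
  haveI : LocallyOfFiniteType (p.fiber s ↘ Spec (CommRingCat.of ((Spec (CommRingCat.of R)).residueField s))) :=
    inferInstanceAs (LocallyOfFiniteType (pullback.snd p _))
  haveI := LocallyOfFiniteType.isLocallyNoetherian (p.fiberToSpecResidueField s)
  haveI := hreg
  -- smoothness at the generic point
  have hsF := NodePtLib.smooth_nhd_of_not_closed ((Spec (CommRingCat.of R)).residueField s) (p.fiber s)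
    (fun Z hZ => (hc Z hZ).le) hn hcl
  have hsX : (p.stalkMap ξ).hom.FormallySmooth :=
    (FlatLocus.exists_smooth_nhd_iff p ξ).1 ((NodePtLib.smooth_fibre_iff p s z).2 hsF)
  haveI hrF := NodePtLib.regular_of_smooth_nhd hsF
  haveI : IsDomain ((p.fiber s).presheaf.stalk z) := RegLocal.isDomain _
  have hfield : IsField ((p.fiber s).presheaf.stalk z) := by
    haveI : Ring.KrullDimLE 0 ((p.fiber s).presheaf.stalk z) :=
      Ring.krullDimLE_iff.2 (ASp.ringKrullDim_stalk_eq_zero hgen).le
    exact Ring.KrullDimLE.isField_of_isDomain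
  let A := (Spec (CommRingCat.of R)).presheaf.stalk (p ξ)
  let B := X'.presheaf.stalk (b ξ)
  let O := X.presheaf.stalk ξ
  obtain ⟨hdom, hpid⟩ := pid_stalk (R := R) (p ξ)
  haveI := hdom
  haveI := hpid
  letI : Algebra A B := (p'.stalkMap (b ξ)).hom.toAlgebra
  letI : Algebra A O := (p.stalkMap ξ).hom.toAlgebra
  haveI : IsLocalHom (algebraMap A B) := p'.toLRSHom.prop (b ξ)
  haveI : IsLocalHom (algebraMap A O) := p.toLRSHom.prop ξ
  haveI : Algebra.EssFiniteType A B := LocallyOfFiniteType.stalkMap p' (b ξ)
  haveI : Module.Flat A O := Flat.stalkMap p ξ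
  haveI : Algebra.FormallySmooth A O := hsX
  haveI : IsLocalHom (b.stalkMap ξ).hom := b.toLRSHom.prop ξ
  have hψ : (b.stalkMap ξ).hom.comp (algebraMap A B) = algebraMap A O := by
    show (b.stalkMap ξ).hom.comp (p'.stalkMap (b ξ)).hom = (p.stalkMap ξ).hom
    rw [← CommRingCat.hom_comp, ← Scheme.Hom.stalkMap_comp]
    rfl
  have hO : (IsLocalRing.maximalIdeal A).map (algebraMap A O) = IsLocalRing.maximalIdeal O := by
    have hk := FlatLocus.ker_fiberι_stalkMap p s z
    letI := hfield.toField
    refine (IsLocalRing.eq_maximalIdeal ?_)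
    show ((IsLocalRing.maximalIdeal A).map (p.stalkMap ξ).hom).IsMaximal
    rw [← hk]
    exact RingHom.ker_isMaximal_of_surjective _ (FlatLocus.fiberι_stalkMap_surjective p s z)
  obtain ⟨hF, hS, hD⟩ := core (A := A) (B := B) (O := O) hdim (b.stalkMap ξ).hom hψ hO
  refine ⟨hF, FlatLocus.formallySmooth_stalkMap_of_quotient p' (b ξ) hF _ le_rfl hS, fun hg => ?_⟩
  haveI := LocallyOfFiniteType.isLocallyNoetherian (p'.fiberToSpecResidueField (p' (b ξ)))
  have hk := FlatLocus.ker_fiberι_stalkMap p' (p' (b ξ)) (p'.asFiber (b ξ))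
  have hsur := FlatLocus.fiberι_stalkMap_surjective p' (p' (b ξ)) (p'.asFiber (b ξ))
  have h0 := ASp.ringKrullDim_stalk_eq_zero hg
  have key : ∀ (y : X') (e : p'.fiberι (p' (b ξ)) (p'.asFiber (b ξ)) = y),
      ringKrullDim (X'.presheaf.stalk y ⧸
        (IsLocalRing.maximalIdeal ((Spec (CommRingCat.of R)).presheaf.stalk (p' y))).map (p'.stalkMap y).hom) = 0 := by
    rintro _ rfl
    rw [← h0]
    refine ringKrullDim_eq_of_ringEquiv ((Ideal.quotEquivOfEq hk.symm).trans
      (RingHom.quotientKerEquivOfSurjective hsur))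
  exact hD (key (b ξ) (p'.fiberι_asFiber (b ξ)))


/-- Let R be a discrete valuation ring and p : X → Spec R an at-worst-nodal family of curves (flat,
locally of finite presentation, every fibre having all irreducible components of dimension one and
at-worst-nodal singularities). Let ι : E → X be a closed subscheme which is an exceptional curve of
the first kind, and b : X → X' a contraction of E: X' is Noetherian, b is proper, maps E onto a
single closed point x' whose local ring is regular of dimension 2, and is a blowing up of X' in x'.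
Let p' : X' → Spec R be a morphism locally of finite type with p = p' ∘ b. Then p' is again an
at-worst-nodal family of curves. (The published statement does not list the hypothesis that p' is
locally of finite type separately, its contractions being projective over R; it is assumed
explicitly here.) -/
theorem result (R : Type u) [CommRing R] [IsDomain R] [IsDiscreteValuationRing R]
    (X X' E : Scheme.{u}) (p : X ⟶ Spec (CommRingCat.of R)) (p' : X' ⟶ Spec (CommRingCat.of R))
    (hp : Curv2.IsNodalFamily p) (ι : E ⟶ X) [IsClosedImmersion ι] (hE : Models.IsExcCurve ι)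
    (b : X ⟶ X') (hb : Models.IsContractionOf ι b) (hcomm : b ≫ p' = p) [LocallyOfFiniteType p'] :
    Curv2.IsNodalFamily p' := by
  obtain ⟨hN, hbp, x', hx', hrange, hreg, hdim, hbl⟩ := hb
  obtain ⟨k, _, e, -⟩ := hE.2
  haveI := hN
  haveI := hbp
  subst hcomm
  haveI := hp.1
  haveI := hp.2.1
  haveI : LocallyOfFinitePresentation p' := LocallyOfFinitePresentation.iff_locallyOfFiniteType.mpr inferInstance
  haveI : IsLocallyNoetherian X := LocallyOfFiniteType.isLocallyNoetherian (b ≫ p')
  -- the exceptional curve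
  haveI := SurfPtBlow.isIntegral_P1 (k := k)
  let q : E → X' := fun a => b (ι a)
  have hq : ∀ a : E, b (ι a) = x' := fun a => hrange.le ⟨a, rfl⟩
  obtain ⟨a, ha⟩ : ∃ a : CohB1.ProjSpace 1 k, a ≠ genericPoint (CohB1.ProjSpace 1 k) := by
    by_contra! h
    haveI : Subsingleton (CohB1.ProjSpace 1 k) := ⟨fun u v => (h u).trans (h v).symm⟩
    have h1 := SurfPtBlow.dim_P1 (k := k)
    rw [ASp.topologicalKrullDim_eq_krullDim] at h1
    have h2 := (Order.krullDim_nonpos_of_subsingleton (α := CohB1.ProjSpace 1 k)).trans_lt (zero_lt_one' (WithBot ℕ∞))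
    exact absurd h1 h2.ne
  let g := e.hom ≫ ι
  have hspec : g (genericPoint (CohB1.ProjSpace 1 k)) ⤳ g a :=
    ((genericPoint_spec (CohB1.ProjSpace 1 k)).specializes trivial).map g.continuous
  have hne : g (genericPoint (CohB1.ProjSpace 1 k)) ≠ g a := fun h => ha (g.isEmbedding.injective h).symm
  have hbg : ∀ c, b (g c) = x' := fun c => hq (e.hom c)
  let p := b ≫ p'
  let s := p (g (genericPoint (CohB1.ProjSpace 1 k)))
  obtain ⟨ze, hze⟩ : g a ∈ Set.range (p.fiberι s) := by
    rw [p.range_fiberι]
    show p (g a) = p (g (genericPoint (CohB1.ProjSpace 1 k)))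
    simp only [p, Scheme.Hom.comp_apply, hbg]
  let z := p.asFiber (g (genericPoint (CohB1.ProjSpace 1 k)))
  have hz : p.fiberι s z = g (genericPoint (CohB1.ProjSpace 1 k)) := p.fiberι_asFiber _
  have hzze : z ⤳ ze := (p.fiberι s).isEmbedding.isInducing.specializes_iff.1 (by rw [hz, hze]; exact hspec)
  have hzne : z ≠ ze := fun h => hne (by rw [← hz, ← hze, h])
  have hgen := gen_of_comps (hp.2.2 s).1 hzze hzne
  have hcl : ¬ IsClosed ({z} : Set _) := fun h =>
    hzne (Set.mem_singleton_iff.1 (hzze.mem_closed h rfl)).symm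
  obtain rfl : b (p.fiberι s z) = x' := by rw [hz]; exact hbg _
  obtain ⟨hflat, hsm, hngen⟩ := flat_smooth_contract b p' hp s z hgen hcl hreg hdim
  -- off the point
  let ξ := p.fiberι s z
  let U : X'.Opens := ⟨({b ξ} : Set X')ᶜ, hx'.isOpen_compl⟩
  haveI : IsIso (b ∣_ U) := by
    have h := BlowCompLib.isIso_restrict _ b hbl
    have hU : (Scheme.IdealSheafData.vanishingIdeal ⟨{b ξ}, hx'⟩).support.compl = U :=
      TopologicalSpace.Opens.ext (by
        show ((Scheme.IdealSheafData.vanishingIdeal ⟨{b ξ}, hx'⟩).support : Set X')ᶜ = ({b ξ} : Set X')ᶜ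
        rw [Scheme.IdealSheafData.coe_support_vanishingIdeal]
        rfl)
    rw [hU] at h
    exact h
  have hU : Curv2.IsNodalFamily (U.ι ≫ p') := by
    have h : (inv (b ∣_ U) ≫ (b ⁻¹ᵁ U).ι) ≫ b ≫ p' = U.ι ≫ p' := by
      rw [Category.assoc, ← morphismRestrict_ι_assoc, IsIso.inv_hom_id_assoc]
    rw [← h]
    exact S1592.result _ hp _
  have hflat' : ∀ y : X', (p'.stalkMap y).hom.Flat := fun y => by
    by_cases hy : y = b ξ
    · subst hy; exact hflat
    · haveI := hU.1
      let u : U.toScheme := ⟨y, hy⟩
      have h := Flat.stalkMap (U.ι ≫ p') u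
      rw [Scheme.Hom.stalkMap_comp] at h
      exact (RingHom.Flat.respectsIso.cancel_right_isIso (p'.stalkMap (U.ι u)) (U.ι.stalkMap u)).1 h
  haveI : Flat p' := Flat.of_stalkMap p' hflat'
  obtain ⟨V, hV, hVfam⟩ := NodePtLib.exists_nodalOpen p'
  have hall : ∀ y : X', y ∈ V := fun y => by
    show y ∈ (V : Set X')
    rw [hV]
    by_cases hy : y = b ξ
    · subst hy
      refine ⟨Or.inl ((FlatLocus.exists_smooth_nhd_iff p' _).2 hsm), fun w hw hwgen => ?_⟩
      have hwU : p'.fiberι (p' (b ξ)) w ∈ U := fun h => by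
        have h1 : p'.fiberι (p' (b ξ)) w = p'.fiberι (p' (b ξ)) (p'.asFiber (b ξ)) := by
          rw [p'.fiberι_asFiber]; exact h
        exact hngen ((p'.fiberι _).isEmbedding.injective h1 ▸ hwgen)
      exact (FibreDepth.fib_transfer p' (p' (b ξ)) w fun s v => NodePtLib.CompsAt (F := p'.fiber s) v).2.1
        (NodePtLib.nodalPt_of_family p' U hU hwU).2 w (specializes_refl _) hwgen
    · exact NodePtLib.nodalPt_of_family p' U hU hy
  exact S1593.result p' PUnit (fun _ => V.toScheme) (fun _ => V.ι) (fun y => ⟨⟨⟩, ⟨y, hall y⟩, rfl⟩) fun _ => hVfam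

end Groth.Agent.S3339
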