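import Groth.Statements.S3346
import Groth.Agent.CastLib.ContractInter
-- import your own Groth.Agent.* helpers here

set_option autoImplicit false
set_option backward.isDefEq.respectTransparency false
set_option maxHeartbeats 800000
set_option synthInstance.maxHeartbeats 200000
universe u
open CategoryTheory CategoryTheory.Limits AlgebraicGeometry
open Models

namespace Groth.Agent.S3346

/-- In the following situation (R a discrete valuation ring with residue field k, C a smooth proper
curve over its fraction field K with H^0(C, O_C) = K, X a regular proper model with generic-fibre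
inclusion g, Γ_0, …, Γ_n the irreducible components of the closed fibre with multiplicities m_i, L_j
⊗ I(Γ_j) ≅ O_X, a_ij = deg_k(L_j|Γ_i)) assume the last component Γ_n is an exceptional curve of the
first kind and let b : X → X' be a contraction of Γ_n over R (X' Noetherian, p = b ≫ p'). Then X'
(with g ≫ b) is a regular proper model of C, the irreducible components of its closed fibre are
exactly the images Γ'_i = b(Γ_i), i < n, and for any enumeration Γ' of them with these images and
any L'_j ⊗ I(Γ'_j) ≅ O_{X'} one has m'_i = m_i and a'_ij · a_nn = a_ij · a_nn - a_in · a_jn (that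
is, a'_ij = a_ij - a_in a_jn / a_nn, cleared of the denominator a_nn ≠ 0). -/
theorem result (R : Type u) [CommRing R] [IsDomain R] [IsDiscreteValuationRing R]
    (C X X' : Scheme.{u}) (f : C ⟶ Spec (CommRingCat.of (FractionRing R))) (p : X ⟶ Spec (CommRingCat.of R))
    (p' : X' ⟶ Spec (CommRingCat.of R))
    (hC : Curve.IsSmoothProperCurve (FractionRing R) C f) (hH0 : IsIso f.appTop)
    (hX : Models.IsRegularProperModel R X p C f) (g : C ⟶ X) (hg : IsPullback g f p (Spec.map (CommRingCat.ofHom (algebraMap R (FractionRing R)))))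
    {n : ℕ} (Γ : Fin (n + 1) → ArSurf.VertComp R (Over.mk p)) (hΓ : Models.IsComponentList R (Over.mk p) Γ)
    (L : Fin (n + 1) → X.Modules) (hL : ∀ i, ClSub.IsInverseOf (L i) (ClSub.idealMod (Γ i).ι.ker))
    (hexc : Models.IsExcCurve (Γ (Fin.last n)).ι)
    (b : X ⟶ X') (hb : Models.IsContractionOf (Γ (Fin.last n)).ι b) (hcomm : b ≫ p' = p) :
    Models.IsRegularProperModel R X' p' C f ∧
      Models.fibreComponents R (Over.mk p') =
        Set.range (fun i : Fin n => b.base '' Set.range ((Γ i.castSucc).ι.base : (Γ i.castSucc).curve.left → X)) ∧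
      ∀ (Γ' : Fin n → ArSurf.VertComp R (Over.mk p')),
        (∀ i, Set.range ((Γ' i).ι.base : (Γ' i).curve.left → X') =
          b.base '' Set.range ((Γ i.castSucc).ι.base : (Γ i.castSucc).curve.left → X)) →
        (∀ i, Models.mult R (Over.mk p') (Γ' i) = Models.mult R (Over.mk p) (Γ i.castSucc)) ∧
        ∀ (L' : Fin n → X'.Modules), (∀ j, ClSub.IsInverseOf (L' j) (ClSub.idealMod (Γ' j).ι.ker)) →
          ∀ i j : Fin n,
            ArSurf.inter R (Over.mk p') (L' j) (Γ' i) * ArSurf.inter R (Over.mk p) (L (Fin.last n)) (Γ (Fin.last n)) =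
              ArSurf.inter R (Over.mk p) (L j.castSucc) (Γ i.castSucc) * ArSurf.inter R (Over.mk p) (L (Fin.last n)) (Γ (Fin.last n)) -
                ArSurf.inter R (Over.mk p) (L (Fin.last n)) (Γ i.castSucc) * ArSurf.inter R (Over.mk p) (L (Fin.last n)) (Γ j.castSucc) := by
    have hV : CastLib.VSurf (Over.mk p) := CastLib.VSurf.of_model hC hX
    haveI : IsProper p := hV.proper
    haveI hXn : AlgebraicGeometry.IsNoetherian X := hV.noeth
    haveI hXi : IsIntegral X := hV.int
    let E := Γ (Fin.last n)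
    have hEv : ∀ c, p (E.ι c) = IsLocalRing.closedPoint R := CastLib.vertComp_vertical E
    obtain ⟨X₂, p₂, b₂, hX₂, hg₂, hcomm₂, hb₂, -, -⟩ := CastLib.exists_contract_step hC p hX hg (E.ι : E.curve.left ⟶ X) hexc hEv
    obtain ⟨hN, hprop, y, hy, hr, hreg, hd, hbl⟩ := id hb
    obtain ⟨hN₂, hprop₂, y₂, hy₂, hr₂, hreg₂, hd₂, hbl₂⟩ := id hb₂
    haveI := hN
    haveI := hN₂
    haveI : AlgebraicGeometry.IsNoetherian (Over.mk p).left := hXn
    haveI : IsClosedImmersion (E.ι : E.curve.left ⟶ X) := E.isClosedImmersion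
    obtain ⟨φ, hφ, -⟩ := SurfPtBlow.contraction_existsUnique (X := X) (ι := (E.ι : E.curve.left ⟶ X)) hexc hb b₂ y₂ hr₂
    obtain ⟨ψ, hψ, -⟩ := SurfPtBlow.contraction_existsUnique hexc hb₂ b y hr
    have hφψ : φ ≫ ψ = 𝟙 _ := (SurfPtBlow.contraction_existsUnique hexc hb b y hr).unique
      (show b ≫ φ ≫ ψ = b by rw [reassoc_of% hφ, hψ]) (Category.comp_id b)
    have hψφ : ψ ≫ φ = 𝟙 _ := (SurfPtBlow.contraction_existsUnique hexc hb₂ b₂ y₂ hr₂).unique
      (show b₂ ≫ ψ ≫ φ = b₂ by rw [reassoc_of% hψ, hφ]) (Category.comp_id b₂)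
    let e : X' ≅ X₂ := ⟨φ, ψ, hφψ, hψφ⟩
    haveI : Nonempty E.curve.left := ⟨genericPoint E.curve.left⟩
    have hyv : Set.range ((E.ι ≫ p : E.curve.left ⟶ _).base) = {IsLocalRing.closedPoint R} := by
      refine Set.eq_singleton_iff_nonempty_unique_mem.2 ⟨⟨_, genericPoint E.curve.left, rfl⟩, ?_⟩
      rintro _ ⟨c, rfl⟩
      exact hEv c
    have hp' : φ ≫ p₂ = p' := (SurfPtBlow.contraction_existsUnique hexc hb p _ hyv).unique
      (show b ≫ φ ≫ p₂ = p by rw [reassoc_of% hφ, hcomm₂]) hcomm
    haveI : IsIso φ := ⟨ψ, hφψ, hψφ⟩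
    obtain ⟨⟨hfl₂, hlft₂, hqc₂, -⟩, hpr₂, hreg2⟩ := id hX₂
    haveI := hfl₂
    haveI := hlft₂
    haveI := hqc₂
    haveI := hpr₂
    have hreg' : Models.IsRegularScheme X' := fun x => by
      haveI := hreg2 (φ x)
      exact IsRegularLocalRing.of_ringEquiv (R := X₂.presheaf.stalk (φ x))
        (asIso (φ.stalkMap x)).commRingCatIsoToRingEquiv
    have hsq : IsPullback (g ≫ b) f p' (Spec.map (CommRingCat.ofHom (algebraMap R (FractionRing R)))) :=
      IsPullback.of_iso hg₂ (Iso.refl _) e.symm (Iso.refl _) (Iso.refl _)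
        (by simp [e, hψ]) (by simp) (by
          simp only [Iso.refl_hom, Category.comp_id, Iso.symm_hom]
          rw [← hp']
          show p₂ = ψ ≫ φ ≫ p₂
          rw [reassoc_of% hψφ]) (by simp)
    have hmodel : Models.IsRegularProperModel R X' p' C f := by
      refine ⟨⟨?_, ?_, ?_, _, hsq⟩, ?_, hreg'⟩ <;> rw [← hp'] <;> infer_instance
    have hV' : CastLib.VSurf (Over.mk p') := CastLib.VSurf.of_model hC hmodel
    haveI : IsProper p' := hV'.proper
    haveI : IsIntegral X' := hV'.int
    let B : Over.mk p ⟶ Over.mk p' := Over.homMk b hcomm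
    have hE : Set.range E.ι = b ⁻¹' {y} := SurfPtBlow.range_eq_fibre hexc hy hr hreg hd hbl
    haveI : IsProper b := hprop
    haveI hsurj : Surjective b := ⟨SurfPtBlow.surjective_blowUp hbl hreg hd⟩
    have hne : ∀ i : Fin n, Set.range (Γ i.castSucc).ι ≠ Set.range E.ι := fun i h =>
      (Fin.castSucc_lt_last i).ne (hΓ.1 h)
    let S : Fin n → Set X' := fun i => b.base '' Set.range ((Γ i.castSucc).ι.base : (Γ i.castSucc).curve.left → X)
    have hScl : ∀ i, IsClosed (S i) := fun i =>
      b.isClosedMap _ (Γ i.castSucc).ι.isClosedEmbedding.isClosed_range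
    have hSirr : ∀ i, IsIrreducible (S i) := fun i => by
      refine IsIrreducible.image ?_ _ b.continuous.continuousOn
      exact Set.image_univ ▸ (IrreducibleSpace.isIrreducible_univ _).image _ (Γ i.castSucc).ι.continuous.continuousOn
    have hSfib : ∀ i, S i ⊆ Models.specialFibreSet R (Over.mk p') := by
      rintro i _ ⟨_, ⟨c, rfl⟩, rfl⟩
      show p' (b ((Γ i.castSucc).ι c)) = _
      rw [← Scheme.Hom.comp_apply, hcomm]
      exact CastLib.vertComp_vertical (Γ i.castSucc) c
    have hchainU : ∀ c ⊆ {Z : Set X | IsIrreducible Z ∧ Z ⊆ Models.specialFibreSet R (Over.mk p)},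
        IsChain (· ⊆ ·) c → c.Nonempty → ∃ ub ∈ {Z : Set X | IsIrreducible Z ∧ Z ⊆ Models.specialFibreSet R (Over.mk p)},
          ∀ Z ∈ c, Z ⊆ ub := fun c hc hchain hne => by
      refine ⟨⋃₀ c, ⟨⟨?_, ?_⟩, Set.sUnion_subset fun Z hZ => (hc hZ).2⟩, fun Z hZ => Set.subset_sUnion_of_mem hZ⟩
      · obtain ⟨Z, hZ⟩ := hne
        exact (hc hZ).1.1.mono (Set.subset_sUnion_of_mem hZ)
      · intro u v hu hv hu' hv'
        obtain ⟨a, ⟨Za, hZa, haZ⟩, hau⟩ := hu'
        obtain ⟨a', ⟨Zb, hZb, hbZ⟩, hbv⟩ := hv'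
        rcases hchain.total hZa hZb with h | h
        · obtain ⟨z, hz, hzz⟩ := (hc hZb).1.2 u v hu hv ⟨a, h haZ, hau⟩ ⟨a', hbZ, hbv⟩
          exact ⟨z, ⟨Zb, hZb, hz⟩, hzz⟩
        · obtain ⟨z, hz, hzz⟩ := (hc hZa).1.2 u v hu hv ⟨a, haZ, hau⟩ ⟨a', h hbZ, hbv⟩
          exact ⟨z, ⟨Za, hZa, hz⟩, hzz⟩
    have hcover : ∀ x : X, p x = IsLocalRing.closedPoint R → ∃ i, x ∈ Set.range (Γ i).ι := fun x hx => by
      obtain ⟨T, hT, hle⟩ := zorn_subset_nonempty _ hchainU {x} ⟨isIrreducible_singleton, Set.singleton_subset_iff.2 hx⟩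
      obtain ⟨i, hi⟩ := hΓ.2.ge (show T ∈ Models.fibreComponents R (Over.mk p) from hle)
      exact ⟨i, hi.ge (hT rfl)⟩
    have hcov : ∀ z, p' z = IsLocalRing.closedPoint R → z = y ∨ ∃ i, z ∈ S i := fun z hz => by
      obtain ⟨x, rfl⟩ := b.surjective z
      rw [← Scheme.Hom.comp_apply, hcomm] at hz
      obtain ⟨i, hi⟩ := hcover x hz
      induction i using Fin.lastCases with
      | last => exact Or.inl (hE.le hi)
      | cast i => exact Or.inr ⟨i, x, hi, rfl⟩
    have hgen : ∀ i, IsGenericPoint (b (Models.genPtOf R (Over.mk p) (Γ i.castSucc))) (S i) := fun i => by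
      have h := ((genericPoint_spec (Γ i.castSucc).curve.left).image (Γ i.castSucc).ι.continuous).image b.continuous
      rw [Set.image_univ, (Γ i.castSucc).ι.isClosedEmbedding.isClosed_range.closure_eq, (hScl i).closure_eq] at h
      exact h
    haveI : IsIso (b ∣_ CastLib.ContractInter.U (X' := Over.mk p') hy) := CastLib.ContractInter.isIso_off B hy hbl
    have hny : ∀ i : Fin n, b (Models.genPtOf R (Over.mk p) (Γ i.castSucc)) ≠ y := fun i =>
      CastLib.ContractInter.genPt_not_y B hV hE (hne i)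
    -- the images are exactly the components
    have hmax : ∀ i, S i ∈ Models.fibreComponents R (Over.mk p') := fun i => by
      refine ⟨⟨hSirr i, hSfib i⟩, fun T hT hle => ?_⟩
      obtain ⟨ζ, hζ⟩ := QuasiSober.sober hT.1.closure isClosed_closure
      have hζf : ζ ∈ Models.specialFibreSet R (Over.mk p') :=
        (Models.isClosed_specialFibreSet R (Over.mk p')).closure_subset_iff.2 hT.2 hζ.mem
      have h1 : ζ ⤳ b (Models.genPtOf R (Over.mk p) (Γ i.castSucc)) :=
        hζ.specializes (subset_closure (hle (hgen i).mem))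
      rcases hcov ζ hζf with hzy | ⟨j, hj⟩
      · rw [hzy] at h1
        exact absurd (Set.mem_singleton_iff.1 (h1.mem_closed hy rfl)) (hny i)
      · have hTS : T ⊆ S j := fun t ht => (hζ.specializes (subset_closure ht)).mem_closed (hScl j) hj
        have h2 : b (Models.genPtOf R (Over.mk p) (Γ j.castSucc)) ⤳ b (Models.genPtOf R (Over.mk p) (Γ i.castSucc)) :=
          (hgen j).specializes (hTS (hle (hgen i).mem))
        have h3 : Models.genPtOf R (Over.mk p) (Γ j.castSucc) ⤳ Models.genPtOf R (Over.mk p) (Γ i.castSucc) :=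
          CastLib.ContractInter.specializes_lift b (CastLib.ContractInter.U (X' := Over.mk p') hy) (hny j) (hny i) h2
        have h4 : Models.genPtOf R (Over.mk p) (Γ j.castSucc) = Models.genPtOf R (Over.mk p) (Γ i.castSucc) := by
          by_contra h4
          have h5 := S8909.succ_le h3 h4
          erw [hV.coheight_genPtOf, hV.coheight_genPtOf] at h5
          exact absurd h5 (by decide)
        have h5 : j = i := Fin.castSucc_injective n (hΓ.1 (by
          show Set.range (Γ j.castSucc).ι = Set.range (Γ i.castSucc).ι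
          rw [CastLib.range_vertComp, CastLib.range_vertComp, h4]))
        exact h5 ▸ hTS
    refine ⟨hmodel, ?_, fun Γ' hΓ' => ⟨fun i => CastLib.ContractInter.mult_image B hy hV hV' hbl hE (hne i) (hΓ' i),
      fun L' hL' i j => CastLib.ContractInter.inter_formula B hy hV hV' hbl hE (hne i) (hne j) (hΓ' i) (hΓ' j)
        (hL _) (hL _) (hL' j)⟩⟩
    refine Set.Subset.antisymm (fun T hT => ?_) ?_
    · have hTcl : IsClosed T := isClosed_of_closure_subset (hT.2 ⟨hT.1.1.closure,
        (Models.isClosed_specialFibreSet R (Over.mk p')).closure_subset_iff.2 hT.1.2⟩ subset_closure)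
      obtain ⟨ζ, hζ⟩ := QuasiSober.sober hT.1.1 hTcl
      rcases hcov ζ (hT.1.2 hζ.mem) with hzy | ⟨j, hj⟩
      · -- the point is not a component
        exfalso
        have hTy : T = {y} := by rw [← hζ.def, hzy, hy.closure_eq]
        have hyG : ∀ j, y ∉ S j := fun j hyj => by
          have h := hT.2 ⟨hSirr j, hSfib j⟩ (by rw [hTy]; exact Set.singleton_subset_iff.2 hyj)
          exact hny j (Set.mem_singleton_iff.1 (hTy.le (h (hgen j).mem)))
        haveI := hV'.flat
        haveI : IsIntegral (Over.mk p').left := hV'.int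
        haveI : IsProper (Over.mk p').hom := hV'.proper
        have hdim : topologicalKrullDim X' = 2 := by
          refine le_antisymm hV'.dim ?_
          rw [ASp.topologicalKrullDim_eq_krullDim, ← hd, ringKrullDim_stalk_eq_coheight]
          exact Order.coheight_le_krullDim y
        refine CastLib.not_isolated_in_fibre (Y := Over.mk p') hdim (y := y) (hT.1.2 (hTy.ge rfl))
          (isClosed_iUnion_of_finite hScl) (fun h => ?_) fun z hz => (hcov z hz).imp id fun ⟨i, hi⟩ => Set.mem_iUnion.2 ⟨i, hi⟩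
        obtain ⟨i, hi⟩ := Set.mem_iUnion.1 h
        exact hyG i hi
      · refine ⟨j, ?_⟩
        have hsub : T ⊆ S j := fun t ht => (hζ.specializes ht).mem_closed (hScl j) hj
        exact (hT.2 ⟨hSirr j, hSfib j⟩ hsub).antisymm hsub
    · rintro _ ⟨i, rfl⟩
      exact hmax i

end Groth.Agent.S3346
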