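import Groth.Statements.S3349
import Groth.Agent.NumTypeLib.Basic
import Groth.Agent.NumTypeLib.Graph
import Groth.Agent.NumTypeLib.Contraction
import Groth.Agent.NumTypeLib.Pic

set_option autoImplicit false
open Finset
open Models Models.NumericalType

namespace Groth.Agent.S3349

open Groth.Agent.NumTypeLib

/-- Let T be a numerical type with exactly one index. Then a_11 = 0 and the genus of T is g = 1 + m_1
w_1 (g_1 - 1). Consequently: if g < 0 then g_1 = 0 (and m_1 w_1 = 1 - g); if g = 0 then m_1 = w_1 =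
1 and g_1 = 0; if g = 1 then g_1 = 1; if g > 1 then g_1 > 1 (and m_1 w_1 (g_1 - 1) = g - 1). -/
theorem result (T : Models.NumericalType 1) :
    T.a 0 0 = 0 ∧ T.genus = 1 + T.m 0 * T.w 0 * (T.g 0 - 1) ∧
      (T.genus < 0 → T.g 0 = 0) ∧ (T.genus = 0 → T.m 0 = 1 ∧ T.w 0 = 1 ∧ T.g 0 = 0) ∧
      (T.genus = 1 → T.g 0 = 1) ∧ (1 < T.genus → 1 < T.g 0) := by
  have ha : T.a 0 0 = 0 := by
    have := sum_row T 0
    simpa [(T.m_pos 0).ne'] using this
  have hgen : T.genus = 1 + T.m 0 * T.w 0 * (T.g 0 - 1) := by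
    have h := two_genus T
    simp [term, ha] at h
    linarith
  have hmw := mul_pos (T.m_pos 0) (T.w_pos 0)
  have hg := T.g_nonneg 0
  refine ⟨ha, hgen, fun h => ?_, fun h => ?_, fun h => ?_, fun h => ?_⟩
  · by_contra hne
    nlinarith [mul_nonneg hmw.le (by omega : (0:ℤ) ≤ T.g 0 - 1)]
  · have hg0 : T.g 0 = 0 := by
      by_contra hne
      nlinarith [mul_nonneg hmw.le (by omega : (0:ℤ) ≤ T.g 0 - 1)]
    rw [hg0] at hgen
    have h1 : T.m 0 * T.w 0 = 1 := by linarith
    have h2 := Int.eq_one_of_mul_eq_one_right (T.m_pos 0).le h1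
    exact ⟨h2, by rwa [h2, one_mul] at h1, hg0⟩
  · rw [h] at hgen
    have : T.m 0 * T.w 0 * (T.g 0 - 1) = 0 := by linarith
    have := (mul_eq_zero.1 this).resolve_left hmw.ne'
    omega
  · by_contra hc
    nlinarith [mul_nonpos_of_nonneg_of_nonpos hmw.le (by omega : T.g 0 - 1 ≤ 0)]

end Groth.Agent.S3349
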