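import Groth.Statements.S3351
import Mathlib.LinearAlgebra.Dual.Lemmas
import Mathlib.LinearAlgebra.BilinearForm.Orthogonal
import Mathlib.LinearAlgebra.FreeModule.PID
import Mathlib.LinearAlgebra.Dimension.RankNullity
import Mathlib.LinearAlgebra.Dimension.Finite
import Mathlib.LinearAlgebra.Dimension.Localization

set_option autoImplicit false
open Models

namespace Groth.Agent.S3351

lemma extend_dual {L : Type} [AddCommGroup L] [Module.Finite ℤ L]
    (S : Submodule ℤ L) (hS : ∀ (c : ℤ) (x : L), c ≠ 0 → c • x ∈ S → x ∈ S) (ψ : Module.Dual ℤ S) :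
    ∃ φ : Module.Dual ℤ L, φ ∘ₗ S.subtype = ψ := by
  haveI : Module.IsTorsionFree ℤ (L ⧸ S) := by
    refine Module.isTorsionFree_iff_smul_eq_zero.2 fun c q h => ?_
    by_cases hc : c = 0
    · exact Or.inl hc
    right
    obtain ⟨x, rfl⟩ := Submodule.Quotient.mk_surjective _ q
    rw [← Submodule.Quotient.mk_smul, Submodule.Quotient.mk_eq_zero] at h
    exact (Submodule.Quotient.mk_eq_zero _).2 (hS c x hc h)
  haveI : Module.Free ℤ (L ⧸ S) := Module.free_of_finite_type_torsion_free'
  obtain ⟨s, hs⟩ := Module.projective_lifting_property S.mkQ LinearMap.id (Submodule.mkQ_surjective S)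
  let r : L →ₗ[ℤ] S := LinearMap.codRestrict S (LinearMap.id - s ∘ₗ S.mkQ) fun x => by
    have h := LinearMap.congr_fun hs (S.mkQ x)
    simp only [LinearMap.comp_apply, LinearMap.id_apply] at h
    rw [← Submodule.Quotient.mk_eq_zero]
    change S.mkQ (x - s (S.mkQ x)) = 0
    rw [map_sub, h, sub_self]
  refine ⟨ψ ∘ₗ r, LinearMap.ext fun x => ?_⟩
  simp only [LinearMap.comp_apply, Submodule.subtype_apply]
  congr 1
  apply Subtype.ext
  simp [r, (Submodule.Quotient.mk_eq_zero S).2 x.2]

lemma full_rank {L : Type} [AddCommGroup L] [Module.Finite ℤ L] [Module.Free ℤ L]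
    (B : LinearMap.BilinForm ℤ L) (hpos : ∀ x, x ≠ 0 → 0 < B x x) (A : Submodule ℤ L) (y : L) :
    ∃ c : ℤ, c ≠ 0 ∧ ∃ a ∈ A, ∀ a' ∈ A, B (c • y - a) a' = 0 := by
  haveI : Module.Finite ℤ A := Module.Finite.of_fg (IsNoetherian.noetherian A)
  haveI : Module.Free ℤ A := Module.free_of_finite_type_torsion_free'
  let φ : L →ₗ[ℤ] Module.Dual ℤ A := B.compl₂ A.subtype
  let f : A →ₗ[ℤ] Module.Dual ℤ A := φ ∘ₗ A.subtype
  have hinj : Function.Injective f := by
    rw [injective_iff_map_eq_zero]
    intro a ha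
    by_contra hne
    have h2 : B a a = 0 := LinearMap.congr_fun ha a
    have h3 := hpos a (fun e => hne (Subtype.ext e))
    omega
  have h1 := Submodule.finrank_quotient_add_finrank (LinearMap.range f)
  rw [LinearMap.finrank_range_of_inj hinj] at h1
  have h2 : Module.finrank ℤ (Module.Dual ℤ A) = Module.finrank ℤ A :=
    (Module.Free.chooseBasis ℤ A).toDualEquiv.finrank_eq.symm
  have h3 : Module.finrank ℤ (Module.Dual ℤ A ⧸ LinearMap.range f) = 0 := by omega
  obtain ⟨c, hc, hcy⟩ := Module.finrank_eq_zero_iff.1 h3 (Submodule.Quotient.mk (φ y))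
  rw [← Submodule.Quotient.mk_smul, Submodule.Quotient.mk_eq_zero] at hcy
  obtain ⟨a, ha⟩ := hcy
  refine ⟨c, hc, a, a.2, fun a' ha' => ?_⟩
  have h4 : B a a' = c * B y a' := LinearMap.congr_fun ha ⟨a', ha'⟩
  simp only [map_sub, map_smul, LinearMap.sub_apply, LinearMap.smul_apply, smul_eq_mul]
  omega


/-- Let L be a finite free Z-module with a positive definite symmetric integral bilinear form, A ⊆ L a
submodule with L/A torsion free and B the orthogonal complement of A. Write M^# for the dual lattice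
of a sublattice M, identified here with the Z-dual Hom(M, Z) through the form. Then the natural maps
L/(A ⊕ B) → B^#/B and L/(A ⊕ B) → A^#/A are injective: an element x of L whose functional ⟨x, -⟩ on
B (resp. on A) is represented by an element of B (resp. of A) lies in A ⊕ B. Moreover the
restriction maps L^# → B^# and L^# → A^# are surjective, so that the cokernels of the two injections
are quotients of L^#/L. -/
theorem result {L : Type} [AddCommGroup L] [Module.Finite ℤ L] [Module.Free ℤ L]
    (B : LinearMap.BilinForm ℤ L) (hsymm : B.IsSymm) (hpos : ∀ x, x ≠ 0 → 0 < B x x)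
    (A : Submodule ℤ L) (htf : ∀ (c : ℤ) (x : L), c ≠ 0 → c • x ∈ A → x ∈ A) :
    (∀ x : L, (∃ b ∈ B.orthogonal A, ∀ b' ∈ B.orthogonal A, B x b' = B b b') → x ∈ A ⊔ B.orthogonal A) ∧
      (∀ x : L, (∃ a ∈ A, ∀ a' ∈ A, B x a' = B a a') → x ∈ A ⊔ B.orthogonal A) ∧
      (∀ ψ : Module.Dual ℤ ↥(B.orthogonal A), ∃ φ : Module.Dual ℤ L, φ ∘ₗ (B.orthogonal A).subtype = ψ) ∧
      (∀ ψ : Module.Dual ℤ ↥A, ∃ φ : Module.Dual ℤ L, φ ∘ₗ A.subtype = ψ) := by
  have hs : ∀ u v, B u v = B v u := fun u v => hsymm.eq u v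
  have horth : ∀ y, y ∈ B.orthogonal A ↔ ∀ a ∈ A, B a y = 0 := fun y => Iff.rfl
  refine ⟨?_, ?_, fun ψ => extend_dual _ ?_ ψ, fun ψ => extend_dual A htf ψ⟩
  · rintro x ⟨b, hb, hxb⟩
    have key : x - b ∈ A := by
      obtain ⟨c, hc, a, ha, hca⟩ := full_rank B hpos A (x - b)
      set r := c • (x - b) - a with hr
      have hrorth : r ∈ B.orthogonal A := (horth r).2 fun a' ha' => by rw [hs]; exact hca a' ha'
      have h1 : B (x - b) r = 0 := by
        rw [LinearMap.map_sub₂, hxb r hrorth, sub_self]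
      have h2 : B a r = 0 := (horth r).1 hrorth a ha
      have h3 : B r r = 0 := by
        show B (c • (x - b) - a) r = 0
        rw [LinearMap.map_sub₂, LinearMap.map_smul₂, h1, h2, smul_zero, sub_zero]
      have h4 : r = 0 := by
        by_contra hne
        have := hpos r hne
        omega
      exact htf c _ hc (by rw [show c • (x - b) = a from sub_eq_zero.1 h4]; exact ha)
    rw [show x = (x - b) + b by abel]
    exact Submodule.add_mem_sup key hb
  · rintro x ⟨a, ha, hxa⟩
    rw [show x = a + (x - a) by abel]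
    refine Submodule.add_mem_sup ha ((horth _).2 fun a' ha' => ?_)
    rw [map_sub, hs a' x, hs a' a, hxa a' ha', sub_self]
  · intro c x hc h
    refine (horth x).2 fun a ha => ?_
    have h' := (horth _).1 h a ha
    rw [map_smul, smul_eq_mul] at h'
    exact (mul_eq_zero.1 h').resolve_left hc

end Groth.Agent.S3351
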