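import Groth.Statements.S3352
import Mathlib.LinearAlgebra.Dual.Lemmas
import Mathlib.LinearAlgebra.FreeModule.PID
import Mathlib.LinearAlgebra.Dimension.RankNullity
import Mathlib.LinearAlgebra.Dimension.Finite
import Mathlib.LinearAlgebra.Dimension.Localization
import Mathlib.LinearAlgebra.Isomorphisms

set_option autoImplicit false
open Models

namespace Groth.Agent.S3352

/-- Let L₀, L₁ be finite free ℤ-modules with positive definite symmetric integral bilinear forms, the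
form on L₀ unimodular (x ↦ ⟨x, −⟩ is a bijection L₀ → Hom(L₀, ℤ)), and let d : L₀ → L₁ and d* : L₁ →
L₀ be adjoint. Identify Im(d)^# (the dual lattice of Im(d)) with Hom(Im(d), ℤ) through the form on
L₁. Then there is an isomorphism Φ from the torsion subgroup of Coker(d* d) onto Im(d)^#/Im(d),
determined by: for x ∈ L₀ whose class is torsion, Φ[x] is the class of the functional d(y') ↦ ⟨x,
y'⟩ (equivalently the class of (1/a)·d(y) when a·x = d* d(y)). -/
theorem result {L₀ L₁ : Type} [AddCommGroup L₀] [AddCommGroup L₁]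
    [Module.Finite ℤ L₀] [Module.Free ℤ L₀] [Module.Finite ℤ L₁] [Module.Free ℤ L₁]
    (B₀ : LinearMap.BilinForm ℤ L₀) (B₁ : LinearMap.BilinForm ℤ L₁) (h₀s : B₀.IsSymm) (h₁s : B₁.IsSymm)
    (h₀p : ∀ x, x ≠ 0 → 0 < B₀ x x) (h₁p : ∀ x, x ≠ 0 → 0 < B₁ x x) (huni : Function.Bijective B₀)
    (d : L₀ →ₗ[ℤ] L₁) (ds : L₁ →ₗ[ℤ] L₀) (hadj : ∀ x y, B₁ (d x) y = B₀ x (ds y)) :
    ∃ Φ : ↥(Submodule.torsion ℤ (L₀ ⧸ LinearMap.range (ds ∘ₗ d))) ≃ₗ[ℤ]
        (Module.Dual ℤ ↥(LinearMap.range d) ⧸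
          LinearMap.range ((B₁.compl₂ (LinearMap.range d).subtype) ∘ₗ (LinearMap.range d).subtype)),
      ∀ (x : L₀) (hx : Submodule.Quotient.mk x ∈ Submodule.torsion ℤ (L₀ ⧸ LinearMap.range (ds ∘ₗ d)))
        (ψ : Module.Dual ℤ ↥(LinearMap.range d)),
        (∀ y' : L₀, ψ ⟨d y', LinearMap.mem_range_self d y'⟩ = B₀ x y') →
          Φ ⟨Submodule.Quotient.mk x, hx⟩ = Submodule.Quotient.mk ψ := by
  let R := LinearMap.range d
  let G : R →ₗ[ℤ] Module.Dual ℤ R := (B₁.compl₂ R.subtype) ∘ₗ R.subtype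
  let eB : L₀ ≃ₗ[ℤ] Module.Dual ℤ L₀ := LinearEquiv.ofBijective B₀ huni
  let e : Module.Dual ℤ R →ₗ[ℤ] L₀ := eB.symm.toLinearMap ∘ₗ d.rangeRestrict.dualMap
  let K := LinearMap.range (ds ∘ₗ d)
  have he : ∀ ψ y', B₀ (e ψ) y' = ψ ⟨d y', LinearMap.mem_range_self d y'⟩ := fun ψ y' => by
    change eB (eB.symm (d.rangeRestrict.dualMap ψ)) y' = _
    rw [LinearEquiv.apply_symm_apply]
    rfl
  have heinj : Function.Injective e := by
    intro ψ ψ' h
    refine LinearMap.ext fun r => ?_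
    obtain ⟨r, y, rfl⟩ := r
    rw [← he ψ y, ← he ψ' y, h]
  have hG : ∀ y, e (G ⟨d y, LinearMap.mem_range_self d y⟩) = ds (d y) := fun y => by
    apply huni.1
    refine LinearMap.ext fun y' => ?_
    rw [he]
    change B₁ (d y) (d y') = _
    rw [h₁s.eq (d y) (d y'), hadj, h₀s.eq y']
  haveI : Module.Finite ℤ R := Module.Finite.of_fg (IsNoetherian.noetherian R)
  haveI : Module.Free ℤ R := Module.free_of_finite_type_torsion_free'
  have hGinj : Function.Injective G := by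
    rw [injective_iff_map_eq_zero]
    intro r hr
    by_contra hne
    have h2 : B₁ r r = 0 := LinearMap.congr_fun hr r
    have h3 := h₁p r (fun h => hne (Subtype.ext h))
    omega
  have hrank : Module.finrank ℤ (Module.Dual ℤ R ⧸ LinearMap.range G) = 0 := by
    have h1 := Submodule.finrank_quotient_add_finrank (LinearMap.range G)
    rw [LinearMap.finrank_range_of_inj hGinj,
      (Module.Free.chooseBasis ℤ R).toDualEquiv.finrank_eq.symm] at h1
    omega
  have htors : ∀ ψ, K.mkQ (e ψ) ∈ Submodule.torsion ℤ (L₀ ⧸ K) := fun ψ => by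
    obtain ⟨c, hc, hcψ⟩ := Module.finrank_eq_zero_iff.1 hrank (Submodule.Quotient.mk ψ)
    rw [← Submodule.Quotient.mk_smul, Submodule.Quotient.mk_eq_zero] at hcψ
    obtain ⟨⟨r, y, rfl⟩, hy⟩ := hcψ
    refine ⟨⟨c, mem_nonZeroDivisors_of_ne_zero hc⟩, ?_⟩
    change c • K.mkQ (e ψ) = 0
    rw [← map_smul, ← map_smul, ← hy, hG]
    exact (Submodule.Quotient.mk_eq_zero K).2 ⟨y, rfl⟩
  let Ψ : Module.Dual ℤ R →ₗ[ℤ] Submodule.torsion ℤ (L₀ ⧸ K) := LinearMap.codRestrict _ (K.mkQ ∘ₗ e) htors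
  have hsurj : Function.Surjective Ψ := by
    rintro ⟨q, hq⟩
    obtain ⟨x, rfl⟩ := Submodule.Quotient.mk_surjective K q
    obtain ⟨⟨c, hc⟩, hcx⟩ := hq
    change c • (Submodule.Quotient.mk x : L₀ ⧸ K) = 0 at hcx
    rw [← Submodule.Quotient.mk_smul, Submodule.Quotient.mk_eq_zero] at hcx
    obtain ⟨y, hy⟩ := hcx
    have hc0 : c ≠ 0 := nonZeroDivisors.ne_zero hc
    have hkill : LinearMap.ker d ≤ LinearMap.ker (B₀ x) := by
      intro y' hy'
      rw [LinearMap.mem_ker] at hy' ⊢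
      have h1 : B₀ (ds (d y)) y' = 0 := by
        rw [h₀s.eq, ← hadj, hy']
        simp
      have h2 : ds (d y) = c • x := hy
      rw [h2, map_smul, LinearMap.smul_apply, smul_eq_mul] at h1
      exact (mul_eq_zero.1 h1).resolve_left hc0
    let ψ : Module.Dual ℤ R := (LinearMap.ker d).liftQ (B₀ x) hkill ∘ₗ d.quotKerEquivRange.symm.toLinearMap
    refine ⟨ψ, Subtype.ext ?_⟩
    change K.mkQ (e ψ) = Submodule.Quotient.mk x
    have : e ψ = x := by
      apply huni.1
      refine LinearMap.ext fun y' => ?_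
      rw [he]
      change (LinearMap.ker d).liftQ (B₀ x) hkill (d.quotKerEquivRange.symm ⟨d y', _⟩) = _
      rw [LinearMap.quotKerEquivRange_symm_apply_image]
      rfl
    rw [this]; rfl
  have hker : LinearMap.ker Ψ = LinearMap.range G := by
    ext ψ
    rw [LinearMap.mem_ker]
    constructor
    · intro h
      have h' : K.mkQ (e ψ) = 0 := congrArg Subtype.val h
      obtain ⟨y, hy⟩ := (Submodule.Quotient.mk_eq_zero K).1 h'
      exact ⟨⟨d y, LinearMap.mem_range_self d y⟩, heinj ((hG y).trans hy)⟩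
    · rintro ⟨⟨r, y, rfl⟩, rfl⟩
      apply Subtype.ext
      change K.mkQ (e (G _)) = 0
      rw [hG]
      exact (Submodule.Quotient.mk_eq_zero K).2 ⟨y, rfl⟩
  let E := (Submodule.quotEquivOfEq _ _ hker.symm).trans (Ψ.quotKerEquivOfSurjective hsurj)
  refine ⟨E.symm, fun x hx ψ hψ => ?_⟩
  rw [LinearEquiv.symm_apply_eq]
  apply Subtype.ext
  change Submodule.Quotient.mk x = K.mkQ (e ψ)
  have : e ψ = x := huni.1 (LinearMap.ext fun y' => by rw [he, hψ])
  rw [this]; rfl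

end Groth.Agent.S3352
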