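import Groth.Statements.S3354
import Groth.Agent.ParaFLiftLib.Hyper
-- import your own Groth.Agent.* helpers here

set_option autoImplicit false
universe u
open CategoryTheory CategoryTheory.Limits AlgebraicGeometry
open ParaF

namespace Groth.Agent.S3354

/-- Let A be a Noetherian local ring which is a quotient of a regular local ring, t an A-regular element
of the maximal ideal such that A is complete for the t-adic topology, X the punctured spectrum of A
and Y = V(t) ∩ X (the punctured spectrum of B = A/tA, as the closed subscheme of X cut out by t).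
Assume (a) A_p has depth ≥ 2 for every prime p with dim A/p = 1 (the closed points of X) and (b) B
has depth ≥ 3. Then the map Pic(X) → Pic(Y) has trivial kernel: an invertible O_X-module whose
pull-back to Y is trivial is trivial. In particular, if B is parafactorial then A is parafactorial. -/
theorem result (R : Type u) [CommRing R] [IsRegularLocalRing R] (A : Type u) [CommRing A] [IsLocalRing A] [IsNoetherianRing A] (π : R →+* A) (hπ : Function.Surjective π) (t : A) (ht : t ∈ IsLocalRing.maximalIdeal A) (hreg : IsSMulRegular A t) [IsAdicComplete (Ideal.span {t}) A] (ha : ∀ p : PrimeSpectrum A, ringKrullDim (A ⧸ p.asIdeal) = 1 → (2 : ℕ∞) ≤ LocCoh.depth (Localization.AtPrime p.asIdeal) (Localization.AtPrime p.asIdeal)) [IsLocalRing (A ⧸ Ideal.span {t})] (hb : (3 : ℕ∞) ≤ LocCoh.depth (A ⧸ Ideal.span {t}) (A ⧸ Ideal.span {t})) : Formal2.PicPullbackInjective (((Spec.map (CommRingCat.ofHom (Ideal.Quotient.mk (Ideal.span {t})))).ker.comap (FEt.puncturedSpec A).ι)).subschemeι ∧ (ParaF.IsParafactorialLocalRing (A ⧸ Ideal.span {t}) → ParaF.IsParafactorialLocalRing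 A) := by
  have hgr := ParaFLiftLib.free_graded_span_singleton hreg
  have hJ : Ideal.span {t} ≠ ⊤ := fun h => (IsLocalRing.maximalIdeal.isMaximal A).ne_top
    (top_le_iff.1 (h ▸ (Ideal.span_singleton_le_iff_mem _).2 ht))
  refine ⟨?_, fun hB => ?_⟩
  · open CategoryTheory CategoryTheory.Limits AlgebraicGeometry in
    intro L hL hL'
    let g := Spec.map (CommRingCat.ofHom (Ideal.Quotient.mk (Ideal.span {t})))
    let U := FEt.puncturedSpec A
    let I := g.ker
    haveI : IsClosedImmersion g := IsClosedImmersion.spec_of_surjective _ Ideal.Quotient.mk_surjective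
    let m : (↑(g ⁻¹ᵁ U) : Scheme.{u}) ⟶ pullback U.ι I.subschemeι :=
      pullback.lift (g ∣_ U) ((g ⁻¹ᵁ U).ι ≫ g.toImage) (by
        rw [Category.assoc, morphismRestrict_ι]
        exact congrArg _ g.toImage_imageι.symm)
    let w := m ≫ (I.comapIso U.ι).inv
    have hw : w ≫ (I.comap U.ι).subschemeι = g ∣_ U := by
      simp only [w, m, Category.assoc, Scheme.IdealSheafData.comapIso_inv_subschemeι, pullback.lift_fst]
    obtain ⟨σ⟩ := hL'
    exact ParaFLiftLib.picPullbackInjective_quotient _ hgr hJ hb L hL
      ⟨(Scheme.Modules.pullbackCongr hw.symm).app L ≪≫ ((Scheme.Modules.pullbackComp w _).app L).symm ≪≫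
        (Scheme.Modules.pullback w).mapIso σ ≪≫ AmpleLib.pullO w⟩
  · have h0 := ((ParaFLib.isParafactorialLocalRing_iff _).1 hB).2
    have h3 := ParaFLiftLib.three_le_depth _ hgr hJ hb
    exact (ParaFLib.isParafactorialLocalRing_iff _).2
      ⟨ParaFLib.bijective_res_punctured_of_depth _ (le_trans (by norm_num) h3),
        ParaFLiftLib.picTrivial_of_normallyFlat _ hgr hJ hb h0⟩

end Groth.Agent.S3354
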