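import Groth.Statements.S3355
import Groth.Agent.PicLiftLib.Surj
import Groth.Agent.S3354
-- import your own Groth.Agent.* helpers here

set_option autoImplicit false
universe u
open CategoryTheory CategoryTheory.Limits AlgebraicGeometry
open ParaF

namespace Groth.Agent.S3355

/-- Let A be a Noetherian local ring which is a quotient of a regular local ring, t an A-regular element
of the maximal ideal with A complete for the t-adic topology, X the punctured spectrum of A and Y =
V(t) ∩ X, and assume (a) depth A_p ≥ 2 for every prime p with dim A/p = 1. Assume moreover (c) depth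
A_p ≥ 3 for every prime p containing t with dim A/p = 1 (the closed points of Y), (d) depth A/tA ≥
4, and (e) A_p is parafactorial for every prime p not containing t with dim A/p = 1, i.e. at the
closed points of X outside Y (the published statement places this hypothesis at the points of Y;
here it is taken at the closed points of X outside Y; the letters (a), (c), (d), (e) match the names
of the hypotheses in the Lean statement). Then pull-back along Y → X induces a bijection Pic(X) →
Pic(Y) (trivial kernel and every invertible O_Y-module comes from an invertible O_X-module); in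
particular A is parafactorial if and only if A/tA is. -/
theorem result (R : Type u) [CommRing R] [IsRegularLocalRing R] (A : Type u) [CommRing A] [IsLocalRing A] [IsNoetherianRing A] (π : R →+* A) (hπ : Function.Surjective π) (t : A) (ht : t ∈ IsLocalRing.maximalIdeal A) (hreg : IsSMulRegular A t) [IsAdicComplete (Ideal.span {t}) A] (ha : ∀ p : PrimeSpectrum A, ringKrullDim (A ⧸ p.asIdeal) = 1 → (2 : ℕ∞) ≤ LocCoh.depth (Localization.AtPrime p.asIdeal) (Localization.AtPrime p.asIdeal)) (hc : ∀ p : PrimeSpectrum A, t ∈ p.asIdeal → ringKrullDim (A ⧸ p.asIdeal) = 1 → (3 : ℕ∞) ≤ LocCoh.depth (Localization.AtPrime p.asIdeal) (Localization.AtPrime p.asIdeal)) [IsLocalRing (A ⧸ Ideal.span {t})] (hd : (4 : ℕ∞) ≤ LocCoh.depth (A ⧸ Ideal.span {t}) (A ⧸ Ideal.span {t})) (he : ∀ p : PrimeSpectrum A, t ∉ p.asIdeal → ringKrullDim (A ⧸ p.asIdeal) = 1 → ParaF.IsParafactorialLocalRing (Localization.AtPrime p.asIdeal)) : (Formal2.PicPullbackInjective (((Spec.map (CommRingCat.ofHom (Ideal.Quotient.mk (Ideal.span {t})))).ker.comap (FEt.puncturedSpec A).ι)).subschemeι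 ∧ Formal2.PicPullbackSurjective (((Spec.map (CommRingCat.ofHom (Ideal.Quotient.mk (Ideal.span {t})))).ker.comap (FEt.puncturedSpec A).ι)).subschemeι) ∧ (ParaF.IsParafactorialLocalRing A ↔ ParaF.IsParafactorialLocalRing (A ⧸ Ideal.span {t})) := by
  have hb : (3 : ℕ∞) ≤ LocCoh.depth (A ⧸ Ideal.span {t}) (A ⧸ Ideal.span {t}) := le_trans (by norm_num) hd
  obtain ⟨hinj, hback⟩ := Groth.Agent.S3354.result R A π hπ t ht hreg ha hb
  haveI : Fact (IsSMulRegular A t) := ⟨hreg⟩
  let e : PicLiftLib.Th t 0 ≃+* A ⧸ Ideal.span {t} := Ideal.quotEquivOfEq (by rw [pow_one])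
  haveI : IsLocalRing (PicLiftLib.Th t 0) := e.symm.isLocalRing
  have hd' : (4 : ℕ∞) ≤ LocCoh.depth (PicLiftLib.Th t 0) (PicLiftLib.Th t 0) := by
    rw [FlatDepth.depth_eq_of_ringEquiv e.symm]; exact hd
  have hpar : ∀ (q : Ideal A) [q.IsPrime], t ∉ q → q ≠ IsLocalRing.maximalIdeal A →
      (∀ q' : Ideal A, q'.IsPrime → q < q' → q' = IsLocalRing.maximalIdeal A) →
        ParaF.IsParafactorialLocalRing (Localization.AtPrime q) := fun q hq htq hqm hmax =>
    he ⟨q, hq⟩ htq (PicLiftLib.ringKrullDim_quotient_eq_one hqm hmax)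
  refine ⟨⟨hinj, ?_⟩, fun hA => ?_, hback⟩
  · have hs := PicLiftLib.picPullbackSurjective_specQuot
      (PicLiftLib.picPullbackSurjective_incl ht (PicLiftLib.liftHyp_of_depth hd') hpar)
    let g := Spec.map (CommRingCat.ofHom (Ideal.Quotient.mk (Ideal.span {t})))
    let U := FEt.puncturedSpec A
    haveI : IsClosedImmersion g := IsClosedImmersion.spec_of_surjective _ Ideal.Quotient.mk_surjective
    have hm : IsPullback (g ∣_ U) ((g ⁻¹ᵁ U).ι ≫ g.toImage) U.ι g.ker.subschemeι :=
      (isPullback_morphismRestrict g U).of_iso (Iso.refl _) (Iso.refl _) (asIso g.toImage) (Iso.refl _)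
        (by simp) (by simp) (by simp) (by simp only [Iso.refl_hom, Category.comp_id, asIso_hom]; exact g.toImage_imageι.symm)
    let w := hm.isoPullback.hom ≫ (g.ker.comapIso U.ι).inv
    have hw : w ≫ (g.ker.comap U.ι).subschemeι = g ∣_ U := by
      simp only [w, Category.assoc, Scheme.IdealSheafData.comapIso_inv_subschemeι, IsPullback.isoPullback_hom_fst]
    have hs' : Formal2.PicPullbackSurjective (w ≫ (g.ker.comap U.ι).subschemeι) := by
      rw [hw]; exact hs
    exact PicLiftLib.surjective_of_iso_comp w _ hs'
  · exact PicLiftLib.parafactorial_of_ringEquiv e.symm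
      (PicLiftLib.parafactorial_quot_step t ht hreg hd' hA hpar)

end Groth.Agent.S3355
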