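import Groth.Statements.S3356
import Groth.Agent.LefPicLib.Leff
import Groth.Agent.S3358
import Groth.Agent.ParaFLib.StalkPair

set_option autoImplicit false
universe u
open CategoryTheory CategoryTheory.Limits AlgebraicGeometry
open LefX

namespace Groth.Agent.S3356

/-- Let X be a locally Noetherian scheme, 𝓘 a quasi-coherent ideal with Y = V(𝓘), X_n the closed
subscheme defined by 𝓘^(n+1), and p ≥ 0. Assume: (1) the effective Lefschetz condition Leff(X, Y)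
holds; (2) H^i(X, 𝓘^(n+1)/𝓘^(n+2)) = 0 for i = 1, 2 and every n ≥ p; (3) for every open
neighbourhood U of Y and every point x outside U, the local ring O_{X,x} is parafactorial. Then for
every n ≥ p and every open U ⊇ Y the pull-back maps Pic(X) → Pic(U) and Pic(X) → Pic(X_n) are
bijective (trivial kernel and surjective on isomorphism classes). -/
theorem result (X : Scheme.{u}) [IsLocallyNoetherian X] (𝓘 : X.IdealSheafData) (p : ℕ) (h1 : LefX.LeffCond X 𝓘) (h2 : (∀ n : ℕ, p ≤ n → ∀ i : ℕ, (i = 1 ∨ i = 2) → Subsingleton (Coh.HH X (kernel (Lef.quotMap (Lef.pow_succ_le 𝓘 n))) i))) (h3 : ∀ U : X.Opens, (𝓘.support : Set X) ⊆ (U : Set X) → ∀ x : X, x ∉ U → ParaF.IsParafactorialLocalRing (X.presheaf.stalk x)) (n : ℕ) (hn : p ≤ n) (U : X.Opens) (hU : (𝓘.support : Set X) ⊆ (U : Set X)) : (Formal2.PicPullbackInjective U.ι ∧ Formal2.PicPullbackSurjective U.ι) ∧ (Formal2.PicPullbackInjective (𝓘 ^ (n + 1)).subschemeι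 ∧ Formal2.PicPullbackSurjective (𝓘 ^ (n + 1)).subschemeι) := by
  have pic : ∀ V : X.Opens, (𝓘.support : Set X) ⊆ (V : Set X) →
      Formal2.PicPullbackInjective V.ι ∧ Formal2.PicPullbackSurjective V.ι := fun V hV => by
    let Y : TopologicalSpace.Closeds X := ⟨(V : Set X)ᶜ, V.2.isClosed_compl⟩
    obtain ⟨hR, hE⟩ := (Groth.Agent.ParaFLib.isParafactorialPair_iff Y).1
      (Groth.Agent.ParaFLib.isParafactorialPair_of_stalks fun y hy => h3 V hV y hy)
    have hr : V.ι.opensRange = (𝟙 X : X ⟶ X) ⁻¹ᵁ Y.compl := by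
      rw [Scheme.Opens.opensRange_ι]
      exact TopologicalSpace.Opens.ext (compl_compl (V : Set X)).symm
    have hk := hR.isClosed' (𝟙 X) V.ι hr
    refine ⟨fun L hL e => ⟨Groth.Agent.ParaFLib.isoOfRestrict V.ι
      (Groth.Agent.ParaFLib.isClosed'_of_invertible V.ι hk hL) hk
      ((Scheme.Modules.restrictFunctorIsoPullback V.ι).app L ≪≫ e.some ≪≫ (Groth.Agent.AmpleLib.pullO V.ι).symm ≪≫
        ((Scheme.Modules.restrictFunctorIsoPullback V.ι).app _).symm)⟩, fun L' hL' => ?_⟩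
    obtain ⟨L, hL, ⟨φ⟩⟩ := hE (𝟙 X) V.ι hr L' hL'
    exact ⟨L, hL, ⟨((Scheme.Modules.restrictFunctorIsoPullback V.ι).app L).symm ≪≫ φ⟩⟩
  obtain ⟨hsur, hinj⟩ := Groth.Agent.S3358.result X 𝓘 p h1 h2 n hn
  refine ⟨pic U hU, fun L hL e => ?_, fun N hN => ?_⟩
  · obtain ⟨g, hg⟩ := Groth.Agent.LefPicLib.exists_lift_thickening 𝓘 ⊤ (fun _ _ => trivial) n
    obtain ⟨V, hVT, hV, ⟨d⟩⟩ := hinj ⊤ ((Scheme.Modules.pullback (⊤ : X.Opens).ι).obj L) g (fun _ _ => trivial) hg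
      (Groth.Agent.AmpleLib.isInvertible_pullback _ hL) ⟨Groth.Agent.LefPicLib.pullPull hg L ≪≫ e.some⟩
    exact (pic V hV).1 L hL ⟨(Groth.Agent.LefPicLib.pullPull (X.homOfLE_ι hVT) L).symm ≪≫ d⟩
  · obtain ⟨V, L₀, g, hV, hg, hL₀, ⟨e⟩⟩ := hsur N hN
    obtain ⟨L, hL, ⟨d⟩⟩ := (pic V hV).2 L₀ hL₀
    exact ⟨L, hL, ⟨(Groth.Agent.LefPicLib.pullPull hg L).symm ≪≫ (Scheme.Modules.pullback g).mapIso d ≪≫ e⟩⟩

end Groth.Agent.S3356
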