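import Groth.Statements.S3360
import Groth.Agent.FibVanLib.Lef
import Groth.Agent.LefAmpleLib.Open
import Groth.Agent.S14995
import Groth.Agent.S9831
import Groth.Agent.S14104
-- import your own Groth.Agent.* helpers here

set_option autoImplicit false
set_option backward.isDefEq.respectTransparency false
set_option linter.style.haveILetI false
universe u
open CategoryTheory CategoryTheory.Limits AlgebraicGeometry
open Lef

namespace Groth.Agent.S3360

/-- Case 'resp.', over an affine base. Let A be a Noetherian ring, X a proper flat A-scheme, 𝓘 a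
quasi-coherent ideal whose ideal module is invertible with ample inverse L (𝓘 is cut out by a
regular section of L; X is projective over A), Y = V(𝓘). If every fibre X_s has depth ≥ 2 at each of
its closed points, then Lef(X, Y) holds: for every open U ⊇ Y and every finite locally free
O_U-module D, Hom(D, O_U) → lim_n Hom(D, O_U/𝓘^(n+1)) is bijective. -/
theorem result (A : Type u) [CommRing A] [IsNoetherianRing A] (X : Scheme.{u}) [X.Over (Spec (CommRingCat.of A))] [IsProper (X ↘ Spec (CommRingCat.of A))] [Flat (X ↘ Spec (CommRingCat.of A))] (𝓘 : X.IdealSheafData) (L : X.Modules) (hL : ClSub.IsInverseOf L (ClSub.idealMod 𝓘)) (hamp : CohB1.IsAmple L) (hdepth : ∀ x : X, IsClosed ({((X ↘ Spec (CommRingCat.of A))).asFiber x} : Set ↥(((X ↘ Spec (CommRingCat.of A))).fiber (((X ↘ Spec (CommRingCat.of A))).base x))) → (2 : ℕ∞) ≤ LocCoh.depth ↑(CInt.fiberStalk (X ↘ Spec (CommRingCat.of A)) x) ↑(CInt.fiberStalk (X ↘ Spec (CommRingCat.of A)) x)) : Lef.LefCond X 𝓘 := by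
  let f := X ↘ Spec (CommRingCat.of A)
  haveI := FibVanLib.isNoetherian_over f
  have hflat : FlatMod.IsFlatOver f (Coh.structureModule X) := BCLib.isFlatOver_structureModule _
  have hd : FibVanLib.FibreDepthGE f (Coh.structureModule X) 2 :=
    FibVanLib.fibreDepthGE_structureModule _ 2 hdepth
  intro U hU D hD
  obtain ⟨hDq, -⟩ := PullbackMod.isQCoh_and_isFP_of_isFinLocFree D hD
  haveI : IsLocallyNoetherian U.toScheme := isLocallyNoetherian_of_isOpenImmersion U.ι
  haveI := hDq
  obtain ⟨M, hMq, hMf, ⟨e⟩⟩ := S9831.result U (TopologicalSpace.NoetherianSpace.isCompact _) D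
    (CurveLib.isCoh_of_isFinLocFree hD).2
  have hM : Coh.IsCoh M := ⟨hMq, hMf⟩
  refine LefAmpleLib.homToFormalBijective_restrict U.ι 𝓘 M e
    (S14995.result X _ M (DevLib.isCoh_structureModule X) hM U fun y hy => ?_) (fun n =>
    S14995.result X _ M (IntLib.isCoh_quotMod _) hM U fun y hy => ?_)
    (FibVanLib.homToFormalBijective_of_coh f hflat hL hamp hd
      (fun n => LefAmpleLib.toSubscheme_quotMap _) hM)
  · obtain ⟨v, hv⟩ := ParaFLib.exists_stalk_gen (ParaFLib.isInvertible_structureModule (X := X)) y
    rw [← Depth.depth_congr (LinearEquiv.ofBijective (LinearMap.toSpanSingleton _ _ v) hv)]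
    exact S14104.result f ((U : Set X)ᶜ) U.2.isClosed_compl 2
      (fun z hz => hdepth z (FibVanLib.isClosed_asFiber_of_notMem f hL hamp U hU hz)) y hy
  · have hy' : y ∉ CohB1.support (ClSub.quotMod (𝓘 ^ (n + 1))) := fun h =>
      hy (hU ((Scheme.IdealSheafData.support_pow_succ 𝓘 n).le (IntLib.support_quotMod_subset _ h)))
    haveI : Subsingleton ((ClSub.quotMod (𝓘 ^ (n + 1))).presheaf.stalk y) := not_not.1 hy'
    rw [CAlgBasics.depth_eq_top]
    exact le_top

end Groth.Agent.S3360
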