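import Groth.Statements.S3361
import Groth.Agent.LeffCoreLib.Relative
import Groth.Agent.S3360
-- import your own Groth.Agent.* helpers here

set_option autoImplicit false
set_option backward.isDefEq.respectTransparency false
set_option linter.style.haveILetI false
universe u
open CategoryTheory CategoryTheory.Limits AlgebraicGeometry
open LefX

namespace Groth.Agent.S3361

/-- Over an affine base. Let A be a Noetherian ring, X a proper flat A-scheme, 𝓘 a quasi-coherent ideal
whose ideal module is invertible with ample inverse L, such that the closed subscheme X_0 = V(𝓘) is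
also flat over A (so 𝓘 is cut out by a section t of L whose restriction to every fibre is regular).
Assume that for every s the fibre (X_0)_s has depth ≥ 2 at its closed points and the fibre X_s has
depth ≥ 2 at its closed points. Then the effective Lefschetz condition Leff(X, X_0) holds: Lef(X,
X_0), and every levelwise finite locally free system of modules on the completion of X along X_0 is
the completion of a finite locally free module defined on an open neighbourhood of X_0. -/
theorem result (A : Type u) [CommRing A] [IsNoetherianRing A] (X : Scheme.{u}) [X.Over (Spec (CommRingCat.of A))] [IsProper (X ↘ Spec (CommRingCat.of A))] [Flat (X ↘ Spec (CommRingCat.of A))] (𝓘 : X.IdealSheafData) (L : X.Modules) (hL : ClSub.IsInverseOf L (ClSub.idealMod 𝓘)) (hamp : CohB1.IsAmple L) [Flat (𝓘.subschemeι ≫ (X ↘ Spec (CommRingCat.of A)))] (hdepth0 : ∀ y : ↥(𝓘.subscheme), IsClosed ({((𝓘.subschemeι ≫ (X ↘ Spec (CommRingCat.of A)))).asFiber y} : Set ↥(((𝓘.subschemeι ≫ (X ↘ Spec (CommRingCat.of A)))).fiber (((𝓘.subschemeι ≫ (X ↘ Spec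 (CommRingCat.of A)))).base y))) → (2 : ℕ∞) ≤ LocCoh.depth ↑(CInt.fiberStalk (𝓘.subschemeι ≫ (X ↘ Spec (CommRingCat.of A))) y) ↑(CInt.fiberStalk (𝓘.subschemeι ≫ (X ↘ Spec (CommRingCat.of A))) y)) (hdepth : ∀ x : X, IsClosed ({((X ↘ Spec (CommRingCat.of A))).asFiber x} : Set ↥(((X ↘ Spec (CommRingCat.of A))).fiber (((X ↘ Spec (CommRingCat.of A))).base x))) → (2 : ℕ∞) ≤ LocCoh.depth ↑(CInt.fiberStalk (X ↘ Spec (CommRingCat.of A)) x) ↑(CInt.fiberStalk (X ↘ Spec (CommRingCat.of A)) x)) : LefX.LeffCond X 𝓘 := by
  have hflat : FlatMod.IsFlatOver (X ↘ Spec (CommRingCat.of A)) (Coh.structureModule X) :=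
    BCLib.isFlatOver_structureModule _
  refine ⟨S3360.result A X 𝓘 L hL hamp hdepth, fun 𝔐 h𝔐 => ?_⟩
  exact LeffCore.exists_locFree_nhd (A := A) hL hamp
    (LeffCore.evVanishBot_of_fibre (X ↘ Spec (CommRingCat.of A)) hL hamp
      (FibVanLib.fibreDepthGE_structureModule _ 2 hdepth0))
    (LeffCore.evVanishTot_of_fibre (X ↘ Spec (CommRingCat.of A)) hL hamp hflat
      (FibVanLib.fibreDepthGE_structureModule _ 2 hdepth)) 𝔐 h𝔐

end Groth.Agent.S3361
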