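import Groth.Statements.S3362
import Groth.Agent.S0815
import Groth.Agent.S0376
import Groth.Agent.HLVTLib.Connected
import Groth.Agent.ASp.LiftDim
import Groth.Agent.DualCxLib.OrdinaryOff
import Groth.Agent.BootLib.CompletionLoc
-- import your own Groth.Agent.* helpers here

set_option autoImplicit false
set_option backward.isDefEq.respectTransparency false
set_option linter.style.haveILetI false
universe u
open CategoryTheory CategoryTheory.Limits AlgebraicGeometry TopologicalSpace
open LefX

namespace Groth.Agent.S3362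

section order

attribute [local instance] specializationOrder

/-- Removing the closed point which specialises everything lowers the dimension by one. -/
theorem topologicalKrullDim_eq_add_one {T : Type u} [TopologicalSpace T] [QuasiSober T] [T0Space T] (c : T)
    (hcl : IsClosed ({c} : Set T)) (hc : ∀ x : T, x ⤳ c) (hne : ∃ x : T, x ≠ c) :
    topologicalKrullDim T = topologicalKrullDim ↥({c}ᶜ : Set T) + 1 := by
  classical
  haveI : QuasiSober ↥({c}ᶜ : Set T) := hcl.isOpen_compl.isOpenEmbedding_subtypeVal.quasiSober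
  haveI : Nonempty ↥({c}ᶜ : Set T) := ⟨⟨hne.choose, hne.choose_spec⟩⟩
  let i : @OrderIso ↥({c}ᶜ : Set T) ↥({c}ᶜ : Set T) (specializationOrder _).toPreorder.toLE
      (Subtype.preorder (· ∈ ({c}ᶜ : Set T))).toLE :=
    { toEquiv := Equiv.refl _
      map_rel_iff' := fun {x y} => (subtype_specializes_iff y x).symm }
  have hU : topologicalKrullDim ↥({c}ᶜ : Set T) =
      @Order.krullDim ↥({c}ᶜ : Set T) (Subtype.preorder (· ∈ ({c}ᶜ : Set T))) :=
    Groth.Agent.ASp.topologicalKrullDim_eq_krullDim.trans (@Order.krullDim_eq_of_orderIso _ _ (specializationOrder _).toPreorder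
      (Subtype.preorder (· ∈ ({c}ᶜ : Set T))) i)
  rw [hU, Groth.Agent.ASp.topologicalKrullDim_eq_krullDim, ← Order.krullDim_withBot]
  have hbot : ∀ x : T, x ≠ c → ¬ x ≤ c := fun x hx h =>
    hx (specializes_iff_mem_closure.1 (show c ⤳ x from h) |> fun h' => by rwa [hcl.closure_eq] at h')
  let e : WithBot ↥({c}ᶜ : Set T) ≃ T :=
    { toFun := WithBot.recBotCoe c Subtype.val
      invFun := fun x => if h : x = c then ⊥ else ((⟨x, h⟩ : ↥({c}ᶜ : Set T)) : WithBot ↥({c}ᶜ : Set T))
      left_inv := fun x => by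
        induction x using WithBot.recBotCoe with
        | bot => simp
        | coe a => exact dif_neg a.2
      right_inv := fun x => by
        by_cases h : x = c
        · simp [h]
        · simp [h] }
  refine (Order.krullDim_eq_of_orderIso ⟨e, fun {x y} => ?_⟩).symm
  induction x using WithBot.recBotCoe with
  | bot => exact iff_of_true (show e y ⤳ c from hc _) bot_le
  | coe a =>
    induction y using WithBot.recBotCoe with
    | bot => exact iff_of_false (hbot a a.2) (by exact WithBot.not_coe_le_bot a)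
    | coe b =>
      show (a : T) ≤ (b : T) ↔ _
      exact (WithBot.coe_le_coe (a := a) (b := b)).symm

end order

variable {R : Type u} [CommRing R] [IsLocalRing R]

/-- A closed subset of the spectrum of a local ring and its trace on the punctured spectrum. -/
theorem dim_closed_eq_add_one (C : Set (PrimeSpectrum R)) (hC : IsClosed C)
    (hne : ∃ x ∈ C, x ≠ IsLocalRing.closedPoint R) :
    topologicalKrullDim ↥C = topologicalKrullDim ↥(C ∩ {IsLocalRing.closedPoint R}ᶜ) + 1 := by
  obtain ⟨x, hxC, hx⟩ := hne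
  have hcC : IsLocalRing.closedPoint R ∈ C :=
    (IsLocalRing.specializes_closedPoint x).mem_closed hC hxC
  haveI : QuasiSober ↥C := hC.isClosedEmbedding_subtypeVal.quasiSober
  let c : ↥C := ⟨_, hcC⟩
  have hcl : IsClosed ({c} : Set ↥C) := by
    have : ({c} : Set ↥C) = Subtype.val ⁻¹' {IsLocalRing.closedPoint R} := by
      ext z; exact ⟨fun h => congrArg Subtype.val h, fun h => Subtype.ext h⟩
    rw [this]
    exact (IsLocalRing.isClosed_singleton_closedPoint (R := R)).preimage continuous_subtype_val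
  rw [topologicalKrullDim_eq_add_one c hcl (fun z => (subtype_specializes_iff z c).2 (IsLocalRing.specializes_closedPoint _))
    ⟨⟨x, hxC⟩, fun h => hx (congrArg Subtype.val h)⟩]
  congr 1
  let h : ↥({c}ᶜ : Set ↥C) ≃ₜ ↥(C ∩ {IsLocalRing.closedPoint R}ᶜ) :=
    { toFun := fun z => ⟨z.1.1, z.1.2, fun e => z.2 (Subtype.ext e)⟩
      invFun := fun z => ⟨⟨z.1, z.2.1⟩, fun e => z.2.2 (congrArg Subtype.val e)⟩
      left_inv := fun z => rfl
      right_inv := fun z => rfl }
  exact h.isHomeomorph.topologicalKrullDim_eq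

omit [IsLocalRing R] in
/-- The dimension of a set inside a subspace. -/
theorem dim_image_eq {T : Type u} [TopologicalSpace T] {U : Set T} (Z : Set ↥U) :
    topologicalKrullDim ↥Z = topologicalKrullDim ↥(Subtype.val '' Z : Set T) :=
  (Topology.IsEmbedding.subtypeVal.homeomorphImage Z).isHomeomorph.topologicalKrullDim_eq

/-- A closed subset of the punctured spectrum, with the closed point added. -/
theorem isClosed_insert {S : Set (PrimeSpectrum R)} (hS : S = {IsLocalRing.closedPoint R}ᶜ)
    (Z : Set ↥S) (hZ : IsClosed Z) : IsClosed (insert (IsLocalRing.closedPoint R) (Subtype.val '' Z)) := by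
  obtain ⟨C, hC, rfl⟩ := isClosed_induced_iff.1 hZ
  have : insert (IsLocalRing.closedPoint R) (Subtype.val '' (Subtype.val ⁻¹' C : Set ↥S)) =
      C ∪ {IsLocalRing.closedPoint R} := by
    rw [Subtype.image_preimage_coe]
    subst hS
    ext z
    simp only [Set.mem_insert_iff, Set.mem_inter_iff, Set.mem_compl_iff, Set.mem_singleton_iff, Set.mem_union]
    tauto
  rw [this]
  exact hC.union (IsLocalRing.isClosed_singleton_closedPoint (R := R))

/-- The dimension of the trace on the punctured spectrum. -/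
theorem dim_insert_le {S : Set (PrimeSpectrum R)} (hS : S = {IsLocalRing.closedPoint R}ᶜ)
    (Z : Set ↥S) (hZ : IsClosed Z) (d : ℕ) (h : topologicalKrullDim ↥Z < (d : WithBot ℕ∞)) :
    topologicalKrullDim ↥(insert (IsLocalRing.closedPoint R) (Subtype.val '' Z)) ≤ (d : WithBot ℕ∞) := by
  set C := insert (IsLocalRing.closedPoint R) (Subtype.val '' Z) with hCdef
  rcases Z.eq_empty_or_nonempty with he | ⟨z, hz⟩
  · haveI : Subsingleton ↥C := by
      rw [Set.subsingleton_coe, hCdef, he, Set.image_empty]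
      simp
    exact (topologicalKrullDim_zero_of_discreteTopology _).trans (by exact_mod_cast Nat.zero_le d)
  · have hzS : (z : PrimeSpectrum R) ≠ IsLocalRing.closedPoint R := fun e => (hS.subset z.2) e
    rw [dim_closed_eq_add_one C (isClosed_insert hS Z hZ) ⟨z, Or.inr ⟨z, hz, rfl⟩, hzS⟩]
    have : C ∩ {IsLocalRing.closedPoint R}ᶜ = Subtype.val '' Z := by
      ext x
      constructor
      · rintro ⟨h1 | h1, h2⟩
        · exact absurd h1 h2
        · exact h1
      · rintro ⟨w, hw, rfl⟩
        exact ⟨Or.inr ⟨w, hw, rfl⟩, hS.subset w.2⟩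
    rw [this, ← dim_image_eq]
    generalize topologicalKrullDim ↥Z = D at h ⊢
    induction D using WithBot.recBotCoe with
    | bot => simp
    | coe D =>
      induction D using ENat.recTopCoe with
      | top => exact absurd h (not_lt.2 (WithBot.coe_le_coe.2 le_top))
      | coe D =>
        norm_cast at h ⊢

/-- Lower bound for closed sets whose trace is large. -/
theorem le_dim_of_trace {S : Set (PrimeSpectrum R)} (hS : S = {IsLocalRing.closedPoint R}ᶜ)
    (C : Set (PrimeSpectrum R)) (hC : IsClosed C) (d : ℕ)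
    (h : (d : WithBot ℕ∞) ≤ topologicalKrullDim ↥(Subtype.val ⁻¹' C : Set ↥S)) :
    ((d + 1 : ℕ) : WithBot ℕ∞) ≤ topologicalKrullDim ↥C := by
  rw [dim_image_eq, Subtype.image_preimage_coe, Set.inter_comm, hS] at h
  have hne : ∃ x ∈ C, x ≠ IsLocalRing.closedPoint R := by
    by_contra hcon
    push Not at hcon
    have he : IsEmpty ↥(C ∩ {IsLocalRing.closedPoint R}ᶜ) := ⟨fun x => x.2.2 (hcon x.1 x.2.1)⟩
    haveI : IsEmpty (TopologicalSpace.IrreducibleCloseds ↥(C ∩ {IsLocalRing.closedPoint R}ᶜ)) :=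
      ⟨fun Z => he.false Z.2.nonempty.some⟩
    rw [topologicalKrullDim, Order.krullDim_eq_bot] at h
    exact absurd h (not_le.2 (WithBot.bot_lt_coe _))
  rw [dim_closed_eq_add_one C hC hne, Nat.cast_add, Nat.cast_one]
  exact add_le_add h le_rfl

/-- A minimal prime of the ideal generated by few elements, over a given prime, in a ring with dualizing complex. -/
theorem dim_quotient_le_add {A : Type u} [CommRing A] [IsNoetherianRing A] [IsLocalRing A]
    {ω : Dual.D A} (hω : Dual.IsDualizing A ω) {m : ℕ} (f : Fin m → A) (p q : PrimeSpectrum A) (hpq : p ≤ q)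
    (hq : q.asIdeal ∈ (Ideal.span (Set.range f)).minimalPrimes) :
    ringKrullDim (A ⧸ p.asIdeal) ≤ ringKrullDim (A ⧸ q.asIdeal) + (m : WithBot ℕ∞) := by
  have hb : Formal2.dimBetween A p.asIdeal q.asIdeal ≤ (m : WithBot ℕ∞) := by
    let L := Localization.AtPrime q.asIdeal
    let J := p.asIdeal.map (algebraMap A L)
    have hJ : J ≤ IsLocalRing.maximalIdeal L := by
      rw [← Localization.AtPrime.map_eq_maximalIdeal]
      exact Ideal.map_mono hpq
    haveI : Nontrivial (L ⧸ J) := Ideal.Quotient.nontrivial_iff.2 fun h =>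
      (IsLocalRing.maximalIdeal.isMaximal L).ne_top (top_le_iff.1 (h ▸ hJ))
    haveI : IsLocalRing (L ⧸ J) := IsLocalRing.of_surjective' _ Ideal.Quotient.mk_surjective
    let φ : A →+* L ⧸ J := (Ideal.Quotient.mk J).comp (algebraMap A L)
    show ringKrullDim (L ⧸ J) ≤ _
    rw [← IsLocalRing.maximalIdeal_height_eq_ringKrullDim]
    have hmax : (IsLocalRing.maximalIdeal (L ⧸ J)).comap φ = q.asIdeal := by
      show ((IsLocalRing.maximalIdeal (L ⧸ J)).comap (Ideal.Quotient.mk J)).comap (algebraMap A L) = _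
      rw [IsLocalRing.eq_maximalIdeal (Ideal.comap_isMaximal_of_surjective (K := IsLocalRing.maximalIdeal (L ⧸ J))
        _ Ideal.Quotient.mk_surjective)]
      exact Localization.AtPrime.comap_maximalIdeal
    have hmin : IsLocalRing.maximalIdeal (L ⧸ J) ∈ (Ideal.span (Set.range (φ ∘ f))).minimalPrimes := by
      refine ⟨⟨inferInstance, Ideal.span_le.2 ?_⟩, fun Q hQ hQm => ?_⟩
      · rintro _ ⟨i, rfl⟩
        exact hmax.symm.le (hq.1.2 (Ideal.subset_span ⟨i, rfl⟩))
      · haveI := hQ.1
        have hle : Ideal.span (Set.range f) ≤ Q.comap φ := Ideal.span_le.2 (by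
          rintro _ ⟨i, rfl⟩
          exact hQ.2 (Ideal.subset_span ⟨i, rfl⟩))
        have h1 : q.asIdeal ≤ Q.comap φ := hq.2 ⟨Q.comap_isPrime φ, hle⟩
          ((Ideal.comap_mono hQm).trans hmax.le)
        intro x hx
        obtain ⟨y, rfl⟩ := Ideal.Quotient.mk_surjective x
        obtain ⟨⟨a, t⟩, hy⟩ := IsLocalization.surj q.asIdeal.primeCompl y
        simp only at hy
        have h2 : φ a ∈ IsLocalRing.maximalIdeal (L ⧸ J) := by
          show Ideal.Quotient.mk J (algebraMap A L a) ∈ _
          rw [← hy, map_mul]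
          exact Ideal.mul_mem_right _ _ hx
        have h3 : φ a ∈ Q := h1 (hmax.le h2)
        have h4 : Ideal.Quotient.mk J y * φ t ∈ Q := by
          have : Ideal.Quotient.mk J y * φ t = φ a := by
            show _ * Ideal.Quotient.mk J (algebraMap A L t) = Ideal.Quotient.mk J (algebraMap A L a)
            rw [← map_mul, hy]
          rwa [this]
        refine (hQ.1.mem_or_mem h4).resolve_right fun h5 => ?_
        exact hQ.1.ne_top (Ideal.eq_top_of_isUnit_mem _ h5 ((IsLocalization.map_units L t).map (Ideal.Quotient.mk J)))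
    calc ((IsLocalRing.maximalIdeal (L ⧸ J)).height : WithBot ℕ∞)
        ≤ (((Set.range (φ ∘ f)).ncard : ℕ∞) : WithBot ℕ∞) :=
          WithBot.coe_le_coe.2 (Ideal.height_le_card_of_mem_minimalPrimes_span (Set.finite_range _) hmin)
      _ ≤ ((m : ℕ∞) : WithBot ℕ∞) := by
          refine WithBot.coe_le_coe.2 (Nat.cast_le.2 ?_)
          rw [← Nat.card_coe_set_eq]
          exact (Finite.card_range_le _).trans (Nat.card_fin m).le
  rw [Groth.Agent.BootLib.dimBetween_eq hω hpq] at hb
  rw [Groth.Agent.DualCxLib.ringKrullDim_quotient_eq hω, Groth.Agent.DualCxLib.ringKrullDim_quotient_eq hω]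
  have h1 := Groth.Agent.DualCxLib.dfn_le hω hpq
  have h2 := Groth.Agent.DualCxLib.dfn_le hω (show q ≤ IsLocalRing.closedPoint A from IsLocalRing.le_maximalIdeal q.2.ne_top)
  norm_cast at hb ⊢
  omega

/-- Let A be a complete Noetherian local ring, X' the punctured spectrum of A and k ≥ 1. Assume (a_k)
every irreducible component of X' has dimension ≥ k + 1, and (b_k) X' is connected in dimension ≥ k,
i.e. X' minus any closed subset of dimension < k is connected. Let 0 ≤ m ≤ k and let f_1, …, f_m be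
elements of the maximal ideal, B = A/(f_1, …, f_m), Y' the punctured spectrum of B. Then Y'
satisfies (a_{k−m}) and (b_{k−m}); in particular Y' is connected. -/
theorem result (A : Type u) [CommRing A] [IsNoetherianRing A] [IsLocalRing A] [IsAdicComplete (IsLocalRing.maximalIdeal A) A] (k : ℕ) (hk : 1 ≤ k) (ha : ∀ Z ∈ irreducibleComponents ↥(FEt.puncturedSpec A), ((k + 1 : ℕ) : WithBot ℕ∞) ≤ topologicalKrullDim ↥Z) (hb : LefX.ConnectedInDim ↥(FEt.puncturedSpec A) k) (m : ℕ) (hm : m ≤ k) (f : Fin m → A) (hf : ∀ i, f i ∈ IsLocalRing.maximalIdeal A) [IsLocalRing (A ⧸ Ideal.span (Set.range f))] : (∀ Z ∈ irreducibleComponents ↥(FEt.puncturedSpec (A ⧸ Ideal.span (Set.range f))), ((k - m + 1 : ℕ) : WithBot ℕ∞) ≤ topologicalKrullDim ↥Z) ∧ LefX.ConnectedInDim ↥(FEt.puncturedSpec (A ⧸ Ideal.span (Set.range f))) (k - m) := by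
  classical
  obtain ⟨ω, hω⟩ := Groth.Agent.S0376.result A
  set I := Ideal.span (Set.range f) with hIdef
  have hIm : I ≤ IsLocalRing.maximalIdeal A := Ideal.span_le.2 (by rintro _ ⟨i, rfl⟩; exact hf i)
  have hI : I ≠ ⊤ := fun h => (IsLocalRing.maximalIdeal.isMaximal A).ne_top (top_le_iff.1 (h ▸ hIm))
  let mA := IsLocalRing.closedPoint A
  let mB := IsLocalRing.closedPoint (A ⧸ I)
  -- the punctured spectrum is nonempty, so the closed point is not minimal
  have hX : ∀ p ∈ minimalPrimes A, ((k + 2 : ℕ) : WithBot ℕ∞) ≤ ringKrullDim (A ⧸ p) := by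
    have hne : ∃ x : PrimeSpectrum A, x ≠ mA := by
      have hemp : topologicalKrullDim ↥(∅ : Set ↥(FEt.puncturedSpec A)) < (k : WithBot ℕ∞) := by
        haveI : IsEmpty (TopologicalSpace.IrreducibleCloseds ↥(∅ : Set ↥(FEt.puncturedSpec A))) :=
          ⟨fun Z => Z.2.nonempty.some.2.elim⟩
        rw [topologicalKrullDim, Order.krullDim_eq_bot]
        exact WithBot.bot_lt_coe _
      obtain ⟨⟨x, hx⟩, -⟩ := (hb ∅ isClosed_empty hemp).nonempty
      exact ⟨x, hx⟩
    intro p hp
    haveI : p.IsPrime := hp.1.1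
    let P : PrimeSpectrum A := ⟨p, inferInstance⟩
    have hP : P ≠ mA := by
      intro h
      obtain ⟨x, hx⟩ := hne
      refine hx (PrimeSpectrum.ext (le_antisymm (IsLocalRing.le_maximalIdeal x.2.ne_top) ?_))
      have h' : p = IsLocalRing.maximalIdeal A := congrArg PrimeSpectrum.asIdeal h
      have h2 : p ≤ x.asIdeal := hp.2 ⟨x.2, bot_le⟩ (h'.symm ▸ IsLocalRing.le_maximalIdeal x.2.ne_top)
      rw [h'] at h2
      exact h2
    have hcomp : PrimeSpectrum.zeroLocus (p : Set A) ∈ irreducibleComponents (PrimeSpectrum A) := by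
      rw [← PrimeSpectrum.zeroLocus_minimalPrimes]
      exact ⟨p, hp, rfl⟩
    let Z : Set ↥(FEt.puncturedSpec A) := Subtype.val ⁻¹' PrimeSpectrum.zeroLocus (p : Set A)
    have hZ : Z ∈ irreducibleComponents ↥(FEt.puncturedSpec A) :=
      preimage_mem_irreducibleComponents_of_isPreirreducible_fiber hcomp
        continuous_subtype_val (FEt.puncturedSpec A).isOpen.isOpenMap_subtype_val
        (fun x => (Set.subsingleton_singleton.preimage Subtype.val_injective).isPreirreducible)
        ⟨P, show (p : Set A) ⊆ P.asIdeal from subset_rfl, ⟨P, hP⟩, rfl⟩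
    have h := le_dim_of_trace (R := A) rfl (PrimeSpectrum.zeroLocus (p : Set A)) (PrimeSpectrum.isClosed_zeroLocus _)
      (k + 1) (ha Z hZ)
    rwa [Groth.Agent.HLVTLib.krullDim_zeroLocus] at h
  have hcd : LocCoh.CdLE A I m := Groth.Agent.HLVTLib.cdLE_span_fin f
  let g : PrimeSpectrum (A ⧸ I) → PrimeSpectrum A := PrimeSpectrum.comap (Ideal.Quotient.mk I)
  have hg : Topology.IsClosedEmbedding g :=
    PrimeSpectrum.isClosedEmbedding_comap_of_surjective _ _ Ideal.Quotient.mk_surjective
  haveI : IsLocalHom (Ideal.Quotient.mk I) := IsLocalHom.of_surjective _ Ideal.Quotient.mk_surjective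
  have hgm : g mB = mA := IsLocalRing.comap_closedPoint (Ideal.Quotient.mk I)
  refine ⟨fun Z hZ => ?_, fun Z hZ hZdim => ?_⟩
  · -- components of the quotient
    have hZc := isClosed_of_mem_irreducibleComponents Z hZ
    have hirr : IsIrreducible (closure (Subtype.val '' Z : Set (PrimeSpectrum (A ⧸ I)))) :=
      (hZ.1.image _ continuous_subtype_val.continuousOn).closure
    obtain ⟨ζ, hζ⟩ := QuasiSober.sober hirr isClosed_closure
    have hζU : ζ ∈ FEt.puncturedSpec (A ⧸ I) := by
      obtain ⟨z, hz⟩ := hZ.1.1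
      exact (hζ.specializes (subset_closure ⟨z, hz, rfl⟩)).mem_open (FEt.puncturedSpec (A ⧸ I)).isOpen z.2
    have hQ : ζ.asIdeal ∈ minimalPrimes (A ⧸ I) := by
      refine ⟨⟨ζ.2, bot_le⟩, fun Q hQ hle => ?_⟩
      haveI := hQ.1
      let η : PrimeSpectrum (A ⧸ I) := ⟨Q, inferInstance⟩
      have hsp : η ⤳ ζ := (PrimeSpectrum.le_iff_specializes η ζ).1 hle
      let η' : ↥(FEt.puncturedSpec (A ⧸ I)) := ⟨η, hsp.mem_open (FEt.puncturedSpec (A ⧸ I)).isOpen hζU⟩
      have hsub : Z ⊆ closure {η'} := by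
        intro z hz
        rw [← specializes_iff_mem_closure, subtype_specializes_iff]
        exact hsp.trans (hζ.specializes (subset_closure ⟨z, hz, rfl⟩))
      have hη : η' ∈ Z := hZ.2 isIrreducible_singleton.closure hsub (subset_closure rfl)
      exact (PrimeSpectrum.le_iff_specializes ζ η).2 (hζ.specializes (subset_closure ⟨η', hη, rfl⟩))
    have hq : (g ζ).asIdeal ∈ I.minimalPrimes := by
      refine ⟨⟨(g ζ).2, fun a ha => ?_⟩, fun Q hQ' hle => ?_⟩
      · show Ideal.Quotient.mk I a ∈ ζ.asIdeal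
        rw [Ideal.Quotient.eq_zero_iff_mem.2 ha]
        exact zero_mem _
      · haveI := hQ'.1
        have hker : RingHom.ker (Ideal.Quotient.mk I) ≤ Q := Ideal.mk_ker.trans_le hQ'.2
        have h1 : Q.map (Ideal.Quotient.mk I) ≤ ζ.asIdeal := Ideal.map_le_iff_le_comap.2 hle
        have h2 := hQ.2 ⟨Ideal.map_isPrime_of_surjective Ideal.Quotient.mk_surjective hker, bot_le⟩ h1
        refine (Ideal.comap_mono h2).trans ?_
        rw [Ideal.comap_map_of_surjective' _ Ideal.Quotient.mk_surjective]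
        exact sup_le le_rfl hker
    obtain ⟨p, hp, hpq⟩ := Ideal.exists_minimalPrimes_le (bot_le : (⊥ : Ideal A) ≤ (g ζ).asIdeal)
    have hA := (hX p hp).trans (dim_quotient_le_add hω f ⟨p, hp.1.1⟩ (g ζ) hpq hq)
    have hiso : ringKrullDim (A ⧸ (g ζ).asIdeal) = topologicalKrullDim ↥(closure (Subtype.val '' Z : Set (PrimeSpectrum (A ⧸ I)))) := by
      rw [← hζ.def, PrimeSpectrum.closure_singleton, Groth.Agent.HLVTLib.krullDim_zeroLocus]
      let e : A →+* (A ⧸ I) ⧸ ζ.asIdeal := (Ideal.Quotient.mk _).comp (Ideal.Quotient.mk I)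
      have he : Function.Surjective e := Ideal.Quotient.mk_surjective.comp Ideal.Quotient.mk_surjective
      refine ringKrullDim_eq_of_ringEquiv ((Ideal.quotEquivOfEq ?_).trans (RingHom.quotientKerEquivOfSurjective he))
      rw [← RingHom.comap_ker, Ideal.mk_ker]
      rfl
    rw [hiso] at hA
    have hne : ∃ x ∈ closure (Subtype.val '' Z : Set (PrimeSpectrum (A ⧸ I))), x ≠ mB :=
      ⟨ζ, hζ.mem, hζU⟩
    rw [dim_closed_eq_add_one _ isClosed_closure hne] at hA
    have htr : closure (Subtype.val '' Z : Set (PrimeSpectrum (A ⧸ I))) ∩ {mB}ᶜ = Subtype.val '' Z := by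
      obtain ⟨C, hC, hCZ⟩ := isClosed_induced_iff.1 hZc
      refine subset_antisymm ?_ (Set.subset_inter subset_closure (by rintro _ ⟨z, -, rfl⟩; exact z.2))
      rintro x ⟨hx, hxm⟩
      refine ⟨⟨x, hxm⟩, ?_, rfl⟩
      rw [← hCZ]
      exact closure_minimal (by rintro _ ⟨z, hz, rfl⟩; rw [← hCZ] at hz; exact hz) hC hx
    rw [htr, ← dim_image_eq] at hA
    obtain ⟨j, hj⟩ : ∃ j, k = m + j := ⟨k - m, by omega⟩
    subst hj
    have e1 : ((m + j + 2 : ℕ) : WithBot ℕ∞) = ((j + 1 : ℕ) : WithBot ℕ∞) + 1 + (m : WithBot ℕ∞) := by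
      push_cast
      ring
    rw [Nat.add_sub_cancel_left]
    rw [e1] at hA
    have h2 : ((j + 1 : ℕ) : WithBot ℕ∞) + ((1 + m : ℕ) : WithBot ℕ∞) ≤
        topologicalKrullDim ↥Z + ((1 + m : ℕ) : WithBot ℕ∞) := by
      simpa [add_assoc] using hA
    generalize topologicalKrullDim ↥Z = D at h2 ⊢
    induction D using WithBot.recBotCoe with
    | bot => simp at h2
    | coe D =>
      induction D using ENat.recTopCoe with
      | top => exact le_top
      | coe D =>
        norm_cast at h2 ⊢
        omega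
  · -- connectedness in dimension
    let C : Set (PrimeSpectrum (A ⧸ I)) := insert mB (Subtype.val '' Z)
    have hCc : IsClosed C := isClosed_insert (R := A ⧸ I) rfl Z hZ
    have hCdim : topologicalKrullDim ↥C ≤ ((k - m : ℕ) : WithBot ℕ∞) := dim_insert_le (R := A ⧸ I) rfl Z hZ _ hZdim
    let Z₀ : Set (PrimeSpectrum A) := g '' C
    have hZ₀ : IsClosed Z₀ := hg.isClosedMap _ hCc
    have hdimZ₀ : topologicalKrullDim ↥Z₀ ≤ ((k - m : ℕ) : WithBot ℕ∞) := by
      rwa [← (hg.isEmbedding.homeomorphImage C).isHomeomorph.topologicalKrullDim_eq]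
    have hrange : Set.range g = PrimeSpectrum.zeroLocus (I : Set A) := by
      show Set.range (PrimeSpectrum.comap (Ideal.Quotient.mk I)) = _
      rw [range_comap_of_surjective _ _ Ideal.Quotient.mk_surjective, Ideal.mk_ker]
    have hconn := Groth.Agent.S0815.result A I hI m hcd Z₀ hZ₀ (hrange ▸ Set.image_subset_range g C) ?_ ?_
    · let h : ↥(FEt.puncturedSpec (A ⧸ I)) → PrimeSpectrum A := fun y => g y.1
      have hh : Topology.IsInducing h := hg.isEmbedding.isInducing.comp Topology.IsInducing.subtypeVal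
      have himg : h '' Zᶜ = PrimeSpectrum.zeroLocus (I : Set A) \ Z₀ := by
        ext x
        constructor
        · rintro ⟨y, hy, rfl⟩
          refine ⟨hrange ▸ ⟨y.1, rfl⟩, ?_⟩
          rintro ⟨c, hc, he⟩
          have hc' : c = y.1 := hg.injective he
          subst hc'
          rcases hc with hc | ⟨w, hw, hwy⟩
          · exact y.2 hc
          · exact hy (Subtype.ext hwy ▸ hw)
        · rintro ⟨hx, hxZ⟩
          obtain ⟨y, rfl⟩ := hrange.symm.subset hx
          exact ⟨⟨y, fun hy => hxZ ⟨mB, Or.inl rfl, by rw [show y = mB from hy]⟩⟩,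
            fun hy => hxZ ⟨y, Or.inr ⟨_, hy, rfl⟩, rfl⟩, rfl⟩
      rw [← himg] at hconn
      exact ⟨Set.image_nonempty.1 hconn.1, hh.isPreconnected_image.1 hconn.2⟩
    · intro p hp
      refine lt_of_lt_of_le ?_ (hX p hp)
      calc topologicalKrullDim ↥Z₀ + ((m + 1 : ℕ) : WithBot ℕ∞)
          ≤ ((k - m : ℕ) : WithBot ℕ∞) + ((m + 1 : ℕ) : WithBot ℕ∞) := add_le_add hdimZ₀ le_rfl
        _ < ((k + 2 : ℕ) : WithBot ℕ∞) := by norm_cast; omega
    · intro Z' hZ' hnc
      have hm' : mA ∈ Z' := by
        by_contra hm'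
        refine hnc ?_
        have he : Z'ᶜ = Set.univ := Set.compl_empty_iff.1 (by
          rw [compl_compl]
          exact Set.eq_empty_of_forall_notMem fun x hx => hm' ((IsLocalRing.specializes_closedPoint x).mem_closed hZ' hx))
        rw [he]
        exact ⟨⟨mA, trivial⟩, isPreconnected_of_forall mA fun x _ => ⟨closure {x}, Set.subset_univ _,
          (IsLocalRing.specializes_closedPoint x).mem_closure, subset_closure rfl,
          isIrreducible_singleton.closure.2.isPreconnected⟩⟩
      let T : Set ↥(FEt.puncturedSpec A) := Subtype.val ⁻¹' Z'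
      have hT : (k : WithBot ℕ∞) ≤ topologicalKrullDim ↥T := by
        refine le_of_not_gt fun hlt => hnc ?_
        have hc := hb T (hZ'.preimage continuous_subtype_val) hlt
        have he : Subtype.val '' Tᶜ = Z'ᶜ := by
          ext x
          exact ⟨fun ⟨y, hy, e⟩ => e ▸ hy, fun hx => ⟨⟨x, fun e => hx ((show x = mA from e) ▸ hm')⟩, hx, rfl⟩⟩
        rw [← he]
        exact hc.image _ continuous_subtype_val.continuousOn
      refine lt_of_lt_of_le ?_ (le_dim_of_trace (R := A) rfl Z' hZ' k hT)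
      calc topologicalKrullDim ↥Z₀ + ((m : ℕ) : WithBot ℕ∞)
          ≤ ((k - m : ℕ) : WithBot ℕ∞) + ((m : ℕ) : WithBot ℕ∞) := add_le_add hdimZ₀ le_rfl
        _ < ((k + 1 : ℕ) : WithBot ℕ∞) := by norm_cast; omega

end Groth.Agent.S3362
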