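import Groth.Statements.S3363
import Groth.Agent.LeffEtLib.Local
-- import your own Groth.Agent.* helpers here

set_option autoImplicit false
set_option backward.isDefEq.respectTransparency false
set_option linter.style.haveILetI false
universe u
open CategoryTheory CategoryTheory.Limits AlgebraicGeometry TopologicalSpace
open LefX

namespace Groth.Agent.S3363

/-- Let A be a normal complete Noetherian local domain of dimension ≥ k + 2, X' its punctured spectrum,
f_1, …, f_k elements of the maximal ideal and Y' = X' ∩ V(f_1, …, f_k), the closed subscheme of X'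
cut out by the f_i. Then Y' is connected and restriction of finite étale covers from X' to Y' is
fully faithful (for the fundamental groups: π₁(Y') → π₁(X') is surjective). -/
theorem result (A : Type u) [CommRing A] [IsDomain A] [IsNoetherianRing A] [IsLocalRing A] [IsIntegrallyClosed A] [IsAdicComplete (IsLocalRing.maximalIdeal A) A] (k : ℕ) (hdim : ((k + 2 : ℕ) : WithBot ℕ∞) ≤ ringKrullDim A) (f : Fin k → A) (hf : ∀ i, f i ∈ IsLocalRing.maximalIdeal A) : ConnectedSpace ↥(((Spec.map (CommRingCat.ofHom (Ideal.Quotient.mk (Ideal.span (Set.range f))))).ker.comap (FEt.puncturedSpec A).ι).subscheme) ∧ (FEt.restrict ((Spec.map (CommRingCat.ofHom (Ideal.Quotient.mk (Ideal.span (Set.range f))))).ker.comap (FEt.puncturedSpec A).ι).subschemeι).Full ∧ (FEt.restrict ((Spec.map (CommRingCat.ofHom (Ideal.Quotient.mk (Ideal.span (Set.range f))))).ker.comap (FEt.puncturedSpec A).ι).subschemeι).Faithful := by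
  refine LeffEtLib.fullyFaithful_restrict_section hdim f hf _ ?_
  let q : Spec (CommRingCat.of (A ⧸ Ideal.span (Set.range f))) ⟶ Spec (CommRingCat.of A) :=
    Spec.map (CommRingCat.ofHom (Ideal.Quotient.mk (Ideal.span (Set.range f))))
  haveI : IsClosedImmersion q := IsClosedImmersion.spec_of_surjective _ Ideal.Quotient.mk_surjective
  rw [Scheme.IdealSheafData.range_subschemeι, Scheme.IdealSheafData.support_comap]
  show (FEt.puncturedSpec A).ι ⁻¹' (q.ker.support : Set _) = _
  rw [Scheme.Hom.support_ker, (q.isClosedEmbedding.isClosed_range).closure_eq,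
    show Set.range q = PrimeSpectrum.zeroLocus ((Ideal.span (Set.range f) : Ideal A) : Set A) from
      (range_comap_of_surjective _ _ Ideal.Quotient.mk_surjective).trans (by rw [Ideal.mk_ker])]
  ext x
  simp only [Set.mem_preimage, Set.mem_setOf_eq, PrimeSpectrum.mem_zeroLocus]
  exact ⟨fun h i => h (Ideal.subset_span ⟨i, rfl⟩), fun h => Ideal.span_le.2 (by rintro _ ⟨i, rfl⟩; exact h i)⟩

end Groth.Agent.S3363
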