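import Groth.Statements.S3366
import Groth.Agent.EtPurLib.Semipurity
import Groth.Agent.RelPurLib.UHLocCoh
import Groth.Agent.RelPurLib.NonVanish
import Groth.Agent.GeomIrred.ClopenDescend

set_option linter.style.haveILetI false
set_option backward.isDefEq.respectTransparency false
set_option backward.isDefEq.respectTransparency.types false
set_option maxHeartbeats 1000000

set_option autoImplicit false
universe u
open CategoryTheory CategoryTheory.Limits AlgebraicGeometry Opposite
open EtDepth

namespace Groth.Agent.S3366

/-- Semi-purity, for a scheme smooth over a field: let k be a field, X a smooth k-scheme, j : U → X an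
open immersion whose closed complement Y is nonempty of codimension c (every local ring O_{X,y} with
y ∈ Y has dimension at least c, and some has dimension exactly c), and ℓ a prime number invertible
in k. Then the Y-étale depth of the constant sheaf ℤ/ℓ on X is exactly 2c: it is at least 2c and not
at least 2c + 1 (the local cohomology sheaves H^p_Y(X, ℤ/ℓ) vanish for p < 2c and H^{2c}_Y(X, ℤ/ℓ)
does not vanish). -/
theorem result (k : Type u) [Field k] {X U : Scheme.{u}} (f : X ⟶ Spec (CommRingCat.of k)) [Smooth f] (j : U ⟶ X) [IsOpenImmersion j] [EtCoh.BCCont j] (c : ℕ) (hc : ∀ y : X, y ∉ Set.range j.base → (c : WithBot ℕ∞) ≤ ringKrullDim (X.presheaf.stalk y)) (hc' : ∃ y : X, y ∉ Set.range j.base ∧ ringKrullDim (X.presheaf.stalk y) = c) (ℓ : ℕ) (hℓ : ℓ.Prime) (hℓk : (ℓ : k) ≠ 0) : EtDepth.DepthGE j (EtCoh.const X (ZMod ℓ)) (2 * c) ∧ ¬ EtDepth.DepthGE j (EtCoh.const X (ZMod ℓ)) (2 * c + 1) := by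
  refine ⟨EtPurLib.depthGE_smooth_field k f j c hc ℓ hℓ hℓk, fun h => ?_⟩
  obtain ⟨y, hy, hyc⟩ := hc'
  let k' := perfectClosure k (AlgebraicClosure k)
  haveI : PerfectField k' := inferInstance
  let g := Spec.map (CommRingCat.ofHom (algebraMap k k'))
  haveI : UniversallyInjective g := GeomIrred.universallyInjective_specMap k k'
  haveI : IsIntegralHom g := by
    rw [IsIntegralHom.SpecMap_iff]
    exact algebraMap_isIntegral_iff.2 inferInstance
  haveI : Surjective g := ⟨fun p => ⟨default, Subsingleton.elim (α := PrimeSpectrum k) _ _⟩⟩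
  let π := pullback.fst f g
  haveI : IsIntegralHom π := MorphismProperty.pullback_fst (P := @IsIntegralHom) f g inferInstance
  haveI : UniversallyInjective π := MorphismProperty.pullback_fst (P := @UniversallyInjective) f g inferInstance
  haveI : Surjective π := MorphismProperty.pullback_fst (P := @Surjective) f g inferInstance
  haveI : Smooth (pullback.snd f g) := MorphismProperty.pullback_snd (P := @Smooth) f g inferInstance
  let j' := (π ⁻¹ᵁ j.opensRange).ι
  have hj' : Set.range j' = π ⁻¹' Set.range j := by rw [Scheme.Opens.range_ι]; rfl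
  have hhom : IsHomeomorph π :=
    (isHomeomorph_iff_continuous_isClosedMap_bijective).2 ⟨π.continuous, π.isClosedMap, π.injective, π.surjective⟩
  obtain ⟨x, hx⟩ := π.surjective y
  let φ : ↥(pullback f g) ≃o ↥X :=
    { toEquiv := Equiv.ofBijective π ⟨π.injective, π.surjective⟩
      map_rel_iff' := fun {a b} => by
        rw [Scheme.le_iff_specializes, Scheme.le_iff_specializes]
        exact hhom.isInducing.specializes_iff }
  have hdim : ringKrullDim ((pullback f g).presheaf.stalk x) = c := by
    rw [ringKrullDim_stalk_eq_coheight, ← Order.coheight_orderIso φ]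
    show ((Order.coheight (π x) : ℕ∞) : WithBot ℕ∞) = c
    rw [hx, ← ringKrullDim_stalk_eq_coheight]
    exact hyc
  have hmax : ∀ z, z ∉ Set.range j' → z ⤳ x → z = x := fun z hz hzx => by
    by_contra hne
    have hzj : π z ∉ Set.range j := fun hm => hz (hj'.ge hm)
    have h1 := hc _ hzj
    rw [ringKrullDim_stalk_eq_coheight] at h1 hyc
    have h1' : (c : ℕ∞) ≤ Order.coheight (π z) := by exact_mod_cast h1
    have hyc' : Order.coheight y = (c : ℕ∞) := by exact_mod_cast hyc
    have hlt : φ x < φ z := φ.lt_iff_lt.2 (lt_of_le_not_ge (Scheme.le_iff_specializes.2 hzx)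
      fun hle => hne (hzx.antisymm (Scheme.le_iff_specializes.1 hle)).eq)
    have h2 := Order.coheight_strictAnti hlt (lt_of_le_of_lt (Order.coheight_anti hlt.le)
      (by show Order.coheight (π x) < ⊤; rw [hx, hyc']; exact WithTop.coe_lt_top _))
    change Order.coheight (π z) < Order.coheight (π x) at h2
    rw [hx, hyc'] at h2
    exact absurd h1' (not_le.2 h2)
  refine RelPurLib.not_isZero_locCoh_perfect (pullback.snd f g) j' x ?_ c hmax hdim ℓ hℓ ?_
    (RelPurLib.isZero_locCoh_of_uh π j j' hj' (ZMod ℓ) (2 * c) (h (2 * c) (by omega)))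
  · rw [hj', Set.mem_preimage, hx]; exact hy
  · exact fun h0 => hℓk ((algebraMap k k').injective (by rw [map_natCast, map_zero]; exact h0))

end Groth.Agent.S3366
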