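import Groth.Statements.S3378
import Groth.Agent.GradedTowerLib.Main
import Groth.Agent.FlatDepth.Basic
import Groth.Agent.S3372
import Groth.Agent.S0335
import Groth.Agent.ParaFLiftLib.Hyper
import Groth.Agent.LefEtaleLib.Main

set_option linter.style.haveILetI false
set_option backward.isDefEq.respectTransparency false

set_option autoImplicit false
universe u
open CategoryTheory CategoryTheory.Limits AlgebraicGeometry
open LefX

namespace Groth.Agent.S3378

theorem isConnected_range {A : Type u} [CommRing A] [IsLocalRing A] (J : Ideal A) [IsLocalRing (A ⧸ J)]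
    [IsNoetherianRing A] (h : (2 : ℕ∞) ≤ LocCoh.depth (A ⧸ J) (A ⧸ J)) :
    _root_.IsConnected ({x : PrimeSpectrum A | J ≤ x.asIdeal ∧ x.asIdeal ≠ IsLocalRing.maximalIdeal A}) := by
  have hloc : IsLocalHom (Ideal.Quotient.mk J) := IsLocalHom.of_surjective _ Ideal.Quotient.mk_surjective
  have hm : (IsLocalRing.maximalIdeal (A ⧸ J)).comap (Ideal.Quotient.mk J) = IsLocalRing.maximalIdeal A :=
    ((IsLocalRing.local_hom_TFAE (Ideal.Quotient.mk J)).out 0 4).mp hloc
  refine (congrArg _root_.IsConnected ?_).mp ((S0335.result (A ⧸ J) h).image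
    (PrimeSpectrum.comap (Ideal.Quotient.mk J)) (PrimeSpectrum.continuous_comap _).continuousOn)
  ext x
  constructor
  · rintro ⟨y, hy, rfl⟩
    refine ⟨fun a ha => ?_, fun e => hy ?_⟩
    · show Ideal.Quotient.mk J a ∈ y.asIdeal
      rw [Ideal.Quotient.eq_zero_iff_mem.2 ha]; exact zero_mem _
    · exact Ideal.comap_injective_of_surjective _ Ideal.Quotient.mk_surjective (e.trans hm.symm)
  · rintro ⟨hJ, hx⟩
    obtain ⟨y, rfl⟩ : x ∈ Set.range (PrimeSpectrum.comap (Ideal.Quotient.mk J)) := by
      rw [_root_.range_comap_of_surjective _ _ Ideal.Quotient.mk_surjective, Ideal.mk_ker]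
      exact hJ
    exact ⟨y, fun e => hx ((congrArg (Ideal.comap _) e).trans hm), rfl⟩

/-- Let A be a Noetherian local ring, J a proper ideal with (i) depth A/J ≥ 3, (ii) every J^n/J^(n+1)
free over A/J, (iii) A separated and complete for the J-adic topology. Let U be the punctured
spectrum of A and U_0 = U ∩ V(J), the closed subscheme of U defined by J. Then (a) U and U_0 are
connected and restriction of finite étale covers from U to U_0 is fully faithful (π₁(U_0) → π₁(U) is
surjective), and (b) the pull-back map Pic(U) → Pic(U_0) has trivial kernel. -/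
theorem result (A : Type u) [CommRing A] [IsLocalRing A] [IsNoetherianRing A] (J : Ideal A) (hJ : J ≠ ⊤) [IsLocalRing (A ⧸ J)] (hd : (3 : ℕ∞) ≤ LocCoh.depth (A ⧸ J) (A ⧸ J)) (hgr : ∀ n : ℕ, Module.Free (A ⧸ J) (↥(J ^ n) ⧸ (J • (⊤ : Submodule A ↥(J ^ n))))) [IsAdicComplete J A] : (ConnectedSpace ↥(FEt.puncturedSpec A) ∧ ConnectedSpace ↥(((Spec.map (CommRingCat.ofHom (Ideal.Quotient.mk J))).ker.comap (FEt.puncturedSpec A).ι).subscheme) ∧ (FEt.restrict ((Spec.map (CommRingCat.ofHom (Ideal.Quotient.mk J))).ker.comap (FEt.puncturedSpec A).ι).subschemeι).Full ∧ (FEt.restrict ((Spec.map (CommRingCat.ofHom (Ideal.Quotient.mk J))).ker.comap (FEt.puncturedSpec A).ι).subschemeι).Faithful) ∧ Formal2.PicPullbackInjective ((Spec.map (CommRingCat.ofHom (Ideal.Quotient.mk J))).ker.comap (FEt.puncturedSpec A).ι).subschemeι := by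
  have hd2 : (2 : ℕ∞) ≤ LocCoh.depth (A ⧸ J) (A ⧸ J) := le_trans (by norm_num) hd
  have h3 := ParaFLiftLib.three_le_depth J hgr hJ hd
  have hLef := (GradedTower.lef_and_algebraization (IsLocalRing.maximalIdeal A) J
    (hd.trans_eq (FlatDepth.depth_of_surjective (S := A) (R := A ⧸ J) Ideal.Quotient.mk_surjective (A ⧸ J)))
    (fun n => haveI := hgr n; inferInstance) _ (S3372.puncturedSpec_eq A)).1
  let U := FEt.puncturedSpec A
  let g := Spec.map (CommRingCat.ofHom (Ideal.Quotient.mk J))
  haveI : IsClosedImmersion g := IsClosedImmersion.spec_of_surjective _ Ideal.Quotient.mk_surjective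
  have hU : (U : Set (Spec (CommRingCat.of A))) = {x : PrimeSpectrum A | x.asIdeal ≠ IsLocalRing.maximalIdeal A} :=
    Set.ext fun x => not_congr ⟨fun e => congrArg PrimeSpectrum.asIdeal e, fun e => PrimeSpectrum.ext e⟩
  have hsupp : (g.ker.support : Set (Spec (CommRingCat.of A))) = {x : PrimeSpectrum A | J ≤ x.asIdeal} := by
    rw [g.support_ker, IsClosed.closure_eq g.isClosedEmbedding.isClosed_range]
    refine (_root_.range_comap_of_surjective _ _ Ideal.Quotient.mk_surjective).trans ?_
    rw [Ideal.mk_ker]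
    rfl
  refine ⟨⟨?_, ?_, LefEtaleLib.fullyFaithful_restrict _ hLef⟩, ?_⟩
  · refine isConnected_iff_connectedSpace.1 (hU ▸ S0335.result A (le_trans (by norm_num) h3))
  · let K := g.ker.comap U.ι
    have hemb : Topology.IsEmbedding (K.subschemeι ≫ U.ι) := (K.subschemeι ≫ U.ι).isEmbedding
    suffices h : _root_.IsConnected (Set.range (K.subschemeι ≫ U.ι)) by
      haveI := isConnected_iff_connectedSpace.1 h
      exact hemb.toHomeomorph.symm.surjective.connectedSpace hemb.toHomeomorph.symm.continuous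
    refine (congrArg _root_.IsConnected ?_).mp (isConnected_range J hd2)
    rw [Scheme.Hom.comp_base]
    refine Eq.trans ?_ (Set.range_comp U.ι K.subschemeι).symm
    rw [K.range_subschemeι, Scheme.IdealSheafData.support_comap]
    ext x
    constructor
    · rintro ⟨hJx, hx⟩
      have hxU : x ∈ (U : Set (Spec (CommRingCat.of A))) := hU.ge hx
      exact ⟨⟨x, hxU⟩, hsupp.ge hJx, rfl⟩
    · rintro ⟨y, hy, rfl⟩
      exact ⟨hsupp.le hy, hU.le y.2⟩
  · intro L hL hL'
    let I := g.ker
    let m : (↑(g ⁻¹ᵁ U) : Scheme.{u}) ⟶ pullback U.ι I.subschemeι :=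
      pullback.lift (g ∣_ U) ((g ⁻¹ᵁ U).ι ≫ g.toImage) (by
        rw [Category.assoc, morphismRestrict_ι]
        exact congrArg _ g.toImage_imageι.symm)
    let w := m ≫ (I.comapIso U.ι).inv
    have hw : w ≫ (I.comap U.ι).subschemeι = g ∣_ U := by
      simp only [w, m, Category.assoc, Scheme.IdealSheafData.comapIso_inv_subschemeι, pullback.lift_fst]
    obtain ⟨σ⟩ := hL'
    exact ParaFLiftLib.picPullbackInjective_quotient J hgr hJ hd L hL
      ⟨(Scheme.Modules.pullbackCongr hw.symm).app L ≪≫ ((Scheme.Modules.pullbackComp w _).app L).symm ≪≫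
        (Scheme.Modules.pullback w).mapIso σ ≪≫ AmpleLib.pullO w⟩

end Groth.Agent.S3378
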