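import Groth.Statements.S3383
import Groth.Agent.EtDepthLib.AlongClosed

set_option autoImplicit false
universe u
open CategoryTheory CategoryTheory.Limits AlgebraicGeometry Opposite
open EtDepth

namespace Groth.Agent.S3383

/-- Let f : X → S be a morphism of schemes, j : U → X a quasi-compact open immersion with closed
complement Y such that the local rings of X at the points of Y are Noetherian, ℓ a prime, q ≥ 0 and
F an ℓ-torsion abelian sheaf on the small étale site of S. Assume f is locally (q − 2)-acyclic for ℓ
and that for every point s of S the fibre X_s has étale depth ≥ q along Y_s = Y ∩ X_s for the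
constant sheaf ℤ/ℓ. Then the Y-étale depth of f^*F is ≥ q. (The published statement allows a set of
primes; this is the case of a single prime ℓ. q − 2 is read as 0 when q < 2.) -/
theorem result {X U S : Scheme.{u}} (f : X ⟶ S) (j : U ⟶ X) [IsOpenImmersion j] [QuasiCompact j] [EtCoh.BCCont j] (hnoeth : ∀ y : X, y ∉ Set.range j.base → IsNoetherianRing (X.presheaf.stalk y)) (ℓ : ℕ) (hℓ : ℓ.Prime) (q : ℕ) (F : EtCoh.Ab S) (hF : EtDepth.IsLTorsion ℓ F) (hf : EtDepth.IsLocAcyclicLE f ℓ (q - 2)) (hfib : ∀ s : S, EtDepth.DepthGE (pullback.snd j (f.fiberι s)) (EtCoh.const (f.fiber s) (ZMod ℓ)) q) : EtDepth.DepthGE j ((EtCoh.pull f).obj F) q := by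
  have h := EtDepthLib.depthGE_pull_along f j hnoeth 0 q ℓ hℓ F hF (by rwa [Nat.zero_add])
    (fun y _ R _ _ _ _ _ c hc => absurd hc (Nat.not_lt_zero c)) (fun y _ => hfib (f.base y))
  rwa [Nat.zero_add] at h

end Groth.Agent.S3383
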