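import Groth.Statements.S3387
import Groth.Agent.FibreDepth.FibreDim
-- import your own Groth.Agent.* helpers here

set_option autoImplicit false
open CategoryTheory AlgebraicGeometry
universe u
open EGA43

namespace Groth.Agent.S3387

/-- Let f : X ⟶ Y be locally of finite type and closed (as a map of underlying spaces). Then for every
natural number n the set of points y of Y whose fibre has dimension at least n is closed; that is,
the dimension of the fibre is upper semicontinuous on Y. -/
theorem result {X Y : Scheme.{u}} (f : X ⟶ Y) [LocallyOfFiniteType f]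
    (hf : IsClosedMap f.base) (n : ℕ) :
    IsClosed {y : Y | (n : WithBot ℕ∞) ≤ topologicalKrullDim ↥(f.fiber y)} := by
  rcases n with - | n
  · rw [show {y : Y | ((0 : ℕ) : WithBot ℕ∞) ≤ topologicalKrullDim ↥(f.fiber y)} =
      {y : Y | topologicalKrullDim ↥(f.fiber y) ≤ ⊥}ᶜ from Set.ext fun y => by
        rw [Set.mem_ofPred_eq, Set.mem_compl_iff, Set.mem_ofPred_eq, le_bot_iff]
        generalize topologicalKrullDim ↥(f.fiber y) = d
        induction d using WithBot.recBotCoe with
        | bot => simp
        | coe d => exact ⟨fun _ => WithBot.coe_ne_bot, fun _ => WithBot.coe_le_coe.2 bot_le⟩]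
    exact (Groth.Agent.FibreDepth.isOpen_fibre_dim_le f hf ⊥).isClosed_compl
  · rw [show {y : Y | ((n + 1 : ℕ) : WithBot ℕ∞) ≤ topologicalKrullDim ↥(f.fiber y)} =
      {y : Y | topologicalKrullDim ↥(f.fiber y) ≤ (n : WithBot ℕ∞)}ᶜ from Set.ext fun y => by
        rw [Set.mem_ofPred_eq, Set.mem_compl_iff, Set.mem_ofPred_eq, not_le]
        generalize topologicalKrullDim ↥(f.fiber y) = d
        induction d using WithBot.recBotCoe with
        | bot => simp
        | coe d =>
          induction d using ENat.recTopCoe with
          | top =>
            refine iff_of_true (WithBot.coe_le_coe.2 le_top) (WithBot.coe_lt_coe.2 (ENat.coe_lt_top n))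
          | coe d => exact ⟨fun h => by exact_mod_cast (show n + 1 ≤ d by exact_mod_cast h),
              fun h => by exact_mod_cast (show n < d by exact_mod_cast h)⟩]
    exact (Groth.Agent.FibreDepth.isOpen_fibre_dim_le f hf n).isClosed_compl

end Groth.Agent.S3387
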