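import Groth.Statements.S3391
import Groth.Agent.DimFormulaLib.Irreducible
-- import your own Groth.Agent.* helpers here

set_option autoImplicit false
open CategoryTheory AlgebraicGeometry
universe u
open EGA43

namespace Groth.Agent.S3391

/-- With X, Y, f, x, y as in the first assertion, suppose O_{Y,y} is universally catenary and the local
dimension at x of the fibre through x equals the dimension of the generic fibre. Then dim O_{X,x} =
dim O_{Y,y} + dim O_{X_y,x}. -/
theorem result {X Y : Scheme.{u}} [IrreducibleSpace X] [IrreducibleSpace Y]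
    [IsLocallyNoetherian Y] (f : X ⟶ Y) [LocallyOfFiniteType f] [IsDominant f] (x : X)
    (hcat : CAlg.IsUniversallyCatenary (Y.presheaf.stalk (f.base x)))
    (h : FlatMor.fibreDimAt f x = topologicalKrullDim ↥(f.fiber (genericPoint Y))) :
    ringKrullDim (X.presheaf.stalk x) =
        ringKrullDim (Y.presheaf.stalk (f.base x)) + ringKrullDim ((f.fiber (f.base x)).presheaf.stalk (f.asFiber x)) := by
  obtain ⟨a, b, d, t', n, ha, hb, hd, -, hloc, hgen, -, -, hn, hle, heq⟩ :=
    Groth.Agent.DimFormulaLib.irreducible_dims f f.denseRange x
  rw [hloc, hgen] at h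
  have h' : d + t' = n := by exact_mod_cast h
  have := heq hcat
  rw [ha, hb, hd]
  exact_mod_cast (by omega : a = b + d)

end Groth.Agent.S3391
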