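import Groth.Statements.S3393
import Groth.Agent.DimFormulaLib.Irreducible
import Groth.Agent.DimFormulaLib.FibreComp
import Groth.Agent.OpenDim.Components

set_option autoImplicit false
open CategoryTheory AlgebraicGeometry
universe u
open EGA43

namespace Groth.Agent.S3393

/-- Let Y be an irreducible locally Noetherian scheme with generic point η, f : X ⟶ Y a morphism of
finite type and y a point of Y. Condition (b): for every point z of the fibre over y at which the
local ring of the fibre has dimension 0, dim O_{X,z} = dim O_{Y,y}. Condition (c): for every such z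
there is an irreducible component X' of X containing z such that the dimension of X' ∩ f⁻¹(η)
(topology induced from X) equals the local dimension at z of the fibre over y (the dimension of the
irreducible component of the fibre with generic point z). Then (b) implies (c), and (c) implies (b)
if O_{Y,y} is universally catenary. -/
theorem result {X Y : Scheme.{u}} [IrreducibleSpace Y] [IsLocallyNoetherian Y]
    (f : X ⟶ Y) [LocallyOfFiniteType f] [QuasiCompact f] (y : Y) :
    ((∀ z : X, f.base z = y → ringKrullDim ((f.fiber (f.base z)).presheaf.stalk (f.asFiber z)) = 0 →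
        ringKrullDim (X.presheaf.stalk z) = ringKrullDim (Y.presheaf.stalk (f.base z))) →
      (∀ z : X, f.base z = y → ringKrullDim ((f.fiber (f.base z)).presheaf.stalk (f.asFiber z)) = 0 →
        ∃ X' ∈ irreducibleComponents (X : Type u), z ∈ X' ∧
          topologicalKrullDim ↥(X' ∩ f.base ⁻¹' {genericPoint Y}) = FlatMor.fibreDimAt f z)) ∧
    (CAlg.IsUniversallyCatenary (Y.presheaf.stalk y) →
      (∀ z : X, f.base z = y → ringKrullDim ((f.fiber (f.base z)).presheaf.stalk (f.asFiber z)) = 0 →
        ∃ X' ∈ irreducibleComponents (X : Type u), z ∈ X' ∧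
          topologicalKrullDim ↥(X' ∩ f.base ⁻¹' {genericPoint Y}) = FlatMor.fibreDimAt f z) →
      (∀ z : X, f.base z = y → ringKrullDim ((f.fiber (f.base z)).presheaf.stalk (f.asFiber z)) = 0 →
        ringKrullDim (X.presheaf.stalk z) = ringKrullDim (Y.presheaf.stalk (f.base z)))) := by
  have key : ∀ z : X, ringKrullDim ((f.fiber (f.base z)).presheaf.stalk (f.asFiber z)) = 0 →
      ∃ (c : DimFormulaLib.Chart f z) (a b t : ℕ), ringKrullDim (X.presheaf.stalk z) = (a : WithBot ℕ∞) ∧
        ringKrullDim (Y.presheaf.stalk (f z)) = (b : WithBot ℕ∞) ∧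
        FlatMor.fibreDimAt f z = (t : WithBot ℕ∞) ∧ DimFormulaLib.resTrdegAt f z = t ∧
        c.q.asIdeal.height = a ∧ c.p.asIdeal.height = b ∧ a ≤ b ∧
        ∀ P : PrimeSpectrum c.B, P ≤ c.q → ∀ T : ℕ, DimFormulaLib.resTrdegAt f (c.j P) = T → T ≤ t := by
    intro z hz0
    obtain ⟨c⟩ := DimFormulaLib.exists_chart f z
    haveI := c.isNoetherianRing
    obtain ⟨a, b, d, t', ha, hb, hd, ht', hloc, hqa, hpb, hle, hT⟩ := c.dims
    have hd0 : d = 0 := by exact_mod_cast hd.symm.trans hz0
    subst hd0
    exact ⟨c, a, b, t', ha, hb, by simpa using hloc, c.resTrdegAt_self.trans ht', hqa, hpb, by simpa using hle,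
      fun P hP T hPT => by simpa using hT P hP T ((c.resTrdegAt_eq P).symm.trans hPT)⟩
  refine ⟨fun hb z hzy hz0 => ?_, fun hcat hc z hzy hz0 => ?_⟩
  · obtain ⟨c, a, b, t, ha, hb', hfd, ht, hqa, hpb, hab, hT⟩ := key z hz0
    haveI := c.isNoetherianRing
    haveI : IsNoetherianRing c.B := Algebra.FiniteType.isNoetherianRing c.A c.B
    have hab' : a = b := by exact_mod_cast ha.symm.trans ((hb z hzy hz0).trans hb')
    obtain ⟨P, hPmin, hPq, hPe⟩ := DimFormulaLib.exists_isMin_relHeight_eq_height c.q
    obtain ⟨T, hTP⟩ := DimFormulaLib.exists_nat_resTrdegAt f (c.j P)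
    obtain ⟨a', b', ha', hb'', hle, -⟩ := DimFormulaLib.formula_component hPq T t
      ((c.resTrdegAt_eq P).symm.trans hTP) (c.resTrdegAt_self.symm.trans ht)
    have h1 : a' = a := by exact_mod_cast ha'.symm.trans (hPe.trans hqa)
    have hple : PrimeSpectrum.comap (algebraMap c.A c.B) P ≤ c.p := Ideal.comap_mono hPq
    have h2 : b' ≤ b := by
      have := DimFormulaLib.relHeight_le_height hple
      rw [show c.p = PrimeSpectrum.comap (algebraMap c.A c.B) c.q from rfl, hb''] at this
      have h := this.trans_eq (show (PrimeSpectrum.comap (algebraMap c.A c.B) c.q).asIdeal.height = (b : ℕ∞) from hpb)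
      exact_mod_cast h
    have h3 := hT P hPq T hTP
    have h4 : b' = b := by omega
    have h5 : T = t := by omega
    have hη : f (c.j P) = genericPoint Y := by
      by_contra hne
      obtain ⟨P1, hP1⟩ : ∃ P1 : PrimeSpectrum c.A, c.i P1 = genericPoint Y :=
        (genericPoint_specializes _).mem_open c.i.isOpenEmbedding.isOpen_range ⟨c.p, rfl⟩
      have hlt : P1 < PrimeSpectrum.comap (algebraMap c.A c.B) P := by
        refine lt_of_le_of_ne (c.le_of_specializes_base (by rw [hP1]; exact genericPoint_specializes _)) fun e => hne ?_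
        exact (c.apply_j P).trans (e ▸ hP1)
      have h6 := DimFormulaLib.one_add_relHeight_le hlt hple
      have h7 := DimFormulaLib.relHeight_le_height (hlt.le.trans hple)
      have h8 := h6.trans (h7.trans_eq hpb)
      rw [show DimFormulaLib.relHeight (PrimeSpectrum.comap (algebraMap c.A c.B) P) c.p = (b' : ℕ∞) from hb''] at h8
      have h9 : 1 + b' ≤ b := by
        have := h8
        norm_cast at this
        omega
      omega
    refine ⟨closure {c.j P}, DimFormulaLib.closure_mem_irreducibleComponents ((c.isMin_iff hPq).1 hPmin),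
      specializes_iff_mem_closure.1 (c.specializes hPq), ?_⟩
    rw [← hη, OpenDim.dim_generic_fibre, hfd]
    have : OpenDim.trd f (c.j P) = T := by
      exact_mod_cast (OpenDim.resTrdegAt_eq_trd f (c.j P)).symm.trans hTP
    rw [this, h5]
  · obtain ⟨c, a, b, t, ha, hb', hfd, ht, hqa, hpb, hab, hT⟩ := key z hz0
    haveI := c.isNoetherianRing
    haveI : IsNoetherianRing c.B := Algebra.FiniteType.isNoetherianRing c.A c.B
    obtain ⟨X', hX', hzX', hdim⟩ := hc z hzy hz0
    obtain ⟨ξ, rfl, hξ⟩ := DimFormulaLib.exists_generic_of_mem_irreducibleComponents hX'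
    have hξη : f ξ = genericPoint Y := by
      rw [hfd] at hdim
      rcases (closure ({ξ} : Set X) ∩ f.base ⁻¹' {genericPoint Y}).eq_empty_or_nonempty with h | ⟨w, hw1, hw2⟩
      · haveI := Set.isEmpty_coe_sort.2 h
        haveI : IsEmpty (TopologicalSpace.IrreducibleCloseds ↥(closure ({ξ} : Set X) ∩ f.base ⁻¹' {genericPoint Y})) :=
          ⟨fun T => isEmptyElim T.isIrreducible.nonempty.some⟩
        rw [topologicalKrullDim, Order.krullDim_eq_bot] at hdim
        exact absurd hdim.symm WithBot.coe_ne_bot
      · exact ((genericPoint_specializes (f ξ)).antisymm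
          ((show f w = genericPoint Y from hw2) ▸ ((specializes_iff_mem_closure.2 hw1).map f.continuous))).eq.symm
    obtain ⟨P, hPq, hPξ⟩ := c.exists_le (specializes_iff_mem_closure.2 hzX')
    rw [← hξη, OpenDim.dim_generic_fibre, hfd] at hdim
    have hT' : DimFormulaLib.resTrdegAt f (c.j P) = t := by
      rw [hPξ, OpenDim.resTrdegAt_eq_trd]
      exact_mod_cast (show OpenDim.trd f ξ = t by exact_mod_cast hdim)
    obtain ⟨a', b', ha', hb'', -, heq⟩ := DimFormulaLib.formula_component hPq t t
      ((c.resTrdegAt_eq P).symm.trans hT') (c.resTrdegAt_self.symm.trans ht)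
    have heq' := heq (c.catAbove (by rw [show f z = y from hzy]; exact hcat))
    have hmin' : ∀ Q, PrimeSpectrum.comap (algebraMap c.A c.B) P ≤ Q := fun Q => by
      refine c.le_of_specializes_base ?_
      rw [← c.apply_j, hPξ, hξη]
      exact genericPoint_specializes _
    have h1 : b' = b := by
      exact_mod_cast hb''.symm.trans ((DimFormulaLib.Chart.relHeight_eq_of_min hmin').trans hpb)
    have h2 : a' ≤ a := by
      have := DimFormulaLib.relHeight_le_height hPq
      rw [ha', hqa] at this
      exact_mod_cast this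
    rw [ha, hb']
    exact_mod_cast (by omega : a = b)

end Groth.Agent.S3393
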