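import Groth.Statements.S3394
import Groth.Agent.GrSegreLib.Dim
import Mathlib

set_option autoImplicit false
open CategoryTheory AlgebraicGeometry
universe u
open EGA43

namespace Groth.Agent.S3394

set_option backward.isDefEq.respectTransparency false
open MvPolynomial CategoryTheory CategoryTheory.Limits AlgebraicGeometry

theorem h9_alg {A B K R : Type u} [CommRing A] [CommRing B] [CommRing K] [CommRing R] [Algebra A B] [Algebra A K]
    [Algebra B R] [Algebra K R] [Algebra A R] [IsScalarTower A B R] [IsScalarTower A K R]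
    [Algebra.IsPushout A K B R] (hK : IsField K) (hs : (algebraMap A K).SurjectiveOnStalks)
    [Algebra.FiniteType K R] [Nontrivial R] (e : ℕ) (he : ringKrullDim R = e) :
    ∃ b : ULift.{u} (Fin e) → B, (aeval (R := K) fun i => algebraMap B R (b i)).toRingHom.Finite := by
  classical
  letI := hK.toField
  have hfrac : ∀ c : K, ∃ r x : A, algebraMap A K r ≠ 0 ∧ algebraMap A K r * c = algebraMap A K x := by
    intro c
    obtain ⟨x, r, d, hd, hr, h⟩ := RingHom.surjectiveOnStalks_iff_forall_ideal.1 hs ⊥ bot_ne_top c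
    refine ⟨r, x, fun h0 => hr (by rw [h0]; exact Ideal.zero_mem _), ?_⟩
    rw [Ideal.mem_bot] at hd
    exact mul_left_cancel₀ hd (by rw [← mul_assoc]; exact h)
  have hscale : ∀ z : R, ∃ r : A, algebraMap A K r ≠ 0 ∧ ∃ b : B, algebraMap A R r * z = algebraMap B R b := by
    intro z
    refine (Algebra.IsPushout.out (R := A) (S := K) (R' := B) (S' := R)).inductionOn
      (motive := fun z => ∃ r : A, algebraMap A K r ≠ 0 ∧ ∃ b : B, algebraMap A R r * z = algebraMap B R b) z
      ⟨1, by rw [map_one]; exact one_ne_zero, 0, by simp⟩ ?_ ?_ ?_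
    · intro b
      exact ⟨1, by rw [map_one]; exact one_ne_zero, b, by simp⟩
    · rintro c z ⟨r, hr, b, hb⟩
      obtain ⟨r', x, hr', hx⟩ := hfrac c
      refine ⟨r' * r, by rw [map_mul]; exact mul_ne_zero hr' hr, algebraMap A B x * b, ?_⟩
      rw [map_mul, map_mul, ← hb, Algebra.smul_def, ← IsScalarTower.algebraMap_apply A B R,
        IsScalarTower.algebraMap_apply A K R x, ← hx, map_mul, ← IsScalarTower.algebraMap_apply A K R]
      ring
    · rintro z₁ z₂ ⟨r₁, h₁, b₁, e₁⟩ ⟨r₂, h₂, b₂, e₂⟩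
      refine ⟨r₁ * r₂, by rw [map_mul]; exact mul_ne_zero h₁ h₂, algebraMap A B r₂ * b₁ + algebraMap A B r₁ * b₂, ?_⟩
      rw [map_add, map_mul, map_mul, map_mul, ← e₁, ← e₂, ← IsScalarTower.algebraMap_apply A B R,
        ← IsScalarTower.algebraMap_apply A B R]
      ring
  obtain ⟨s, g, hinj, hfin⟩ := exists_finite_inj_algHom_of_fg K R
  have hse : s = e := by
    have h1 := Groth.Agent.GrSegreLib.ringKrullDim_eq_of_integral_injective g.toRingHom hinj hfin.to_isIntegral
    rw [MvPolynomial.ringKrullDim_of_isNoetherianRing, ringKrullDim_eq_zero_of_field, he] at h1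
    simpa using h1
  subst hse
  choose r hr b hb using fun i : ULift.{u} (Fin s) => hscale (g (X i.down))
  refine ⟨b, ?_⟩
  let θ : MvPolynomial (ULift.{u} (Fin s)) K →ₐ[K] R := aeval fun i => algebraMap B R (b i)
  let ψ : MvPolynomial (Fin s) K →ₐ[K] MvPolynomial (ULift.{u} (Fin s)) K :=
    aeval fun i => C (algebraMap A K (r ⟨i⟩))⁻¹ * X ⟨i⟩
  have hcomp : θ.comp ψ = g := by
    refine algHom_ext fun i => ?_
    rw [AlgHom.comp_apply]
    simp only [ψ, θ, aeval_X, map_mul, aeval_C]
    rw [← hb ⟨i⟩, ← mul_assoc, IsScalarTower.algebraMap_apply A K R, ← map_mul, inv_mul_cancel₀ (hr ⟨i⟩),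
      map_one, one_mul]
  have h2 : (θ.toRingHom.comp ψ.toRingHom).Finite := by
    rw [show θ.toRingHom.comp ψ.toRingHom = g.toRingHom from congrArg AlgHom.toRingHom hcomp]
    exact hfin
  exact RingHom.Finite.of_comp_finite h2

theorem h9_geom {X Y T : Scheme.{u}} [IsAffine X] [IsAffine Y] [IsAffine T] (f : X ⟶ Y) [LocallyOfFiniteType f]
    (j : T ⟶ Y) [IsPreimmersion j] (hT : IsField Γ(T, ⊤)) [Nonempty ↥(pullback f j)] (e : ℕ)
    (he : topologicalKrullDim ↥(pullback f j) = e) :
    ∃ v : ULift.{u} (Fin e) → Γ(X, ⊤),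
      IsFinite (AffineSpace.homOfVector (pullback.snd f j) fun i => (pullback.fst f j).appTop (v i)) := by
  letI : Algebra Γ(Y, ⊤) Γ(X, ⊤) := f.appTop.hom.toAlgebra
  letI : Algebra Γ(Y, ⊤) Γ(T, ⊤) := j.appTop.hom.toAlgebra
  letI : Algebra Γ(X, ⊤) Γ(pullback f j, ⊤) := (pullback.fst f j).appTop.hom.toAlgebra
  letI : Algebra Γ(T, ⊤) Γ(pullback f j, ⊤) := (pullback.snd f j).appTop.hom.toAlgebra
  letI : Algebra Γ(Y, ⊤) Γ(pullback f j, ⊤) := (f.appTop ≫ (pullback.fst f j).appTop).hom.toAlgebra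
  haveI : IsScalarTower Γ(Y, ⊤) Γ(X, ⊤) Γ(pullback f j, ⊤) := IsScalarTower.of_algebraMap_eq' rfl
  haveI : IsScalarTower Γ(Y, ⊤) Γ(T, ⊤) Γ(pullback f j, ⊤) := IsScalarTower.of_algebraMap_eq' (by
    show (f.appTop ≫ (pullback.fst f j).appTop).hom = (pullback.snd f j).appTop.hom.comp j.appTop.hom
    rw [← Scheme.Hom.comp_appTop, pullback.condition, Scheme.Hom.comp_appTop, CommRingCat.hom_comp])
  have sq : IsPullback (pullback.fst f j) (pullback.snd f j) f j := .of_hasPullback f j
  haveI : IsAffine (pullback f j) := inferInstance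
  haveI : Algebra.IsPushout Γ(Y, ⊤) Γ(T, ⊤) Γ(X, ⊤) Γ(pullback f j, ⊤) :=
    CommRingCat.isPushout_iff_isPushout.1 (isPushout_appTop_of_isPullback sq).flip
  have hs : (algebraMap Γ(Y, ⊤) Γ(T, ⊤)).SurjectiveOnStalks :=
    HasRingHomProperty.appTop (P := @SurjectiveOnStalks) j inferInstance
  haveI : LocallyOfFiniteType (pullback.snd f j) := inferInstanceAs (LocallyOfFiniteType (pullback.snd f j))
  haveI : Algebra.FiniteType Γ(T, ⊤) Γ(pullback f j, ⊤) :=
    HasRingHomProperty.appTop (P := @LocallyOfFiniteType) (pullback.snd f j) inferInstance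
  let hh : ↥(pullback f j) ≃ₜ PrimeSpectrum Γ(pullback f j, ⊤) := (pullback f j).isoSpec.hom.homeomorph
  haveI : Nontrivial Γ(pullback f j, ⊤) :=
    PrimeSpectrum.nonempty_iff_nontrivial.1 (hh.symm.surjective.nonempty)
  have hR : ringKrullDim Γ(pullback f j, ⊤) = e := by
    rw [← PrimeSpectrum.topologicalKrullDim_eq_ringKrullDim, ← IsHomeomorph.topologicalKrullDim_eq hh hh.isHomeomorph]
    exact he
  obtain ⟨v, hv⟩ := h9_alg (A := Γ(Y, ⊤)) (B := Γ(X, ⊤)) (K := Γ(T, ⊤)) (R := Γ(pullback f j, ⊤)) hT hs e hR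
  refine ⟨v, ?_⟩
  let h := AffineSpace.homOfVector (pullback.snd f j) fun i => (pullback.fst f j).appTop (v i)
  let τ := h ≫ (AffineSpace.isoOfIsAffine (ULift.{u} (Fin e)) T).hom
  have hτ : IsFinite τ := by
    rw [HasAffineProperty.iff_of_isAffine (P := @AlgebraicGeometry.IsFinite)]
    refine ⟨inferInstance, ?_⟩
    rw [Scheme.Hom.comp_appTop, AffineSpace.isoOfIsAffine_hom_appTop, Category.assoc, CommRingCat.hom_comp]
    refine RingHom.Finite.comp ?_ (RingHom.Finite.of_surjective _
      (ConcreteCategory.bijective_of_isIso (Scheme.ΓSpecIso (CommRingCat.of _)).hom).2)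
    rw [CommRingCat.hom_comp, CommRingCat.hom_ofHom]
    suffices key : (aeval (R := Γ(T, ⊤)) fun i => algebraMap Γ(X, ⊤) Γ(pullback f j, ⊤) (v i)).toRingHom =
        h.appTop.hom.comp (eval₂Hom (𝔸(ULift.{u} (Fin e); T) ↘ T).appTop.hom (AffineSpace.coord T)) by
      rw [← key]; exact hv
    refine ringHom_ext (fun c => ?_) (fun i => ?_)
    · show (aeval (R := Γ(T, ⊤)) fun i => algebraMap Γ(X, ⊤) Γ(pullback f j, ⊤) (v i)) (C c) =
        h.appTop.hom ((eval₂Hom _ _) (C c))
      rw [aeval_C, eval₂Hom_C]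
      show (pullback.snd f j).appTop.hom c = _
      rw [← AffineSpace.homOfVector_over (pullback.snd f j) fun i => (pullback.fst f j).appTop (v i),
        Scheme.Hom.comp_appTop]
      rfl
    · show (aeval (R := Γ(T, ⊤)) fun i => algebraMap Γ(X, ⊤) Γ(pullback f j, ⊤) (v i)) (MvPolynomial.X i) =
        h.appTop.hom ((eval₂Hom _ _) (MvPolynomial.X i))
      rw [aeval_X, eval₂Hom_X']
      exact (AffineSpace.homOfVector_appTop_coord (pullback.snd f j) (fun i => (pullback.fst f j).appTop (v i)) i).symm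
  exact (MorphismProperty.cancel_right_of_respectsIso @AlgebraicGeometry.IsFinite h _).1 hτ

open CategoryTheory.Limits in
/-- Let X and Y be affine schemes, f : X ⟶ Y a morphism of finite type, y a point of f(X) and e the
dimension of the fibre of f over y. Then there is a Y-morphism g from X to the affine space of
dimension e over Y such that the morphism induced by g on the fibres over y is finite (here written
as the base change of g along the inclusion of the fibre of the affine space over y). -/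
theorem result {X Y : Scheme.{u}} [IsAffine X] [IsAffine Y] (f : X ⟶ Y)
    [LocallyOfFiniteType f] (y : Y) (hy : y ∈ Set.range f.base) (e : ℕ)
    (he : topologicalKrullDim ↥(f.fiber y) = e) :
    ∃ g : X ⟶ 𝔸(ULift.{u} (Fin e); Y), g ≫ (𝔸(ULift.{u} (Fin e); Y) ↘ Y) = f ∧
      IsFinite (pullback.snd g ((𝔸(ULift.{u} (Fin e); Y) ↘ Y).fiberι y)) := by
  open CategoryTheory.Limits in
  let j := Y.fromSpecResidueField y
  haveI : Nonempty ↥(pullback f j) := by
    obtain ⟨x, rfl⟩ := hy
    exact ⟨f.asFiber x⟩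
  have hT : IsField Γ(Spec (Y.residueField y), ⊤) :=
    MulEquiv.isField (Field.toIsField (Y.residueField y))
      (Scheme.ΓSpecIso (Y.residueField y)).commRingCatIsoToRingEquiv.toMulEquiv
  obtain ⟨v, hv⟩ := h9_geom f j hT e he
  let g := AffineSpace.homOfVector f v
  have hg : g ≫ (𝔸(ULift.{u} (Fin e); Y) ↘ Y) = f := AffineSpace.homOfVector_over f v
  refine ⟨g, hg, ?_⟩
  let p := 𝔸(ULift.{u} (Fin e); Y) ↘ Y
  let m := AffineSpace.map (ULift.{u} (Fin e)) j
  let w := AffineSpace.homOfVector (n := ULift.{u} (Fin e)) (pullback.snd f j)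
    fun i => (pullback.fst f j).appTop (v i)
  have sqA : IsPullback m (𝔸(ULift.{u} (Fin e); Spec (Y.residueField y)) ↘ Spec (Y.residueField y)) p j :=
    AffineSpace.isPullback_map j
  have hwm : w ≫ m = pullback.fst f j ≫ g := by
    apply AffineSpace.hom_ext
    · rw [Category.assoc, AffineSpace.map_over, AffineSpace.homOfVector_over_assoc, Category.assoc, hg,
        pullback.condition]
    · intro i
      rw [Scheme.Hom.comp_appTop, Scheme.Hom.comp_appTop, CommRingCat.comp_apply, CommRingCat.comp_apply,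
        AffineSpace.map_appTop_coord, AffineSpace.homOfVector_appTop_coord,
        AffineSpace.homOfVector_appTop_coord]
  have sq : IsPullback (pullback.fst f j) w g m := by
    refine IsPullback.of_bot ?_ hwm.symm sqA
    rw [AffineSpace.homOfVector_over, hg]
    exact .of_hasPullback f j
  have hm : IsPullback m (𝔸(ULift.{u} (Fin e); Spec (Y.residueField y)) ↘ Spec (Y.residueField y)) p j := sqA
  let ε := hm.isoPullback
  have hε : ε.hom ≫ p.fiberι y = m := hm.isoPullback_hom_fst
  have sq' : IsPullback (pullback.fst f j) (w ≫ ε.hom) g (p.fiberι y) := by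
    refine sq.of_iso (Iso.refl _) (Iso.refl _) ε (Iso.refl _) ?_ ?_ ?_ ?_
    · simp
    · simp
    · simp
    · simp [hε]
  rw [← MorphismProperty.cancel_left_of_respectsIso @AlgebraicGeometry.IsFinite sq'.isoPullback.hom, sq'.isoPullback_hom_snd]
  exact (MorphismProperty.cancel_right_of_respectsIso @AlgebraicGeometry.IsFinite w ε.hom).2 hv

end Groth.Agent.S3394
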