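import Groth.Statements.S3395
import Groth.Agent.GrSegreLib.Dim
import Mathlib

set_option autoImplicit false
open CategoryTheory AlgebraicGeometry
universe u
open EGA43

namespace Groth.Agent.S3395

set_option backward.isDefEq.respectTransparency false
open CategoryTheory CategoryTheory.Limits AlgebraicGeometry

theorem h9_surj {P R : Scheme.{u}} [IsAffine R] (h : P ⟶ R) [AlgebraicGeometry.IsFinite h] [IsDomain Γ(R, ⊤)]
    [IsNoetherianRing Γ(R, ⊤)] (e : ℕ) (hR : ringKrullDim Γ(R, ⊤) = e) (hP : topologicalKrullDim ↥P = e) :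
    Function.Surjective h.base := by
  haveI : IsAffine P := isAffine_of_isAffineHom h
  let φ := h.appTop.hom
  have hfin : φ.Finite := ((HasAffineProperty.iff_of_isAffine (P := @AlgebraicGeometry.IsFinite)).1 ‹_›).2
  let hh : ↥P ≃ₜ PrimeSpectrum Γ(P, ⊤) := P.isoSpec.hom.homeomorph
  have hdP : ringKrullDim Γ(P, ⊤) = e := by
    rw [← PrimeSpectrum.topologicalKrullDim_eq_ringKrullDim, ← IsHomeomorph.topologicalKrullDim_eq hh hh.isHomeomorph]
    exact hP
  have hinj : Function.Injective φ := by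
    rw [injective_iff_map_eq_zero]
    intro a ha
    by_contra ha0
    let ψ : Γ(R, ⊤) ⧸ RingHom.ker φ →+* Γ(P, ⊤) := φ.kerLift
    have hint : ψ.IsIntegral := RingHom.IsIntegral.tower_top (Ideal.Quotient.mk (RingHom.ker φ)) ψ
      (show (ψ.comp (Ideal.Quotient.mk (RingHom.ker φ))).IsIntegral from hfin.to_isIntegral)
    have h1 := Groth.Agent.GrSegreLib.ringKrullDim_eq_of_integral_injective ψ φ.kerLift_injective hint
    have h2 := ringKrullDim_quotient_succ_le_of_nonZeroDivisor (mem_nonZeroDivisors_of_ne_zero ha0)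
    have h3 : ringKrullDim (Γ(R, ⊤) ⧸ RingHom.ker φ) ≤ ringKrullDim (Γ(R, ⊤) ⧸ Ideal.span {a}) :=
      ringKrullDim_le_of_surjective (Ideal.Quotient.factor ((Ideal.span_singleton_le_iff_mem _).2 ha))
        (Ideal.Quotient.factor_surjective _)
    rw [h1, hdP] at h3
    rw [hR] at h2
    have h4 : (e : WithBot ℕ∞) + 1 ≤ e := (add_le_add h3 le_rfl).trans h2
    have h5 : e + 1 ≤ e := by exact_mod_cast h4
    omega
  have hs : Function.Surjective (Spec.map h.appTop).base := hfin.to_isIntegral.comap_surjective hinj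
  have : Surjective h := (MorphismProperty.arrow_mk_iso_iff @Surjective (arrowIsoSpecΓOfIsAffine h)).2 ⟨hs⟩
  exact this.surj

theorem h9_main {X Y A : Scheme.{u}} [IsAffine X] (f : X ⟶ Y) [LocallyOfFiniteType f] (p : A ⟶ Y)
    (g : X ⟶ A) (hg : g ≫ p = f) (y : Y) [AlgebraicGeometry.IsFinite (pullback.snd g (p.fiberι y))] :
    ∃ U : X.Opens, f.base ⁻¹' {y} ⊆ (U : Set X) ∧ LocallyQuasiFinite (U.ι ≫ g) := by
  haveI : LocallyOfFiniteType (g ≫ p) := by rw [hg]; infer_instance
  haveI : LocallyOfFiniteType g := locallyOfFiniteType_of_comp g p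
  refine ⟨g.quasiFiniteLocus, ?_, ?_⟩
  · intro x hx
    rw [Scheme.Hom.quasiFiniteLocus, SetLike.mem_coe]
    refine Scheme.Hom.quasiFiniteAt_iff_isOpen_singleton_asFiber.2 ?_
    have hfin : (g ⁻¹' {g x}).Finite := by
      have hgx : g x ∈ Set.range (p.fiberι y) := (p.range_fiberι y).ge (by
        show p (g x) = y
        rw [← Scheme.Hom.comp_apply, hg]; exact hx)
      obtain ⟨z, hz⟩ := hgx
      have hsub : g ⁻¹' {g x} ⊆ pullback.fst g (p.fiberι y) '' (pullback.snd g (p.fiberι y) ⁻¹' {z}) := by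
        intro x' hx'
        obtain ⟨w, hw1, hw2⟩ := Scheme.Pullback.exists_preimage_pullback x' z
          ((Set.mem_singleton_iff.1 hx').trans hz.symm)
        exact ⟨w, hw2, hw1⟩
      exact ((pullback.snd g (p.fiberι y)).finite_preimage_singleton z |>.image _).subset hsub
    haveI : Finite (g.fiber (g x)) := (g.fiberHomeo (g x)).finite_iff.mpr hfin.to_subtype
    exact isOpen_discrete _
  · rw [← Scheme.Hom.quasiFiniteLocus_eq_top_iff, Scheme.Hom.quasiFiniteLocus_comp]
    ext u
    exact ⟨fun _ => trivial, fun _ => u.2⟩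

theorem h9_fibre (n : Type u) {Y : Scheme.{u}} [Finite n] (y : Y) :
    let P := (𝔸(n; Y) ↘ Y).fiber y
    IsAffine P ∧ IsDomain Γ(P, ⊤) ∧ IsNoetherianRing Γ(P, ⊤) ∧ ringKrullDim Γ(P, ⊤) = Nat.card n := by
  intro P
  let ε : P ≅ Spec (CommRingCat.of (MvPolynomial n (Y.residueField y))) :=
    (AffineSpace.isPullback_map (n := n) (Y.fromSpecResidueField y)).isoPullback.symm ≪≫
      AffineSpace.SpecIso n (Y.residueField y)
  haveI : IsAffine P := .of_isIso ε.hom
  let ρ : Γ(P, ⊤) ≃+* MvPolynomial n (Y.residueField y) :=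
    ((Scheme.Γ.mapIso ε.op).symm ≪≫ Scheme.ΓSpecIso _).commRingCatIsoToRingEquiv
  refine ⟨inferInstance, ρ.toMulEquiv.isDomain_iff.2 inferInstance, isNoetherianRing_of_ringEquiv _ ρ.symm, ?_⟩
  rw [ringKrullDim_eq_of_ringEquiv ρ, MvPolynomial.ringKrullDim_of_isNoetherianRing,
    ringKrullDim_eq_zero_of_field, zero_add]

open CategoryTheory.Limits in
/-- Let X and Y be affine schemes, f : X ⟶ Y of finite type, y a point of f(X), e the dimension of the
fibre over y, and g a Y-morphism from X to the affine space of dimension e over Y whose base change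
to the fibre of the affine space over y is finite. Then that base change is surjective, and g is
locally quasi-finite on some open U ⊆ X that contains the fibre f⁻¹(y). -/
theorem result {X Y : Scheme.{u}} [IsAffine X] [IsAffine Y]
    (f : X ⟶ Y) [LocallyOfFiniteType f] (y : Y) (hy : y ∈ Set.range f.base) (e : ℕ)
    (he : topologicalKrullDim ↥(f.fiber y) = e) (g : X ⟶ 𝔸(ULift.{u} (Fin e); Y)) (hg : g ≫ (𝔸(ULift.{u} (Fin e); Y) ↘ Y) = f)
    (hfin : IsFinite (pullback.snd g ((𝔸(ULift.{u} (Fin e); Y) ↘ Y).fiberι y))) :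
    Function.Surjective (pullback.snd g ((𝔸(ULift.{u} (Fin e); Y) ↘ Y).fiberι y)).base ∧
      ∃ U : X.Opens, f.base ⁻¹' {y} ⊆ (U : Set X) ∧ LocallyQuasiFinite (U.ι ≫ g) := by
  haveI := hfin
  let p := 𝔸(ULift.{u} (Fin e); Y) ↘ Y
  refine ⟨?_, h9_main f p g hg y⟩
  obtain ⟨h1, h2, h3, h4⟩ := h9_fibre (ULift.{u} (Fin e)) y
  haveI := h1; haveI := h2; haveI := h3
  refine h9_surj _ e (h4.trans (by simp)) ?_
  let ε : pullback g (p.fiberι y) ≅ f.fiber y :=
    pullbackRightPullbackFstIso p (Y.fromSpecResidueField y) g ≪≫ pullback.congrHom hg rfl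
  exact (IsHomeomorph.topologicalKrullDim_eq ε.hom.homeomorph ε.hom.homeomorph.isHomeomorph).trans he

end Groth.Agent.S3395
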