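import Groth.Statements.S3401
import Groth.Agent.ProConsLib.Range
-- import your own Groth.Agent.* helpers here

set_option autoImplicit false
open CategoryTheory AlgebraicGeometry
universe u
open EGA41

namespace Groth.Agent.S3401

/-- Let X be a scheme and E a subset of X. If E is ind-constructible then for every point x of E the set
E ∩ cl{x} is a neighbourhood of x in cl{x}; when X is locally Noetherian the converse holds. (As
published, the necessity clause quantifies over all points x of X; for x outside E the condition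
cannot hold, and the argument uses x ∈ E, so it is stated here for x ∈ E.) Stated as an equivalence
for X locally Noetherian. -/
theorem result (X : Scheme.{u}) [IsLocallyNoetherian X]
    (E : Set X) :
    ProCons.IsIndConstructible E ↔
      ∀ x ∈ E, (Subtype.val ⁻¹' E : Set ↥(closure ({x} : Set X))) ∈ nhds (⟨x, subset_closure rfl⟩ : ↥(closure ({x} : Set X))) := by
  constructor
  · intro hE x hx
    obtain ⟨U, hU, hxU, -⟩ := exists_isAffineOpen_mem_and_subset (TopologicalSpace.Opens.mem_top x)
    haveI := Groth.Agent.ProConsLib.spectralSpace_of_isAffineOpen hU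
    let cl : Set (U : Set X) := closure {⟨x, hxU⟩}
    have hZ := @IsClosed.inter (U : Set X) _ _ (constructibleTopology _) (Groth.Agent.SpectralLib.isClosed_C_of_isClosed (isClosed_closure : IsClosed cl))
      (Groth.Agent.ProConsLib.isClosed_trace (Groth.Agent.ProConsLib.isIndConstructible_iff_compl.1 hE) hU)
    have hxZ : (⟨x, hxU⟩ : (U : Set X)) ∉ closure (cl ∩ (Subtype.val : ↥(U : Set X) → X) ⁻¹' Eᶜ) := fun h => by
      obtain ⟨e, he, hex⟩ := Groth.Agent.SpectralLib.exists_specializes_of_mem_closure hZ h
      exact he.2 ((hex.antisymm (specializes_iff_mem_closure.2 he.1)).eq ▸ hx)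
    obtain ⟨O, hO, hxO, hOZ⟩ : ∃ O : Set (U : Set X), IsOpen O ∧ (⟨x, hxU⟩ : (U : Set X)) ∈ O ∧
        Disjoint O (cl ∩ (Subtype.val : ↥(U : Set X) → X) ⁻¹' Eᶜ) :=
      ⟨_, isClosed_closure.isOpen_compl, hxZ, Set.disjoint_left.2 fun z hz hz' => hz (subset_closure hz')⟩
    refine mem_nhds_iff.2 ⟨Subtype.val ⁻¹' (Subtype.val '' O), ?_,
      (U.2.isOpenMap_subtype_val _ hO).preimage continuous_subtype_val, ⟨⟨x, hxU⟩, hxO, rfl⟩⟩
    rintro ⟨z, hz⟩ ⟨w, hw, hwz⟩
    obtain rfl : w.1 = z := hwz
    by_contra hzE
    refine Set.disjoint_left.1 hOZ hw ⟨?_, hzE⟩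
    show w ∈ closure _
    rw [closure_subtype, Set.image_singleton]
    exact hz
  · intro h
    rw [Groth.Agent.ProConsLib.isIndConstructible_iff]
    intro U hU
    haveI := Groth.Agent.ProConsLib.spectralSpace_of_isAffineOpen hU
    haveI : TopologicalSpace.NoetherianSpace (U : Set X) := by
      haveI : IsAffine U.toScheme := hU
      haveI : IsNoetherian U.toScheme := { }
      exact (inferInstance : TopologicalSpace.NoetherianSpace U.toScheme)
    refine (@isOpen_iff_forall_mem_open (U : Set X) (constructibleTopology _) _).2 fun x hx => ?_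
    obtain ⟨V, hV, hVo, hxV⟩ := mem_nhds_iff.1 (h x hx)
    obtain ⟨O, hO, rfl⟩ := hVo
    refine ⟨Subtype.val ⁻¹' O ∩ closure {x}, ?_, @IsOpen.inter (U : Set X) (constructibleTopology _) _ _
      (Groth.Agent.SpectralLib.isOpen_C_of_isOpen (hO.preimage continuous_subtype_val))
      (IsCompact.isOpen_constructibleTopology_of_isClosed (TopologicalSpace.NoetherianSpace.isCompact _) isClosed_closure),
      hxV, subset_closure rfl⟩
    rintro z ⟨hzO, hzc⟩
    rw [closure_subtype, Set.image_singleton] at hzc
    exact hV (a := ⟨z.1, hzc⟩) hzO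

end Groth.Agent.S3401
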