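import Groth.Statements.S3405
import Groth.Agent.HSLib.Dim

set_option autoImplicit false
universe u
open EGA41

namespace Groth.Agent.S3405

open Groth.Agent

/-- The degree of the Hilbert–Samuel polynomial equals the dimension: let A be a Noetherian ring with
finitely many maximal ideals, r its Jacobson radical and M a nonzero finitely generated A-module.
Then there is a polynomial P with rational coefficients such that the length of M/rⁿM is finite and
equals P(n) for all large n, and the degree of P is the dimension of M (the Krull dimension of its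
support). -/
theorem result (A : Type u) [CommRing A] [IsNoetherianRing A]
    [Finite (MaximalSpectrum A)] (M : Type u) [AddCommGroup M] [Module A M] [Module.Finite A M] [Nontrivial M] :
    ∃ P : Polynomial ℚ,
      (∃ N : ℕ, ∀ n : ℕ, N ≤ n →
        ∃ ℓ : ℕ, Module.length A (M ⧸ (Ring.jacobson A ^ n • (⊤ : Submodule A M))) = ℓ ∧ (ℓ : ℚ) = P.eval (n : ℚ)) ∧
      (P.natDegree : WithBot ℕ∞) = Module.supportDim A M := by
  have hfl : ∀ p ∈ Module.support A M, Ring.jacobson A ≤ p.asIdeal → p.asIdeal.IsMaximal :=
    fun p _ h => HSLib.isMaximal_of_jacobson_le p.asIdeal h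
  have hfin := HSLib.length_pow_ne_top (M := M) hfl
  obtain ⟨P, hP⟩ := HSLib.exists_isHSPoly (M := M) (Ring.jacobson A) hfin
  obtain ⟨N, hN⟩ := Filter.eventually_atTop.1 hP
  refine ⟨P, ⟨N, fun n hn => ⟨_, (ENat.coe_toNat (hfin n)).symm, hN n hn⟩⟩, ?_⟩
  have h1 := HSLib.supportDim_le_natDegree le_rfl M hfl P hP
  obtain ⟨d, hd⟩ : ∃ d : ℕ, Module.supportDim A M = (d : WithBot ℕ∞) := by
    revert h1
    have h0 := Module.supportDim_ne_bot_of_nontrivial A M
    revert h0
    generalize Module.supportDim A M = s
    intro h0 h1
    cases s using WithBot.recBotCoe with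
    | bot => exact absurd rfl h0
    | coe a =>
      cases a using ENat.recTopCoe with
      | top => exact absurd (WithBot.coe_le_coe.1 h1) (by simp)
      | coe b => exact ⟨b, rfl⟩
  refine le_antisymm ?_ h1
  rw [hd]
  exact Nat.cast_le.2 (HSLib.natDegree_le_supportDim le_rfl hfl hP hd.le)

end Groth.Agent.S3405
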