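import Groth.Statements.S3406
import Groth.Agent.HSLib.Dim

set_option autoImplicit false
universe u
open EGA41

namespace Groth.Agent.S3406

open Groth.Agent

/-- The equality s(M) = dim(M): let A be a Noetherian ring with finitely many maximal ideals, r its
Jacobson radical and M a nonzero finitely generated A-module. Then the dimension of M (the Krull
dimension of its support) is the least n for which there are elements x_1, …, x_n of r such that
M/(x_1 M + ⋯ + x_n M) has finite length. -/
theorem result (A : Type u) [CommRing A] [IsNoetherianRing A]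
    [Finite (MaximalSpectrum A)] (M : Type u) [AddCommGroup M] [Module A M] [Module.Finite A M] [Nontrivial M] :
    Module.supportDim A M =
      sInf {k : WithBot ℕ∞ | ∃ (n : ℕ) (x : Fin n → A), k = n ∧ (∀ i, x i ∈ Ring.jacobson A) ∧
        IsFiniteLength A (M ⧸ (Ideal.span (Set.range x) • (⊤ : Submodule A M)))} := by
  refine le_antisymm (le_sInf ?_) ?_
  · rintro _ ⟨n, x, rfl, hx, hfl⟩
    exact HSLib.supportDim_le_of_params n M x hx fun p hp h =>
      HSLib.isMaximal_of_mem_support_of_le (Module.length_ne_top_iff.2 hfl) hp h
  · obtain ⟨s, x, hx⟩ := Submodule.fg_iff_exists_fin_generating_family.1 (IsNoetherian.noetherian (Ring.jacobson A))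
    change Ideal.span (Set.range x) = Ring.jacobson A at hx
    have h1 := HSLib.supportDim_le_of_params s M x (fun i => hx ▸ Ideal.subset_span ⟨i, rfl⟩)
      fun p _ h => HSLib.isMaximal_of_jacobson_le p.asIdeal (hx ▸ h)
    obtain ⟨d, hd⟩ : ∃ d : ℕ, Module.supportDim A M = (d : WithBot ℕ∞) := by
      have h0 := Module.supportDim_ne_bot_of_nontrivial A M
      revert h0 h1
      generalize Module.supportDim A M = t
      intro h1 h0
      cases t using WithBot.recBotCoe with
      | bot => exact absurd rfl h0
      | coe a =>
        cases a using ENat.recTopCoe with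
        | top => exact absurd (WithBot.coe_le_coe.1 h1) (by simp)
        | coe b => exact ⟨b, rfl⟩
    rw [hd]
    obtain ⟨y, hy, hy'⟩ := HSLib.exists_params d M hd.le
    refine sInf_le ⟨d, y, rfl, hy, Module.length_ne_top_iff.1 ?_⟩
    have := HSLib.length_pow_ne_top hy' 1
    rwa [pow_one] at this

end Groth.Agent.S3406
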