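import Groth.Statements.S3408
import Groth.Agent.OpenDim.Flatness
import Groth.Agent.GenIrredLib.GeomRedReduced
import Groth.Agent.GenIrredLib.GeomRedGlobal
import Groth.Agent.S4963
import Groth.Agent.S2259
import Groth.Agent.ASp.OnePoint
import Mathlib
open CategoryTheory
-- import your own Groth.Agent.* helpers here

set_option autoImplicit false
open CategoryTheory AlgebraicGeometry
universe u
open EGA43

namespace Groth.Agent.S3408

/-- Let Y be locally Noetherian, f : X ⟶ Y locally of finite type, x a point of X and y = f x. Suppose f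
is universally open at the generic point of every irreducible component of X_y passing through x,
X_y is geometrically reduced at x, and the local ring O_{Y,y} is reduced. Then there is an open
neighbourhood U of x such that the restriction of f to U is flat and U is a reduced scheme. -/
theorem result {X Y : Scheme.{u}} [IsLocallyNoetherian Y] (f : X ⟶ Y)
    [LocallyOfFiniteType f] (x : X)
    (hopen : ∀ z : ↥(f.fiber (f.base x)), f.asFiber x ∈ closure {z} →
      (∀ z' : ↥(f.fiber (f.base x)), z ∈ closure {z'} → z' = z) →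
      EGA43.IsUnivOpenAt f ((f.fiberι (f.base x)).base z))
    (hred : FBase.IsGeomReducedAt (f.fiberToSpecResidueField (f.base x)) (f.asFiber x))
    (hy : _root_.IsReduced (Y.presheaf.stalk (f.base x))) :
    ∃ U : X.Opens, x ∈ U ∧ Flat (U.ι ≫ f) ∧ IsReduced (U : Scheme.{u}) := by
  classical
  haveI : IsLocallyNoetherian X := LocallyOfFiniteType.isLocallyNoetherian f
  haveI : LocallyOfFinitePresentation f := ASp.locallyOfFinitePresentation_of_noetherian f
  have hflat : (f.stalkMap x).hom.Flat := OpenDim.flat_of_univOpen_geomReduced f x (fun ξ hξ hspec hmax => by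
    obtain ⟨w, rfl⟩ : ξ ∈ Set.range (f.fiberι (f.base x)).base := by rw [f.range_fiberι]; exact hξ
    refine hopen w ?_ ?_
    · rw [← specializes_iff_mem_closure, ← (f.fiberι (f.base x)).isEmbedding.toIsInducing.specializes_iff,
        Scheme.Hom.fiberι_asFiber]
      exact hspec
    · intro z' hz'
      refine (f.fiberι (f.base x)).isEmbedding.injective (hmax _ ?_ ((specializes_iff_mem_closure.2 hz').map
        (f.fiberι (f.base x)).continuous))
      rw [hξ]
      have : (f.fiberι (f.base x)).base z' ∈ Set.range (f.fiberι (f.base x)).base := ⟨z', rfl⟩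
      rwa [f.range_fiberι] at this) hred hy
  haveI := hy
  obtain ⟨V, hxV, hV⟩ := S2259.result Y (f.base x)
  let W : X.Opens := ⟨_, S4963.result f⟩
  let U : X.Opens := W ⊓ f ⁻¹ᵁ V
  have hW : ∀ u : U.toScheme, U.ι u ∈ W := fun u => u.2.1
  haveI hFl : Flat (U.ι ≫ f) := Flat.of_stalkMap _ fun u => by
    rw [Scheme.Hom.stalkMap_comp]
    exact RingHom.Flat.comp (show (f.stalkMap (U.ι u)).hom.Flat from (hW u).1)
      ((Flat.iff_flat_stalkMap U.ι).1 inferInstance u)
  haveI : GeometricallyReduced (U.ι ≫ f) := GenIrredLib.geometricallyReduced_openImmersion f U.ι (by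
    rintro _ ⟨u, rfl⟩
    exact (hW u).2)
  haveI : ∀ u : U.toScheme, _root_.IsReduced (U.toScheme.presheaf.stalk u) := fun u => by
    haveI : _root_.IsReduced (Y.presheaf.stalk ((U.ι ≫ f) u)) := by
      have hv : f.base (U.ι u) ∈ V := u.2.2
      haveI := hV
      exact isReduced_of_injective (V.stalkIso ⟨_, hv⟩).symm.commRingCatIsoToRingEquiv.toRingHom
        (V.stalkIso ⟨_, hv⟩).symm.commRingCatIsoToRingEquiv.injective
    refine GenIrredLib.isReduced_stalk_of_mem_geomRedSet_of_flat (U.ι ≫ f) u inferInstance ?_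
    obtain ⟨w, hw⟩ : u ∈ Set.range ((U.ι ≫ f).fiberι ((U.ι ≫ f) u)) := by
      rw [(U.ι ≫ f).range_fiberι]; rfl
    rw [← hw, GenIrredLib.fiberι_mem_geomRedSet_iff]
    exact GenIrredLib.isGeomReducedAt_of_geometricallyReduced (k := Y.residueField ((U.ι ≫ f) u)) inferInstance w
  exact ⟨U, ⟨⟨hflat, hred⟩, hxV⟩, hFl, isReduced_of_isReduced_stalk _⟩

end Groth.Agent.S3408
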