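import Groth.Statements.S3409
import Groth.Agent.OpenDim.ReducedEquidim
import Groth.Agent.S3404
import Groth.Agent.GenIrredLib.GeomRedGlobal
import Mathlib
open CategoryTheory
open Groth.Agent.DimFormulaLib
-- import your own Groth.Agent.* helpers here

set_option autoImplicit false
open CategoryTheory AlgebraicGeometry
universe u
open EGA43

namespace Groth.Agent.S3409

/-- Let Y be locally Noetherian, f : X ⟶ Y locally of finite type, x a point of X and y = f x. Suppose f
is universally open at the generic point of every irreducible component of X_y through x, X_y is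
geometrically reduced at x, and all irreducible components of X_y passing through x have the same
dimension. Then f is equidimensional at x. -/
theorem result {X Y : Scheme.{u}} [IsLocallyNoetherian Y] (f : X ⟶ Y)
    [LocallyOfFiniteType f] (x : X)
    (hopen : ∀ z : ↥(f.fiber (f.base x)), f.asFiber x ∈ closure {z} →
      (∀ z' : ↥(f.fiber (f.base x)), z ∈ closure {z'} → z' = z) →
      EGA43.IsUnivOpenAt f ((f.fiberι (f.base x)).base z))
    (hred : FBase.IsGeomReducedAt (f.fiberToSpecResidueField (f.base x)) (f.asFiber x))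
    (heq : ∃ e : ℕ, ∀ Z ∈ irreducibleComponents (↥(f.fiber (f.base x)) : Type u), f.asFiber x ∈ Z →
      topologicalKrullDim (↥Z : Type u) = e) :
    EGA43.IsEquidimAt f x := by
  classical
  obtain ⟨e, heq⟩ := heq
  haveI : IsLocallyNoetherian X := LocallyOfFiniteType.isLocallyNoetherian f
  have hmaxe : ∀ ζ : X, f ζ = f x → ζ ⤳ x → OpenDim.MaxInFibre f ζ → OpenDim.trd f ζ = e :=
    OpenDim.forall_max_of_fibre f x (fun ζ => OpenDim.trd f ζ = e) fun z hzx hzmax => by
      have hmin : ∀ w, w ⤳ z → w = z := fun w hw => hzmax w (specializes_iff_mem_closure.1 hw)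
      have h := heq _ (closure_mem_irreducibleComponents hmin) hzx
      rw [dim_fibre_component, height_in_fibre f _ z (OpenDim.trd f ((f.fiberι (f.base x)).base z))
        (OpenDim.resTrdegAt_eq_trd f _)] at h
      exact_mod_cast h
  obtain ⟨U, hxU, hUo, hUgr⟩ := GenIrredLib.exists_universallyOpen_geomRed_nhd f x
    (OpenDim.forall_max_of_fibre f x (fun ζ => EGA43.IsUnivOpenAt f ζ) hopen) hred
  let g := U.ι ≫ f
  haveI : UniversallyOpen g := hUo
  haveI : GeometricallyReduced g := GenIrredLib.geometricallyReduced_openImmersion f U.ι (by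
    rintro _ ⟨u, rfl⟩
    exact hUgr _ u.2)
  have hgr : ∀ u : U.toScheme, u ∈ GenIrredLib.geomRedSet g := fun u => by
    obtain ⟨w, hw⟩ : u ∈ Set.range (g.fiberι (g u)) := by rw [g.range_fiberι]; rfl
    rw [← hw, GenIrredLib.fiberι_mem_geomRedSet_iff]
    exact GenIrredLib.isGeomReducedAt_of_geometricallyReduced (k := Y.residueField (g u)) inferInstance w
  let x₀ : U.toScheme := ⟨x, hxU⟩
  have hfib : FlatMor.fibreDimAt f x = (e : WithBot ℕ∞) := by
    obtain ⟨ζ, hζf, hζx, hζmax, hζ⟩ := OpenDim.exists_maxInFibre_fibreDimAt f x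
    rw [hζ, hmaxe ζ hζf hζx hζmax]
  have he : ∀ w : U.toScheme, g w = g x₀ → w ⤳ x₀ → FlatMor.fibreDimAt g w = (e : WithBot ℕ∞) := by
    intro w hw hwx
    obtain ⟨ζ, hζf, hζw, hζmax, hζ⟩ := OpenDim.exists_maxInFibre_fibreDimAt g w
    rw [hζ, OpenDim.trd_ι, hmaxe (U.ι ζ) (hζf.trans hw) ((hζw.trans hwx).map U.ι.continuous) fun z hz hzs => ?_]
    have hzU : z ∈ U := hzs.mem_open U.2 ζ.2
    exact congrArg U.ι.base (hζmax ⟨z, hzU⟩ hz (U.ι.isOpenEmbedding.isInducing.specializes_iff.1 hzs))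
  refine OpenDim.isEquidimAt_of_generic f x e (fun ξ hξ hξx => ?_) hfib.le
  have hξU : ξ ∈ U := hξx.mem_open U.2 hxU
  let ξ₀ : U.toScheme := ⟨ξ, hξU⟩
  have hξx₀ : ξ₀ ⤳ x₀ := U.ι.isOpenEmbedding.isInducing.specializes_iff.1 hξx
  have hξ₀ : OpenDim.IsMaxPt ξ₀ := fun z hz => Subtype.ext (hξ _ (hz.map U.ι.continuous))
  refine ⟨fun y' hy' => ?_, ?_⟩
  · obtain ⟨z, hz, hzy⟩ := (S3404.result g ξ₀).1
      (fun V hV => g.isOpenMap.image_mem_nhds hV) y' hy'
    rw [← hzy, hξ₀ z hz]
    rfl
  · have h1 : e ≤ OpenDim.trd g ξ₀ := OpenDim.le_trd_of_isMaxPt g hgr hξ₀ hξx₀ e he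
    rw [OpenDim.trd_ι] at h1
    obtain ⟨w, -, hwx, hwf, hle⟩ := OpenDim.exists_trd_ge f hξx
    have h2 := OpenDim.trd_le_fibreDimAt f hwf hwx
    rw [hfib] at h2
    have h3 : OpenDim.trd f w ≤ e := by exact_mod_cast h2
    exact le_antisymm (hle.trans h3) h1

end Groth.Agent.S3409
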