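import Groth.Statements.S3410
import Groth.Agent.OpenDim.ReducedUnibranch
import Groth.Agent.GenIrredLib.GeomRedGlobal
import Groth.Agent.S3408
import Mathlib
open CategoryTheory
open CategoryTheory.Limits
open Groth.Agent
-- import your own Groth.Agent.* helpers here

set_option autoImplicit false
open CategoryTheory AlgebraicGeometry
universe u
open EGA43

namespace Groth.Agent.S3410

/-- Let Y be locally Noetherian, f : X ⟶ Y locally of finite type, x a point of X and y = f x. Suppose f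
is universally open at the generic point of every irreducible component of X_y through x, X_y is
geometrically pointwise integral at x, and O_{Y,y} is geometrically unibranch. Then x lies on
exactly one irreducible component of X. If moreover O_{Y,y} is a domain, then O_{X,x} is a domain
and O_{Y,y} ⟶ O_{X,x} is flat. -/
theorem result {X Y : Scheme.{u}} [IsLocallyNoetherian Y]
    (f : X ⟶ Y) [LocallyOfFiniteType f] (x : X)
    (hopen : ∀ z : ↥(f.fiber (f.base x)), f.asFiber x ∈ closure {z} →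
      (∀ z' : ↥(f.fiber (f.base x)), z ∈ closure {z'} → z' = z) →
      EGA43.IsUnivOpenAt f ((f.fiberι (f.base x)).base z))
    (hint : FBase.IsGeomPtIntegralAt (f.fiberToSpecResidueField (f.base x)) (f.asFiber x))
    (hY : CAlg2.IsGeomUnibranch (Y.presheaf.stalk (f.base x))) :
    (∃! Z : Set X, Z ∈ irreducibleComponents (X : Type u) ∧ x ∈ Z) ∧
      (IsDomain (Y.presheaf.stalk (f.base x)) → IsDomain (X.presheaf.stalk x) ∧ (f.stalkMap x).hom.Flat) := by
  classical
  haveI : IsLocallyNoetherian X := LocallyOfFiniteType.isLocallyNoetherian f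
  let y := f.base x
  have hred : FBase.IsGeomReducedAt (f.fiberToSpecResidueField (f.base x)) (f.asFiber x) := fun K _ _ x' hx' => by
    haveI := hint K x' hx'
    infer_instance
  have hdom : IsDomain ((f.fiber (f.base x)).presheaf.stalk (f.asFiber x)) := by
    let k := IsLocalRing.ResidueField (Y.presheaf.stalk (f.base x))
    let h := f.fiberToSpecResidueField (f.base x)
    haveI : IsIso (Spec.map (CommRingCat.ofHom (algebraMap k k))) := by
      rw [show Spec.map (CommRingCat.ofHom (algebraMap k k)) = 𝟙 _ from Spec.map_id (CommRingCat.of k)]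
      infer_instance
    let π := FBase.bcπ h k
    haveI : IsIso π := @pullback_fst_iso_of_right_iso _ _ _ _ _ h _ (by
      show IsIso (Spec.map (CommRingCat.ofHom (algebraMap k k)))
      infer_instance)
    obtain ⟨x', hx'⟩ := π.surjective (f.asFiber x)
    haveI := hint k x' hx'
    rw [← hx']
    exact (asIso (π.stalkMap x')).commRingCatIsoToRingEquiv.injective.isDomain
      (asIso (π.stalkMap x')).commRingCatIsoToRingEquiv.toRingHom
  obtain ⟨w, hfw, hwx, hwmax⟩ := OpenDim.exists_max_in_fibre f x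
  have huniq : ∀ ζ : X, f ζ = f x → ζ ⤳ x → OpenDim.MaxInFibre f ζ → ζ = w := by
    let a := f.asFiber x
    haveI := hdom
    let b := (f.fiber (f.base x)).fromSpecStalk a (⟨⊥, Ideal.isPrime_bot⟩ : PrimeSpectrum _)
    have hb : ∀ ζ : X, f ζ = f x → ζ ⤳ x → OpenDim.MaxInFibre f ζ → ζ = f.fiberι _ b := by
      intro ζ hζ hζx hζmax
      obtain ⟨c, rfl⟩ : ζ ∈ Set.range (f.fiberι (f.base x)).base := by rw [f.range_fiberι]; exact hζ
      have hca : c ⤳ a := (f.fiberι (f.base x)).isEmbedding.toIsInducing.specializes_iff.1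
        (by rw [Scheme.Hom.fiberι_asFiber]; exact hζx)
      obtain ⟨P, rfl⟩ : c ∈ Set.range ((f.fiber (f.base x)).fromSpecStalk a) := by
        rw [Scheme.range_fromSpecStalk]; exact hca
      refine (hζmax _ ?_ ?_).symm
      · rw [hζ]
        have : (f.fiberι (f.base x)).base b ∈ Set.range (f.fiberι (f.base x)).base := ⟨b, rfl⟩
        rwa [f.range_fiberι] at this
      · exact (((PrimeSpectrum.le_iff_specializes (⟨⊥, Ideal.isPrime_bot⟩ : PrimeSpectrum _) P).1
          (show (⊥ : Ideal _) ≤ P.asIdeal from bot_le)).map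
          ((f.fiber (f.base x)).fromSpecStalk a).continuous).map (f.fiberι (f.base x)).continuous
    intro ζ h1 h2 h3
    rw [hb ζ h1 h2 h3, hb w hfw hwx hwmax]
  obtain ⟨U, hxU, hUo, hUgr⟩ := GenIrredLib.exists_universallyOpen_geomRed_nhd f x
    (OpenDim.forall_max_of_fibre f x (fun ζ => EGA43.IsUnivOpenAt f ζ) hopen) hred
  let g := U.ι ≫ f
  haveI : UniversallyOpen g := hUo
  haveI : GeometricallyReduced g := GenIrredLib.geometricallyReduced_openImmersion f U.ι (by
    rintro _ ⟨u, rfl⟩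
    exact hUgr _ u.2)
  have hgr : ∀ u : U.toScheme, u ∈ GenIrredLib.geomRedSet g := fun u => by
    obtain ⟨v, hv⟩ : u ∈ Set.range (g.fiberι (g u)) := by rw [g.range_fiberι]; rfl
    rw [← hv, GenIrredLib.fiberι_mem_geomRedSet_iff]
    exact GenIrredLib.isGeomReducedAt_of_geometricallyReduced (k := Y.residueField (g u)) inferInstance v
  have hmax_iff : ∀ z : U.toScheme, ∀ z' : X, z' ⤳ U.ι z → ∃ z'' : U.toScheme, z'' ⤳ z ∧ U.ι z'' = z' := by
    intro z z' hz
    exact ⟨⟨z', hz.mem_open U.2 z.2⟩, U.ι.isOpenEmbedding.isInducing.specializes_iff.1 hz, rfl⟩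
  have hone : ∀ ξ₁ ξ₂ : X, ξ₁ ⤳ x → ξ₂ ⤳ x → OpenDim.IsMaxPt ξ₁ → OpenDim.IsMaxPt ξ₂ → ξ₁ = ξ₂ := by
    intro ξ₁ ξ₂ h₁ h₂ hm₁ hm₂
    obtain ⟨x₀, rfl⟩ : ∃ x₀ : U.toScheme, U.ι x₀ = x := ⟨⟨x, hxU⟩, rfl⟩
    obtain ⟨z₁, hz₁, rfl⟩ := hmax_iff x₀ ξ₁ h₁
    obtain ⟨z₂, hz₂, rfl⟩ := hmax_iff x₀ ξ₂ h₂
    obtain ⟨w₀, hw₀, rfl⟩ := hmax_iff x₀ w hwx
    refine congrArg U.ι.base (OpenDim.eq_of_isMaxPt_of_geomUnibranch g hgr hY hw₀ hfw
      (fun z hz hzs => U.ι.isOpenEmbedding.injective (hwmax _ hz (hzs.map U.ι.continuous)))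
      (fun ζ hζ hζx hζmax => U.ι.isOpenEmbedding.injective (huniq _ hζ (hζx.map U.ι.continuous) fun z hz hzs => ?_))
      hz₁ hz₂ (fun z hz => U.ι.isOpenEmbedding.injective (hm₁ _ (hz.map U.ι.continuous)))
      (fun z hz => U.ι.isOpenEmbedding.injective (hm₂ _ (hz.map U.ι.continuous))))
    obtain ⟨z', hz', rfl⟩ := hmax_iff ζ z hzs
    exact congrArg U.ι.base (hζmax z' hz hz')
  refine ⟨⟨irreducibleComponent x, ⟨irreducibleComponent_mem_irreducibleComponents x, mem_irreducibleComponent⟩, ?_⟩,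
    fun hD => ?_⟩
  · rintro Z ⟨hZ, hxZ⟩
    obtain ⟨ξ, hξ, hξmax, hξgen⟩ := OpenDim.exists_component_generic hZ
    obtain ⟨ξ', hξ', hξ'max, hξ'gen⟩ := OpenDim.exists_component_generic (irreducibleComponent_mem_irreducibleComponents x)
    rw [← hξ, ← hξ', hone ξ ξ' (hξgen _ hxZ) (hξ'gen _ mem_irreducibleComponent) hξmax hξ'max]
  haveI := hD
  have hyr : _root_.IsReduced (Y.presheaf.stalk (f.base x)) := inferInstance
  refine ⟨?_, OpenDim.flat_of_univOpen_geomReduced f x
    (OpenDim.forall_max_of_fibre f x (fun ζ => EGA43.IsUnivOpenAt f ζ) hopen) hred hyr⟩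
  obtain ⟨V, hxV, -, hV⟩ := S3408.result f x hopen hred hyr
  haveI := hV
  haveI : _root_.IsReduced (X.presheaf.stalk x) :=
    isReduced_of_injective (V.stalkIso ⟨x, hxV⟩).symm.commRingCatIsoToRingEquiv.toRingHom
      (V.stalkIso ⟨x, hxV⟩).symm.commRingCatIsoToRingEquiv.injective
  let φ := X.fromSpecStalk x
  have hmin : ∀ P : PrimeSpectrum (X.presheaf.stalk x), P.asIdeal ∈ minimalPrimes (X.presheaf.stalk x) →
      OpenDim.IsMaxPt (φ P) ∧ φ P ⤳ x := by
    intro P hP
    have hsp : φ P ⤳ x := by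
      have : φ P ∈ Set.range φ := ⟨_, rfl⟩
      rwa [Scheme.range_fromSpecStalk] at this
    refine ⟨fun z hz => ?_, hsp⟩
    obtain ⟨Q, rfl⟩ : z ∈ Set.range φ := by rw [Scheme.range_fromSpecStalk]; exact hz.trans hsp
    have hle : Q.asIdeal ≤ P.asIdeal := (PrimeSpectrum.le_iff_specializes Q P).2
      (φ.isEmbedding.toIsInducing.specializes_iff.1 hz)
    rw [show Q = P from PrimeSpectrum.ext (le_antisymm hle (hP.2 ⟨Q.isPrime, bot_le⟩ hle))]
  obtain ⟨P, hP, -⟩ := Ideal.exists_minimalPrimes_le (bot_le : (⊥ : Ideal (X.presheaf.stalk x)) ≤ IsLocalRing.maximalIdeal _)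
  have hall : ∀ Q ∈ minimalPrimes (X.presheaf.stalk x), Q = P := by
    intro Q hQ
    obtain ⟨hQm, hQx⟩ := hmin ⟨Q, hQ.1.1⟩ hQ
    obtain ⟨hPm, hPx⟩ := hmin ⟨P, hP.1.1⟩ hP
    exact congrArg PrimeSpectrum.asIdeal (φ.isEmbedding.injective (hone _ _ hQx hPx hQm hPm))
  have hbot : P = ⊥ := by
    rw [eq_bot_iff, show (⊥ : Ideal (X.presheaf.stalk x)) = nilradical _ from (nilradical_eq_bot_iff.2 inferInstance).symm, nilradical, ← Ideal.sInf_minimalPrimes]
    exact le_sInf fun Q hQ => (hall Q hQ).ge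
  haveI : (⊥ : Ideal (X.presheaf.stalk x)).IsPrime := hbot ▸ hP.1.1
  exact IsDomain.of_bot_isPrime _

end Groth.Agent.S3410
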