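import Groth.Statements.S3413
import Groth.Agent.GenIrredLib.QFCount
import Groth.Agent.OpenDim.Split
import Groth.Agent.ChevalleyOpen.Comps
import Groth.Agent.SteinConn.Semicont
import Groth.Agent.Unibranch.Open
-- import your own Groth.Agent.* helpers here

set_option autoImplicit false
open CategoryTheory AlgebraicGeometry
universe u
open EGA43

namespace Groth.Agent.S3413

open CategoryTheory CategoryTheory.Limits AlgebraicGeometry Topology Groth.Agent IsLocalRing

set_option backward.isDefEq.respectTransparency false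


/-- Let Y be locally Noetherian with all local rings geometrically unibranch, f : X ⟶ Y separated,
quasi-finite and universally open, and n(z) the geometric number of points of the fibre over z. If n
is locally constant on Y, then the irreducible components of X are pairwise disjoint. -/
theorem result {X Y : Scheme.{u}} [IsLocallyNoetherian Y]
    (hY : ∀ y : Y, CAlg2.IsGeomUnibranch (Y.presheaf.stalk y)) (f : X ⟶ Y)
    [IsSeparated f] [LocallyQuasiFinite f] [LocallyOfFiniteType f] [QuasiCompact f] [UniversallyOpen f]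
    (hn : IsLocallyConstant (fun z : Y => MoreMor.nGeomConnComp f z)) :
    ∀ Z ∈ irreducibleComponents (X : Type u), ∀ Z' ∈ irreducibleComponents (X : Type u), Z ≠ Z' → Disjoint Z Z' := by
  intro Z hZ Z' hZ' hne
  rw [Set.disjoint_left]
  intro x hxZ hxZ'
  obtain ⟨ζ, hζ⟩ := QuasiSober.sober hZ.1 (isClosed_of_mem_irreducibleComponents Z hZ)
  obtain ⟨ζ', hζ'⟩ := QuasiSober.sober hZ'.1 (isClosed_of_mem_irreducibleComponents Z' hZ')
  have hmaxZ := Unibranch.max_of_component hZ hζ
  have hmaxZ' := Unibranch.max_of_component hZ' hζ'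
  have huo : ∀ a, EGA43.IsUnivOpenAt f a := fun a Y' g a' _ => by
    haveI : UniversallyOpen (pullback.snd f g) := MorphismProperty.pullback_snd _ _ ‹_›
    exact fun s hs => (pullback.snd f g).isOpenMap.image_mem_nhds hs
  -- maximal points go to the maximal point under `f x`
  have hfmax : ∀ a : X, (∀ a', a' ⤳ a → a' = a) → ∀ s, s ⤳ f a → s = f a := fun a ha s hs => by
    obtain ⟨b, hb, hba⟩ := SteinConn.exists_specializes_of_isOpenAt f hs (UnivOpenAtLib.isOpenAt_of_isPullback
      (huo a) (IsPullback.id_horiz f).flip.flip a rfl)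
    rw [← hb, ha b hba]
  let y := f x
  let η := f ζ
  have hηy : η ⤳ y := (hζ.specializes hxZ).map f.continuous
  have hη' : f ζ' = η := by
    obtain ⟨hu, -⟩ := hY y
    have h1 : f ζ' ⤳ y := (hζ'.specializes hxZ').map f.continuous
    haveI : IsDomain (CAlg2.red (Y.presheaf.stalk y)) := hu.1
    let g₀ : Y := Y.fromSpecStalk y ⟨nilradical (Y.presheaf.stalk y), (Ideal.Quotient.isDomain_iff_prime _).1 hu.1⟩
    have hg : ∀ s : Y, s ⤳ y → g₀ ⤳ s := fun s hs => by
      obtain ⟨q, rfl⟩ : s ∈ Set.range (Y.fromSpecStalk y) := (Scheme.range_fromSpecStalk (x := y)).ge hs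
      exact Specializes.map ((PrimeSpectrum.le_iff_specializes _ _).1 (nilradical_le_prime q.asIdeal))
        (Y.fromSpecStalk y).continuous
    exact (hfmax ζ' hmaxZ' g₀ (hg _ h1)).symm.trans (hfmax ζ hmaxZ g₀ (hg _ hηy))
  have hn_eq : MoreMor.nGeomConnComp f η = MoreMor.nGeomConnComp f y :=
    hηy.mem_open (hn.isOpen_fiber (MoreMor.nGeomConnComp f y)) rfl
  have hxη : y ≠ η := fun h => by
    have h1 : ∀ a, a ⤳ x → f a = f x → a = x := fun a ha he => by
      haveI := isDiscrete_iff_discreteTopology.mp (f.isDiscrete_preimage_singleton (f x))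
      exact congrArg Subtype.val (specializes_iff_eq.mp
        ((IsInducing.subtypeVal).specializes_iff (x := (⟨a, he⟩ : ↥(f ⁻¹' {f x}))) (y := ⟨x, rfl⟩) |>.mp ha))
    exact hne (hζ.def.symm.trans ((congrArg (fun c => closure {c})
      ((h1 ζ (hζ.specializes hxZ) h.symm).trans (h1 ζ' (hζ'.specializes hxZ') (hη'.trans h.symm)).symm)).trans hζ'.def))
  obtain ⟨Ω, _, _, V, g, hgc, hgη⟩ := GenIrredLib.exists_valuation_hom hηy
  have hV : maximalIdeal V ≠ ⊥ := fun h => hxη (by
    rw [← hgc, ← hgη]
    exact congrArg g (PrimeSpectrum.ext h))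
  let f' := pullback.snd f g
  let π := pullback.fst f g
  haveI : LocallyQuasiFinite f' := MorphismProperty.pullback_snd _ _ inferInstance
  haveI : LocallyOfFiniteType f' := MorphismProperty.pullback_snd _ _ inferInstance
  have hfac : f'.toNormalization ≫ f'.fromNormalization = f' := f'.toNormalization_fromNormalization
  haveI : LocallyQuasiFinite (f'.toNormalization ≫ f'.fromNormalization) := by rw [hfac]; infer_instance
  haveI : QuasiCompact (f'.toNormalization ≫ f'.fromNormalization) := by rw [hfac]; infer_instance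
  haveI := (f'.finite_preimage_singleton (closedPoint V)).to_subtype
  haveI := (f'.finite_preimage_singleton (GenIrredLib.valGeneric V)).to_subtype
  have hgen : ∀ a : ↑(f' ⁻¹' {closedPoint V}), ∃ b : ↑(f' ⁻¹' {GenIrredLib.valGeneric V}), b.1 ⤳ a.1 := fun a => by
    obtain ⟨b, hb, hba⟩ := SteinConn.exists_specializes_of_isOpenAt f' (η := GenIrredLib.valGeneric V)
      (by rw [show f' a.1 = closedPoint V from a.2]; exact IsLocalRing.specializes_closedPoint _)
      (UnivOpenAtLib.isOpenAt_of_isPullback (huo (π a.1)) (IsPullback.of_hasPullback f g) a.1 rfl)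
    exact ⟨⟨b, hb⟩, hba⟩
  choose F hF using hgen
  have huniq : ∀ (b : ↑(f' ⁻¹' {GenIrredLib.valGeneric V})) (a a' : ↑(f' ⁻¹' {closedPoint V})),
      b.1 ⤳ a.1 → b.1 ⤳ a'.1 → a = a' := fun b a a' ha ha' => by
    refine Subtype.ext (f'.toNormalization.isOpenEmbedding.injective ?_)
    refine GenIrredLib.eq_of_specializes_integral V f'.fromNormalization ?_ (ha.map f'.toNormalization.continuous)
      (ha'.map f'.toNormalization.continuous) ?_
    · rw [← Scheme.Hom.comp_apply, hfac]; exact b.2
    · rw [← Scheme.Hom.comp_apply, ← Scheme.Hom.comp_apply, hfac]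
      exact a.2.trans a'.2.symm
  have hFbij : Function.Bijective F := by
    have hinj : Function.Injective F := fun a a' h => huniq (F a) a a' (hF a) (h ▸ hF a')
    refine hinj.bijective_of_nat_card_le (le_of_eq ?_)
    have e1 := congrArg Prod.snd (GenIrredLib.nGeom_baseChange f f' π g (IsPullback.of_hasPullback f g) (closedPoint V))
    have e2 := congrArg Prod.snd (GenIrredLib.nGeom_baseChange f f' π g (IsPullback.of_hasPullback f g) (GenIrredLib.valGeneric V))
    simp only [hgc, hgη] at e1 e2
    rw [GenIrredLib.nGeomConnComp_valClosed V hV f'] at e1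
    rw [GenIrredLib.nGeomConnComp_valGeneric V f', hn_eq, ← e1, ENat.card_eq_coe_natCard,
      ENat.card_eq_coe_natCard, Nat.cast_inj] at e2
    exact e2
  obtain ⟨x', hx'π, hx'c⟩ := Scheme.Pullback.exists_preimage_pullback (f := f) (g := g) x (closedPoint V) (by rw [hgc])
  -- each of the two components gives a generisation of `x'`
  have hcomp : ∀ (C : Set X) (c : X), C ∈ irreducibleComponents X → IsGenericPoint c C → x ∈ C → f c = η →
      ∃ b : ↑(f' ⁻¹' {GenIrredLib.valGeneric V}), b.1 ⤳ x' ∧ π b.1 = c := by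
    intro C c hC hc hxC hcη
    let J := Scheme.IdealSheafData.vanishingIdeal ⟨C, isClosed_of_mem_irreducibleComponents C hC⟩
    let i := J.subschemeι
    have hri : Set.range i = C := by
      rw [Scheme.IdealSheafData.range_subschemeι]
      exact Scheme.IdealSheafData.coe_support_vanishingIdeal _
    obtain ⟨x₁, hx₁⟩ : x ∈ Set.range i := hri.ge hxC
    haveI : LocallyQuasiFinite (i ≫ f) := inferInstance
    have hopen : EGA43.IsUnivOpenAt (i ≫ f) x₁ := by
      refine OpenDim.univOpenAt_of_quasiFinite (i ≫ f) x₁ (ChevalleyOpen.locFinComp_of_isLocallyNoetherian Y)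
        (hY _) fun z _ hz s hs => ?_
      obtain ⟨z₀, hz₀⟩ : c ∈ Set.range i := hri.ge hc.mem
      have h1 : i z₀ ⤳ i z := hz₀ ▸ hc.specializes (hri.le ⟨z, rfl⟩)
      have h2 : z₀ = z := hz z₀ ((i.isClosedEmbedding.isInducing.specializes_iff).1 h1)
      rw [← h2, Scheme.Hom.comp_apply, hz₀] at hs ⊢
      exact hfmax c (Unibranch.max_of_component hC hc) s hs
    obtain ⟨p, hp1, hp2⟩ := Scheme.Pullback.exists_preimage_pullback (f := i) (g := π) x₁ x' (by rw [hx₁, hx'π])
    have hsq : IsPullback (pullback.fst i π) (pullback.snd i π ≫ f') (i ≫ f) g :=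
      (IsPullback.of_hasPullback i π).paste_vert (IsPullback.of_hasPullback f g)
    haveI : LocallyOfFiniteType (pullback.snd i π ≫ f') := MorphismProperty.of_isPullback hsq inferInstance
    obtain ⟨b, hb, hbp⟩ := SteinConn.exists_specializes_of_isOpenAt (pullback.snd i π ≫ f')
      (η := GenIrredLib.valGeneric V) (x := p)
      (by rw [Scheme.Hom.comp_apply, hp2, show f' x' = closedPoint V from hx'c]; exact IsLocalRing.specializes_closedPoint _)
      (UnivOpenAtLib.isOpenAt_of_isPullback hopen hsq p hp1)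
    refine ⟨⟨pullback.snd i π b, (Scheme.Hom.comp_apply (pullback.snd i π) f' b).symm.trans hb⟩,
      hp2 ▸ hbp.map (pullback.snd i π).continuous, ?_⟩
    have hb1 : π (pullback.snd i π b) ∈ C := by
      rw [← Scheme.Hom.comp_apply, ← pullback.condition, Scheme.Hom.comp_apply]
      exact hri.le ⟨_, rfl⟩
    have hb2 : f (π (pullback.snd i π b)) = η := by
      rw [← Scheme.Hom.comp_apply, pullback.condition, Scheme.Hom.comp_apply, ← hgη]
      exact congrArg g ((Scheme.Hom.comp_apply (pullback.snd i π) f' b).symm.trans hb)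
    haveI := isDiscrete_iff_discreteTopology.mp (f.isDiscrete_preimage_singleton η)
    exact congrArg Subtype.val (specializes_iff_eq.mp
      ((IsInducing.subtypeVal).specializes_iff (x := (⟨c, hcη⟩ : ↥(f ⁻¹' {η})))
        (y := ⟨π (pullback.snd i π b), hb2⟩) |>.mp (hc.specializes hb1))).symm
  obtain ⟨b, hb, hbc⟩ := hcomp Z ζ hZ hζ hxZ rfl
  obtain ⟨b', hb', hbc'⟩ := hcomp Z' ζ' hZ' hζ' hxZ' hη'
  obtain ⟨a, rfl⟩ := hFbij.2 b
  obtain ⟨a', rfl⟩ := hFbij.2 b'
  have ha := huniq (F a) a ⟨x', hx'c⟩ (hF a) hb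
  have ha' := huniq (F a') a' ⟨x', hx'c⟩ (hF a') hb'
  rw [ha] at hbc
  rw [ha', hbc] at hbc'
  exact hne (hζ.def.symm.trans ((congrArg (fun c => closure {c}) hbc').trans hζ'.def))

end Groth.Agent.S3413
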