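import Groth.Statements.S3417
import Groth.Agent.OpenDim.DVRFlat
import Groth.Agent.DVRFamilyLib.Idem
-- import your own Groth.Agent.* helpers here

set_option autoImplicit false
open CategoryTheory AlgebraicGeometry
universe u
open EGA43

namespace Groth.Agent.S3417

/-- Let A be a discrete valuation ring, Y = Spec A with closed point a and generic point b, and f : X ⟶
Y a morphism locally of finite type which is open (as a map of spaces). If X is connected and the
fibre over a is a reduced scheme, then the fibre over b is connected. (Stated with 'preconnected',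
which also covers the empty case; a is the closed point and b the point specialising to every
point.) -/
theorem result (A : Type u) [CommRing A] [IsDomain A]
    [IsDiscreteValuationRing A] {X : Scheme.{u}} (f : X ⟶ Spec (CommRingCat.of A)) [LocallyOfFiniteType f]
    (hopen : IsOpenMap f.base) [PreconnectedSpace X]
    (a b : ↥(Spec (CommRingCat.of A))) (ha : IsClosed ({a} : Set ↥(Spec (CommRingCat.of A))))
    (hb : ∀ z : ↥(Spec (CommRingCat.of A)), b ⤳ z)
    (hred : AlgebraicGeometry.IsReduced (f.fiber a)) :
    PreconnectedSpace ↥(f.fiber b) := by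
  obtain rfl : b = (⟨⊥, Ideal.isPrime_bot⟩ : PrimeSpectrum A) :=
    ((hb _).antisymm ((PrimeSpectrum.le_iff_specializes _ b).1 (show (⊥ : Ideal A) ≤ _ from bot_le))).eq
  obtain rfl : a = IsLocalRing.closedPoint A :=
    (ha.closure_eq.le (specializes_iff_mem_closure.1 (IsLocalRing.specializes_closedPoint a))).symm
  let η : ↥(Spec (CommRingCat.of A)) := (⟨⊥, Ideal.isPrime_bot⟩ : PrimeSpectrum A)
  rcases isEmpty_or_nonempty X with hX | hX
  · haveI : IsEmpty ↥(f.fiber η) := ⟨fun z => hX.elim (f.fiberι η z)⟩
    exact ⟨Set.subsingleton_univ_iff.2 inferInstance |>.isPreconnected⟩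
  haveI : ConnectedSpace X := ⟨hX⟩
  haveI : Flat f := by
    rw [Flat.iff_flat_stalkMap]
    intro x
    by_cases hx : f.base x = IsLocalRing.closedPoint A
    · obtain ⟨v, hv⟩ : x ∈ Set.range (f.fiberι (f.base x)) := by rw [f.range_fiberι]; rfl
      have hr : _root_.IsReduced ((f.fiber (f.base x)).presheaf.stalk v) := by
        haveI : IsReduced (f.fiber (f.base x)) := by rw [hx]; exact hred
        infer_instance
      have key := Groth.Agent.OpenDim.flat_of_open_reduced f x hx
        (fun ζ _ _ _ U hU => hopen.image_mem_nhds hU) v hv hr
      revert key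
      rw [hv]
      exact id
    · have h0 : (f.base x).asIdeal = ⊥ := by
        by_contra h0
        haveI := IsPrime.to_maximal_ideal h0
        exact hx (PrimeSpectrum.ext (IsLocalRing.eq_maximalIdeal this))
      letI : Algebra A ((Spec (CommRingCat.of A)).presheaf.stalk (f.base x)) := StructureSheaf.stalkAlgebra A (f.base x)
      haveI : IsLocalization.AtPrime ((Spec (CommRingCat.of A)).presheaf.stalk (f.base x)) (f.base x).asIdeal :=
        StructureSheaf.IsLocalization.to_stalk A (f.base x)
      haveI : IsFractionRing A ((Spec (CommRingCat.of A)).presheaf.stalk (f.base x)) := by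
        have h : (f.base x).asIdeal.primeCompl = nonZeroDivisors A := by
          ext r
          show r ∉ (f.base x).asIdeal ↔ _
          rw [h0, Ideal.mem_bot, mem_nonZeroDivisors_iff_ne_zero]
        show IsLocalization _ _
        rw [← h]
        infer_instance
      letI : Field ((Spec (CommRingCat.of A)).presheaf.stalk (f.base x)) := IsFractionRing.toField A
      letI : Algebra ((Spec (CommRingCat.of A)).presheaf.stalk (f.base x)) (X.presheaf.stalk x) := (f.stalkMap x).hom.toAlgebra
      exact (inferInstance : Module.Flat ((Spec (CommRingCat.of A)).presheaf.stalk (f.base x)) (X.presheaf.stalk x))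
  have h := Groth.Agent.DVRFamilyLib.isConnected_generic f hred
  haveI : ConnectedSpace ↥(f.base ⁻¹' {η}) := isConnected_iff_connectedSpace.1 h
  exact (f.fiberHomeo η).symm.surjective.connectedSpace (f.fiberHomeo η).symm.continuous |>.toPreconnectedSpace

end Groth.Agent.S3417
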