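import Groth.Statements.S4633
import Mathlib
import Groth.Agent.QuasiFlatLib.Basic
import Groth.Agent.GenPtLib.Basic
import Groth.Agent.SuppLib.Basic
import Groth.Agent.PullbackMod.Flat
import Groth.Agent.PullbackMod.Props

set_option backward.isDefEq.respectTransparency false
set_option autoImplicit false
open CategoryTheory AlgebraicGeometry
universe u
open FDesc

namespace Groth.Agent.S4633

theorem isQuasiFlat_fst {X Y Y' : Scheme.{u}} (f : X ⟶ Y) (g : Y' ⟶ Y) (hg : FDesc.IsQuasiFlat g) :
    FDesc.IsQuasiFlat (Limits.pullback.fst f g) := by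
  obtain ⟨M, hM, hflat, hnt⟩ := hg
  haveI : Coh.IsQCoh M := hM.1
  refine ⟨(Scheme.Modules.pullback (Limits.pullback.snd f g)).obj M, Groth.Agent.PullbackMod.isCoh_pullback _ M hM,
    fun x => Groth.Agent.PullbackMod.isFlatOverAt_baseChange (IsPullback.of_hasPullback f g).flip M x (hflat _),
    fun x => ?_⟩
  have hmem : x ∈ Limits.pullback.snd f g ⁻¹' CohB1.support M := not_subsingleton_iff_nontrivial.2 (hnt _)
  rw [← Groth.Agent.SuppLib.support_pullback _ M hM.2] at hmem
  exact not_subsingleton_iff_nontrivial.1 hmem


open CategoryTheory.Limits in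
/-- Let f : X → Y be a morphism such that every irreducible component of X dominates an irreducible
component of Y (the closure of its image under f is an irreducible component of Y), and let g : Y' →
Y be quasi-flat (for instance flat). Then every irreducible component of X ×_Y Y' dominates an
irreducible component of Y'. -/
theorem result {X Y Y' : Scheme.{u}} (f : X ⟶ Y) (g : Y' ⟶ Y)
    (hf : ∀ Z ∈ irreducibleComponents ↥X, closure (⇑f '' Z) ∈ irreducibleComponents ↥Y)
    (hg : FDesc.IsQuasiFlat g) (Z' : Set ↥(pullback f g)) (hZ' : Z' ∈ irreducibleComponents ↥(pullback f g)) :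
    closure (⇑(pullback.snd f g) '' Z') ∈ irreducibleComponents ↥Y' := by
  obtain ⟨ξ', hξ'⟩ : ∃ z, IsGenericPoint z Z' :=
    QuasiSober.sober hZ'.1 (isClosed_of_mem_irreducibleComponents Z' hZ')
  have hmax' : ∀ z, z ⤳ ξ' → z = ξ' := fun z hz => Groth.Agent.GenPtLib.eq_of_specializes hZ' hξ' hz
  let ξ : X := Limits.pullback.fst f g ξ'
  let η' : Y' := Limits.pullback.snd f g ξ'
  have hfg : f ξ = g η' := by
    rw [← Scheme.Hom.comp_apply, ← Scheme.Hom.comp_apply, Limits.pullback.condition]
  have hmaxξ : ∀ z, z ⤳ ξ → z = ξ := by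
    intro z hz
    obtain ⟨w, hw, rfl⟩ := Groth.Agent.QuasiFlatLib.generalizingMap _ (isQuasiFlat_fst f g hg) hz
    rw [hmax' w hw]
  have hmaxy : ∀ z, z ⤳ f ξ → z = f ξ := by
    have hc := hf _ (Groth.Agent.GenPtLib.closure_mem_irreducibleComponents hmaxξ)
    intro z hz
    refine Groth.Agent.GenPtLib.eq_of_specializes hc ?_ hz
    rw [IsGenericPoint, ← Set.image_singleton, closure_image_closure f.continuous]
  have hη : ∀ z, z ⤳ η' → z = η' := by
    intro η'' hη''
    have hy : g η'' = f ξ := hmaxy _ (hfg ▸ hη''.map g.continuous)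
    let a := X.fromSpecResidueField ξ
    let b := Y.fromSpecResidueField (f ξ)
    let c : Spec (X.residueField ξ) ⟶ Spec (Y.residueField (f ξ)) := Spec.map (f.residueFieldMap ξ)
    haveI : Flat c := by
      rw [HasRingHomProperty.Spec_iff (P := @Flat)]
      algebraize [(f.residueFieldMap ξ).hom]
      exact RingHom.flat_algebraMap_iff.2 inferInstance
    have hac : c ≫ b = a ≫ f := Scheme.Hom.SpecMap_residueFieldMap_fromSpecResidueField f ξ
    let P₂ := Limits.pullback a (Limits.pullback.fst f g)
    let d : P₂ ⟶ Limits.pullback b g := Limits.pullback.lift (Limits.pullback.fst _ _ ≫ c)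
      (Limits.pullback.snd _ _ ≫ Limits.pullback.snd f g) (by
        rw [Category.assoc, Category.assoc, hac, ← Limits.pullback.condition (f := f),
          Limits.pullback.condition_assoc])
    have hd : IsPullback d (Limits.pullback.fst a (Limits.pullback.fst f g)) (Limits.pullback.fst b g) c := by
      refine IsPullback.of_right ?_ (Limits.pullback.lift_fst _ _ _) (IsPullback.of_hasPullback b g).flip
      rw [Limits.pullback.lift_snd, hac]
      exact (IsPullback.of_hasPullback a (Limits.pullback.fst f g)).flip.paste_horiz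
        (IsPullback.of_hasPullback f g).flip
    haveI : Flat d := MorphismProperty.of_isPullback (P := @Flat) hd.flip inferInstance
    obtain ⟨q, hq⟩ : ∃ q : P₂, Limits.pullback.snd a (Limits.pullback.fst f g) q = ξ' := by
      have : ξ' ∈ Set.range (Limits.pullback.snd a (Limits.pullback.fst f g)) := by
        rw [Scheme.Pullback.range_snd]
        exact ⟨IsLocalRing.closedPoint _, Scheme.fromSpecResidueField_apply _ _⟩
      exact this
    obtain ⟨p, hp⟩ : ∃ p : ↥(Limits.pullback b g), Limits.pullback.snd b g p = η'' := by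
      have : η'' ∈ Set.range (Limits.pullback.snd b g) := by
        rw [Scheme.Pullback.range_snd]
        exact ⟨IsLocalRing.closedPoint _, (Scheme.fromSpecResidueField_apply _ _).trans hy.symm⟩
      exact this
    have hdq : Limits.pullback.snd b g (d q) = η' := by
      rw [← Scheme.Hom.comp_apply, Limits.pullback.lift_snd, Scheme.Hom.comp_apply, hq]
    have hspec : p ⤳ d q := by
      rw [← (Limits.pullback.snd b g).isEmbedding.isInducing.specializes_iff, hp, hdq]
      exact hη''
    obtain ⟨q', hq', rfl⟩ := Flat.generalizingMap d hspec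
    have := hmax' _ (hq ▸ hq'.map (Limits.pullback.snd a (Limits.pullback.fst f g)).continuous)
    rw [← hp, ← Scheme.Hom.comp_apply, Limits.pullback.lift_snd, Scheme.Hom.comp_apply, this]
  rw [← hξ'.def, closure_image_closure (Limits.pullback.snd f g).continuous, Set.image_singleton]
  exact Groth.Agent.GenPtLib.closure_mem_irreducibleComponents hη

end Groth.Agent.S4633
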