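import Groth.Statements.S3435
import Groth.Agent.FieldExtLib.Imperfection
-- import your own Groth.Agent.* helpers here

set_option autoImplicit false
universe u
open EGA41

namespace Groth.Agent.S3435

open TensorProduct in
/-- Let Λ → A → B → C be ring homomorphisms. The homomorphism Ω_{B/Λ} ⊗_B C → Ω_{B/A} ⊗_B C maps the
imperfection module Υ_{C/B/Λ} (the kernel of Ω_{B/Λ} ⊗_B C → Ω_{C/Λ}) onto the imperfection module
Υ_{C/B/A} (the kernel of Ω_{B/A} ⊗_B C → Ω_{C/A}): every element of Υ_{C/B/A} is the image of some
element of Υ_{C/B/Λ}. -/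
theorem result (Λ A B C : Type u) [CommRing Λ] [CommRing A] [CommRing B] [CommRing C]
    [Algebra Λ A] [Algebra Λ B] [Algebra Λ C] [Algebra A B] [Algebra A C] [Algebra B C]
    [IsScalarTower Λ A B] [IsScalarTower Λ A C] [IsScalarTower Λ B C] [IsScalarTower A B C] :
    ∀ ω ∈ EGA41.imperfection A B C, ∃ η ∈ EGA41.imperfection Λ B C,
      (KaehlerDifferential.map Λ A B B).baseChange C η = ω := by
  classical
  intro ω hω
  set q := (KaehlerDifferential.map Λ A B B).baseChange C with hq
  have hsurj : Function.Surjective q :=
    LinearMap.lTensor_surjective C (KaehlerDifferential.map_surjective Λ A B)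
  obtain ⟨η₀, rfl⟩ := hsurj ω
  have hω' : KaehlerDifferential.mapBaseChange A B C (q η₀) = 0 := LinearMap.mem_ker.1 hω
  have hcomm : ∀ z, KaehlerDifferential.mapBaseChange A B C (q z) =
      KaehlerDifferential.map Λ A C C (KaehlerDifferential.mapBaseChange Λ B C z) := by
    intro z
    induction z using TensorProduct.induction_on with
    | zero => simp
    | add x y hx hy => simp [map_add, hx, hy]
    | tmul c w =>
      have hw : w ∈ Submodule.span B (Set.range (KaehlerDifferential.D Λ B)) := by
        rw [KaehlerDifferential.span_range_derivation]; trivial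
      clear hω' hω
      induction hw using Submodule.span_induction generalizing c with
      | mem x hx =>
        obtain ⟨b, rfl⟩ := hx
        simp [hq, KaehlerDifferential.mapBaseChange_tmul]
      | zero => simp
      | add x y _ _ hx hy => simp [TensorProduct.tmul_add, map_add, hx c, hy c]
      | smul b x _ hx => simpa [TensorProduct.tmul_smul, TensorProduct.smul_tmul'] using hx (b • c)
  rw [hcomm] at hω'
  have h1 := ((KaehlerDifferential.exact_mapBaseChange_map Λ A C) _).1 hω'
  obtain ⟨z, hz⟩ := h1
  have h2 : ∀ z : C ⊗[A] Ω[A⁄Λ], ∃ y : C ⊗[B] Ω[B⁄Λ], q y = 0 ∧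
      KaehlerDifferential.mapBaseChange Λ B C y = KaehlerDifferential.mapBaseChange Λ A C z := by
    intro z
    induction z using TensorProduct.induction_on with
    | zero => exact ⟨0, by simp, by simp⟩
    | add x y hx hy =>
      obtain ⟨a, ha, ha'⟩ := hx
      obtain ⟨b, hb, hb'⟩ := hy
      exact ⟨a + b, by simp [ha, hb], by simp [map_add, ha', hb']⟩
    | tmul c w =>
      refine ⟨c ⊗ₜ[B] KaehlerDifferential.map Λ Λ A B w, ?_, ?_⟩
      · have : KaehlerDifferential.map Λ A B B (KaehlerDifferential.map Λ Λ A B w) = 0 :=
          Function.Exact.apply_apply_eq_zero (KaehlerDifferential.exact_mapBaseChange_map Λ A B) ((1 : B) ⊗ₜ[A] w) ▸ by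
            simp [KaehlerDifferential.mapBaseChange_tmul]
        simp [hq, this]
      · have hw : w ∈ Submodule.span A (Set.range (KaehlerDifferential.D Λ A)) := by
          rw [KaehlerDifferential.span_range_derivation]; trivial
        clear hz hω' hω
        induction hw using Submodule.span_induction generalizing c with
        | mem x hx =>
          obtain ⟨a, rfl⟩ := hx
          simp [KaehlerDifferential.mapBaseChange_tmul, ← IsScalarTower.algebraMap_apply]
        | zero => simp
        | add x y _ _ hx hy => simp [map_add, TensorProduct.tmul_add, hx c, hy c]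
        | smul a x _ hx =>
          have := hx (a • c)
          simpa [TensorProduct.tmul_smul, TensorProduct.smul_tmul', LinearMap.map_smul_of_tower] using this
  obtain ⟨y, hy, hy'⟩ := h2 z
  refine ⟨η₀ - y, LinearMap.mem_ker.2 ?_, by rw [map_sub, hy, sub_zero]⟩
  rw [map_sub, hy', hz, sub_self]

end Groth.Agent.S3435
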