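import Groth.Statements.S3439
import Groth.Agent.ProConsLib.Range
-- import your own Groth.Agent.* helpers here

set_option autoImplicit false
open CategoryTheory AlgebraicGeometry
universe u
open EGA41

namespace Groth.Agent.S3439

/-- Let X be a quasi-compact scheme, E an ind-constructible subset of X and (F_i) a family of
pro-constructible subsets of X whose intersection is contained in E. Then there is a finite set J of
indices such that the intersection of the F_i for i in J is already contained in E. (Taking E = ∅: a
family of pro-constructible subsets with empty intersection has a finite subfamily with empty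
intersection.) -/
theorem result (X : Scheme.{u}) [CompactSpace X] (E : Set X)
    (hE : ProCons.IsIndConstructible E) {ι : Type u} (F : ι → Set X) (hF : ∀ i, ProCons.IsProConstructible (F i))
    (h : ⋂ i, F i ⊆ E) :
    ∃ J : Finset ι, ⋂ i ∈ J, F i ⊆ E := by
  classical
  have key : ⋂ o : Option ι, o.elim Eᶜ F = ∅ := by
    refine Set.eq_empty_iff_forall_notMem.2 fun z hz => ?_
    rw [Set.mem_iInter] at hz
    exact hz none (h (Set.mem_iInter.2 fun i => hz (some i)))
  obtain ⟨J, hJ⟩ := Groth.Agent.ProConsLib.exists_finset_iInter_eq_empty _
    (fun o => by cases o with
      | none => exact Groth.Agent.ProConsLib.isIndConstructible_iff_compl.1 hE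
      | some i => exact hF i) key
  refine ⟨J.eraseNone, fun z hz => ?_⟩
  by_contra hzE
  refine Set.eq_empty_iff_forall_notMem.1 hJ z (Set.mem_iInter₂.2 fun o ho => ?_)
  cases o with
  | none => exact hzE
  | some i => exact Set.mem_iInter₂.1 hz i (Finset.mem_eraseNone.2 ho)

end Groth.Agent.S3439
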