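import Groth.Statements.S3440
import Groth.Agent.CMFlatLib.Module
import Groth.Agent.DimFormulaLib.Surjective
import Groth.Agent.ASp.OnePoint
import Groth.Agent.DimFormulaLib.Equidim
import Groth.Agent.FibreDepth.Scheme
import Groth.Agent.FlatLocus.Scheme
import Groth.Agent.CMCat.Polynomial
import Groth.Agent.RatliffLib.Formal
import Mathlib
open CategoryTheory
set_option maxHeartbeats 1000000
-- import your own Groth.Agent.* helpers here

set_option autoImplicit false
open CategoryTheory AlgebraicGeometry
universe u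
open EGA43

namespace Groth.Agent.S3440

/-- Let Y be locally Noetherian, f : X ⟶ Y locally of finite type, x a point of X and y = f x; suppose
O_{Y,y} is regular and O_{X,x} is Cohen–Macaulay. The following are equivalent: a) O_{Y,y} ⟶ O_{X,x}
is flat and the local ring of X_y at x is Cohen–Macaulay; b) O_{Y,y} ⟶ O_{X,x} is flat; c) the
restriction of f to some open neighbourhood of x is universally open; d) f is open at the generic
point of every irreducible component of X_y through x; e') dim O_{X,x} = dim O_{Y,y} + dim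
O_{X_y,x}. -/
theorem result {X Y : Scheme.{u}} [IsLocallyNoetherian Y] (f : X ⟶ Y)
    [LocallyOfFiniteType f] (x : X) (hreg : IsRegularLocalRing (Y.presheaf.stalk (f.base x)))
    (hCM : LocCoh.IsCohenMacaulayLocalRing (X.presheaf.stalk x)) :
    List.TFAE [
      (f.stalkMap x).hom.Flat ∧ LocCoh.IsCohenMacaulayLocalRing ((f.fiber (f.base x)).presheaf.stalk (f.asFiber x)),
      (f.stalkMap x).hom.Flat,
      ∃ U : X.Opens, x ∈ U ∧ UniversallyOpen (U.ι ≫ f),
      (∀ z : ↥(f.fiber (f.base x)), f.asFiber x ∈ closure {z} →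
          (∀ z' : ↥(f.fiber (f.base x)), z ∈ closure {z'} → z' = z) →
          EGA43.IsOpenAt f.base ((f.fiberι (f.base x)).base z)),
      ringKrullDim (X.presheaf.stalk x) =
        ringKrullDim (Y.presheaf.stalk (f.base x)) + ringKrullDim ((f.fiber (f.base x)).presheaf.stalk (f.asFiber x)) ] := by
  classical
  haveI : IsLocallyNoetherian X := LocallyOfFiniteType.isLocallyNoetherian f
  let R := Y.presheaf.stalk (f.base x)
  let S := X.presheaf.stalk x
  letI : Algebra R S := (f.stalkMap x).hom.toAlgebra
  haveI : IsLocalHom (algebraMap R S) := inferInstanceAs (IsLocalHom (f.stalkMap x).hom)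
  haveI : IsRegularLocalRing R := hreg
  haveI : LocCoh.IsCohenMacaulayLocalRing R := RatliffLib.cm_of_regularLocal R
  have hcat : CAlg.IsUniversallyCatenary R := CMCat.isUniversallyCatenary_of_cmLocal
  have hS : LocCoh.IsCohenMacaulayModule S S := hCM.supportDim_eq_depth
  obtain ⟨hfd, hfk⟩ := FibreDepth.fib_stalk_self f x
  tfae_have 1 → 2 := fun h => h.1
  tfae_have 2 → 3 := by
    intro h
    haveI : LocallyOfFinitePresentation f := ASp.locallyOfFinitePresentation_of_noetherian f
    let U : X.Opens := ⟨_, FlatLocus.isOpen_flat_stalkMap f⟩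
    haveI : Flat (U.ι ≫ f) := Flat.of_stalkMap _ fun u => by
      rw [Scheme.Hom.stalkMap_comp]
      exact RingHom.Flat.comp (show (f.stalkMap (U.ι u)).hom.Flat from u.2)
        ((Flat.iff_flat_stalkMap U.ι).1 inferInstance u)
    exact ⟨U, h, inferInstance⟩
  tfae_have 3 → 4 := by
    rintro ⟨U, hxU, hU⟩ z hzx - V hV
    obtain ⟨W, hWV, hWo, hzW⟩ := mem_nhds_iff.1 hV
    haveI := hU
    have hspec : (f.fiberι (f.base x)).base z ⤳ x := by
      have := (specializes_iff_mem_closure.2 hzx).map (f.fiberι (f.base x)).continuous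
      rwa [Scheme.Hom.fiberι_asFiber] at this
    have hzU : (f.fiberι (f.base x)).base z ∈ U := hspec.mem_open U.2 hxU
    refine Filter.mem_of_superset (((U.ι ≫ f).isOpenMap _ (hWo.preimage U.ι.continuous)).mem_nhds
      ⟨⟨_, hzU⟩, hzW, rfl⟩) ?_
    rintro _ ⟨u, hu, rfl⟩
    exact ⟨_, hWV hu, rfl⟩
  tfae_have 4 → 5 := by
    intro hd
    obtain ⟨c⟩ := DimFormulaLib.exists_chart f x
    haveI := c.isNoetherianRing
    obtain ⟨P, n, hPq, hPp, hmin, hPn, hn⟩ := c.exists_component
    refine c.formula_of_generization (c.catAbove hcat) hPq hPp hmin n hPn hn ?_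
    have hy : f.base (c.j P) = f.base x := (c.apply_j P).trans ((congrArg c.i.base hPp).trans c.hp)
    let w : ↥(f.fiber (f.base x)) := (f.fiberHomeo (f.base x)).symm ⟨c.j P, hy⟩
    have hw : (f.fiberι (f.base x)).base w = c.j P := f.fiberι_fiberHomeo_symm _ ⟨c.j P, hy⟩
    have hwx : f.asFiber x ∈ closure {w} := by
      rw [← specializes_iff_mem_closure, ← (f.fiberι (f.base x)).isEmbedding.toIsInducing.specializes_iff, hw,
        Scheme.Hom.fiberι_asFiber]
      exact (((PrimeSpectrum.le_iff_specializes P c.q).1 hPq).map c.j.continuous).trans (specializes_of_eq c.hq)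
    have hwmin : ∀ z' : ↥(f.fiber (f.base x)), w ∈ closure {z'} → z' = w := by
      intro z' hz'
      have h1 : (f.fiberι (f.base x)).base z' ⤳ c.j P := hw ▸ (specializes_iff_mem_closure.2 hz').map (f.fiberι (f.base x)).continuous
      obtain ⟨(P' : PrimeSpectrum c.B), hP'⟩ : (f.fiberι (f.base x)).base z' ∈ Set.range c.j.base :=
        h1.mem_open c.j.isOpenEmbedding.isOpen_range ⟨P, rfl⟩
      have hle : @LE.le (PrimeSpectrum c.B) _ P' P := (PrimeSpectrum.le_iff_specializes P' P).2 (c.j.isEmbedding.toIsInducing.specializes_iff.1 (hP' ▸ h1))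
      have hfz : f.base ((f.fiberι (f.base x)).base z') = f.base x := by
        have : (f.fiberι (f.base x)).base z' ∈ Set.range (f.fiberι (f.base x)).base := ⟨z', rfl⟩
        rwa [Scheme.Hom.range_fiberι] at this
      have heq : P' = P := hmin P' hle (c.i.isEmbedding.injective (by
        rw [← c.apply_j, ← c.apply_j, hy, hP', hfz]))
      exact (f.fiberι (f.base x)).isEmbedding.injective (by rw [hw, ← hP', heq])
    have hop := hd w hwx hwmin
    rw [hw] at hop
    refine le_antisymm ?_ (DimFormulaLib.ringKrullDim_stalk_le_of_isOpenAt f (c.j P) hop)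
    have h0 := (c.fibreDimAt_of_minInFibre hmin n hPn).2
    rw [(FibreDepth.fib_stalk_self f (c.j P)).2, smul_eq_mul, Ideal.mul_top,
      Module.supportDim_quotient_eq_ringKrullDim] at h0
    have hle : ringKrullDim (X.presheaf.stalk (c.j P)) ≤ ringKrullDim (Y.presheaf.stalk (f.base (c.j P))) +
        ringKrullDim ((X.presheaf.stalk (c.j P) : Type u) ⧸ FibreDepth.fibreIdeal f (c.j P)) :=
      DimFormulaLib.ringKrullDim_stalk_le f (c.j P)
    rw [h0] at hle
    simpa using hle
  tfae_have 5 → 1 := by
    intro he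
    have hflat : Module.Flat R S := CMFlatLib.flat_module_of_cm R S S hS (by
      rw [Module.supportDim_self_eq_ringKrullDim, he, hfk]
      rfl)
    refine ⟨hflat, ?_⟩
    haveI : LocallyOfFiniteType (f.fiberToSpecResidueField (f.base x)) :=
      MorphismProperty.pullback_snd (P := @LocallyOfFiniteType) _ _ inferInstance
    haveI : IsLocallyNoetherian (f.fiber (f.base x)) :=
      LocallyOfFiniteType.isLocallyNoetherian (f.fiberToSpecResidueField (f.base x))
    haveI : IsNoetherianRing ((f.fiber (f.base x)).presheaf.stalk (f.asFiber x)) := inferInstance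
    refine { supportDim_eq_depth := ?_ }
    rw [Module.supportDim_self_eq_ringKrullDim, hfd, hfk]
    exact CMFlatLib.cm_fibre R S S hS (by rw [Module.supportDim_self_eq_ringKrullDim, he, hfk]; rfl)
  tfae_finish

end Groth.Agent.S3440
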