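import Groth.Statements.S3441
import Mathlib.RingTheory.Kaehler.Basic
import Mathlib.Algebra.TrivSqZeroExt.Ideal
import Mathlib.RingTheory.Derivation.ToSquareZero
import Mathlib
-- import your own Groth.Agent.* helpers here

set_option autoImplicit false
set_option backward.isDefEq.respectTransparency false
universe u
open EGA41

namespace Groth.Agent.S3441

open TensorProduct in
/-- Let A → B → C be ring homomorphisms. The canonical C-linear map Ω_{B/A} ⊗_B C → Ω_{C/A} is left
invertible (has a C-linear left inverse) if and only if C is a formally smooth B-algebra relative to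
A for the discrete topologies: every B-algebra homomorphism from C to a quotient C'/J of a B-algebra
C' by an ideal J of square zero that lifts to C' as an A-algebra homomorphism also lifts to C' as a
B-algebra homomorphism. (The published definition of relative formal smoothness tests every
nilpotent ideal J; its reduction to ideals of square zero does not carry over to the relative
setting, and the square-zero form, which is what the published proof of this statement uses, is the
one taken here.) -/
theorem result (A B C : Type u) [CommRing A] [CommRing B]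
    [CommRing C] [Algebra A B] [Algebra B C] [Algebra A C] [IsScalarTower A B C] :
    (∃ l : Ω[C⁄A] →ₗ[C] C ⊗[B] Ω[B⁄A], l ∘ₗ KaehlerDifferential.mapBaseChange A B C = LinearMap.id) ↔
      EGA41.IsFormallySmoothRel A B C := by
  constructor
  · rintro ⟨l, hl⟩ T _ _ _ _ J hJ u₀ ⟨u, hu⟩
    letI : Algebra C T := u.toRingHom.toAlgebra
    haveI : IsScalarTower A C T := IsScalarTower.of_algebraMap_eq fun r => (u.commutes r).symm
    have hmem : ∀ b : B, u (algebraMap B C b) - algebraMap B T b ∈ J := fun b => by
      rw [← Ideal.Quotient.eq]
      exact (DFunLike.congr_fun hu (algebraMap B C b)).trans (u₀.commutes b)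
    haveI : IsScalarTower B C J := IsScalarTower.of_algebraMap_smul fun b j => Subtype.ext (by
      show u (algebraMap B C b) * (j : T) = b • (j : T)
      rw [Algebra.smul_def, ← sub_eq_zero, ← sub_mul, ← Ideal.mem_bot, ← hJ, pow_two]
      exact Ideal.mul_mem_mul (hmem b) j.2)
    let d : Derivation A B J := derivationToSquareZeroOfLift J hJ (u.comp (IsScalarTower.toAlgHom A B C))
      (AlgHom.ext fun b => by
        show Ideal.Quotient.mk J (u (algebraMap B C b)) = algebraMap B (T ⧸ J) b
        exact (Ideal.Quotient.eq.mpr (hmem b)).trans rfl)
    let h : C ⊗[B] Ω[B⁄A] →ₗ[C] J := d.liftKaehlerDifferential.liftBaseChange C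
    let δ : Derivation A C J := (h ∘ₗ l).compDer (KaehlerDifferential.D A C)
    let v := liftOfDerivationToSquareZero J hJ (-δ)
    have hv : ∀ c, v c = (-δ) c + algebraMap C T c := fun c => rfl
    refine ⟨{ toRingHom := v.toRingHom, commutes' := fun b => ?_ }, AlgHom.ext fun c => ?_⟩
    · show v (algebraMap B C b) = _
      have h1 : δ (algebraMap B C b) = d b := by
        have h2 := LinearMap.congr_fun hl ((1 : C) ⊗ₜ[B] KaehlerDifferential.D A B b)
        rw [LinearMap.comp_apply, KaehlerDifferential.mapBaseChange_tmul, one_smul, KaehlerDifferential.map_D,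
          LinearMap.id_apply] at h2
        show h (l (KaehlerDifferential.D A C (algebraMap B C b))) = _
        rw [h2, LinearMap.liftBaseChange_tmul, one_smul, Derivation.liftKaehlerDifferential_comp_D]
      rw [hv, Derivation.neg_apply, h1, Submodule.coe_neg, derivationToSquareZeroOfLift_apply]
      show -(u (algebraMap B C b) - algebraMap B T b) + u (algebraMap B C b) = _
      abel
    · show Ideal.Quotient.mk J (v c) = u₀ c
      rw [liftOfDerivationToSquareZero_mk_apply]
      exact DFunLike.congr_fun hu c
  · intro h
    let E := C ⊗[B] Ω[B⁄A]
    haveI : IsCentralScalar C E := ⟨fun r x => by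
      induction x using TensorProduct.induction_on with
      | zero => simp
      | add x y hx hy => rw [smul_add, smul_add, hx, hy]
      | tmul c w => rw [TensorProduct.smul_tmul', TensorProduct.smul_tmul', op_smul_eq_smul]⟩
    let d : B → E := fun b => (1 : C) ⊗ₜ[B] KaehlerDifferential.D A B b
    have hd : ∀ a a', d (a * a') = algebraMap B C a • d a' + algebraMap B C a' • d a := fun a a' => by
      simp only [d, Derivation.leibniz, TensorProduct.tmul_add, TensorProduct.tmul_smul, algebraMap_smul]
    let φ : B →+* TrivSqZeroExt C E :=
      { toFun := fun a => TrivSqZeroExt.inl (algebraMap B C a) + TrivSqZeroExt.inr (d a)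
        map_one' := TrivSqZeroExt.ext (by simp) (by simp [d])
        map_mul' := fun a a' => TrivSqZeroExt.ext (by simp) (by
          simp only [TrivSqZeroExt.snd_add, TrivSqZeroExt.snd_inl, TrivSqZeroExt.snd_inr, zero_add,
            TrivSqZeroExt.snd_mul, TrivSqZeroExt.fst_add, TrivSqZeroExt.fst_inl, TrivSqZeroExt.fst_inr,
            add_zero, op_smul_eq_smul, hd])
        map_zero' := TrivSqZeroExt.ext (by simp) (by simp [d])
        map_add' := fun a a' => TrivSqZeroExt.ext (by simp) (by simp [d, TensorProduct.tmul_add]; abel) }
    letI : Algebra B (TrivSqZeroExt C E) := φ.toAlgebra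
    letI algA : Algebra A (TrivSqZeroExt C E) := (φ.comp (algebraMap A B)).toAlgebra
    have hφA : ∀ r, algebraMap A (TrivSqZeroExt C E) r = TrivSqZeroExt.inl (algebraMap A C r) := fun r => by
      show φ (algebraMap A B r) = _
      exact TrivSqZeroExt.ext (by simp [φ, ← IsScalarTower.algebraMap_apply]) (by simp [φ, d])
    let J : Ideal (TrivSqZeroExt C E) := TrivSqZeroExt.kerIdeal C E
    let u : C →+* TrivSqZeroExt C E := TrivSqZeroExt.inlHom C E
    let u₀ : C →ₐ[B] TrivSqZeroExt C E ⧸ J :=
      { toRingHom := (Ideal.Quotient.mk J).comp u
        commutes' := fun a => (Ideal.Quotient.eq).mpr (by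
          show u (algebraMap B C a) - φ a ∈ J
          rw [TrivSqZeroExt.mem_kerIdeal_iff_inr]
          exact TrivSqZeroExt.ext (by simp [u, φ]) (by simp [u, φ])) }
    obtain ⟨v, hv⟩ := @h (TrivSqZeroExt C E) _ φ.toAlgebra algA (IsScalarTower.of_algebraMap_eq fun r => rfl) J (TrivSqZeroExt.kerIdeal_sq C E) u₀
      ⟨{ toRingHom := u, commutes' := fun r => (hφA r).symm }, AlgHom.ext fun b => rfl⟩
    have hfst : ∀ c, TrivSqZeroExt.fst (v c) = c := fun c => by
      have h2 : v c - u c ∈ J := Ideal.Quotient.eq.mp (DFunLike.congr_fun hv c)
      rw [TrivSqZeroExt.mem_kerIdeal_iff_inr] at h2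
      simpa [u, sub_eq_zero] using congrArg TrivSqZeroExt.fst h2
    let δ : Derivation A C E :=
      { toFun := fun c => TrivSqZeroExt.snd (v c)
        map_add' := fun b b' => by rw [map_add, TrivSqZeroExt.snd_add]
        map_smul' := fun r b => by
          show TrivSqZeroExt.snd (v (r • b)) = r • TrivSqZeroExt.snd (v b)
          rw [Algebra.smul_def r b, IsScalarTower.algebraMap_apply A B C, map_mul, v.commutes,
            show algebraMap B (TrivSqZeroExt C E) (algebraMap A B r) = algebraMap A (TrivSqZeroExt C E) r from rfl,
            hφA, TrivSqZeroExt.snd_mul,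
            TrivSqZeroExt.fst_inl, TrivSqZeroExt.snd_inl, smul_zero, add_zero, algebraMap_smul]
        map_one_eq_zero' := by
          show TrivSqZeroExt.snd (v 1) = 0
          rw [map_one, TrivSqZeroExt.snd_one]
        leibniz' := fun b b' => by
          show TrivSqZeroExt.snd (v (b * b')) = b • TrivSqZeroExt.snd (v b') + b' • TrivSqZeroExt.snd (v b)
          rw [map_mul, TrivSqZeroExt.snd_mul, hfst, hfst, op_smul_eq_smul] }
    refine ⟨δ.liftKaehlerDifferential, LinearMap.ext fun x => ?_⟩
    induction x using TensorProduct.induction_on with
    | zero => simp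
    | add x y hx hy => rw [map_add, map_add, hx, hy]
    | tmul c w =>
        have hw : w ∈ Submodule.span B (Set.range (KaehlerDifferential.D A B)) := by
          rw [KaehlerDifferential.span_range_derivation]; trivial
        induction hw using Submodule.span_induction generalizing c with
        | zero => simp
        | add w w' _ _ hw hw' =>
            rw [TensorProduct.tmul_add, map_add, map_add, hw, hw']
        | smul b w _ hw =>
            rw [TensorProduct.tmul_smul, TensorProduct.smul_tmul']
            exact hw _
        | mem w hw =>
            obtain ⟨b, rfl⟩ := hw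
            rw [LinearMap.comp_apply, KaehlerDifferential.mapBaseChange_tmul, KaehlerDifferential.map_D,
              map_smul, Derivation.liftKaehlerDifferential_comp_D, LinearMap.id_apply]
            show c • TrivSqZeroExt.snd (v (algebraMap B C b)) = _
            rw [v.commutes]
            show c • TrivSqZeroExt.snd (φ b) = _
            simp [φ, d]
            rw [TensorProduct.smul_tmul', smul_eq_mul, mul_one]

end Groth.Agent.S3441
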