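import Groth.Statements.S3442
import Mathlib
-- import your own Groth.Agent.* helpers here

set_option autoImplicit false
universe u
open EGA41

namespace Groth.Agent.S3442

open TensorProduct in
/-- Let Λ → A → B → C be ring homomorphisms and suppose B is a formally smooth A-algebra relative to Λ
(for the discrete topologies, tested on ideals of square zero). Then Υ^C_{B/A/Λ} = 0, i.e. the
C-linear map Ω_{A/Λ} ⊗_A C → Ω_{B/Λ} ⊗_B C is injective; it is written here as the base change to C
of the B-linear map Ω_{A/Λ} ⊗_A B → Ω_{B/Λ}, whose source C ⊗_B (B ⊗_A Ω_{A/Λ}) is canonically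
Ω_{A/Λ} ⊗_A C. -/
theorem result (Λ A B C : Type u) [CommRing Λ] [CommRing A]
    [CommRing B] [CommRing C] [Algebra Λ A] [Algebra Λ B] [Algebra A B] [IsScalarTower Λ A B] [Algebra B C]
    (h : EGA41.IsFormallySmoothRel Λ A B) :
    Function.Injective ((KaehlerDifferential.mapBaseChange Λ A B).baseChange C) := by
  let L := C ⊗[B] (B ⊗[A] Ω[A⁄Λ])
  letI : Module Bᵐᵒᵖ L := Module.compHom _ ((RingEquiv.toOpposite B).symm : Bᵐᵒᵖ ≃+* B).toRingHom
  haveI : IsCentralScalar B L := ⟨fun _ _ => rfl⟩
  let d : A → L := fun a => (1 : C) ⊗ₜ[B] ((1 : B) ⊗ₜ[A] KaehlerDifferential.D Λ A a)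
  have hd : ∀ a a', d (a * a') = algebraMap A B a • d a' + algebraMap A B a' • d a := fun a a' => by
    simp only [d, Derivation.leibniz, TensorProduct.tmul_add, TensorProduct.tmul_smul]
    rw [← algebraMap_smul B a ((1 : B) ⊗ₜ[A] KaehlerDifferential.D Λ A a'),
      ← algebraMap_smul B a' ((1 : B) ⊗ₜ[A] KaehlerDifferential.D Λ A a), TensorProduct.tmul_smul, TensorProduct.tmul_smul]
  let φ : A →+* TrivSqZeroExt B L :=
    { toFun := fun a => TrivSqZeroExt.inl (algebraMap A B a) + TrivSqZeroExt.inr (d a)
      map_one' := TrivSqZeroExt.ext (by simp) (by simp [d])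
      map_mul' := fun a a' => TrivSqZeroExt.ext (by simp) (by
        simp only [TrivSqZeroExt.snd_add, TrivSqZeroExt.snd_inl, TrivSqZeroExt.snd_inr, zero_add,
          TrivSqZeroExt.snd_mul, TrivSqZeroExt.fst_add, TrivSqZeroExt.fst_inl, TrivSqZeroExt.fst_inr,
          add_zero, op_smul_eq_smul, hd])
      map_zero' := TrivSqZeroExt.ext (by simp) (by simp [d])
      map_add' := fun a a' => TrivSqZeroExt.ext (by simp) (by simp [d, TensorProduct.tmul_add]; abel) }
  letI : Algebra A (TrivSqZeroExt B L) := φ.toAlgebra
  letI algΛ : Algebra Λ (TrivSqZeroExt B L) := (φ.comp (algebraMap Λ A)).toAlgebra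
  haveI : IsScalarTower Λ A (TrivSqZeroExt B L) := IsScalarTower.of_algebraMap_eq fun r => rfl
  have hφΛ : ∀ r, algebraMap Λ (TrivSqZeroExt B L) r = TrivSqZeroExt.inl (algebraMap Λ B r) := fun r => by
    show φ (algebraMap Λ A r) = _
    exact TrivSqZeroExt.ext (by simp [φ, ← IsScalarTower.algebraMap_apply]) (by simp [φ, d])
  let J : Ideal (TrivSqZeroExt B L) := TrivSqZeroExt.kerIdeal B L
  have hJ : J ^ 2 = ⊥ := TrivSqZeroExt.kerIdeal_sq B L
  let u : B →+* TrivSqZeroExt B L := TrivSqZeroExt.inlHom B L
  let u₀ : B →ₐ[A] TrivSqZeroExt B L ⧸ J :=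
    { toRingHom := (Ideal.Quotient.mk J).comp u
      commutes' := fun a => (Ideal.Quotient.eq).mpr (by
        show u (algebraMap A B a) - φ a ∈ J
        rw [TrivSqZeroExt.mem_kerIdeal_iff_inr]
        exact TrivSqZeroExt.ext (by simp [u, φ]) (by simp [u, φ])) }
  obtain ⟨v, hv⟩ := h (TrivSqZeroExt B L) J hJ u₀
    ⟨{ toRingHom := u, commutes' := fun r => (hφΛ r).symm }, AlgHom.ext fun b => rfl⟩
  have hfst : ∀ b, TrivSqZeroExt.fst (v b) = b := fun b => by
    have h1 := DFunLike.congr_fun hv b
    have h2 : v b - u b ∈ J := Ideal.Quotient.eq.mp h1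
    rw [TrivSqZeroExt.mem_kerIdeal_iff_inr] at h2
    have h3 := congrArg TrivSqZeroExt.fst h2
    simpa [u, sub_eq_zero] using h3
  have hvA : ∀ a, TrivSqZeroExt.snd (v (algebraMap A B a)) = d a := fun a => by
    rw [v.commutes a]; show TrivSqZeroExt.snd (φ a) = _; simp [φ]
  letI : Module Λ L := Module.compHom L (algebraMap Λ B)
  haveI : IsScalarTower Λ B L := IsScalarTower.of_algebraMap_smul fun _ _ => rfl
  let D' : Derivation Λ B L :=
    { toFun := fun b => TrivSqZeroExt.snd (v b)
      map_add' := fun b b' => by rw [map_add, TrivSqZeroExt.snd_add]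
      map_smul' := fun r b => by
        show TrivSqZeroExt.snd (v (r • b)) = r • TrivSqZeroExt.snd (v b)
        rw [Algebra.smul_def r b, IsScalarTower.algebraMap_apply Λ A B, map_mul, v.commutes,
          ← IsScalarTower.algebraMap_apply Λ A (TrivSqZeroExt B L), hφΛ, TrivSqZeroExt.snd_mul,
          TrivSqZeroExt.fst_inl, TrivSqZeroExt.snd_inl, smul_zero, add_zero, algebraMap_smul]
      map_one_eq_zero' := by
        show TrivSqZeroExt.snd (v 1) = 0
        rw [map_one, TrivSqZeroExt.snd_one]
      leibniz' := fun b b' => by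
        show TrivSqZeroExt.snd (v (b * b')) = b • TrivSqZeroExt.snd (v b') + b' • TrivSqZeroExt.snd (v b)
        rw [map_mul, TrivSqZeroExt.snd_mul, hfst, hfst, op_smul_eq_smul] }
  let ret : C ⊗[B] Ω[B⁄Λ] →ₗ[C] L := D'.liftKaehlerDifferential.liftBaseChange C
  refine Function.LeftInverse.injective (g := ret) fun x => ?_
  induction x using TensorProduct.induction_on with
  | zero => simp
  | add x y hx hy => rw [map_add, map_add, hx, hy]
  | tmul c y =>
      induction y using TensorProduct.induction_on with
      | zero => simp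
      | add x y hx hy => rw [TensorProduct.tmul_add, map_add, map_add, hx, hy]
      | tmul b w =>
          have hw : w ∈ Submodule.span A (Set.range (KaehlerDifferential.D Λ A)) := by
            rw [KaehlerDifferential.span_range_derivation]; trivial
          induction hw using Submodule.span_induction generalizing b with
          | zero => simp
          | add w w' _ _ hw hw' =>
              rw [TensorProduct.tmul_add, TensorProduct.tmul_add, map_add, map_add, hw b, hw' b]
          | smul a w _ hw =>
              rw [TensorProduct.tmul_smul, TensorProduct.smul_tmul']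
              exact hw _
          | mem w hw =>
              obtain ⟨a, rfl⟩ := hw
              rw [LinearMap.baseChange_tmul, KaehlerDifferential.mapBaseChange_tmul,
                KaehlerDifferential.map_D]
              simp only [ret, LinearMap.liftBaseChange_tmul, map_smul,
                Derivation.liftKaehlerDifferential_comp_D]
              show c • b • TrivSqZeroExt.snd (v (algebraMap A B a)) = _
              rw [hvA]
              simp only [d]
              rw [← TensorProduct.tmul_smul, TensorProduct.smul_tmul', smul_eq_mul, mul_one,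
                TensorProduct.smul_tmul', smul_eq_mul, mul_one]

end Groth.Agent.S3442
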