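import Groth.Statements.S3449
import Groth.Agent.JacEquidimLib.Basic

set_option autoImplicit false
open CategoryTheory AlgebraicGeometry
universe u
open EGA43

namespace Groth.Agent.S3449

/-- Let S be a locally Noetherian scheme which is Jacobson, whose local rings are universally catenary,
and whose irreducible components S' are equidimensional in the sense that for every closed point s
of S' the dimension of S' equals the dimension of S' at s (the Krull dimension of the set of
generizations of s inside S'). Let X and Y be S-schemes, each locally of finite type over the base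
S, and let f : X ⟶ Y be a morphism over S, with X irreducible and f dominant; let η be the generic
point of Y and e the dimension of the fibre over η. Then dim X = dim Y + e. -/
theorem result {X Y S : Scheme.{u}} [IsLocallyNoetherian S]
    [JacobsonSpace S] (h2 : ∀ s : S, CAlg.IsUniversallyCatenary (S.presheaf.stalk s))
    (h3 : ∀ S' ∈ irreducibleComponents (S : Type u), ∀ s ∈ S', IsClosed ({s} : Set S) →
      topologicalKrullDim (↥S' : Type u) = topologicalKrullDim ↥{t : S | t ∈ S' ∧ t ⤳ s})
    (p : X ⟶ S) (q : Y ⟶ S) [LocallyOfFiniteType p] [LocallyOfFiniteType q] (f : X ⟶ Y) (hf : f ≫ q = p)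
    [IrreducibleSpace X] [IrreducibleSpace Y] [IsDominant f] :
    topologicalKrullDim (X : Type u) =
      topologicalKrullDim (Y : Type u) + topologicalKrullDim ↥(f.fiber (genericPoint Y)) := by
  haveI : JacobsonSpace Y := LocallyOfFiniteType.jacobsonSpace q
  haveI : JacobsonSpace X := LocallyOfFiniteType.jacobsonSpace p
  haveI : LocallyOfFiniteType f := by
    have : LocallyOfFiniteType (f ≫ q) := by rw [hf]; infer_instance
    exact locallyOfFiniteType_of_comp f q
  haveI : IsLocallyNoetherian Y := LocallyOfFiniteType.isLocallyNoetherian q
  haveI : IsLocallyNoetherian X := LocallyOfFiniteType.isLocallyNoetherian p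
  have hd : DenseRange f := f.denseRange
  obtain ⟨n, -, hn, -⟩ := DimFormulaLib.genericFibre_dim f hd
  rw [hn, DimFormulaLib.topologicalKrullDim_eq_iSup_range_add f hd
    (JacEquidimLib.universallyCatenary_stalks h2 q) n hn]
  congr 1
  refine le_antisymm (iSup₂_le fun y _ => ?_) ?_
  · rw [DimFormulaLib.topologicalKrullDim_eq_iSup_stalk]
    exact le_iSup (fun z : ↥Y => ringKrullDim (Y.presheaf.stalk z)) y
  · obtain ⟨x, -, hx⟩ := JacEquidimLib.exists_closed_specialization (X := X) (genericPoint X)
    rw [← JacEquidimLib.dim_stalk_closed_eq h2 h3 q (f.closePoints_subset_preimage_closedPoints hx)]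
    exact le_iSup₂ (f := fun y (_ : y ∈ Set.range f) => ringKrullDim (Y.presheaf.stalk y)) (f x) ⟨x, rfl⟩

end Groth.Agent.S3449
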