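import Groth.Statements.S5166
import Groth.Agent.SmallAlgLib.Primes

set_option autoImplicit false
universe u
open LocCoh

namespace Groth.Agent.S5166

/-- In its local form at a point y ∈ Y (A = O_{X,y}). Let A be a Noetherian local ring and I ≠ A an
ideal contained in no minimal prime of A. Then some prime p ⊉ I has dim A/p = 1. -/
theorem result (A : Type u) [CommRing A] [IsLocalRing A] [IsNoetherianRing A] (I : Ideal A) (hI : I ≠ ⊤) (hdense : ∀ q ∈ minimalPrimes A, ¬ I ≤ q) : ∃ p : PrimeSpectrum A, ¬ I ≤ p.asIdeal ∧ ringKrullDim (A ⧸ p.asIdeal) = 1 := by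
  classical
  obtain ⟨q, hq⟩ := (minimalPrimes A).eq_empty_or_nonempty.resolve_left
    (fun h => by obtain ⟨m, hm, -⟩ := Ideal.exists_minimalPrimes_le (I := (⊥ : Ideal A)) (J := IsLocalRing.maximalIdeal A) bot_le
                 exact (Set.eq_empty_iff_forall_notMem.1 h) m hm)
  obtain ⟨p, ⟨hp, hIp⟩, hmax⟩ := set_has_maximal_iff_noetherian.2 (inferInstance : IsNoetherian A A)
    {p : Ideal A | p.IsPrime ∧ ¬ I ≤ p} ⟨q, hq.1.1, hdense q hq⟩
  refine ⟨⟨p, hp⟩, hIp, ?_⟩
  haveI := hp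
  obtain ⟨a, haI, hap⟩ := Set.not_subset.1 hIp
  let m := IsLocalRing.maximalIdeal A
  have hIm : I ≤ m := IsLocalRing.le_maximalIdeal hI
  haveI : IsLocalRing (A ⧸ p) := IsLocalRing.of_surjective' (Ideal.Quotient.mk p) Ideal.Quotient.mk_surjective
  haveI : IsLocalHom (Ideal.Quotient.mk p) := IsLocalHom.of_surjective _ Ideal.Quotient.mk_surjective
  have hpm : p ≤ m := IsLocalRing.le_maximalIdeal hp.ne_top
  have hmq : m.map (Ideal.Quotient.mk p) = IsLocalRing.maximalIdeal (A ⧸ p) := by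
    haveI : (m.map (Ideal.Quotient.mk p)).IsPrime :=
      Ideal.map_isPrime_of_surjective Ideal.Quotient.mk_surjective (by rwa [Ideal.mk_ker])
    refine le_antisymm (IsLocalRing.le_maximalIdeal Ideal.IsPrime.ne_top') fun x hx => ?_
    obtain ⟨x, rfl⟩ := Ideal.Quotient.mk_surjective x
    exact Ideal.mem_map_of_mem _ fun hu => hx (hu.map _)
  have hnf : IsLocalRing.maximalIdeal (A ⧸ p) ≠ ⊥ := fun h => hap (Ideal.Quotient.eq_zero_iff_mem.1 (by
    rw [← hmq] at h
    exact (Submodule.mem_bot _).1 (h ▸ Ideal.mem_map_of_mem _ (hIm haI))))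
  rw [← IsLocalRing.maximalIdeal_height_eq_ringKrullDim]
  have h1 : (IsLocalRing.maximalIdeal (A ⧸ p)).height ≤ 1 := by
    by_contra hlt
    rw [not_le, ← hmq] at hlt
    obtain ⟨t, ht, hpt, htm, hat⟩ := SmallAlgLib.exists_prime_between' A p m hpm hlt a (hIm haI) hap
    exact hmax t ⟨ht, fun h => hat (h haI)⟩ hpt
  have h0 : (IsLocalRing.maximalIdeal (A ⧸ p)).height ≠ 0 := fun h => hnf (by
    rw [Ideal.height_eq_zero_iff, IsDomain.minimalPrimes_eq_singleton_bot, Set.mem_singleton_iff] at h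
    exact h)
  rw [le_antisymm h1 (Order.one_le_iff_pos.2 (pos_iff_ne_zero.2 h0))]
  rfl

end Groth.Agent.S5166
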