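import Groth.Statements.S3450
import Mathlib
import Groth.Agent.S5166
import Groth.Agent.ChevLemLib.Basic
import Groth.Agent.FiniteCompleteLib.Basic
import Groth.Agent.NagataCompleteLib.Complete
import Groth.Agent.NormalTensor.Henselian

set_option autoImplicit false
universe u
open EGA43

namespace Groth.Agent.S3450

/-- Let A be a Noetherian local ring which is reduced, complete (for the topology defined by its maximal
ideal m) and not a field. Then for every n there are finitely many local homomorphisms φ_i : A → V_i
into discrete valuation rings, each making V_i a finite A-algebra, such that the intersection of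
their kernels is contained in mⁿ. (Equivalently: such finite intersections form a base of
neighbourhoods of 0 for the m-adic topology.) -/
theorem result (A : Type u) [CommRing A] [IsNoetherianRing A]
    [IsLocalRing A] [IsReduced A] [IsAdicComplete (IsLocalRing.maximalIdeal A) A] (hA : ¬ IsField A) (n : ℕ) :
    ∃ (k : ℕ) (V : Fin k → Type u) (_ : ∀ i, CommRing (V i)) (_ : ∀ i, IsDomain (V i))
      (_ : ∀ i, IsDiscreteValuationRing (V i)) (φ : ∀ i, A →+* V i),
      (∀ i, IsLocalHom (φ i) ∧ (φ i).Finite) ∧
        ⨅ i, RingHom.ker (φ i) ≤ IsLocalRing.maximalIdeal A ^ n := by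
  classical
  let S := {p : Ideal A // p.IsPrime ∧ ringKrullDim (A ⧸ p) = 1}
  -- enough one-dimensional primes
  have hsep : ∀ x : A, x ≠ 0 → ∃ p : S, x ∉ p.1 := by
    intro x hx
    obtain ⟨q, hq, hxq⟩ : ∃ q ∈ minimalPrimes A, x ∉ q := by
      by_contra hcon
      push Not at hcon
      have : x ∈ nilradical A := by
        rw [nilradical_eq_sInf, Submodule.mem_sInf]
        intro J hJ
        haveI : Ideal.IsPrime J := hJ
        obtain ⟨P, hP, hPJ⟩ := Ideal.exists_minimalPrimes_le (I := (⊥ : Ideal A)) (J := J) (bot_le)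
        exact hPJ (hcon P hP)
      exact hx (by simpa [nilradical_eq_zero] using this)
    haveI := hq.1.1
    haveI : IsLocalRing (A ⧸ q) := IsLocalRing.of_surjective' _ Ideal.Quotient.mk_surjective
    have hqm : q ≠ IsLocalRing.maximalIdeal A := by
      rintro rfl
      apply hA
      rw [IsLocalRing.isField_iff_maximalIdeal_eq, eq_bot_iff, ← Ideal.zero_eq_bot,
        ← nilradical_eq_zero A, nilradical_eq_sInf]
      refine le_sInf fun J hJ => ?_
      haveI : J.IsPrime := hJ
      exact hq.2 ⟨hJ, bot_le⟩ (IsLocalRing.le_maximalIdeal hJ.ne_top)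
    obtain ⟨g, hgm, hgq⟩ := SetLike.exists_of_lt
      (lt_of_le_of_ne (IsLocalRing.le_maximalIdeal hq.1.1.ne_top) hqm)
    have hh : Ideal.Quotient.mk q (x * g) ≠ 0 := by
      rw [Ne, Ideal.Quotient.eq_zero_iff_mem]
      exact fun h => (hq.1.1.mem_or_mem h).elim hxq hgq
    have hm : Ideal.Quotient.mk q (x * g) ∈ IsLocalRing.maximalIdeal (A ⧸ q) := by
      rw [← IsLocalRing.map_maximalIdeal_of_surjective _ Ideal.Quotient.mk_surjective]
      exact Ideal.mem_map_of_mem _ (Ideal.mul_mem_left _ _ hgm)
    obtain ⟨P, hP, hdim⟩ := Groth.Agent.S5166.result (A ⧸ q) (Ideal.span {Ideal.Quotient.mk q (x * g)})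
      (fun h => (IsLocalRing.maximalIdeal.isMaximal _).ne_top
        (top_le_iff.mp (h ▸ (Ideal.span_singleton_le_iff_mem _).mpr hm)))
      (fun Q hQ h => hh (by
        rw [IsDomain.minimalPrimes_eq_singleton_bot, Set.mem_singleton_iff] at hQ
        subst hQ
        simpa using (Ideal.span_singleton_le_iff_mem _).mp h))
    refine ⟨⟨P.asIdeal.comap (Ideal.Quotient.mk q), Ideal.IsPrime.comap _, ?_⟩, fun h => hP ?_⟩
    · have e : (A ⧸ q) ⧸ P.asIdeal ≃+* A ⧸ P.asIdeal.comap (Ideal.Quotient.mk q) := by
        refine (RingEquiv.trans ?_ (RingHom.quotientKerEquivOfSurjective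
          (f := (Ideal.Quotient.mk P.asIdeal).comp (Ideal.Quotient.mk q))
          (Ideal.Quotient.mk_surjective.comp Ideal.Quotient.mk_surjective))).symm
        exact Ideal.quotEquivOfEq (by
          rw [RingHom.ker_eq_comap_bot, ← Ideal.comap_comap, ← RingHom.ker_eq_comap_bot, Ideal.mk_ker])
      rw [← ringKrullDim_eq_of_ringEquiv e]
      exact hdim
    · rw [Ideal.span_singleton_le_iff_mem, map_mul]
      exact Ideal.mul_mem_right _ _ h
  -- finitely many suffice
  obtain ⟨F, hF⟩ := Groth.Agent.ChevLemLib.exists_le_pow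
    (fun F : Finset S => F.inf fun p => p.1)
    (fun F G => ⟨F ∪ G, le_inf (Finset.inf_mono Finset.subset_union_left)
      (Finset.inf_mono Finset.subset_union_right)⟩)
    (fun x hx => by
      by_contra h0
      obtain ⟨p, hp⟩ := hsep x h0
      exact hp (by simpa using hx {p}))
    n
  let e := F.equivFin.symm
  have hdat : ∀ p : S, ∃ (V : Type u) (_ : CommRing V) (_ : IsDomain V)
      (_ : IsDiscreteValuationRing V) (φ : A →+* V), IsLocalHom φ ∧ φ.Finite ∧ RingHom.ker φ = p.1 := by
    rintro ⟨p, hp, hdim⟩
    let R := A ⧸ p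
    haveI : IsLocalRing R := IsLocalRing.of_surjective' _ Ideal.Quotient.mk_surjective
    haveI : IsAdicComplete (IsLocalRing.maximalIdeal R) R :=
      FiniteCompleteLib.isAdicComplete_maximalIdeal A R
    let K := FractionRing R
    let C := integralClosure R K
    haveI : Module.Finite R C := NagataCompleteLib.isN2_complete R K inferInstance
    haveI : IsNoetherianRing C := IsNoetherianRing.of_finite R C
    haveI : IsFractionRing C K := integralClosure.isFractionRing_of_finite_extension K K
    haveI : IsIntegrallyClosed C := integralClosure.isIntegrallyClosedOfFiniteExtension K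
    haveI : HenselianLocalRing R := Hensel.henselianRing_maximalIdeal_iff.mp inferInstance
    haveI : IsLocalRing C := NormalTensor.isLocalRing_of_finite_domain R C
    have hRC : Function.Injective (algebraMap R C) := fun a b h =>
      IsFractionRing.injective R K (congrArg Subtype.val h)
    have hRnf : ¬ IsField R := fun h => by
      rw [ringKrullDim_eq_zero_of_isField h] at hdim
      exact zero_ne_one hdim
    have hnf : ¬ IsField C := fun h => hRnf (isField_of_isIntegral_of_isField hRC h)
    haveI : Ring.KrullDimLE 1 R := Ring.krullDimLE_iff.mpr hdim.le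
    haveI : IsDiscreteValuationRing C := by
      have hT : (IsIntegrallyClosed C ∧ ∃! P : Ideal C, P ≠ ⊥ ∧ P.IsPrime) ↔
          IsDiscreteValuationRing C := (IsDiscreteValuationRing.TFAE C hnf).out 3 0
      refine hT.mp ⟨inferInstance, ?_⟩
      refine ⟨IsLocalRing.maximalIdeal C, ⟨fun h => hnf (IsLocalRing.isField_iff_maximalIdeal_eq.mpr h),
        inferInstance⟩, fun P hP => ?_⟩
      haveI := hP.2
      refine IsLocalRing.eq_maximalIdeal (Ideal.isMaximal_of_isIntegral_of_isMaximal_comap (R := R) P
        (Ring.krullDimLE_one_iff_of_noZeroDivisors.mp inferInstance _ ?_ inferInstance))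
      exact fun h => hP.1 (Ideal.eq_bot_of_comap_eq_bot h)
    haveI : IsLocalHom (algebraMap R C) := RingHom.IsIntegral.isLocalHom
      (algebraMap_isIntegral_iff.mpr inferInstance) hRC
    haveI := IsLocalHom.of_surjective (Ideal.Quotient.mk p) Ideal.Quotient.mk_surjective
    refine ⟨C, inferInstance, inferInstance, inferInstance,
      (algebraMap R C).comp (Ideal.Quotient.mk p), RingHom.isLocalHom_comp _ _,
      RingHom.Finite.comp (RingHom.finite_algebraMap.mpr inferInstance)
        (RingHom.Finite.of_surjective _ Ideal.Quotient.mk_surjective), ?_⟩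
    rw [← RingHom.comap_ker, (RingHom.injective_iff_ker_eq_bot _).mp hRC, ← RingHom.ker_eq_comap_bot,
      Ideal.mk_ker]
  choose V i1 i2 i3 φ hφ using hdat
  refine ⟨F.card, fun j => V (e j).1, fun j => i1 _, fun j => i2 _, fun j => i3 _, fun j => φ (e j).1,
    fun j => ⟨(hφ _).1, (hφ _).2.1⟩, ?_⟩
  intro x hx
  refine hF ?_
  rw [Submodule.mem_finsetInf]
  intro p hp
  have := (Submodule.mem_iInf _).mp hx (F.equivFin ⟨p, hp⟩)
  rw [(hφ _).2.2] at this
  simpa [e] using this

end Groth.Agent.S3450
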