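import Groth.Statements.S3453
import Groth.Agent.FibreDepth.ConstrScheme
-- import your own Groth.Agent.* helpers here

set_option autoImplicit false
open CategoryTheory AlgebraicGeometry
universe u
open EGA43

namespace Groth.Agent.S3453

/-- Let f : X ⟶ S be locally of finite presentation and n a natural number. The set of points x of X
such that the local ring of the fibre of f through x at x has codepth n (its Krull dimension equals
its depth plus n) is locally constructible in X. -/
theorem result {X S : Scheme.{u}} (f : X ⟶ S)
    [LocallyOfFinitePresentation f] (n : ℕ) :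
    Topology.IsLocallyConstructible {x : X |
      ringKrullDim ((f.fiber (f.base x)).presheaf.stalk (f.asFiber x)) =
        ((LocCoh.depth ((f.fiber (f.base x)).presheaf.stalk (f.asFiber x)) ((f.fiber (f.base x)).presheaf.stalk (f.asFiber x)) : ℕ∞) : WithBot ℕ∞) + n} := by
  refine Groth.Agent.FibreDepth.isLocallyConstructible_of_embeddings _ fun x => ?_
  obtain ⟨𝔐, hx⟩ := Groth.Agent.FibreDepth.exists_model_self f x
  refine ⟨𝔐.B, 𝔐.commB, 𝔐.emb, 𝔐.isOpenEmbedding, hx, 𝔐.isConstructible_coprof_eq (fun z => ?_) n⟩
  exact ne_bot_of_le_ne_bot WithBot.zero_ne_bot ringKrullDim_nonneg_of_nontrivial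

end Groth.Agent.S3453
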