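import Groth.Statements.S3456
import Groth.Agent.OpenDim.EquidimCrit
-- import your own Groth.Agent.* helpers here

set_option autoImplicit false
open CategoryTheory AlgebraicGeometry
universe u
open EGA43

namespace Groth.Agent.S3456

/-- Let Y be locally Noetherian, f : X ⟶ Y locally of finite type and x a point of X; let X_j run over
the (finitely many) irreducible components of X containing x. Then f is equidimensional at x if and
only if there is a natural number e such that for every X_j: the closure Y_j of f(X_j) is an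
irreducible component of Y; for every point η of Y whose closure equals Y_j (i.e. the generic point
of Y_j), the fibre X_j ∩ f⁻¹(η) has topological Krull dimension e; and the local dimension at x of
X_j ∩ f⁻¹(f x) is e. All subsets of X carry the induced topology. -/
theorem result {X Y : Scheme.{u}} [IsLocallyNoetherian Y] (f : X ⟶ Y)
    [LocallyOfFiniteType f] (x : X) :
    EGA43.IsEquidimAt f x ↔
      ∃ e : ℕ, ∀ Xj ∈ irreducibleComponents (X : Type u), ∀ hx : x ∈ Xj,
        closure (f.base '' Xj) ∈ irreducibleComponents (Y : Type u) ∧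
        (∀ η : Y, closure ({η} : Set Y) = closure (f.base '' Xj) →
          topologicalKrullDim ↥(Xj ∩ f.base ⁻¹' {η}) = e) ∧
        FlatMor.localDim ↥(Xj ∩ f.base ⁻¹' {f.base x}) ⟨x, ⟨hx, Set.mem_singleton (f.base x)⟩⟩ = e := by
  constructor
  · intro h
    obtain ⟨e, U, hxU, hgen, -, hdim⟩ := Groth.Agent.OpenDim.generic_of_isEquidimAt f h
    refine ⟨e, fun Xj hXj hx => ?_⟩
    obtain ⟨ξ, hξ, hξmax, hξw⟩ := Groth.Agent.OpenDim.exists_component_generic hXj
    subst hξ
    obtain ⟨hfmax, -, htr⟩ := hgen ξ ((hξw x hx).mem_open U.isOpen hxU) hξmax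
    rw [Groth.Agent.OpenDim.closure_image_closure_point]
    refine ⟨Groth.Agent.DimFormulaLib.closure_mem_irreducibleComponents hfmax, fun η hη => ?_, ?_⟩
    · obtain rfl : η = f ξ :=
        (show IsGenericPoint η (closure {f ξ}) from hη).eq (show IsGenericPoint (f ξ) (closure {f ξ}) from rfl)
      rw [Groth.Agent.OpenDim.dim_generic_fibre, htr]
    · obtain ⟨w, hξw', hwx, hfw, hle⟩ := Groth.Agent.OpenDim.exists_trd_ge f (hξw x hx)
      refine le_antisymm (Groth.Agent.OpenDim.localDim_inter_le f _ isClosed_closure _ fun z hz hzx => ?_) ?_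
      · rw [← hdim]
        exact Groth.Agent.OpenDim.trd_le_fibreDimAt f hz.2 hzx
      · refine le_trans ?_ (Groth.Agent.OpenDim.trd_le_localDim_inter f _ isClosed_closure _ (z := w)
          ⟨specializes_iff_mem_closure.1 hξw', hfw⟩ hwx)
        rw [← htr]
        exact_mod_cast hle
  · rintro ⟨e, h⟩
    refine Groth.Agent.OpenDim.isEquidimAt_of_generic f x e (fun ξ hξ hξx => ?_) ?_
    · obtain ⟨hcomp, hdim, -⟩ := h _ (Groth.Agent.DimFormulaLib.closure_mem_irreducibleComponents hξ)
        (specializes_iff_mem_closure.1 hξx)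
      rw [Groth.Agent.OpenDim.closure_image_closure_point] at hcomp hdim
      refine ⟨Groth.Agent.OpenDim.isMaxPt_of_closure_mem hcomp, ?_⟩
      have := (Groth.Agent.OpenDim.dim_generic_fibre f).symm.trans (hdim (f ξ) rfl)
      exact_mod_cast this
    · refine Groth.Agent.OpenDim.fibreDimAt_le f fun z hz hzx => ?_
      obtain ⟨ξ, hξz, hξ⟩ := Groth.Agent.DimFormulaLib.exists_maximal_point z
      obtain ⟨-, -, hloc⟩ := h _ (Groth.Agent.DimFormulaLib.closure_mem_irreducibleComponents hξ)
        (specializes_iff_mem_closure.1 (hξz.trans hzx))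
      rw [← hloc]
      exact Groth.Agent.OpenDim.trd_le_localDim_inter f _ isClosed_closure _ (z := z)
        ⟨specializes_iff_mem_closure.1 hξz, hz⟩ hzx

end Groth.Agent.S3456
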