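import Groth.Statements.S3457
import Groth.Agent.JacEquidimLib.StalkQuot
import Groth.Agent.DimFormulaLib.Equidim

set_option autoImplicit false
open CategoryTheory AlgebraicGeometry
universe u
open EGA43

namespace Groth.Agent.S3457

/-- Let Y be locally Noetherian, f : X ⟶ Y locally of finite type, x a point of X with y = f x, and
suppose f is equidimensional at x and O_{Y,y} is universally catenary. Let e be the local dimension
at x of the fibre X_y. Then for every minimal prime 𝔭 of O_{X,x} (that is, for every irreducible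
component X_j of X through x, with O_{X_j,x} = O_{X,x}/𝔭 and O_{Y_j,y} = O_{Y,y}/(𝔭 ∩ O_{Y,y})) one
has dim(O_{X,x}/𝔭) + trdeg_{κ(y)} κ(x) = dim(O_{Y,y}/(𝔭 ∩ O_{Y,y})) + e. -/
theorem result {X Y : Scheme.{u}} [IsLocallyNoetherian Y] (f : X ⟶ Y)
    [LocallyOfFiniteType f] (x : X) (h : EGA43.IsEquidimAt f x)
    (hcat : CAlg.IsUniversallyCatenary (Y.presheaf.stalk (f.base x))) :
    letI : Algebra (Y.residueField (f.base x)) (X.residueField x) := (f.residueFieldMap x).hom.toAlgebra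
    ∀ 𝔭 ∈ minimalPrimes (X.presheaf.stalk x),
      ringKrullDim (X.presheaf.stalk x ⧸ 𝔭) +
          (Cardinal.toNat (Algebra.trdeg (Y.residueField (f.base x)) (X.residueField x)) : WithBot ℕ∞) =
        ringKrullDim (Y.presheaf.stalk (f.base x) ⧸ 𝔭.comap (f.stalkMap x).hom) + FlatMor.fibreDimAt f x := by
  intro 𝔭 h𝔭
  haveI : 𝔭.IsPrime := h𝔭.1.1
  obtain ⟨c, e, he, hP⟩ := DimFormulaLib.equidimAt_data f x h
  haveI := c.isNoetherianRing
  let p0 : PrimeSpectrum (X.presheaf.stalk x) := ⟨𝔭, inferInstance⟩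
  have hξx : X.fromSpecStalk x p0 ⤳ x := by
    have : X.fromSpecStalk x p0 ∈ Set.range (X.fromSpecStalk x) := ⟨_, rfl⟩
    rwa [Scheme.range_fromSpecStalk] at this
  obtain ⟨P, hPq, hPξ⟩ := c.exists_le hξx
  have hmax : ∀ w : X, w ⤳ c.j P → w = c.j P := fun w hw => by
    rw [hPξ] at hw ⊢
    obtain ⟨r, rfl⟩ : w ∈ Set.range (X.fromSpecStalk x) := by
      rw [Scheme.range_fromSpecStalk]; exact hw.trans hξx
    have h1 : @LE.le (PrimeSpectrum (X.presheaf.stalk x)) _ r p0 := (PrimeSpectrum.le_iff_specializes _ _).2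
      ((X.fromSpecStalk x).isEmbedding.isInducing.specializes_iff.1 hw)
    have h2 : @LE.le (PrimeSpectrum (X.presheaf.stalk x)) _ p0 r := h𝔭.2 ⟨r.isPrime, bot_le⟩ h1
    rw [show r = p0 from le_antisymm (α := PrimeSpectrum (X.presheaf.stalk x)) h1 h2]
  obtain ⟨hπ, hT⟩ := hP P ((c.isMin_iff hPq).2 hmax) hPq
  obtain ⟨a, b, d, t', -, -, -, ht', hloc, -, -, -, -⟩ := c.dims
  obtain ⟨r, b', hr, hb', -, heq⟩ := DimFormulaLib.formula_component hPq e t' hT ht'
  have heq' := heq (c.catAbove hcat)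
  have h1 := JacEquidimLib.ringKrullDim_quotient_stalk_eq c.j hPq c.hq p0 hPξ
  have h2 := JacEquidimLib.ringKrullDim_quotient_stalk_eq c.i (Ideal.comap_mono hPq :
    PrimeSpectrum.comap (algebraMap c.A c.B) P ≤ c.p) c.hp
    (PrimeSpectrum.comap (f.stalkMap x).hom p0)
    (by rw [← c.apply_j, hPξ]
        exact (congrArg (fun g : Spec (X.presheaf.stalk x) ⟶ Y => g p0)
          (Scheme.SpecMap_stalkMap_fromSpecStalk f (x := x))).symm)
  rw [show c.p = PrimeSpectrum.comap (algebraMap c.A c.B) c.q from rfl, hb'] at h2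
  rw [hr] at h1
  have htr : Cardinal.toNat (DimFormulaLib.resTrdegAt f x) = t' := by
    rw [c.resTrdegAt_self]
    exact (congrArg Cardinal.toNat ht').trans (Cardinal.toNat_natCast t')
  rw [DimFormulaLib.resTrdegAt] at htr
  rw [h1, he]
  erw [h2, htr]
  exact_mod_cast heq'

end Groth.Agent.S3457
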