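import Groth.Statements.S3458
import Groth.Agent.OpenDim.SectionConst
-- import your own Groth.Agent.* helpers here

set_option autoImplicit false
open CategoryTheory AlgebraicGeometry
universe u
open EGA43

namespace Groth.Agent.S3458

/-- Let Y be locally Noetherian, f : X ⟶ Y locally of finite type, g a section of f, and X⁰_y the
connected component of f⁻¹(y) containing g(y). Suppose that every X⁰_y is geometrically irreducible:
for every field extension K of κ(y), the preimage of X⁰_y in the base change of the fibre X_y to K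
is irreducible. Then for every point y such that z ↦ dim X⁰_z is constant on a neighbourhood of y, f
is universally open at every point of X⁰_y. -/
theorem result {X Y : Scheme.{u}} [IsLocallyNoetherian Y]
    (f : X ⟶ Y) [LocallyOfFiniteType f] (g : Y ⟶ X) (hg : g ≫ f = 𝟙 Y)
    (hgi : ∀ (y : Y) (K : Type u) [Field K] [Algebra (IsLocalRing.ResidueField (Y.presheaf.stalk y)) K],
      IsIrreducible ((FBase.bcπ (f.fiberToSpecResidueField y) K ≫ f.fiberι y).base ⁻¹' (connectedComponentIn (f.base ⁻¹' {y}) (g.base y))))
    (y : Y)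
    (hc : ∃ V ∈ nhds y, ∀ z ∈ V, topologicalKrullDim ↥(connectedComponentIn (f.base ⁻¹' {z}) (g.base z)) = topologicalKrullDim ↥(connectedComponentIn (f.base ⁻¹' {y}) (g.base y))) :
    ∀ x ∈ connectedComponentIn (f.base ⁻¹' {y}) (g.base y), EGA43.IsUnivOpenAt f x := by
  intro x hx
  obtain ⟨V, hV, hconst⟩ := hc
  refine Groth.Agent.OpenDim.univOpenAt_comp_of_const f g hg y (hgi y) (fun y' hy' => ?_) hx
  have h := hconst y' (mem_of_mem_nhds (hy'.nhds_le_nhds hV))
  rw [Groth.Agent.OpenDim.dim_comp_eq_fibreDimAt f g hg y' (Groth.Agent.OpenDim.isIrreducible_of_geom f (hgi y')),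
    Groth.Agent.OpenDim.dim_comp_eq_fibreDimAt f g hg y (Groth.Agent.OpenDim.isIrreducible_of_geom f (hgi y))] at h
  exact h.ge

end Groth.Agent.S3458
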