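import Groth.Statements.S3459
import Groth.Agent.OpenDim.ReducedUnibranch
import Groth.Agent.OpenDim.SectionDVR
import Groth.Agent.OpenDim.Conv
import Groth.Agent.GenIrredLib.UnivOpenGeomRed

set_option autoImplicit false
set_option linter.style.haveILetI false
open CategoryTheory AlgebraicGeometry
universe u
open EGA43
open CategoryTheory CategoryTheory.Limits
open Groth.Agent

namespace Groth.Agent.S3459

/-- Let Y be an irreducible locally Noetherian scheme with generic point η, f : X ⟶ Y locally of finite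
type, x a point of X and y = f x. Suppose (1) x lies on exactly one irreducible component Z of the
fibre X_y, and (2) X_y is geometrically reduced at the generic point of Z. Call an irreducible
component X' of X containing x admissible when the local dimension at x of X' ∩ f⁻¹(y) equals that
of f⁻¹(y) and the restriction of f to X' (with its reduced structure) is universally open at the
generic points of the irreducible components of X' ∩ f⁻¹(y) containing x. Then there is at most one
admissible X'; and if X' is admissible, the fibre X_η is geometrically reduced at the generic point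
of X'. -/
theorem result {X Y : Scheme.{u}} [IrreducibleSpace Y]
    [IsLocallyNoetherian Y] (f : X ⟶ Y) [LocallyOfFiniteType f] (x : X)
    (h1 : ∃! Zc : Set ↥(f.fiber (f.base x)), Zc ∈ irreducibleComponents (↥(f.fiber (f.base x)) : Type u) ∧ f.asFiber x ∈ Zc)
    (h2 : ∀ z : ↥(f.fiber (f.base x)), f.asFiber x ∈ closure {z} →
      (∀ z' : ↥(f.fiber (f.base x)), z ∈ closure {z'} → z' = z) →
      FBase.IsGeomReducedAt (f.fiberToSpecResidueField (f.base x)) z) :
    letI adm : TopologicalSpace.Closeds X → Prop := fun X' =>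
      (X' : Set X) ∈ irreducibleComponents (X : Type u) ∧ ∃ hx : x ∈ X',
        FlatMor.localDim ↥((X' : Set X) ∩ f.base ⁻¹' {f.base x}) ⟨x, ⟨hx, Set.mem_singleton (f.base x)⟩⟩ =
          FlatMor.fibreDimAt f x ∧
        ∀ w : ↥(Scheme.IdealSheafData.vanishingIdeal X').subscheme,
          f.base ((Scheme.IdealSheafData.vanishingIdeal X').subschemeι.base w) = f.base x →
          x ∈ closure {(Scheme.IdealSheafData.vanishingIdeal X').subschemeι.base w} →
          (∀ t : X, t ∈ (X' : Set X) → f.base t = f.base x →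
              (Scheme.IdealSheafData.vanishingIdeal X').subschemeι.base w ∈ closure {t} →
              t = (Scheme.IdealSheafData.vanishingIdeal X').subschemeι.base w) →
          EGA43.IsUnivOpenAt ((Scheme.IdealSheafData.vanishingIdeal X').subschemeι ≫ f) w
    {X' : TopologicalSpace.Closeds X | adm X'}.Subsingleton ∧
      ∀ X' : TopologicalSpace.Closeds X, adm X' →
        ∀ ζ : ↥(f.fiber (genericPoint Y)), closure {(f.fiberι (genericPoint Y)).base ζ} = (X' : Set X) →
          FBase.IsGeomReducedAt (f.fiberToSpecResidueField (genericPoint Y)) ζ := by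
  set_option backward.isDefEq.respectTransparency false in
    classical
    haveI : IsLocallyNoetherian X := LocallyOfFiniteType.isLocallyNoetherian f
    obtain ⟨z, hfz, hzx, hzmax⟩ := OpenDim.exists_max_in_fibre f x
    have huniq : ∀ ζ : X, f ζ = f x → ζ ⤳ x → OpenDim.MaxInFibre f ζ → ζ = z := by
      have hcomp : ∀ ζ : X, f ζ = f x → ζ ⤳ x → OpenDim.MaxInFibre f ζ →
          ∃ c : f.fiber (f.base x), f.fiberι _ c = ζ ∧
            closure ({c} : Set ↥(f.fiber (f.base x))) ∈ irreducibleComponents (↥(f.fiber (f.base x)) : Type u) ∧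
            f.asFiber x ∈ closure ({c} : Set ↥(f.fiber (f.base x))) := by
        intro ζ hζ hζx hmax
        obtain ⟨c, rfl⟩ : ζ ∈ Set.range (f.fiberι (f.base x)).base := by rw [f.range_fiberι]; exact hζ
        refine ⟨c, rfl, DimFormulaLib.closure_mem_irreducibleComponents fun c' hc' => ?_, ?_⟩
        · refine (f.fiberι (f.base x)).isEmbedding.injective (hmax _ ?_ (hc'.map (f.fiberι _).continuous))
          exact ((f.range_fiberι (f.base x)).le ⟨c', rfl⟩).trans hζ.symm
        · rw [← specializes_iff_mem_closure, ← (f.fiberι (f.base x)).isEmbedding.isInducing.specializes_iff,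
            f.fiberι_asFiber]
          exact hζx
      intro ζ hζ hζx hmax
      obtain ⟨c, rfl, hc1, hc2⟩ := hcomp ζ hζ hζx hmax
      obtain ⟨d, rfl, hd1, hd2⟩ := hcomp z hfz hzx hzmax
      obtain ⟨W, -, hW⟩ := h1
      have he : closure ({c} : Set ↥(f.fiber (f.base x))) = closure {d} :=
        (hW _ ⟨hc1, hc2⟩).trans (hW _ ⟨hd1, hd2⟩).symm
      exact congrArg _ ((show IsGenericPoint c (closure {d}) from he).eq rfl)
    have hdimx : FlatMor.fibreDimAt f x = (OpenDim.trd f z : WithBot ℕ∞) := by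
      obtain ⟨ζ, hζ, hζx, hζmax, hd⟩ := OpenDim.exists_maxInFibre_fibreDimAt f x
      rw [hd, huniq ζ hζ hζx hζmax]
    have hred : z ∈ GenIrredLib.geomRedSet f :=
      OpenDim.forall_max_of_fibre f x (fun ζ => ζ ∈ GenIrredLib.geomRedSet f)
        (fun c hc hcm => (GenIrredLib.fiberι_mem_geomRedSet_iff f _ c).2 (h2 c hc hcm)) z hfz hzx hzmax
    -- the data of an admissible component
    have key : ∀ X' : TopologicalSpace.Closeds X, (X' : Set X) ∈ irreducibleComponents (X : Type u) →
        ∀ hx : x ∈ X', FlatMor.localDim ↥((X' : Set X) ∩ f.base ⁻¹' {f.base x}) ⟨x, ⟨hx, Set.mem_singleton (f.base x)⟩⟩ =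
            FlatMor.fibreDimAt f x →
          (∀ w : ↥(Scheme.IdealSheafData.vanishingIdeal X').subscheme,
            f.base ((Scheme.IdealSheafData.vanishingIdeal X').subschemeι.base w) = f.base x →
            x ∈ closure {(Scheme.IdealSheafData.vanishingIdeal X').subschemeι.base w} →
            (∀ t : X, t ∈ (X' : Set X) → f.base t = f.base x →
                (Scheme.IdealSheafData.vanishingIdeal X').subschemeι.base w ∈ closure {t} →
                t = (Scheme.IdealSheafData.vanishingIdeal X').subschemeι.base w) →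
            EGA43.IsUnivOpenAt ((Scheme.IdealSheafData.vanishingIdeal X').subschemeι ≫ f) w) →
        ∃ (ξ : X), closure ({ξ} : Set X) = (X' : Set X) ∧ OpenDim.IsMaxPt ξ ∧ ξ ⤳ z ∧ f ξ = genericPoint Y ∧
          EGA43.IsUnivOpenAt f z ∧
          ∃ (Z : Scheme.{u}) (i : Z ⟶ X) (_ : IsClosedImmersion i) (v : Z), i v = z ∧
            Set.range i = (X' : Set X) ∧ EGA43.IsUnivOpenAt (i ≫ f) v := by
      intro X' hX' hx hdim hopen
      obtain ⟨ξ, hξ, hξmax, hξgen⟩ := OpenDim.exists_component_generic hX'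
      have hzX : z ∈ (X' : Set X) := by
        by_contra hz
        have hlt : ∀ w ∈ (X' : Set X) ∩ f.base ⁻¹' {f.base x}, w ⤳ x → OpenDim.trd f w < OpenDim.trd f z := by
          rintro w ⟨hwX, hfw⟩ hwx
          obtain ⟨w₀, hfw₀, hw₀w, hw₀max⟩ := OpenDim.exists_max_in_fibre f w
          have hw₀ : w₀ = z := huniq w₀ (hfw₀.trans hfw) (hw₀w.trans hwx) hw₀max
          subst hw₀
          exact OpenDim.trd_lt f hw₀w (fun h => hz (h ▸ hwX)) hfw₀
        have hpos := hlt x ⟨hx, rfl⟩ (specializes_refl x)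
        have hle := OpenDim.localDim_inter_le f (X' : Set X) X'.isClosed (y := f.base x) ⟨x, hx, rfl⟩
          (D := ((OpenDim.trd f z - 1 : ℕ) : WithBot ℕ∞)) fun w hw hwx => by
            have := hlt w hw hwx
            exact_mod_cast (by omega : OpenDim.trd f w ≤ OpenDim.trd f z - 1)
        have hle2 : (OpenDim.trd f z : WithBot ℕ∞) ≤ ((OpenDim.trd f z - 1 : ℕ) : WithBot ℕ∞) :=
          (hdimx.symm.trans hdim.symm).le.trans hle
        have : OpenDim.trd f z ≤ OpenDim.trd f z - 1 := by exact_mod_cast hle2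
        omega
      let i := (Scheme.IdealSheafData.vanishingIdeal X').subschemeι
      have hi : Set.range i = (X' : Set X) := by
        rw [Scheme.IdealSheafData.range_subschemeι, Scheme.IdealSheafData.coe_support_vanishingIdeal]
      obtain ⟨v, hv⟩ : z ∈ Set.range i := by rw [hi]; exact hzX
      have hvo : EGA43.IsUnivOpenAt (i ≫ f) v := hopen v ((congrArg f.base hv).trans hfz)
        (by rw [hv]; exact specializes_iff_mem_closure.1 hzx)
        (fun t _ hft hs => by
          rw [hv] at hs ⊢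
          exact hzmax t (hft.trans hfz.symm) (specializes_iff_mem_closure.2 hs))
      obtain ⟨t, htv, hft, -⟩ := OpenDim.exists_generization_of_univOpenAt (i ≫ f) v hvo (genericPoint Y)
        (genericPoint_specializes _)
      have hξt : ξ ⤳ i t := by
        rw [specializes_iff_mem_closure, hξ, ← hi]; exact ⟨t, rfl⟩
      refine ⟨ξ, hξ, hξmax, hξt.trans (hv ▸ htv.map i.continuous), ?_, hv ▸ UnivOpenAtLib.univOpenAt_of_comp hvo,
        _, i, inferInstance, v, hv, hi, hvo⟩
      have h3 := hξt.map f.continuous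
      rw [show f (i t) = genericPoint Y from hft] at h3
      exact (h3.antisymm (genericPoint_specializes _)).eq
    refine ⟨fun X₁ hX₁ X₂ hX₂ => ?_, fun X' hX' ζ hζ => ?_⟩
    · obtain ⟨ξ₁, hξ₁, hm₁, hz₁, hf₁, huo, Z₁, i₁, _, v₁, hv₁, hr₁, ho₁⟩ := key X₁ hX₁.1 hX₁.2.fst hX₁.2.snd.1 hX₁.2.snd.2
      obtain ⟨ξ₂, hξ₂, hm₂, hz₂, hf₂, -, Z₂, i₂, _, v₂, hv₂, hr₂, ho₂⟩ := key X₂ hX₂.1 hX₂.2.fst hX₂.2.snd.1 hX₂.2.snd.2
      refine TopologicalSpace.Closeds.ext ?_
      suffices he : ξ₁ = ξ₂ by rw [← hξ₁, ← hξ₂, he]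
      by_cases hy : genericPoint Y = f x
      · rw [hzmax ξ₁ (hf₁.trans (hy.trans hfz.symm)) hz₁, hzmax ξ₂ (hf₂.trans (hy.trans hfz.symm)) hz₂]
      obtain ⟨A, _, _, _, k, hkc, hkg⟩ := UnivOpenAtLib.exists_dvr_specialization
        (genericPoint_specializes (f x)) hy
      let p₁ := pullback.fst f k
      let p₂ := pullback.snd f k
      have sq : IsPullback p₁ p₂ f k := IsPullback.of_hasPullback _ _
      haveI : LocallyOfFiniteType p₂ := MorphismProperty.pullback_snd _ _ inferInstance
      haveI : IsLocallyNoetherian (pullback f k) := LocallyOfFiniteType.isLocallyNoetherian p₂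
      obtain ⟨w₀, hw₀, hw₀'⟩ := Scheme.Pullback.exists_preimage_pullback (f := f) (g := k) z
        (IsLocalRing.closedPoint A) (hfz.trans hkc.symm)
      obtain ⟨w', hfw', hw'w₀, hw'max⟩ := OpenDim.exists_max_in_fibre p₂ w₀
      have hw'c : p₂ w' = IsLocalRing.closedPoint A := hfw'.trans hw₀'
      have hw'z : p₁ w' = z := by
        refine hzmax _ ?_ ?_
        · rw [← Scheme.Hom.comp_apply, sq.w, Scheme.Hom.comp_apply, hw'c, hkc, hfz]
        · have := hw'w₀.map p₁.continuous
          rwa [show p₁ w₀ = z from hw₀] at this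
      have hgen : ∀ (ξ : X) (Z : Scheme.{u}) (i : Z ⟶ X) [IsClosedImmersion i] (v : Z), i v = z →
          Set.range i = closure ({ξ} : Set X) → f ξ = genericPoint Y → EGA43.IsUnivOpenAt (i ≫ f) v →
          ∃ t, t ⤳ w' ∧ p₁ t = ξ := by
        intro ξ Z i _ v hv hi hfξ hvo
        obtain ⟨ξ', hξ'⟩ : ξ ∈ Set.range i := by rw [hi]; exact subset_closure rfl
        have sqZ : IsPullback (pullback.fst i p₁) (pullback.snd i p₁ ≫ p₂) (i ≫ f) k :=
          (IsPullback.of_hasPullback i p₁).paste_vert sq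
        obtain ⟨v', hv'₁, hv'₂⟩ := Scheme.Pullback.exists_preimage_pullback (f := i) (g := p₁) v w'
          (hv.trans hw'z.symm)
        have hop := UnivOpenAtLib.isOpenAt_of_isPullback hvo sqZ v' hv'₁
        haveI : LocallyOfFiniteType (pullback.snd i p₁ ≫ p₂) := inferInstance
        haveI : IsLocallyNoetherian (pullback i p₁) := LocallyOfFiniteType.isLocallyNoetherian (pullback.snd i p₁ ≫ p₂)
        obtain ⟨η', hη'⟩ : ∃ η' : Spec (CommRingCat.of A), η' ≠ IsLocalRing.closedPoint A :=
          ⟨(⟨⊥, Ideal.isPrime_bot⟩ : PrimeSpectrum A),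
            fun he => IsDiscreteValuationRing.not_a_field A (congrArg PrimeSpectrum.asIdeal he).symm⟩
        obtain ⟨t, htv, htη⟩ := (S3404.result (pullback.snd i p₁ ≫ p₂) v').1 hop η'
          (by rw [Scheme.Hom.comp_apply, hv'₂, hw'c]; exact IsLocalRing.specializes_closedPoint η')
        obtain ⟨t₀, ht₀f, ht₀t, ht₀max⟩ := OpenDim.exists_max_in_fibre (pullback.snd i p₁ ≫ p₂) t
        refine ⟨pullback.snd i p₁ t₀, hv'₂ ▸ (ht₀t.trans htv).map (pullback.snd i p₁).continuous, ?_⟩
        have h1 : pullback.fst i p₁ t₀ = ξ' := by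
          refine (OpenDim.maxInFibre_fst sqZ ht₀max _ ?_ ?_).symm
          · rw [Scheme.Hom.comp_apply, hξ', hfξ, ← Scheme.Hom.comp_apply, sqZ.w, Scheme.Hom.comp_apply, ht₀f,
              htη, hkg η' hη']
          · refine i.isEmbedding.isInducing.specializes_iff.1 ?_
            rw [hξ', specializes_iff_mem_closure, ← hi]
            exact ⟨_, rfl⟩
        rw [← Scheme.Hom.comp_apply, ← pullback.condition, Scheme.Hom.comp_apply, h1, hξ']
      obtain ⟨t₁, ht₁, hp₁⟩ := hgen ξ₁ Z₁ i₁ v₁ hv₁ (hr₁.trans hξ₁.symm) hf₁ ho₁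
      obtain ⟨t₂, ht₂, hp₂⟩ := hgen ξ₂ Z₂ i₂ v₂ hv₂ (hr₂.trans hξ₂.symm) hf₂ ho₂
      have hsob : ∀ t : ↥(pullback f k), ∃ ζ, OpenDim.IsMaxPt ζ ∧ ζ ⤳ t := fun t => by
        obtain ⟨ζ, hζ, hζgen⟩ := OpenDim.exists_component_generic
          (irreducibleComponent_mem_irreducibleComponents t)
        exact ⟨ζ, hζgen.1, hζgen.2 t mem_irreducibleComponent⟩
      obtain ⟨ζ₁, hζ₁, hζt₁⟩ := hsob t₁
      obtain ⟨ζ₂, hζ₂, hζt₂⟩ := hsob t₂
      obtain ⟨v, hv⟩ : w' ∈ Set.range (p₂.fiberι (p₂ w')) := by rw [p₂.range_fiberι]; rfl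
      obtain ⟨c, hc⟩ : z ∈ Set.range (f.fiberι (f z)) := by rw [f.range_fiberι]; rfl
      have hr : _root_.IsReduced ((p₂.fiber (p₂ w')).presheaf.stalk v) :=
        OpenDim.isReduced_bc_fibre f k (p₂ w') v (x := z) (by rw [hv]; exact hw'z) (y := f z)
          (by rw [hw'c]; exact hkc.trans hfz.symm) c hc
          ((GenIrredLib.fiberι_mem_geomRedSet_iff f _ c).1 (by rw [hc]; exact hred))
      have heq : ζ₁ = ζ₂ := OpenDim.eq_of_isMaxPt_of_unique p₂ w' hw'c v hv hr w' rfl (specializes_refl _) hw'max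
        (fun ζ' a b _ => hw'max ζ' a b) (UnivOpenAtLib.isOpenAt_of_isPullback huo sq w' hw'z)
        (hζt₁.trans ht₁) (hζt₂.trans ht₂) hζ₁ hζ₂
      rw [← hm₁ (p₁ ζ₁) (hp₁ ▸ hζt₁.map p₁.continuous), ← hm₂ (p₁ ζ₂) (hp₂ ▸ hζt₂.map p₁.continuous), heq]
    · obtain ⟨ξ, hξ, -, hξz, -, huo, -⟩ := key X' hX'.1 hX'.2.fst hX'.2.snd.1 hX'.2.snd.2
      obtain ⟨U, hzU, -, hU⟩ := GenIrredLib.exists_universallyOpen_geomRed_nhd f z
        (fun ζ' hζ' hs _ => by rw [hzmax ζ' hζ' hs]; exact huo) hred
      have he : (f.fiberι (genericPoint Y)).base ζ = ξ :=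
        (show IsGenericPoint _ (X' : Set X) from hζ).eq hξ
      exact (GenIrredLib.fiberι_mem_geomRedSet_iff f _ ζ).1 (by
        show (f.fiberι (genericPoint Y)).base ζ ∈ _
        rw [he]; exact hU _ (hξz.mem_open U.2 hzU))

end Groth.Agent.S3459
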