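import Groth.Statements.S3460
import Mathlib

set_option autoImplicit false
open CategoryTheory AlgebraicGeometry
universe u
open EGA43

namespace Groth.Agent.S3460

theorem h9_iso_of_top {X Y : Scheme.{u}} (f : X ⟶ Y) (W : Y.Opens) (h : ∀ x, f x ∈ W) : IsIso (f ⁻¹ᵁ W).ι := by
  haveI : Surjective (f ⁻¹ᵁ W).ι := ⟨fun x => ⟨⟨x, h x⟩, rfl⟩⟩
  haveI : Epi (f ⁻¹ᵁ W).ι.base := (TopCat.epi_iff_surjective _).2 (f ⁻¹ᵁ W).ι.surjective
  exact IsOpenImmersion.isIso (f ⁻¹ᵁ W).ι

/-- Let Y be locally Noetherian and f : X ⟶ Y of finite type. Then there exist a scheme Z, a proper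
morphism g : X ⟶ Z and an immersion h : Z ⟶ Y with f = g ≫ h if and only if f is proper at every
point of f(X), i.e. every point of f(X) has an open neighbourhood U in Y over which the restriction
of f is proper. -/
theorem result {X Y : Scheme.{u}} [IsLocallyNoetherian Y]
    (f : X ⟶ Y) [LocallyOfFiniteType f] [QuasiCompact f] :
    (∃ (Z : Scheme.{u}) (g : X ⟶ Z) (h : Z ⟶ Y), IsProper g ∧ IsImmersion h ∧ g ≫ h = f) ↔
      ∀ x : X, ∃ U : Y.Opens, f.base x ∈ U ∧ IsProper (f ∣_ U) := by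
  constructor
  · rintro ⟨Z, g, h, hg, hh, rfl⟩
    intro x
    have hx : ∀ x, (g ≫ h) x ∈ h.coborderRange := fun x => by
      rw [Scheme.Hom.comp_apply]
      exact subset_coborder (Set.mem_range_self (g x))
    haveI := h9_iso_of_top (g ≫ h) h.coborderRange hx
    refine ⟨h.coborderRange, hx x, ?_⟩
    have e : (g ≫ h) ∣_ h.coborderRange = ((g ≫ h) ⁻¹ᵁ h.coborderRange).ι ≫ g ≫ h.liftCoborder := by
      rw [← cancel_mono h.coborderRange.ι, morphismRestrict_ι]
      simp only [Category.assoc, h.liftCoborder_ι]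
    rw [e]
    infer_instance
  · intro hf
    choose U hU hproper using hf
    let W : Y.Opens := ⨆ x, U x
    have hW : ∀ x, f x ∈ W := fun x => TopologicalSpace.Opens.mem_iSup.2 ⟨x, hU x⟩
    haveI := h9_iso_of_top f W hW
    haveI : IsProper (f ∣_ W) := by
      refine IsZariskiLocalAtTarget.of_iSup_eq_top (P := @IsProper) (fun x => W.ι ⁻¹ᵁ U x) ?_ fun x => ?_
      · rw [← Scheme.Hom.preimage_iSup, Scheme.Opens.ι_preimage_self]
      · rw [MorphismProperty.arrow_mk_iso_iff @IsProper (morphismRestrictRestrict f W (W.ι ⁻¹ᵁ U x))]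
        have e : W.ι ''ᵁ (W.ι ⁻¹ᵁ U x) = U x := by
          rw [Scheme.Hom.image_preimage_eq_opensRange_inf, Scheme.Opens.opensRange_ι, inf_eq_right]
          exact le_iSup U x
        rw [e]
        exact hproper x
    haveI : IsProper ((f ∣_ W).toImage ≫ (f ∣_ W).imageι) := by rw [Scheme.Hom.toImage_imageι]; infer_instance
    haveI : IsProper (f ∣_ W).toImage := IsProper.of_comp _ (f ∣_ W).imageι
    refine ⟨(f ∣_ W).image, inv (f ⁻¹ᵁ W).ι ≫ (f ∣_ W).toImage, (f ∣_ W).imageι ≫ W.ι, inferInstance, inferInstance, ?_⟩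
    rw [Category.assoc, Scheme.Hom.toImage_imageι_assoc, morphismRestrict_ι, IsIso.inv_hom_id_assoc]

end Groth.Agent.S3460
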