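import Groth.Statements.S3467
import Groth.Agent.SmoothBCLib.KeyPlug
import Groth.Agent.SmoothBCLib.RowsAcyclic
set_option backward.isDefEq.respectTransparency false
set_option backward.isDefEq.respectTransparency.types false
set_option maxHeartbeats 1000000
attribute [local instance] Groth.Agent.S0101.result
-- import your own Groth.Agent.* helpers here

set_option autoImplicit false
universe u
open CategoryTheory CategoryTheory.Limits AlgebraicGeometry Opposite
attribute [local instance] HasDerivedCategory.standard
open EtBC

namespace Groth.Agent.S3467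

/-- Let X' = X ×_Y Y' be a cartesian square of schemes with f : X → Y quasi-compact and quasi-separated
and g : Y' → Y smooth, projections f' : X' → Y' and g' : X' → X, and let L be the set of primes
invertible on Y (the complement of the set of residue characteristics of Y). Then for every abelian
L-torsion sheaf F on the small etale site of X the base change morphism g⁻¹ Rf_* F → Rf'_* g'⁻¹ F in
the derived category of abelian etale sheaves on Y' is an isomorphism (equivalently, g⁻¹ R^q f_* F →
R^q f'_* g'⁻¹ F is bijective for every q). -/
theorem result {X Y X' Y' : Scheme.{u}} (f : X ⟶ Y) (g : Y' ⟶ Y)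
    (f' : X' ⟶ Y') (g' : X' ⟶ X) (h : IsPullback g' f' f g) [QuasiCompact f] [QuasiSeparated f] [Smooth g]
    [PreservesFiniteLimits (EtCoh.pull g)] [PreservesFiniteLimits (EtCoh.pull g')]
    [DCoh.HasRpushEt X f] [DCoh.HasRpushEt X' f'] [DCoh.HasRpushEt Y' g]
    (adj : EtBC.pullD g ⊣ DCoh.RpushEt Y' g) (F : EtCoh.Ab X)
    (hF : EtAcyc.IsLTorsion (EtAcyc.primesInvertibleOn Y) F) :
    IsIso (EtBC.bcMap f g f' g' h.w adj (EtBC.single X F)) := by
  exact Groth.Agent.SmoothBCLib.isIso_bcMap_single f g f' g' h (Groth.Agent.SmoothBCLib.bcLTors_smooth_of_key Groth.Agent.SmoothBCLib.henLineKey f g f' g' h) adj F hF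

end Groth.Agent.S3467
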