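import Groth.Statements.S3471
import Groth.Agent.AcycCritLib.Main
set_option backward.isDefEq.respectTransparency false
set_option backward.isDefEq.respectTransparency.types false
set_option linter.style.haveILetI false
-- import your own Groth.Agent.* helpers here

set_option autoImplicit false
universe u
open CategoryTheory CategoryTheory.Limits AlgebraicGeometry Opposite
open EtAcyc

namespace Groth.Agent.S3471

/-- Let g : X → Y be a morphism of schemes, L a set of primes containing at least one prime, n a natural
number. Then g is locally n-acyclic for L if and only if for every point x of X and all strict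
henselizations R_Y, R_X of the local rings at g x and x with a compatible local map R_Y → R_X, every
geometric fibre of Spec R_X → Spec R_Y at a separably closed field algebraic over a residue field of
Spec R_Y is an n-acyclic scheme for L. The source does not require L to contain a prime; with L
empty the left side always holds while the right side asks for connected nonempty fibres, so that
hypothesis is added here. -/
theorem result {X Y : Scheme.{u}} (g : X ⟶ Y)
    (L : Set ℕ) (hL : ∃ ℓ ∈ L, ℓ.Prime) (n : ℕ) :
    EtAcyc.IsLocAcyclicN g L n ↔
      EtAcyc.OnStrictLocalizations g (fun _ _ h => EtAcyc.GeomFibresAcyclicN L n h) := by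
  refine ⟨fun h => Groth.Agent.AcycCritLib.strictFibres_of_isLocAcyclicN g hL h, fun h => ?_⟩
  intro x RY RX _ _ _ _ _ _ _ _ _ _ _ _ hψ
  haveI := Groth.Agent.ProEtSLib.weaklyEtale_specOf X x RX
  haveI := Groth.Agent.ProEtSLib.weaklyEtale_specOf Y (g x) RY
  refine Groth.Agent.AcycCritLib.isAcyclicN_of_geomFibres _ (n := n) (by omega) ?_ (h x RY RX hψ)
  refine Groth.Agent.AcycCritLib.strictFibres_of_comp_weaklyEtale _ (Hens2.specOf Y (g x) RY) ?_
  have e : Spec.map (CommRingCat.ofHom (algebraMap RY RX)) ≫ Hens2.specOf Y (g x) RY =
      Hens2.specOf X x RX ≫ g := by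
    show Spec.map _ ≫ Spec.map _ ≫ Y.fromSpecStalk (g x) = (Spec.map _ ≫ X.fromSpecStalk x) ≫ g
    rw [Category.assoc, ← Scheme.SpecMap_stalkMap_fromSpecStalk, ← Category.assoc, ← Category.assoc,
      ← Spec.map_comp, ← Spec.map_comp]
    exact congrArg (fun m => Spec.map m ≫ Y.fromSpecStalk (g x)) (CommRingCat.hom_ext hψ)
  rw [e]
  exact Groth.Agent.AcycCritLib.strictFibres_weaklyEtale_comp _ g h

end Groth.Agent.S3471
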