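import Groth.Statements.S3473
import Groth.Agent.AcycSurjLib.Main

set_option autoImplicit false
universe u
open CategoryTheory CategoryTheory.Limits AlgebraicGeometry Opposite
open EtAcyc

namespace Groth.Agent.S3473

/-- Let g : X → Y be a morphism of schemes. If g is surjective then g is (-1)-acyclic (for every etale V
→ Y and every sheaf of sets F on V, F → g'_* g'^* F is a monomorphism, g' the projection X ×_Y V →
V); conversely, if g is quasi-compact, quasi-separated and (-1)-acyclic then g is surjective. -/
theorem result {X Y : Scheme.{u}} (g : X ⟶ Y) :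
    (Function.Surjective g.base → EtAcyc.IsMinusOneAcyclic g) ∧
      (∀ [QuasiCompact g] [QuasiSeparated g], EtAcyc.IsMinusOneAcyclic g → Function.Surjective g.base) := by
  refine ⟨fun hg V F => ?_, fun hg y => ?_⟩
  · haveI : Surjective g := ⟨hg⟩
    haveI : Surjective (prj g V) := inferInstanceAs (Surjective (pullback.fst V.hom g))
    exact AcycSurjLib.mono_unit_sh (prj g V) F
  · by_contra hy
    obtain ⟨V, W, hyV, hyW, hVW⟩ := AcycSurjLib.exists_opens_of_notMem_range g y hy
    let V' : Y.Etale := Scheme.Etale.mk V.ι
    have hpr : ∀ z, prj g V' z ∈ V.ι ⁻¹ᵁ W := fun z => by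
      have e : V.ι (prj g V' z) = g (pullback.snd V'.hom g z) := by
        exact (Scheme.Hom.comp_apply (pullback.fst V'.hom g) V'.hom z).symm.trans
          ((congrArg (fun f : pullback V'.hom g ⟶ Y => f z) pullback.condition).trans
            (Scheme.Hom.comp_apply (pullback.snd V'.hom g) g z))
      change V.ι (prj g V' z) ∈ W
      rw [e]
      refine hVW _ ?_
      rw [← e]
      exact (prj g V' z).2
    have htop := AcycSurjLib.eq_top_of_mono_unit (prj g V') (V.ι ⁻¹ᵁ W) hpr (hg V' _)
    exact hyW ((SetLike.ext_iff.1 htop ⟨y, hyV⟩).2 trivial)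

end Groth.Agent.S3473
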