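import Groth.Statements.S3483
import Groth.Agent.CdTameLib.Orderable

set_option backward.isDefEq.respectTransparency false
set_option backward.isDefEq.respectTransparency.types false

set_option autoImplicit false
universe u
open CategoryTheory CategoryTheory.Limits AlgebraicGeometry Opposite
open EtCd

namespace Groth.Agent.S3483

/-- Let k'/k be a finitely generated field extension of transcendence degree t and ℓ a prime different
from the characteristic of k. If cd_ℓ(k') < cd_ℓ(k) + t, that is, if for some d the cohomology of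
ℓ-primary torsion sheaves on Spec k' vanishes above degree d while either d < t or cd_ℓ(k) ≤ d - t
fails, then ℓ = 2, k admits an ordering making it an ordered field, and k' admits none. -/
theorem result (k k' : Type u) [Field k] [Field k'] [Algebra k k']
    (hfg : ∃ s : Finset k', IntermediateField.adjoin k (s : Set k') = ⊤) (ℓ : ℕ) (hℓ : ℓ.Prime) (hℓk : (ℓ : k) ≠ 0)
    (t : ℕ) (ht : Algebra.trdeg k k' = t)
    (hlt : ∃ d : ℕ, Dix.CohDimLEAt (Spec (CommRingCat.of k')) ℓ d ∧
      (d < t ∨ ¬ Dix.CohDimLEAt (Spec (CommRingCat.of k)) ℓ (d - t))) :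
    ℓ = 2 ∧ (∃ _ : LinearOrder k, IsStrictOrderedRing k) ∧ ¬ (∃ _ : LinearOrder k', IsStrictOrderedRing k') := by
  haveI := Fact.mk hℓ
  obtain ⟨d, hd, hlt⟩ := hlt
  have hk' : CdTameLib.CdP ℓ d k' := CdTameLib.cdP_iff.2 hd
  obtain ⟨h1, h2⟩ := CdTameLib.le_and_cdP_of_fg hfg hℓk ht hk'
  have hnot : ¬ Dix.CohDimLEAt (Spec (CommRingCat.of k)) ℓ (d - t) := hlt.resolve_left (by omega)
  have h3 : ℓ = 2 ∧ ∃ _ : LinearOrder k, IsStrictOrderedRing k := by
    by_contra hh
    rw [not_and_or] at hh
    exact hnot (CdTameLib.cdP_iff.1 (h2 hh))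
  refine ⟨h3.1, h3.2, ?_⟩
  rintro ⟨_, _⟩
  obtain rfl := h3.1
  exact CdTameLib.not_cdP_two_of_orderable d hk' 

end Groth.Agent.S3483
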