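import Groth.Statements.S3484
import Groth.Agent.CdTameLib.DvrIff
import Groth.Agent.CdTameLib.PerfectCd

set_option autoImplicit false
universe u
open CategoryTheory CategoryTheory.Limits AlgebraicGeometry Opposite
open EtCd

namespace Groth.Agent.S3484

/-- Let R be a henselian discrete valuation ring with fraction field K and residue field k, and ℓ a
prime. Assume either (i) ℓ is nonzero in k, or (ii) ℓ is nonzero in K, k is perfect and cd_ℓ(k) is
finite. Then cd_ℓ(K) = cd_ℓ(k) + 1: for every d, cd_ℓ(k) ≤ d if and only if cd_ℓ(K) ≤ d + 1, and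
cd_ℓ(K) is not ≤ 0 (cd_ℓ meaning vanishing of etale cohomology of ℓ-primary torsion sheaves above
the given degree). -/
theorem result (R K : Type u) [CommRing R] [IsDomain R] [IsDiscreteValuationRing R]
    [HenselianLocalRing R] [Field K] [Algebra R K] [IsFractionRing R K] (ℓ : ℕ) (hℓ : ℓ.Prime)
    (h : (ℓ : IsLocalRing.ResidueField R) ≠ 0 ∨
      ((ℓ : K) ≠ 0 ∧ PerfectField (IsLocalRing.ResidueField R) ∧
        ∃ d : ℕ, Dix.CohDimLEAt (Spec (CommRingCat.of (IsLocalRing.ResidueField R))) ℓ d)) :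
    (∀ d : ℕ, Dix.CohDimLEAt (Spec (CommRingCat.of (IsLocalRing.ResidueField R))) ℓ d ↔
        Dix.CohDimLEAt (Spec (CommRingCat.of K)) ℓ (d + 1)) ∧
      ¬ Dix.CohDimLEAt (Spec (CommRingCat.of K)) ℓ 0 := by
  haveI : Fact ℓ.Prime := ⟨hℓ⟩
  have key : CdTameLib.SHCd ℓ R ∧ (ℓ : R) ≠ 0 := by
    rcases h with h | ⟨hK, hperf, -⟩
    · have hu : IsUnit (ℓ : R) := by
        rw [← IsLocalRing.residue_ne_zero_iff_isUnit, map_natCast]
        exact h
      exact ⟨CdTameLib.shCd_of_isUnit hu, hu.ne_zero⟩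
    · have hR : (ℓ : R) ≠ 0 := fun h0 => hK (by rw [← map_natCast (algebraMap R K), h0, map_zero])
      exact ⟨CdTameLib.shCd_of_perfect hR, hR⟩
  refine ⟨fun d => ?_, fun h0 => ?_⟩
  · rw [← CdTameLib.cdP_iff, ← CdTameLib.cdP_iff]
    exact (CdTameLib.cdP_residueField_iff key.1 key.2 K).1
  · exact (CdTameLib.cdP_residueField_iff (d := 0) key.1 key.2 K).2 (CdTameLib.cdP_iff.2 h0)

end Groth.Agent.S3484
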