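import Groth.Statements.S3487
import Groth.Agent.CdTameLib.DimOne

set_option autoImplicit false
universe u
open CategoryTheory CategoryTheory.Limits AlgebraicGeometry Opposite
open EtCd

namespace Groth.Agent.S3487

/-- Let A be a Noetherian local ring with residue field k and ℓ a prime invertible in A; assume ℓ ≠ 2 or
that no residue field of Spec A is orderable. Then cd_ℓ(R(A)) ≥ cd_ℓ(k) + dim A, where R(A) is the
ring of rational functions of Spec A: if for some d the cohomology of ℓ-primary torsion sheaves on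
Spec Frac(A/P) vanishes above degree d for every minimal prime P, then dim A ≤ d and cd_ℓ(k) ≤ d -
dim A. -/
theorem result (A : Type u) [CommRing A] [IsNoetherianRing A] [IsLocalRing A]
    (ℓ : ℕ) (hℓ : ℓ.Prime) (hℓA : IsUnit (ℓ : A))
    (hord : ℓ ≠ 2 ∨ ∀ p : PrimeSpectrum A, ¬ ∃ _ : LinearOrder (FractionRing (A ⧸ p.asIdeal)),
      IsStrictOrderedRing (FractionRing (A ⧸ p.asIdeal)))
    (m : ℕ) (hm : ringKrullDim A = m) (d : ℕ)
    (hd : ∀ P ∈ minimalPrimes A, Dix.CohDimLEAt (Spec (CommRingCat.of (FractionRing (A ⧸ P)))) ℓ d) :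
    m ≤ d ∧ Dix.CohDimLEAt (Spec (CommRingCat.of (IsLocalRing.ResidueField A))) ℓ (d - m) := by
  haveI : Fact ℓ.Prime := ⟨hℓ⟩
  -- a minimal prime of largest dimension
  obtain ⟨P, hP, hPm⟩ : ∃ P ∈ minimalPrimes A, ringKrullDim (A ⧸ P) = m := by
    by_contra hno
    haveI : FiniteDimensionalOrder (PrimeSpectrum A) := Order.finiteDimensionalOrder_iff_krullDim_ne_bot_and_top.2
      ⟨by rw [← ringKrullDim, hm]; exact WithBot.natCast_ne_bot _, by
        rw [← ringKrullDim, hm]
        intro h
        exact ENat.natCast_ne_top m (WithBot.coe_injective (h.trans WithBot.coe_top.symm))⟩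
    let l := LTSeries.longestOf (PrimeSpectrum A)
    have hl : l.length = m := by
      have h := Order.krullDim_eq_length_of_finiteDimensionalOrder (α := PrimeSpectrum A)
      rw [← ringKrullDim, hm] at h
      exact_mod_cast h.symm
    haveI := l.head.2
    obtain ⟨P, hP, hPle⟩ := Ideal.exists_minimalPrimes_le (I := (⊥ : Ideal A)) (J := l.head.asIdeal) bot_le
    haveI := hP.1.1
    refine hno ⟨P, hP, le_antisymm ((ringKrullDim_quotient_le P).trans hm.le) ?_⟩
    rw [ringKrullDim_quotient, ← hl]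
    refine le_trans ?_ (Order.LTSeries.length_le_krullDim (LTSeries.mk l.length (fun i => (⟨l i,
      (PrimeSpectrum.mem_zeroLocus _ _).2 (hPle.trans (l.monotone (Fin.zero_le i)))⟩ : PrimeSpectrum.zeroLocus (P : Set A)))
      fun i j hij => l.strictMono hij))
    rfl
  haveI := hP.1.1
  haveI : IsLocalRing (A ⧸ P) := IsLocalRing.of_surjective' _ Ideal.Quotient.mk_surjective
  haveI : IsLocalHom (Ideal.Quotient.mk P) := IsLocalHom.of_surjective _ Ideal.Quotient.mk_surjective
  let e : IsLocalRing.ResidueField A ≃+* IsLocalRing.ResidueField (A ⧸ P) :=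
    RingEquiv.ofBijective (IsLocalRing.ResidueField.map (Ideal.Quotient.mk P)) ⟨RingHom.injective _, fun z => by
      obtain ⟨z, rfl⟩ := IsLocalRing.residue_surjective z
      obtain ⟨a, rfl⟩ := Ideal.Quotient.mk_surjective z
      exact ⟨IsLocalRing.residue A a, rfl⟩⟩
  have hu : IsUnit (ℓ : A ⧸ P) := by
    rw [← map_natCast (Ideal.Quotient.mk P)]
    exact hℓA.map _
  obtain ⟨h1, h2⟩ := CdTameLib.le_and_cdP_of_ringKrullDim (A ⧸ P) (FractionRing (A ⧸ P)) hPm hu
    (CdTameLib.cdP_iff.2 (hd P hP))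
  refine ⟨h1, CdTameLib.cdP_iff.1 ((h2 (hord.imp id fun h => ?_)).of_ringEquiv e.symm)⟩
  rintro ⟨o, ho⟩
  letI := o
  refine h ⟨IsLocalRing.maximalIdeal A, inferInstance⟩ ?_
  exact CdTameLib.exists_linearOrder_of_ringHom
    (IsFractionRing.lift (A := A ⧸ IsLocalRing.maximalIdeal A) (K := FractionRing (A ⧸ IsLocalRing.maximalIdeal A))
      (g := (e.toRingHom : A ⧸ IsLocalRing.maximalIdeal A →+* _)) e.injective)

end Groth.Agent.S3487
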