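import Groth.Statements.S3489
import Groth.Agent.CdTameLib.StrictLocal

set_option backward.isDefEq.respectTransparency false
set_option backward.isDefEq.respectTransparency.types false

set_option autoImplicit false
universe u
open CategoryTheory CategoryTheory.Limits AlgebraicGeometry Opposite
open EtCd

namespace Groth.Agent.S3489

/-- Let X be a scheme of finite type over a field k, ℓ a prime nonzero in k, x a point of X and A a
strict henselization of the local ring of X at x. Then cd_ℓ(R(A)) = dim A, where R(A) is the product
of the local rings of A at its minimal primes: for every d, the cohomology of ℓ-primary torsion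
sheaves on Spec Frac(A/P) vanishes above degree d for all minimal primes P of A if and only if dim A
≤ d. -/
theorem result (k : Type u) [Field k] (X : Scheme.{u})
    (f : X ⟶ Spec (CommRingCat.of k)) [LocallyOfFiniteType f] [QuasiCompact f] (ℓ : ℕ) (hℓ : ℓ.Prime) (hℓk : (ℓ : k) ≠ 0)
    (x : X) (R : Type u) [CommRing R] [IsLocalRing R] [Algebra (X.presheaf.stalk x) R]
      [IsLocalHom (algebraMap (X.presheaf.stalk x) R)] [Hensel.IsStrictHenselization (X.presheaf.stalk x) R] (d : ℕ) :
    (∀ P ∈ minimalPrimes R, Dix.CohDimLEAt (Spec (CommRingCat.of (FractionRing (R ⧸ P)))) ℓ d) ↔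
      ringKrullDim R ≤ d := by
  haveI := Fact.mk hℓ
  obtain ⟨hN, -⟩ := Groth.Agent.ArtinVanLib.exists_field_strictLocalization f x R
  haveI := hN
  refine ⟨fun h => CdTameLib.ringKrullDim_le_of_cdP (CdTameLib.isUnit_natCast_of_hom f x hℓk.isUnit) h,
    fun hd P hP => ?_⟩
  haveI : P.IsPrime := hP.1.1
  exact CdTameLib.cdP_iff.1 (CdTameLib.cdP_fractionRing_of_field f x R hd P)

end Groth.Agent.S3489
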