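import Groth.Statements.S3490
import Groth.Agent.CdTameLib.StrictLocal

set_option backward.isDefEq.respectTransparency false
set_option backward.isDefEq.respectTransparency.types false

set_option autoImplicit false
universe u
open CategoryTheory CategoryTheory.Limits AlgebraicGeometry Opposite
open EtCd

namespace Groth.Agent.S3490

/-- Case of a discrete valuation ring as base: let V be a discrete valuation ring, X a scheme of finite
type over Spec V, ℓ a prime invertible in V, x a point of X and A a strict henselization of the
local ring of X at x. Then cd_ℓ(R(A)) = dim A in the sense of the field case: for every d, the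
cohomology of ℓ-primary torsion sheaves on Spec Frac(A/P) vanishes above degree d for all minimal
primes P of A if and only if dim A ≤ d. -/
theorem result (V : Type u) [CommRing V] [IsDomain V] [IsDiscreteValuationRing V]
    (X : Scheme.{u}) (f : X ⟶ Spec (CommRingCat.of V)) [LocallyOfFiniteType f] [QuasiCompact f]
    (ℓ : ℕ) (hℓ : ℓ.Prime) (hℓV : IsUnit (ℓ : V))
    (x : X) (R : Type u) [CommRing R] [IsLocalRing R] [Algebra (X.presheaf.stalk x) R]
      [IsLocalHom (algebraMap (X.presheaf.stalk x) R)] [Hensel.IsStrictHenselization (X.presheaf.stalk x) R] (d : ℕ) :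
    (∀ P ∈ minimalPrimes R, Dix.CohDimLEAt (Spec (CommRingCat.of (FractionRing (R ⧸ P)))) ℓ d) ↔
      ringKrullDim R ≤ d := by
  haveI := Fact.mk hℓ
  haveI : IsLocallyNoetherian X := LocallyOfFiniteType.isLocallyNoetherian f
  obtain ⟨e⟩ := Henselization.exists_algEquiv_of_isStrictHenselization (X.presheaf.stalk x) R
  haveI : IsNoetherianRing R := (Henselization.isNoetherianRing_of_equiv e).2 inferInstance
  refine ⟨fun h => CdTameLib.ringKrullDim_le_of_cdP (CdTameLib.isUnit_natCast_of_hom f x hℓV) h,
    fun hd P hP => ?_⟩
  haveI : P.IsPrime := hP.1.1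
  exact CdTameLib.cdP_iff.1 (CdTameLib.cdP_fractionRing_of_dvr f hℓV x R hd P)

end Groth.Agent.S3490
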