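import Groth.Statements.S3492
import Groth.Agent.ArtinVanLib.Codim

set_option autoImplicit false
set_option backward.isDefEq.respectTransparency false
set_option backward.isDefEq.respectTransparency.types false
set_option linter.style.haveILetI false
set_option maxHeartbeats 1000000
universe u
open CategoryTheory CategoryTheory.Limits AlgebraicGeometry Opposite
open EtCd

namespace Groth.Agent.S3492

/-- Let X be a Noetherian scheme, ℓ a prime and n a natural number such that (i) for every point y of
codimension c (dimension of the local ring) one has 2c ≤ n and cd_ℓ(κ(y)) ≤ n - 2c, and (ii) for all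
points x, y with y in the closure of x and every strict henselization R of the local ring at y,
putting A = R / p_x R (a strict localization of the closure of x with its reduced structure),
cd_ℓ(Frac(R/P)) ≤ dim A for every prime P of R minimal over p_x R. Then for every ℓ-primary torsion
abelian sheaf F whose geometric stalks vanish at all points of codimension < s, H^q(X, F) = 0 for q
> n - 2s; in particular (s = 0) cd_ℓ(X) ≤ n. -/
theorem result (X : Scheme.{u}) [IsNoetherian X] (ℓ : ℕ) (hℓ : ℓ.Prime) (n : ℕ)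
    (h1 : ∀ (y : X) (c : ℕ), ringKrullDim (X.presheaf.stalk y) = c →
      2 * c ≤ n ∧ Dix.CohDimLEAt (Spec (X.residueField y)) ℓ (n - 2 * c))
    (h2 : ∀ (x y : X) (hxy : x ⤳ y), ∀ (R : Type u) [CommRing R] [IsLocalRing R] [Algebra (X.presheaf.stalk y) R]
      [IsLocalHom (algebraMap (X.presheaf.stalk y) R)] [Hensel.IsStrictHenselization (X.presheaf.stalk y) R],
      ∀ P ∈ ((RingHom.ker (Cyc.specMap y x hxy)).map (algebraMap (X.presheaf.stalk y) R)).minimalPrimes,
        ∀ e : ℕ, ringKrullDim (R ⧸ (RingHom.ker (Cyc.specMap y x hxy)).map (algebraMap (X.presheaf.stalk y) R)) = e →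
          Dix.CohDimLEAt (Spec (CommRingCat.of (FractionRing (R ⧸ P)))) ℓ e)
    (s : ℕ) (F : EtCoh.Ab X) (hF : Dix.IsPrimaryTorsion ℓ F)
    (hs : ∀ y ∈ EtPBC.supp F, (s : WithBot ℕ∞) ≤ ringKrullDim (X.presheaf.stalk y))
    (q : ℕ) (hq : n < q + 2 * s) :
    Subsingleton (EtCoh.H X F q) := by
  classical
  have hfin : ∀ y : X, ∃ c : ℕ, Order.coheight y = c := fun y => by
    haveI : IsNoetherianRing (X.presheaf.stalk y) := inferInstance
    refine ENat.ne_top_iff_exists.1 (fun h => ?_) |>.imp fun c hc => hc.symm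
    have h1 : ringKrullDim (X.presheaf.stalk y) < (⊤ : WithBot ℕ∞) := ringKrullDim_lt_top
    rw [AlgebraicGeometry.ringKrullDim_stalk_eq_coheight, h] at h1
    exact lt_irrefl _ h1
  choose c hc using hfin
  have hdim : ∀ y : X, ringKrullDim (X.presheaf.stalk y) = (c y : ℕ) := fun y => by
    rw [AlgebraicGeometry.ringKrullDim_stalk_eq_coheight, hc y]
    rfl
  let φ : X → ℕ := fun y => n - 2 * c y
  refine Groth.Agent.ArtinVanLib.vanishBelow_all (L := {ℓ}) φ
    (fun x => (Groth.Agent.CdFieldLib.cdLE_singleton_iff hℓ).2 (h1 x _ (hdim x)).2)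
    (fun x y hxy hne R _ _ _ _ _ P hP => ?_) q F ((Groth.Agent.CdFieldLib.isLTorsion_singleton_iff hℓ).2 hF)
    (fun x hx => ?_) q le_rfl
  · let p : PrimeSpectrum (X.presheaf.stalk y) := ⟨RingHom.ker (Cyc.specMap y x hxy), RingHom.ker_isPrime _⟩
    have hadd : Order.coheight x + Order.coheight p ≤ Order.coheight y :=
      Groth.Agent.ArtinVanLib.coheight_add_coheight_le hxy
    have hpos : 1 ≤ Order.coheight p := Groth.Agent.ArtinVanLib.coheight_pos hxy hne
    rw [hc x, hc y] at hadd
    obtain ⟨E, hE⟩ : ∃ E : ℕ, Order.coheight p = E := by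
      refine ENat.ne_top_iff_exists.1 (fun h => ?_) |>.imp fun c hc => hc.symm
      rw [h, add_top, top_le_iff] at hadd
      exact ENat.natCast_ne_top _ hadd
    rw [hE] at hadd hpos
    have hle := Groth.Agent.ArtinVanLib.ringKrullDim_quotient_map_le (R := R) p
    rw [hE] at hle
    haveI := hP.1.1
    have hne' : (RingHom.ker (Cyc.specMap y x hxy)).map (algebraMap (X.presheaf.stalk y) R) ≠ ⊤ :=
      fun h => hP.1.1.ne_top (top_le_iff.1 (h.symm.le.trans hP.1.2))
    haveI : Nontrivial (R ⧸ (RingHom.ker (Cyc.specMap y x hxy)).map (algebraMap (X.presheaf.stalk y) R)) :=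
      Ideal.Quotient.nontrivial_iff.2 hne'
    obtain ⟨e, he⟩ : ∃ e : ℕ, ringKrullDim (R ⧸ (RingHom.ker (Cyc.specMap y x hxy)).map
        (algebraMap (X.presheaf.stalk y) R)) = e := by
      have h0 : (0 : WithBot ℕ∞) ≤ _ := ringKrullDim_nonneg_of_nontrivial
        (R := R ⧸ (RingHom.ker (Cyc.specMap y x hxy)).map (algebraMap (X.presheaf.stalk y) R))
      generalize ringKrullDim (R ⧸ (RingHom.ker (Cyc.specMap y x hxy)).map
        (algebraMap (X.presheaf.stalk y) R)) = w at hle h0 ⊢
      cases w with
      | bot => exact absurd h0 (by simp)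
      | coe w =>
        cases w using ENat.recTopCoe with
        | top => exact absurd (top_le_iff.1 (WithBot.coe_le_coe.1 hle)) (ENat.natCast_ne_top E)
        | coe e => exact ⟨e, rfl⟩
    rw [show (RingHom.ker (Cyc.specMap y x hxy)) = p.asIdeal from rfl] at he
    rw [he] at hle
    have h3 : e ≤ E := by exact_mod_cast hle
    have h4 : c x + E ≤ c y := by exact_mod_cast hadd
    have h5 : 1 ≤ E := by exact_mod_cast hpos
    have h6 := (h1 y _ (hdim y)).1
    refine ⟨e, ?_, (Groth.Agent.CdFieldLib.cdLE_singleton_iff hℓ).2 (h2 x y hxy R P hP e he)⟩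
    simp only [φ]
    omega
  · have h3 := hs x hx
    rw [hdim x] at h3
    have h4 : s ≤ c x := by exact_mod_cast h3
    have h6 := (h1 x _ (hdim x)).1
    simp only [φ]
    omega

end Groth.Agent.S3492
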