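import Groth.Statements.S3506
import Groth.Agent.ArtinVanLib.Supp

set_option autoImplicit false
set_option backward.isDefEq.respectTransparency false
set_option backward.isDefEq.respectTransparency.types false
universe u
open CategoryTheory CategoryTheory.Limits AlgebraicGeometry Opposite
open EtCd

namespace Groth.Agent.S3506

/-- Let K be a field with cd(K) ≤ e, X an affine scheme of finite type over K, and F a torsion abelian
sheaf on the small etale site of X every point of whose support has residue field of transcendence
degree ≤ a over K. Then H^b(X, F) = 0 for every b > a + e. -/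
theorem result (K : Type u) [Field K] (X : Scheme.{u}) [IsAffine X]
    (f : X ⟶ Spec (CommRingCat.of K)) [LocallyOfFiniteType f] (a e : ℕ)
    (hK : EtCoh.CohDimLE (Spec (CommRingCat.of K)) e) (F : EtCoh.Ab X) (hF : EtCoh.IsTorsion F)
    (hsupp : ∀ x ∈ EtPBC.supp F, EtPBC.ResTrdegLE f x a) (b : ℕ) (hb : a + e < b) :
    Subsingleton (EtCoh.H X F b) := by
  let A := Γ(X, ⊤)
  obtain ⟨φ, hφ⟩ := Spec.map_surjective (X.isoSpec.inv ≫ f)
  letI : Algebra K A := φ.hom.toAlgebra
  haveI : LocallyOfFiniteType (Spec.map φ) := by rw [hφ]; infer_instance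
  haveI : Algebra.FiniteType K A := (HasRingHomProperty.Spec_iff (P := @LocallyOfFiniteType)).1 this
  haveI : IsNoetherianRing A := Algebra.FiniteType.isNoetherianRing K A
  exact ArtinVanLib.subsingleton_H_of_iso_spec (A := A) (CdFieldLib.cdLE_univ_iff.2 hK) X.isoSpec.inv F
    (RpushTorsLib.isLTorsion_univ hF)
    (fun p hp => ArtinVanLib.trdeg_quotient_le_resTrdeg f X.isoSpec.inv hφ.symm p (hsupp _ hp)) b hb

end Groth.Agent.S3506
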