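import Groth.Statements.S3508
import Groth.Agent.S0138
import Groth.Agent.FLCLib.Colim

set_option autoImplicit false
universe u
open CategoryTheory CategoryTheory.Limits AlgebraicGeometry Opposite
open EtCd

namespace Groth.Agent.S3508

/-- Let X be a quasi-compact and quasi-separated scheme. An abelian sheaf F on the small etale site of X
is constructible if and only if it is isomorphic to the cokernel of a morphism ⨁_j j_{V_j !} Z/m_j →
⨁_i j_{U_i !} Z/n_i for finite families of affine etale X-schemes U_i, V_j (the source first states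
it with quasi-compact quasi-separated objects and then notes that U_i, V_j may even be taken affine)
and positive integers n_i, m_j (j_! the extension by zero of the constant sheaf). -/
theorem result (X : Scheme.{u}) [CompactSpace X] [QuasiSeparatedSpace X]
    (F : EtCoh.Ab X) :
    EtPBC.IsConstructible F ↔
      ∃ (a b : ℕ) (U : Fin a → X.Etale) (V : Fin b → X.Etale) (n : Fin a → ℕ) (m : Fin b → ℕ),
        (∀ i, 0 < n i ∧ IsAffine (U i).left) ∧ (∀ j, 0 < m j ∧ IsAffine (V j).left) ∧
        ∃ φ : (⨁ fun j => EtPBC.extZeroConst (V j) (ZMod (m j))) ⟶ (⨁ fun i => EtPBC.extZeroConst (U i) (ZMod (n i))),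
          Nonempty (F ≅ cokernel φ) := by
  constructor
  · intro hF
    obtain ⟨n, hn, hFn⟩ := FLCLib.exists_killedBy hF
    obtain ⟨a, b, V, U, hV, hU, φ, e⟩ := S0138.result X n hn F hF hFn
    exact ⟨b, a, U, V, fun _ => n, fun _ => n, fun i => ⟨hn, hU i⟩, fun j => ⟨hn, hV j⟩, φ, e⟩
  · rintro ⟨a, b, U, V, n, m, hU, hV, φ, ⟨e⟩⟩
    have key : ∀ (b : ℕ) (E : Fin b → EtCoh.Ab X), (∀ i, EtPBC.IsConstructible (E i)) → EtPBC.IsConstructible (⨁ E) := by
      intro b
      induction b with
      | zero =>
        exact fun E _ => FLCLib.isConstructible_of_isZero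
          ((IsZero.iff_id_eq_zero _).2 (biproduct.hom_ext _ _ fun i => i.elim0))
      | succ b ih =>
        exact fun E h => FLCLib.isConstructible_of_iso (FLCLib.biproductSuccIso E).symm
          (FLCLib.isConstructible_biprod_any (h 0) (ih _ fun i => h i.succ))
    exact FLCLib.isConstructible_of_iso e.symm (FLCLib.isConstructible_kernel_cokernel φ
      (key _ _ fun j => by haveI := (hV j).2; exact FLCLib.isConstructible_extZeroConst_zmod _ _ (hV j).1)
      (key _ _ fun i => by haveI := (hU i).2; exact FLCLib.isConstructible_extZeroConst_zmod _ _ (hU i).1)).2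

end Groth.Agent.S3508
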