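import Groth.Statements.S3509
import Groth.Agent.CdTameLib.SchemeDim
import Groth.Agent.CdFieldLib.Rows
import Groth.Agent.ArtinVanLib.DimFunMain

set_option autoImplicit false
universe u
open CategoryTheory CategoryTheory.Limits AlgebraicGeometry Opposite
open EtCd

namespace Groth.Agent.S3509

/-- Let X be a Noetherian scheme of dimension at most m and ℓ a prime invertible on X; assume that for
all points x, y with y in the closure of x, every strict henselization R of the local ring at y and
every prime P of R minimal over p_x R one has cd_ℓ(Frac(R/P)) ≤ dim(R/p_x R), and that ℓ ≠ 2 or no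
residue field of X is orderable. Then cd_ℓ(X) ≤ cd_ℓ(R(X)) + dim X: if cd_ℓ(κ(η)) ≤ c for every
maximal point η of X, then the etale cohomology of every ℓ-primary torsion abelian sheaf on X
vanishes above degree c + m. -/
theorem result (X : Scheme.{u}) [IsNoetherian X] (m : ℕ) (hm : topologicalKrullDim X ≤ m)
    (ℓ : ℕ) (hℓ : ℓ.Prime) (hℓX : Dix.InvertibleOn X ℓ)
    (h2 : ∀ (x y : X) (hxy : x ⤳ y), ∀ (R : Type u) [CommRing R] [IsLocalRing R] [Algebra (X.presheaf.stalk y) R]
    [IsLocalHom (algebraMap (X.presheaf.stalk y) R)] [Hensel.IsStrictHenselization (X.presheaf.stalk y) R],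
      ∀ P ∈ ((RingHom.ker (Cyc.specMap y x hxy)).map (algebraMap (X.presheaf.stalk y) R)).minimalPrimes,
        ∀ e : ℕ, ringKrullDim (R ⧸ (RingHom.ker (Cyc.specMap y x hxy)).map (algebraMap (X.presheaf.stalk y) R)) = e →
          Dix.CohDimLEAt (Spec (CommRingCat.of (FractionRing (R ⧸ P)))) ℓ e)
    (hord : ℓ ≠ 2 ∨ ∀ x : X, ¬ ∃ _ : LinearOrder (X.residueField x), IsStrictOrderedRing (X.residueField x))
    (c : ℕ) (hc : ∀ x : X, closure {x} ∈ irreducibleComponents (X : Type u) →
      Dix.CohDimLEAt (Spec (X.residueField x)) ℓ c) :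
    Dix.CohDimLEAt X ℓ (c + m) := by
  haveI : Fact ℓ.Prime := ⟨hℓ⟩
  have hc' : ∀ η : X, closure {η} ∈ irreducibleComponents (X : Type u) → CdTameLib.CdP ℓ c (X.residueField η) :=
    fun η hη => CdTameLib.cdP_iff.2 (hc η hη)
  choose k hk using fun x : X => CdTameLib.exists_dim_stalk x
  have hkm : ∀ x, k x ≤ m := fun x => by
    have h1 : ringKrullDim (X.presheaf.stalk x) ≤ m := by
      rw [ringKrullDim_stalk_eq_coheight]
      exact (Order.coheight_le_krullDim x).trans ((DimLiftLib.topologicalKrullDim_eq ↥X).symm.trans_le hm)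
    rw [hk x] at h1
    exact_mod_cast h1
  have hkc : ∀ x, k x ≤ c := fun x => (CdTameLib.le_and_cdP_residueField x hℓX c hc' (hk x)).1
  let φ : X → ℕ := fun x => (c - k x) + (m - k x)
  have h1 : ∀ x : X, CdFieldLib.CdLE {ℓ} (Spec (X.residueField x)) (φ x) := fun x =>
    (((CdTameLib.le_and_cdP_residueField x hℓX c hc' (hk x)).2 (hord.imp id fun h => h x)).mono
      (Nat.le_add_right _ _)).cdLE
  intro F hF q hq
  refine ArtinVanLib.vanishBelow_all φ h1 (fun x y hxy hne R _ _ _ _ _ P hP => ?_) (c + m + 1) F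
    ((CdFieldLib.isLTorsion_singleton_iff hℓ).2 hF) (fun x _ => ?_) q hq
  · obtain ⟨eH⟩ := Henselization.exists_algEquiv_of_isStrictHenselization (X.presheaf.stalk y) R
    haveI : IsNoetherianRing R := (Henselization.isNoetherianRing_of_equiv eH).2 inferInstance
    haveI := hP.1.1
    let J := (RingHom.ker (Cyc.specMap y x hxy)).map (algebraMap (X.presheaf.stalk y) R)
    have hJ : J ≠ ⊤ := fun h => hP.1.1.ne_top (top_le_iff.1 (h ▸ hP.1.2))
    haveI : Nontrivial (R ⧸ J) := Ideal.Quotient.nontrivial_iff.2 hJ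
    haveI : IsLocalRing (R ⧸ J) := IsLocalRing.of_surjective' _ Ideal.Quotient.mk_surjective
    obtain ⟨e, he⟩ : ∃ e : ℕ, ringKrullDim (R ⧸ J) = e := by
      haveI : FiniteRingKrullDim (R ⧸ J) := inferInstance
      have := Order.krullDim_eq_length_of_finiteDimensionalOrder (α := PrimeSpectrum (R ⧸ J))
      exact ⟨_, this.trans (by norm_cast)⟩
    refine ⟨e, ?_, (CdFieldLib.cdLE_singleton_iff hℓ).2 (h2 x y hxy R P hP e he)⟩
    let p : PrimeSpectrum (X.presheaf.stalk y) := ⟨RingHom.ker (Cyc.specMap y x hxy), RingHom.ker_isPrime _⟩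
    have hle := ArtinVanLib.ringKrullDim_quotient_map_le (R := R) p
    have hpos : 1 ≤ Order.coheight p := ArtinVanLib.coheight_pos hxy hne
    have hadd : Order.coheight x + Order.coheight p ≤ Order.coheight y := ArtinVanLib.coheight_add_coheight_le hxy
    have hx' : Order.coheight x = (k x : ℕ∞) := WithBot.coe_injective
      ((ringKrullDim_stalk_eq_coheight x).symm.trans (hk x))
    have hy' : Order.coheight y = (k y : ℕ∞) := WithBot.coe_injective
      ((ringKrullDim_stalk_eq_coheight y).symm.trans (hk y))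
    rw [hx', hy'] at hadd
    obtain ⟨r, hr⟩ := ENat.ne_top_iff_exists.1
      (ne_top_of_le_ne_top (ENat.natCast_ne_top (k y)) (le_add_self.trans hadd))
    rw [← hr] at hadd hpos
    have hle' : (e : WithBot ℕ∞) ≤ ((r : ℕ∞) : WithBot ℕ∞) := by
      rw [hr, ← he]
      exact hle
    norm_cast at hadd hpos hle'
    have hyc := hkc y
    have hym := hkm y
    simp only [φ]
    omega
  · simp only [φ]
    omega

end Groth.Agent.S3509
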