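import Groth.Statements.S3513
import Groth.Agent.AcycCompLib.Basic
-- import your own Groth.Agent.* helpers here

set_option autoImplicit false
set_option backward.isDefEq.respectTransparency false
universe u
open CategoryTheory CategoryTheory.Limits AlgebraicGeometry Opposite
open EtAcyc

namespace Groth.Agent.S3513

theorem compN_step {X Y Z : Scheme.{u}} (g : X ⟶ Y) (h : Y ⟶ Z) (L : Set ℕ) (n : ℕ)
    (hg : EtAcyc.IsAcyclicN g L n) (V : Z.Etale) :
    EtAcyc.CompN (EtAcyc.prj h V) L n ↔ EtAcyc.CompN (EtAcyc.prj (g ≫ h) V) L n := by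
  let W : Y.Etale := (EtCoh.bc h).obj V
  let φ := pullbackLeftPullbackSndIso V.hom h g
  have hW : EtAcyc.CompN (φ.inv ≫ EtAcyc.prj g W) L n :=
    (AcycCompLib.compN_comp_iff (EtAcyc.prj g W) φ.inv _ rfl L n (AcycCompLib.compN_of_isIso φ.inv L n)).1 (hg W)
  refine AcycCompLib.compN_comp_iff (EtAcyc.prj h V) (φ.inv ≫ EtAcyc.prj g W) _ ?_ L n hW
  exact (Category.assoc _ _ _).trans
    (φ.inv_comp_eq.2 (pullbackLeftPullbackSndIso_hom_fst _ _ _).symm)

theorem unit_step {X Y Z : Scheme.{u}} (g : X ⟶ Y) (h : Y ⟶ Z) (hg : EtAcyc.IsZeroAcyclic g) (V : Z.Etale)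
    (F : EtDesc.Sh V.left) :
    IsIso ((EtDesc.adjSh (EtAcyc.prj (g ≫ h) V)).unit.app F) ↔ IsIso ((EtDesc.adjSh (EtAcyc.prj h V)).unit.app F) := by
  let W : Y.Etale := (EtCoh.bc h).obj V
  let φ := pullbackLeftPullbackSndIso V.hom h g
  refine AcycCompLib.isIso_unitSh_comp_iff (EtAcyc.prj h V) (φ.inv ≫ EtAcyc.prj g W) _ ?_ F ?_
  · exact (Category.assoc _ _ _).trans
      (φ.inv_comp_eq.2 (pullbackLeftPullbackSndIso_hom_fst _ _ _).symm)
  · exact (AcycCompLib.isIso_unitSh_comp_iff (EtAcyc.prj g W) φ.inv _ rfl _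
      (AcycCompLib.isIso_unitSh_of_isIso φ.inv _)).2 (hg W _)

/-- Last assertion, abelian and sets cases: let g : X → Y and h : Y → Z be morphisms of schemes, L a set
of primes and n a natural number. If g is n-acyclic for L, then h is n-acyclic for L if and only if
g ≫ h is; if g is 0-acyclic, then h is 0-acyclic if and only if g ≫ h is. -/
theorem result {X Y Z : Scheme.{u}} (g : X ⟶ Y) (h : Y ⟶ Z) (L : Set ℕ) (n : ℕ) :
    (EtAcyc.IsAcyclicN g L n → (EtAcyc.IsAcyclicN h L n ↔ EtAcyc.IsAcyclicN (g ≫ h) L n)) ∧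
      (EtAcyc.IsZeroAcyclic g → (EtAcyc.IsZeroAcyclic h ↔ EtAcyc.IsZeroAcyclic (g ≫ h))) := by
  exact ⟨fun hg => forall_congr' fun V => compN_step g h L n hg V,
    fun hg => forall_congr' fun V => forall_congr' fun F => (unit_step g h hg V F).symm⟩

end Groth.Agent.S3513
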