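import Groth.Statements.S3514
import Groth.Agent.S3513
import Groth.Agent.SHBaseChangeLib.Maps
import Groth.Agent.Henselization.Basic
-- import your own Groth.Agent.* helpers here

set_option autoImplicit false
set_option backward.isDefEq.respectTransparency false
universe u
open CategoryTheory CategoryTheory.Limits AlgebraicGeometry Opposite
open EtAcyc

namespace Groth.Agent.S3514

theorem stalkMap_comp_hom {X Y Z : Scheme.{u}} (g : X ⟶ Y) (h : Y ⟶ Z) (x : X) :
    ((g ≫ h).stalkMap x).hom = (g.stalkMap x).hom.comp (h.stalkMap (g.base x)).hom := by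
  rw [Scheme.Hom.stalkMap_comp]
  rfl

theorem onStrictLoc_comp_iff (P : ∀ ⦃X' Y' : Scheme.{u}⦄, (X' ⟶ Y') → Prop)
    (hP : ∀ {A B C : Scheme.{u}} (a : A ⟶ B) (b : B ⟶ C), P a → (P b ↔ P (a ≫ b)))
    {X Y Z : Scheme.{u}} (g : X ⟶ Y) (h : Y ⟶ Z) (hs : Function.Surjective g.base)
    (hg : EtAcyc.OnStrictLocalizations g P) :
    EtAcyc.OnStrictLocalizations h P ↔ EtAcyc.OnStrictLocalizations (g ≫ h) P := by
  constructor
  · intro hh x RZ RX _ _ _ _ aZ lZ sZ _ _ _ _ _ comp
    letI aZ' : Algebra (Z.presheaf.stalk (h.base (g.base x))) RZ := aZ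
    haveI lZ' : IsLocalHom (algebraMap (Z.presheaf.stalk (h.base (g.base x))) RZ) := lZ
    haveI sZ' : _root_.Hensel.IsStrictHenselization (Z.presheaf.stalk (h.base (g.base x))) RZ := sZ
    obtain ⟨RY, _, _, _, _, hY⟩ := Groth.Agent.Henselization.exists_strictHenselization (Y.presheaf.stalk (g.base x))
    have hXhens : HenselianLocalRing RX := _root_.Hensel.IsStrictHenselization.henselian (X.presheaf.stalk x)
    haveI := (_root_.Hensel.IsStrictHenselization.isSepClosure (R := X.presheaf.stalk x) (S := RX)).sep_closed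
    haveI : IsLocalHom ((algebraMap (X.presheaf.stalk x) RX).comp (g.stalkMap x).hom) := RingHom.isLocalHom_comp _ _
    obtain ⟨σ, hσ, hσl⟩ := SHBaseChangeLib.exists_map_to_henselian (RA := RY)
      ((algebraMap (X.presheaf.stalk x) RX).comp (g.stalkMap x).hom)
    haveI := hσl
    have hk : (algebraMap RZ RX).comp (algebraMap (Z.presheaf.stalk ((g ≫ h).base x)) RZ) =
        (σ.comp (algebraMap (Y.presheaf.stalk (g.base x)) RY)).comp (h.stalkMap (g.base x)).hom := by
      rw [hσ, RingHom.comp_assoc, ← stalkMap_comp_hom]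
      exact comp
    obtain ⟨ψ, hψ, hψl, hσψ⟩ := SHBaseChangeLib.exists_map_factor (RA := RZ) (RB := RY)
      (h.stalkMap (g.base x)).hom σ (algebraMap RZ RX) hk
    haveI := hψl
    have h₁ : P (Spec.map (CommRingCat.ofHom σ)) :=
      @hg x RY RX _ _ _ _ _ _ _ _ _ _ σ.toAlgebra (by rw [RingHom.algebraMap_toAlgebra]; exact hσl)
        (by rw [RingHom.algebraMap_toAlgebra]; exact hσ)
    have h₂ : P (Spec.map (CommRingCat.ofHom ψ)) :=
      @hh (g.base x) RZ RY _ _ _ _ aZ' lZ' sZ' _ _ _ ψ.toAlgebra (by rw [RingHom.algebraMap_toAlgebra]; exact hψl)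
        (by rw [RingHom.algebraMap_toAlgebra]; exact hψ)
    have h₃ := (hP _ _ h₁).1 h₂
    rwa [← Spec.map_comp, ← CommRingCat.ofHom_comp, hσψ] at h₃
  · intro hgh y RZ RY _ _ _ _ aZ lZ sZ _ _ _ _ _ comp
    obtain ⟨x, rfl⟩ := hs y
    letI aZ' : Algebra (Z.presheaf.stalk ((g ≫ h).base x)) RZ := aZ
    haveI lZ' : IsLocalHom (algebraMap (Z.presheaf.stalk ((g ≫ h).base x)) RZ) := lZ
    haveI sZ' : _root_.Hensel.IsStrictHenselization (Z.presheaf.stalk ((g ≫ h).base x)) RZ := sZ
    obtain ⟨RX, _, _, _, _, hX⟩ := Groth.Agent.Henselization.exists_strictHenselization (X.presheaf.stalk x)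
    have hXhens : HenselianLocalRing RX := _root_.Hensel.IsStrictHenselization.henselian (X.presheaf.stalk x)
    haveI := (_root_.Hensel.IsStrictHenselization.isSepClosure (R := X.presheaf.stalk x) (S := RX)).sep_closed
    haveI : IsLocalHom ((algebraMap (X.presheaf.stalk x) RX).comp (g.stalkMap x).hom) := RingHom.isLocalHom_comp _ _
    obtain ⟨σ, hσ, hσl⟩ := SHBaseChangeLib.exists_map_to_henselian (RA := RY)
      ((algebraMap (X.presheaf.stalk x) RX).comp (g.stalkMap x).hom)
    haveI := hσl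
    haveI : IsLocalHom (σ.comp (algebraMap RZ RY)) := RingHom.isLocalHom_comp _ _
    have h₁ : P (Spec.map (CommRingCat.ofHom σ)) :=
      @hg x RY RX _ _ _ _ _ _ _ _ _ _ σ.toAlgebra (by rw [RingHom.algebraMap_toAlgebra]; exact hσl)
        (by rw [RingHom.algebraMap_toAlgebra]; exact hσ)
    have h₃ : P (Spec.map (CommRingCat.ofHom (σ.comp (algebraMap RZ RY)))) :=
      @hgh x RZ RX _ _ _ _ aZ' lZ' sZ' _ _ _ (σ.comp (algebraMap RZ RY)).toAlgebra
        (by rw [RingHom.algebraMap_toAlgebra]; infer_instance)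
        (by
          rw [RingHom.algebraMap_toAlgebra]
          refine ((RingHom.comp_assoc _ _ _).trans (congrArg (σ.comp ·) comp)).trans ?_
          rw [← RingHom.comp_assoc, hσ, RingHom.comp_assoc, stalkMap_comp_hom])
    rw [CommRingCat.ofHom_comp, Spec.map_comp] at h₃
    exact (hP _ _ h₁).2 h₃

/-- Let g : X → Y and h : Y → Z be morphisms of schemes with g surjective, L a set of primes and n a
natural number. If g is locally n-acyclic for L, then h is locally n-acyclic for L if and only if g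
≫ h is; if g is locally 0-acyclic, then h is locally 0-acyclic if and only if g ≫ h is. -/
theorem result {X Y Z : Scheme.{u}} (g : X ⟶ Y) (h : Y ⟶ Z)
    (hg : Function.Surjective g.base) (L : Set ℕ) (n : ℕ) :
    (EtAcyc.IsLocAcyclicN g L n → (EtAcyc.IsLocAcyclicN h L n ↔ EtAcyc.IsLocAcyclicN (g ≫ h) L n)) ∧
      (EtAcyc.IsLocZeroAcyclic g → (EtAcyc.IsLocZeroAcyclic h ↔ EtAcyc.IsLocZeroAcyclic (g ≫ h))) := by
  exact ⟨onStrictLoc_comp_iff (fun _ _ φ => EtAcyc.IsAcyclicN φ L n) (fun a b => (S3513.result a b L n).1) g h hg,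
    onStrictLoc_comp_iff (fun _ _ φ => EtAcyc.IsZeroAcyclic φ) (fun a b => (S3513.result a b L n).2) g h hg⟩

end Groth.Agent.S3514
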