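import Mathlib
import Groth.Prelude.Def_EtBCD

/-!
# Pullback of global sections and base change for sheaves of sets
-/

set_option autoImplicit false
set_option linter.style.haveILetI false

universe u

open CategoryTheory CategoryTheory.Limits AlgebraicGeometry Opposite

namespace Groth.Agent.SecPullBC

theorem secPull_homEquiv {X Y : Scheme.{u}} (h : Y ⟶ X) {F : EtDesc.Sh X} {G : EtDesc.Sh Y}
    (ψ : F ⟶ (EtDesc.pushSh h).obj G) (s : EtDesc.sect F (EtCoh.top X)) :
    (((EtDesc.adjSh h).homEquiv F G).symm ψ).hom.app (op (EtCoh.top Y)) (EtDesc.secPull h F s) =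
      G.obj.map (EtCore.bcTopIso h).inv.op (ψ.hom.app (op (EtCoh.top X)) s) := by
  unfold EtDesc.secPull
  rw [NatTrans.naturality_apply (((EtDesc.adjSh h).homEquiv F G).symm ψ).hom
    (EtCore.bcTopIso h).inv.op]
  congr 1
  have e : ψ = (EtDesc.adjSh h).unit.app F ≫
      (EtDesc.pushSh h).map (((EtDesc.adjSh h).homEquiv F G).symm ψ) := by
    exact (((EtDesc.adjSh h).homEquiv F G).apply_symm_apply ψ).symm.trans
      ((EtDesc.adjSh h).homEquiv_unit F G _)
  exact (congr(($e).hom.app (op (EtCoh.top X)) s)).symm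

theorem map_eq_map {C : Type*} [Category C] (G : Cᵒᵖ ⥤ Type (u + 1)) {A B T : C}
    (hB : IsTerminal B) (a : A ⟶ B) (b : A ⟶ T) (c : T ⟶ B) (x : G.obj (op B)) :
    G.map b.op (G.map c.op x) = G.map a.op x := by
  rw [← FunctorToTypes.map_comp_apply, ← op_comp, hB.hom_ext (b ≫ c) a]

variable {X Y Xb Yb : Scheme.{u}} (h : Y ⟶ X) (p : Xb ⟶ X) (hb : Yb ⟶ Xb) (pY : Yb ⟶ Y)
  (w : hb ≫ p = pY ≫ h) (Fb : EtDesc.Sh Xb)

theorem baseChange_secPull (s : EtDesc.sect Fb (EtCoh.top Xb)) :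
    (EtBC.baseChange0Sh p h pY hb w Fb).hom.app (op (EtCoh.top Y))
        (EtDesc.secPull h ((EtDesc.pushSh p).obj Fb) (Fb.obj.map (EtCore.bcTopIso p).hom.op s)) =
      ((EtDesc.pullSh hb).obj Fb).obj.map (EtCore.bcTopIso pY).hom.op (EtDesc.secPull hb Fb s) := by
  refine (secPull_homEquiv h _ _).trans ?_
  change ((EtDesc.pushSh pY).obj ((EtDesc.pullSh hb).obj Fb)).obj.map (EtCore.bcTopIso h).inv.op
    (((EtDesc.pushCompSh h pY).inv.app ((EtDesc.pullSh hb).obj Fb)).hom.app (op (EtCoh.top X))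
      (((EtBC.pushCongrSh w).hom.app ((EtDesc.pullSh hb).obj Fb)).hom.app (op (EtCoh.top X))
        (((EtDesc.pushCompSh p hb).hom.app ((EtDesc.pullSh hb).obj Fb)).hom.app (op (EtCoh.top X))
          (((EtDesc.pushSh p).map ((EtDesc.adjSh hb).unit.app Fb)).hom.app (op (EtCoh.top X))
            (Fb.obj.map (EtCore.bcTopIso p).hom.op s))))) = _
  have hnat : ((EtDesc.pushSh p).map ((EtDesc.adjSh hb).unit.app Fb)).hom.app (op (EtCoh.top X))
      (Fb.obj.map (EtCore.bcTopIso p).hom.op s) =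
      ((EtDesc.pullSh hb).obj Fb).obj.map ((EtCoh.bc hb).map (EtCore.bcTopIso p).hom).op
        (((EtDesc.adjSh hb).unit.app Fb).hom.app (op (EtCoh.top Xb)) s) :=
    NatTrans.naturality_apply ((EtDesc.adjSh hb).unit.app Fb).hom (EtCore.bcTopIso p).hom.op s
  erw [hnat]
  unfold EtDesc.secPull
  generalize ((EtDesc.adjSh hb).unit.app Fb).hom.app (op (EtCoh.top Xb)) s = x
  set G := (EtDesc.pullSh hb).obj Fb
  change G.obj.map _ (G.obj.map _ (G.obj.map _ (G.obj.map _ (G.obj.map _ x)))) =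
    G.obj.map _ (G.obj.map _ x)
  simp only [← FunctorToTypes.map_comp_apply, ← op_comp]
  congr 2
  exact congrArg G.obj.map (Quiver.Hom.unop_inj ((EtCore.bcTopIsTerminal hb).hom_ext _ _))

theorem injective_and_bijective :
    ((∀ F : EtDesc.Sh X, Function.Injective (EtDesc.secPull h F)) →
      (∀ Fb : EtDesc.Sh Xb, Mono (EtBC.baseChange0Sh p h pY hb w Fb)) →
      ∀ Fb : EtDesc.Sh Xb, Function.Injective (EtDesc.secPull hb Fb)) ∧
    ((∀ F : EtDesc.Sh X, Function.Bijective (EtDesc.secPull h F)) →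
      (∀ Fb : EtDesc.Sh Xb, IsIso (EtBC.baseChange0Sh p h pY hb w Fb)) →
      ∀ Fb : EtDesc.Sh Xb, Function.Bijective (EtDesc.secPull hb Fb)) := by
  let Γ := sheafToPresheaf Y.smallEtaleTopology (Type (u + 1)) ⋙
    (evaluation _ _).obj (op (EtCoh.top Y))
  have hP : ∀ {C : Type (u + 1)} [Category.{u} C] (G : Cᵒᵖ ⥤ Type (u + 1)) {A B : C} (e : A ≅ B),
      Function.Bijective (G.map e.hom.op) := fun G _ _ e =>
    (isIso_iff_bijective _).1 inferInstance
  refine ⟨fun hinj hmono Fb => ?_, fun hbij hiso Fb => ?_⟩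
  · haveI := hmono Fb
    haveI : Mono (Γ.map (EtBC.baseChange0Sh p h pY hb w Fb)) := inferInstance
    intro s t e
    have e' := congrArg (((EtDesc.pullSh hb).obj Fb).obj.map (EtCore.bcTopIso pY).hom.op) e
    rw [← baseChange_secPull h p hb pY w, ← baseChange_secPull h p hb pY w] at e'
    exact (hP Fb.obj (EtCore.bcTopIso p)).1 (hinj _ ((mono_iff_injective _).1 this e'))
  · haveI := hiso Fb
    have hφ : Function.Bijective (Γ.map (EtBC.baseChange0Sh p h pY hb w Fb)) :=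
      (isIso_iff_bijective _).1 inferInstance
    refine (Function.Bijective.of_comp_iff' (hP ((EtDesc.pullSh hb).obj Fb).obj (EtCore.bcTopIso pY)) _).1 ?_
    have : (((EtDesc.pullSh hb).obj Fb).obj.map (EtCore.bcTopIso pY).hom.op ∘ EtDesc.secPull hb Fb) =
        Γ.map (EtBC.baseChange0Sh p h pY hb w Fb) ∘ EtDesc.secPull h ((EtDesc.pushSh p).obj Fb) ∘
          Fb.obj.map (EtCore.bcTopIso p).hom.op := funext fun s => (baseChange_secPull h p hb pY w Fb s).symm
    rw [this]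
    exact hφ.comp ((hbij _).comp (hP Fb.obj (EtCore.bcTopIso p)))

end Groth.Agent.SecPullBC
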