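import Groth.Statements.S3517
import Groth.Agent.SecPullBC
import Groth.Agent.SecPullMono
import Groth.Agent.EtPtsLib.UnitMono

set_option autoImplicit false
universe u
open CategoryTheory CategoryTheory.Limits AlgebraicGeometry Opposite
open EtBC

namespace Groth.Agent.S3517

set_option backward.isDefEq.respectTransparency false
set_option backward.isDefEq.respectTransparency.types false

open CategoryTheory CategoryTheory.Limits AlgebraicGeometry Opposite GrothendieckTopology

open Groth.Agent.EtPtsLib in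
/-- The unit is a monomorphism of sheaves of sets for a surjective morphism. -/
theorem mono_unit {X Y : Scheme.{u}} (f : X ⟶ Y) (hf : Function.Surjective f.base) (F : EtDesc.Sh Y) :
    Mono ((EtDesc.adjSh f).unit.app F) := by
  choose x hx using hf
  let K := fun y : Y => SeparableClosure (X.residueField (x y))
  haveI : Sheaf.IsLocallyInjective ((EtDesc.adjSh f).unit.app F) := by
    refine SitePts.isLocallyInjective (detects_of_points K (fun y => geomPt (x y) ≫ f) fun y => by
      rw [Scheme.Hom.comp_apply, geomPt_default, hx]) ((EtDesc.adjSh f).unit.app F).hom fun y => ?_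
    let ζ := geomPt (x y)
    haveI : Mono ((comapPoint f ζ).sheafFiber.map ((EtDesc.adjSh f).unit.app F)) := by
      have hiso : IsIso (((Scheme.pointSmallEtale ζ).sheafFiberComapIso (EtCoh.bc f)
          (EtCoh.coverPreserving_bc f) (Type (u + 1))).hom.app F) := inferInstance
      rw [SitePts.comapIso_hom_app] at hiso
      exact mono_of_mono ((comapPoint f ζ).sheafFiber.map ((EtDesc.adjSh f).unit.app F))
        (SitePts.comapStalk (Scheme.pointSmallEtale ζ) (EtCoh.bc f) (EtCoh.coverPreserving_bc f)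
          (Type (u + 1)) ((EtDesc.pullSh f).obj F).obj)
    let e : (comapPoint f ζ).sheafFiber (A := Type (u + 1)) ≅ (Scheme.pointSmallEtale (ζ ≫ f)).sheafFiber :=
      { hom := Point.Hom.sheafFiber (pointIso f ζ).hom
        inv := Point.Hom.sheafFiber (pointIso f ζ).inv
        hom_inv_id := by rw [← Point.Hom.sheafFiber_comp, Iso.inv_hom_id, Point.Hom.sheafFiber_id]
        inv_hom_id := by rw [← Point.Hom.sheafFiber_comp, Iso.hom_inv_id, Point.Hom.sheafFiber_id] }
    haveI : Mono ((Scheme.pointSmallEtale (ζ ≫ f)).sheafFiber.map ((EtDesc.adjSh f).unit.app F)) := by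
      have h := e.inv.naturality ((EtDesc.adjSh f).unit.app F)
      haveI : Mono ((Scheme.pointSmallEtale (ζ ≫ f)).sheafFiber.map ((EtDesc.adjSh f).unit.app F) ≫ e.inv.app _) := by
        rw [h]; haveI : IsIso (e.inv.app ((𝟭 (EtDesc.Sh Y)).obj F)) :=
          ⟨⟨e.hom.app _, e.inv_hom_id_app _, e.hom_inv_id_app _⟩⟩
        exact mono_comp _ _
      exact mono_of_mono _ (e.inv.app _)
    exact (mono_iff_injective _).1
      (inferInstanceAs (Mono ((Scheme.pointSmallEtale (ζ ≫ f)).sheafFiber.map ((EtDesc.adjSh f).unit.app F))))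
  exact Sheaf.mono_of_isLocallyInjective _

/-- Let h : Y → X and p : X̄ → X be morphisms of schemes with p surjective, Ȳ = Y ×_X X̄ with
projections h̄ : Ȳ → X̄ and p_Y : Ȳ → Y. If for every sheaf of sets F̄ on X̄ the pullback map on
global sections Γ(X̄, F̄) → Γ(Ȳ, h̄^* F̄) is injective, then for every sheaf of sets F on X the map
Γ(X, F) → Γ(Y, h^* F) is injective. If those maps for h̄ are bijective and moreover the base change
morphism h^* p_* F̄ → p_{Y*} h̄^* F̄ is a monomorphism for every sheaf of sets F̄ on X̄, then the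
maps Γ(X, F) → Γ(Y, h^* F) are bijective. -/
theorem result {X Y Xb Yb : Scheme.{u}} (h : Y ⟶ X) (p : Xb ⟶ X)
    (hb : Yb ⟶ Xb) (pY : Yb ⟶ Y) (sq : IsPullback hb pY p h) (hp : Function.Surjective p.base) :
    ((∀ Fb : EtDesc.Sh Xb, Function.Injective (EtDesc.secPull hb Fb)) →
      ∀ F : EtDesc.Sh X, Function.Injective (EtDesc.secPull h F)) ∧
    ((∀ Fb : EtDesc.Sh Xb, Function.Bijective (EtDesc.secPull hb Fb)) →
      (∀ Fb : EtDesc.Sh Xb, Mono (EtBC.baseChange0Sh p h pY hb sq.w Fb)) →
      ∀ F : EtDesc.Sh X, Function.Bijective (EtDesc.secPull h F)) := by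
  have hP : ∀ {C : Type (u + 1)} [Category.{u} C] (G : Cᵒᵖ ⥤ Type (u + 1)) {A B : C} (e : A ≅ B),
      Function.Bijective (G.map e.hom.op) := fun G _ _ e =>
    (isIso_iff_bijective _).1 inferInstance
  have hcomp : ∀ Fb : EtDesc.Sh Xb,
      ((EtDesc.pullSh hb).obj Fb).obj.map (EtCore.bcTopIso pY).hom.op ∘ EtDesc.secPull hb Fb =
        (fun z => (EtBC.baseChange0Sh p h pY hb sq.w Fb).hom.app (op (EtCoh.top Y)) z) ∘
          EtDesc.secPull h ((EtDesc.pushSh p).obj Fb) ∘ Fb.obj.map (EtCore.bcTopIso p).hom.op :=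
    fun Fb => funext fun s => (SecPullBC.baseChange_secPull h p hb pY sq.w Fb s).symm
  have hinj1 : (∀ Fb : EtDesc.Sh Xb, Function.Injective (EtDesc.secPull hb Fb)) →
      ∀ Fb : EtDesc.Sh Xb, Function.Injective (EtDesc.secPull h ((EtDesc.pushSh p).obj Fb)) := fun H Fb a b e => by
    obtain ⟨a, rfl⟩ := (hP Fb.obj (EtCore.bcTopIso p)).2 a
    obtain ⟨b, rfl⟩ := (hP Fb.obj (EtCore.bcTopIso p)).2 b
    have h1 := (hP ((EtDesc.pullSh hb).obj Fb).obj (EtCore.bcTopIso pY)).1.comp (H Fb)
    rw [hcomp] at h1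
    exact congrArg _ (h1 (congrArg (fun z => (EtBC.baseChange0Sh p h pY hb sq.w Fb).hom.app (op (EtCoh.top Y)) z) e))
  have hinj2 : (∀ Fb : EtDesc.Sh Xb, Function.Injective (EtDesc.secPull hb Fb)) →
      ∀ F : EtDesc.Sh X, Function.Injective (EtDesc.secPull h F) := fun H F a b e => by
    haveI := mono_unit p hp F
    haveI : Mono ((sheafToPresheaf X.smallEtaleTopology (Type (u + 1)) ⋙
        (evaluation _ _).obj (op (EtCoh.top X))).map ((EtDesc.adjSh p).unit.app F)) := inferInstance
    apply (mono_iff_injective _).1 this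
    show ((EtDesc.adjSh p).unit.app F).hom.app (op (EtCoh.top X)) a =
      ((EtDesc.adjSh p).unit.app F).hom.app (op (EtCoh.top X)) b
    refine hinj1 H ((EtDesc.pullSh p).obj F) ?_
    exact ((SecPullMono.secPull_natural h ((EtDesc.adjSh p).unit.app F) a).symm.trans
      (congrArg (((EtDesc.pullSh h).map ((EtDesc.adjSh p).unit.app F)).hom.app (op (EtCoh.top Y))) e)).trans
      (SecPullMono.secPull_natural h ((EtDesc.adjSh p).unit.app F) b)
  refine ⟨hinj2, fun hbij hmono F => ⟨hinj2 (fun Fb => (hbij Fb).1) F, fun ξ => ?_⟩⟩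
  haveI := mono_unit p hp F
  refine SecPullMono.mem_range_secPull h (hinj2 fun Fb => (hbij Fb).1) ((EtDesc.adjSh p).unit.app F) ξ ?_
  let Fb := (EtDesc.pullSh p).obj F
  haveI := hmono Fb
  haveI : Mono ((sheafToPresheaf Y.smallEtaleTopology (Type (u + 1)) ⋙
      (evaluation _ _).obj (op (EtCoh.top Y))).map (EtBC.baseChange0Sh p h pY hb sq.w Fb)) := inferInstance
  have hm := (mono_iff_injective _).1 this
  obtain ⟨s, hs⟩ := ((hP ((EtDesc.pullSh hb).obj Fb).obj (EtCore.bcTopIso pY)).comp (hbij Fb)).2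
    ((EtBC.baseChange0Sh p h pY hb sq.w Fb).hom.app (op (EtCoh.top Y))
      (((EtDesc.pullSh h).map ((EtDesc.adjSh p).unit.app F)).hom.app (op (EtCoh.top Y)) ξ))
  refine ⟨Fb.obj.map (EtCore.bcTopIso p).hom.op s, hm ?_⟩
  exact (SecPullBC.baseChange_secPull h p hb pY sq.w Fb s).trans hs

end Groth.Agent.S3517
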