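import Groth.Statements.S3527
import Groth.Agent.TorLib.Basic
import Mathlib

set_option autoImplicit false
universe u
open HTor

namespace Groth.Agent.S3527

/-- If A is a commutative ring and M is a flat A-module, then Tor_p^A(M, N) = 0 and Tor_p^A(N, M) = 0
for every A-module N and every p ≥ 1. (The published statement is about local hypertor sheaves over
general S, X, Y; in the affine case these are the sheaves attached to Tor_n^A, and only the
resulting statement about A-modules is given here. Tor is Mathlib's, left derived in the second
variable; vanishing is stated as Subsingleton, and both orders are stated.) -/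
theorem result (A : Type u) [CommRing A] (M N : Type u) [AddCommGroup M] [Module A M]
    [AddCommGroup N] [Module A N] [Module.Flat A M] (p : ℕ) (hp : 0 < p) :
    Subsingleton (DRing.Tor A p M N) ∧ Subsingleton (DRing.Tor A p N M) := by
  obtain ⟨n, rfl⟩ := Nat.exists_eq_add_of_le hp
  rw [Nat.add_comm]
  refine ⟨Groth.Agent.TorLib.subsingleton_tor_of_flat M N n, ?_⟩
  clear hp
  induction n generalizing N with
  | zero =>
    let π := Finsupp.linearCombination A (id : N → N)
    have hπ : Function.Surjective π := Finsupp.linearCombination_id_surjective A N
    let e := Groth.Agent.TorLib.torOneEquivKer (K := LinearMap.ker π) (F := N →₀ A) (M := N) (LinearMap.ker π).subtype π M Subtype.val_injective hπ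
      (LinearMap.exact_subtype_ker_map π)
    have : Subsingleton (LinearMap.ker ((LinearMap.ker π).subtype.rTensor M)) := by
      have hinj : Function.Injective ((LinearMap.ker π).subtype.rTensor M) :=
        Module.Flat.rTensor_preserves_injective_linearMap _ Subtype.val_injective
      exact ⟨fun a b => Subtype.ext (hinj (a.2.trans b.2.symm))⟩
    exact e.toEquiv.subsingleton
  | succ n ih =>
    let π := Finsupp.linearCombination A (id : N → N)
    have hπ : Function.Surjective π := Finsupp.linearCombination_id_surjective A N
    let e := Groth.Agent.TorLib.torSuccEquiv (K := LinearMap.ker π) (F := N →₀ A) (M := N) (LinearMap.ker π).subtype π M Subtype.val_injective hπ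
      (LinearMap.exact_subtype_ker_map π) n
    have := ih (LinearMap.ker π)
    exact e.toEquiv.subsingleton

end Groth.Agent.S3527
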