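import Groth.Statements.S3531
import Groth.Agent.HTorCompute.Proj
import Groth.Agent.HTorCompute.Tilde
import Groth.Agent.RelPCLib.TildeTensor
-- import your own Groth.Agent.* helpers here

set_option autoImplicit false
set_option backward.isDefEq.respectTransparency false
set_option maxHeartbeats 800000
set_option synthInstance.maxHeartbeats 200000
universe u
attribute [local instance] HasDerivedCategory.standard
open HTor

namespace Groth.Agent.S3531

open CategoryTheory CategoryTheory.Limits AlgebraicGeometry in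
/-- (One factor, base Spec A, in derived form.) Let X be quasi-compact and separated over Spec A via f,
and P a complex of quasi-coherent O_X-modules vanishing in large degrees, with every term flat over
Spec A. If a complex L of projective A-modules vanishing in large degrees computes RΓ(X, P), then
for every complex Q of A-modules vanishing in large degrees, L ⊗_A Q computes RΓ(X, P ⊗_A Q), where
P ⊗_A Q is the total complex of the P^i ⊗_{O_X} f^*(Q^j)~. (The published statement gives a
canonical isomorphism; here only the existence of an isomorphism in D(A) is asserted.) -/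
theorem result (A : Type u) [CommRing A] (X : Scheme.{u})
    (f : X ⟶ Spec (CommRingCat.of A)) [QuasiCompact f] [IsSeparated f] [HTor.HasRΓA f]
    (P : CochainComplex X.Modules ℤ) (hq : ∀ i : ℤ, Coh.IsQCoh (P.X i))
    (bP : ∃ b : ℤ, ∀ i : ℤ, b < i → IsZero (P.X i)) (hfl : ∀ i : ℤ, FlatMod.IsFlatOver f (P.X i))
    (L : DRing.Cx A) (hL : ∀ i : ℤ, Projective (L.X i)) (c : ∃ c : ℤ, DRing.VanishesAbove L c)
    (e : HTor.Computes f L (DCoh.toD X P)) (Q : DRing.Cx A) (bQ : ∃ b : ℤ, DRing.VanishesAbove Q b) :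
    HTor.Computes f (HTor.tensorCx L Q) (DCoh.toD X (HTor.tensorACx f P Q)) := by
  haveI : QuasiSeparated f := inferInstance
  haveI := HTorCompute.hasRpush' f
  obtain ⟨b, hb⟩ := bP
  obtain ⟨c, hc⟩ := c
  let tA := TildeLpull.tilCx (CommRingCat.of A)
  have hQq : ∀ i, Coh.IsQCoh ((tA.obj Q).X i) := fun i => TildeD.isQCoh_tilde _
  obtain ⟨eL⟩ := (HTorCompute.computes_iff f L _ (TildeD.isQCohD_of_terms P hq)).1 e
  obtain ⟨t⟩ := RelPCLib.nonempty_tilCx_tensor (R := CommRingCat.of A) L Q
  obtain ⟨a⟩ := HTorCompute.nonempty_proj_flat f (tA.obj Q) (TildeD.isQCohD_of_terms _ hQq) P b hb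
    (TildeD.isQCohD_of_terms P hq) hfl
  obtain ⟨s⟩ := DCohLib.nonempty_symCxSch ((DCohLib.pullCx f).obj (tA.obj Q)) P
  have hK : DCoh.IsKFlat (tA.obj L) :=
    HTorCompute.isKFlat_tilCx_bdd L c hc fun i => haveI := hL i; HTorCompute.flat_of_projective _
  refine (HTorCompute.computes_iff f _ _ (TildeD.isQCohD_of_terms _
    (HTorCompute.isQCoh_tensorCx_X _ _ hq (HTorCompute.isQCoh_pullCx_X f _ hQq)))).2
    ⟨(TildeLpull.tildeDFactors (CommRingCat.of A)).app (HTor.tensorCx L Q) ≪≫
      DerivedCategory.Q.mapIso t ≪≫ (DCohLib.lTensorIso (tA.obj Q) (tA.obj L) hK).symm ≪≫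
      (DCoh.LTensorCx (tA.obj Q)).mapIso (((TildeLpull.tildeDFactors (CommRingCat.of A)).app L).symm ≪≫ eL) ≪≫
      a ≪≫ (DCoh.Rpush f).mapIso (DerivedCategory.Q.mapIso s)⟩

end Groth.Agent.S3531
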