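import Groth.Statements.S3532
import Groth.Agent.InvLimLib.Basic
-- import your own Groth.Agent.* helpers here

set_option autoImplicit false
universe u
open HomAlg3

namespace Groth.Agent.S3532

open CategoryTheory in
/-- Category of abelian groups, system indexed by the natural numbers: Let (A_k)_{k ≥ 0} be an inverse
system of abelian groups. For p ≤ k write Im_k(A_p) for the image of A_k → A_p, and K_p for the
kernel of A_p → A_{p-1} (K_0 = A_0). Then (A_k) satisfies the Mittag-Leffler condition (for each p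
the subgroups Im_k(A_p) are eventually constant in k) if and only if for each p the subgroups
Im_k(A_p) ∩ K_p are eventually constant in k. -/
theorem result (F : ℕᵒᵖ ⥤ AddCommGrpCat.{u}) :
    (F ⋙ forget AddCommGrpCat).IsMittagLeffler ↔
      ((∃ k₀ : ℕ, ∀ (k : ℕ) (hk : k₀ ≤ k),
          (F.map (homOfLE (Nat.zero_le k)).op).hom.range = (F.map (homOfLE (Nat.zero_le k₀)).op).hom.range) ∧
        ∀ p : ℕ, ∃ k₀ : ℕ, ∃ h₀ : p + 1 ≤ k₀, ∀ (k : ℕ) (hk : k₀ ≤ k),
          (F.map (homOfLE (h₀.trans hk)).op).hom.range ⊓ (F.map (homOfLE (Nat.le_succ p)).op).hom.ker =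
            (F.map (homOfLE h₀).op).hom.range ⊓ (F.map (homOfLE (Nat.le_succ p)).op).hom.ker) := by
  rw [Groth.Agent.InvLimLib.ml_iff]
  constructor
  · intro h
    refine ⟨?_, fun p => ?_⟩
    · obtain ⟨j, hj, hj'⟩ := h 0
      refine ⟨j, fun k hk => le_antisymm ?_ ?_⟩
      · rintro _ ⟨x, rfl⟩; exact ⟨Groth.Agent.InvLimLib.tr F hk x, Groth.Agent.InvLimLib.tr_tr F _ hk x⟩
      · rintro _ ⟨x, rfl⟩; exact hj' k (Nat.zero_le k) x
    · obtain ⟨j, hj, hj'⟩ := h (p + 1)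
      refine ⟨j, hj, fun k hk => congrArg (· ⊓ _) (le_antisymm ?_ ?_)⟩
      · rintro _ ⟨x, rfl⟩; exact ⟨Groth.Agent.InvLimLib.tr F hk x, Groth.Agent.InvLimLib.tr_tr F hj hk x⟩
      · rintro _ ⟨x, rfl⟩; exact hj' k (hj.trans hk) x
  · rintro ⟨⟨k₀, h0⟩, h1⟩ i
    induction i with
    | zero =>
      refine ⟨k₀, Nat.zero_le _, fun k hk x => ?_⟩
      have hK := le_max_left k₀ k
      have : Groth.Agent.InvLimLib.tr F (Nat.zero_le k₀) x ∈ (F.map (homOfLE (Nat.zero_le (max k₀ k))).op).hom.range := by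
        rw [h0 _ hK]; exact ⟨x, rfl⟩
      obtain ⟨y, hy⟩ := this
      exact ⟨Groth.Agent.InvLimLib.tr F (le_max_right k₀ k) y, by rw [Groth.Agent.InvLimLib.tr_tr]; exact hy⟩
    | succ p ih =>
      obtain ⟨j, hj, hj'⟩ := ih
      obtain ⟨k₁, hk₁, hs⟩ := h1 p
      obtain ⟨K, hjK, hk₁K⟩ := exists_ge_ge j k₁
      refine ⟨K, hk₁.trans hk₁K, fun k hk x => ?_⟩
      obtain ⟨m, hkm, hKm⟩ := exists_ge_ge k K
      have hpm : p ≤ m := (Nat.le_succ p).trans (hk.trans hkm)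
      obtain ⟨y, hy⟩ := hj' m hpm (Groth.Agent.InvLimLib.tr F hjK x)
      have hmem : Groth.Agent.InvLimLib.tr F (hk₁.trans hk₁K) x - Groth.Agent.InvLimLib.tr F (hk.trans hkm) y ∈
          (F.map (homOfLE hk₁).op).hom.range ⊓ (F.map (homOfLE (Nat.le_succ p)).op).hom.ker := by
        refine ⟨⟨Groth.Agent.InvLimLib.tr F hk₁K x - Groth.Agent.InvLimLib.tr F (hk₁K.trans hKm) y, ?_⟩, ?_⟩
        · show Groth.Agent.InvLimLib.tr F hk₁ _ = _
          rw [map_sub, Groth.Agent.InvLimLib.tr_tr, Groth.Agent.InvLimLib.tr_tr]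
        · show Groth.Agent.InvLimLib.tr F (Nat.le_succ p) _ = 0
          rw [map_sub, Groth.Agent.InvLimLib.tr_tr, Groth.Agent.InvLimLib.tr_tr, hy, Groth.Agent.InvLimLib.tr_tr, sub_self]
      rw [← hs m (hk₁K.trans hKm)] at hmem
      obtain ⟨⟨z, hz⟩, -⟩ := hmem
      refine ⟨Groth.Agent.InvLimLib.tr F hkm (y + z), ?_⟩
      rw [Groth.Agent.InvLimLib.tr_tr, map_add]
      have hz' : Groth.Agent.InvLimLib.tr F (hk.trans hkm) z = Groth.Agent.InvLimLib.tr F (hk₁.trans hk₁K) x - Groth.Agent.InvLimLib.tr F (hk.trans hkm) y := hz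
      rw [hz']; abel

end Groth.Agent.S3532
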