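import Groth.Statements.S3542
import Groth.Agent.TensorCohLib.Basic
-- import your own Groth.Agent.* helpers here

set_option autoImplicit false
set_option backward.isDefEq.respectTransparency false
set_option maxHeartbeats 800000
set_option synthInstance.maxHeartbeats 200000
universe u
attribute [local instance] HasDerivedCategory.standard
open HTor

namespace Groth.Agent.S3542

open CategoryTheory CategoryTheory.Limits AlgebraicGeometry in
lemma isLE_of_isZero {W : Scheme.{u}} (K : CochainComplex W.Modules ℤ) (b : ℤ) (h : ∀ i : ℤ, b < i → IsZero (K.X i)) :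
    (DCoh.toD W K).IsLE b :=
  (DerivedCategory.isLE_iff _ _).2 fun i hi => IsZero.of_iso
    ((HomologicalComplex.exactAt_iff_isZero_homology _ _).1 (HomologicalComplex.ExactAt.of_isZero (h i hi)))
    ((DerivedCategory.homologyFunctorFactors W.Modules i).app K)

open CategoryTheory CategoryTheory.Limits AlgebraicGeometry in
lemma isCohD_tor {X Y S : Scheme.{u}} (f : X ⟶ S) (g : Y ⟶ S) [Flat f]
    [IsLocallyNoetherian X] [IsLocallyNoetherian (pullback f g)]
    (P : CochainComplex X.Modules ℤ) (Q : CochainComplex Y.Modules ℤ)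
    (b : ℤ) (hb : ∀ i : ℤ, b < i → IsZero (P.X i)) (c : ℤ) (hc : ∀ i : ℤ, c < i → IsZero (Q.X i))
    (hP : DCoh.IsCohD (DCoh.toD X P)) (hQ : DCoh.IsCohD (DCoh.toD Y Q))
    [DCoh.HasLpull (pullback.fst f g)] [DCoh.HasLTensorCx ((HTor.pullCx (pullback.snd f g)).obj Q)] :
    DCoh.IsCohD ((DCoh.LTensorCx ((HTor.pullCx (pullback.snd f g)).obj Q)).obj
      ((DCoh.Lpull (pullback.fst f g)).obj (DCoh.toD X P))) := by
  haveI : Flat (pullback.snd f g) := MorphismProperty.pullback_snd (P := @Flat) _ _ inferInstance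
  haveI := isLE_of_isZero P b hb
  haveI := isLE_of_isZero ((HTor.pullCx (pullback.snd f g)).obj Q) c
    (fun i hi => (Scheme.Modules.pullback (pullback.snd f g)).map_isZero (hc i hi))
  refine TensorCohLib.isCohD_of_pc _ (TensorCohLib.pc_lTensor _ (fun m => ?_) _ (fun m => ?_))
  · exact DCohMore.isPseudoCoherentD_of_coh _ c (TensorCohLib.isCohD_pullCx _ Q hQ) m
  · exact DCohLib.isPseudoCoherentD_lpull (pullback.fst f g) m _ (DCohMore.isPseudoCoherentD_of_coh _ b hP m)

open CategoryTheory CategoryTheory.Limits AlgebraicGeometry in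
/-- Let f : X ⟶ S be flat with X locally Noetherian, g : Y ⟶ S any morphism, and suppose Z = X ×_S Y is
locally Noetherian. Let P (resp. Q) be a complex of quasi-coherent O_X-modules (resp. O_Y-modules)
vanishing in large degrees, all of whose cohomology sheaves are coherent. Since X is flat over S,
the local hypertor sheaves Tor_n^S(P, Q) on Z are the cohomology sheaves of L pr₁^*P ⊗^L pr₂^*Q
(derived pullback and derived tensor product under their existence binders; pr₂ is flat, so pr₂^*Q
is the termwise pullback). Then all these cohomology sheaves are coherent O_Z-modules. -/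
theorem result (X Y S : Scheme.{u}) (f : X ⟶ S) (g : Y ⟶ S) [Flat f]
    [IsLocallyNoetherian X] [IsLocallyNoetherian (pullback f g)]
    (P : CochainComplex X.Modules ℤ) (Q : CochainComplex Y.Modules ℤ)
    (hqP : ∀ i : ℤ, Coh.IsQCoh (P.X i)) (hqQ : ∀ i : ℤ, Coh.IsQCoh (Q.X i))
    (bP : ∃ b : ℤ, ∀ i : ℤ, b < i → IsZero (P.X i)) (bQ : ∃ b : ℤ, ∀ i : ℤ, b < i → IsZero (Q.X i))
    (hP : DCoh.IsCohD (DCoh.toD X P)) (hQ : DCoh.IsCohD (DCoh.toD Y Q))
    [DCoh.HasLpull (pullback.fst f g)] [DCoh.HasLTensorCx ((HTor.pullCx (pullback.snd f g)).obj Q)] :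
    DCoh.IsCohD ((DCoh.LTensorCx ((HTor.pullCx (pullback.snd f g)).obj Q)).obj
      ((DCoh.Lpull (pullback.fst f g)).obj (DCoh.toD X P))) := by
  obtain ⟨b, hb⟩ := bP
  obtain ⟨c, hc⟩ := bQ
  exact isCohD_tor f g P Q b hb c hc hP hQ

end Groth.Agent.S3542
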