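import Groth.Statements.S3533
import Groth.Agent.S3542
import Groth.Agent.DevLib.TFSub
-- import your own Groth.Agent.* helpers here

set_option autoImplicit false
set_option backward.isDefEq.respectTransparency false
set_option maxHeartbeats 800000
set_option synthInstance.maxHeartbeats 200000
universe u
attribute [local instance] HasDerivedCategory.standard
open HTor

namespace Groth.Agent.S3533

open CategoryTheory CategoryTheory.Limits AlgebraicGeometry in
lemma isCohD_single {W : Scheme.{u}} (M : W.Modules) (h : Coh.IsCoh M) :
    DCoh.IsCohD (DCoh.toD W ((HomologicalComplex.single W.Modules (ComplexShape.up ℤ) 0).obj M)) := fun i => by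
  by_cases hi : i = 0
  · subst hi
    exact TildeOpenLib.isCoh_of_iso' (((DerivedCategory.homologyFunctorFactors W.Modules 0).app _) ≪≫
      HomologicalComplex.singleObjHomologySelfIso (ComplexShape.up ℤ) 0 M).symm h
  · exact DevLib.isCoh_of_isZero (IsZero.of_iso
      ((HomologicalComplex.exactAt_iff_isZero_homology _ _).1
        (HomologicalComplex.ExactAt.of_isZero (HomologicalComplex.isZero_single_obj_X _ 0 M i hi)))
      ((DerivedCategory.homologyFunctorFactors W.Modules i).app _))

open CategoryTheory CategoryTheory.Limits AlgebraicGeometry in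
/-- Let f : X ⟶ S be a flat morphism with X locally Noetherian, g : Y ⟶ S a morphism, and suppose Z = X
×_S Y is locally Noetherian. As X is flat over S, the local hypertor sheaves Tor_n^S(F, G) on Z are
taken to be the cohomology sheaves in degree −n of L pr₁^* F ⊗^L pr₂^* G, where pr₂^* G is the plain
pullback of G viewed as a complex in degree 0 and the derived pullback L pr₁^* and the derived
tensor product are taken under their existence binders; the statement is made in that form. Then for
F a coherent O_X-module and G a coherent O_Y-module, every cohomology sheaf of L pr₁^* F ⊗^L pr₂^* G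
is a coherent O_Z-module. -/
theorem result (X Y S : Scheme.{u}) (f : X ⟶ S) (g : Y ⟶ S) [Flat f]
    [IsLocallyNoetherian X] [IsLocallyNoetherian (pullback f g)] (F : X.Modules) (G : Y.Modules)
    (hF : Coh.IsCoh F) (hG : Coh.IsCoh G) [DCoh.HasLpull (pullback.fst f g)]
    [DCoh.HasLTensorCx ((HTor.pullCx (pullback.snd f g)).obj
      ((HomologicalComplex.single Y.Modules (ComplexShape.up ℤ) 0).obj G))] (n : ℤ) :
    Coh.IsCoh (DCoh.HD ((DCoh.LTensorCx ((HTor.pullCx (pullback.snd f g)).obj
      ((HomologicalComplex.single Y.Modules (ComplexShape.up ℤ) 0).obj G))).obj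
        ((DCoh.Lpull (pullback.fst f g)).obj (DCoh.inD X F))) n) := by
  exact (DCohMore.isCohD_of_iso'
    ((DCoh.LTensorCx _).mapIso ((DCoh.Lpull (pullback.fst f g)).mapIso
      ((DerivedCategory.singleFunctorIsoCompQ X.Modules 0).app F).symm))
    (S3542.isCohD_tor f g ((HomologicalComplex.single X.Modules (ComplexShape.up ℤ) 0).obj F)
      ((HomologicalComplex.single Y.Modules (ComplexShape.up ℤ) 0).obj G) 0
      (fun i hi => HomologicalComplex.isZero_single_obj_X _ 0 F i hi.ne') 0
      (fun i hi => HomologicalComplex.isZero_single_obj_X _ 0 G i hi.ne')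
      (isCohD_single F hF) (isCohD_single G hG))) n

end Groth.Agent.S3533
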