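import Groth.Statements.S3537
import Groth.Agent.TorLib.ChangeRing
import Groth.Agent.TorLib.Symm

set_option autoImplicit false
universe u
open HTor

namespace Groth.Agent.S3537

/-- Base change for Tor: let A → A′ be a homomorphism of commutative rings, P an A-module with
Tor_q^A(P, A′) = 0 for all q ≥ 1, and Q′ an A′-module, regarded also as an A-module. Then for every
n ≥ 0 there is a bijective map Tor_n^A(P, Q′) → Tor_n^{A′}(A′ ⊗_A P, Q′) that is semilinear over A →
A′. Here Tor is the left derived functor of the tensor product in the second variable, and only the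
existence of such a bijective semilinear map is asserted. The published statement is the degenerate
case of a base-change spectral sequence for hypertor of modules over schemes; stated here in the
affine case with a single module. -/
theorem result (A A' : Type u) [CommRing A] [CommRing A'] [Algebra A A']
    (P : Type u) [AddCommGroup P] [Module A P] (Q' : Type u) [AddCommGroup Q'] [Module A' Q'] [Module A Q']
    [IsScalarTower A A' Q'] (hP : ∀ q : ℕ, 0 < q → Subsingleton (DRing.Tor A q P A')) (n : ℕ) :
    ∃ φ : DRing.Tor A n P Q' →ₛₗ[algebraMap A A'] DRing.Tor A' n (TensorProduct A A' P) Q',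
      Function.Bijective φ := by
  obtain ⟨φ, hφ⟩ := Groth.Agent.TorLib.exists_semilinear_bijective A' Q' P
    (fun m => by
      obtain ⟨e⟩ := Groth.Agent.TorLib.tor_symm (A := A) (m + 1) A' P
      haveI := hP (m + 1) m.succ_pos
      exact e.toEquiv.subsingleton) _ (LinearEquiv.refl A' (TensorProduct A A' P)) n
  obtain ⟨e₁⟩ := Groth.Agent.TorLib.tor_symm (A := A) n P Q'
  obtain ⟨e₂⟩ := Groth.Agent.TorLib.tor_symm (A := A') n Q' (TensorProduct A A' P)
  exact ⟨{ toFun := fun x => e₂ (φ (e₁ x))
           map_add' := fun x y => by simp only [map_add]
           map_smul' := fun a x => by rw [map_smul e₁, φ.map_smulₛₗ, map_smul e₂] },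
    e₂.bijective.comp (hφ.comp e₁.bijective)⟩

end Groth.Agent.S3537
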