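import Groth.Statements.S3544
import Groth.Agent.EulerLib.Basic
-- import your own Groth.Agent.* helpers here

set_option autoImplicit false
universe u
open HomAlg3

namespace Groth.Agent.S3544

open CategoryTheory CategoryTheory.Limits in
/-- Let E be a cohomological spectral sequence of modules over a ring A, starting at page 2, such that
the E₂ terms have finite length and only finitely many of them (all inside the finite set s of
bidegrees) are nonzero. Then for every r ≥ 2 the Euler–Poincaré characteristic of page r, the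
alternating sum over s of (-1)^{p+q} times the length of E_r^{pq}, equals that of page 2. -/
theorem result {A : Type u} [Ring A]
    (E : E₂CohomologicalSpectralSequence (ModuleCat.{u} A)) (s : Finset (ℤ × ℤ))
    (hs : ∀ pq : ℤ × ℤ, pq ∉ s → IsZero ((E.page 2).X pq))
    (hfl : ∀ pq : ℤ × ℤ, IsFiniteLength A ((E.page 2).X pq)) (r : ℤ) (hr : 2 ≤ r) :
    (s.sum fun pq => (((pq.1 + pq.2).negOnePow : ℤˣ) : ℤ) * ((Module.length A ((E.page r hr).X pq)).toNat : ℤ)) =
      s.sum fun pq => (((pq.1 + pq.2).negOnePow : ℤˣ) : ℤ) * ((Module.length A ((E.page 2).X pq)).toNat : ℤ) := by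
  have key : ∀ (n : ℕ), ((∀ pq, IsFiniteLength A ((E.page (2 + n) (by omega)).X pq)) ∧ ∀ pq, pq ∉ s → IsZero ((E.page (2 + n) (by omega)).X pq)) ∧
      (s.sum fun pq => (((pq.1 + pq.2).negOnePow : ℤˣ) : ℤ) * ((Module.length A ((E.page (2 + n) (by omega)).X pq)).toNat : ℤ)) =
        s.sum fun pq => (((pq.1 + pq.2).negOnePow : ℤˣ) : ℤ) * ((Module.length A ((E.page 2).X pq)).toNat : ℤ) := by
    intro n
    induction n with
    | zero => exact ⟨⟨hfl, hs⟩, rfl⟩
    | succ n ih =>
      obtain ⟨⟨hX, hz⟩, he⟩ := ih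
      let K := E.page (2 + n) (by omega)
      have iso : ∀ pq, K.homology pq ≅ (E.page (2 + (n + 1 : ℕ)) (by omega)).X pq := fun pq =>
        E.iso (2 + n) (2 + (n + 1 : ℕ)) pq (by push_cast; omega) (by omega)
      have hH : ∀ pq, IsFiniteLength A (K.homology pq) := fun pq => by
        have h1 := (Groth.Agent.EulerLib.length_add _ (Groth.Agent.EulerLib.shortExact_cycles K (pq - ((2 + (n : ℤ)), 1 - (2 + (n : ℤ))))) (Groth.Agent.EulerLib.length_add _ (Groth.Agent.EulerLib.shortExact_X K _) (hX _)).1.1).1.2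
        rwa [sub_add_cancel] at h1
      refine ⟨⟨fun pq => (hH pq).of_surjective ((ModuleCat.epi_iff_surjective (iso pq).hom).1 inferInstance), fun pq hpq => ?_⟩, ?_⟩
      · exact IsZero.of_iso (ShortComplex.exact_iff_isZero_homology _ |>.1 (ShortComplex.exact_of_isZero_X₂ _ (hz pq hpq))) (iso pq).symm
      · rw [← he]
        refine Eq.trans (Finset.sum_congr rfl fun pq _ => ?_)
          (Groth.Agent.EulerLib.sum_eq (δ := ((2 + (n : ℤ)), 1 - (2 + (n : ℤ)))) K (Groth.Agent.EulerLib.lenZ A) (fun N => IsFiniteLength A N) (fun S hS h => (Groth.Agent.EulerLib.length_add S hS h).1)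
            (fun S hS h => (Groth.Agent.EulerLib.length_add S hS h).2) (fun pq => (((pq.1 + pq.2).negOnePow : ℤˣ) : ℤ))
            (fun pq => by
              rw [show (pq + ((2 + (n : ℤ)), 1 - (2 + (n : ℤ)))).1 + (pq + ((2 + (n : ℤ)), 1 - (2 + (n : ℤ)))).2 = pq.1 + pq.2 + 1 by
                simp only [Prod.fst_add, Prod.snd_add]; ring, Int.negOnePow_succ, Units.val_neg]) s hz hX).symm
        show (((pq.1 + pq.2).negOnePow : ℤˣ) : ℤ) * _ = (((pq.1 + pq.2).negOnePow : ℤˣ) : ℤ) * Groth.Agent.EulerLib.lenZ A (K.homology pq)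
        unfold Groth.Agent.EulerLib.lenZ
        rw [(iso pq).toLinearEquiv.length_eq]
  obtain ⟨n, rfl⟩ : ∃ n : ℕ, r = 2 + n := ⟨(r - 2).toNat, by omega⟩
  exact (key n).2

end Groth.Agent.S3544
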