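import Groth.Statements.S3555
import Mathlib

set_option autoImplicit false
universe u
open CategoryTheory CategoryTheory.Limits AlgebraicGeometry
open EGA2

namespace Groth.Agent.S3555

/-- Let S be a graded ring whose irrelevant ideal S_+ is generated by the degree-one elements, X = Proj
S, and f homogeneous of degree d > 0. Then D_+(f) is the set of points p of X at which the global
section f/1 of O_X(d) does not vanish, i.e. at which its value generates the module of degree-d
fractions at p. -/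
theorem result {R A : Type u} [CommRing R] [CommRing A] [Algebra R A] (𝒜 : ℕ → Submodule R A) [GradedAlgebra 𝒜]
    (hgen : (HomogeneousIdeal.irrelevant 𝒜).toIdeal = Ideal.span (𝒜 1 : Set A))
    {d : ℕ} (hd : 0 < d) (f : 𝒜 d) (p : ProjectiveSpectrum 𝒜) :
    p ∈ ProjectiveSpectrum.basicOpen 𝒜 (f : A) ↔
      Submodule.span (Twist.A0 𝒜 p) {(Twist.globalOf 𝒜 f).1 ⟨p, trivial⟩} = ⊤ := by
  have hval : ((Twist.globalOf 𝒜 f).1 ⟨p, trivial⟩ : Twist.Loc 𝒜 p) =
      algebraMap A (Twist.Loc 𝒜 p) (f : A) := Localization.mk_one_eq_algebraMap _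
  constructor
  · intro hp
    have hfp : (f : A) ∉ p.asHomogeneousIdeal := hp
    rw [eq_top_iff]
    intro q _
    rw [Submodule.mem_span_singleton]
    have key : ∀ x : Twist.Loc 𝒜 p, x ∈ Twist.twistAt 𝒜 (d : ℤ) p →
        ∃ c : Twist.A0 𝒜 p, c.val * algebraMap A (Twist.Loc 𝒜 p) (f : A) = x := by
      intro x hx
      induction hx using Submodule.span_induction with
      | mem x hx =>
        obtain ⟨i, j, a, s, hs, hij, rfl⟩ := hx
        have hi : i = j + d := by omega
        refine ⟨HomogeneousLocalization.mk ⟨i, a, ⟨s.1 * f.1, hi.symm ▸ SetLike.mul_mem_graded s.2 f.2⟩,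
          fun h => (p.isPrime.mem_or_mem h).elim hs hfp⟩, ?_⟩
        rw [HomogeneousLocalization.val_mk, ← Localization.mk_one_eq_algebraMap, Localization.mk_mul,
          Localization.mk_eq_mk_iff, Localization.r_iff_exists]
        refine ⟨1, ?_⟩
        simp only [OneMemClass.coe_one, one_mul, Submonoid.coe_mul, mul_one]
        ring
      | zero => exact ⟨0, by simp⟩
      | add x y _ _ hx hy =>
        obtain ⟨c, rfl⟩ := hx
        obtain ⟨c', rfl⟩ := hy
        exact ⟨c + c', by rw [HomogeneousLocalization.val_add, add_mul]⟩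
      | smul r x _ hx =>
        obtain ⟨c, rfl⟩ := hx
        exact ⟨r * c, by rw [HomogeneousLocalization.val_mul, Algebra.smul_def,
          HomogeneousLocalization.algebraMap_apply, mul_assoc]⟩
    obtain ⟨c, hc⟩ := key q.1 q.2
    exact ⟨c, Subtype.ext (by rw [Twist.coe_smul_val, hval, hc])⟩
  · intro htop hfp
    obtain ⟨g, hg1, hgp⟩ : ∃ g ∈ 𝒜 1, g ∉ p.asHomogeneousIdeal := by
      by_contra hcon
      push_neg at hcon
      exact p.not_irrelevant_le fun x hx => (Ideal.span_le.2 (fun y hy => hcon y hy)) (hgen.le hx)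
    let q : Twist.twistAt 𝒜 (d : ℤ) p := ⟨Localization.mk (g ^ d)
      ⟨1, fun h => p.isPrime.ne_top ((Ideal.eq_top_iff_one _).mpr h)⟩,
      Submodule.subset_span ⟨d, 0, ⟨g ^ d, by simpa using SetLike.pow_mem_graded d hg1⟩,
        ⟨1, SetLike.GradedOne.one_mem⟩, _, by simp, rfl⟩⟩
    have hq : q ∈ Submodule.span (Twist.A0 𝒜 p) {(Twist.globalOf 𝒜 f).1 ⟨p, trivial⟩} := htop ▸ trivial
    obtain ⟨c, hc⟩ := Submodule.mem_span_singleton.1 hq
    have hc' := congrArg (fun z : Twist.twistAt 𝒜 (d : ℤ) p => (z : Twist.Loc 𝒜 p)) hc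
    simp only [Twist.coe_smul_val, hval] at hc'
    have hmem : algebraMap A (Twist.Loc 𝒜 p) (g ^ d) ∈ IsLocalRing.maximalIdeal (Twist.Loc 𝒜 p) := by
      have : algebraMap A (Twist.Loc 𝒜 p) (g ^ d) = c.val * algebraMap A (Twist.Loc 𝒜 p) (f : A) := by
        rw [hc']
        exact (Localization.mk_one_eq_algebraMap _).symm
      rw [this]
      exact Ideal.mul_mem_left _ _ ((IsLocalization.AtPrime.to_map_mem_maximal_iff _ p.asHomogeneousIdeal.toIdeal _).2 hfp)
    rw [IsLocalization.AtPrime.to_map_mem_maximal_iff _ p.asHomogeneousIdeal.toIdeal] at hmem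
    exact hgp (p.isPrime.mem_of_pow_mem d hmem)

end Groth.Agent.S3555
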