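import Groth.Statements.S3558
import Groth.Agent.ProjRed.Basic

set_option autoImplicit false
set_option linter.style.haveILetI false
set_option backward.isDefEq.respectTransparency false
universe u
open CategoryTheory CategoryTheory.Limits AlgebraicGeometry
open EGA2

namespace Groth.Agent.S3558

/-- For a graded ring S, Proj S is empty if and only if every element of the irrelevant ideal S_+ is
nilpotent. -/
theorem result {R A : Type u} [CommRing R] [CommRing A] [Algebra R A] (𝒜 : ℕ → Submodule R A) [GradedAlgebra 𝒜] :
    IsEmpty (Proj 𝒜) ↔ ∀ f ∈ (HomogeneousIdeal.irrelevant 𝒜).toIdeal, IsNilpotent f := by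
  classical
  constructor
  · intro h f hf
    rw [← mem_nilradical, nilradical_eq_sInf, Submodule.mem_sInf]
    intro P hP
    by_contra hfP
    exact h.false (⟨Ideal.homogeneousCore 𝒜 P, Ideal.IsPrime.homogeneousCore (𝒜 := 𝒜) hP,
      fun hle => hfP (Ideal.toIdeal_homogeneousCore_le 𝒜 P (hle hf))⟩ : Proj 𝒜)
  · intro h
    refine ⟨fun x => x.not_irrelevant_le fun f hf => ?_⟩
    obtain ⟨n, hn⟩ := h f hf
    exact x.isPrime.mem_of_pow_mem n (by rw [hn]; exact zero_mem _)

end Groth.Agent.S3558
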