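import Groth.Statements.S3559
import Groth.Agent.ProjRed.Basic

set_option autoImplicit false
set_option linter.style.haveILetI false
set_option backward.isDefEq.respectTransparency false
universe u
open CategoryTheory CategoryTheory.Limits AlgebraicGeometry
open EGA2

namespace Groth.Agent.S3559

/-- Let S be a graded ring and (f_i) a family of homogeneous elements of positive degree. The opens
D_+(f_i) cover Proj S if and only if every element of S_+ has a power in the ideal generated by the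
f_i. -/
theorem result {R A : Type u} [CommRing R] [CommRing A] [Algebra R A] (𝒜 : ℕ → Submodule R A) [GradedAlgebra 𝒜]
    {ι : Type u} (f : ι → A) (hf : ∀ i, ∃ d : ℕ, 0 < d ∧ f i ∈ 𝒜 d) :
    (⨆ i, Proj.basicOpen 𝒜 (f i)) = ⊤ ↔
      (HomogeneousIdeal.irrelevant 𝒜).toIdeal ≤ (Ideal.span (Set.range f)).radical := by
  classical
  constructor
  · intro h x hx
    rw [Ideal.radical_eq_sInf, Submodule.mem_sInf]
    rintro P ⟨hP, hPp⟩
    by_contra hxP
    let Q := Ideal.homogeneousCore 𝒜 P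
    have hQ : Q.toIdeal.IsPrime := Ideal.IsPrime.homogeneousCore (𝒜 := 𝒜) hPp
    have hirr : ¬ HomogeneousIdeal.irrelevant 𝒜 ≤ Q := fun hle =>
      hxP (Ideal.toIdeal_homogeneousCore_le 𝒜 P (hle hx))
    have hy : (⟨Q, hQ, hirr⟩ : Proj 𝒜) ∈ (⨆ i, Proj.basicOpen 𝒜 (f i)) := by rw [h]; trivial
    obtain ⟨i, hi⟩ := TopologicalSpace.Opens.mem_iSup.1 hy
    obtain ⟨d, _, hd⟩ := hf i
    exact hi (Ideal.mem_homogeneousCore_of_homogeneous_of_mem ⟨d, hd⟩
      (hP (Ideal.subset_span ⟨i, rfl⟩)))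
  · intro h
    refine eq_top_iff.2 fun x _ => ?_
    by_contra hx
    refine x.not_irrelevant_le fun z hz => ?_
    obtain ⟨n, hn⟩ := h hz
    refine x.isPrime.mem_of_pow_mem n (Ideal.span_le.2 ?_ hn)
    rintro _ ⟨i, rfl⟩
    by_contra hi
    exact hx (TopologicalSpace.Opens.mem_iSup.2 ⟨i, hi⟩)

end Groth.Agent.S3559
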