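import Groth.Statements.S3560
import Groth.Agent.ProjRed.Basic

set_option autoImplicit false
set_option linter.style.haveILetI false
set_option backward.isDefEq.respectTransparency false
universe u
open CategoryTheory CategoryTheory.Limits AlgebraicGeometry
open EGA2

namespace Groth.Agent.S3560

/-- Let S be a graded ring whose irrelevant ideal S_+ is finitely generated. Then Proj S is empty if and
only if there is n such that S_k = 0 for all k ≥ n. -/
theorem result {R A : Type u} [CommRing R] [CommRing A] [Algebra R A] (𝒜 : ℕ → Submodule R A) [GradedAlgebra 𝒜]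
    (hfg : (HomogeneousIdeal.irrelevant 𝒜).toIdeal.FG) :
    IsEmpty (Proj 𝒜) ↔ ∃ n : ℕ, ∀ k : ℕ, n ≤ k → 𝒜 k = ⊥ := by
  classical
  constructor
  · intro h
    have hnil : (HomogeneousIdeal.irrelevant 𝒜).toIdeal ≤ nilradical A := by
      intro f hf
      rw [nilradical_eq_sInf, Submodule.mem_sInf]
      intro P hP
      by_contra hfP
      exact h.false (⟨Ideal.homogeneousCore 𝒜 P, Ideal.IsPrime.homogeneousCore (𝒜 := 𝒜) hP,
        fun hle => hfP (Ideal.toIdeal_homogeneousCore_le 𝒜 P (hle hf))⟩ : Proj 𝒜)
    obtain ⟨s, hs⟩ := hfg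
    let t : Finset A := s.biUnion fun a => (DirectSum.decompose 𝒜 a).support.image
      (fun i => (DirectSum.decompose 𝒜 a i : A))
    have hmax : ∀ e ∈ t, ∃ i, 0 < i ∧ e ∈ 𝒜 i ∧ IsNilpotent e := by
      intro e he
      obtain ⟨a, ha, he⟩ := Finset.mem_biUnion.1 he
      obtain ⟨i, hi, rfl⟩ := Finset.mem_image.1 he
      have hirr : a ∈ (HomogeneousIdeal.irrelevant 𝒜).toIdeal := hs ▸ Ideal.subset_span ha
      refine ⟨i, ?_, SetLike.coe_mem _, hnil ((HomogeneousIdeal.irrelevant 𝒜).isHomogeneous i hirr)⟩
      rcases Nat.eq_zero_or_pos i with rfl | hi'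
      · exact absurd hi (by
          simp only [DFinsupp.mem_support_toFun, ne_eq, not_not]
          exact Subtype.ext ((HomogeneousIdeal.mem_irrelevant_iff 𝒜 a).1 hirr))
      · exact hi'
    choose! deg hdeg0 hdeg hdnil using hmax
    have hspan : (HomogeneousIdeal.irrelevant 𝒜).toIdeal ≤ Ideal.span (t : Set A) := by
      rw [← hs, Ideal.span_le]
      intro a ha
      rw [SetLike.mem_coe, ← DirectSum.sum_support_decompose 𝒜 a]
      exact Ideal.sum_mem _ fun i hi => Ideal.subset_span
        (Finset.mem_biUnion.2 ⟨a, ha, Finset.mem_image.2 ⟨i, hi, rfl⟩⟩)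
    have htnil : Ideal.span (t : Set A) ≤ nilradical A := Ideal.span_le.2 fun e he => hdnil e he
    obtain ⟨k, hk⟩ := Ideal.exists_pow_le_of_le_radical_of_fg htnil (Submodule.fg_span t.finite_toSet)
    set D := t.sup deg
    have key : ∀ j m : ℕ, j * D < m → ∀ a ∈ 𝒜 m, a ∈ Ideal.span (t : Set A) ^ (j + 1) := by
      intro j
      induction j with
      | zero =>
        intro m hm a ha
        rw [zero_add, pow_one]
        refine hspan ?_
        rw [HomogeneousIdeal.mem_iff, HomogeneousIdeal.mem_irrelevant_iff, GradedRing.proj_apply,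
          DirectSum.decompose_of_mem_ne 𝒜 ha (by omega)]
      | succ j ih =>
        intro m hm a ha
        have hat : a ∈ Ideal.span (t : Set A) := hspan (by
          rw [HomogeneousIdeal.mem_iff, HomogeneousIdeal.mem_irrelevant_iff, GradedRing.proj_apply,
            DirectSum.decompose_of_mem_ne 𝒜 ha (by omega)])
        obtain ⟨c, hc⟩ := Submodule.mem_span_finset.1 hat
        rw [← DirectSum.decompose_of_mem_same 𝒜 ha, ← hc.2, DirectSum.decompose_sum,
          DFinsupp.finsetSum_apply, AddSubmonoidClass.coe_finset_sum]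
        refine Ideal.sum_mem _ fun e he => ?_
        rw [smul_eq_mul]
        by_cases hle : deg e ≤ m
        · rw [DirectSum.coe_decompose_mul_of_right_mem_of_le 𝒜 (hdeg e he) hle, pow_succ]
          refine Ideal.mul_mem_mul (ih _ ?_ _ (SetLike.coe_mem _)) (Ideal.subset_span he)
          have : deg e ≤ D := Finset.le_sup he
          rw [add_mul, one_mul] at hm
          omega
        · rw [DirectSum.coe_decompose_mul_of_right_mem_of_not_le 𝒜 (hdeg e he) hle]
          exact zero_mem _
    refine ⟨k * D + 1, fun m hm => eq_bot_iff.2 fun a ha => ?_⟩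
    exact Submodule.mem_bot R |>.2 ((Submodule.mem_bot A).1
      (hk (Ideal.pow_le_pow_right (Nat.le_succ k) (key k m (by omega) a ha))))
  · rintro ⟨n, hn⟩
    refine ⟨fun x => ?_⟩
    obtain ⟨d, f, hd, hf, hfx⟩ := Groth.Agent.ProjRed.exists_not_mem x
    refine hfx (x.isPrime.mem_of_pow_mem n ?_)
    have h := hn (n * d) (Nat.le_mul_of_pos_right n hd)
    have hm : f ^ n ∈ 𝒜 (n * d) := by simpa using SetLike.pow_mem_graded n hf
    rw [h, Submodule.mem_bot] at hm
    rw [hm]
    exact zero_mem _

end Groth.Agent.S3560
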