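import Groth.Statements.S3565
import Groth.Agent.NormAmpleLib.Descent
import Groth.Agent.FinLocFreeLib.Basic

set_option autoImplicit false
universe u
open CategoryTheory CategoryTheory.Limits AlgebraicGeometry
open EGA2

namespace Groth.Agent.S3565

/-- Let f : X → Y be a quasi-compact morphism, g : X' → X a finite surjective morphism such that the
direct image of the structure sheaf of X' is a finite locally free O_X-module, and L an invertible
O_X-module. Then L is ample relative to f if and only if its inverse image on X' is ample relative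
to f ∘ g. -/
theorem result {X X' Y : Scheme.{u}} (f : X ⟶ Y) [QuasiCompact f]
    (g : X' ⟶ X) [IsFinite g] [Surjective g]
    (hfree : FlatMod.IsFinLocFree ((Coh.push g).obj (Coh.structureModule X')))
    (L : X.Modules) (hL : PicF.IsInvertible L) :
    RelAmple.IsRelAmple f L ↔ RelAmple.IsRelAmple (g ≫ f) ((Scheme.Modules.pullback g).obj L) := by
  constructor
  · intro h
    exact Groth.Agent.AmpleLib.isRelAmple_pullback_quasiAffine g
      ⟨inferInstance, fun V hV => by haveI : IsAffine (g ⁻¹ᵁ V : Scheme.{u}) := hV.preimage g; infer_instance⟩ h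
  · intro h
    refine ⟨inferInstance, fun V => ?_⟩
    let U := f ⁻¹ᵁ V.1
    haveI : CompactSpace (U : Scheme.{u}) := isCompact_iff_compactSpace.1 (f.isCompact_preimage V.2.isCompact)
    have hg := Groth.Agent.FinLocFreeLib.isFinLocFree_of_push g hfree
    haveI : IsFinite (g ∣_ U) := IsZariskiLocalAtTarget.restrict (P := @IsFinite) inferInstance U
    haveI : Surjective (g ∣_ U) := IsZariskiLocalAtTarget.restrict (P := @Surjective) inferInstance U
    have hU : Mor2.IsFinLocFree (g ∣_ U) :=
      ⟨inferInstance, IsZariskiLocalAtTarget.restrict (P := @Flat) hg.2.1 U,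
        IsZariskiLocalAtTarget.restrict (P := @LocallyOfFinitePresentation) hg.2.2 U⟩
    exact Groth.Agent.NormAmpleLib.isAmple_of_pullback (g ∣_ U) (Groth.Agent.FinLocFreeLib.isFinLocFree_push _ hU)
      (Groth.Agent.ParaFLib.isInvertible_restrict U.ι hL)
      (Groth.Agent.AmpleLib.isAmple_of_iso
        (Groth.Agent.AmpleLib.pullRestr g (g ⁻¹ᵁ U).ι U.ι (g ∣_ U) (morphismRestrict_ι g U).symm L) (h.2 V))

end Groth.Agent.S3565
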