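import Groth.Statements.S3569


set_option autoImplicit false
universe u
open CategoryTheory CategoryTheory.Limits AlgebraicGeometry
open EGA2

namespace Groth.Agent.S3569

/-- Let f : X → S be an affine morphism and g : Y → S any morphism. Then h ↦ A(h) = f_*(h^♯) is a
bijection from the set of S-morphisms Y → X onto the set of O_S-algebra homomorphisms f_*O_X →
g_*O_Y (morphisms of sheaves of rings compatible with the structure maps from O_S). -/
theorem result {X Y S : Scheme.{u}} (f : X ⟶ S) [IsAffineHom f] (g : Y ⟶ S) :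
    Function.Bijective (AffAlg.algOf f g) := by
  have happ : ∀ (h : Y ⟶ X) (w : h ≫ f = g) (O : S.Opens),
      (AffAlg.algHom f g h w).app (Opposite.op O) =
        h.appLE (f ⁻¹ᵁ O) (g ⁻¹ᵁ O) (by subst w; exact le_rfl) := by
    intro h w O
    subst w
    refine Eq.trans ?_ (Scheme.Hom.appLE_eq_app h).symm
    simp only [AffAlg.algHom, NatTrans.comp_app]
    exact (congrArg (h.c.app _ ≫ ·) (by rw [eqToHom_app]; rfl)).trans (Category.comp_id _)
  have iota : ∀ (h : Y ⟶ X) (w : h ≫ f = g) (U : S.Opens) (hU : IsAffineOpen U),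
      (g ⁻¹ᵁ U).ι ≫ h = (g ⁻¹ᵁ U).toSpecΓ ≫ Spec.map ((AffAlg.algHom f g h w).app (Opposite.op U)) ≫
        (hU.preimage f).fromSpec := by
    intro h w U hU
    rw [happ h w U, Scheme.Hom.appLE, Spec.map_comp, Category.assoc,
      Scheme.Opens.toSpecΓ_SpecMap_presheaf_map_assoc, reassoc_of% Scheme.Opens.toSpecΓ_naturality,
      (hU.preimage f).toSpecΓ_fromSpec, morphismRestrict_ι, Scheme.homOfLE_ι_assoc]
  have inj : ∀ (W : Y.Opens) {R : CommRingCat.{u}} (a b : R ⟶ Γ(Y, W)),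
      W.toSpecΓ ≫ Spec.map a = W.toSpecΓ ≫ Spec.map b → a = b := by
    intro W R a b h
    have h' := congrArg (fun k => (Scheme.ΓSpecIso R).inv ≫ Scheme.Hom.appTop k) h
    simp only [Scheme.Hom.comp_appTop, ← Scheme.ΓSpecIso_inv_naturality_assoc, Scheme.Opens.toSpecΓ_appTop,
      Iso.inv_hom_id_assoc, cancel_mono] at h'
    exact h'
  constructor
  · rintro ⟨h, w⟩ ⟨h', w'⟩ e
    have e' : AffAlg.algHom f g h w = AffAlg.algHom f g h' w' := congrArg Subtype.val e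
    refine Subtype.ext (Scheme.Cover.hom_ext
      (Y.openCoverOfIsOpenCover (fun U : S.affineOpens => g ⁻¹ᵁ (U : S.Opens))
        (show _ = ⊤ by rw [← Scheme.Hom.preimage_iSup, iSup_affineOpens_eq_top, Scheme.Hom.preimage_top]))
      _ _ fun U => ?_)
    show (g ⁻¹ᵁ (U.1 : S.Opens)).ι ≫ h = (g ⁻¹ᵁ (U.1 : S.Opens)).ι ≫ h'
    rw [iota h w U.1 U.2, iota h' w' U.1 U.2, e']
  · rintro ⟨ω, hω⟩
    let k : ∀ U : S.affineOpens, ((g ⁻¹ᵁ (U : S.Opens) : Y.Opens) : Scheme.{u}) ⟶ X := fun U =>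
      (g ⁻¹ᵁ (U : S.Opens)).toSpecΓ ≫ Spec.map (ω.app (Opposite.op (U : S.Opens))) ≫ (U.2.preimage f).fromSpec
    have hkf : ∀ U, k U ≫ f = (g ⁻¹ᵁ (U : S.Opens)).ι ≫ g := fun U => by
      have h : f.app (U : S.Opens) ≫ ω.app (Opposite.op (U : S.Opens)) = g.app (U : S.Opens) :=
        NatTrans.congr_app hω (Opposite.op (U : S.Opens))
      have hf : (U.2.preimage f).fromSpec ≫ f = Spec.map (f.app (U : S.Opens)) ≫ U.2.fromSpec := by
        rw [← U.2.SpecMap_appLE_fromSpec f (U.2.preimage f) le_rfl, Scheme.Hom.appLE_eq_app]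
      simp only [k, Category.assoc]
      rw [hf, ← Spec.map_comp_assoc]
      erw [h]
      rw [reassoc_of% Scheme.Opens.toSpecΓ_naturality, U.2.toSpecΓ_fromSpec, morphismRestrict_ι]
    have hres : ∀ (U V : S.affineOpens) (hle : (V : S.Opens) ≤ U),
        Y.homOfLE (g.preimage_mono hle) ≫ k U = k V := fun U V hle => by
      simp only [k]
      rw [← reassoc_of% Scheme.Opens.toSpecΓ_SpecMap_presheaf_map,
        ← (U.2.preimage f).map_fromSpec (V.2.preimage f) (homOfLE (f.preimage_mono hle)).op,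
        ← Spec.map_comp_assoc, ← Spec.map_comp_assoc]
      erw [ω.naturality (homOfLE hle).op]
      rfl
    let 𝒰 := Y.openCoverOfIsOpenCover (fun U : S.affineOpens => g ⁻¹ᵁ (U : S.Opens))
      (show _ = ⊤ by rw [← Scheme.Hom.preimage_iSup, iSup_affineOpens_eq_top, Scheme.Hom.preimage_top])
    have compat : ∀ (U V : S.affineOpens) {Z : Scheme.{u}} (a : Z ⟶ (g ⁻¹ᵁ (U : S.Opens) : Y.Opens))
        (b : Z ⟶ (g ⁻¹ᵁ (V : S.Opens) : Y.Opens)),
        a ≫ (g ⁻¹ᵁ (U : S.Opens)).ι = b ≫ (g ⁻¹ᵁ (V : S.Opens)).ι → a ≫ k U = b ≫ k V := by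
      intro U V Z a b hab
      set c := a ≫ (g ⁻¹ᵁ (U : S.Opens)).ι with hc
      refine Scheme.Cover.hom_ext (Z.openCoverOfIsOpenCover
        (fun W : {W : S.affineOpens // (W : S.Opens) ≤ (U : S.Opens) ⊓ (V : S.Opens)} =>
          c ⁻¹ᵁ (g ⁻¹ᵁ (W.1 : S.Opens))) ?_) _ _ ?_
      · refine top_le_iff.mp fun z _ => ?_
        have hzU : g (c z) ∈ (U : S.Opens) := by rw [hc]; exact (a z).2
        have hzV : g (c z) ∈ (V : S.Opens) := by rw [hab]; exact (b z).2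
        obtain ⟨W, hW, hzW, hWle⟩ := exists_isAffineOpen_mem_and_subset
          (U := (U : S.Opens) ⊓ V) ⟨hzU, hzV⟩
        exact TopologicalSpace.Opens.mem_iSup.mpr ⟨⟨⟨W, hW⟩, hWle⟩, hzW⟩
      · intro W
        change (c ⁻¹ᵁ (g ⁻¹ᵁ (W.1 : S.Opens))).ι ≫ a ≫ k U = (c ⁻¹ᵁ (g ⁻¹ᵁ (W.1 : S.Opens))).ι ≫ b ≫ k V
        have ea : (c ⁻¹ᵁ (g ⁻¹ᵁ (W.1 : S.Opens))).ι ≫ a =
            (c ∣_ (g ⁻¹ᵁ (W.1 : S.Opens))) ≫ Y.homOfLE (g.preimage_mono (W.2.trans inf_le_left)) := by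
          rw [← cancel_mono (g ⁻¹ᵁ (U : S.Opens)).ι]
          simp [hc]
        have eb : (c ⁻¹ᵁ (g ⁻¹ᵁ (W.1 : S.Opens))).ι ≫ b =
            (c ∣_ (g ⁻¹ᵁ (W.1 : S.Opens))) ≫ Y.homOfLE (g.preimage_mono (W.2.trans inf_le_right)) := by
          rw [← cancel_mono (g ⁻¹ᵁ (V : S.Opens)).ι]
          simp [hab]
        rw [reassoc_of% ea, reassoc_of% eb, hres U W.1 (W.2.trans inf_le_left), hres V W.1 (W.2.trans inf_le_right)]
    let h := 𝒰.glueMorphisms k (fun U V => compat U V _ _ Limits.pullback.condition)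
    have hh : ∀ U : S.affineOpens, (g ⁻¹ᵁ (U : S.Opens)).ι ≫ h = k U := fun U => 𝒰.ι_glueMorphisms _ _ U
    have w : h ≫ f = g := 𝒰.hom_ext _ _ fun (U : S.affineOpens) => by
      show (g ⁻¹ᵁ (U : S.Opens)).ι ≫ h ≫ f = (g ⁻¹ᵁ (U : S.Opens)).ι ≫ g
      rw [reassoc_of% hh U, hkf]
    refine ⟨⟨h, w⟩, Subtype.ext ?_⟩
    show AffAlg.algHom f g h w = ω
    have key : ∀ U : S.affineOpens,
        (AffAlg.algHom f g h w).app (Opposite.op (U : S.Opens)) = ω.app (Opposite.op (U : S.Opens)) := fun U => by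
      refine inj _ _ _ ?_
      rw [← cancel_mono (U.2.preimage f).fromSpec, Category.assoc, Category.assoc, ← iota h w U.1 U.2, hh U]
    let G : TopCat.Sheaf CommRingCat.{u} S.carrier :=
      (TopCat.Sheaf.pushforward CommRingCat.{u} g.base).obj Y.sheaf
    refine NatTrans.ext (funext fun O => ?_)
    obtain ⟨O⟩ := O
    let V : {W : S.affineOpens // (W : S.Opens) ≤ O} → S.Opens := fun W => W.1.1
    have hcov : O ≤ iSup V := fun x hx => by
      obtain ⟨W, hW, hxW, hle⟩ := exists_isAffineOpen_mem_and_subset (U := O) hx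
      exact TopologicalSpace.Opens.mem_iSup.mpr ⟨⟨⟨W, hW⟩, hle⟩, hxW⟩
    ext x
    refine TopCat.Sheaf.eq_of_locally_eq' G V O (fun W => homOfLE W.2) hcov _ _ fun W => ?_
    have n1 := congrArg (fun m => m.hom x) ((AffAlg.algHom f g h w).naturality (homOfLE W.2).op)
    have n2 := congrArg (fun m => m.hom x) (ω.naturality (homOfLE W.2).op)
    have k1 := congrArg (fun m => m.hom (((AffAlg.alg f).map (homOfLE W.2).op).hom x)) (key W.1)
    exact n1.symm.trans (k1.trans n2)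

end Groth.Agent.S3569
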