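import Groth.Statements.S3570
import Groth.Agent.RelSpecLib.Basic

set_option autoImplicit false
universe u
open CategoryTheory CategoryTheory.Limits AlgebraicGeometry
open EGA2

namespace Groth.Agent.S3570

/-- Let f : X → S and g : Y → S be affine morphisms and h : Y → X an S-morphism. Then h is an
isomorphism if and only if A(h) : f_*O_X → g_*O_Y is an isomorphism (of presheaves of rings on S). -/
theorem result {X Y S : Scheme.{u}} (f : X ⟶ S) [IsAffineHom f] (g : Y ⟶ S)
    [IsAffineHom g] (h : Y ⟶ X) (w : h ≫ f = g) :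
    IsIso h ↔ IsIso (AffAlg.algHom f g h w) := by
  subst w
  haveI : IsAffineHom h := IsAffineHom.of_comp h f
  have happ : ∀ O : S.Opens, (AffAlg.algHom f (h ≫ f) h rfl).app (Opposite.op O) = h.app (f ⁻¹ᵁ O) := fun O => by
    simp only [AffAlg.algHom, NatTrans.comp_app]
    exact (congrArg (h.c.app _ ≫ ·) (by rw [eqToHom_app]; rfl)).trans (Category.comp_id _)
  constructor
  · intro hh
    have : ∀ O, IsIso ((AffAlg.algHom f (h ≫ f) h rfl).app O) := by
      rintro ⟨O⟩
      rw [happ O]
      haveI := hh
      exact Scheme.Hom.isIso_app h _ (fun x _ => h.surjective x)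
    exact NatIso.isIso_of_isIso_app _
  · intro hh
    refine IsZariskiLocalAtTarget.of_iSup_eq_top (P := MorphismProperty.isomorphisms Scheme)
      (fun U : S.affineOpens => f ⁻¹ᵁ (U : S.Opens)) ?_ fun U => ?_
    · rw [← Scheme.Hom.preimage_iSup, iSup_affineOpens_eq_top, Scheme.Hom.preimage_top]
    · show IsIso _
      rw [isIso_morphismRestrict_iff_isIso_app h (U.2.preimage f), ← happ U.1]
      exact NatIso.isIso_app_of_isIso _ _

end Groth.Agent.S3570
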