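import Groth.Statements.S3574
import Mathlib

set_option autoImplicit false
set_option linter.style.haveILetI false
set_option backward.isDefEq.respectTransparency false
universe u
open CategoryTheory CategoryTheory.Limits AlgebraicGeometry
open EGA2

namespace Groth.Agent.S3574

open TensorProduct in
lemma compat {R A : Type u} [CommRing R] [CommRing A] [Algebra R A] (𝒜 : ℕ → Submodule R A)
    [GradedAlgebra 𝒜] {d e : ℕ} {f g : A} (hf : f ∈ 𝒜 d) (hd : 0 < d) (hg : g ∈ 𝒜 e) (he : 0 < e)
    {T : Scheme.{u}} (a : T ⟶ Spec (CommRingCat.of (Localization.Away f)))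
    (b : T ⟶ Spec (CommRingCat.of (Localization.Away g)))
    (h : a ≫ Spec.map (CommRingCat.ofHom (algebraMap A (Localization.Away f))) =
      b ≫ Spec.map (CommRingCat.ofHom (algebraMap A (Localization.Away g)))) :
    a ≫ Spec.map (CommRingCat.ofHom (algebraMap (HomogeneousLocalization.Away 𝒜 f) (Localization.Away f))) ≫
        Proj.awayι 𝒜 f hf hd =
      b ≫ Spec.map (CommRingCat.ofHom (algebraMap (HomogeneousLocalization.Away 𝒜 g) (Localization.Away g))) ≫
        Proj.awayι 𝒜 g hg he := by
  let P := pullbackSpecIso A (Localization.Away f) (Localization.Away g)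
  let k : T ⟶ Spec (CommRingCat.of (Localization.Away f ⊗[A] Localization.Away g)) :=
    pullback.lift a b h ≫ P.hom
  have ha : a = k ≫ Spec.map (CommRingCat.ofHom Algebra.TensorProduct.includeLeftRingHom) := by
    simp [k, P]
  have hb : b = k ≫ Spec.map (CommRingCat.ofHom
      (Algebra.TensorProduct.includeRight.toRingHom)) := by
    simp [k, P]
  have hu : IsUnit (algebraMap A (Localization.Away f ⊗[A] Localization.Away g) (f * g)) := by
    rw [map_mul]
    refine IsUnit.mul ?_ ?_
    · rw [← AlgHom.commutes (Algebra.TensorProduct.includeLeft (S := A)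
        (A := Localization.Away f) (B := Localization.Away g))]
      exact (IsLocalization.Away.algebraMap_isUnit f).map _
    · rw [← AlgHom.commutes (Algebra.TensorProduct.includeRight (R := A)
        (A := Localization.Away f) (B := Localization.Away g))]
      exact (IsLocalization.Away.algebraMap_isUnit g).map _
  let θ : Localization.Away (f * g) →+* (Localization.Away f ⊗[A] Localization.Away g) :=
    IsLocalization.Away.lift (f * g) (g := algebraMap A _) hu
  have hθ : ∀ t, θ (algebraMap A _ t) = algebraMap A _ t := fun t => IsLocalization.Away.lift_eq _ _ _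
  let u := θ.comp (algebraMap (HomogeneousLocalization.Away 𝒜 (f * g)) (Localization.Away (f * g)))
  have h1 : u.comp (HomogeneousLocalization.awayMap 𝒜 hg (rfl : f * g = f * g)) =
      (Algebra.TensorProduct.includeLeftRingHom : Localization.Away f →+* _).comp
        (algebraMap (HomogeneousLocalization.Away 𝒜 f) (Localization.Away f)) := by
    refine RingHom.ext fun x => ?_
    simp only [u, RingHom.comp_apply, HomogeneousLocalization.algebraMap_apply,
      HomogeneousLocalization.val_awayMap]
    refine RingHom.congr_fun (g := (Algebra.TensorProduct.includeLeftRingHom :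
      Localization.Away f →+* _)) (f := θ.comp _) ?_ x.val
    refine IsLocalization.ringHom_ext (Submonoid.powers f) (RingHom.ext fun t => ?_)
    simp only [RingHom.comp_apply, IsLocalization.Away.lift_eq]
    rw [hθ]
    exact (AlgHom.commutes (Algebra.TensorProduct.includeLeft (S := A)
      (A := Localization.Away f) (B := Localization.Away g)) t).symm
  have h2 : u.comp (HomogeneousLocalization.awayMap 𝒜 hf (mul_comm f g)) =
      (Algebra.TensorProduct.includeRight.toRingHom : Localization.Away g →+* _).comp
        (algebraMap (HomogeneousLocalization.Away 𝒜 g) (Localization.Away g)) := by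
    refine RingHom.ext fun x => ?_
    simp only [u, RingHom.comp_apply, HomogeneousLocalization.algebraMap_apply,
      HomogeneousLocalization.val_awayMap]
    refine RingHom.congr_fun (g := (Algebra.TensorProduct.includeRight.toRingHom :
      Localization.Away g →+* _)) (f := θ.comp _) ?_ x.val
    refine IsLocalization.ringHom_ext (Submonoid.powers g) (RingHom.ext fun t => ?_)
    simp only [RingHom.comp_apply, IsLocalization.Away.lift_eq]
    rw [hθ]
    exact (AlgHom.commutes (Algebra.TensorProduct.includeRight (R := A)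
      (A := Localization.Away f) (B := Localization.Away g)) t).symm
  clear_value k
  rw [ha, hb]
  simp only [Category.assoc]
  rw [← Spec.map_comp_assoc, ← Spec.map_comp_assoc (CommRingCat.ofHom (algebraMap _ _)),
    ← CommRingCat.ofHom_comp, ← CommRingCat.ofHom_comp, ← h1, ← h2]
  simp only [u, CommRingCat.ofHom_comp, Spec.map_comp, Category.assoc]
  rw [Proj.SpecMap_awayMap_awayι 𝒜 hf hd hg (rfl : f * g = f * g),
    Proj.SpecMap_awayMap_awayι 𝒜 hg he hf (mul_comm f g)]
  rfl

/-- Let S be an ℕ-graded algebra over a ring, C = Spec S its affine cone, E = C − V(S_+) the pointed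
affine cone and X = Proj S. Then there is exactly one morphism π : E → X (the canonical retraction)
whose restriction to each chart Spec S_f of E, for f homogeneous of positive degree, is the
composite Spec S_f → Spec S_(f) ≅ D_+(f) ⊆ X induced by the inclusion S_(f) → S_f. The published
statement is not limited to an affine base. -/
theorem result {R A : Type u} [CommRing R] [CommRing A] [Algebra R A] (𝒜 : ℕ → Submodule R A) [GradedAlgebra 𝒜] :
    ∃! π : (Cone.pointed 𝒜 : Scheme.{u}) ⟶ Proj 𝒜,
      ∀ (d : ℕ) (f : A) (hd : 0 < d) (hf : f ∈ 𝒜 d),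
        Cone.chart hf hd ≫ π =
          Spec.map (CommRingCat.ofHom (algebraMap (HomogeneousLocalization.Away 𝒜 f) (Localization.Away f))) ≫
            Proj.awayι 𝒜 f hf hd := by
  classical
  let J := {x : ℕ × A // 0 < x.1 ∧ x.2 ∈ 𝒜 x.1}
  haveI hoi : ∀ j : J, IsOpenImmersion (Cone.chart (𝒜 := 𝒜) j.2.2 j.2.1) := fun j => by
    haveI : IsOpenImmersion (Cone.chart (𝒜 := 𝒜) j.2.2 j.2.1 ≫ (Cone.pointed 𝒜).ι) := by
      rw [Cone.chart, IsOpenImmersion.lift_fac]
      infer_instance
    exact IsOpenImmersion.of_comp _ (Cone.pointed 𝒜).ι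
  have hcov : ∀ p : (Cone.pointed 𝒜 : Scheme.{u}),
      ∃ (j : J) (q : Spec (CommRingCat.of (Localization.Away j.1.2))),
        Cone.chart (𝒜 := 𝒜) j.2.2 j.2.1 q = p := by
    intro p
    obtain ⟨a, ha, hap⟩ : ∃ a ∈ (HomogeneousIdeal.irrelevant 𝒜).toIdeal,
        a ∉ (p.1 : PrimeSpectrum A).asIdeal := by
      have hp := p.2
      by_contra! h
      exact hp ((PrimeSpectrum.mem_zeroLocus _ _).2 h)
    obtain ⟨i, hi⟩ : ∃ i, (DirectSum.decompose 𝒜 a i : A) ∉ (p.1 : PrimeSpectrum A).asIdeal := by
      by_contra! h
      apply hap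
      rw [← DirectSum.sum_support_decompose 𝒜 a]
      exact Ideal.sum_mem _ fun i _ => h i
    have hipos : 0 < i := by
      rcases Nat.eq_zero_or_pos i with rfl | hpos
      · exfalso
        apply hi
        have h0 := (HomogeneousIdeal.mem_irrelevant_iff 𝒜 a).1 ha
        rw [GradedRing.proj_apply] at h0
        rw [h0]
        exact zero_mem _
      · exact hpos
    refine ⟨⟨(i, DirectSum.decompose 𝒜 a i), hipos, SetLike.coe_mem _⟩, ?_⟩
    obtain ⟨q, hq⟩ : p.1 ∈ Set.range (Spec.map (CommRingCat.ofHom (algebraMap A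
        (Localization.Away (DirectSum.decompose 𝒜 a i : A))))) := by
      refine (PrimeSpectrum.localization_away_comap_range (Localization.Away
        (DirectSum.decompose 𝒜 a i : A)) (DirectSum.decompose 𝒜 a i : A)).ge ?_
      exact hi
    refine ⟨q, (Cone.pointed 𝒜).ι.isOpenEmbedding.injective ?_⟩
    rw [← Scheme.Hom.comp_apply, Cone.chart, IsOpenImmersion.lift_fac]
    exact hq
  let 𝒰 : (Cone.pointed 𝒜 : Scheme.{u}).OpenCover :=
    Scheme.Cover.mkOfCovers J (fun j => Spec (CommRingCat.of (Localization.Away j.1.2)))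
      (fun j => Cone.chart (𝒜 := 𝒜) j.2.2 j.2.1) hcov hoi
  let π := 𝒰.glueMorphisms (fun j : J => Spec.map (CommRingCat.ofHom
      (algebraMap (HomogeneousLocalization.Away 𝒜 j.1.2) (Localization.Away j.1.2))) ≫
        Proj.awayι 𝒜 j.1.2 j.2.2 j.2.1) (fun (i j : J) => by
    refine compat 𝒜 i.2.2 i.2.1 j.2.2 j.2.1 _ _ ?_
    have h := congr($(pullback.condition (f := 𝒰.f i) (g := 𝒰.f j)) ≫ (Cone.pointed 𝒜).ι)
    simp only [Category.assoc] at h
    simp only [𝒰, Scheme.Cover.mkOfCovers, Cone.chart, IsOpenImmersion.lift_fac] at h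
    exact h)
  refine ⟨π, fun d f hd hf => 𝒰.ι_glueMorphisms _ _ ⟨(d, f), hd, hf⟩, fun π' hπ' => ?_⟩
  refine Scheme.Cover.hom_ext 𝒰 _ _ fun (j : J) => ?_
  rw [show 𝒰.f j ≫ π = _ from 𝒰.ι_glueMorphisms _ _ j]
  exact hπ' _ _ j.2.1 j.2.2

end Groth.Agent.S3574
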