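import Groth.Statements.S3578
import Mathlib

set_option autoImplicit false
set_option linter.style.haveILetI false
set_option backward.isDefEq.respectTransparency false
universe u
open EGA2

namespace Groth.Agent.S3578

/-- Via the correspondence between closed subsets of Proj S and radical graded ideals of S_+: let S be a
graded ring and Z a closed subset of Proj S, with J = S_+ ∩ (vanishing ideal of Z). Then Z is
irreducible if and only if J is a prime ideal of the ring-without-unit S_+: J ≠ S_+ and a product of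
two elements of S_+ lies in J only if one factor does. -/
theorem result {R A : Type u} [CommRing R] [CommRing A] [Algebra R A] (𝒜 : ℕ → Submodule R A) [GradedAlgebra 𝒜]
    (Z : Set (ProjectiveSpectrum 𝒜)) (hZ : IsClosed Z) :
    IsIrreducible Z ↔
      (¬ (HomogeneousIdeal.irrelevant 𝒜).toIdeal ≤ (ProjectiveSpectrum.vanishingIdeal Z).toIdeal ∧
        ∀ f ∈ (HomogeneousIdeal.irrelevant 𝒜).toIdeal, ∀ g ∈ (HomogeneousIdeal.irrelevant 𝒜).toIdeal,
          f * g ∈ (ProjectiveSpectrum.vanishingIdeal Z).toIdeal →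
            f ∈ (ProjectiveSpectrum.vanishingIdeal Z).toIdeal ∨ g ∈ (ProjectiveSpectrum.vanishingIdeal Z).toIdeal) := by
  classical
  constructor
  · rintro ⟨⟨z, hz⟩, hpre⟩
    refine ⟨fun h => z.not_irrelevant_le fun x hx => ?_, fun f _ g _ hfg => ?_⟩
    · exact (ProjectiveSpectrum.mem_vanishingIdeal Z x).1 (h hx) z hz
    · rcases isPreirreducible_iff_isClosed_union_isClosed.1 hpre
        (ProjectiveSpectrum.zeroLocus 𝒜 {f}) (ProjectiveSpectrum.zeroLocus 𝒜 {g})
        (ProjectiveSpectrum.isClosed_zeroLocus 𝒜 _) (ProjectiveSpectrum.isClosed_zeroLocus 𝒜 _)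
        (fun x hx => (x.isPrime.mem_or_mem ((ProjectiveSpectrum.mem_vanishingIdeal Z _).1 hfg x hx)).imp
          (fun h => Set.singleton_subset_iff.2 h) (fun h => Set.singleton_subset_iff.2 h)) with h | h
      · exact Or.inl ((ProjectiveSpectrum.mem_vanishingIdeal Z f).2 fun x hx => h hx rfl)
      · exact Or.inr ((ProjectiveSpectrum.mem_vanishingIdeal Z g).2 fun x hx => h hx rfl)
  · rintro ⟨hirr, hmul⟩
    refine ⟨?_, isPreirreducible_iff_isClosed_union_isClosed.2 fun z₁ z₂ h₁ h₂ hsub => ?_⟩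
    · rcases Z.eq_empty_or_nonempty with rfl | h
      · exact absurd (fun x _ => (ProjectiveSpectrum.mem_vanishingIdeal _ x).2
          fun y hy => (Set.notMem_empty y hy).elim) hirr
      · exact h
    · by_contra! hne
      have hex : ∀ z : Set (ProjectiveSpectrum 𝒜), IsClosed z → ¬ Z ⊆ z →
          ∃ f ∈ (HomogeneousIdeal.irrelevant 𝒜).toIdeal, (∀ x ∈ z, f ∈ x.asHomogeneousIdeal) ∧
            ∃ x ∈ Z, f ∉ x.asHomogeneousIdeal := by
        intro z hz hsub
        obtain ⟨x, hxZ, hxz⟩ := Set.not_subset.1 hsub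
        obtain ⟨s, rfl⟩ := (ProjectiveSpectrum.isClosed_iff_zeroLocus 𝒜 z).1 hz
        obtain ⟨f, hfs, hfx⟩ := Set.not_subset.1 hxz
        obtain ⟨g, hg, hgx⟩ := SetLike.not_le_iff_exists.1 x.not_irrelevant_le
        exact ⟨f * g, Ideal.mul_mem_left _ f hg, fun y hy => Ideal.mul_mem_right _ _ (hy hfs),
          x, hxZ, fun h => (x.isPrime.mem_or_mem h).elim hfx hgx⟩
      obtain ⟨f, hf, hf₁, x, hx, hfx⟩ := hex z₁ h₁ hne.1
      obtain ⟨g, hg, hg₂, y, hy, hgy⟩ := hex z₂ h₂ hne.2
      rcases hmul f hf g hg ((ProjectiveSpectrum.mem_vanishingIdeal Z _).2 fun w hw =>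
          (hsub hw).elim (fun h => Ideal.mul_mem_right _ _ (hf₁ w h))
            (fun h => Ideal.mul_mem_left _ _ (hg₂ w h))) with h | h
      · exact hfx ((ProjectiveSpectrum.mem_vanishingIdeal Z f).1 h x hx)
      · exact hgy ((ProjectiveSpectrum.mem_vanishingIdeal Z g).1 h y hy)

end Groth.Agent.S3578
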