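import Groth.Statements.S3580
import Mathlib

set_option autoImplicit false
set_option linter.style.haveILetI false
set_option backward.isDefEq.respectTransparency false
universe u
open CategoryTheory CategoryTheory.Limits AlgebraicGeometry
open EGA2

namespace Groth.Agent.S3580

noncomputable section

variable {R A : Type u} [CommRing R] [CommRing A] [Algebra R A] {𝒜 : ℕ → Submodule R A} [GradedAlgebra 𝒜]
    {B : Type u} [CommRing B] [Algebra R B] {ℬ : ℕ → Submodule R B} [GradedAlgebra ℬ]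
    {d : ℕ} {φ : B →ₐ[R] A} (hdeg : ∀ n : ℕ, Submodule.map φ.toLinearMap (ℬ n) = 𝒜 (n * d))

include hdeg in
lemma mem {n : ℕ} {x : B} (hx : x ∈ ℬ n) : φ x ∈ 𝒜 (n * d) :=
  (hdeg n).le (Submodule.mem_map_of_mem hx)

lemma awayMap_mk (g b : B) (k : ℕ) :
    Localization.awayMap φ.toRingHom g (Localization.mk b (⟨g ^ k, k, rfl⟩ : Submonoid.powers g)) =
      Localization.mk (φ b) (⟨φ g ^ k, k, rfl⟩ : Submonoid.powers (φ g)) := by
  rw [Localization.mk_eq_mk', Localization.mk_eq_mk']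
  refine (IsLocalization.map_mk' _ b _).trans ?_
  congr 1
  exact Subtype.ext (map_pow φ g k)

include hdeg in
lemma exists_θ {n : ℕ} {g : B} (hg : g ∈ ℬ n) (hφ : Function.Injective φ) :
    ∃ θ : HomogeneousLocalization.Away ℬ g →+* HomogeneousLocalization.Away 𝒜 (φ g),
      Function.Bijective θ ∧ ∀ x, (θ x).val = Localization.awayMap φ.toRingHom g x.val := by
  let v := algebraMap (HomogeneousLocalization.Away 𝒜 (φ g)) (Localization.Away (φ g))
  have hvinj : Function.Injective v := HomogeneousLocalization.val_injective _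
  let L := (Localization.awayMap φ.toRingHom g).comp
    (algebraMap (HomogeneousLocalization.Away ℬ g) (Localization.Away g))
  have hmem : ∀ x, L x ∈ v.range := by
    intro x
    obtain ⟨k, b, hb, rfl⟩ := HomogeneousLocalization.Away.mk_surjective ℬ hg x
    refine ⟨HomogeneousLocalization.Away.mk 𝒜 (mem hdeg hg) k (φ b)
      (by simpa [mul_assoc] using mem hdeg hb), ?_⟩
    exact (awayMap_mk g b k).symm
  let ev : HomogeneousLocalization.Away 𝒜 (φ g) ≃+* v.range :=
    RingEquiv.ofBijective v.rangeRestrict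
      ⟨fun a b h => hvinj (congrArg Subtype.val h), RingHom.rangeRestrict_surjective v⟩
  let θ := ev.symm.toRingHom.comp (L.codRestrict v.range hmem)
  have hval : ∀ x, (θ x).val = Localization.awayMap φ.toRingHom g x.val := fun x =>
    congrArg Subtype.val (ev.apply_symm_apply ⟨L x, hmem x⟩)
  refine ⟨θ, ⟨?_, ?_⟩, hval⟩
  · rw [injective_iff_map_eq_zero]
    intro x hx
    obtain ⟨k, b, hb, rfl⟩ := HomogeneousLocalization.Away.mk_surjective ℬ hg x
    have h := (hval _).symm.trans (congrArg HomogeneousLocalization.val hx)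
    rw [HomogeneousLocalization.Away.val_mk, HomogeneousLocalization.val_zero, awayMap_mk,
      ← Localization.mk_zero 1, Localization.mk_eq_mk_iff, Localization.r_iff_exists] at h
    obtain ⟨⟨_, m, rfl⟩, hm⟩ := h
    simp only [OneMemClass.coe_one, one_mul, mul_zero] at hm
    have hm' : g ^ m * b = 0 := hφ (by rw [map_mul, map_pow, map_zero]; exact hm)
    ext
    rw [HomogeneousLocalization.Away.val_mk, HomogeneousLocalization.val_zero,
      ← Localization.mk_zero 1, Localization.mk_eq_mk_iff, Localization.r_iff_exists]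
    exact ⟨⟨g ^ m, m, rfl⟩, by simpa using hm'⟩
  · intro y
    obtain ⟨k, a, ha, rfl⟩ := HomogeneousLocalization.Away.mk_surjective 𝒜 (mem hdeg hg) y
    obtain ⟨b, hb, rfl⟩ := (hdeg (k * n)).ge (by simpa [mul_assoc] using ha)
    refine ⟨HomogeneousLocalization.Away.mk ℬ hg k b (by simpa using hb), ?_⟩
    ext
    rw [hval, HomogeneousLocalization.Away.val_mk, awayMap_mk, HomogeneousLocalization.Away.val_mk]
    rfl

variable (hφ : Function.Injective φ)

/-- The isomorphism `B_(g) → A_(φ g)`. -/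
def θ {n : ℕ} {g : B} (hg : g ∈ ℬ n) :
    HomogeneousLocalization.Away ℬ g →+* HomogeneousLocalization.Away 𝒜 (φ g) :=
  (exists_θ hdeg hg hφ).choose

lemma θ_bijective {n : ℕ} {g : B} (hg : g ∈ ℬ n) : Function.Bijective (θ hdeg hφ hg) :=
  (exists_θ hdeg hg hφ).choose_spec.1

lemma θ_val {n : ℕ} {g : B} (hg : g ∈ ℬ n) (x : HomogeneousLocalization.Away ℬ g) :
    (θ hdeg hφ hg x).val = Localization.awayMap φ.toRingHom g x.val :=
  (exists_θ hdeg hg hφ).choose_spec.2 x

lemma θ_mk {n : ℕ} {g : B} (hg : g ∈ ℬ n) (k : ℕ) (b : B) (hb : b ∈ ℬ (k • n)) :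
    θ hdeg hφ hg (HomogeneousLocalization.Away.mk ℬ hg k b hb) =
      HomogeneousLocalization.Away.mk 𝒜 (mem hdeg hg) k (φ b)
        (by simpa [mul_assoc] using mem hdeg hb) := by
  ext
  rw [θ_val, HomogeneousLocalization.Away.val_mk, awayMap_mk, HomogeneousLocalization.Away.val_mk]

lemma θ_awayMap {m n : ℕ} {f g x : B} (hf : f ∈ ℬ m) (hg : g ∈ ℬ n) (hxm : x ∈ ℬ (m + n))
    (hx : x = f * g) (hx' : φ x = φ f * φ g) :
    (θ hdeg hφ hxm).comp (HomogeneousLocalization.awayMap ℬ hg hx) =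
      (HomogeneousLocalization.awayMap 𝒜 (mem hdeg hg) hx').comp (θ hdeg hφ hf) := by
  refine RingHom.ext fun a => ?_
  obtain ⟨k, b, hb, rfl⟩ := a.mk_surjective _ hf
  simp only [RingHom.comp_apply, HomogeneousLocalization.awayMap_mk, θ_mk]
  ext
  simp

lemma compat (hd : 0 < d) {m n : ℕ} {f g : B} (hf : f ∈ ℬ m) (hm : 0 < m) (hg : g ∈ ℬ n) (hn : 0 < n)
    {T : Scheme.{u}}
    (a : T ⟶ Spec (CommRingCat.of (HomogeneousLocalization.Away 𝒜 (φ f))))
    (b : T ⟶ Spec (CommRingCat.of (HomogeneousLocalization.Away 𝒜 (φ g))))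
    (h : a ≫ Proj.awayι 𝒜 (φ f) (mem hdeg hf) (Nat.mul_pos hm hd) =
      b ≫ Proj.awayι 𝒜 (φ g) (mem hdeg hg) (Nat.mul_pos hn hd)) :
    a ≫ Spec.map (CommRingCat.ofHom (θ hdeg hφ hf)) ≫ Proj.awayι ℬ f hf hm =
      b ≫ Spec.map (CommRingCat.ofHom (θ hdeg hφ hg)) ≫ Proj.awayι ℬ g hg hn := by
  have hx : φ (f * g) = φ f * φ g := map_mul φ f g
  have hx₂ : φ (f * g) = φ g * φ f := hx.trans (mul_comm _ _)
  have hfg : f * g ∈ ℬ (m + n) := SetLike.mul_mem_graded hf hg
  have hgf : f * g ∈ ℬ (n + m) := by rw [add_comm]; exact hfg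
  obtain ⟨k, ha, hb⟩ : ∃ k : T ⟶ Spec (CommRingCat.of (HomogeneousLocalization.Away 𝒜 (φ (f * g)))),
      a = k ≫ Spec.map (CommRingCat.ofHom (HomogeneousLocalization.awayMap 𝒜 (mem hdeg hg) hx)) ∧
      b = k ≫ Spec.map (CommRingCat.ofHom (HomogeneousLocalization.awayMap 𝒜 (mem hdeg hf) hx₂)) :=
    ⟨pullback.lift a b h ≫ (Proj.pullbackAwayιIso 𝒜 (mem hdeg hf) (Nat.mul_pos hm hd) (mem hdeg hg)
        (Nat.mul_pos hn hd) hx).hom,
      by rw [Category.assoc, Proj.pullbackAwayιIso_hom_SpecMap_awayMap_left]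
         exact (pullback.lift_fst _ _ _).symm,
      by rw [Category.assoc, Proj.pullbackAwayιIso_hom_SpecMap_awayMap_right]
         exact (pullback.lift_snd _ _ _).symm⟩
  subst ha hb
  simp only [Category.assoc]
  rw [← Spec.map_comp_assoc, ← CommRingCat.ofHom_comp, ← θ_awayMap hdeg hφ hf hg hfg rfl hx,
    ← Spec.map_comp_assoc, ← CommRingCat.ofHom_comp, ← θ_awayMap hdeg hφ hg hf hgf (mul_comm f g) hx₂]
  simp only [CommRingCat.ofHom_comp, Spec.map_comp, Category.assoc]
  rw [Proj.SpecMap_awayMap_awayι ℬ hf hm hg (rfl : f * g = f * g),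
    Proj.SpecMap_awayMap_awayι ℬ hg hn hf (mul_comm f g)]
  rfl

lemma exists_not_mem {σ : Type u} [SetLike σ A] [AddSubgroupClass σ A] {𝒞 : ℕ → σ} [GradedRing 𝒞]
    (x : Proj 𝒞) : ∃ (e : ℕ) (f : A), 0 < e ∧ f ∈ 𝒞 e ∧ f ∉ x.asHomogeneousIdeal := by
  classical
  by_contra! h
  refine x.not_irrelevant_le ?_
  intro z hz
  rw [← DirectSum.sum_support_decompose 𝒞 z]
  refine Ideal.sum_mem _ fun i _ => ?_
  rcases Nat.eq_zero_or_pos i with rfl | hi
  · rw [← GradedRing.proj_apply, (HomogeneousIdeal.mem_irrelevant_iff 𝒞 z).1 hz]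
    exact zero_mem _
  · exact h i _ hi (SetLike.coe_mem _)

end


/-- Let S be a graded ring, d > 0, and S^{(d)} the graded ring with S^{(d)}_n = S_{nd} (here: any graded
ring S' with an injective algebra homomorphism φ : S' → S carrying S'_n onto S_{nd} for every n).
Then there is an isomorphism of schemes Proj S ≅ Proj S^{(d)} sending a homogeneous prime p to
φ⁻¹(p), and which over each standard open D_+(g), g ∈ S'_n with n > 0, is induced by the ring
isomorphism S'_(g) ≅ S_(φ g), b/g^k ↦ φ(b)/φ(g)^k; precisely: for every ring map θ : S'_(g) → S_(φ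
g) compatible with b/g^k ↦ φ(b)/φ(g)^k inside the localizations, the composite of Spec S_(φ g) →
Proj S with the isomorphism equals Spec θ followed by Spec S'_(g) → Proj S'. -/
theorem result {R A : Type u} [CommRing R] [CommRing A] [Algebra R A] (𝒜 : ℕ → Submodule R A) [GradedAlgebra 𝒜]
    {B : Type u} [CommRing B] [Algebra R B] (ℬ : ℕ → Submodule R B) [GradedAlgebra ℬ]
    (d : ℕ) (hd : 0 < d) (φ : B →ₐ[R] A) (hφ : Function.Injective φ)
    (hdeg : ∀ n : ℕ, Submodule.map φ.toLinearMap (ℬ n) = 𝒜 (n * d)) :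
    ∃ e : Proj 𝒜 ≅ Proj ℬ,
      (∀ p : Proj 𝒜, (e.hom.base p).asHomogeneousIdeal.toIdeal = Ideal.comap φ p.asHomogeneousIdeal.toIdeal) ∧
      ∀ (n : ℕ) (g : B) (hn : 0 < n) (hg : g ∈ ℬ n)
        (θ : CommRingCat.of (HomogeneousLocalization.Away ℬ g) ⟶ CommRingCat.of (HomogeneousLocalization.Away 𝒜 (φ g))),
        (algebraMap (HomogeneousLocalization.Away 𝒜 (φ g)) (Localization.Away (φ g))).comp θ.hom =
          (Localization.awayMap φ.toRingHom g).comp
            (algebraMap (HomogeneousLocalization.Away ℬ g) (Localization.Away g)) →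
        Proj.awayι 𝒜 (φ g) ((hdeg n).le (Submodule.mem_map_of_mem hg)) (Nat.mul_pos hn hd) ≫ e.hom =
          Spec.map θ ≫ Proj.awayι ℬ g hg hn := by
  classical
  let J := {x : ℕ × B // 0 < x.1 ∧ x.2 ∈ ℬ x.1}
  have hcov : ∀ p : (Proj 𝒜 : Scheme.{u}),
      ∃ (j : J) (q : Spec (CommRingCat.of (HomogeneousLocalization.Away 𝒜 (φ j.1.2)))),
        Proj.awayι 𝒜 (φ j.1.2) (mem hdeg j.2.2) (Nat.mul_pos j.2.1 hd) q = p := by
    intro p
    obtain ⟨e, f, he, hf, hfp⟩ := exists_not_mem p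
    obtain ⟨b, hb, hbf⟩ := (hdeg e).ge (show f ^ d ∈ 𝒜 (e * d) by
      simpa [mul_comm] using SetLike.pow_mem_graded d hf)
    refine ⟨⟨(e, b), he, hb⟩, ?_⟩
    have : p ∈ Proj.basicOpen 𝒜 (φ b) := by
      change φ b ∉ p.asHomogeneousIdeal
      rw [show φ b = f ^ d from hbf]
      exact fun h => hfp (p.isPrime.mem_of_pow_mem d h)
    rwa [← Proj.opensRange_awayι 𝒜 (φ b) (mem hdeg hb) (Nat.mul_pos he hd)] at this
  let 𝒰 : (Proj 𝒜).OpenCover :=
    Scheme.Cover.mkOfCovers J (fun j => Spec (CommRingCat.of (HomogeneousLocalization.Away 𝒜 (φ j.1.2))))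
      (fun j => Proj.awayι 𝒜 (φ j.1.2) (mem hdeg j.2.2) (Nat.mul_pos j.2.1 hd)) hcov
      (fun j => by infer_instance)
  let π : Proj 𝒜 ⟶ Proj ℬ := 𝒰.glueMorphisms (fun j : J => Spec.map (CommRingCat.ofHom
      (θ hdeg hφ j.2.2)) ≫ Proj.awayι ℬ j.1.2 j.2.2 j.2.1) (fun (i j : J) =>
    compat hdeg hφ hd i.2.2 i.2.1 j.2.2 j.2.1 _ _ pullback.condition)
  have hπ : ∀ (n : ℕ) (g : B) (hn : 0 < n) (hg : g ∈ ℬ n),
      Proj.awayι 𝒜 (φ g) (mem hdeg hg) (Nat.mul_pos hn hd) ≫ π =
        Spec.map (CommRingCat.ofHom (θ hdeg hφ hg)) ≫ Proj.awayι ℬ g hg hn :=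
    fun n g hn hg => 𝒰.ι_glueMorphisms _ _ ⟨(n, g), hn, hg⟩
  have hpre : ∀ (n : ℕ) (g : B) (hn : 0 < n) (hg : g ∈ ℬ n),
      π ⁻¹ᵁ Proj.basicOpen ℬ g = Proj.basicOpen 𝒜 (φ g) := by
    intro n g hn hg
    refine TopologicalSpace.Opens.ext (Set.ext fun x => ?_)
    obtain ⟨⟨⟨m, f⟩, hm, hf⟩, q, rfl⟩ := hcov x
    change q ∈ (Proj.awayι 𝒜 (φ f) (mem hdeg hf) (Nat.mul_pos hm hd) ≫ π) ⁻¹ᵁ Proj.basicOpen ℬ g ↔
      q ∈ Proj.awayι 𝒜 (φ f) (mem hdeg hf) (Nat.mul_pos hm hd) ⁻¹ᵁ Proj.basicOpen 𝒜 (φ g)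
    rw [hπ m f hm hf, Scheme.Hom.comp_preimage, Proj.awayι_preimage_basicOpen ℬ hf hm hg hn]
    erw [Proj.awayι_preimage_basicOpen 𝒜 (mem hdeg hf) (Nat.mul_pos hm hd) (mem hdeg hg)
      (Nat.mul_pos hn hd)]
    change θ hdeg hφ hf (HomogeneousLocalization.Away.isLocalizationElem hf hg) ∉
        (q : PrimeSpectrum (HomogeneousLocalization.Away 𝒜 (φ f))).asIdeal ↔
      HomogeneousLocalization.Away.isLocalizationElem (mem hdeg hf) (mem hdeg hg) ∉
        (q : PrimeSpectrum (HomogeneousLocalization.Away 𝒜 (φ f))).asIdeal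
    have hpow : (HomogeneousLocalization.Away.isLocalizationElem (mem hdeg hf) (mem hdeg hg)) =
        θ hdeg hφ hf (HomogeneousLocalization.Away.isLocalizationElem hf hg) ^ d := by
      rw [θ_mk]
      ext
      rw [HomogeneousLocalization.val_pow, HomogeneousLocalization.Away.val_mk,
        HomogeneousLocalization.Away.val_mk, Localization.mk_pow]
      congr 1
      · rw [map_pow, ← pow_mul]
      · exact Subtype.ext (by simp [← pow_mul])
    rw [hpow, (q : PrimeSpectrum (HomogeneousLocalization.Away 𝒜 (φ f))).isPrime.pow_mem_iff_mem _ hd]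
  haveI : IsIso π := by
    change MorphismProperty.isomorphisms Scheme.{u} π
    refine IsZariskiLocalAtTarget.of_openCover (Proj.affineOpenCover ℬ).openCover ?_
    rintro ⟨⟨n, hn⟩, g, hg⟩
    have hpb : IsPullback (Spec.map (CommRingCat.ofHom (θ hdeg hφ hg)))
        (Proj.awayι 𝒜 (φ g) (mem hdeg hg) (Nat.mul_pos hn hd)) (Proj.awayι ℬ g hg hn) π := by
      refine IsOpenImmersion.isPullback _ _ _ _ (hπ n g hn hg) ?_
      rw [Proj.opensRange_awayι, Proj.opensRange_awayι]
      exact hpre n g hn hg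
    haveI : IsIso (CommRingCat.ofHom (θ hdeg hφ hg)) :=
      (ConcreteCategory.isIso_iff_bijective _).2 (θ_bijective hdeg hφ hg)
    change IsIso (pullback.snd π (Proj.awayι ℬ g hg hn))
    rw [← hpb.flip.isoPullback_inv_snd]
    infer_instance
  refine ⟨asIso π, fun p => ?_, fun n g hn hg θ' hθ' => ?_⟩
  · change (π.base p).asHomogeneousIdeal.toIdeal = _
    obtain ⟨e, f, he, hf, hfp⟩ := exists_not_mem (π.base p)
    have hpos : ∀ (i : ℕ) (b : B), 0 < i → b ∈ ℬ i →
        (b ∈ (π.base p).asHomogeneousIdeal ↔ φ b ∈ p.asHomogeneousIdeal) := fun i b hi hb =>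
      not_iff_not.1 (show p ∈ π ⁻¹ᵁ Proj.basicOpen ℬ b ↔ p ∈ Proj.basicOpen 𝒜 (φ b) by
        rw [hpre i b hi hb])
    have hhom : ∀ (i : ℕ) (b : B), b ∈ ℬ i →
        (b ∈ (π.base p).asHomogeneousIdeal ↔ φ b ∈ p.asHomogeneousIdeal) := by
      intro i b hb
      rcases Nat.eq_zero_or_pos i with rfl | hi
      · have hbf := hpos e (b * f) he (by simpa using SetLike.mul_mem_graded hb hf)
        constructor
        · intro h
          have := hbf.1 ((π.base p).asHomogeneousIdeal.toIdeal.mul_mem_right f h)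
          rw [map_mul] at this
          exact (p.isPrime.mem_or_mem this).resolve_right fun h' => hfp ((hpos e f he hf).2 h')
        · intro h
          have := hbf.2 (by rw [map_mul]; exact p.asHomogeneousIdeal.toIdeal.mul_mem_right _ h)
          exact ((π.base p).isPrime.mem_or_mem this).resolve_right hfp
      · exact hpos i b hi hb
    ext b
    refine ⟨fun hb => ?_, fun hb => ?_⟩
    · rw [← DirectSum.sum_support_decompose ℬ b, Ideal.mem_comap, map_sum]
      exact Ideal.sum_mem _ fun i _ => (hhom i _ (SetLike.coe_mem _)).1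
        ((π.base p).asHomogeneousIdeal.isHomogeneous i hb)
    · rw [← DirectSum.sum_support_decompose ℬ b]
      refine Ideal.sum_mem _ fun i _ => (hhom i _ (SetLike.coe_mem _)).2 ?_
      have key : ∀ b : B, (DirectSum.decompose 𝒜 (φ b) (i * d) : A) = φ (DirectSum.decompose ℬ b i : B) := by
        intro b
        induction b using DirectSum.Decomposition.inductionOn ℬ with
        | zero => simp
        | add x y hx hy => simp [hx, hy, map_add]
        | @homogeneous j x =>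
          rcases eq_or_ne j i with rfl | hji
          · rw [DirectSum.decompose_of_mem_same ℬ x.2, DirectSum.decompose_of_mem_same 𝒜 (mem hdeg x.2)]
          · rw [DirectSum.decompose_of_mem_ne ℬ x.2 hji, map_zero,
              DirectSum.decompose_of_mem_ne 𝒜 (mem hdeg x.2)
                (fun h => hji (Nat.eq_of_mul_eq_mul_right hd h))]
      rw [← key b]
      exact p.asHomogeneousIdeal.isHomogeneous (i * d) hb
  · have hθ : θ' = CommRingCat.ofHom (θ hdeg hφ hg) := CommRingCat.hom_ext (RingHom.ext fun x =>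
      HomogeneousLocalization.val_injective _
        ((RingHom.congr_fun hθ' x).trans (θ_val hdeg hφ hg x).symm))
    rw [hθ]
    exact hπ n g hn hg

end Groth.Agent.S3580
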