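import Groth.Statements.S3581
import Groth.Agent.CompleteCurve.ProjSpace

set_option autoImplicit false
set_option linter.style.haveILetI false
set_option linter.unusedVariables false
set_option backward.isDefEq.respectTransparency false
universe u
open CategoryTheory CategoryTheory.Limits AlgebraicGeometry
open EGA2

namespace Groth.Agent.S3581

/-- Over an affine base Spec A, Proj of the graded polynomial algebra A[T] (T of degree one) is
identified with Spec A by its structure morphism: the structure morphism from projective 0-space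
over A to Spec A is an isomorphism. -/
theorem result (A : Type u) [CommRing A] :
    IsIso (CohB1.ProjSpace.toSpec 0 A) := by
  classical
  let 𝒜 := CohB1.polyGrading 0 A
  have hX : (MvPolynomial.X 0 : MvPolynomial (Fin 1) A) ∈ 𝒜 1 := MvPolynomial.isHomogeneous_X A 0
  have hmon : ∀ (k : ℕ) (b : MvPolynomial (Fin 1) A), b ∈ 𝒜 k → ∃ r : A, b = MvPolynomial.C r * MvPolynomial.X 0 ^ k := by
    intro k b hb
    refine ⟨MvPolynomial.coeff (Finsupp.single 0 k) b, ?_⟩
    ext m
    rw [MvPolynomial.coeff_C_mul, MvPolynomial.coeff_X_pow]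
    have hm : m = Finsupp.single 0 (m 0) := Finsupp.ext fun j => by rw [Subsingleton.elim j 0]; simp
    by_cases h : Finsupp.single 0 k = m
    · rw [if_pos h, mul_one, h]
    · rw [if_neg h, mul_zero]
      by_contra hne
      refine h ?_
      have hd := hb hne
      rw [hm] at hd ⊢
      simp [Finsupp.weight_apply, Finsupp.sum_single_index] at hd
      rw [hd]
  have htop : Proj.basicOpen 𝒜 (MvPolynomial.X 0) = ⊤ := by
    refine top_le_iff.mp fun x _ => (ProjectiveSpectrum.mem_basicOpen _ _ _).mpr fun hx => ?_
    refine x.not_irrelevant_le ((HomogeneousIdeal.irrelevant_le _).mpr fun k hk b hb => ?_)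
    obtain ⟨r, rfl⟩ := hmon k b hb
    exact Ideal.mul_mem_left _ _ (Ideal.pow_mem_of_mem _ hx k hk)
  let ι' := Proj.awayι 𝒜 (MvPolynomial.X 0) hX one_pos
  haveI : IsIso ι' := by
    haveI : Surjective ι' := ⟨fun x => by
      have : x ∈ ι'.opensRange := by rw [Proj.opensRange_awayι, htop]; trivial
      exact this⟩
    exact (isIso_iff_isOpenImmersion_and_surjective _).mpr ⟨inferInstance, inferInstance⟩
  let σ : A →+* HomogeneousLocalization.Away 𝒜 (MvPolynomial.X 0 : MvPolynomial (Fin 1) A) :=
    (HomogeneousLocalization.fromZeroRingHom 𝒜 _).comp (algebraMap A (𝒜 0))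
  have hval : ∀ r, (σ r).val = algebraMap (MvPolynomial (Fin 1) A) _ (MvPolynomial.C r) := fun r =>
    (HomogeneousLocalization.val_mk _).trans (Localization.mk_one_eq_algebraMap _)
  have hbij : Function.Bijective σ := by
    refine ⟨fun r s h => ?_, fun q => ?_⟩
    · have h' : algebraMap (MvPolynomial (Fin 1) A) (Localization.Away (MvPolynomial.X 0 : MvPolynomial (Fin 1) A)) (MvPolynomial.C r) =
          algebraMap _ _ (MvPolynomial.C s) := (hval r).symm.trans ((congrArg HomogeneousLocalization.val h).trans (hval s))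
      obtain ⟨⟨_, m, rfl⟩, hm⟩ := (IsLocalization.eq_iff_exists (Submonoid.powers (MvPolynomial.X 0 : MvPolynomial (Fin 1) A)) _).mp h'
      have := congrArg (MvPolynomial.aeval (fun _ => (1 : A))) hm
      simpa using this
    · obtain ⟨n, b, hb, rfl⟩ := HomogeneousLocalization.Away.mk_surjective _ hX q
      obtain ⟨r, rfl⟩ := hmon n b (by simpa using hb)
      refine ⟨r, HomogeneousLocalization.val_injective _ ?_⟩
      rw [hval, HomogeneousLocalization.Away.val_mk, ← Localization.mk_one_eq_algebraMap, Localization.mk_eq_mk_iff,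
        Localization.r_iff_exists]
      exact ⟨1, by simp [mul_comm]⟩
  have hcomp : ι' ≫ CohB1.ProjSpace.toSpec 0 A = Spec.map (CommRingCat.ofHom σ) := by
    rw [CohB1.ProjSpace.toSpec]
    erw [Proj.awayι_toSpecZero_assoc]
    rw [← Spec.map_comp]
    rfl
  haveI : IsIso (CommRingCat.ofHom σ) := (ConcreteCategory.isIso_iff_bijective _).mpr hbij
  haveI : IsIso (ι' ≫ CohB1.ProjSpace.toSpec 0 A) := by rw [hcomp]; infer_instance
  exact IsIso.of_isIso_comp_left ι' (CohB1.ProjSpace.toSpec 0 A)

end Groth.Agent.S3581
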