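import Groth.Statements.S3582
import Groth.Agent.CompleteCurve.ProjSpace

set_option autoImplicit false
set_option linter.style.haveILetI false
set_option linter.unusedVariables false
set_option backward.isDefEq.respectTransparency false
universe u
open CategoryTheory CategoryTheory.Limits AlgebraicGeometry
open EGA2

namespace Groth.Agent.S3582

/-- For every scheme Y and every r ≥ 0 the structure morphism from projective r-space over Y to Y is
surjective. -/
theorem result (r : ℕ) (Y : Scheme.{u}) :
    Surjective (CohB1.ProjSpaceOver.toBase r Y) := by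
  haveI : Surjective (CohB1.ProjSpace.toSpec r (ULift.{u} ℤ)) := by
    refine ⟨fun x => ?_⟩
    let pt : Spec (CommRingCat.of x.asIdeal.ResidueField) := (⟨⊥, Ideal.isPrime_bot⟩ : PrimeSpectrum x.asIdeal.ResidueField)
    have h := congrArg (fun t => t pt) (Groth.Agent.CompleteCurve.chartPoint_toSpec (R := ULift.{u} ℤ) (n := r) (K := x.asIdeal.ResidueField) (fun _ => 0))
    refine ⟨Groth.Agent.CompleteCurve.chartPoint (R := ULift.{u} ℤ) (n := r) (K := x.asIdeal.ResidueField) (fun _ => 0) pt, ?_⟩
    refine h.trans ?_
    exact PrimeSpectrum.ext (Ideal.ker_algebraMap_residueField _)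
  exact MorphismProperty.pullback_snd (P := @Surjective) _ _ inferInstance

end Groth.Agent.S3582
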