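import Groth.Statements.S3583
import Groth.Agent.RelSpecLib.Basic

set_option autoImplicit false
universe u
open CategoryTheory AlgebraicGeometry Opposite
open EGA2

namespace Groth.Agent.S3583

/-- In the form stated after its proof: let f : X → S and f' : X' → S be affine morphisms and h : X' → X
an S-morphism such that the O_S-algebra homomorphism A(h) : f_*O_X → f'_*O_{X'} is surjective (as a
map of quasi-coherent O_S-modules, i.e. on sections over every affine open of S). Then h is a closed
immersion. -/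
theorem result {X X' S : Scheme.{u}} (f : X ⟶ S) [IsAffineHom f]
    (f' : X' ⟶ S) [IsAffineHom f'] (h : X' ⟶ X) (w : h ≫ f = f')
    (hsurj : ∀ U : S.affineOpens, Function.Surjective ((AffAlg.algHom f f' h w).app (op U.1)).hom) :
    IsClosedImmersion h := by
  subst w
  refine IsZariskiLocalAtTarget.of_iSup_eq_top (P := @IsClosedImmersion) (fun U : S.affineOpens => f ⁻¹ᵁ (U : S.Opens))
    ?_ fun U => ?_
  · rw [← Scheme.Hom.preimage_iSup, iSup_affineOpens_eq_top, Scheme.Hom.preimage_top]
  · have hV : IsAffineOpen (f ⁻¹ᵁ (U : S.Opens)) := U.2.preimage f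
    haveI : IsAffine (f ⁻¹ᵁ (U : S.Opens)) := hV
    have hW : IsAffineOpen (h ⁻¹ᵁ (f ⁻¹ᵁ (U : S.Opens))) := by
      rw [← Scheme.Hom.comp_preimage]; exact U.2.preimage (h ≫ f)
    haveI : IsAffine (h ⁻¹ᵁ (f ⁻¹ᵁ (U : S.Opens))) := hW
    refine IsClosedImmersion.of_surjective_of_isAffine _ ?_
    show Function.Surjective ((h ∣_ f ⁻¹ᵁ (U : S.Opens)).app ⊤)
    rw [morphismRestrict_app]
    refine (ConcreteCategory.bijective_of_isIso (X'.presheaf.map (eqToHom (image_morphismRestrict_preimage h _ ⊤)).op)).2.comp ?_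
    have gen : ∀ O : X.Opens, O = f ⁻¹ᵁ (U : S.Opens) → Function.Surjective (h.app O) := by
      rintro _ rfl
      have h1 := hsurj U
      have h2 : (AffAlg.algHom f (h ≫ f) h rfl).app (Opposite.op U.1) = h.app (f ⁻¹ᵁ U.1) := by
        simp only [AffAlg.algHom, NatTrans.comp_app]
        exact (congrArg (h.c.app _ ≫ ·) (by rw [eqToHom_app]; rfl)).trans (Category.comp_id _)
      rw [h2] at h1
      exact h1
    exact gen _ (Scheme.Opens.ι_image_top _)

end Groth.Agent.S3583
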