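import Groth.Statements.S3584
import Groth.Agent.ProjTwistLib.Ample
-- import your own Groth.Agent.* helpers here

set_option autoImplicit false
universe u
open CategoryTheory CategoryTheory.Limits AlgebraicGeometry
open EGA2

namespace Groth.Agent.S3584

/-- Let S be a graded ring whose irrelevant ideal S_+ is generated by finitely many elements of degree
one. Then the twisting sheaf O_X(1) on X = Proj S is ample (X is quasi-compact and covered by the
affine non-vanishing loci of sections of the positive powers of O_X(1)). -/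
theorem result {R A : Type u} [CommRing R] [CommRing A] [Algebra R A] (𝒜 : ℕ → Submodule R A) [GradedAlgebra 𝒜]
    (s : Finset A) (hs1 : ∀ f ∈ s, f ∈ 𝒜 1)
    (hs : (HomogeneousIdeal.irrelevant 𝒜).toIdeal = Ideal.span (s : Set A)) :
    CohB1.IsAmple (Twist.twist 𝒜 1) := by
  have hcov : ⨆ f : s, Proj.basicOpen 𝒜 (f : A) = ⊤ := Proj.iSup_basicOpen_eq_top 𝒜 _ (by
    rw [hs]; exact Ideal.span_mono (fun a ha => ⟨⟨a, ha⟩, rfl⟩))
  haveI := Groth.Agent.ProjTwistLib.compactSpace_of_cover (e := fun _ => 1) (fun f : s => hs1 f f.2) (fun _ => one_pos) hcov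
  refine Groth.Agent.ProjTwistLib.isAmple_twist (d := 1) one_pos fun x => ?_
  obtain ⟨f, hf⟩ := Groth.Agent.ProjTwistLib.exists_mem_of_cover hcov x
  exact Groth.Agent.ProjTwistLib.hasUnit_of_mem ⟨(f : A), hs1 f f.2⟩ hf

end Groth.Agent.S3584
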