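import Groth.Statements.S3588
import Groth.Agent.ProjRed.Basic

set_option autoImplicit false
set_option linter.style.haveILetI false
set_option backward.isDefEq.respectTransparency false
universe u
open CategoryTheory CategoryTheory.Limits AlgebraicGeometry
open EGA2

namespace Groth.Agent.S3588

/-- Let S be a graded ring, N_+ the set of nilpotent elements of S_+ (an ideal of S), and S → S/N_+ the
quotient (here: any surjective homomorphism of graded rings φ : S → S' whose kernel is N_+). Then
the induced morphism Proj S' → Proj S is a closed immersion which is a homeomorphism of the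
underlying spaces, and Proj S' is reduced; thus Proj S' is the reduced closed subscheme (Proj
S)_red. -/
theorem result {R A : Type u} [CommRing R] [CommRing A] [Algebra R A] (𝒜 : ℕ → Submodule R A) [GradedAlgebra 𝒜]
    {B : Type u} [CommRing B] [Algebra R B] (ℬ : ℕ → Submodule R B) [GradedAlgebra ℬ]
    (φ : 𝒜 →+*ᵍ ℬ) (hsurj : Function.Surjective φ)
    (hker : ∀ a : A, φ a = 0 ↔ a ∈ (HomogeneousIdeal.irrelevant 𝒜).toIdeal ∧ IsNilpotent a)
    (hφ : HomogeneousIdeal.irrelevant ℬ ≤ (HomogeneousIdeal.irrelevant 𝒜).map φ) :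
    IsClosedImmersion (Proj.map φ hφ) ∧ IsHomeomorph (Proj.map φ hφ).base ∧
      AlgebraicGeometry.IsReduced (Proj ℬ) := by
  classical
  have hci := Groth.Agent.ProjRed.isClosedImmersion_map φ hφ hsurj
  refine ⟨hci, ?_, Groth.Agent.ProjRed.isReduced fun b hb hnil => ?_⟩
  · have hd := Groth.Agent.ProjRed.denseRange_map φ hφ fun a ha => ((hker a).1 ha).2
    have hemb := (Proj.map φ hφ).isClosedEmbedding
    have hsur : Function.Surjective (Proj.map φ hφ).base := by
      rw [← Set.range_eq_univ, ← hemb.isClosed_range.closure_eq, ← dense_iff_closure_eq]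
      exact hd
    exact isHomeomorph_iff_isEmbedding_surjective.2 ⟨hemb.isEmbedding, hsur⟩
  · obtain ⟨a, rfl⟩ := hsurj b
    have hd0 : φ (DirectSum.decompose 𝒜 a 0 : A) = 0 := by
      rw [GradedRingHom.map_directSumDecompose]
      exact (HomogeneousIdeal.mem_irrelevant_iff ℬ _).1 hb
    have hmap : φ (a - (DirectSum.decompose 𝒜 a 0 : A)) = φ a := by
      rw [map_sub, hd0, sub_zero]
    rw [← hmap, hker]
    refine ⟨?_, ?_⟩
    · rw [HomogeneousIdeal.mem_iff, HomogeneousIdeal.mem_irrelevant_iff, GradedRing.proj_apply,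
        DirectSum.decompose_sub, DirectSum.sub_apply, AddSubgroupClass.coe_sub,
        DirectSum.decompose_of_mem_same 𝒜 (SetLike.coe_mem _), sub_self]
    · obtain ⟨k, hk⟩ := hnil
      have h : φ ((a - (DirectSum.decompose 𝒜 a 0 : A)) ^ k) = 0 := by
        rw [map_pow, hmap, hk]
      obtain ⟨m, hm⟩ := ((hker _).1 h).2
      exact ⟨k * m, by rw [pow_mul, hm]⟩

end Groth.Agent.S3588
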