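import Groth.Statements.S3593
import Groth.Agent.AwayQuot.Basic

set_option autoImplicit false
set_option linter.style.haveILetI false
set_option backward.isDefEq.respectTransparency false
universe u
open CategoryTheory CategoryTheory.Limits AlgebraicGeometry
open EGA2

namespace Groth.Agent.S3593

/-- Let S be a graded R-algebra, Ŝ a graded R-algebra with a graded homomorphism φ : S → Ŝ making Ŝ an
S-algebra, and z an element of Ŝ of degree one such that the S-algebra map S[X] → Ŝ, X ↦ z, is
bijective (so Ŝ = S[z] with z in degree one, the graded ring of the projective cone of S). Then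
there is a ring isomorphism S ≅ Ŝ_(z) onto the degree-zero localization at z, sending a homogeneous
a of degree n to φ(a)/z^n. (This is the isomorphism that identifies the affine cone Spec S with the
open D_+(z) of the projective cone Proj Ŝ; that identification itself is not asserted here.) -/
theorem result {R A : Type u} [CommRing R] [CommRing A] [Algebra R A] (𝒜 : ℕ → Submodule R A) [GradedAlgebra 𝒜]
    {B : Type u} [CommRing B] [Algebra R B] (ℬ : ℕ → Submodule R B) [GradedAlgebra ℬ]
    [Algebra A B] [IsScalarTower R A B] (φ : 𝒜 →+*ᵍ ℬ) (hφ : ∀ a : A, φ a = algebraMap A B a)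
    (z : B) (hz : z ∈ ℬ 1) (hhat : Function.Bijective (Polynomial.aeval (R := A) z)) :
    ∃ θ : A ≃+* HomogeneousLocalization.Away ℬ z,
      ∀ (n : ℕ) (a : A), a ∈ 𝒜 n → (θ a).val = Localization.mk (φ a) ⟨z ^ n, pow_mem (Submonoid.mem_powers z) n⟩ := by
  have hdeg : ∀ n : ℕ, Submodule.map (AlgHom.id R B).toLinearMap (ℬ n) = ℬ (n * 1) := fun n => by
    simp
  let σ : B →+* HomogeneousLocalization.Away ℬ z :=
    Groth.Agent.AwayQuot.σ ℬ ℬ 1 (AlgHom.id R B) hdeg hz
  have hker : RingHom.ker σ = Ideal.span {z - 1} :=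
    Groth.Agent.AwayQuot.ker_σ ℬ ℬ 1 (AlgHom.id R B) hdeg hz Function.injective_id
  have hσz : σ z = 1 := sub_eq_zero.1 (by
    rw [← map_one σ, ← map_sub, ← RingHom.mem_ker, hker]
    exact Ideal.mem_span_singleton_self _)
  have hbij : Function.Bijective (σ.comp (algebraMap A B)) := by
    constructor
    · rw [injective_iff_map_eq_zero]
      intro a ha
      rw [RingHom.comp_apply, ← RingHom.mem_ker, hker, Ideal.mem_span_singleton] at ha
      obtain ⟨c, hc⟩ := ha
      obtain ⟨p, rfl⟩ := hhat.2 c
      have h : Polynomial.aeval z (Polynomial.C a) =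
          Polynomial.aeval z ((Polynomial.X - 1) * p) := by simpa using hc
      have := congrArg (Polynomial.eval (1 : A)) (hhat.1 h)
      simpa using this
    · intro y
      obtain ⟨b, rfl⟩ := Groth.Agent.AwayQuot.σ_surjective ℬ ℬ 1 (AlgHom.id R B) hdeg hz y
      obtain ⟨p, rfl⟩ := hhat.2 b
      refine ⟨p.eval 1, ?_⟩
      rw [RingHom.comp_apply, Polynomial.aeval_def, Polynomial.hom_eval₂]
      change _ = Polynomial.eval₂ (σ.comp (algebraMap A B)) (σ z) p
      rw [hσz, ← map_one (σ.comp (algebraMap A B)), Polynomial.eval₂_at_apply]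
      rfl
  refine ⟨RingEquiv.ofBijective _ hbij, fun n a ha => ?_⟩
  change (σ (algebraMap A B a)).val = _
  rw [← hφ]
  exact Groth.Agent.AwayQuot.σ_apply ℬ ℬ 1 (AlgHom.id R B) hdeg hz (φ.2 ha)

end Groth.Agent.S3593
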