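import Groth.Statements.S3594
import Mathlib

set_option autoImplicit false
set_option linter.style.haveILetI false
set_option backward.isDefEq.respectTransparency false
universe u
open CategoryTheory CategoryTheory.Limits AlgebraicGeometry
open EGA2

namespace Groth.Agent.S3594

/-- The closed immersion at infinity of a projective cone: let S be a graded R-algebra and Ŝ a graded
R-algebra over S such that the structure map φ : S → Ŝ is a graded homomorphism and Ŝ = S[z] is the
polynomial algebra on an element z of degree one (evaluation at z is a bijection S[T] → Ŝ); let ψ :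
Ŝ → S be a graded homomorphism retracting φ and killing z, with S₊ contained in the ideal generated
by ψ(Ŝ₊) so that j = Proj(ψ) : X = Proj S → Ĉ = Proj Ŝ is defined (it is the canonical closed
immersion). Then the image of j is exactly the complement of the open subset D₊(z) of Proj Ŝ (which
is the affine cone C = Spec S). -/
theorem result {R A : Type u} [CommRing R] [CommRing A] [Algebra R A] (𝒜 : ℕ → Submodule R A) [GradedAlgebra 𝒜]
    {B : Type u} [CommRing B] [Algebra R B] (ℬ : ℕ → Submodule R B) [GradedAlgebra ℬ]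
    [Algebra A B] [IsScalarTower R A B] (φ : 𝒜 →+*ᵍ ℬ) (hφ : ∀ a : A, φ a = algebraMap A B a)
    (z : B) (hz : z ∈ ℬ 1) (hhat : Function.Bijective (Polynomial.aeval (R := A) z))
    (ψ : ℬ →+*ᵍ 𝒜) (hψφ : ∀ a : A, ψ (φ a) = a) (hψz : ψ z = 0)
    (hψ : HomogeneousIdeal.irrelevant 𝒜 ≤ (HomogeneousIdeal.irrelevant ℬ).map ψ) :
    Set.range (Proj.map ψ hψ).base = ((Proj.basicOpen ℬ z : Set (Proj ℬ)))ᶜ := by
  classical
  have hdiv : ∀ b : B, ∃ c : B, b = φ (ψ b) + z * c := by
    intro b
    obtain ⟨q, rfl⟩ := hhat.2 b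
    refine ⟨Polynomial.aeval z q.divX, ?_⟩
    have hψq : ψ (Polynomial.aeval z q) = q.coeff 0 := by
      conv_lhs => rw [← Polynomial.X_mul_divX_add q, map_add, map_mul, Polynomial.aeval_X,
        Polynomial.aeval_C, ← hφ, map_add, map_mul, hψz, zero_mul, zero_add, hψφ]
    rw [hψq, hφ]
    conv_lhs => rw [← Polynomial.X_mul_divX_add q, map_add, map_mul, Polynomial.aeval_X,
      Polynomial.aeval_C]
    rw [add_comm]
  ext y
  refine ⟨?_, fun hy => ?_⟩
  · rintro ⟨x, rfl⟩
    change ¬ (z ∉ (Proj.map ψ hψ x).asHomogeneousIdeal)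
    rw [not_not]
    change ψ z ∈ x.asHomogeneousIdeal
    rw [hψz]
    exact zero_mem _
  · have hzy : z ∈ y.asHomogeneousIdeal := not_not.1 (show ¬ (z ∉ y.asHomogeneousIdeal) from hy)
    have hx : ¬ HomogeneousIdeal.irrelevant 𝒜 ≤ y.asHomogeneousIdeal.comap φ := by
      intro h
      refine y.not_irrelevant_le fun b hb => ?_
      obtain ⟨c, hc⟩ := hdiv b
      rw [hc]
      refine Ideal.add_mem _ (h ?_) (Ideal.mul_mem_right _ _ hzy)
      rw [HomogeneousIdeal.mem_irrelevant_iff, GradedRing.proj_apply,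
        ← GradedRingHom.map_directSumDecompose]
      have h0 := (HomogeneousIdeal.mem_irrelevant_iff ℬ _).1 hb
      rw [GradedRing.proj_apply] at h0
      rw [h0]
      exact map_zero _
    let x : ProjectiveSpectrum 𝒜 := ⟨y.asHomogeneousIdeal.comap φ, y.isPrime.comap φ, hx⟩
    refine ⟨x, ProjectiveSpectrum.ext (HomogeneousIdeal.ext' fun i b _ => ?_)⟩
    change φ (ψ b) ∈ y.asHomogeneousIdeal ↔ b ∈ y.asHomogeneousIdeal
    obtain ⟨c, hc⟩ := hdiv b
    conv_rhs => rw [hc]
    exact (Ideal.add_mem_iff_left _ (Ideal.mul_mem_right _ _ hzy)).symm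

end Groth.Agent.S3594
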