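import Groth.Statements.S3595
import Mathlib

set_option autoImplicit false
set_option linter.style.haveILetI false
set_option backward.isDefEq.respectTransparency false
universe u
open CategoryTheory CategoryTheory.Limits AlgebraicGeometry
open EGA2

namespace Groth.Agent.S3595

variable {R A : Type u} [CommRing R] [CommRing A] [Algebra R A] {𝒜 : ℕ → Submodule R A} [GradedAlgebra 𝒜]
    {B : Type u} [CommRing B] [Algebra R B] {ℬ : ℕ → Submodule R B} [GradedAlgebra ℬ]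

lemma map_awayMap (φ : 𝒜 →+*ᵍ ℬ) {d e : ℕ} {f g x : A} (hf : f ∈ 𝒜 d) (hg : g ∈ 𝒜 e)
    (hx : x = f * g) (hx' : φ x = φ f * φ g) :
    (HomogeneousLocalization.Away.map φ x).comp (HomogeneousLocalization.awayMap 𝒜 hg hx) =
      (HomogeneousLocalization.awayMap ℬ (φ.2 hg) hx').comp (HomogeneousLocalization.Away.map φ f) := by
  refine RingHom.ext fun a => ?_
  obtain ⟨n, a, ha, rfl⟩ := a.mk_surjective _ hf
  simp only [RingHom.comp_apply, HomogeneousLocalization.awayMap_mk,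
    HomogeneousLocalization.Away.map_mk]
  ext
  simp

lemma compat (φ : 𝒜 →+*ᵍ ℬ) {d e : ℕ} {f g : A} (hf : f ∈ 𝒜 d) (hd : 0 < d) (hg : g ∈ 𝒜 e)
    (he : 0 < e) {T : Scheme.{u}}
    (a : T ⟶ Spec (CommRingCat.of (HomogeneousLocalization.Away ℬ (φ f))))
    (b : T ⟶ Spec (CommRingCat.of (HomogeneousLocalization.Away ℬ (φ g))))
    (h : a ≫ Proj.awayι ℬ (φ f) (φ.2 hf) hd = b ≫ Proj.awayι ℬ (φ g) (φ.2 hg) he) :
    a ≫ Spec.map (CommRingCat.ofHom (HomogeneousLocalization.Away.map φ f)) ≫ Proj.awayι 𝒜 f hf hd =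
      b ≫ Spec.map (CommRingCat.ofHom (HomogeneousLocalization.Away.map φ g)) ≫
        Proj.awayι 𝒜 g hg he := by
  have hx : φ (f * g) = φ f * φ g := map_mul φ.toRingHom f g
  have hx₂ : φ (f * g) = φ g * φ f := hx.trans (mul_comm _ _)
  obtain ⟨k, ha, hb⟩ : ∃ k : T ⟶ Spec (CommRingCat.of (HomogeneousLocalization.Away ℬ (φ (f * g)))),
      a = k ≫ Spec.map (CommRingCat.ofHom (HomogeneousLocalization.awayMap ℬ (φ.2 hg) hx)) ∧
      b = k ≫ Spec.map (CommRingCat.ofHom (HomogeneousLocalization.awayMap ℬ (φ.2 hf) hx₂)) :=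
    ⟨pullback.lift a b h ≫ (Proj.pullbackAwayιIso ℬ (φ.2 hf) hd (φ.2 hg) he hx).hom,
      by rw [Category.assoc, Proj.pullbackAwayιIso_hom_SpecMap_awayMap_left]; exact (pullback.lift_fst _ _ _).symm,
      by rw [Category.assoc, Proj.pullbackAwayιIso_hom_SpecMap_awayMap_right]; exact (pullback.lift_snd _ _ _).symm⟩
  subst ha hb
  simp only [Category.assoc]
  rw [← Spec.map_comp_assoc, ← CommRingCat.ofHom_comp, ← map_awayMap φ hf hg rfl hx,
    ← Spec.map_comp_assoc, ← CommRingCat.ofHom_comp, ← map_awayMap φ hg hf (mul_comm f g) hx₂]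
  simp only [CommRingCat.ofHom_comp, Spec.map_comp, Category.assoc]
  rw [Proj.SpecMap_awayMap_awayι 𝒜 hf hd hg (rfl : f * g = f * g),
    Proj.SpecMap_awayMap_awayι 𝒜 hg he hf (mul_comm f g)]
  rfl

/-- Let φ : S′ → S be a homomorphism of graded rings and G(φ) ⊆ Proj S the open union of the basic opens
D_+(φ(f′)) for f′ ∈ S′ homogeneous of positive degree. There is exactly one morphism p : G(φ) → Proj
S′ whose restriction to each chart Spec S_(φ(f′)) of G(φ) is Spec of the induced map S′_(f′) →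
S_(φ(f′)) followed by Spec S′_(f′) ≅ D_+(f′) ⊆ Proj S′. -/
theorem result {R A : Type u} [CommRing R] [CommRing A] [Algebra R A] (𝒜 : ℕ → Submodule R A) [GradedAlgebra 𝒜]
    {B : Type u} [CommRing B] [Algebra R B] (ℬ : ℕ → Submodule R B) [GradedAlgebra ℬ] (φ : 𝒜 →+*ᵍ ℬ) :
    ∃! p : (PCone.dom φ : Scheme.{u}) ⟶ Proj 𝒜,
      ∀ (d : ℕ) (f : A) (hd : 0 < d) (hf : f ∈ 𝒜 d),
        PCone.chart φ hf hd ≫ p =
          Spec.map (CommRingCat.ofHom (HomogeneousLocalization.Away.map φ f)) ≫ Proj.awayι 𝒜 f hf hd := by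
  classical
  let J := {x : ℕ × A // 0 < x.1 ∧ x.2 ∈ 𝒜 x.1}
  haveI hoi : ∀ j : J, IsOpenImmersion (PCone.chart φ j.2.2 j.2.1) := fun j => by
    haveI : IsOpenImmersion (PCone.chart φ j.2.2 j.2.1 ≫ (PCone.dom φ).ι) := by
      rw [PCone.chart, IsOpenImmersion.lift_fac]
      infer_instance
    exact IsOpenImmersion.of_comp _ (PCone.dom φ).ι
  have hcov : ∀ p : (PCone.dom φ : Scheme.{u}),
      ∃ (j : J) (q : Spec (CommRingCat.of (HomogeneousLocalization.Away ℬ (φ j.1.2)))),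
        PCone.chart φ j.2.2 j.2.1 q = p := by
    intro p
    obtain ⟨⟨f, d, hd, hf⟩, hp⟩ := TopologicalSpace.Opens.mem_iSup.mp p.2
    obtain ⟨q, hq⟩ : p.1 ∈ Set.range (Proj.awayι ℬ (φ f) (φ.2 hf) hd) := by
      rw [← Scheme.Hom.coe_opensRange, Proj.opensRange_awayι]
      exact hp
    refine ⟨⟨(d, f), hd, hf⟩, q, (PCone.dom φ).ι.isOpenEmbedding.injective ?_⟩
    rw [← Scheme.Hom.comp_apply, PCone.chart, IsOpenImmersion.lift_fac]
    exact hq
  let 𝒰 : (PCone.dom φ : Scheme.{u}).OpenCover :=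
    Scheme.Cover.mkOfCovers J (fun j => Spec (CommRingCat.of (HomogeneousLocalization.Away ℬ (φ j.1.2))))
      (fun j => PCone.chart φ j.2.2 j.2.1) hcov hoi
  let π := 𝒰.glueMorphisms (fun j : J => Spec.map (CommRingCat.ofHom
      (HomogeneousLocalization.Away.map φ j.1.2)) ≫
        Proj.awayι 𝒜 j.1.2 j.2.2 j.2.1) (fun (i j : J) => by
    refine compat φ i.2.2 i.2.1 j.2.2 j.2.1 _ _ ?_
    have h := congr($(pullback.condition (f := 𝒰.f i) (g := 𝒰.f j)) ≫ (PCone.dom φ).ι)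
    simp only [Category.assoc] at h
    simp only [𝒰, Scheme.Cover.mkOfCovers, PCone.chart, IsOpenImmersion.lift_fac] at h
    exact h)
  refine ⟨π, fun d f hd hf => 𝒰.ι_glueMorphisms _ _ ⟨(d, f), hd, hf⟩, fun π' hπ' => ?_⟩
  refine Scheme.Cover.hom_ext 𝒰 _ _ fun (j : J) => ?_
  rw [show 𝒰.f j ≫ π = _ from 𝒰.ι_glueMorphisms _ _ j]
  exact hπ' _ _ j.2.1 j.2.2

end Groth.Agent.S3595
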