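import Groth.Statements.S3597
import Mathlib

set_option autoImplicit false
set_option linter.style.haveILetI false
set_option backward.isDefEq.respectTransparency false
universe u
open CategoryTheory CategoryTheory.Limits AlgebraicGeometry
open EGA2

namespace Groth.Agent.S3597

/-- Let S be a graded algebra over a ring and Ŝ = S[z] the graded S-algebra obtained by adjoining a
variable z in degree 1 (an S-algebra with an element z of degree 1 such that S[T] → Ŝ, T ↦ z, is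
bijective), with φ : S → Ŝ the graded structure map and ψ : Ŝ → S the graded retraction with ψ ∘ φ =
id and ψ(z) = 0 (the irrelevant-ideal containment needed to define Proj(ψ) on all of X = Proj S
carried as a hypothesis). Let Ê ⊆ Ĉ = Proj Ŝ be the pointed projective cone, the open union of the
D_+(φ f) for f ∈ S homogeneous of positive degree, and p : Ê → X a morphism which on each chart
D_+(φ f) = Spec Ŝ_{(φ f)} is induced by S_{(f)} → Ŝ_{(φ f)} (the canonical retraction). Then p is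
surjective, and the closed immersion j = Proj(ψ) : X → Ĉ factors through Ê with p ∘ j = id_X. -/
theorem result {R A : Type u} [CommRing R] [CommRing A] [Algebra R A] (𝒜 : ℕ → Submodule R A) [GradedAlgebra 𝒜]
    {B : Type u} [CommRing B] [Algebra R B] (ℬ : ℕ → Submodule R B) [GradedAlgebra ℬ]
    [Algebra A B] [IsScalarTower R A B] (φ : 𝒜 →+*ᵍ ℬ) (hφ : ∀ a : A, φ a = algebraMap A B a)
    (z : B) (hz : z ∈ ℬ 1) (hhat : Function.Bijective (Polynomial.aeval (R := A) z))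
    (ψ : ℬ →+*ᵍ 𝒜) (hψφ : ∀ a : A, ψ (φ a) = a) (hψz : ψ z = 0)
    (hψ : HomogeneousIdeal.irrelevant 𝒜 ≤ (HomogeneousIdeal.irrelevant ℬ).map ψ)
    (p : (PCone.dom φ : Scheme.{u}) ⟶ Proj 𝒜) (hp : ∀ (d : ℕ) (f : A) (hd : 0 < d) (hf : f ∈ 𝒜 d),
        PCone.chart φ hf hd ≫ p =
          Spec.map (CommRingCat.ofHom (HomogeneousLocalization.Away.map φ f)) ≫ Proj.awayι 𝒜 f hf hd) :
    Surjective p ∧ ∃ j : Proj 𝒜 ⟶ (PCone.dom φ : Scheme.{u}), j ≫ (PCone.dom φ).ι = Proj.map ψ hψ ∧ j ≫ p = 𝟙 (Proj 𝒜) := by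
  classical
  have hrange : Set.range (Proj.map ψ hψ).base ⊆ Set.range (PCone.dom φ).ι.base := by
    rw [Scheme.Opens.range_ι]
    rintro _ ⟨x, rfl⟩
    have hx := x.not_irrelevant_le
    obtain ⟨d, f, hd, hf, hfx⟩ : ∃ (d : ℕ) (f : A), 0 < d ∧ f ∈ 𝒜 d ∧
        f ∉ x.asHomogeneousIdeal := by
      by_contra! h
      refine hx ?_
      intro z hz
      rw [← DirectSum.sum_support_decompose 𝒜 z]
      refine Ideal.sum_mem _ fun i _ => ?_
      rcases Nat.eq_zero_or_pos i with rfl | hi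
      · rw [← GradedRing.proj_apply, (HomogeneousIdeal.mem_irrelevant_iff 𝒜 z).1 hz]
        exact zero_mem _
      · exact h i _ hi (SetLike.coe_mem _)
    refine TopologicalSpace.Opens.mem_iSup.2 ⟨⟨f, d, hd, hf⟩, ?_⟩
    change x ∈ Proj.map ψ hψ ⁻¹ᵁ Proj.basicOpen ℬ (φ f)
    rw [Proj.map_preimage_basicOpen, hψφ]
    exact hfx
  let j : Proj 𝒜 ⟶ (PCone.dom φ : Scheme.{u}) :=
    IsOpenImmersion.lift (PCone.dom φ).ι (Proj.map ψ hψ) hrange
  have hj : j ≫ (PCone.dom φ).ι = Proj.map ψ hψ := IsOpenImmersion.lift_fac _ _ _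
  have hχ : ψ.comp φ = GradedRingHom.id 𝒜 := GradedRingHom.ext hψφ
  have hirr : HomogeneousIdeal.irrelevant 𝒜 ≤ (HomogeneousIdeal.irrelevant 𝒜).map (ψ.comp φ) := by
    rw [hχ]; simp
  have hid : Proj.map (ψ.comp φ) hirr = 𝟙 (Proj 𝒜) := by
    simp only [hχ]; exact Proj.map_id
  have hjp : j ≫ p = 𝟙 (Proj 𝒜) := by
    refine (Proj.mapAffineOpenCover (ψ.comp φ) hirr).openCover.hom_ext _ _ fun s => ?_
    simp only [Scheme.AffineOpenCover.openCover_f, Proj.mapAffineOpenCover_f]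
    set d : ℕ := (s.1 : ℕ)
    set f : A := (s.2 : A)
    have hd : 0 < d := s.1.2
    have hf : f ∈ 𝒜 d := s.2.2
    have e : Proj.awayι 𝒜 (ψ (φ f)) (ψ.2 (φ.2 hf)) hd ≫ j =
        Spec.map (CommRingCat.ofHom (HomogeneousLocalization.Away.map ψ (φ f))) ≫ PCone.chart φ hf hd := by
      rw [← cancel_mono (PCone.dom φ).ι, Category.assoc, hj, Category.assoc, PCone.chart,
        IsOpenImmersion.lift_fac, Proj.awayι_comp_map ψ hψ hd (φ f) (φ.2 hf)]
    change Proj.awayι 𝒜 (ψ (φ f)) (ψ.2 (φ.2 hf)) hd ≫ j ≫ p =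
      Proj.awayι 𝒜 ((ψ.comp φ) f) ((ψ.comp φ).2 hf) hd ≫ 𝟙 _
    rw [reassoc_of% e, hp, ← Spec.map_comp_assoc, ← CommRingCat.ofHom_comp,
      ← HomogeneousLocalization.Away.map_comp, ← hid,
      Proj.awayι_comp_map (ψ.comp φ) hirr hd f hf]
  refine ⟨⟨fun x => ⟨j.base x, ?_⟩⟩, j, hj, hjp⟩
  rw [← Scheme.Hom.comp_apply, hjp]
  rfl

end Groth.Agent.S3597
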