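import Groth.Statements.S3598
import Groth.Agent.ConeFibreLib.Cones
import Groth.Agent.GrModLib.Twist
-- import your own Groth.Agent.* helpers here

set_option autoImplicit false
universe u
open CategoryTheory CategoryTheory.Limits AlgebraicGeometry
open EGA2

namespace Groth.Agent.S3598

/-- Let S be a graded algebra over a ring (an affine base) whose irrelevant ideal is generated by its
degree-one elements, and let Ŝ = S[z] be the graded S-algebra obtained by adjoining a variable z of
degree 1 (given as a graded S-algebra together with z of degree 1 such that S[T] → Ŝ, T ↦ z, is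
bijective). Let Ê be the pointed projective cone, covered by the charts Spec Ŝ_(f) for f ∈ S
homogeneous of positive degree, and p : Ê → X = Proj S the canonical retraction, i.e. the morphism
which on each chart Spec Ŝ_(f) is induced by S_(f) → Ŝ_(f). Then p is of finite type (locally of
finite type and quasi-compact) and its fibre at every point x of X is isomorphic over k(x) to the
affine line Spec k(x)[T]. -/
theorem result {R A : Type u} [CommRing R] [CommRing A] [Algebra R A] (𝒜 : ℕ → Submodule R A) [GradedAlgebra 𝒜]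
    {B : Type u} [CommRing B] [Algebra R B] (ℬ : ℕ → Submodule R B) [GradedAlgebra ℬ]
    [Algebra A B] [IsScalarTower R A B] (φ : 𝒜 →+*ᵍ ℬ) (hφ : ∀ a : A, φ a = algebraMap A B a)
    (z : B) (hz : z ∈ ℬ 1) (hhat : Function.Bijective (Polynomial.aeval (R := A) z))
    (hgen : (HomogeneousIdeal.irrelevant 𝒜).toIdeal = Ideal.span (𝒜 1 : Set A))
    (p : (PCone.dom φ : Scheme.{u}) ⟶ Proj 𝒜) (hp : ∀ (d : ℕ) (f : A) (hd : 0 < d) (hf : f ∈ 𝒜 d),
        PCone.chart φ hf hd ≫ p =
          Spec.map (CommRingCat.ofHom (HomogeneousLocalization.Away.map φ f)) ≫ Proj.awayι 𝒜 f hf hd) (x : Proj 𝒜) :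
    LocallyOfFiniteType p ∧ QuasiCompact p ∧
      ∃ e : pullback p ((Proj 𝒜).fromSpecResidueField x) ≅
          Spec (CommRingCat.of (Polynomial ((Proj 𝒜).residueField x))),
        e.hom ≫ Spec.map (CommRingCat.ofHom (algebraMap ((Proj 𝒜).residueField x)
          (Polynomial ((Proj 𝒜).residueField x)))) = pullback.snd p ((Proj 𝒜).fromSpecResidueField x) := by
  classical
  haveI := Groth.Agent.S3596.result 𝒜 ℬ φ p hp
  obtain ⟨h1, h2⟩ := Groth.Agent.ConeFibreLib.fibre_props p (fun C => CommRingCat.of (Polynomial C))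
    (fun C => CommRingCat.ofHom (algebraMap C (Polynomial C)))
    (fun C => Groth.Agent.ConeFibreLib.finiteType_polynomial C)
    (fun γ => Groth.Agent.ConeFibreLib.isPushout_polynomial γ) (fun y => by
      obtain ⟨g, hg⟩ := Groth.Agent.GrModLib.exists_mem_one_notMem hgen y
      exact ⟨CommRingCat.of (HomogeneousLocalization.Away 𝒜 g.1), Proj.awayι 𝒜 g.1 g.2 one_pos, _, inferInstance,
        (Proj.opensRange_awayι 𝒜 g.1 g.2 one_pos).ge hg,
        Groth.Agent.ConeFibreLib.pcone_chart g.2 φ hφ hz hhat p hp⟩)
  exact ⟨h1, inferInstance, h2 x⟩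

end Groth.Agent.S3598
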