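import Groth.Statements.S3599
import Groth.Agent.FinModelLib.Descend
import Groth.Agent.RelProjLib.RLpsiGlobal

set_option autoImplicit false
universe u
open CategoryTheory CategoryTheory.Limits AlgebraicGeometry
open EGA2

namespace Groth.Agent.S3599

/-- Let Y be an affine scheme, X a Noetherian reduced scheme, f : X → Y a quasi-compact morphism, g : X'
→ X a finite surjective morphism, and W an open subset of X such that at every point x of W either
the local ring of X is an integrally closed domain or the direct image of the structure sheaf of X'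
is locally free on some open neighbourhood of x inside W. Then there are a reduced scheme Z and a
finite birational morphism h : Z → X (birational in the sense that h is an isomorphism over some
dense open of X whose inverse image is dense in Z) which is an isomorphism over W, such that for
every invertible O_X-module L whose inverse image on X' is ample relative to f ∘ g, the inverse
image of L on Z is ample relative to f ∘ h. -/
theorem result {X X' Y : Scheme.{u}} [IsAffine Y]
    [IsNoetherian X] [IsReduced X] (f : X ⟶ Y) [QuasiCompact f] (g : X' ⟶ X) [IsFinite g] [Surjective g]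
    (W : X.Opens)
    (hW : ∀ x ∈ W, (IsDomain (X.presheaf.stalk x) ∧ IsIntegrallyClosed (X.presheaf.stalk x)) ∨
      ∃ T : X.Opens, x ∈ T ∧ T ≤ W ∧ FlatMod.IsFinLocFree (((Coh.push g).obj (Coh.structureModule X')).restrict T.ι)) :
    ∃ (Z : Scheme.{u}) (_ : IsReduced Z) (h : Z ⟶ X) (_ : IsFinite h),
      IsIso (h ∣_ W) ∧
        (∃ V : X.Opens, Dense (V : Set X) ∧ Dense ((h ⁻¹ᵁ V : Z.Opens) : Set Z) ∧ IsIso (h ∣_ V)) ∧
        ∀ L : X.Modules, PicF.IsInvertible L →
          RelAmple.IsRelAmple (g ≫ f) ((Scheme.Modules.pullback g).obj L) →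
            RelAmple.IsRelAmple (h ≫ f) ((Scheme.Modules.pullback h).obj L) := by
  classical
  obtain ⟨R, hR⟩ := Groth.Agent.FinModelLib.exists_isMult g
  obtain ⟨Z, h, hfin, s, hs, hred, hdom, hqc, hchart⟩ := Groth.Agent.FinModelLib.exists_model g hR
  haveI := hfin
  haveI := hdom
  haveI := hqc
  have hcov : ∀ x : X, ∃ D, x ∈ D ∧ Groth.Agent.FinModelLib.HasPoly hs R D := fun x => by
    obtain ⟨D, σ, i, y, P, hx, hD, h1, h2, h3⟩ := hchart x
    exact ⟨D, hx, σ, i, y, P, hD, h1, h2, h3⟩
  have hloc : ∀ x ∈ W, ∃ U : X.Opens, x ∈ U ∧ IsIso (h ∣_ U) := fun x hx => by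
    rcases hW x hx with ⟨h1, h2⟩ | ⟨T, hxT, -, hT⟩
    · haveI := h1
      haveI := h2
      exact Groth.Agent.FinModelLib.exists_isIso_restrict_normal hs
    · obtain ⟨U, n, hxU, ⟨e⟩⟩ := hT ⟨x, hxT⟩
      obtain ⟨D, d, hxD, hD, hn⟩ := Groth.Agent.NormAmpleLib.exists_nice_at (g := g) (U.ι ≫ T.ι)
        ((Scheme.Modules.restrictFunctorComp U.ι T.ι).app _ ≪≫ e) ⟨⟨⟨x, hxT⟩, hxU⟩, rfl⟩
      exact ⟨D, hxD, Groth.Agent.FinModelLib.isIso_restrict_of_le hs hD
        (Groth.Agent.FinModelLib.NAff.mk D d hD hn).le⟩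
  choose U hxU hU using hloc
  have hsup : IsIso (h ∣_ ⨆ x : (W : Set X), U x.1 x.2) :=
    Groth.Agent.RelProjLib.restrict_iSup h (Q := MorphismProperty.isomorphisms Scheme.{u})
      (fun x : (W : Set X) => U x.1 x.2) fun x => hU x.1 x.2
  have hWiso : IsIso (h ∣_ W) :=
    Groth.Agent.RelProjLib.restrict_of_le h (Q := MorphismProperty.isomorphisms Scheme.{u})
      (fun x hx => TopologicalSpace.Opens.mem_iSup.2 ⟨⟨x, hx⟩, hxU x hx⟩ : W ≤ ⨆ x : (W : Set X), U x.1 x.2) hsup
  have hVdense : Dense ((h ⁻¹ᵁ Groth.Agent.FinModelLib.freeLocus g : Z.Opens) : Set Z) := by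
    refine ((inferInstance : IsDominant s).denseRange : Dense (Set.range s)).mono ?_
    rintro _ ⟨v, rfl⟩
    show h (s v) ∈ Groth.Agent.FinModelLib.freeLocus g
    rw [← Scheme.Hom.comp_apply, hs]
    exact v.2
  have hViso : IsIso (h ∣_ Groth.Agent.FinModelLib.freeLocus g) :=
    Groth.Agent.RelProjLib.restrict_iSup h (Q := MorphismProperty.isomorphisms Scheme.{u})
      (fun v : Groth.Agent.FinModelLib.NAff g => v.V)
      fun v => Groth.Agent.FinModelLib.isIso_restrict_of_le hs v.aff v.le
  refine ⟨Z, hred, h, hfin, hWiso, ⟨_, Groth.Agent.FinModelLib.dense_freeLocus g, hVdense, hViso⟩, fun L hL hamp => ?_⟩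
  exact (Groth.Agent.AmpleLib.isRelAmple_iff_isAmple (h ≫ f)).2
    (Groth.Agent.FinModelLib.isAmple_model hs hR hcov hL
      ((Groth.Agent.AmpleLib.isRelAmple_iff_isAmple (g ≫ f)).1 hamp))

end Groth.Agent.S3599
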