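import Groth.Statements.S3608
import Groth.Agent.TwistShriek.ShriekIndep
-- import your own Groth.Agent.* helpers here

set_option autoImplicit false
set_option backward.isDefEq.respectTransparency false
set_option maxHeartbeats 800000
set_option synthInstance.maxHeartbeats 200000
universe u
open CategoryTheory CategoryTheory.Limits AlgebraicGeometry
open Groth.Agent
attribute [local instance] HasDerivedCategory.standard
open Dual3

namespace Groth.Agent.S3608

/-- Let S be a Noetherian scheme, X and Y schemes separated and of finite type over S and f : X → Y a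
morphism over S; compute f^! through a compactification f = j ∘ p (j : X → X' an open immersion, p :
X' → Y proper, Rp_* on D_QCoh assumed to exist and to preserve quasi-coherence of cohomology, a a
right adjoint of Rp_*, restriction of modules to opens assumed exact), so that f^!K = a(K)|_X. If f
is an open immersion then f^! is isomorphic, as a functor on D^+_QCoh(O_Y), to restriction K ↦ K|_X. -/
theorem result (S X Y : Scheme.{u}) [IsNoetherian S] (p : X ⟶ S) (q : Y ⟶ S) [Dual3.IsSepFT p] [Dual3.IsSepFT q] (f : X ⟶ Y) (w : f ≫ q = p) [IsOpenImmersion f] (c : DEt.Compactification f) [DCoh.HasRpush c.fbar] (hc : DCoh.RpushPreservesQCoh c.fbar) (a : DCoh.DQCoh Y ⥤ DCoh.DQCoh c.Xbar) (adj : DCoh.RpushQ c.fbar hc ⊣ a) [∀ (U V : Scheme.{u}) (j : U ⟶ V) [IsOpenImmersion j], PreservesFiniteLimits (Scheme.Modules.restrictFunctor j)] : Nonempty (Dual3.bddι Y ⋙ Dual3.shriekC c a ≅ Dual3.bddι Y ⋙ ObjectProperty.ι _ ⋙ DCoh.restrictD f) := by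
    haveI : IsLocallyNoetherian Y := LocallyOfFiniteType.isLocallyNoetherian q
    haveI : CompactSpace Y := QuasiCompact.compactSpace_of_compactSpace q
    haveI : IsNoetherian Y := {}
    haveI : CompactSpace X := QuasiCompact.compactSpace_of_compactSpace p
    let c₂ : DEt.Compactification f :=
      { Xbar := Y, j := f, fbar := 𝟙 Y, isOpenImmersion := inferInstance, isProper := inferInstance,
        fac := Category.comp_id f }
    haveI : DCoh.HasRpush c₂.fbar := DCohMore.BC.hasRpush _
    haveI : PreservesFiniteLimits (Scheme.Modules.restrictFunctor c₂.j) := inferInstance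
    obtain ⟨i⟩ : Nonempty (DCoh.Rpush c₂.fbar ≅ 𝟭 (DCoh.D Y)) := TwistShriek.nonempty_rpush_id
    have h₂ : DCoh.RpushPreservesQCoh c₂.fbar := fun K hK => TildeD.isQCohD_of_iso (i.app K).symm hK
    let iQ : DCoh.RpushQ c₂.fbar h₂ ≅ 𝟭 (DCoh.DQCoh Y) :=
      NatIso.ofComponents (fun K => ObjectProperty.isoMk _ (i.app K.obj))
        fun φ => ObjectProperty.hom_ext _ (i.hom.naturality φ.hom)
    let adj₂ : DCoh.RpushQ c₂.fbar h₂ ⊣ 𝟭 (DCoh.DQCoh Y) := CategoryTheory.Adjunction.id.ofNatIsoLeft iQ.symm
    obtain ⟨e⟩ := TwistShriek.nonempty_shriekC_indep c c₂ adj adj₂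
    exact ⟨e⟩

end Groth.Agent.S3608
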