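import Groth.Statements.S3612
import Groth.Agent.ShriekBridge.Amp
import Groth.Agent.CMFlatLib.Locus
import Groth.Agent.ASp.IntegralDim
import Groth.Agent.S1790
-- import your own Groth.Agent.* helpers here

set_option autoImplicit false
set_option backward.isDefEq.respectTransparency false
set_option maxHeartbeats 800000
set_option synthInstance.maxHeartbeats 200000
universe u
open CategoryTheory CategoryTheory.Limits AlgebraicGeometry
attribute [local instance] HasDerivedCategory.standard
open Dual3

namespace Groth.Agent.S3612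

/-- Let S be a Noetherian scheme, X and Y schemes separated and of finite type over S and f : X → Y a
morphism over S; compute f^! through a compactification f = j ∘ p (j : X → X' an open immersion, p :
X' → Y proper, Rp_* on D_QCoh assumed to exist and to preserve quasi-coherence of cohomology, a a
right adjoint of Rp_*, restriction of modules to opens assumed exact), so that f^!K = a(K)|_X.
Assume f is flat and let O be the structure sheaf of Y in degree 0. (i) For a point x and n ≥
dim_x(X_{f(x)}): if the stalk of H^i(f^!O) at x is nonzero then -n ≤ i ≤ 0. (ii) If every fibre of f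
has dimension at most d, then f^!O has tor amplitude in [-d, 0] relative to Y: it is represented by
a complex of O_X-modules flat over Y placed in degrees [-d, 0]. -/
theorem result (S X Y : Scheme.{u}) [IsNoetherian S] (p : X ⟶ S) (q : Y ⟶ S) [Dual3.IsSepFT p] [Dual3.IsSepFT q] (f : X ⟶ Y) (w : f ≫ q = p) [Flat f] (c : DEt.Compactification f) [DCoh.HasRpush c.fbar] (hc : DCoh.RpushPreservesQCoh c.fbar) (a : DCoh.DQCoh Y ⥤ DCoh.DQCoh c.Xbar) (adj : DCoh.RpushQ c.fbar hc ⊣ a) [∀ (U V : Scheme.{u}) (j : U ⟶ V) [IsOpenImmersion j], PreservesFiniteLimits (Scheme.Modules.restrictFunctor j)] (O : DCoh.DQCoh Y) (hO : Nonempty (O.obj ≅ DCoh.inD Y (Coh.structureModule Y))) : (∀ (x : X) (n : ℕ), Dual3.localFibreDim f x ≤ (n : WithBot ℕ∞) → ∀ i : ℤ, Nontrivial ((DCoh.HD ((Dual3.shriekC c a).obj O) i).presheaf.stalk x) → -(n : ℤ) ≤ i ∧ i ≤ 0) ∧ ∀ d : ℕ, Dual3.FibreDimLE f d → DCoh.HasRelFlatAmplitudeIn f (-(d : ℤ)) 0 ((Dual3.shriekC c a).obj O) := by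
    haveI : IsLocallyNoetherian Y := LocallyOfFiniteType.isLocallyNoetherian q
    haveI : CompactSpace Y := QuasiCompact.compactSpace_of_compactSpace q
    haveI : IsNoetherian Y := {}
    haveI : LocallyOfFiniteType (f ≫ q) := by rw [w]; infer_instance
    haveI : LocallyOfFiniteType f := locallyOfFiniteType_of_comp f q
    constructor
    · intro x n hn i hi
      obtain ⟨ch⟩ := DimFormulaLib.exists_chart f x
      obtain ⟨P⟩ := ShriekBridge.nonempty_pres ch.A ch.B
      haveI := ShriekBridge.isNoetherianRing_base ch
      haveI := ShriekBridge.isNoetherianRing_total ch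
      haveI := ShriekBridge.flat_of_chart ch
      obtain ⟨d, hd⟩ := CMFlatLib.exists_nat_fibreDimAt f x
      rw [ShriekBridge.localFibreDim_eq, hd] at hn
      have hdn : d ≤ n := by exact_mod_cast hn
      obtain ⟨e⟩ := ShriekBridge.nonempty_stalk_chart adj O hO ch P ch.q i
      rw [ch.hq] at e
      haveI := hi
      have h := (S1790.result ch.A ch.B P.n P.ψ P.hψ P.Rψ P.adj d).1 ch.q
        (by rw [← ShriekBridge.fibreDimAt_spec ch ch.q, ch.hq]; exact hd) i e.injective.nontrivial
      omega
    · intro d hd
      refine ShriekBridge.hasRelFlatAmplitudeIn_of_charts f _ _ _ fun x => ?_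
      obtain ⟨ch⟩ := DimFormulaLib.exists_chart f x
      refine ⟨ch, ?_⟩
      intro _
      obtain ⟨P⟩ := ShriekBridge.nonempty_pres ch.A ch.B
      haveI := ShriekBridge.isNoetherianRing_base ch
      haveI := ShriekBridge.isNoetherianRing_total ch
      haveI := ShriekBridge.flat_of_chart ch
      refine ⟨P.omega, ShriekBridge.nonempty_restrict_chart adj O hO ch P,
        (S1790.result ch.A ch.B P.n P.ψ P.hψ P.Rψ P.adj d).2 fun z => ?_⟩
      rw [← ShriekBridge.fibreDimAt_spec ch z]
      exact (ASp.localDim_le_topologicalKrullDim _ _).trans (hd _)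

end Groth.Agent.S3612
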