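import Groth.Statements.S3613
import Groth.Agent.ShriekBridge.Amp
import Groth.Agent.S1790
import Groth.Agent.S11145
import Groth.Agent.FibreDimEt.Zero
import Groth.Agent.TwistShriek.RHomO
import Groth.Agent.DevLib.Closed
import Groth.Agent.DCohMore.RHomCoh
-- import your own Groth.Agent.* helpers here

set_option autoImplicit false
set_option backward.isDefEq.respectTransparency false
set_option maxHeartbeats 800000
set_option synthInstance.maxHeartbeats 200000
universe u
open CategoryTheory CategoryTheory.Limits AlgebraicGeometry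
attribute [local instance] HasDerivedCategory.standard
open Dual3

namespace Groth.Agent.S3613

/-- Let S be a Noetherian scheme, X and Y schemes separated and of finite type over S and f : X → Y a
morphism over S; compute f^! through a compactification f = j ∘ p (j : X → X' an open immersion, p :
X' → Y proper, Rp_* on D_QCoh assumed to exist and to preserve quasi-coherence of cohomology, a a
right adjoint of Rp_*, restriction of modules to opens assumed exact), so that f^!K = a(K)|_X.
Assume f is flat and quasi-finite and let O be the structure sheaf of Y in degree 0. Then H^i(f^!O)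
= 0 for i ≠ 0 and H^0(f^!O) is a coherent O_X-module which is flat over Y; that is, f^!O = ω[0] for
a coherent Y-flat module ω. -/
theorem result (S X Y : Scheme.{u}) [IsNoetherian S] (p : X ⟶ S) (q : Y ⟶ S) [Dual3.IsSepFT p] [Dual3.IsSepFT q] (f : X ⟶ Y) (w : f ≫ q = p) [Flat f] [LocallyQuasiFinite f] (c : DEt.Compactification f) [DCoh.HasRpush c.fbar] (hc : DCoh.RpushPreservesQCoh c.fbar) (a : DCoh.DQCoh Y ⥤ DCoh.DQCoh c.Xbar) (adj : DCoh.RpushQ c.fbar hc ⊣ a) [∀ (U V : Scheme.{u}) (j : U ⟶ V) [IsOpenImmersion j], PreservesFiniteLimits (Scheme.Modules.restrictFunctor j)] (O : DCoh.DQCoh Y) (hO : Nonempty (O.obj ≅ DCoh.inD Y (Coh.structureModule Y))) : (∀ i : ℤ, i ≠ 0 → IsZero (DCoh.HD ((Dual3.shriekC c a).obj O) i)) ∧ Coh.IsCoh (DCoh.HD ((Dual3.shriekC c a).obj O) 0) ∧ FlatMod.IsFlatOver f (DCoh.HD ((Dual3.shriekC c a).obj O) 0) := by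
    haveI : IsLocallyNoetherian Y := LocallyOfFiniteType.isLocallyNoetherian q
    haveI : CompactSpace Y := QuasiCompact.compactSpace_of_compactSpace q
    haveI : IsNoetherian Y := {}
    haveI : LocallyOfFiniteType (f ≫ q) := by rw [w]; infer_instance
    haveI : LocallyOfFiniteType f := locallyOfFiniteType_of_comp f q
    haveI : ∀ (R : CommRingCat.{u}), PreservesFiniteLimits (tilde.functor R) := fun R => TildeD.preservesFiniteLimits_tilde
    have h0 : DCoh.HasRelFlatAmplitudeIn f 0 0 ((Dual3.shriekC c a).obj O) := by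
      refine ShriekBridge.hasRelFlatAmplitudeIn_of_charts f _ _ _ fun x => ?_
      obtain ⟨ch⟩ := DimFormulaLib.exists_chart f x
      refine ⟨ch, ?_⟩
      intro _
      obtain ⟨P⟩ := ShriekBridge.nonempty_pres ch.A ch.B
      haveI := ShriekBridge.isNoetherianRing_base ch
      haveI := ShriekBridge.isNoetherianRing_total ch
      haveI := ShriekBridge.flat_of_chart ch
      refine ⟨P.omega, ShriekBridge.nonempty_restrict_chart adj O hO ch P, ?_⟩
      have h := (S1790.result ch.A ch.B P.n P.ψ P.hψ P.Rψ P.adj 0).2 fun z => by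
        rw [← ShriekBridge.fibreDimAt_spec ch z, (FibreDimEt.locallyQuasiFinite_iff_fibreDimAt_eq_zero f).1 ‹_› (ch.j z)]
        simp
      simpa using h
    obtain ⟨E, hE, hfl, ⟨e⟩⟩ := h0
    haveI : CochainComplex.IsStrictlyGE E 0 := (CochainComplex.isStrictlyGE_iff _ _).2 fun i hi => hE i (Or.inl hi)
    haveI : CochainComplex.IsStrictlyLE E 0 := (CochainComplex.isStrictlyLE_iff _ _).2 fun i hi => hE i (Or.inr hi)
    obtain ⟨eO⟩ := hO
    haveI : IsLocallyNoetherian X := LocallyOfFiniteType.isLocallyNoetherian p
    have hcoh := (S11145.result S X Y p q f w c hc a adj O 0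
      (fun i hi => (DerivedCategory.isZero_of_isGE (DCoh.inD Y (Coh.structureModule Y)) 0 i hi).of_iso
        ((DerivedCategory.homologyFunctor _ i).mapIso eO))
      (fun i => DCohMore.isCohD_of_iso' eO.symm (TwistShriek.isCohD_inD (DevLib.isCoh_structureModule Y)) i)).2
    refine ⟨fun i hi => ?_, hcoh 0, ?_⟩
    · refine IsZero.of_iso ?_ ((DerivedCategory.homologyFunctor _ i).mapIso e.symm)
      refine IsZero.of_iso ?_ ((DerivedCategory.homologyFunctorFactors X.Modules i).app E)
      exact ShortComplex.isZero_homology_of_isZero_X₂ _ (hE i (by omega))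
    · have hf0 : (E.sc 0).f = 0 := by
        refine IsZero.eq_of_src ?_ _ _
        show IsZero (E.X ((ComplexShape.up ℤ).prev 0))
        rw [CochainComplex.prev]
        exact hE _ (Or.inl (by norm_num))
      have hg0 : (E.sc 0).g = 0 := by
        refine IsZero.eq_of_tgt ?_ _ _
        show IsZero (E.X ((ComplexShape.up ℤ).next 0))
        rw [CochainComplex.next]
        exact hE _ (Or.inr (by norm_num))
      let e0 : DCoh.HD ((Dual3.shriekC c a).obj O) 0 ≅ E.X 0 :=
        (DerivedCategory.homologyFunctor _ 0).mapIso e.symm ≪≫ (DerivedCategory.homologyFunctorFactors X.Modules 0).app E ≪≫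
          (ShortComplex.HomologyData.ofZeros (E.sc 0) hf0 hg0).left.homologyIso
      exact DCohMore.isFlatOver_of_iso f e0.symm (hfl 0)

end Groth.Agent.S3613
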