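import Groth.Statements.S3624
import Groth.Agent.GorSp.Sch
-- import your own Groth.Agent.* helpers here

set_option autoImplicit false
set_option backward.isDefEq.respectTransparency false
universe u
open CategoryTheory CategoryTheory.Limits AlgebraicGeometry
attribute [local instance] HasDerivedCategory.standard
open Dual3

namespace Groth.Agent.S3624

/-- Let f : X → Y be a flat morphism of locally Noetherian schemes with X Gorenstein. Then f is a
Gorenstein morphism (flat with Gorenstein local rings of fibres at every point) and the local ring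
O_{Y, f(x)} is Gorenstein for every point x of X. -/
theorem result (X Y : Scheme.{u}) [IsLocallyNoetherian Y] (f : X ⟶ Y) [Flat f] (hX : Dual3.IsGorenstein X) : Dual3.IsGorensteinMor f ∧ ∀ x : X, LocCoh.IsGorensteinLocalRing (Y.presheaf.stalk (f x)) := by
  haveI := hX.1
  have key : ∀ x : X, Dual3.IsGorensteinAt f x ∧ LocCoh.IsGorensteinLocalRing (Y.presheaf.stalk (f x)) := by
    intro u
    letI := (f.stalkMap u).hom.toAlgebra
    haveI : IsLocalHom (algebraMap (Y.presheaf.stalk (f u)) (X.presheaf.stalk u)) :=
      inferInstanceAs (IsLocalHom (f.stalkMap u).hom)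
    haveI : Module.Flat (Y.presheaf.stalk (f u)) (X.presheaf.stalk u) := Flat.stalkMap f u
    obtain ⟨h1, h2⟩ := (Groth.Agent.GorLib.gorenstein_flat_iff (Y.presheaf.stalk (f u))
      (X.presheaf.stalk u)).1 (hX.2 u)
    exact ⟨(Groth.Agent.GorSp.gorAt_iff f u).2 ⟨Flat.stalkMap f u, h2⟩, h1⟩
  exact ⟨fun x => (key x).1, fun x => (key x).2⟩

end Groth.Agent.S3624
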