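import Groth.Statements.S3632
import Groth.Agent.TwistShriek.RHomO
-- import your own Groth.Agent.* helpers here

set_option autoImplicit false
set_option backward.isDefEq.respectTransparency false
set_option maxHeartbeats 800000
set_option synthInstance.maxHeartbeats 200000
universe u
open CategoryTheory CategoryTheory.Limits AlgebraicGeometry
open Groth.Agent
attribute [local instance] HasDerivedCategory.standard
open Dual3

namespace Groth.Agent.S3632

/-- Let i : Z → X be a closed immersion with X locally Noetherian, and R Hom(O_Z, −) : D^+(O_X) →
D^+(O_Z) the right derived functor of the right adjoint of i_* (that right adjoint and enough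
injective O_X-modules are assumed through instance binders). If K in D^+(O_X) has quasi-coherent
cohomology sheaves then so does R Hom(O_Z, K). (The published statement assumes only that the closed
immersion is pseudo-coherent; here X is taken locally Noetherian, which implies this.) -/
theorem result (Z X : Scheme.{u}) [IsLocallyNoetherian X] (i : Z ⟶ X) [IsClosedImmersion i] [Dual3.HasHomO i] [EnoughInjectives X.Modules] (K : DerivedCategory.Plus X.Modules) (hK : DCoh.IsQCohD K.obj) : DCoh.IsQCohD ((Dual3.RHomOPlus i).obj K).obj := by
    haveI : PreservesFiniteLimits (Scheme.Modules.pushforward i) := DCohLib.preservesFiniteLimits_pushforward i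
    haveI : PreservesFiniteColimits (Scheme.Modules.pushforward i) := DCohLib.preservesFiniteColimits_pushforward i
    exact TwistShriek.isQCohD_RHomO i (fun m => DCohMore.isPseudoCoherentD_of_coh _ 0
      (TwistShriek.isCohD_inD (DevLib.isCoh_pushforward_closed i (DevLib.isCoh_structureModule Z))) m) K hK

end Groth.Agent.S3632
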