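import Groth.Statements.S3645
import Groth.Agent.ShriekBridge.RelShriek
-- import your own Groth.Agent.* helpers here

set_option autoImplicit false
set_option backward.isDefEq.respectTransparency false
set_option maxHeartbeats 800000
set_option backward.isDefEq.respectTransparency false
set_option maxHeartbeats 800000
set_option synthInstance.maxHeartbeats 200000
universe u
open CategoryTheory CategoryTheory.Limits AlgebraicGeometry
attribute [local instance] HasDerivedCategory.standard
open Dual3 Groth.Agent

namespace Groth.Agent.S3645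

/-- Let S be a Noetherian scheme, X and Y schemes separated and of finite type over S and f : X → Y a
morphism over S; compute f^! through a compactification f = j ∘ p (j : X → X' an open immersion, p :
X' → Y proper, Rp_* on D_QCoh assumed to exist and to preserve quasi-coherence of cohomology, a a
right adjoint of Rp_*, restriction of modules to opens assumed exact), so that f^!K = a(K)|_X.
Assume f is flat and let O be the structure sheaf of Y in degree 0. Then f^!O is Y-perfect
(pseudo-coherent and locally of finite tor dimension relative to Y), and for any complex E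
representing f^!O with - ⊗^L E ⊣ RHom(E, -) assumed and any identification υ : O_X ⊗^L E ≅ E, the
map O_X → RHom(E, E) adjoint to υ is an isomorphism. -/
theorem result (S X Y : Scheme.{u}) [IsNoetherian S] (p : X ⟶ S) (q : Y ⟶ S) [Dual3.IsSepFT p] [Dual3.IsSepFT q] (f : X ⟶ Y) (w : f ≫ q = p) [Flat f] (c : DEt.Compactification f) [DCoh.HasRpush c.fbar] (hc : DCoh.RpushPreservesQCoh c.fbar) (a : DCoh.DQCoh Y ⥤ DCoh.DQCoh c.Xbar) (adj : DCoh.RpushQ c.fbar hc ⊣ a) [∀ (U V : Scheme.{u}) (j : U ⟶ V) [IsOpenImmersion j], PreservesFiniteLimits (Scheme.Modules.restrictFunctor j)] (O : DCoh.DQCoh Y) (hO : Nonempty (O.obj ≅ DCoh.inD Y (Coh.structureModule Y))) : ((∀ m : ℤ, DCoh.IsPseudoCoherentD m ((Dual3.shriekC c a).obj O)) ∧ DCoh.LocHasFiniteRelTorDim f ((Dual3.shriekC c a).obj O)) ∧ ∀ (E : CochainComplex X.Modules ℤ) (hE : Nonempty (DCoh.toD X E ≅ (Dual3.shriekC c a).obj O)) [DCoh.HasLTensorCx E] [DCoh.HasRSheafHom E] (υ : (DCoh.LTensorCx E).obj (DCoh.inD X (Coh.structureModule X)) ≅ DCoh.toD X E), IsIso (((DCoh.RSheafHomAdj E).homEquiv (DCoh.inD X (Coh.structureModule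 X)) (DCoh.toD X E)) υ.hom) := by
    haveI : IsLocallyNoetherian Y := LocallyOfFiniteType.isLocallyNoetherian q
    haveI : CompactSpace Y := QuasiCompact.compactSpace_of_compactSpace q
    haveI : IsNoetherian Y := {}
    haveI : IsLocallyNoetherian X := LocallyOfFiniteType.isLocallyNoetherian p
    haveI : CompactSpace X := QuasiCompact.compactSpace_of_compactSpace p
    haveI : IsNoetherian X := {}
    haveI : LocallyOfFiniteType (f ≫ q) := by rw [w]; infer_instance
    haveI : LocallyOfFiniteType f := locallyOfFiniteType_of_comp f q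
    haveI : ∀ (R : CommRingCat.{u}), PreservesFiniteLimits (tilde.functor R) := fun R => TildeD.preservesFiniteLimits_tilde
  
    have hT : ShriekBridge.HasTDCharts f := ShriekBridge.hasTDCharts_of_flat
    haveI : O.obj.IsGE 0 := DerivedCategory.TStructure.t.isGE_of_iso hO.some.symm 0
    haveI : O.obj.IsLE 0 := DerivedCategory.TStructure.t.isLE_of_iso hO.some.symm 0
    obtain ⟨⟨lo, hi, hb⟩, hcoh⟩ := ShriekBridge.shriekC_bounded_coherent adj hT O 0 0
      (fun i hi => hi.elim (fun h => DerivedCategory.isZero_of_isGE O.obj 0 i h)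
        fun h => DerivedCategory.isZero_of_isLE O.obj 0 i h)
      (DCohLib.isCohD_bounded_of_isPerfect O.obj (DCohLib.isPerfect_iso hO.some.symm
        (DCohLib.isPerfect_inD (BCLib.isFinLocFree_structureModule Y)))).1
    haveI : ((Dual3.shriekC c a).obj O).IsLE hi := (DerivedCategory.isLE_iff _ _).2 fun i hi' => hb i (Or.inr hi')
    exact ⟨⟨fun m => DCohMore.isPseudoCoherentD_of_coh _ hi hcoh m,
      ShriekBridge.locHasFiniteRelTorDim_shriek adj O hO⟩,
      fun E hE _ _ υ => ShriekBridge.isIso_unit_shriek adj hT O hO E hE υ⟩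

end Groth.Agent.S3645
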