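import Groth.Statements.S3653
-- import your own Groth.Agent.* helpers here

set_option autoImplicit false
set_option backward.isDefEq.respectTransparency false
set_option maxHeartbeats 800000
set_option synthInstance.maxHeartbeats 200000
universe u
open CategoryTheory CategoryTheory.Limits AlgebraicGeometry
attribute [local instance] HasDerivedCategory.standard
open Dual3

namespace Groth.Agent.S3653

/-- Consider a cartesian square X' = Y' ×_Y X of quasi-compact quasi-separated schemes with f or g flat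
(a Tor independent square), derived direct images and derived pullbacks on D_QCoh with adjunctions
Lg^* ⊣ Rg_*, Lg'^* ⊣ Rg'_*, right adjoints a of Rf_* and a' of Rf'_*, and an identification e : Rf_*
∘ Rg'_* ≅ Rg_* ∘ Rf'_* for which ξ : Rg'_* a' → a Rg_* is an isomorphism. Let β : Lg^* Rf_* → Rf'_*
Lg'^* and α : Lg'^* a → a' Lg^* be the base change maps built from these data and Tr_f : Rf_* a →
id, Tr_{f'} : Rf'_* a' → id the counits. Then for every K in D_QCoh(O_Y): β_{a(K)} followed by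
Rf'_*(α_K) followed by Tr_{f'} at Lg^*K equals Lg^*(Tr_{f,K}). -/
theorem result (X Y X' Y' : Scheme.{u}) [CompactSpace X] [QuasiSeparatedSpace X] [CompactSpace Y] [QuasiSeparatedSpace Y] [CompactSpace X'] [QuasiSeparatedSpace X'] [CompactSpace Y'] [QuasiSeparatedSpace Y'] (f : X ⟶ Y) (g : Y' ⟶ Y) (f' : X' ⟶ Y') (g' : X' ⟶ X) (hsq : IsPullback g' f' f g) (hflat : Flat f ∨ Flat g) [DCoh.HasRpush f] [DCoh.HasRpush f'] [DCoh.HasRpush g] [DCoh.HasRpush g'] (hf : DCoh.RpushPreservesQCoh f) (hf' : DCoh.RpushPreservesQCoh f') (hg : DCoh.RpushPreservesQCoh g) (hg' : DCoh.RpushPreservesQCoh g') (a : DCoh.DQCoh Y ⥤ DCoh.DQCoh X) (a' : DCoh.DQCoh Y' ⥤ DCoh.DQCoh X') (adj : DCoh.RpushQ f hf ⊣ a) (adj' : DCoh.RpushQ f' hf' ⊣ a') [DCoh.HasLpull g] [DCoh.HasLpull g'] (hLg : Dual3.LpullPreservesQCoh g) (hLg' : Dual3.LpullPreservesQCoh g') (adjg : Dual3.LpullQ g hLg ⊣ DCoh.RpushQ g hg) (adjg' : Dual3.LpullQ g' hLg' ⊣ DCoh.RpushQ g' hg') (e : (DCoh.RpushQ g' hg'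 ⋙ DCoh.RpushQ f hf ≅ DCoh.RpushQ f' hf' ⋙ DCoh.RpushQ g hg)) (hξ : ∀ M : DCoh.DQCoh Y', IsIso (Dual3.xi adj adj' e M)) (K : DCoh.DQCoh Y) : Dual3.bcPush e adjg adjg' (a.obj K) ≫ (DCoh.RpushQ f' hf').map (Dual3.bcMap adj adj' e adjg adjg' K (hξ _)) ≫ adj'.counit.app ((Dual3.LpullQ g hLg).obj K) = (Dual3.LpullQ g hLg).map (adj.counit.app K) := by
  apply (adjg.homEquiv _ _).injective
  have hα : adjg'.homEquiv _ _ (Dual3.bcMap adj adj' e adjg adjg' K (hξ _)) =
      a.map (adjg.unit.app K) ≫ @inv _ _ _ _ (Dual3.xi adj adj' e ((Dual3.LpullQ g hLg).obj K)) (hξ _) := by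
    rw [← Equiv.eq_symm_apply, Adjunction.homEquiv_counit, Functor.map_comp, Category.assoc]
    rfl
  have hx : e.hom.app (a'.obj ((Dual3.LpullQ g hLg).obj K)) ≫
      (DCoh.RpushQ g hg).map (adj'.counit.app ((Dual3.LpullQ g hLg).obj K)) =
        (DCoh.RpushQ f hf).map (Dual3.xi adj adj' e ((Dual3.LpullQ g hLg).obj K)) ≫
          adj.counit.app ((DCoh.RpushQ g hg).obj ((Dual3.LpullQ g hLg).obj K)) := by
    exact (Equiv.symm_apply_apply (adj.homEquiv _ _) _).symm.trans (adj.homEquiv_counit _ _ _)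
  haveI := hξ ((Dual3.LpullQ g hLg).obj K)
  rw [Adjunction.homEquiv_naturality_right, Dual3.bcPush, Equiv.apply_symm_apply, Category.assoc,
    Functor.map_comp]
  erw [← reassoc_of% e.hom.naturality, hx, ← Functor.map_comp_assoc, ← Functor.map_comp_assoc]
  rw [show adjg'.unit.app (a.obj K) ≫ (DCoh.RpushQ g' hg').map (Dual3.bcMap adj adj' e adjg adjg' K (hξ _)) =
      adjg'.homEquiv _ _ (Dual3.bcMap adj adj' e adjg adjg' K (hξ _)) from (Adjunction.homEquiv_unit _ _ _ _).symm,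
    hα, Category.assoc, IsIso.inv_hom_id, Category.comp_id, Adjunction.homEquiv_unit]
  exact (adj.counit.naturality (adjg.unit.app K)).trans (adjg.unit.naturality (adj.counit.app K))

end Groth.Agent.S3653
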