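import Groth.Statements.S3659
import Groth.Agent.TwistShriek.PerfPull
-- import your own Groth.Agent.* helpers here

set_option autoImplicit false
set_option backward.isDefEq.respectTransparency false
set_option maxHeartbeats 800000
set_option synthInstance.maxHeartbeats 200000
universe u
open CategoryTheory CategoryTheory.Limits AlgebraicGeometry
open Groth.Agent
attribute [local instance] HasDerivedCategory.standard
open Dual3

namespace Groth.Agent.S3659

/-- Let f : X → Y be a morphism of quasi-compact quasi-separated schemes. Assume the derived direct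
image Rf_* exists and preserves quasi-coherence of cohomology sheaves (both known results), so that
it restricts to a functor D_QCoh(O_X) → D_QCoh(O_Y), and let a : D_QCoh(O_Y) → D_QCoh(O_X) be a
right adjoint of this restricted functor. Let Lf^* be the derived pullback (assumed to exist), K a
perfect object of D_QCoh(O_Y) and L any object of D_QCoh(O_Y). Let K' be a complex representing K,
with the derived tensor product − ⊗^L K' assumed to exist and K ⊗^L L (computed as L ⊗^L K') assumed
to lie again in D_QCoh (a known fact, taken as a hypothesis), and let E be a complex representing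
a(L), with − ⊗^L E assumed to exist. Then a(K ⊗^L L) ≅ Lf^*K ⊗^L a(L) in D(O_X). -/
theorem result (X Y : Scheme.{u}) [CompactSpace X] [QuasiSeparatedSpace X] [CompactSpace Y] [QuasiSeparatedSpace Y] (f : X ⟶ Y) [DCoh.HasRpush f] (hf : DCoh.RpushPreservesQCoh f) (a : DCoh.DQCoh Y ⥤ DCoh.DQCoh X) (adj : DCoh.RpushQ f hf ⊣ a) [DCoh.HasLpull f] (K L : DCoh.DQCoh Y) (hK : DCoh.IsPerfect K.obj) (K' : CochainComplex Y.Modules ℤ) (hK' : Nonempty (DCoh.toD Y K' ≅ K.obj)) [DCoh.HasLTensorCx K'] (hKL : DCoh.IsQCohD ((DCoh.LTensorCx K').obj L.obj)) (E : CochainComplex X.Modules ℤ) (hE : Nonempty (DCoh.toD X E ≅ (a.obj L).obj)) [DCoh.HasLTensorCx E] : Nonempty ((a.obj ⟨(DCoh.LTensorCx K').obj L.obj, hKL⟩).obj ≅ (DCoh.LTensorCx E).obj ((DCoh.Lpull f).obj K.obj)) := by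
    obtain ⟨_, _⟩ := TwistShriek.qcqs_hom f
    obtain ⟨D, hD, hDp, _, -, ⟨eQ⟩⟩ := TwistShriek.exists_predual K.obj hK
    let Z := (DCoh.Lpull f).obj (DerivedCategory.Q.obj D)
    let D' := (DCohLib.resX X).obj (DerivedCategory.Q.objPreimage Z)
    let eD' : DerivedCategory.Q.obj D' ≅ Z := DCohLib.resXIso Z
    haveI := DCohLib.hasRSheafHom_of_isKFlat D' (DCohLib.isKFlat_resX _)
    have hD'p : DCoh.IsPerfect (DerivedCategory.Q.obj D') :=
      DCohLib.isPerfect_iso eD'.symm (DCohLib.isPerfect_lpull f _ hDp)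
    obtain ⟨t⟩ := TwistShriek.nonempty_rightAdjoint_rSheafHom f hf a adj D hD hDp D' (DCohLib.isKFlat_resX _) hD'p eD'
    obtain ⟨r⟩ := TwistShriek.nonempty_lTensor_iso_rSheafHom D hDp K' (hK'.some ≪≫ eQ.symm)
    let P := DerivedCategory.Q.objPreimage ((DCoh.Lpull f).obj K.obj)
    let eP : DerivedCategory.Q.obj P ≅ (DCoh.Lpull f).obj K.obj := DerivedCategory.Q.objObjPreimageIso _
    haveI : DCoh.HasLTensorCx P := DCohLib.hasLTensorCx _
    obtain ⟨d⟩ := TwistShriek.nonempty_lpull_dual f D hD hDp D' (DCohLib.isKFlat_resX _) hD'p eD'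
    obtain ⟨r'⟩ := TwistShriek.nonempty_lTensor_iso_rSheafHom D' hD'p P
      (eP ≪≫ (DCoh.Lpull f).mapIso eQ.symm ≪≫ d)
    obtain ⟨s⟩ := RelPCLib.nonempty_lTensor_symm E P
    exact ⟨(ObjectProperty.ι _).mapIso (a.mapIso
        (ObjectProperty.isoMk (P := DCoh.IsQCohD) (X := ⟨(DCoh.LTensorCx K').obj L.obj, hKL⟩)
          (Y := (TwistShriek.homQ D hD hDp).obj L) (r.app L.obj)) ≪≫ t.app L) ≪≫
      (r'.app (a.obj L).obj).symm ≪≫ (DCoh.LTensorCx P).mapIso hE.some.symm ≪≫ s.symm ≪≫
      (DCoh.LTensorCx E).mapIso eP⟩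

end Groth.Agent.S3659
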