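import Groth.Statements.S3665
import Groth.Agent.IdealMulLib.Sub
import Groth.Agent.PullbackMod.OpenLocus
import Groth.Agent.InfNbhdLib.Scheme
import Groth.Agent.IdealMulLib.Basic
-- import your own Groth.Agent.* helpers here

set_option autoImplicit false
universe u
set_option backward.isDefEq.respectTransparency false
open CategoryTheory CategoryTheory.Limits AlgebraicGeometry
attribute [local instance] HasDerivedCategory.standard
open Dual3

namespace Groth.Agent.S3665

/-- Let X be proper over a field k, I a quasi-coherent ideal with vanishing locus Z and F a coherent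
O_X-module, so that H^0_c(X ∖ Z, F) = lim_n H^0(X, I^n F) = ⋂_n Γ(X, I^n F) inside Γ(X, F). Then a
global section s of F lies in the image of Γ(X, I^n F) for every n if and only if s restricts to
zero on some open neighbourhood of Z. -/
theorem result (k : Type u) [Field k] (X : Scheme.{u}) (f : X ⟶ Spec (CommRingCat.of k)) [IsProper f] (I : X.IdealSheafData) (F : X.Modules) (hF : Coh.IsCoh F) (s : F.val.obj (Opposite.op ⊤)) : (∀ n : ℕ, ∃ t : ((Dual3.idealMul (I ^ n)).obj F).val.obj (Opposite.op ⊤), (Dual3.idealMulι (I ^ n) F).val.app (Opposite.op ⊤) t = s) ↔ ∃ V : X.Opens, I.supportSet ⊆ (V : Set X) ∧ F.val.map (homOfLE le_top : V ⟶ ⊤).op s = 0 := by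
  haveI : Coh.IsQCoh F := hF.1
  haveI : IsLocallyNoetherian X := LocallyOfFiniteType.isLocallyNoetherian f
  have hpow : ∀ (n : ℕ) (y : X), IntMult.stalkIdeal (I ^ n) y = IntMult.stalkIdeal I y ^ n :=
    fun n y => Groth.Agent.InfNbhdLib.stalkIdeal_pow I n y
  constructor
  · intro h
    have hloc : ∀ y ∈ I.supportSet, ∃ (W : X.Opens) (_ : y ∈ W),
        F.val.map (homOfLE le_top : W ⟶ ⊤).op s = 0 := by
      intro y hy
      let z : F.presheaf.stalk y := F.presheaf.germ ⊤ y trivial s
      have hz : z = 0 := by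
        haveI : Module.Finite (X.presheaf.stalk y) (F.presheaf.stalk y) :=
          Groth.Agent.PullbackMod.finite_stalk_of_isFT hF.2 y
        have hm : z ∈ ⨅ n : ℕ, IntMult.stalkIdeal I y ^ n •
            (⊤ : Submodule (X.presheaf.stalk y) (F.presheaf.stalk y)) := by
          rw [Submodule.mem_iInf]
          intro n
          obtain ⟨t, ht⟩ := h n
          rw [← hpow]
          refine (Groth.Agent.IdealMulLib.mem_range_idealMulι_iff (I ^ n) F y z).1
            ⟨((Dual3.idealMul (I ^ n)).obj F).presheaf.germ ⊤ y trivial t, ?_⟩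
          rw [Groth.Agent.PullbackMod.stalkLin_germ]
          exact congrArg _ ht
        have hne : IntMult.stalkIdeal I y ≠ ⊤ := fun htop =>
          (IsLocalRing.maximalIdeal.isMaximal _).ne_top
            (top_le_iff.1 (htop ▸ Groth.Agent.IdealStalkLib.stalkIdeal_le_maximal I hy))
        rw [Ideal.iInf_pow_smul_eq_bot_of_isLocalRing _ hne] at hm
        exact hm
      obtain ⟨W, hyW, iU, iV, he⟩ := TopCat.Presheaf.germ_eq F.presheaf y (U := (⊤ : X.Opens)) (V := (⊤ : X.Opens)) trivial trivial s 0
        (hz.trans (map_zero _).symm)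
      rw [map_zero] at he
      exact ⟨W, hyW, he⟩
    choose W hW hW0 using hloc
    refine ⟨⨆ y : I.supportSet, W y.1 y.2, fun y hy => TopologicalSpace.Opens.mem_iSup.2
      ⟨⟨y, hy⟩, hW y hy⟩, ?_⟩
    refine TopCat.Sheaf.eq_of_locally_eq' (X := X.carrier) ⟨F.presheaf, F.isSheaf⟩
      (fun y : I.supportSet => W y.1 y.2) _
      (fun y => homOfLE (le_iSup (fun y : I.supportSet => W y.1 y.2) y)) le_rfl _ _ fun y => ?_
    rw [map_zero]
    change F.presheaf.map (homOfLE _).op (F.presheaf.map (homOfLE _).op s) = 0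
    rw [← CategoryTheory.comp_apply, ← F.presheaf.map_comp]
    exact hW0 y.1 y.2
  · rintro ⟨V, hV, hs⟩ n
    let b := Dual3.idealMulι (I ^ n) F
    suffices hz : (cokernel.π b).app ⊤ s = 0 by
      obtain ⟨t, ht⟩ := Groth.Agent.QCohLib.kernel_app_exact (cokernel.π b) ⊤ s hz
      let e : kernel (cokernel.π b) ⟶ (Dual3.idealMul (I ^ n)).obj F :=
        Abelian.monoLift b (kernel.ι _) (kernel.condition _)
      refine ⟨e.app ⊤ t, ?_⟩
      have he : e ≫ b = kernel.ι (cokernel.π b) := Abelian.monoLift_comp _ _ _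
      rw [← ht, ← he]
      rfl
    refine TopCat.Presheaf.section_ext (X := X.carrier) ⟨(cokernel b).presheaf, (cokernel b).isSheaf⟩
      ⊤ _ _ fun y hy => ?_
    change (cokernel b).presheaf.germ ⊤ y hy ((cokernel.π b).app ⊤ s) = (cokernel b).presheaf.germ ⊤ y hy 0
    rw [map_zero, ← Groth.Agent.PullbackMod.stalkLin_germ]
    obtain ⟨w, hw⟩ := (Groth.Agent.IdealMulLib.mem_range_idealMulι_iff (I ^ n) F y
      (F.presheaf.germ ⊤ y hy s)).2 (by
        by_cases hyV : y ∈ V
        · have h0 : F.presheaf.germ ⊤ y hy s = 0 := by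
            rw [← TopCat.Presheaf.germ_res_apply F.presheaf (homOfLE le_top : V ⟶ ⊤) y hyV s]
            exact (congrArg _ hs).trans (map_zero _)
          rw [h0]
          exact zero_mem _
        · rw [hpow, Groth.Agent.IdealMulLib.stalkIdeal_eq_top I (fun h => hyV (hV h)), ← Ideal.one_eq_top,
            one_pow, Ideal.one_eq_top, Submodule.top_smul]
          exact Submodule.mem_top)
    rw [← hw, ← LinearMap.comp_apply, ← Groth.Agent.PullbackMod.stalkLin_comp, cokernel.condition,
      (Groth.Agent.PullbackMod.eq_zero_iff_stalk (0 : (Dual3.idealMul (I ^ n)).obj F ⟶ cokernel b)).mp rfl y]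
    rfl
end Groth.Agent.S3665
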