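import Groth.Statements.S3668
import Groth.Agent.IdealMulLib.Sub
import Groth.Agent.IdealMulLib.Killed
import Groth.Agent.SubLib.ExtendWO
import Mathlib.RingTheory.Filtration
-- import your own Groth.Agent.* helpers here

set_option autoImplicit false
universe u
open CategoryTheory CategoryTheory.Limits AlgebraicGeometry
attribute [local instance] HasDerivedCategory.standard
open Dual3

namespace Groth.Agent.S3668


set_option backward.isDefEq.respectTransparency false
set_option linter.style.haveILetI false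
open Groth.Agent.QCohLib (appLinear kernel_app_exact isQCoh_image finite_sections_of_isCoh isCoh_of_mono)
open Groth.Agent.FlatLocus (appL cokernel_sections)
open Groth.Agent.IdealMulLib (range_app_idealMulι eq_zero_of_cover isQCoh_idealMul)

variable {X : Scheme.{u}}

theorem app_inj {A B : X.Modules} (b : A ⟶ B) [Mono b] (W : X.Opens) :
    Function.Injective (b.app W) :=
  Groth.Agent.CohBase.sections_injective ((Groth.Agent.QCohLib.toAbF X).map b) W

/-- A map from a quasi-coherent module factors through a monomorphism if it does so on the sections over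
an affine cover. -/
theorem comp_coker_zero {A B M : X.Modules} [Coh.IsQCoh A] (f : A ⟶ M) (b : B ⟶ M) {ι : Type u} (W : ι → X.Opens)
    (hW : ∀ i, IsAffineOpen (W i)) (hcov : ∀ y : X, ∃ i, y ∈ W i)
    (h : ∀ (i : ι) (t : Γ(A, W i)), ∃ s, b.app (W i) s = f.app (W i) t) : f ≫ cokernel.π b = 0 := by
  refine eq_zero_of_cover _ fun y => ?_
  obtain ⟨i, hi⟩ := hcov y
  refine ⟨W i, hW i, hi, fun t => ?_⟩
  obtain ⟨s, hs⟩ := h i t
  show (cokernel.π b).app (W i) (f.app (W i) t) = 0
  rw [← hs]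
  show (b ≫ cokernel.π b).app (W i) s = 0
  rw [cokernel.condition]
  rfl

theorem isQCoh_cycles (G : CochainComplex X.Modules ℤ) (hG : ∀ q, Coh.IsQCoh (G.X q)) (p : ℤ) :
    Coh.IsQCoh (G.cycles p) :=
  Groth.Agent.DCohLib.isQCoh_of_iso'
    ((G.cyclesIsKernel p (p + 1) (by simp)).conePointUniqueUpToIso (kernelIsKernel (G.d p (p + 1)))).symm
    (isQCoh_image (G.d p (p + 1)) (hG p) (hG (p + 1))).1

theorem isQCoh_homology (G : CochainComplex X.Modules ℤ) (hG : ∀ q, Coh.IsQCoh (G.X q)) (p : ℤ) :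
    Coh.IsQCoh (G.homology p) :=
  Groth.Agent.DCohLib.isQCoh_of_iso'
    ((G.homologyIsCokernel (p - 1) p (by simp)).coconePointUniqueUpToIso
      (cokernelIsCokernel (G.toCycles (p - 1) p))).symm
    (isQCoh_image (G.toCycles (p - 1) p) (hG (p - 1)) (isQCoh_cycles G hG p)).2

/-- Artin-Rees for a map of coherent modules on finitely many affine opens. -/
theorem exists_ar [IsNoetherian X] (I : X.IdealSheafData) {A M : X.Modules} (hM : Coh.IsCoh M) (b : A ⟶ M)
    {ι : Type u} [Fintype ι] (W : ι → X.Opens) (hW : ∀ i, IsAffineOpen (W i)) :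
    ∃ c : ℕ, ∀ c' : ℕ, c ≤ c' → ∀ (i : ι) (n : ℕ) (a : Γ(A, W i)),
      b.app (W i) a ∈ I.ideal ⟨W i, hW i⟩ ^ n • (⊤ : Submodule Γ(X, W i) Γ(M, W i)) →
        ∃ a' ∈ I.ideal ⟨W i, hW i⟩ ^ (n - c') • (⊤ : Submodule Γ(X, W i) Γ(A, W i)),
          b.app (W i) a' = b.app (W i) a := by
  have key : ∀ i : ι, ∃ k : ℕ, ∀ c' : ℕ, k ≤ c' → ∀ (n : ℕ),
      I.ideal ⟨W i, hW i⟩ ^ n • (⊤ : Submodule Γ(X, W i) Γ(M, W i)) ⊓ LinearMap.range (appLinear b (W i)) ≤
        Submodule.map (appLinear b (W i))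
          (I.ideal ⟨W i, hW i⟩ ^ (n - c') • (⊤ : Submodule Γ(X, W i) Γ(A, W i))) := by
    intro i
    haveI : IsNoetherianRing Γ(X, W i) := IsLocallyNoetherian.component_noetherian ⟨W i, hW i⟩
    haveI : Module.Finite Γ(X, W i) Γ(M, W i) := finite_sections_of_isCoh hM (hW i)
    obtain ⟨k, hk⟩ := Ideal.exists_pow_inf_eq_pow_smul (I.ideal ⟨W i, hW i⟩) (LinearMap.range (appLinear b (W i)))
    refine ⟨k, fun c' hc n => ?_⟩
    rw [Submodule.map_smul'', Submodule.map_top]
    by_cases hn : k ≤ n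
    · rw [hk n hn]
      exact (Submodule.smul_mono le_rfl inf_le_right).trans
        (Submodule.smul_mono_left (Ideal.pow_le_pow_right (by omega)))
    · rw [show n - c' = 0 by omega, pow_zero, Ideal.one_eq_top, Submodule.top_smul]
      exact inf_le_right
  choose k hk using key
  refine ⟨Finset.univ.sup k, fun c' hc i n a ha => ?_⟩
  obtain ⟨a', ha', he⟩ := hk i c' ((Finset.le_sup (Finset.mem_univ i)).trans hc) n ⟨ha, a, rfl⟩
  exact ⟨a', ha', he⟩

open CategoryTheory CategoryTheory.Limits AlgebraicGeometry in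
/-- Let X be a Noetherian scheme, I a quasi-coherent ideal, F a complex of coherent O_X-modules and p an
integer; put H = H^p(F) and H_n = H^p(I^n F), with the maps H_n → H and H_m → H_n (m ≥ n) induced by
the inclusions. Then there are c > 0 and, for n ≥ c, maps φ_n : H_n → I^{n-c} H and ψ_n : I^n H →
H_{n-c} such that: φ_n followed by the inclusion I^{n-c}H ⊆ H is the canonical map H_n → H; ψ_n
followed by H_{n-c} → H is the inclusion I^n H ⊆ H; for n ≥ 2c the composite ψ_n then φ_{n-c} is the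
inclusion I^n H ⊆ I^{n-2c} H, and the composite φ_n then ψ_{n-c} is the transition map H_n →
H_{n-2c}. In particular the systems (H_n) and (I^n H) are pro-isomorphic. (The maps φ, ψ are indexed
by all n; only n ≥ c, resp. n ≥ 2c, is constrained.) -/
theorem result (X : Scheme.{u}) [IsNoetherian X] (I : X.IdealSheafData) (F : CochainComplex X.Modules ℤ) (hFc : ∀ q : ℤ, Coh.IsCoh (F.X q)) (p : ℤ) : ∃ (c : ℕ) (φ : ∀ n : ℕ, ((Dual3.deligne I n).obj F).homology p ⟶ (Dual3.idealMul (I ^ (n - c))).obj (F.homology p)) (ψ : ∀ n : ℕ, (Dual3.idealMul (I ^ n)).obj (F.homology p) ⟶ ((Dual3.deligne I (n - c)).obj F).homology p), 0 < c ∧ (∀ n : ℕ, c ≤ n → φ n ≫ Dual3.idealMulι (I ^ (n - c)) (F.homology p) = HomologicalComplex.homologyMap (Dual3.deligneι I n F) p) ∧ (∀ n : ℕ, c ≤ n → ψ n ≫ HomologicalComplex.homologyMap (Dual3.deligneι I (n - c) F) p = Dual3.idealMulι (I ^ n) (F.homology p)) ∧ (∀ n : ℕ, 2 * c ≤ n → (ψ n ≫ φ (n - c)) ≫ Dual3.idealMulι (I ^ (n - c - c)) (F.homology p)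 = Dual3.idealMulι (I ^ n) (F.homology p)) ∧ ∀ (n : ℕ), 2 * c ≤ n → ∀ t : (Dual3.deligne I n).obj F ⟶ (Dual3.deligne I (n - c - c)).obj F, t ≫ Dual3.deligneι I (n - c - c) F = Dual3.deligneι I n F → φ n ≫ ψ (n - c) = HomologicalComplex.homologyMap t p := by
  classical
  -- a finite affine cover
  obtain ⟨fs, hfs⟩ := (isCompact_univ : IsCompact (Set.univ : Set X)).elim_finite_subcover
    (fun U : X.affineOpens => (U.1 : Set X)) (fun U => U.1.2) (fun y _ => by
      obtain ⟨_, ⟨V : X.Opens, hV, rfl⟩, hy, -⟩ :=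
        X.isBasis_affineOpens.exists_subset_of_mem_open (Set.mem_univ y) isOpen_univ
      exact Set.mem_iUnion.2 ⟨⟨V, hV⟩, hy⟩)
  let W : {U // U ∈ fs} → X.Opens := fun i => i.1.1
  have hW : ∀ i, IsAffineOpen (W i) := fun i => i.1.2
  have hcov : ∀ y : X, ∃ i, y ∈ W i := fun y => by
    obtain ⟨U, hU, hy⟩ := Set.mem_iUnion₂.1 (hfs (Set.mem_univ y))
    exact ⟨⟨U, hU⟩, hy⟩
  haveI hq : ∀ q, Coh.IsQCoh (F.X q) := fun q => (hFc q).1
  haveI hqd : ∀ (n : ℕ) (q : ℤ), Coh.IsQCoh (((Dual3.deligne I n).obj F).X q) :=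
    fun n q => isQCoh_idealMul (I ^ n) (F.X q)
  haveI hZq : Coh.IsQCoh (F.cycles p) := isQCoh_cycles F hq p
  haveI hHq : Coh.IsQCoh (F.homology p) := isQCoh_homology F hq p
  haveI hZnq : ∀ n : ℕ, Coh.IsQCoh (((Dual3.deligne I n).obj F).cycles p) :=
    fun n => isQCoh_cycles _ (hqd n) p
  -- the constant
  obtain ⟨c₁, hc₁⟩ := exists_ar I (hFc p) (F.iCycles p) W hW
  obtain ⟨c₂, hc₂⟩ := exists_ar I (hFc p) (F.d (p - 1) p) W hW
  let c := c₁ + c₂ + 1
  -- cycles of `I^n F` lie in `I^(n-c)` times the cycles of `F`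
  have hγ : ∀ n : ℕ, HomologicalComplex.cyclesMap (Dual3.deligneι I n F) p ≫
      cokernel.π (Dual3.idealMulι (I ^ (n - c)) (F.cycles p)) = 0 := fun n => by
    refine comp_coker_zero _ _ W hW hcov fun i t => ?_
    have h1 : (F.iCycles p).app (W i) ((HomologicalComplex.cyclesMap (Dual3.deligneι I n F) p).app (W i) t) =
        (Dual3.idealMulι (I ^ n) (F.X p)).app (W i) ((((Dual3.deligne I n).obj F).iCycles p).app (W i) t) :=
      ConcreteCategory.congr_hom (congrArg (fun f => Scheme.Modules.Hom.app f (W i))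
        (HomologicalComplex.cyclesMap_i (Dual3.deligneι I n F) p)) t
    have h2 : (F.iCycles p).app (W i) ((HomologicalComplex.cyclesMap (Dual3.deligneι I n F) p).app (W i) t) ∈
        I.ideal ⟨W i, hW i⟩ ^ n • (⊤ : Submodule Γ(X, W i) Γ(F.X p, W i)) := by
      rw [h1]
      exact (range_app_idealMulι (I ^ n) (F.X p) (hW i) _).1 ⟨_, rfl⟩
    obtain ⟨a, ha, hae⟩ := hc₁ c (by omega) i n _ h2
    obtain rfl := app_inj (F.iCycles p) (W i) hae
    exact (range_app_idealMulι (I ^ (n - c)) (F.cycles p) (hW i) _).2 ha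
  let γ : ∀ n : ℕ, ((Dual3.deligne I n).obj F).cycles p ⟶ (Dual3.idealMul (I ^ (n - c))).obj (F.cycles p) :=
    fun n => Abelian.monoLift _ _ (hγ n)
  have γι : ∀ n : ℕ, γ n ≫ Dual3.idealMulι (I ^ (n - c)) (F.cycles p) =
      HomologicalComplex.cyclesMap (Dual3.deligneι I n F) p := fun n => Abelian.monoLift_comp _ _ _
  have hφ : ∀ n : ℕ, HomologicalComplex.homologyMap (Dual3.deligneι I n F) p ≫
      cokernel.π (Dual3.idealMulι (I ^ (n - c)) (F.homology p)) = 0 := fun n => by
    rw [← cancel_epi (((Dual3.deligne I n).obj F).homologyπ p), comp_zero,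
      HomologicalComplex.homologyπ_naturality_assoc, ← γι n, Category.assoc,
      ← Dual3.idealMul_map_ι_assoc, cokernel.condition, comp_zero, comp_zero]
  let φ : ∀ n : ℕ, ((Dual3.deligne I n).obj F).homology p ⟶ (Dual3.idealMul (I ^ (n - c))).obj (F.homology p) :=
    fun n => Abelian.monoLift _ _ (hφ n)
  have φι : ∀ n : ℕ, φ n ≫ Dual3.idealMulι (I ^ (n - c)) (F.homology p) =
      HomologicalComplex.homologyMap (Dual3.deligneι I n F) p := fun n => Abelian.monoLift_comp _ _ _
  have πφ : ∀ n : ℕ, ((Dual3.deligne I n).obj F).homologyπ p ≫ φ n =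
      γ n ≫ (Dual3.idealMul (I ^ (n - c))).map (F.homologyπ p) := fun n => by
    rw [← cancel_mono (Dual3.idealMulι (I ^ (n - c)) (F.homology p)), Category.assoc, φι,
      HomologicalComplex.homologyπ_naturality, Category.assoc, Dual3.idealMul_map_ι, ← Category.assoc (γ n), γι]
  -- `I^n` times the cycles lies in the cycles of `I^(n-c) F`
  haveI hIZq : ∀ n : ℕ, Coh.IsQCoh ((Dual3.idealMul (I ^ n)).obj (F.cycles p)) :=
    fun n => isQCoh_idealMul (I ^ n) _
  have hb : ∀ n : ℕ, (Dual3.idealMulι (I ^ n) (F.cycles p) ≫ F.iCycles p) ≫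
      cokernel.π (Dual3.idealMulι (I ^ (n - c)) (F.X p)) = 0 := fun n => by
    refine comp_coker_zero _ _ W hW hcov fun i t => ?_
    have h : (F.iCycles p).app (W i) ((Dual3.idealMulι (I ^ n) (F.cycles p)).app (W i) t) ∈
        Submodule.map (appLinear (F.iCycles p) (W i))
          (I.ideal ⟨W i, hW i⟩ ^ n • (⊤ : Submodule Γ(X, W i) Γ(F.cycles p, W i))) :=
      ⟨_, (range_app_idealMulι (I ^ n) (F.cycles p) (hW i) _).1 ⟨t, rfl⟩, rfl⟩
    rw [Submodule.map_smul'', Submodule.map_top] at h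
    exact (range_app_idealMulι (I ^ (n - c)) (F.X p) (hW i) _).2
      (Submodule.smul_mono (Ideal.pow_le_pow_right (by omega)) le_top h)
  let u : ∀ n : ℕ, (Dual3.idealMul (I ^ n)).obj (F.cycles p) ⟶ ((Dual3.deligne I (n - c)).obj F).X p :=
    fun n => Abelian.monoLift _ _ (hb n)
  have uι : ∀ n : ℕ, u n ≫ (Dual3.deligneι I (n - c) F).f p =
      Dual3.idealMulι (I ^ n) (F.cycles p) ≫ F.iCycles p := fun n => Abelian.monoLift_comp _ _ _
  haveI : ∀ (n : ℕ) (q : ℤ), Mono ((Dual3.deligneι I n F).f q) :=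
    fun n q => Dual3.mono_idealMulι (I ^ n) (F.X q)
  have hud : ∀ n : ℕ, u n ≫ ((Dual3.deligne I (n - c)).obj F).d p (p + 1) = 0 := fun n => by
    rw [← cancel_mono ((Dual3.deligneι I (n - c) F).f (p + 1)), Category.assoc, zero_comp,
      ← (Dual3.deligneι I (n - c) F).comm p (p + 1), ← Category.assoc, uι, Category.assoc,
      HomologicalComplex.iCycles_d, comp_zero]
  let β : ∀ n : ℕ, (Dual3.idealMul (I ^ n)).obj (F.cycles p) ⟶ ((Dual3.deligne I (n - c)).obj F).cycles p :=
    fun n => ((Dual3.deligne I (n - c)).obj F).liftCycles (u n) (p + 1) (by simp) (hud n)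
  have βi : ∀ n : ℕ, β n ≫ ((Dual3.deligne I (n - c)).obj F).iCycles p = u n :=
    fun n => HomologicalComplex.liftCycles_i _ _ _ _ _
  have βι : ∀ n : ℕ, β n ≫ HomologicalComplex.cyclesMap (Dual3.deligneι I (n - c) F) p =
      Dual3.idealMulι (I ^ n) (F.cycles p) := fun n => by
    rw [← cancel_mono (F.iCycles p), Category.assoc, HomologicalComplex.cyclesMap_i, ← Category.assoc, βi, uι]
  let E : ∀ n : ℕ, (Dual3.idealMul (I ^ n)).obj (F.cycles p) ⟶ (Dual3.idealMul (I ^ n)).obj (F.homology p) :=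
    fun n => (Dual3.idealMul (I ^ n)).map (F.homologyπ p)
  haveI hIHq : ∀ n : ℕ, Coh.IsQCoh ((Dual3.idealMul (I ^ n)).obj (F.homology p)) :=
    fun n => isQCoh_idealMul (I ^ n) _
  -- the homology projection on affine opens
  let d' : F.homology p ⟶ cokernel (F.toCycles (p - 1) p) := (F.homologyIsCokernel (p - 1) p (by simp)).desc
    (CokernelCofork.ofπ (cokernel.π (F.toCycles (p - 1) p)) (cokernel.condition _))
  have hd' : F.homologyπ p ≫ d' = cokernel.π (F.toCycles (p - 1) p) :=
    (F.homologyIsCokernel (p - 1) p (by simp)).fac _ WalkingParallelPair.one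
  let e' : cokernel (F.toCycles (p - 1) p) ⟶ F.homology p :=
    cokernel.desc _ (F.homologyπ p) (F.toCycles_comp_homologyπ _ _)
  have he' : cokernel.π (F.toCycles (p - 1) p) ≫ e' = F.homologyπ p := cokernel.π_desc _ _ _
  have hsurj : ∀ i, Function.Surjective (appLinear (F.homologyπ p) (W i)) := fun i s => by
    obtain ⟨z, hz⟩ := (cokernel_sections (F.toCycles (p - 1) p) (hW i)).1 (d'.app (W i) s)
    refine ⟨z, ?_⟩
    have hde : d' ≫ e' = 𝟙 _ := by
      rw [← cancel_epi (F.homologyπ p), ← Category.assoc, hd', he']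
      exact (Category.comp_id _).symm
    have h1 := ConcreteCategory.congr_hom (congrArg (fun f => Scheme.Modules.Hom.app f (W i)) hde) s
    have h2 := ConcreteCategory.congr_hom (congrArg (fun f => Scheme.Modules.Hom.app f (W i)) he') z
    refine (Eq.trans ?_ h1 : (F.homologyπ p).app (W i) z = s)
    exact h2.symm.trans (congrArg (e'.app (W i)) hz)
  haveI hE : ∀ n : ℕ, Epi (E n) := fun n => by
    refine Preadditive.epi_of_cokernel_zero ?_
    rw [← Category.id_comp (cokernel.π (E n))]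
    refine comp_coker_zero _ _ W hW hcov fun i t => ?_
    have h := (range_app_idealMulι (I ^ n) (F.homology p) (hW i) _).1 ⟨t, rfl⟩
    rw [← LinearMap.range_eq_top.2 (hsurj i), ← Submodule.map_top, ← Submodule.map_smul''] at h
    obtain ⟨z, hz, hze⟩ := h
    obtain ⟨z', rfl⟩ := (range_app_idealMulι (I ^ n) (F.cycles p) (hW i) _).2 hz
    refine ⟨z', app_inj (Dual3.idealMulι (I ^ n) (F.homology p)) (W i) (Eq.trans ?_ hze)⟩
    exact ConcreteCategory.congr_hom (congrArg (fun f => Scheme.Modules.Hom.app f (W i))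
      (Dual3.idealMul_map_ι (I ^ n) (F.homologyπ p))) z'
  have hψ : ∀ n : ℕ, kernel.ι (E n) ≫ β n ≫ ((Dual3.deligne I (n - c)).obj F).homologyπ p = 0 := fun n => by
    haveI : Coh.IsQCoh (kernel (E n)) := (isQCoh_image (E n) (hIZq n) (hIHq n)).1
    refine eq_zero_of_cover _ fun y => ?_
    obtain ⟨i, hi⟩ := hcov y
    refine ⟨W i, hW i, hi, fun t => ?_⟩
    let t' := (kernel.ι (E n)).app (W i) t
    let z := (Dual3.idealMulι (I ^ n) (F.cycles p)).app (W i) t'
    have hz0 : (F.homologyπ p).app (W i) z = 0 := by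
      refine (ConcreteCategory.congr_hom (congrArg (fun f => Scheme.Modules.Hom.app f (W i))
        (Dual3.idealMul_map_ι (I ^ n) (F.homologyπ p))) t').symm.trans ?_
      show (Dual3.idealMulι (I ^ n) (F.homology p)).app (W i) ((kernel.ι (E n) ≫ E n).app (W i) t) = 0
      rw [kernel.condition]
      exact map_zero _
    have hzk : z ∈ LinearMap.ker (appL (cokernel.π (F.toCycles (p - 1) p)) (W i)) := by
      rw [LinearMap.mem_ker]
      show (cokernel.π (F.toCycles (p - 1) p)).app (W i) z = 0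
      rw [← hd']
      exact (congrArg (d'.app (W i)) hz0).trans (map_zero _)
    rw [(cokernel_sections (F.toCycles (p - 1) p) (hW i)).2] at hzk
    obtain ⟨v, hv⟩ := hzk
    have hdv : (F.d (p - 1) p).app (W i) v = (F.iCycles p).app (W i) z := by
      rw [← F.toCycles_i (p - 1) p]
      exact congrArg ((F.iCycles p).app (W i)) hv
    have hmem : (F.d (p - 1) p).app (W i) v ∈
        I.ideal ⟨W i, hW i⟩ ^ n • (⊤ : Submodule Γ(X, W i) Γ(F.X p, W i)) := by
      rw [hdv]
      have h : (F.iCycles p).app (W i) z ∈ Submodule.map (appLinear (F.iCycles p) (W i))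
          (I.ideal ⟨W i, hW i⟩ ^ n • (⊤ : Submodule Γ(X, W i) Γ(F.cycles p, W i))) :=
        ⟨_, (range_app_idealMulι (I ^ n) (F.cycles p) (hW i) _).1 ⟨t', rfl⟩, rfl⟩
      rw [Submodule.map_smul'', Submodule.map_top] at h
      exact Submodule.smul_mono le_rfl le_top h
    obtain ⟨v', hv', hve⟩ := hc₂ c (by omega) i n v hmem
    obtain ⟨w, hw⟩ := (range_app_idealMulι (I ^ (n - c)) (F.X (p - 1)) (hW i) v').2 hv'
    have key : (((Dual3.deligne I (n - c)).obj F).toCycles (p - 1) p).app (W i) w = (β n).app (W i) t' := by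
      refine app_inj (((Dual3.deligne I (n - c)).obj F).iCycles p ≫ (Dual3.deligneι I (n - c) F).f p) (W i) ?_
      have h1 : ((Dual3.deligne I (n - c)).obj F).toCycles (p - 1) p ≫
          ((Dual3.deligne I (n - c)).obj F).iCycles p ≫ (Dual3.deligneι I (n - c) F).f p =
          (Dual3.deligneι I (n - c) F).f (p - 1) ≫ F.d (p - 1) p := by
        rw [HomologicalComplex.toCycles_i_assoc, (Dual3.deligneι I (n - c) F).comm]
      have h2 : β n ≫ ((Dual3.deligne I (n - c)).obj F).iCycles p ≫ (Dual3.deligneι I (n - c) F).f p =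
          Dual3.idealMulι (I ^ n) (F.cycles p) ≫ F.iCycles p := by
        rw [← Category.assoc, βi, uι]
      refine (ConcreteCategory.congr_hom (congrArg (fun f => Scheme.Modules.Hom.app f (W i)) h1) w).trans ?_
      refine Eq.trans ?_ (ConcreteCategory.congr_hom (congrArg (fun f => Scheme.Modules.Hom.app f (W i)) h2) t').symm
      exact ((congrArg ((F.d (p - 1) p).app (W i)) hw).trans hve).trans hdv
    show (((Dual3.deligne I (n - c)).obj F).homologyπ p).app (W i) ((β n).app (W i) t') = 0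
    rw [← key]
    show ((((Dual3.deligne I (n - c)).obj F).toCycles (p - 1) p ≫
      ((Dual3.deligne I (n - c)).obj F).homologyπ p).app (W i) w) = 0
    rw [HomologicalComplex.toCycles_comp_homologyπ]
    rfl
  let ψ : ∀ n : ℕ, (Dual3.idealMul (I ^ n)).obj (F.homology p) ⟶ ((Dual3.deligne I (n - c)).obj F).homology p :=
    fun n => Abelian.epiDesc (E n) _ (hψ n)
  have Eψ : ∀ n : ℕ, E n ≫ ψ n = β n ≫ ((Dual3.deligne I (n - c)).obj F).homologyπ p :=
    fun n => Abelian.comp_epiDesc _ _ _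
  have ψι : ∀ n : ℕ, ψ n ≫ HomologicalComplex.homologyMap (Dual3.deligneι I (n - c) F) p =
      Dual3.idealMulι (I ^ n) (F.homology p) := fun n => by
    rw [← cancel_epi (E n), ← Category.assoc, Eψ, Category.assoc, HomologicalComplex.homologyπ_naturality,
      ← Category.assoc, βι, Dual3.idealMul_map_ι]
  refine ⟨c, φ, ψ, by omega, fun n _ => φι n, fun n _ => ψι n, fun n _ => ?_, fun n _ t ht => ?_⟩
  · rw [Category.assoc, φι, ψι]
  · rw [← cancel_epi (((Dual3.deligne I n).obj F).homologyπ p), ← Category.assoc, πφ,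
      HomologicalComplex.homologyπ_naturality, Category.assoc]
    refine (congrArg (γ n ≫ ·) (Eψ (n - c))).trans ?_
    rw [← Category.assoc]
    congr 1
    rw [← cancel_mono (((Dual3.deligne I (n - c - c)).obj F).iCycles p ≫ (Dual3.deligneι I (n - c - c) F).f p)]
    simp only [Category.assoc, HomologicalComplex.cyclesMap_i_assoc]
    rw [← HomologicalComplex.comp_f, ht, ← HomologicalComplex.cyclesMap_i (Dual3.deligneι I n F), ← γι n, Category.assoc,
      ← Category.assoc (β (n - c)), βi, uι]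

end Groth.Agent.S3668
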