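import Groth.Statements.S3669
import Groth.Agent.DCohLib.ClosedPush
import Groth.Agent.ClSubLib.Annihilator
import Groth.Agent.RelTildeLib.Morph
import Groth.Agent.DCohLib.StalkKFlat
import Groth.Agent.DCohLib.Restrict
import Groth.Prelude.Def_CxOX
-- import your own Groth.Agent.* helpers here

set_option autoImplicit false
set_option backward.isDefEq.respectTransparency false
set_option maxHeartbeats 800000
set_option synthInstance.maxHeartbeats 200000
universe u
open CategoryTheory CategoryTheory.Limits AlgebraicGeometry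
open Groth.Agent
attribute [local instance] HasDerivedCategory.standard
open Dual3

namespace Groth.Agent.S3669

open Groth.Agent.PullbackMod DCohLib in
theorem suppOn_of_mono {Z X : Scheme.{u}} (i : Z ⟶ X) {T T' : X.Modules} (f : T ⟶ T') [Mono f]
    (h : DCohLib.SuppOn i T') : DCohLib.SuppOn i T where
  subsingleton y hy := by
    haveI := h.subsingleton y hy
    exact ((mono_iff_stalk f).1 inferInstance y).subsingleton
  smul_eq_zero x a ha z := (mono_iff_stalk f).1 inferInstance (i x) <| by
    rw [map_smul, map_zero]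
    exact h.smul_eq_zero x a ha _

open Groth.Agent.PullbackMod in
theorem mono_counit (Z X : Scheme.{u}) (i : Z ⟶ X) [IsClosedImmersion i] [Dual3.HasHomO i] (F : X.Modules) :
    Mono ((Dual3.homOAdj i).counit.app F) := by
  let ε := (Dual3.homOAdj i).counit.app F
  let P := Scheme.Modules.pushforward i
  let A := Scheme.Modules.pullbackPushforwardAdjunction i
  haveI : ∀ M, IsIso (A.counit.app M) := DCohLib.isIso_counit_closedImmersion i
  haveI : IsIso A.counit := NatIso.isIso_of_isIso_app _
  let hff : P.FullyFaithful := A.fullyFaithfulROfIsIsoCounit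
  haveI := DCohLib.isIso_unit_of_suppOn i
    (suppOn_of_mono i (kernel.ι ε) (DCohLib.suppOn_pushforward i ((Dual3.homO i).obj F)))
  let g : P.obj ((Scheme.Modules.pullback i).obj (kernel ε)) ⟶ P.obj ((Dual3.homO i).obj F) :=
    inv (A.unit.app (kernel ε)) ≫ kernel.ι ε
  have h1 : P.map (hff.preimage g) ≫ ε = 0 := by
    rw [hff.map_preimage, Category.assoc]
    exact (congrArg _ (kernel.condition ε)).trans comp_zero
  have h2 : hff.preimage g = 0 := ((Dual3.homOAdj i).homEquiv _ F).symm.injective <| by
    rw [Adjunction.homEquiv_counit, Adjunction.homEquiv_counit]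
    exact h1.trans (by rw [Functor.map_zero, zero_comp])
  have h3 : g = 0 := by rw [← hff.map_preimage g, h2, Functor.map_zero]
  exact Preadditive.mono_of_cancel_zero _ fun {K} k hk => by
    have h4 : kernel.ι ε = 0 := (cancel_epi (inv (A.unit.app (kernel ε)))).1 (h3.trans comp_zero.symm)
    rw [← kernel.lift_ι ε k hk, h4, comp_zero]

open Groth.Agent.PullbackMod in
theorem mem_range_counit (Z X : Scheme.{u}) (i : Z ⟶ X) [IsClosedImmersion i] [Dual3.HasHomO i] (F : X.Modules)
    (U : X.affineOpens) (s : Γ(F, U.1)) (hs : ∀ a ∈ i.ker.ideal U, a • s = 0) :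
    ∃ t, ((Dual3.homOAdj i).counit.app F).app U.1 t = s := by
  let ε := (Dual3.homOAdj i).counit.app F
  let j := U.1.ι
  let W : X.Opens := j ''ᵁ ⊤
  have hW : W = U.1 := Scheme.Opens.ι_image_top U.1
  let s₀ : Γ(F, W) := F.presheaf.map (homOfLE hW.le).op s
  let σ : Coh.structureModule (U.1 : Scheme.{u}) ⟶ (Scheme.Modules.restrictFunctor j).obj F :=
    DCohLib.secHom ((Scheme.Modules.restrictFunctor j).obj F) s₀
  let φ := ((CxOX.extZeroAdj j).homEquiv _ F).symm σ
  let T := Abelian.image φ
  -- scalars killing the germ of `s` kill the stalk of `T`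
  have key : ∀ (y : X) (a : X.presheaf.stalk y),
      (∀ hy : y ∈ U.1, a • F.presheaf.germ U.1 y hy s = 0) →
        ∀ z : T.presheaf.stalk y, a • z = 0 := by
    intro y a ha
    let N := (DCohLib.stkF y).obj F
    let l : F.presheaf.stalk y →ₗ[X.presheaf.stalk y] F.presheaf.stalk y :=
      LinearMap.lsmul (X.presheaf.stalk y) (F.presheaf.stalk y) a
    let ψ : F ⟶ sky y N := toSky (N := N) l
    have h0 : φ ≫ ψ = 0 := by
      apply ((CxOX.extZeroAdj j).homEquiv _ _).injective
      rw [Adjunction.homEquiv_naturality_right, Equiv.apply_symm_apply, Adjunction.homEquiv_unit,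
        Functor.map_zero, comp_zero]
      refine DCohLib.hom_unit_ext ?_
      show (show SkyObj y N W from ψ.app W (σ.app ⊤ (1 : Γ((U.1 : Scheme.{u}), ⊤)))) = _
      rw [DCohLib.secHom_app_one]
      funext h
      show a • F.presheaf.germ W y h.down _ = 0
      have e : (((Scheme.Modules.restrictFunctor j).obj F).presheaf.map
          (homOfLE (le_top : (⊤ : (U.1 : Scheme.{u}).Opens) ≤ ⊤)).op) s₀ = s₀ :=
        congr($(((Scheme.Modules.restrictFunctor j).obj F).presheaf.map_id _) s₀)
      rw [e, TopCat.Presheaf.germ_res_apply]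
      exact ha _
    have h1 : Abelian.image.ι φ ≫ ψ = 0 :=
      (cancel_epi (Abelian.factorThruImage φ)).1 (by rw [← Category.assoc, Abelian.image.fac, h0, comp_zero])
    intro z
    apply (mono_iff_stalk (Abelian.image.ι φ)).1 inferInstance y
    rw [map_smul, map_zero]
    obtain ⟨V, hV, m, rfl⟩ := TopCat.Presheaf.exists_germ_eq T.presheaf z
    rw [stalkLin_germ]
    exact congrFun (congr(($h1).app V m) : (show SkyObj y N V from (Abelian.image.ι φ ≫ ψ).app V m) = 0) ⟨hV⟩
  have kills : ∀ (y : X) (hy : y ∈ U.1), ∀ b ∈ (i.ker.ideal U).map (X.presheaf.germ U.1 y hy).hom,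
      b • F.presheaf.germ U.1 y hy s = 0 := by
    intro y hy b hb
    have hle : (i.ker.ideal U).map (X.presheaf.germ U.1 y hy).hom ≤
        LinearMap.ker (LinearMap.toSpanSingleton (X.presheaf.stalk y) (F.presheaf.stalk y)
          (F.presheaf.germ U.1 y hy s)) := by
      refine Ideal.map_le_iff_le_comap.2 fun c hc => ?_
      show X.presheaf.germ U.1 y hy c • F.presheaf.germ U.1 y hy s = 0
      erw [← PresheafOfModules.germ_smul (R := X.presheaf) F.val y U.1 hy c s, hs c hc]
      exact map_zero _
    exact hle hb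
  have hT : DCohLib.SuppOn i T := by
    refine ⟨fun y hy => ?_, fun x a ha z => ?_⟩
    · by_cases hyU : y ∈ U.1
      · have hy' : y ∉ X.zeroLocus (U := U.1) (i.ker.ideal U) := fun h => hy <| by
          have : y ∈ (i.ker.support : Set X) := (Scheme.IdealSheafData.mem_support_iff_of_mem hyU).2 h
          rwa [Scheme.Hom.support_ker, IsClosed.closure_eq i.isClosedEmbedding.isClosed_range] at this
        rw [Scheme.mem_zeroLocus_iff] at hy'
        push Not at hy'
        obtain ⟨c, hc, hcy⟩ := hy'
        have hu : IsUnit (X.presheaf.germ U.1 y hyU c) := (X.mem_basicOpen c y hyU).1 hcy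
        exact subsingleton_of_forall_eq 0 fun w => hu.smul_eq_zero.1
          (key y _ (fun _ => kills y hyU _ (Ideal.mem_map_of_mem _ hc)) w)
      · exact subsingleton_of_forall_eq 0 fun w =>
          (one_smul (X.presheaf.stalk y) w).symm.trans (key y 1 (fun h => absurd h hyU) w)
    · refine key (i x) a (fun hxW => ?_) z
      letI : Algebra Γ(X, U.1) (X.presheaf.stalk (i x)) :=
        TopCat.Presheaf.algebra_section_stalk X.presheaf ⟨i x, hxW⟩
      haveI := U.2.isLocalization_stalk ⟨i x, hxW⟩
      obtain ⟨⟨f, t⟩, hft⟩ :=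
        IsLocalization.surj (AssLib.pr (show IsAffineOpen U.1 from U.2) hxW).primeCompl a
      have hf0 : i.stalkMap x (X.presheaf.germ U.1 (i x) hxW f) = 0 := by
        rw [show X.presheaf.germ U.1 (i x) hxW f = algebraMap Γ(X, U.1) (X.presheaf.stalk (i x)) f from rfl,
          ← hft, map_mul, ha, zero_mul]
      have hu : IsUnit (algebraMap Γ(X, U.1) (X.presheaf.stalk (i x)) t.1) := IsLocalization.map_units _ t
      refine hu.smul_eq_zero.1 ?_
      rw [← mul_smul, mul_comm, hft]
      exact kills (i x) hxW _ (ClSubLib.germ_mem_span_of_stalkMap_eq_zero i U x hxW f hf0)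
  haveI := DCohLib.isIso_unit_of_suppOn i hT
  let A := Scheme.Modules.pullbackPushforwardAdjunction i
  let g : (Scheme.Modules.pushforward i).obj ((Scheme.Modules.pullback i).obj T) ⟶ F :=
    inv (A.unit.app T) ≫ Abelian.image.ι φ
  let m := (Dual3.homOAdj i).homEquiv _ F g
  have hg : (Scheme.Modules.pushforward i).map m ≫ ε = g :=
    (Adjunction.homEquiv_counit (adj := Dual3.homOAdj i) (g := m)).symm.trans (Equiv.symm_apply_apply _ g)
  have hφ : (Abelian.factorThruImage φ ≫ A.unit.app T ≫ (Scheme.Modules.pushforward i).map m) ≫ ε = φ := by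
    simp only [Category.assoc]
    rw [hg, IsIso.hom_inv_id_assoc, Abelian.image.fac]
  let w : Γ((CxOX.extZero j).obj (Coh.structureModule (U.1 : Scheme.{u})), W) := ((CxOX.extZeroAdj j).unit.app (Coh.structureModule (U.1 : Scheme.{u}))).app ⊤
    (1 : Γ((U.1 : Scheme.{u}), ⊤))
  have hw : φ.app W w = s₀ := by
    have h := congr(($((CxOX.extZeroAdj j).homEquiv_unit (f := φ))).app ⊤ (1 : Γ((U.1 : Scheme.{u}), ⊤)))
    rw [Equiv.apply_symm_apply, DCohLib.secHom_app_one] at h
    exact h.symm.trans (congr($(((Scheme.Modules.restrictFunctor j).obj F).presheaf.map_id _) s₀))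
  rw [← hφ] at hw
  refine ⟨((Scheme.Modules.pushforward i).obj ((Dual3.homO i).obj F)).presheaf.map (homOfLE hW.ge).op
    ((Abelian.factorThruImage φ ≫ A.unit.app T ≫ (Scheme.Modules.pushforward i).map m).app W w), ?_⟩
  refine (DCohLib.app_natural ε hW.ge _).trans ?_
  refine (congrArg _ hw).trans ?_
  show F.presheaf.map _ (F.presheaf.map _ s) = s
  rw [← ConcreteCategory.comp_apply, ← F.presheaf.map_comp]
  exact congr($(F.presheaf.map_id _) s)


/-- Let i : Z → X be a closed immersion of schemes with ideal sheaf I, Hom(O_Z, -) a right adjoint of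
i_* on modules (it exists; here the chosen one) with counit i_* Hom(O_Z, F) → F. Then for every
O_X-module F and every affine open U ⊆ X, the counit on sections over U, Γ(i⁻¹U, Hom(O_Z, F)) → Γ(U,
F), is injective with image exactly the sections s of F over U with I(U) · s = 0. -/
theorem result (Z X : Scheme.{u}) (i : Z ⟶ X) [IsClosedImmersion i] [Dual3.HasHomO i] (F : X.Modules) (U : X.affineOpens) : Function.Injective ⇑(ConcreteCategory.hom (((Dual3.homOAdj i).counit.app F).val.app (Opposite.op U.1))) ∧ Set.range ⇑(ConcreteCategory.hom (((Dual3.homOAdj i).counit.app F).val.app (Opposite.op U.1))) = ((LocCoh.torsionBy (i.ker.ideal U) (F.val.obj (Opposite.op U.1)) : Submodule Γ(X, U.1) (F.val.obj (Opposite.op U.1))) : Set (F.val.obj (Opposite.op U.1))) := by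
  haveI := mono_counit Z X i F
  refine ⟨RelTildeLib.app_injective_of_mono ((Dual3.homOAdj i).counit.app F) U.1,
    Set.Subset.antisymm ?_ fun s hs => mem_range_counit Z X i F U s fun a ha =>
      (Submodule.mem_torsionBySet_iff _ s).1 hs ⟨a, ha⟩⟩
  rintro _ ⟨t, rfl⟩
  refine (Submodule.mem_torsionBySet_iff _ _).2 fun ⟨a, ha⟩ => ?_
  have h0 : i.app U.1 a = 0 := by
    rw [Scheme.Hom.ker_apply] at ha
    exact ha
  let G := (Dual3.homO i).obj F
  have h1 : a • (show Γ((Scheme.Modules.pushforward i).obj G, U.1) from t) = 0 := by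
    show (show Γ(G, i ⁻¹ᵁ U.1) from i.app U.1 a • (show Γ(G, i ⁻¹ᵁ U.1) from t)) = 0
    rw [h0, zero_smul]
  refine (map_smul (((Dual3.homOAdj i).counit.app F).val.app (Opposite.op U.1)).hom a t).symm.trans ?_
  exact (congrArg _ h1).trans (map_zero _)

end Groth.Agent.S3669
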