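import Groth.Statements.S3670
import Groth.Agent.RelDualCMLib.GorQF
import Groth.Agent.GorOpenLib.Main
-- import your own Groth.Agent.* helpers here

set_option autoImplicit false
set_option backward.isDefEq.respectTransparency false
set_option maxHeartbeats 800000
set_option backward.isDefEq.respectTransparency false
set_option maxHeartbeats 800000
set_option synthInstance.maxHeartbeats 200000
universe u
open CategoryTheory CategoryTheory.Limits AlgebraicGeometry
attribute [local instance] HasDerivedCategory.standard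
open Dual3 Groth.Agent

namespace Groth.Agent.S3670

/-- (1) ⇔ (2) ⇔ (3) ⇔ (4): Let f : X → S be flat and locally of finite presentation, x a point of X and
d = dim_x(X_{f(x)}) the local dimension of its fibre. Then the following are equivalent: (1) f is
Gorenstein at x; (2) there are an open neighbourhood U of x and a locally quasi-finite morphism g :
U → A^d_S over S which is Gorenstein at x; (3) there are an open neighbourhood U of x and a locally
quasi-finite Gorenstein morphism g : U → A^d_S over S; (4) for every open neighbourhood U of x and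
every morphism g : U → A^d_S over S, if x is isolated in its fibre under g (g is quasi-finite at x)
then g is Gorenstein at x. -/
theorem result (X S : Scheme.{u}) (f : X ⟶ S) [Flat f] [LocallyOfFinitePresentation f] (x : X) (d : ℕ) (hd : Dual3.localFibreDim f x = (d : WithBot ℕ∞)) : (Dual3.IsGorensteinAt f x ↔ ∃ (U : X.Opens) (hx : x ∈ U) (g : (U : Scheme.{u}) ⟶ AffineSpace (ULift.{u} (Fin d)) S), g ≫ (AffineSpace (ULift.{u} (Fin d)) S ↘ S) = U.ι ≫ f ∧ LocallyQuasiFinite g ∧ Dual3.IsGorensteinAt g ⟨x, hx⟩) ∧ (Dual3.IsGorensteinAt f x ↔ ∃ (U : X.Opens) (_ : x ∈ U) (g : (U : Scheme.{u}) ⟶ AffineSpace (ULift.{u} (Fin d)) S), g ≫ (AffineSpace (ULift.{u} (Fin d)) S ↘ S) = U.ι ≫ f ∧ LocallyQuasiFinite g ∧ Dual3.IsGorensteinMor g) ∧ (Dual3.IsGorensteinAt f x ↔ ∀ (U : X.Opens) (hx : x ∈ U) (g : (U : Scheme.{u}) ⟶ AffineSpace (ULift.{u} (Fin d)) S), g ≫ (AffineSpace (ULift.{u} (Fin d)) S ↘ S) = U.ι ≫ f → Dual3.QuasiFiniteAt g ⟨x, hx⟩ → Dual3.IsGorensteinAt g ⟨x, hx⟩) := by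
    have hn : FlatMor.fibreDimAt f x = (d : WithBot ℕ∞) := (ShriekBridge.localFibreDim_eq f x).symm.trans hd
    have hlft : ∀ (U : X.Opens) (g : (U : Scheme.{u}) ⟶ AffineSpace (ULift.{u} (Fin d)) S),
        g ≫ (AffineSpace (ULift.{u} (Fin d)) S ↘ S) = U.ι ≫ f → LocallyOfFiniteType g := fun U g hg => by
      haveI : LocallyOfFiniteType (g ≫ (AffineSpace (ULift.{u} (Fin d)) S ↘ S)) := by rw [hg]; infer_instance
      exact locallyOfFiniteType_of_comp g (AffineSpace (ULift.{u} (Fin d)) S ↘ S)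
    have back : ∀ (U : X.Opens) (hx : x ∈ U) (g : (U : Scheme.{u}) ⟶ AffineSpace (ULift.{u} (Fin d)) S),
        g ≫ (AffineSpace (ULift.{u} (Fin d)) S ↘ S) = U.ι ≫ f → LocallyQuasiFinite g →
          (Dual3.IsGorensteinAt f x ↔ Dual3.IsGorensteinAt g ⟨x, hx⟩) := fun U hx g hg _ => by
      haveI := hlft U g hg
      exact RelDualCMLib.gorAt_iff_of_qf f g hg ⟨x, hx⟩ hd
        (Scheme.Hom.quasiFiniteAt_iff_isOpen_singleton_asFiber.1 (g.quasiFiniteAt _))
    obtain ⟨U, g, hx, hg, hqf⟩ := RelDualCMLib.exists_lqf f x hn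
    refine ⟨⟨fun h => ⟨U, hx, g, hg, hqf, (back U hx g hg hqf).1 h⟩,
        fun ⟨U, hx, g, hg, hqf, h⟩ => (back U hx g hg hqf).2 h⟩, ?_, ?_⟩
    · refine ⟨fun h => ?_, fun ⟨U, hx, g, hg, hqf, h⟩ => (back U hx g hg hqf).2 (h _)⟩
      have hcm : MoreMor.IsCMAt f x := ⟨h.1, by haveI := h.2; exact S0341.result _⟩
      obtain ⟨U, g, hx, hg, _, _⟩ := CMFlatLib.exists_flat_quasiFinite f x d hcm hn
      haveI : LocallyOfFinitePresentation (g ≫ (AffineSpace (ULift.{u} (Fin d)) S ↘ S)) := by rw [hg]; infer_instance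
      haveI : Smooth (AffineSpace (ULift.{u} (Fin d)) S ↘ S) := WittHomLib.smooth_affineSpace _ S
      haveI : LocallyOfFinitePresentation g :=
        FlatLocus.locallyOfFinitePresentation_of_comp g (AffineSpace (ULift.{u} (Fin d)) S ↘ S)
      let O : (U : Scheme.{u}).Opens := ⟨_, GorOpenLib.isOpen_gorensteinLocus g⟩
      let V : X.Opens := U.ι ''ᵁ O
      have hVU : V ≤ U := by
        rintro _ ⟨y, -, rfl⟩
        exact y.2
      refine ⟨V, ⟨⟨x, hx⟩, (back U hx g hg ‹_›).1 h, rfl⟩, X.homOfLE hVU ≫ g,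
        by rw [Category.assoc, hg, Scheme.homOfLE_ι_assoc], inferInstance, fun v => ?_⟩
      rw [GorSp.gorMap_precomp_etale]
      obtain ⟨y, hy, hyv⟩ := v.2
      have h' : U.ι (X.homOfLE hVU v) = U.ι y := by
        rw [← Scheme.Hom.comp_apply, Scheme.homOfLE_ι]
        exact hyv.symm
      rw [U.ι.isOpenEmbedding.injective h']
      exact hy
    · refine ⟨fun h U hx g hg hq => ?_, fun h => (back U hx g hg hqf).2 (h U hx g hg ?_)⟩
      · haveI := hlft U g hg
        exact (RelDualCMLib.gorAt_iff_of_qf f g hg ⟨x, hx⟩ hd hq).1 h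
      · haveI := hlft U g hg
        exact Scheme.Hom.quasiFiniteAt_iff_isOpen_singleton_asFiber.1 (g.quasiFiniteAt _)

end Groth.Agent.S3670
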