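import Groth.Statements.S3675
import Groth.Agent.DualCxLib.SchStalk


set_option autoImplicit false
universe u
open CategoryTheory CategoryTheory.Limits AlgebraicGeometry
attribute [local instance] HasDerivedCategory.standard
open Dual3

open Groth.Agent
set_option backward.isDefEq.respectTransparency false
namespace Groth.Agent.S3675

/-- Let X be a locally Noetherian scheme (exactness instances as in the definition of dualizing
complexes) and ω a coherent O_X-module such that ω[0] is a dualizing complex on X. Then X is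
Cohen–Macaulay: every local ring O_{X,x} is a Cohen–Macaulay local ring. -/
theorem result (X : Scheme.{u}) [IsLocallyNoetherian X] [∀ (U V : Scheme.{u}) (j : U ⟶ V) [IsOpenImmersion j], PreservesFiniteLimits (Scheme.Modules.restrictFunctor j)] [∀ (R : CommRingCat.{u}), PreservesFiniteLimits (tilde.functor R)] (ω : X.Modules) (hω : Coh.IsCoh ω) (hD : Dual2.IsDualizingSch X (DCoh.inD X ω)) (x : X) : LocCoh.IsCohenMacaulayLocalRing (X.presheaf.stalk x) := by
  obtain ⟨U, hU, hxU, -⟩ := exists_isAffineOpen_mem_and_subset (X := X) (x := x) (U := ⊤) trivial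
  obtain ⟨A, _, j, _, p, rfl⟩ : ∃ (A : Type u) (_ : CommRing A) (j : Spec (CommRingCat.of A) ⟶ X) (_ : IsOpenImmersion j)
      (p : PrimeSpectrum A), j p = x :=
    ⟨Γ(X, U), inferInstance, hU.fromSpec, inferInstanceAs (IsOpenImmersion hU.fromSpec),
      hU.primeIdealOf ⟨x, hxU⟩, hU.fromSpec_primeIdealOf ⟨x, hxU⟩⟩
  obtain ⟨ωA, hωA, ⟨e⟩⟩ := hD A j
  haveI := hωA.isNoetherianRing
  rw [DualCxLib.cm_stalk_iff, DualCxLib.cm_localization_iff hωA]
  obtain ⟨i, hi⟩ := DualCxLib.exists_not_zeroAt_unit hωA p.asIdeal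
  have hi' : p ∈ Module.support A (Dual.HD A ωA i) :=
    (DualCxLib.not_zeroAt_iff_mem_support p).1 ((DualCxLib.not_zeroAt_HD_iff hωA p.asIdeal i).2 hi)
  have key : ∀ k : ℤ, p ∈ Module.support A (Dual.HD A ωA k) → k = 0 := by
    intro k hk
    by_contra hne
    have hz : IsZero (DCoh.HD (DCoh.inD X ω) k) := by
      rcases lt_or_gt_of_ne hne with h | h
      · exact DerivedCategory.isZero_of_isGE _ 0 k h
      · exact DerivedCategory.isZero_of_isLE _ 0 k h
    have h1 := (DualCxLib.nontrivial_stalk_HD_iff j e p k).2 hk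
    have h2 : Subsingleton ((DCoh.HD (DCoh.inD X ω) k).presheaf.stalk (j p)) := AddCommGrpCat.subsingleton_of_isZero
      ((Scheme.Modules.toPresheaf X ⋙ TopCat.Presheaf.stalkFunctor AddCommGrpCat.{u} (j p)).map_isZero hz)
    exact not_subsingleton_iff_nontrivial.2 h1 h2
  exact ⟨i, hi', fun k hk => (key k hk).trans (key i hi').symm⟩

end Groth.Agent.S3675
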