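import Groth.Statements.S3681
import Groth.Agent.KunnethPi1Lib.Transport
-- import your own Groth.Agent.* helpers here

set_option autoImplicit false
set_option backward.isDefEq.respectTransparency false
set_option linter.style.haveILetI false
set_option maxHeartbeats 1000000
universe u
open Pi1

namespace Groth.Agent.S3681

open AlgebraicGeometry CategoryTheory CategoryTheory.Limits

theorem endo_eq_id {k : Type u} [Field k] {X : Scheme.{u}} (pX : X ⟶ Spec (CommRingCat.of k)) (x : X)
    (a : Spec (CommRingCat.of k) ⟶ Spec (CommRingCat.of k)) (h : pX ≫ a = pX) : a = 𝟙 _ := by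
  obtain ⟨K, _, _, η, -⟩ := Groth.Agent.QuotLib.exists_geom_point x
  have h1 : (η ≫ pX) ≫ a = η ≫ pX := by rw [Category.assoc, h]
  rw [← Spec.map_preimage (η ≫ pX), ← Spec.map_preimage a, ← Spec.map_comp] at h1
  have h2 := Spec.map_injective h1
  rw [← Spec.map_preimage a, ← Spec.map_id]
  congr 1
  ext r
  exact (Spec.preimage (η ≫ pX)).hom.injective (congrArg (fun f => f.hom r) h2)

open Groth.Agent.FEtLib Groth.Agent.KunnethPi1Lib in
theorem aux (k : Type u) [Field k] [IsAlgClosed k] {X Y : Scheme.{u}}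
    (pX : X ⟶ Spec (CommRingCat.of k)) (pY : Y ⟶ Spec (CommRingCat.of k))
    [IsLocallyNoetherian X] [IsLocallyNoetherian Y] [ConnectedSpace Y] (hprop : IsProper pX ∨ IsProper pY)
    (Z' : FEt.Cat (pullback pX pY))
    (y y' : Spec (CommRingCat.of k) ⟶ Y) (hy : 𝟙 X ≫ pX = (pX ≫ y) ≫ pY) (hy' : 𝟙 X ≫ pX = (pX ≫ y') ≫ pY) :
    Nonempty ((FEt.restrict (pullback.lift (𝟙 X) (pX ≫ y) hy)).obj Z' ≅
      (FEt.restrict (pullback.lift (𝟙 X) (pX ≫ y') hy')).obj Z') := by
  let j := pullback.lift (𝟙 X) (pX ≫ y) hy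
  let j' := pullback.lift (𝟙 X) (pX ≫ y') hy'
  let p := pullback.fst pX pY
  let A := (FEt.restrict j).obj Z'
  let U := (FEt.restrict p).obj A
  let eid (r : X ⟶ X) (hr : r = 𝟙 X) : (FEt.restrict r).obj A ≅ A :=
    MorphismProperty.Over.isoMk (@asIso _ _ _ _ (pullback.fst A.hom r) (by subst hr; infer_instance))
      (by subst hr; simp [FEt.restrict, pullback.condition])
  let ψ : (FEt.restrict j).obj U ≅ A :=
    ((PropPi1.restrictCompIso j p).app A).symm ≪≫ eid (j ≫ p) (pullback.lift_fst _ _ _)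
  let ψ' : (FEt.restrict j').obj U ≅ A :=
    ((PropPi1.restrictCompIso j' p).app A).symm ≪≫ eid (j' ≫ p) (pullback.lift_fst _ _ _)
  obtain ⟨W, e, he⟩ := exists_internalHom U Z'
  haveI : IsLocallyNoetherian (pullback pX pY) := by
    rcases hprop with hp | hp
    · exact LocallyOfFiniteType.isLocallyNoetherian (pullback.snd pX pY)
    · exact LocallyOfFiniteType.isLocallyNoetherian (pullback.fst pX pY)
  haveI := isLocallyNoetherian_left W
  obtain ⟨t₀, ht₀⟩ := toHom_surjective (he.restrict j) ψ.hom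
  let s : X ⟶ W.left := t₀.left ≫ pullback.fst W.hom j
  have hs : s ≫ W.hom = j := ((sectionEquiv j W).symm t₀).2
  let rep : _root_.ConnectedComponents ↥X → X := fun c => (_root_.ConnectedComponents.surjective_coe c).choose
  have hrep : ∀ c, _root_.ConnectedComponents.mk (rep c) = c := fun c => (_root_.ConnectedComponents.surjective_coe c).choose_spec
  let V : _root_.ConnectedComponents ↥X → X.Opens := fun c => compOpen X (rep c)
  have hmemV : ∀ c x, x ∈ V c ↔ _root_.ConnectedComponents.mk x = c := fun c x => by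
    conv_rhs => rw [← hrep c]
    exact _root_.ConnectedComponents.coe_eq_coe'.symm
  have htr : ∀ c, ∃ s' : (V c).toScheme ⟶ W.left, s' ≫ W.hom = (V c).ι ≫ j' ∧
      ∀ x', s' x' ∈ connectedComponent (s (rep c)) := fun c =>
    transport pX pY hprop W y y' (endo_eq_id pX (rep c) _ (by rw [← Category.assoc]; simpa using hy.symm))
      j j' (pullback.lift_fst _ _ _) (pullback.lift_snd _ _ _) (pullback.lift_fst _ _ _) (pullback.lift_snd _ _ _)
      s hs (rep c)
  choose s' hs' hcomp using htr
  let W' := (FEt.restrict j').obj W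
  obtain ⟨φ, hφ⟩ := exists_of_base_partition (Y := one X) (T := W') V V (fun _ _ => Iff.rfl)
    (fun c => isClosed_compOpen X (rep c)) (fun i i' x h h' => ((hmemV i x).1 h).symm.trans ((hmemV i' x).1 h'))
    (fun x => ⟨_, (hmemV _ x).2 rfl⟩)
    (fun c => MorphismProperty.Over.homMk (pullback.lift (s' c) (V c).ι (hs' c))
      ((pullback.lift_snd _ _ _).trans (Category.comp_id _).symm) trivial)
  haveI : IsIso (toHom (bcEval j' e) φ) := isIso_of_pmap_bijective _ fun K _ _ ξ => by
    rw [bijective_sectionHom_iff]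
    let c := _root_.ConnectedComponents.mk (ξ (IsLocalRing.closedPoint K))
    have hr : Set.range ξ ⊆ Set.range (V c).ι := by
      rw [Scheme.Opens.range_ι]
      rintro _ ⟨z, rfl⟩
      rw [show z = IsLocalRing.closedPoint K from @Subsingleton.elim (PrimeSpectrum K) _ _ _]
      exact (hmemV c _).2 rfl
    let ξc := IsOpenImmersion.lift (V c).ι ξ hr
    have hξc : ξc ≫ (V c).ι = ξ := IsOpenImmersion.lift_fac _ _ _
    have hφc : (V c).ι ≫ φ.left = pullback.lift (s' c) (V c).ι (hs' c) :=
      congrArg (fun a : clopenPart (one X) (V c) (isClosed_compOpen X (rep c)) ⟶ W' => a.left) (hφ c)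
    have hw : ξ ≫ (φ.left ≫ pullback.fst W.hom j') = ξc ≫ s' c := by
      rw [← hξc, Category.assoc, reassoc_of% hφc, pullback.lift_fst]
    obtain ⟨L, _, _, η, hη⟩ := Groth.Agent.QuotLib.exists_geom_point (rep c)
    refine bijAt_of_component e (η ≫ s) _ ?_ ?_
    · rw [hw, Scheme.Hom.comp_apply, Scheme.Hom.comp_apply, hη]
      exact hcomp c _
    · refine (bijective_sectionHom_iff e j t₀ η).1 ?_
      rw [ht₀]
      exact ⟨fun a b hab => by
        have h2 := congrArg (pmap ψ.inv) hab
        rwa [← pmap_comp, ← pmap_comp, ψ.hom_inv_id, pmap_id, pmap_id] at h2,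
        fun b => ⟨pmap ψ.inv b, by rw [← pmap_comp, ψ.inv_hom_id, pmap_id]⟩⟩
  exact ⟨ψ'.symm ≪≫ asIso (toHom (bcEval j' e) φ)⟩

open AlgebraicGeometry CategoryTheory CategoryTheory.Limits in
/-- Let k be an algebraically closed field, X and Y locally Noetherian k-schemes with Y connected and X
or Y proper over k, and Z' a finite etale cover of the product of X and Y over k. For a k-rational
point y of Y write j_y : X -> X x_k Y for the induced morphism. Then for any two k-rational points
y, y' of Y the finite etale covers of X obtained by pulling Z' back along j_y and j_{y'} are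
isomorphic. -/
theorem result (k : Type u) [Field k] [IsAlgClosed k] {X Y : Scheme.{u}}
    (pX : X ⟶ Spec (CommRingCat.of k)) (pY : Y ⟶ Spec (CommRingCat.of k))
    [IsLocallyNoetherian X] [IsLocallyNoetherian Y] [ConnectedSpace Y] (hprop : IsProper pX ∨ IsProper pY)
    (Z' : FEt.Cat (pullback pX pY))
    (y y' : Spec (CommRingCat.of k) ⟶ Y) (hy : 𝟙 X ≫ pX = (pX ≫ y) ≫ pY) (hy' : 𝟙 X ≫ pX = (pX ≫ y') ≫ pY) :
    Nonempty ((FEt.restrict (pullback.lift (𝟙 X) (pX ≫ y) hy)).obj Z' ≅
      (FEt.restrict (pullback.lift (𝟙 X) (pX ≫ y') hy')).obj Z') := by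
  exact aux k pX pY hprop Z' y y' hy hy'

end Groth.Agent.S3681
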