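import Groth.Statements.S3683
import Groth.Agent.KunnethPi1Lib.Main
-- import your own Groth.Agent.* helpers here

set_option autoImplicit false
set_option backward.isDefEq.respectTransparency false
set_option linter.style.haveILetI false
set_option maxHeartbeats 1000000
universe u
open Pi1

namespace Groth.Agent.S3683

open AlgebraicGeometry CategoryTheory CategoryTheory.Limits TopologicalSpace in
open Groth.Agent.FEtLib Groth.Agent.KunnethPi1Lib in
theorem aux (k : Type u) [Field k] [IsAlgClosed k] {X Y : Scheme.{u}}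
    (pX : X ⟶ Spec (CommRingCat.of k)) (pY : Y ⟶ Spec (CommRingCat.of k)) [IsProper pX] [ConnectedSpace X]
    [IsLocallyNoetherian Y] [ConnectedSpace Y]
    (W : FEt.Cat (pullback pX pY)) [ConnectedSpace W.left] :
    ∃ (X' : FEt.Cat X) (Y' : FEt.Cat Y) (φ : pullback (X'.hom ≫ pX) (Y'.hom ≫ pY) ⟶ W.left),
      φ ≫ W.hom = pullback.map (X'.hom ≫ pX) (Y'.hom ≫ pY) pX pY X'.hom Y'.hom (𝟙 _)
        (Category.comp_id _) (Category.comp_id _) ∧ Surjective φ := by
  let C0 : Closeds ↥X := ⊤
  let I := Scheme.IdealSheafData.vanishingIdeal C0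
  let iX : I.subscheme ⟶ X := I.subschemeι
  haveI : Surjective iX := ⟨Set.range_eq_univ.1 (by
    rw [Scheme.IdealSheafData.range_subschemeι, Scheme.IdealSheafData.coe_support_vanishingIdeal]
    rfl)⟩
  haveI : IsClosedImmersion iX := inferInstanceAs (IsClosedImmersion I.subschemeι)
  haveI : IsReduced I.subscheme := DVRCrit.isReduced_vanishingIdeal C0
  let eh : ↥I.subscheme ≃ₜ ↥X := iX.isClosedEmbedding.isEmbedding.toHomeomorphOfSurjective iX.surjective
  haveI : ConnectedSpace ↥I.subscheme := eh.symm.surjective.connectedSpace eh.symm.continuous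
  let pr := pullback.fst pX pY
  let pF := iX ≫ pX
  let i := pullback.fst pr iX
  let fF := pullback.snd pr iX
  let fB := i ≫ pullback.snd pX pY
  have h : IsPullback fF fB pF pY :=
    KunnethPi1Lib.isPullback_cover (IsPullback.of_hasPullback pX pY) iX
  haveI : IsClosedImmersion i := MorphismProperty.pullback_fst _ _ ‹_›
  haveI : Surjective i := MorphismProperty.pullback_fst _ _ ‹_›
  let W0 := (FEt.restrict i).obj W
  haveI := connectedSpace_product h
  haveI : ConnectedSpace ↥(pullback pX pY) := i.surjective.connectedSpace i.continuous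
  haveI := surjective_hom_of_connected W
  haveI : Surjective W0.hom := MorphismProperty.pullback_snd _ _ ‹Surjective W.hom›
  haveI : Nonempty W0.left := ⟨(W0.hom.surjective (Classical.arbitrary ↥(pullback pr iX))).choose⟩
  obtain ⟨F', hF', hD⟩ := exists_trivializing h W0
  let π : F'.left ⟶ I.subscheme := F'.hom
  let m := pullback.fst fF π
  let C' := (FEt.restrict m).obj W0
  haveI : IsLocallyNoetherian (pullback pX pY) := LocallyOfFiniteType.isLocallyNoetherian (pullback.snd pX pY)
  haveI : IsProper (π ≫ pF) := isProper_cover F'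
  haveI := isLocallyNoetherian_product (isPullback_cover h π)
  haveI : IsLocallyNoetherian C'.left := isLocallyNoetherian_left C'
  haveI : Surjective C'.hom := MorphismProperty.pullback_snd _ _ ‹Surjective W0.hom›
  haveI : ConnectedSpace F'.left := hF'
  haveI := connectedSpace_product (isPullback_cover h π)
  obtain ⟨z, -⟩ := C'.hom.surjective (Classical.arbitrary ↥(pullback fF π))
  obtain ⟨V, ⟨eD⟩⟩ := hD (z := z)
  haveI := S0238.result iX
  haveI : (FEt.restrict iX).EssSurj := Functor.IsEquivalence.essSurj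
  let X' := (FEt.restrict iX).objPreimage F'
  let eX : (FEt.restrict iX).obj X' ≅ F' := (FEt.restrict iX).objObjPreimageIso F'
  let μ := pullback.map (X'.hom ≫ pX) (V.hom ≫ pY) pX pY X'.hom V.hom (𝟙 _)
        (Category.comp_id _) (Category.comp_id _)
  have hμ : FEt.prop μ := MorphismProperty.pullbackMap (P := FEt.prop) X'.prop V.prop rfl rfl
  haveI : IsFinite μ := hμ.1
  haveI : Etale μ := hμ.2
  let Qo : FEt.Cat (pullback pX pY) := MorphismProperty.Over.mk ⊤ μ ⟨‹_›, ‹_›⟩
  let Qi := pullback μ i
  have hc := pullback.condition (f := μ) (g := i)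
  have hr : pullback.fst μ i ≫ pullback.fst (X'.hom ≫ pX) (V.hom ≫ pY) ≫ X'.hom =
      pullback.snd μ i ≫ fF ≫ iX := by
    have h1 : μ ≫ pullback.fst pX pY = pullback.fst (X'.hom ≫ pX) (V.hom ≫ pY) ≫ X'.hom := pullback.lift_fst _ _ _
    have h2 : i ≫ pullback.fst pX pY = fF ≫ iX := pullback.condition
    rw [← h1, reassoc_of% hc, h2]
  let t1 : Qi ⟶ F'.left :=
    pullback.lift (pullback.fst μ i ≫ pullback.fst _ _) (pullback.snd μ i ≫ fF)
      (by simpa only [Category.assoc] using hr) ≫ eX.hom.left
  have ht1 : t1 ≫ π = pullback.snd μ i ≫ fF := by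
    have h1 : eX.hom.left ≫ π = pullback.snd X'.hom iX := MorphismProperty.Over.w eX.hom
    simp only [t1, Category.assoc, h1]
    exact pullback.lift_snd _ _ _
  let t2 : Qi ⟶ pullback fF π := pullback.lift (pullback.snd μ i) t1 ht1.symm
  let t3 : Qi ⟶ pullback V.hom (m ≫ fB) :=
    pullback.lift (pullback.fst μ i ≫ pullback.snd _ _) t2 (by
      simp only [t2, m, fB, pullback.lift_fst_assoc, Category.assoc]
      rw [← reassoc_of% hc]
      simp [μ])
  let δ := eD.hom.left
  have hδ : δ ≫ (compPart C' z).hom = pullback.snd V.hom (m ≫ fB) := MorphismProperty.Over.w eD.hom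
  let D := compPart C' z
  let ι : D ⟶ C' := clopenPartι _ _ _
  let ψl : Qi ⟶ W0.left := t3 ≫ δ ≫ ι.left ≫ pullback.fst W0.hom m
  have hψl : ψl ≫ W0.hom = pullback.snd μ i := by
    have h1 : ι.left ≫ pullback.snd W0.hom m = D.hom := MorphismProperty.Over.w ι
    simp only [ψl, Category.assoc]
    rw [pullback.condition, reassoc_of% h1, reassoc_of% hδ]
    simp [t3, t2, m]
  haveI := S0238.result i
  let ψ : (FEt.restrict i).obj Qo ⟶ W0 := MorphismProperty.Over.homMk ψl hψl trivial
  let φ := (FEt.restrict i).preimage ψ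
  refine ⟨X', V, φ.left, MorphismProperty.Over.w φ, ?_⟩
  haveI : Nonempty D.left := ⟨⟨z, mem_compOpen _ _⟩⟩
  haveI hV : Nonempty V.left := ⟨pullback.fst V.hom (m ≫ fB) (eD.inv.left (Classical.arbitrary D.left))⟩
  haveI hX' : Nonempty X'.left := ⟨pullback.fst X'.hom iX (eX.inv.left (Classical.arbitrary F'.left))⟩
  haveI : Surjective (X'.hom ≫ pX) := ⟨fun _ => ⟨hX'.some, @Subsingleton.elim (PrimeSpectrum k) _ _ _⟩⟩
  haveI : Surjective (pullback.snd (X'.hom ≫ pX) (V.hom ≫ pY)) := MorphismProperty.pullback_snd _ _ ‹_›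
  haveI : Nonempty ↥(pullback (X'.hom ≫ pX) (V.hom ≫ pY)) :=
    ⟨((pullback.snd (X'.hom ≫ pX) (V.hom ≫ pY)).surjective hV.some).choose⟩
  exact ⟨Set.range_eq_univ.1 (IsClopen.eq_univ ⟨φ.left.isClosedMap.isClosed_range, φ.left.isOpenMap.isOpen_range⟩
    (Set.range_nonempty _))⟩


open AlgebraicGeometry CategoryTheory CategoryTheory.Limits in
/-- The part saying that the homomorphism from the fundamental group of X x_k Y to the product of the
fundamental groups is injective, in terms of covers (so that, with the surjectivity part, it is an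
isomorphism). Let k be algebraically closed, X proper and connected over k, Y locally Noetherian and
connected over k. Then every connected finite etale cover W of the product of X and Y admits, for
some finite etale cover X' of X and some finite etale cover Y' of Y, a surjective morphism over the
product from the product of X' and Y'. -/
theorem result (k : Type u) [Field k] [IsAlgClosed k] {X Y : Scheme.{u}}
    (pX : X ⟶ Spec (CommRingCat.of k)) (pY : Y ⟶ Spec (CommRingCat.of k)) [IsProper pX] [ConnectedSpace X]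
    [IsLocallyNoetherian Y] [ConnectedSpace Y]
    (W : FEt.Cat (pullback pX pY)) [ConnectedSpace W.left] :
    ∃ (X' : FEt.Cat X) (Y' : FEt.Cat Y) (φ : pullback (X'.hom ≫ pX) (Y'.hom ≫ pY) ⟶ W.left),
      φ ≫ W.hom = pullback.map (X'.hom ≫ pX) (Y'.hom ≫ pY) pX pY X'.hom Y'.hom (𝟙 _)
        (Category.comp_id _) (Category.comp_id _) ∧ Surjective φ := by
  exact aux k pX pY W

end Groth.Agent.S3683
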