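import Groth.Statements.S3698
import Groth.Agent.S8228
import Groth.Agent.S8229

set_option autoImplicit false
universe u
open CategoryTheory MonoidalCategory CartesianMonoidalCategory MonObj GrpObj AlgebraicGeometry
open Pi1

namespace Groth.Agent.S3698

open CategoryTheory CategoryTheory.Limits AlgebraicGeometry

open Groth.Agent CategoryTheory.MonoidalCategory CategoryTheory.CartesianMonoidalCategory CategoryTheory.MonObj CategoryTheory.Limits
set_option backward.isDefEq.respectTransparency false
set_option linter.style.haveILetI false
set_option maxHeartbeats 1000000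

/-- The fundamental group of an abelian variety, in the form underlying its computation: let k be an
algebraically closed field and A an abelian variety over k (a proper, geometrically integral group
scheme over k). Then every connected finite étale cover Z → A is dominated by a multiplication map:
for some integer d ≥ 1 there is a morphism A → Z over A, where A is viewed as a scheme over A
through multiplication by d. (Multiplication by d is the d-th power of the identity in the group
Hom(A, A); consequently the fundamental group of A is the inverse limit of the groups of k-points of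
the kernels of these multiplications.) -/
theorem result (k : Type u) [Field k] [IsAlgClosed k]
    (A : Over (Spec (CommRingCat.of k))) [GrpObj A] [IsProper A.hom] [GeometricallyIntegral A.hom]
    (Z : FEt.Cat A.left) [ConnectedSpace Z.left] :
    ∃ d : ℕ, 1 ≤ d ∧ ∃ ψ : A.left ⟶ Z.left, ψ ≫ Z.hom = ((𝟙 A) ^ (d : ℤ)).left := by
  haveI : Subsingleton ↥(Spec (CommRingCat.of k)) := inferInstanceAs (Subsingleton (PrimeSpectrum k))
  haveI : IsIntegral A.left := GeometricallyIntegral.isIntegral_of_subsingleton A.hom
  haveI : IsCommMonObj A := isCommMonObj_of_isProper_of_geometricallyIntegral A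
  haveI : IsFinite Z.hom := Z.prop.1
  haveI : Etale Z.hom := Z.prop.2
  haveI : Surjective Z.hom := by
    refine ⟨Set.range_eq_univ.1 ?_⟩
    haveI : PreconnectedSpace ↥((Functor.fromPUnit A.left).obj Z.right) := inferInstanceAs (PreconnectedSpace ↥A.left)
    haveI : Nonempty ↥((𝟭 Scheme).obj Z.left) := inferInstanceAs (Nonempty ↥Z.left)
    exact IsClopen.eq_univ ⟨Z.hom.isClosedMap.isClosed_range, Z.hom.isOpenMap.isOpen_range⟩ (Set.range_nonempty _)
  let Y : Over (Spec (CommRingCat.of k)) := Over.mk (Z.hom ≫ A.hom)
  let φ : Y ⟶ A := Over.homMk Z.hom rfl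
  haveI : IsFinite φ.left := ‹IsFinite Z.hom›
  haveI : Etale φ.left := ‹Etale Z.hom›
  haveI : Surjective φ.left := ‹Surjective Z.hom›
  haveI : ConnectedSpace Y.left := ‹ConnectedSpace Z.left›
  have hcomm : ∀ (X : Over (Spec (CommRingCat.of k))) (g h : X ⟶ A), g * h = h * g := fun X g h => _root_.mul_comm g h
  obtain ⟨inst, hφ⟩ := S8228.result k A hcomm Y φ
  letI := inst
  haveI := hφ
  let d : ℕ := Nat.card ↥(pullback φ.left η[A].left)
  have hd : 0 < d := by
    haveI : IsFinite (pullback.snd φ.left η[A].left) := inferInstance
    haveI : Finite ↥(pullback φ.left η[A].left) := by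
      haveI : Finite ↥(𝟙_ (Over (Spec (CommRingCat.of k)))).left := inferInstanceAs (Finite (PrimeSpectrum k))
      have h := Scheme.Hom.finite_preimage (pullback.snd φ.left η[A].left) (s := Set.univ) Set.finite_univ
      rw [Set.preimage_univ] at h
      exact Set.finite_univ_iff.1 h
    obtain ⟨x, -⟩ := (pullback.snd φ.left η[A].left).surjective (IsLocalRing.closedPoint k)
    haveI : Nonempty ↥(pullback φ.left η[A].left) := ⟨x⟩
    exact Nat.card_pos
  obtain ⟨ψ, -, hψ⟩ := S8229.result k A hcomm Y φ d rfl d hd dvd_rfl
  refine ⟨d, hd, ψ.left, ?_⟩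
  rw [zpow_natCast, ← hψ]
  rfl

end Groth.Agent.S3698
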