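import Groth.Statements.S3699
import Groth.Agent.SepDegEqLib.Noeth
-- import your own Groth.Agent.* helpers here

set_option autoImplicit false
universe u
open SGA1

namespace Groth.Agent.S3699

open AlgebraicGeometry CategoryTheory CategoryTheory.Limits

set_option backward.isDefEq.respectTransparency false
set_option linter.style.haveILetI false

theorem prop_mono (P : MorphismProperty Scheme.{u}) [IsZariskiLocalAtTarget P] {X Y : Scheme.{u}} (f : X ⟶ Y)
    {U V : Y.Opens} (hVU : V ≤ U) (h : P (f ∣_ U)) : P (f ∣_ V) := by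
  have e : U.ι ''ᵁ (U.ι ⁻¹ᵁ V) = V := TopologicalSpace.Opens.ext (by
    show U.ι '' (U.ι ⁻¹' (V : Set Y)) = V
    rw [Set.image_preimage_eq_inter_range, Scheme.Opens.range_ι]
    exact Set.inter_eq_left.2 hVU)
  rw [← e]
  exact (MorphismProperty.arrow_mk_iso_iff P (morphismRestrictRestrict f U (U.ι ⁻¹ᵁ V))).1
    (IsZariskiLocalAtTarget.restrict h _)

theorem sum_restrict {X Y : Scheme.{u}} (f : X ⟶ Y) [LocallyQuasiFinite f] [QuasiCompact f] (W : Y.Opens)
    (v : W.toScheme) (φ : X → ℕ) :
    ∑ a ∈ ((f ∣_ W).finite_preimage_singleton v).toFinset, φ a.1 =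
      ∑ x ∈ (f.finite_preimage_singleton (W.ι v)).toFinset, φ x := by
  refine Finset.sum_bij (fun a _ => a.1) (fun a ha => ?_) (fun a _ b _ h => Subtype.ext h) (fun x hx => ?_)
    fun _ _ => rfl
  · rw [Set.Finite.mem_toFinset] at ha ⊢
    show f a.1 = W.ι v
    rw [← SepDegEqLib.restrict_base f W a, show (f ∣_ W) a = v from ha]
  · have hx' : f x = W.ι v := (f.finite_preimage_singleton _).mem_toFinset.1 hx
    refine ⟨⟨x, show f x ∈ W by rw [hx']; exact v.2⟩, (Set.Finite.mem_toFinset _).2 ?_, rfl⟩
    exact W.ι.isOpenEmbedding.injective ((SepDegEqLib.restrict_base f W _).trans hx')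

open AlgebraicGeometry CategoryTheory CategoryTheory.Limits in
/-- Let f : X -> Y be separated, quasi-finite and of finite type, with Y irreducible and locally
Noetherian, X reduced, and every irreducible component of X dominating Y (every maximal point of X
maps to the generic point η of Y). Let n be the degree of X over Y, the dimension over κ(η) of the
ring of global sections of the generic fibre (the sum of the degrees of the function fields of the
components of X over that of Y), and for a point y let n(y) be the number of points of the geometric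
fibre of f at y. If the local ring of Y at y is a normal domain, then n(y) ≤ n, with equality if and
only if over some open neighbourhood U of y the restriction of f is a finite etale cover of U. -/
theorem result {X Y : Scheme.{u}} (f : X ⟶ Y) [IsSeparated f] [LocallyQuasiFinite f]
    [LocallyOfFiniteType f] [QuasiCompact f] [IrreducibleSpace Y] [IsLocallyNoetherian Y] [IsReduced X]
    (hdom : ∀ x : X, (∀ x' : X, x' ⤳ x → x' = x) → f.base x = genericPoint Y)
    (y : Y) [IsDomain (Y.presheaf.stalk y)] (hy : IsIntegrallyClosed (Y.presheaf.stalk y)) :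
    letI := (((pullback.snd f (Y.fromSpecResidueField (genericPoint Y))).appTop).hom.comp
      (Scheme.ΓSpecIso (Y.residueField (genericPoint Y))).inv.hom).toAlgebra
    letI n := Module.finrank (Y.residueField (genericPoint Y)) Γ(pullback f (Y.fromSpecResidueField (genericPoint Y)), ⊤)
    letI ny := Nat.card ↥(pullback f (Spec.map (CommRingCat.ofHom (algebraMap (Y.residueField y)
      (AlgebraicClosure (Y.residueField y)))) ≫ Y.fromSpecResidueField y))
    ny ≤ n ∧ (ny = n ↔ ∃ U : Y.Opens, y ∈ U ∧ IsFinite (f ∣_ U) ∧ Etale (f ∣_ U)) := by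
  classical
  have hη : ∀ x : X, f x = genericPoint Y → IsField (X.presheaf.stalk x) := fun x hx =>
    SepDegEqLib.isField_stalk fun a ha => Unibranch.max_of_map_eq_genericPoint f x hx a ha
  let Sy := ∑ x ∈ (f.finite_preimage_singleton y).toFinset, EGA4loc.residueSepDegree f x
  let Nη := ∑ x ∈ (f.finite_preimage_singleton (genericPoint Y)).toFinset, EGA4loc.residueDegree f x
  rw [SepDegEqLib.card_pullback_geomPt f y, SepDegEqLib.finrank_genericFibre f (genericPoint Y) hη]
  change Sy ≤ Nη ∧ (Sy = Nη ↔ _)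
  obtain ⟨W, hyW, hWr⟩ := FinCondEasy.exists_reduced_nhd (X := Y) y
  haveI := hWr
  haveI : Nonempty W := ⟨⟨y, hyW⟩⟩
  haveI : IrreducibleSpace W.toScheme :=
    Subtype.irreducibleSpace (show IsIrreducible (W : Set Y) from
      ⟨⟨y, hyW⟩, (PreirreducibleSpace.isPreirreducible_univ (X := Y)).open_subset W.2 (Set.subset_univ _)⟩)
  haveI : IsIntegral W.toScheme := isIntegral_of_irreducibleSpace_of_isReduced _
  have hηW : W.ι (genericPoint W.toScheme) = genericPoint Y := genericPoint_eq_of_isOpenImmersion W.ι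
  haveI : LocallyQuasiFinite (f ∣_ W) := IsZariskiLocalAtTarget.restrict ‹LocallyQuasiFinite f› W
  have hdom' : ∀ Z ∈ irreducibleComponents ↥(f ⁻¹ᵁ W).toScheme, genericPoint W.toScheme ∈ (f ∣_ W).base '' Z :=
    SepDegEqLib.dom_of_max (f ∣_ W) fun a ha => W.ι.isOpenEmbedding.injective (by
      rw [hηW, SepDegEqLib.restrict_base]
      exact hdom _ (SepDegEqLib.isMaxP_of_opens _ ha))
  have hy' : IsIntegrallyClosed (W.toScheme.presheaf.stalk ⟨y, hyW⟩) :=
    IsIntegrallyClosed.of_equiv (W.stalkIso ⟨y, hyW⟩).commRingCatIsoToRingEquiv.symm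
  have hfin' := (f ∣_ W).finite_preimage_singleton (genericPoint W.toScheme)
  have hsy : ∑ a ∈ ((f ∣_ W).finite_preimage_singleton ⟨y, hyW⟩).toFinset,
      EGA4loc.residueSepDegree (f ∣_ W) a = Sy :=
    (Finset.sum_congr rfl fun a _ => SepDegEqLib.residueSepDegree_restrict f W a ((f ∣_ W).quasiFiniteAt a)).trans
      (sum_restrict f W ⟨y, hyW⟩ (EGA4loc.residueSepDegree f))
  have hsη : ∑ a ∈ hfin'.toFinset, EGA4loc.residueDegree (f ∣_ W) a = Nη := by
    refine (Finset.sum_congr rfl fun a _ => SepDegEqLib.residueDegree_restrict f W a).trans ?_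
    refine (sum_restrict f W _ (EGA4loc.residueDegree f)).trans ?_
    simp only [hηW]
    rfl
  haveI := hy'
  constructor
  · rw [← hsy, ← hsη]
    exact (GeomPtsCountLib.sum_le (f ∣_ W) hdom' hfin' ⟨y, hyW⟩ (S9812.result _)
      ((f ∣_ W).finite_preimage_singleton ⟨y, hyW⟩).toFinset
      (fun a ha => ⟨((f ∣_ W).finite_preimage_singleton _).mem_toFinset.1 ha, (f ∣_ W).quasiFiniteAt a⟩)).trans
      (Finset.sum_le_sum fun a _ => GeomPtsCountLib.residueSepDegree_le _ a ((f ∣_ W).quasiFiniteAt a))
  · have key := SepDegEqLib.iff_finite_etale (f ∣_ W) hdom' hfin' ⟨y, hyW⟩ hy'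
    have hset : {a | (f ∣_ W).base a = ⟨y, hyW⟩ ∧ (f ∣_ W).QuasiFiniteAt a} =
        ↑((f ∣_ W).finite_preimage_singleton ⟨y, hyW⟩).toFinset := by
      rw [Set.Finite.coe_toFinset]
      ext a
      exact ⟨fun h => h.1, fun h => ⟨h, (f ∣_ W).quasiFiniteAt a⟩⟩
    rw [hset, finsum_mem_coe_finset, hsy, hsη] at key
    refine ⟨fun h => ?_, fun ⟨U, hyU, hUf, hUe⟩ => ?_⟩
    · obtain ⟨U, hyU, hUf, hUe⟩ := key.1 ⟨Finset.finite_toSet _, h⟩
      exact ⟨W.ι ''ᵁ U, ⟨⟨y, hyW⟩, hyU, rfl⟩,
        (MorphismProperty.arrow_mk_iso_iff @IsFinite (morphismRestrictRestrict f W U)).1 hUf,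
        (MorphismProperty.arrow_mk_iso_iff @Etale (morphismRestrictRestrict f W U)).1 hUe⟩
    · refine (key.2 ⟨W.ι ⁻¹ᵁ U, hyU, ?_, ?_⟩).2
      · refine (MorphismProperty.arrow_mk_iso_iff @IsFinite (morphismRestrictRestrict f W _)).2
          (prop_mono @IsFinite f ?_ hUf)
        rintro _ ⟨a, ha, rfl⟩
        exact ha
      · refine (MorphismProperty.arrow_mk_iso_iff @Etale (morphismRestrictRestrict f W _)).2
          (prop_mono @Etale f ?_ hUe)
        rintro _ ⟨a, ha, rfl⟩
        exact ha

end Groth.Agent.S3699
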