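import Groth.Statements.S3707
import Mathlib.AlgebraicGeometry.Morphisms.FormallyUnramified
import Mathlib.AlgebraicGeometry.Morphisms.UnderlyingMap
-- import your own Groth.Agent.* helpers here

set_option autoImplicit false
set_option backward.isDefEq.respectTransparency false
universe u
open SGA1

namespace Groth.Agent.S3707

open AlgebraicGeometry CategoryTheory CategoryTheory.Limits in
/-- Let g : S' -> S be a surjective morphism of schemes, X and Y schemes over S with Y unramified over S
(formally unramified and locally of finite type), and X', Y' their base changes to S'. Then the map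
sending an S-morphism X -> Y to the induced S'-morphism X' -> Y' is injective. -/
theorem result {S S' X Y : Scheme.{u}} (g : S' ⟶ S) [Surjective g]
    (p : X ⟶ S) (q : Y ⟶ S) [FormallyUnramified q] [LocallyOfFiniteType q]
    (u v : X ⟶ Y) (hu : p ≫ 𝟙 S = u ≫ q) (hv : p ≫ 𝟙 S = v ≫ q)
    (h : pullback.map p g q g u (𝟙 S') (𝟙 S) hu ((Category.comp_id _).trans (Category.id_comp _).symm) =
      pullback.map p g q g v (𝟙 S') (𝟙 S) hv ((Category.comp_id _).trans (Category.id_comp _).symm)) :
    u = v := by
  haveI : IsOpenImmersion (pullback.diagonal q) := inferInstance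
  have huv : u ≫ q = v ≫ q := hu.symm.trans hv
  have hfst : pullback.fst p g ≫ u = pullback.fst p g ≫ v := by
    have := h =≫ pullback.fst q g
    simpa [pullback.map] using this
  let t : X ⟶ pullback.diagonalObj q := pullback.lift u v huv
  have hrange : Set.range t.base ⊆ Set.range (pullback.diagonal q).base := by
    rintro _ ⟨x, rfl⟩
    obtain ⟨z, rfl⟩ := (pullback.fst p g).surjective x
    have hcomp : pullback.fst p g ≫ t = (pullback.fst p g ≫ u) ≫ pullback.diagonal q := by
      refine pullback.hom_ext ?_ ?_
      · simp [t]
      · simp [t, hfst]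
    refine ⟨(pullback.fst p g ≫ u) z, ?_⟩
    show ((pullback.fst p g ≫ u) ≫ pullback.diagonal q) z = (pullback.fst p g ≫ t) z
    rw [hcomp]
  have hfac := IsOpenImmersion.lift_fac (pullback.diagonal q) t hrange
  have h1 := hfac =≫ pullback.fst q q
  have h2 := hfac =≫ pullback.snd q q
  simp only [t, Category.assoc, pullback.diagonal_fst, pullback.diagonal_snd, Category.comp_id, pullback.lift_fst,
    pullback.lift_snd] at h1 h2
  exact h1.symm.trans h2

end Groth.Agent.S3707
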