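import Groth.Statements.S3709
import Groth.Agent.SubmEtLib.Hom
-- import your own Groth.Agent.* helpers here

set_option autoImplicit false
universe u
open SGA1

open Groth.Agent CategoryTheory.Limits
namespace Groth.Agent.S3709

open AlgebraicGeometry CategoryTheory CategoryTheory.Limits in
/-- A universally submersive morphism is a descent morphism for etale schemes (exactness of Hom_S(X, Y)
-> Hom_S'(X', Y') => Hom_S''(X'', Y'')): let g : S' -> S be universally submersive, X and Y schemes
over S with Y etale over S, X' and Y' their base changes along g, and f' : X' -> Y' an S'-morphism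
whose two pullbacks to S'' = S' x_S S' coincide (equivalently: the two composites X'' -> X' -> Y' ->
Y along the two projections agree). Then there is exactly one S-morphism u : X -> Y whose base
change is f'. -/
theorem result {S S' X Y : Scheme.{u}} (g : S' ⟶ S) (hg : SGA1.UnivSubmersive g)
    (p : X ⟶ S) (q : Y ⟶ S) [Etale q]
    (f' : pullback p g ⟶ pullback q g) (hf' : f' ≫ pullback.snd q g = pullback.snd p g)
    (hcoc : pullback.map p (pullback.fst g g ≫ g) p g (𝟙 X) (pullback.fst g g) (𝟙 S)
        ((Category.comp_id _).trans (Category.id_comp _).symm) (Category.comp_id _) ≫ f' ≫ pullback.fst q g =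
      pullback.map p (pullback.fst g g ≫ g) p g (𝟙 X) (pullback.snd g g) (𝟙 S)
        ((Category.comp_id _).trans (Category.id_comp _).symm) ((Category.comp_id _).trans pullback.condition) ≫
        f' ≫ pullback.fst q g) :
    ∃! u : X ⟶ Y, u ≫ q = p ∧ f' ≫ pullback.fst q g = pullback.fst p g ≫ u := by
  have hv : (f' ≫ pullback.fst q g) ≫ q = pullback.snd p g ≫ g := by
    rw [Category.assoc, pullback.condition, reassoc_of% hf']
  obtain ⟨u, ⟨hu, hu'⟩, huniq⟩ := SubmEtLib.exists_unique_desc g hg p q (f' ≫ pullback.fst q g) hv
    (fun {T} a b hab => by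
      have hb : (a ≫ pullback.snd p g) ≫ g = (b ≫ pullback.snd p g) ≫ g := by
        simp only [Category.assoc, ← pullback.condition, reassoc_of% hab]
      let c : T ⟶ pullback p (pullback.fst g g ≫ g) := pullback.lift (a ≫ pullback.fst p g)
        (pullback.lift (a ≫ pullback.snd p g) (b ≫ pullback.snd p g) hb)
        (by rw [pullback.lift_fst_assoc, Category.assoc, Category.assoc, pullback.condition])
      have ha' : c ≫ pullback.map p (pullback.fst g g ≫ g) p g (𝟙 X) (pullback.fst g g) (𝟙 S)
          ((Category.comp_id _).trans (Category.id_comp _).symm) (Category.comp_id _) = a := by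
        refine pullback.hom_ext ?_ ?_ <;>
          simp only [c, pullback.map, Category.assoc, pullback.lift_fst, pullback.lift_snd, pullback.lift_fst_assoc, pullback.lift_snd_assoc, Category.comp_id]
      have hb' : c ≫ pullback.map p (pullback.fst g g ≫ g) p g (𝟙 X) (pullback.snd g g) (𝟙 S)
          ((Category.comp_id _).trans (Category.id_comp _).symm) ((Category.comp_id _).trans pullback.condition) = b := by
        refine pullback.hom_ext ?_ ?_ <;>
          simp only [c, pullback.map, Category.assoc, pullback.lift_fst, pullback.lift_snd, pullback.lift_fst_assoc, pullback.lift_snd_assoc, Category.comp_id, hab]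
      rw [← ha', ← hb', Category.assoc, Category.assoc, hcoc])
  exact ⟨u, ⟨hu, hu'⟩, fun w hw => huniq w hw⟩

end Groth.Agent.S3709
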