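import Groth.Statements.S3710
import Mathlib.RingTheory.Etale.Basic
import Mathlib.RingTheory.Smooth.Basic
import Mathlib.RingTheory.RingHom.Smooth
-- import your own Groth.Agent.* helpers here

set_option autoImplicit false
set_option backward.isDefEq.respectTransparency false
open CategoryTheory CategoryTheory.Limits AlgebraicGeometry
universe u
open SGA1t

namespace Groth.Agent.S3710

/-- Kummer equations on coordinates of a formally étale algebra over a polynomial ring keep formal smoothness. -/
theorem formallySmooth_kummer {R : Type u} [CommRing R] {σ : Type u} {A : Type u} [CommRing A]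
    [Algebra R A] [Algebra (MvPolynomial σ R) A] [IsScalarTower R (MvPolynomial σ R) A]
    [Algebra.FormallyEtale (MvPolynomial σ R) A] {ι : Type} (e : ι → σ) (he : Function.Injective e)
    (a : ι → A) (ha : ∀ i, algebraMap (MvPolynomial σ R) A (MvPolynomial.X (e i)) = a i) (n : ι → ℕ) :
    Algebra.FormallySmooth R (SGA1t.kummer A a n) := by
  classical
  rw [Algebra.FormallySmooth.iff_comp_surjective]
  intro C _ _ I hI g
  let T : ι → SGA1t.kummer A a n := fun i => Ideal.Quotient.mk _ (MvPolynomial.X i)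
  let incl : A →ₐ[R] SGA1t.kummer A a n := IsScalarTower.toAlgHom R A _
  have hmk : Function.Surjective (Ideal.Quotient.mkₐ R I) := Ideal.Quotient.mkₐ_surjective R I
  choose c hc using fun i => hmk (g (T i))
  choose y hy using fun j => hmk (g (incl (algebraMap (MvPolynomial σ R) A (MvPolynomial.X j))))
  let vec : σ → C := Function.extend e (fun i => c i ^ n i) y
  have hT : ∀ i, T i ^ n i = incl (a i) := fun i => by
    show Ideal.Quotient.mk _ (MvPolynomial.X i) ^ n i = Ideal.Quotient.mk _ (MvPolynomial.C (a i))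
    rw [← map_pow, Ideal.Quotient.eq]
    exact Ideal.subset_span ⟨i, rfl⟩
  let ψ : MvPolynomial σ R →ₐ[R] C := MvPolynomial.aeval vec
  have hψ : (Ideal.Quotient.mkₐ R I).comp ψ =
      (g.comp incl).comp (IsScalarTower.toAlgHom R (MvPolynomial σ R) A) := by
    refine MvPolynomial.algHom_ext fun j => ?_
    show Ideal.Quotient.mkₐ R I (MvPolynomial.aeval vec (MvPolynomial.X j)) = _
    rw [MvPolynomial.aeval_X]
    by_cases hj : ∃ i, e i = j
    · obtain ⟨i, rfl⟩ := hj
      simp only [vec, he.extend_apply]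
      rw [map_pow, hc, ← map_pow, hT]
      simp [ha]
    · simp only [vec, Function.extend_apply' _ _ _ hj]
      exact hy j
  letI : Algebra (MvPolynomial σ R) C := ψ.toRingHom.toAlgebra
  haveI : IsScalarTower R (MvPolynomial σ R) C :=
    IsScalarTower.of_algebraMap_eq fun r => (ψ.commutes r).symm
  let gA : A →ₐ[MvPolynomial σ R] C ⧸ I :=
    { toRingHom := (g.comp incl).toRingHom
      commutes' := fun p => (AlgHom.congr_fun hψ p).symm }
  obtain ⟨h, hh⟩ := (Algebra.FormallyEtale.iff_comp_bijective.1 inferInstance) I hI |>.2 gA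
  let hR : A →+* C := h.toRingHom
  have hha : ∀ i, hR (a i) = c i ^ n i := fun i => by
    rw [← ha i]
    show h (algebraMap (MvPolynomial σ R) A (MvPolynomial.X (e i))) = _
    rw [h.commutes]
    show ψ (MvPolynomial.X (e i)) = _
    simp [ψ, vec, he.extend_apply]
  let F : SGA1t.kummer A a n →+* C := Ideal.Quotient.lift _ (MvPolynomial.eval₂Hom hR c) fun q hq => by
    refine (Ideal.span_le.2 ?_ : _ ≤ RingHom.ker (MvPolynomial.eval₂Hom hR c)) hq
    rintro _ ⟨i, rfl⟩
    simp [hha]
  refine ⟨{ F with commutes' := fun r => ?_ }, ?_⟩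
  · show F (Ideal.Quotient.mk _ (MvPolynomial.C (algebraMap R A r))) = algebraMap R C r
    show (MvPolynomial.eval₂Hom hR c) (MvPolynomial.C (algebraMap R A r)) = _
    rw [MvPolynomial.eval₂Hom_C, IsScalarTower.algebraMap_apply R (MvPolynomial σ R) A]
    exact (h.commutes _).trans (ψ.commutes r)
  · refine AlgHom.coe_ringHom_injective (Ideal.Quotient.ringHom_ext (MvPolynomial.ringHom_ext (fun b => ?_) fun i => ?_))
    · show Ideal.Quotient.mk I (MvPolynomial.eval₂Hom hR c (MvPolynomial.C b)) = g (incl b)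
      rw [MvPolynomial.eval₂Hom_C]
      exact AlgHom.congr_fun hh b
    · show Ideal.Quotient.mk I (MvPolynomial.eval₂Hom hR c (MvPolynomial.X i)) = g (T i)
      rw [MvPolynomial.eval₂Hom_X']
      exact hc i

/-- Coordinates with étale classifying morphism give an étale ring map on affine opens. -/
theorem etale_coordHom {X S : Scheme.{u}} (f : X ⟶ S) {σ : Type u} [Finite σ] {W : X.Opens}
    (v : σ → Γ(W, ⊤)) [Etale (AffineSpace.homOfVector (W.ι ≫ f) v)] {U : X.Opens} (hU : IsAffineOpen U)
    (hUW : U ≤ W) {V : S.Opens} (hV : IsAffineOpen V) (e : U ≤ f ⁻¹ᵁ V) :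
    (MvPolynomial.eval₂Hom (f.appLE V U e).hom
      fun j => U.topIso.hom ((X.homOfLE hUW).appTop (v j))).Etale := by
  haveI : IsAffine (V : Scheme.{u}) := hV
  haveI : IsAffine (U : Scheme.{u}) := hU
  let fU := f.resLE V U e
  let v' : σ → Γ(U, ⊤) := (X.homOfLE hUW).appTop ∘ v
  let h : (U : Scheme.{u}) ⟶ 𝔸(σ; V) := AffineSpace.homOfVector fU v'
  let m : 𝔸(σ; V) ⟶ 𝔸(σ; S) := AffineSpace.map σ V.ι
  haveI : IsOpenImmersion m :=
    MorphismProperty.of_isPullback (P := @IsOpenImmersion) (AffineSpace.isPullback_map V.ι).flip inferInstance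
  have hfac : h ≫ m = X.homOfLE hUW ≫ AffineSpace.homOfVector (W.ι ≫ f) v := by
    apply AffineSpace.hom_ext
    · simp [h, m, fU]
    · intro i
      simp [h, m, v']
  haveI : Etale (h ≫ m) := by rw [hfac]; infer_instance
  haveI : Etale h := MorphismProperty.of_postcomp @Etale (W' := @Etale) h m (inferInstanceAs (Etale m)) ‹_›
  have h1 : (h ≫ (AffineSpace.isoOfIsAffine σ V).hom).appTop.hom.Etale :=
    HasRingHomProperty.appTop (P := @Etale) _ inferInstance
  let i₀ : CommRingCat.of (MvPolynomial σ Γ(S, V)) ≅ CommRingCat.of (MvPolynomial σ Γ(V, ⊤)) :=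
    (MvPolynomial.mapEquiv σ V.topIso.symm.commRingCatIsoToRingEquiv).toCommRingCatIso
  have h2 : ((i₀.hom ≫ (Scheme.ΓSpecIso _).inv ≫ (h ≫ (AffineSpace.isoOfIsAffine σ V).hom).appTop) ≫
      U.topIso.hom).hom.Etale := by
    simp only [CommRingCat.hom_comp]
    exact RingHom.Etale.respectsIso.1 _ U.topIso.commRingCatIsoToRingEquiv
      (RingHom.Etale.respectsIso.2 _ i₀.commRingCatIsoToRingEquiv
        (RingHom.Etale.respectsIso.2 _ (Scheme.ΓSpecIso _).symm.commRingCatIsoToRingEquiv h1))
  convert h2 using 1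
  refine MvPolynomial.ringHom_ext (fun r => ?_) fun j => ?_
  · have hr : (h ≫ 𝔸(σ; V) ↘ (V : Scheme.{u})).appTop = fU.appTop := by rw [AffineSpace.homOfVector_over]
    simp only [Scheme.Hom.comp_appTop, fU, Scheme.Hom.appTop, Scheme.Hom.resLE_app_top] at hr
    have hr' := congrArg (fun t => t.hom (V.topIso.inv.hom r)) hr
    simp [h, fU] at hr'
    simp [i₀, h, fU, hr']
    simp only [← CommRingCat.comp_apply, ← CommRingCat.hom_comp, ← RingHom.comp_apply, Scheme.Hom.map_appLE, Scheme.Hom.appLE_map]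
  · simp [i₀, h, v']


/-- Let f : X -> S and φ_1, ..., φ_r cut out a strict normal crossings divisor relative to S, x a point
where some φ_i vanishes, A = O_{X,x}, and n_i ≥ 1 integers for the indices i with φ_i(x) = 0 (no
condition on the residue characteristic). Then the Kummer scheme X' = Spec A[T_i]/(T_i^{n_i} - φ_i)
is smooth over S at its point x' over x: the homomorphism from the local ring of S at the image
point to the local ring of X' at x' is formally smooth. -/
theorem result {X S : Scheme.{u}} (f : X ⟶ S) {r : ℕ} (φ : Fin r → Γ(X, ⊤))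
    (hD : SGA1t.IsRelSNC f φ) (x : X) (hx : Nonempty (SGA1t.vanishingAt φ x))
    (n : SGA1t.vanishingAt φ x → ℕ) (hn1 : ∀ i, 1 ≤ n i) :
    letI A := X.presheaf.stalk x
    letI a : SGA1t.vanishingAt φ x → A := fun i => (X.presheaf.germ ⊤ x trivial).hom (φ i.1)
    letI π : Spec (CommRingCat.of (SGA1t.kummer A a n)) ⟶ Spec (CommRingCat.of A) :=
      Spec.map (CommRingCat.ofHom (algebraMap A (SGA1t.kummer A a n)))
    ∀ x' : Spec (CommRingCat.of (SGA1t.kummer A a n)), π.base x' = IsLocalRing.closedPoint A →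
      ((π ≫ X.fromSpecStalk x ≫ f).stalkMap x').hom.FormallySmooth := by
  classical
  intro x' hx'
  obtain ⟨W, hxW, d, v, e, he, het, hev⟩ := hD x hx
  obtain ⟨V, hV, hxV, -⟩ := (TopologicalSpace.Opens.isBasis_iff_nbhd.mp S.isBasis_affineOpens (TopologicalSpace.Opens.mem_top (f.base x)))
  obtain ⟨U, hU, hxU, hUW'⟩ := (TopologicalSpace.Opens.isBasis_iff_nbhd.mp X.isBasis_affineOpens (show x ∈ W ⊓ f ⁻¹ᵁ V from ⟨hxW, hxV⟩))
  have hUW : U ≤ W := hUW'.trans inf_le_left
  have hUV : U ≤ f ⁻¹ᵁ V := hUW'.trans inf_le_right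
  let R := Γ(S, V)
  let P := MvPolynomial (ULift.{u} (Fin d)) R
  let ρ : P →+* Γ(X, U) := MvPolynomial.eval₂Hom (f.appLE V U hUV).hom
    fun j => (Scheme.Opens.topIso U).hom ((X.homOfLE hUW).appTop (v j))
  have hρ : ρ.Etale := etale_coordHom f v hU hUW hV hUV
  let A := X.presheaf.stalk x
  let gm := (X.presheaf.germ U x hxU).hom
  algebraize [ρ]
  letI : Algebra Γ(X, U) A := gm.toAlgebra
  letI : Algebra P A := (gm.comp ρ).toAlgebra
  letI : Algebra R A := (gm.comp (f.appLE V U hUV).hom).toAlgebra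
  haveI : IsScalarTower P Γ(X, U) A := IsScalarTower.of_algebraMap_eq' rfl
  haveI : IsScalarTower R P A := IsScalarTower.of_algebraMap_eq fun t => by
    exact congrArg gm (MvPolynomial.eval₂Hom_C _ _ t).symm
  haveI := hU.isLocalization_stalk ⟨x, hxU⟩
  haveI : Algebra.FormallyEtale Γ(X, U) A :=
    Algebra.FormallyEtale.of_isLocalization (hU.primeIdealOf ⟨x, hxU⟩).asIdeal.primeCompl
  haveI : Algebra.FormallyEtale P A := Algebra.FormallyEtale.comp P Γ(X, U) A
  let a : SGA1t.vanishingAt φ x → A := fun i => (X.presheaf.germ ⊤ x trivial).hom (φ i.1)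
  have ha : ∀ i, algebraMap P A (MvPolynomial.X (ULift.up (e i))) = a i := fun i => by
    refine (congrArg gm (MvPolynomial.eval₂Hom_X' _ _ _)).trans ?_
    rw [hev]
    have heq : X.presheaf.map (homOfLE (le_top : W ≤ ⊤)).op ≫ W.topIso.inv ≫ (X.homOfLE hUW).appTop ≫
        (Scheme.Opens.topIso U).hom ≫ X.presheaf.germ U x hxU = X.presheaf.germ ⊤ x trivial := by
      simp [Scheme.Hom.appTop, Scheme.Opens.topIso]
    exact congrArg (fun t => t.hom (φ i.1)) heq
  let B := SGA1t.kummer A a n
  haveI : Algebra.FormallySmooth R B :=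
    formallySmooth_kummer (fun i => ULift.up (e i)) (ULift.up_injective.comp he) a ha n
  let Bx := Localization.AtPrime x'.asIdeal
  haveI : Algebra.FormallySmooth B Bx := Algebra.FormallySmooth.of_isLocalization x'.asIdeal.primeCompl
  let q : CommRingCat.of R ⟶ CommRingCat.of B := CommRingCat.ofHom (algebraMap R B)
  haveI : Algebra.FormallySmooth R Bx := Algebra.FormallySmooth.comp R B Bx
  have key : Spec.map (CommRingCat.ofHom (algebraMap A B)) ≫ X.fromSpecStalk x ≫ f = Spec.map q ≫ hV.fromSpec := by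
    rw [← hU.fromSpecStalk_eq_fromSpecStalk hxU, IsAffineOpen.fromSpecStalk, Category.assoc,
      ← IsAffineOpen.SpecMap_appLE_fromSpec f hV hU hUV, ← Spec.map_comp_assoc, ← Spec.map_comp_assoc]
    congr 2
  have hloc : RingHom.FormallySmooth (R := Localization.AtPrime (x'.asIdeal.comap q.hom))
      (S := Localization.AtPrime x'.asIdeal)
      (Localization.localRingHom (x'.asIdeal.comap q.hom) x'.asIdeal q.hom rfl) := by
    letI := (Localization.localRingHom (x'.asIdeal.comap q.hom) x'.asIdeal q.hom rfl).toAlgebra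
    haveI : IsScalarTower R (Localization.AtPrime (x'.asIdeal.comap q.hom)) Bx :=
      IsScalarTower.of_algebraMap_eq fun t =>
        (IsScalarTower.algebraMap_apply R B Bx t).trans
          (Localization.localRingHom_to_map (x'.asIdeal.comap q.hom) x'.asIdeal q.hom rfl t).symm
    show Algebra.FormallySmooth (Localization.AtPrime (x'.asIdeal.comap q.hom)) Bx
    exact Algebra.FormallySmooth.localization_base (x'.asIdeal.comap q.hom).primeCompl
  have hs : ((Spec.map q).stalkMap x').hom.FormallySmooth :=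
    (RingHom.FormallySmooth.respectsIso.arrow_mk_iso_iff (Scheme.arrowStalkMapSpecIso q x')).2 hloc
  have hc : ((Spec.map q ≫ hV.fromSpec).stalkMap x').hom.FormallySmooth := by
    rw [Scheme.Hom.stalkMap_comp, CommRingCat.hom_comp, RingHom.FormallySmooth.respectsIso.cancel_left_isIso]
    exact hs
  rw [← key] at hc
  exact hc

end Groth.Agent.S3710
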