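import Groth.Statements.S3711
import Groth.Agent.PrincTameLib.Basic
-- import your own Groth.Agent.* helpers here

set_option autoImplicit false
open CategoryTheory CategoryTheory.Limits AlgebraicGeometry
universe u
open SGA1t

namespace Groth.Agent.S3711

/-- Case of a constant group: let f : X -> S and φ_1, ..., φ_r cut out a strict normal crossings divisor
relative to S with complement U, and let P be a principal C-cover of U for a finite group C whose
order is invertible in every residue field of S. Then P is tamely ramified on X relatively to S. -/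
theorem result {X S : Scheme.{u}} (f : X ⟶ S) {r : ℕ} (φ : Fin r → Γ(X, ⊤))
    (hD : SGA1t.IsRelSNC f φ) (C : Type) [Group C] [Finite C] (hC : ∀ s : S, IsUnit ((Nat.card C : ℕ) : S.residueField s))
    (P : FEt.Cat (SGA1t.compl φ : Scheme.{u})) (ρ : C →* Aut P) (hP : SGA1t.IsPrincipal C P ρ) :
    SGA1t.IsRelTame f φ P := by
  haveI hfin : IsFinite P.hom := P.prop.1
  haveI het : Etale P.hom := P.prop.2
  intro Ω _ _ σ _ y _ hA w hle hne
  let h' := P.hom ≫ (SGA1t.compl φ).ι
  let q := pullback.fst f σ
  let snd := pullback.snd h' q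
  have hw : ∀ a : C, (ρ a).hom.left ≫ h' = h' := fun a => by
    show (ρ a).hom.left ≫ P.hom ≫ _ = P.hom ≫ _
    rw [← Category.assoc]
    exact congrArg (· ≫ (SGA1t.compl φ).ι) (Over.w (ρ a).hom.hom)
  let T : C → (pullback h' q ⟶ pullback h' q) := fun a =>
    pullback.lift (pullback.fst h' q ≫ (ρ a).hom.left) snd (by rw [Category.assoc, hw, pullback.condition])
  have hTh : ∀ a, T a ≫ snd = snd := fun a => pullback.lift_snd _ _ _
  have hTf : ∀ a, T a ≫ pullback.fst h' q = pullback.fst h' q ≫ (ρ a).hom.left := fun a => pullback.lift_fst _ _ _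
  have hT1 : T 1 = 𝟙 _ := pullback.hom_ext (by rw [hTf, map_one, Category.id_comp]; exact Category.comp_id _)
    (by rw [hTh, Category.id_comp])
  have hTmul : ∀ a b, T (a * b) = T b ≫ T a := fun a b => pullback.hom_ext
    (by rw [hTf, Category.assoc, hTf, ← Category.assoc, hTf, Category.assoc, map_mul]; rfl)
    (by rw [hTh, Category.assoc, hTh, hTh])
  haveI : Etale h' := inferInstance
  haveI : Etale snd := inferInstance
  have hst : ∀ (Ω' : Type u) [Field Ω'] [IsAlgClosed Ω'] (s t : Spec (CommRingCat.of Ω') ⟶ pullback h' q),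
      s ≫ snd = t ≫ snd → ∃! a, s ≫ T a = t := by
    intro Ω' _ _ s t hst
    let ξ := (s ≫ pullback.fst h' q) ≫ P.hom
    have ht : (t ≫ pullback.fst h' q) ≫ P.hom = ξ := by
      rw [← cancel_mono (SGA1t.compl φ).ι]
      show ((t ≫ pullback.fst h' q) ≫ P.hom) ≫ _ = ((s ≫ pullback.fst h' q) ≫ P.hom) ≫ _
      simp only [Category.assoc]
      rw [show pullback.fst h' q ≫ P.hom ≫ (SGA1t.compl φ).ι = snd ≫ q from pullback.condition, ← Category.assoc,
        ← hst, Category.assoc]
    have key : ∀ a, s ≫ T a = t ↔ (FEt.fiber ξ).map (ρ a).hom ⟨s ≫ pullback.fst h' q, rfl⟩ =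
        ⟨t ≫ pullback.fst h' q, ht⟩ := fun a => by
      constructor
      · intro e
        refine Subtype.ext ?_
        show (s ≫ pullback.fst h' q) ≫ (ρ a).hom.left = _
        rw [Category.assoc, ← hTf, ← Category.assoc, e]
      · intro e
        have e' : (s ≫ pullback.fst h' q) ≫ (ρ a).hom.left = t ≫ pullback.fst h' q := congrArg Subtype.val e
        refine pullback.hom_ext ?_ ?_
        · rw [Category.assoc, hTf, ← Category.assoc, e']
        · rw [Category.assoc, hTh, hst]
    obtain ⟨a, ha, hu⟩ := hP.2 Ω' ξ ⟨s ≫ pullback.fst h' q, rfl⟩ ⟨t ≫ pullback.fst h' q, ht⟩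
    exact ⟨a, (key a).2 ha, fun b hb => hu b ((key b).1 hb)⟩
  let K := (pullback f σ).residueField (snd.base w)
  let A := (pullback f σ).presheaf.stalk y
  letI : Algebra K ((pullback h' q).residueField w) := (snd.residueFieldMap w).hom.toAlgebra
  obtain ⟨hgal, hdvd⟩ := PrincTameLib.isGalois_residueField snd T hT1 hTmul hTh hst w
  haveI := PrincTameLib.finite_residueFieldMap snd w
  haveI := hgal
  haveI := hA
  letI : Algebra A ((pullback f σ).presheaf.stalk (snd.base w)) := ((pullback f σ).presheaf.stalkSpecializes hle).hom.toAlgebra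
  letI : Algebra A K := (((pullback f σ).residue _).hom.comp ((pullback f σ).presheaf.stalkSpecializes hle).hom).toAlgebra
  let p : Ideal A := (IsLocalRing.maximalIdeal ((pullback f σ).presheaf.stalk (snd.base w))).comap
    ((pullback f σ).presheaf.stalkSpecializes hle).hom
  haveI : p.IsPrime := inferInstance
  haveI hloc : IsLocalization.AtPrime ((pullback f σ).presheaf.stalk (snd.base w)) p :=
    S5090.isLocalization_stalkSpecializes hle
  have hpbot : p = ⊥ := by
    by_contra hp
    have hmax : p = IsLocalRing.maximalIdeal A :=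
      IsLocalRing.eq_maximalIdeal (Ideal.IsPrime.isMaximal (inferInstance : p.IsPrime) hp)
    refine hne ?_
    have hc : Spec.map ((pullback f σ).presheaf.stalkSpecializes hle) (IsLocalRing.closedPoint _) =
        IsLocalRing.closedPoint A := PrimeSpectrum.ext hmax
    calc snd.base w = ((pullback f σ).fromSpecStalk (snd.base w)).base (IsLocalRing.closedPoint _) :=
          ((pullback f σ).fromSpecStalk_closedPoint).symm
      _ = (Spec.map ((pullback f σ).presheaf.stalkSpecializes hle) ≫ (pullback f σ).fromSpecStalk y).base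
          (IsLocalRing.closedPoint ((pullback f σ).presheaf.stalk (snd.base w))) := by
          rw [Scheme.SpecMap_stalkSpecializes_fromSpecStalk hle]
      _ = ((pullback f σ).fromSpecStalk y).base (IsLocalRing.closedPoint A) :=
          congrArg ((pullback f σ).fromSpecStalk y).base hc
      _ = y := (pullback f σ).fromSpecStalk_closedPoint
  haveI : IsFractionRing A K := by
    haveI : IsFractionRing A ((pullback f σ).presheaf.stalk (snd.base w)) := by
      show IsLocalization (nonZeroDivisors A) _
      have hpc : p.primeCompl = nonZeroDivisors A := by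
        ext a
        rw [mem_nonZeroDivisors_iff_ne_zero]
        show a ∉ p ↔ a ≠ 0
        rw [hpbot, Ideal.mem_bot]
      rw [← hpc]
      exact hloc
    let e : ((pullback f σ).presheaf.stalk (snd.base w)) ≃ₐ[A] K := AlgEquiv.ofBijective
      { ((pullback f σ).residue (snd.base w)).hom with commutes' := fun _ => rfl }
      ⟨by
        refine (injective_iff_map_eq_zero _).2 fun z hz => ?_
        obtain ⟨⟨a, b⟩, hab⟩ := IsLocalization.surj (nonZeroDivisors A) z
        have ha : a ∈ p := by
          show algebraMap A ((pullback f σ).presheaf.stalk (snd.base w)) a ∈ IsLocalRing.maximalIdeal _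
          rw [← hab]
          exact Ideal.mul_mem_right _ _ ((IsLocalRing.residue_eq_zero_iff _).1 hz)
        rw [hpbot, Ideal.mem_bot] at ha
        have hab' : z * algebraMap A _ (b : A) = 0 := by
          rw [← map_zero (algebraMap A ((pullback f σ).presheaf.stalk (snd.base w))), ← ha]; exact hab
        exact (IsLocalization.map_units _ b).mul_left_eq_zero.1 hab', (pullback f σ).residue_surjective _⟩
    exact IsLocalization.isLocalization_of_algEquiv (nonZeroDivisors A) e
  have hn : (Module.finrank K ((pullback h' q).residueField w) : IsLocalRing.ResidueField A) ≠ 0 := by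
    intro h0
    obtain ⟨m, hm⟩ := hdvd
    have hC0 : ((Nat.card C : ℕ) : IsLocalRing.ResidueField A) = 0 := by rw [hm, Nat.cast_mul, h0, zero_mul]
    let s := σ.base (IsLocalRing.closedPoint Ω)
    let r : S.residueField s →+* Ω := ((Scheme.SpecToEquivOfField Ω S) σ).2.hom
    have h1 : IsUnit ((Nat.card C : ℕ) : Ω) := by
      have := (hC s).map r
      rwa [map_natCast] at this
    let c : Ω →+* IsLocalRing.ResidueField A :=
      (IsLocalRing.residue A).comp (((pullback f σ).presheaf.germ ⊤ y trivial).hom.comp
        ((pullback.snd f σ).appTop.hom.comp (Scheme.ΓSpecIso (CommRingCat.of Ω)).inv.hom))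
    exact (h1.map c).ne_zero (by rw [map_natCast]; exact hC0)
  exact WeakUnram.tame_of_galois (A := A) (K := K) (F := (pullback h' q).residueField w) hn

end Groth.Agent.S3711
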