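import Groth.Statements.S3718
import Groth.Agent.S8190
import Groth.Agent.UnitalMult.Field

set_option autoImplicit false
universe u
open CategoryTheory MonoidalCategory CartesianMonoidalCategory MonObj GrpObj AlgebraicGeometry
open Pi1

namespace Groth.Agent.S3718

open CategoryTheory CategoryTheory.Limits AlgebraicGeometry

open Groth.Agent CategoryTheory.MonoidalCategory CategoryTheory.CartesianMonoidalCategory CategoryTheory.MonObj CategoryTheory.Limits
set_option backward.isDefEq.respectTransparency false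
set_option linter.style.haveILetI false
set_option maxHeartbeats 1000000

/-- The covers that compute the prime-to-p part of the fundamental group of an abelian variety: let k be
algebraically closed, A an abelian variety over k (a proper, geometrically integral group scheme
over k) and n ≥ 1 an integer invertible in k. Granted that multiplication by n (the n-th power of
the identity in the group Hom(A, A)) is a finite etale cover of A, it is a Galois cover, and its
automorphisms over A are exactly the translations x -> x + a by the k-points a of A with n a = 0,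
each such a giving exactly one automorphism. (With the domination row this identifies the maximal
prime-to-p quotient of the fundamental group with the inverse limit of the prime-to-p torsion
points.) -/
theorem result (k : Type u) [Field k] [IsAlgClosed k]
    (A : Over (Spec (CommRingCat.of k))) [GrpObj A] [IsProper A.hom] [GeometricallyIntegral A.hom]
    (n : ℕ) (hn1 : 1 ≤ n) (hn : IsUnit ((n : ℕ) : k)) :
    ∀ [hF : IsFinite ((𝟙 A) ^ (n : ℤ)).left] [hE : Etale ((𝟙 A) ^ (n : ℤ)).left],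
      PiSp.IsGaloisCover (MorphismProperty.Over.mk ⊤ ((𝟙 A) ^ (n : ℤ)).left ⟨hF, hE⟩ : FEt.Cat A.left) ∧
      (∀ θ : Aut (MorphismProperty.Over.mk ⊤ ((𝟙 A) ^ (n : ℤ)).left ⟨hF, hE⟩ : FEt.Cat A.left),
        ∃! a : 𝟙_ (Over (Spec (CommRingCat.of k))) ⟶ A, a ^ (n : ℤ) = 1 ∧
          θ.hom.left = ((𝟙 A) * (toUnit A ≫ a)).left) ∧
      (∀ a : 𝟙_ (Over (Spec (CommRingCat.of k))) ⟶ A, a ^ (n : ℤ) = 1 →
        ∃ θ : Aut (MorphismProperty.Over.mk ⊤ ((𝟙 A) ^ (n : ℤ)).left ⟨hF, hE⟩ : FEt.Cat A.left),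
          θ.hom.left = ((𝟙 A) * (toUnit A ≫ a)).left) := by
  intro hF hE
  haveI : Subsingleton ↥(Spec (CommRingCat.of k)) := inferInstanceAs (Subsingleton (PrimeSpectrum k))
  haveI : IsIntegral A.left := GeometricallyIntegral.isIntegral_of_subsingleton A.hom
  haveI : IsCommMonObj A := isCommMonObj_of_isProper_of_geometricallyIntegral A
  haveI : IsFinite ((𝟙 A) ^ (n : ℤ)).left := hF
  haveI : Etale ((𝟙 A) ^ (n : ℤ)).left := hE
  let Z : FEt.Cat A.left := MorphismProperty.Over.mk ⊤ ((𝟙 A) ^ (n : ℤ)).left ⟨hF, hE⟩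
  let pt := IsLocalRing.closedPoint k
  have hpow : ∀ {T : Over (Spec (CommRingCat.of k))} (f : T ⟶ A), f ≫ (𝟙 A) ^ (n : ℤ) = f ^ n := fun {T} f => by
    rw [zpow_natCast, MonObj.comp_pow, Category.comp_id]
  -- translations by torsion points
  have htr : ∀ a : 𝟙_ (Over (Spec (CommRingCat.of k))) ⟶ A, a ^ n = 1 →
      ∃ θ : Aut Z, θ.hom.left = ((𝟙 A) * (toUnit A ≫ a)).left := by
    intro a ha
    have key : ∀ b : 𝟙_ (Over (Spec (CommRingCat.of k))) ⟶ A, b ^ n = 1 →
        (𝟙 A * (toUnit A ≫ b)) ≫ (𝟙 A) ^ (n : ℤ) = (𝟙 A) ^ (n : ℤ) := fun b hb => by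
      rw [hpow, zpow_natCast, mul_pow, ← MonObj.comp_pow, hb, MonObj.comp_one, _root_.mul_one]
    have hinv : ∀ b c : 𝟙_ (Over (Spec (CommRingCat.of k))) ⟶ A, b * c = 1 →
        (𝟙 A * (toUnit A ≫ b)) ≫ (𝟙 A * (toUnit A ≫ c)) = 𝟙 A := fun b c hbc => by
      rw [MonObj.comp_mul, Category.comp_id, ← Category.assoc, toUnit_unique (_ ≫ toUnit A) (toUnit A),
        _root_.mul_assoc, ← MonObj.comp_mul, hbc, MonObj.comp_one, _root_.mul_one]
    let τ : A.left ≅ A.left :=
      { hom := ((𝟙 A) * (toUnit A ≫ a)).left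
        inv := ((𝟙 A) * (toUnit A ≫ a⁻¹)).left
        hom_inv_id := congrArg Over.Hom.left (hinv a a⁻¹ (mul_inv_cancel a))
        inv_hom_id := congrArg Over.Hom.left (hinv a⁻¹ a (inv_mul_cancel a)) }
    exact ⟨MorphismProperty.Over.isoMk τ (congrArg Over.Hom.left (key a ha)), rfl⟩
  refine ⟨⟨(inferInstance : ConnectedSpace A.left), fun Ω _ _ ξ s t => ?_⟩, fun θ => ?_,
    fun a ha => htr a (by rwa [zpow_natCast] at ha)⟩
  · let T : Over (Spec (CommRingCat.of k)) := Over.mk (ξ ≫ A.hom)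
    have hw : ∀ r : FEt.fiberObj ξ Z, r.1 ≫ A.hom = ξ ≫ A.hom := fun r => by
      conv_rhs => rw [← r.2]
      exact ((Category.assoc _ _ _).trans (congrArg (r.1 ≫ ·) (Over.w ((𝟙 A) ^ (n : ℤ))))).symm
    let S₁ : T ⟶ A := Over.homMk s.1 (hw s)
    let T₁ : T ⟶ A := Over.homMk t.1 (hw t)
    have hS : S₁ ≫ (𝟙 A) ^ (n : ℤ) = T₁ ≫ (𝟙 A) ^ (n : ℤ) := Over.OverMorphism.ext (s.2.trans t.2.symm)
    let D : T ⟶ A := T₁ * S₁⁻¹
    have hD : D ^ n = 1 := by
      rw [hpow, hpow] at hS
      rw [mul_pow, inv_pow, hS, mul_inv_cancel]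
    let x : A.left := D.left (IsLocalRing.closedPoint Ω)
    have hx0 : ((𝟙 A) ^ (n : ℤ)).left x = η[A].left pt := by
      have h := congrArg (fun f : T ⟶ A => f.left (IsLocalRing.closedPoint Ω)) ((hpow D).trans hD)
      refine h.trans ?_
      rw [Hom.one_def]
      show η[A].left ((toUnit T).left (IsLocalRing.closedPoint Ω)) = _
      exact congrArg _ (@Subsingleton.elim _ (inferInstanceAs (Subsingleton (PrimeSpectrum k))) _ _)
    have hxc : IsClosed ({x} : Set A.left) := by
      have hd := Scheme.Hom.isDiscrete_preimage_singleton ((𝟙 A) ^ (n : ℤ)).left (η[A].left pt)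
      have hc : IsClosed (((𝟙 A) ^ (n : ℤ)).left ⁻¹' {η[A].left pt}) :=
        ((pointEquivClosedPoint A.hom ⟨η[A].left, Over.w η[A]⟩).2).preimage ((𝟙 A) ^ (n : ℤ)).left.continuous
      haveI : DiscreteTopology (((𝟙 A) ^ (n : ℤ)).left ⁻¹' {η[A].left pt}) := isDiscrete_iff_discreteTopology.1 hd
      have := hc.isClosedEmbedding_subtypeVal.isClosedMap {(⟨x, hx0⟩ : ((𝟙 A) ^ (n : ℤ)).left ⁻¹' {η[A].left pt})}
        (isClosed_discrete _)
      rwa [Set.image_singleton] at this
    let a : 𝟙_ (Over (Spec (CommRingCat.of k))) ⟶ A :=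
      Over.homMk (pointOfClosedPoint A.hom x hxc) (pointOfClosedPoint_comp A.hom x hxc)
    have ha : a ^ n = 1 := by
      rw [← hpow, Hom.one_def, toUnit_unique (toUnit _) (𝟙 _), Category.id_comp]
      refine UnitalMult.point_ext ?_
      show ((𝟙 A) ^ (n : ℤ)).left (pointOfClosedPoint A.hom x hxc pt) = _
      rw [pointOfClosedPoint_apply, hx0]
    have hDa : D = toUnit T ≫ a := by
      have hdesc : ∃ g : T.left ⟶ Spec (CommRingCat.of k), D.left = g ≫ a.left := by
        obtain ⟨ψ, hψ⟩ : ∃ ψ : Spec (CommRingCat.of Ω) ⟶ Spec (A.left.residueField x),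
            ψ ≫ A.left.fromSpecResidueField x = D.left :=
          ⟨_, A.left.descResidueField_stalkClosedPointTo_fromSpecResidueField Ω D.left⟩
        refine ⟨ψ ≫ A.left.fromSpecResidueField x ≫ A.hom, ?_⟩
        show D.left = _ ≫ pointOfClosedPoint A.hom x hxc
        rw [← hψ, pointOfClosedPoint, ← SpecMap_residueFieldIsoBase_inv A.hom x hxc, Category.assoc,
          ← Spec.map_comp_assoc, Iso.hom_inv_id, Spec.map_id, Category.id_comp]
      obtain ⟨g, hg⟩ := hdesc
      have hg' : g = T.hom := by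
        have h := Over.w D
        rw [hg, Category.assoc, Over.w a] at h
        exact (Category.comp_id g).symm.trans h
      exact Over.OverMorphism.ext (hg.trans (by rw [hg']; rfl))
    obtain ⟨θ, hθ⟩ := htr a ha
    refine ⟨θ, Subtype.ext ?_⟩
    show s.1 ≫ θ.hom.left = t.1
    have : S₁ ≫ ((𝟙 A) * (toUnit A ≫ a)) = T₁ := by
      rw [MonObj.comp_mul, Category.comp_id, ← Category.assoc, toUnit_unique (S₁ ≫ toUnit A) (toUnit T), ← hDa,
        mul_comm, inv_mul_cancel_right]
    rw [hθ]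
    exact congrArg Over.Hom.left this
  · have hθw : θ.hom.left ≫ ((𝟙 A) ^ (n : ℤ)).left = ((𝟙 A) ^ (n : ℤ)).left := MorphismProperty.Over.w θ.hom
    let Θ : A ⟶ A := Over.homMk θ.hom.left (by
      calc θ.hom.left ≫ A.hom = θ.hom.left ≫ ((𝟙 A) ^ (n : ℤ)).left ≫ A.hom := by rw [Over.w]
        _ = _ := by rw [reassoc_of% hθw, Over.w])
    have hΘ : Θ ^ n = (𝟙 A) ^ n := by
      rw [← hpow Θ, ← zpow_natCast (𝟙 A) n]
      exact Over.OverMorphism.ext hθw
    let a : 𝟙_ (Over (Spec (CommRingCat.of k))) ⟶ A := η[A] ≫ (Θ * (𝟙 A)⁻¹)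
    have hdn : (Θ * (𝟙 A)⁻¹) ^ n = 1 := by rw [mul_pow, inv_pow, hΘ, mul_inv_cancel]
    have han : a ^ n = 1 := by rw [← MonObj.comp_pow, hdn, MonObj.comp_one]
    have hda : Θ * (𝟙 A)⁻¹ = toUnit A ≫ a := by
      refine Over.OverMorphism.ext (S8190.result ((𝟙 A) ^ (n : ℤ)).left (1 : A ⟶ A).left _ _ ?_ ?_ k η[A].left ?_)
      · rw [← Over.comp_left, hpow, hdn]
      · rw [← Over.comp_left, hpow, ← MonObj.comp_pow, han, MonObj.comp_one]
      · rw [← Over.comp_left, ← Over.comp_left]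
        show (η[A] ≫ (Θ * (𝟙 A)⁻¹)).left = _
        rw [← Category.assoc, toUnit_unique (η[A] ≫ toUnit A) (𝟙 _), Category.id_comp]
    refine ⟨a, ⟨by rw [zpow_natCast, han], ?_⟩, ?_⟩
    · show Θ.left = _
      rw [← hda, mul_comm, inv_mul_cancel_right]
    · rintro b ⟨-, hb⟩
      have h : Θ = 𝟙 A * (toUnit A ≫ b) := Over.OverMorphism.ext hb
      show b = η[A] ≫ (Θ * (𝟙 A)⁻¹)
      rw [h, mul_comm (𝟙 A), mul_inv_cancel_right, ← Category.assoc, toUnit_unique (η[A] ≫ toUnit A) (𝟙 _),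
        Category.id_comp]

end Groth.Agent.S3718
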