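import Groth.Statements.S3719
import Groth.Agent.BoundaryConn.Main
import Groth.Agent.FEtLib.Normal
import Groth.Agent.SteinConn.General
import Groth.Agent.S1297
import Groth.Agent.CompleteCurve.ProjSpace

set_option backward.isDefEq.respectTransparency false
set_option backward.isDefEq.respectTransparency.types false
set_option linter.style.haveILetI false

set_option autoImplicit false
universe u
open Pi1

namespace Groth.Agent.S3719

open AlgebraicGeometry CategoryTheory CategoryTheory.Limits in
/-- Let k be algebraically closed, X a proper, irreducible, normal k-scheme, g : X -> P^r_k a k-morphism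
whose image has closure of dimension at least 2, H the hyperplane where a nonzero linear form ℓ
vanishes, and X' a connected finite etale cover of X. Then the inverse image of H in X' is
connected. (For X' = X this is the connectedness of the hyperplane section Y = g⁻¹(H), and the
general case is the surjectivity of the fundamental group of Y onto that of X.) -/
theorem result (k : Type u) [Field k] [IsAlgClosed k] (X : Scheme.{u})
    [X.Over (Spec (CommRingCat.of k))] [IsProper (X ↘ Spec (CommRingCat.of k))] [IrreducibleSpace X]
    (hN : Pi1.IsNormalScheme X) (r : ℕ) (g : X ⟶ CohB1.ProjSpace r k)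
    (hg : g ≫ CohB1.ProjSpace.toSpec r k = X ↘ Spec (CommRingCat.of k))
    (hdim : 2 ≤ topologicalKrullDim ↥(closure (Set.range g.base)))
    (ℓ : MvPolynomial (Fin (r + 1)) k) (hℓ : ℓ ∈ CohB1.polyGrading r k 1) (hℓ0 : ℓ ≠ 0)
    (X' : FEt.Cat X) [ConnectedSpace X'.left] :
    IsConnected (((X'.hom ≫ g).base ⁻¹' (Proj.basicOpen (CohB1.polyGrading r k) ℓ).carrier)ᶜ) := by
  classical
  haveI : ∀ x : X, _root_.IsReduced (X.presheaf.stalk x) := fun x => by
    haveI := (hN x).1
    infer_instance
  haveI : IsReduced X := isReduced_of_isReduced_stalk X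
  haveI : IsIntegral X := isIntegral_of_irreducibleSpace_of_isReduced X
  haveI : IsIntegral X'.left := Groth.Agent.FEtLib.isIntegral_of_connected hN X'
  let π : X'.left ⟶ X := X'.hom
  haveI : IsFinite π := X'.prop.1
  haveI : Etale π := X'.prop.2
  haveI : IsProper (g ≫ CohB1.ProjSpace.toSpec r k) := hg ▸ inferInstance
  haveI : IsProper g := IsProper.of_comp g (CohB1.ProjSpace.toSpec r k)
  let h := π ≫ g
  haveI : IsProper h := inferInstance
  haveI : IsLocallyNoetherian (CohB1.ProjSpace r k) :=
    LocallyOfFiniteType.isLocallyNoetherian (CohB1.ProjSpace.toSpec r k)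
  let b := h.fromNormalization
  let a := h.toNormalization
  haveI : IsFinite b := Groth.Agent.S1297.result h
  haveI : IsProper (a ≫ b) := by rw [h.toNormalization_fromNormalization]; infer_instance
  haveI : IsProper a := IsProper.of_comp a b
  haveI : GeometricallyConnected a := Groth.Agent.SteinConn.geometricallyConnected_toNormalization' h
  haveI : Surjective a := inferInstance
  have hsurj : Function.Surjective π := by
    have h1 : IsClopen (Set.range π) :=
      ⟨π.isClosedMap.isClosed_range, π.isOpenMap.isOpen_range⟩
    haveI : ConnectedSpace X := inferInstance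
    exact Set.range_eq_univ.1 (h1.eq_univ (Set.range_nonempty _))
  let T := closure (Set.range g.base)
  have hT : T ⊆ Set.range b := by
    refine closure_minimal ?_ b.isClosedMap.isClosed_range
    rintro _ ⟨x, rfl⟩
    obtain ⟨x', rfl⟩ := hsurj x
    refine ⟨a x', ?_⟩
    show b (a x') = g (π x')
    rw [← Scheme.Hom.comp_apply, h.toNormalization_fromNormalization, Scheme.Hom.comp_apply]
  haveI : Surjective b.toImage := ⟨fun y => by
    have h1 := b.toImage.isClosedMap.isClosed_range.closure_eq
    rw [b.toImage.denseRange.closure_eq] at h1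
    exact Set.mem_range.1 (h1 ▸ (Set.mem_univ y : y ∈ (Set.univ : Set _)))⟩
  have hdT : topologicalKrullDim T ≤ topologicalKrullDim b.image := by
    have hTi : T ⊆ Set.range b.imageι := by
      intro t ht
      obtain ⟨z, rfl⟩ := hT ht
      exact ⟨b.toImage z, by rw [← Scheme.Hom.comp_apply, b.toImage_imageι]⟩
    exact ((b.imageι.isEmbedding.toHomeomorph.symm.isInducing.comp
      (Topology.IsEmbedding.inclusion hTi).isInducing)).topologicalKrullDim_le
  have hdim' : (2 : WithBot ℕ∞) ≤ topologicalKrullDim h.normalization :=
    hdim.trans (hdT.trans (Groth.Agent.BoundaryConn.dim_le_of_surjective b.toImage))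
  let U := b ⁻¹ᵁ Proj.basicOpen (CohB1.polyGrading r k) ℓ
  have hU : IsAffineOpen U := (Proj.isAffineOpen_basicOpen (CohB1.polyGrading r k) ℓ hℓ one_pos).preimage b
  have hset : (((X'.hom ≫ g).base ⁻¹' (Proj.basicOpen (CohB1.polyGrading r k) ℓ).carrier)ᶜ) = a ⁻¹' ((U : Set h.normalization)ᶜ) := by
    ext x
    show ¬ (h x ∈ Proj.basicOpen (CohB1.polyGrading r k) ℓ) ↔ ¬ (b (a x) ∈ Proj.basicOpen (CohB1.polyGrading r k) ℓ)
    rw [← Scheme.Hom.comp_apply, h.toNormalization_fromNormalization]
  rw [hset]
  have hconn : _root_.IsConnected ((U : Set h.normalization)ᶜ) := by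
    rcases (U : Set h.normalization).eq_empty_or_nonempty with he | he
    · rw [he, Set.compl_empty]
      exact isConnected_univ
    · exact Groth.Agent.BoundaryConn.isConnected_compl k (b ≫ CohB1.ProjSpace.toSpec r k) hdim' U hU he
  have hquot : Topology.IsQuotientMap a :=
    a.isClosedMap.isQuotientMap a.continuous a.surjective
  exact hquot.isCoinducing.isConnected_preimage_of_isClosed (fun z => a.isConnected_preimage_singleton z)
    U.2.isClosed_compl hconn

end Groth.Agent.S3719
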