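import Groth.Statements.S3731
import Mathlib.Algebra.Homology.DerivedCategory.TStructure
import Mathlib.Algebra.Homology.DerivedCategory.FullyFaithful
import Mathlib.CategoryTheory.Triangulated.TStructure.TruncLTGE

set_option autoImplicit false
universe u v
open CategoryTheory CategoryTheory.Limits
attribute [local instance] HasDerivedCategory.standard
open EtDl

namespace Groth.Agent.S3731

set_option backward.isDefEq.respectTransparency false

open CategoryTheory.Pretriangulated DerivedCategory Triangulated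

namespace S3731Aux

variable {A : Type u} [Category.{v} A] [Abelian A]

local notation "τ" => (DerivedCategory.TStructure.t (C := A))

lemma isLE₃ (T : Triangle (DerivedCategory A)) (hT : T ∈ distTriang _) (p : ℤ)
    (h₁ : TStructure.IsLE τ T.obj₁ (p - 1)) (h₂ : TStructure.IsLE τ T.obj₂ p) : TStructure.IsLE τ T.obj₃ p := by
  haveI := TStructure.isLE_shift τ T.obj₁ (p - 1) 1 (p - 2) (by omega)
  exact TStructure.isLE₂ τ T.rotate (rot_of_distTriang _ hT) p h₂
    (TStructure.isLE_of_le τ (T.obj₁⟦(1 : ℤ)⟧) (p - 2) p (by omega))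

lemma isGE₁ (T : Triangle (DerivedCategory A)) (hT : T ∈ distTriang _) (p : ℤ)
    (h₂ : TStructure.IsGE τ T.obj₂ p) (h₃ : TStructure.IsGE τ T.obj₃ (p + 1)) : TStructure.IsGE τ T.obj₁ p := by
  haveI := TStructure.isGE_shift τ T.obj₃ (p + 1) (-1) (p + 2) (by omega)
  exact TStructure.isGE₂ τ T.invRotate (inv_rot_of_distTriang _ hT) p
    (TStructure.isGE_of_ge τ (T.obj₃⟦(-1 : ℤ)⟧) p (p + 2) (by omega)) h₂

lemma eq_zero_of_homologyMap {M B : DerivedCategory A} (p : ℤ) [M.IsLE p] [B.IsGE p]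
    (f : M ⟶ B) (hf : (homologyFunctor A p).map f = 0) : f = 0 := by
  obtain ⟨M₁, M₂, h1, h2, a, π, w, hM⟩ := TStructure.exists_triangle τ M (p - 1) p (by omega)
  haveI : TStructure.IsLE τ M₁ (p - 1) := ⟨h1⟩
  haveI : TStructure.IsGE τ M₂ p := ⟨h2⟩
  haveI : M₂.IsLE p := isLE₃ (Triangle.mk a π w) hM p ⟨h1⟩ ‹_›
  obtain ⟨B₁, B₂, k1, k2, ι, g, w', hB⟩ := TStructure.exists_triangle τ B p (p + 1) rfl
  haveI : TStructure.IsLE τ B₁ p := ⟨k1⟩
  haveI : TStructure.IsGE τ B₂ (p + 1) := ⟨k2⟩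
  haveI : B₁.IsGE p := isGE₁ (Triangle.mk ι g w') hB p ‹_› ⟨k2⟩
  obtain ⟨f', hf'⟩ := Triangle.yoneda_exact₂ _ hM f
    (TStructure.zero τ (a ≫ f) (p - 1) p (by omega))
  change M₂ ⟶ B at f'
  obtain ⟨u, hu⟩ := Triangle.coyoneda_exact₂ _ hB f'
    (TStructure.zero τ (f' ≫ g) p (p + 1) (by omega))
  change M₂ ⟶ B₁ at u
  replace hf' : f = π ≫ f' := hf'
  replace hu : f' = u ≫ ι := hu
  haveI : Epi ((homologyFunctor A p).map π) :=
    (HomologySequence.epi_homologyMap_mor₂_iff (Triangle.mk a π w) hM p (p + 1) rfl).2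
      ((DerivedCategory.isZero_of_isLE M₁ (p - 1) (p + 1) (by omega)).eq_of_tgt _ _)
  haveI : Mono ((homologyFunctor A p).map ι) :=
    (HomologySequence.mono_homologyMap_mor₁_iff (Triangle.mk ι g w') hB (p - 1) p (by omega)).2
      ((DerivedCategory.isZero_of_isGE B₂ (p + 1) (p - 1) (by omega)).eq_of_src _ _)
  rw [hf', hu, Functor.map_comp, Functor.map_comp] at hf
  have hu0 : (homologyFunctor A p).map u = 0 := by
    rw [← cancel_mono ((homologyFunctor A p).map ι), zero_comp,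
      ← cancel_epi ((homologyFunctor A p).map π), comp_zero]
    exact hf
  obtain ⟨X, ⟨eX⟩⟩ := exists_iso_singleFunctor_obj_of_isGE_of_isLE M₂ p
  obtain ⟨Y, ⟨eY⟩⟩ := exists_iso_singleFunctor_obj_of_isGE_of_isLE B₁ p
  obtain ⟨v, hv⟩ := (singleFunctor A p).map_surjective (eX.inv ≫ u ≫ eY.hom)
  have hv0 : v = 0 := by
    rw [← cancel_epi ((singleFunctorCompHomologyFunctorIso A p).hom.app X), comp_zero]
    refine ((singleFunctorCompHomologyFunctorIso A p).hom.naturality v).symm.trans ?_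
    simp [hv, hu0]
  subst hv0
  rw [Functor.map_zero] at hv
  have : u = 0 := by
    rw [← cancel_epi eX.inv, ← cancel_mono eY.hom]
    simp [← hv]
  rw [hf', hu, this, zero_comp, comp_zero]

lemma lift_step {M K : DerivedCategory A} (p : ℤ) [M.IsLE p] (b : M ⟶ K)
    (hb : (homologyFunctor A p).map b = 0) :
    ∃ (N : DerivedCategory A) (a : M ⟶ N) (c : N ⟶ K), N.IsLE (p - 1) ∧ a ≫ c = b := by
  obtain ⟨N, B, h1, h2, c, g, w, hT⟩ := TStructure.exists_triangle τ K (p - 1) p (by omega)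
  haveI : B.IsGE p := ⟨h2⟩
  obtain ⟨a, ha⟩ := Triangle.coyoneda_exact₂ _ hT b
    (eq_zero_of_homologyMap p (b ≫ g) (by rw [Functor.map_comp, hb, zero_comp]))
  exact ⟨N, a, c, ⟨h1⟩, ha.symm⟩

end S3731Aux

open S3731Aux

/-- Let A be an abelian category, k ≥ 0, and K_0 -> K_1 -> ... -> K_{2k} a chain of 2k morphisms in the
derived category of A such that every K_i has H^p(K_i) = 0 for p outside [0, k] and every morphism
K_i -> K_{i+1} induces the zero map on H^p for all p < k. Let π : K_0 -> H^k(K_0)[-k] be the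
morphism to the top cohomology object placed in degree k that induces the identity on H^k. Then the
composite K_0 -> K_{2k} factors through π. -/
theorem result {A : Type u} [Category.{v} A] [Abelian A] (k : ℕ)
    (K : ComposableArrows (DerivedCategory A) (2 * k))
    (hK : ∀ (i : ℕ) (hi : i ≤ 2 * k) (p : ℤ), p < 0 ∨ (k : ℤ) < p →
      IsZero ((DerivedCategory.homologyFunctor A p).obj (K.obj' i)))
    (hf : ∀ (i : ℕ) (hi : i < 2 * k) (p : ℤ), p < (k : ℤ) →
      (DerivedCategory.homologyFunctor A p).map (K.map' i (i + 1)) = 0)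
    (π : K.obj' 0 ⟶ (DerivedCategory.singleFunctor A (k : ℤ)).obj
      ((DerivedCategory.homologyFunctor A (k : ℤ)).obj (K.obj' 0)))
    (hπ : (DerivedCategory.homologyFunctor A (k : ℤ)).map π ≫
      (DerivedCategory.singleFunctorCompHomologyFunctorIso A (k : ℤ)).hom.app
        ((DerivedCategory.homologyFunctor A (k : ℤ)).obj (K.obj' 0)) = 𝟙 _) :
    ∃ φ : (DerivedCategory.singleFunctor A (k : ℤ)).obj
        ((DerivedCategory.homologyFunctor A (k : ℤ)).obj (K.obj' 0)) ⟶ K.obj' (2 * k),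
      K.map' 0 (2 * k) = π ≫ φ := by
  have hGE : ∀ (i : ℕ) (hi : i ≤ 2 * k), (K.obj' i).IsGE 0 := fun i hi =>
    (isGE_iff _ _).2 (fun p hp => hK i hi p (Or.inl hp))
  have hLE : ∀ (i : ℕ) (hi : i ≤ 2 * k), (K.obj' i).IsLE (k : ℤ) := fun i hi =>
    (isLE_iff _ _).2 (fun p hp => hK i hi p (Or.inr hp))
  haveI := hLE 0 (Nat.zero_le _)
  obtain ⟨M₀, B, h1, h2, ι, g, w, hT⟩ := TStructure.exists_triangle
    (DerivedCategory.TStructure.t (C := A)) (K.obj' 0) ((k : ℤ) - 1) k (by omega)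
  haveI : TStructure.IsLE DerivedCategory.TStructure.t M₀ ((k : ℤ) - 1) := ⟨h1⟩
  haveI : TStructure.IsGE DerivedCategory.TStructure.t B (k : ℤ) := ⟨h2⟩
  haveI : B.IsLE (k : ℤ) := isLE₃ (Triangle.mk ι g w) hT k ⟨h1⟩ ‹_›
  have key : ∀ (j : ℕ) (hj : j ≤ k), ∃ (M : DerivedCategory A) (a : M₀ ⟶ M) (b : M ⟶ K.obj' j),
      M.IsLE ((k : ℤ) - 1 - j) ∧ a ≫ b = ι ≫ K.map' 0 j := by
    intro j
    induction j with
    | zero =>
      intro _
      exact ⟨M₀, 𝟙 _, ι, by simpa using (inferInstance : M₀.IsLE ((k : ℤ) - 1)), by simp⟩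
    | succ j ih =>
      intro hj
      obtain ⟨M, a, b, hM, hab⟩ := ih (by omega)
      obtain ⟨N, a', c, hN, hc⟩ := lift_step ((k : ℤ) - 1 - j) (b ≫ K.map' j (j + 1))
        (by rw [Functor.map_comp, hf j (by omega) _ (by omega), comp_zero])
      refine ⟨N, a ≫ a', c, ?_, ?_⟩
      · rwa [show (k : ℤ) - 1 - (j + 1 : ℕ) = (k : ℤ) - 1 - j - 1 by omega]
      · rw [Category.assoc, hc, reassoc_of% hab, ← K.map'_comp 0 j (j + 1)]
  obtain ⟨M, a, b, hM, hab⟩ := key k le_rfl
  haveI : M.IsLE (-1 : ℤ) := by convert hM using 2; omega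
  haveI := hGE k (by omega)
  have hz : ι ≫ K.map' 0 (2 * k) = 0 := by
    rw [K.map'_comp 0 k (2 * k), ← reassoc_of% hab,
      TStructure.zero DerivedCategory.TStructure.t b (-1) 0 (by omega), zero_comp, comp_zero]
  obtain ⟨φ', hφ'⟩ := Triangle.yoneda_exact₂ _ hT (K.map' 0 (2 * k)) hz
  obtain ⟨θ, hθ⟩ := Triangle.yoneda_exact₂ _ hT π
    (TStructure.zero DerivedCategory.TStructure.t (ι ≫ π) ((k : ℤ) - 1) k (by omega))
  change B ⟶ _ at θ φ'
  replace hθ : π = g ≫ θ := hθ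
  replace hφ' : K.map' 0 (2 * k) = g ≫ φ' := hφ'
  have hZ : ∀ (X : DerivedCategory A), X.IsGE (k : ℤ) → X.IsLE (k : ℤ) → ∀ i : ℤ, i ≠ k →
      IsZero ((homologyFunctor A i).obj X) := fun X _ _ i hi => by
    rcases lt_or_gt_of_ne hi with h | h
    · exact DerivedCategory.isZero_of_isGE X k i h
    · exact DerivedCategory.isZero_of_isLE X k i h
  haveI : IsIso θ := by
    rw [DerivedCategory.isIso_iff]
    intro i
    by_cases hi : i = k
    · subst hi
      haveI : Epi ((homologyFunctor A (k : ℤ)).map g) :=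
        (HomologySequence.epi_homologyMap_mor₂_iff (Triangle.mk ι g w) hT k (k + 1) rfl).2
          ((DerivedCategory.isZero_of_isLE M₀ ((k : ℤ) - 1) (k + 1) (by omega)).eq_of_tgt _ _)
      rw [hθ, Functor.map_comp, Category.assoc] at hπ
      haveI : IsSplitMono ((homologyFunctor A (k : ℤ)).map g) := IsSplitMono.mk' ⟨_, hπ⟩
      haveI : IsIso ((homologyFunctor A (k : ℤ)).map g) := isIso_of_epi_of_isSplitMono _
      haveI := IsIso.of_isIso_fac_left hπ
      exact IsIso.of_isIso_comp_right ((homologyFunctor A (k : ℤ)).map θ)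
        ((singleFunctorCompHomologyFunctorIso A (k : ℤ)).hom.app _)
    · exact ⟨0, (hZ B inferInstance inferInstance i hi).eq_of_src _ _,
        (hZ _ inferInstance inferInstance i hi).eq_of_src _ _⟩
  exact ⟨inv θ ≫ φ', by rw [hθ, Category.assoc, IsIso.hom_inv_id_assoc, hφ']⟩

end Groth.Agent.S3731
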