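import Groth.Statements.S3743
import Groth.Agent.KRRAmple.Basic
import Groth.Agent.CurveLib.DegTensor
-- import your own Groth.Agent.* helpers here

set_option autoImplicit false
set_option backward.isDefEq.respectTransparency false
universe v u
open CategoryTheory CategoryTheory.Limits AlgebraicGeometry
attribute [local instance] HasDerivedCategory.standard
open KRR

namespace Groth.Agent.S3743

/-- Let X be a connected Noetherian scheme and (K, P, φ) a model of the λ-ring K(X) of finite locally
free modules with its positive structure (classes of bundles, augmentation = rank). If L is an ample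
invertible O_X-module, then u = [L] is an ample line element of K(X): u is a line element and for
every x ∈ K(X) and all sufficiently large n, u^n x is a positive element minus a natural number. -/
theorem result (X : Scheme.{u}) [IsNoetherian X] [ConnectedSpace ↥X]
    (K : Type v) [CommRing K] [LambdaRing.LambdaOps K] (P : LambdaRing.PosStructure K) (φ : SGA6.Kvb X →+ K) (hK : KRR.IsModel X K P φ)
    (L : X.Modules) (hL : CohB1.IsAmple L) :
    KRR.IsAmpleElt P (φ (KRR.cl X L)) := by
  haveI := hL.2.1
  have hLf : ∀ n, FlatMod.IsFinLocFree (CohB1.tensorPow L n) := fun n =>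
    CurveLib.isFinLocFree_of_isInvertible (AmpleLib.isInvertible_tensorPow hL.1 n)
  have hLl : P.IsLine (φ (KRR.cl X L)) := by
    have hr := CurveLib.isFinLocFreeOfRank_one hL.1
    exact ⟨(hK.mem_pos_iff _).2 ⟨1, L, le_rfl, hr, rfl⟩, by simpa using hK.aug_cl 1 L hr⟩
  refine ⟨hLl, fun x => ?_⟩
  obtain ⟨e, f, he, hf, rfl⟩ := P.exists_sub x
  obtain ⟨r, F, -, hF, rfl⟩ := (hK.mem_pos_iff f).1 hf
  have hF' : FlatMod.IsFinLocFree F := fun x => (let ⟨U, hU, e⟩ := hF x; ⟨U, _, hU, e⟩)
  obtain ⟨n₀, hn₀⟩ := AmpleEmb.eventually_isGloballyGenerated hL (DCohLib.isCoh_of_isFinLocFree hF')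
  refine ⟨n₀, fun n hn => ?_⟩
  obtain ⟨e', m, he', heq⟩ := KRRAmple.exists_neg_eq (G := CohB1.tensorMod F (CohB1.tensorPow L n)) hK
    (DCohLib.isFinLocFree_tensor hF' (hLf n)) (hn₀ n hn)
  have hmul : φ (KRR.cl X F) * φ (KRR.cl X L) ^ n = φ (KRR.cl X (CohB1.tensorMod F (CohB1.tensorPow L n))) := by
    rw [← KRRAmple.pow_mul_cl hK hL.1 hLf n]
    exact hK.map_mul F _ hF' (hLf n)
  refine ⟨φ (KRR.cl X L) ^ n * e + e', m, P.add_mem _ _ ?_ he', by linear_combination heq - hmul⟩
  clear hn hmul heq hn₀
  induction n with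
  | zero => simpa using he
  | succ k ih => rw [pow_succ, mul_comm _ (φ (KRR.cl X L)), mul_assoc]; exact P.mul_mem _ _ hLl.1 (ih)

end Groth.Agent.S3743
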