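import Groth.Statements.S3756
import Groth.Agent.RegLib.Counit
import Groth.Agent.DCohMore.PushFlf
import Groth.Agent.DCohMore.FinPushRes
-- import your own Groth.Agent.* helpers here

set_option autoImplicit false
universe v u
open CategoryTheory CategoryTheory.Limits AlgebraicGeometry
attribute [local instance] HasDerivedCategory.standard
open KRR

namespace Groth.Agent.S3756

/-- Let Y be a Noetherian scheme, p : P = P^n_Y ⟶ Y, and F a finite locally free O_P-module which is
regular relative to p. Then p_* F is a finite locally free O_Y-module. -/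
theorem result (n : ℕ) (Y : Scheme.{u}) [IsNoetherian Y]
    (F : (KRR.PY n Y).Modules) (hF : FlatMod.IsFinLocFree F) (hreg : KRR.IsRegSheaf n Y F) :
    FlatMod.IsFinLocFree ((Scheme.Modules.pushforward (KRR.pr n Y)).obj F) := by
  haveI := (Groth.Agent.PullbackMod.isQCoh_and_isFP_of_isFinLocFree F hF).1
  haveI : EnoughInjectives (KRR.PY n Y).Modules := inferInstance
  haveI : HasInjectiveResolutions (KRR.PY n Y).Modules := inferInstance
  have huniv : ClSub.IsProperOver (KRR.pr n Y) (Set.univ : Set (KRR.PY n Y)) :=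
    (Groth.Agent.ClSubLib.isProperOver_iff (KRR.pr n Y) (𝟙 _) (Set.range_id)).2 (by rw [Category.id_comp]; infer_instance)
  have hfp := (Groth.Agent.PullbackMod.isQCoh_and_isFP_of_isFinLocFree F hF).2
  refine Groth.Agent.DCohMore.PushFlf.isFinLocFree_push (KRR.pr n Y) F hfp
    (Groth.Agent.DCohMore.TwistFam.isFlatOver_of_isFinLocFree (KRR.pr n Y) hF)
    (Groth.Agent.ClSubLib.isProperOver_subset (KRR.pr n Y) huniv (Groth.Agent.PullbackMod.isClosed_support_of_isFT
      (Groth.Agent.ExactConstrLib.isFT_of_isFP hfp)) (Set.subset_univ _)) fun i hi => ?_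
  obtain ⟨z⟩ := Groth.Agent.DCohMore.TwistOver.nonempty_T_zero n Y
  have h := (Groth.Agent.RegLib.van_iff_rpush i 0 F).1
    (Groth.Agent.RegLib.van_of_isReg hreg (q := (i : ℤ)) (d := 0) (by omega) (by omega))
  have h' := IsZero.of_iso (IsZero.of_iso h ((Coh.RpushAb (KRR.pr n Y) i).mapIso
    ((Groth.Agent.QCohLib.toAbF _).mapIso (z.app F).symm))) ((Groth.Agent.RpushLib.toAbRpushIso (KRR.pr n Y) i).app F)
  haveI : (Groth.Agent.QCohLib.toAbF Y).Faithful := inferInstanceAs (SheafOfModules.toSheaf.{u} Y.ringCatSheaf).Faithful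
  rw [IsZero.iff_id_eq_zero]
  exact (Groth.Agent.QCohLib.toAbF Y).map_injective (h'.eq_of_src _ _)

end Groth.Agent.S3756
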