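import Groth.Statements.S3780
import Groth.Agent.KRRLam.Sigma

set_option autoImplicit false
universe v u
open CategoryTheory CategoryTheory.Limits AlgebraicGeometry
attribute [local instance] HasDerivedCategory.standard
open KRR

namespace Groth.Agent.S3780

/-- Let K be a λ-ring with positive structure admitting a splitting, e a positive element of
augmentation ε(e) = r + 1, K_e = K[T]/(p_e(T)) the elementary extension of K with ℓ the class of T,
and f : K_e → K a K-linear functional with f(ℓ^i) = σ^i(e) for i ≤ r. For any λ-operations on K_e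
extending those of K with λ^i(ℓ) = 0 for i ≥ 2, and q = e − ℓ ∈ K_e, one has f(λ^0(q)) = 1 and
f(λ^i(q)) = 0 for all i ≥ 1; that is, f(λ_t(q)) = 1. -/
theorem result (K : Type v) [CommRing K] [LambdaRing.LambdaOps K] (P : LambdaRing.PosStructure K) (hK : LambdaRing.HasSplitting K P) (e : K) (he : e ∈ P.pos) (r : ℕ) (hr : P.aug e = r + 1)
    (inst : LambdaRing.LambdaOps (AdjoinRoot (KRR.extPoly P e)))
    (hext : ∀ (i : ℕ) (x : K), @LambdaRing.LambdaOps.lam _ _ inst i (AdjoinRoot.of (KRR.extPoly P e) x) =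
      AdjoinRoot.of (KRR.extPoly P e) (LambdaRing.LambdaOps.lam i x))
    (hroot : ∀ i : ℕ, 2 ≤ i → @LambdaRing.LambdaOps.lam _ _ inst i (AdjoinRoot.root (KRR.extPoly P e)) = 0)
    (f : AdjoinRoot (KRR.extPoly P e) →ₗ[K] K)
    (hf : ∀ i : ℕ, i ≤ r → f (AdjoinRoot.root (KRR.extPoly P e) ^ i) = KRR.sigma i e) (i : ℕ) :
    f (@LambdaRing.LambdaOps.lam _ _ inst i (AdjoinRoot.of (KRR.extPoly P e) e - AdjoinRoot.root (KRR.extPoly P e))) =
      if i = 0 then 1 else 0 := by
  letI := inst
  have h := LamR.lamSeries_add (AdjoinRoot.of (KRR.extPoly P e) e - AdjoinRoot.root (KRR.extPoly P e)) (AdjoinRoot.root (KRR.extPoly P e))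
  rw [sub_add_cancel, LamR.lamSeries_thin hroot] at h
  set l : AdjoinRoot (KRR.extPoly P e) := AdjoinRoot.root (KRR.extPoly P e)
  set y := AdjoinRoot.of (KRR.extPoly P e) e - l
  have hinv : (1 + PowerSeries.C l * PowerSeries.X) * PowerSeries.mk (fun k => (-l) ^ k) = 1 := by
    ext k
    rw [add_mul, one_mul, map_add, mul_assoc, PowerSeries.coeff_C_mul]
    cases k with
    | zero => simp
    | succ k => rw [PowerSeries.coeff_succ_X_mul, PowerSeries.coeff_mk, PowerSeries.coeff_mk, PowerSeries.coeff_one,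
        if_neg (Nat.succ_ne_zero k)]; ring
  have hy : LambdaRing.lamSeries y = LambdaRing.lamSeries (AdjoinRoot.of (KRR.extPoly P e) e) * PowerSeries.mk (fun k => (-l) ^ k) := by
    rw [h, mul_assoc, hinv, mul_one]
  have hc := congrArg (PowerSeries.coeff i) hy
  rw [PowerSeries.coeff_mul, Finset.Nat.sum_antidiagonal_eq_sum_range_succ_mk, LamR.coeff_lamSeries] at hc
  rw [hc, map_sum]
  have hs := KRRLam.sum_lam_mul_sigma e i
  refine Eq.trans ?_ ((congrArg (fun t => (-1 : K) ^ i * t) hs).trans ?_)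
  · rw [Finset.mul_sum]
    refine Finset.sum_congr rfl fun k hk => ?_
    rw [Finset.mem_range] at hk
    rw [LamR.coeff_lamSeries, hext, PowerSeries.coeff_mk, neg_pow, ← mul_assoc,
      show AdjoinRoot.of (KRR.extPoly P e) (LambdaRing.LambdaOps.lam k e) * (-1) ^ (i - k) =
        AdjoinRoot.of (KRR.extPoly P e) (LambdaRing.LambdaOps.lam k e * (-1) ^ (i - k)) by simp,
      ← AdjoinRoot.algebraMap_eq, ← Algebra.smul_def, map_smul, smul_eq_mul, KRRLam.functional_pow hr f hf he]
    rw [show i = k + (i - k) by omega, pow_add, show k + (i - k) - k = i - k by omega]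
    have : (-1 : K) ^ k * (-1) ^ k = 1 := by rw [← pow_add, Even.neg_one_pow ⟨k, rfl⟩]
    linear_combination -((-1 : K) ^ (i - k) * LambdaRing.LambdaOps.lam k e * KRR.sigma (i - k) e) * this
  · split_ifs with hi
    · subst hi; simp
    · simp

end Groth.Agent.S3780
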