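import Groth.Statements.S3783
import Groth.Agent.KVbLib.PullHom
import Groth.Agent.GenSeesawLib.PicProjOver
import Groth.Agent.DCohLib.Pullback
-- import your own Groth.Agent.* helpers here

set_option autoImplicit false
universe v u
open CategoryTheory CategoryTheory.Limits AlgebraicGeometry
attribute [local instance] HasDerivedCategory.standard
open KRR

namespace Groth.Agent.S3783

/-- For P = P^n_Y: let Y be a connected Noetherian scheme, p : P^n_Y ⟶ Y, with models of K(P), K(Y)
having the splitting property and q = p^K the pull-back. Then for every k, an element y ∈ K(Y) lies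
in F^k K(Y) if and only if p^K y lies in F^k K(P) (γ-filtrations). -/
theorem result (n : ℕ) (Y : Scheme.{u}) [IsNoetherian Y] [ConnectedSpace ↥Y]
    (KP : Type v) [CommRing KP] [LambdaRing.LambdaOps KP] (PP : LambdaRing.PosStructure KP) (φP : SGA6.Kvb (KRR.PY n Y) →+ KP) (hKP : KRR.IsModel (KRR.PY n Y) KP PP φP) (hsP : LambdaRing.HasSplitting KP PP)
    (KY : Type v) [CommRing KY] [LambdaRing.LambdaOps KY] (PY : LambdaRing.PosStructure KY) (φY : SGA6.Kvb Y →+ KY) (hKY : KRR.IsModel Y KY PY φY) (hsY : LambdaRing.HasSplitting KY PY)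
    (q : KY →+ KP) (hq : KRR.IsPull (KRR.pr n Y) φY φP q) (k : ℕ) :
    (LambdaRing.gammaFiltration PP k).comap q = LambdaRing.gammaFiltration PY k := by
  obtain ⟨σ, hσ⟩ := Groth.Agent.GenSeesawLib.exists_section (r := n) (S := Y)
  obtain ⟨s₀, hs₀⟩ := Groth.Agent.RegLib.exists_lift (P := KRR.vbP (KRR.PY n Y))
    (fun E => φY (KRR.cl Y ((Scheme.Modules.pullback σ).obj E))) fun {S} hS h₁ h₂ h₃ => by
      rw [← map_add]
      exact congrArg φY (Groth.Agent.KVb.cl_add
        (Groth.Agent.DCohLib.shortExact_pullback_of_isFlat (f := σ) S hS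
          (Groth.Agent.PullbackMod.isFlat_of_isFinLocFree _ h₃))
        (Groth.Agent.PullbackMod.isFinLocFree_pullback σ _ h₁) (Groth.Agent.PullbackMod.isFinLocFree_pullback σ _ h₂)
        (Groth.Agent.PullbackMod.isFinLocFree_pullback σ _ h₃))
  let e := AddEquiv.ofBijective φP hKP.bijective
  let s : KP →+ KY := s₀.comp e.symm.toAddMonoidHom
  have hs : KRR.IsPull σ φP φY s := fun E hE => by
    show s₀ (e.symm (e (KRR.cl _ E))) = _
    rw [e.symm_apply_apply]
    exact hs₀ E hE
  have hsq : s.comp q = AddMonoidHom.id KY := Groth.Agent.KVb.model_hom_ext hKY fun E hE => by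
    show s (q (φY (KRR.cl Y E))) = φY (KRR.cl Y E)
    rw [hq E hE, hs _ (Groth.Agent.PullbackMod.isFinLocFree_pullback _ E hE)]
    exact congrArg φY (Groth.Agent.KVb.cl_iso ((Scheme.Modules.pullbackComp σ (KRR.pr n Y)).app E ≪≫
      (Scheme.Modules.pullbackCongr hσ).app E ≪≫ (Scheme.Modules.pullbackId Y).app E))
  refine AddSubgroup.ext fun y => ⟨fun hy => ?_, fun hy => Groth.Agent.KVb.pull_gammaFiltration hKP hKY hq hy⟩
  have h := Groth.Agent.KVb.pull_gammaFiltration hKY hKP hs (k := k) (AddSubgroup.mem_comap.1 hy)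
  rwa [show s (q y) = y from DFunLike.congr_fun hsq y] at h

end Groth.Agent.S3783
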