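import Groth.Statements.S3790
import Groth.Agent.TorIndepLib.K
import Groth.Agent.DCohLib.ProjMap
import Groth.Agent.KVbLib.Ring
-- import your own Groth.Agent.* helpers here

set_option autoImplicit false
universe v u
open CategoryTheory CategoryTheory.Limits AlgebraicGeometry
attribute [local instance] HasDerivedCategory.standard
open KRR

namespace Groth.Agent.S3790

/-- Let X be a connected Noetherian scheme on which every coherent module is a quotient of a finite
locally free one, and i : Y ⟶ X, j : Z ⟶ X regular closed imbeddings (Y, Z connected) meeting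
regularly: with W = Y ×_X Z and projections h : W ⟶ Y, g : W ⟶ Z, the base change g is a regular
closed imbedding of the same codimension as i (conormal modules of i and g finite locally free of
the same rank), W connected. With models and push-forwards i_K, j_K, (g ≫ j)_K: [O_Y] · [O_Z] =
[O_{Y ∩ Z}] in K(X), i.e. i_K(1) · j_K(1) = (g ≫ j)_K(1). -/
theorem result {X Y Z W : Scheme.{u}} [IsNoetherian X] [ConnectedSpace ↥X] (hXe : KRR.HasEnoughLocFree X)
    (i : Y ⟶ X) (hi : Mor2.IsRegularClosedImmersion i) [ConnectedSpace ↥Y]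
    (j : Z ⟶ X) (hj : Mor2.IsRegularClosedImmersion j) [ConnectedSpace ↥Z]
    (h : W ⟶ Y) (g : W ⟶ Z) (hsq : IsPullback g h j i) (hg : Mor2.IsRegularClosedImmersion g) [ConnectedSpace ↥W]
    (d : ℕ) (hci : FlatMod.IsFinLocFreeOfRank d (Omega.conormal i)) (hcg : FlatMod.IsFinLocFreeOfRank d (Omega.conormal g))
    (KX : Type v) [CommRing KX] [LambdaRing.LambdaOps KX] (PX : LambdaRing.PosStructure KX) (φX : SGA6.Kvb X →+ KX) (hKX : KRR.IsModel X KX PX φX)
    (KY : Type v) [CommRing KY] [LambdaRing.LambdaOps KY] (PY : LambdaRing.PosStructure KY) (φY : SGA6.Kvb Y →+ KY) (hKY : KRR.IsModel Y KY PY φY)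
    (KZ : Type v) [CommRing KZ] [LambdaRing.LambdaOps KZ] (PZ : LambdaRing.PosStructure KZ) (φZ : SGA6.Kvb Z →+ KZ) (hKZ : KRR.IsModel Z KZ PZ φZ)
    (KW : Type v) [CommRing KW] [LambdaRing.LambdaOps KW] (PW : LambdaRing.PosStructure KW) (φW : SGA6.Kvb W →+ KW) (hKW : KRR.IsModel W KW PW φW)
    (a : KY →+ KX) (ha : KRR.IsPushCl i φY φX a) (b : KZ →+ KX) (hb : KRR.IsPushCl j φZ φX b)
    (c : KW →+ KX) (hc : KRR.IsPushCl (g ≫ j) φW φX c) :
    a 1 * b 1 = c 1 := by
  haveI : IsClosedImmersion i := hi.1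
  haveI : IsClosedImmersion j := hj.1
  haveI : IsClosedImmersion g := hg.1
  haveI : IsLocallyNoetherian Z := LocallyOfFiniteType.isLocallyNoetherian j
  haveI : IsLocallyNoetherian Y := LocallyOfFiniteType.isLocallyNoetherian i
  haveI : CompactSpace Z := QuasiCompact.compactSpace_of_compactSpace j
  haveI : CompactSpace Y := QuasiCompact.compactSpace_of_compactSpace i
  haveI : CompactSpace W := QuasiCompact.compactSpace_of_compactSpace g
  have hZe : KRR.HasEnoughLocFree Z := TorIndepLib.enough_closed j hXe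
  obtain ⟨pj, hpj⟩ := KRRAmple.exists_pullVb j
  obtain ⟨ph, hph⟩ := KRRAmple.exists_pullVb h
  let gj : KX →+ KZ := φZ.comp (pj.comp (AddEquiv.ofBijective φX hKX.bijective).symm.toAddMonoidHom)
  let gh : KY →+ KW := φW.comp (ph.comp (AddEquiv.ofBijective φY hKY.bijective).symm.toAddMonoidHom)
  have hgj : KRR.IsPull j φX φZ gj := fun E hE =>
    congrArg φZ ((congrArg pj ((AddEquiv.ofBijective φX hKX.bijective).symm_apply_apply _)).trans (hpj E hE))
  have hgh : KRR.IsPull h φY φW gh := fun E hE =>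
    congrArg φW ((congrArg ph ((AddEquiv.ofBijective φY hKY.bijective).symm_apply_apply _)).trans (hph E hE))
  obtain ⟨gg, hgg, -⟩ := KRRAmple.existsUnique_isPushCl g hg hZe φW hKW.bijective φZ
  have hbc := TorIndepLib.pull_push (F := i) (φ := j) (f := g) (ψ := h) hsq hi hg hci hcg hXe φW φZ φY
    hKY.bijective.2 φX gj hgj gh hgh a ha gg hgg 1
  have hone : gh 1 = 1 := by
    have hO : FlatMod.IsFinLocFree (Coh.structureModule Y) := RegLib.isFinLocFree_structure Y
    rw [← hKY.map_one, hgh _ hO, KRRAmple.cl_iso (DCohLib.pullStructureIso h).symm (RegLib.isFinLocFree_structure W)]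
    exact hKW.map_one
  have hcomp := KRRAmple.pushCl_comp g j hg hj hZe hXe φW hKW.bijective φZ φX gg hgg b hb c hc
  have hproj := KRRAmple.pushCl_mul_pull j hj hXe φZ hKZ.bijective hKZ.map_mul φX hKX.bijective hKX.map_mul gj hgj b hb 1 (a 1)
  rw [one_mul, hbc, hone] at hproj
  rw [hcomp, AddMonoidHom.comp_apply, hproj, mul_comm]

end Groth.Agent.S3790
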