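import Groth.Statements.S3791
import Groth.Agent.LamR.Inv

set_option autoImplicit false
universe v u
open CategoryTheory CategoryTheory.Limits AlgebraicGeometry
attribute [local instance] HasDerivedCategory.standard
open KRR

namespace Groth.Agent.S3791

theorem gamma_series_isNilpotent {K : Type v} [CommRing K] [LambdaRing.LambdaOps K]
    (h1 : ∀ j : ℕ, 2 ≤ j → LambdaRing.LambdaOps.lam j (1 : K) = 0) {a b : K} {d : ℕ}
    (ha : ∀ j : ℕ, 2 ≤ j → LambdaRing.gamma j a = 0) (hb : ∀ j : ℕ, d < j → LambdaRing.gamma j b = 0)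
    (hab : ∀ j : ℕ, j ≠ 0 → LambdaRing.gamma j (a + b) = 0) : IsNilpotent a := by
  have hrec : ∀ k, LambdaRing.gamma (k + 1) b = -(a * LambdaRing.gamma k b) := by
    intro k
    have h := hab (k + 1) (Nat.succ_ne_zero k)
    rw [LamR.gamma_add, Finset.sum_range_succ', LamR.gamma_zero, one_mul, Nat.sub_zero,
      Finset.sum_eq_single_of_mem 0 (by simp) (fun i _ hi => by rw [ha (i + 1) (by omega), zero_mul]),
      Nat.zero_add, LamR.gamma_one, Nat.add_sub_cancel] at h
    linear_combination h
  have hk : ∀ k, LambdaRing.gamma k b = (-a) ^ k := by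
    intro k
    induction k with
    | zero => rw [LamR.gamma_zero, pow_zero]
    | succ k ih => rw [hrec, ih, pow_succ]; ring
  refine ⟨d + 1, ?_⟩
  have := hb (d + 1) (by omega)
  rw [hk, neg_pow] at this
  exact ((isUnit_one.neg.pow (d + 1)).mul_right_eq_zero).1 this

theorem line_nilpotent {K : Type v} [CommRing K] [LambdaRing.LambdaOps K] (P : LambdaRing.PosStructure K)
    {v : K} (hv : P.IsLine v) {e : K} {m : ℕ} (he : e ∈ P.pos) (h : -v = e - m) : IsNilpotent (v - 1) := by
  have h1 := LamR.lam_one_pos P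
  have hd : P.aug e = (m : ℤ) - 1 := by
    have := congrArg P.aug h
    rw [map_neg, map_sub, map_natCast, hv.2] at this
    omega
  have hpos := P.aug_pos e he
  obtain ⟨d, hd'⟩ : ∃ d : ℕ, P.aug e = d := ⟨(P.aug e).toNat, (Int.toNat_of_nonneg hpos.le).symm⟩
  have hm : m = d + 1 := by omega
  have hvan : ∀ {y : K} {c : ℕ}, (∀ i : ℕ, c < i → LambdaRing.LambdaOps.lam i y = 0) → ∀ k, c < k → LambdaRing.gamma k (y - (c : K)) = 0 := by
    intro y c hy k hk
    rw [LamR.gamma_eq_lam h1]
    obtain ⟨t, rfl⟩ : ∃ t, k = c + 1 + t := ⟨k - c - 1, by omega⟩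
    rw [show y - (c : K) + ((c + 1 + t : ℕ) : K) - 1 = y + (t : K) by push_cast; ring, LambdaRing.LambdaOps.lam_add]
    refine Finset.sum_eq_zero fun i hi => ?_
    rcases Nat.lt_or_ge c i with h | h
    · rw [hy i h, zero_mul]
    · rw [LamR.lam_natCast h1, Nat.choose_eq_zero_of_lt (by omega), Nat.cast_zero, mul_zero]
  refine gamma_series_isNilpotent h1 (b := e - (d : K)) (d := d) (fun j hj => ?_)
    (hvan fun i hi => P.lam_eq_zero e he i (by omega)) (fun j hj => ?_)
  · have := hvan (y := v) (c := 1) (fun i hi => LamR.lam_line P hv i hi) j (by omega)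
    rwa [Nat.cast_one] at this
  · rw [show v - 1 + (e - (d : K)) = 0 by rw [hm] at h; push_cast at h; linear_combination -h]
    rw [LambdaRing.gamma, if_neg hj]
    exact Finset.sum_eq_zero fun i _ => by rcases eq_or_ne i 0 with rfl | hi <;> simp [*, LamR.lam_zero_right]

/-- Let K be a λ-ring with positive structure P and u an ample line element (for every x, u^n x is a
positive element minus a natural number for all large n). Then for every line element v, the element
v - 1 is nilpotent. -/
theorem result (K : Type v) [CommRing K] [LambdaRing.LambdaOps K] (P : LambdaRing.PosStructure K)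
    (u : K) (hu : KRR.IsAmpleElt P u) (w : K) (hw : P.IsLine w) : IsNilpotent (w - 1) := by
  obtain ⟨hul, hample⟩ := hu
  obtain ⟨n₁, h1⟩ := hample (-1)
  obtain ⟨n₂, h2⟩ := hample (-w)
  obtain ⟨e, m, he, he'⟩ := h1 (max n₁ n₂) (le_max_left _ _)
  obtain ⟨e2, m2, he2, he2'⟩ := h2 (max n₁ n₂) (le_max_right _ _)
  set n := max n₁ n₂
  have hA := line_nilpotent P (LamR.isLine_pow P hul n) he (by linear_combination he')
  have hB := line_nilpotent P (LamR.isLine_mul P (LamR.isLine_pow P hul n) hw) he2 (by linear_combination he2')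
  have : w - 1 = (u ^ n * w - 1) - w * (u ^ n - 1) := by ring
  rw [this]
  exact Commute.isNilpotent_sub (Commute.all _ _) hB ((Commute.all w (u ^ n - 1)).isNilpotent_mul_left hA)

end Groth.Agent.S3791
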