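import Groth.Statements.S3792
import Groth.Agent.KRRLam.Sigma

set_option autoImplicit false
universe v u
open CategoryTheory CategoryTheory.Limits AlgebraicGeometry
attribute [local instance] HasDerivedCategory.standard
open KRR

namespace Groth.Agent.S3792

theorem prod_one_sub {R : Type*} [CommRing R] (s : Multiset R) :
    (s.map fun u => 1 - u).prod = ∑ i ∈ Finset.range (s.card + 1), (-1 : R) ^ i * s.esymm i := by
  induction s using Multiset.induction_on with
  | empty => simp [Multiset.esymm]
  | cons a s ih =>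
    rw [Multiset.map_cons, Multiset.prod_cons, ih, Multiset.card_cons,
      Finset.sum_range_succ' (fun i => (-1 : R) ^ i * (a ::ₘ s).esymm i) (s.card + 1)]
    simp only [LamR.esymm_cons', mul_add, Finset.sum_add_distrib]
    rw [Finset.sum_range_succ' (fun i => (-1 : R) ^ i * s.esymm i) s.card,
      Finset.sum_range_succ (fun i => (-1 : R) ^ (i + 1) * s.esymm (i + 1)) s.card,
      LamR.esymm_eq_zero_of_card_lt (show s.card < s.card + 1 by omega), LamR.esymm_zero', LamR.esymm_zero']
    simp only [pow_zero, mul_zero, add_zero, mul_one]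
    have : ∑ x ∈ Finset.range (s.card + 1), (-1 : R) ^ (x + 1) * (a * s.esymm x) = -a * ((∑ x ∈ Finset.range s.card, (-1 : R) ^ (x + 1) * s.esymm (x + 1)) + 1) := by
      rw [Finset.sum_range_succ', LamR.esymm_zero', mul_add, Finset.mul_sum]
      congr 1
      · exact Finset.sum_congr rfl fun x _ => by ring
      · ring
    rw [this]; ring

/-- Let K be a λ-ring with positive structure having the splitting property, e a positive element and j
≥ 1. Then ψ^j(λ_{-1}(e)) = λ_{-1}(e) · θ^j(e), where λ_{-1}(e) = Σ_{i ≤ ε(e)} (-1)^i λ^i(e), ψ^j is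
the Adams operation and θ^j(e) is Bott's cannibalistic class (the universal polynomial in the λ^i(e)
which is Π (1 + u_i + ⋯ + u_i^{j-1}) on a splitting e = Σ u_i). -/
theorem result (K : Type v) [CommRing K] [LambdaRing.LambdaOps K] (P : LambdaRing.PosStructure K) (hK : LambdaRing.HasSplitting K P) (e : K) (he : e ∈ P.pos) (j : ℕ) (hj : 1 ≤ j) :
    LambdaRing.adams P j (KRR.lamAlt P e) = KRR.lamAlt P e * KRR.bott P j e := by
  obtain ⟨L, g, hg, hL, hs⟩ := LamR.exists_splitting' hK [e] (by simp [he])
  obtain ⟨s, hs1, hs2⟩ := hs e (by simp)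
  apply hg.injective
  have hn : (P.aug e).toNat = s.card := by rw [← hg.aug_comp, ← hs2, LamR.card_eq_aug hs1, Int.toNat_natCast]
  have hlam : ∀ i, g (LambdaRing.LambdaOps.lam i e) = s.esymm i := fun i => by
    rw [hg.isLambdaHom, ← hs2, LamR.lam_multiset_sum s fun v hv => LamR.lam_line _ (hs1 v hv)]
  have halt : g (KRR.lamAlt P e) = (s.map fun u => 1 - u).prod := by
    rw [KRR.lamAlt, prod_one_sub, map_sum, hn]
    exact Finset.sum_congr rfl fun i _ => by rw [map_mul, map_pow, map_neg, map_one, hlam]
  obtain ⟨a, ha⟩ := LamR.exists_eq_map_univ s hn.symm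
  have hb : g (KRR.bott P j e) = (s.map fun u => ∑ k ∈ Finset.range j, u ^ k).prod := by
    rw [KRR.bott]
    show g.toIntAlgHom (MvPolynomial.aeval _ _) = _
    rw [← AlgHom.comp_apply, MvPolynomial.comp_aeval]
    have h2 : (fun i : Fin (P.aug e).toNat => g.toIntAlgHom (LambdaRing.LambdaOps.lam (i.1 + 1) e)) =
        fun i => MvPolynomial.aeval a (MvPolynomial.esymm (Fin (P.aug e).toNat) ℤ (i.1 + 1)) := funext fun i => by
      rw [MvPolynomial.aeval_esymm_eq_multiset_esymm, ← ha]
      exact hlam _
    rw [h2, ← MvPolynomial.comp_aeval, AlgHom.comp_apply]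
    have h3 : MvPolynomial.aeval (fun i : Fin (P.aug e).toNat => MvPolynomial.esymm (Fin (P.aug e).toNat) ℤ (i.1 + 1))
        (KRR.bottPoly j (P.aug e).toNat) = KRR.bottSym j (P.aug e).toNat := by
      rw [← MvPolynomial.esymmAlgHom_apply]
      have := (MvPolynomial.esymmAlgEquiv (Fin (P.aug e).toNat) ℤ (Fintype.card_fin _)).apply_symm_apply
        ⟨KRR.bottSym j (P.aug e).toNat, KRR.bottSym_isSymmetric j _⟩
      exact congrArg Subtype.val this
    rw [h3, KRR.bottSym, map_prod]
    conv_rhs => rw [ha, Multiset.map_map]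
    rw [Finset.prod_eq_multiset_prod]
    congr 1
    exact Multiset.map_congr rfl fun i _ => by simp
  rw [map_mul, halt, hb, LamR.map_adams hg, halt]
  let ψ : L.carrier →+* L.carrier :=
    RingHom.mk' ⟨⟨LambdaRing.adams L.posStr j, LamR.adams_one j⟩, fun a b => LamR.adams_mul hL j a b⟩ (LamR.adams_add L.posStr j)
  show ψ _ = _
  rw [map_multiset_prod, Multiset.map_map, ← Multiset.prod_map_mul]
  refine congrArg _ (Multiset.map_congr rfl fun u hu => ?_)
  rw [Function.comp_apply, map_sub, map_one, mul_neg_geom_sum]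
  congr 1
  exact LamR.adams_line _ (hs1 u hu) j

end Groth.Agent.S3792
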