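import Groth.Statements.S3795
import Groth.Agent.LamR.Filt

set_option autoImplicit false
universe v u
open CategoryTheory CategoryTheory.Limits AlgebraicGeometry
attribute [local instance] HasDerivedCategory.standard
open KRR

namespace Groth.Agent.S3795

/-- Let K be a λ-ring with positive structure having the splitting property, j ≥ 2, n ≥ 0 and x ∈ K. If
ψ^j(x) - j^n x lies in ℚF^{n+1} (some positive multiple lies in F^{n+1}, γ-filtration), then x lies
in ℚF^n (some positive multiple of x lies in F^n). -/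
theorem result (K : Type v) [CommRing K] [LambdaRing.LambdaOps K] (P : LambdaRing.PosStructure K) (hK : LambdaRing.HasSplitting K P) (j : ℕ) (hj : 2 ≤ j) (n : ℕ) (x : K)
    (hx : ∃ N : ℕ, 1 ≤ N ∧ (N : K) * (LambdaRing.adams P j x - (j : K) ^ n * x) ∈ LambdaRing.gammaFiltration P (n + 1)) :
    ∃ N : ℕ, 1 ≤ N ∧ (N : K) * x ∈ LambdaRing.gammaFiltration P n := by
  obtain ⟨N, hN, hx⟩ := hx
  suffices ∀ p ≤ n, ∃ M : ℕ, 1 ≤ M ∧ (M : K) * x ∈ LambdaRing.gammaFiltration P p from this n le_rfl
  intro p hp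
  induction p with
  | zero => exact ⟨1, le_rfl, LamR.mem_gammaFiltration_zero P _⟩
  | succ p ih =>
    obtain ⟨M, hM, hMx⟩ := ih (by omega)
    have hpow : j ^ p < j ^ n := Nat.pow_lt_pow_right hj (by omega)
    refine ⟨N * M * (j ^ n - j ^ p), Nat.mul_pos (Nat.mul_pos hN hM) (by omega), ?_⟩
    have h1 := LamR.smul_mem_gammaFiltration P (N : K) (LamR.adams_sub_mem hK j hMx)
    have h2 := LamR.smul_mem_gammaFiltration P (M : K) (LamR.gammaFiltration_anti P (show p + 1 ≤ n + 1 by omega) hx)
    have hψ : LambdaRing.adams P j ((M : K) * x) = (M : K) * LambdaRing.adams P j x := by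
      rw [← nsmul_eq_mul, ← LamR.adamsHom_apply, map_nsmul, nsmul_eq_mul, LamR.adamsHom_apply]
    rw [hψ] at h1
    have h3 := sub_mem h1 h2
    have e : ((N * M * (j ^ n - j ^ p) : ℕ) : K) * x =
        (N : K) * ((M : K) * LambdaRing.adams P j x - (j : K) ^ p * ((M : K) * x)) -
          (M : K) * ((N : K) * (LambdaRing.adams P j x - (j : K) ^ n * x)) := by
      rw [Nat.cast_mul, Nat.cast_mul, Nat.cast_sub hpow.le, Nat.cast_pow, Nat.cast_pow]
      ring
    rw [e]; exact h3

end Groth.Agent.S3795
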