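import Groth.Statements.S3797
import Groth.Agent.DCohLib.Pullback
import Groth.Agent.K0ResLib.Basic
import Groth.Agent.PullbackMod.LocFree
-- import your own Groth.Agent.* helpers here

set_option autoImplicit false
set_option backward.isDefEq.respectTransparency false
universe v u
open CategoryTheory CategoryTheory.Limits AlgebraicGeometry
attribute [local instance] HasDerivedCategory.standard
open KRR

namespace Groth.Agent.S3797

/-- For a morphism f : X ⟶ Y of connected Noetherian schemes and models (KX, PX, φX), (KY, PY, φY) of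
K(X) and K(Y), there is a unique additive map g : K(Y) ⟶ K(X) with g[E] = [f^*E] for every finite
locally free O_Y-module E (the pull-back f^K). (The published treatment adds that f^K is a
homomorphism of λ-rings; that is not asserted here.) -/
theorem result {X Y : Scheme.{u}} (f : X ⟶ Y) [IsNoetherian X] [ConnectedSpace ↥X] [IsNoetherian Y] [ConnectedSpace ↥Y]
    (KX : Type v) [CommRing KX] [LambdaRing.LambdaOps KX] (PX : LambdaRing.PosStructure KX) (φX : SGA6.Kvb X →+ KX) (hKX : KRR.IsModel X KX PX φX)
    (KY : Type v) [CommRing KY] [LambdaRing.LambdaOps KY] (PY : LambdaRing.PosStructure KY) (φY : SGA6.Kvb Y →+ KY) (hKY : KRR.IsModel Y KY PY φY) :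
    ∃! g : KY →+ KX, KRR.IsPull f φY φX g := by
  classical
  let P' : ObjectProperty Y.Modules := KRR.vbP Y
  have hP : ∀ E : Y.Modules, FlatMod.IsFinLocFree E → FlatMod.IsFinLocFree ((Scheme.Modules.pullback f).obj E) :=
    fun E hE => PullbackMod.isFinLocFree_pullback f E hE
  let g₁ : FreeAbelianGroup (Subtype P') →+ KX :=
    FreeAbelianGroup.lift fun E => φX (KRR.cl X ((Scheme.Modules.pullback f).obj E.1))
  have hg₁ : KZero.relSub P' ≤ g₁.ker := by
    refine (AddSubgroup.closure_le _).2 ?_
    rintro _ ⟨S, h₁, h₂, h₃, hS, rfl⟩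
    have h := congrArg φX (K0ResLib.clSub_add (P := KRR.vbP X)
      (DCohLib.shortExact_pullback_of_isFlat (f := f) S hS (PullbackMod.isFlat_of_isFinLocFree _ h₃))
      (hP _ h₁) (hP _ h₂) (hP _ h₃))
    rw [map_add] at h
    simp only [SetLike.mem_coe, AddMonoidHom.mem_ker, map_sub, g₁, FreeAbelianGroup.lift_apply_of]
    rw [sub_sub, sub_eq_zero]
    exact h
  let e := AddEquiv.ofBijective φY hKY.bijective
  let g : KY →+ KX := (QuotientAddGroup.lift (KZero.relSub P') g₁ hg₁).comp e.symm.toAddMonoidHom
  have hg : KRR.IsPull f φY φX g := fun E hE => by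
    have he : e.symm (φY (KRR.cl Y E)) = KRR.cl Y E := e.symm_apply_apply _
    show QuotientAddGroup.lift (KZero.relSub P') g₁ hg₁ (e.symm (φY (KRR.cl Y E))) = _
    rw [he]
    show QuotientAddGroup.lift (KZero.relSub P') g₁ hg₁ (KZero.clSub P' E) = _
    rw [K0ResLib.clSub_of (show P' E from hE)]
    exact FreeAbelianGroup.lift_apply_of _ _
  refine ⟨g, hg, fun g' hg' => AddMonoidHom.ext fun y => ?_⟩
  obtain ⟨c, rfl⟩ := hKY.bijective.2 y
  obtain ⟨z, rfl⟩ := QuotientAddGroup.mk_surjective c
  induction z using FreeAbelianGroup.induction_on with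
  | zero => exact (congrArg g' (map_zero φY)).trans (g'.map_zero.trans ((congrArg g (map_zero φY)).trans g.map_zero).symm)
  | of E =>
    have h : (QuotientAddGroup.mk (FreeAbelianGroup.of E) : SGA6.Kvb Y) = KRR.cl Y E.1 :=
      (K0ResLib.clSub_of (P := KRR.vbP Y) E.2).symm
    rw [h, hg' E.1 E.2, hg E.1 E.2]
  | neg E ih => rw [QuotientAddGroup.mk_neg, map_neg, map_neg, map_neg, ih]
  | add a b ha hb => rw [QuotientAddGroup.mk_add, map_add, map_add, map_add, ha, hb]

end Groth.Agent.S3797
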