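import Groth.Statements.S3798
import Groth.Agent.RegLib.KMain
-- import your own Groth.Agent.* helpers here

set_option autoImplicit false
universe v u
open CategoryTheory CategoryTheory.Limits AlgebraicGeometry
attribute [local instance] HasDerivedCategory.standard
open KRR

namespace Groth.Agent.S3798

/-- Let Y be a connected Noetherian scheme, p : P^n_Y ⟶ Y, and (KP, PP, φP), (KY, PY, φY) models of
K(P^n_Y), K(Y). Then there is a unique additive map g : K(P^n_Y) ⟶ K(Y) with g[F] = [p_* F] for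
every finite locally free F which is regular relative to p (the push-forward p_K). -/
theorem result (n : ℕ) (Y : Scheme.{u}) [IsNoetherian Y] [ConnectedSpace ↥Y]
    (KP : Type v) [CommRing KP] [LambdaRing.LambdaOps KP] (PP : LambdaRing.PosStructure KP) (φP : SGA6.Kvb (KRR.PY n Y) →+ KP) (hKP : KRR.IsModel (KRR.PY n Y) KP PP φP)
    (KY : Type v) [CommRing KY] [LambdaRing.LambdaOps KY] (PY : LambdaRing.PosStructure KY) (φY : SGA6.Kvb Y →+ KY) (hKY : KRR.IsModel Y KY PY φY) :
    ∃! g : KP →+ KY, KRR.IsPushPr n Y φP φY g := by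
  obtain ⟨φ, hφ⟩ := Groth.Agent.RegLib.exists_pushK (r := n) (S := Y)
  let eP := AddEquiv.ofBijective φP hKP.bijective
  have hg : KRR.IsPushPr n Y φP φY (φY.comp (φ.comp eP.symm.toAddMonoidHom)) := by
    intro F hF hreg
    show φY (φ (eP.symm (eP (KRR.cl (KRR.PY n Y) F)))) = _
    rw [eP.symm_apply_apply, hφ F hF fun j q hq => Groth.Agent.RegLib.van_of_isReg hreg hq (by omega)]
  refine ⟨_, hg, fun g' hg' => ?_⟩
  obtain ⟨f, hf⟩ := Groth.Agent.RegLib.exists_incl (r := n) (S := Y)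
  refine AddMonoidHom.ext fun x => ?_
  obtain ⟨y, rfl⟩ := hKP.bijective.2 x
  obtain ⟨z, rfl⟩ := (Groth.Agent.RegLib.bijective_incl hf).2 y
  refine DFunLike.congr_fun (show (g'.comp φP).comp f =
    ((φY.comp (φ.comp eP.symm.toAddMonoidHom)).comp φP).comp f from ?_) z
  refine QuotientAddGroup.addMonoidHom_ext _ (FreeAbelianGroup.lift_ext _ _ fun Z => ?_)
  show g' (φP (f (QuotientAddGroup.mk (FreeAbelianGroup.of Z)))) =
    (φY.comp (φ.comp eP.symm.toAddMonoidHom)) (φP (f (QuotientAddGroup.mk (FreeAbelianGroup.of Z))))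
  rw [Groth.Agent.RegLib.mk_of Z, hf _ Z.2, hg' _ Z.2.1 Z.2.2, hg _ Z.2.1 Z.2.2]

end Groth.Agent.S3798
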