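import Groth.Statements.S3802
import Groth.Agent.S3780
import Groth.Agent.LamR.Filt

set_option autoImplicit false
universe v u
open CategoryTheory CategoryTheory.Limits AlgebraicGeometry
attribute [local instance] HasDerivedCategory.standard
open KRR

namespace Groth.Agent.S3802

open Finset LambdaRing Groth.Agent.LamR Groth.Agent.KRRLam in
theorem annihilator {K : Type v} [CommRing K] [LambdaOps K] {P : PosStructure K} {c : K} {r : ℕ} (hr : P.aug c = r + 1)
    {inst : LambdaOps (AdjoinRoot (KRR.extPoly P c))}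
    (hext : ∀ (i : ℕ) x, AdjoinRoot.of (KRR.extPoly P c) (LambdaOps.lam i x) =
      @LambdaOps.lam _ _ inst i (AdjoinRoot.of (KRR.extPoly P c) x))
    (hroot : ∀ i : ℕ, 2 ≤ i → @LambdaOps.lam _ _ inst i (AdjoinRoot.root (KRR.extPoly P c)) = 0)
    (z : AdjoinRoot (KRR.extPoly P c)) (hz : z * (1 - AdjoinRoot.root (KRR.extPoly P c)) = 0) :
    ∃ a : K, z = AdjoinRoot.of (KRR.extPoly P c) a * ∑ i ∈ range (r + 1), (-1 : AdjoinRoot (KRR.extPoly P c)) ^ i *
      @LambdaOps.lam _ _ inst i (AdjoinRoot.of (KRR.extPoly P c) c - AdjoinRoot.root (KRR.extPoly P c)) := by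
  letI := inst
  haveI : Nontrivial K := P.aug.domain_nontrivial
  have hn : (P.aug c).toNat = r + 1 := by omega
  let d : ℕ → Polynomial K := fun i => ∑ k ∈ range (i + 1), Polynomial.C (LambdaOps.lam k c) * (-Polynomial.X) ^ (i - k)
  have hd : ∀ i, d (i + 1) = Polynomial.C (LambdaOps.lam (i + 1) c) - Polynomial.X * d i := fun i => by
    simp only [d]
    rw [sum_range_succ, Nat.sub_self, pow_zero, mul_one, add_comm, mul_sum, sub_eq_add_neg, ← sum_neg_distrib]
    refine congrArg _ (sum_congr rfl fun k hk => ?_)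
    rw [mem_range] at hk
    rw [show i + 1 - k = i - k + 1 by omega, pow_succ]; ring
  have hmk : ∀ i, AdjoinRoot.mk (KRR.extPoly P c) (d i) =
      LambdaOps.lam i (AdjoinRoot.of (KRR.extPoly P c) c - AdjoinRoot.root (KRR.extPoly P c)) := by
    intro i
    induction i with
    | zero => simp [d, LambdaOps.lam_zero]
    | succ i ih =>
      have h := lam_succ_thin_add hroot i (AdjoinRoot.of (KRR.extPoly P c) c - AdjoinRoot.root (KRR.extPoly P c))
      rw [add_sub_cancel, ← hext] at h
      rw [hd, map_sub, map_mul, AdjoinRoot.mk_C, AdjoinRoot.mk_X, ih, h]; ring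
  let q : Polynomial K := ∑ i ∈ range (r + 1), (-1) ^ i * d i
  let p1 : K := ∑ i ∈ range (r + 1 + 1), (-1) ^ i * LambdaOps.lam i c
  have htop : (-1 : Polynomial K) ^ (r + 1) * d (r + 1) = KRR.extPoly P c := by
    rw [KRR.extPoly, hn, mul_sum]
    refine sum_congr rfl fun k hk => ?_
    rw [mem_range] at hk
    obtain ⟨j, hj⟩ : ∃ j, r + 1 = k + j := ⟨r + 1 - k, by omega⟩
    rw [hj, Nat.add_sub_cancel_left, neg_pow (Polynomial.X : Polynomial K), map_mul, map_pow, map_neg, map_one, pow_add]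
    have hh : (-1 : Polynomial K) ^ j * (-1) ^ j = 1 := by rw [← pow_add, Even.neg_one_pow ⟨j, rfl⟩]
    linear_combination ((-1 : Polynomial K) ^ k * Polynomial.C (LambdaOps.lam k c) * Polynomial.X ^ j) * hh
  have hid : ∀ n, (Polynomial.X - 1) * ∑ i ∈ range (n + 1), (-1) ^ i * d i =
      (-1 : Polynomial K) ^ (n + 1) * d (n + 1) - ∑ i ∈ range (n + 1 + 1), (-1) ^ i * Polynomial.C (LambdaOps.lam i c) := by
    intro n
    induction n with
    | zero => simp [hd, d, sum_range_succ, LambdaOps.lam_zero]; ring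
    | succ n ih =>
      rw [sum_range_succ, mul_add, ih, sum_range_succ _ (n + 1 + 1), hd (n + 1), pow_succ (-1 : Polynomial K) (n + 1)]
      ring
  have hq : (Polynomial.X - 1) * q = KRR.extPoly P c - Polynomial.C p1 := by
    rw [hid r, htop]; simp [p1, map_sum, map_mul]
  obtain ⟨w, rfl⟩ := AdjoinRoot.mk_surjective z
  have hmon := extPoly_monic P c
  have hw0 : AdjoinRoot.mk (KRR.extPoly P c) (w %ₘ KRR.extPoly P c) = AdjoinRoot.mk _ w := by
    conv_rhs => rw [← Polynomial.modByMonic_add_div w (KRR.extPoly P c)]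
    rw [map_add, map_mul, AdjoinRoot.mk_self, zero_mul, add_zero]
  set v := w %ₘ KRR.extPoly P c with hv
  have hdeg : v.natDegree < r + 1 := by
    have := Polynomial.natDegree_modByMonic_lt w hmon (fun h => by
      have := extPoly_natDegree P c; rw [h, hn] at this; simp at this)
    rwa [extPoly_natDegree, hn] at this
  rw [← hw0] at hz ⊢
  have hdvd : KRR.extPoly P c ∣ (Polynomial.X - 1) * v := by
    rw [← AdjoinRoot.mk_eq_zero, map_mul, map_sub, map_one, AdjoinRoot.mk_X]
    linear_combination -hz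
  obtain ⟨g, hg⟩ := hdvd
  have hg0 : g.natDegree = 0 := by
    rcases eq_or_ne g 0 with rfl | hne
    · exact Polynomial.natDegree_zero
    have h1 : ((Polynomial.X - 1) * v).natDegree ≤ r + 1 := by
      refine Polynomial.natDegree_mul_le.trans ?_
      have : (Polynomial.X - 1 : Polynomial K).natDegree ≤ 1 := by
        rw [← Polynomial.C_1]; exact (Polynomial.natDegree_X_sub_C _).le
      omega
    rw [hg, hmon.natDegree_mul' hne, extPoly_natDegree, hn] at h1
    omega
  obtain ⟨a, rfl⟩ : ∃ a, Polynomial.C a = g := ⟨g.coeff 0, (Polynomial.eq_C_of_natDegree_eq_zero hg0).symm⟩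
  have h1 : (Polynomial.X - 1) * (v - Polynomial.C a * q) = Polynomial.C (a * p1) := by
    rw [mul_sub, hg, mul_left_comm, hq, map_mul]; ring
  have ha : a * p1 = 0 := by
    have := congrArg (Polynomial.eval 1) h1
    simpa using this.symm
  rw [ha, map_zero] at h1
  have h2 : v = Polynomial.C a * q := by
    rw [← sub_eq_zero]
    exact ((Polynomial.monic_X_sub_C (1 : K)).mul_right_eq_zero_iff).1 (by rwa [map_one])
  refine ⟨a, ?_⟩
  rw [h2, map_mul, AdjoinRoot.mk_C, map_sum]
  exact congrArg _ (Finset.sum_congr rfl fun i _ => by rw [map_mul, map_pow, map_neg, map_one, hmk])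

open LambdaRing in

/-- Let K be a λ-ring with positive structure having the splitting property, c positive with ε(c) = r +
1, and K_c = K[T]/(p_c) with generator ℓ, equipped with a λ-structure extending that of K with
λ^i(ℓ) = 0 for i ≥ 2 and a positive structure making K ⟶ K_c an extension with ℓ a line element and
c - ℓ positive (when r ≥ 1), having the splitting property; let f : K_c ⟶ K be the associated
K-linear functional (f(ℓ^i) = σ^i(c) for i ≤ r). If z ∈ K_c satisfies z (1 - ℓ) = 0, then z = f(z) ·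
λ_{-1}(c - ℓ), where λ_{-1}(c - ℓ) = Σ_{i ≤ r} (-1)^i λ^i(c - ℓ). -/
theorem result (K : Type v) [CommRing K] [LambdaRing.LambdaOps K] (P : LambdaRing.PosStructure K) (hK : LambdaRing.HasSplitting K P) (c : K) (hc : c ∈ P.pos) (r : ℕ) (hr : P.aug c = r + 1)
    (inst : LambdaRing.LambdaOps (AdjoinRoot (KRR.extPoly P c))) (Pc : @LambdaRing.PosStructure _ _ inst)
    (hext : @LambdaRing.IsExtension K _ _ _ _ inst P Pc (AdjoinRoot.of (KRR.extPoly P c)))
    (hroot : ∀ i : ℕ, 2 ≤ i → @LambdaRing.LambdaOps.lam _ _ inst i (AdjoinRoot.root (KRR.extPoly P c)) = 0)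
    (hline : @LambdaRing.PosStructure.IsLine _ _ inst Pc (AdjoinRoot.root (KRR.extPoly P c)))
    (hpos : 1 ≤ r → AdjoinRoot.of (KRR.extPoly P c) c - AdjoinRoot.root (KRR.extPoly P c) ∈ (@LambdaRing.PosStructure.pos _ _ inst Pc))
    (hsplit : @LambdaRing.HasSplitting _ _ inst Pc)
    (f : AdjoinRoot (KRR.extPoly P c) →ₗ[K] K)
    (hf : ∀ i : ℕ, i ≤ r → f (AdjoinRoot.root (KRR.extPoly P c) ^ i) = KRR.sigma i c)
    (z : AdjoinRoot (KRR.extPoly P c)) (hz : z * (1 - AdjoinRoot.root (KRR.extPoly P c)) = 0) :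
    z = AdjoinRoot.of (KRR.extPoly P c) (f z) *
      @KRR.lamAlt _ _ inst Pc (AdjoinRoot.of (KRR.extPoly P c) c - AdjoinRoot.root (KRR.extPoly P c)) := by
  letI := inst
  have haug : Pc.aug (AdjoinRoot.of (KRR.extPoly P c) c - AdjoinRoot.root (KRR.extPoly P c)) = r := by
    rw [map_sub, hext.aug_comp, hline.2, hr]; ring
  have hlam : ∀ (i : ℕ) x, AdjoinRoot.of (KRR.extPoly P c) (LambdaRing.LambdaOps.lam i x) =
      @LambdaRing.LambdaOps.lam _ _ inst i (AdjoinRoot.of (KRR.extPoly P c) x) := hext.isLambdaHom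
  obtain ⟨a, rfl⟩ := annihilator hr hlam hroot z hz
  have hL : KRR.lamAlt Pc (AdjoinRoot.of (KRR.extPoly P c) c - AdjoinRoot.root (KRR.extPoly P c)) =
      ∑ i ∈ Finset.range (r + 1), (-1 : AdjoinRoot (KRR.extPoly P c)) ^ i *
      LambdaRing.LambdaOps.lam i (AdjoinRoot.of (KRR.extPoly P c) c - AdjoinRoot.root (KRR.extPoly P c)) := by
    rw [KRR.lamAlt, haug, Int.toNat_natCast]
  have hsmul : ∀ (b : K) (y : AdjoinRoot (KRR.extPoly P c)), f (AdjoinRoot.of (KRR.extPoly P c) b * y) = b * f y := fun b y => by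
    rw [← AdjoinRoot.algebraMap_eq, ← Algebra.smul_def, map_smul, smul_eq_mul]
  have h1 : f (∑ i ∈ Finset.range (r + 1), (-1 : AdjoinRoot (KRR.extPoly P c)) ^ i *
      LambdaRing.LambdaOps.lam i (AdjoinRoot.of (KRR.extPoly P c) c - AdjoinRoot.root (KRR.extPoly P c))) = 1 := by
    rw [map_sum, Finset.sum_eq_single_of_mem 0 (by simp) fun i _ hi => ?_]
    · have := Groth.Agent.S3780.result K P hK c hc r hr inst (fun i x => (hlam i x).symm) hroot f hf 0
      simpa using this
    · rw [show (-1 : AdjoinRoot (KRR.extPoly P c)) ^ i = AdjoinRoot.of (KRR.extPoly P c) ((-1) ^ i) by simp, hsmul,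
        Groth.Agent.S3780.result K P hK c hc r hr inst (fun i x => (hlam i x).symm) hroot f hf i, if_neg hi, mul_zero]
  rw [hL, hsmul, h1, mul_one]

end Groth.Agent.S3802
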