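import Groth.Statements.S3808
import Groth.Agent.DiffSmLib.Quot

set_option autoImplicit false
universe u
open scoped TensorProduct
open PP16

namespace Groth.Agent.S3808

/-- Let A → B be a ring map, R a multiplicative subset of A, S one of B containing the image of R, and
A' = R⁻¹A, B' = S⁻¹B with the induced map A' → B'. Then the canonical map P^n_{B'/A} → P^n_{B'/A'}
is bijective. -/
theorem result (n : ℕ) (A B A' B' : Type u) [CommRing A] [CommRing B] [Algebra A B]
    [CommRing A'] [CommRing B'] [Algebra A A'] [Algebra B B'] [Algebra A' B'] [Algebra A B']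
    [IsScalarTower A A' B'] [IsScalarTower A B B'] (R : Submonoid A) (S : Submonoid B) [IsLocalization R A']
    [IsLocalization S B'] (hRS : ∀ r ∈ R, algebraMap A B r ∈ S) :
    Function.Bijective (PP16.map n A B' A' B') := by
  obtain ⟨hs, hk⟩ := Groth.Agent.DiffSmLib.map_tower A A' B' n
  refine ⟨(RingHom.injective_iff_ker_eq_bot (PP16.map n A B' A' B').toRingHom).2 (hk.trans ?_), hs⟩
  have h0 : KaehlerDifferential.ideal A A' = ⊥ := by
    rw [← KaehlerDifferential.span_range_eq_ideal, Ideal.span_eq_bot]
    rintro _ ⟨x, rfl⟩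
    obtain ⟨⟨a, r⟩, h⟩ := IsLocalization.surj R x
    have hu : IsUnit (algebraMap A (A' ⊗[A] A') r) := by
      rw [IsScalarTower.algebraMap_apply A A' (A' ⊗[A] A')]
      exact (IsLocalization.map_units A' r).map _
    refine hu.mul_right_eq_zero.1 ?_
    rw [mul_sub, ← Algebra.smul_def, ← Algebra.smul_def, ← TensorProduct.tmul_smul, TensorProduct.smul_tmul', sub_eq_zero,
      Algebra.smul_def, show algebraMap A A' r * x = algebraMap A A' a by rw [mul_comm]; exact h,
      Algebra.algebraMap_eq_smul_one, TensorProduct.tmul_smul, TensorProduct.smul_tmul']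
  exact Ideal.map_eq_bot_iff_le_ker _ |>.2 (Ideal.map_le_iff_le_comap.2 fun x hx => by
    rw [h0, Ideal.mem_bot] at hx
    rw [hx]
    exact zero_mem _)

end Groth.Agent.S3808
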