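import Groth.Statements.S3820
import Groth.Agent.DiffSmLib.Transfer
import Groth.Agent.SymGrLib.Criterion

set_option autoImplicit false
universe u
open scoped TensorProduct
open PP16

namespace Groth.Agent.S3820

/-- Let B be an A-algebra which is formally smooth (for the discrete topologies). Then Spec B is
differentially smooth over Spec A: the module of differentials is projective and the canonical
surjections Sym^n(Ω_{B/A}) → I^n/I^(n+1) are bijective for all n. -/
theorem result (A B : Type u) [CommRing A] [CommRing B] [Algebra A B]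
    [Algebra.FormallySmooth A B] : PP16.IsDiffSmooth A B := by
  haveI : Algebra.FormallySmooth B ((B ⊗[A] B) ⧸ KaehlerDifferential.ideal A B) := by
    refine Algebra.FormallySmooth.of_equiv (A := B)
      (AlgEquiv.ofBijective (Algebra.ofId B _) ⟨fun a b h => ?_, fun r => ?_⟩)
    · have h' := Ideal.Quotient.eq.1 h
      have := (RingHom.mem_ker).1 (show algebraMap B (B ⊗[A] B) a - algebraMap B (B ⊗[A] B) b ∈
        RingHom.ker (Groth.Agent.DiffSmLib.mulHom A B) from h')
      rwa [map_sub, Groth.Agent.DiffSmLib.mulHom_algebraMap, Groth.Agent.DiffSmLib.mulHom_algebraMap, sub_eq_zero] at this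
    · obtain ⟨r, rfl⟩ := Ideal.Quotient.mk_surjective r
      exact ⟨Groth.Agent.DiffSmLib.mulHom A B r,
        (Ideal.Quotient.eq.2 (Groth.Agent.DiffSmLib.sub_algebraMap_mem A B r)).symm⟩
  have hs : CAlgX.IsAdicFormallySmooth B (B ⊗[A] B) (KaehlerDifferential.ideal A B) := fun R _ _ J hJ ψ _ =>
    ⟨Algebra.FormallySmooth.lift J ⟨2, hJ⟩ ψ, Algebra.FormallySmooth.comp_lift J ⟨2, hJ⟩ ψ⟩
  obtain ⟨hP, hS⟩ := (Groth.Agent.SymGrLib.isAdicFormallySmooth_iff_symGr (A := B) (KaehlerDifferential.ideal A B)).1 hs
  exact Groth.Agent.DiffSmLib.isDiffSmooth_of_symGr hP hS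

end Groth.Agent.S3820
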