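import Groth.Statements.S3825
import Groth.Agent.QReg16Lib.Basic

set_option autoImplicit false
universe u
open QReg16

namespace Groth.Agent.S3825

/-- a) iff c) (affine local form): let A be a local ring and I a proper ideal generated by some
quasi-regular sequence. For a finite family (f_i) of elements of I, the following are equivalent:
(a) (f_i) is a quasi-regular sequence generating I; (c) the classes of the f_i form a basis of the
A/I-module I/I² (equivalently, b): (f_i) is a minimal system of generators of I). -/
theorem result {A : Type u} [CommRing A] [IsLocalRing A]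
    (I : Ideal A) (hI : I ≤ IsLocalRing.maximalIdeal A)
    (hq : ∃ (r : ℕ) (g : Fin r → A), CAlgX.IsQuasiRegular g ∧ Ideal.span (Set.range g) = I)
    {m : ℕ} (f : Fin m → I) :
    (CAlgX.IsQuasiRegular (fun i => (f i : A)) ∧ Ideal.span (Set.range fun i => (f i : A)) = I) ↔
      (LinearIndependent (A ⧸ I) (fun i => I.toCotangent (f i)) ∧
        Submodule.span (A ⧸ I) (Set.range fun i => I.toCotangent (f i)) = ⊤) := by
  classical
  obtain ⟨r, g, hg, hgI⟩ := hq
  constructor
  · rintro ⟨hf, hfI⟩
    exact ⟨Groth.Agent.QReg16Lib.linearIndependent_of_isQuasiRegular _ hfI hf,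
      Groth.Agent.QReg16Lib.span_quotient_toCotangent_eq_top _ hfI⟩
  · rintro ⟨hli, hsp⟩
    let J' : Ideal A := Ideal.span (Set.range fun i => (f i : A))
    have hle : J' ≤ I := Ideal.span_le.2 (by rintro _ ⟨i, rfl⟩; exact (f i).2)
    have hfI : J' = I := by
      refine le_antisymm hle (Submodule.le_of_le_smul_of_le_jacobson_bot ⟨Finset.univ.image g, by simpa using hgI⟩
        (hI.trans (IsLocalRing.maximalIdeal_le_jacobson _)) fun x hx => ?_)
      obtain ⟨c, hc⟩ := (Submodule.mem_span_range_iff_exists_fun (A ⧸ I)).1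
        (show I.toCotangent ⟨x, hx⟩ ∈ Submodule.span (A ⧸ I) _ by rw [hsp]; exact Submodule.mem_top)
      choose s hs using fun i => Ideal.Quotient.mk_surjective (c i)
      have h0 : I.toCotangent ((⟨x, hx⟩ : I) - ∑ i, s i • f i) = 0 := by
        rw [map_sub, map_sum, ← hc, sub_eq_zero]
        refine Finset.sum_congr rfl fun i _ => ?_
        rw [map_smul, ← hs i, ← Ideal.Quotient.algebraMap_eq, algebraMap_smul]
      rw [Ideal.toCotangent_eq_zero, pow_two] at h0
      rw [show x = ∑ i, s i * (f i : A) + ((⟨x, hx⟩ - ∑ i, s i • f i : I) : A) by simp]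
      exact Submodule.add_mem_sup (Submodule.sum_mem _ fun i _ => J'.mul_mem_left _ (Ideal.subset_span ⟨i, rfl⟩))
        h0
    exact ⟨Groth.Agent.QRegLib.isQuasiRegular_of_symGr _ I hfI
      (Groth.Agent.QRegLib.symGrBijective_of_isQuasiRegular g I hgI hg) hli, hfI⟩

end Groth.Agent.S3825
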