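import Groth.Statements.S3829
import Groth.Agent.SmoothRegLib.Fp
import Groth.Agent.RegIdealLib.Immersion
-- import your own Groth.Agent.* helpers here

set_option autoImplicit false
universe u
open CategoryTheory CategoryTheory.Limits AlgebraicGeometry TopologicalSpace
open Unram17

namespace Groth.Agent.S3829

/-- c) implies a) (case of a closed immersion): let f : X → S and h : Y → S be locally of finite
presentation, j : Y → X a closed immersion over S and y a point of Y. If h is smooth on a
neighbourhood of y and, on some affine open neighbourhood of j(y) in X, the ideal of j is generated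
by a regular sequence (j is a regular immersion near y), then f is smooth on an open neighbourhood
of j(y). -/
theorem result {X Y S : Scheme.{u}} (f : X ⟶ S) (h : Y ⟶ S)
    [LocallyOfFinitePresentation f] [LocallyOfFinitePresentation h] (j : Y ⟶ X) [IsClosedImmersion j]
    (hj : j ≫ f = h) (y : ↥Y) (hy : ∃ V : Y.Opens, y ∈ V ∧ Smooth (V.ι ≫ h))
    (hreg : ∃ (U : X.Opens) (hU : IsAffineOpen U), j y ∈ U ∧
      ∃ rs : List Γ(X, U), RingTheory.Sequence.IsRegular Γ(X, U) rs ∧ j.ker.ideal ⟨U, hU⟩ = Ideal.ofList rs) :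
    ∃ U : X.Opens, j y ∈ U ∧ Smooth (U.ι ≫ f) := by
  subst hj
  obtain ⟨V, hyV, hV⟩ := hy
  have hYs : y ∈ (j ≫ f).smoothLocus := by
    have h1 : (⟨y, hyV⟩ : V.toScheme) ∈ (V.ι ≫ j ≫ f).smoothLocus := by
      rw [Scheme.Hom.smoothLocus_eq_top]; trivial
    rw [← Scheme.Hom.preimage_smoothLocus_eq] at h1
    exact h1
  obtain ⟨U, hU, hyU, rs, hrs, hker⟩ := hreg
  letI : Algebra Γ(X, U) (X.presheaf.stalk (j y)) := TopCat.Presheaf.algebra_section_stalk X.presheaf ⟨j y, hyU⟩
  haveI := hU.isLocalization_stalk ⟨j y, hyU⟩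
  haveI : Module.Flat Γ(X, U) (X.presheaf.stalk (j y)) :=
    IsLocalization.flat _ (hU.primeIdealOf ⟨j y, hyU⟩).asIdeal.primeCompl
  have hc : IsClosedImmersion (j ∣_ U) := IsZariskiLocalAtTarget.restrict (P := @IsClosedImmersion) inferInstance U
  have hk : RingHom.ker (j.stalkMap y).hom = Ideal.ofList (rs.map (algebraMap Γ(X, U) (X.presheaf.stalk (j y)))) := by
    rw [Groth.Agent.RegIdealLib.ker_stalkMap j hU hc y hyU, ← Scheme.Hom.ker_apply j ⟨U, hU⟩, hker, Ideal.map_ofList]
    rfl
  have hs : j y ∈ f.smoothLocus := Groth.Agent.SmoothRegLib.formallySmooth_stalk_of_regular' f j y hYs _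
    (RingTheory.Sequence.IsWeaklyRegular.of_flat (S := X.presheaf.stalk (j y)) hrs.toIsWeaklyRegular) hk
  refine ⟨f.smoothLocus, hs, ?_⟩
  rw [← Scheme.Hom.smoothLocus_eq_top_iff, ← Scheme.Hom.preimage_smoothLocus_eq, eq_top_iff]
  rintro z -
  exact z.2

end Groth.Agent.S3829
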