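import Groth.Statements.S3834
import Mathlib
import Groth.Agent.RatDense.Basic

set_option autoImplicit false
universe u
open CategoryTheory CategoryTheory.Limits AlgebraicGeometry TopologicalSpace
open Rat20

namespace Groth.Agent.S3834

/-- Let X = Spec A be an affine scheme, with A Noetherian, or A reduced with finitely many minimal
primes. Then an open subset U of X is schematically dense if and only if it contains an open subset
of the form X_t with t a regular element of A = Γ(X, O_X). -/
theorem result (X : Scheme.{u}) [IsAffine X]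
    (hX : IsNoetherian X ∨ (IsReduced X ∧ (irreducibleComponents ↥X).Finite)) (U : X.Opens) :
    CInt.IsSchematicallyDense U ↔ ∃ t : Γ(X, ⊤), t ∈ nonZeroDivisors Γ(X, ⊤) ∧ X.basicOpen t ≤ U := by
  have hA : IsAffineOpen (⊤ : X.Opens) := isAffineOpen_top X
  constructor
  swap
  · rintro ⟨t, ht, htU⟩
    refine Groth.Agent.RatDense.mono htU (Groth.Agent.RatDense.of_germ_regular t fun x => ?_)
    letI := TopCat.Presheaf.algebra_section_stalk X.presheaf (⟨x, trivial⟩ : (⊤ : X.Opens))
    haveI := hA.isLocalization_stalk ⟨x, trivial⟩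
    exact IsLocalization.map_nonZeroDivisors_le (hA.primeIdealOf ⟨x, trivial⟩).asIdeal.primeCompl
      (X.presheaf.stalk x) (Submonoid.mem_map_of_mem _ ht)
  intro hU
  let A := Γ(X, ⊤)
  let I : Ideal A := PrimeSpectrum.vanishingIdeal (hA.fromSpec ⁻¹' (U : Set X))ᶜ
  have hmemU : ∀ y ∈ U, ∃ i ∈ I, y ∈ X.basicOpen i := fun y hy => by
    obtain ⟨i, hi, hyi⟩ := hA.exists_basicOpen_le (V := U) ⟨y, hy⟩ trivial
    refine ⟨i, ?_, hyi⟩
    rw [PrimeSpectrum.mem_vanishingIdeal]
    intro q hq
    by_contra hne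
    refine hq (hi ?_)
    have : q ∈ hA.fromSpec ⁻¹ᵁ X.basicOpen i := by
      rw [hA.fromSpec_preimage_basicOpen]; exact hne
    exact this
  suffices ∃ t ∈ I, t ∈ nonZeroDivisors A by
    obtain ⟨t, htI, ht⟩ := this
    refine ⟨t, ht, fun y hy => ?_⟩
    by_contra hne
    obtain ⟨q, rfl⟩ : y ∈ Set.range hA.fromSpec := by rw [hA.range_fromSpec]; trivial
    have h1 : q ∈ hA.fromSpec ⁻¹ᵁ X.basicOpen t := hy
    rw [hA.fromSpec_preimage_basicOpen] at h1
    exact h1 ((PrimeSpectrum.mem_vanishingIdeal _ _).1 htI q hne)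
  -- an ideal killed by a nonzero element cannot define a schematically dense open
  have key : ∀ s : A, (∀ i ∈ I, i * s = 0) → s = 0 := fun s hs => by
    refine Groth.Agent.RatDense.eq_zero_of_res hU s (Groth.Agent.RatDense.eq_zero_of_germ _ fun y hy => ?_)
    obtain ⟨i, hiI, hyi⟩ := hmemU y hy.2
    have h1 := congrArg (X.presheaf.germ ⊤ y trivial) (hs i hiI)
    rw [map_zero, map_mul] at h1
    exact (TopCat.Presheaf.germ_res_apply _ _ _ _ _).trans
      (((X.mem_basicOpen i y trivial).1 hyi).mul_right_eq_zero.1 h1)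
  by_contra hne
  push Not at hne
  rcases hX with hX | ⟨hX, hfin⟩
  · haveI := hX
    haveI : IsNoetherianRing A := IsLocallyNoetherian.component_noetherian ⟨⊤, hA⟩
    have hsub : (I : Set A) ⊆ ⋃ p ∈ associatedPrimes A A, (p : Set A) := fun a ha => by
      rw [biUnion_associatedPrimes_eq_compl_nonZeroDivisors]
      exact hne a ha
    obtain ⟨p, hp, hIp⟩ := (Ideal.subset_union_prime_finite (associatedPrimes.finite A A) ⊥ ⊥
      fun p hp _ _ => (AssociatedPrimes.mem_iff.1 hp).1).1 hsub
    obtain ⟨hpp, s, hs⟩ := isAssociatedPrime_iff.1 (AssociatedPrimes.mem_iff.1 hp)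
    have hs0 : s = 0 := key s fun i hi => by
      have := hs.le (hIp hi)
      simpa [Submodule.mem_colon_singleton] using this
    refine hpp.ne_top ((Ideal.eq_top_iff_one _).2 (hs.ge ?_))
    simp [Submodule.mem_colon_singleton, hs0]
  · haveI := hX
    have hfinA : (minimalPrimes A).Finite := by
      have hc : (irreducibleComponents (PrimeSpectrum A)).Finite := by
        let e : PrimeSpectrum A ≃ₜ X := Scheme.Hom.homeomorph X.isoSpec.inv
        refine Set.Finite.of_finite_image (f := Set.image e) (hfin.subset ?_) e.injective.image_injective.injOn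
        rintro _ ⟨Z, hZ, rfl⟩
        refine ⟨hZ.1.image e e.continuous.continuousOn, fun T hT hle => ?_⟩
        have h1 := hZ.2 (hT.image e.symm e.symm.continuous.continuousOn) (fun z hz => ⟨e z, hle ⟨z, hz, rfl⟩, e.symm_apply_apply z⟩)
        exact fun z hz => ⟨e.symm z, h1 ⟨z, hz, rfl⟩, e.apply_symm_apply z⟩
      exact (PrimeSpectrum.vanishingIdeal_irreducibleComponents (R := A)) ▸ hc.image _
    have hsub : (I : Set A) ⊆ ⋃ p ∈ minimalPrimes A, (p : Set A) := fun a ha => by
      have h1 := hne a ha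
      rw [mem_nonZeroDivisors_iff_right] at h1
      push Not at h1
      obtain ⟨b, hb, hb0⟩ := h1
      by_contra hall
      simp only [Set.mem_iUnion, not_exists] at hall
      apply hb0
      have h2 : b ∈ nilradical A := by
        rw [nilradical, Ideal.zero_eq_bot, ← Ideal.sInf_minimalPrimes]
        refine Ideal.mem_sInf.2 fun {p} hp => ?_
        exact (hp.1.1.mem_or_mem (show b * a ∈ p by rw [hb]; exact zero_mem _)).resolve_right (hall p hp)
      rwa [nilradical_eq_zero, Ideal.zero_eq_bot, Ideal.mem_bot] at h2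
    obtain ⟨p, hp, hIp⟩ := (Ideal.subset_union_prime_finite hfinA ⊥ ⊥ fun p hp _ _ => hp.1.1).1 hsub
    classical
    let T := hfinA.toFinset.erase p
    obtain ⟨s, hs, hsp⟩ : ∃ s, (∀ q ∈ T, s ∈ q) ∧ s ∉ p := by
      have h1 : ∀ q : T, ∃ c ∈ q.1, c ∉ p := fun q => SetLike.not_le_iff_exists.1 fun hle => by
        obtain ⟨hqp, hq⟩ := Finset.mem_erase.1 q.2
        exact hqp (le_antisymm hle (hp.2 ((hfinA.mem_toFinset.1 hq).1) hle))
      choose c hc hcp using h1
      refine ⟨∏ q : T, c q, fun q hq => Ideal.mem_of_dvd _ (Finset.dvd_prod_of_mem c (Finset.mem_univ ⟨q, hq⟩)) (hc ⟨q, hq⟩), fun hm => ?_⟩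
      obtain ⟨q, -, hq⟩ := (hp.1.1.prod_mem_iff).1 hm
      exact hcp q hq
    refine hsp ((key s fun i hi => ?_) ▸ zero_mem p)
    have h2 : i * s ∈ nilradical A := by
      rw [nilradical, Ideal.zero_eq_bot, ← Ideal.sInf_minimalPrimes]
      refine Ideal.mem_sInf.2 fun {q} hq => ?_
      by_cases hqp : q = p
      · exact hqp ▸ Ideal.mul_mem_right _ _ (hIp hi)
      · exact Ideal.mul_mem_left _ _ (hs q (Finset.mem_erase.2 ⟨hqp, hfinA.mem_toFinset.2 hq⟩))
    rwa [nilradical_eq_zero, Ideal.zero_eq_bot, Ideal.mem_bot] at h2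

end Groth.Agent.S3834
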