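import Groth.Statements.S3835
import Groth.Agent.S2879
import Groth.Agent.S3843
-- import your own Groth.Agent.* helpers here

set_option autoImplicit false
set_option backward.isDefEq.respectTransparency false
set_option maxHeartbeats 800000
set_option synthInstance.maxHeartbeats 200000
universe u
open CategoryTheory CategoryTheory.Limits AlgebraicGeometry TopologicalSpace
open Rat20

namespace Groth.Agent.S3835

/-- Let Y be separated over S, X an S-scheme with a schematically dense open subscheme U, h : U → Y an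
S-morphism (a representative of a pseudo-morphism from X to Y over S), and f : X' → X a flat
morphism locally of finite presentation, X' being regarded as an S-scheme through f. Let x' be a
point of X' with image x = f(x'). If there is an S-morphism from an open neighbourhood V' of x' to Y
agreeing with h ∘ f on f⁻¹(U) ∩ V' (the pulled-back pseudo-morphism is defined at x'), then there is
an S-morphism from an open neighbourhood V of x to Y agreeing with h on U ∩ V (the pseudo-morphism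
is defined at x). -/
theorem result {X X' Y S : Scheme.{u}} (pX : X ⟶ S) (pY : Y ⟶ S)
    [IsSeparated pY] (U : X.Opens) (hU : CInt.IsSchematicallyDense U) (h : (U : Scheme.{u}) ⟶ Y)
    (hh : h ≫ pY = U.ι ≫ pX) (f : X' ⟶ X) [Flat f] [LocallyOfFinitePresentation f] (x' : ↥X')
    (V' : X'.Opens) (hx' : x' ∈ V') (v' : (V' : Scheme.{u}) ⟶ Y) (hv'S : v' ≫ pY = V'.ι ≫ f ≫ pX)
    (hv' : X'.homOfLE (inf_le_right : f ⁻¹ᵁ U ⊓ V' ≤ V') ≫ v' =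
      X'.homOfLE (inf_le_left : f ⁻¹ᵁ U ⊓ V' ≤ f ⁻¹ᵁ U) ≫ (f ∣_ U) ≫ h) :
    ∃ (V : X.Opens) (v : (V : Scheme.{u}) ⟶ Y), f x' ∈ V ∧ v ≫ pY = V.ι ≫ pX ∧
      X.homOfLE (inf_le_right : U ⊓ V ≤ V) ≫ v = X.homOfLE (inf_le_left : U ⊓ V ≤ U) ≫ h := by
  obtain ⟨_, ⟨W₀ : X.Opens, hW₀, rfl⟩, hxW₀, -⟩ :=
    X.isBasis_affineOpens.exists_subset_of_mem_open (Set.mem_univ (f x')) isOpen_univ
  obtain ⟨_, ⟨A : X'.Opens, hA, rfl⟩, hxA, hAle⟩ :=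
    X'.isBasis_affineOpens.exists_subset_of_mem_open (show x' ∈ ((V' ⊓ f ⁻¹ᵁ W₀ : X'.Opens) : Set X') from ⟨hx', hxW₀⟩)
      (V' ⊓ f ⁻¹ᵁ W₀).2
  have hAV : A ≤ V' := fun y hy => (hAle hy).1
  have hAW : A ≤ f ⁻¹ᵁ W₀ := fun y hy => (hAle hy).2
  haveI : IsAffine (A : Scheme.{u}) := hA
  haveI : IsAffine (W₀ : Scheme.{u}) := hW₀
  let W : X.Opens := ⟨f '' (A : Set X'), f.isOpenMap _ A.2⟩
  have hWW₀ : W ≤ W₀ := by rintro _ ⟨y, hy, rfl⟩; exact hAW hy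
  have hAf : A ≤ f ⁻¹ᵁ W := fun y hy => ⟨y, hy, rfl⟩
  let p : (A : Scheme.{u}) ⟶ (W : Scheme.{u}) := f.resLE W A hAf
  have hp : p ≫ W.ι = A.ι ≫ f := Scheme.Hom.resLE_comp_ι _ _
  haveI : QuasiCompact (p ≫ X.homOfLE hWW₀) := inferInstance
  haveI : QuasiCompact p := QuasiCompact.of_comp p (X.homOfLE hWW₀)
  haveI : Flat p := inferInstance
  haveI : LocallyOfFinitePresentation p := inferInstance
  haveI : Surjective p := ⟨fun w => by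
    obtain ⟨y, hy, he⟩ := w.2
    refine ⟨⟨y, hy⟩, Subtype.ext ?_⟩
    exact (congrArg (fun m => m ⟨y, hy⟩) (congrArg (fun m : _ ⟶ X => (⇑m : A → X)) hp)).trans he⟩
  have hUW : CInt.IsSchematicallyDense (W.ι ⁻¹ᵁ U) := S3843.result W.ι U hU
  have hUP : CInt.IsSchematicallyDense (Limits.pullback.fst p p ⁻¹ᵁ (p ⁻¹ᵁ (W.ι ⁻¹ᵁ U))) := by
    haveI : Flat (Limits.pullback.fst p p ≫ p) := inferInstance
    haveI : LocallyOfFinitePresentation (Limits.pullback.fst p p ≫ p) := inferInstance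
    have := S3843.result (Limits.pullback.fst p p ≫ p) _ hUW
    rwa [Scheme.Hom.comp_preimage] at this
  let g : (W.ι ⁻¹ᵁ U : Scheme.{u}) ⟶ Y := (W.ι ∣_ U) ≫ h
  have hgS : g ≫ pY = (W.ι ⁻¹ᵁ U).ι ≫ W.ι ≫ pX := by
    rw [Category.assoc, hh, ← Category.assoc, morphismRestrict_ι, Category.assoc]
  let g' : (A : Scheme.{u}) ⟶ Y := X'.homOfLE hAV ≫ v'
  have hg'S : g' ≫ pY = p ≫ W.ι ≫ pX := by
    rw [Category.assoc, hv'S, Scheme.homOfLE_ι_assoc, reassoc_of% hp]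
  have hg' : (p ⁻¹ᵁ (W.ι ⁻¹ᵁ U)).ι ≫ g' = (p ∣_ (W.ι ⁻¹ᵁ U)) ≫ g := by
    let j : (↑(p ⁻¹ᵁ (W.ι ⁻¹ᵁ U)) : Scheme.{u}) ⟶ (↑(f ⁻¹ᵁ U ⊓ V') : Scheme.{u}) :=
      IsOpenImmersion.lift (f ⁻¹ᵁ U ⊓ V').ι ((p ⁻¹ᵁ (W.ι ⁻¹ᵁ U)).ι ≫ A.ι) (by
        rw [Scheme.Opens.range_ι]
        rintro _ ⟨z, rfl⟩
        refine ⟨?_, hAV z.1.2⟩
        have := z.2
        change (p ≫ W.ι) z.1 ∈ U at this
        rw [hp] at this
        exact this)
    have hj : j ≫ (f ⁻¹ᵁ U ⊓ V').ι = (p ⁻¹ᵁ (W.ι ⁻¹ᵁ U)).ι ≫ A.ι := IsOpenImmersion.lift_fac _ _ _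
    have h1 : j ≫ X'.homOfLE (inf_le_right : f ⁻¹ᵁ U ⊓ V' ≤ V') = (p ⁻¹ᵁ (W.ι ⁻¹ᵁ U)).ι ≫ X'.homOfLE hAV := by
      rw [← cancel_mono V'.ι, Category.assoc, Category.assoc, Scheme.homOfLE_ι, Scheme.homOfLE_ι, hj]
    have h2 : j ≫ X'.homOfLE (inf_le_left : f ⁻¹ᵁ U ⊓ V' ≤ f ⁻¹ᵁ U) ≫ (f ∣_ U) = (p ∣_ (W.ι ⁻¹ᵁ U)) ≫ (W.ι ∣_ U) := by
      rw [← cancel_mono U.ι, Category.assoc, Category.assoc, Category.assoc, morphismRestrict_ι, morphismRestrict_ι,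
        Scheme.homOfLE_ι_assoc, reassoc_of% hj, morphismRestrict_ι_assoc, hp]
    rw [← reassoc_of% h1, hv', reassoc_of% h2]
  obtain ⟨v, hv, hvS⟩ := S2879.result (W.ι ≫ pX) pY p (W.ι ⁻¹ᵁ U) hUP g hgS g' hg'S hg'
  refine ⟨W, v, ⟨x', hxA, rfl⟩, hvS, ?_⟩
  let i : (↑(U ⊓ W) : Scheme.{u}) ⟶ (↑(W.ι ⁻¹ᵁ U) : Scheme.{u}) :=
    IsOpenImmersion.lift (W.ι ⁻¹ᵁ U).ι (X.homOfLE (inf_le_right : U ⊓ W ≤ W)) (by
      rw [Scheme.Opens.range_ι]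
      rintro _ ⟨z, rfl⟩
      change (X.homOfLE (inf_le_right : U ⊓ W ≤ W) ≫ W.ι) z ∈ U
      rw [Scheme.homOfLE_ι]
      exact z.2.1)
  have hi : i ≫ (W.ι ⁻¹ᵁ U).ι = X.homOfLE (inf_le_right : U ⊓ W ≤ W) := IsOpenImmersion.lift_fac _ _ _
  have hi2 : i ≫ (W.ι ∣_ U) = X.homOfLE (inf_le_left : U ⊓ W ≤ U) := by
    rw [← cancel_mono U.ι, Category.assoc, morphismRestrict_ι, reassoc_of% hi, Scheme.homOfLE_ι, Scheme.homOfLE_ι]
  rw [← hi, Category.assoc, hv, ← hi2, Category.assoc]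

end Groth.Agent.S3835
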