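import Groth.Statements.S3836
import Mathlib
import Groth.Agent.RatNormal.Isolated

set_option autoImplicit false
universe u
open CategoryTheory CategoryTheory.Limits AlgebraicGeometry TopologicalSpace
open Rat20

namespace Groth.Agent.S3836
open Groth.Agent.RatNormal

/-- Let X be a locally integral S-scheme, Y an S-scheme locally of finite type and separated over S, and
h : U → Y an S-morphism on a dense open subset (a rational S-map ω). Let Γ be the closure in X ×_S Y
of the graph of h and p : Γ → X the projection. If x is a point of X whose local ring is integrally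
closed and the fibre p⁻¹(x) contains an isolated point, then ω is defined at x: some S-morphism from
an open neighbourhood of x to Y agrees with h on U. -/
theorem result {X Y S : Scheme.{u}} (pX : X ⟶ S) (pY : Y ⟶ S)
    [LocallyOfFiniteType pY] [IsSeparated pY] (hX : ∀ y : ↥X, ∃ W : X.Opens, y ∈ W ∧ IsIntegral (W : Scheme.{u}))
    (U : X.Opens) (hU : Dense (U : Set ↥X)) (h : (U : Scheme.{u}) ⟶ Y) (hh : U.ι ≫ pX = h ≫ pY)
    (x : ↥X) (hx : IsIntegrallyClosed (X.presheaf.stalk x))
    (z : ↥(pullback pX pY)) (hz : pullback.fst pX pY z = x)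
    (hzΓ : z ∈ closure (Set.range (pullback.lift U.ι h hh)))
    (hiso : ∃ W : (pullback pX pY).Opens, (W : Set ↥(pullback pX pY)) ∩ closure (Set.range (pullback.lift U.ι h hh)) ∩
      (pullback.fst pX pY) ⁻¹' {x} = {z}) :
    ∃ (V : X.Opens) (v : (V : Scheme.{u}) ⟶ Y), x ∈ V ∧ v ≫ pY = V.ι ≫ pX ∧
      X.homOfLE (inf_le_right : U ⊓ V ≤ V) ≫ v = X.homOfLE (inf_le_left : U ⊓ V ≤ U) ≫ h := by
  obtain ⟨W, hxW, hWi⟩ := hX x
  haveI := hWi
  haveI := Groth.Agent.RatNormal.isDomain_stalk_of_isIntegral x hxW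
  haveI := hx
  have hmem := genι_mem x hxW U hU
  let hK := genLift x U hmem ≫ h
  have hKS : hK ≫ pY = genι x ≫ pX := by
    rw [Category.assoc, ← hh, genLift_ι_assoc]
  have hlift : pullback.lift (genι x) hK hKS.symm = genLift x U hmem ≫ pullback.lift U.ι h hh := by
    apply pullback.hom_ext
    · rw [pullback.lift_fst, Category.assoc, pullback.lift_fst, genLift_ι]
    · rw [pullback.lift_snd, Category.assoc, pullback.lift_snd]
  obtain ⟨G, hG⟩ := hiso
  obtain ⟨hzG, hzc⟩ : z ∈ G ∧ True := ⟨((Set.ext_iff.1 hG z).2 rfl).1.1, trivial⟩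
  obtain ⟨V, hxV, v, hVW, hv, hgen, -⟩ := exists_extension_of_isolated pX pY x hxW hK hKS z hz
    (fun t => specializes_iff_forall_open.2 fun O hO hzO => by
      obtain ⟨_, ⟨hpO, hpW⟩, u, rfl⟩ := mem_closure_iff.1 hzΓ (O ∩ pullback.fst pX pY ⁻¹' (W : Set X))
        (hO.inter (W.2.preimage (pullback.fst pX pY).continuous)) ⟨hzO, by show _ ∈ W; rw [hz]; exact hxW⟩
      have h1 : U.ι u ∈ W := by
        have : pullback.fst pX pY (pullback.lift U.ι h hh u) ∈ W := hpW
        rwa [← Scheme.Hom.comp_apply, pullback.lift_fst] at this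
      have h2 : genLift x U hmem t ⤳ u := by
        refine U.ι.isOpenEmbedding.isInducing.specializes_iff.1 ?_
        rw [← Scheme.Hom.comp_apply, genLift_ι]
        exact genι_specializes_of_mem x hxW t h1
      rw [hlift, Scheme.Hom.comp_apply]
      exact (h2.map (pullback.lift U.ι h hh).continuous).mem_open hO hpO)
    ⟨G, hzG, fun p hp hpx hpΓ => (Set.ext_iff.1 hG p).1 ⟨⟨hp, by
      obtain ⟨t⟩ : Nonempty (Spec (CommRingCat.of (Kx x))) := inferInstance
      refine closure_mono (Set.singleton_subset_iff.2 ?_) (specializes_iff_mem_closure.1 (hpΓ t))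
      rw [hlift, Scheme.Hom.comp_apply]
      exact Set.mem_range_self _⟩, hpx⟩⟩
  refine ⟨V, v, hxV, hv, agree x pX pY hxW (inf_le_right.trans hVW) hmem
    (fun t => (genι_specializes_self x t).mem_open V.2 hxV) h hh.symm v hv (hgen _).symm⟩

end Groth.Agent.S3836
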