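import Groth.Statements.S3838
import Groth.Agent.DivDescLib.Global
import Groth.Agent.BlowCompLib.Flat


set_option autoImplicit false
universe u
open CategoryTheory CategoryTheory.Limits AlgebraicGeometry TopologicalSpace
open Div21

namespace Groth.Agent.S3838

open CategoryTheory CategoryTheory.Limits AlgebraicGeometry

open Groth.Agent.DivDescLib IntMult

theorem φ_comp {X Y Z : Scheme.{u}} (g : X ⟶ Y) (k : Y ⟶ Z) {x : X} {z : Z} (h : k (g x) ⤳ z) (a : Z.presheaf.stalk z) :
    φ (g ≫ k) (x := x) h a = g.stalkMap x (φ k h a) := by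
  show (Z.presheaf.stalkSpecializes _ ≫ (g ≫ k).stalkMap x) a = _
  rw [Scheme.Hom.stalkMap_comp]
  rfl

theorem φ_congr {X Y : Scheme.{u}} {g k : X ⟶ Y} (e : g = k) {x : X} {y : Y} (h : g x ⤳ y) (a : Y.presheaf.stalk y) :
    φ g h a = φ k (e ▸ h) a := by
  subst e
  rfl

theorem φ_surjective {X Y : Scheme.{u}} (g : X ⟶ Y) [IsPreimmersion g] {x : X} {y : Y} (h : g x ⤳ y) (e : g x = y) :
    Function.Surjective (φ g h) := by
  subst e
  rw [φ_refl]
  exact g.stalkMap_surjective x

theorem flat_ι {Y : Scheme.{u}} (y : Y) : Flat (Y.fromSpecStalk y) := by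
  obtain ⟨_, ⟨U, hU, rfl⟩, hyU, -⟩ := Y.isBasis_affineOpens.exists_subset_of_mem_open (Set.mem_univ y) isOpen_univ
  rw [← hU.fromSpecStalk_eq_fromSpecStalk hyU, IsAffineOpen.fromSpecStalk]
  have : Flat (Spec.map (Y.presheaf.germ U y hyU)) := by
    rw [HasRingHomProperty.Spec_iff (P := @Flat)]
    algebraize [(Y.presheaf.germ U y hyU).hom]
    exact @IsLocalization.flat Γ(Y, U) (Y.presheaf.stalk y) _ _ _ (hU.primeIdealOf ⟨y, hyU⟩).asIdeal.primeCompl (hU.isLocalization_stalk ⟨y, hyU⟩)
  infer_instance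

theorem exists_gen_of_local {X Y : Scheme.{u}} (f : X ⟶ Y) [Flat f] [Surjective f] {J : X.IdealSheafData}
    (hJ : BlowUp.IsEffCartierIdeal J) (y : Y) {I₁ : (Spec (Y.presheaf.stalk y)).IdealSheafData}
    (hI₁ : BlowUp.IsEffCartierIdeal I₁)
    (hIJ : I₁.comap (pullback.snd f (Y.fromSpecStalk y)) = J.comap (pullback.fst f (Y.fromSpecStalk y))) :
    ∃ a, Gen f J y a := by
  let ι := Y.fromSpecStalk y
  let c := IsLocalRing.closedPoint (Y.presheaf.stalk y)
  obtain ⟨g, -, hg⟩ := BlowExistsLib.exists_stalk_generator hI₁ c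
  have hc : ι c = y := Scheme.fromSpecStalk_closedPoint
  obtain ⟨a, rfl⟩ := φ_surjective ι (specializes_of_eq hc) hc g
  have hall : ∀ (x : X) (h : f x ⤳ y), stalkIdeal J x = Ideal.span {φ f h a} := by
    intro x h
    obtain ⟨p, hp⟩ : f x ∈ Set.range ι := by rw [Y.range_fromSpecStalk]; exact h
    obtain ⟨z, hzx, hzp⟩ := Scheme.Pullback.exists_preimage_pullback x p hp.symm
    subst hzx
    haveI : Flat ι := flat_ι y
    haveI : Flat (pullback.fst f ι) := MorphismProperty.pullback_fst _ _ inferInstance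
    have hpc : pullback.snd f ι z ⤳ c := IsLocalRing.specializes_closedPoint _
    have h1 : stalkIdeal (J.comap (pullback.fst f ι)) z =
        Ideal.span {(pullback.fst f ι).stalkMap z (φ f h a)} := by
      rw [← hIJ, IdealStalkLib.stalkIdeal_comap, stalkIdeal_gen I₁ hpc hg, ← φ_gen, Ideal.map_span, Set.image_singleton,
        ← φ_comp (pullback.snd f ι) ι, φ_congr pullback.condition.symm, φ_comp]
    rw [IdealStalkLib.stalkIdeal_comap] at h1
    letI := ((pullback.fst f ι).stalkMap z).hom.toAlgebra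
    haveI : Module.Flat (X.presheaf.stalk (pullback.fst f ι z)) ((pullback f ι).presheaf.stalk z) := Flat.stalkMap _ z
    haveI : IsLocalHom (algebraMap (X.presheaf.stalk (pullback.fst f ι z)) ((pullback f ι).presheaf.stalk z)) :=
      inferInstanceAs (IsLocalHom ((pullback.fst f ι).stalkMap z).hom)
    haveI : Module.FaithfullyFlat (X.presheaf.stalk (pullback.fst f ι z)) ((pullback f ι).presheaf.stalk z) :=
      Module.FaithfullyFlat.of_flat_of_isLocalHom
    rw [← Ideal.comap_map_eq_self_of_faithfullyFlat (B := (pullback f ι).presheaf.stalk z) (stalkIdeal J _),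
      show algebraMap (X.presheaf.stalk (pullback.fst f ι z)) ((pullback f ι).presheaf.stalk z) = ((pullback.fst f ι).stalkMap z).hom from rfl, h1,
      ← Set.image_singleton, ← Ideal.map_span]
    exact Ideal.comap_map_eq_self_of_faithfullyFlat (B := (pullback f ι).presheaf.stalk z) _
  obtain ⟨x, hx⟩ := f.surjective y
  exact ⟨a, mem_nzd_of_φ f J hJ (specializes_of_eq hx) hx (hall x _), hall⟩

/-- Let f : X → Y be a faithfully flat morphism between locally Noetherian schemes, with f quasi-compact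
or open, and let D' be an effective Cartier divisor on X with ideal sheaf 𝓙. D' is the pullback of
some effective Cartier divisor on Y if and only if the following holds at every point y of Y whose
local ring has depth at most 1: writing Y₁ = Spec 𝒪_{Y,y}, X₁ = X ×_Y Y₁ and f₁ : X₁ → Y₁, the
pullback of D' to X₁ is the pullback along f₁ of some effective Cartier divisor on Y₁. (The
published statement is more general; only the case of effective Cartier divisors is stated here.) -/
theorem result {X Y : Scheme.{u}} [IsLocallyNoetherian X]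
    [IsLocallyNoetherian Y] (f : X ⟶ Y) [Flat f] [Surjective f] (hf : QuasiCompact f ∨ IsOpenMap f)
    (𝓙 : X.IdealSheafData) (hJ : BlowUp.IsEffCartierIdeal 𝓙) :
    (∃ 𝓘 : Y.IdealSheafData, BlowUp.IsEffCartierIdeal 𝓘 ∧ 𝓘.comap f = 𝓙) ↔
      ∀ y : ↥Y, LocCoh.depth ↑(Y.presheaf.stalk y) ↑(Y.presheaf.stalk y) ≤ 1 →
        ∃ 𝓘₁ : (Spec (Y.presheaf.stalk y)).IdealSheafData, BlowUp.IsEffCartierIdeal 𝓘₁ ∧
          𝓘₁.comap (pullback.snd f (Y.fromSpecStalk y)) = 𝓙.comap (pullback.fst f (Y.fromSpecStalk y)) := by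
  constructor
  · rintro ⟨I, hI, rfl⟩ y -
    haveI := flat_ι y
    refine ⟨I.comap (Y.fromSpecStalk y), BlowCompLib.isEffCartier_comap_flat hI _, ?_⟩
    rw [← Scheme.IdealSheafData.comap_comp, ← Scheme.IdealSheafData.comap_comp, pullback.condition]
  · intro h
    refine exists_descent (isQuotientMap hf) hJ (exists_gen hJ fun y hy _ => ?_)
    obtain ⟨I₁, hI₁, hIJ⟩ := h y hy
    exact exists_gen_of_local f hJ y hI₁ hIJ

end Groth.Agent.S3838
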