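import Groth.Statements.S3842
import Groth.Agent.RatDense.Basic

set_option autoImplicit false
universe u
open CategoryTheory CategoryTheory.Limits AlgebraicGeometry TopologicalSpace
open Rat20

namespace Groth.Agent.S3842

/-- For the open subset U = X; the general case is the same statement over the open subscheme U: let f :
X' → X be a morphism of schemes with X' reduced, suppose the irreducible components of X form a
locally finite family and that every irreducible component of X' dominates an irreducible component
of X (the closure of its image is an irreducible component of X). Then for every schematically dense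
open subset V of X, the preimage f⁻¹(V) is schematically dense in X'. -/
theorem result {X X' : Scheme.{u}} (f : X' ⟶ X) [IsReduced X']
    (hfin : ∀ x : ↥X, ∃ W : X.Opens, x ∈ W ∧ {Z ∈ irreducibleComponents ↥X | (Z ∩ (W : Set ↥X)).Nonempty}.Finite)
    (hdom : ∀ Z' ∈ irreducibleComponents ↥X', closure (f '' Z') ∈ irreducibleComponents ↥X)
    (V : X.Opens) (hV : CInt.IsSchematicallyDense V) : CInt.IsSchematicallyDense (f ⁻¹ᵁ V) := by
  refine Groth.Agent.RatDense.of_dense (dense_iff_inter_open.2 fun O hO ⟨y, hy⟩ => ?_)
  have hd := Groth.Agent.RatDense.dense_of_isSchematicallyDense hV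
  let Z' := irreducibleComponent y
  have hZ' : Z' ∈ irreducibleComponents X' := irreducibleComponent_mem_irreducibleComponents y
  obtain ⟨η, hη⟩ := QuasiSober.sober hZ'.1 (isClosed_of_mem_irreducibleComponents Z' hZ')
  have hηO : η ∈ O := (hη.specializes (mem_irreducibleComponent : y ∈ Z')).mem_open hO hy
  have hZ := hdom Z' hZ'
  have hξ : IsGenericPoint (f η) (closure (f '' Z')) := hη.image f.continuous
  obtain ⟨W, hξW, hfinW⟩ := hfin (f η)
  let S := {C ∈ irreducibleComponents ↥X | (C ∩ (W : Set ↥X)).Nonempty ∧ f η ∉ C}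
  have hS : S.Finite := hfinW.subset fun C hC => ⟨hC.1, hC.2.1⟩
  have hcl : IsClosed (⋃₀ S) := by
    rw [Set.sUnion_eq_biUnion]
    exact hS.isClosed_biUnion fun C hC => isClosed_of_mem_irreducibleComponents C hC.1
  obtain ⟨z, ⟨hzW, hzS⟩, hzV⟩ := hd.inter_open_nonempty ((W : Set X) ∩ (⋃₀ S)ᶜ)
    (W.2.inter hcl.isOpen_compl) ⟨f η, hξW, by rintro ⟨C, hC, hm⟩; exact hC.2.2 hm⟩
  have hzC : z ∈ irreducibleComponent z := mem_irreducibleComponent
  have hCc := irreducibleComponent_mem_irreducibleComponents z
  have hCξ : f η ∈ irreducibleComponent z := by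
    by_contra hne
    exact hzS ⟨_, ⟨hCc, ⟨z, hzC, hzW⟩, hne⟩, hzC⟩
  have hsub : closure (f '' Z') ⊆ irreducibleComponent z := by
    rw [← hξ.def]
    exact closure_minimal (Set.singleton_subset_iff.2 hCξ) (isClosed_of_mem_irreducibleComponents _ hCc)
  have heq : irreducibleComponent z ⊆ closure (f '' Z') := hZ.2 hCc.1 hsub
  exact ⟨η, hηO, (hξ.specializes (heq hzC)).mem_open V.2 hzV⟩

end Groth.Agent.S3842
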