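import Groth.Statements.S3845
import Mathlib.AlgebraicGeometry.Morphisms.FormallyUnramified

set_option autoImplicit false
universe u
open CategoryTheory CategoryTheory.Limits AlgebraicGeometry TopologicalSpace
open Unram17

namespace Groth.Agent.S3845

theorem isOpenImmersion_diag_iff {X Y : Scheme.{u}} (f : X ⟶ Y) (U : X.Opens) :
    IsOpenImmersion (pullback.diagonal (U.ι ≫ f)) ↔ IsOpenImmersion (U.ι ≫ pullback.diagonal f) := by
  let m : pullback (U.ι ≫ f) (U.ι ≫ f) ⟶ pullback f f :=
    pullback.map _ _ _ _ U.ι U.ι (𝟙 Y) (Category.comp_id _) (Category.comp_id _)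
  have he : pullback.diagonal (U.ι ≫ f) ≫ m = U.ι ≫ pullback.diagonal f := by
    apply pullback.hom_ext <;> simp [m, pullback.map, Category.assoc, pullback.lift_fst, pullback.lift_snd, pullback.diagonal_fst_assoc, pullback.diagonal_snd_assoc]
  rw [← he]
  haveI : IsOpenImmersion m := inferInstance
  constructor
  · intro h; infer_instance
  · intro h; exact IsOpenImmersion.of_comp _ m


/-- a) iff b): let f : X → Y be locally of finite presentation and x a point of X. Then f is unramified
on some open neighbourhood of x if and only if the diagonal X → X ×_Y X is a local isomorphism at x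
(its restriction to some open neighbourhood of x is an open immersion). -/
theorem result {X Y : Scheme.{u}} (f : X ⟶ Y)
    [LocallyOfFinitePresentation f] (x : ↥X) :
    (∃ U : X.Opens, x ∈ U ∧ FormallyUnramified (U.ι ≫ f)) ↔
      SchLoc.IsLocalIsoAt (pullback.diagonal f) x := by
  constructor
  · rintro ⟨U, hx, _⟩
    exact ⟨U, hx, (isOpenImmersion_diag_iff f U).mp inferInstance⟩
  · rintro ⟨U, hx, h⟩
    haveI := (isOpenImmersion_diag_iff f U).mpr h
    exact ⟨U, hx, inferInstance⟩

end Groth.Agent.S3845
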