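import Groth.Statements.S3846
import Groth.Agent.S3845
-- import your own Groth.Agent.* helpers here

set_option autoImplicit false
set_option backward.isDefEq.respectTransparency false
universe u
open CategoryTheory CategoryTheory.Limits AlgebraicGeometry TopologicalSpace
open Unram17

namespace Groth.Agent.S3846

/-- a) iff b''): let f : X → Y be locally of finite presentation and x a point of X. Then f is
unramified on some open neighbourhood of x if and only if, for every base change g : Y' → Y and
every section s' of X ×_Y Y' → Y', s' is a local isomorphism at every point y' of Y' such that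
s'(y') lies over x. -/
theorem result {X Y : Scheme.{u}} (f : X ⟶ Y) [LocallyOfFinitePresentation f]
    (x : ↥X) :
    (∃ U : X.Opens, x ∈ U ∧ FormallyUnramified (U.ι ≫ f)) ↔
      ∀ (Y' : Scheme.{u}) (g : Y' ⟶ Y) (s' : Y' ⟶ pullback f g), s' ≫ pullback.snd f g = 𝟙 Y' →
        ∀ y' : ↥Y', pullback.fst f g (s' y') = x → SchLoc.IsLocalIsoAt s' y' := by
  constructor
  · rintro ⟨U, hx, hU⟩ Y' g s hs y hy
    let a : Y' ⟶ X := s ≫ pullback.fst f g
    let W : Y'.Opens := a ⁻¹ᵁ U
    have hyW : y ∈ W := by
      show (s ≫ pullback.fst f g) y ∈ U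
      rw [Scheme.Hom.comp_apply, hy]
      exact hx
    let f' := U.ι ≫ f
    let aU : (W : Scheme.{u}) ⟶ U := a ∣_ U
    have hg : aU ≫ f' = W.ι ≫ g := by
      simp only [f', aU, W, a, morphismRestrict_ι_assoc, Category.assoc, pullback.condition]
      rw [reassoc_of% hs]
    have hgr : IsOpenImmersion (pullback.lift (𝟙 (W : Scheme.{u})) aU (by simp) : (W : Scheme.{u}) ⟶ pullback (aU ≫ f') f') :=
      MorphismProperty.of_isPullback (P := @IsOpenImmersion) (pullback_lift_diagonal_isPullback aU f') inferInstance
    let m : pullback (aU ≫ f') f' ⟶ pullback g f :=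
      pullback.map _ _ _ _ W.ι U.ι (𝟙 Y) (by rw [Category.comp_id, hg]) (by simp [f'])
    haveI : IsOpenImmersion m := inferInstance
    refine ⟨W, hyW, ?_⟩
    have e : W.ι ≫ s = pullback.lift (𝟙 (W : Scheme.{u})) aU (by simp) ≫ m ≫ (pullbackSymmetry g f).hom := by
      apply pullback.hom_ext
      · simp [m, aU, W, a, pullback.map, pullback.lift_fst, pullback.lift_snd, pullback.lift_snd_assoc, morphismRestrict_ι]
      · simp [m, hs, pullback.map, pullback.lift_fst, pullback.lift_snd, pullback.lift_fst_assoc]
        exact (Category.id_comp _).symm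
    rw [e]
    infer_instance
  · intro h
    refine (Groth.Agent.S3845.result f x).2 (h X f (pullback.diagonal f) (pullback.diagonal_snd f) x ?_)
    rw [← Scheme.Hom.comp_apply, pullback.diagonal_fst]
    rfl

end Groth.Agent.S3846
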