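import Groth.Statements.S3851
import Groth.Agent.EGA418Lib.BaseChange3851

set_option autoImplicit false
universe u
open scoped TensorProduct
open EGA418

namespace Groth.Agent.S3851

/-- a) iff a') iff b), and b) implies d): let k be a field, A a complete Noetherian local k-algebra
whose residue field is finite over k, p a non-maximal prime of A, n the largest dimension of an
irreducible component of Spec A containing p, and Ω̂ the completion of the module of differentials
of A over k for the topology of the maximal ideal. For a field extension k' of k write A' = A ⊗̂_k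
k' (the completion of A ⊗_k k' for the extension of the maximal ideal). The following are
equivalent: (a) for every extension k' and every prime p' of A' over p, A'_{p'} is regular; (a') for
some perfect extension k' and some prime p' of A' over p, A'_{p'} is regular; (b) Ω̂_p is a free
A_p-module of rank n. Moreover (b) implies (d): A_p is geometrically regular over k. (The converse
of the last implication, valid when [k : k^p] is finite, is not stated.) -/
theorem result (k A : Type u) [Field k] [CommRing A]
    [IsLocalRing A] [IsNoetherianRing A] [Algebra k A] [IsAdicComplete (IsLocalRing.maximalIdeal A) A]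
    [Module.Finite k (IsLocalRing.ResidueField A)] (p : Ideal A) [p.IsPrime] (hp : p ≠ IsLocalRing.maximalIdeal A)
    (n : ℕ) (hn₁ : ∀ q ∈ minimalPrimes A, q ≤ p → ringKrullDim (A ⧸ q) ≤ n)
    (hn₂ : ∃ q ∈ minimalPrimes A, q ≤ p ∧ ringKrullDim (A ⧸ q) = n) :
    List.TFAE [
      ∀ (k' : Type u) [Field k'] [Algebra k k']
        (p' : Ideal (AdicCompletion ((IsLocalRing.maximalIdeal A).map
          (Algebra.TensorProduct.includeLeft : A →ₐ[k] A ⊗[k] k')) (A ⊗[k] k'))) [p'.IsPrime],
        (p'.comap (algebraMap (A ⊗[k] k') _)).comap
            (Algebra.TensorProduct.includeLeft : A →ₐ[k] A ⊗[k] k').toRingHom = p →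
          IsRegularLocalRing (Localization.AtPrime p'),
      ∃ (k' : Type u) (_ : Field k') (_ : Algebra k k') (_ : PerfectField k')
        (p' : Ideal (AdicCompletion ((IsLocalRing.maximalIdeal A).map
          (Algebra.TensorProduct.includeLeft : A →ₐ[k] A ⊗[k] k')) (A ⊗[k] k'))) (_ : p'.IsPrime),
        (p'.comap (algebraMap (A ⊗[k] k') _)).comap
            (Algebra.TensorProduct.includeLeft : A →ₐ[k] A ⊗[k] k').toRingHom = p ∧
          IsRegularLocalRing (Localization.AtPrime p'),
      Module.Free (Localization.AtPrime p)
          (LocalizedModule p.primeCompl (AdicCompletion (IsLocalRing.maximalIdeal A) (KaehlerDifferential k A))) ∧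
        Module.finrank (Localization.AtPrime p)
          (LocalizedModule p.primeCompl (AdicCompletion (IsLocalRing.maximalIdeal A) (KaehlerDifferential k A))) = n] ∧
    ((Module.Free (Localization.AtPrime p)
          (LocalizedModule p.primeCompl (AdicCompletion (IsLocalRing.maximalIdeal A) (KaehlerDifferential k A))) ∧
        Module.finrank (Localization.AtPrime p)
          (LocalizedModule p.primeCompl (AdicCompletion (IsLocalRing.maximalIdeal A) (KaehlerDifferential k A))) = n) →
      CAlg.IsGeometricallyRegular k (Localization.AtPrime p)) := by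
  haveI := Groth.Agent.EGA418Lib.finite_CO k A
  obtain ⟨q, hq, hqp, hqn⟩ := hn₂
  have hgen : (Module.Free (Localization.AtPrime p)
        (LocalizedModule p.primeCompl (AdicCompletion (IsLocalRing.maximalIdeal A) (KaehlerDifferential k A))) ∧
      Module.finrank (Localization.AtPrime p)
        (LocalizedModule p.primeCompl (AdicCompletion (IsLocalRing.maximalIdeal A) (KaehlerDifferential k A))) = n) →
      ∃ s : Fin n → LocalizedModule p.primeCompl (Groth.Agent.EGA418Lib.CO k A),
        Submodule.span (Localization.AtPrime p) (Set.range s) = ⊤ := by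
    rintro ⟨hfree, hrank⟩
    haveI := hfree
    haveI : Module.Finite (Localization.AtPrime p) (LocalizedModule p.primeCompl (Groth.Agent.EGA418Lib.CO k A)) :=
      Module.Finite.of_isLocalizedModule p.primeCompl
        (LocalizedModule.mkLinearMap p.primeCompl (Groth.Agent.EGA418Lib.CO k A))
    let b := Module.finBasisOfFinrankEq (Localization.AtPrime p)
      (LocalizedModule p.primeCompl (Groth.Agent.EGA418Lib.CO k A)) hrank
    exact ⟨b, b.span_eq⟩
  have hcomap : ∀ (k' : Type u) [Field k'] [Algebra k k']
      (p' : Ideal (Groth.Agent.EGA418Lib.CT k A k')),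
      (p'.comap (algebraMap (A ⊗[k] k') _)).comap
        (Algebra.TensorProduct.includeLeft : A →ₐ[k] A ⊗[k] k').toRingHom =
      p'.comap (algebraMap A (Groth.Agent.EGA418Lib.CT k A k')) := fun k' _ _ p' => rfl
  refine ⟨?_, fun h => (Groth.Agent.EGA418Lib.regular_of_gen k A p hp (hgen h) q hq hqp hqn).2.1⟩
  tfae_have 1 → 2 := by
    intro h
    obtain ⟨p', hp', hpp⟩ := Groth.Agent.EGA418Lib.exists_prime_over k A (AlgebraicClosure k) p
    haveI := hp'
    exact ⟨AlgebraicClosure k, inferInstance, inferInstance, inferInstance, p', hp',
      (hcomap _ p').trans hpp, h (AlgebraicClosure k) p' ((hcomap _ p').trans hpp)⟩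
  tfae_have 2 → 3 := by
    rintro ⟨k', _, _, _, p', _, hpp, hreg⟩
    exact Groth.Agent.EGA418Lib.free_of_regular k A k' p hn₁ ⟨q, hq, hqp, hqn⟩ p' ((hcomap _ p').symm.trans hpp) hreg
  tfae_have 3 → 1 := by
    intro h k' _ _ p' _ hpp
    exact Groth.Agent.EGA418Lib.regular_of_free k A k' p hp (hgen h) q hq hqp hqn p' ((hcomap _ p').symm.trans hpp)
  tfae_finish

end Groth.Agent.S3851
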