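import Groth.Statements.S3852
import Mathlib

set_option autoImplicit false
universe u
open FCompl

namespace Groth.Agent.S3852

open AlgebraicGeometry in
/-- Second assertion; stated for quasi-coherent ideal sheaves, with the condition on supports as an
inclusion, which is what the proof uses: Let X be a Noetherian scheme and I, J ideal sheaves such
that the zero locus of J is contained in the zero locus of I. Then I^n ≤ J for some n ≥ 1. -/
theorem result
    (X : Scheme.{u}) [IsNoetherian X] (I J : X.IdealSheafData)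
    (h : (J.support : Set X) ⊆ I.support) :
    ∃ n : ℕ, I ^ (n + 1) ≤ J := by
  have hIJ : I ≤ J.radical := by
    rw [← AlgebraicGeometry.Scheme.IdealSheafData.vanishingIdeal_support]
    exact AlgebraicGeometry.Scheme.IdealSheafData.le_support_iff_le_vanishingIdeal.1 h
  haveI : AlgebraicGeometry.IsNoetherian X := inferInstance
  obtain ⟨s, hs⟩ := isCompact_univ.elim_finite_subcover (fun U : X.affineOpens => (U.1 : Set X))
    (fun U => U.1.isOpen) (fun x _ => by
      obtain ⟨U, hU, hxU, -⟩ := AlgebraicGeometry.exists_isAffineOpen_mem_and_subset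
        (TopologicalSpace.Opens.mem_top x)
      exact Set.mem_iUnion.2 ⟨⟨U, hU⟩, hxU⟩)
  have hloc : ∀ U : X.affineOpens, ∃ n : ℕ, I.ideal U ^ n ≤ J.ideal U := fun U => by
    haveI : IsNoetherianRing Γ(X, U.1) := AlgebraicGeometry.IsLocallyNoetherian.component_noetherian U
    obtain ⟨n, hn⟩ := (J.ideal U).exists_radical_pow_le_of_fg (IsNoetherian.noetherian _)
    exact ⟨n, le_trans (Ideal.pow_right_mono (hIJ U) n) hn⟩
  choose n hn using hloc
  refine ⟨s.sup n, AlgebraicGeometry.Scheme.IdealSheafData.le_of_iSup_eq_top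
    (fun U : s => U.1) (eq_top_iff.2 fun x _ => ?_) fun U => ?_⟩
  · obtain ⟨U, hU, hxU⟩ := Set.mem_iUnion₂.1 (hs (Set.mem_univ x))
    exact TopologicalSpace.Opens.mem_iSup.2 ⟨⟨U, hU⟩, hxU⟩
  · rw [AlgebraicGeometry.Scheme.IdealSheafData.ideal_pow, Pi.pow_apply]
    exact le_trans (Ideal.pow_le_pow_right (le_trans (Finset.le_sup U.2) (Nat.le_succ _))) (hn U.1)

end Groth.Agent.S3852
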