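import Groth.Statements.S3860
import Mathlib

set_option autoImplicit false
universe u
open FCompl

namespace Groth.Agent.S3860

open AlgebraicGeometry CategoryTheory

theorem h9_factor_chain {A : Type u} {B : Type u} [CommRing A] [CommRing B] (I : Ideal A)
    (g : (n : ℕ) → B →+* A ⧸ I ^ (n + 1))
    (hg : ∀ n, (Ideal.Quotient.factor (Ideal.pow_le_pow_right (Nat.le_succ (n + 1)))).comp (g (n + 1)) = g n)
    {m n : ℕ} (hmn : m ≤ n) :
    (Ideal.Quotient.factor (Ideal.pow_le_pow_right (Nat.succ_le_succ hmn))).comp (g n) = g m := by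
  induction n, hmn using Nat.le_induction with
  | base => ext b; obtain ⟨x, hx⟩ := Ideal.Quotient.mk_surjective (g m b); simp [← hx]
  | succ n hmn ih =>
    ext b
    rw [← RingHom.congr_fun ih b, ← hg n]
    obtain ⟨x, hx⟩ := Ideal.Quotient.mk_surjective (g (n + 1) b)
    simp [← hx]

open AlgebraicGeometry in
/-- (Affine adic case; the formal spectra presented as the systems Spec(A/I^(n+1)) and Spec(B/K^(n+1)).)
Let I be an ideal of a ring A which is complete and separated for the I-adic topology, and K an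
ideal of a ring B. Then φ ↦ (Spec of the induced maps B/K^(n+1) -> A/I^(n+1)) is a bijection from
the ring homomorphisms φ : B -> A with φ(K) ⊆ I onto the morphisms of systems from Spf(A) to Spf(B),
i.e. the compatible families of morphisms Spec(A/I^(n+1)) -> Spec(B/K^(n+1)). -/
theorem result (A B : Type u) [CommRing A] [CommRing B] (I : Ideal A) (K : Ideal B)
    [IsAdicComplete I A] :
    Function.Bijective (fun φ : {φ : B →+* A // K ≤ I.comap φ} ↦ FSch.spfMap I K φ.1 φ.2) := by
  constructor
  · rintro ⟨φ₁, h₁⟩ ⟨φ₂, h₂⟩ heq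
    simp only at heq
    apply Subtype.ext
    ext b
    apply sub_eq_zero.1
    refine IsHausdorff.haus (IsAdicComplete.toIsHausdorff (I := I) (M := A)) _ fun n => ?_
    rw [SModEq.zero, smul_eq_mul, Ideal.mul_top]
    have h := congrArg (fun u : FSch.spf A I ⟶ FSch.spf B K => (u : FSch.Hom _ _).app n) heq
    simp only [FSch.spfMap_app] at h
    have h' := RingHom.congr_fun (congrArg CommRingCat.Hom.hom (Spec.map_injective h)) (Ideal.Quotient.mk _ b)
    exact Ideal.pow_le_pow_right (Nat.le_succ n) (Ideal.Quotient.eq.1 h')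
  · intro u
    let ψ : (n : ℕ) → B ⧸ K ^ (n + 1) →+* A ⧸ I ^ (n + 1) := fun n => (Spec.preimage ((u : FSch.Hom _ _).app n)).hom
    let g : (n : ℕ) → B →+* A ⧸ I ^ (n + 1) := fun n => (ψ n).comp (Ideal.Quotient.mk _)
    have hψ : ∀ n, Spec.map (CommRingCat.ofHom (ψ n)) = (u : FSch.Hom _ _).app n := fun n => Spec.map_preimage _
    have hg : ∀ n, (Ideal.Quotient.factor (Ideal.pow_le_pow_right (Nat.le_succ (n + 1)))).comp (g (n + 1)) = g n := by
      intro n
      have hc := (u : FSch.Hom _ _).comm n
      rw [← hψ n, ← hψ (n + 1)] at hc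
      change Spec.map _ ≫ Spec.map _ = Spec.map _ ≫ Spec.map _ at hc
      rw [← Spec.map_comp, ← Spec.map_comp] at hc
      ext b
      exact (RingHom.congr_fun (congrArg CommRingCat.Hom.hom (Spec.map_injective hc)) (Ideal.Quotient.mk _ b)).symm
    let f : (n : ℕ) → B →+* A ⧸ I ^ n := fun n =>
      (Ideal.Quotient.factor (Ideal.pow_le_pow_right (Nat.le_succ n))).comp (g n)
    have hf : ∀ {m n : ℕ} (hle : m ≤ n), (Ideal.Quotient.factorPow I hle).comp (f n) = f m := by
      intro m n hle
      ext b
      simp only [f, RingHom.comp_apply]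
      rw [← RingHom.congr_fun (h9_factor_chain I g hg hle) b]
      obtain ⟨x, hx⟩ := Ideal.Quotient.mk_surjective (g n b)
      simp [← hx, RingHom.comp_apply]
    let φ : B →+* A := (AdicCompletion.ofAlgEquiv I).symm.toAlgHom.toRingHom.comp (AdicCompletion.liftRingHom I f hf)
    have key : ∀ n b, Ideal.Quotient.mk (I ^ (n + 1)) (φ b) = g n b := by
      intro n b
      refine ((AdicCompletion.mk_ofAlgEquiv_symm I (n + 1) _).trans (AdicCompletion.evalₐ_liftRingHom I f hf (n + 1) b)).trans ?_
      exact RingHom.congr_fun (hg n) b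
    have hK : K ≤ I.comap φ := by
      intro b hb
      have := key 0 b
      rw [show g 0 b = 0 from (congrArg (ψ 0) (Ideal.Quotient.eq_zero_iff_mem.2 (by simpa using hb))).trans (map_zero _),
        Ideal.Quotient.eq_zero_iff_mem] at this
      simpa using this
    refine ⟨⟨φ, hK⟩, FSch.Hom.ext (funext fun n => ?_)⟩
    rw [← hψ n]
    show Spec.map _ = _
    congr 2
    apply Ideal.Quotient.ringHom_ext
    ext b
    exact key n b

end Groth.Agent.S3860
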