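import Groth.Statements.S3865
import Mathlib
import Groth.Agent.S3857

set_option autoImplicit false
universe u
open FCompl

namespace Groth.Agent.S3865

open AlgebraicGeometry CategoryTheory

open AlgebraicGeometry in
/-- A formal scheme is presented as a system of thickenings (X_n)_n, and a coherent ideal of it as a
family of ideal sheaves A_n on the levels X_n, each A_n equal to the inverse image ideal of A_(n+1)
under X_n → X_(n+1). Let (X_n) be a locally Noetherian adic formal system and (A_n) such a family.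
Then the closed subschemes Y_n cut out by the A_n, with the induced transition maps, form a locally
Noetherian adic formal system, and its inclusion into (X_n) is adic: every square Y_n → Y_(n+1), X_n
→ X_(n+1) is cartesian. -/
theorem result (𝔛 : FSch.Sys.{u}) (h𝔛 : 𝔛.IsLocNoethFormal)
    (𝒜 : ∀ n, (𝔛.X n).IdealSheafData) (h : ∀ n, (𝒜 (n + 1)).comap (𝔛.ι n) = 𝒜 n) :
    (FSch.subSys 𝔛 𝒜 (fun n ↦ (h n).le)).IsLocNoethFormal ∧
      FSch.IsAdicHom (FSch.subSysι 𝔛 𝒜 (fun n ↦ (h n).le)) := by
  have hadic : FSch.IsAdicHom (FSch.subSysι 𝔛 𝒜 (fun n ↦ (h n).le)) := fun n => by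
    haveI := (h𝔛.1 n).1
    have := isPullback_of_isClosedImmersion (𝒜 n).subschemeι (𝒜 (n + 1)).subschemeι
      ((FSch.subSys 𝔛 𝒜 (fun n ↦ (h n).le)).ι n) (𝔛.ι n)
      ((FSch.subSysι 𝔛 𝒜 (fun n ↦ (h n).le) : FSch.Hom _ _).comm n).symm.symm
      (by rw [Scheme.IdealSheafData.ker_subschemeι, Scheme.IdealSheafData.ker_subschemeι, h n])
    exact this.flip
  haveI := h𝔛.2.2 0
  haveI : IsClosedImmersion (𝒜 0).subschemeι := inferInstance
  haveI : LocallyOfFiniteType (𝒜 0).subschemeι := (IsFinite.iff_isIntegralHom_and_locallyOfFiniteType _).1 inferInstance |>.2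
  have hN : IsLocallyNoetherian (𝒜 0).subscheme :=
    LocallyOfFiniteType.isLocallyNoetherian (𝒜 0).subschemeι
  haveI : IsLocallyNoetherian ((FSch.subSys 𝔛 𝒜 (fun n ↦ (h n).le)).X 0) := hN
  exact ⟨Groth.Agent.S3857.result _ h𝔛 hadic, hadic⟩

end Groth.Agent.S3865
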