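import Groth.Statements.S3867
import Mathlib

set_option autoImplicit false
universe u
open FCompl

namespace Groth.Agent.S3867

open AlgebraicGeometry CategoryTheory CategoryTheory.Limits

theorem h9_isPushout_quot {A B : Type u} [CommRing A] [CommRing B] (I : Ideal A) (K : Ideal B)
    (φ : B →+* A) (h : K ≤ I.comap φ) (hK : K.map φ = I) (n : ℕ) :
    IsPushout (CommRingCat.ofHom (FSch.quotPowMap I K φ h (n + 1)))
      (CommRingCat.ofHom (Ideal.Quotient.factor (S := K ^ (n + 2)) (T := K ^ (n + 1))
        (Ideal.pow_le_pow_right (Nat.le_succ _))))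
      (CommRingCat.ofHom (Ideal.Quotient.factor (S := I ^ (n + 2)) (T := I ^ (n + 1))
        (Ideal.pow_le_pow_right (Nat.le_succ _))))
      (CommRingCat.ofHom (FSch.quotPowMap I K φ h n)) := by
  refine ⟨⟨?_⟩, ⟨PushoutCocone.IsColimit.mk _
    (fun s => CommRingCat.ofHom (Ideal.Quotient.lift (I ^ (n + 1))
      (s.inl.hom.comp (Ideal.Quotient.mk (I ^ (n + 2)))) ?_)) ?_ ?_ ?_⟩⟩
  · ext x
    rfl
  · intro a ha
    have hle : (K ^ (n + 1)).map φ ≤ RingHom.ker (s.inl.hom.comp (Ideal.Quotient.mk (I ^ (n + 2)))) := by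
      rw [Ideal.map_le_iff_le_comap]
      intro b hb
      have := RingHom.congr_fun (congrArg CommRingCat.Hom.hom s.condition) (Ideal.Quotient.mk _ b)
      rw [Ideal.mem_comap, RingHom.mem_ker]
      refine this.trans ?_
      have h0 : (Ideal.Quotient.mk (K ^ (n + 1)) b) = 0 := Ideal.Quotient.eq_zero_iff_mem.2 hb
      show s.inr.hom (Ideal.Quotient.mk (K ^ (n + 1)) b) = 0
      rw [h0, map_zero]
    rw [Ideal.map_pow, hK] at hle
    exact hle ha
  · intro s; ext x; rfl
  · intro s; ext x
    exact RingHom.congr_fun (congrArg CommRingCat.Hom.hom s.condition) (Ideal.Quotient.mk _ x)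
  · intro s m hl hr; ext x
    exact RingHom.congr_fun (congrArg CommRingCat.Hom.hom hl) (Ideal.Quotient.mk _ x)

open AlgebraicGeometry in
/-- Formal spectra are presented as the systems Spec(A/I^(n+1)) and Spec(B/K^(n+1)), a morphism of
systems being adic when all its squares are cartesian. Let A be a Noetherian ring, complete and
separated for the I-adic topology of an ideal I, K an ideal of a ring B and φ : B → A a ring
homomorphism with φ(K) ⊆ I. Then the induced morphism Spf(A) → Spf(B) is adic if and only if the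
ideal of A generated by φ(K) is I. -/
theorem result (A B : Type u) [CommRing A] [CommRing B] [IsNoetherianRing A]
    (I : Ideal A) (K : Ideal B) [IsAdicComplete I A] (φ : B →+* A) (h : K ≤ I.comap φ) :
    FSch.IsAdicHom (FSch.spfMap I K φ h) ↔ K.map φ = I := by
  constructor
  · intro hadic
    refine le_antisymm (Ideal.map_le_iff_le_comap.2 h) ?_
    refine Submodule.le_of_le_smul_of_le_jacobson_bot (IsNoetherian.noetherian I)
      (IsAdicComplete.le_jacobson_bot I) ?_
    rw [smul_eq_mul, sup_comm, ← sq]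
    let J : Ideal A := I ^ 2 ⊔ K.map φ
    let p : A ⧸ I ^ 2 →+* A ⧸ J := Ideal.Quotient.factor le_sup_left
    let q : B ⧸ K ^ (0 + 1) →+* A ⧸ J := Ideal.quotientMap J φ
      ((show K ^ (0 + 1) ≤ K by simp).trans (Ideal.le_comap_map.trans (Ideal.comap_mono le_sup_right)))
    obtain ⟨l, hl, -⟩ := (hadic 0).exists_lift (Spec.map (CommRingCat.ofHom p)) (Spec.map (CommRingCat.ofHom q))
      (by
        change Spec.map _ ≫ Spec.map _ = Spec.map _ ≫ Spec.map _
        rw [← Spec.map_comp, ← Spec.map_comp]
        congr 1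
        ext x
        rfl)
    obtain ⟨r, rfl⟩ := Spec.map_surjective l
    change Spec.map _ ≫ Spec.map _ = Spec.map _ at hl
    rw [← Spec.map_comp] at hl
    intro x hx
    refine Ideal.Quotient.eq_zero_iff_mem.1 (?_ : Ideal.Quotient.mk J x = 0)
    refine (RingHom.congr_fun (congrArg CommRingCat.Hom.hom (Spec.map_injective hl)) (Ideal.Quotient.mk _ x)).symm.trans ?_
    show r.hom (Ideal.Quotient.mk (I ^ (0 + 1)) x) = 0
    rw [(Ideal.Quotient.eq_zero_iff_mem.2 (by simpa using hx) : Ideal.Quotient.mk (I ^ (0 + 1)) x = 0)]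
    exact map_zero _
  · intro hK n
    exact isPullback_SpecMap_of_isPushout _ _ _ _ (h9_isPushout_quot I K φ h hK n)

end Groth.Agent.S3867
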