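import Groth.Statements.S3868
import Mathlib
import Groth.Agent.FSchLevLib.Basic
import Groth.Agent.FSchAffineLib.LimRing
import Groth.Agent.S0440
import Groth.Agent.S3856

set_option autoImplicit false
universe u
open FCompl

namespace Groth.Agent.S3868

open AlgebraicGeometry CategoryTheory

theorem h9_iso_of_levelwise {𝔛 𝔜 : FSch.Sys.{u}} (e : ∀ n, 𝔛.X n ≅ 𝔜.X n)
    (h : ∀ n, (e n).hom ≫ 𝔜.ι n = 𝔛.ι n ≫ (e (n + 1)).hom) : Nonempty (𝔛 ≅ 𝔜) :=
  ⟨{ hom := ⟨fun n => (e n).hom, h⟩
     inv := ⟨fun n => (e n).inv, fun n => by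
       rw [Iso.inv_comp_eq, ← Category.assoc, h n, Category.assoc, Iso.hom_inv_id, Category.comp_id]⟩
     hom_inv_id := FSch.Hom.ext (funext fun n => (e n).hom_inv_id)
     inv_hom_id := FSch.Hom.ext (funext fun n => (e n).inv_hom_id) }⟩

open AlgebraicGeometry in
open CategoryTheory in
/-- (Systems of thickenings.) Let (X_n) be a system of schemes whose transition maps are surjective
closed immersions, with the kernel ideal of X_n -> X_(n+1) the (n+1)-st power of that of X_0 ->
X_(n+1), X_0 affine and locally Noetherian, and the kernel ideal of X_0 -> X_1 of finite type. Then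
the system is isomorphic to the formal spectrum Spec(A/J) -> Spec(A/J^2) -> ... of some Noetherian
ring A complete and separated for the J-adic topology, J an ideal of A. -/
theorem result (𝔛 : FSch.Sys.{u}) (hF : 𝔛.IsFormal) (hA : 𝔛.IsAdic)
    [IsAffine (𝔛.X 0)] [IsLocallyNoetherian (𝔛.X 0)] (hft : FSch.IdealFT (𝔛.ι 0).ker) :
    ∃ (A : Type u) (_ : CommRing A) (J : Ideal A),
      IsNoetherianRing A ∧ IsAdicComplete J A ∧ Nonempty (𝔛 ≅ FSch.spf A J) := by
  haveI haff : ∀ n, IsAffine (𝔛.X n) := fun n => by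
    induction n with
    | zero => infer_instance
    | succ n ih => haveI := (hF n).1; exact Groth.Agent.S0440.result (𝔛.ι n) (hF n).2
  let R : ℕ → Type u := fun n => Γ(𝔛.X n, ⊤)
  letI : ∀ n, CommRing (R n) := fun n => inferInstanceAs (CommRing Γ(𝔛.X n, ⊤))
  let t : ∀ n, R (n + 1) →+* R n := fun n => (𝔛.ι n).appTop.hom
  have hsurjX : ∀ n, Function.Surjective (𝔛.toX n).appTop.hom := fun n => by
    haveI := FSch.Sys.toX_isClosedImmersion 𝔛 hF n
    exact (𝔛.toX n).app_surjective ⊤ (isAffineOpen_top _)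
  have ht : ∀ n, Function.Surjective (t n) := fun n => by
    haveI := (hF n).1
    exact (𝔛.ι n).app_surjective ⊤ (isAffineOpen_top _)
  let A := Groth.Agent.FSchAffineLib.limRing R t
  let π : ∀ n, A →+* R n := Groth.Agent.FSchAffineLib.proj R t
  have hπ : ∀ n, Function.Surjective (π n) := Groth.Agent.FSchAffineLib.proj_surjective R t ht
  have h0 : ∀ n (x : A), (𝔛.toX n).appTop.hom (π n x) = π 0 x := by
    intro n
    induction n with
    | zero => intro x; simp [FSch.Sys.toX]
    | succ n ih =>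
      intro x
      refine Eq.trans ?_ (ih x)
      show (𝔛.toX n ≫ 𝔛.ι n).appTop.hom (π (n + 1) x) = _
      rw [Scheme.Hom.comp_appTop]
      exact congrArg (𝔛.toX n).appTop.hom (Groth.Agent.FSchAffineLib.t_proj R t n x)
  have hmap : ∀ n, (RingHom.ker (π 0)).map (π n) = RingHom.ker (𝔛.toX n).appTop.hom := by
    intro n
    apply le_antisymm
    · rw [Ideal.map_le_iff_le_comap]
      intro x hx
      rw [Ideal.mem_comap, RingHom.mem_ker, h0]
      exact hx
    · intro y hy
      obtain ⟨x, rfl⟩ := hπ n y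
      exact Ideal.mem_map_of_mem _ ((h0 n x).symm.trans hy)
  have hpow : ∀ n, RingHom.ker (π 0) ^ (n + 1) ≤ RingHom.ker (π n) := by
    intro n
    rw [← Ideal.map_eq_bot_iff_le_ker, Ideal.map_pow, hmap]
    exact Groth.Agent.FSchLevLib.pow_ker_app 𝔛 hF hA n ⟨⊤, isAffineOpen_top _⟩
  have hker : ∀ n, RingHom.ker (π n) ≤ RingHom.ker (π 0) ^ (n + 1) ⊔ RingHom.ker (π (n + 1)) := by
    intro n x hx
    have h1 : π (n + 1) x ∈ RingHom.ker (t n) := (Groth.Agent.FSchAffineLib.t_proj R t n x).trans hx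
    have h2 : RingHom.ker (t n) = RingHom.ker (𝔛.toX (n + 1)).appTop.hom ^ (n + 1) := by
      haveI := (hF n).1
      haveI := FSch.Sys.toX_isClosedImmersion 𝔛 hF (n + 1)
      have h := congrArg (fun I => Scheme.IdealSheafData.ideal I ⟨⊤, isAffineOpen_top _⟩) (hA n)
      simp only [Scheme.IdealSheafData.ideal_pow, Pi.pow_apply, Scheme.Hom.ker_apply] at h
      exact h
    rw [h2, ← hmap, ← Ideal.map_pow] at h1
    rw [RingHom.ker_eq_comap_bot (π (n + 1)), ← Ideal.comap_map_of_surjective _ (hπ (n + 1))]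
    exact h1
  have hfg : (RingHom.ker (t 0)).FG := by
    haveI := (hF 0).1
    have h := hft ⟨⊤, isAffineOpen_top _⟩
    rw [Scheme.Hom.ker_apply] at h
    exact h
  obtain ⟨hJfg, hJ⟩ := Groth.Agent.FSchAffineLib.ker_proj R t ht hpow hker hfg
  haveI := Groth.Agent.FSchAffineLib.isAdicComplete R t hJ
  haveI : IsNoetherianRing (A ⧸ RingHom.ker (π 0) ^ 2) := by
    haveI := Groth.Agent.FSchLevLib.isLocallyNoetherian_level 𝔛 hF hA hft 1
    haveI : IsNoetherianRing (R 1) := IsLocallyNoetherian.component_noetherian ⟨⊤, isAffineOpen_top (𝔛.X 1)⟩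
    exact isNoetherianRing_of_ringEquiv _
      ((Ideal.quotEquivOfEq (hJ 1).symm).trans (RingHom.quotientKerEquivOfSurjective (hπ 1))).symm
  refine ⟨A, inferInstance, RingHom.ker (π 0), Groth.Agent.S3856.result A (RingHom.ker (π 0)), inferInstance, ?_⟩
  let e : ∀ n, A ⧸ RingHom.ker (π 0) ^ (n + 1) ≃+* R n := fun n =>
    (Ideal.quotEquivOfEq (hJ n).symm).trans (RingHom.quotientKerEquivOfSurjective (hπ n))
  refine h9_iso_of_levelwise (fun n => (𝔛.X n).isoSpec ≪≫ Scheme.Spec.mapIso (e n).toCommRingCatIso.op) fun n => ?_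
  show ((𝔛.X n).isoSpec.hom ≫ Spec.map (e n).toCommRingCatIso.hom) ≫ Spec.map _ =
    𝔛.ι n ≫ (𝔛.X (n + 1)).isoSpec.hom ≫ Spec.map (e (n + 1)).toCommRingCatIso.hom
  rw [← Scheme.isoSpec_hom_naturality_assoc, Category.assoc, ← Spec.map_comp, ← Spec.map_comp]
  congr 2
  apply CommRingCat.hom_ext
  apply Ideal.Quotient.ringHom_ext
  ext a
  exact (Groth.Agent.FSchAffineLib.t_proj R t n a).symm

end Groth.Agent.S3868
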