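import Groth.Statements.S3872
import Mathlib
import Groth.Agent.S3869

set_option autoImplicit false
universe u
open FCompl

namespace Groth.Agent.S3872

open IsLocalRing

/-- For a ring A, an ideal J and a prime ideal 𝔭 with J ⊆ 𝔭, let A{S⁻¹}, S = A ∖ 𝔭, be the completion of
A_𝔭 for the topology defined by the extension of J, and A_{S} the subring of A{S⁻¹} generated by the
images of the completed localizations A_{f}, f ∉ 𝔭 (the stalk ring of Spf(A) at 𝔭). Given that A_{S}
and A{S⁻¹} are local rings and that the inclusion A_{S} → A{S⁻¹} and the canonical map A_𝔭 → A{S⁻¹}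
are local homomorphisms (all four are carried here as instance hypotheses; the two about A_{S} are
stated separately), both maps induce bijections on residue fields; so the residue field of A_{S} is
the residue field κ(𝔭) of A_𝔭. -/
theorem result (A : Type u) [CommRing A] (J : Ideal A) (𝔭 : Ideal A)
    [𝔭.IsPrime] (hJ : J ≤ 𝔭) [IsLocalRing (FSch.stalkSubring A J 𝔭)] [IsLocalRing (FSch.cAtPrime A J 𝔭)]
    [IsLocalHom (FSch.stalkSubring A J 𝔭).subtype]
    [IsLocalHom (algebraMap (Localization.AtPrime 𝔭) (FSch.cAtPrime A J 𝔭))] :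
    Function.Bijective (IsLocalRing.ResidueField.map (FSch.stalkSubring A J 𝔭).subtype) ∧
      Function.Bijective
        (IsLocalRing.ResidueField.map (algebraMap (Localization.AtPrime 𝔭) (FSch.cAtPrime A J 𝔭))) := by
  set R := Localization.AtPrime 𝔭
  set I : Ideal R := J.map (algebraMap A R) with hI
  have hItop : I ≠ ⊤ := fun htop => by
    have h1 : I ≤ maximalIdeal R := by
      rw [hI, Ideal.map_le_iff_le_comap]; exact hJ.trans (le_of_eq (IsLocalization.AtPrime.comap_maximalIdeal R 𝔭).symm)
    exact (maximalIdeal.isMaximal R).ne_top (top_le_iff.1 (htop ▸ h1))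
  have approx : ∀ x : FSch.cAtPrime A J 𝔭, ∃ a : R, x - algebraMap R (FSch.cAtPrime A J 𝔭) a ∈ maximalIdeal _ := by
    intro x
    obtain ⟨a, ha⟩ := Ideal.Quotient.mk_surjective (AdicCompletion.evalₐ I 1 x)
    refine ⟨a, ?_⟩
    rw [mem_maximalIdeal, mem_nonunits_iff]
    intro hu
    have h1 := hu.map (AdicCompletion.evalₐ I 1).toRingHom
    have h0 : (AdicCompletion.evalₐ I 1).toRingHom (x - algebraMap R (FSch.cAtPrime A J 𝔭) a) = 0 := by
      show AdicCompletion.evalₐ I 1 (x - algebraMap R _ a) = 0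
      rw [map_sub, ← ha, AlgHom.commutes, Ideal.Quotient.algebraMap_eq, sub_self]
    rw [h0, isUnit_zero_iff] at h1
    exact hItop ((Ideal.Quotient.zero_eq_one_iff.1 h1).symm.trans (pow_one I)).symm
  refine ⟨⟨RingHom.injective _, ?_⟩, ⟨RingHom.injective _, ?_⟩⟩
  · intro y
    obtain ⟨x, rfl⟩ := Ideal.Quotient.mk_surjective y
    obtain ⟨a, ha⟩ := approx x
    obtain ⟨⟨b, s⟩, hbs⟩ := IsLocalization.surj 𝔭.primeCompl a
    have hmem : algebraMap R (FSch.cAtPrime A J 𝔭) a ∈ FSch.stalkSubring A J 𝔭 := by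
      refine (le_iSup (fun f : {f : A // f ∉ 𝔭} => (FSch.cAwayToAtPrime A J 𝔭 f.1 f.2).range) ⟨s.1, s.2⟩) ?_
      refine ⟨algebraMap (Localization.Away s.1) _ (IsLocalization.Away.invSelf (S := Localization.Away s.1) s.1 *
        algebraMap A (Localization.Away s.1) b), ?_⟩
      have hg : FSch.awayToAtPrime A 𝔭 s.1 s.2 (IsLocalization.Away.invSelf (S := Localization.Away s.1) s.1 *
          algebraMap A (Localization.Away s.1) b) = a := by
        apply (IsLocalization.map_units R s).mul_left_cancel
        rw [mul_comm _ a, hbs]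
        have e : ∀ z, FSch.awayToAtPrime A 𝔭 s.1 s.2 (algebraMap A (Localization.Away s.1) z) = algebraMap A R z :=
          fun z => IsLocalization.Away.lift_eq _ _ _
        rw [← e b, ← e s.1, ← map_mul, ← mul_assoc, IsLocalization.Away.mul_invSelf, one_mul]
      apply AdicCompletion.ext_evalₐ
      intro n
      rw [FSch.cAwayToAtPrime, Groth.Agent.S3869.evalₐ_complMap, AlgHom.commutes, Ideal.Quotient.algebraMap_eq,
        Ideal.quotientMap_mk, hg, AlgHom.commutes]
      rfl
    refine ⟨residue _ ⟨_, hmem⟩, ?_⟩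
    rw [ResidueField.map_residue]
    exact (Ideal.Quotient.eq.2 ha).symm
  · intro y
    obtain ⟨x, rfl⟩ := Ideal.Quotient.mk_surjective y
    obtain ⟨a, ha⟩ := approx x
    exact ⟨residue _ a, (ResidueField.map_residue _ _).trans (Ideal.Quotient.eq.2 ha).symm⟩

end Groth.Agent.S3872
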