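import Groth.Statements.S6535
import Groth.Agent.HyperLib.Face
import Groth.Agent.HyperLib.Refine
-- import your own Groth.Agent.* helpers here

set_option autoImplicit false
universe u
set_option backward.isDefEq.respectTransparency false
open CategoryTheory
open Hyper

namespace Groth.Agent.S6535

open Opposite CategoryTheory.Limits in
/-- Let C be a small site with fibre products, X an object, K, L, M simplicial semi-representable
objects over X with morphisms a : K → L and b : M → L, and P = K ×_L M a fibre product (a pullback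
square of simplicial objects). Assume (1) K is a hypercovering of X, (2) M_0 → L_0 is a covering,
and (3) for every n ≥ 0 the canonical morphism γ : M_{n+1} → L_{n+1} ×_{(cosk_n sk_n L)_{n+1}}
(cosk_n sk_n M)_{n+1} is a covering (stated for every fibre product of that cospan and the induced
γ). Then P is a hypercovering of X. -/
theorem result {C : Type u} [SmallCategory C] [HasPullbacks C]
    (J : GrothendieckTopology C) (X : C)
    [∀ (n : ℕ) (F : (SimplexCategory.Truncated n)ᵒᵖ ⥤ Limits.FormalCoproduct.{u} (Over X)),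
      (SimplexCategory.Truncated.inclusion n).op.HasRightKanExtension F]
    {K L M P : SimplicialObject (FormalCoproduct.{u} (Over X))} (a : K ⟶ L) (b : M ⟶ L)
    (p1 : P ⟶ K) (p2 : P ⟶ M) (hP : IsPullback p1 p2 a b)
    (hK : Hyper.IsHypercovering J X K)
    (h0 : Hyper.IsSRCovering (J.over X) (b.app (op (SimplexCategory.mk 0))))
    (hγ : ∀ (n : ℕ) (Q : FormalCoproduct.{u} (Over X))
      (q1 : Q ⟶ L.obj (op (SimplexCategory.mk (n + 1))))
      (q2 : Q ⟶ ((SimplicialObject.truncation n ⋙ SimplicialObject.Truncated.cosk n).obj M).obj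
        (op (SimplexCategory.mk (n + 1))))
      (γ : M.obj (op (SimplexCategory.mk (n + 1))) ⟶ Q),
      IsPullback q1 q2 (((SimplicialObject.coskAdj n).unit.app L).app (op (SimplexCategory.mk (n + 1))))
        (((SimplicialObject.truncation n ⋙ SimplicialObject.Truncated.cosk n).map b).app
          (op (SimplexCategory.mk (n + 1)))) →
      γ ≫ q1 = b.app (op (SimplexCategory.mk (n + 1))) →
      γ ≫ q2 = ((SimplicialObject.coskAdj n).unit.app M).app (op (SimplexCategory.mk (n + 1))) →
      Hyper.IsSRCovering (J.over X) γ) :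
    Hyper.IsHypercovering J X P := by
  have lvl : ∀ m : ℕ, IsPullback (p1.app (op (SimplexCategory.mk m))) (p2.app (op (SimplexCategory.mk m)))
      (a.app (op (SimplexCategory.mk m))) (b.app (op (SimplexCategory.mk m))) :=
    fun m => hP.map ((evaluation SimplexCategoryᵒᵖ (FormalCoproduct.{u} (Over X))).obj (op (SimplexCategory.mk m)))
  refine ⟨?_, fun n => ?_⟩
  · refine J.transitive hK.1 _ ?_
    intro Z f hf
    obtain ⟨i, h, rfl⟩ := (Sieve.mem_ofArrows_iff _ _ _).1 hf
    let Y : Over X := Over.mk (h ≫ ((K.obj (op (SimplexCategory.mk 0))).obj i).hom)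
    let t : (FormalCoproduct.incl (Over X)).obj Y ⟶ K.obj (op (SimplexCategory.mk 0)) :=
      FormalCoproduct.Hom.fromIncl i (Over.homMk h rfl)
    have hb := HyperLib.cov_of_isSRCovering _ h0 Y (t ≫ a.app _)
    rw [GrothendieckTopology.mem_over_iff] at hb
    refine J.superset_covering ?_ hb
    intro W g hg
    obtain ⟨m, hm⟩ := (Sieve.overEquiv_iff _ _).1 hg
    let k : Over.mk (g ≫ Y.hom) ⟶ Y := Over.homMk g rfl
    let l := (lvl 0).lift ((FormalCoproduct.incl (Over X)).map k ≫ t) m
      ((Category.assoc _ _ _).trans hm.symm)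
    exact (Sieve.mem_ofArrows_iff _ _ _).2 ⟨l.f PUnit.unit, (l.φ PUnit.unit).left,
      (Over.w (l.φ PUnit.unit)).symm⟩
  refine HyperLib.Cov.isSRCovering _ (HyperLib.cov_unit (J.over X) n (n + 1) fun Y F => ?_)
  let G : HyperLib.Family K n (n + 1) Y :=
    { g := fun m hm θ => F.g m hm θ ≫ p1.app _
      compat := fun m m' hm hm' φ θ => by
        rw [Category.assoc, ← p1.naturality, ← Category.assoc, F.compat m m' hm hm'] }
  let H : HyperLib.Family M n (n + 1) Y :=
    { g := fun m hm θ => F.g m hm θ ≫ p2.app _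
      compat := fun m m' hm hm' φ θ => by
        rw [Category.assoc, ← p2.naturality, ← Category.assoc, F.compat m m' hm hm'] }
  obtain ⟨S, hS, hfill⟩ := HyperLib.fill_of_cov (J.over X) (HyperLib.cov_of_isSRCovering _ (hK.2 n)) G
  obtain ⟨s, hs⟩ := HyperLib.exists_face H
  let ηL := ((SimplicialObject.coskAdj n).unit.app L).app (op (SimplexCategory.mk (n + 1)))
  let cb := ((SimplicialObject.truncation n ⋙ SimplicialObject.Truncated.cosk n).map b).app
          (op (SimplexCategory.mk (n + 1)))
  have sq : b.app (op (SimplexCategory.mk (n + 1))) ≫ ηL =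
      ((SimplicialObject.coskAdj n).unit.app M).app (op (SimplexCategory.mk (n + 1))) ≫ cb :=
    NatTrans.congr_app ((SimplicialObject.coskAdj n).unit.naturality b) (op (SimplexCategory.mk (n + 1)))
  let γ := pullback.lift (f := ηL) (g := cb) (b.app (op (SimplexCategory.mk (n + 1))))
    (((SimplicialObject.coskAdj n).unit.app M).app (op (SimplexCategory.mk (n + 1)))) sq
  have hcov := HyperLib.cov_of_isSRCovering _ (hγ n (pullback ηL cb) (pullback.fst ηL cb) (pullback.snd ηL cb)
    γ (IsPullback.of_hasPullback ηL cb) (pullback.lift_fst _ _ _) (pullback.lift_snd _ _ _))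
  have hc : ∀ {Z : Over X} (k : Z ⟶ Y) (hk : S k),
      ((hfill k hk).choose ≫ a.app _) ≫ ηL = ((FormalCoproduct.incl (Over X)).map k ≫ s) ≫ cb := by
    intro Z k hk
    refine HyperLib.face_ext fun m hm θ => ?_
    rw [HyperLib.face_unit, HyperLib.face_map, HyperLib.face_res, hs, Category.assoc, ← a.naturality,
      ← Category.assoc, (hfill k hk).choose_spec m hm θ]
    simp only [G, H, Category.assoc]
    rw [(lvl m).w]
  refine ⟨_, (J.over X).bind_covering hS (R := fun {Z} k hk => HyperLib.liftSieve γ
    (pullback.lift ((hfill k hk).choose ≫ a.app _) ((FormalCoproduct.incl (Over X)).map k ≫ s) (hc k hk)))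
    (fun {Z} k hk => hcov _ _), ?_⟩
  rintro Z' _ ⟨Z, k', k, hk, ⟨m', hm'⟩, rfl⟩
  have h₁ : m' ≫ b.app _ = (FormalCoproduct.incl (Over X)).map k' ≫ (hfill k hk).choose ≫ a.app _ := by
    have := congrArg (· ≫ pullback.fst ηL cb) hm'
    simpa [γ] using this
  have h₂ : m' ≫ ((SimplicialObject.coskAdj n).unit.app M).app (op (SimplexCategory.mk (n + 1))) =
      (FormalCoproduct.incl (Over X)).map (k' ≫ k) ≫ s := by
    have := congrArg (· ≫ pullback.snd ηL cb) hm'
    simpa [γ] using this
  refine ⟨(lvl (n + 1)).lift ((FormalCoproduct.incl (Over X)).map k' ≫ (hfill k hk).choose) m'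
    ((Category.assoc _ _ _).trans h₁.symm), fun m hm θ => (lvl m).hom_ext ?_ ?_⟩
  · rw [Category.assoc, p1.naturality, ← Category.assoc, IsPullback.lift_fst, Category.assoc,
      (hfill k hk).choose_spec m hm θ, Category.assoc, Functor.map_comp, Category.assoc]
  · rw [Category.assoc, p2.naturality, ← Category.assoc, IsPullback.lift_snd]
    have h₃ := HyperLib.face_unit (n := n) m' m hm θ
    rw [h₂, HyperLib.face_res, hs] at h₃
    exact h₃.symm.trans (Category.assoc _ _ _).symm


end Groth.Agent.S6535
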