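import Groth.Statements.S3880
import Groth.Agent.S6535
import Groth.Agent.HyperLib.PrismCov
-- import your own Groth.Agent.* helpers here

set_option autoImplicit false
universe u
set_option backward.isDefEq.respectTransparency false
open CategoryTheory
open Hyper

namespace Groth.Agent.S3880

open Opposite CategoryTheory.Limits in
/-- For hypercoverings of an object X of a small site with fibre products (coskeleta assumed to exist):
(a) any two hypercoverings K, L of X receive morphisms from a common hypercovering M; (b) for any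
two morphisms a, b : K -> L of hypercoverings there is a morphism of hypercoverings c : M -> K such
that c followed by a and c followed by b are homotopic (simplicial homotopy in the combinatorial
sense, equivalent to a morphism from the product of M with the simplicial interval). In other words
the opposite of the category of hypercoverings up to homotopy is filtered. -/
theorem result {C : Type u} [SmallCategory C] [HasPullbacks C]
    (J : GrothendieckTopology C) (X : C)
    [∀ (n : ℕ) (F : (SimplexCategory.Truncated n)ᵒᵖ ⥤ Limits.FormalCoproduct.{u} (Over X)),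
      (SimplexCategory.Truncated.inclusion n).op.HasRightKanExtension F]
    (K L : SimplicialObject (FormalCoproduct.{u} (Over X)))
    (hK : Hyper.IsHypercovering J X K) (hL : Hyper.IsHypercovering J X L) :
    (∃ (M : SimplicialObject (FormalCoproduct.{u} (Over X))) (_ : M ⟶ K) (_ : M ⟶ L),
      Hyper.IsHypercovering J X M) ∧
    ∀ (a b : K ⟶ L), ∃ (M : SimplicialObject (FormalCoproduct.{u} (Over X))) (c : M ⟶ K),
      Hyper.IsHypercovering J X M ∧ Nonempty (SimplicialObject.Homotopy (c ≫ a) (c ≫ b)) := by
  haveI : HasFiniteLimits (FormalCoproduct.{u} (Over X)) := hasFiniteLimits_of_hasTerminal_and_pullbacks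
  have hcovK := fun q : ℕ => HyperLib.cov_of_isSRCovering (J.over X) (hK.2 q)
  have hcovL := fun q : ℕ => HyperLib.cov_of_isSRCovering (J.over X) (hL.2 q)
  have lift_vertex : ∀ (N : SimplicialObject (FormalCoproduct.{u} (Over X))),
      Hyper.IsHypercovering J X N → ∀ Y : Over X, ∀ ⦃W : C⦄ (g : W ⟶ Y.left),
        (Sieve.ofArrows (fun i => ((N.obj (op (SimplexCategory.mk 0))).obj i).left)
          (fun i => ((N.obj (op (SimplexCategory.mk 0))).obj i).hom)).pullback Y.hom g →
        Nonempty ((FormalCoproduct.incl (Over X)).obj (Over.mk (g ≫ Y.hom)) ⟶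
          N.obj (op (SimplexCategory.mk 0))) := by
    intro N _ Y W g hg
    obtain ⟨i, h, hh⟩ := (Sieve.mem_ofArrows_iff _ _ _).1 hg
    exact ⟨FormalCoproduct.Hom.fromIncl i (Over.homMk h hh.symm)⟩
  refine ⟨?_, fun a b => ⟨HyperLib.Prism.eqz a b, HyperLib.Prism.proj a b, ⟨?_, fun n => ?_⟩,
    ⟨HyperLib.Prism.htpy a b⟩⟩⟩
  · let T := (FormalCoproduct.incl (Over X)).obj (Over.mk (𝟙 X))
    have hT : IsTerminal T := FormalCoproduct.isTerminalIncl _ Over.mkIdTerminal
    let Tc : SimplicialObject (FormalCoproduct.{u} (Over X)) := (Functor.const SimplexCategoryᵒᵖ).obj T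
    let fK : K ⟶ Tc := { app := fun m => hT.from _, naturality := fun m m' θ => hT.hom_ext _ _ }
    let fL : L ⟶ Tc := { app := fun m => hT.from _, naturality := fun m m' θ => hT.hom_ext _ _ }
    refine ⟨pullback fK fL, pullback.fst _ _, pullback.snd _ _, S6535.result J X fK fL _ _
      (IsPullback.of_hasPullback fK fL) hK ?_ ?_⟩
    · refine HyperLib.Cov.isSRCovering _ fun Y t => ?_
      rw [GrothendieckTopology.mem_over_iff]
      refine J.superset_covering ?_ (J.pullback_stable Y.hom hL.1)
      intro W g hg
      obtain ⟨l⟩ := lift_vertex L hL Y g hg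
      exact (Sieve.overEquiv_iff _ _).2 ⟨l, hT.hom_ext _ _⟩
    · intro n Q q1 q2 γ hQ _ hγ₂
      refine HyperLib.Cov.isSRCovering _ fun Y t => ?_
      refine (J.over X).superset_covering ?_ (hcovL n Y (t ≫ q2))
      rintro W k ⟨l, hl⟩
      refine ⟨l, hQ.hom_ext (hT.hom_ext _ _) ?_⟩
      rw [Category.assoc, hγ₂, Category.assoc]
      exact hl
  · refine J.transitive hK.1 _ ?_
    intro Z f hf
    obtain ⟨i, h, rfl⟩ := (Sieve.mem_ofArrows_iff _ _ _).1 hf
    let t : (FormalCoproduct.incl (Over X)).obj (Over.mk (h ≫ ((K.obj (op (SimplexCategory.mk 0))).obj i).hom)) ⟶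
        K.obj (op (SimplexCategory.mk 0)) :=
      FormalCoproduct.Hom.fromIncl i (Over.homMk h rfl)
    obtain ⟨S, hS, hfill⟩ := HyperLib.Prism.exists_vertex (a := a) (b := b) (hcovL 0) t
    rw [GrothendieckTopology.mem_over_iff] at hS
    refine J.superset_covering ?_ hS
    intro W g hg
    obtain ⟨m⟩ := hfill _ ((Sieve.overEquiv_iff _ _).1 hg)
    exact (Sieve.mem_ofArrows_iff _ _ _).2 ⟨m.f PUnit.unit, (m.φ PUnit.unit).left,
      (Over.w (m.φ PUnit.unit)).symm⟩
  · exact HyperLib.Cov.isSRCovering _ (HyperLib.Prism.cov_eqz hcovL hcovK n)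


end Groth.Agent.S3880
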