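import Groth.Statements.S3882
import Groth.Agent.HyperLib.Dying
-- import your own Groth.Agent.* helpers here

set_option autoImplicit false
universe u
set_option backward.isDefEq.respectTransparency false
open CategoryTheory
open Hyper

namespace Groth.Agent.S3882

open Opposite CategoryTheory.Limits in
/-- The statement its proof reduces the result to (hypercoverings of an object X of a small site with
fibre products; coskeleta assumed to exist): let N be a presheaf of abelian groups whose associated
sheaf is zero, K a hypercovering of X and ξ a class in the p-th Cech cohomology group of N with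
respect to K. Then there is a morphism of hypercoverings f : L -> K such that ξ maps to zero in the
p-th Cech cohomology group of N with respect to L. (So Cech cohomology over all hypercoverings up to
homotopy kills such presheaves in every degree.) -/
theorem result {C : Type u} [SmallCategory C] [HasPullbacks C]
    (J : GrothendieckTopology C) (X : C)
    [∀ (n : ℕ) (F : (SimplexCategory.Truncated n)ᵒᵖ ⥤ Limits.FormalCoproduct.{u} (Over X)),
      (SimplexCategory.Truncated.inclusion n).op.HasRightKanExtension F]
    (K : SimplicialObject (FormalCoproduct.{u} (Over X))) (hK : Hyper.IsHypercovering J X K)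
    (N : Cᵒᵖ ⥤ AddCommGrpCat.{u}) (hN : IsZero ((presheafToSheaf J AddCommGrpCat.{u}).obj N))
    (p : ℕ) (ξ : Hyper.cechH X K N p) :
    ∃ (L : SimplicialObject (FormalCoproduct.{u} (Over X))) (f : L ⟶ K),
      Hyper.IsHypercovering J X L ∧ Hyper.cechHMap X f N p ξ = 0 := by
  haveI := hN
  let N' := (presheafToSheaf J AddCommGrpCat.{u}).obj N
  have hx : ∀ {K : SimplicialObject (FormalCoproduct.{u} (Over X))} {n : ℕ}
      (x : (HyperLib.co K N).X n), (HyperLib.am K (toSheafify J N)).f n x = 0 := fun {K n} x => by
    refine HyperLib.cochain_ext K _ fun i => ?_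
    rw [HyperLib.valN_am, map_zero]
    haveI : Subsingleton (N'.obj.obj (op ((K.obj (op (SimplexCategory.mk n))).obj i).left)) :=
      AddCommGrpCat.subsingleton_of_isZero (Functor.map_isZero
        (sheafToPresheaf J AddCommGrpCat.{u} ⋙ (evaluation _ _).obj (op _)) hN)
    exact @Subsingleton.elim (N'.obj.obj _) this _ _
  have h : HyperLib.AllDie X J N p := fun K hK x _ => by
    obtain ⟨L, f, hL, hf⟩ := HyperLib.exists_kill (J := J) hK (toSheafify J N) x (hx x)
    refine ⟨L, f, hL, ?_⟩
    rw [hf]
    cases p with
    | zero => rfl
    | succ p => exact ⟨0, map_zero _⟩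
  exact (HyperLib.allDie_iff_classes N p).1 h K hK ξ


end Groth.Agent.S3882
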