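import Groth.Statements.S3883
import Groth.Agent.EtPtsLib.Recollement
-- import your own Groth.Agent.* helpers here

set_option autoImplicit false
open CategoryTheory CategoryTheory.Limits AlgebraicGeometry Opposite
set_option backward.isDefEq.respectTransparency false
universe u
open EtDesc

namespace Groth.Agent.S3883

open Groth.Agent.EtPtsLib in
theorem isIso_sh_iff {X : Scheme.{u}} {F G : EtDesc.Sh X} (v : F ⟶ G) :
    IsIso v ↔ ∀ (Ω : Type u) [Field Ω] [IsSepClosed Ω] (ξ : Spec (CommRingCat.of Ω) ⟶ X),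
      Function.Bijective (((Scheme.pointSmallEtale ξ).sheafFiber (A := Type (u + 1))).map v) := by
  refine ⟨fun h Ω _ _ ξ => ConcreteCategory.bijective_of_isIso _, fun h => ?_⟩
  haveI : Mono v := (mono_iff_sh v).2 fun Ω _ _ ξ => (h Ω ξ).1
  haveI : Epi v := (epi_iff_sh v).2 fun Ω _ _ ξ => (h Ω ξ).2
  exact isIso_of_mono_of_epi v

theorem isIso_from_iff {X : Scheme.{u}} (H : EtDesc.Sh X) :
    IsIso (terminal.from H) ↔ ∀ (Ω : Type u) [Field Ω] [IsSepClosed Ω] (ξ : Spec (CommRingCat.of Ω) ⟶ X),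
      Nonempty (Unique ((Scheme.pointSmallEtale ξ).sheafFiber.obj H)) := by
  haveI : AB5OfSize.{u, u} (Type (u + 1)) := AB5OfSize_of_univLE.{u, u, u + 1, u + 1} _
  have ht : ∀ (Ω : Type u) [Field Ω] [IsSepClosed Ω] (ξ : Spec (CommRingCat.of Ω) ⟶ X),
      Unique ((Scheme.pointSmallEtale ξ).sheafFiber.obj (⊤_ EtDesc.Sh X)) := fun Ω _ _ ξ =>
    Types.isTerminalEquivUnique _ (IsTerminal.isTerminalObj ((Scheme.pointSmallEtale ξ).sheafFiber (A := Type (u + 1))) _ terminalIsTerminal)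
  rw [isIso_sh_iff]
  refine ⟨fun h Ω _ _ ξ => ⟨@Equiv.unique _ _ (ht Ω ξ) (Equiv.ofBijective _ (h Ω ξ))⟩, fun h Ω _ _ ξ => ?_⟩
  obtain ⟨u₁⟩ := h Ω ξ
  haveI := u₁
  haveI := ht Ω ξ
  exact ⟨fun a b _ => Subsingleton.elim a b, fun b => ⟨default, Subsingleton.elim _ _⟩⟩

/-- Let i : Y -> X be a closed immersion and j : U -> X an open immersion whose image is the complement
of the image of i. Then the direct image functor i_* on etale sheaves of sets is fully faithful, and
a sheaf of sets F on X is isomorphic to some i_* G if and only if j^* F is a final object. -/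
theorem result {Y X U : Scheme.{u}} (i : Y ⟶ X)
    [IsClosedImmersion i] (j : U ⟶ X) [IsOpenImmersion j]
    (hU : Set.range j.base = (Set.range i.base)ᶜ) :
    (EtDesc.pushSh i).Full ∧ (EtDesc.pushSh i).Faithful ∧
    ∀ F : EtDesc.Sh X, (EtDesc.pushSh i).essImage F ↔ IsIso (terminal.from ((EtDesc.pullSh j).obj F)) := by
  have hL := Groth.Agent.EtPtsLib.liftsLocally_of_isImmersion i
  have hI := Groth.Agent.EtPtsLib.bcInducing_of_isImmersion i
  have hcl : IsClosed (Set.range i) := i.isClosedEmbedding.isClosed_range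
  haveI : ∀ G, IsIso ((EtDesc.adjSh i).counit.app G) := fun G => Groth.Agent.EtPtsLib.isIso_counit_sh i hL hI G
  haveI : IsIso (EtDesc.adjSh i).counit := NatIso.isIso_of_isIso_app _
  have ff := (EtDesc.adjSh i).fullyFaithfulROfIsIsoCounit
  haveI hfull := ff.full
  haveI hfaith := ff.faithful
  refine ⟨hfull, hfaith, fun F => ⟨?_, ?_⟩⟩
  · rintro ⟨G, ⟨e⟩⟩
    rw [isIso_from_iff]
    intro Ω _ _ ζ
    obtain ⟨u₁⟩ := Groth.Agent.EtPtsLib.unique_stalk_pushSh i (ζ ≫ j) hcl
      (fun h => by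
        have : (ζ ≫ j) default ∈ Set.range j := ⟨_, rfl⟩
        rw [hU] at this
        exact this h) G
    refine ⟨@Equiv.unique _ _ u₁ (Iso.toEquiv ?_)⟩
    exact (Groth.Agent.EtPtsLib.pullStalkIso j ζ (Type (u + 1))).app F ≪≫
      ((Scheme.pointSmallEtale (ζ ≫ j)).sheafFiber (A := Type (u + 1))).mapIso e.symm
  · intro hF
    haveI : IsIso ((EtDesc.adjSh i).unit.app F) := by
      rw [isIso_sh_iff]
      intro Ω _ _ ξ
      by_cases h : ξ default ∈ Set.range i
      · obtain ⟨ζ, rfl⟩ := Groth.Agent.EtPtsLib.exists_comp_eq_closed i ξ h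
        haveI := Groth.Agent.EtPtsLib.isIso_stalk_unit (A := Type (u + 1)) i ζ hL hI F
        exact ConcreteCategory.bijective_of_isIso ((Scheme.pointSmallEtale (ζ ≫ i)).sheafFiber.map ((EtDesc.adjSh i).unit.app F))
      · obtain ⟨u₁⟩ := Groth.Agent.EtPtsLib.unique_stalk_pushSh i ξ hcl h ((EtDesc.pullSh i).obj F)
        obtain ⟨ζ, rfl⟩ := Groth.Agent.EtPtsLib.exists_comp_eq j ξ (by rw [hU]; exact h)
        obtain ⟨u₂⟩ := (isIso_from_iff _).1 hF Ω ζ
        haveI := u₁
        haveI : Unique ((Scheme.pointSmallEtale (ζ ≫ j)).sheafFiber.obj F) :=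
          @Equiv.unique _ _ u₂ ((Groth.Agent.EtPtsLib.pullStalkIso j ζ (Type (u + 1))).app F).symm.toEquiv
        exact ⟨fun a b _ => Subsingleton.elim (α := ((Scheme.pointSmallEtale (ζ ≫ j)).sheafFiber.obj F)) a b, fun b => ⟨(default : ((Scheme.pointSmallEtale (ζ ≫ j)).sheafFiber.obj F)), Subsingleton.elim (α := ((Scheme.pointSmallEtale (ζ ≫ j)).sheafFiber.obj ((EtDesc.pushSh i).obj ((EtDesc.pullSh i).obj F)))) _ _⟩⟩
    exact ⟨_, ⟨(asIso ((EtDesc.adjSh i).unit.app F)).symm⟩⟩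

end Groth.Agent.S3883
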