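import Groth.Statements.S3884
import Groth.Agent.EtLimLib.PushSys
-- import your own Groth.Agent.* helpers here

set_option autoImplicit false
open CategoryTheory CategoryTheory.Limits AlgebraicGeometry Opposite
universe u
open EtLim

namespace Groth.Agent.S3884

/-- Let ι be a nonempty directed preordered set, (X_i) an inverse system of quasi-compact
quasi-separated schemes indexed by ι with affine transition morphisms, X a limit with projections
u_i : X -> X_i, and F an abelian sheaf on the small etale site of X. Then the canonical maps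
H^n(X_i, u_{i*} F) -> H^n(X, F) (pull back along u_i, then apply the counit u_i^{-1} u_{i*} F -> F)
identify H^n(X, F) with the directed colimit of the H^n(X_i, u_{i*} F), in the concrete sense: every
class on X comes from some stage, and a class at stage j mapping to zero on X already maps to zero
at some stage k ≥ j under the transition map. (Exactness of pullback of abelian sheaves, which
always holds, is carried as an instance hypothesis.) -/
theorem result {ι : Type u} [Preorder ι] [Nonempty ι] [IsDirected ι (· ≤ ·)] (Xs : ιᵒᵖ ⥤ Scheme.{u})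
    (haff : ∀ ⦃a b : ιᵒᵖ⦄ (h : a ⟶ b), IsAffineHom (Xs.map h))
    (hqc : ∀ a, CompactSpace ↥(Xs.obj a)) (hqs : ∀ a, QuasiSeparatedSpace ↥(Xs.obj a))
    (c : Cone Xs) (hc : IsLimit c) (F : EtCoh.Ab c.pt) (n : ℕ)
    [∀ a, PreservesFiniteLimits (EtCoh.pull (c.π.app a))]
    [∀ ⦃a b : ιᵒᵖ⦄ (h : a ⟶ b), PreservesFiniteLimits (EtCoh.pull (Xs.map h))] :
    (∀ ξ : EtCoh.H c.pt F n,
      ∃ (j : ι) (ξj : EtCoh.H (Xs.obj (op j)) ((EtCoh.push (c.π.app (op j))).obj F) n),
        EtLim.HofPush (c.π.app (op j)) F n ξj = ξ) ∧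
    (∀ (j : ι) (ξj : EtCoh.H (Xs.obj (op j)) ((EtCoh.push (c.π.app (op j))).obj F) n),
      EtLim.HofPush (c.π.app (op j)) F n ξj = 0 →
        ∃ (k : ι) (hk : j ≤ k),
          EtLim.HpushTrans (Xs.map (homOfLE hk).op) (c.π.app (op k)) (c.π.app (op j))
            (c.w (homOfLE hk).op) F n ξj = 0) := by
  let S : EtLimLib.Sys ι := ⟨Xs, haff, hqc, hqs, c, hc⟩
  obtain ⟨hs, hi⟩ := EtLimLib.continuity (EtLimLib.isColim_pushCocone S F) n
  have key : ∀ (i : ι) (x : EtCoh.H (S.X i) ((EtCoh.push (S.u i)).obj F) n),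
      EtLim.HofPush (S.u i) F n x = EtLim.HpullThen (S.u i) ((EtLimLib.pushSys S F).F i)
        ((EtLimLib.pushCocone S F).mate (EtLimLib.pushSys S F) i) n x := fun i x => by
    rw [EtLimLib.pushCocone_mate]
    rfl
  refine ⟨fun ξ => ?_, fun j ξj hj => ?_⟩
  · obtain ⟨i, x, hx⟩ := hs ξ
    exact ⟨i, x, (key i x).trans hx⟩
  · obtain ⟨k, hk, e⟩ := hi j ξj ((key j ξj).symm.trans hj)
    refine ⟨k, hk, Eq.trans ?_ e⟩
    let T := EtCoh.push (S.u k)
    let a := (EtLimLib.pushSys S F).φ hk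
    have ha : a = ((EtCoh.pushCongr (S.u_t hk).symm).app F).hom ≫ (EtCoh.pushComp (S.t hk) (S.u k)).inv.app F :=
      EtLimLib.pushSp_eq (S.t hk) (S.u k) (S.u j) (S.u_t hk) F
    have hmate : (EtLimLib.pushSys S F).mate hk =
        (EtCoh.pull (S.t hk)).map a ≫ (EtCoh.pullPushAdj (S.t hk)).counit.app (T.obj F) :=
      (EtCoh.pullPushAdj (S.t hk)).homEquiv_counit _ _ _
    show EtLim.HpullThen (S.t hk) _ ((EtCoh.pullPushAdj (S.t hk)).counit.app (T.obj F)) n
      (Sheaf.H.map (((EtCoh.pushCongr (S.u_t hk).symm).app F).hom ≫ (EtCoh.pushComp (S.t hk) (S.u k)).inv.app F) n ξj) = _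
    rw [← ha, hmate]
    exact (EtLimLib.HpullThen_natural (S.t hk)
      ((EtCoh.pull (S.t hk)).map a ≫ (EtCoh.pullPushAdj (S.t hk)).counit.app (T.obj F))
      ((EtCoh.pullPushAdj (S.t hk)).counit.app (T.obj F)) a (𝟙 _) (Category.comp_id _) n ξj).symm.trans
      (Abelian.Ext.comp_mk₀_id _)

end Groth.Agent.S3884
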