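import Groth.Statements.S3886
import Mathlib.AlgebraicTopology.SimplicialObject.ChainHomotopy
-- import your own Groth.Agent.* helpers here

set_option autoImplicit false
universe u
set_option backward.isDefEq.respectTransparency false
open CategoryTheory
open Hyper

namespace Groth.Agent.S3886

open Opposite CategoryTheory.Limits in
/-- Let a, b : L -> K be two morphisms of simplicial semi-representable objects over an object X of a
small category (simplicial objects in formal coproducts of objects over X), homotopic in the
combinatorial (simplicial) sense. Then for every presheaf of abelian groups P and every p, a and b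
induce the same map from the p-th Cech cohomology group of P with respect to K to that with respect
to L. -/
theorem result {C : Type u} [SmallCategory C] (X : C)
    {K L : SimplicialObject (FormalCoproduct.{u} (Over X))} (a b : L ⟶ K)
    (h : Nonempty (SimplicialObject.Homotopy a b)) (P : Cᵒᵖ ⥤ AddCommGrpCat.{u}) (p : ℕ) :
    Hyper.cechHMap X a P p = Hyper.cechHMap X b P p := by
  obtain ⟨H⟩ := h
  let Q := ((FormalCoproduct.evalOp.{u} (Over X) AddCommGrpCat.{u}).obj ((Over.forget X).op ⋙ P))
  let Hc := (H.whiskerRight Q.rightOp).toChainHomotopy
  let hh : ∀ i j, (Hyper.cechCx X K P).X i ⟶ (Hyper.cechCx X L P).X j := fun i j => (Hc.hom j i).unop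
  have key : HomologicalComplex.homologyMap (Hyper.cechMap X a P) p =
      HomologicalComplex.homologyMap (Hyper.cechMap X b P) p := by
    refine _root_.Homotopy.homologyMap_eq
      { hom := hh
        zero := fun i j hij => ?_
        comm := fun n => ?_ } p
    · have h0 := Hc.zero j i (fun h => hij h)
      simp only [hh, h0]
      rfl
    · have h0 := congrArg Quiver.Hom.unop (Hc.comm n)
      cases n with
      | zero =>
        rw [dNext_eq (i' := 1) (w := by simp), prevD_eq_zero _ _ (by simp), add_zero]
        rw [prevD_eq (j' := 1) (w := by simp), dNext_eq_zero _ _ (by simp), zero_add] at h0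
        simp only [unop_add, unop_comp] at h0
        refine h0.trans ?_
        congr 2
      | succ n =>
        rw [dNext_eq (i' := n + 2) (w := by simp), prevD_eq (j' := n) (w := by simp)]
        rw [dNext_eq (i' := n) (w := by simp), prevD_eq (j' := n + 2) (w := by simp)] at h0
        simp only [unop_add, unop_comp] at h0
        refine h0.trans ?_
        rw [add_comm ((Hc.hom n (n + 1)).unop ≫ _)]
        simp [AlgebraicTopology.alternatingCofaceMapComplex,
          AlgebraicTopology.AlternatingCofaceMapComplex.obj,
          AlgebraicTopology.AlternatingFaceMapComplex.objD, unop_sum, unop_zsmul]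
        erw [CochainComplex.of_d]
        rfl
  exact congrArg (fun f => f.hom) key

end Groth.Agent.S3886
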