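import Groth.Statements.S3889
import Groth.Agent.EtLimLib.Thick
-- import your own Groth.Agent.* helpers here

set_option autoImplicit false
open CategoryTheory CategoryTheory.Limits AlgebraicGeometry Opposite
universe u
open EtLim

namespace Groth.Agent.S3889

section
variable {ι : Type u} [Preorder ι] [Nonempty ι] [IsDirected ι (· ≤ ·)] (S : EtLimLib.Sys ι)

theorem pullTransCone_app {i j : ι} (h : i ≤ j) (A : EtCoh.Ab (S.X i)) :
    (EtLim.pullTransCone S.Xs S.c h).hom.app A =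
      (EtLimLib.comparePull (S.t h) (S.u j) (S.u i) (S.u_t h)).app A :=
  ((EtLimLib.comparePull_eq (S.t h) (S.u j) (S.u i) (S.u_t h) A).trans (NatTrans.comp_app _ _ _).symm).symm

theorem pullTrans_app {i j k : ι} (h : i ≤ j) (h' : j ≤ k) (A : EtCoh.Ab (S.X i)) :
    (EtLim.pullTrans S.Xs h h').hom.app A =
      (EtLimLib.comparePull (S.t h) (S.t h') (S.t (h.trans h')) (S.t_t h h')).app A :=
  ((EtLimLib.comparePull_eq (S.t h) (S.t h') (S.t (h.trans h')) (S.t_t h h') A).trans (NatTrans.comp_app _ _ _).symm).symm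

theorem continuity_sys (F : ∀ i : ι, EtCoh.Ab (S.X i))
    (φ : ∀ ⦃i j : ι⦄ (h : i ≤ j), (EtCoh.pull (S.t h)).obj (F i) ⟶ F j)
    (G : ι ⥤ EtCoh.Ab S.c.pt) (ψ : ∀ i, (EtCoh.pull (S.u i)).obj (F i) ≅ G.obj i)
    (hψ : ∀ ⦃i j : ι⦄ (h : i ≤ j), (ψ i).hom ≫ G.map (homOfLE h) =
      (EtLim.pullTransCone S.Xs S.c h).hom.app (F i) ≫ (EtCoh.pull (S.u j)).map (φ h) ≫ (ψ j).hom)
    (hφ : ∀ ⦃i j k : ι⦄ (h : i ≤ j) (h' : j ≤ k), φ (h.trans h') =
      (EtLim.pullTrans S.Xs h h').hom.app (F i) ≫ (EtCoh.pull (S.t h')).map (φ h) ≫ φ h')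
    (n : ℕ) :
    (∀ ξ : EtCoh.H S.c.pt (colimit G) n, ∃ (j : ι) (x : EtCoh.H (S.X j) (F j) n),
      EtLim.HpullThen (S.u j) (F j) ((ψ j).hom ≫ colimit.ι G j) n x = ξ) ∧
    (∀ (j : ι) (x : EtCoh.H (S.X j) (F j) n), EtLim.HpullThen (S.u j) (F j) ((ψ j).hom ≫ colimit.ι G j) n x = 0 →
      ∃ (k : ι) (hk : j ≤ k), EtLim.HpullThen (S.t hk) (F j) (φ hk) n x = 0) := by
  have e1 : ∀ ⦃i j : ι⦄ (h : i ≤ j), (ψ i).hom ≫ G.map (homOfLE h) =
      (EtLimLib.comparePull (S.t h) (S.u j) (S.u i) (S.u_t h)).app (F i) ≫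
        (EtCoh.pull (S.u j)).map (φ h) ≫ (ψ j).hom := fun i j h => by
    rw [← pullTransCone_app S h (F i)]
    exact hψ h
  have e2 : ∀ ⦃i j k : ι⦄ (h : i ≤ j) (h' : j ≤ k), φ (h.trans h') =
      (EtLimLib.comparePull (S.t h) (S.t h') (S.t (h.trans h')) (S.t_t h h')).app (F i) ≫
        (EtCoh.pull (S.t h')).map (φ h) ≫ φ h' := fun i j k h h' => by
    rw [← pullTrans_app S h h' (F i)]
    exact hφ h h'
  exact EtLimLib.continuity_pull S F φ G ψ e1 e2 n

end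

/-- Let ι be a nonempty directed preordered set, (X_i) an inverse system of quasi-compact
quasi-separated schemes indexed by ι with affine transition morphisms u_ij : X_j -> X_i, and X a
limit with projections u_i. Let (F_i) be abelian sheaves on the small etale sites of the X_i
together with maps φ_ij : u_ij^{-1} F_i -> F_j for i ≤ j satisfying the cocycle condition φ_ik =
φ_jk ∘ u_jk^{-1}(φ_ij) (a sheaf on the fibred etale site of the system), and let F_∞ be the colimit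
on X of the sheaves u_i^{-1} F_i along the maps induced by the φ_ij; here F_∞ is presented as the
colimit of any diagram G identified with (u_i^{-1} F_i) compatibly with the φ_ij. Then the canonical
maps H^n(X_i, F_i) -> H^n(X, F_∞) identify H^n(X, F_∞) with the directed colimit of the H^n(X_i,
F_i) (transition maps: pull back along u_ij, then apply φ_ij), in the concrete sense: every class on
X comes from some stage, and a class at stage j mapping to zero on X already maps to zero at some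
stage k ≥ j. (Exactness of pullback of abelian sheaves, which always holds, is carried as an
instance hypothesis.) -/
theorem result {ι : Type u} [Preorder ι] [Nonempty ι] [IsDirected ι (· ≤ ·)]
    (Xs : ιᵒᵖ ⥤ Scheme.{u}) (haff : ∀ ⦃a b : ιᵒᵖ⦄ (h : a ⟶ b), IsAffineHom (Xs.map h))
    (hqc : ∀ a, CompactSpace ↥(Xs.obj a)) (hqs : ∀ a, QuasiSeparatedSpace ↥(Xs.obj a))
    (c : Cone Xs) (hc : IsLimit c)
    [∀ a, PreservesFiniteLimits (EtCoh.pull (c.π.app a))]
    [∀ ⦃a b : ιᵒᵖ⦄ (h : a ⟶ b), PreservesFiniteLimits (EtCoh.pull (Xs.map h))]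
    (F : ∀ i : ι, EtCoh.Ab (Xs.obj (op i)))
    (φ : ∀ ⦃i j : ι⦄ (h : i ≤ j), (EtCoh.pull (Xs.map (homOfLE h).op)).obj (F i) ⟶ F j)
    (hφ : ∀ ⦃i j k : ι⦄ (hij : i ≤ j) (hjk : j ≤ k),
      φ (hij.trans hjk) = (EtLim.pullTrans Xs hij hjk).hom.app (F i) ≫
        (EtCoh.pull (Xs.map (homOfLE hjk).op)).map (φ hij) ≫ φ hjk)
    (G : ι ⥤ EtCoh.Ab c.pt) (ψ : ∀ i : ι, (EtCoh.pull (c.π.app (op i))).obj (F i) ≅ G.obj i)
    (hψ : ∀ ⦃i j : ι⦄ (hij : i ≤ j), (ψ i).hom ≫ G.map (homOfLE hij) =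
      (EtLim.pullTransCone Xs c hij).hom.app (F i) ≫ (EtCoh.pull (c.π.app (op j))).map (φ hij) ≫ (ψ j).hom)
    (n : ℕ) :
    (∀ ξ : EtCoh.H c.pt (colimit G) n, ∃ (j : ι) (ξj : EtCoh.H (Xs.obj (op j)) (F j) n),
        EtLim.HpullThen (c.π.app (op j)) (F j) ((ψ j).hom ≫ colimit.ι G j) n ξj = ξ) ∧
    (∀ (j : ι) (ξj : EtCoh.H (Xs.obj (op j)) (F j) n),
      EtLim.HpullThen (c.π.app (op j)) (F j) ((ψ j).hom ≫ colimit.ι G j) n ξj = 0 →
        ∃ (k : ι) (hk : j ≤ k), EtLim.HpullThen (Xs.map (homOfLE hk).op) (F j) (φ hk) n ξj = 0) := by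
  exact continuity_sys ⟨Xs, haff, hqc, hqs, c, hc⟩ F φ G ψ hψ hφ n

end Groth.Agent.S3889
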