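import Groth.Statements.S3894


set_option autoImplicit false
universe u
open CategoryTheory CategoryTheory.Limits Opposite
open Tors

namespace Groth.Agent.S3894

set_option backward.isDefEq.respectTransparency false
set_option backward.isDefEq.respectTransparency.types false

/-- A torsor P under an abelian sheaf G is trivial, i.e. equivariantly isomorphic to G acting on itself
by translations, if and only if P has a global section (a morphism from the final sheaf of sets). -/
theorem result {C : Type u} [SmallCategory C] {J : GrothendieckTopology C}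
    {G : Sheaf J AddCommGrpCat.{u}} (T : Tors.Torsor G) : T.IsTrivial ↔ T.HasSection := by
  constructor
  · rintro ⟨e, he⟩
    refine ⟨⟨{ app := fun U => TypeCat.ofHom fun _ => e.hom.hom.app U (0 : G.obj.obj U), naturality := fun U V f => ?_ }⟩⟩
    refine ConcreteCategory.hom_ext _ _ fun _ => ?_
    refine Eq.trans ?_ (NatTrans.naturality_apply e.hom.hom f (0 : G.obj.obj U))
    exact congrArg (e.hom.hom.app V) (map_zero (G.obj.map f).hom).symm
  · rintro ⟨s⟩
    let one : Sheaf J (Type u) := ⟨(Functor.const Cᵒᵖ).obj PUnit, (isSheaf_iff_isSheaf_of_type _ _).2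
      fun X S _ x _ => ⟨PUnit.unit, fun _ _ _ => rfl, fun _ _ => rfl⟩⟩
    let q : one ⟶ T.P := terminal.from one ≫ s
    let p : ∀ U, T.P.obj.obj U := fun U => q.hom.app U PUnit.unit
    have hp : ∀ {U V : Cᵒᵖ} (f : U ⟶ V), T.P.obj.map f (p U) = p V := fun f =>
      (NatTrans.naturality_apply q.hom f PUnit.unit).symm
    let iso : ((sheafCompose J (forget AddCommGrpCat.{u})).obj G).obj ≅ T.P.obj :=
      NatIso.ofComponents (fun U => (Equiv.ofBijective (fun g : G.obj.obj U => T.vadd g (p U))
        ⟨fun g h e => (T.free_transitive (p U) _).unique rfl e.symm, fun r => (T.free_transitive (p U) r).exists⟩).toIso)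
        (fun {U V} f => by
          refine ConcreteCategory.hom_ext _ _ fun g => ?_
          change T.vadd (G.obj.map f g) (p V) = T.P.obj.map f (T.vadd g (p U))
          rw [T.map_vadd, hp])
    exact ⟨(fullyFaithfulSheafToPresheaf J (Type u)).preimageIso iso, fun U g h => T.add_vadd g h (p U)⟩

end Groth.Agent.S3894
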