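import Groth.Statements.S3896
import Groth.Agent.EtPtsLib.Opens
-- import your own Groth.Agent.* helpers here

set_option autoImplicit false
open CategoryTheory CategoryTheory.Limits AlgebraicGeometry Opposite
set_option backward.isDefEq.respectTransparency false
universe u
open EtDesc

namespace Groth.Agent.S3896

/-- Let X be a scheme. Sending a Zariski open U of X to the etale sheaf of sets attached to the open
immersion U -> X gives an isomorphism of ordered sets from the opens of X onto the subobjects of the
final object of the etale topos of X: (a) each such sheaf is a subobject of the final sheaf; (b) U ≤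
V if and only if there is a morphism between the attached sheaves; (c) every subobject of the final
sheaf is isomorphic to the sheaf attached to some open. -/
theorem result (X : Scheme.{u}) :
    (∀ U : X.Opens, Mono (terminal.from (EtDesc.repSh (EtDesc.ofOpen U)))) ∧
    (∀ U V : X.Opens, U ≤ V ↔ Nonempty (EtDesc.repSh (EtDesc.ofOpen U) ⟶ EtDesc.repSh (EtDesc.ofOpen V))) ∧
    (∀ F : EtDesc.Sh X, Mono (terminal.from F) → ∃ U : X.Opens, Nonempty (F ≅ EtDesc.repSh (EtDesc.ofOpen U))) := by
  refine ⟨fun U => ?_, fun U V => ⟨fun h => ?_, fun ⟨a⟩ => ?_⟩, fun F hF => ?_⟩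
  · exact (Groth.Agent.EtPtsLib.mono_from_iff _).2 (Groth.Agent.EtPtsLib.subsingleton_repSh U)
  · refine ⟨⟨{ app := fun T => TypeCat.ofHom fun s => ((Groth.Agent.EtPtsLib.nonempty_repSh_iff V T).2
      (((Groth.Agent.EtPtsLib.nonempty_repSh_iff U T).1 ⟨s⟩).trans h)).some, naturality := ?_ }⟩⟩
    intro T T' f
    ext s
    exact (Groth.Agent.EtPtsLib.subsingleton_repSh V T').elim _ _
  · obtain ⟨s⟩ := (Groth.Agent.EtPtsLib.nonempty_repSh_iff U (op (EtDesc.ofOpen U))).2 (Scheme.Opens.range_ι U).subset
    exact (Scheme.Opens.range_ι U).symm.subset.trans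
      ((Groth.Agent.EtPtsLib.nonempty_repSh_iff V (op (EtDesc.ofOpen U))).1 ⟨a.hom.app _ s⟩)
  · have hs := (Groth.Agent.EtPtsLib.mono_from_iff F).1 hF
    obtain ⟨W, hW⟩ := Groth.Agent.EtPtsLib.exists_open_iff F.obj ((isSheaf_iff_isSheaf_of_type _ _).1 F.property)
      fun U => hs (op U)
    exact ⟨W, ⟨(fullyFaithfulSheafToPresheaf _ _).preimageIso (Groth.Agent.EtPtsLib.isoOfSubsingleton hs
      (Groth.Agent.EtPtsLib.subsingleton_repSh W)
      fun U => (hW U.unop).trans (Groth.Agent.EtPtsLib.nonempty_repSh_iff W U).symm)⟩⟩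

end Groth.Agent.S3896
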