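import Groth.Statements.S3993
import Groth.Agent.S0712
import Groth.Agent.SmoothBCLib.LARelFibre
import Groth.Agent.SmoothBCLib.VCLocAcyclic
import Groth.Agent.SmoothBCLib.AcycFibre
import Groth.Agent.HensBranch.QuotStage
import Groth.Agent.SHTensor.Basic

set_option autoImplicit false
set_option backward.isDefEq.respectTransparency false
set_option backward.isDefEq.respectTransparency.types false
set_option linter.style.haveILetI false
set_option maxHeartbeats 2000000
set_option synthInstance.maxHeartbeats 400000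
universe u
open CategoryTheory CategoryTheory.Limits AlgebraicGeometry
open VanCyc

namespace Groth.Agent.S3993

open scoped TensorProduct

attribute [local instance] Groth.Agent.S0101.result

open IsLocalRing in
/-- Strict henselizations are carried along a surjection of the bases with no kernel. -/
private theorem sh_of_bijective {R A T : Type u} [CommRing R] [IsLocalRing R] [CommRing A] [IsLocalRing A]
    [CommRing T] [IsLocalRing T] [Algebra R A] [IsLocalHom (algebraMap R A)] [Algebra R T] [IsLocalHom (algebraMap R T)]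
    [Algebra A T] [IsLocalHom (algebraMap A T)] [Hensel.IsStrictHenselization R T]
    (hA : Function.Bijective (algebraMap R A))
    (h : (algebraMap A T).comp (algebraMap R A) = algebraMap R T) :
    Hensel.IsStrictHenselization A T :=
  Groth.Agent.HensBranch.isStrictHenselization_of_surjective (R := R) (S := T) (RingHom.id T) hA.2
    (fun t => ⟨t, rfl⟩)
    (by rw [(RingHom.injective_iff_ker_eq_bot _).1 hA.1, Ideal.map_bot]
        exact (RingHom.injective_iff_ker_eq_bot _).1 fun _ _ e => e)
    (by rw [RingHom.id_comp, h])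

open IsLocalRing in
/-- The local ring of the spectrum of a local ring at its closed point. -/
private theorem exists_stalk_iso (V : Type u) [CommRing V] [IsLocalRing V]
    (s : ↥(Spec (CommRingCat.of V))) (hs : s = closedPoint V) :
    ∃ e : CommRingCat.of V ≅ (Spec (CommRingCat.of V)).presheaf.stalk s,
      Spec.map e.hom = (Spec (CommRingCat.of V)).fromSpecStalk s := by
  subst hs
  exact ⟨(stalkClosedPointIso (CommRingCat.of V)).symm, Spec_stalkClosedPointIso (CommRingCat.of V)⟩

open IsLocalRing in
/-- The acyclicity of the variety of vanishing cycles at a point of smoothness. -/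
private theorem exists_acyclic (V Ω : Type u) [CommRing V] [HenselianLocalRing V]
    [IsSepClosed (ResidueField V)] [Field Ω] [IsSepClosed Ω] [Algebra V Ω]
    {X : Scheme.{u}} (f : X ⟶ Spec (CommRingCat.of V)) (U : X.Opens) [Smooth (U.ι ≫ f)] (x : X) (hxU : x ∈ U)
    (hx : f.base x = closedPoint V) (W : Type u) [CommRing W] [IsLocalRing W] [Algebra (X.presheaf.stalk x) W]
    [IsLocalHom (algebraMap (X.presheaf.stalk x) W)] [Hensel.IsStrictHenselization (X.presheaf.stalk x) W] :
    ∃ _ : Algebra V W, Spec.map (CommRingCat.ofHom (algebraMap V W)) = Hens2.specOf X x W ≫ f ∧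
      ∀ d : ℕ, (d : ResidueField W) ≠ 0 → ∀ q : ℕ,
        (0 < q → Subsingleton (EtCoh.H (Spec (CommRingCat.of (W ⊗[V] Ω)))
          (EtCoh.const (Spec (CommRingCat.of (W ⊗[V] Ω))) (ZMod d)) q)) ∧
        Nonempty (EtCoh.H (Spec (CommRingCat.of (W ⊗[V] Ω)))
          (EtCoh.const (Spec (CommRingCat.of (W ⊗[V] Ω))) (ZMod d)) 0 ≃+ ZMod d) := by
  let U' : Scheme.{u} := U
  let g : U' ⟶ Spec (CommRingCat.of V) := U.ι ≫ f
  let x' : U' := ⟨x, hxU⟩
  obtain ⟨e, he⟩ := exists_stalk_iso V (g x') hx
  let A := (Spec (CommRingCat.of V)).presheaf.stalk (g x')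
  let B := U'.presheaf.stalk x'
  let σ : X.presheaf.stalk x ⟶ B := U.ι.stalkMap x'
  haveI : IsIso σ := inferInstanceAs (IsIso (U.ι.stalkMap x'))
  letI : Algebra (X.presheaf.stalk x) B := σ.hom.toAlgebra
  letI : Algebra B W := ((algebraMap (X.presheaf.stalk x) W).comp (inv σ).hom).toAlgebra
  haveI : IsLocalHom (algebraMap (X.presheaf.stalk x) B) := inferInstanceAs (IsLocalHom σ.hom)
  haveI : IsLocalHom (algebraMap B W) := RingHom.isLocalHom_comp _ _
  haveI : Hensel.IsStrictHenselization B W :=
    sh_of_bijective (R := X.presheaf.stalk x) (ConcreteCategory.bijective_of_isIso σ) (RingHom.ext fun r => by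
      show algebraMap (X.presheaf.stalk x) W (inv σ (σ r)) = _
      rw [← CommRingCat.comp_apply, IsIso.hom_inv_id]
      rfl)
  letI : Algebra V A := e.hom.hom.toAlgebra
  letI : Algebra A V := e.inv.hom.toAlgebra
  haveI : IsLocalHom (algebraMap V A) := ⟨fun a h => by simpa using (show IsUnit (e.hom a) from h).map e.inv.hom⟩
  haveI : IsLocalHom (algebraMap A V) := ⟨fun a h => by simpa using (show IsUnit (e.inv a) from h).map e.hom.hom⟩
  haveI : Hensel.IsStrictHenselization V V := Groth.Agent.SHTensor.isStrictHenselization_self V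
  haveI : Hensel.IsStrictHenselization A V :=
    sh_of_bijective (R := V) (ConcreteCategory.bijective_of_isIso e.hom) (RingHom.ext fun r => e.hom_inv_id_apply r)
  letI : Algebra V W := ((algebraMap B W).comp ((g.stalkMap x').hom.comp (algebraMap V A))).toAlgebra
  haveI : IsLocalHom (algebraMap V W) := by
    haveI : IsLocalHom (g.stalkMap x').hom := inferInstance
    haveI : IsLocalHom ((g.stalkMap x').hom.comp (algebraMap V A)) := RingHom.isLocalHom_comp _ _
    exact RingHom.isLocalHom_comp _ _
  have hc : (algebraMap V W).comp (algebraMap A V) = (algebraMap B W).comp (g.stalkMap x').hom := by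
    refine RingHom.ext fun a => ?_
    show algebraMap B W (g.stalkMap x' (e.hom (e.inv a))) = _
    rw [e.inv_hom_id_apply]
    rfl
  have hw : Spec.map (CommRingCat.ofHom (algebraMap V W)) = Hens2.specOf X x W ≫ f := by
    have h0 : CommRingCat.ofHom (algebraMap V W) =
        e.hom ≫ g.stalkMap x' ≫ inv σ ≫ CommRingCat.ofHom (algebraMap (X.presheaf.stalk x) W) := rfl
    rw [h0, Spec.map_comp, Spec.map_comp, Spec.map_comp, he, Category.assoc, Category.assoc,
      Scheme.SpecMap_stalkMap_fromSpecStalk, Hens2.specOf, Category.assoc]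
    congr 1
    have h1 : U'.fromSpecStalk x' ≫ U.ι = Spec.map σ ≫ X.fromSpecStalk x :=
      (Scheme.SpecMap_stalkMap_fromSpecStalk U.ι).symm
    show Spec.map (inv σ) ≫ U'.fromSpecStalk x' ≫ U.ι ≫ f = X.fromSpecStalk x ≫ f
    rw [reassoc_of% h1, ← Spec.map_comp_assoc, IsIso.hom_inv_id, Spec.map_id, Category.id_comp]
  let ι : U'.residueField x' →+* ResidueField W := ResidueField.map (algebraMap B W)
  exact ⟨inferInstance, hw, fun d hd q =>
    Groth.Agent.S0712.result g x' V W hc Ω d (fun h => hd (by rw [← map_natCast ι, h, map_zero])) q⟩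

open IsLocalRing in
/-- Pullback to the variety of vanishing cycles is bijective, given its acyclicity. -/
private theorem bijective_Hpull_fibre (V Ω : Type u) [CommRing V] [Field Ω] [Algebra V Ω]
    {X : Scheme.{u}} (f : X ⟶ Spec (CommRingCat.of V)) (x : X) (W : Type u) [CommRing W] [IsLocalRing W] [Algebra (X.presheaf.stalk x) W]
    [IsLocalHom (algebraMap (X.presheaf.stalk x) W)] [Hensel.IsStrictHenselization (X.presheaf.stalk x) W] [Algebra V W]
    (hw : Spec.map (CommRingCat.ofHom (algebraMap V W)) = Hens2.specOf X x W ≫ f)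
    (key : ∀ d : ℕ, (d : ResidueField W) ≠ 0 → ∀ q : ℕ,
        (0 < q → Subsingleton (EtCoh.H (Spec (CommRingCat.of (W ⊗[V] Ω)))
          (EtCoh.const (Spec (CommRingCat.of (W ⊗[V] Ω))) (ZMod d)) q)) ∧
        Nonempty (EtCoh.H (Spec (CommRingCat.of (W ⊗[V] Ω)))
          (EtCoh.const (Spec (CommRingCat.of (W ⊗[V] Ω))) (ZMod d)) 0 ≃+ ZMod d))
    (N : ℕ) (hN : IsUnit (N : V)) (F : EtCoh.Ab X) (hF : EtRest.IsLocallyConstant F) (hFN : EtCoh.KilledBy N F)
    (q : ℕ) :
    Function.Bijective (EtCore.Hpull (pullback.snd (VanCyc.jA V f Ω) (Hens2.specOf X x W))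
      ((EtCoh.pull (Hens2.specOf X x W)).obj F) q) := by
  haveI : HenselianLocalRing W := Hensel.IsStrictHenselization.henselian (R := X.presheaf.stalk x) (S := W)
  haveI : IsSepClosed (ResidueField W) :=
    (Hensel.IsStrictHenselization.isSepClosure (R := X.presheaf.stalk x) (S := W)).sep_closed
  haveI : ConnectedSpace ↥(Spec (CommRingCat.of (W ⊗[V] Ω))) := by
    obtain ⟨ℓ, hℓ, hℓk⟩ : ∃ ℓ : ℕ, ℓ.Prime ∧ (ℓ : ResidueField W) ≠ 0 := by
      by_cases h2 : ((2 : ℕ) : ResidueField W) = 0
      · refine ⟨3, Nat.prime_three, fun h3 => one_ne_zero (α := ResidueField W) ?_⟩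
        calc (1 : ResidueField W) = ((3 : ℕ) : _) - ((2 : ℕ) : _) := by push_cast; ring
          _ = 0 := by rw [h3, h2, sub_zero]
      · exact ⟨2, Nat.prime_two, h2⟩
    exact (SmoothBCLib.connected_of_H0_const hℓ (key ℓ hℓk 0).2.some.toEquiv).2
  let ε := Hens2.specOf X x W
  let t := Spec.map (CommRingCat.ofHom (algebraMap W (W ⊗[V] Ω)))
  have hN0 : (N : ResidueField W) ≠ 0 := by
    have h := ((hN.map (algebraMap V W)).map (residue W))
    rw [map_natCast, map_natCast] at h
    exact h.ne_zero
  have hFz : (N • 𝟙 F : F ⟶ F) = 0 := by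
    refine ObjectProperty.hom_ext _ (NatTrans.ext (funext fun U => ConcreteCategory.hom_ext _ _ fun s => ?_))
    exact hFN U.unop s
  have hb := SmoothBCLib.bijective_Hpull_locConst W t (fun d hd q hq => (key d hd q).1 hq)
    ((EtCoh.pull ε).obj F) (((FLCLib.locallyConstant_iff F).1 hF).pull ε) (fun s => by
      obtain ⟨s₀, rfl⟩ := (EtPtsLib.bijective_unitStalk ε (Spec.map (CommRingCat.ofHom (residue W))) F).2 s
      refine ⟨N, Nat.pos_of_ne_zero fun h => hN0 (by rw [h, Nat.cast_zero]), hN0, ?_⟩
      have hs : N • s₀ = 0 := by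
        haveI : (EtCoh.stalk (Spec.map (CommRingCat.ofHom (residue W)) ≫ ε)).Additive :=
          Functor.additive_of_preserves_binary_products _
        rw [← Groth.Agent.PBCLib.stalk_nsmul_id F N _ s₀, hFz, Functor.map_zero]
        rfl
      exact ((map_nsmul (EtPtsLib.unitStalk ε _ F).hom N s₀).symm).trans
        ((congrArg (EtPtsLib.unitStalk ε _ F).hom hs).trans (map_zero _))) q
  -- transport to the fibre product
  let P := ((IsPullback.of_hasPullback (VanCyc.jA V f Ω) ε).flip).paste_vert
    (IsPullback.of_hasPullback f (VanCyc.toS V Ω))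
  let K : Spec (CommRingCat.of (W ⊗[V] Ω)) ⟶ pullback (VanCyc.jA V f Ω) ε :=
    (pullbackSpecIso V W Ω).inv ≫ (pullback.congrHom hw rfl).hom ≫ P.isoPullback.inv
  have hK : K ≫ pullback.snd (VanCyc.jA V f Ω) ε = t := by
    simp only [K, Category.assoc, IsPullback.isoPullback_inv_fst]
    refine Eq.trans ?_ (pullbackSpecIso_inv_fst' V W Ω)
    refine congrArg ((pullbackSpecIso V W Ω).inv ≫ ·) ?_
    exact (pullback.lift_fst _ _ _).trans (Category.comp_id _)
  exact (Function.Bijective.of_comp_iff' (AcycCompLib.bijective_Hpull_of_isIso K _ q) _).1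
    ((AcycCompLib.bijective_Hpull_comp_iff (pullback.snd (VanCyc.jA V f Ω) ε) K _ hK _ q).1 hb)

/-- Let R be a strictly henselian discrete valuation ring with fraction field K, Ω a separable closure
of K, f : X -> Spec R a morphism, N an integer invertible in R, F a locally constant abelian sheaf
on X killed by N, and x a point of the special fibre X_s at which f is smooth (x lies in an open U
of X with U -> Spec R smooth). Then at every geometric point ξ of X_s centred at x the vanishing
cycles of F are zero: the canonical map from (i^* F)_ξ to the stalk of the degree-zero nearby cycles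
i^* jbar_* jbar^* F is an isomorphism, and the stalk at ξ of i^* R^q jbar_* (jbar^* F) vanishes for
every q ≥ 1 (i : X_s -> X and jbar : X ×_{Spec R} Spec Ω -> X the two fibre inclusions). -/
theorem result (R K Ω : Type u) [CommRing R] [IsDomain R] [IsDiscreteValuationRing R]
    (hR : EtCoh.IsStrictlyHenselianLocalRing R) [Field K] [Algebra R K] [IsFractionRing R K] [Field Ω] [Algebra K Ω]
    [IsSepClosure K Ω] [Algebra R Ω] [IsScalarTower R K Ω]
    {X : Scheme.{u}} (f : X ⟶ Spec (CommRingCat.of R))
    (U : X.Opens) (hU : Smooth (U.ι ≫ f)) (x : ↥(VanCyc.spFib R f)) (hx : (VanCyc.icl R f).base x ∈ U)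
    {Ω' : Type u} [Field Ω'] [IsSepClosed Ω']
    (ξ : Spec (CommRingCat.of Ω') ⟶ VanCyc.spFib R f) (hξ : ξ.base (IsLocalRing.closedPoint Ω') = x) (N : ℕ) (hN : IsUnit (N : R))
    (F : EtCoh.Ab X) (hF : EtRest.IsLocallyConstant F) (hFN : EtCoh.KilledBy N F) :
    IsIso ((EtCoh.stalk ξ).map (VanCyc.psi0Unit R Ω f F)) ∧
      ∀ q : ℕ, 1 ≤ q → IsZero ((EtCoh.stalk ξ).obj (VanCyc.psi R Ω f q ((EtCoh.pull (VanCyc.jA R f Ω)).obj F))) := by
  obtain ⟨hH, hS⟩ := hR
  haveI := hH
  haveI := hS
  haveI : IsSepClosed Ω := IsSepClosure.sep_closed K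
  haveI := hU
  let x₀ : X := (VanCyc.icl R f).base x
  have hfx : f.base x₀ = IsLocalRing.closedPoint R := by
    refine (congr($(pullback.condition (f := f) (g := VanCyc.toSk R)) x)).trans ?_
    show PrimeSpectrum.comap (IsLocalRing.residue R) (VanCyc.spStr R f x) = _
    rw [Subsingleton.elim (α := PrimeSpectrum (IsLocalRing.ResidueField R)) (VanCyc.spStr R f x) (IsLocalRing.closedPoint _)]
    exact IsLocalRing.comap_closedPoint (IsLocalRing.residue R)
  obtain ⟨W, _, _, _, _, hW⟩ := Henselization.exists_strictHenselization (R := X.presheaf.stalk x₀)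
  haveI := hW
  haveI : IsSepClosed (IsLocalRing.ResidueField W) :=
    (Hensel.IsStrictHenselization.isSepClosure (R := X.presheaf.stalk x₀) (S := W)).sep_closed
  haveI : IsAffineHom (VanCyc.jA R f Ω) :=
    MorphismProperty.pullback_fst (P := @IsAffineHom) f (VanCyc.toS R Ω) inferInstance
  obtain ⟨_, hw, hacyc⟩ := exists_acyclic R Ω f U x₀ hx hfx W
  have key := fun q => bijective_Hpull_fibre R Ω f x₀ W hw hacyc N hN F hF hFN q
  have hpt : (ξ ≫ VanCyc.icl R f) default = x₀ := by
    exact congrArg (VanCyc.icl R f).base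
      ((congrArg ξ.base (Subsingleton.elim (α := PrimeSpectrum Ω') _ (IsLocalRing.closedPoint Ω'))).trans hξ)
  refine ⟨(ConcreteCategory.isIso_iff_bijective _).2 ((SmoothBCLib.bijective_stalk_pull_iff (VanCyc.icl R f) ξ _).2 ?_),
    fun q hq => ?_⟩
  · exact SmoothBCLib.bijective_stalk_of_default_eq _
      (SmoothBCLib.bijective_stalk_unit_of_bijective (VanCyc.jA R f Ω) F x₀ W (key 0))
      (hpt.trans (SmoothBCLib.geomPt_default x₀ W).symm)
  · exact (CdFieldLib.isZero_stalk_of_default_eq _
      (SmoothBCLib.isZero_stalk_Rpush_of_bijective (VanCyc.jA R f Ω) F x₀ W q hq (key q))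
      (hpt.trans (SmoothBCLib.geomPt_default x₀ W).symm)).of_iso
      ((EtPtsLib.pullStalkIso (VanCyc.icl R f) ξ AddCommGrpCat.{u + 1}).app _)

end Groth.Agent.S3993
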