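import Groth.Statements.S4005
import Groth.Agent.HomotopyLib.Contract
import Groth.Agent.LineAcycLib.Main
import Groth.Agent.S0073

set_option autoImplicit false
universe u
open CategoryTheory CategoryTheory.Limits AlgebraicGeometry
open VanCyc

set_option backward.isDefEq.respectTransparency false
set_option backward.isDefEq.respectTransparency.types false
set_option maxHeartbeats 1000000

attribute [local instance] Groth.Agent.S0101.result

namespace Groth.Agent.S4005


/-- The contraction of a homogeneous quotient of a polynomial ring. -/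
theorem exists_contraction (k : Type u) [CommRing k] (r : ℕ) (I : Ideal (MvPolynomial (Fin (r + 1)) k))
    (hIh : ∃ T : Set (MvPolynomial (Fin (r + 1)) k), I = Ideal.span T ∧
      ∀ p ∈ T, ∃ d : ℕ, 1 ≤ d ∧ MvPolynomial.IsHomogeneous p d) :
    ∃ h : (MvPolynomial (Fin (r + 1)) k ⧸ I) →+* Polynomial (MvPolynomial (Fin (r + 1)) k ⧸ I),
      (∀ a : k, h (Ideal.Quotient.mk I (MvPolynomial.C a)) = Polynomial.C (Ideal.Quotient.mk I (MvPolynomial.C a))) ∧
      ∀ i, h (Ideal.Quotient.mk I (MvPolynomial.X i)) =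
        Polynomial.C (Ideal.Quotient.mk I (MvPolynomial.X i)) * Polynomial.X := by
  obtain ⟨T, hT, hTh⟩ := hIh
  let h₀ : MvPolynomial (Fin (r + 1)) k →+* Polynomial (MvPolynomial (Fin (r + 1)) k ⧸ I) :=
    MvPolynomial.eval₂Hom (Polynomial.C.comp ((Ideal.Quotient.mk I).comp MvPolynomial.C))
      fun i => Polynomial.C (Ideal.Quotient.mk I (MvPolynomial.X i)) * Polynomial.X
  have hvan : ∀ p ∈ I, h₀ p = 0 := by
    intro p hp
    rw [hT] at hp
    refine Submodule.span_induction (fun q hq => ?_) (map_zero _) (fun _ _ _ _ a b => by rw [map_add, a, b, add_zero])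
      (fun c q _ hq => by rw [smul_eq_mul, map_mul, hq, mul_zero]) hp
    obtain ⟨d, -, hd⟩ := hTh q hq
    have hmk : Ideal.Quotient.mk I q = 0 := Ideal.Quotient.eq_zero_iff_mem.2 (hT ▸ Ideal.subset_span hq)
    suffices e : h₀ q = Polynomial.C (Ideal.Quotient.mk I q) * Polynomial.X ^ d by
      rw [e, hmk, map_zero, zero_mul]
    conv_lhs => rw [q.as_sum]
    conv_rhs => rw [q.as_sum]
    rw [map_sum, map_sum, map_sum, Finset.sum_mul]
    refine Finset.sum_congr rfl fun m hm => ?_
    have hdeg : m.sum (fun _ e => e) = d := by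
      have := hd (MvPolynomial.mem_support_iff.1 hm)
      rwa [Finsupp.weight_apply, Finsupp.sum_congr (g2 := fun _ e => e) (fun _ _ => by simp)] at this
    rw [MvPolynomial.monomial_eq, map_mul, map_mul, map_mul, mul_assoc, map_finsuppProd, map_finsuppProd,
      map_finsuppProd, ← hdeg]
    congr 1
    · simp [h₀]
    · rw [Finsupp.prod, Finsupp.prod, Finsupp.sum]
      refine Eq.trans ?_ (congrArg (_ * ·) (Finset.prod_pow_eq_pow_sum m.support m
        (Polynomial.X : Polynomial (MvPolynomial (Fin (r + 1)) k ⧸ I))))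
      refine Eq.trans ?_ Finset.prod_mul_distrib
      refine Finset.prod_congr rfl fun i _ => ?_
      rw [map_pow, map_pow, map_pow]
      exact (congrArg (· ^ m i) (MvPolynomial.eval₂Hom_X' _ _ i)).trans ((Polynomial.commute_X _).symm.mul_pow (m i))
  exact ⟨Ideal.Quotient.lift I h₀ hvan, fun a => by simp [h₀], fun i => by simp [h₀]⟩

/-- Let k be an algebraically closed field, Y ⊂ P^r a projective variety given by a homogeneous prime
ideal I of k[x_0, …, x_r] (spanned by homogeneous polynomials of positive degree), X = Spec k[x_0,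
…, x_r]/I its affine cone with vertex 0 (the k-point ε killing all x_i), and N an integer nonzero in
k. Then restriction to the vertex H^0(X, Z/N) -> H^0(0, Z/N) is bijective and H^i(X, Z/N) = 0 for
all i ≥ 1. Coefficients are Z/N with N nonzero in k. -/
theorem result (k : Type u) [Field k] [IsAlgClosed k] (r : ℕ)
    (I : Ideal (MvPolynomial (Fin (r + 1)) k)) (hI : I.IsPrime)
    (hIh : ∃ T : Set (MvPolynomial (Fin (r + 1)) k), I = Ideal.span T ∧
      ∀ p ∈ T, ∃ d : ℕ, 1 ≤ d ∧ MvPolynomial.IsHomogeneous p d)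
    (ε : (MvPolynomial (Fin (r + 1)) k ⧸ I) →ₐ[k] k) (hε : ∀ i, ε (Ideal.Quotient.mk I (MvPolynomial.X i)) = 0)
    (N : ℕ) (hN : (N : k) ≠ 0)
    [PreservesFiniteLimits (EtCoh.pull (Spec.map (CommRingCat.ofHom ε.toRingHom)))] :
    Function.Bijective (EtCore.Hpull (Spec.map (CommRingCat.ofHom ε.toRingHom))
        (EtCoh.const (Spec (CommRingCat.of (MvPolynomial (Fin (r + 1)) k ⧸ I))) (ZMod N)) 0) ∧
      ∀ i : ℕ, 1 ≤ i →
        Subsingleton (EtCoh.H (Spec (CommRingCat.of (MvPolynomial (Fin (r + 1)) k ⧸ I)))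
          (EtCoh.const (Spec (CommRingCat.of (MvPolynomial (Fin (r + 1)) k ⧸ I))) (ZMod N)) i) := by
  let A := MvPolynomial (Fin (r + 1)) k ⧸ I
  let X := Spec (CommRingCat.of A)
  obtain ⟨hq, hqC, hqX⟩ := exists_contraction k r I hIh
  let ev : A → (Polynomial A →+* A) := fun a => Polynomial.evalRingHom a
  let ρ : X ⟶ Spec (CommRingCat.of k) := Spec.map (CommRingCat.ofHom (algebraMap k A))
  let e0 : Spec (CommRingCat.of k) ⟶ X := Spec.map (CommRingCat.ofHom ε.toRingHom)
  let g := Spec.map (CommRingCat.ofHom (R := A) (S := Polynomial A) Polynomial.C)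
  let h := Spec.map (CommRingCat.ofHom (R := A) (S := Polynomial A) hq)
  let s : A → (X ⟶ Spec (CommRingCat.of (Polynomial A))) := fun a => Spec.map (CommRingCat.ofHom (R := Polynomial A) (S := A) (ev a))
  have hsg : s 0 ≫ g = 𝟙 X := by
    rw [← Spec.map_comp, ← CommRingCat.ofHom_comp, ← Spec.map_id]
    congr 1
    exact CommRingCat.hom_ext (RingHom.ext fun a => Polynomial.eval_C)
  have h0 : s 0 ≫ h = ρ ≫ e0 := by
    rw [← Spec.map_comp, ← Spec.map_comp, ← CommRingCat.ofHom_comp, ← CommRingCat.ofHom_comp]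
    congr 2
    refine Ideal.Quotient.ringHom_ext (MvPolynomial.ringHom_ext (fun a => ?_) fun i => ?_)
    · show ev 0 (hq (Ideal.Quotient.mk I (MvPolynomial.C a))) = algebraMap k A (ε (Ideal.Quotient.mk I (MvPolynomial.C a)))
      rw [hqC]
      exact (Polynomial.eval_C).trans (congrArg (algebraMap k A) (ε.commutes a).symm)
    · show ev 0 (hq (Ideal.Quotient.mk I (MvPolynomial.X i))) = algebraMap k A (ε (Ideal.Quotient.mk I (MvPolynomial.X i)))
      rw [hqX, hε i, map_zero]
      exact Polynomial.eval_mul_X.trans (mul_zero _)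
  have h1 : s 1 ≫ h = 𝟙 X := by
    rw [← Spec.map_comp, ← CommRingCat.ofHom_comp, ← Spec.map_id]
    congr 1
    refine CommRingCat.hom_ext (Ideal.Quotient.ringHom_ext (MvPolynomial.ringHom_ext (fun a => ?_) fun i => ?_))
    · show ev 1 (hq (Ideal.Quotient.mk I (MvPolynomial.C a))) = Ideal.Quotient.mk I (MvPolynomial.C a)
      rw [hqC]
      exact Polynomial.eval_C
    · show ev 1 (hq (Ideal.Quotient.mk I (MvPolynomial.X i))) = Ideal.Quotient.mk I (MvPolynomial.X i)
      rw [hqX]
      exact Polynomial.eval_mul_X.trans ((mul_one _).trans Polynomial.eval_C)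
  have hu : SmoothBCLib.InvOn N X := by
    show IsUnit (N : Γ(X, ⊤))
    simpa using (isUnit_iff_ne_zero.2 hN).map ((Scheme.ΓSpecIso (CommRingCat.of k)).inv ≫ ρ.appTop).hom
  have hline := SmoothBCLib.isLine_spec_C A
  let F := EtCoh.const X (ZMod N)
  have hR : ∀ p, 1 ≤ p → IsZero ((EtCoh.Rpush g p).obj ((EtCoh.pull g).obj F)) := fun p h1 => by
    obtain ⟨p', rfl⟩ : ∃ p', p = p' + 1 := ⟨p - 1, by omega⟩
    exact LineAcycLib.isZero_Rpush_line hline hu F (PBCLib.killedBy_const _ N) p'
  have hbij : ∀ q, Function.Bijective (EtCore.Hpull g F q) := fun q =>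
    (AcycCompLib.bijective_Hpull_of_unit g q F q (LineAcycLib.isIso_unit_line hline F) fun p h1 _ => hR p h1).1 le_rfl
  have key : ∀ q (x : EtCoh.H X F q), EtCore.Hpull e0 F q x = 0 → x = 0 := fun q x hx =>
    HomotopyLib.eq_zero_of_contract ρ e0 h g (s 0) (s 1) hsg h0 h1 F
      (EtCore.pullConst h (ZMod N) ≪≫ (EtCore.pullConst g (ZMod N)).symm) q (hbij q) x hx
  have hret : e0 ≫ ρ = 𝟙 _ := by
    rw [← Spec.map_comp, ← CommRingCat.ofHom_comp, ← Spec.map_id]
    congr 1
    ext a : 2
    exact ε.commutes a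
  refine ⟨⟨(injective_iff_map_eq_zero _).2 (key 0),
    HomotopyLib.surjective_Hpull_retract ρ e0 hret _ F (EtCore.pullConst ρ (ZMod N)) 0⟩, fun i hi => ?_⟩
  haveI : IsSepClosed (IsLocalRing.ResidueField k) :=
    GabberConstLib.isSepClosed_of_ringEquiv
      (RingEquiv.ofBijective _ ⟨(IsLocalRing.residue k).injective, IsLocalRing.residue_surjective⟩)
  refine subsingleton_of_forall_eq 0 fun x => key i x ?_
  exact @Subsingleton.elim _ (Groth.Agent.S0073.result k _ i hi) _ _

end Groth.Agent.S4005
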