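import Groth.Statements.S4006
import Groth.Agent.ArtinVanLib.Nearby
import Groth.Agent.ArtinVanLib.StrictLoc
import Groth.Agent.CurveFin.Const
import Groth.Agent.RpushTorsLib.LTors
import Groth.Agent.ArtinVanLib.Local
import Groth.Agent.PBCLib.Fibration

set_option autoImplicit false
set_option backward.isDefEq.respectTransparency false
set_option backward.isDefEq.respectTransparency.types false
set_option linter.style.haveILetI false
set_option maxHeartbeats 2000000
set_option synthInstance.maxHeartbeats 400000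
universe u
open CategoryTheory CategoryTheory.Limits AlgebraicGeometry
open VanCyc

namespace Groth.Agent.S4006

attribute [local instance] Groth.Agent.S0101.result

open IsLocalRing in
/-- The variety of vanishing cycles at a point of the special fibre has cohomological dimension at most the dimension
of the generic fibre. -/
private theorem cdLE_fibre (V K Ω : Type u) [CommRing V] [Field K] [Algebra V K]
    [Field Ω] [Algebra K Ω] [IsSepClosure K Ω] [Algebra V Ω] [IsScalarTower V K Ω]
    {X : Scheme.{u}} (f : X ⟶ Spec (CommRingCat.of V)) [LocallyOfFiniteType f] (n : ℕ)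
    (hn : topologicalKrullDim ↥(pullback f (VanCyc.toS V K)) ≤ n)
    (x : ↥X) (Osh : Type u) [CommRing Osh] [IsLocalRing Osh] [Algebra ↑(X.presheaf.stalk x) Osh]
    [IsLocalHom (algebraMap ↑(X.presheaf.stalk x) Osh)] [Hensel.IsStrictHenselization ↑(X.presheaf.stalk x) Osh] :
    CdFieldLib.CdLE Set.univ (pullback (VanCyc.jA V f Ω) (Hens2.specOf X x Osh)) n := by
  classical
  obtain ⟨C, _, jC, _, c, hc⟩ := Groth.Agent.ArtinVanLib.exists_chart x
  subst hc
  obtain ⟨_, hloc, hfac⟩ := Groth.Agent.ArtinVanLib.exists_isLocalization_stalk jC c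
  haveI := hloc
  obtain ⟨κ, hκ⟩ := Spec.map_surjective (jC ≫ f)
  let O := X.presheaf.stalk (jC c)
  letI : Algebra V C := κ.hom.toAlgebra
  letI : Algebra C Osh := ((algebraMap O Osh).comp (algebraMap C O)).toAlgebra
  haveI : IsScalarTower C O Osh := .of_algebraMap_eq' rfl
  letI : Algebra V Osh := ((algebraMap C Osh).comp (algebraMap V C)).toAlgebra
  haveI : IsScalarTower V C Osh := .of_algebraMap_eq' rfl
  haveI : LocallyOfFiniteType (Spec.map κ) := by rw [hκ]; infer_instance
  haveI : Algebra.FiniteType V C := (HasRingHomProperty.Spec_iff (P := @LocallyOfFiniteType)).1 this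
  have hwC : Spec.map (CommRingCat.ofHom (algebraMap V C)) = jC ≫ f := hκ
  let j : pullback (Spec.map (CommRingCat.ofHom (algebraMap V C))) (VanCyc.toS V K) ⟶ pullback f (VanCyc.toS V K) :=
    pullback.map _ _ _ _ jC (𝟙 _) (𝟙 _) (by rw [Category.comp_id, hwC]) (by simp)
  let jK : Spec (CommRingCat.of (TensorProduct V K C)) ⟶ pullback f (VanCyc.toS V K) :=
    ((pullbackSpecIso V K C).inv ≫ (pullbackSymmetry _ _).hom) ≫ j
  haveI : IsOpenImmersion jK := inferInstance
  have hdim : ringKrullDim (TensorProduct V K C) ≤ n :=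
    ((PrimeSpectrum.topologicalKrullDim_eq_ringKrullDim _).ge.trans
      jK.isOpenEmbedding.isInducing.topologicalKrullDim_le).trans hn
  have hA := Groth.Agent.ArtinVanLib.dimLE_tensor_strictHenselization (k := Ω) (O := O) (R := Osh) c.asIdeal
    (Groth.Agent.ArtinVanLib.dimLE_baseChange_algebraic (k := Ω)
      (Groth.Agent.ArtinVanLib.dimLE_of_ringKrullDim_le hdim))
  haveI : IsSepClosed Ω := IsSepClosure.sep_closed K
  have hcd : Groth.Agent.CdFieldLib.CdLE Set.univ (Spec (CommRingCat.of (TensorProduct V Ω Osh))) n :=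
    Groth.Agent.ArtinVanLib.cdLE_of_dimLE (k := Ω) (Groth.Agent.ArtinVanLib.art n) hA
      (Groth.Agent.CdFieldLib.cdLE_zero_of_sepClosed _ Ω)
  have hw : Spec.map (CommRingCat.ofHom (algebraMap V Osh)) = Hens2.specOf X (jC c) Osh ≫ f := by
    show _ = (Spec.map (CommRingCat.ofHom (algebraMap O Osh)) ≫ X.fromSpecStalk (jC c)) ≫ f
    rw [← hfac, Category.assoc, Category.assoc, ← hκ, ← Spec.map_comp, ← Spec.map_comp]
    rfl
  let P := ((IsPullback.of_hasPullback (VanCyc.jA V f Ω) (Hens2.specOf X (jC c) Osh)).flip).paste_vert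
    (IsPullback.of_hasPullback f (VanCyc.toS V Ω))
  exact Groth.Agent.CdFieldLib.cdLE_of_iso
    (P.isoPullback ≪≫ pullback.congrHom hw.symm rfl ≪≫ pullbackSymmetry _ _ ≪≫ pullbackSpecIso V Ω Osh) hcd

/-- Let R be a strictly henselian discrete valuation ring with fraction field K, Ω a separable closure
of K, f : X -> Spec R of finite type, N invertible in R and F an abelian sheaf on X killed by N. If
the generic fibre X_η = X ×_S Spec K has dimension at most d, then the nearby-cycle sheaves i^* R^q
jbar_* (jbar^* F) on the special fibre vanish for every q > d (the nearby-cycles functor has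
cohomological dimension at most dim X_η). -/
theorem result (R K Ω : Type u) [CommRing R] [IsDomain R] [IsDiscreteValuationRing R]
    (hR : EtCoh.IsStrictlyHenselianLocalRing R) [Field K] [Algebra R K] [IsFractionRing R K] [Field Ω] [Algebra K Ω]
    [IsSepClosure K Ω] [Algebra R Ω] [IsScalarTower R K Ω]
    {X : Scheme.{u}} (f : X ⟶ Spec (CommRingCat.of R)) [LocallyOfFiniteType f] [QuasiCompact f]
    (d : ℕ) (hd : topologicalKrullDim ↥(VanCyc.fib R f K) ≤ d) (N : ℕ) (hN : IsUnit (N : R))
    (F : EtCoh.Ab X) (hF : EtCoh.KilledBy N F) (q : ℕ) (hq : d < q) :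
    IsZero (VanCyc.psi R Ω f q ((EtCoh.pull (VanCyc.jA R f Ω)).obj F)) := by
  haveI : IsAffineHom (VanCyc.jA R f Ω) :=
    MorphismProperty.pullback_fst (P := @IsAffineHom) f (VanCyc.toS R Ω) inferInstance
  have hN0 : 1 ≤ N := Nat.pos_of_ne_zero fun h => by
    rw [h, Nat.cast_zero] at hN
    exact not_isUnit_zero hN
  have hL := AcycCompLib.isLTorsion_pull (VanCyc.jA R f Ω)
    (RpushTorsLib.isLTorsion_univ (PBCLib.isTorsion_of_killedBy' hN0 hF))
  refine (EtPtsLib.isZero_iff_ab _).2 fun Ω' _ _ ξ => ?_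
  exact (ArtinVanLib.isZero_stalk_Rpush (VanCyc.jA R f Ω) ((ξ ≫ VanCyc.icl R f) default)
    (fun W _ _ _ _ _ => cdLE_fibre R K Ω f d hd _ W) _ hL q hq (ξ ≫ VanCyc.icl R f) rfl).of_iso
      ((EtPtsLib.pullStalkIso (VanCyc.icl R f) ξ AddCommGrpCat.{u + 1}).app _)

end Groth.Agent.S4006
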