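import Groth.Statements.S4007
import Groth.Agent.QuadHensLib.Det
import Groth.Agent.QuadHensLib.Hens
import Groth.Agent.MatchLib.Common
import Groth.Agent.OqsLib.Compl
import Groth.Agent.GRingCompleteLib.Descend
import Groth.Agent.S0598
import Groth.Agent.S16231

set_option autoImplicit false
set_option maxHeartbeats 800000
set_option linter.style.haveILetI false
universe u
open VanCyc

namespace Groth.Agent.S4007

open IsLocalRing Groth.Agent in
theorem maximalIdeal_eq_aug (k : Type u) [Field k] (N : ℕ) :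
    maximalIdeal (MvPowerSeries (Fin N) k) = MorseLib.aug k N := by
  refine (eq_maximalIdeal (RingHom.ker_isMaximal_of_surjective _ fun c => ⟨MvPowerSeries.C c, ?_⟩)).symm
  exact MvPowerSeries.constantCoeff_C c

theorem isGRing_field (k : Type u) [Field k] : CAlg.IsGRing k := by
  haveI : IsAdicComplete (IsLocalRing.maximalIdeal k) k := by
    rw [IsLocalRing.maximalIdeal_eq_bot]; infer_instance
  exact Groth.Agent.S0598.result k

theorem ker_aeval_zero (k : Type u) [Field k] (N : ℕ) :
    RingHom.ker (MvPolynomial.aeval (0 : Fin N → k) : MvPolynomial (Fin N) k →ₐ[k] k).toRingHom =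
      MvPolynomial.idealOfVars (Fin N) k := by
  ext p
  conv_rhs => rw [← pow_one (MvPolynomial.idealOfVars (Fin N) k), MvPolynomial.mem_pow_idealOfVars_iff']
  have h0 : MvPolynomial.aeval (0 : Fin N → k) p = MvPolynomial.coeff 0 p := by
    rw [MvPolynomial.aeval_zero, ← MvPolynomial.constantCoeff_eq]; rfl
  rw [RingHom.mem_ker]
  show MvPolynomial.aeval (0 : Fin N → k) p = 0 ↔ _
  rw [h0]
  refine ⟨fun h d hd => ?_, fun h => h 0 (by simp)⟩
  rw [show d = 0 from (Finsupp.degree_eq_zero_iff _).mp (by omega)]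
  exact h

theorem coe_mem_pow_iff (k : Type u) [Field k] (N : ℕ) (p : MvPolynomial (Fin N) k) (i : ℕ) :
    (p : MvPowerSeries (Fin N) k) ∈ Groth.Agent.MorseLib.aug k N ^ i ↔ p ∈ MvPolynomial.idealOfVars (Fin N) k ^ i := by
  rw [Groth.Agent.MorseLib.mem_pow_iff, MvPolynomial.mem_pow_idealOfVars_iff']
  simp only [MvPolynomial.coeff_coe]

theorem exists_poly_sub_mem (k : Type u) [Field k] (N : ℕ) (g : MvPowerSeries (Fin N) k) (i : ℕ) :
    ∃ p : MvPolynomial (Fin N) k, (p : MvPowerSeries (Fin N) k) - g ∈ Groth.Agent.MorseLib.aug k N ^ i := by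
  refine ⟨MvPowerSeries.trunc' k (Finsupp.equivFunOnFinite.symm fun _ => i) g,
    (Groth.Agent.MorseLib.mem_pow_iff _ _).2 fun d hd => ?_⟩
  rw [map_sub, MvPolynomial.coeff_coe, MvPowerSeries.coeff_trunc', if_pos ?_, sub_self]
  intro j
  simpa using (Finsupp.le_degree j d).trans hd.le

open MvPowerSeries Groth.Agent in
theorem sub_quad_mem (k : Type u) [Field k] (N : ℕ) (f : MvPowerSeries (Fin N) k) (hf : NoLowTerms f) :
    f - MorseLib.qv (quadPart f) X ∈ MorseLib.aug k N ^ 3 := by
  have hlow : S16231.low f = MorseLib.qv (quadPart f) X := by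
    simp only [S16231.low, S16231.d1, hf.1, hf.2, map_zero, zero_mul, Finset.sum_const_zero, zero_add, MorseLib.qv]
    refine Finset.sum_congr rfl fun i _ => Finset.sum_congr rfl fun j _ => ?_
    by_cases h : i ≤ j
    · rw [if_pos h, if_pos h]
      rcases h.eq_or_lt with e | hlt
      · subst e
        rw [quadPart, if_pos rfl, S16231.quadC, ← Finsupp.single_add]
      · rw [quadPart, if_neg hlt.ne, if_pos hlt, S16231.quadC]
    · rw [if_neg h, if_neg h]
  rw [← hlow]
  exact S16231.sub_low_mem f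

theorem exists_cone_compl (k : Type u) [Field k] (N : ℕ) (a : Fin N → Fin N → k)
    [hprime : (originQuot k a 0).IsPrime] (R : Type u) [CommRing R] [IsLocalRing R] [Algebra (quadRing k a 0) R]
    [IsLocalization.AtPrime R (originQuot k a 0)] :
    ∃ e : AdicCompletion (IsLocalRing.maximalIdeal R) R ≃+*
        MvPowerSeries (Fin N) k ⧸ Ideal.span {Groth.Agent.MorseLib.qv a MvPowerSeries.X},
      ∀ r : k, e (algebraMap R (AdicCompletion (IsLocalRing.maximalIdeal R) R)
        (algebraMap (quadRing k a 0) R (algebraMap k (quadRing k a 0) r))) =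
        algebraMap k _ r := by
  obtain ⟨ψ, hψ⟩ : ∃ ψ : MvPolynomial (Fin N) k →ₐ[k] MvPowerSeries (Fin N) k,
      ∀ x, ψ x = (x : MvPowerSeries (Fin N) k) :=
    ⟨{ toRingHom := MvPolynomial.coeToMvPowerSeries.ringHom
       commutes' := fun c => (MvPolynomial.coe_C c).trans (RingHom.congr_fun MvPowerSeries.c_eq_algebraMap c) },
      fun x => rfl⟩
  have h1 : ∀ (x : MvPolynomial (Fin N) k) (i : ℕ),
      ψ x ∈ IsLocalRing.maximalIdeal (MvPowerSeries (Fin N) k) ^ i ↔
        x ∈ RingHom.ker (MvPolynomial.aeval (0 : Fin N → k) : MvPolynomial (Fin N) k →ₐ[k] k).toRingHom ^ i :=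
    fun x i => by
      rw [maximalIdeal_eq_aug, hψ, ker_aeval_zero]
      exact coe_mem_pow_iff k _ x i
  have h2 : ∀ (g : MvPowerSeries (Fin N) k) (i : ℕ), ∃ x,
      ψ x - g ∈ IsLocalRing.maximalIdeal (MvPowerSeries (Fin N) k) ^ i := fun g i => by
    obtain ⟨x, hx⟩ := exists_poly_sub_mem k N g i
    exact ⟨x, by rw [maximalIdeal_eq_aug, hψ]; exact hx⟩
  have hψf : ψ (quadPoly a - MvPolynomial.C 0) = Groth.Agent.MorseLib.qv a MvPowerSeries.X := by
    rw [map_zero, sub_zero, hψ, Groth.Agent.MorseLib.coe_quadPoly]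
  have hpf : (MvPolynomial.aeval (0 : Fin N → k) : MvPolynomial (Fin N) k →ₐ[k] k)
      (quadPoly a - MvPolynomial.C 0) = 0 := by
    have := (h1 (quadPoly a - MvPolynomial.C 0) 1).1 (by
      rw [maximalIdeal_eq_aug, pow_one, hψf]
      exact Ideal.sum_mem _ fun i _ => Ideal.sum_mem _ fun j _ =>
        Ideal.mul_mem_left _ _ (Groth.Agent.MorseLib.X_mem j))
    rwa [pow_one] at this
  have hO : (RingHom.ker (MvPolynomial.aeval (0 : Fin N → k) : MvPolynomial (Fin N) k →ₐ[k] k).toRingHom).map
      (Ideal.Quotient.mk (Ideal.span {quadPoly a - MvPolynomial.C 0})) = originQuot k a 0 := by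
    rw [originQuot, originIdeal, IsLocalRing.maximalIdeal_eq_bot, Ideal.map_bot, bot_sup_eq, ker_aeval_zero]
  haveI : ((RingHom.ker (MvPolynomial.aeval (0 : Fin N → k) : MvPolynomial (Fin N) k →ₐ[k] k).toRingHom).map
      (Ideal.Quotient.mk (Ideal.span {quadPoly a - MvPolynomial.C 0}))).IsPrime := hO ▸ hprime
  haveI : IsLocalization.AtPrime R
      ((RingHom.ker (MvPolynomial.aeval (0 : Fin N → k) : MvPolynomial (Fin N) k →ₐ[k] k).toRingHom).map
        (Ideal.Quotient.mk (Ideal.span {quadPoly a - MvPolynomial.C 0}))) := by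
    simp only [hO]; infer_instance
  obtain ⟨e₂, he₂⟩ := Groth.Agent.OqsLib.exists_quot_equiv _ ψ h1 h2 _ hpf R
  refine ⟨e₂.trans (Ideal.quotEquivOfEq (congrArg (fun z => Ideal.span ({z} : Set _)) hψf)), fun r => ?_⟩
  rw [← Ideal.Quotient.mk_algebraMap, RingEquiv.trans_apply, he₂, ψ.commutes, Ideal.quotEquivOfEq_mk,
    Ideal.Quotient.mk_algebraMap]

theorem nonempty_henselization_equiv (k : Type u) [Field k]
    (O : Type u) [CommRing O] [IsLocalRing O] [Algebra k O] [Algebra.EssFiniteType k O] (N : ℕ)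
    (a : Fin N → Fin N → k) [(originQuot k a 0).IsPrime] (R : Type u) [CommRing R] [IsLocalRing R]
    [Algebra (quadRing k a 0) R] [IsLocalization.AtPrime R (originQuot k a 0)] [Algebra k R]
    [IsScalarTower k (quadRing k a 0) R]
    (Φ : AdicCompletion (IsLocalRing.maximalIdeal O) O ≃ₐ[k]
      MvPowerSeries (Fin N) k ⧸ Ideal.span {Groth.Agent.MorseLib.qv a MvPowerSeries.X})
    (Oh : Type u) [CommRing Oh] [IsLocalRing Oh] [Algebra O Oh] [IsLocalHom (algebraMap O Oh)]
    [Hensel.IsHenselization O Oh] [Algebra k Oh] [IsScalarTower k O Oh]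
    (C : Type u) [CommRing C] [IsLocalRing C] [Algebra R C]
    [IsLocalHom (algebraMap R C)]
    [Hensel.IsHenselization R C]
    [Algebra k C] [IsScalarTower k R C] :
    Nonempty (Oh ≃ₐ[k] C) := by
  haveI : IsNoetherianRing O := Algebra.EssFiniteType.isNoetherianRing k O
  obtain ⟨O₀, q, hqp, hft, hlocO⟩ := Groth.Agent.GRingCompleteLib.exists_model k O
  haveI := hqp
  haveI := hft
  haveI := hlocO
  have hG : CAlg.IsGRing O := Groth.Agent.ExcLib.isGRing_of_isLocalization q.primeCompl
    (Groth.Agent.GRingCompleteLib.isGRing_of_finiteType k (isGRing_field k) O₀)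
  obtain ⟨e, he⟩ := exists_cone_compl k N a R
  have hφ : ∀ r : k, (e.trans Φ.symm.toRingEquiv) (algebraMap R (AdicCompletion (IsLocalRing.maximalIdeal R) R)
      (algebraMap (quadRing k a 0) R (algebraMap k (quadRing k a 0) r))) =
      algebraMap O _ (algebraMap O₀ O (algebraMap k O₀ r)) := fun r => by
    rw [RingEquiv.trans_apply, he, ← IsScalarTower.algebraMap_apply k O₀ O, ← IsScalarTower.algebraMap_apply k O]
    exact Φ.symm.commutes r
  obtain ⟨F, _, _, g, hCF, hgF, hgk, p', _, hpP, hpQ, hres1, hres2⟩ :=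
    Groth.Agent.MatchLib.exists_common_nbhd (Λ := k) q (originQuot k a 0) (A := O)
      (A' := R) hG (e.trans Φ.symm.toRingEquiv) hφ
  haveI := hCF
  obtain ⟨e₁, he₁⟩ := Groth.Agent.QuadHensLib.exists_equiv_of_etale q O Oh p' hpP hres1
  letI algBF : Algebra (quadRing k a 0) F := g.toAlgebra
  haveI : Algebra.Etale (quadRing k a 0) F := hgF
  obtain ⟨e₃, he₃⟩ := Groth.Agent.QuadHensLib.exists_equiv_of_etale (originQuot k a 0)
    R C (F := F) p' hpQ hres2
  refine ⟨AlgEquiv.ofRingEquiv (f := e₁.trans e₃.symm) fun r => e₃.injective ?_⟩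
  show e₃ (e₃.symm (e₁ (algebraMap k Oh r))) = e₃ (algebraMap k C r)
  rw [e₃.apply_symm_apply, IsScalarTower.algebraMap_apply k O Oh, IsScalarTower.algebraMap_apply k O₀ O, he₁,
    IsScalarTower.algebraMap_apply k R C,
    IsScalarTower.algebraMap_apply k (quadRing k a 0) R, he₃]
  exact congrArg _ (congrArg _ (hgk r).symm)

/-- Case of an algebraically closed ground field k: let O be a local k-algebra essentially of finite
type whose residue field is k (the local ring of a scheme of finite type over k at a closed point)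
having an ordinary quadratic singularity of dimension n (that is, the completion of O is
k-isomorphic to k[[x_0, …, x_n]]/(f) with f congruent modulo terms of order at least 3 to an
ordinary quadratic form). Then there is an ordinary quadratic form Q in n + 1 variables over k such
that the henselisation of O is k-isomorphic to the henselisation of k[x_0, …, x_n]/(Q) at the
origin. (The binder asserting that the origin ideal is prime is always satisfiable.) -/
theorem result (k : Type u) [Field k] [IsAlgClosed k]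
    (O : Type u) [CommRing O] [IsLocalRing O] [Algebra k O] [Algebra.EssFiniteType k O]
    (hk : ∀ y : O, ∃ c : k, y - algebraMap k O c ∈ IsLocalRing.maximalIdeal O)
    (n : ℕ) (hq : VanCyc.IsOrdQuadSing k O n)
    (Oh : Type u) [CommRing Oh] [IsLocalRing Oh] [Algebra O Oh] [IsLocalHom (algebraMap O Oh)]
    [Hensel.IsHenselization O Oh] [Algebra k Oh] [IsScalarTower k O Oh] :
    ∃ a : Fin (n + 1) → Fin (n + 1) → k, VanCyc.QuadOrd a ∧
      ∀ [(VanCyc.originQuot k a 0).IsPrime] (C : Type u) [CommRing C] [IsLocalRing C]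
        [Algebra (Localization.AtPrime (VanCyc.originQuot k a 0)) C]
        [IsLocalHom (algebraMap (Localization.AtPrime (VanCyc.originQuot k a 0)) C)]
        [Hensel.IsHenselization (Localization.AtPrime (VanCyc.originQuot k a 0)) C]
        [Algebra k C] [IsScalarTower k (Localization.AtPrime (VanCyc.originQuot k a 0)) C],
        Nonempty (Oh ≃ₐ[k] C) := by
  obtain ⟨f, ⟨hlow, hord⟩, ⟨E⟩⟩ := hq
  refine ⟨quadPart f, hord, ?_⟩
  intro hprime C _ _ _ _ _ _ _
  obtain ⟨D⟩ := Groth.Agent.QuadHensLib.nonempty_algEquiv (quadPart f) hord f (sub_quad_mem k _ f hlow)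
  exact nonempty_henselization_equiv k O _ (quadPart f) (Localization.AtPrime (originQuot k (quadPart f) 0)) (E.trans D) Oh C

end Groth.Agent.S4007
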