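import Groth.Statements.S4024
import Groth.Agent.TangForms.Basic
-- import your own Groth.Agent.* helpers here

set_option autoImplicit false
universe u
open CategoryTheory CategoryTheory.Limits AlgebraicGeometry
open LefPen

namespace Groth.Agent.S4024

/-- Let k be a field (the source works over an algebraically closed field; the count is the same over
any field), d ≥ 2, x₁ = [v₁] and x₂ = [v₂] two distinct points of projective r-space and P(W₁) ∋ x₁,
P(W₂) ∋ x₂ linear subspaces. In the space of degree-d forms, those whose hypersurface passes through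
x₁ tangentially to P(W₁) and through x₂ tangentially to P(W₂) form a linear subspace of codimension
dim P(W₁) + dim P(W₂) + 2 = dim W₁ + dim W₂ when d ≥ 3 or when the line x₁x₂ is not contained in
both P(W₁) and P(W₂), and of codimension dim W₁ + dim W₂ - 1 when d = 2 and the line x₁x₂ lies in
P(W₁) ∩ P(W₂). -/
theorem result (k : Type u) [Field k] (r d : ℕ) (hd : 2 ≤ d)
    (W₁ W₂ : Submodule k (Fin (r + 1) → k)) (v₁ v₂ : Fin (r + 1) → k) (h₁ : v₁ ∈ W₁) (h₂ : v₂ ∈ W₂)
    (hv : LinearIndependent k ![v₁, v₂]) :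
    ((3 ≤ d ∨ ¬ (v₂ ∈ W₁ ∧ v₁ ∈ W₂)) →
      Module.finrank k (LefPen.Form r k d) =
        Module.finrank k ↥(LefPen.tangentForms k d W₁ v₁ W₂ v₂) + (Module.finrank k ↥W₁ + Module.finrank k ↥W₂)) ∧
    ((d = 2 ∧ v₂ ∈ W₁ ∧ v₁ ∈ W₂) →
      Module.finrank k (LefPen.Form r k d) + 1 =
        Module.finrank k ↥(LefPen.tangentForms k d W₁ v₁ W₂ v₂) + (Module.finrank k ↥W₁ + Module.finrank k ↥W₂)) := by
  have hm : (d - 1) + 1 = d := Nat.sub_add_cancel (by omega)
  refine ⟨fun h => ?_, fun ⟨h, a, b⟩ => Groth.Agent.TangForms.finrank_degenerate h W₁ W₂ h₁ h₂ hv a b⟩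
  by_cases hc : 3 ≤ d ∨ v₂ ∉ W₁
  · exact Groth.Agent.TangForms.finrank_general hm (by omega) W₁ W₂ h₁ h₂ hv hc
  · have hc' : v₁ ∉ W₂ := fun h' => hc (h.imp id fun hn hh => hn ⟨hh, h'⟩)
    have := Groth.Agent.TangForms.finrank_general hm (by omega) W₂ W₁ h₂ h₁
      (LinearIndependent.pair_symm_iff.mp hv) (Or.inr hc')
    rw [Groth.Agent.TangForms.tangentForms_comm W₂ W₁] at this
    omega

end Groth.Agent.S4024
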