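import Groth.Statements.S4027
import Mathlib.Algebra.Polynomial.Laurent
import Mathlib.RingTheory.Polynomial.GaussLemma
import Mathlib.Algebra.MvPolynomial.Nilpotent
import Mathlib.RingTheory.Polynomial.UniqueFactorization
-- import your own Groth.Agent.* helpers here

set_option autoImplicit false
set_option maxHeartbeats 1000000
universe u
open LefPen

namespace Groth.Agent.S4027

open MvPolynomial LaurentPolynomial

variable (k : Type u) [Field k] (r : ℕ)

/-- Scaling the variables by a power of `T`. -/
noncomputable def scale (e : ℤ) : (MvPolynomial (Fin r) k)[T;T⁻¹] →+* (MvPolynomial (Fin r) k)[T;T⁻¹] :=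
  LaurentPolynomial.eval₂
    (MvPolynomial.eval₂Hom (LaurentPolynomial.C.comp MvPolynomial.C)
      fun j => LaurentPolynomial.C (MvPolynomial.X j) * T e)
    (isUnit_T (1 : ℤ)).unit

theorem scale_T (e n : ℤ) : scale k r e (T n) = T n := by
  show LaurentPolynomial.eval₂ _ _ (T n) = T n
  have h : ∀ m : ℕ, ((isUnit_T (R := MvPolynomial (Fin r) k) (1 : ℤ)).unit ^ m).val = T (m : ℤ) := by
    intro m
    rw [Units.val_pow_eq_pow_val, IsUnit.unit_spec, T_pow, mul_one]
  rw [eval₂_T]
  obtain ⟨m, rfl | rfl⟩ := n.eq_nat_or_neg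
  · rw [zpow_natCast, h]
  · rw [zpow_neg, zpow_natCast]
    refine (eq_comm.mp (Units.eq_inv_of_mul_eq_one_left (u := (isUnit_T (1 : ℤ)).unit ^ m) ?_))
    rw [h, ← T_add, add_neg_cancel, T_zero]

theorem scale_CC (e : ℤ) (c : k) :
    scale k r e (LaurentPolynomial.C (MvPolynomial.C c)) = LaurentPolynomial.C (MvPolynomial.C c) := by
  show LaurentPolynomial.eval₂ _ _ _ = _
  rw [LaurentPolynomial.eval₂_C]
  exact MvPolynomial.eval₂Hom_C _ _ c

theorem scale_CX (e : ℤ) (j : Fin r) :
    scale k r e (LaurentPolynomial.C (MvPolynomial.X j)) = LaurentPolynomial.C (MvPolynomial.X j) * T e := by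
  show LaurentPolynomial.eval₂ _ _ _ = _
  rw [LaurentPolynomial.eval₂_C]
  exact MvPolynomial.eval₂Hom_X' _ _ j

theorem scale_scale (e : ℤ) (z : (MvPolynomial (Fin r) k)[T;T⁻¹]) : scale k r e (scale k r (-e) z) = z := by
  induction z using LaurentPolynomial.induction_on_mul_T with
  | _ p n =>
    simp only [map_mul, scale_T]
    congr 1
    induction p using Polynomial.induction_on' with
    | add a b ha hb => simp only [map_add, ha, hb]
    | monomial i c =>
      rw [Polynomial.toLaurent_C_mul_T i c, map_mul, map_mul, scale_T, scale_T]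
      congr 1
      induction c using MvPolynomial.induction_on with
      | C a => rw [scale_CC, scale_CC]
      | add a b ha hb => simp only [map_add, ha, hb]
      | mul_X a j ha => rw [map_mul, map_mul, map_mul, scale_CX, map_mul, scale_CX, scale_T, ha, mul_assoc (LaurentPolynomial.C (MvPolynomial.X j)),
          ← T_add, add_neg_cancel, T_zero, mul_one]

/-- The substituted polynomial. -/
noncomputable def subst (F : MvPolynomial (Fin r) k) : Polynomial (MvPolynomial (Fin r) k) :=
  MvPolynomial.eval₂ (Polynomial.C.comp MvPolynomial.C)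
    (fun j => Polynomial.C (MvPolynomial.X j) * Polynomial.X) F

theorem toLaurent_subst (F : MvPolynomial (Fin r) k) :
    Polynomial.toLaurent (subst k r F) = scale k r 1 (LaurentPolynomial.C F) := by
  induction F using MvPolynomial.induction_on with
  | C a => rw [scale_CC, subst, MvPolynomial.eval₂_C, RingHom.comp_apply, Polynomial.toLaurent_C]
  | add a b ha hb => simp only [subst, MvPolynomial.eval₂_add, map_add] at ha hb ⊢; rw [ha, hb]
  | mul_X a j ha =>
    simp only [subst, MvPolynomial.eval₂_mul, MvPolynomial.eval₂_X, map_mul] at ha ⊢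
    rw [ha, scale_CX, Polynomial.toLaurent_C, Polynomial.toLaurent_X]

theorem coeff_zero_subst (F : MvPolynomial (Fin r) k) :
    (subst k r F).coeff 0 = MvPolynomial.C (MvPolynomial.eval (fun _ => (0 : k)) F) := by
  induction F using MvPolynomial.induction_on with
  | C a => simp [subst]
  | add a b ha hb => simp only [subst, MvPolynomial.eval₂_add, Polynomial.coeff_add, map_add] at ha hb ⊢; rw [ha, hb]
  | mul_X a j ha => simp [subst]

/-- The factors of the substituted polynomial. -/
theorem isUnit_of_mul_eq {F : MvPolynomial (Fin r) k} (hF : Irreducible F)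
    (hF0 : MvPolynomial.eval (fun _ => (0 : k)) F ≠ 0) {a b : Polynomial (MvPolynomial (Fin r) k)}
    (h : subst k r F = a * b) : IsUnit a ∨ IsUnit b := by
  have hL : scale k r (-1) (Polynomial.toLaurent (subst k r F)) = scale k r (-1) (Polynomial.toLaurent (a * b)) := by rw [h]
  rw [toLaurent_subst, map_mul, map_mul] at hL
  have hinv : scale k r (-1) (scale k r 1 (LaurentPolynomial.C F)) = LaurentPolynomial.C F := by
    have := scale_scale k r (-1) (LaurentPolynomial.C F)
    rwa [neg_neg] at this
  rw [hinv] at hL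
  obtain ⟨n, A, hA⟩ := exists_T_pow (scale k r (-1) (Polynomial.toLaurent a))
  obtain ⟨m, B, hB⟩ := exists_T_pow (scale k r (-1) (Polynomial.toLaurent b))
  have hAB : A * B = Polynomial.C F * Polynomial.X ^ (n + m) := by
    apply Polynomial.toLaurent_injective
    rw [map_mul, map_mul, map_pow, Polynomial.toLaurent_C, Polynomial.toLaurent_X, hA, hB, T_pow, hL]
    push_cast
    rw [mul_one, T_add]
    ring
  have hprime : Prime (Polynomial.C F : Polynomial (MvPolynomial (Fin r) k)) := Polynomial.prime_C_iff.mpr hF.prime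
  have hb0 : ∀ (x y : Polynomial (MvPolynomial (Fin r) k)), subst k r F = x * y → x.coeff 0 ≠ 0 ∧ y.coeff 0 ≠ 0 := by
    intro x y hxy
    have h1 := congrArg (fun p : Polynomial (MvPolynomial (Fin r) k) => p.coeff 0) hxy
    simp only [Polynomial.mul_coeff_zero, coeff_zero_subst] at h1
    refine mul_ne_zero_iff.mp (h1 ▸ ?_)
    simpa using hF0
  -- the factor not divisible by `F` is a power of `X`
  have key : ∀ (b : Polynomial (MvPolynomial (Fin r) k)) (m : ℕ) (B : Polynomial (MvPolynomial (Fin r) k)),
      Polynomial.toLaurent B = scale k r (-1) (Polynomial.toLaurent b) * T (m : ℤ) → b.coeff 0 ≠ 0 →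
      ∀ N : ℕ, B ∣ Polynomial.X ^ N → IsUnit b := by
    intro b m B hB hb N hdvd
    obtain ⟨j, -, u, hu⟩ : ∃ j ≤ N, ∃ u : (Polynomial (MvPolynomial (Fin r) k))ˣ, B = Polynomial.X ^ j * (u : Polynomial (MvPolynomial (Fin r) k)) := by
      obtain ⟨j, hj, hass⟩ := (dvd_prime_pow Polynomial.prime_X _).mp hdvd
      obtain ⟨u, hu⟩ := hass.symm
      exact ⟨j, hj, u, hu.symm⟩
    obtain ⟨c, hc, hcu⟩ := Polynomial.isUnit_iff.mp u.isUnit
    obtain ⟨c', hc', rfl⟩ : ∃ c' : k, IsUnit c' ∧ MvPolynomial.C c' = c := by
      obtain ⟨h1, h2⟩ := MvPolynomial.isUnit_iff_totalDegree_of_isReduced.1 hc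
      exact ⟨c.coeff 0, h1, (MvPolynomial.totalDegree_eq_zero_iff_eq_C.1 h2).symm⟩
    rw [hu, ← hcu] at hB
    have h2 := congrArg (scale k r 1) hB
    simp only [map_mul, map_pow, Polynomial.toLaurent_X, Polynomial.toLaurent_C, scale_T, scale_CC] at h2
    rw [scale_scale] at h2
    have h3 : Polynomial.X ^ j * Polynomial.C (MvPolynomial.C c') = b * Polynomial.X ^ m := by
      apply Polynomial.toLaurent_injective
      simp only [map_mul, map_pow, Polynomial.toLaurent_X, Polynomial.toLaurent_C]
      rw [h2, T_pow, mul_one]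
    have h4 : j = m := by
      by_contra hne
      apply hb
      have h5 := congrArg (fun p : Polynomial (MvPolynomial (Fin r) k) => p.coeff m) h3
      change (Polynomial.X ^ j * Polynomial.C (MvPolynomial.C c')).coeff m = (b * Polynomial.X ^ m).coeff m at h5
      rw [mul_comm (Polynomial.X ^ j), Polynomial.coeff_C_mul, Polynomial.coeff_X_pow, if_neg (fun h : m = j => hne h.symm),
        mul_zero, Polynomial.coeff_mul_X_pow', if_pos le_rfl, Nat.sub_self] at h5
      exact h5.symm
    rw [h4, mul_comm] at h3
    rw [← mul_right_cancel₀ (pow_ne_zero m Polynomial.X_ne_zero) h3]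
    exact (hc'.map MvPolynomial.C).map Polynomial.C
  obtain ⟨ha0, hb0'⟩ := hb0 a b h
  rcases hprime.dvd_or_dvd (Dvd.intro _ hAB.symm) with ⟨A', rfl⟩ | ⟨B', rfl⟩
  · right
    rw [mul_assoc] at hAB
    exact key b m B hB hb0' (n + m) (Dvd.intro_left _ (mul_left_cancel₀ hprime.ne_zero hAB))
  · left
    rw [mul_left_comm] at hAB
    have h6 : A ∣ Polynomial.X ^ (n + m) := Dvd.intro _ (mul_left_cancel₀ hprime.ne_zero hAB)
    exact key a n A hA ha0 (n + m) h6

/-- Let k be an algebraically closed field, r ≥ 2, and F ∈ k[X_1, …, X_r] an irreducible polynomial with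
F(0) ≠ 0 (in the source the origin is the base point of the lines considered and lies off the
hypersurface F = 0; without this the claim fails, e.g. for X_1 - X_2^2). Then the polynomial G(T) =
F(X_1 T, …, X_r T), with coefficients in the field of rational functions k(X_1, …, X_r), is
irreducible. -/
theorem result (k : Type u) [Field k] [IsAlgClosed k] (r : ℕ) (hr : 2 ≤ r)
    (F : MvPolynomial (Fin r) k) (hF : Irreducible F) (hF0 : MvPolynomial.eval (fun _ => (0 : k)) F ≠ 0) :
    Irreducible ((MvPolynomial.eval₂ (Polynomial.C.comp MvPolynomial.C)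
        (fun j => Polynomial.C (MvPolynomial.X j) * Polynomial.X) F).map
      (algebraMap (MvPolynomial (Fin r) k) (FractionRing (MvPolynomial (Fin r) k)))) := by
  show Irreducible ((subst k r F).map _)
  have hprim : (subst k r F).IsPrimitive := by
    intro c hc
    have h1 := (Polynomial.C_dvd_iff_dvd_coeff c _).mp hc 0
    rw [coeff_zero_subst] at h1
    exact isUnit_of_dvd_unit h1 (hF0.isUnit.map MvPolynomial.C)
  refine hprim.irreducible_iff_irreducible_map_fraction_map.mp ⟨fun hu => hF.not_isUnit ?_, fun a b hab => isUnit_of_mul_eq k r hF hF0 hab⟩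
  have h1 : IsUnit (scale k r (-1) (Polynomial.toLaurent (subst k r F))) := (hu.map _).map _
  rw [toLaurent_subst, show scale k r (-1) (scale k r 1 (LaurentPolynomial.C F)) = LaurentPolynomial.C F from by
    have := scale_scale k r (-1) (LaurentPolynomial.C F)
    rwa [neg_neg] at this] at h1
  exact (isUnit_map_iff (Polynomial.C : MvPolynomial (Fin r) k →+* _) F).mp (by
    by_contra hc
    exact (Polynomial.prime_C_iff.mpr hF.prime).ne_zero (by
      obtain ⟨w, hw⟩ := h1
      obtain ⟨n, p, hp⟩ := exists_T_pow (↑w⁻¹ : (MvPolynomial (Fin r) k)[T;T⁻¹])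
      have h2 : Polynomial.C F * p = Polynomial.X ^ n := by
        apply Polynomial.toLaurent_injective
        rw [map_mul, Polynomial.toLaurent_C, map_pow, Polynomial.toLaurent_X, hp, ← hw, ← mul_assoc,
          Units.mul_inv, one_mul, T_pow, mul_one]
      obtain ⟨j, -, hass⟩ := (dvd_prime_pow Polynomial.prime_X n).mp (Dvd.intro _ h2)
      exfalso
      rcases j with - | j
      · rw [pow_zero] at hass
        exact hc (associated_one_iff_isUnit.mp hass)
      · have h3 : (Polynomial.X : Polynomial (MvPolynomial (Fin r) k)) ∣ Polynomial.C F :=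
          (dvd_pow_self _ j.succ_ne_zero).trans hass.symm.dvd
        rw [Polynomial.X_dvd_iff, Polynomial.coeff_C_zero] at h3
        exact hF.ne_zero h3))

end Groth.Agent.S4027
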