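import Groth.Statements.S4039
import Groth.Agent.QuadCountLib.Count
import Groth.Agent.PlaneTwistLib.Converse
import Groth.Agent.ZetaElem.ProjCount
import Groth.Agent.CIEquidimLib.Main
import Groth.Agent.JacLib.Dim
import Groth.Agent.S10829

set_option autoImplicit false
universe u
open CategoryTheory CategoryTheory.Limits AlgebraicGeometry
open LefPen

namespace Groth.Agent.S4039

open CategoryTheory CategoryTheory.Limits AlgebraicGeometry

set_option backward.isDefEq.respectTransparency false
set_option linter.style.haveILetI false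
universe v
open MvPolynomial Groth.Agent Groth.Agent.ProjMap Groth.Agent.QuadCountLib

theorem exists_lift_of_range {Z T X : Scheme.{u}} [AlgebraicGeometry.IsReduced T] (j : Z ⟶ X) [IsClosedImmersion j] (t : T ⟶ X)
    (h : Set.range t ⊆ Set.range j) : ∃ l : T ⟶ Z, l ≫ j = t := by
  haveI : IsClosedImmersion (pullback.fst t j) := MorphismProperty.pullback_fst _ _ ‹_›
  haveI : Surjective (pullback.fst t j) := ⟨fun z => by
    have : z ∈ Set.range (pullback.fst t j) := by
      rw [Scheme.Pullback.range_fst]; exact h ⟨z, rfl⟩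
    exact this⟩
  haveI := isIso_of_isClosedImmersion_of_surjective (pullback.fst t j)
  exact ⟨inv (pullback.fst t j) ≫ pullback.snd t j, by
    rw [Category.assoc, ← pullback.condition, IsIso.inv_hom_id_assoc]⟩

/-- A homogeneous polynomial of degree two as a quadratic form. -/
theorem exists_form {k : Type u} [Field k] {n : ℕ} (p : MvPolynomial (Fin (n + 1)) k)
    (hp : p ∈ CohB1.polyGrading n k 2) :
    ∃ q : QuadraticForm k (Fin (n + 1) → k), (∀ v, q v = eval v p) ∧
      (∀ v l, QuadraticMap.polar q v (Pi.single l 1) = eval v (pderiv l p)) ∧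
      ∀ (c : Fin (n + 1)) (a : Fin n → k) (j : Fin n),
        eval a (pderiv j (aeval (PicProjLib.dehomVec n k c) p)) =
          eval (Fin.insertNth (α := fun _ => k) c 1 a) (pderiv (c.succAbove j) p) := by
  classical
  rw [CohB1.polyGrading, ← homogeneousSubmodule_one_pow, pow_two] at hp
  induction hp using Submodule.mul_induction_on' with
  | mem_mul_mem x hx y hy =>
    rw [homogeneousSubmodule_one_eq_span_X] at hx hy
    induction hx using Submodule.span_induction with
    | mem x hx =>
      obtain ⟨i, rfl⟩ := hx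
      induction hy using Submodule.span_induction with
      | mem y hy =>
        obtain ⟨l', rfl⟩ := hy
        refine ⟨QuadraticMap.linMulLin (LinearMap.proj i) (LinearMap.proj l'), fun v => by simp, fun v l => ?_, fun c a j => ?_⟩
        · simp only [QuadraticMap.polar, QuadraticMap.linMulLin_apply, LinearMap.proj_apply, Pi.add_apply,
            pderiv_mul, pderiv_X, map_add, map_mul, eval_X, Pi.single_apply, apply_ite (eval v), map_one, map_zero]
          by_cases h1 : i = l <;> by_cases h2 : l' = l <;> simp [h1, h2] <;> ring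
        · have hX : ∀ b : Fin (n + 1), eval a (PicProjLib.dehomVec n k c b) =
              (Fin.insertNth (α := fun _ => k) c 1 a : Fin (n + 1) → k) b ∧
              eval a (pderiv j (PicProjLib.dehomVec n k c b)) = if b = c.succAbove j then 1 else 0 := fun b => by
            rcases Fin.eq_self_or_eq_succAbove c b with rfl | ⟨b', rfl⟩
            · simp [PicProjLib.dehomVec, (Fin.succAbove_ne b j).symm]
            · simp [PicProjLib.dehomVec, Pi.single_apply, apply_ite (eval a), eq_comm]
          simp only [map_mul, aeval_X, pderiv_mul, map_add, pderiv_X, eval_X, (hX _).1, (hX _).2, Pi.single_apply,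
            apply_ite (eval (Fin.insertNth (α := fun _ => k) c 1 a : Fin (n + 1) → k)), map_one, map_zero, eq_comm]
      | zero => exact ⟨0, fun v => by simp, fun v l => by simp [QuadraticMap.polar], fun c a j => by simp⟩
      | add y y' _ _ hy hy' =>
        obtain ⟨q, h1, h2, h3⟩ := hy
        obtain ⟨q', h1', h2', h3'⟩ := hy'
        exact ⟨q + q', fun v => by simp [h1, h1', mul_add], fun v l => by
          rw [QuadraticMap.coeFn_add, QuadraticMap.polar_add, h2, h2', mul_add, map_add, map_add],
          fun c a j => by rw [mul_add, map_add, map_add, map_add, map_add, map_add, h3, h3']⟩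
      | smul r y _ hy =>
        obtain ⟨q, h1, h2, h3⟩ := hy
        exact ⟨r • q, fun v => by simp [h1, mul_smul_comm], fun v l => by
          rw [QuadraticMap.coeFn_smul, QuadraticMap.polar_smul, h2, mul_smul_comm, Derivation.map_smul, smul_eval, smul_eq_mul],
          fun c a j => by rw [mul_smul_comm, map_smul, Derivation.map_smul, Derivation.map_smul, smul_eval, smul_eval, h3]⟩
    | zero => exact ⟨0, fun v => by simp, fun v l => by simp [QuadraticMap.polar], fun c a j => by simp⟩
    | add x x' _ _ hx hx' =>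
      obtain ⟨q, h1, h2, h3⟩ := hx
      obtain ⟨q', h1', h2', h3'⟩ := hx'
      exact ⟨q + q', fun v => by simp [h1, h1', add_mul], fun v l => by
        rw [QuadraticMap.coeFn_add, QuadraticMap.polar_add, h2, h2', add_mul, map_add, map_add],
        fun c a j => by rw [add_mul, map_add, map_add, map_add, map_add, map_add, h3, h3']⟩
    | smul r x _ hx =>
      obtain ⟨q, h1, h2, h3⟩ := hx
      exact ⟨r • q, fun v => by simp [h1, smul_mul_assoc], fun v l => by
        rw [QuadraticMap.coeFn_smul, QuadraticMap.polar_smul, h2, smul_mul_assoc, Derivation.map_smul, smul_eval, smul_eq_mul],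
        fun c a j => by rw [smul_mul_assoc, map_smul, Derivation.map_smul, Derivation.map_smul, smul_eval, smul_eval, h3]⟩
  | add x _ y _ hx hy =>
    obtain ⟨q, h1, h2, h3⟩ := hx
    obtain ⟨q', h1', h2', h3'⟩ := hy
    exact ⟨q + q', fun v => by simp [h1, h1'], fun v l => by
      rw [QuadraticMap.coeFn_add, QuadraticMap.polar_add, h2, h2', map_add, map_add],
      fun c a j => by rw [map_add, map_add, map_add, map_add, map_add, h3, h3']⟩

theorem chartEqn_ne_zero {k : Type u} [Field k] {n : ℕ} (G : LefPen.Form n k 2) (hG : G ≠ 0) (c : Fin (n + 1)) :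
    PlaneTwistLib.chartEqn G c ≠ 0 := by
  intro h0
  let Ω := AlgebraicClosure k
  obtain ⟨q, hq, -, -⟩ := exists_form (MvPolynomial.map (algebraMap k Ω) G.1) (IsHomogeneous.map G.2 _)
  have hz : ∀ v : Fin (n + 1) → Ω, eval v (MvPolynomial.map (algebraMap k Ω) G.1 * X c) = 0 := fun v => by
    rw [map_mul, eval_X, ← hq]
    by_cases hv : v c = 0
    · rw [hv, mul_zero]
    · let v' := (v c)⁻¹ • v
      have hv' : Fin.insertNth (α := fun _ => Ω) c 1 (fun j => v' (c.succAbove j)) = v' := by
        funext b
        rcases Fin.eq_self_or_eq_succAbove c b with rfl | ⟨b', rfl⟩ <;> simp [v', hv]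
      have h1 : q v' = 0 := by
        rw [hq, MvPolynomial.eval_map]
        have h2 : aeval (fun j => v' (c.succAbove j)) (PlaneTwistLib.chartEqn G c) = aeval v' G.1 := by
          rw [PlaneTwistLib.chartEqn, ← AlgHom.comp_apply, comp_aeval]
          congr 2
          funext b
          conv_rhs => rw [← hv']
          rcases Fin.eq_self_or_eq_succAbove c b with rfl | ⟨b', rfl⟩ <;> simp [PicProjLib.dehomVec]
        rw [h0, map_zero] at h2
        exact h2.symm
      rw [show v = v c • v' by simp [v', hv], QuadraticMap.map_smul, h1]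
      simp
  have hp := MvPolynomial.funext (p := MvPolynomial.map (algebraMap k Ω) G.1 * X c) (q := 0) (fun v => by rw [hz, map_zero])
  refine hG (Subtype.ext (MvPolynomial.map_injective _ (algebraMap k Ω).injective ?_))
  rw [ZeroMemClass.coe_zero, map_zero]
  exact (mul_eq_zero.1 hp).resolve_right (X_ne_zero c)


/-- Let k be a finite field with q elements, n ≥ 0, and Q a quadratic form in n + 2 variables over k
whose zero scheme X = V(Q) ⊆ P^{n+1}_k is smooth over k of relative dimension n (a smooth quadric of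
dimension n over k). Then the number of k-rational points of X is Σ_{i=0}^{n} q^i if n is odd, and
Σ_{i=0}^{n} q^i + ε q^{n/2} with ε = 1 or ε = -1 if n is even, where ε = 1 exactly when X is split,
i.e. contains a k-rational linear subspace of dimension n/2 (Q vanishes on a subspace of k^{n+2} of
dimension n/2 + 1). -/
theorem result (k : Type u) [Field k] [Fintype k] (n : ℕ) (Q : LefPen.Form (n + 1) k 2)
    [SmoothOfRelativeDimension n ((LefPen.hypIdeal Q).subschemeι ≫ CohB1.ProjSpace.toSpec (n + 1) k)] :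
    (Odd n → (SgaExt.pointCount ((LefPen.hypIdeal Q).subschemeι ≫ CohB1.ProjSpace.toSpec (n + 1) k) k : ℤ) =
      ∑ i ∈ Finset.range (n + 1), (Fintype.card k : ℤ) ^ i) ∧
    (Even n → ∃ ε : ℤ, (ε = 1 ∨ ε = -1) ∧
      (SgaExt.pointCount ((LefPen.hypIdeal Q).subschemeι ≫ CohB1.ProjSpace.toSpec (n + 1) k) k : ℤ) =
        (∑ i ∈ Finset.range (n + 1), (Fintype.card k : ℤ) ^ i) + ε * (Fintype.card k : ℤ) ^ (n / 2) ∧
      (ε = 1 ↔ ∃ W : Submodule k (Fin (n + 1 + 1) → k), Module.finrank k ↥W = n / 2 + 1 ∧
        ∀ w ∈ W, MvPolynomial.eval w Q.1 = 0)) := by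
  classical
  set ι := (LefPen.hypIdeal Q).subschemeι
  have hne : Q ≠ 0 := by
    intro h0
    haveI : Surjective ι := ⟨fun x => by
      have hx : x ∈ (LefPen.hypIdeal Q).support := by
        rw [CIEquidimLib.mem_support_hypIdeal, h0]; exact zero_mem _
      rw [← SetLike.mem_coe, ← Scheme.IdealSheafData.range_subschemeι] at hx
      exact hx⟩
    let e := ι.isEmbedding.toHomeomorphOfSurjective ι.surjective
    haveI : Nonempty (CohB1.ProjSpace (n + 1) k) :=
      ⟨point (R := k) (A := k) (fun _ => 1) 0 isUnit_one (IsLocalRing.closedPoint k)⟩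
    haveI : Nonempty ↥(LefPen.hypIdeal Q).subscheme :=
      ⟨e.symm (Classical.arbitrary _)⟩
    have h1 := JacLib.topologicalKrullDim_of_smooth (ι ≫ CohB1.ProjSpace.toSpec (n + 1) k) n
    rw [e.isHomeomorph.topologicalKrullDim_eq, S10829.result] at h1
    have h2 : n + 1 = n := by exact_mod_cast h1
    omega
  obtain ⟨q, hq, hq2, hq3⟩ := exists_form Q.1 Q.2
  haveI hsm : Smooth (ι ≫ CohB1.ProjSpace.toSpec (n + 1) k) := SmoothOfRelativeDimension.smooth n _
  have hnd : Nondeg q := fun v hv hv0 => by
    obtain ⟨c, hc⟩ := Function.ne_iff.1 hv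
    replace hc : v c ≠ 0 := hc
    let v' := (v c)⁻¹ • v
    let a : Fin (n + 1) → k := fun j => v' (c.succAbove j)
    have hv' : Fin.insertNth (α := fun _ => k) c 1 a = v' := by
      funext b
      rcases Fin.eq_self_or_eq_succAbove c b with rfl | ⟨b', rfl⟩ <;> simp [v', a, hc]
    have ha : aeval a (PlaneTwistLib.chartEqn Q c) = 0 := by
      rw [aeval_eq_eval, PlaneTwistLib.eval_chartEqn, hv', ← hq, QuadraticMap.map_smul, hv0, smul_zero]
    obtain ⟨j, hj⟩ := PlaneTwistLib.not_singular_of_smooth Q hne hsm c (chartEqn_ne_zero Q hne c) a ha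
    rw [aeval_eq_eval, PlaneTwistLib.chartEqn, hq3, hv', ← hq2, QuadraticMap.polar_smul_left] at hj
    exact ⟨_, fun h => hj (by rw [h, smul_zero])⟩
  -- points
  have hkey : ∀ (v : Fin (n + 1 + 1) → k) (c : Fin (n + 1 + 1)) (hc : IsUnit (v c)),
      (∃ g : Spec (CommRingCat.of k) ⟶ (LefPen.hypIdeal Q).subscheme, g ≫ ι = point (R := k) v c hc) ↔ q v = 0 := by
    intro v c hc
    have hmem : ∀ x, point (R := k) v c hc x ∈ (LefPen.hypIdeal Q).support ↔ q v = 0 := fun x => by
      have h1 : x ∈ point (R := k) v c hc ⁻¹ᵁ Proj.basicOpen (CohB1.polyGrading (n + 1) k) Q.1 ↔ eval v Q.1 ≠ 0 := by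
        rw [point_preimage_basicOpen v c hc two_pos Q.2, aeval_eq_eval]
        refine ⟨fun h h0 => h (by rw [h0]; exact zero_mem _), fun h hm => ?_⟩
        exact x.isPrime.ne_top (Ideal.eq_top_of_isUnit_mem _ hm (isUnit_iff_ne_zero.2 h))
      rw [CIEquidimLib.mem_support_hypIdeal, hq]
      exact not_iff_not.1 (Iff.trans (Proj.mem_basicOpen _ _ _).symm h1)
    constructor
    · rintro ⟨g, hg⟩
      refine (hmem (IsLocalRing.closedPoint k)).1 ?_
      rw [← SetLike.mem_coe, ← Scheme.IdealSheafData.range_subschemeι, ← hg]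
      exact ⟨g (IsLocalRing.closedPoint k), rfl⟩
    · intro h0
      refine exists_lift_of_range ι _ ?_
      rintro _ ⟨x, rfl⟩
      rw [Scheme.IdealSheafData.range_subschemeι]
      exact (hmem x).2 h0
  have hex : ∀ p : Projectivization k (Fin (n + 1 + 1) → k), ∃ c, IsUnit (p.rep c) := fun p => by
    obtain ⟨c, hc⟩ := Function.ne_iff.1 p.rep_nonzero
    exact ⟨c, isUnit_iff_ne_zero.2 hc⟩
  choose c hc using hex
  let Z := {p : Projectivization k (Fin (n + 1 + 1) → k) // q p.rep = 0}
  choose g hg using fun p : Z => (hkey p.1.rep (c p.1) (hc p.1)).2 p.2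
  let T : Z → {h : Spec (CommRingCat.of k) ⟶ (LefPen.hypIdeal Q).subscheme //
      h ≫ ι ≫ CohB1.ProjSpace.toSpec (n + 1) k = Spec.map (CommRingCat.ofHom (algebraMap k k))} :=
    fun p => ⟨g p, by rw [← Category.assoc, hg, point_toSpec]⟩
  have hT : Function.Bijective T := by
    constructor
    · intro p p' h
      have h' : g p = g p' := congrArg Subtype.val h
      refine Subtype.ext ?_
      rw [← p.1.mk_rep, ← p'.1.mk_rep, Projectivization.mk_eq_mk_iff']
      exact (ZetaElem.point_eq_iff p.1.rep p'.1.rep (c p.1) (c p'.1) (hc p.1) (hc p'.1)).1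
        (by rw [← hg, ← hg, h'])
    · rintro ⟨h, hh⟩
      rw [← Category.assoc] at hh
      obtain ⟨v, d, hd, -, hv⟩ := S18577.exists_coords (h ≫ ι) hh
      have hv0 : v ≠ 0 := fun h0 => hd.ne_zero (congrFun h0 d)
      obtain ⟨a, ha⟩ := Projectivization.exists_smul_eq_mk_rep k v hv0
      have hz : q (Projectivization.mk k v hv0).rep = 0 := by
        rw [← ha, Units.smul_def, QuadraticMap.map_smul, (hkey v d hd).1 ⟨h, hv⟩, smul_zero]
      refine ⟨⟨_, hz⟩, Subtype.ext ((cancel_mono ι).1 ?_)⟩
      show g _ ≫ ι = h ≫ ι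
      rw [hg, hv]
      exact (ZetaElem.point_eq_iff (Projectivization.mk k v hv0).rep v _ d (hc _) hd).2 ⟨a, ha⟩
  have hP : SgaExt.pointCount (ι ≫ CohB1.ProjSpace.toSpec (n + 1) k) k = Nat.card Z :=
    (Nat.card_congr (Equiv.ofBijective T hT)).symm
  let F : Option (Z × kˣ) → {v : Fin (n + 1 + 1) → k // q v = 0} := fun o => o.elim ⟨0, by simp⟩
    fun s => ⟨s.2 • s.1.1.rep, by rw [Units.smul_def, QuadraticMap.map_smul, s.1.2, smul_zero]⟩
  have hF : Function.Bijective F := by
    constructor
    · rintro (_ | ⟨p, t⟩) (_ | ⟨p', t'⟩) h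
      · rfl
      · exact absurd (congrArg Subtype.val h).symm (smul_ne_zero t'.ne_zero p'.1.rep_nonzero)
      · exact absurd (congrArg Subtype.val h) (smul_ne_zero t.ne_zero p.1.rep_nonzero)
      · have h' : t • p.1.rep = t' • p'.1.rep := congrArg Subtype.val h
        have hp : p = p' := by
          refine Subtype.ext ?_
          rw [← p.1.mk_rep, ← p'.1.mk_rep, Projectivization.mk_eq_mk_iff]
          exact ⟨t⁻¹ * t', by rw [mul_smul, ← h', inv_smul_smul]⟩
        subst hp
        have ht : (t : k) = t' := smul_left_injective k p.1.rep_nonzero h'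
        rw [Units.ext ht]
    · rintro ⟨v, hv⟩
      by_cases hv0 : v = 0
      · exact ⟨none, Subtype.ext hv0.symm⟩
      · obtain ⟨a, ha⟩ := Projectivization.exists_smul_eq_mk_rep k v hv0
        refine ⟨some (⟨Projectivization.mk k v hv0, by rw [← ha, Units.smul_def, QuadraticMap.map_smul, hv, smul_zero]⟩, a⁻¹),
          Subtype.ext ?_⟩
        show a⁻¹ • (Projectivization.mk k v hv0).rep = v
        rw [← ha, inv_smul_smul]
  have hcard : (Nat.card {v : Fin (n + 1 + 1) → k // q v = 0} : ℤ) =
      (Nat.card Z : ℤ) * ((Nat.card k : ℤ) - 1) + 1 := by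
    rw [← Nat.card_congr (Equiv.ofBijective F hF), Finite.card_option, Nat.card_prod, Nat.card_units]
    have : 1 ≤ Nat.card k := Nat.card_pos
    push_cast [Nat.cast_sub this]
    ring
  obtain ⟨hodd, heven⟩ := QuadCountLib.main (n + 1 + 1) q hnd (Module.finrank_fin_fun k)
  rw [hP, ← Nat.card_eq_fintype_card]
  have hq2' : (2 : ℤ) ≤ (Nat.card k : ℤ) := by exact_mod_cast Finite.one_lt_card
  have hgeo := geom_sum_mul (Nat.card k : ℤ) (n + 1)
  have hne1 : (Nat.card k : ℤ) - 1 ≠ 0 := by omega
  have hne2 : (Nat.card k : ℤ) ≠ 0 := by omega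
  refine ⟨fun ho => ?_, fun he => ?_⟩
  · have hd := hodd (by simpa [parity_simps] using ho)
    rw [defect, Module.finrank_fin_fun, hcard] at hd
    refine mul_right_cancel₀ hne1 (mul_left_cancel₀ hne2 ?_)
    linear_combination hd - (Nat.card k : ℤ) * hgeo
  · obtain ⟨ε, hε, hd, hiff⟩ := heven (by simpa [parity_simps] using he)
    have hh : (n + 1 + 1) / 2 = n / 2 + 1 := by omega
    rw [defect, Module.finrank_fin_fun, hcard, hh] at hd
    rw [hh] at hiff
    refine ⟨ε, hε, mul_right_cancel₀ hne1 (mul_left_cancel₀ hne2 ?_), hiff.trans ?_⟩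
    · linear_combination hd - (Nat.card k : ℤ) * hgeo
    · simp only [HasIso, hq]

end Groth.Agent.S4039
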