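import Groth.Statements.S4046
import Groth.Agent.LefDualLib.Open
-- import your own Groth.Agent.* helpers here

set_option autoImplicit false
universe u
open CategoryTheory CategoryTheory.Limits AlgebraicGeometry
open LefPen

namespace Groth.Agent.S4046

/-- The dual variety is closed and irreducible: on the space of forms: let k be an algebraically closed
field and X an irreducible smooth proper k-scheme of dimension n ≥ 1 embedded in projective r-space
by a closed immersion i, and let d ≥ 1. The degree-d forms whose hypersurface cuts X transversally
form a Zariski-open set, and its complement (the affine cone over the dual variety of the degree-d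
embedding) is irreducible: if two polynomial functions f, g on the space of forms have product
vanishing at every non-transversal form, then one of them vanishes at every non-transversal form. -/
theorem result (k : Type u) [Field k] [IsAlgClosed k] (r n : ℕ) (hn : 1 ≤ n)
    {X : Scheme.{u}} (i : X ⟶ CohB1.ProjSpace r k) [IsClosedImmersion i] [IrreducibleSpace X]
    [SmoothOfRelativeDimension n (i ≫ CohB1.ProjSpace.toSpec r k)]
    (d : ℕ) (hd : 1 ≤ d) :
    LefPen.IsZOpen k {H : LefPen.Form r k d |
      LefPen.Transversal k n 1 (LefPen.secToSpec i ({H} : Set (LefPen.Form r k d)))} ∧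
    ∀ f g : LefPen.Form r k d → k, LefPen.IsPolyFun k f → LefPen.IsPolyFun k g →
      (∀ H : LefPen.Form r k d, ¬ LefPen.Transversal k n 1 (LefPen.secToSpec i ({H} : Set (LefPen.Form r k d))) →
        f H * g H = 0) →
      (∀ H : LefPen.Form r k d, ¬ LefPen.Transversal k n 1 (LefPen.secToSpec i ({H} : Set (LefPen.Form r k d))) → f H = 0) ∨
      (∀ H : LefPen.Form r k d, ¬ LefPen.Transversal k n 1 (LefPen.secToSpec i ({H} : Set (LefPen.Form r k d))) → g H = 0) := by
  haveI : IsIntegral X := Groth.Agent.LefDualLib.isIntegral_of_smooth i n
  have hiff := Groth.Agent.LefDualLib.not_transversal_iff i n hn hd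
  refine ⟨fun v hv => ?_, fun f g hf hg hfg => ?_⟩
  · obtain ⟨f, hf, hfv, hfw⟩ := Groth.Agent.LefDualLib.exists_avoid i n hd v fun hb => (hiff v).2 hb hv
    exact ⟨f, hf, hfv, fun w hw => not_not.1 fun hnt => hfw w hw ((hiff w).1 hnt)⟩
  · exact (Groth.Agent.LefDualLib.irreducible_bad i n hd hf hg fun G hG => hfg G ((hiff G).2 hG)).imp
      (fun h H hH => h H ((hiff H).1 hH)) (fun h H hH => h H ((hiff H).1 hH))

end Groth.Agent.S4046
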