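import Groth.Statements.S4047
import Mathlib

set_option autoImplicit false
universe u
open LefPen

namespace Groth.Agent.S4047

section

open Finset

/-- The least positive representative of `p ^ l * e` modulo `p ^ r - 1` (and `0` for `e = 0`). -/
def red (p r l e : ℕ) : ℕ :=
  if e = 0 then 0 else (p ^ l * e - 1) % (p ^ r - 1) + 1

variable {p r : ℕ}

theorem red_pos {l e : ℕ} (he : e ≠ 0) : 0 < red p r l e := by
  simp [red, he]

theorem red_modEq (hp : 1 ≤ p) (l e : ℕ) : red p r l e ≡ p ^ l * e [MOD p ^ r - 1] := by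
  rcases eq_or_ne e 0 with rfl | he
  · simp [red, Nat.ModEq]
  · have h1 : 1 ≤ p ^ l * e := Nat.one_le_iff_ne_zero.2 (by positivity)
    have := (Nat.mod_modEq (p ^ l * e - 1) (p ^ r - 1)).add_right 1
    rw [Nat.sub_add_cancel h1] at this
    simpa [red, he] using this

theorem red_le (hp : 1 ≤ p) {l e x : ℕ} (hx : 0 < x) (h : x ≡ p ^ l * e [MOD p ^ r - 1]) :
    red p r l e ≤ x := by
  rcases eq_or_ne e 0 with rfl | he
  · simp [red]
  · have h1 : 1 ≤ p ^ l * e := Nat.one_le_iff_ne_zero.2 (by positivity)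
    have h2 : x - 1 ≡ p ^ l * e - 1 [MOD p ^ r - 1] := by
      apply Nat.ModEq.add_right_cancel' 1
      rwa [Nat.sub_add_cancel h1, Nat.sub_add_cancel hx]
    simp only [red, if_neg he]
    rw [← h2]
    have := Nat.mod_le (x - 1) (p ^ r - 1)
    omega

theorem red_add (hp : 1 ≤ p) (l a b : ℕ) : red p r l (a + b) ≤ red p r l a + red p r l b := by
  rcases eq_or_ne a 0 with rfl | ha
  · simp [red]
  refine red_le hp (Nat.add_pos_left (red_pos ha) _) ?_
  rw [mul_add]
  exact (red_modEq hp l a).add (red_modEq hp l b)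

theorem red_mul (hp : 1 ≤ p) (l c a : ℕ) : red p r l (c * a) ≤ c * red p r l a := by
  induction c with
  | zero => simp [red]
  | succ c ih =>
    rw [Nat.succ_mul, Nat.succ_mul]
    exact (red_add hp l _ _).trans (Nat.add_le_add_right ih _)

theorem red_pow (hp : 2 ≤ p) (l i : ℕ) : red p r l (p ^ i) ≤ p ^ ((l + i) % r) := by
  refine red_le (by omega) (pow_pos (by omega) _) ?_
  have h1 : p ^ r ≡ 1 [MOD p ^ r - 1] := Nat.modEq_sub (Nat.one_le_iff_ne_zero.2 (by positivity))
  have h2 := ((h1.pow ((l + i) / r)).mul_right (p ^ ((l + i) % r))).symm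
  rw [one_pow, one_mul, ← pow_mul, ← pow_add, Nat.div_add_mod] at h2
  rwa [← pow_add]

theorem sum_rot (hp : 2 ≤ p) (i : ℕ) :
    (p - 1) * ∑ l ∈ range r, p ^ ((l + i) % r) = p ^ r - 1 := by
  induction i with
  | zero =>
    rw [mul_comm, ← geom_sum_mul_of_one_le (by omega : 1 ≤ p) r]
    exact congrArg (· * (p - 1)) (Finset.sum_congr rfl fun l hl => by
      rw [Nat.add_zero, Nat.mod_eq_of_lt (Finset.mem_range.1 hl)])
  | succ i ih =>
    rw [← ih]
    congr 1
    let g : ℕ → ℕ := fun l => p ^ ((l + i) % r)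
    have h1 := Finset.sum_range_succ g r
    have h2 := Finset.sum_range_succ' g r
    have h3 : g r = g 0 := by simp [g]
    have h4 : ∑ l ∈ range r, g (l + 1) = ∑ l ∈ range r, g l := by omega
    refine Eq.trans (Finset.sum_congr rfl fun l _ => ?_) h4
    show p ^ ((l + (i + 1)) % r) = p ^ ((l + 1 + i) % r)
    rw [add_right_comm, ← add_assoc]

theorem sum_red_le (hp : 2 ≤ p) (e : ℕ) : ∀ i : ℕ,
    (p - 1) * ∑ l ∈ range r, red p r l (p ^ i * e) ≤ (p ^ r - 1) * (p.digits e).sum := by
  induction e using Nat.strong_induction_on with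
  | _ e ih =>
    intro i
    rcases Nat.eq_zero_or_pos e with rfl | he
    · simp [red]
    have hd := ih (e / p) (Nat.div_lt_self he (by omega)) (i + 1)
    rw [Nat.digits_def' (by omega) he, List.sum_cons, mul_add]
    have hl : ∀ l ∈ range r, red p r l (p ^ i * e) ≤
        e % p * p ^ ((l + i) % r) + red p r l (p ^ (i + 1) * (e / p)) := fun l _ => by
      have heq : p ^ i * e = e % p * p ^ i + p ^ (i + 1) * (e / p) := by
        rw [pow_succ, mul_assoc]
        conv_lhs => rw [← Nat.mod_add_div e p]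
        ring
      rw [heq]
      exact (red_add (by omega) l _ _).trans (Nat.add_le_add_right
        ((red_mul (by omega) l _ _).trans (Nat.mul_le_mul_left _ (red_pow hp l i))) _)
    refine (Nat.mul_le_mul_left _ (Finset.sum_le_sum hl)).trans ?_
    rw [Finset.sum_add_distrib, mul_add, ← Finset.mul_sum]
    refine Nat.add_le_add (le_of_eq ?_) hd
    rw [mul_left_comm, sum_rot hp i, mul_comm]

theorem digits_sum_pow_sub_one_mul (hp : 2 ≤ p) (hr : 0 < r) (m : ℕ) :
    (p.digits (p ^ m * (p ^ r - 1))).sum ≤ r * (p - 1) := by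
  have hq : 0 < p ^ r - 1 := by
    have : 1 < p ^ r := one_lt_pow₀ (by omega) hr.ne'
    omega
  rw [Nat.digits_base_pow_mul (by omega) hq, List.sum_append, List.sum_replicate, smul_zero, zero_add]
  have hlen : (p.digits (p ^ r - 1)).length ≤ r :=
    (Nat.digits_length_le_iff (by omega) _).2 (Nat.sub_lt (by positivity) one_pos)
  have hle := List.sum_le_card_nsmul (p.digits (p ^ r - 1)) (p - 1) fun x hx =>
    Nat.le_sub_one_of_lt (Nat.digits_lt_base (by omega) hx)
  exact hle.trans (by rw [smul_eq_mul]; exact Nat.mul_le_mul_right _ hlen)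

variable [hp : Fact p.Prime] {α : Type*}

theorem sum_digits_le (s : Finset α) (f : α → ℕ) :
    (p - 1) * padicValNat p (∏ i ∈ s, (f i).factorial) + ∑ i ∈ s, (p.digits (f i)).sum = ∑ i ∈ s, f i := by
  classical
  induction s using Finset.induction with
  | empty => simp
  | insert a s ha ih =>
    rw [Finset.prod_insert ha, Finset.sum_insert ha, Finset.sum_insert ha,
      padicValNat.mul (Nat.factorial_ne_zero _)
        (Finset.prod_ne_zero_iff.2 fun i _ => Nat.factorial_ne_zero _),
      mul_add, sub_one_mul_padicValNat_factorial]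
    have := Nat.digit_sum_le p (f a)
    omega

theorem val_multinomial (s : Finset α) (f : α → ℕ) :
    (p - 1) * padicValNat p (Nat.multinomial s f) + (p.digits (∑ i ∈ s, f i)).sum =
      ∑ i ∈ s, (p.digits (f i)).sum := by
  have h := congrArg (padicValNat p) (Nat.multinomial_spec s f)
  rw [padicValNat.mul (Finset.prod_ne_zero_iff.2 fun i _ => Nat.factorial_ne_zero _)
    (Nat.multinomial_pos _ _).ne'] at h
  have h' := congrArg ((p - 1) * ·) h
  simp only [mul_add, sub_one_mul_padicValNat_factorial] at h'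
  have h1 := sum_digits_le (p := p) s f
  have h2 := Nat.digit_sum_le p (∑ i ∈ s, f i)
  omega

omit hp in
/-- Ax's counting of carries. -/
theorem dvd_multinomial [hp : Fact p.Prime] (hr : 0 < r) {N d j' m : ℕ} (S : Finset α) (f : α → ℕ)
    (deg : α → Fin N → ℕ) (hd : ∀ a ∈ S, ∑ i, deg a i = d)
    (hn : ∑ a ∈ S, f a = p ^ m * (p ^ r - 1))
    (hdvd : ∀ i, p ^ r - 1 ∣ ∑ a ∈ S, f a * deg a i) (hj : j' * d < (Finset.univ.filter fun i => ∑ a ∈ S, f a * deg a i ≠ 0).card) :
    p ^ (r * j') ∣ Nat.multinomial S f := by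
  have hp2 : 2 ≤ p := hp.out.two_le
  have hqq : 0 < p ^ r - 1 := by
    have : 1 < p ^ r := one_lt_pow₀ (by omega) hr.ne'
    omega
  let P := Finset.univ.filter fun i => ∑ a ∈ S, f a * deg a i ≠ 0
  have hA : ∀ l, (j' + 1) * (p ^ r - 1) ≤ ∑ a ∈ S, red p r l (f a) := by
    intro l
    let A := ∑ a ∈ S, red p r l (f a)
    have hAd : p ^ r - 1 ∣ A := by
      rw [← Nat.modEq_zero_iff_dvd]
      refine (Nat.ModEq.sum fun a _ => red_modEq (by omega) l (f a)).trans ?_
      rw [← Finset.mul_sum, hn, Nat.modEq_zero_iff_dvd]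
      exact (dvd_mul_left _ _).mul_left _
    obtain ⟨a, ha⟩ := hAd
    have hcol : ∀ i ∈ P, p ^ r - 1 ≤ ∑ a ∈ S, red p r l (f a) * deg a i := fun i hi => by
      refine Nat.le_of_dvd ?_ ?_
      · obtain ⟨a, ha, hne⟩ := Finset.exists_ne_zero_of_sum_ne_zero (Finset.mem_filter.1 hi).2
        exact lt_of_lt_of_le (Nat.mul_pos (red_pos fun h => hne (by simp [h]))
          (Nat.pos_of_ne_zero fun h => hne (by simp [h]))) (Finset.single_le_sum
            (f := fun a => red p r l (f a) * deg a i) (fun _ _ => Nat.zero_le _) ha)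
      · rw [← Nat.modEq_zero_iff_dvd]
        refine (Nat.ModEq.sum fun a _ => (red_modEq (by omega) l (f a)).mul_right (deg a i)).trans ?_
        rw [Nat.modEq_zero_iff_dvd]
        simp_rw [mul_assoc]
        rw [← Finset.mul_sum]
        exact (hdvd i).mul_left _
    have h1 : P.card * (p ^ r - 1) ≤ d * A := by
      rw [← smul_eq_mul, ← Finset.sum_const]
      refine (Finset.sum_le_sum hcol).trans ((Finset.sum_le_sum_of_subset (Finset.subset_univ P)).trans
        (le_of_eq ?_))
      rw [Finset.sum_comm, Finset.mul_sum]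
      exact Finset.sum_congr rfl fun a ha => by rw [← Finset.mul_sum, hd a ha, mul_comm]
    rw [ha] at h1
    have h2 : P.card ≤ d * a := Nat.le_of_mul_le_mul_right (by linarith) hqq
    have h3 : j' + 1 ≤ a := by
      by_contra hc
      have : d * a ≤ d * j' := Nat.mul_le_mul_left d (by omega)
      have hjP : j' * d < P.card := hj
      linarith
    show (j' + 1) * (p ^ r - 1) ≤ A
    rw [ha, mul_comm]
    exact Nat.mul_le_mul_left _ h3
  have h4 := Finset.sum_le_sum (fun l (_ : l ∈ Finset.range r) => hA l)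
  rw [Finset.sum_const, Finset.card_range, smul_eq_mul, Finset.sum_comm] at h4
  have h5 := (Nat.mul_le_mul_left (p - 1) h4).trans (le_of_eq (Finset.mul_sum _ _ _))
  have h6 : (p - 1) * (r * ((j' + 1) * (p ^ r - 1))) ≤ (p ^ r - 1) * ∑ a ∈ S, (p.digits (f a)).sum := by
    refine h5.trans ?_
    rw [Finset.mul_sum]
    exact Finset.sum_le_sum fun a _ => by simpa using sum_red_le (r := r) hp2 (f a) 0
  have h7 : (p - 1) * (r * (j' + 1)) ≤ ∑ a ∈ S, (p.digits (f a)).sum :=
    Nat.le_of_mul_le_mul_left (by linarith) hqq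
  rw [← val_multinomial, hn] at h7
  have h8 := digits_sum_pow_sub_one_mul hp2 hr m
  have h9 : r * j' ≤ padicValNat p (Nat.multinomial S f) := by
    by_contra hc
    push Not at hc
    have h10 : (p - 1) * (padicValNat p (Nat.multinomial S f) + 1) ≤ (p - 1) * (r * j') :=
      Nat.mul_le_mul_left _ hc
    have hp1 : 1 ≤ p - 1 := by omega
    linarith
  exact (Nat.pow_dvd_pow p h9).trans pow_padicValNat_dvd

variable {k : Type*} [Field k] [Fintype k] [CharP k p]

local notation "𝕎" => WittVector p

omit [Fintype k] in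
theorem p_not_unit : ¬ IsUnit (p : 𝕎 k) := fun h => by
  have := h.map (WittVector.constantCoeff (p := p) (R := k))
  rw [map_natCast, CharP.cast_eq_zero] at this
  exact not_isUnit_zero this

omit [Fintype k] in
theorem dvd_of_cast_dvd {m n : ℕ} (hn : n ≠ 0) (h : ((p : 𝕎 k) ^ m) ∣ (n : 𝕎 k)) : p ^ m ∣ n := by
  obtain ⟨a, u, hu, rfl⟩ := Nat.exists_eq_pow_mul_and_not_dvd hn p hp.out.ne_one
  refine dvd_mul_of_dvd_left (Nat.pow_dvd_pow p ?_) u
  by_contra hc
  push Not at hc
  push_cast at h
  have h' : (p : 𝕎 k) ^ a * p ∣ (p : 𝕎 k) ^ a * u := by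
    rw [← pow_succ]
    exact (pow_dvd_pow _ hc).trans h
  rw [mul_dvd_mul_iff_left (pow_ne_zero _ (WittVector.p_nonzero p k))] at h'
  have := map_dvd (WittVector.constantCoeff (p := p) (R := k)) h'
  rw [map_natCast, map_natCast, CharP.cast_eq_zero, zero_dvd_iff, CharP.cast_eq_zero_iff k p] at this
  exact hu this

theorem sum_teichmuller_pow {E : ℕ} (hE : ¬ Fintype.card k - 1 ∣ E) :
    ∑ t : k, WittVector.teichmuller p t ^ E = 0 := by
  rw [← FiniteField.forall_pow_eq_one_iff] at hE
  push Not at hE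
  obtain ⟨u, hu⟩ := hE
  have h1 : WittVector.teichmuller p (u : k) ^ E * ∑ t : k, WittVector.teichmuller p t ^ E =
      ∑ t : k, WittVector.teichmuller p t ^ E := by
    rw [Finset.mul_sum]
    refine Eq.trans ?_ (Equiv.sum_comp (Equiv.mulLeft₀ (u : k) u.ne_zero)
      (fun t => WittVector.teichmuller p t ^ E))
    exact Finset.sum_congr rfl fun t _ => by simp [mul_pow]
  have h2 : WittVector.teichmuller p (u : k) ^ E ≠ 1 := fun h => hu (Units.ext (by
    have := congrArg (fun x : 𝕎 k => x.coeff 0) h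
    simpa [← map_pow] using this))
  by_contra hS
  exact h2 ((mul_eq_right₀ hS).1 h1)

end

/-- Let k be a finite field with q elements, F a homogeneous form of degree d > 0 in N variables over k,
and j a natural number with j d < N. Then q^j divides the number of zeros of F in k^N. -/
theorem result (k : Type u) [Field k] [Fintype k] [DecidableEq k] (N d j : ℕ)
    (hd : 0 < d) (F : MvPolynomial (Fin N) k) (hF : F.IsHomogeneous d) (hj : j * d < N) :
    Fintype.card k ^ j ∣ Fintype.card {x : Fin N → k // MvPolynomial.eval x F = 0} := by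
  classical
  obtain ⟨p, hchar, ⟨r, hr⟩, hpp, hq⟩ := FiniteField.card' k
  replace hq : Fintype.card k = p ^ r := hq
  haveI : Fact p.Prime := ⟨hpp⟩
  have hdvdp : ∀ a : WittVector p k, WittVector.constantCoeff a = 0 → (p : WittVector p k) ∣ a := fun a ha => by
    rw [← Ideal.mem_span_singleton, ← WittVector.ker_constantCoeff]
    exact ha
  let τ : k →* WittVector p k := WittVector.teichmuller p
  have hτ : ∀ t, WittVector.constantCoeff (τ t) = t := fun t => WittVector.teichmuller_coeff_zero p t
  let n := p ^ (r * j) * (p ^ r - 1)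
  let T : (Fin N →₀ ℕ) → (Fin N → k) → WittVector p k := fun I x =>
    τ (F.coeff I) * ∏ i, τ (x i) ^ I i
  let a : (Fin N → k) → WittVector p k := fun x => ∑ I ∈ F.support, T I x
  have ha : ∀ x, WittVector.constantCoeff (a x) = MvPolynomial.eval x F := fun x => by
    rw [MvPolynomial.eval_eq', map_sum]
    exact Finset.sum_congr rfl fun I _ => by simp only [T, map_mul, map_prod, map_pow, hτ]
  have hqq : 0 < p ^ r - 1 := Nat.sub_pos_of_lt (one_lt_pow₀ hpp.one_lt hr.ne')
  have hm : r * j < p ^ (r * j) := Nat.lt_pow_self hpp.one_lt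
  -- the indicator congruence
  have hind : ∀ x, (p : WittVector p k) ^ (r * j) ∣
      a x ^ n - (if MvPolynomial.eval x F = 0 then 0 else 1) := fun x => by
    split_ifs with hx
    · rw [sub_zero]
      have := pow_dvd_pow_of_dvd (hdvdp (a x) (by rw [ha, hx])) n
      exact (pow_dvd_pow _ (hm.le.trans (Nat.le_mul_of_pos_right _ hqq))).trans this
    · have h1 : (p : WittVector p k) ∣ a x ^ (p ^ r - 1) - 1 := hdvdp _ (by
        rw [map_sub, map_pow, ha, map_one, ← hq, FiniteField.pow_card_sub_one_eq_one _ hx, sub_self])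
      have h2 := dvd_sub_pow_of_dvd_sub h1 (r * j)
      rw [one_pow, ← pow_mul, mul_comm (p ^ r - 1)] at h2
      exact (pow_dvd_pow _ (Nat.le_succ _)).trans h2
  -- the sum of all the powers
  have hsum : (p : WittVector p k) ^ (r * j) ∣ ∑ x, a x ^ n := by
    simp only [a, Finset.sum_pow_eq_sum_piAntidiag]
    rw [Finset.sum_comm]
    refine Finset.dvd_sum fun e he => ?_
    rw [← Finset.mul_sum]
    let E : Fin N → ℕ := fun i => ∑ I ∈ F.support, e I * I i
    have hprod : ∀ x : Fin N → k, ∏ I ∈ F.support, T I x ^ e I =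
        (∏ I ∈ F.support, τ (F.coeff I) ^ e I) * ∏ i, τ (x i) ^ E i := fun x => by
      simp only [T, mul_pow, Finset.prod_mul_distrib, ← Finset.prod_pow, ← pow_mul]
      congr 1
      rw [Finset.prod_comm]
      refine Finset.prod_congr rfl fun i _ => ?_
      rw [Finset.prod_pow_eq_pow_sum]
      exact congrArg _ (Finset.sum_congr rfl fun I _ => mul_comm _ _)
    rw [Finset.sum_congr rfl fun x _ => hprod x, ← Finset.mul_sum,
      ← Fintype.prod_sum (fun (i : Fin N) (t : k) => τ t ^ E i)]
    by_cases hE : ∀ i, p ^ r - 1 ∣ E i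
    swap
    · push Not at hE
      obtain ⟨i, hi⟩ := hE
      rw [Finset.prod_eq_zero (Finset.mem_univ i) (sum_teichmuller_pow (hq ▸ hi)), mul_zero, mul_zero]
      exact dvd_zero _
    let Z := Finset.univ.filter fun i => E i = 0
    let P := Finset.univ.filter fun i => E i ≠ 0
    have hZP : Z.card + P.card = N := by
      rw [Finset.card_filter_add_card_filter_not]; simp
    have hcard : ((Fintype.card k : ℕ) : WittVector p k) ^ Z.card ∣ ∏ i, ∑ t, τ t ^ E i := by
      refine dvd_trans (dvd_of_eq ?_) (Finset.prod_dvd_prod_of_subset Z Finset.univ _ (Finset.subset_univ _))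
      rw [← Finset.prod_const]
      exact Finset.prod_congr rfl fun i hi => by simp [(Finset.mem_filter.1 hi).2]
    rw [hq, Nat.cast_pow, ← pow_mul] at hcard
    rcases le_or_gt j Z.card with hjZ | hjZ
    · exact Dvd.dvd.mul_left (Dvd.dvd.mul_left ((pow_dvd_pow _ (Nat.mul_le_mul_left r hjZ)).trans hcard) _) _
    have hdeg : ∀ I ∈ F.support, ∑ i, I i = d := fun I hI => by
      have h := hF (MvPolynomial.mem_support_iff.1 hI)
      rwa [Finsupp.weight_apply, Finsupp.sum_fintype _ _ (fun i => by simp),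
        Finset.sum_congr rfl (fun i _ => by simp : ∀ i ∈ Finset.univ, I i • (1 : Fin N → ℕ) i = I i)] at h
    have hj' : (j - Z.card) * d < P.card := by
      have h1 : Z.card ≤ Z.card * d := Nat.le_mul_of_pos_right _ hd
      have h2 : (j - Z.card) * d + Z.card * d = j * d := by rw [← add_mul, Nat.sub_add_cancel hjZ.le]
      omega
    have hmul := dvd_multinomial (p := p) hr F.support e (fun I i => I i) hdeg
      (m := r * j) (Finset.mem_piAntidiag.1 he).1 hE hj'
    have e1 : r * j = r * (j - Z.card) + r * Z.card := by rw [← mul_add, Nat.sub_add_cancel hjZ.le]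
    rw [e1, pow_add]
    exact mul_dvd_mul (by exact_mod_cast (Nat.cast_dvd_cast (α := WittVector p k) hmul))
      (hcard.mul_left _)
  -- conclusion
  rcases Nat.eq_zero_or_pos (Fintype.card {x : Fin N → k // MvPolynomial.eval x F = 0}) with h0 | h0
  · rw [h0]; exact dvd_zero _
  rw [hq, ← pow_mul]
  refine dvd_of_cast_dvd (k := k) h0.ne' ?_
  have hN : (p : WittVector p k) ^ (r * j) ∣ ((Fintype.card (Fin N → k) : ℕ) : WittVector p k) := by
    rw [Fintype.card_fun, Fintype.card_fin, hq, ← pow_mul, Nat.cast_pow]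
    exact pow_dvd_pow _ (Nat.mul_le_mul_left r (by nlinarith))
  have hd' := (Finset.dvd_sum (s := Finset.univ) fun x _ => hind x)
  rw [Finset.sum_sub_distrib] at hd'
  have hone := (dvd_sub_right hsum).1 hd'
  have key : ((Fintype.card {x : Fin N → k // MvPolynomial.eval x F = 0} : ℕ) : WittVector p k) =
      ((Fintype.card (Fin N → k) : ℕ) : WittVector p k) -
        ∑ x : Fin N → k, (if MvPolynomial.eval x F = 0 then 0 else 1) := by
    rw [Fintype.card_subtype, ← Finset.sum_boole, eq_sub_iff_add_eq, ← Finset.sum_add_distrib]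
    rw [Finset.sum_congr rfl (fun x _ => ?_), Finset.sum_const, nsmul_one, Finset.card_univ]
    split <;> simp
  rw [key]
  exact dvd_sub hN hone

end Groth.Agent.S4047
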