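import Groth.Statements.S4058
import Groth.Agent.NeronGrpLib.SpecialProper
-- import your own Groth.Agent.* helpers here

set_option autoImplicit false
universe u
open CategoryTheory CategoryTheory.Limits AlgebraicGeometry MonObj
open SGA7

namespace Groth.Agent.S4058

/-- (iii) ⇒ (iv): let R be a discrete valuation ring with fraction field K and residue field k, and N a
group scheme over Spec R which is a Néron model of its generic fibre, an abelian variety over K. If
the special fibre N ×_R k is proper over k, then N is proper over Spec R. (In (iii) as published the
special fibre is an abelian variety; connectedness of the special fibre is not assumed here.) -/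
theorem result (R K : Type u) [CommRing R] [IsDomain R] [IsDiscreteValuationRing R] [Field K]
    [Algebra R K] [IsFractionRing R K]
    (N : Over (Spec (CommRingCat.of R))) [GrpObj N] (hN : SGA7.IsNeron R K N)
    [IsProper ((SGA7.genFib R K).obj N).hom] [GeometricallyIntegral ((SGA7.genFib R K).obj N).hom]
    [IsProper (Red.bc (Spec.map (CommRingCat.ofHom (IsLocalRing.residue R))) N).hom] :
    IsProper N.hom := by
  obtain ⟨hs, hsep, hqc, -⟩ := hN
  haveI : IsProper (pullback.snd N.hom (Spec.map (CommRingCat.ofHom (IsLocalRing.residue R)))) :=
    ‹IsProper (Red.bc (Spec.map (CommRingCat.ofHom (IsLocalRing.residue R))) N).hom›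
  refine Groth.Agent.NeronGrpLib.isProper_of_isProper_special K N.hom
    ‹GeometricallyIntegral ((SGA7.genFib R K).obj N).hom› ⟨η[N].left (IsLocalRing.closedPoint R), ?_⟩
  rw [← Scheme.Hom.comp_apply, Over.w η[N]]
  rfl

end Groth.Agent.S4058
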