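import Groth.Statements.S4064
import Groth.Agent.ExtOneLib

set_option autoImplicit false
universe w v v'
open CategoryTheory CategoryTheory.Abelian
open SGA7

namespace Groth.Agent.S4064

set_option backward.isDefEq.respectTransparency false
set_option backward.isDefEq.respectTransparency.types false
open Groth.Agent.ExtOneLib CategoryTheory.Limits

/-- Let P -> F -> R and R -> E -> Q be short exact sequences in an abelian category (F an extension of R
by P, E an extension of Q by R). A blended extension of E by F is an object X with a monomorphism i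
: F -> X and an epimorphism p : X -> E such that P -> X -> E (via i) and F -> X -> Q (via p) are
short exact and F -> X -> E is the composite F -> R -> E. Such an X exists if and only if the
composite of the two extension classes, an element of Ext^2(Q, P), is zero. -/
theorem result {C : Type w} [Category.{v} C] [Abelian C]
    [HasExt.{v'} C] {P F R E Q : C} (a : P ⟶ F) (b : F ⟶ R) (wF : a ≫ b = 0)
    (hF : (ShortComplex.mk a b wF).ShortExact) (c : R ⟶ E) (d : E ⟶ Q) (wE : c ≫ d = 0)
    (hE : (ShortComplex.mk c d wE).ShortExact) :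
    (∃ (X : C) (i : F ⟶ X) (p : X ⟶ E), i ≫ p = b ≫ c ∧
        (∃ w : (a ≫ i) ≫ p = 0, (ShortComplex.mk (a ≫ i) p w).ShortExact) ∧
        (∃ w : i ≫ (p ≫ d) = 0, (ShortComplex.mk i (p ≫ d) w).ShortExact)) ↔
      hE.extClass.comp hF.extClass (rfl : 1 + 1 = 2) = 0 := by
  have := hF.epi_g
  have := hE.mono_f
  have := hE.epi_g
  constructor
  · rintro ⟨X, i, p, hip, ⟨w₁, h₁⟩, ⟨w₂, h₂⟩⟩
    let φ : ShortComplex.mk a b wF ⟶ ShortComplex.mk (a ≫ i) p w₁ :=
      { τ₁ := 𝟙 _, τ₂ := i, τ₃ := c, comm₁₂ := Category.id_comp _, comm₂₃ := hip }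
    have e := ShortComplex.ShortExact.extClass_naturality hF h₁ φ
    dsimp [φ] at e
    rw [Ext.comp_mk₀_id] at e
    rw [e, ← Ext.comp_assoc_of_second_deg_zero, hE.extClass_comp, Ext.zero_comp]
  · intro h
    obtain ⟨ξ, hξ⟩ := Ext.contravariant_sequence_exact₁ hE P hF.extClass (rfl : 1 + 1 = 2) h
    obtain ⟨M, f, g, w, hT, rfl⟩ := exists_extension ξ
    obtain ⟨i, hi₁, hi₂⟩ := exists_hom hF hT (𝟙 P) c (by rw [Ext.comp_mk₀_id]; exact hξ.symm)
    dsimp at hi₁ hi₂
    rw [Category.id_comp] at hi₁
    have := hT.mono_f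
    have := hT.epi_g
    refine ⟨M, i, g, hi₂, ⟨by rw [hi₁]; exact w, ?_⟩, ?_⟩
    · exact ShortComplex.shortExact_of_iso (S₁ := ShortComplex.mk f g w) (ShortComplex.isoMk (Iso.refl P) (Iso.refl M) (Iso.refl E)
        (by simp [hi₁]) (by simp)) hT
    · have w₂ : i ≫ g ≫ d = 0 := by rw [← Category.assoc, hi₂, Category.assoc, wE, comp_zero]
      refine ⟨w₂, { exact := ?_, mono_f := ?_, epi_g := epi_comp g d }⟩
      · rw [ShortComplex.exact_iff_exact_up_to_refinements]
        intro W k hk
        dsimp at k hk
        let r := hE.exact.lift (k ≫ g) (by rw [Category.assoc]; exact hk)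
        have hr : r ≫ c = k ≫ g := hE.exact.lift_f _ _
        obtain ⟨W', π, hπ, r', hr'⟩ := surjective_up_to_refinements_of_epi b r
        have hk' : (π ≫ k - r' ≫ i) ≫ g = 0 := by
          rw [Preadditive.sub_comp, Category.assoc, Category.assoc, hi₂, ← hr, ← Category.assoc π, hr',
            Category.assoc, sub_self]
        let l := hT.exact.lift (π ≫ k - r' ≫ i) hk'
        have hl : l ≫ f = π ≫ k - r' ≫ i := hT.exact.lift_f _ _
        exact ⟨W', π, hπ, r' + l ≫ a, by
          dsimp
          rw [Preadditive.add_comp, Category.assoc, hi₁, hl, add_sub_cancel]⟩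
      · refine Preadditive.mono_of_cancel_zero _ fun {W} k hk => ?_
        dsimp at k hk
        have := hF.mono_f
        have hkb : k ≫ b = 0 := by
          rw [← cancel_mono c, Category.assoc, ← hi₂, reassoc_of% hk, zero_comp, zero_comp]
        let l := hF.exact.lift k hkb
        have hl : l ≫ a = k := hF.exact.lift_f _ _
        have : l = 0 := (cancel_mono f).1 (by rw [zero_comp, ← hi₁, ← Category.assoc, hl, hk])
        rw [← hl, this, zero_comp]

end Groth.Agent.S4064
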