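import Groth.Statements.S4066
import Groth.Agent.ArtinVanLib.Nearby
import Groth.Agent.ArtinVanLib.StrictLoc
import Groth.Agent.CurveFin.Const
import Groth.Agent.RpushTorsLib.LTors

set_option autoImplicit false
set_option backward.isDefEq.respectTransparency false
set_option backward.isDefEq.respectTransparency.types false
set_option linter.style.haveILetI false
set_option maxHeartbeats 1000000
set_option synthInstance.maxHeartbeats 200000
universe u
open CategoryTheory CategoryTheory.Limits AlgebraicGeometry MonObj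
open SGA7

namespace Groth.Agent.S4066

/-- Let V be a strictly henselian discrete valuation ring (henselian, separably closed residue field)
with fraction field K, Ω a separable closure of K, m an integer invertible in the residue field of
V, f : X -> Spec V of finite type with generic fibre of dimension at most n, x a point of the
special fibre and Osh a strict henselisation of the local ring of X at x. Then the nearby-cycle
groups at x, H^i(Spec(Osh) ×_V Spec Ω, ℤ/m) (etale cohomology), vanish for i > n. -/
theorem result (V K Ω : Type u) [CommRing V] [IsDomain V] [IsDiscreteValuationRing V] [HenselianLocalRing V]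
    [IsSepClosed (IsLocalRing.ResidueField V)] [Field K] [Algebra V K] [IsFractionRing V K]
    [Field Ω] [Algebra K Ω] [IsSepClosure K Ω] [Algebra V Ω] [IsScalarTower V K Ω]
    (m : ℕ) (hm : (m : IsLocalRing.ResidueField V) ≠ 0)
    {X : Scheme.{u}} (f : X ⟶ Spec (CommRingCat.of V)) [LocallyOfFiniteType f] [QuasiCompact f] (n : ℕ)
    (hn : topologicalKrullDim ↥(pullback f (Spec.map (CommRingCat.ofHom (algebraMap V K)))) ≤ n)
    (x : ↥X) (hx : f.base x = IsLocalRing.closedPoint V)
    (Osh : Type u) [CommRing Osh] [IsLocalRing Osh] [Algebra ↑(X.presheaf.stalk x) Osh]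
    [IsLocalHom (algebraMap ↑(X.presheaf.stalk x) Osh)] [Hensel.IsStrictHenselization ↑(X.presheaf.stalk x) Osh]
    (i : ℕ) (hi : n < i) :
    Subsingleton (EtCoh.H (SGA7.nearbyFibre f x Osh Ω)
      (EtCoh.const (SGA7.nearbyFibre f x Osh Ω) (ZMod m)) i) := by
  classical
  obtain ⟨C, _, jC, _, c, hc⟩ := Groth.Agent.ArtinVanLib.exists_chart x
  subst hc
  obtain ⟨_, hloc, hfac⟩ := Groth.Agent.ArtinVanLib.exists_isLocalization_stalk jC c
  haveI := hloc
  obtain ⟨κ, hκ⟩ := Spec.map_surjective (jC ≫ f)
  let O := X.presheaf.stalk (jC c)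
  letI : Algebra V C := κ.hom.toAlgebra
  letI : Algebra C Osh := ((algebraMap O Osh).comp (algebraMap C O)).toAlgebra
  haveI : IsScalarTower C O Osh := .of_algebraMap_eq' rfl
  letI : Algebra V Osh := ((algebraMap C Osh).comp (algebraMap V C)).toAlgebra
  haveI : IsScalarTower V C Osh := .of_algebraMap_eq' rfl
  haveI : LocallyOfFiniteType (Spec.map κ) := by rw [hκ]; infer_instance
  haveI : Algebra.FiniteType V C := (HasRingHomProperty.Spec_iff (P := @LocallyOfFiniteType)).1 this
  -- the generic fibre of the chart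
  have hwC : Spec.map (CommRingCat.ofHom (algebraMap V C)) = jC ≫ f := hκ
  let sK := Spec.map (CommRingCat.ofHom (algebraMap V K))
  let j : pullback (Spec.map (CommRingCat.ofHom (algebraMap V C))) sK ⟶ pullback f sK :=
    pullback.map _ _ _ _ jC (𝟙 _) (𝟙 _) (by rw [Category.comp_id, hwC]) (by simp [sK])
  let jK : Spec (CommRingCat.of (TensorProduct V K C)) ⟶ pullback f sK :=
    ((pullbackSpecIso V K C).inv ≫ (pullbackSymmetry _ _).hom) ≫ j
  haveI : IsOpenImmersion jK := inferInstance
  have hdim : ringKrullDim (TensorProduct V K C) ≤ n :=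
    ((PrimeSpectrum.topologicalKrullDim_eq_ringKrullDim _).ge.trans
      jK.isOpenEmbedding.isInducing.topologicalKrullDim_le).trans hn
  have hA := Groth.Agent.ArtinVanLib.dimLE_tensor_strictHenselization (k := Ω) (O := O) (R := Osh) c.asIdeal
    (Groth.Agent.ArtinVanLib.dimLE_baseChange_algebraic (k := Ω)
      (Groth.Agent.ArtinVanLib.dimLE_of_ringKrullDim_le hdim))
  haveI : IsSepClosed Ω := IsSepClosure.sep_closed K
  have hcd : Groth.Agent.CdFieldLib.CdLE Set.univ (Spec (CommRingCat.of (TensorProduct V Ω Osh))) n :=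
    Groth.Agent.ArtinVanLib.cdLE_of_dimLE (k := Ω) (Groth.Agent.ArtinVanLib.art n) hA
      (Groth.Agent.CdFieldLib.cdLE_zero_of_sepClosed _ Ω)
  -- the nearby fibre is affine
  have hw : Spec.map (CommRingCat.ofHom (algebraMap V Osh)) =
      Spec.map (CommRingCat.ofHom (algebraMap O Osh)) ≫ X.fromSpecStalk (jC c) ≫ f := by
    rw [← hfac, Category.assoc, ← hκ, ← Spec.map_comp, ← Spec.map_comp]
    rfl
  have e : SGA7.nearbyFibre f (jC c) Osh Ω ≅ Spec (CommRingCat.of (TensorProduct V Ω Osh)) :=
    pullback.congrHom hw.symm rfl ≪≫ pullbackSymmetry _ _ ≪≫ pullbackSpecIso V Ω Osh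
  have hm1 : 1 ≤ m := Nat.pos_of_ne_zero fun h => hm (by rw [h, Nat.cast_zero])
  exact Groth.Agent.CdFieldLib.cdLE_of_iso e hcd _
    (Groth.Agent.RpushTorsLib.isLTorsion_univ (Groth.Agent.CurveFin.isTorsion_const_zmod _ m hm1)) i hi

end Groth.Agent.S4066
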