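import Groth.Statements.S4067
import Groth.Agent.S0712
import Groth.Agent.HensBranch.QuotStage
import Groth.Agent.SHTensor.Basic
import Groth.Agent.NormNodeLib.Main
import Groth.Agent.PBCLib.Fibration

set_option autoImplicit false
set_option backward.isDefEq.respectTransparency false
set_option backward.isDefEq.respectTransparency.types false
set_option linter.style.haveILetI false
set_option maxHeartbeats 1000000
universe u
open CategoryTheory CategoryTheory.Limits AlgebraicGeometry MonObj
open SGA7

namespace Groth.Agent.S4067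

open IsLocalRing in
/-- Strict henselizations are carried along a surjection of the bases with no kernel. -/
private theorem sh_of_bijective {R A T : Type u} [CommRing R] [IsLocalRing R] [CommRing A] [IsLocalRing A]
    [CommRing T] [IsLocalRing T] [Algebra R A] [IsLocalHom (algebraMap R A)] [Algebra R T] [IsLocalHom (algebraMap R T)]
    [Algebra A T] [IsLocalHom (algebraMap A T)] [Hensel.IsStrictHenselization R T]
    (hA : Function.Bijective (algebraMap R A))
    (h : (algebraMap A T).comp (algebraMap R A) = algebraMap R T) :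
    Hensel.IsStrictHenselization A T :=
  Groth.Agent.HensBranch.isStrictHenselization_of_surjective (R := R) (S := T) (RingHom.id T) hA.2
    (fun t => ⟨t, rfl⟩)
    (by rw [(RingHom.injective_iff_ker_eq_bot _).1 hA.1, Ideal.map_bot]
        exact (RingHom.injective_iff_ker_eq_bot _).1 fun _ _ e => e)
    (by rw [RingHom.id_comp, h])

open IsLocalRing in
/-- The local ring of the spectrum of a local ring at its closed point. -/
private theorem exists_stalk_iso (V : Type u) [CommRing V] [IsLocalRing V]
    (s : ↥(Spec (CommRingCat.of V))) (hs : s = closedPoint V) :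
    ∃ e : CommRingCat.of V ≅ (Spec (CommRingCat.of V)).presheaf.stalk s,
      Spec.map e.hom = (Spec (CommRingCat.of V)).fromSpecStalk s := by
  subst hs
  exact ⟨(stalkClosedPointIso (CommRingCat.of V)).symm, Spec_stalkClosedPointIso (CommRingCat.of V)⟩

/-- A scheme with as many sections of a constant sheaf as values is connected. -/
private theorem connectedSpace_of_card (Y : Scheme.{u}) (l : ℕ) (hl : 1 < l)
    (h : Nat.card (EtCoh.H Y (EtCoh.const Y (ZMod l)) 0) = l) : ConnectedSpace ↥Y := by
  classical
  haveI : NeZero l := ⟨by omega⟩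
  let E := ((Sheaf.H.equiv₀ (EtCoh.const Y (ZMod l)) (EtCore.topIsTerminal Y)).trans
      (Groth.Agent.EtTraceLib.constEquiv (AddCommGrpCat.of (ULift.{u + 1} (ZMod l))) (EtCoh.top Y))).toEquiv
  have hcard : Nat.card (LocallyConstant Y (ULift.{u + 1} (ZMod l))) = l := (Nat.card_congr E).symm.trans h
  haveI : Finite (LocallyConstant Y (ULift.{u + 1} (ZMod l))) := Nat.finite_of_card_ne_zero (by omega)
  haveI : Nonempty Y := by
    by_contra hY
    haveI : IsEmpty Y := not_nonempty_iff.1 hY
    haveI : Subsingleton (LocallyConstant Y (ULift.{u + 1} (ZMod l))) :=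
      ⟨fun a b => LocallyConstant.ext fun y => isEmptyElim y⟩
    rw [Nat.card_of_subsingleton (LocallyConstant.const _ ⟨0⟩)] at hcard
    omega
  refine connectedSpace_iff_clopen.2 ⟨inferInstance, fun s hs => ?_⟩
  by_contra! hne
  obtain ⟨a, ha⟩ := hne.1
  obtain ⟨b, hb⟩ := (Set.ne_univ_iff_exists_notMem s).1 hne.2
  let g : ULift.{u + 1} (ZMod l) × ULift.{u + 1} (ZMod l) → LocallyConstant Y (ULift.{u + 1} (ZMod l)) := fun c =>
    ⟨fun y => if y ∈ s then c.1 else c.2, (IsLocallyConstant.iff_continuous _).2
      (continuous_if (fun z hz => by simp [hs.frontier_eq] at hz) continuousOn_const continuousOn_const)⟩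
  have hg : Function.Injective g := fun c c' e => by
    refine Prod.ext ?_ ?_
    · simpa [g, ha] using LocallyConstant.congr_fun e a
    · simpa [g, hb] using LocallyConstant.congr_fun e b
  have := Nat.card_le_card_of_injective g hg
  rw [hcard, Nat.card_prod, Nat.card_congr Equiv.ulift, Nat.card_zmod] at this
  nlinarith

/-- Let V be a strictly henselian discrete valuation ring with fraction field K, Ω a separable closure
of K, m an integer invertible in the residue field of V, f : X -> Spec V of finite type, x a point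
of the special fibre at which f is smooth (some open neighbourhood of x is smooth over Spec V) and
Osh a strict henselisation of the local ring of X at x. Then the scheme Y = Spec(Osh) ×_V Spec Ω
computing the nearby cycles at x is connected and nonempty (the zeroth nearby-cycle group is ℤ/m)
and H^i(Y, ℤ/m) = 0 for i > 0. -/
theorem result (V K Ω : Type u) [CommRing V] [IsDomain V] [IsDiscreteValuationRing V] [HenselianLocalRing V]
    [IsSepClosed (IsLocalRing.ResidueField V)] [Field K] [Algebra V K] [IsFractionRing V K]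
    [Field Ω] [Algebra K Ω] [IsSepClosure K Ω] [Algebra V Ω] [IsScalarTower V K Ω]
    (m : ℕ) (hm : (m : IsLocalRing.ResidueField V) ≠ 0)
    {X : Scheme.{u}} (f : X ⟶ Spec (CommRingCat.of V)) [LocallyOfFiniteType f] [QuasiCompact f]
    (x : ↥X) (hx : f.base x = IsLocalRing.closedPoint V) (U : X.Opens) (hxU : x ∈ U) [Smooth (U.ι ≫ f)]
    (Osh : Type u) [CommRing Osh] [IsLocalRing Osh] [Algebra ↑(X.presheaf.stalk x) Osh]
    [IsLocalHom (algebraMap ↑(X.presheaf.stalk x) Osh)] [Hensel.IsStrictHenselization ↑(X.presheaf.stalk x) Osh] :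
    ConnectedSpace ↥(SGA7.nearbyFibre f x Osh Ω) ∧
      ∀ i : ℕ, 0 < i → Subsingleton (EtCoh.H (SGA7.nearbyFibre f x Osh Ω)
        (EtCoh.const (SGA7.nearbyFibre f x Osh Ω) (ZMod m)) i) := by
  let U' : Scheme.{u} := U
  let g : U' ⟶ Spec (CommRingCat.of V) := U.ι ≫ f
  let x' : U' := ⟨x, hxU⟩
  obtain ⟨e, he⟩ := exists_stalk_iso V (g x') hx
  let A := (Spec (CommRingCat.of V)).presheaf.stalk (g x')
  let B := U'.presheaf.stalk x'
  let σ : X.presheaf.stalk x ⟶ B := U.ι.stalkMap x'
  haveI : IsIso σ := inferInstanceAs (IsIso (U.ι.stalkMap x'))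
  -- the strict henselization of the open subscheme
  letI : Algebra (X.presheaf.stalk x) B := σ.hom.toAlgebra
  letI : Algebra B Osh := ((algebraMap (X.presheaf.stalk x) Osh).comp (inv σ).hom).toAlgebra
  haveI : IsLocalHom (algebraMap (X.presheaf.stalk x) B) := inferInstanceAs (IsLocalHom σ.hom)
  haveI : IsLocalHom (algebraMap B Osh) := RingHom.isLocalHom_comp _ _
  haveI : Hensel.IsStrictHenselization B Osh :=
    sh_of_bijective (R := X.presheaf.stalk x) (ConcreteCategory.bijective_of_isIso σ) (RingHom.ext fun r => by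
      show algebraMap (X.presheaf.stalk x) Osh (inv σ (σ r)) = _
      rw [← CommRingCat.comp_apply, IsIso.hom_inv_id]
      rfl)
  -- the base is its own strict henselization
  letI : Algebra V A := e.hom.hom.toAlgebra
  letI : Algebra A V := e.inv.hom.toAlgebra
  haveI : IsLocalHom (algebraMap V A) := ⟨fun a h => by simpa using (show IsUnit (e.hom a) from h).map e.inv.hom⟩
  haveI : IsLocalHom (algebraMap A V) := ⟨fun a h => by simpa using (show IsUnit (e.inv a) from h).map e.hom.hom⟩
  haveI : Hensel.IsStrictHenselization V V := Groth.Agent.SHTensor.isStrictHenselization_self V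
  haveI : Hensel.IsStrictHenselization A V :=
    sh_of_bijective (R := V) (ConcreteCategory.bijective_of_isIso e.hom) (RingHom.ext fun r => e.hom_inv_id_apply r)
  -- the structure map
  letI : Algebra V Osh :=
    ((algebraMap B Osh).comp ((g.stalkMap x').hom.comp (algebraMap V A))).toAlgebra
  haveI : IsLocalHom (algebraMap V Osh) := by
    haveI : IsLocalHom (g.stalkMap x').hom := inferInstance
    haveI : IsLocalHom ((g.stalkMap x').hom.comp (algebraMap V A)) := RingHom.isLocalHom_comp _ _
    exact RingHom.isLocalHom_comp _ _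
  have hc : (algebraMap V Osh).comp (algebraMap A V) = (algebraMap B Osh).comp (g.stalkMap x').hom := by
    refine RingHom.ext fun a => ?_
    show algebraMap B Osh (g.stalkMap x' (e.hom (e.inv a))) = _
    rw [e.inv_hom_id_apply]
    rfl
  have hw : Spec.map (CommRingCat.ofHom (algebraMap V Osh)) =
      Spec.map (CommRingCat.ofHom (algebraMap (X.presheaf.stalk x) Osh)) ≫ X.fromSpecStalk x ≫ f := by
    have h0 : CommRingCat.ofHom (algebraMap V Osh) =
        e.hom ≫ g.stalkMap x' ≫ inv σ ≫ CommRingCat.ofHom (algebraMap (X.presheaf.stalk x) Osh) := rfl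
    rw [h0, Spec.map_comp, Spec.map_comp, Spec.map_comp, he, Category.assoc, Category.assoc,
      Scheme.SpecMap_stalkMap_fromSpecStalk]
    congr 1
    have h1 : U'.fromSpecStalk x' ≫ U.ι = Spec.map σ ≫ X.fromSpecStalk x :=
      (Scheme.SpecMap_stalkMap_fromSpecStalk U.ι).symm
    show Spec.map (inv σ) ≫ U'.fromSpecStalk x' ≫ U.ι ≫ f = X.fromSpecStalk x ≫ f
    rw [reassoc_of% h1, ← Spec.map_comp_assoc, IsIso.hom_inv_id, Spec.map_id, Category.id_comp]
  have ee : SGA7.nearbyFibre f x Osh Ω ≅ Spec (CommRingCat.of (TensorProduct V Osh Ω)) :=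
    pullback.congrHom hw.symm rfl ≪≫ pullbackSpecIso V Osh Ω
  haveI : IsSepClosed Ω := IsSepClosure.sep_closed K
  have hne : ∀ n : ℕ, (n : IsLocalRing.ResidueField V) ≠ 0 → (n : U'.residueField x') ≠ 0 := fun n hn h0 => by
    have hu : IsUnit (n : V) := IsLocalRing.residue_ne_zero_iff_isUnit _ |>.1 (by rwa [map_natCast])
    have h1 := ((hu.map (algebraMap V A)).map (g.stalkMap x').hom).map (U'.residue x').hom
    rw [map_natCast, map_natCast, map_natCast, h0] at h1
    exact not_isUnit_zero h1
  have key := fun (n : ℕ) (hn : (n : IsLocalRing.ResidueField V) ≠ 0) (q : ℕ) =>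
    Groth.Agent.S0712.result g x' V Osh hc Ω n (hne n hn) q
  refine ⟨?_, fun i hi => ?_⟩
  · obtain ⟨l, hl, hl'⟩ : ∃ l : ℕ, 1 < l ∧ (l : IsLocalRing.ResidueField V) ≠ 0 := by
      by_cases h2 : (2 : IsLocalRing.ResidueField V) = 0
      · refine ⟨3, by norm_num, ?_⟩
        rw [show ((3 : ℕ) : IsLocalRing.ResidueField V) = 2 + 1 by norm_num, h2, zero_add]
        exact one_ne_zero
      · exact ⟨2, by norm_num, by exact_mod_cast h2⟩
    obtain ⟨a⟩ := (key l hl' 0).2
    obtain ⟨b⟩ := Groth.Agent.PBCLib.nonempty_H_const_iso ee (ZMod l) 0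
    exact connectedSpace_of_card _ l hl (by rw [Nat.card_congr (b.trans a).toEquiv, Nat.card_zmod])
  · haveI := (key m hm i).1 hi
    obtain ⟨b⟩ := Groth.Agent.PBCLib.nonempty_H_const_iso ee (ZMod m) i
    exact b.toEquiv.subsingleton

end Groth.Agent.S4067
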