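import Groth.Statements.S4070
import Groth.Agent.Hensel.Sections
import Groth.Agent.S18366
import Groth.Agent.AVLib.GeomInt

set_option autoImplicit false
universe u
open CategoryTheory CategoryTheory.Limits AlgebraicGeometry MonObj
open MonoidalCategory
open SGA7

namespace Groth.Agent.S4070

open CartesianMonoidalCategory GrpObj

variable {R : Type u} [CommRing R] [IsLocalRing R] {N : Over (Spec (CommRingCat.of R))} [GrpObj N]

/-- Right translation by a section is an automorphism. -/
noncomputable def transIso (y : 𝟙_ (Over (Spec (CommRingCat.of R))) ⟶ N) : N ≅ N where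
  hom := 𝟙 N * (toUnit N ≫ y)
  inv := 𝟙 N * (toUnit N ≫ y⁻¹)
  hom_inv_id := by
    rw [MonObj.comp_mul, Category.comp_id, ← Category.assoc, toUnit_unique (_ ≫ toUnit N) (toUnit N),
      GrpObj.comp_inv, mul_inv_cancel_right]
  inv_hom_id := by
    rw [MonObj.comp_mul, Category.comp_id, ← Category.assoc, toUnit_unique (_ ≫ toUnit N) (toUnit N),
      GrpObj.comp_inv, inv_mul_cancel_right]

theorem comp_trans (y a : 𝟙_ (Over (Spec (CommRingCat.of R))) ⟶ N) : a ≫ (transIso y).hom = a * y := by
  show a ≫ (𝟙 N * (toUnit N ≫ y)) = _
  rw [MonObj.comp_mul, Category.comp_id, ← Category.assoc, toUnit_unique (a ≫ toUnit N) (𝟙 _), Category.id_comp]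

theorem image_trans (y a : 𝟙_ (Over (Spec (CommRingCat.of R))) ⟶ N) :
    (transIso y).hom.left '' SGA7.secComp R N a = SGA7.secComp R N (a * y) := by
  let e : N.left ≅ N.left := (Over.forget _).mapIso (transIso y)
  let h := Scheme.Hom.homeomorph e.hom
  have hfib : h '' SGA7.specialFibreSet R N = SGA7.specialFibreSet R N := by
    refine Set.ext fun n => ⟨?_, fun hn => ⟨h.symm n, ?_, h.apply_symm_apply n⟩⟩
    · rintro ⟨m, hm, rfl⟩
      show N.hom (e.hom m) = IsLocalRing.closedPoint R
      rw [← Scheme.Hom.comp_apply]
      exact (congrArg (fun f : N.left ⟶ _ => f m) (Over.w (transIso y).hom)).trans hm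
    · have e1 : e.hom (h.symm n) = n := h.apply_symm_apply n
      show N.hom (h.symm n) ∈ ({IsLocalRing.closedPoint R} : Set _)
      have e2 : N.hom (e.hom (h.symm n)) = N.hom (h.symm n) := by
        rw [← Scheme.Hom.comp_apply]
        exact congrArg (fun f : N.left ⟶ _ => f (h.symm n)) (Over.w (transIso y).hom)
      rw [← e2, e1]
      exact hn
  show h '' connectedComponentIn _ _ = _
  have hmem : a.left (IsLocalRing.closedPoint R) ∈ SGA7.specialFibreSet R N := by
    show N.hom (a.left (IsLocalRing.closedPoint R)) = IsLocalRing.closedPoint R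
    rw [← Scheme.Hom.comp_apply, Over.w a]
    rfl
  rw [h.image_connectedComponentIn hmem, hfib]
  show connectedComponentIn _ (((transIso y).hom.left) (a.left _)) = connectedComponentIn _ ((a * y).left _)
  rw [← Scheme.Hom.comp_apply, ← Over.comp_left, comp_trans]


/-- Let R be a strictly henselian discrete valuation ring (henselian, separably closed residue field)
with fraction field K and N a group scheme over Spec R which is a Néron model of its generic fibre,
an abelian variety A over K, so that sections of N over Spec R are the K-points of A. Then the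
special fibre of N has finitely many connected components, every one of them is met by a section,
and two sections x, y meet the same connected component if and only if x · y⁻¹ meets the connected
component of the unit section: the component group of the special fibre is A(K) modulo the subgroup
of points reducing into the identity component. -/
theorem result (R K : Type u) [CommRing R] [IsDomain R] [IsDiscreteValuationRing R] [HenselianLocalRing R]
    [IsSepClosed (IsLocalRing.ResidueField R)] [Field K] [Algebra R K] [IsFractionRing R K]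
    (N : Over (Spec (CommRingCat.of R))) [GrpObj N] (hN : SGA7.IsNeron R K N)
    [IsProper ((SGA7.genFib R K).obj N).hom] [GeometricallyIntegral ((SGA7.genFib R K).obj N).hom] :
    (Set.range (SGA7.secComp R N)).Finite ∧
    (∀ z ∈ SGA7.specialFibreSet R N, ∃ x : 𝟙_ (Over (Spec (CommRingCat.of R))) ⟶ N, z ∈ SGA7.secComp R N x) ∧
      ∀ x y : 𝟙_ (Over (Spec (CommRingCat.of R))) ⟶ N,
        SGA7.secComp R N x = SGA7.secComp R N y ↔ x * y⁻¹ ∈ SGA7.secUnitComp R N := by
  haveI : Smooth N.hom := hN.1
  haveI : QuasiCompact N.hom := hN.2.2.1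
  let g := Spec.map (CommRingCat.ofHom (IsLocalRing.residue R))
  let f := pullback.snd N.hom g
  let pr := pullback.fst N.hom g
  haveI : Smooth f := MorphismProperty.pullback_snd _ _ ‹_›
  haveI : QuasiCompact f := MorphismProperty.pullback_snd _ _ ‹_›
  haveI : IsClosedImmersion g := IsClosedImmersion.spec_of_surjective _ IsLocalRing.residue_surjective
  haveI : IsClosedImmersion pr := MorphismProperty.pullback_fst _ _ inferInstance
  haveI : IsLocallyNoetherian (pullback N.hom g) := LocallyOfFiniteType.isLocallyNoetherian f
  haveI : CompactSpace ↥(pullback N.hom g) := QuasiCompact.compactSpace_of_compactSpace f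
  haveI : IsNoetherian (pullback N.hom g) := ⟨⟩
  have hrange : Set.range pr = SGA7.specialFibreSet R N := by
    show Set.range (pullback.fst N.hom g) = _
    rw [Scheme.Pullback.range_fst]
    show _ = N.hom ⁻¹' {IsLocalRing.closedPoint R}
    congr 1
    ext q
    constructor
    · rintro ⟨w, rfl⟩
      have : w = IsLocalRing.closedPoint (IsLocalRing.ResidueField R) := Subsingleton.elim _ _
      rw [this]
      exact IsLocalRing.comap_closedPoint (IsLocalRing.residue R)
    · rintro rfl
      exact ⟨IsLocalRing.closedPoint _, IsLocalRing.comap_closedPoint (IsLocalRing.residue R)⟩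
  have hcomp : ∀ w, connectedComponentIn (SGA7.specialFibreSet R N) (pr w) = pr '' connectedComponent w := by
    intro w
    refine subset_antisymm ?_ (((isPreconnected_connectedComponent).image pr pr.continuous.continuousOn).subset_connectedComponentIn
      ⟨w, mem_connectedComponent, rfl⟩ (hrange ▸ Set.image_subset_range _ _))
    intro n hn
    have hsub : connectedComponentIn (SGA7.specialFibreSet R N) (pr w) ⊆ Set.range pr :=
      hrange.symm ▸ connectedComponentIn_subset _ _
    obtain ⟨v, rfl⟩ := hsub hn
    refine ⟨v, ?_, rfl⟩
    have hpre : _root_.IsPreconnected (pr ⁻¹' connectedComponentIn (SGA7.specialFibreSet R N) (pr w)) := by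
      rw [← pr.isClosedEmbedding.isInducing.isPreconnected_image, Set.image_preimage_eq_of_subset hsub]
      exact isPreconnected_connectedComponentIn
    exact hpre.subset_connectedComponent (mem_connectedComponentIn (hrange ▸ Set.mem_range_self w)) hn
  have hpt : ∀ x : 𝟙_ (Over (Spec (CommRingCat.of R))) ⟶ N,
      x.left (IsLocalRing.closedPoint R) ∈ SGA7.specialFibreSet R N := fun x => by
    show N.hom (x.left (IsLocalRing.closedPoint R)) = IsLocalRing.closedPoint R
    rw [← Scheme.Hom.comp_apply, Over.w x]
    rfl
  have hirr : ∀ w : ↥(pullback N.hom g), ∀ v ∈ irreducibleComponent w, connectedComponent v = connectedComponent w :=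
    fun w v hv => (connectedComponent_eq (isIrreducible_irreducibleComponent.isConnected.isPreconnected.subset_connectedComponent
      mem_irreducibleComponent hv)).symm
  have hfin : (Set.range (connectedComponent (α := ↥(pullback N.hom g)))).Finite := by
    haveI : Finite (irreducibleComponents ↥(pullback N.hom g)) :=
      (TopologicalSpace.NoetherianSpace.finite_irreducibleComponents).to_subtype
    refine (Set.finite_range (fun Z : irreducibleComponents ↥(pullback N.hom g) =>
      connectedComponent Z.2.1.nonempty.some)).subset ?_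
    rintro _ ⟨w, rfl⟩
    exact ⟨⟨_, irreducibleComponent_mem_irreducibleComponents w⟩, hirr w _ (Set.Nonempty.some_mem _)⟩
  have hopen : ∀ w : ↥(pullback N.hom g), IsOpen (connectedComponent w) := fun w => by
    have e : (connectedComponent w)ᶜ = ⋃ C ∈ Set.range (connectedComponent (α := ↥(pullback N.hom g))) \ {connectedComponent w}, C := by
      ext v
      simp only [Set.mem_compl_iff, Set.mem_iUnion, Set.mem_sdiff, Set.mem_range, Set.mem_singleton_iff, exists_prop]
      constructor
      · intro hv
        exact ⟨connectedComponent v, ⟨⟨v, rfl⟩, fun h => hv (h ▸ mem_connectedComponent)⟩, mem_connectedComponent⟩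
      · rintro ⟨C, ⟨⟨v', rfl⟩, hne⟩, hv⟩ hvw
        exact hne ((connectedComponent_eq hv).trans (connectedComponent_eq hvw).symm)
    rw [← isClosed_compl_iff, e]
    refine (hfin.subset Set.sdiff_subset).isClosed_biUnion fun C hC => ?_
    obtain ⟨⟨v', rfl⟩, -⟩ := hC
    exact isClosed_connectedComponent
  refine ⟨?_, ?_, ?_⟩
  · refine (hfin.image (fun C => pr '' C)).subset ?_
    rintro _ ⟨x, rfl⟩
    obtain ⟨w, hw⟩ : x.left (IsLocalRing.closedPoint R) ∈ Set.range pr := hrange.symm ▸ hpt x
    refine ⟨_, ⟨w, rfl⟩, ?_⟩
    show pr '' _ = connectedComponentIn _ _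
    rw [← hw, hcomp]
  · intro z hz
    obtain ⟨w, rfl⟩ : z ∈ Set.range pr := hrange.symm ▸ hz
    haveI := TopologicalSpace.NoetherianSpace.compactSpace (α := ↥(pullback N.hom g))
    obtain ⟨V, hV, hwV, hVC⟩ := exists_isAffineOpen_mem_and_subset (x := w)
      (U := ⟨connectedComponent w, hopen w⟩) mem_connectedComponent
    haveI : CompactSpace V.toScheme := isCompact_iff_compactSpace.mp hV.isCompact
    haveI : QuasiCompact (V.ι ≫ f) := (quasiCompact_iff_compactSpace _).2 inferInstance
    haveI : Nonempty V.toScheme := ⟨⟨w, hwV⟩⟩
    haveI : GeometricallyReduced (V.ι ≫ f) := AVLib.geometricallyReduced_of_smooth _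
    obtain ⟨s, hs⟩ := S18366.result (IsLocalRing.ResidueField R) (V.ι ≫ f)
    obtain ⟨x, hx, hxs⟩ := Hensel.exists_section_of_smooth N.hom (s ≫ V.ι ≫ pr) (by
      show (s ≫ V.ι ≫ pr) ≫ N.hom = g
      simp only [pr, Category.assoc, pullback.condition]
      rw [← Category.assoc V.ι, ← Category.assoc s]
      erw [hs]
      exact Category.id_comp _)
    refine ⟨Over.homMk x hx, ?_⟩
    have hv : x (IsLocalRing.closedPoint R) = pr (V.ι (s (IsLocalRing.closedPoint _))) := by
      rw [← Scheme.Hom.comp_apply, ← Scheme.Hom.comp_apply]
      erw [← hxs]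
      show _ = x (Spec.map _ _)
      exact congrArg x (IsLocalRing.comap_closedPoint (IsLocalRing.residue R)).symm
    show pr w ∈ connectedComponentIn _ (x (IsLocalRing.closedPoint R))
    rw [hv, hcomp]
    refine ⟨w, ?_, rfl⟩
    have hmem : V.ι (s (IsLocalRing.closedPoint _)) ∈ connectedComponent w := hVC (s (IsLocalRing.closedPoint _)).2
    rw [← connectedComponent_eq hmem]
    exact mem_connectedComponent
  · intro x y
    have h1 : SGA7.secComp R N x = SGA7.secComp R N y ↔ x.left (IsLocalRing.closedPoint R) ∈ SGA7.secComp R N y :=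
      ⟨fun h => h ▸ mem_connectedComponentIn (hpt x), fun h => (connectedComponentIn_eq h).symm⟩
    have h2 : SGA7.secComp R N y = (transIso y).hom.left '' SGA7.secComp R N 1 := by
      rw [image_trans, _root_.one_mul]
    have h3 : x.left (IsLocalRing.closedPoint R) = (transIso y).hom.left ((x * y⁻¹).left (IsLocalRing.closedPoint R)) := by
      rw [← Scheme.Hom.comp_apply, ← Over.comp_left, comp_trans, inv_mul_cancel_right]
    have h4 : (1 : 𝟙_ (Over (Spec (CommRingCat.of R))) ⟶ N) = η[N] := by
      rw [Hom.one_def, toUnit_unique (toUnit _) (𝟙 _), Category.id_comp]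
    rw [h1, h2, h3, h4]
    haveI : IsIso (transIso y).hom.left := inferInstanceAs (IsIso ((Over.forget _).map (transIso y).hom))
    exact Function.Injective.mem_set_image (transIso y).hom.left.isOpenEmbedding.injective


end Groth.Agent.S4070
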