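import Groth.Statements.S4075
import Groth.Agent.InertiaUnr.Fixed
import Groth.Agent.GrpInfLib.Comm
-- import your own Groth.Agent.* helpers here

set_option autoImplicit false
universe u
open CategoryTheory CategoryTheory.Limits AlgebraicGeometry MonObj
open SGA7

namespace Groth.Agent.S4075

set_option backward.isDefEq.respectTransparency false

/-- Let R be a henselian discrete valuation ring with fraction field K, Ω a separable closure of K, W a
valuation subring of Ω lying over R, N a group scheme over Spec R which is a Néron model of its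
generic fibre A = N_K, an abelian variety, and m an integer invertible in the residue field. For an
m-torsion Ω-point x of A, the inertia group at W fixes x if and only if the point of N underlying x
specialises to a point of the special fibre of N (x factors through the finite part of the m-torsion
of N): the fixed part of the m-torsion is the inertia invariants. -/
theorem result (R K Ω : Type u) [CommRing R] [IsDomain R]
    [IsDiscreteValuationRing R] [HenselianLocalRing R] [Field K] [Algebra R K] [IsFractionRing R K]
    [Field Ω] [Algebra K Ω] [IsSepClosure K Ω] (W : ValuationSubring Ω) (hW : SGA7.LiesOver K R W)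
    (N : Over (Spec (CommRingCat.of R))) [GrpObj N] (hN : SGA7.IsNeron R K N)
    [IsProper ((SGA7.genFib R K).obj N).hom] [GeometricallyIntegral ((SGA7.genFib R K).obj N).hom]
    (m : ℕ) (hm : (m : IsLocalRing.ResidueField R) ≠ 0)
    (x : SGA7.Pts Ω ((SGA7.genFib R K).obj N)) (hx : x ^ m = 1) :
    (∀ σ : Ω ≃ₐ[K] Ω, SGA7.IsInertia W σ → SGA7.galAct σ x = x) ↔
      ∃ z ∈ SGA7.specialFibreSet R N,
        (x.left ≫ pullback.fst N.hom (Spec.map (CommRingCat.ofHom (algebraMap R K)))).base
          (IsLocalRing.closedPoint Ω) ⤳ z := by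
  letI : Algebra R Ω := ((algebraMap K Ω).comp (algebraMap R K)).toAlgebra
  haveI : IsScalarTower R K Ω := .of_algebraMap_eq fun _ => rfl
  haveI : Smooth N.hom := hN.1
  haveI : IsSeparated N.hom := hN.2.1
  haveI : IsCommMonObj N := GrpInfLib.isCommMonObj_of_abelian_generic K N
  let g := Spec.map (CommRingCat.ofHom (algebraMap R K))
  let xl : Spec (CommRingCat.of Ω) ⟶ N.left := x.left ≫ pullback.fst N.hom g
  have hxl : xl ≫ N.hom = Spec.map (CommRingCat.ofHom (algebraMap R Ω)) := by
    show (x.left ≫ _) ≫ _ = _
    rw [Category.assoc, pullback.condition, ← Category.assoc]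
    erw [Over.w x]
    show Spec.map _ ≫ Spec.map _ = _
    rw [← Spec.map_comp]
    rfl
  have hgal : ∀ σ : Ω ≃ₐ[K] Ω, SGA7.galAct σ x = x ↔ Spec.map (CommRingCat.ofHom (σ : Ω →+* Ω)) ≫ xl = xl := by
    intro σ
    constructor
    · intro h
      have h1 := congrArg (fun m => CommaMorphism.left m ≫ pullback.fst N.hom g) h
      simpa [SGA7.galAct, SGA7.specAut, xl] using h1
    · intro h
      refine Over.OverMorphism.ext (pullback.hom_ext ?_ ((Over.w _).trans (Over.w x).symm))
      show (Spec.map _ ≫ x.left) ≫ pullback.fst N.hom g = _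
      rw [Category.assoc]
      exact h
  refine ⟨fun h => ?_, fun ⟨z, hz, hs⟩ σ hσ => (hgal σ).2 ?_⟩
  · obtain ⟨Y, hY, hY'⟩ := InertiaUnr.exists_extension_of_fixed R K W hW N xl hxl hN fun σ hσ => (hgal σ).1 (h σ hσ)
    obtain ⟨z, hz, hs⟩ := InertiaUnr.specializes_of_extension R K W hW N Y hY
    refine ⟨z, hz, ?_⟩
    rw [hY'] at hs
    exact hs
  · obtain ⟨Y, hY, hY'⟩ := InertiaUnr.exists_extension_of_specializes R K W hW N xl hxl z hz hs
    have hm' : IsUnit (m : R) := by
      rw [← IsLocalRing.residue_ne_zero_iff_isUnit, map_natCast]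
      exact hm
    let j : Over.mk (Spec.map (CommRingCat.ofHom (algebraMap R Ω))) ⟶ (Over.map g).obj (SGA7.pt Ω) :=
      Over.homMk (𝟙 _) (by
        show 𝟙 _ ≫ Spec.map _ ≫ Spec.map _ = Spec.map _
        rw [Category.id_comp, ← Spec.map_comp]
        rfl)
    let y := j ≫ (FixedSmooth.adjEquiv g N (SGA7.pt Ω)).symm x
    have hyl : y.left = xl := by
      show 𝟙 _ ≫ (((Over.mapPullbackAdj g).homEquiv _ N).symm x).left = _
      rw [Category.id_comp, Adjunction.homEquiv_counit]
      simp [xl]
    have hy : y ^ m = 1 := by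
      rw [← MonObj.comp_pow, ← map_pow]
      erw [hx, map_one, MonObj.comp_one]
    rw [← hyl]
    exact InertiaUnr.fixed_of_extension R K W hW N m hm' y hy (Over.homMk Y hY) (hY'.trans hyl.symm) σ hσ

end Groth.Agent.S4075
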