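import Groth.Statements.S4079
import Groth.Agent.CdTameLib.TameDim
import Groth.Agent.ArtinVanLib.Main
import Groth.Agent.ArtinVanLib.Nearby
import Groth.Agent.CurveFin.Const

set_option backward.isDefEq.respectTransparency false
set_option backward.isDefEq.respectTransparency.types false
set_option linter.style.haveILetI false
set_option maxHeartbeats 1000000
set_option synthInstance.maxHeartbeats 200000

set_option autoImplicit false
universe u
open CategoryTheory CategoryTheory.Limits AlgebraicGeometry MonObj
open SGA7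

namespace Groth.Agent.S4079

/-- Let V be a henselian discrete valuation ring with separably closed residue field, K its fraction
field, Ω a separable closure of K, and m a natural number whose image in the residue field of V is
nonzero. Let f : X -> Spec V be a morphism of finite type (locally of finite type and quasi-compact)
whose generic fibre X ×_V Spec K has dimension at most n. Let x be a point of the special fibre
whose closure (inside X, equivalently inside the special fibre) has dimension at least k, with k ≤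
n, and Osh a strict henselisation of the local ring of X at x. Then the nearby-cycle groups
H^i(Spec(Osh) ×_V Spec Ω, ℤ/m) vanish for i > n − k. -/
theorem result (V K Ω : Type u) [CommRing V] [IsDomain V] [IsDiscreteValuationRing V] [HenselianLocalRing V]
    [IsSepClosed (IsLocalRing.ResidueField V)] [Field K] [Algebra V K] [IsFractionRing V K]
    [Field Ω] [Algebra K Ω] [IsSepClosure K Ω] [Algebra V Ω] [IsScalarTower V K Ω]
    (m : ℕ) (hm : (m : IsLocalRing.ResidueField V) ≠ 0)
    {X : Scheme.{u}} (f : X ⟶ Spec (CommRingCat.of V)) [LocallyOfFiniteType f] [QuasiCompact f] (n : ℕ)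
    (hn : topologicalKrullDim ↥(pullback f (Spec.map (CommRingCat.ofHom (algebraMap V K)))) ≤ n)
    (x : ↥X) (hx : f.base x = IsLocalRing.closedPoint V) (k : ℕ) (hkn : k ≤ n)
    (hk : (k : WithBot ℕ∞) ≤ topologicalKrullDim ↥(closure ({x} : Set ↥X)))
    (Osh : Type u) [CommRing Osh] [IsLocalRing Osh] [Algebra ↑(X.presheaf.stalk x) Osh]
    [IsLocalHom (algebraMap ↑(X.presheaf.stalk x) Osh)] [Hensel.IsStrictHenselization ↑(X.presheaf.stalk x) Osh]
    (i : ℕ) (hi : n - k < i) :
    Subsingleton (EtCoh.H (SGA7.nearbyFibre f x Osh Ω)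
      (EtCoh.const (SGA7.nearbyFibre f x Osh Ω) (ZMod m)) i) := by
  classical
  obtain ⟨C, _, jC, _, c, hc⟩ := Groth.Agent.ArtinVanLib.exists_chart x
  subst hc
  obtain ⟨_, hloc, hfac⟩ := Groth.Agent.ArtinVanLib.exists_isLocalization_stalk jC c
  haveI := hloc
  obtain ⟨κ, hκ⟩ := Spec.map_surjective (jC ≫ f)
  let O := X.presheaf.stalk (jC c)
  letI : Algebra V C := κ.hom.toAlgebra
  letI : Algebra C Osh := ((algebraMap O Osh).comp (algebraMap C O)).toAlgebra
  haveI : IsScalarTower C O Osh := .of_algebraMap_eq' rfl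
  letI : Algebra V Osh := ((algebraMap C Osh).comp (algebraMap V C)).toAlgebra
  haveI : IsScalarTower V C Osh := .of_algebraMap_eq' rfl
  haveI : LocallyOfFiniteType (Spec.map κ) := by rw [hκ]; infer_instance
  haveI : Algebra.FiniteType V C := (HasRingHomProperty.Spec_iff (P := @LocallyOfFiniteType)).1 this
  -- the generic fibre of the chart
  have hwC : Spec.map (CommRingCat.ofHom (algebraMap V C)) = jC ≫ f := hκ
  let sK := Spec.map (CommRingCat.ofHom (algebraMap V K))
  let j : pullback (Spec.map (CommRingCat.ofHom (algebraMap V C))) sK ⟶ pullback f sK :=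
    pullback.map _ _ _ _ jC (𝟙 _) (𝟙 _) (by rw [Category.comp_id, hwC]) (by simp [sK])
  let jK : Spec (CommRingCat.of (TensorProduct V K C)) ⟶ pullback f sK :=
    ((pullbackSpecIso V K C).inv ≫ (pullbackSymmetry _ _).hom) ≫ j
  haveI : IsOpenImmersion jK := inferInstance
  have hdim : ringKrullDim (TensorProduct V K C) ≤ n :=
    ((PrimeSpectrum.topologicalKrullDim_eq_ringKrullDim _).ge.trans
      jK.isOpenEmbedding.isInducing.topologicalKrullDim_le).trans hn
  let A := TensorProduct V Ω Osh
  have hA : Groth.Agent.ArtinVanLib.DimLE Ω A n :=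
    Groth.Agent.ArtinVanLib.dimLE_tensor_strictHenselization (k := Ω) (O := O) (R := Osh) c.asIdeal
      (Groth.Agent.ArtinVanLib.dimLE_baseChange_algebraic (k := Ω)
        (Groth.Agent.ArtinVanLib.dimLE_of_ringKrullDim_le hdim))
  haveI : IsSepClosed Ω := IsSepClosure.sep_closed K
  haveI : Algebra.IsSeparable K Ω := IsSepClosure.separable
  -- the trait inside the strict henselization
  have hmem : ∀ r : C, algebraMap C Osh r ∈ IsLocalRing.maximalIdeal Osh ↔ r ∈ c.asIdeal := fun r => by
    rw [IsLocalRing.mem_maximalIdeal, mem_nonunits_iff,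
      show algebraMap C Osh r = algebraMap O Osh (algebraMap C O r) from rfl, isUnit_map_iff,
      IsLocalization.AtPrime.isUnit_to_map_iff O c.asIdeal, Ideal.mem_primeCompl_iff, not_not]
  haveI : HenselianLocalRing Osh :=
    Hensel.IsStrictHenselization.henselian (R := X.presheaf.stalk (jC c)) (S := Osh)
  haveI : IsSepClosed (IsLocalRing.ResidueField Osh) :=
    (Hensel.IsStrictHenselization.isSepClosure (R := X.presheaf.stalk (jC c)) (S := Osh)).sep_closed
  have hcomap : PrimeSpectrum.comap (algebraMap V C) c = IsLocalRing.closedPoint V := by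
    rw [← hx]
    show Spec.map (CommRingCat.ofHom (algebraMap V C)) c = _
    rw [hwC]
    rfl
  haveI : IsLocalHom (algebraMap V Osh) := ⟨fun a ha => by
    by_contra hu
    have h1 : a ∈ (PrimeSpectrum.comap (algebraMap V C) c).asIdeal := by
      rw [hcomap]
      exact (IsLocalRing.mem_maximalIdeal a).2 hu
    exact (IsLocalRing.mem_maximalIdeal _).1 ((hmem _).2 h1) ha⟩
  obtain ⟨v, hv⟩ := Groth.Agent.CdTameLib.exists_independent_residues f jC hwC c hx hk
  obtain ⟨R', _, _, _, _, hR', hlocR, hinjR, htr, ⟨φ⟩, hsep⟩ :=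
    Groth.Agent.CdTameLib.exists_tame_generic V K (A := Osh) (fun i => algebraMap C Osh (v i)) fun p hp => by
      refine hv p ((hmem _).1 ?_)
      rwa [show (fun i => algebraMap C Osh (v i)) = fun i => IsScalarTower.toAlgHom V C Osh (v i) from rfl,
        ← MvPolynomial.comp_aeval_apply] at hp
  obtain ⟨K', _, _, _⟩ : ∃ (L : Type u) (_ : Field L) (_ : Algebra R' L), IsFractionRing R' L :=
    ⟨FractionRing R', inferInstance, inferInstance, inferInstance⟩
  letI : Algebra V K' := ((algebraMap R' K').comp (algebraMap V R')).toAlgebra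
  haveI : IsScalarTower V R' K' := .of_algebraMap_eq' rfl
  have hinjK' : Function.Injective (algebraMap V K') := (IsFractionRing.injective R' K').comp hinjR
  letI : Algebra K K' := (IsFractionRing.lift (K := K) hinjK').toAlgebra
  haveI : IsScalarTower V K K' := .of_algebraMap_eq fun a => (IsFractionRing.lift_algebraMap hinjK' a).symm
  have hK := hsep K' inferInstance inferInstance inferInstance inferInstance fun a =>
    IsFractionRing.lift_algebraMap hinjK' a
  -- the uniformizer
  obtain ⟨π, hπ⟩ := IsDiscreteValuationRing.exists_irreducible V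
  have hinjΩ : Function.Injective (algebraMap V Ω) := by
    rw [IsScalarTower.algebraMap_eq V K Ω]
    exact (algebraMap K Ω).injective.comp (IsFractionRing.injective V K)
  have hπ0 : algebraMap V R' π ≠ 0 := (map_ne_zero_iff _ hinjR).2 hπ.ne_zero
  have hπu : ¬ IsUnit (algebraMap V R' π) := fun h => hπ.not_isUnit (hlocR.map_nonunit π h)
  let l0 : R' →+* A := (Algebra.TensorProduct.includeRight : Osh →ₐ[V] A).toRingHom.comp φ.toRingHom
  have hl0V : ∀ a : V, l0 (algebraMap V R' a) = algebraMap Ω A (algebraMap V Ω a) := fun a => by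
    show (Algebra.TensorProduct.includeRight : Osh →ₐ[V] A) (φ (algebraMap V R' a)) = _
    rw [φ.commutes, AlgHom.commutes, IsScalarTower.algebraMap_apply V Ω A]
  have hl0π : IsUnit (l0 (algebraMap V R' π)) := by
    rw [hl0V]
    exact (IsUnit.mk0 _ ((map_ne_zero_iff _ hinjΩ).2 hπ.ne_zero)).map _
  obtain ⟨P, hP⟩ := IsDiscreteValuationRing.exists_irreducible R'
  have hl0 : ∀ y : nonZeroDivisors R', IsUnit (l0 y) := fun ⟨y, hy⟩ => by
    obtain ⟨e, w, hew⟩ := IsDiscreteValuationRing.eq_unit_mul_pow_irreducible hπ0 hP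
    have he : e ≠ 0 := fun he => hπu (by rw [hew, he, pow_zero, _root_.mul_one]; exact w.isUnit)
    obtain ⟨i, u, rfl⟩ := IsDiscreteValuationRing.eq_unit_mul_pow_irreducible (nonZeroDivisors.ne_zero hy) hP
    have hPu : IsUnit (l0 P) := by
      rw [hew, map_mul, map_pow] at hl0π
      exact (isUnit_pow_iff he).1 (isUnit_of_mul_isUnit_right hl0π)
    show IsUnit (l0 ((u : R') * P ^ i))
    rw [map_mul, map_pow]
    exact (u.isUnit.map l0).mul (hPu.pow i)
  let l : K' →+* A := IsLocalization.lift (M := nonZeroDivisors R') (S := K') hl0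
  have hl : ∀ a, l (algebraMap K K' a) = algebraMap Ω A (algebraMap K Ω a) := fun a =>
    RingHom.congr_fun (IsLocalization.ringHom_ext (nonZeroDivisors V)
      (j := l.comp (algebraMap K K')) (k := (algebraMap Ω A).comp (algebraMap K Ω)) (RingHom.ext fun b => by
        show l (algebraMap K K' (algebraMap V K b)) = algebraMap Ω A (algebraMap K Ω (algebraMap V K b))
        rw [← IsScalarTower.algebraMap_apply V K K', IsScalarTower.algebraMap_apply V R' K',
          ← IsScalarTower.algebraMap_apply V K Ω]
        exact (IsLocalization.lift_eq (M := nonZeroDivisors R') hl0 _).trans (hl0V b))) a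
  obtain ⟨D, _, _, _, hDsep, hDK, ⟨ν⟩⟩ := Groth.Agent.CdTameLib.exists_tame_field hK l hl
  letI : Algebra D A := ν.toRingHom.toAlgebra
  haveI : IsScalarTower Ω D A := .of_algebraMap_eq fun a => (ν.commutes a).symm
  -- the transcendence degrees
  have htrD : Algebra.trdeg Ω D = (k : ℕ) := by
    haveI : FaithfulSMul V R' := (faithfulSMul_iff_algebraMap_injective _ _).2 hinjR
    haveI : FaithfulSMul R' K' := (faithfulSMul_iff_algebraMap_injective _ _).2 (IsFractionRing.injective R' K')
    haveI : FaithfulSMul V K := (faithfulSMul_iff_algebraMap_injective _ _).2 (IsFractionRing.injective V K)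
    haveI : Algebra.IsAlgebraic R' K' := IsLocalization.isAlgebraic (R := R') (S := K') (nonZeroDivisors R')
    haveI : Algebra.IsAlgebraic V K := IsLocalization.isAlgebraic (R := V) (S := K) (nonZeroDivisors V)
    haveI : FaithfulSMul K K' := (faithfulSMul_iff_algebraMap_injective _ _).2 (algebraMap K K').injective
    have h1 : Algebra.trdeg V K' = (k : ℕ) := by
      rw [← trdeg_add_eq V R' (A := K'), htr, trdeg_eq_zero (R := R') (A := K'), add_zero]
    have h2 : Algebra.trdeg K K' = (k : ℕ) := by
      rw [← h1, ← trdeg_add_eq V K (A := K'), trdeg_eq_zero (R := V) (A := K), zero_add]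
    letI : Algebra K D := ((algebraMap K' D).comp (algebraMap K K')).toAlgebra
    haveI : IsScalarTower K K' D := .of_algebraMap_eq' rfl
    haveI : IsScalarTower K Ω D := .of_algebraMap_eq fun a => hDK a
    haveI : FaithfulSMul K' D := (faithfulSMul_iff_algebraMap_injective _ _).2 (algebraMap K' D).injective
    haveI : FaithfulSMul Ω D := (faithfulSMul_iff_algebraMap_injective _ _).2 (algebraMap Ω D).injective
    haveI : FaithfulSMul K Ω := (faithfulSMul_iff_algebraMap_injective _ _).2 (algebraMap K Ω).injective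
    have h3 : Algebra.trdeg K D = (k : ℕ) := by
      rw [← trdeg_add_eq K K' (A := D), h2, trdeg_eq_zero (R := K') (A := D), add_zero]
    rw [← h3, ← trdeg_add_eq K Ω (A := D), trdeg_eq_zero (R := K) (A := Ω), zero_add]
  have hDA := hA.of_subfield (k' := D) htrD (m := n - k) (by omega)
  -- the primes of `m`
  let L : Set ℕ := {p | p ∣ m}
  have hm1 : 1 ≤ m := Nat.pos_of_ne_zero fun h => hm (by rw [h, Nat.cast_zero])
  have hD : Groth.Agent.CdFieldLib.CdLE L (Spec (CommRingCat.of D)) 0 :=
    Groth.Agent.CdTameLib.cdLE_of_forall_cdP fun p hp hpm => by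
      haveI := Fact.mk hp
      have huV : IsUnit (p : V) := by
        rw [← IsLocalRing.residue_ne_zero_iff_isUnit, map_natCast]
        obtain ⟨d, hd⟩ := hpm
        intro h0
        exact hm (by rw [hd, Nat.cast_mul, h0, zero_mul])
      refine Groth.Agent.CdTameLib.cdP_zero_of_tame R' K' D Ω hR' ?_ (algebraMap Ω D) (algebraMap V R' π) hπ0 hπu
        (algebraMap V Ω π) ?_
      · simpa using huV.map (algebraMap V R')
      · rw [IsScalarTower.algebraMap_apply V K Ω, ← hDK, ← IsScalarTower.algebraMap_apply V K K',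
          IsScalarTower.algebraMap_apply V R' K']
  have hcd := Groth.Agent.CdTameLib.cdLE_of_dimLE (Groth.Agent.ArtinVanLib.art (n - k)) hDA hD
  -- the nearby fibre is affine
  have hw : Spec.map (CommRingCat.ofHom (algebraMap V Osh)) =
      Spec.map (CommRingCat.ofHom (algebraMap O Osh)) ≫ X.fromSpecStalk (jC c) ≫ f := by
    rw [← hfac, Category.assoc, ← hκ, ← Spec.map_comp, ← Spec.map_comp]
    rfl
  have e : SGA7.nearbyFibre f (jC c) Osh Ω ≅ Spec (CommRingCat.of (TensorProduct V Ω Osh)) :=
    pullback.congrHom hw.symm rfl ≪≫ pullbackSymmetry _ _ ≪≫ pullbackSpecIso V Ω Osh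
  refine Groth.Agent.CdFieldLib.cdLE_of_iso e hcd _ ?_ i (by omega)
  intro U s y
  refine ⟨U, 𝟙 U, m, ⟨y, rfl⟩, ⟨hm1, fun p _ hpm => hpm⟩, ?_⟩
  exact Groth.Agent.PBCLib.killedBy_const _ m U _


end Groth.Agent.S4079
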