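import Groth.Statements.S4092
import Groth.Agent.ASp.MonoFactor
import Groth.Agent.SchDesc.Cover
set_option backward.isDefEq.respectTransparency false
set_option backward.isDefEq.respectTransparency.types false

set_option autoImplicit false
universe u
open CategoryTheory MonoidalCategory CartesianMonoidalCategory MonObj GrpObj AlgebraicGeometry CategoryTheory.Limits
open GrpQ

namespace Groth.Agent.S4092

/-- Let f : X → Y be a morphism of schemes which is locally of finite presentation. Then f factors as f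
= f'' ∘ f' with f' : X → X' surjective, flat and locally of finite presentation and f'' : X' → Y a
monomorphism if and only if the first projection X ×_Y X → X is flat. Moreover two such
factorisations are isomorphic: there is an isomorphism of the middle schemes compatible with both
maps. -/
theorem result {X Y : Scheme.{u}} (f : X ⟶ Y) [LocallyOfFinitePresentation f] :
    ((∃ (X' : Scheme.{u}) (f' : X ⟶ X') (f'' : X' ⟶ Y),
        Surjective f' ∧ Flat f' ∧ LocallyOfFinitePresentation f' ∧ Mono f'' ∧ f' ≫ f'' = f) ↔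
      Flat (pullback.fst f f)) ∧
    (∀ (X₁ X₂ : Scheme.{u}) (g₁ : X ⟶ X₁) (h₁ : X₁ ⟶ Y) (g₂ : X ⟶ X₂) (h₂ : X₂ ⟶ Y),
      Surjective g₁ → Flat g₁ → LocallyOfFinitePresentation g₁ → Mono h₁ → g₁ ≫ h₁ = f →
      Surjective g₂ → Flat g₂ → LocallyOfFinitePresentation g₂ → Mono h₂ → g₂ ≫ h₂ = f →
      ∃ φ : X₁ ≅ X₂, g₁ ≫ φ.hom = g₂ ∧ φ.hom ≫ h₂ = h₁) := by
  refine ⟨⟨?_, fun _ => Groth.Agent.ASp.exists_mono_factor f⟩, ?_⟩
  · rintro ⟨X', f', f'', -, hfl, -, hm, hf⟩
    haveI := hm
    haveI := hfl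
    have sq : IsPullback (pullback.fst f f) (pullback.snd f f) f' f' :=
      IsPullback.of_isLimit' ⟨(cancel_mono f'').1 (by rw [Category.assoc, Category.assoc, hf]; exact pullback.condition)⟩
        (PullbackCone.IsLimit.mk _
          (fun c => pullback.lift c.fst c.snd (by rw [← hf, c.condition_assoc]))
          (fun c => pullback.lift_fst _ _ _) (fun c => pullback.lift_snd _ _ _)
          (fun c l h1 h2 => pullback.hom_ext (by simpa using h1) (by simpa using h2)))
    exact MorphismProperty.of_isPullback sq.flip ‹Flat f'›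
  · intro X₁ X₂ g₁ h₁ g₂ h₂ _ _ _ _ e₁ _ _ _ _ e₂
    haveI := Groth.Agent.SchDesc.IsFpqc.of_locallyOfFinitePresentation g₁
    haveI := Groth.Agent.SchDesc.IsFpqc.of_locallyOfFinitePresentation g₂
    have c₁ : ∀ {W : Scheme.{u}} (a b : W ⟶ X), a ≫ g₁ = b ≫ g₁ → a ≫ g₂ = b ≫ g₂ := fun {W} a b h =>
      (cancel_mono h₂).1 (by rw [Category.assoc, Category.assoc, e₂, ← e₁, reassoc_of% h])
    have c₂ : ∀ {W : Scheme.{u}} (a b : W ⟶ X), a ≫ g₂ = b ≫ g₂ → a ≫ g₁ = b ≫ g₁ := fun {W} a b h =>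
      (cancel_mono h₁).1 (by rw [Category.assoc, Category.assoc, e₁, ← e₂, reassoc_of% h])
    refine ⟨⟨EffectiveEpi.desc g₁ g₂ c₁, EffectiveEpi.desc g₂ g₁ c₂,
      (cancel_epi g₁).1 (by simp), (cancel_epi g₂).1 (by simp)⟩, EffectiveEpi.fac g₁ g₂ c₁, (cancel_epi g₁).1 ?_⟩
    rw [EffectiveEpi.fac_assoc, e₁, e₂]

end Groth.Agent.S4092
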