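import Groth.Statements.S4104
import Groth.Agent.HopfFF.Image

set_option autoImplicit false
universe u
open CategoryTheory MonoidalCategory CartesianMonoidalCategory MonObj GrpObj AlgebraicGeometry CategoryTheory.Limits
open SGA3
open scoped TensorProduct

namespace Groth.Agent.S4104

/-- Let φ : A' → A be a bialgebra map between commutative Hopf algebras over a field k (a homomorphism
of affine k-groups Spec A → Spec A', not necessarily of finite type). If the corresponding morphism
of schemes is a monomorphism, i.e. φ is an epimorphism in the category of commutative rings, then φ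
is surjective (the homomorphism is a closed immersion). -/
theorem result (k : Type u) [Field k] (A' A : Type u) [CommRing A'] [HopfAlgebra k A']
    [CommRing A] [HopfAlgebra k A] (φ : A' →ₐc[k] A)
    (hepi : ∀ (R : Type u) [CommRing R] (f g : A →+* R), f.comp (φ : A' →+* A) = g.comp (φ : A' →+* A) → f = g) :
    Function.Surjective φ := by
  have hff : Module.FaithfullyFlat (φ : A' →ₐ[k] A).range A :=
    HopfFF.faithfullyFlat_of_hopfSub (HopfFF.isHopfSub_range φ)
  let B := (φ : A' →ₐ[k] A).range
  suffices h : Function.Surjective (Algebra.linearMap B A) by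
    intro a
    obtain ⟨⟨_, b, rfl⟩, hb⟩ := h a
    exact ⟨b, hb⟩
  rw [← Module.FaithfullyFlat.lTensor_surjective_iff_surjective B A]
  intro x
  induction x using TensorProduct.induction_on with
  | zero => exact ⟨0, map_zero _⟩
  | add x y hx hy =>
    obtain ⟨x', rfl⟩ := hx
    obtain ⟨y', rfl⟩ := hy
    exact ⟨x' + y', map_add _ _ _⟩
  | tmul a a' =>
    refine ⟨(a * a') ⊗ₜ[B] (1 : B), ?_⟩
    have h := congrArg (fun m : A →+* TensorProduct B A A => m a')
      (hepi (TensorProduct B A A) Algebra.TensorProduct.includeLeftRingHom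
        (Algebra.TensorProduct.includeRight : A →ₐ[B] TensorProduct B A A).toRingHom (RingHom.ext fun c => by
          show (φ c) ⊗ₜ[B] (1 : A) = (1 : A) ⊗ₜ[B] φ c
          have := TensorProduct.smul_tmul (R := B) (R' := B) (⟨φ c, c, rfl⟩ : B) (1 : A) (1 : A)
          simpa [Subalgebra.smul_def] using this))
    have h' : a' ⊗ₜ[B] (1 : A) = (1 : A) ⊗ₜ[B] a' := h
    calc _ = (a ⊗ₜ[B] (1 : A)) * (a' ⊗ₜ[B] (1 : A)) := by simp
      _ = (a ⊗ₜ[B] (1 : A)) * ((1 : A) ⊗ₜ[B] a') := by rw [h']
      _ = a ⊗ₜ[B] a' := by simp

end Groth.Agent.S4104
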