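import Groth.Statements.S4110
import Groth.Agent.FinHopf.Local
-- import your own Groth.Agent.* helpers here

set_option autoImplicit false
universe u
open CategoryTheory MonoidalCategory CartesianMonoidalCategory MonObj GrpObj AlgebraicGeometry CategoryTheory.Limits
open SGA3
open scoped TensorProduct

namespace Groth.Agent.S4110

/-- (iv) ⟹ (ii), over a local base: let R be a local ring of prime characteristic p and A a commutative
Hopf algebra over R which is of finite presentation and flat over R (an R-group G locally of finite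
presentation and flat; finiteness is then a consequence) and of height ≤ 1: every element a of the
augmentation ideal satisfies a^p = 0 (the Frobenius of G is trivial). Then A is isomorphic as an
R-algebra to R[X₁, …, Xₙ]/(X₁^p, …, Xₙ^p) for some n (n is the rank of the conormal module ω_G,
which is free). -/
theorem result (p : ℕ) [Fact p.Prime] (R : Type u) [CommRing R]
    [IsLocalRing R] [CharP R p] (A : Type u) [CommRing A] [HopfAlgebra R A] [Algebra.FinitePresentation R A] [Module.Flat R A]
    (h1 : ∀ a : A, Bialgebra.counitAlgHom R A a = 0 → a ^ p = 0) :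
    ∃ n : ℕ, Nonempty (A ≃ₐ[R] (MvPolynomial (Fin n) R ⧸
      Ideal.span (Set.range fun i : Fin n => (MvPolynomial.X i : MvPolynomial (Fin n) R) ^ p))) := by
  classical
  have hp : p.Prime := Fact.out
  let ε := Bialgebra.counitAlgHom R A
  have hsub : ∀ a : A, ε (a - algebraMap R A (ε a)) = 0 := fun a => by
    rw [map_sub, AlgHom.commutes, Algebra.algebraMap_self_apply, sub_self]
  haveI : Algebra.IsIntegral R A := ⟨fun a => by
    have h : IsIntegral R (a - algebraMap R A (ε a)) :=
      IsIntegral.of_pow hp.pos (by rw [h1 _ (hsub a)]; exact isIntegral_zero)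
    simpa using h.add (isIntegral_algebraMap (x := ε a))⟩
  haveI : Module.Finite R A := Algebra.IsIntegral.finite
  haveI : Module.Free R A := Module.free_of_flat_of_isLocalRing
  let k := IsLocalRing.ResidueField R
  let B := k ⊗[R] A
  haveI : CharP k p := by
    rw [CharP.charP_iff_prime_eq_zero hp, ← map_natCast (algebraMap R k), CharP.cast_eq_zero, map_zero]
  let εk : B →ₐ[k] k := Bialgebra.counitAlgHom k B
  haveI : Nontrivial B := RingHom.domain_nontrivial εk.toRingHom
  haveI : CharP B p := charP_of_injective_algebraMap (RingHom.injective (algebraMap k B)) p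
  have hεk : ∀ a : A, εk ((1 : k) ⊗ₜ[R] a) = algebraMap R k (ε a) := fun a => by
    simp [εk, ε, B, TensorProduct.counit_tmul, Algebra.smul_def, _root_.mul_one]
  have hk1 : ∀ z : B, εk z = 0 → z ^ p = 0 := by
    have key : ∀ z : B, (z - algebraMap k B (εk z)) ^ p = 0 := by
      intro z
      induction z using TensorProduct.induction_on with
      | zero => simp [zero_pow hp.ne_zero]
      | add u v hu hv => rw [map_add, map_add, add_sub_add_comm, add_pow_char, hu, hv, add_zero]
      | tmul c a =>
        have e : c ⊗ₜ[R] a - algebraMap k B (εk (c ⊗ₜ[R] a)) = c • ((1 : k) ⊗ₜ[R] (a - algebraMap R A (ε a))) := by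
          have h3 : c ⊗ₜ[R] a = c • ((1 : k) ⊗ₜ[R] a) := by rw [TensorProduct.smul_tmul', smul_eq_mul, _root_.mul_one]
          rw [TensorProduct.tmul_sub, smul_sub, h3, map_smul, smul_eq_mul, hεk, Algebra.algebraMap_eq_smul_one
            (c * _), mul_smul, algebraMap_smul, Algebra.algebraMap_eq_smul_one (ε a), TensorProduct.tmul_smul]
          rfl
        rw [e, smul_pow, Algebra.TensorProduct.tmul_pow, h1 _ (hsub a), TensorProduct.tmul_zero, smul_zero]
    intro z hz
    simpa [hz] using key z
  haveI : IsNoetherianRing B := IsNoetherianRing.of_finite k B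
  obtain ⟨N, hN⟩ := IsNoetherianRing.isNilpotent_nilradical B
  have hnil : RingHom.ker εk ^ N = ⊥ := by
    rw [eq_bot_iff]
    refine le_trans (Ideal.pow_right_mono (fun z hz => ?_) N) (le_of_eq hN)
    exact ⟨p, hk1 z hz⟩
  obtain ⟨r, x, ξ, hx, hξx, hξ, hgen⟩ := Groth.Agent.FinHopf.exists_coords εk
  have hl : ∀ z, Algebra.TensorProduct.lid k B (Algebra.TensorProduct.map εk (AlgHom.id k B)
      (Bialgebra.comulAlgHom k B z)) = z := fun z => by
    refine (congrArg (TensorProduct.lid k B) (Coalgebra.rTensor_counit_comul z)).trans ?_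
    simp
  have hr : ∀ z, Algebra.TensorProduct.rid k k B (Algebra.TensorProduct.map (AlgHom.id k B) εk
      (Bialgebra.comulAlgHom k B z)) = z := fun z => by
    refine (congrArg (TensorProduct.rid k B) (Coalgebra.lTensor_counit_comul z)).trans ?_
    simp
  obtain ⟨d, hd⟩ := Groth.Agent.FinHopf.exists_partials εk hnil x
    (fun i => Groth.Agent.FinHopf.invDer εk _ hr (ξ i) (hξ i))
    (fun i j => (Groth.Agent.FinHopf.apply_invDer εk _ hl hr (ξ i) (hξ i) (x j)).trans (hξx i j))
  have hadj : Algebra.adjoin k (Set.range x) = ⊤ := Groth.Agent.FinHopf.adjoin_eq_top εk hnil x hx hgen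
  have hrank : Module.finrank k B = p ^ r := by
    rw [Groth.Agent.FinHopf.finrank_eq_pow_mul p x d hd hadj]
    have : Groth.Agent.FinHopf.powSub k B p = ⊥ := by
      rw [eq_bot_iff, Groth.Agent.FinHopf.powSub, Algebra.adjoin_le_iff]
      rintro _ ⟨a, rfl⟩
      refine Algebra.mem_bot.2 ⟨εk a ^ p, ?_⟩
      have e := hk1 (a - algebraMap k B (εk a)) (by rw [map_sub, AlgHom.commutes, Algebra.algebraMap_self_apply, sub_self])
      rw [sub_pow_char, sub_eq_zero, ← map_pow] at e
      exact e.symm
    rw [this, Subalgebra.finrank_bot, _root_.mul_one]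
  -- lift the coordinates
  have hsurj : Function.Surjective (TensorProduct.mk R k A 1) :=
    TensorProduct.mk_surjective R A k IsLocalRing.residue_surjective
  choose a₀ ha₀ using fun i => hsurj (x i)
  let a : Fin r → A := fun i => a₀ i - algebraMap R A (ε (a₀ i))
  have ha : ∀ i, (1 : k) ⊗ₜ[R] a i = x i := fun i => by
    have h0 : εk ((1 : k) ⊗ₜ[R] a₀ i) = 0 := by
      rw [show (1 : k) ⊗ₜ[R] a₀ i = x i from ha₀ i]; exact hx i
    rw [hεk] at h0
    rw [show a i = a₀ i - ε (a₀ i) • 1 from congrArg (a₀ i - ·) (Algebra.algebraMap_eq_smul_one _),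
      TensorProduct.tmul_sub, TensorProduct.tmul_smul, ← algebraMap_smul k (ε (a₀ i)), h0, zero_smul, sub_zero]
    exact ha₀ i
  let J : Ideal (MvPolynomial (Fin r) R) :=
    Ideal.span (Set.range fun i : Fin r => (MvPolynomial.X i : MvPolynomial (Fin r) R) ^ p)
  let φ : (MvPolynomial (Fin r) R ⧸ J) →ₐ[R] A := Ideal.Quotient.liftₐ J (MvPolynomial.aeval a) (by
    intro z hz
    refine (Ideal.span_le.2 ?_ hz : z ∈ RingHom.ker (MvPolynomial.aeval a))
    rintro _ ⟨i, rfl⟩
    rw [SetLike.mem_coe, RingHom.mem_ker, map_pow, MvPolynomial.aeval_X, h1 _ (hsub _)])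
  have hφX : ∀ i, φ (Ideal.Quotient.mk J (MvPolynomial.X i)) = a i := fun i => MvPolynomial.aeval_X a i
  have hφ : Function.Surjective φ := by
    have htop : LinearMap.range φ.toLinearMap = ⊤ := by
      rw [← IsLocalRing.map_tensorProduct_mk_eq_top, eq_top_iff]
      intro z hz0
      clear hz0
      have hz : z ∈ Algebra.adjoin k (Set.range x) := by rw [hadj]; exact Algebra.mem_top
      induction hz using Algebra.adjoin_induction with
      | mem w hw =>
        obtain ⟨i, rfl⟩ := hw
        exact ⟨a i, ⟨Ideal.Quotient.mk J (MvPolynomial.X i), hφX i⟩, ha i⟩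
      | algebraMap c =>
        obtain ⟨c, rfl⟩ := IsLocalRing.residue_surjective c
        refine ⟨algebraMap R A c, ⟨algebraMap R _ c, φ.commutes c⟩, ?_⟩
        rw [TensorProduct.mk_apply, Algebra.algebraMap_eq_smul_one, TensorProduct.tmul_smul, ← algebraMap_smul k c]
        exact (Algebra.algebraMap_eq_smul_one _).symm
      | add u v _ _ hu hv => exact Submodule.add_mem _ hu hv
      | mul u v _ _ hu hv =>
        obtain ⟨u', ⟨u'', rfl⟩, rfl⟩ := hu
        obtain ⟨v', ⟨v'', rfl⟩, rfl⟩ := hv
        refine ⟨φ u'' * φ v'', ⟨u'' * v'', map_mul φ _ _⟩, ?_⟩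
        simp [Algebra.TensorProduct.tmul_mul_tmul]
    exact LinearMap.range_eq_top.1 htop
  let mon : (Fin r → Fin p) → (MvPolynomial (Fin r) R ⧸ J) := fun e =>
    Ideal.Quotient.mk J (MvPolynomial.monomial (Finsupp.equivFunOnFinite.symm fun i => ((e i : ℕ))) 1)
  let L := Fintype.linearCombination R mon
  have hL : Function.Surjective L := by
    rw [← LinearMap.range_eq_top, Fintype.range_linearCombination, eq_top_iff]
    intro z hz
    clear hz
    obtain ⟨z, rfl⟩ := Ideal.Quotient.mk_surjective z
    induction z using MvPolynomial.induction_on' with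
    | monomial e c =>
      have h4 : Ideal.Quotient.mk J (MvPolynomial.monomial e c) =
          c • Ideal.Quotient.mk J (MvPolynomial.monomial e 1) := by
        rw [← Ideal.Quotient.mkₐ_eq_mk R, ← map_smul, MvPolynomial.smul_monomial, smul_eq_mul, _root_.mul_one]
      rw [h4]
      refine Submodule.smul_mem _ _ ?_
      by_cases he : ∀ i, e i < p
      · exact Submodule.subset_span ⟨fun i => ⟨e i, he i⟩, congrArg (fun t => Ideal.Quotient.mk J
          (MvPolynomial.monomial t 1)) (Finsupp.ext fun i => rfl)⟩
      · push Not at he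
        obtain ⟨i, hi⟩ := he
        have : MvPolynomial.monomial e (1 : R) ∈ J := by
          have hle : Finsupp.single i p ≤ e := Finsupp.single_le_iff.2 hi
          rw [show MvPolynomial.monomial e (1 : R) = MvPolynomial.monomial (e - Finsupp.single i p) 1 *
            MvPolynomial.X i ^ p by rw [MvPolynomial.X_pow_eq_monomial, MvPolynomial.monomial_mul,
              tsub_add_cancel_of_le hle, _root_.one_mul]]
          exact Ideal.mul_mem_left _ _ (Ideal.subset_span ⟨i, rfl⟩)
        rw [Ideal.Quotient.eq_zero_iff_mem.2 this]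
        exact Submodule.zero_mem _
    | add u v hu hv => rw [map_add]; exact Submodule.add_mem _ hu hv
  have hfr : Module.finrank R A = p ^ r := by rw [← hrank, Module.finrank_baseChange]
  have hbij : Function.Bijective (φ.toLinearMap ∘ₗ L) :=
    OrzechProperty.bijective_of_surjective_of_finrank_le _ (hφ.comp hL) (by
      rw [hfr, Module.finrank_fintype_fun_eq_card, Fintype.card_fun, Fintype.card_fin, Fintype.card_fin])
  refine ⟨r, ⟨(AlgEquiv.ofBijective φ ⟨fun u v h => ?_, hφ⟩).symm⟩⟩
  obtain ⟨u, rfl⟩ := hL u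
  obtain ⟨v, rfl⟩ := hL v
  exact congrArg L (hbij.1 h)

end Groth.Agent.S4110
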