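import Groth.Statements.S4131
import Groth.Agent.CommFormLib.Formula

set_option autoImplicit false
universe u
open CategoryTheory MonoidalCategory CartesianMonoidalCategory MonObj GrpObj AlgebraicGeometry CategoryTheory.Limits
open Red

set_option backward.isDefEq.respectTransparency false
set_option backward.isDefEq.respectTransparency.types false
set_option linter.style.haveILetI false
open Groth.Agent.RankOneRelLib Groth.Agent.RankOneCellLib Groth.Agent.CommFormLib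

namespace Groth.Agent.S4131

/-- Let G be an S-group scheme, i : T → G a subtorus, α : T → 𝔾_m a character which is non-trivial on
every geometric fibre, and p₊, p₋ : 𝔾_a → G homomorphisms which are monomorphisms normalised by T
with multipliers α and α⁻¹ (i(t) p₊(x) i(t)⁻¹ = p₊(α(t)x), i(t) p₋(y) i(t)⁻¹ = p₋(α(t)⁻¹y)). Assume
(i) the morphism 𝔾_a ×_S T ×_S 𝔾_a → G, (y, t, x) ↦ p₋(y)·i(t)·p₊(x), is an open immersion, with
image Ω, and (ii) on every geometric fibre the images of p₊ and p₋ do not commute. Then there is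
exactly one pair (a, α*) consisting of an S-point a of 𝔾_m and a homomorphism α* : 𝔾_m → T such that
for every S-scheme X and all points x, y of 𝔾_a with values in X: p₊(x)p₋(y) lies in Ω if and only
if 1 + a·x·y is a unit (as a function on X), and in that case p₊(x)p₋(y) = p₋(y')·i(α*(z))·p₊(x')
where z = 1 + axy, y'·z = y and x'·z = x; moreover α ∘ α* is the squaring map of 𝔾_m. -/
theorem result (S : Scheme.{u}) (G T : Over S) [GrpObj G] [GrpObj T] (i : T ⟶ G)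
    [IsMonHom i] [Mono i] (hT : Red.IsTorus T) (α : T ⟶ Red.Gm S) [IsMonHom α]
    (hα : ∀ s : S, (Over.pullback (Red.geomPt s)).map α ≠ 1)
    (pp pm : Red.Ga S ⟶ G) [IsMonHom pp] [Mono pp] [IsMonHom pm] [Mono pm]
    (hpp : ∀ (X : Over S) (t : X ⟶ T) (x : X ⟶ Red.Ga S), ∃ x' : X ⟶ Red.Ga S,
      x' ≫ pp = (t ≫ i) * (x ≫ pp) * (t ≫ i)⁻¹ ∧ Red.gaFn x' = Red.gmFn (t ≫ α) * Red.gaFn x)
    (hpm : ∀ (X : Over S) (t : X ⟶ T) (y : X ⟶ Red.Ga S), ∃ y' : X ⟶ Red.Ga S,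
      y' ≫ pm = (t ≫ i) * (y ≫ pm) * (t ≫ i)⁻¹ ∧ Red.gaFn y' * Red.gmFn (t ≫ α) = Red.gaFn y)
    (hΩ : IsOpenImmersion (((pm ⊗ₘ i) ⊗ₘ pp) ≫ (μ[G] ▷ G) ≫ μ[G]).left)
    (hnc : ∀ s : S, ∃ (X : Over (Spec (CommRingCat.of (AlgebraicClosure (S.residueField s)))))
      (x y : X ⟶ Red.bc (Red.geomPt s) (Red.Ga S)),
      (x ≫ (Over.pullback (Red.geomPt s)).map pp) * (y ≫ (Over.pullback (Red.geomPt s)).map pm) ≠
        (y ≫ (Over.pullback (Red.geomPt s)).map pm) * (x ≫ (Over.pullback (Red.geomPt s)).map pp)) :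
    ∃! q : (𝟙_ (Over S) ⟶ Red.Gm S) × (Red.Gm S ⟶ T), IsMonHom q.2 ∧ q.2 ≫ α = (𝟙 (Red.Gm S)) ^ 2 ∧
      ∀ (X : Over S) (x y : X ⟶ Red.Ga S),
        ((∃ w : X ⟶ (Red.Ga S ⊗ T) ⊗ Red.Ga S, w ≫ (((pm ⊗ₘ i) ⊗ₘ pp) ≫ (μ[G] ▷ G) ≫ μ[G]) = (x ≫ pp) * (y ≫ pm)) ↔
          IsUnit (1 + Red.gmFn (toUnit X ≫ q.1) * Red.gaFn x * Red.gaFn y)) ∧
        (IsUnit (1 + Red.gmFn (toUnit X ≫ q.1) * Red.gaFn x * Red.gaFn y) →
          ∃ (x' y' : X ⟶ Red.Ga S) (z : X ⟶ Red.Gm S),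
            Red.gmFn z = 1 + Red.gmFn (toUnit X ≫ q.1) * Red.gaFn x * Red.gaFn y ∧
            Red.gaFn x' * Red.gmFn z = Red.gaFn x ∧ Red.gaFn y' * Red.gmFn z = Red.gaFn y ∧
            (x ≫ pp) * (y ≫ pm) = (y' ≫ pm) * (z ≫ q.2 ≫ i) * (x' ≫ pp)) := by
  haveI : IsOpenImmersion (cellMap i pp pm).left := hΩ
  obtain ⟨hfl, hsu⟩ := flatSurj_of_geomFibre_ne_one hT α hα
  have hP : Pre i α pp pm := ⟨hT, hfl, hsu, hpp, hpm⟩
  obtain ⟨k, hk⟩ := exists_slope hP hnc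
  obtain ⟨av, hm, h2, hav⟩ := exists_coroot hP hnc hk
  haveI := hm
  refine ⟨(k, av), ⟨hm, h2, fun X x y => ⟨?_, fun hu => ?_⟩⟩, ?_⟩
  · show _ ↔ IsUnit (1 + kv k X * Red.gaFn x * Red.gaFn y)
    rw [← inCell_iff hP hnc hk h2 hav (Red.gaFn x) (Red.gaFn y), gp_gaFn, gp_gaFn]
    refine ⟨fun ⟨w, hw⟩ => hw ▸ inCell_cellMap i pp pm w, fun h => ?_⟩
    exact exists_omega i pp pm h
  · obtain ⟨ζ, hζ⟩ := hu
    have h := rule hP hnc hk h2 hav (Red.gaFn x) (Red.gaFn y) ζ hζ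
    refine ⟨gp (ζ⁻¹.1 * Red.gaFn x), gp (ζ⁻¹.1 * Red.gaFn y), GmPts.ptOfUnit ζ, ?_, ?_, ?_, ?_⟩
    · rw [GmPts.gmFn_ptOfUnit, hζ]
    · rw [gaFn_gp, GmPts.gmFn_ptOfUnit]
      linear_combination Red.gaFn x * Units.inv_mul ζ
    · rw [gaFn_gp, GmPts.gmFn_ptOfUnit]
      linear_combination Red.gaFn y * Units.inv_mul ζ
    · unfold CommFormLib.Rel at h
      rw [gp_gaFn, gp_gaFn] at h
      rw [← Category.assoc _ av i]
      exact h.symm
  rintro ⟨c, av'⟩ ⟨hm', h2', hq⟩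
  -- the constant
  have hval : ∀ (X : Over S) (v : Γ(X.left, ⊤)) (ζ : Γ(X.left, ⊤)ˣ), ζ.1 = 1 + kv k X * v →
      ∃ z : X ⟶ Red.Gm S, Red.gmFn z = 1 + kv c X * v ∧ z ≫ av' = GmPts.ptOfUnit ζ ≫ av ∧
        ζ⁻¹.1 * Red.gmFn z = 1 := fun X v ζ hζ => by
    have h := hav X v ζ hζ
    obtain ⟨hiff, hform⟩ := hq X (gp v) (gp 1)
    have hu : IsUnit (1 + Red.gmFn (toUnit X ≫ c) * Red.gaFn (gp v) * Red.gaFn (gp (1 : Γ(X.left, ⊤)))) :=
      hiff.1 (exists_omega i pp pm h.inCell)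
    obtain ⟨x', y', z, hz, hx', hy', hr⟩ := hform hu
    rw [gaFn_gp, gaFn_gp, _root_.mul_one] at hz
    rw [gaFn_gp] at hy'
    have h' : CommFormLib.Rel i pp pm v 1 (Red.gaFn y') (z ≫ av') (Red.gaFn x') := by
      unfold CommFormLib.Rel
      rw [gp_gaFn, gp_gaFn, Category.assoc]
      exact hr.symm
    obtain ⟨e1, e2, -⟩ := h.inj h'
    exact ⟨z, hz, e2.symm, by rw [e1]; exact hy'⟩
  have hck : c = k := by
    obtain ⟨X', f, hf, v, hv, -, hv'⟩ := exists_three (𝟙_ (Over S)) (kv k (𝟙_ (Over S))) 0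
    haveI := hf
    rw [kv_comp] at hv'
    obtain ⟨ζ, hζ⟩ := hv'
    obtain ⟨z, hz, -, hzz⟩ := hval X' v ζ hζ
    have e : Red.gmFn z = ζ.1 := by linear_combination ζ.1 * hzz - Red.gmFn z * Units.mul_inv ζ
    rw [hz, hζ] at e
    rw [← cancel_epi f]
    refine GmPts.gmFn_injective ?_
    show Red.gmFn (f ≫ c) = Red.gmFn (f ≫ k)
    have e' := hv.mul_right_cancel (add_left_cancel e)
    simp only [kv] at e'
    rw [toUnit_unique (toUnit X') f] at e'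
    exact e'
  subst hck
  refine Prod.ext rfl ?_
  let U := Red.Gm S
  let z₀ : Γ(U.left, ⊤)ˣ := GmPts.unitOfPt (𝟙 U)
  obtain ⟨ku, hku⟩ := isUnit_kv c U
  obtain ⟨z, hz, hzav, -⟩ := hval U (ku⁻¹.1 * (z₀.1 - 1)) z₀ (by
    rw [← hku]; linear_combination -(z₀.1 - 1) * Units.mul_inv ku)
  have e : z = 𝟙 U := GmPts.gmFn_injective (by
    show Red.gmFn z = Red.gmFn (𝟙 U)
    rw [hz, ← hku, ← GmPts.val_unitOfPt]
    linear_combination (z₀.1 - 1) * Units.mul_inv ku)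
  rw [e, Category.id_comp, GmPts.ptOfUnit_unitOfPt, Category.id_comp] at hzav
  exact hzav

end Groth.Agent.S4131
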