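import Mathlib
import Groth.Statements.S4135
import Groth.Agent.CMM.Basic

set_option autoImplicit false
universe u
open TensorProduct
attribute [local instance] LieRing.ofAssociativeRing
open SGA3y

namespace Groth.Agent.S4135

/-- Let k be a field of characteristic zero and H a cocommutative bialgebra over k which is connected
(every nonzero subcoalgebra contains 1). Then the canonical algebra homomorphism from the universal
enveloping algebra of the Lie algebra of primitive elements of H to H is bijective. -/
theorem result (k : Type u) [Field k] [CharZero k] (H : Type u) [Ring H]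
    [Bialgebra k H] [Coalgebra.IsCocomm k H] (hconn : SGA3y.IsConnectedCoalg k H) :
    Function.Bijective (UniversalEnvelopingAlgebra.lift k (SGA3y.primLie k H).incl) := by
  refine ⟨?_, fun a => ?_⟩
  · let L : LieSubalgebra k H := SGA3y.primLie k H
    let b := Module.Basis.ofVectorSpace k L
    letI : LinearOrder (Module.Basis.ofVectorSpaceIndex k L) := IsWellOrder.linearOrder WellOrderingRel
    have hli := Groth.Agent.CMM.indep (k := k) (H := H) b
    let B := Groth.Agent.PBW.basis b
    have hB : ∀ l, (UniversalEnvelopingAlgebra.lift k L.incl) (B l) = Groth.Agent.CMM.mono b l.1 := by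
      intro l
      rw [Groth.Agent.PBW.basis_apply, map_list_prod, List.map_map]
      simp [Groth.Agent.CMM.mono, Function.comp_def]
    show Function.Injective (UniversalEnvelopingAlgebra.lift k L.incl).toLinearMap
    rw [← LinearMap.ker_eq_bot, LinearMap.ker_eq_bot']
    intro u hu
    rw [← B.linearCombination_repr u, Finsupp.apply_linearCombination] at hu
    have : B.repr u = 0 := linearIndependent_iff.mp hli _ (by
      convert hu using 2
      exact congrArg _ (funext fun l => (hB l).symm))
    exact B.repr.injective (this.trans (map_zero _).symm)
  · exact Groth.Agent.CMM.mem_of_forall_prim hconn (UniversalEnvelopingAlgebra.lift k (SGA3y.primLie k H).incl).range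
      (fun x hx => ⟨UniversalEnvelopingAlgebra.ι k (⟨x, hx⟩ : SGA3y.primLie k H), by simp⟩) a

end Groth.Agent.S4135
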