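import Groth.Statements.S4143
import Groth.Agent.ArtGrpLib.ThickGrpd

set_option autoImplicit false
set_option backward.isDefEq.respectTransparency false
set_option backward.isDefEq.respectTransparency.types false
set_option linter.style.haveILetI false
universe u
open CategoryTheory MonoidalCategory CartesianMonoidalCategory MonObj GrpObj AlgebraicGeometry CategoryTheory.Limits
open GrpQ

namespace Groth.Agent.S4143

/-- Let A be a ring and (U, R, s, t, c) a groupoid scheme over Spec A which is an equivalence relation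
((t, s) a monomorphism) with s and t surjective, flat and of finite presentation. Let c₀ : U₀ → U be
a closed subscheme defined by a nilpotent ideal (a finite order thickening) which is saturated:
s⁻¹(U₀) and t⁻¹(U₀) are the same subscheme R₀ of R. If the induced equivalence relation R₀ ⇉ U₀ has
an fppf quotient scheme (a surjective flat locally finitely presented p₀ : U₀ → Y₀ with R₀ ≅ U₀
×_{Y₀} U₀), then so does R ⇉ U. -/
theorem result (A : Type u) [CommRing A] (G : Grpd.GroupoidScheme (Spec (CommRingCat.of A)))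
    [Mono G.j] [Surjective G.s] [Flat G.s] [LocallyOfFinitePresentation G.s] [QuasiCompact G.s] [QuasiSeparated G.s]
    [Surjective G.t] [Flat G.t] [LocallyOfFinitePresentation G.t] [QuasiCompact G.t] [QuasiSeparated G.t]
    (U₀ : Scheme.{u}) (c₀ : U₀ ⟶ G.U) (hc : MoreMor.IsFiniteOrderThickening c₀)
    (ψ : pullback G.s c₀ ≅ pullback G.t c₀) (hψ : ψ.hom ≫ pullback.fst G.t c₀ = pullback.fst G.s c₀)
    (h₀ : ∃ (Y₀ : Scheme.{u}) (p₀ : U₀ ⟶ Y₀), Surjective p₀ ∧ Flat p₀ ∧ LocallyOfFinitePresentation p₀ ∧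
      IsPullback (ψ.hom ≫ pullback.snd G.t c₀) (pullback.snd G.s c₀) p₀ p₀) :
    ∃ (Y : Scheme.{u}) (p : G.U ⟶ Y), Surjective p ∧ Flat p ∧ LocallyOfFinitePresentation p ∧ IsPullback G.t G.s p p := by
  haveI := hc.1.1
  haveI := hc.1.2
  obtain ⟨Y₀, p₀, -, hf, hp, hsq⟩ := h₀
  haveI := hf
  haveI := hp
  let U : Over (Spec (CommRingCat.of A)) := Over.mk G.pU
  let R : Over (Spec (CommRingCat.of A)) := Over.mk G.pR
  let t' : R ⟶ U := Over.homMk G.t G.t_over
  let s' : R ⟶ U := Over.homMk G.s G.s_over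
  haveI : Flat t'.left := inferInstanceAs (Flat G.t)
  haveI : LocallyOfFinitePresentation t'.left := inferInstanceAs (LocallyOfFinitePresentation G.t)
  have ht₀ : IsPullback (pullback.fst G.s c₀) (ψ.hom ≫ pullback.snd G.t c₀) G.t c₀ :=
    IsPullback.of_iso (IsPullback.of_hasPullback G.t c₀) ψ.symm (Iso.refl _) (Iso.refl _) (Iso.refl _)
      (by simp [← hψ]) (by simp) (by simp) (by simp)
  obtain ⟨Y, q, hs, hf', hp', hq⟩ := ArtGrpLib.exists_quotient_of_thickening (U := U) (R := R) (t := t') (s := s')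
    (ArtGrpLib.isEqvRel_of_mono G) c₀ hc.2 (pullback.fst G.s c₀) (ψ.hom ≫ pullback.snd G.t c₀)
    (pullback.snd G.s c₀) (IsPullback.of_hasPullback G.s c₀) ht₀ p₀ hsq
  exact ⟨Y.left, q.left, hs, hf', hp', GrpQuotLib.isPullback_left hq⟩

end Groth.Agent.S4143
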