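import Groth.Statements.S4148
import Groth.Agent.MaxTorus.Construct
-- import your own Groth.Agent.* helpers here

set_option autoImplicit false
universe u
open CategoryTheory MonoidalCategory CartesianMonoidalCategory MonObj GrpObj AlgebraicGeometry CategoryTheory.Limits
open SGA3x

namespace Groth.Agent.S4148

/-- Let H be an S-group scheme of multiplicative type and of finite type (fpqc-locally, then
Zariski-locally, of the form D_S(M) with M finitely generated). Then H has a maximal torus T and
every subtorus of H is contained in T; in particular T is the unique maximal torus. -/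
theorem result (S : Scheme.{u}) (H : Over S) [GrpObj H] (hH : SGA3x.IsMultTypeFT H) :
    ∃ (T : Over S) (_ : GrpObj T) (i : T ⟶ H), Red.IsMaximalTorus i ∧
      ∀ (R : Over S) [GrpObj R] (j : R ⟶ H) [IsMonHom j] [Mono j], Red.IsTorus R → ∃ f : R ⟶ T, f ≫ i = j := by
  obtain ⟨T, iT, j, hj, hmono, hT, hpart⟩ := MaxTorus.exists_torusPart hH
  haveI := hj
  haveI := hmono
  haveI : Mono j := Over.mono_of_mono_left j
  refine ⟨T, iT, j, ⟨hj, inferInstance, hT, fun s T' _ g _ _ f hT' hf => ?_⟩, fun R _ g _ _ hR => hpart.exists_factor hR g⟩
  haveI : Mono ((Over.pullback (Red.geomPt s)).map j) := Functor.map_mono _ _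
  haveI : Mono ((Over.pullback (Red.geomPt s)).map j).left := Over.mono_left_of_mono _
  obtain ⟨k, hk⟩ := (hpart.bc (Red.geomPt s)).exists_factor hT' g
  exact ⟨k, (cancel_mono ((Over.pullback (Red.geomPt s)).map j)).1 (by rw [Category.assoc, hk, hf, Category.id_comp]),
    (cancel_mono g).1 (by rw [Category.assoc, hf, hk, Category.id_comp])⟩

end Groth.Agent.S4148
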