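import Groth.Statements.S4150
import Groth.Agent.CommGrpAbLib.Basic
import Groth.Agent.GrpQuotLib.FieldQuot
import Groth.Agent.GrpQuotLib.Kernel
import Groth.Agent.S3036
import Groth.Agent.GrpSchLib.Separated
import Groth.Agent.MonoFibre.HomFlat
-- import your own Groth.Agent.* helpers here

set_option autoImplicit false
universe u
open CategoryTheory MonoidalCategory CartesianMonoidalCategory MonObj GrpObj AlgebraicGeometry CategoryTheory.Limits
open SGA3

namespace Groth.Agent.S4150

/-- Let k be a field. The category of commutative algebraic k-groups (commutative group objects in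
k-schemes whose underlying scheme is of finite type over k, as a full subcategory of commutative
group objects over Spec k) is an abelian category. -/
theorem result (k : Type u) [Field k] :
    Nonempty (Abelian (ObjectProperty.FullSubcategory
      (fun G : CommGrp (Over (Spec (CommRingCat.of k))) => LocallyOfFiniteType G.X.hom ∧ QuasiCompact G.X.hom))) := by
  let P : CommGrp (Over (Spec (CommRingCat.of k))) → Prop :=
    fun G => LocallyOfFiniteType G.X.hom ∧ QuasiCompact G.X.hom
  change Nonempty (Abelian (ObjectProperty.FullSubcategory P))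
  have himm : ∀ (Y : CommGrpAbLib.Cat P), IsClosedImmersion η[Y.obj.X].left := fun Y => by
    haveI := Y.property.1
    exact GrpSchLib.isClosedImmersion_unit
  refine CommGrpAbLib.nonempty_abelian (P := P) ⟨?_, fun A B => ?_, fun A B f K a ha hk => ?_, fun A B f => ?_, fun A B i hi => ?_⟩
  · exact ⟨inferInstanceAs (LocallyOfFiniteType (𝟙 (Spec (CommRingCat.of k)))),
      inferInstanceAs (QuasiCompact (𝟙 (Spec (CommRingCat.of k))))⟩
  · haveI := A.property.1
    haveI := A.property.2
    haveI := B.property.1
    haveI := B.property.2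
    exact ⟨inferInstanceAs (LocallyOfFiniteType (pullback.fst A.obj.X.hom B.obj.X.hom ≫ A.obj.X.hom)),
      inferInstanceAs (QuasiCompact (pullback.fst A.obj.X.hom B.obj.X.hom ≫ A.obj.X.hom))⟩
  · haveI := A.property.1
    haveI := A.property.2
    haveI := himm B
    haveI : IsClosedImmersion a.left := MorphismProperty.of_isPullback (GrpQuotLib.isPullback_left hk).flip
      ‹IsClosedImmersion η[B.obj.X].left›
    exact ⟨by rw [← Over.w a]; infer_instance, by rw [← Over.w a]; infer_instance⟩
  · haveI := A.property.1
    haveI := A.property.2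
    haveI := B.property.1
    haveI := B.property.2
    haveI : LocallyOfFinitePresentation A.obj.X.hom := LocallyOfFinitePresentation.iff_locallyOfFiniteType.mpr inferInstance
    obtain ⟨C, hC, p, m, hp, hm, hpm, hps, hpf, hpp, hmm, hCl, -⟩ :=
      GrpQuotLib.exists_quotient_by_flat_kernel A.obj.X B.obj.X (CommGrpAbLib.und f) MonoFibre.flat_to_spec_field
    haveI := hp
    haveI := hm
    haveI := hps
    haveI := hpf
    haveI := hpp
    haveI := hmm
    haveI := hCl
    haveI : LocallyOfFiniteType C.hom := inferInstance
    haveI := CommGrpAbLib.isComm_of_mono m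
    haveI : QuasiCompact C.hom := by
      haveI : CompactSpace A.obj.X.left := QuasiCompact.compactSpace_of_compactSpace A.obj.X.hom
      haveI : CompactSpace C.left := p.left.surjective.compactSpace p.left.continuous
      infer_instance
    exact ⟨⟨{ X := C }, ⟨inferInstance, inferInstance⟩⟩, @CommGrpAbLib.mkHom _ _ A ⟨{ X := C }, _⟩ p hp,
      @CommGrpAbLib.mkHom _ _ ⟨{ X := C }, _⟩ B m hm,
      CommGrpAbLib.hom_ext hpm, SchDesc.IsFpqc.of_locallyOfFinitePresentation p.left, (inferInstance : Mono m)⟩
  · haveI := A.property.1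
    haveI := A.property.2
    haveI := B.property.1
    haveI := B.property.2
    haveI := hi
    haveI : IsSeparated B.obj.X.hom := GrpSchLib.isSeparated_hom
    haveI : QuasiCompact (CommGrpAbLib.und i).left := by
      haveI : QuasiCompact ((CommGrpAbLib.und i).left ≫ B.obj.X.hom) := by rw [Over.w (CommGrpAbLib.und i)]; infer_instance
      exact QuasiCompact.of_comp (CommGrpAbLib.und i).left B.obj.X.hom
    haveI : IsClosedImmersion (CommGrpAbLib.und i).left := S3036.result k A.obj.X B.obj.X (CommGrpAbLib.und i)
    have hN : AlgGrp.IsNormalHom (CommGrpAbLib.und i) := fun T g n => ⟨n, by rw [mul_comm g, mul_inv_cancel_right]⟩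
    obtain ⟨Q, hQ, q, hq, -, hQl, hQq, hqs, hqf, hqp, hk⟩ :=
      GrpQuotLib.exists_quotientGrp_field A.obj.X B.obj.X (CommGrpAbLib.und i) hN
    haveI := hq
    haveI := hQl
    haveI := hqf
    haveI := hqs
    haveI := hqp
    haveI := hQq
    haveI : SchDesc.IsFpqc q.left := SchDesc.IsFpqc.of_locallyOfFinitePresentation q.left
    haveI := CommGrpAbLib.isComm_of_fpqc q
    exact ⟨⟨{ X := Q }, ⟨hQl, inferInstance⟩⟩, @CommGrpAbLib.mkHom _ _ B ⟨{ X := Q }, _⟩ q hq,
      (inferInstance : SchDesc.IsFpqc q.left), hk⟩

end Groth.Agent.S4150
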