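import Groth.Statements.S4183
import Groth.Agent.AnPts.Morph
-- import your own Groth.Agent.* helpers here

set_option autoImplicit false
open CategoryTheory AlgebraicGeometry Topology TopologicalSpace
open An

namespace Groth.Agent.S4183

/-- For affine n-space over ℂ, the map sending a ℂ-point to the values of the n coordinate functions is
a homeomorphism from its space of ℂ-points, with the complex topology of this problem, onto ℂ^n with
its usual topology. -/
theorem result (n : ℕ) :
    IsHomeomorph (fun (x : An.Pts (𝔸(Fin n; An.SC))) (i : Fin n) => x.evTop (AffineSpace.coord An.SC i)) := by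
  have hs : Function.Surjective (MvPolynomial.eval₂Hom (An.strHom (𝔸(Fin n; An.SC))) (AffineSpace.coord An.SC)) := by
    intro a
    obtain ⟨p, hp⟩ : ∃ p : MvPolynomial (Fin n) Γ(An.SC, ⊤),
        MvPolynomial.eval₂Hom ((𝔸(Fin n; An.SC) ↘ An.SC).appTop).hom (AffineSpace.coord An.SC) p = a := by
      haveI : IsIso (AffineSpace.isoOfIsAffine (Fin n) An.SC).hom.appTop :=
        inferInstanceAs (IsIso (Scheme.Γ.map (AffineSpace.isoOfIsAffine (Fin n) An.SC).hom.op))
      obtain ⟨q, hq⟩ := (ConcreteCategory.bijective_of_isIso (AffineSpace.isoOfIsAffine (Fin n) An.SC).hom.appTop).2 a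
      rw [AffineSpace.isoOfIsAffine_hom_appTop] at hq
      exact ⟨_, hq⟩
    refine ⟨MvPolynomial.map (Scheme.ΓSpecIso (CommRingCat.of ℂ)).hom.hom p, ?_⟩
    rw [MvPolynomial.eval₂Hom_map_hom, ← hp]
    congr 2
    ext c
    simp [An.strHom]
  have hc := Groth.Agent.AnPts.isClosedEmbedding_evTop (X := 𝔸(Fin n; An.SC)) (AffineSpace.coord An.SC) hs
  rw [isHomeomorph_iff_isEmbedding_surjective]
  refine ⟨hc.isEmbedding, fun v => ?_⟩
  let q : An.SC ⟶ 𝔸(Fin n; An.SC) := AffineSpace.homOfVector (𝟙 _) fun i => (Scheme.ΓSpecIso (CommRingCat.of ℂ)).inv (v i)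
  have hq : q ≫ (𝔸(Fin n; An.SC) ↘ An.SC) = 𝟙 _ := AffineSpace.homOfVector_over _ _
  refine ⟨⟨q, hq⟩, funext fun i => ?_⟩
  beta_reduce; rw [Groth.Agent.AnPts.evTop_eq]
  change (Scheme.ΓSpecIso (CommRingCat.of ℂ)).hom (q.appTop (AffineSpace.coord An.SC i)) = v i
  rw [AffineSpace.homOfVector_appTop_coord]
  exact (Scheme.ΓSpecIso (CommRingCat.of ℂ)).inv_hom_id_apply _

end Groth.Agent.S4183
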