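import Groth.Statements.S4187
import Groth.Agent.AnPts.Morph
-- import your own Groth.Agent.* helpers here

set_option autoImplicit false
open CategoryTheory AlgebraicGeometry Topology TopologicalSpace
open An

namespace Groth.Agent.S4187

/-- For X locally of finite type over ℂ, the underlying space of X is discrete if and only if the space
X(ℂ) (complex topology) is discrete. -/
theorem result (X : Scheme.{0}) [X.Over An.SC] [LocallyOfFiniteType (X ↘ An.SC)] :
    DiscreteTopology ↥X ↔ DiscreteTopology (An.Pts X) := by
  constructor
  · intro h
    exact DiscreteTopology.of_continuous_injective An.Pts.continuous_pt Groth.Agent.AnPts.pt_injective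
  · intro h
    have hclosed : ∀ x : X, IsClosed {x} → IsOpen ({x} : Set X) := fun x hx =>
      (Groth.Agent.AnPts.isOpen_iff (Groth.Agent.AnPts.isLocallyConstructible_of_isClosed hx)).2 (isOpen_discrete _)
    refine discreteTopology_iff_isOpen_singleton.2 fun y => ?_
    obtain ⟨a, ha⟩ := Groth.Agent.AnPts.exists_pts_mem (X := X) (Z := closure {y}) isClosed_closure.isLocallyClosed
      ⟨y, subset_closure rfl⟩
    have hopen := hclosed a.pt (Groth.Agent.AnPts.isClosed_pt a)
    obtain ⟨z, hz, hzy⟩ := mem_closure_iff.1 ha _ hopen rfl
    rw [Set.mem_singleton_iff] at hz hzy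
    subst hzy hz
    exact hopen

end Groth.Agent.S4187
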