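import Groth.Statements.S4204
import Groth.Agent.AnPts.Morph
-- import your own Groth.Agent.* helpers here

set_option autoImplicit false
open CategoryTheory AlgebraicGeometry Topology TopologicalSpace
open An

namespace Groth.Agent.S4204

/-- Let X be a scheme locally of finite type over ℂ. Then X is separated over ℂ if and only if X(ℂ) with
the complex topology is Hausdorff. -/
theorem result (X : Scheme.{0}) [X.Over An.SC] [LocallyOfFiniteType (X ↘ An.SC)] :
    IsSeparated (X ↘ An.SC) ↔ T2Space (An.Pts X) := by
  haveI := Groth.Agent.AnPts.isOver_str X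
  haveI : LocallyOfFiniteType (An.SC ↘ An.SC) := by rw [Groth.Agent.AnPts.SC_over_SC]; infer_instance
  rw [Groth.Agent.AnPts.isSeparated_iff]
  have hsub : ∀ a b : An.Pts An.SC, a = b := fun a b => Subtype.ext (by
    have ha := a.2
    have hb := b.2
    exact ((Category.comp_id _).symm.trans ((congrArg (fun m => a.1 ≫ m) Groth.Agent.AnPts.SC_over_SC.symm).trans ha)).trans
      ((Category.comp_id _).symm.trans ((congrArg (fun m => b.1 ≫ m) Groth.Agent.AnPts.SC_over_SC.symm).trans hb)).symm)
  refine ⟨fun h => ⟨fun a b hab => h a b (hsub _ _) hab⟩, fun h a b _ hab => t2_separation hab⟩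

end Groth.Agent.S4204
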