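import Groth.Statements.S4243
import Mathlib.FieldTheory.Finite.Polynomial
import Mathlib.RingTheory.MvPolynomial.Homogeneous

set_option autoImplicit false
open SGA4h

namespace Groth.Agent.S4243

/-- Let k be a finite field with q elements and P a nonzero homogeneous polynomial of degree d in r+1
variables over k. If P vanishes at every point of k^{r+1} (that is, the hypersurface P = 0 in
projective r-space passes through every rational point), then d ≥ q + 1. -/
theorem result (k : Type) [Field k] [Fintype k] (r d : ℕ)
    (P : MvPolynomial (Fin (r + 1)) k) (hP : P.IsHomogeneous d) (hP0 : P ≠ 0)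
    (hvan : ∀ x : Fin (r + 1) → k, MvPolynomial.eval x P = 0) :
    Fintype.card k + 1 ≤ d := by
  classical
  by_contra hlt
  have hd : d ≤ Fintype.card k := by omega
  have hq : 1 < Fintype.card k := Fintype.one_lt_card
  set q := Fintype.card k with hqdef
  let a : Fin (r + 1) → k := fun i => P.coeff (Finsupp.single i q)
  let P' := P - ∑ i, MvPolynomial.C (a i) * (MvPolynomial.X i ^ q - MvPolynomial.X i)
  have hco : ∀ e, P'.coeff e = P.coeff e -
      ∑ i, a i * ((if Finsupp.single i q = e then 1 else 0) - (if Finsupp.single i 1 = e then 1 else 0)) := fun e => by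
    simp only [P', MvPolynomial.coeff_sub, MvPolynomial.coeff_sum, MvPolynomial.coeff_C_mul, MvPolynomial.coeff_X_pow,
      MvPolynomial.coeff_X]
  have hdeg : ∀ e, P.coeff e ≠ 0 → ∑ i, e i = d := fun e he => by
    have := hP he
    rw [← this, Finsupp.weight_apply, Finsupp.sum_fintype _ _ (fun i => by simp)]
    simp
  have hzero : P' = 0 := by
    refine MvPolynomial.eq_zero_of_eval_eq_zero _ _ P' (fun v => ?_) ?_
    · simp [P', hvan v, hqdef, FiniteField.pow_card]
    · rw [MvPolynomial.mem_restrictDegree]
      intro e he i
      rw [MvPolynomial.mem_support_iff, hco] at he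
      by_contra hi
      push_neg at hi
      apply he
      have h1 : ∀ j, Finsupp.single j 1 ≠ e := fun j hj => by
        have := congrArg (fun f => f i) hj
        simp [Finsupp.single_apply] at this
        split_ifs at this <;> omega
      simp only [h1, if_false, sub_zero, mul_ite, mul_one, mul_zero]
      by_cases hje : ∃ j, Finsupp.single j q = e
      · obtain ⟨j, rfl⟩ := hje
        rw [Finset.sum_eq_single j]
        · simp [a]
        · intro l _ hl
          rw [if_neg]
          intro hle
          rcases (Finsupp.single_eq_single_iff _ _ _ _).1 hle with ⟨rfl, _⟩ | ⟨h0, _⟩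
          · exact hl rfl
          · omega
        · simp
      · push_neg at hje
        simp only [hje, if_false, Finset.sum_const_zero, sub_zero]
        by_contra hne
        refine hje i (Finsupp.ext fun j => ?_)
        have hs := hdeg e hne
        rw [← Finset.add_sum_erase _ _ (Finset.mem_univ i)] at hs
        by_cases hj : i = j
        · subst hj; simp; omega
        · have h0 : ∑ x ∈ Finset.univ.erase i, e x = 0 := by omega
          rw [Finset.sum_eq_zero_iff] at h0
          simp [Finsupp.single_apply, hj, h0 j (Finset.mem_erase.2 ⟨Ne.symm hj, Finset.mem_univ _⟩)]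
  have ha : ∀ i, a i = 0 := fun i => by
    have h := congrArg (MvPolynomial.coeff (Finsupp.single i 1)) hzero
    rw [hco, MvPolynomial.coeff_zero, Finset.sum_eq_single i] at h
    · have hne : Finsupp.single i q ≠ Finsupp.single i 1 := fun h => by
        have := Finsupp.single_injective i h; omega
      simp [hne] at h
      by_contra hai
      have h1 := hdeg _ hai
      have h2 : P.coeff (Finsupp.single i 1) ≠ 0 := fun h0 => hai (by simpa [h0] using h)
      have h3 := hdeg _ h2
      simp [Finsupp.single_apply] at h1 h3
      omega
    · intro l _ hl
      have h1 : Finsupp.single l q ≠ Finsupp.single i 1 := fun h => by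
        rcases (Finsupp.single_eq_single_iff _ _ _ _).1 h with ⟨rfl, _⟩ | ⟨h0, _⟩
        · exact hl rfl
        · omega
      have h2 : Finsupp.single l 1 ≠ Finsupp.single i 1 := fun h => hl (Finsupp.single_left_injective one_ne_zero h)
      simp [h1, h2]
    · simp
  exact hP0 (by simpa [P', ha] using hzero)

end Groth.Agent.S4243
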