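import Groth.Statements.S4256


set_option autoImplicit false
open scoped BigOperators
open SGA4h

namespace Groth.Agent.S4256

theorem map_sum_of_addChar {k R : Type*} [AddCommMonoid k] [CommMonoid R] (ψ : AddChar k R) {n : ℕ} (x : Fin n → k) :
    ψ (∑ i, x i) = ∏ i, ψ (x i) := by
  classical
  induction (Finset.univ : Finset (Fin n)) using Finset.induction_on with
  | empty => simp [AddChar.map_zero_eq_one]
  | insert a s ha ih => simp [Finset.sum_insert ha, Finset.prod_insert ha, AddChar.map_add_eq_mul, ih]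

/-- Let k be a finite field, ψ a nontrivial additive character of k with values in a domain R, and n ≥
1. Then the generalised Kloosterman sum with parameter 0, Σ ψ(x_1 + ⋯ + x_n) over all (x_1, …, x_n)
∈ k^n with x_1 ⋯ x_n = 0, equals (-1)^{n-1}. -/
theorem result (k : Type) [Field k] [Fintype k] [DecidableEq k] (R : Type) [CommRing R] [IsDomain R]
    (ψ : AddChar k R) (hψ : ψ ≠ 1) (n : ℕ) (hn : 1 ≤ n) :
    ∑ x ∈ (Finset.univ : Finset (Fin n → k)).filter (fun x => ∏ i, x i = 0), ψ (∑ i, x i) = (-1) ^ (n - 1) := by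
  classical
  have hall : ∑ x : Fin n → k, ψ (∑ i, x i) = 0 := by
    have e : ∀ x : Fin n → k, ψ (∑ i, x i) = ∏ i, ψ (x i) := fun x => map_sum_of_addChar ψ x
    simp only [e, ← Fintype.piFinset_univ, ← Finset.prod_univ_sum, AddChar.sum_eq_zero_of_ne_one hψ,
      Finset.prod_const, Finset.card_univ, Fintype.card_fin]
    exact zero_pow (by omega)
  have hne : (Finset.univ : Finset (Fin n → k)).filter (fun x => ¬ ∏ i, x i = 0) =
      Fintype.piFinset fun _ => Finset.univ.erase (0 : k) := by
    ext x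
    simp [Finset.prod_eq_zero_iff, Fintype.mem_piFinset]
  have hnz : ∑ x ∈ (Finset.univ : Finset (Fin n → k)).filter (fun x => ¬ ∏ i, x i = 0), ψ (∑ i, x i) = (-1) ^ n := by
    rw [hne, Finset.sum_congr rfl fun x _ => map_sum_of_addChar ψ x, ← Finset.prod_univ_sum]
    simp [Finset.sum_erase_eq_sub, AddChar.sum_eq_zero_of_ne_one hψ]
  have h := Finset.sum_filter_add_sum_filter_not Finset.univ (fun x : Fin n → k => ∏ i, x i = 0) (fun x => ψ (∑ i, x i))
  rw [hall, hnz] at h
  obtain ⟨m, rfl⟩ := Nat.exists_eq_add_of_le' hn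
  rw [eq_neg_of_add_eq_zero_left h, Nat.add_sub_cancel, pow_succ]
  simp

end Groth.Agent.S4256
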