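import Groth.Statements.S4267
import Groth.Agent.TwistShriek.PerfRpush
import Groth.Agent.DCohLib.OpenD
import Groth.Agent.PerfMorLib.Scheme
import Groth.Agent.DCohMore.BCGeneral
-- import your own Groth.Agent.* helpers here

set_option autoImplicit false
set_option backward.isDefEq.respectTransparency false
set_option maxHeartbeats 800000
set_option synthInstance.maxHeartbeats 200000
universe u
open CategoryTheory CategoryTheory.Limits AlgebraicGeometry
open Groth.Agent
attribute [local instance] HasDerivedCategory.standard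
open KSix

namespace Groth.Agent.S4267

/-- In the case where the base is locally Noetherian: let f : X ⟶ Y be a proper morphism which is
perfect (affine-locally of finite tor-dimension and pseudo-coherent), with Y locally Noetherian, and
E a bounded below perfect object of D(O_X). Assuming Rf_* exists, Rf_*E is a perfect object of
D(O_Y). -/
theorem result {X Y : Scheme.{u}} [IsLocallyNoetherian Y] (f : X ⟶ Y) [IsProper f]
    (hf : MoreMor.IsPerfectMor f) [DCoh.HasRpush f] (E : DCoh.D X) (b : ℤ) [E.IsGE b] (hE : DCoh.IsPerfect E) :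
    DCoh.IsPerfect ((DCoh.Rpush f).obj E) := by
    refine DCohLib.isPerfect_of_local fun y => ?_
    obtain ⟨V, hV, hyV, -⟩ := exists_isAffineOpen_mem_and_subset (x := y) (U := (⊤ : Y.Opens)) trivial
    haveI : IsAffine (V : Scheme.{u}) := hV
    haveI : IsLocallyNoetherian (V : Scheme.{u}) := isLocallyNoetherian_of_isOpenImmersion V.ι
    haveI : CompactSpace (V : Scheme.{u}) := inferInstance
    haveI : IsNoetherian (V : Scheme.{u}) := {}
    haveI : IsProper (f ∣_ V) := IsZariskiLocalAtTarget.restrict ‹IsProper f› V
    haveI : IsLocallyNoetherian ((f ⁻¹ᵁ V : X.Opens) : Scheme.{u}) := LocallyOfFiniteType.isLocallyNoetherian (f ∣_ V)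
    haveI : CompactSpace ((f ⁻¹ᵁ V : X.Opens) : Scheme.{u}) :=
      QuasiCompact.compactSpace_of_compactSpace (f ∣_ V)
    haveI : IsNoetherian ((f ⁻¹ᵁ V : X.Opens) : Scheme.{u}) := {}
    haveI := DCohMore.BC.hasRpush (f ∣_ V)
    refine ⟨V, V.ι, inferInstance, ⟨y, hyV⟩, rfl, ?_⟩
    obtain ⟨e⟩ := DCohLib.nonempty_restrictD_rpush f V
    exact DCohLib.isPerfect_iso (e.app E).symm (TwistShriek.isPerfect_rpush_perfectMor (f ∣_ V)
      (PerfMorLib.isPerfectMor_of_flat_baseChange (isPullback_morphismRestrict f V).flip hf) _
      (DCohLib.isPerfect_restrict _ hE))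

end Groth.Agent.S4267
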