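import Groth.Statements.S4280
import Groth.Agent.S4278
import Groth.Agent.NumBddLib.Proper
import Groth.Agent.HilbLib.Multi

set_option autoImplicit false
universe u
open CategoryTheory CategoryTheory.Limits AlgebraicGeometry
open Pic13

namespace Groth.Agent.S4280

open CategoryTheory CategoryTheory.Limits AlgebraicGeometry

set_option backward.isDefEq.respectTransparency false

open Groth.Agent

/-- Let k be an algebraically closed field, X a proper k-scheme carrying an ample invertible module H,
and L an invertible O_X-module, with inverse L', which is τ-equivalent to zero. Then L^{⊗ m} ⊗ H and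
L'^{⊗ m} ⊗ H are ample for every m ≥ 0. -/
theorem result (k : Type u) [Field k] [IsAlgClosed k] (X : Scheme.{u}) [X.Over (Spec (CommRingCat.of k))]
    [IsProper (X ↘ Spec (CommRingCat.of k))]
    (H : X.Modules) (hH : CohB1.IsAmple H) (L L' : X.Modules) (hL : PicF.IsInvertible L)
    (hLL' : Nonempty (CohB1.tensorMod L L' ≅ Coh.structureModule X)) (hτ : Pic13.IsTauEquivZero k X L) (m : ℕ) :
    CohB1.IsAmple (CohB1.tensorMod (CohB1.tensorPow L m) H) ∧ CohB1.IsAmple (CohB1.tensorMod (CohB1.tensorPow L' m) H) := by
  have hn := S4278.result k X L hL hτ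
  obtain ⟨e⟩ := hLL'
  have hL' : PicF.IsInvertible L' := AmpleLib.isInvertible_of_tensor_iso (AmpleLib.comm _ _ ≪≫ e)
  have hn' := NumBdd.numTriv_inverse k hL hL' e hn
  have key : ∀ A : X.Modules, PicF.IsInvertible A → Pic13.IsNumEquivZero k X A →
      CohB1.IsAmple (CohB1.tensorMod (CohB1.tensorPow A m) H) := by
    intro A hA hAn
    have hAm := AmpleLib.isInvertible_tensorPow hA m
    refine Nakai.isAmple_of_cl k hAm hH (NumBdd.nefP_of_numTriv k hAm (NumBdd.numTriv_pow k hA hAn m))
      (AmpleLib.isInvertible_tensor hAm hH.1) (a := 1) (b := 1) one_pos ?_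
    rw [Nakai.cl_tensor hAm hH.1, Nat.cast_one, one_mul, one_mul, add_sub_cancel_left, pow_two]
    exact Ideal.mul_mem_mul (Nakai.cl_mem _) (Nakai.cl_mem _)
  exact ⟨key L hL hn, key L' hL' hn'⟩

end Groth.Agent.S4280
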