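import Groth.Statements.S4290
import Groth.Agent.GenCutLib.Num

set_option autoImplicit false
universe u
open CategoryTheory CategoryTheory.Limits AlgebraicGeometry
open Pic13

namespace Groth.Agent.S4290

/-- Let k be an algebraically closed field, X an irreducible proper k-scheme of dimension r = s + 2 ≥ 2
carrying an ample invertible module H, and L an invertible module with (c₁(L)·c₁(H)^{r-1}) = 0 and
(c₁(L)²·c₁(H)^{r-2}) ≥ 0. Then L is numerically equivalent to zero. Intersection numbers are those
of FGA.intNum, which takes inverses H', L' of H, L as arguments. -/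
theorem result (k : Type u) [Field k] [IsAlgClosed k] (X : Scheme.{u}) [X.Over (Spec (CommRingCat.of k))]
    [IsProper (X ↘ Spec (CommRingCat.of k))] [IrreducibleSpace X] (s : ℕ) (hdim : topologicalKrullDim X = (s + 2 : ℕ))
    (H H' L L' : X.Modules) (hH : CohB1.IsAmple H) (hL : PicF.IsInvertible L)
    (hHH' : Nonempty (CohB1.tensorMod H H' ≅ Coh.structureModule X)) (hLL' : Nonempty (CohB1.tensorMod L L' ≅ Coh.structureModule X))
    (horth : FGA.intNum k X (s + 2) (Matrix.vecCons L' (fun _ : Fin (s + 1) => H')) (Coh.structureModule X) = 0)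
    (hsq : 0 ≤ FGA.intNum k X (s + 2) (Matrix.vecCons L' (Matrix.vecCons L' (fun _ : Fin s => H'))) (Coh.structureModule X)) :
    Pic13.IsNumEquivZero k X L := by
  obtain ⟨eH⟩ := hHH'
  obtain ⟨eL⟩ := hLL'
  have hH' : PicF.IsInvertible H' :=
    Groth.Agent.AmpleLib.isInvertible_of_tensor_iso (Groth.Agent.AmpleLib.comm _ _ ≪≫ eH)
  have hL' : PicF.IsInvertible L' :=
    Groth.Agent.AmpleLib.isInvertible_of_tensor_iso (Groth.Agent.AmpleLib.comm _ _ ≪≫ eL)
  have hM₁ : ∀ i : Fin (s + 2), PicF.IsInvertible (Matrix.vecCons L' (fun _ : Fin (s + 1) => H') i) :=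
    fun i => Fin.cases (motive := fun i => PicF.IsInvertible (Matrix.vecCons L' (fun _ : Fin (s + 1) => H') i))
      (by exact hL') (fun _ => by exact hH') i
  have hM₂ : ∀ i : Fin (s + 2), PicF.IsInvertible (Matrix.vecCons L' (Matrix.vecCons L' (fun _ : Fin s => H')) i) :=
    fun i => Fin.cases
      (motive := fun i => PicF.IsInvertible (Matrix.vecCons L' (Matrix.vecCons L' (fun _ : Fin s => H')) i))
      hL' (fun j => Fin.cases
        (motive := fun j => PicF.IsInvertible (Matrix.vecCons L' (fun _ : Fin s => H') j)) hL' (fun _ => hH') j) i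
  rw [Groth.Agent.IntLib.intNum_eq k hdim.le _ _ hM₁, Fin.prod_univ_succ] at horth
  rw [Groth.Agent.IntLib.intNum_eq k hdim.le _ _ hM₂, Fin.prod_univ_succ, Fin.prod_univ_succ, ← mul_assoc] at hsq
  change Groth.Agent.IntLib.pairing k (Coh.structureModule X) (Groth.Agent.IntLib.dif hL' *
    ∏ _i : Fin (s + 1), Groth.Agent.IntLib.dif hH') = 0 at horth
  change 0 ≤ Groth.Agent.IntLib.pairing k (Coh.structureModule X) (Groth.Agent.IntLib.dif hL' *
    Groth.Agent.IntLib.dif hL' * ∏ _i : Fin s, Groth.Agent.IntLib.dif hH') at hsq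
  rw [Finset.prod_const, Finset.card_univ, Fintype.card_fin] at horth hsq
  exact Groth.Agent.GenCut.numTriv_of_index k hdim hH hH' hL hL' eH eL horth hsq

end Groth.Agent.S4290
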