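import Groth.Statements.S4302
import Groth.Agent.TwistShriek.ProjBound
-- import your own Groth.Agent.* helpers here

set_option autoImplicit false
set_option backward.isDefEq.respectTransparency false
set_option maxHeartbeats 800000
set_option synthInstance.maxHeartbeats 200000
universe u
open CategoryTheory CategoryTheory.Limits AlgebraicGeometry
open Groth.Agent
attribute [local instance] HasDerivedCategory.standard
open KSix

namespace Groth.Agent.S4302

/-- Over an affine base Y, through the embedding criterion for perfect amplitude: let i : X ⟶ P^r_Y be a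
closed immersion with Y affine, f : X ⟶ Y the composite with the projection, and E a bounded object
of D(O_X) such that Ri_*E has perfect amplitude in [a, b] on P^r_Y. Assuming the derived functors
exist, Rf_*E has perfect amplitude in [a, b + r] on Y (r bounds the cohomological dimension of f on
quasi-coherent modules). -/
theorem result {X Y : Scheme.{u}} [IsAffine Y] (r : ℕ)
    (i : X ⟶ CohB1.ProjSpaceOver r Y) [IsClosedImmersion i]
    [DCoh.HasRpush i] [DCoh.HasRpush (i ≫ CohB1.ProjSpaceOver.toBase r Y)]
    (E : DCoh.D X) (a₀ b₀ : ℤ) [E.IsGE a₀] [E.IsLE b₀] (a b : ℤ)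
    (hE : KSix.HasPerfectAmplitudeIn a b ((DCoh.Rpush i).obj E)) :
    KSix.HasPerfectAmplitudeIn a (b + r) ((DCoh.Rpush (i ≫ CohB1.ProjSpaceOver.toBase r Y)).obj E) := by
  haveI := Groth.Agent.DCohMore.BC.hasRpush (CohB1.ProjSpaceOver.toBase r Y)
  obtain ⟨e⟩ := TwistShriek.nonempty_rpush_proj i E
  obtain ⟨e'⟩ := Groth.Agent.FMKLib.nonempty_rpush_closed (i := i)
  have h := TwistShriek.hasPerfectAmplitudeIn_rpush_toBase _ a b hE
  intro x
  obtain ⟨V, hx, hV⟩ := h x
  exact ⟨V, hx, fun F ⟨eF⟩ => hV F ⟨eF ≪≫ e ≪≫ (DCoh.Rpush (CohB1.ProjSpaceOver.toBase r Y)).mapIso (e'.app E).symm⟩⟩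

end Groth.Agent.S4302
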