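import Groth.Statements.S4303
import Groth.Agent.NumBddLib.BddEuler
import Groth.Agent.NakaiLib.Ring

set_option autoImplicit false
universe u
open CategoryTheory CategoryTheory.Limits AlgebraicGeometry
open Pic13

namespace Groth.Agent.S4303

open CategoryTheory CategoryTheory.Limits AlgebraicGeometry

set_option backward.isDefEq.respectTransparency false

open Groth.Agent
open Groth.Agent.IntLib (PicRing pairing dif inv')
open Groth.Agent.Nakai (cl cl_mem Aug)

/-- (i) implies (iii), over S = Spec k with k algebraically closed: let X be a proper integral k-scheme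
of dimension r = s + 2 ≥ 2 carrying an ample invertible module H with inverse H', and P a family of
invertible O_X-modules. Condition (iii): as L runs through P (with inverse L'), the degree
(c₁(L)·c₁(H)^{r-1}) stays bounded and (c₁(L)²·c₁(H)^{r-2}) stays bounded below; condition (i): P is
bounded. Intersection numbers are those of FGA.intNum, taking the inverse modules as arguments. -/
theorem result (k : Type u) [Field k] [IsAlgClosed k] (X : Scheme.{u})
    [X.Over (Spec (CommRingCat.of k))] [IsProper (X ↘ Spec (CommRingCat.of k))] [IsIntegral X] (s : ℕ)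
    (hdim : topologicalKrullDim X = (s + 2 : ℕ)) (H H' : X.Modules) (hH : CohB1.IsAmple H)
    (hHH' : Nonempty (CohB1.tensorMod H H' ≅ Coh.structureModule X))
    (P : X.Modules → Prop) (hP : ∀ L, P L → PicF.IsInvertible L)
    (hb : Pic13.IsBounded k X P) :
    ∃ B : ℤ, ∀ L L' : X.Modules, P L → Nonempty (CohB1.tensorMod L L' ≅ Coh.structureModule X) →
      |FGA.intNum k X (s + 2) (Matrix.vecCons L' (fun _ : Fin (s + 1) => H')) (Coh.structureModule X)| ≤ B ∧
      -B ≤ FGA.intNum k X (s + 2) (Matrix.vecCons L' (Matrix.vecCons L' (fun _ : Fin s => H'))) (Coh.structureModule X) := by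
  haveI := EulerIneqLib.isNoetherian_proper (X := X) k
  obtain ⟨eH⟩ := hHH'
  have hH' : PicF.IsInvertible H' := AmpleLib.isInvertible_of_tensor_iso (AmpleLib.comm _ _ ≪≫ eH)
  have hd : dif hH' ∈ Aug X := by
    rw [← neg_neg (dif hH'), ← Nakai.cl_eq_neg_dif]; exact (Ideal.neg_mem_iff _).2 (cl_mem _)
  obtain ⟨z1, hz1⟩ : ∃ z, z = dif hH' ^ (s + 1) := ⟨_, rfl⟩
  obtain ⟨z2, hz2⟩ : ∃ z, z = dif hH' ^ s := ⟨_, rfl⟩
  let O := Coh.structureModule X
  let g1 := fun L : X.Modules => pairing k L z1 - pairing k O z1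
  let g2 := fun L : X.Modules => pairing k (CohB1.tensorMod L L) z2 - 2 * pairing k L z2 + pairing k O z2
  obtain ⟨B1, hB1⟩ : BddAbove ((fun L => |g1 L|) '' {L | P L}) := by
    refine Set.Finite.bddAbove (((NumBdd.finite_pairing_of_bounded k hb z1).image
      (fun a => |a - pairing k O z1|)).subset ?_)
    rintro _ ⟨L, hL, rfl⟩
    exact ⟨_, ⟨L, hL, rfl⟩, rfl⟩
  obtain ⟨B2, hB2⟩ : BddAbove ((fun L => |g2 L|) '' {L | P L}) := by
    refine Set.Finite.bddAbove (((NumBdd.finite_pairing_of_bounded k (NumBdd.isBounded_square k hb) z2).image2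
      (fun a b => |a - 2 * b + pairing k O z2|) (NumBdd.finite_pairing_of_bounded k hb z2)).subset ?_)
    rintro _ ⟨L, hL, rfl⟩
    exact ⟨_, ⟨_, ⟨L, hL, ⟨Iso.refl _⟩⟩, rfl⟩, _, ⟨L, hL, rfl⟩, rfl⟩
  refine ⟨max B1 B2, fun L L' hL ⟨e⟩ => ?_⟩
  have hLi := hP L hL
  have hL' : PicF.IsInvertible L' := AmpleLib.isInvertible_of_tensor_iso (AmpleLib.comm _ _ ≪≫ e)
  have hdm : dif hL' ∈ Aug X := by
    rw [← neg_neg (dif hL'), ← Nakai.cl_eq_neg_dif]; exact (Ideal.neg_mem_iff _).2 (cl_mem _)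
  have hc := Nakai.cl_mul_inverse_mem hLi hL' e
  have hOc := DevLib.isCoh_structureModule X
  have hlt : topologicalKrullDim (CohB1.support O) < ((s + 2 + 1 : ℕ) : WithBot ℕ∞) :=
    lt_of_le_of_lt (Topology.IsInducing.subtypeVal.topologicalKrullDim_le.trans hdim.le)
      (by exact_mod_cast Nat.lt_succ_self _)
  have hu : pairing k O (dif hL' * z1) = g1 L := by
    have h : pairing k O (cl hLi * z1) = g1 L := by
      rw [Nakai.cl, sub_mul, one_mul, map_sub, IntLib.pairing_of_mul]
      show pairing k (CohB1.tensorMod O L) z1 - _ = _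
      rw [IntLib.pairing_iso k (AmpleLib.unitL L)]
    rw [← h]
    refine (Nakai.pairing_congr k ?_ hOc hlt).symm
    rw [← sub_mul, show s + 2 + 1 = 2 + (s + 1) by omega, pow_add]
    exact Ideal.mul_mem_mul hc (hz1 ▸ Ideal.pow_mem_pow hd _)
  have hv : pairing k O (dif hL' * (dif hL' * z2)) = g2 L := by
    have h : pairing k O (cl hLi * (cl hLi * z2)) = g2 L := by
      rw [Nakai.cl, show (MonoidAlgebra.of ℤ _ (inv' hLi) - 1) * ((MonoidAlgebra.of ℤ _ (inv' hLi) - 1) * z2) =
        MonoidAlgebra.of ℤ _ (inv' hLi) * (MonoidAlgebra.of ℤ _ (inv' hLi) * z2) -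
          (2 : ℤ) • (MonoidAlgebra.of ℤ _ (inv' hLi) * z2) + z2 by rw [zsmul_eq_mul]; push_cast; ring,
        map_add, map_sub, map_zsmul, smul_eq_mul]
      simp only [IntLib.pairing_of_mul]
      rw [IntLib.pairing_iso k (AmpleLib.tIso (AmpleLib.unitL L) (Iso.refl L)),
        IntLib.pairing_iso k (AmpleLib.unitL L)]
    rw [← h]
    refine (Nakai.pairing_congr k ?_ hOc hlt).symm
    rw [show cl hLi * (cl hLi * z2) - dif hL' * (dif hL' * z2) =
      (cl hLi - dif hL') * ((cl hLi + dif hL') * z2) by ring, show s + 2 + 1 = 2 + (1 + s) by omega, pow_add, pow_add _ 1 s, pow_one]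
    exact Ideal.mul_mem_mul hc (Ideal.mul_mem_mul (Ideal.add_mem _ (cl_mem _) hdm) (hz2 ▸ Ideal.pow_mem_pow hd _))
  have h1 : |g1 L| ≤ B1 := hB1 ⟨L, hL, rfl⟩
  have h2 : |g2 L| ≤ B2 := hB2 ⟨L, hL, rfl⟩
  refine ⟨?_, ?_⟩
  · rw [IntLib.intNum_eq k hdim.le _ _ (Fin.cases hL' fun _ => hH'), Fin.prod_univ_succ]
    show |pairing k O (dif hL' * ∏ _i : Fin (s + 1), dif hH')| ≤ _
    rw [Finset.prod_const, Finset.card_univ, Fintype.card_fin, ← hz1]
    exact le_of_eq_of_le (congrArg abs hu) (h1.trans (le_max_left _ _))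
  · rw [IntLib.intNum_eq k hdim.le _ _ (Fin.cases hL' (Fin.cases hL' fun _ => hH')), Fin.prod_univ_succ,
      Fin.prod_univ_succ]
    show _ ≤ pairing k O (dif hL' * (dif hL' * ∏ _i : Fin s, dif hH'))
    rw [Finset.prod_const, Finset.card_univ, Fintype.card_fin, ← hz2]
    exact (neg_le.1 ((neg_le_abs _).trans (le_of_eq_of_le (congrArg abs hv) (h2.trans (le_max_right _ _)))))

end Groth.Agent.S4303
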