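import Groth.Statements.S4308
import Groth.Agent.AnStalkLib.ModStalk

set_option backward.isDefEq.respectTransparency false
set_option backward.isDefEq.respectTransparency.types false

set_option autoImplicit false
open CategoryTheory AlgebraicGeometry Topology TopologicalSpace
open An

namespace Groth.Agent.S4308

theorem faithfullyFlat_phi {X : Scheme.{0}} [X.Over An.SC] [LocallyOfFiniteType (X ↘ An.SC)] [IsReduced X]
    (x : An.Pts X) :
    letI := (Groth.Agent.AnStalkLib.phi x).toAlgebra
    Module.FaithfullyFlat (X.presheaf.stalk x.pt) ((An.anSpace X).presheaf.stalk x) :=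
  (Groth.Agent.AnStalkLib.sameCompl x).faithfullyFlat

theorem mono_map {X : Scheme.{0}} [X.Over An.SC] [LocallyOfFiniteType (X ↘ An.SC)] [IsReduced X]
    {M N : X.Modules} (φ : M ⟶ N) [Mono φ] : Mono ((An.analytify X).map φ) := by
  refine Groth.Agent.AnStalkLib.mono_of_stalk _ fun x => ?_
  letI := (Groth.Agent.AnStalkLib.phi x).toAlgebra
  haveI := faithfullyFlat_phi x
  obtain ⟨a, b, h⟩ := Groth.Agent.AnStalkLib.exists_aStalk_square φ x
  intro z w hzw
  obtain ⟨z, rfl⟩ := a.surjective z
  obtain ⟨w, rfl⟩ := a.surjective w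
  rw [h, h] at hzw
  exact congrArg a ((Module.FaithfullyFlat.lTensor_injective_iff_injective _ _ _).mpr
    ((Groth.Agent.PullbackMod.mono_iff_stalk φ).mp ‹_› (An.Pts.pt x)) (b.injective hzw))

theorem eq_zero_of_map {X : Scheme.{0}} [X.Over An.SC] [LocallyOfFiniteType (X ↘ An.SC)] [IsReduced X]
    {M N : X.Modules} (φ : M ⟶ N) (h0 : (An.analytify X).map φ = 0) : φ = 0 := by
  have hx : ∀ x : An.Pts X, Groth.Agent.PullbackMod.stalkLin φ x.pt = 0 := by
    intro x
    letI := (Groth.Agent.AnStalkLib.phi x).toAlgebra
    haveI := faithfullyFlat_phi x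
    obtain ⟨a, b, h⟩ := Groth.Agent.AnStalkLib.exists_aStalk_square φ x
    refine (Module.FaithfullyFlat.zero_iff_lTensor_zero _ ((An.anSpace X).presheaf.stalk x) _).mpr
      (LinearMap.ext fun z => b.injective ?_)
    rw [← h, h0, LinearMap.zero_apply, map_zero]
    obtain ⟨V, hV, w, hw⟩ := TopCat.Presheaf.exists_germ_eq (F := Groth.Agent.AnStalkLib.aP
      (Groth.Agent.AnStalkLib.anOb M)) (a z)
    rw [← hw, Groth.Agent.AnStalkLib.aStalk_germ]
    exact map_zero _
  refine (Groth.Agent.PullbackMod.eq_zero_iff_stalk φ).mpr fun y => LinearMap.ext fun z => ?_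
  obtain ⟨U, hy, m, rfl⟩ := TopCat.Presheaf.exists_germ_eq M.presheaf z
  rw [Groth.Agent.PullbackMod.stalkLin_germ, LinearMap.zero_apply]
  have : φ.app U m = 0 := by
    let S : TopCat.Sheaf Ab X := ⟨N.presheaf, N.isSheaf⟩
    refine (TopCat.Presheaf.section_ext S U _ _ fun p hp => ?_)
    by_contra hne
    obtain ⟨a, ha, hane⟩ := Groth.Agent.AnPts.exists_pts_mem
      (Z := (U : Set X) ∩ {q | ∀ (W : X.Opens) (hW : W ≤ U), q ∈ W → N.presheaf.map (homOfLE hW).op (φ.app U m) ≠ 0})
      (U.2.isLocallyClosed.inter (by
        refine IsClosed.isLocallyClosed ⟨isOpen_iff_forall_mem_open.2 fun q hq => ?_⟩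
        simp only [Set.mem_compl_iff, Set.mem_ofPred_eq, not_forall, not_not] at hq
        obtain ⟨W, hW, hqW, h0⟩ := hq
        refine ⟨W, fun r hr => ?_, W.2, hqW⟩
        simp only [Set.mem_compl_iff, Set.mem_ofPred_eq, not_forall, not_not]
        exact ⟨W, hW, hr, h0⟩))
      ⟨p, hp, fun W hW hpW h0 => hne (by
        show N.presheaf.germ U p hp (φ.app U m) = N.presheaf.germ U p hp 0
        rw [← N.presheaf.germ_res_apply (homOfLE hW) p hpW, h0, map_zero, map_zero])⟩
    have e := LinearMap.congr_fun (hx a) (M.presheaf.germ U a.pt ha m)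
    rw [Groth.Agent.PullbackMod.stalkLin_germ, LinearMap.zero_apply, ← map_zero (N.presheaf.germ U a.pt ha).hom] at e
    obtain ⟨W, haW, i₁, i₂, he⟩ := TopCat.Presheaf.germ_eq (F := N.presheaf) a.pt ha ha _ _ e
    refine hane W (leOfHom i₁) haW ?_
    rw [show (homOfLE (leOfHom i₁)) = i₁ from rfl, he, map_zero]
  exact (congrArg (N.presheaf.germ U y hy) this).trans (map_zero _)

/-- For X reduced, where the associated analytic space is X(ℂ) with the sheaf of holomorphic functions:
the functor M ↦ M^an from O_X-modules to O_{X^an}-modules is exact, faithful and conservative (right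
exactness being automatic for this left adjoint, the content is left exactness, faithfulness and
conservativity). -/
theorem result (X : Scheme.{0}) [X.Over An.SC] [LocallyOfFiniteType (X ↘ An.SC)] [IsReduced X] :
    Limits.PreservesFiniteLimits (An.analytify X) ∧ Limits.PreservesFiniteColimits (An.analytify X) ∧
      (An.analytify X).Faithful ∧ (An.analytify X).ReflectsIsomorphisms := by
  haveI : (An.analytify X).IsLeftAdjoint := (An.analytifyAdj X).isLeftAdjoint
  haveI : Limits.PreservesColimitsOfSize.{0, 0} (An.analytify X) := (An.analytifyAdj X).leftAdjoint_preservesColimits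
  haveI : (An.analytify X).PreservesZeroMorphisms :=
    Functor.preservesZeroMorphisms_of_preserves_initial_object
  haveI := Limits.preservesBinaryBiproducts_of_preservesBinaryCoproducts (An.analytify X)
  haveI : (An.analytify X).Additive := Functor.additive_of_preservesBinaryBiproducts (An.analytify X)
  have h1 : ∀ S : ShortComplex X.Modules, S.ShortExact → (S.map (An.analytify X)).ShortExact := by
    intro S hS
    haveI := hS.epi_g
    haveI := hS.mono_f
    haveI : Mono ((An.analytify X).map S.f) := mono_map S.f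
    exact { exact := hS.exact.map_of_epi_of_preservesCokernel (An.analytify X) hS.epi_g inferInstance
            mono_f := inferInstanceAs (Mono ((An.analytify X).map S.f))
            epi_g := inferInstanceAs (Epi ((An.analytify X).map S.g)) }
  have h3 : Limits.PreservesFiniteLimits (An.analytify X) ∧ Limits.PreservesFiniteColimits (An.analytify X) :=
    ((Functor.exact_tfae (An.analytify X)).out 0 3).1 h1
  haveI hf : (An.analytify X).Faithful := ⟨fun {M N} φ ψ h => sub_eq_zero.mp (eq_zero_of_map (φ - ψ)
    (by rw [Functor.map_sub, h, sub_self]))⟩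
  exact ⟨h3.1, h3.2, hf, CategoryTheory.reflectsIsomorphisms_of_reflectsMonomorphisms_of_reflectsEpimorphisms _⟩

end Groth.Agent.S4308
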