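import Groth.Statements.S4324
import Groth.Agent.AnStalkLib.Imp

set_option backward.isDefEq.respectTransparency false
set_option backward.isDefEq.respectTransparency.types false

set_option autoImplicit false
open CategoryTheory AlgebraicGeometry Topology TopologicalSpace
open An

namespace Groth.Agent.S4324

/-- Let X and Y be reduced schemes locally of finite type over ℂ and f : X → Y a morphism over ℂ. Then f
is etale if and only if f^an is etale, i.e. a local isomorphism of analytic spaces, i.e. if and only
if for every ℂ-point x of X the map on stalks O_{Y^an, f(x)} → O_{X^an, x} induced by f^an is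
bijective. -/
theorem result (X Y : Scheme.{0}) [X.Over An.SC] [Y.Over An.SC] [LocallyOfFiniteType (X ↘ An.SC)]
    [LocallyOfFiniteType (Y ↘ An.SC)] [IsReduced X] [IsReduced Y] (f : X ⟶ Y) [f.IsOver An.SC] :
    Etale f ↔ ∀ x : An.Pts X, Function.Bijective (PresheafedSpace.Hom.stalkMap (An.anMap f) x).hom := by
  haveI := Groth.Agent.AnPts.locallyOfFiniteType_of_isOver f
  haveI := LocallyOfFiniteType.isLocallyNoetherian (Y ↘ An.SC)
  haveI : LocallyOfFinitePresentation f := LocallyOfFinitePresentation.iff_locallyOfFiniteType.mpr inferInstance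
  constructor
  · intro hf x
    haveI : Flat f := inferInstance
    haveI := Groth.Agent.AnStalkLib.isLocalHom_gS f x
    refine ⟨Groth.Agent.AnStalkLib.injective_gS_of_flat f x
      ((Groth.Agent.AnStalkLib.flat_gS_iff f x).2 ((Groth.Agent.AnStalkLib.flat_iff_pts f).1 inferInstance x)), ?_⟩
    exact Groth.Agent.AnStalkLib.surjective_gS f x ((Groth.Agent.AnStalkLib.formallyUnramified_stalk_iff f x).1
      ((Groth.Agent.AnStalkLib.formallyUnramified_iff_pts f).1 inferInstance x))
  · intro h
    haveI : Flat f := (Groth.Agent.AnStalkLib.flat_iff_pts f).2 fun x =>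
      (Groth.Agent.AnStalkLib.flat_gS_iff f x).1 (RingHom.Flat.of_bijective (h x))
    haveI : FormallyUnramified f := (Groth.Agent.AnStalkLib.formallyUnramified_iff_pts f).2 fun x =>
      (Groth.Agent.AnStalkLib.formallyUnramified_stalk_iff f x).2 ((Groth.Agent.AnStalkLib.map_max_gS_iff f x).1
        (IsLocalRing.map_maximalIdeal_of_surjective _ (h x).2))
    exact Etale.of_formallyUnramified_of_flat f

end Groth.Agent.S4324
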