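import Groth.Statements.S4315
import Groth.Agent.AnStalkLib.Imp
import Groth.Agent.S4324
import Groth.Agent.AnPts.Morph

set_option backward.isDefEq.respectTransparency false
set_option backward.isDefEq.respectTransparency.types false

set_option autoImplicit false
open CategoryTheory AlgebraicGeometry Topology TopologicalSpace
open An

namespace Groth.Agent.S4315

theorem mono_of_injective {X Y : Scheme.{0}} [X.Over An.SC] [Y.Over An.SC] [LocallyOfFiniteType (X ↘ An.SC)]
    [LocallyOfFiniteType (Y ↘ An.SC)] (f : X ⟶ Y) [f.IsOver An.SC] [FormallyUnramified f] [LocallyOfFiniteType f]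
    (hinj : Function.Injective (An.Pts.map f)) : Mono f := by
  haveI := Groth.Agent.AnPts.locallyOfFiniteType_pullback f f
  haveI : Surjective (Limits.pullback.diagonal f) := ⟨fun z => by
    have hz := Set.eq_univ_of_forall (Groth.Agent.AnStalkLib.eq_univ_of_pts
      (U := Set.range (Limits.pullback.diagonal f)) (Limits.pullback.diagonal f).isOpenEmbedding.isOpen_range fun a => ?_)
    · exact (hz.symm ▸ Set.mem_univ z : z ∈ Set.range (Limits.pullback.diagonal f))
    have h : An.Pts.map (Limits.pullback.fst f f) a = An.Pts.map (Limits.pullback.snd f f) a :=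
      hinj (An.Pts.map_pullback_condition f f a)
    have h' : a.1 ≫ Limits.pullback.fst f f = a.1 ≫ Limits.pullback.snd f f := congrArg Subtype.val h
    refine ⟨(An.Pts.map (Limits.pullback.fst f f) a).pt, ?_⟩
    have ha : (a.1 ≫ Limits.pullback.fst f f) ≫ Limits.pullback.diagonal f = a.1 := by
      apply Limits.pullback.hom_ext
      · simp
      · simp [h']
    conv_rhs => rw [An.Pts.pt, ← ha]
    rfl⟩
  haveI : IsIso (Limits.pullback.diagonal f) := (isIso_iff_isOpenImmersion_and_surjective _).2 ⟨inferInstance, inferInstance⟩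
  refine ⟨fun {Z} g h w => ?_⟩
  have e : Limits.pullback.fst f f = Limits.pullback.snd f f := by
    rw [← cancel_epi (Limits.pullback.diagonal f)]; simp
  calc g = Limits.pullback.lift g h w ≫ Limits.pullback.fst f f := (Limits.pullback.lift_fst _ _ _).symm
    _ = h := by rw [e, Limits.pullback.lift_snd]

theorem bijective_gS {X Y : Scheme.{0}} [X.Over An.SC] [Y.Over An.SC] (f : X ⟶ Y) [f.IsOver An.SC]
    (e : An.Pts X ≃ₜ An.Pts Y) (he : ⇑e = An.Pts.map f)
    (hol : An.IsHolMap (⟨e.symm, e.symm.continuous⟩ : C(An.Pts Y, An.Pts X))) (x : An.Pts X) :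
    Function.Bijective (PresheafedSpace.Hom.stalkMap (An.anMap f) x).hom := by
  constructor
  · intro a b hab
    refine Groth.Agent.AnStalkLib.germFun_injective _ ?_
    obtain ⟨G, hG⟩ := (Groth.Agent.AnStalkLib.germFun (An.Pts.map f x) a).exists_rep
    obtain ⟨H, hH⟩ := (Groth.Agent.AnStalkLib.germFun (An.Pts.map f x) b).exists_rep
    have h1 := congrArg (Groth.Agent.AnStalkLib.germFun x) hab
    have h1 := Filter.Germ.coe_eq.1 ((Groth.Agent.AnStalkLib.germFun_gS f x a G hG.symm).symm.trans
      (h1.trans (Groth.Agent.AnStalkLib.germFun_gS f x b H hH.symm)))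
    rw [← he] at h1
    refine hG.symm.trans (Eq.trans (Filter.Germ.coe_eq.2 ?_) hH)
    show ∀ᶠ z in 𝓝 (An.Pts.map f x), G z = H z
    rw [← he, ← e.map_nhds_eq x]
    exact h1
  · intro σ
    obtain ⟨V, hV, h, rfl⟩ := TopCat.Presheaf.exists_germ_eq (F := (An.anSpace X).presheaf) σ
    let V' : Opens (An.top Y) := (Opens.map (TopCat.ofHom (⟨e.symm, e.symm.continuous⟩ : C(An.Pts Y, An.Pts X)))).obj V
    have hV' : An.Pts.map f x ∈ V' := by
      show e.symm (An.Pts.map f x) ∈ V
      rw [← he, e.symm_apply_apply]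
      exact hV
    let g : An.holSub V' := ⟨fun y => h.1 ⟨e.symm y.1, y.2⟩, hol V h.1 h.2⟩
    refine ⟨((An.anSpace Y).presheaf.germ V' (An.Pts.map f x) hV').hom g, Groth.Agent.AnStalkLib.germFun_injective _ ?_⟩
    refine (Groth.Agent.AnStalkLib.germFun_gS f x _ _ (Groth.Agent.AnStalkLib.germFun_germ _ V' hV' g)).trans ?_
    refine Eq.trans ?_ (Groth.Agent.AnStalkLib.germFun_germ x V hV h).symm
    refine Filter.Germ.coe_eq.2 ?_
    filter_upwards [V.2.mem_nhds hV] with y hy
    have hy' : An.Pts.map f y ∈ V' := by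
      show e.symm (An.Pts.map f y) ∈ V
      rw [← he, e.symm_apply_apply]
      exact hy
    rw [Groth.Agent.AnStalkLib.ext0_of_mem _ hy, Groth.Agent.AnStalkLib.ext0_of_mem _ hy']
    show h.1 _ = h.1 _
    exact congrArg h.1 (Subtype.ext ((congrArg e.symm (congrFun he y).symm).trans (e.symm_apply_apply y)))

/-- For X and Y reduced and locally of finite type over ℂ (associated analytic spaces = ℂ-points with
holomorphic functions): a morphism f : X → Y over ℂ is an isomorphism if and only if f^an is, i.e.
if and only if the induced map X(ℂ) → Y(ℂ) is a homeomorphism whose inverse is holomorphic. -/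
theorem result (X Y : Scheme.{0}) [X.Over An.SC] [Y.Over An.SC]
    [LocallyOfFiniteType (X ↘ An.SC)] [LocallyOfFiniteType (Y ↘ An.SC)] [IsReduced X] [IsReduced Y]
    (f : X ⟶ Y) [f.IsOver An.SC] :
    IsIso f ↔ ∃ e : An.Pts X ≃ₜ An.Pts Y, (⇑e = An.Pts.map f) ∧
      An.IsHolMap (⟨e.symm, e.symm.continuous⟩ : C(An.Pts Y, An.Pts X)) := by
  constructor
  · intro hf
    haveI : (inv f).IsOver An.SC := ⟨by rw [IsIso.inv_comp_eq, comp_over f An.SC]⟩
    let e : An.Pts X ≃ₜ An.Pts Y :=
      { toFun := An.Pts.map f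
        invFun := An.Pts.map (inv f)
        left_inv := fun a => Subtype.ext (by simp)
        right_inv := fun a => Subtype.ext (by simp)
        continuous_toFun := An.Pts.continuous_map f
        continuous_invFun := An.Pts.continuous_map (inv f) }
    exact ⟨e, rfl, fun V g hg => An.holPred_comp (inv f) V g hg⟩
  · rintro ⟨e, he, hol⟩
    haveI := Groth.Agent.AnPts.locallyOfFiniteType_of_isOver f
    haveI : Etale f := (Groth.Agent.S4324.result X Y f).2 (bijective_gS f e he hol)
    haveI := LocallyOfFiniteType.isLocallyNoetherian (Y ↘ An.SC)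
    haveI : LocallyOfFinitePresentation f := LocallyOfFinitePresentation.iff_locallyOfFiniteType.mpr inferInstance
    haveI := mono_of_injective f (he ▸ e.injective)
    haveI := IsOpenImmersion.of_flat_of_mono f
    refine (isIso_iff_isOpenImmersion_and_surjective f).2 ⟨inferInstance, ⟨fun y => ?_⟩⟩
    exact Groth.Agent.AnStalkLib.eq_univ_of_pts f.isOpenEmbedding.isOpen_range (fun a => by
      obtain ⟨b, rfl⟩ := e.surjective a
      rw [he, An.Pts.pt_map]
      exact ⟨_, rfl⟩) y

end Groth.Agent.S4315
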