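import Groth.Statements.S4330
import Groth.Agent.EtSixLib.PullExact
import Groth.Agent.EtSixLib.Comp
-- import your own Groth.Agent.* helpers here

set_option autoImplicit false
set_option backward.isDefEq.respectTransparency false
set_option maxHeartbeats 800000
set_option synthInstance.maxHeartbeats 200000
universe u
open CategoryTheory CategoryTheory.Limits AlgebraicGeometry Opposite
attribute [local instance] HasDerivedCategory.standard
open EtSix

namespace Groth.Agent.S4330

/-- Composition of derived direct images: bounded-below version for sheaves of Λ-modules on small etale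
sites: let f : X -> Y and g : Y -> Z be morphisms of schemes and Λ a commutative ring. Then the
canonical morphism R⁺(g ∘ f)_* -> R⁺g_* ∘ R⁺f_* of functors D⁺(X_et, Λ) -> D⁺(Z_et, Λ)
(bounded-below derived functors computed with injective resolutions; the morphism is induced by (g ∘
f)_* ≅ g_* ∘ f_* through the universal property of R⁺(g ∘ f)_*) is an isomorphism. -/
theorem result (Λ : Type (u + 1)) [CommRing Λ] {X Y Z : Scheme.{u}} (f : X ⟶ Y) (g : Y ⟶ Z) :
    IsIso (EtSix.compMapMod Λ f g) := by
  haveI := Groth.Agent.EtSixLib.preservesFiniteLimits_pull Λ g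
  haveI : IsIso (EtSix.pushModComp Λ g f).inv := inferInstance
  haveI : PreservesLimitsOfSize.{0, 0} (EtModW.push Λ g) :=
    (EtSix.pullPushModAdj Λ g).rightAdjoint_preservesLimits
  exact Groth.Agent.EtSixLib.isIso_rPlusDesc₂ _
    (fun I hI => by haveI := hI; exact Groth.Agent.EtSixLib.injective_push Λ f I)

end Groth.Agent.S4330
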