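import Groth.Statements.S4334
import Groth.Agent.EtTraceLib.GmCurve
import Groth.Agent.JacLib.Dim

set_option autoImplicit false
set_option maxHeartbeats 800000
universe u
open CategoryTheory CategoryTheory.Limits AlgebraicGeometry Opposite
open EtSix

set_option backward.isDefEq.respectTransparency false

namespace Groth.Agent.S4334

/-- The degree-two step in canonical form: let X be a smooth projective curve over an algebraically
closed field k (here: X integral, with a proper morphism X -> Spec k that is smooth of relative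
dimension 1), and n an integer that is nonzero in k, so that the n-th power map on G_m is an
epimorphism of sheaves on the small etale site (taken as the hypothesis h). Then the boundary map
H^1(X, G_m) -> H^2(X, μ_n) of the Kummer sequence is surjective, and its kernel is the image of
multiplication by n on H^1(X, G_m). -/
theorem result (k : Type u) [Field k] [IsAlgClosed k] {X : Scheme.{u}} [IsIntegral X]
    (f : X ⟶ Spec (CommRingCat.of k)) [IsProper f] [SmoothOfRelativeDimension 1 f]
    (n : ℕ) (hn : (n : k) ≠ 0) (h : Epi (EtCoh.powMap X n)) :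
    Function.Surjective (EtSix.kummerBoundary h 1) ∧
      (EtSix.kummerBoundary h 1).ker = (n • AddMonoidHom.id (EtCoh.H X (EtCoh.Gm X) 1)).range := by
  haveI : Smooth f := SmoothOfRelativeDimension.smooth 1 f
  have hdim : topologicalKrullDim X = 1 := by
    simpa using Groth.Agent.JacLib.topologicalKrullDim_of_smooth f 1
  let hS := EtSix.kummerShortExact h
  refine ⟨fun x => ?_, ?_⟩
  · exact Abelian.Ext.covariant_sequence_exact₁ _ hS x
      (Groth.Agent.EtTraceLib.H_Gm_curve_eq_zero k X f hdim 0 _) (n₀ := 1) rfl
  · have hpow : ∀ z : EtCoh.H X (EtCoh.Gm X) 1,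
        z.comp (Abelian.Ext.mk₀ (EtSix.kummerSC X n).g) (add_zero 1) = n • z := fun z => by
      show z.comp (Abelian.Ext.mk₀ (n • 𝟙 (EtCoh.Gm X))) (add_zero 1) = n • z
      have e1 : Abelian.Ext.mk₀ (n • 𝟙 (EtCoh.Gm X)) = n • Abelian.Ext.mk₀ (𝟙 (EtCoh.Gm X)) :=
        map_nsmul Abelian.Ext.addEquiv₀.symm n (𝟙 (EtCoh.Gm X))
      rw [e1]
      refine (map_nsmul (Abelian.Ext.bilinearComp _ _ _ 1 0 1 (add_zero 1) z) n _).trans ?_
      exact congrArg (n • ·) (Abelian.Ext.comp_mk₀_id z)
    refine le_antisymm (fun y hy => ?_) ?_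
    · obtain ⟨z, hz⟩ := Abelian.Ext.covariant_sequence_exact₃ _ hS y (n₁ := 2) rfl hy
      exact ⟨z, (hpow z).symm.trans hz⟩
    · rintro _ ⟨z, rfl⟩
      show (n • z).comp hS.extClass rfl = 0
      rw [← hpow z, Abelian.Ext.comp_assoc_of_second_deg_zero, hS.comp_extClass, Abelian.Ext.comp_zero]

end Groth.Agent.S4334
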