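import Groth.Statements.S4337
import Mathlib
import Groth.Agent.LinTopLib.Weakly
-- import your own Groth.Agent.* helpers here

set_option autoImplicit false
universe u
open LinTop

namespace Groth.Agent.S4337

/-- Let A be an admissible ring, J an ideal of definition, and u : M -> N a homomorphism of A-modules
with N of finite type. Then u is surjective if and only if u tensored with A/J is surjective. -/
theorem result
    (A : Type u) [CommRing A] [UniformSpace A] [IsUniformAddGroup A] [IsTopologicalRing A]
    (hA : LinTop.IsAdmissible A) (J : Ideal A) (hJ : LinTop.IsIdealOfDefinition A J)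
    (M N : Type u) [AddCommGroup M] [Module A M] [AddCommGroup N] [Module A N] [Module.Finite A N]
    (u : M →ₗ[A] N) :
    Function.Surjective u ↔ Function.Surjective (u.rTensor (A ⧸ J)) := by
  obtain ⟨⟨hlin, -⟩, hT, hC⟩ := hA
  haveI := hlin
  refine ⟨LinearMap.rTensor_surjective _, fun h => LinearMap.range_eq_top.mp (top_le_iff.mp ?_)⟩
  refine Submodule.le_of_le_smul_of_le_jacobson_bot Module.Finite.fg_top
    (Groth.Agent.LinTopLib.le_jacobson fun f hf => Groth.Agent.LinTopLib.isTopologicallyNilpotent_of_idealDef hJ hf) fun y _ => ?_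
  have hy : (Submodule.Quotient.mk y : N ⧸ (J • ⊤ : Submodule A N)) ∈
      LinearMap.range ((J • ⊤ : Submodule A N).mkQ.comp u) := by
    obtain ⟨z, hz⟩ := h (y ⊗ₜ[A] 1)
    have hy : (Submodule.Quotient.mk y : N ⧸ (J • ⊤ : Submodule A N)) =
        TensorProduct.tensorQuotEquivQuotSMul N J (u.rTensor (A ⧸ J) z) := by
      rw [hz]
      exact (TensorProduct.quotTensorEquivQuotSMul_mk_one_tmul J y).symm
    rw [hy]
    clear hy hz
    induction z using TensorProduct.induction_on with
    | zero => simp
    | tmul x r =>
      obtain ⟨r, rfl⟩ := Ideal.Quotient.mk_surjective r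
      refine ⟨r • x, ?_⟩
      rw [LinearMap.rTensor_tmul]
      show (J • ⊤ : Submodule A N).mkQ (u (r • x)) = _
      rw [map_smul, map_smul]
      exact (TensorProduct.quotTensorEquivQuotSMul_mk_tmul J r (u x)).symm.trans rfl
    | add a b ha hb => rw [map_add, map_add]; exact Submodule.add_mem _ ha hb
  obtain ⟨x, hx⟩ := hy
  have : y - u x ∈ (J • ⊤ : Submodule A N) := (Submodule.Quotient.eq _).mp hx.symm
  rw [← add_sub_cancel (u x) y]
  exact Submodule.add_mem_sup (LinearMap.mem_range_self u x) this

end Groth.Agent.S4337
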