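import Groth.Statements.S4343
import Groth.Agent.RatMapLib.Unique

set_option autoImplicit false
universe u
open RatMapD

namespace Groth.Agent.S4343

set_option backward.isDefEq.respectTransparency false in
set_option backward.defeqAttrib.useBackward true in
open AlgebraicGeometry in
open CategoryTheory in
/-- Let X, Y be S-schemes with X irreducible and Y locally of finite type over S. Two S-rational maps
from X to Y to which corresponds the same morphism Spec(O_x) -> Y, x the generic point of X, are
equal. (The published statement has Y of finite type over S; only local finite type is used. X is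
not assumed reduced.) -/
theorem result
    (S X Y : Scheme.{u}) [X.Over S] [Y.Over S] [IrreducibleSpace X]
    [LocallyOfFiniteType (Y ↘ S)] (f g : X ⤏ Y) [f.IsOver S] [g.IsOver S]
    (h : f.fromFunctionField = g.fromFunctionField) : f = g := by
  obtain ⟨f, hf, rfl⟩ := f.exists_partialMap_over S
  obtain ⟨g, hg, rfl⟩ := g.exists_partialMap_over S
  simp only [Scheme.RationalMap.fromFunctionField_toRationalMap] at h
  have hdense : Dense ((f.domain ⊓ g.domain) : Set X) :=
    f.dense_domain.inter_of_isOpen_left g.dense_domain f.domain.2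
  let x₀ := genericPoint X
  have hxf : x₀ ∈ f.domain :=
    (genericPoint_specializes _).mem_open f.domain.2 f.dense_domain.nonempty.choose_spec
  have hxg : x₀ ∈ g.domain :=
    (genericPoint_specializes _).mem_open g.domain.2 g.dense_domain.nonempty.choose_spec
  have H : f.fromSpecStalkOfMem hxf = g.fromSpecStalkOfMem hxg := h
  have hf' := Scheme.PartialMap.isOver_iff.mp hf
  have hg' := Scheme.PartialMap.isOver_iff.mp hg
  simp only [Scheme.PartialMap.compHom_hom] at hf' hg'
  rw [← f.fromSpecStalkOfMem_restrict hdense inf_le_left ⟨hxf, hxg⟩,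
    ← g.fromSpecStalkOfMem_restrict hdense inf_le_right ⟨hxf, hxg⟩] at H
  obtain ⟨U, hxU, e⟩ := Groth.Agent.RatMapLib.exists_opens_eq_of_fromSpecStalk (Y ↘ S)
    (X := (f.domain ⊓ g.domain).toScheme)
    (X.homOfLE inf_le_left ≫ f.hom) (X.homOfLE inf_le_right ≫ g.hom)
    (by simp only [Category.assoc, hf', hg', Scheme.homOfLE_ι_assoc]) (x := ⟨x₀, hxf, hxg⟩)
    (by simpa only [Scheme.PartialMap.fromSpecStalkOfMem, Scheme.PartialMap.restrict_domain,
      Scheme.Opens.fromSpecStalkOfMem, Spec.map_inv, Scheme.PartialMap.restrict_hom, Category.assoc,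
      IsIso.eq_inv_comp, IsIso.hom_inv_id_assoc] using H)
  rw [Scheme.PartialMap.toRationalMap_eq_iff]
  refine ⟨(f.domain ⊓ g.domain).ι ''ᵁ U, ((f.domain ⊓ g.domain).ι ''ᵁ U).2.dense
    ⟨_, ⟨_, hxU, rfl⟩⟩,
    ((Set.image_subset_range _ _).trans_eq (Subtype.range_val)).trans inf_le_left,
    ((Set.image_subset_range _ _).trans_eq (Subtype.range_val)).trans inf_le_right, ?_⟩
  rw [← cancel_epi (Scheme.Hom.isoImage _ _).hom]
  simp only [Scheme.PartialMap.restrict_hom, ← Category.assoc] at e ⊢
  convert! e using 2 <;> rw [← cancel_mono (Scheme.Opens.ι _)] <;> simp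

end Groth.Agent.S4343
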