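import Groth.Statements.S4344
-- import your own Groth.Agent.* helpers here

set_option autoImplicit false
universe u
open RatMapD

namespace Groth.Agent.S4344

open AlgebraicGeometry in
open CategoryTheory in
/-- Let X be a reduced S-scheme, Y an S-scheme separated over S and f an S-rational map from X to Y.
There is a representative g of f which is an S-morphism and of which every S-morphism representing f
is a restriction; in particular g is the unique S-morphism of the class of f defined on the largest
open where some S-representative is defined. (The published statement speaks of the domain of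
definition among all representatives; over a base that is not separated that domain can be larger
than the one on which an S-representative exists, and this row takes the latter.) -/
theorem result
    (S X Y : Scheme.{u}) [X.Over S] [Y.Over S] [IsReduced X] [IsSeparated (Y ↘ S)]
    (f : X ⤏ Y) [f.IsOver S] :
    ∃ g : X.PartialMap Y, g.IsOver S ∧ g.toRationalMap = f ∧
      ∀ h : X.PartialMap Y, h.IsOver S → h.toRationalMap = f →
        ∃ hle : h.domain ≤ g.domain, h = g.restrict h.domain h.dense_domain hle := by
  let I := { g : X.PartialMap Y // g.IsOver S ∧ g.toRationalMap = f }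
  let D : X.Opens := ⨆ i : I, i.1.domain
  have hle : ∀ i : I, i.1.domain ≤ D := fun i => le_iSup (fun j : I => j.1.domain) i
  let 𝒰 : D.toScheme.OpenCover :=
    { I₀ := I
      X := fun i => i.1.domain.toScheme
      f := fun i => X.homOfLE (hle i)
      mem₀ := by
        rw [Scheme.presieve₀_mem_precoverage_iff]
        refine ⟨fun x => ?_, inferInstance⟩
        obtain ⟨i, hi⟩ := TopologicalSpace.Opens.mem_iSup.mp x.2
        exact ⟨i, ⟨x.1, hi⟩, Subtype.ext (by simp)⟩ }
  have hc : ∀ i j : I, Limits.pullback.fst (𝒰.f i) (𝒰.f j) ≫ i.1.hom =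
      Limits.pullback.snd (𝒰.f i) (𝒰.f j) ≫ j.1.hom := by
    intro i j
    haveI := i.2.1
    haveI := j.2.1
    refine (cancel_epi (isPullback_opens_inf_le (hle i) (hle j)).isoPullback.hom).mp ?_
    simp only [𝒰, IsPullback.isoPullback_hom_fst_assoc, IsPullback.isoPullback_hom_snd_assoc]
    exact (Scheme.PartialMap.equiv_iff_of_isSeparated (S := S)).mp
      (Scheme.PartialMap.toRationalMap_eq_iff.mp (i.2.2.trans j.2.2.symm))
  obtain ⟨g₀, hg₀, hg₀f⟩ := f.exists_partialMap_over S
  let g : X.PartialMap Y := ⟨D, g₀.dense_domain.mono (hle ⟨g₀, hg₀, hg₀f⟩),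
    𝒰.glueMorphisms (fun i => i.1.hom) hc⟩
  have hres : ∀ i : I, X.homOfLE (hle i) ≫ g.hom = i.1.hom := fun i => 𝒰.ι_glueMorphisms _ hc i
  have hr : ∀ i : I, i.1 = g.restrict i.1.domain i.1.dense_domain (hle i) := fun i =>
    Scheme.PartialMap.ext _ _ rfl (by
      rw [Scheme.PartialMap.restrict_hom, hres i]
      change i.1.hom = (X.isoOfEq (rfl : i.1.domain = i.1.domain)).hom ≫ i.1.hom
      simp)
  refine ⟨g, ?_, ?_, fun h h1 h2 => ⟨hle ⟨h, h1, h2⟩, hr ⟨h, h1, h2⟩⟩⟩
  · rw [Scheme.PartialMap.isOver_iff]
    apply 𝒰.hom_ext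
    intro i
    have hi := Scheme.PartialMap.isOver_iff.mp i.2.1
    simp only [Scheme.PartialMap.compHom_hom] at hi ⊢
    change X.homOfLE (hle i) ≫ g.hom ≫ _ = X.homOfLE (hle i) ≫ D.ι ≫ _
    rw [reassoc_of% hres i, hi, Scheme.homOfLE_ι_assoc]
  · rw [← g.restrict_toRationalMap g₀.domain g₀.dense_domain (hle ⟨g₀, hg₀, hg₀f⟩),
      ← hr ⟨g₀, hg₀, hg₀f⟩]
    exact hg₀f

end Groth.Agent.S4344
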