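import Groth.Statements.S4345
import Mathlib

set_option autoImplicit false
set_option linter.style.haveILetI false
set_option linter.unusedVariables false
set_option linter.deprecated false
universe u
open SchLoc

namespace Groth.Agent.S4345

/-- Let A and B be subrings of a field R, C the subring generated by A and B, and for a subring E let
L(E) be the set of local subrings E_p of R, p a prime ideal of E. The following are equivalent: (i)
for every local subring Q of R containing A and B, the localizations of A and of B at the traces of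
the maximal ideal of Q coincide; (ii) for every prime ideal r of C the localizations of A and B at
the traces of r coincide; (iii) two members of L(A) and L(B) dominated by a common local subring of
R are equal; (iv) the intersection of L(A) and L(B) is L(C). -/
theorem result
    (R : Type u) [Field R] (A B : Subring R) :
    [ ∀ (Q : LocalSubring R) (hA : A ≤ Q.toSubring) (hB : B ≤ Q.toSubring),
        LocalSubring.ofPrime A ((IsLocalRing.maximalIdeal Q.toSubring).comap (Subring.inclusion hA)) =
          LocalSubring.ofPrime B ((IsLocalRing.maximalIdeal Q.toSubring).comap (Subring.inclusion hB)),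
      ∀ r : PrimeSpectrum ↥(A ⊔ B),
        LocalSubring.ofPrime A (r.asIdeal.comap (Subring.inclusion (le_sup_left : A ≤ A ⊔ B))) =
          LocalSubring.ofPrime B (r.asIdeal.comap (Subring.inclusion (le_sup_right : B ≤ A ⊔ B))),
      ∀ (p : PrimeSpectrum A) (q : PrimeSpectrum B),
        (∃ Q : LocalSubring R, LocalSubring.ofPrime A p.asIdeal ≤ Q ∧ LocalSubring.ofPrime B q.asIdeal ≤ Q) →
          LocalSubring.ofPrime A p.asIdeal = LocalSubring.ofPrime B q.asIdeal,
      Set.range (fun p : PrimeSpectrum A ↦ LocalSubring.ofPrime A p.asIdeal) ∩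
          Set.range (fun q : PrimeSpectrum B ↦ LocalSubring.ofPrime B q.asIdeal) =
        Set.range (fun r : PrimeSpectrum ↥(A ⊔ B) ↦ LocalSubring.ofPrime (A ⊔ B) r.asIdeal) ].TFAE := by
  have comap_self : ∀ (C : Subring R) (p : Ideal C) [p.IsPrime],
      (IsLocalRing.maximalIdeal (LocalSubring.ofPrime C p).toSubring).comap
        (Subring.inclusion (LocalSubring.le_ofPrime C p)) = p := fun C p _ =>
    IsLocalization.AtPrime.comap_maximalIdeal (S := (LocalSubring.ofPrime C p).toSubring) p
  have dom : ∀ (C : Subring R) (Q : LocalSubring R) (p : Ideal C) [p.IsPrime],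
      LocalSubring.ofPrime C p ≤ Q → ∃ h : C ≤ Q.toSubring,
        (IsLocalRing.maximalIdeal Q.toSubring).comap (Subring.inclusion h) = p := by
    intro C Q p _ hle
    obtain ⟨hs, hloc⟩ := hle
    haveI := hloc
    refine ⟨(LocalSubring.le_ofPrime C p).trans hs, ?_⟩
    refine Eq.trans ?_ (comap_self C p)
    ext x
    exact (map_mem_nonunits_iff (Subring.inclusion hs)
      (Subring.inclusion (LocalSubring.le_ofPrime C p) x))
  have mkle : ∀ (C : Subring R) (Q : LocalSubring R) (h : C ≤ Q.toSubring),
      LocalSubring.ofPrime C ((IsLocalRing.maximalIdeal Q.toSubring).comap (Subring.inclusion h)) ≤ Q := by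
    intro C Q h
    set p := (IsLocalRing.maximalIdeal Q.toSubring).comap (Subring.inclusion h) with hp
    have inv_mem : ∀ s : C, s ∉ p → (↑s : R)⁻¹ ∈ Q.toSubring := by
      intro s hs
      obtain ⟨u, hu⟩ := (IsLocalRing.notMem_maximalIdeal.mp hs : IsUnit (Subring.inclusion h s))
      have h1 : (↑s : R) * ((↑(↑u⁻¹ : Q.toSubring) : R)) = 1 := by
        have h2 : Subring.inclusion h s * (↑u⁻¹ : Q.toSubring) = 1 := by rw [← hu]; exact u.mul_inv
        exact congrArg Subtype.val h2
      rw [inv_eq_of_mul_eq_one_right h1]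
      exact SetLike.coe_mem _
    have rep : ∀ z : (LocalSubring.ofPrime C p).toSubring, ∃ a s : C, s ∉ p ∧ (↑z : R) * ↑s = ↑a := by
      intro z
      obtain ⟨⟨a, s⟩, hz⟩ := IsLocalization.surj p.primeCompl z
      exact ⟨a, s.1, s.2, congrArg Subtype.val hz⟩
    have sub : (LocalSubring.ofPrime C p).toSubring ≤ Q.toSubring := by
      intro x hx
      obtain ⟨a, s, hs, e⟩ := rep ⟨x, hx⟩
      have hs0 : (↑s : R) ≠ 0 := by
        intro h0
        exact hs (by rw [show s = 0 from Subtype.ext h0]; exact p.zero_mem)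
      have : x = ↑a * (↑s : R)⁻¹ := by rw [eq_mul_inv_iff_mul_eq₀ hs0]; exact e
      rw [this]
      exact mul_mem (h a.2) (inv_mem s hs)
    refine ⟨sub, ⟨fun z hz => ?_⟩⟩
    obtain ⟨⟨a, s⟩, e⟩ := IsLocalization.surj p.primeCompl z
    have hs : IsUnit (algebraMap C (LocalSubring.ofPrime C p).toSubring (s : C)) :=
      IsLocalization.map_units _ s
    have ha : (a : C) ∈ p.primeCompl := by
      intro hap
      refine (IsLocalRing.mem_maximalIdeal _).mp hap ?_
      have := hz.mul (hs.map (Subring.inclusion sub))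
      rw [← map_mul, e] at this
      exact this
    have hu : IsUnit (algebraMap C (LocalSubring.ofPrime C p).toSubring a) :=
      IsLocalization.map_units _ ⟨a, ha⟩
    rw [← e] at hu
    exact isUnit_of_mul_isUnit_left hu
  tfae_have 1 → 2 := by
    intro h1 r
    have hC := LocalSubring.le_ofPrime (A ⊔ B) r.asIdeal
    have := h1 (LocalSubring.ofPrime (A ⊔ B) r.asIdeal) (le_sup_left.trans hC) (le_sup_right.trans hC)
    convert this using 2
    · conv_lhs => rw [← comap_self (A ⊔ B) r.asIdeal]
      rfl
    · conv_lhs => rw [← comap_self (A ⊔ B) r.asIdeal]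
      rfl
  tfae_have 2 → 1 := by
    intro h2 Q hA hB
    exact h2 ⟨(IsLocalRing.maximalIdeal Q.toSubring).comap (Subring.inclusion (sup_le hA hB)), inferInstance⟩
  tfae_have 1 → 3 := by
    intro h1 p q
    rintro ⟨Q, hp, hq⟩
    obtain ⟨hA, ep⟩ := dom A Q p.asIdeal hp
    obtain ⟨hB, eq'⟩ := dom B Q q.asIdeal hq
    have := h1 Q hA hB
    convert this using 2
    · exact ep.symm
    · exact eq'.symm
  tfae_have 3 → 1 := by
    intro h3 Q hA hB
    exact h3 ⟨(IsLocalRing.maximalIdeal Q.toSubring).comap (Subring.inclusion hA), Ideal.comap_isPrime _ _⟩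
      ⟨(IsLocalRing.maximalIdeal Q.toSubring).comap (Subring.inclusion hB), Ideal.comap_isPrime _ _⟩
      ⟨Q, mkle A Q hA, mkle B Q hB⟩
  tfae_have 2 → 4 := by
    intro h2
    have key : ∀ r : PrimeSpectrum ↥(A ⊔ B),
        LocalSubring.ofPrime A (r.asIdeal.comap (Subring.inclusion (le_sup_left : A ≤ A ⊔ B))) =
          LocalSubring.ofPrime (A ⊔ B) r.asIdeal := by
      intro r
      have hC : A ⊔ B ≤ (LocalSubring.ofPrime A
          (r.asIdeal.comap (Subring.inclusion (le_sup_left : A ≤ A ⊔ B)))).toSubring :=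
        sup_le (LocalSubring.le_ofPrime _ _) (by rw [h2 r]; exact LocalSubring.le_ofPrime _ _)
      set L := LocalSubring.ofPrime A (r.asIdeal.comap (Subring.inclusion (le_sup_left : A ≤ A ⊔ B))) with hL
      have hle : L ≤ LocalSubring.ofPrime (A ⊔ B) r.asIdeal := by
        have hC' := LocalSubring.le_ofPrime (A ⊔ B) r.asIdeal
        have := mkle A (LocalSubring.ofPrime (A ⊔ B) r.asIdeal) (le_sup_left.trans hC')
        convert this using 1
        rw [hL]
        congr 1
        conv_lhs => rw [← comap_self (A ⊔ B) r.asIdeal]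
        rfl
      have hle' := hle
      obtain ⟨sub, hloc⟩ := hle
      haveI := hloc
      have e : (IsLocalRing.maximalIdeal L.toSubring).comap (Subring.inclusion hC) = r.asIdeal := by
        refine Eq.trans ?_ (comap_self (A ⊔ B) r.asIdeal)
        ext x
        exact (map_mem_nonunits_iff (Subring.inclusion sub) (Subring.inclusion hC x)).symm
      have hge : LocalSubring.ofPrime (A ⊔ B) r.asIdeal ≤ L := by
        have := mkle (A ⊔ B) L hC
        convert this using 2
        exact e.symm
      exact le_antisymm hle' hge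
    apply subset_antisymm
    · rintro L ⟨⟨p, hp⟩, ⟨q, hq⟩⟩
      obtain ⟨hA, ep⟩ := dom A L p.asIdeal (le_of_eq hp)
      obtain ⟨hB, eq'⟩ := dom B L q.asIdeal (le_of_eq hq)
      refine ⟨⟨(IsLocalRing.maximalIdeal L.toSubring).comap (Subring.inclusion (sup_le hA hB)), inferInstance⟩, ?_⟩
      refine (key _).symm.trans (Eq.trans ?_ hp)
      congr 1
    · rintro L ⟨r, rfl⟩
      exact ⟨⟨⟨r.asIdeal.comap (Subring.inclusion (le_sup_left : A ≤ A ⊔ B)), Ideal.comap_isPrime _ _⟩, key r⟩,
        ⟨⟨r.asIdeal.comap (Subring.inclusion (le_sup_right : B ≤ A ⊔ B)), Ideal.comap_isPrime _ _⟩, (h2 r).symm.trans (key r)⟩⟩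
  tfae_have 4 → 2 := by
    intro h4 r
    obtain ⟨⟨p, hp⟩, ⟨q, hq⟩⟩ := h4.symm.le ⟨r, rfl⟩
    obtain ⟨hA, ep⟩ := dom A _ p.asIdeal (le_of_eq hp)
    obtain ⟨hB, eq'⟩ := dom B _ q.asIdeal (le_of_eq hq)
    have e1 : r.asIdeal.comap (Subring.inclusion (le_sup_left : A ≤ A ⊔ B)) = p.asIdeal := by
      rw [← ep]
      conv_lhs => rw [← comap_self (A ⊔ B) r.asIdeal]
      rfl
    have e2 : r.asIdeal.comap (Subring.inclusion (le_sup_right : B ≤ A ⊔ B)) = q.asIdeal := by
      rw [← eq']
      conv_lhs => rw [← comap_self (A ⊔ B) r.asIdeal]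
      rfl
    convert hp.trans hq.symm
  tfae_finish

end Groth.Agent.S4345
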