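import Groth.Statements.S4348
import Groth.Agent.FPApproxLib.Step
import Groth.Agent.QCohLib.Push
import Groth.Agent.PullbackMod.Sections

set_option autoImplicit false
universe u
open QCohSup

namespace Groth.Agent.S4348

open AlgebraicGeometry in
open CategoryTheory in
open CategoryTheory.Limits in
/-- Let X be a scheme and U an open subscheme such that the inclusion j : U -> X is quasi-compact. For a
quasi-coherent O_X-module F and a quasi-coherent submodule G of F|U, the canonical extension of G to
X (the preimage of j_*(G) under F -> j_*(F|U), here the fibre product in the category of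
O_X-modules) is quasi-coherent. -/
theorem result
    {X : Scheme.{u}} (U : X.Opens) [QuasiCompact U.ι] (F : X.Modules) [Coh.IsQCoh F]
    (G : (U : Scheme.{u}).Modules) [Coh.IsQCoh G]
    (i : G ⟶ (Scheme.Modules.pullback U.ι).obj F) [Mono i] :
    Coh.IsQCoh (pullback ((Scheme.Modules.pushforward U.ι).map i)
      ((Scheme.Modules.pullbackPushforwardAdjunction U.ι).unit.app F)) := by
  haveI : Coh.IsQCoh ((Scheme.Modules.pullback U.ι).obj F) := Groth.Agent.PullbackMod.isQCoh_pullback U.ι F
  exact Groth.Agent.FPApproxLib.isQCoh_pullback' _ _ (Groth.Agent.QCohLib.isQCoh_pushforward G U.ι)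
    (show Coh.IsQCoh F from inferInstance)
    (Groth.Agent.QCohLib.isQCoh_pushforward ((Scheme.Modules.pullback U.ι).obj F) U.ι)

end Groth.Agent.S4348
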