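import Mathlib
import Groth.Agent.RatFunLib.Basic
import Groth.Statements.S4349

set_option autoImplicit false
universe u
open RatFun

namespace Groth.Agent.S4349

open AlgebraicGeometry CategoryTheory

open AlgebraicGeometry in
/-- Second assertion (in the form: sections over a dense open inject into the ring of rational
functions). Let X be a reduced scheme and V a dense open subset of X. The canonical map from the
sections of O_X over V to the ring R(X) of rational functions on X is injective. (The published
statement also assumes X locally integral or locally Noetherian; that hypothesis serves the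
quasi-coherence of the sheaf of rational functions and is not needed here.) -/
theorem result (X : Scheme.{u}) [IsReduced X]
    (V : X.Opens) (hV : Dense (V : Set X)) :
    Function.Injective (RatFun.toRing X V hV) := by
  rw [injective_iff_map_eq_zero]
  intro s hs
  obtain ⟨W, hW, hWV, hWV', hres⟩ := RatFunLib.toRing_eq hV hV s 0 (hs.trans (map_zero _).symm)
  rw [← AlgebraicGeometry.basicOpen_eq_bot_iff]
  ext x
  simp only [TopologicalSpace.Opens.coe_bot, Set.mem_empty_iff_false, iff_false]
  intro hx
  obtain ⟨y, hy, hyW⟩ := hW.inter_open_nonempty _ (X.basicOpen s).isOpen ⟨x, hx⟩
  have h1 : y ∈ W ⊓ X.basicOpen s := ⟨hyW, hy⟩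
  rw [← AlgebraicGeometry.Scheme.basicOpen_res X s (CategoryTheory.homOfLE hWV).op, hres, map_zero,
    AlgebraicGeometry.Scheme.basicOpen_zero] at h1
  exact h1

end Groth.Agent.S4349
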