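import Groth.Statements.S4363
import Mathlib

set_option autoImplicit false
universe u v
open RedSep

namespace Groth.Agent.S4363

open CategoryTheory CategoryTheory.Limits AlgebraicGeometry
set_option backward.isDefEq.respectTransparency false
set_option maxHeartbeats 800000

lemma surj_iff_closure {R S : Type*} [CommRing R] [CommRing S] (m : R →+* S) (A B : Set R)
    (h : Subring.closure (A ∪ B) = ⊤) :
    Function.Surjective m ↔ Subring.closure (m '' A ∪ m '' B) = ⊤ := by
  rw [← Set.image_union, ← RingHom.map_closure, h, ← RingHom.range_eq_map, RingHom.range_eq_top]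

lemma closure_conj {S S' : Type*} [CommRing S] [CommRing S'] (e : S ≃+* S')
    (s t : Set S) : Subring.closure (s ∪ t) = ⊤ ↔ Subring.closure (e '' s ∪ e '' t) = ⊤ := by
  have h1 : (Subring.closure (s ∪ t)).map (e : S →+* S') = Subring.closure (e '' s ∪ e '' t) := by
    rw [RingHom.map_closure, Set.image_union]
    rfl
  rw [← h1]
  constructor
  · intro h
    rw [h, ← RingHom.range_eq_map, RingHom.range_eq_top]
    exact e.surjective
  · intro h
    refine eq_top_iff.2 fun x _ => ?_
    obtain ⟨y, hy, hyx⟩ := (h ▸ Subring.mem_top _ : e x ∈ (Subring.closure (s ∪ t)).map (e : S →+* S'))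
    exact e.injective hyx ▸ hy

lemma range_homOfLE {X : Scheme.{u}} {U V : X.Opens} (e : U ≤ V) :
    (U.topIso.hom : Γ(U.toScheme, ⊤) → Γ(X, U)) '' Set.range (X.homOfLE e).appTop =
      Set.range (X.presheaf.map (homOfLE e).op).hom := by
  have h : (X.homOfLE e).appTop ≫ U.topIso.hom = V.topIso.hom ≫ X.presheaf.map (homOfLE e).op := by
    rw [Scheme.homOfLE_appTop, Scheme.Opens.topIso_hom, Scheme.Opens.topIso_hom]
    simp only [← Functor.map_comp]
    rfl
  rw [← Set.range_comp]
  refine Eq.trans (congrArg Set.range (show _ = (X.presheaf.map (homOfLE e).op).hom ∘ V.topIso.hom from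
    funext fun z => ConcreteCategory.congr_hom h z)) ?_
  exact Function.Surjective.range_comp (ConcreteCategory.bijective_of_isIso V.topIso.hom).2 _

lemma pair_iff {X Y : Scheme.{u}} [IsAffine Y] (f : X ⟶ Y) {U V : X.Opens} (hU : IsAffineOpen U)
    (hV : IsAffineOpen V) :
    IsClosedImmersion (pullback.mapDesc U.ι V.ι f) ↔ IsAffineOpen (U ⊓ V) ∧
      Subring.closure (Set.range (X.presheaf.map (homOfLE (inf_le_left : U ⊓ V ≤ U)).op).hom ∪
        Set.range (X.presheaf.map (homOfLE (inf_le_right : U ⊓ V ≤ V)).op).hom) = ⊤ := by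
  haveI : IsAffine U.toScheme := hU
  haveI : IsAffine V.toScheme := hV
  let e := (isPullback_opens_inf U V).isoPullback
  let m := e.hom ≫ pullback.mapDesc U.ι V.ι f
  have ha : m ≫ pullback.fst _ _ = X.homOfLE inf_le_left := by simp [m, e]
  have hb : m ≫ pullback.snd _ _ = X.homOfLE inf_le_right := by simp [m, e]
  have hcl := CommRingCat.closure_range_union_range_eq_top_of_isPushout
    (isPushout_appTop_of_isPullback (IsPullback.of_hasPullback (U.ι ≫ f) (V.ι ≫ f)))
  have key : Function.Surjective m.appTop ↔
      Subring.closure (Set.range (X.presheaf.map (homOfLE (inf_le_left : U ⊓ V ≤ U)).op).hom ∪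
        Set.range (X.presheaf.map (homOfLE (inf_le_right : U ⊓ V ≤ V)).op).hom) = ⊤ := by
    rw [← range_homOfLE, ← range_homOfLE, ← ha, ← hb, Scheme.Hom.comp_appTop, Scheme.Hom.comp_appTop]
    refine (surj_iff_closure m.appTop.hom _ _ hcl).trans
      ((closure_conj (U ⊓ V).topIso.commRingCatIsoToRingEquiv _ _).trans ?_)
    simp only [← Set.range_comp]
    rfl
  rw [← MorphismProperty.cancel_left_of_respectsIso @IsClosedImmersion e.hom,
    HasAffineProperty.iff_of_isAffine (P := @IsClosedImmersion), ← key]
  rfl

open AlgebraicGeometry in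
open CategoryTheory in
/-- Let Y be an affine scheme, f : X -> Y a morphism and (U i) a cover of X by affine open subschemes.
Then f is separated if and only if, for every pair of indices i, j, the intersection of U i and U j
is an affine open and its ring of sections is generated, as a ring, by the images of the rings of
sections of U i and of U j under the restriction maps. -/
theorem result
    {X Y : Scheme.{u}} [IsAffine Y] (f : X ⟶ Y) {ι : Type v} (U : ι → X.Opens)
    (hU : ∀ i, IsAffineOpen (U i)) (hcov : ⨆ i, U i = ⊤) :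
    IsSeparated f ↔ ∀ i j, IsAffineOpen (U i ⊓ U j) ∧
      Subring.closure (Set.range (X.presheaf.map (homOfLE (inf_le_left : U i ⊓ U j ≤ U i)).op).hom ∪
        Set.range (X.presheaf.map (homOfLE (inf_le_right : U i ⊓ U j ≤ U j)).op).hom) = ⊤ := by
  constructor
  · intro h i j
    exact (pair_iff f (hU i) (hU j)).1 inferInstance
  · intro h
    rw [isSeparated_iff]
    let 𝒞 := X.openCoverOfIsOpenCover U hcov
    rw [IsZariskiLocalAtTarget.iff_of_openCover (P := @IsClosedImmersion)
      (Scheme.Pullback.openCoverOfLeftRight 𝒞 𝒞 f f)]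
    rintro ⟨i, j⟩
    have hsq := (pullback_map_diagonal_isPullback (U i).ι (U j).ι f)
    have h2 := (pair_iff f (hU i) (hU j)).2 (h i j)
    rw [← MorphismProperty.cancel_left_of_respectsIso @IsClosedImmersion hsq.isoPullback.inv] at h2
    have h3 : IsClosedImmersion (pullback.snd (pullback.diagonal f)
        (pullback.map ((U i).ι ≫ f) ((U j).ι ≫ f) f f (U i).ι (U j).ι (𝟙 Y) (Category.comp_id _) (Category.comp_id _))) := by
      rw [← IsPullback.isoPullback_inv_snd hsq]
      exact h2
    exact h3

end Groth.Agent.S4363
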