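import Groth.Statements.S4365
import Mathlib
-- import your own Groth.Agent.* helpers here

set_option autoImplicit false
universe u
open FinCond

namespace Groth.Agent.S4365

open AlgebraicGeometry in
open CategoryTheory in
/-- Let K be a field, X and Y schemes locally of finite type over K, f : X -> Y a K-morphism and Ω an
algebraically closed extension field of K of infinite transcendence degree over K (there is an
algebraically independent sequence in Ω). Then f is surjective if and only if the map it induces
from the K-points of X with values in Ω to those of Y is surjective, i.e. every K-morphism Spec Ω ->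
Y factors through f. (The published proposition assumes X and Y of finite type over K, and a later
remark of the same text extends it to X and Y locally of finite type over K, the form stated here.) -/
theorem result
    (K Ω : Type u) [Field K] [Field Ω] [IsAlgClosed Ω] [Algebra K Ω]
    (t : ℕ → Ω) (ht : AlgebraicIndependent K t)
    {X Y : Scheme.{u}} (pX : X ⟶ Spec (CommRingCat.of K)) (pY : Y ⟶ Spec (CommRingCat.of K))
    [LocallyOfFiniteType pX] [LocallyOfFiniteType pY] (f : X ⟶ Y) (hf : f ≫ pY = pX) :
    Surjective f ↔ ∀ y : Spec (CommRingCat.of Ω) ⟶ Y,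
      y ≫ pY = Spec.map (CommRingCat.ofHom (algebraMap K Ω)) →
        ∃ x : Spec (CommRingCat.of Ω) ⟶ X, x ≫ f = y := by
  have emb : ∀ (L : Type u) [Field L] (φ : K →+* L), φ.EssFiniteType →
      ∃ ψ : L →+* Ω, ψ.comp φ = algebraMap K Ω := by
    intro L _ φ hφ
    letI := φ.toAlgebra
    haveI : Algebra.EssFiniteType K L := hφ
    obtain ⟨s, hs⟩ := IntermediateField.fg_top K L
    haveI : Algebra.IsAlgebraic (Algebra.adjoin K (s : Set L)) L := by
      rw [← IntermediateField.isAlgebraic_adjoin_iff_top, hs]
      exact ⟨fun x => isAlgebraic_algebraMap (⟨x, trivial⟩ : (⊤ : IntermediateField K L))⟩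
    obtain ⟨B, hBs, hB⟩ := exists_isTranscendenceBasis_subset (R := K) (s : Set L)
    haveI : Finite B := (s.finite_toSet.subset hBs).to_subtype
    obtain ⟨n, ⟨e⟩⟩ := Finite.exists_equiv_fin B
    let g : B → Ω := fun b => t (e b : ℕ)
    have hg : AlgebraicIndependent K g := ht.comp _ (Fin.val_injective.comp e.injective)
    haveI := hB.isAlgebraic
    let j : Algebra.adjoin K (Set.range ((↑) : B → L)) →ₐ[K] Ω :=
      (MvPolynomial.aeval g).comp hB.1.aevalEquiv.symm.toAlgHom
    have hj : Function.Injective j :=
      Function.Injective.comp (g := MvPolynomial.aeval g) hg hB.1.aevalEquiv.symm.injective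
    letI := j.toRingHom.toAlgebra
    haveI : FaithfulSMul (Algebra.adjoin K (Set.range ((↑) : B → L))) Ω :=
      (faithfulSMul_iff_algebraMap_injective _ _).mpr hj
    haveI : Module.IsTorsionFree (Algebra.adjoin K (Set.range ((↑) : B → L))) Ω :=
      Module.isTorsionFree_iff_algebraMap_injective.mpr hj
    let Ψ : L →ₐ[Algebra.adjoin K (Set.range ((↑) : B → L))] Ω := IsAlgClosed.lift
    refine ⟨Ψ.toRingHom, RingHom.ext fun k => ?_⟩
    have h1 : (φ k : L) = algebraMap (Algebra.adjoin K (Set.range ((↑) : B → L))) L
        (algebraMap K _ k) := rfl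
    show Ψ (φ k) = _
    rw [h1, Ψ.commutes]
    exact j.commutes k
  haveI : LocallyOfFiniteType (f ≫ pY) := by rw [hf]; infer_instance
  haveI : LocallyOfFiniteType f := locallyOfFiniteType_of_comp f pY
  constructor
  · intro hs y hy
    haveI : Surjective f := hs
    haveI : Nonempty ↥(Limits.pullback f y) := by
      obtain ⟨a, _⟩ := (Limits.pullback.snd f y).surjective (IsLocalRing.closedPoint Ω)
      exact ⟨a⟩
    haveI : JacobsonSpace ↥(Limits.pullback f y) :=
      LocallyOfFiniteType.jacobsonSpace (Limits.pullback.snd f y)
    obtain ⟨z, -, hz⟩ := nonempty_inter_closedPoints (Z := (Set.univ : Set ↥(Limits.pullback f y)))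
      Set.univ_nonempty isOpen_univ.isLocallyClosed
    refine ⟨pointOfClosedPoint (Limits.pullback.snd f y) z hz ≫ Limits.pullback.fst f y, ?_⟩
    rw [Category.assoc, Limits.pullback.condition, pointOfClosedPoint_comp_assoc]
  · intro H
    refine ⟨fun p => ?_⟩
    let q := pY p
    let φ : CommRingCat.of K ⟶ Y.residueField p :=
      CommRingCat.ofHom (algebraMap K q.asIdeal.ResidueField) ≫
        (Scheme.Spec.residueFieldIso (CommRingCat.of K) q).inv ≫ pY.residueFieldMap p
    have hφ : φ.hom.EssFiniteType := by
      show (((pY.residueFieldMap p).hom.comp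
        (Scheme.Spec.residueFieldIso (CommRingCat.of K) q).inv.hom).comp
          (algebraMap K q.asIdeal.ResidueField)).EssFiniteType
      refine RingHom.EssFiniteType.comp ?_ (RingHom.EssFiniteType.comp ?_ ?_)
      · exact RingHom.essFiniteType_algebraMap.mpr inferInstance
      · exact (RingHom.FiniteType.of_surjective _
          (Scheme.Spec.residueFieldIso (CommRingCat.of K) q).commRingCatIsoToRingEquiv.symm.surjective).essFiniteType
      · exact RingHom.EssFiniteType.residueFieldMap (LocallyOfFiniteType.stalkMap pY p)
    obtain ⟨ψ, hψ⟩ := emb (Y.residueField p) φ.hom hφ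
    let y : Spec (CommRingCat.of Ω) ⟶ Y := Spec.map (CommRingCat.ofHom ψ) ≫ Y.fromSpecResidueField p
    have hy : y ≫ pY = Spec.map (CommRingCat.ofHom (algebraMap K Ω)) := by
      have h2 : Y.fromSpecResidueField p ≫ pY = Spec.map φ := by
        rw [← Scheme.Hom.SpecMap_residueFieldMap_fromSpecResidueField,
          ← Scheme.Spec.map_residueFieldIso_inv_eq_fromSpecResidueField]
        simp only [φ, q, Spec.map_comp, Category.assoc]
      simp only [y, Category.assoc, h2, ← Spec.map_comp]
      congr 1
      exact CommRingCat.hom_ext hψ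
    obtain ⟨x, hx⟩ := H y hy
    refine ⟨x (IsLocalRing.closedPoint Ω), ?_⟩
    rw [← Scheme.Hom.comp_apply, hx]
    exact Scheme.fromSpecResidueField_apply p _

end Groth.Agent.S4365
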