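import Groth.Statements.S4367
import Mathlib

set_option autoImplicit false
universe u
open RedSep

namespace Groth.Agent.S4367

open AlgebraicGeometry in
open CategoryTheory in
theorem result
    {X Y Z : Scheme.{u}} [IsReduced X] (f : X ⟶ Y) (j : Z ⟶ Y) [IsClosedImmersion j]
    (h : Set.range f ⊆ Set.range j) :
    ∃ g : X ⟶ Z, g ≫ j = f := by
  have hle : j.ker ≤ f.ker := by
    have hc : j.ker.comap f = ⊥ := by
      rw [← Scheme.IdealSheafData.support_eq_top_iff]
      ext x
      simp only [Scheme.IdealSheafData.support_comap, TopologicalSpace.Closeds.coe_top, Set.mem_univ, iff_true]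
      exact j.range_subset_ker_support (h ⟨x, rfl⟩)
    have := (Scheme.IdealSheafData.le_map_iff_comap_le (I := ⊥) (J := j.ker) (f := f)).2 (by rw [hc])
    simpa using this
  exact ⟨IsClosedImmersion.lift j f hle, IsClosedImmersion.lift_fac _ _ _⟩

end Groth.Agent.S4367
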