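import Groth.Statements.S4369


set_option autoImplicit false
universe u
open AffSch

namespace Groth.Agent.S4369

/-- Let φ : A' -> A be a ring homomorphism such that every f in A can be written f = h φ(f') with h
invertible in A (this holds in particular when φ is surjective). Then the associated continuous map
Spec A -> Spec A' is a homeomorphism onto its image. -/
theorem result
    {A' A : Type u} [CommRing A'] [CommRing A] (φ : A' →+* A)
    (h : ∀ f : A, ∃ (u : Aˣ) (f' : A'), f = (u : A) * φ f') :
    Topology.IsEmbedding (PrimeSpectrum.comap φ) := by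
  have hb : ∀ f : A, ∃ f' : A', PrimeSpectrum.comap φ ⁻¹' (PrimeSpectrum.basicOpen f' : Set (PrimeSpectrum A')) =
      (PrimeSpectrum.basicOpen f : Set (PrimeSpectrum A)) := fun f => by
    obtain ⟨u, f', rfl⟩ := h f
    refine ⟨f', ?_⟩
    ext p
    simp [Ideal.IsPrime.mul_mem_iff_mem_or_mem, p.2.ne_top, Ideal.unit_mul_mem_iff_mem]
  have hi : Topology.IsInducing (PrimeSpectrum.comap φ) := by
    refine ⟨le_antisymm (PrimeSpectrum.continuous_comap φ).le_induced ?_⟩
    conv_rhs => rw [PrimeSpectrum.isTopologicalBasis_basic_opens.eq_generateFrom]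
    refine le_generateFrom ?_
    rintro _ ⟨f, rfl⟩
    obtain ⟨f', hf'⟩ := hb f
    exact isOpen_induced_iff.mpr ⟨_, PrimeSpectrum.isOpen_basicOpen, hf'⟩
  exact hi.isEmbedding

end Groth.Agent.S4369
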