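import Groth.Statements.S4371
import Mathlib

set_option autoImplicit false
universe u
open RedSep

namespace Groth.Agent.S4371

open AlgebraicGeometry TopologicalSpace CategoryTheory

theorem not_affine_union {R : CommRingCat.{u}} [IsDomain R] (f g : R) (hf : Prime f) (hfg : ¬ f ∣ g)
    (hne : Ideal.span {f, g} ≠ ⊤) :
    ¬ IsAffineOpen (X := Spec R) (PrimeSpectrum.basicOpen f ⊔ PrimeSpectrum.basicOpen g) := by
  intro hU
  set X := Spec R
  let T := Γ(X, ⊤)
  let e : T ≃+* R := (Scheme.ΓSpecIso R).commRingCatIsoToRingEquiv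
  let f' : T := (Scheme.ΓSpecIso R).inv f
  let g' : T := (Scheme.ΓSpecIso R).inv g
  have hf' : X.basicOpen f' = PrimeSpectrum.basicOpen f := basicOpen_eq_of_affine f
  have hg' : X.basicOpen g' = PrimeSpectrum.basicOpen g := basicOpen_eq_of_affine g
  let U : X.Opens := X.basicOpen f' ⊔ X.basicOpen g'
  have hU' : IsAffineOpen U := by
    show IsAffineOpen (X.basicOpen f' ⊔ X.basicOpen g')
    rw [hf', hg']
    exact hU
  have hef : e f' = f := Iso.inv_hom_id_apply (Scheme.ΓSpecIso R) f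
  have heg : e g' = g := Iso.inv_hom_id_apply (Scheme.ΓSpecIso R) g
  have hpr : Prime f' := (MulEquiv.prime_iff e.toMulEquiv (p := f')).1 (by
    show Prime (e f')
    rw [hef]; exact hf)
  have hnd : ¬ f' ∣ g' := fun h => hfg (by simpa [hef, heg] using map_dvd e h)
  have hg0 : g ≠ 0 := fun h => hfg (h ▸ dvd_zero f)
  have hne_f : Nonempty (X.basicOpen f') := by
    refine ⟨⟨(⊥ : PrimeSpectrum R), ?_⟩⟩
    rw [hf']
    exact fun h => hf.ne_zero h
  have hne_g : Nonempty (X.basicOpen g') := by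
    refine ⟨⟨(⊥ : PrimeSpectrum R), ?_⟩⟩
    rw [hg']
    exact fun h => hg0 h
  have hne_U : Nonempty U := ⟨⟨hne_f.some.1, Or.inl hne_f.some.2⟩⟩
  haveI : Nonempty (⊤ : X.Opens) := ⟨⟨hne_f.some.1, trivial⟩⟩
  let φ : T →+* X.functionField := (X.germToFunctionField ⊤).hom
  have hφ : Function.Injective φ := X.germToFunctionField_injective ⊤
  let ψ : Γ(X, U) →+* X.functionField := (X.germToFunctionField U).hom
  have hψ : Function.Injective ψ := X.germToFunctionField_injective U
  let r : T →+* Γ(X, U) := (X.presheaf.map (homOfLE le_top).op).hom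
  have hr : ∀ t, ψ (r t) = φ t := fun t => by
    show (X.presheaf.map (homOfLE le_top).op ≫ X.germToFunctionField U) t = _
    rw [TopCat.Presheaf.germ_res]
  have hloc : ∀ (t : T) (hle : X.basicOpen t ≤ U) [Nonempty (X.basicOpen t)] (a : Γ(X, U)),
      ∃ (n : ℕ) (A : T), ψ a * φ t ^ n = φ A := by
    intro t hle _ a
    haveI := (isAffineOpen_top X).isLocalization_basicOpen t
    obtain ⟨⟨A, ⟨_, n, rfl⟩⟩, hA⟩ := IsLocalization.surj (Submonoid.powers t) (X.presheaf.map (homOfLE hle).op a)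
    refine ⟨n, A, ?_⟩
    let χ : Γ(X, X.basicOpen t) →+* X.functionField := (X.germToFunctionField _).hom
    have h1 : ∀ s, χ (algebraMap T Γ(X, X.basicOpen t) s) = φ s := fun s => by
      show (X.presheaf.map _ ≫ X.germToFunctionField (X.basicOpen t)) s = _
      rw [TopCat.Presheaf.germ_res]
    have h2 : χ (X.presheaf.map (homOfLE hle).op a) = ψ a := by
      show (X.presheaf.map _ ≫ X.germToFunctionField (X.basicOpen t)) a = _
      rw [TopCat.Presheaf.germ_res]
    have h3 := congrArg χ hA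
    rwa [map_mul, h1, h1, h2, map_pow] at h3
  have key : ∀ a : Γ(X, U), ∃ p : T, ψ a = φ p := by
    intro a
    obtain ⟨n, A, hA⟩ := @hloc f' le_sup_left hne_f a
    obtain ⟨m, B, hB⟩ := @hloc g' le_sup_right hne_g a
    have h1 : A * g' ^ m = B * f' ^ n := hφ (by
      rw [map_mul, map_mul, map_pow, map_pow, ← hA, ← hB]; ring)
    have h2 : f' ^ n ∣ A :=
      hpr.pow_dvd_of_dvd_mul_right n (fun h => hnd (hpr.dvd_of_dvd_pow h)) ⟨B, by rw [h1, mul_comm]⟩
    obtain ⟨p, hp⟩ := h2
    refine ⟨p, mul_right_cancel₀ (pow_ne_zero n ((map_ne_zero_iff φ hφ).2 hpr.ne_zero)) ?_⟩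
    rw [hA, hp, map_mul, map_pow, mul_comm]
  have hspan : Ideal.span ({r f', r g'} : Set Γ(X, U)) = ⊤ := by
    rw [← hU'.self_le_iSup_basicOpen_iff]
    intro x hx
    rw [Opens.mem_iSup]
    rcases hx with hx | hx
    · exact ⟨⟨r f', Or.inl rfl⟩, (X.basicOpen_res f' (homOfLE le_top).op).symm.le ⟨Or.inl hx, hx⟩⟩
    · exact ⟨⟨r g', Or.inr rfl⟩, (X.basicOpen_res g' (homOfLE le_top).op).symm.le ⟨Or.inr hx, hx⟩⟩
  obtain ⟨a, b, hab⟩ := Ideal.mem_span_pair.1 (hspan ▸ Submodule.mem_top : (1 : Γ(X, U)) ∈ _)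
  obtain ⟨p, hp⟩ := key a
  obtain ⟨q, hq⟩ := key b
  have h := congrArg ψ hab
  rw [map_add, map_mul, map_mul, map_one, hr, hr, hp, hq, ← map_mul, ← map_mul, ← map_add, ← map_one φ] at h
  have h' := congrArg e (hφ h)
  rw [map_add, map_mul, map_mul, map_one, hef, heg] at h'
  exact hne ((Ideal.eq_top_iff_one _).2 (Ideal.mem_span_pair.2 ⟨e p, e q, h'⟩))

open AlgebraicGeometry in
open CategoryTheory in
/-- Let K be a field and Y = Spec K[s, t] the affine plane over K. The open subset D(s) ∪ D(t) of Y, the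
complement of the closed point s = t = 0, is not affine. -/
theorem result
    (K : Type u) [Field K] :
    ¬ IsAffineOpen (X := Spec (CommRingCat.of (MvPolynomial (Fin 2) K)))
      (PrimeSpectrum.basicOpen (MvPolynomial.X 0 : MvPolynomial (Fin 2) K) ⊔
        PrimeSpectrum.basicOpen (MvPolynomial.X 1 : MvPolynomial (Fin 2) K)) := by
  haveI : IsDomain (CommRingCat.of (MvPolynomial (Fin 2) K)) := inferInstanceAs (IsDomain (MvPolynomial (Fin 2) K))
  refine not_affine_union (R := CommRingCat.of (MvPolynomial (Fin 2) K)) (MvPolynomial.X 0) (MvPolynomial.X 1)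
    MvPolynomial.X_prime (fun h => ?_) (fun h => ?_)
  · obtain ⟨c, hc⟩ := h
    have := congrArg (MvPolynomial.eval ![0, 1]) hc
    simp at this
  · obtain ⟨a, b, hab⟩ := Ideal.mem_span_pair.1 ((Ideal.eq_top_iff_one _).1 h)
    have := congrArg (MvPolynomial.eval (0 : Fin 2 → K)) hab
    simp at this

end Groth.Agent.S4371
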