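import Groth.Statements.S4378
import Mathlib

set_option autoImplicit false
universe u
open CategoryTheory CategoryTheory.Limits AlgebraicGeometry
open EGA2

namespace Groth.Agent.S4378

/-- Let q : Y → S be separated and of finite type, and f : X → Y a morphism such that X is also
separated and of finite type over S through f ≫ q. Then f is proper if and only if for every scheme
S' over S the morphism X ×_S S' → Y ×_S S' induced by f is closed (as a map of topological spaces). -/
theorem result {X Y S : Scheme.{u}} (q : Y ⟶ S) (f : X ⟶ Y)
    [IsSeparated q] [LocallyOfFiniteType q] [QuasiCompact q]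
    [IsSeparated (f ≫ q)] [LocallyOfFiniteType (f ≫ q)] [QuasiCompact (f ≫ q)] :
    IsProper f ↔ ∀ (S' : Scheme.{u}) (g : S' ⟶ S),
      IsClosedMap (pullback.map (f ≫ q) g q g f (𝟙 S') (𝟙 S) (Category.comp_id (f ≫ q))
        ((Category.comp_id g).trans (Category.id_comp g).symm)).base := by
  constructor
  · intro hf S' g
    refine (show UniversallyClosed _ from ?_).universally_isClosedMap _ _ _ IsPullback.of_id_snd
    have e : pullback.map (f ≫ q) g q g f (𝟙 S') (𝟙 S) (Category.comp_id (f ≫ q))
        ((Category.comp_id g).trans (Category.id_comp g).symm) =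
        (pullbackRightPullbackFstIso q g f).inv ≫ pullback.snd f (pullback.fst q g) := by
      rw [Iso.eq_inv_comp]
      apply pullback.hom_ext
      · simp only [pullback.map, Category.assoc, pullback.lift_fst, pullbackRightPullbackFstIso_hom_fst_assoc]
        exact pullback.condition
      · simp only [pullback.map, Category.assoc, pullback.lift_snd, pullbackRightPullbackFstIso_hom_snd, Category.comp_id]
    rw [e, MorphismProperty.cancel_left_of_respectsIso @UniversallyClosed]
    exact MorphismProperty.pullback_snd _ _ inferInstance
  · intro h
    haveI : IsSeparated f := IsSeparated.of_comp f q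
    haveI : LocallyOfFiniteType f := locallyOfFiniteType_of_comp f q
    haveI : AlgebraicGeometry.QuasiCompact f := QuasiCompact.of_comp f q
    haveI : UniversallyClosed f := by
      refine ⟨fun P Y' i₁ i₂ f' sq => ?_⟩
      let g := i₂ ≫ q
      let γ : Y' ⟶ pullback q g := pullback.lift i₂ (𝟙 _) (by simp [g])
      have hγs : γ ≫ pullback.snd q g = 𝟙 _ := pullback.lift_snd _ _ _
      haveI : IsClosedImmersion (γ ≫ pullback.snd q g) := by rw [hγs]; infer_instance
      haveI : IsClosedImmersion γ := IsClosedImmersion.of_comp γ (pullback.snd q g)
      let m := pullback.map (f ≫ q) g q g f (𝟙 Y') (𝟙 S) (Category.comp_id (f ≫ q))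
        ((Category.comp_id g).trans (Category.id_comp g).symm)
      let γ' : P ⟶ pullback (f ≫ q) g := sq.flip.isoPullback.hom ≫ pullback.mapDesc f i₂ q
      haveI : IsClosedImmersion γ' := inferInstance
      have hcomm : γ' ≫ m = f' ≫ γ := by
        have hw : f' ≫ i₂ = i₁ ≫ f := sq.w
        apply pullback.hom_ext
        · simp only [g, m, γ', γ, pullback.map, pullback.mapDesc, Category.assoc, pullback.lift_fst, pullback.lift_fst_assoc, Category.comp_id, IsPullback.isoPullback_hom_fst_assoc, IsPullback.isoPullback_hom_fst]
          exact hw.symm
        · simp only [g, m, γ', γ, pullback.map, pullback.mapDesc, Category.assoc, pullback.lift_snd, pullback.lift_snd_assoc, Category.comp_id, IsPullback.isoPullback_hom_snd_assoc, IsPullback.isoPullback_hom_snd]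
      intro s hs
      have key : ⇑γ '' (⇑f' '' s) = ⇑m '' (⇑γ' '' s) := by
        simp only [← Set.image_comp]
        exact congrArg (fun k : P ⟶ pullback q g => ⇑k '' s) hcomm.symm
      rw [← Set.preimage_image_eq (⇑f' '' s) γ.isClosedEmbedding.injective, key]
      exact (h _ g _ (γ'.isClosedEmbedding.isClosedMap _ hs)).preimage γ.continuous
    constructor

end Groth.Agent.S4378
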