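import Groth.Statements.S4385
import Groth.Agent.AmpleEmb.Disjoint
-- import your own Groth.Agent.* helpers here

set_option autoImplicit false
universe u
open CategoryTheory CategoryTheory.Limits AlgebraicGeometry
open EGA2

namespace Groth.Agent.S4385

/-- Let f : X → Y and f' : X' → Y be quasi-compact morphisms, X'' = X ⨿ X' their disjoint union with f''
: X'' → Y the morphism restricting to f and f', and L'' an O_{X''}-module whose inverse images L on
X and L' on X' (along the two coprojections) are invertible. Then L'' is ample relative to f'' if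
and only if L is ample relative to f and L' is ample relative to f'. -/
theorem result {X X' Y : Scheme.{u}} (f : X ⟶ Y) (f' : X' ⟶ Y) [QuasiCompact f] [QuasiCompact f']
    (L'' : (X ⨿ X').Modules)
    (hL : PicF.IsInvertible ((Scheme.Modules.pullback (coprod.inl : X ⟶ X ⨿ X')).obj L''))
    (hL' : PicF.IsInvertible ((Scheme.Modules.pullback (coprod.inr : X' ⟶ X ⨿ X')).obj L'')) :
    RelAmple.IsRelAmple (coprod.desc f f') L'' ↔
      RelAmple.IsRelAmple f ((Scheme.Modules.pullback (coprod.inl : X ⟶ X ⨿ X')).obj L'') ∧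
        RelAmple.IsRelAmple f' ((Scheme.Modules.pullback (coprod.inr : X' ⟶ X ⨿ X')).obj L'') := by
  have hl : ∀ x : X, coprod.desc f f' ((coprod.inl : X ⟶ X ⨿ X') x) = f x := fun x => by
    rw [← Scheme.Hom.comp_apply, coprod.inl_desc]
  have hr : ∀ x : X', coprod.desc f f' ((coprod.inr : X' ⟶ X ⨿ X') x) = f' x := fun x => by
    rw [← Scheme.Hom.comp_apply, coprod.inr_desc]
  haveI : QuasiCompact (coprod.desc f f') := by
    refine ⟨fun W hW hW' => ?_⟩
    have e : (coprod.desc f f').base ⁻¹' W = (coprod.inl : X ⟶ X ⨿ X').base '' (f.base ⁻¹' W) ∪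
        (coprod.inr : X' ⟶ X ⨿ X').base '' (f'.base ⁻¹' W) := by
      ext z
      constructor
      · intro hz
        rcases (isCompl_range_inl_inr X X').sup_eq_top.ge (Set.mem_univ z) with ⟨x, rfl⟩ | ⟨x, rfl⟩
        · refine Or.inl ⟨x, ?_, rfl⟩
          show f x ∈ W
          rw [← hl]; exact hz
        · refine Or.inr ⟨x, ?_, rfl⟩
          show f' x ∈ W
          rw [← hr]; exact hz
      · rintro (⟨x, hx, rfl⟩ | ⟨x, hx, rfl⟩)
        · show coprod.desc f f' ((coprod.inl : X ⟶ X ⨿ X') x) ∈ W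
          rw [hl]; exact hx
        · show coprod.desc f f' ((coprod.inr : X' ⟶ X ⨿ X') x) ∈ W
          rw [hr]; exact hx
    rw [e]
    exact ((QuasiCompact.isCompact_preimage _ hW hW').image (coprod.inl : X ⟶ X ⨿ X').continuous).union
      ((QuasiCompact.isCompact_preimage _ hW hW').image (coprod.inr : X' ⟶ X ⨿ X').continuous)
  have hinl : ∀ V : Y.Opens, (coprod.inl : X ⟶ X ⨿ X') ''ᵁ (f ⁻¹ᵁ V) ≤ coprod.desc f f' ⁻¹ᵁ V := by
    rintro V _ ⟨x, hx, rfl⟩
    show coprod.desc f f' ((coprod.inl : X ⟶ X ⨿ X') x) ∈ V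
    rw [hl]; exact hx
  have hinr : ∀ V : Y.Opens, (coprod.inr : X' ⟶ X ⨿ X') ''ᵁ (f' ⁻¹ᵁ V) ≤ coprod.desc f f' ⁻¹ᵁ V := by
    rintro V _ ⟨x, hx, rfl⟩
    show coprod.desc f f' ((coprod.inr : X' ⟶ X ⨿ X') x) ∈ V
    rw [hr]; exact hx
  have key : ∀ (T : Scheme.{u}) (j : T ⟶ X ⨿ X') [IsOpenImmersion j] (U : T.Opens),
      Groth.Agent.AmpleLib.AmpleOn ((Scheme.Modules.pullback j).obj L'') U ↔
        Groth.Agent.AmpleLib.AmpleOn L'' (j ''ᵁ U) := by
    intro T j _ U
    exact Groth.Agent.AmpleEmb.ampleOn_pullback_iff L'' j U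
  constructor
  · intro h
    exact ⟨⟨inferInstance, fun V => (key _ _ _).2 (Groth.Agent.AmpleLib.AmpleOn.mono (h.2 V) (hinl V) (by
        rw [Scheme.Hom.coe_image]
        exact (f.isCompact_preimage V.2.isCompact).image (coprod.inl : X ⟶ X ⨿ X').continuous))⟩,
      ⟨inferInstance, fun V => (key _ _ _).2 (Groth.Agent.AmpleLib.AmpleOn.mono (h.2 V) (hinr V) (by
        rw [Scheme.Hom.coe_image]
        exact (f'.isCompact_preimage V.2.isCompact).image (coprod.inr : X' ⟶ X ⨿ X').continuous))⟩⟩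
  · rintro ⟨h, h'⟩
    refine ⟨inferInstance, fun V => ?_⟩
    have e : coprod.desc f f' ⁻¹ᵁ V.1 = (coprod.inl : X ⟶ X ⨿ X') ''ᵁ (f ⁻¹ᵁ V.1) ⊔
        (coprod.inr : X' ⟶ X ⨿ X') ''ᵁ (f' ⁻¹ᵁ V.1) := by
      refine le_antisymm (fun z hz => ?_) (sup_le (hinl _) (hinr _))
      rcases (isCompl_range_inl_inr X X').sup_eq_top.ge (Set.mem_univ z) with ⟨x, rfl⟩ | ⟨x, rfl⟩
      · refine Or.inl ⟨x, ?_, rfl⟩
        show f x ∈ V.1
        rw [← hl]; exact hz
      · refine Or.inr ⟨x, ?_, rfl⟩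
        show f' x ∈ V.1
        rw [← hr]; exact hz
    show Groth.Agent.AmpleLib.AmpleOn L'' _
    rw [e]
    refine Groth.Agent.AmpleEmb.ampleOn_sup (le_bot_iff.1 ?_) ((key _ _ _).1 (h.2 V)) ((key _ _ _).1 (h'.2 V))
    rintro _ ⟨⟨x, -, rfl⟩, y, -, hy⟩
    exact inr_ne_inl X X' x y hy

end Groth.Agent.S4385
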