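import Groth.Statements.S4392
import Groth.Agent.GrFinGen.Basic

set_option autoImplicit false
set_option linter.style.haveILetI false
set_option linter.unusedVariables false
set_option linter.style.haveILetI false
set_option linter.unusedVariables false
universe u
open EGA2

namespace Groth.Agent.S4392

/-- Let S be a ring graded in nonnegative degrees which is an S_0-algebra of finite type, and M a
finitely generated graded S-module, graded in nonnegative degrees. Then there exist an integer n₁
and an integer h > 0 such that M_{n+h} = S_h M_n for every n ≥ n₁. (The published statement allows M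
graded in all integer degrees; this row takes M graded in nonnegative degrees.) -/
theorem result {R A : Type u} [CommRing R] [CommRing A] [Algebra R A] (𝒜 : ℕ → Submodule R A) [GradedAlgebra 𝒜] [Algebra.FiniteType (𝒜 0) A]
    {M : Type u} [AddCommGroup M] [Module R M] [Module A M] [IsScalarTower R A M] (ℳ : ℕ → Submodule R M) [DirectSum.Decomposition ℳ] [SetLike.GradedSMul 𝒜 ℳ] [Module.Finite A M] :
    ∃ (n₁ h : ℕ), 0 < h ∧ ∀ n : ℕ, n₁ ≤ n → ℳ (n + h) = (𝒜 h : Submodule R A) • (ℳ n : Submodule R M) := by
  classical
  obtain ⟨E, deg, hE, hgen⟩ := Groth.Agent.GrFinGen.exists_gens 𝒜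
  let D := Groth.Agent.GrFinGen.bigDeg E deg
  have hD : 0 < D := Groth.Agent.GrFinGen.bigDeg_pos hE
  obtain ⟨s, hs⟩ := (Module.Finite.fg_top : (⊤ : Submodule A M).FG)
  let K := s.sup fun g => (DirectSum.decompose ℳ g).support.sup id
  refine ⟨E.card * D + K, D, hD, fun n hn => le_antisymm ?_ (Submodule.smul_le.mpr fun a ha b hb => ?_)⟩
  · intro x hx
    rw [← DirectSum.decompose_of_mem_same ℳ hx]
    obtain ⟨c, -, hx'⟩ := Submodule.mem_span_finset.mp (hs.ge (Submodule.mem_top : x ∈ (⊤ : Submodule A M)))
    rw [← hx', DirectSum.decompose_sum, DFinsupp.finsetSum_apply, AddSubmonoidClass.coe_finsetSum]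
    refine Submodule.sum_mem _ fun g hg => ?_
    generalize c g = cg
    rw [← DirectSum.sum_support_decompose 𝒜 cg, Finset.sum_smul, DirectSum.decompose_sum,
      DFinsupp.finsetSum_apply, AddSubmonoidClass.coe_finsetSum]
    refine Submodule.sum_mem _ fun j _ => ?_
    rw [← DirectSum.sum_support_decompose ℳ g, Finset.smul_sum, DirectSum.decompose_sum,
      DFinsupp.finsetSum_apply, AddSubmonoidClass.coe_finsetSum]
    refine Submodule.sum_mem _ fun k hk => ?_
    have hmem : (DirectSum.decompose 𝒜 cg j : A) • (DirectSum.decompose ℳ g k : M) ∈ ℳ (j + k) := by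
      rw [← vadd_eq_add]
      exact SetLike.GradedSMul.smul_mem (SetLike.coe_mem _) (SetLike.coe_mem _)
    by_cases hjk : j + k = n + D
    · rw [← hjk, DirectSum.decompose_of_mem_same ℳ hmem]
      have hkK : k ≤ K := le_trans (Finset.le_sup (f := id) hk)
        (Finset.le_sup (f := fun g => (DirectSum.decompose ℳ g).support.sup id) hg)
      have hmul : (DirectSum.decompose 𝒜 cg j : A) ∈ 𝒜 D * 𝒜 (n - k) := by
        rw [← Groth.Agent.GrFinGen.deg_add_bigDeg hE hgen (show E.card * D ≤ n - k by omega),
          show n - k + Groth.Agent.GrFinGen.bigDeg E deg = j by omega]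
        exact SetLike.coe_mem _
      refine Submodule.mul_induction_on hmul (fun a ha b hb => ?_) (fun a b ha hb => by rw [add_smul]; exact add_mem ha hb)
      rw [mul_smul]
      refine Submodule.smul_mem_smul ha ?_
      have h1 : b • (DirectSum.decompose ℳ g k : M) ∈ ℳ ((n - k) + k) := by
        rw [← vadd_eq_add]
        exact SetLike.GradedSMul.smul_mem hb (SetLike.coe_mem _)
      rwa [Nat.sub_add_cancel (show k ≤ n by omega)] at h1
    · rw [DirectSum.decompose_of_mem_ne ℳ hmem hjk]
      exact zero_mem _
  · rw [add_comm, ← vadd_eq_add]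
    exact SetLike.GradedSMul.smul_mem ha hb

end Groth.Agent.S4392
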