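import Groth.Statements.S4393
import Groth.Agent.GrFinGen.Basic

set_option autoImplicit false
set_option linter.style.haveILetI false
set_option linter.unusedVariables false
set_option linter.style.haveILetI false
set_option linter.unusedVariables false
universe u
open EGA2

namespace Groth.Agent.S4393

/-- Let S be a ring graded in nonnegative degrees which is an S_0-algebra of finite type. Then there is
an integer h > 0 such that S_{mh} = (S_h)^m (the S_0-submodule spanned by m-fold products of
elements of S_h) for every m > 0. -/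
theorem result {R A : Type u} [CommRing R] [CommRing A] [Algebra R A] (𝒜 : ℕ → Submodule R A) [GradedAlgebra 𝒜] [Algebra.FiniteType (𝒜 0) A] :
    ∃ h : ℕ, 0 < h ∧ ∀ m : ℕ, 0 < m → 𝒜 (m * h) = (𝒜 h : Submodule R A) ^ m := by
  obtain ⟨E, deg, hE, hgen⟩ := Groth.Agent.GrFinGen.exists_gens 𝒜
  let D := Groth.Agent.GrFinGen.bigDeg E deg
  have hD : 0 < D := Groth.Agent.GrFinGen.bigDeg_pos hE
  refine ⟨(E.card + 1) * D, by positivity, fun m hm => le_antisymm ?_ (Groth.Agent.GrFinGen.pow_le_deg _ _)⟩
  obtain ⟨m, rfl⟩ : ∃ m', m = m' + 1 := ⟨m - 1, by omega⟩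
  rw [show (m + 1) * ((E.card + 1) * D) = (E.card + 1) * D + (m * (E.card + 1)) * D by ring,
    Groth.Agent.GrFinGen.deg_add_mul_bigDeg hE hgen (Nat.mul_le_mul_right _ (Nat.le_succ _)), pow_succ,
    Nat.mul_comm m, pow_mul]
  exact mul_le_mul' (pow_le_pow_left' (Groth.Agent.GrFinGen.pow_le_deg _ _) m) le_rfl

end Groth.Agent.S4393
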