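import Groth.Statements.S4394
import Groth.Agent.GrFinGen.Basic

set_option autoImplicit false
set_option linter.style.haveILetI false
set_option linter.unusedVariables false
set_option linter.style.haveILetI false
set_option linter.unusedVariables false
universe u
open EGA2

namespace Groth.Agent.S4394

/-- Let S be a ring graded in nonnegative degrees which is an S_0-algebra of finite type. Then for every
integer n > 0 there is m₀ such that S_m ⊆ (S_+)^n for all m ≥ m₀. -/
theorem result {R A : Type u} [CommRing R] [CommRing A] [Algebra R A] (𝒜 : ℕ → Submodule R A) [GradedAlgebra 𝒜] [Algebra.FiniteType (𝒜 0) A]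
    (n : ℕ) (hn : 0 < n) :
    ∃ m₀ : ℕ, ∀ m : ℕ, m₀ ≤ m → (𝒜 m : Set A) ⊆ ((HomogeneousIdeal.irrelevant 𝒜).toIdeal ^ n : Ideal A) := by
  classical
  obtain ⟨E, deg, hE, hgen⟩ := Groth.Agent.GrFinGen.exists_gens 𝒜
  let D := Groth.Agent.GrFinGen.bigDeg E deg
  have hD : 0 < D := Groth.Agent.GrFinGen.bigDeg_pos hE
  refine ⟨E.card * D + n * D, fun m hm x hx => ?_⟩
  obtain ⟨k, hk, rfl⟩ : ∃ k, E.card * D ≤ k ∧ m = k + n * D := ⟨m - n * D, by omega, by omega⟩
  let I : Ideal A := (HomogeneousIdeal.irrelevant 𝒜).toIdeal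
  have key : ∀ j : ℕ, ∀ y ∈ (𝒜 D : Submodule R A) ^ j, y ∈ I ^ j := by
    intro j
    induction j with
    | zero => intro y _; simp
    | succ j ih =>
      intro y hy
      rw [pow_succ] at hy ⊢
      exact Submodule.mul_induction_on hy
        (fun a ha b hb => Ideal.mul_mem_mul (ih a ha) (HomogeneousIdeal.mem_irrelevant_of_mem _ hD hb))
        (fun a b ha hb => Ideal.add_mem _ ha hb)
  rw [Groth.Agent.GrFinGen.deg_add_mul_bigDeg hE hgen hk] at hx
  show x ∈ I ^ n
  exact Submodule.mul_induction_on hx (fun a ha b hb => Ideal.mul_mem_right _ _ (key n a ha))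
    (fun a b ha hb => Ideal.add_mem _ ha hb)

end Groth.Agent.S4394
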