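import Groth.Statements.S4395
import Mathlib

set_option autoImplicit false
set_option linter.style.haveILetI false
set_option backward.isDefEq.respectTransparency false
universe u
open EGA2

namespace Groth.Agent.S4395

/-- Let S be a ring graded in nonnegative degrees, n₀ > 0 an integer and, for every n ≥ n₀, p_n an
additive subgroup of S_n. Then there is a graded prime ideal p of S not containing S_+ with p ∩ S_n
= p_n for all n ≥ n₀ if and only if: (1) S_m p_n ⊆ p_{m+n} for all m ≥ 0 and n ≥ n₀; (2) for m ≥ n₀,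
n ≥ n₀, f ∈ S_m, g ∈ S_n, fg ∈ p_{m+n} implies f ∈ p_m or g ∈ p_n; (3) p_n ≠ S_n for at least one n
≥ n₀. Moreover such a graded prime ideal is unique. -/
theorem result {R A : Type u} [CommRing R] [CommRing A] [Algebra R A] (𝒜 : ℕ → Submodule R A) [GradedAlgebra 𝒜]
    (n₀ : ℕ) (hn₀ : 0 < n₀) (p : ℕ → AddSubgroup A) (hp : ∀ n : ℕ, n₀ ≤ n → (p n : Set A) ⊆ 𝒜 n) :
    ((∃ 𝔭 : HomogeneousIdeal 𝒜, 𝔭.toIdeal.IsPrime ∧ ¬ HomogeneousIdeal.irrelevant 𝒜 ≤ 𝔭 ∧
        ∀ n : ℕ, n₀ ≤ n → (𝔭.toIdeal : Set A) ∩ 𝒜 n = p n) ↔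
      ((∀ m n : ℕ, n₀ ≤ n → ∀ a ∈ 𝒜 m, ∀ b ∈ p n, a * b ∈ p (m + n)) ∧
        (∀ m n : ℕ, n₀ ≤ m → n₀ ≤ n → ∀ f ∈ 𝒜 m, ∀ g ∈ 𝒜 n, f * g ∈ p (m + n) → f ∈ p m ∨ g ∈ p n) ∧
        ∃ n : ℕ, n₀ ≤ n ∧ (p n : Set A) ≠ 𝒜 n)) ∧
    ∀ 𝔭 𝔮 : HomogeneousIdeal 𝒜, 𝔭.toIdeal.IsPrime → 𝔮.toIdeal.IsPrime →
      ¬ HomogeneousIdeal.irrelevant 𝒜 ≤ 𝔭 → ¬ HomogeneousIdeal.irrelevant 𝒜 ≤ 𝔮 →
      (∀ n : ℕ, n₀ ≤ n → (𝔭.toIdeal : Set A) ∩ 𝒜 n = p n) → (∀ n : ℕ, n₀ ≤ n → (𝔮.toIdeal : Set A) ∩ 𝒜 n = p n) →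
      𝔭 = 𝔮 := by
  classical
  have hexf : ∀ 𝔭 : HomogeneousIdeal 𝒜, 𝔭.toIdeal.IsPrime → ¬ HomogeneousIdeal.irrelevant 𝒜 ≤ 𝔭 →
      ∃ (e : ℕ) (g : A), n₀ ≤ e ∧ g ∈ 𝒜 e ∧ g ∉ 𝔭.toIdeal := by
    intro 𝔭 hprime hirr
    by_contra! h
    refine hirr ?_
    intro z hz
    rw [← DirectSum.sum_support_decompose 𝒜 z]
    refine Ideal.sum_mem _ fun i _ => ?_
    rcases Nat.eq_zero_or_pos i with rfl | hi
    · rw [← GradedRing.proj_apply, (HomogeneousIdeal.mem_irrelevant_iff 𝒜 z).1 hz]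
      exact zero_mem _
    · refine hprime.mem_of_pow_mem n₀ (h (n₀ * i) ((DirectSum.decompose 𝒜 z i : A) ^ n₀)
        (Nat.le_mul_of_pos_right _ hi) ?_)
      simpa using SetLike.pow_mem_graded n₀ (SetLike.coe_mem (DirectSum.decompose 𝒜 z i))
  refine ⟨⟨?_, ?_⟩, ?_⟩
  · rintro ⟨𝔭, hprime, hirr, h⟩
    have hmem : ∀ n, n₀ ≤ n → ∀ x, x ∈ p n ↔ x ∈ 𝔭.toIdeal ∧ x ∈ 𝒜 n := fun n hn x =>
      (Set.ext_iff.1 (h n hn) x).symm
    refine ⟨fun m n hn a ha b hb => ?_, fun m n hm hn f hf g hg hfg => ?_, ?_⟩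
    · exact (hmem _ (le_add_left hn) _).2 ⟨𝔭.toIdeal.mul_mem_left a ((hmem n hn b).1 hb).1,
        SetLike.mul_mem_graded ha ((hmem n hn b).1 hb).2⟩
    · exact (hprime.mem_or_mem ((hmem _ (le_add_left hn) _).1 hfg).1).imp
        (fun hx => (hmem m hm f).2 ⟨hx, hf⟩) (fun hx => (hmem n hn g).2 ⟨hx, hg⟩)
    · obtain ⟨e, g, he, hg, hg'⟩ := hexf 𝔭 hprime hirr
      exact ⟨e, he, fun heq => hg' ((hmem e he g).1 ((Set.ext_iff.1 heq g).2 hg)).1⟩
  · rintro ⟨h1, h2, e, he, hne⟩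
    obtain ⟨f, hf, hfp⟩ : ∃ f ∈ 𝒜 e, f ∉ p e := by
      by_contra! h
      exact hne (Set.Subset.antisymm (hp e he) h)
    let I : Ideal A :=
      { carrier := {x | ∀ k, (DirectSum.decompose 𝒜 x k : A) * f ∈ p (k + e)}
        add_mem' := fun {x y} hx hy k => by
          simp only [DirectSum.decompose_add, DirectSum.add_apply, Submodule.coe_add, add_mul]
          exact add_mem (hx k) (hy k)
        zero_mem' := fun k => by simp
        smul_mem' := fun a x hx => by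
          change ∀ k, _
          induction a using DirectSum.Decomposition.inductionOn 𝒜 with
          | zero => intro k; simp
          | add a b iha ihb =>
            intro k
            simp only [smul_eq_mul, add_mul, DirectSum.decompose_add, DirectSum.add_apply,
              Submodule.coe_add] at iha ihb ⊢
            exact add_mem (iha k) (ihb k)
          | @homogeneous m a =>
            intro k
            rw [smul_eq_mul]
            by_cases hmk : m ≤ k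
            · rw [DirectSum.coe_decompose_mul_of_left_mem_of_le 𝒜 a.2 hmk, mul_assoc]
              have := h1 m (k - m + e) (le_add_left he) a a.2 _ (hx (k - m))
              rwa [← add_assoc, Nat.add_sub_cancel' hmk] at this
            · rw [DirectSum.coe_decompose_mul_of_left_mem_of_not_le 𝒜 a.2 hmk, zero_mul]
              exact zero_mem _ }
    have hI : ∀ k a, a ∈ 𝒜 k → (a ∈ I ↔ a * f ∈ p (k + e)) := by
      intro k a ha
      refine ⟨fun h => ?_, fun h j => ?_⟩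
      · have := h k
        rwa [DirectSum.decompose_of_mem_same 𝒜 ha] at this
      · rcases eq_or_ne k j with rfl | hkj
        · rwa [DirectSum.decompose_of_mem_same 𝒜 ha]
        · rw [DirectSum.decompose_of_mem_ne 𝒜 ha hkj, zero_mul]
          exact zero_mem _
    have hIhom : I.IsHomogeneous 𝒜 := fun i x hx => (hI i _ (SetLike.coe_mem _)).2 (hx i)
    have hfI : f ∉ I := fun h => by
      rcases h2 e e he he f hf f hf ((hI e f hf).1 h) with h' | h' <;> exact hfp h'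
    refine ⟨⟨I, hIhom⟩, hIhom.isPrime_of_homogeneous_mem_or_mem
      ((Ideal.ne_top_iff_one I).2 fun h => hfI (by simpa using I.mul_mem_left f h)) ?_, ?_, ?_⟩
    · rintro x y ⟨i, hx⟩ ⟨j, hy⟩ hxy
      rw [hI i x hx, hI j y hy]
      refine h2 _ _ (le_add_left he) (le_add_left he) _ (SetLike.mul_mem_graded hx hf) _
        (SetLike.mul_mem_graded hy hf) ?_
      have := h1 e (i + j + e) (le_add_left he) f hf _
        ((hI _ _ (SetLike.mul_mem_graded hx hy)).1 hxy)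
      rwa [show x * f * (y * f) = f * (x * y * f) by ring,
        show i + e + (j + e) = e + (i + j + e) by ring]
    · intro h
      refine hfI (h ?_)
      rw [HomogeneousIdeal.mem_irrelevant_iff, GradedRing.proj_apply,
        DirectSum.decompose_of_mem_ne 𝒜 hf (by omega)]
    · intro n hn
      ext x
      refine ⟨fun hx => ?_, fun hx => ⟨?_, hp n hn hx⟩⟩
      · exact (h2 n e hn he x hx.2 f hf ((hI n x hx.2).1 hx.1)).resolve_right hfp
      · refine (hI n x (hp n hn hx)).2 ?_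
        have := h1 e n hn f hf x hx
        rwa [mul_comm, add_comm] at this
  · intro 𝔭 𝔮 hP hQ hPi hQi hPp hQp
    have key : ∀ 𝔭 𝔮 : HomogeneousIdeal 𝒜, 𝔭.toIdeal.IsPrime → ¬ HomogeneousIdeal.irrelevant 𝒜 ≤ 𝔭 →
        (∀ n : ℕ, n₀ ≤ n → (𝔭.toIdeal : Set A) ∩ 𝒜 n = (𝔮.toIdeal : Set A) ∩ 𝒜 n) → 𝔮 ≤ 𝔭 := by
      intro 𝔭 𝔮 hP hPi h x hx
      obtain ⟨e, g, he, hg, hgP⟩ := hexf 𝔭 hP hPi
      rw [← DirectSum.sum_support_decompose 𝒜 x]
      refine Ideal.sum_mem _ fun i _ => ?_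
      have : (DirectSum.decompose 𝒜 x i : A) * g ∈ (𝔭.toIdeal : Set A) ∩ 𝒜 (i + e) := by
        rw [h _ (le_add_left he)]
        exact ⟨𝔮.toIdeal.mul_mem_right _ (𝔮.isHomogeneous i hx), SetLike.mul_mem_graded (SetLike.coe_mem _) hg⟩
      exact (hP.mem_or_mem this.1).resolve_right hgP
    exact le_antisymm (key 𝔮 𝔭 hQ hQi fun n hn => (hQp n hn).trans (hPp n hn).symm)
      (key 𝔭 𝔮 hP hPi fun n hn => (hPp n hn).trans (hQp n hn).symm)

end Groth.Agent.S4395
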