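import Groth.Statements.S4398
import Mathlib


set_option autoImplicit false
set_option linter.style.haveILetI false
set_option backward.isDefEq.respectTransparency false
universe u
open AlgebraicGeometry
open scoped CategoryTheory
open EGA2

namespace Groth.Agent.S4398

/-- Let φ : S' → S be a homomorphism of rings graded in nonnegative degrees which maps S'_n bijectively
onto S_n for every n > 0, so that S_+ lies in the ideal generated by φ(S'_+) (stated as a hypothesis
because the induced morphism is built from it). Then the induced morphism Proj S → Proj S' is an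
isomorphism of schemes. (The published statement treats the cases S'_0 = ℤ and S'_0 = A with S'_n =
S_n for n > 0; this row allows any graded φ that is bijective in positive degrees.) -/
theorem result {R A : Type u} [CommRing R] [CommRing A] [Algebra R A] (𝒜 : ℕ → Submodule R A) [GradedAlgebra 𝒜]
    {B : Type u} [CommRing B] [Algebra R B] (ℬ : ℕ → Submodule R B) [GradedAlgebra ℬ]
    (φ : ℬ →+*ᵍ 𝒜) (hbij : ∀ n : ℕ, 0 < n → Set.BijOn φ (ℬ n) (𝒜 n))
    (hφ : HomogeneousIdeal.irrelevant 𝒜 ≤ (HomogeneousIdeal.irrelevant ℬ).map φ) :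
    CategoryTheory.IsIso (Proj.map φ hφ) := by
  classical
  let I := {x : ℕ × A // 0 < x.1 ∧ x.2 ∈ 𝒜 x.1}
  have hdeg : ∀ (n : ℕ) (b c : B), 0 < n → b ∈ ℬ n → c ∈ ℬ n → φ b = φ c → b = c :=
    fun n b c hn hb hc h => (hbij n hn).injOn hb hc h
  have hbij' : ∀ (d : ℕ) (s : B) (hs : s ∈ ℬ d), 0 < d →
      Function.Bijective (HomogeneousLocalization.Away.map φ s) := by
    intro d s hs hd
    constructor
    · intro x y hxy
      obtain ⟨n, a, ha, rfl⟩ := HomogeneousLocalization.Away.mk_surjective ℬ hs x
      obtain ⟨m, b, hb, rfl⟩ := HomogeneousLocalization.Away.mk_surjective ℬ hs y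
      rw [HomogeneousLocalization.Away.map_mk, HomogeneousLocalization.Away.map_mk] at hxy
      have h := congrArg HomogeneousLocalization.val hxy
      simp only [HomogeneousLocalization.Away.val_mk, Localization.mk_eq_mk_iff,
        Localization.r_iff_exists] at h
      obtain ⟨⟨_, k, rfl⟩, hk⟩ := h
      apply HomogeneousLocalization.val_injective
      simp only [HomogeneousLocalization.Away.val_mk, Localization.mk_eq_mk_iff,
        Localization.r_iff_exists]
      refine ⟨⟨_, k + 1, rfl⟩, ?_⟩
      have h1 : s ^ (k + 1) * (s ^ m * a) ∈ ℬ ((k + 1) • d + (m • d + n • d)) :=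
        SetLike.mul_mem_graded (SetLike.pow_mem_graded _ hs)
          (SetLike.mul_mem_graded (SetLike.pow_mem_graded _ hs) ha)
      have h2 : s ^ (k + 1) * (s ^ n * b) ∈ ℬ ((k + 1) • d + (n • d + m • d)) :=
        SetLike.mul_mem_graded (SetLike.pow_mem_graded _ hs)
          (SetLike.mul_mem_graded (SetLike.pow_mem_graded _ hs) hb)
      rw [add_comm (n • d) (m • d)] at h2
      have hk' : (φ s) ^ k * ((φ s) ^ m * φ a) = (φ s) ^ k * ((φ s) ^ n * φ b) := hk
      refine hdeg _ _ _ ?_ h1 h2 ?_
      · rw [smul_eq_mul]; nlinarith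
      · simp only [map_mul, map_pow]
        rw [pow_succ' (φ s) k, mul_assoc, mul_assoc, hk']
    · intro y
      have hs' : φ s ∈ 𝒜 d := φ.2 hs
      obtain ⟨n, a, ha, rfl⟩ := HomogeneousLocalization.Away.mk_surjective 𝒜 hs' y
      have ha' : φ s * a ∈ 𝒜 ((n + 1) • d) := by
        rw [add_smul, one_smul, add_comm]
        exact SetLike.mul_mem_graded hs' ha
      obtain ⟨b, hb, hba⟩ := (hbij ((n + 1) • d) (by rw [smul_eq_mul]; positivity)).surjOn ha'
      refine ⟨HomogeneousLocalization.Away.mk ℬ hs (n + 1) b hb, ?_⟩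
      rw [HomogeneousLocalization.Away.map_mk]
      apply HomogeneousLocalization.val_injective
      simp only [HomogeneousLocalization.Away.val_mk, Localization.mk_eq_mk_iff,
        Localization.r_iff_exists]
      refine ⟨1, ?_⟩
      simp only [OneMemClass.coe_one, one_mul, hba]
      ring
  let J := {x : ℕ × B // 0 < x.1 ∧ x.2 ∈ ℬ x.1}
  have hcov : ⨆ j : J, Proj.basicOpen ℬ j.1.2 = ⊤ := by
    refine Proj.iSup_basicOpen_eq_top ℬ _ ((HomogeneousIdeal.toIdeal_irrelevant_le _).mpr ?_)
    intro i hi x hx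
    exact Ideal.subset_span ⟨⟨(i, x), hi, hx⟩, rfl⟩
  refine (CategoryTheory.MorphismProperty.isomorphisms.iff _).1
    (AlgebraicGeometry.IsZariskiLocalAtTarget.of_iSup_eq_top
      (P := CategoryTheory.MorphismProperty.isomorphisms Scheme) _ hcov fun j => ?_)
  show CategoryTheory.IsIso _
  obtain ⟨⟨d, s⟩, hd, hs⟩ := j
  have : CategoryTheory.IsIso (CommRingCat.ofHom (HomogeneousLocalization.Away.map φ s)) :=
    (CategoryTheory.ConcreteCategory.isIso_iff_bijective _).2 (hbij' d s hs hd)
  have key := Proj.awayι_comp_map φ hφ hd s hs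
  rw [Proj.awayι, Proj.awayι, CategoryTheory.Category.assoc,
    CategoryTheory.Iso.inv_comp_eq] at key
  suffices h : Proj.map φ hφ ∣_ Proj.basicOpen ℬ s =
      (Proj.basicOpenIsoSpec 𝒜 (φ s) (φ.2 hs) hd).hom ≫
        Spec.map (CommRingCat.ofHom (HomogeneousLocalization.Away.map φ s)) ≫
          (Proj.basicOpenIsoSpec ℬ s hs hd).inv by
    rw [h]; infer_instance
  rw [← CategoryTheory.cancel_mono (Proj.basicOpen ℬ s).ι, morphismRestrict_ι]
  simp only [CategoryTheory.Category.assoc]
  exact key

end Groth.Agent.S4398
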