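import Groth.Statements.S4404
import Mathlib

set_option autoImplicit false
universe u
open EGA2

namespace Groth.Agent.S4404

/-- (a) ⇔ (b): let S be a ring graded in nonnegative degrees and E a subset of the irrelevant ideal S_+.
Then V_+(E) is the whole of Proj S if and only if every element of E is nilpotent. -/
theorem result {R A : Type u} [CommRing R] [CommRing A] [Algebra R A] (𝒜 : ℕ → Submodule R A) [GradedAlgebra 𝒜]
    (E : Set A) (hE : E ⊆ (HomogeneousIdeal.irrelevant 𝒜).toIdeal) :
    ProjectiveSpectrum.zeroLocus 𝒜 E = Set.univ ↔ ∀ e ∈ E, IsNilpotent e := by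
  classical
  constructor
  · intro h e he
    have h1 : e ∈ (⊥ : HomogeneousIdeal 𝒜).toIdeal.radical := by
      rw [(⊥ : HomogeneousIdeal 𝒜).isHomogeneous.radical_eq, Submodule.mem_sInf]
      rintro P ⟨hPhom, -, hP⟩
      by_cases hrel : (HomogeneousIdeal.irrelevant 𝒜).toIdeal ≤ P
      · exact hrel (hE he)
      · let p : ProjectiveSpectrum 𝒜 := ⟨⟨P, hPhom⟩, hP, fun h => hrel h⟩
        exact (ProjectiveSpectrum.mem_zeroLocus 𝒜 p E).mp (h ▸ Set.mem_univ p) he
    obtain ⟨n, hn⟩ := h1
    exact ⟨n, by simpa using hn⟩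
  · intro h
    refine Set.eq_univ_of_forall fun p => (ProjectiveSpectrum.mem_zeroLocus _ _ _).mpr fun e he => ?_
    obtain ⟨n, hn⟩ := h e he
    exact p.isPrime.mem_of_pow_mem n (hn ▸ zero_mem _)

end Groth.Agent.S4404
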