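import Groth.Statements.S4405
import Mathlib

set_option autoImplicit false
universe u
open EGA2

namespace Groth.Agent.S4405

/-- Let S be a ring graded in nonnegative degrees and E any subset of the irrelevant ideal S_+. Then the
intersection of S_+ with the vanishing ideal of the closed subset V_+(E) of Proj S equals the
intersection of S_+ with the radical of the graded ideal generated by E (the smallest homogeneous
ideal containing E). -/
theorem result {R A : Type u} [CommRing R] [CommRing A] [Algebra R A] (𝒜 : ℕ → Submodule R A) [GradedAlgebra 𝒜]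
    (E : Set A) (hE : E ⊆ (HomogeneousIdeal.irrelevant 𝒜).toIdeal) :
    (HomogeneousIdeal.irrelevant 𝒜).toIdeal ⊓
        (ProjectiveSpectrum.vanishingIdeal (ProjectiveSpectrum.zeroLocus 𝒜 E)).toIdeal =
      (HomogeneousIdeal.irrelevant 𝒜).toIdeal ⊓ (Ideal.homogeneousHull 𝒜 (Ideal.span E)).toIdeal.radical := by
  classical
  set J := Ideal.homogeneousHull 𝒜 (Ideal.span E)
  ext x
  constructor
  · rintro ⟨hx, hxv⟩
    refine ⟨hx, ?_⟩
    rw [SetLike.mem_coe, J.isHomogeneous.radical_eq, Submodule.mem_sInf]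
    rintro P ⟨hPhom, hJP, hP⟩
    by_cases hrel : (HomogeneousIdeal.irrelevant 𝒜).toIdeal ≤ P
    · exact hrel hx
    · let p : ProjectiveSpectrum 𝒜 := ⟨⟨P, hPhom⟩, hP, fun h => hrel h⟩
      exact (ProjectiveSpectrum.mem_vanishingIdeal _ _).mp hxv p ((ProjectiveSpectrum.mem_zeroLocus _ _ _).mpr
        (fun e he => hJP (Ideal.le_toIdeal_homogeneousHull 𝒜 _ (Ideal.subset_span he))))
  · rintro ⟨hx, hxr⟩
    refine ⟨hx, (ProjectiveSpectrum.mem_vanishingIdeal _ _).mpr fun p hp => ?_⟩
    have h1 : J ≤ p.asHomogeneousIdeal := (Ideal.homogeneousHull.gc 𝒜).l_le (show Ideal.span E ≤ p.asHomogeneousIdeal.toIdeal from Ideal.span_le.mpr hp)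
    obtain ⟨n, hn⟩ := hxr
    exact p.isPrime.mem_of_pow_mem n (h1 hn)

end Groth.Agent.S4405
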