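import Groth.Statements.S4406
import Groth.Agent.TwistBCLib.Frac

set_option autoImplicit false
set_option backward.isDefEq.respectTransparency false
set_option maxHeartbeats 1600000
set_option linter.style.haveILetI false
universe u
open CategoryTheory CategoryTheory.Limits AlgebraicGeometry
open EGA2

namespace Groth.Agent.S4406

open TopologicalSpace Groth.Agent.PullbackMod Groth.Agent.TwistBCLib
open scoped TensorProduct

/-- The comparison map is bijective on the stalk at a point. -/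
theorem bijective_stalk {R R' A B : Type u} [CommRing R'] [CommRing R] [Algebra R' R]
    [CommRing B] [Algebra R' B] (ℬ : ℕ → Submodule R' B) [GradedAlgebra ℬ]
    [CommRing A] [Algebra R A] [Algebra R' A] [IsScalarTower R' R A] (𝒜 : ℕ → Submodule R A) [GradedAlgebra 𝒜]
    [Algebra B A] [IsScalarTower R' B A] [Algebra.IsPushout R' R B A]
    (φ : ℬ →+*ᵍ 𝒜) (hφA : ∀ b : B, φ b = algebraMap B A b)
    (hφ : HomogeneousIdeal.irrelevant 𝒜 ≤ (HomogeneousIdeal.irrelevant ℬ).map φ) (n : ℤ) (x : Proj 𝒜) :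
    Function.Bijective (stalkLin (TwistFunctLib.cmp φ hφ n) x) := by
  classical
  let g := Proj.map φ hφ
  haveI := GrTildeLib.isQCoh_twist (𝒜 := ℬ) n
  let Ox := (Proj 𝒜).presheaf.stalk x
  let Oy := (Proj ℬ).presheaf.stalk (g x)
  let My := (Twist.twist ℬ n).presheaf.stalk (g x)
  letI : Algebra Oy Ox := (g.stalkMap x).hom.toAlgebra
  obtain ⟨φe, hφe⟩ := exists_pullback_stalk_equiv g (Twist.twist ℬ n) x
  let ψ : (Ox ⊗[Oy] My) →ₗ[Ox] (Twist.twist 𝒜 n).presheaf.stalk x :=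
    stalkLin (TwistFunctLib.cmp φ hφ n) x ∘ₗ φe.toLinearMap
  suffices hψ : Function.Bijective ψ by
    have : (stalkLin (TwistFunctLib.cmp φ hφ n) x : _ → _) = ψ ∘ φe.symm := funext fun z => by
      show _ = stalkLin _ x (φe (φe.symm z))
      rw [φe.apply_symm_apply]
    rw [this]
    exact hψ.comp φe.symm.bijective
  have hψG : ∀ {i j : ℕ} (b : ℬ i) (s : ℬ j) (h : (i : ℤ) = j + n) (hs : g x ∈ Proj.basicOpen ℬ s.1) (c : Ox),
      ψ (c ⊗ₜ G n b s h hs) = c • G n (im φ b) (im φ s) h hs := by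
    intro i j b s h hs c
    show stalkLin _ x (φe (c ⊗ₜ _)) = _
    rw [hφe, map_smul, cmp_G]
  -- a homogeneous element of positive degree outside the point
  obtain ⟨e, f, he, hf⟩ : ∃ (e : ℕ) (f : ℬ e), 0 < e ∧ g x ∈ Proj.basicOpen ℬ f.1 := by
    obtain ⟨⟨⟨e, f⟩, he, hfe⟩, hf⟩ := Opens.mem_iSup.1 ((GrTildeLib.iSup_basicOpen_pos (𝒜 := ℬ)).ge (trivial : g x ∈ (⊤ : (Proj ℬ).Opens)))
    exact ⟨e, ⟨f, hfe⟩, he, hf⟩
  let fP : ∀ T : ℕ, ℬ (T * e) := fun T => ⟨f.1 ^ T, SetLike.pow_mem_graded T f.2⟩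
  have hfP : ∀ T, g x ∈ Proj.basicOpen ℬ (fP T).1 := fun T => mem_pow hf T
  have hfPA : ∀ T, x ∈ Proj.basicOpen 𝒜 (im φ (fP T)).1 := fun T => hfP T
  -- scalars from the base
  let oneA : 𝒜 0 := ⟨1, SetLike.GradedOne.one_mem⟩
  let cR : R → 𝒜 0 := fun r => ⟨algebraMap R A r, SetLike.algebraMap_mem_graded 𝒜 r⟩
  let ρR : R →+* Ox :=
    { toFun := fun r => ρ (cR r) oneA mem_one
      map_zero' := ρ_zero (map_zero _)
      map_one' := (ρ_eq (u' := oneA) (v' := oneA) (hv' := mem_one) (by simp [cR, oneA])).trans ρ_one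
      map_add' := fun r r' => by
        rw [← ρ_add]
        exact ρ_eq (by simp [cR, oneA, map_add])
      map_mul' := fun r r' => by
        rw [ρ_mul]
        exact ρ_eq (by simp [cR, oneA]) }
  letI : Module R (Ox ⊗[Oy] My) := Module.compHom _ ρR
  letI : Module R' (Ox ⊗[Oy] My) := Module.compHom _ (ρR.comp (algebraMap R' R))
  haveI : IsScalarTower R' R (Ox ⊗[Oy] My) := ⟨fun a r q => by
    show ρR (a • r) • q = ρR (algebraMap R' R a) • ρR r • q
    rw [Algebra.smul_def, map_mul, mul_smul]⟩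
  have hsmul : ∀ (r : R) (q : Ox ⊗[Oy] My), r • q = ρR r • q := fun _ _ => rfl
  have hmove : ∀ {k : ℕ} (u v : ℬ k) (hv : g x ∈ Proj.basicOpen ℬ v.1) (c : Ox) (m : My),
      c ⊗ₜ[Oy] (ρ u v hv • m) = (ρ (im φ u) (im φ v) hv * c) ⊗ₜ[Oy] m := by
    intro k u v hv c m
    rw [← TensorProduct.smul_tmul, Algebra.smul_def]
    exact congrArg (fun z => (z * c) ⊗ₜ[Oy] m) (stalkMap_ρ φ hφ u v hv)
  -- the inverse maps with fixed denominator
  have hdeg : ∀ {T k : ℕ}, (k : ℤ) = ((T * e : ℕ) : ℤ) + n → (k : ℤ) = ((T * e : ℕ) : ℤ) + n := fun h => h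
  let g₀ : ∀ (T k : ℕ) (_ : (k : ℤ) = ((T * e : ℕ) : ℤ) + n), B →ₗ[R'] Ox ⊗[Oy] My := fun T k hk =>
    { toFun := fun b => (1 : Ox) ⊗ₜ G n (DirectSum.decompose ℬ b k) (fP T) hk (hfP T)
      map_add' := fun b b' => by
        rw [← TensorProduct.tmul_add, ← G_add, DirectSum.decompose_add]
        rfl
      map_smul' := fun a b => by
        show (1 : Ox) ⊗ₜ _ = ρR (algebraMap R' R a) • ((1 : Ox) ⊗ₜ[Oy] _)
        have e1 : G n (DirectSum.decompose ℬ (a • b) k) (fP T) hk (hfP T) =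
            ρ (⟨algebraMap R' B a, SetLike.algebraMap_mem_graded ℬ a⟩ : ℬ 0) ⟨1, SetLike.GradedOne.one_mem⟩ (mem_one (x := g x)) •
              G n (DirectSum.decompose ℬ b k) (fP T) hk (hfP T) := by
          rw [ρ_smul]
          refine G_eq ?_
          rw [DirectSum.decompose_smul, DFinsupp.smul_apply, SetLike.val_smul]
          simp [Algebra.smul_def]
        rw [e1, hmove, TensorProduct.smul_tmul', smul_eq_mul]
        refine congrArg (fun z => z ⊗ₜ[Oy] _) (congrArg (· * (1 : Ox)) (ρ_eq ?_))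
        show φ (algebraMap R' B a) * 1 = algebraMap R A (algebraMap R' R a) * φ 1
        rw [hφA, map_one, ← IsScalarTower.algebraMap_apply, ← IsScalarTower.algebraMap_apply] }
  have hbc : IsBaseChange R (IsScalarTower.toAlgHom R' B A).toLinearMap := Algebra.IsPushout.out
  let Λ : ∀ (T k : ℕ) (_ : (k : ℤ) = ((T * e : ℕ) : ℤ) + n), A →ₗ[R] Ox ⊗[Oy] My := fun T k hk => hbc.lift (g₀ T k hk)
  have hΛ : ∀ T k hk (b : B), Λ T k hk (φ b) =
      (1 : Ox) ⊗ₜ G n (DirectSum.decompose ℬ b k) (fP T) hk (hfP T) := fun T k hk b => by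
    rw [hφA]
    exact hbc.lift_eq (g₀ T k hk) b
  have hspan : ∀ a : A, a ∈ Submodule.span R (Set.range fun b : B => φ b) := fun a => by
    refine hbc.inductionOn a _ (zero_mem _) (fun b => ?_) (fun r a ha => Submodule.smul_mem _ r ha) fun a a' ha ha' => add_mem ha ha'
    exact Submodule.subset_span ⟨b, hφA b⟩
  have hind : ∀ {motive : A → Prop}, motive 0 → (∀ (r : R) (b : B), motive (r • φ b)) →
      (∀ a a', motive a → motive a' → motive (a + a')) → ∀ a, motive a := by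
    intro motive h0 hs ha a
    induction hspan a using Submodule.closure_induction with
    | zero => exact h0
    | add a a' _ _ h h' => exact ha _ _ h h'
    | smul_mem r a hmem =>
      obtain ⟨b, rfl⟩ := hmem
      exact hs r b
  have hproj : ∀ (r : R) (b : B) (k : ℕ), (DirectSum.decompose 𝒜 (r • φ b) k : A) = r • φ (DirectSum.decompose ℬ b k : B) := by
    intro r b k
    rw [DirectSum.decompose_smul, DFinsupp.smul_apply, SetLike.val_smul, GradedRingHom.map_directSumDecompose]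
  -- the value of the inverse maps
  have hψΛ : ∀ T k hk (a : A), ψ (Λ T k hk a) = G n (DirectSum.decompose 𝒜 a k) (im φ (fP T)) hk (hfPA T) := by
    intro T k hk
    refine hind ?_ (fun r b => ?_) (fun a a' h h' => ?_)
    · rw [map_zero, map_zero, G_zero]
      simp
    · rw [map_smul, hΛ]
      show ψ (ρR r • _) = _
      rw [map_smul, hψG, one_smul]
      show ρ (cR r) oneA mem_one • _ = _
      rw [ρ_smul]
      refine G_eq ?_
      rw [hproj]
      simp [cR, oneA, Algebra.smul_def]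
    · rw [map_add, map_add, h, h', ← G_add, DirectSum.decompose_add]
      rfl
  have hΛproj : ∀ T k hk (a : A), Λ T k hk (DirectSum.decompose 𝒜 a k : A) = Λ T k hk a := by
    intro T k hk
    refine hind ?_ (fun r b => ?_) (fun a a' h h' => ?_)
    · simp
    · rw [hproj, map_smul, map_smul, hΛ, hΛ, show DirectSum.decompose ℬ (DirectSum.decompose ℬ b k : B) k = DirectSum.decompose ℬ b k from
        Subtype.ext (DirectSum.decompose_of_mem_same ℬ (DirectSum.decompose ℬ b k).2)]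
    · rw [DirectSum.decompose_add, DirectSum.add_apply, Submodule.coe_add, map_add, map_add, h, h']
  have hmul : ∀ T k hk j (β : 𝒜 (j * e)) (hk' : ((j * e + k : ℕ) : ℤ) = (((j + T) * e : ℕ) : ℤ) + n) (α : A),
      ρ β (im φ (fP j)) (hfPA j) • Λ T k hk α =
        Λ (j + T) (j * e + k) hk' (β.1 * (DirectSum.decompose 𝒜 α k : A)) := by
    intro T k hk j β hk'
    suffices ∀ (β₀ α : A), ρ (DirectSum.decompose 𝒜 β₀ (j * e)) (im φ (fP j)) (hfPA j) • Λ T k hk α =
        Λ (j + T) (j * e + k) hk' ((DirectSum.decompose 𝒜 β₀ (j * e) : A) * (DirectSum.decompose 𝒜 α k : A)) by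
      intro α
      have h1 := this β.1 α
      rwa [show DirectSum.decompose 𝒜 β.1 (j * e) = β from Subtype.ext (DirectSum.decompose_of_mem_same 𝒜 β.2)] at h1
    refine hind ?_ (fun r b => ?_) (fun β₁ β₂ h₁ h₂ => ?_)
    · intro α
      rw [ρ_zero (by simp), zero_smul]
      simp
    · refine hind ?_ (fun r' b' => ?_) (fun a a' h h' => ?_)
      · simp
      · have hb : ρ (DirectSum.decompose 𝒜 (r • φ b) (j * e)) (im φ (fP j)) (hfPA j) =
            ρR r * ρ (im φ (DirectSum.decompose ℬ b (j * e))) (im φ (fP j)) (hfPA j) := by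
          show _ = ρ (cR r) oneA mem_one * _
          rw [ρ_mul]
          refine ρ_eq ?_
          rw [hproj]
          simp [cR, oneA, Algebra.smul_def]
        rw [hb, map_smul, hΛ]
        rw [hsmul]
        rw [hproj, hproj, smul_mul_smul_comm, ← map_mul φ, map_smul, hΛ, hsmul]
        rw [smul_smul, map_mul, mul_assoc, mul_comm (ρ _ _ _) (ρR r'), ← mul_assoc, ← smul_smul (ρR r * ρR r')]
        congr 1
        rw [TensorProduct.smul_tmul', smul_eq_mul, ← hmove _ _ (hfP j), ρ_smul]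
        refine congrArg ((1 : Ox) ⊗ₜ[Oy] ·) (G_eq ?_)
        rw [DirectSum.decompose_of_mem_same ℬ
          (SetLike.mul_mem_graded (DirectSum.decompose ℬ b (j * e)).2 (DirectSum.decompose ℬ b' k).2)]
        show _ * f.1 ^ (j + T) = _ * (f.1 ^ j * f.1 ^ T)
        rw [pow_add]
      · rw [map_add, smul_add, h, h', DirectSum.decompose_add 𝒜 a a', DirectSum.add_apply, Submodule.coe_add, mul_add, map_add]
    · intro α
      rw [DirectSum.decompose_add, DirectSum.add_apply, ρ_add, add_smul, h₁ α, h₂ α, Submodule.coe_add, add_mul, map_add]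
  -- every element is a unit times a value of the inverse maps
  let P : (Ox ⊗[Oy] My) → Prop := fun w => ∃ (j : ℕ) (V : 𝒜 (j * e)) (hV : x ∈ Proj.basicOpen 𝒜 V.1) (T k : ℕ)
    (hk : (k : ℤ) = ((T * e : ℕ) : ℤ) + n) (a : 𝒜 k), w = ρ (im φ (fP j)) V hV • Λ T k hk a.1
  have hP0 : ∀ {T k : ℕ} (hk : (k : ℤ) = ((T * e : ℕ) : ℤ) + n) (a : 𝒜 k) (m : ℕ) (β : 𝒜 (m * e))
      (hk' : ((m * e + k : ℕ) : ℤ) = (((m + T) * e : ℕ) : ℤ) + n),
      ρ β (im φ (fP m)) (hfPA m) • Λ T k hk a.1 = Λ (m + T) (m * e + k) hk' (β.1 * a.1) := by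
    intro T k hk a m β hk'
    rw [hmul T k hk m β hk' a.1, DirectSum.decompose_of_mem_same 𝒜 a.2]
  have hLcast : ∀ {T T' k k' : ℕ} (hk : (k : ℤ) = ((T * e : ℕ) : ℤ) + n) (hk' : (k' : ℤ) = ((T' * e : ℕ) : ℤ) + n)
      (a : A), T = T' → Λ T k hk a = Λ T' k' hk' a := by
    intro T T' k k' hk hk' a hT
    subst hT
    obtain rfl : k = k' := by omega
    rfl
  have hdegmul : ∀ {T k : ℕ} (m : ℕ), (k : ℤ) = ((T * e : ℕ) : ℤ) + n →
      ((m * e + k : ℕ) : ℤ) = (((m + T) * e : ℕ) : ℤ) + n := fun m h => by push_cast at h ⊢; linarith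
  have hone : ∀ m, ρ (im φ (fP m)) (im φ (fP m)) (hfPA m) = 1 := fun m => ρ_one
  -- scaling
  have hPsmul : ∀ {k₀ : ℕ} (u v : 𝒜 k₀) (hv : x ∈ Proj.basicOpen 𝒜 v.1) w, P w → P (ρ u v hv • w) := by
    rintro k₀ u v hv _ ⟨j, V, hV, T, k, hk, a, rfl⟩
    obtain ⟨d, hd⟩ := Nat.exists_eq_succ_of_ne_zero he.ne'
    have hu' : u.1 * v.1 ^ d ∈ 𝒜 (k₀ * e) := by
      have h1 := SetLike.mul_mem_graded u.2 (SetLike.pow_mem_graded d v.2)
      rwa [show k₀ + d • k₀ = k₀ * e by rw [hd, smul_eq_mul, Nat.mul_succ, mul_comm]; omega] at h1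
    have hv' : v.1 ^ e ∈ 𝒜 (k₀ * e) := by
      have h1 := SetLike.pow_mem_graded e v.2
      rwa [smul_eq_mul, mul_comm] at h1
    have hVV : V.1 * v.1 ^ e ∈ 𝒜 ((j + k₀) * e) := by
      rw [add_mul]; exact SetLike.mul_mem_graded V.2 hv'
    refine ⟨j + k₀, ⟨_, hVV⟩, mem_mul hV (mem_pow hv e), k₀ + T, k₀ * e + k, hdegmul k₀ hk,
      ⟨_, SetLike.mul_mem_graded hu' a.2⟩, ?_⟩
    show _ = _ • Λ (k₀ + T) (k₀ * e + k) _ ((u.1 * v.1 ^ d) * a.1)
    rw [← hP0 hk a k₀ ⟨_, hu'⟩ (hdegmul k₀ hk), smul_smul, smul_smul, ρ_mul, ρ_mul]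
    refine congrArg (· • _) (ρ_eq ?_)
    show u.1 * φ (f.1 ^ j) * (V.1 * v.1 ^ e * φ (f.1 ^ k₀)) = φ (f.1 ^ (j + k₀)) * (u.1 * v.1 ^ d) * (v.1 * V.1)
    rw [pow_add, map_mul, show v.1 ^ e = v.1 ^ d * v.1 by rw [hd]; exact pow_succ _ _]
    ring
  have hPadd : ∀ w w', P w → P w' → P (w + w') := by
    rintro _ _ ⟨j, V, hV, T, k, hk, a, rfl⟩ ⟨j', V', hV', T', k', hk', a', rfl⟩
    have hVV : V.1 * V'.1 ∈ 𝒜 ((j + j') * e) := by
      rw [add_mul]; exact SetLike.mul_mem_graded V.2 V'.2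
    -- common indices
    let T'' := j + j' + T + T'
    have hβ : V'.1 * φ (f.1 ^ (j + T')) ∈ 𝒜 ((j' + (j + T')) * e) := by
      rw [add_mul]; exact SetLike.mul_mem_graded V'.2 (im φ (fP (j + T'))).2
    have hβ' : V.1 * φ (f.1 ^ (j' + T)) ∈ 𝒜 ((j + (j' + T)) * e) := by
      rw [add_mul]; exact SetLike.mul_mem_graded V.2 (im φ (fP (j' + T))).2
    have hk1 := hdegmul (j' + (j + T')) hk
    have hk2 := hdegmul (j + (j' + T)) hk'
    have e1 : ρ (im φ (fP j)) V hV • Λ T k hk a.1 = ρ (im φ (fP (j + j'))) ⟨_, hVV⟩ (mem_mul hV hV') •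
        Λ (j' + (j + T') + T) _ hk1 (V'.1 * φ (f.1 ^ (j + T')) * a.1) := by
      rw [← hP0 hk a _ ⟨_, hβ⟩ hk1, smul_smul, ρ_mul]
      refine congrArg (· • _) (ρ_eq ?_)
      show φ (f.1 ^ j) * (V.1 * V'.1 * φ (f.1 ^ (j' + (j + T')))) = φ (f.1 ^ (j + j')) * (V'.1 * φ (f.1 ^ (j + T'))) * V.1
      simp only [pow_add, map_mul]
      ring
    have e2 : ρ (im φ (fP j')) V' hV' • Λ T' k' hk' a'.1 = ρ (im φ (fP (j + j'))) ⟨_, hVV⟩ (mem_mul hV hV') •
        Λ (j' + (j + T') + T) _ hk1 (V.1 * φ (f.1 ^ (j' + T)) * a'.1) := by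
      rw [← hLcast hk2 hk1 _ (by omega), ← hP0 hk' a' _ ⟨_, hβ'⟩ hk2, smul_smul, ρ_mul]
      refine congrArg (· • _) (ρ_eq ?_)
      show φ (f.1 ^ j') * (V.1 * V'.1 * φ (f.1 ^ (j + (j' + T)))) = φ (f.1 ^ (j + j')) * (V.1 * φ (f.1 ^ (j' + T))) * V'.1
      simp only [pow_add, map_mul]
      ring
    have hmem2 : V.1 * φ (f.1 ^ (j' + T)) * a'.1 ∈ 𝒜 ((j' + (j + T')) * e + k) := by
      have h1 := SetLike.mul_mem_graded hβ' a'.2
      rwa [show (j + (j' + T)) * e + k' = (j' + (j + T')) * e + k by push_cast at hk1 hk2; zify; linarith] at h1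
    exact ⟨j + j', ⟨_, hVV⟩, mem_mul hV hV', j' + (j + T') + T, _, hk1,
      ⟨_, add_mem (SetLike.mul_mem_graded hβ a.2) hmem2⟩, by rw [e1, e2, ← smul_add, ← map_add]⟩
  have hfrac : ∀ {i j : ℕ} (a : 𝒜 i) (s : 𝒜 j) (h : (i : ℤ) = j + n) (hs : x ∈ Proj.basicOpen 𝒜 s.1),
      ∃ (V : 𝒜 (j * e)) (hV : x ∈ Proj.basicOpen 𝒜 V.1) (k : ℕ) (hk : (k : ℤ) = ((j * e : ℕ) : ℤ) + n) (a' : 𝒜 k),
        G n a s h hs = ρ (im φ (fP j)) V hV • G n a' (im φ (fP j)) hk (hfPA j) := by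
    intro i j a s h hs
    obtain ⟨d, hd⟩ := Nat.exists_eq_succ_of_ne_zero he.ne'
    have hV : s.1 ^ e ∈ 𝒜 (j * e) := by
      have h1 := SetLike.pow_mem_graded e s.2
      rwa [smul_eq_mul, mul_comm] at h1
    refine ⟨⟨_, hV⟩, mem_pow hs e, i + d • j, by rw [hd, smul_eq_mul]; push_cast; linarith,
      ⟨_, SetLike.mul_mem_graded a.2 (SetLike.pow_mem_graded d s.2)⟩, ?_⟩
    rw [ρ_smul]
    refine G_eq ?_
    show a.1 * (s.1 ^ e * φ (f.1 ^ j)) = φ (f.1 ^ j) * (a.1 * s.1 ^ d) * s.1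
    rw [show s.1 ^ e = s.1 ^ d * s.1 by rw [hd]; exact pow_succ _ _]
    ring
  have hPall : ∀ w, P w := by
    intro w
    have hzero : P 0 := by
      obtain ⟨T, hT⟩ : ∃ T : ℕ, 0 ≤ ((T * e : ℕ) : ℤ) + n := ⟨n.natAbs, by push_cast; nlinarith [abs_nonneg n, Int.natAbs_of_nonneg (abs_nonneg n), (neg_abs_le n), (Int.abs_eq_natAbs n)]⟩
      exact ⟨0, im φ (fP 0), hfPA 0, T, _, (Int.toNat_of_nonneg hT), 0, by simp⟩
    induction w using TensorProduct.induction_on with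
    | zero => exact hzero
    | add w w' h h' => exact hPadd w w' h h'
    | tmul c m =>
      obtain ⟨k₀, u, v, hv, rfl⟩ := exists_ρ c
      rw [show (ρ u v hv) ⊗ₜ[Oy] m = ρ u v hv • ((1 : Ox) ⊗ₜ[Oy] m) by rw [TensorProduct.smul_tmul', smul_eq_mul, mul_one]]
      refine hPsmul u v hv _ ?_
      rcases exists_G m with rfl | ⟨i, j, b, s, h, hs, rfl⟩
      · rw [TensorProduct.tmul_zero]; exact hzero
      · obtain ⟨d, hd⟩ := Nat.exists_eq_succ_of_ne_zero he.ne'
        have hV : s.1 ^ e ∈ ℬ (j * e) := by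
          have h1 := SetLike.pow_mem_graded e s.2
          rwa [smul_eq_mul, mul_comm] at h1
        let b' : ℬ (i + d • j) := ⟨_, SetLike.mul_mem_graded b.2 (SetLike.pow_mem_graded d s.2)⟩
        have hk : ((i + d • j : ℕ) : ℤ) = ((j * e : ℕ) : ℤ) + n := by rw [hd, smul_eq_mul]; push_cast; linarith
        refine ⟨j, im φ ⟨_, hV⟩, mem_pow (x := g x) hs e, j, _, hk, im φ b', ?_⟩
        rw [hΛ, show DirectSum.decompose ℬ b'.1 (i + d • j) = b' from Subtype.ext (DirectSum.decompose_of_mem_same ℬ b'.2), TensorProduct.smul_tmul', smul_eq_mul, ← hmove _ _ (show g x ∈ Proj.basicOpen ℬ (⟨_, hV⟩ : ℬ (j * e)).1 from mem_pow hs e), ρ_smul]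
        refine congrArg ((1 : Ox) ⊗ₜ[Oy] ·) (G_eq ?_)
        show b.1 * (s.1 ^ e * f.1 ^ j) = f.1 ^ j * (b.1 * s.1 ^ d) * s.1
        rw [show s.1 ^ e = s.1 ^ d * s.1 by rw [hd]; exact pow_succ _ _]
        ring
  refine ⟨(injective_iff_map_eq_zero _).2 fun w hw => ?_, fun z => ?_⟩
  · obtain ⟨j, V, hV, T, k, hk, a, rfl⟩ := hPall w
    rw [map_smul, hψΛ, ρ_smul] at hw
    obtain ⟨l, t, ht, hta⟩ := exists_ann_of_G_eq_zero hw
    simp only [DirectSum.decompose_of_mem_same 𝒜 a.2] at hta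
    -- a homogeneous element of degree a multiple of `e` killing `a`
    obtain ⟨d, hd⟩ := Nat.exists_eq_succ_of_ne_zero he.ne'
    have hte : t.1 ^ e * φ (f.1 ^ j) ∈ 𝒜 ((l + j) * e) := by
      have h1 := SetLike.pow_mem_graded e t.2
      rw [smul_eq_mul, mul_comm] at h1
      rw [add_mul]; exact SetLike.mul_mem_graded h1 (im φ (fP j)).2
    have hk' := hdegmul (l + j) hk
    have h2 : ρ ⟨_, hte⟩ (im φ (fP (l + j))) (hfPA (l + j)) • Λ T k hk a.1 = 0 := by
      rw [hP0 hk a _ _ hk']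
      show Λ _ _ _ (t.1 ^ e * φ (f.1 ^ j) * a.1) = 0
      rw [show t.1 ^ e * φ (f.1 ^ j) * a.1 = t.1 ^ d * (t.1 * (φ (f.1 ^ j) * a.1)) by
        rw [show t.1 ^ e = t.1 ^ d * t.1 by rw [hd]; exact pow_succ _ _]; ring,
        hta, mul_zero, map_zero]
    have hu : IsUnit (ρ ⟨_, hte⟩ (im φ (fP (l + j))) (hfPA (l + j)) : Ox) := by
      refine IsUnit.of_mul_eq_one (ρ (im φ (fP (l + j))) ⟨_, hte⟩ (mem_mul (mem_pow ht e) (hfPA j))) ?_
      rw [ρ_mul]
      exact (ρ_eq (u' := oneA) (v' := oneA) (hv' := mem_one) (by simp [oneA]; ring)).trans ρ_one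
    rw [hu.smul_eq_zero] at h2
    rw [h2, smul_zero]
  · rcases exists_G z with rfl | ⟨i, j, a, s, h, hs, rfl⟩
    · exact ⟨0, map_zero ψ⟩
    · obtain ⟨V, hV, k, hk, a', e1⟩ := hfrac a s h hs
      refine ⟨ρ (im φ (fP j)) V hV • Λ j k hk a'.1, ?_⟩
      rw [map_smul, hψΛ, e1, show DirectSum.decompose 𝒜 a'.1 k = a' from Subtype.ext (DirectSum.decompose_of_mem_same 𝒜 a'.2)]

/-- The twisting sheaves under base change: let A' → A be a ring homomorphism, S' a graded A'-algebra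
and S = S' ⊗_{A'} A with the induced grading (here: any graded A-algebra S with a graded
homomorphism φ : S' → S exhibiting S as the base change of S'), and Φ : Proj S → Proj S' the induced
morphism. Then for every integer n the O-module Φ^*(O(n)) is isomorphic to O(n) on Proj S.
(Existence of an isomorphism only; the published identification is canonical. The published
statement also covers a general graded S'-module M'; this row states the twisting sheaves only.) -/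
theorem result {R R' A B : Type u} [CommRing R'] [CommRing R] [Algebra R' R]
    [CommRing B] [Algebra R' B] (ℬ : ℕ → Submodule R' B) [GradedAlgebra ℬ]
    [CommRing A] [Algebra R A] [Algebra R' A] [IsScalarTower R' R A] (𝒜 : ℕ → Submodule R A) [GradedAlgebra 𝒜]
    [Algebra B A] [IsScalarTower R' B A] [Algebra.IsPushout R' R B A]
    (φ : ℬ →+*ᵍ 𝒜) (hφA : ∀ b : B, φ b = algebraMap B A b)
    (hφ : HomogeneousIdeal.irrelevant 𝒜 ≤ (HomogeneousIdeal.irrelevant ℬ).map φ) (n : ℤ) :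
    Nonempty ((Scheme.Modules.pullback (Proj.map φ hφ)).obj (Twist.twist ℬ n) ≅ Twist.twist 𝒜 n) := by
  haveI : IsIso (TwistFunctLib.cmp φ hφ n) :=
    (isIso_iff_stalk _).2 fun x => bijective_stalk ℬ 𝒜 φ hφA hφ n x
  exact ⟨asIso (TwistFunctLib.cmp φ hφ n)⟩

end Groth.Agent.S4406
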