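import Groth.Statements.S4409
import Groth.Agent.AffCritLib.QuasiAff

set_option autoImplicit false
universe u
open CategoryTheory CategoryTheory.Limits AlgebraicGeometry
open EGA2

namespace Groth.Agent.S4409

/-- (a) ⇔ (d): let f : X → Y be a quasi-compact morphism. Then f is quasi-affine (the preimage of every
affine open of Y is a quasi-affine scheme) if and only if f is separated and, for every
quasi-coherent O_X-module F, the canonical morphism f^*(f_*(F)) → F (counit of the adjunction
between f^* and f_*) is an epimorphism. -/
theorem result {X Y : Scheme.{u}} (f : X ⟶ Y) [QuasiCompact f] :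
    Mor2.IsQuasiAffine f ↔ (IsSeparated f ∧ ∀ F : X.Modules, Coh.IsQCoh F →
      Epi ((Scheme.Modules.pullbackPushforwardAdjunction f).counit.app F)) := by
  constructor
  · exact fun hf => ⟨Groth.Agent.AffCritLib.isSeparated_of_isQuasiAffine f hf,
      Groth.Agent.AffCritLib.epi_counit_of_isQuasiAffine f hf⟩
  · rintro ⟨hs, h⟩
    haveI := hs
    exact Groth.Agent.AffCritLib.isQuasiAffine_of_epi_counit f h

end Groth.Agent.S4409
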