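import Groth.Statements.S4411
import Groth.Agent.GrFinGen.Basic

set_option autoImplicit false
set_option linter.style.haveILetI false
set_option linter.unusedVariables false
set_option linter.style.haveILetI false
set_option linter.unusedVariables false
universe u
open EGA2

namespace Groth.Agent.S4411

/-- Let S be a ring graded in nonnegative degrees which is an S_0-algebra of finite type, d > 0, and
S^{(d)} the graded ring whose degree-n part is S_{nd} (given here as any graded ring S' with an
injective algebra homomorphism φ : S' → S carrying S'_n onto S_{nd} for every n). Then S^{(d)} is an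
algebra of finite type over its degree-zero part S'_0 (which φ identifies with S_0). -/
theorem result {R A : Type u} [CommRing R] [CommRing A] [Algebra R A] (𝒜 : ℕ → Submodule R A) [GradedAlgebra 𝒜] [Algebra.FiniteType (𝒜 0) A]
    {B : Type u} [CommRing B] [Algebra R B] (ℬ : ℕ → Submodule R B) [GradedAlgebra ℬ]
    (d : ℕ) (hd : 0 < d) (φ : B →ₐ[R] A) (hφ : Function.Injective φ)
    (hdeg : ∀ n : ℕ, Submodule.map φ.toLinearMap (ℬ n) = 𝒜 (n * d)) :
    Algebra.FiniteType (ℬ 0) B := by
  classical
  obtain ⟨E, deg, hE, hgen⟩ := Groth.Agent.GrFinGen.exists_gens 𝒜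
  have hlift : ∀ (n : ℕ) (a : A), a ∈ 𝒜 (n * d) → ∃ b ∈ ℬ n, φ b = a := by
    intro n a ha
    rw [← hdeg n] at ha
    exact ha
  let P : Finset (E → ℕ) := (Fintype.piFinset fun _ : E => Finset.range (d + 1))
  let ext : (E → ℕ) → A → ℕ := fun γ a => if h : a ∈ E then γ ⟨a, h⟩ else 0
  let P' : Finset (E → ℕ) := P.filter fun γ => d ∣ ∑ e ∈ E, ext γ e • deg e
  have hP : ∀ γ ∈ P', ∃ b, φ b = Groth.Agent.GrFinGen.mon E (ext γ) := by
    intro γ hγ
    obtain ⟨n, hn⟩ := (Finset.mem_filter.mp hγ).2
    have hm := Groth.Agent.GrFinGen.mon_mem hE (ext γ)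
    rw [hn, mul_comm d n] at hm
    obtain ⟨b, -, hb⟩ := hlift n _ hm
    exact ⟨b, hb⟩
  choose! g hg using hP
  refine ⟨⟨P'.image g, eq_top_iff.mpr fun x _ => ?_⟩⟩
  set T := Algebra.adjoin (ℬ 0) ((P'.image g : Finset B) : Set B) with hT
  have hmonT : ∀ (N : ℕ) (α : A → ℕ), ∑ e ∈ E, α e ≤ N → d ∣ ∑ e ∈ E, α e • deg e →
      ∃ b ∈ T, φ b = Groth.Agent.GrFinGen.mon E α := by
    intro N
    induction N with
    | zero =>
      intro α hN _
      refine ⟨1, one_mem _, ?_⟩
      rw [map_one, Groth.Agent.GrFinGen.mon, Finset.prod_eq_one]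
      intro e he
      rw [Nat.le_zero.mp ((Finset.single_le_sum (f := α) (fun _ _ => Nat.zero_le _) he).trans hN), pow_zero]
    | succ N ih =>
      intro α hN hdvd
      by_cases hsmall : ∀ e ∈ E, α e ≤ d
      · have hext : ∀ e ∈ E, ext (fun e : E => α e) e = α e := fun e he => by simp [ext, he]
        have hmem : (fun e : E => α e) ∈ P' := by
          refine Finset.mem_filter.mpr ⟨Fintype.mem_piFinset.mpr fun e => Finset.mem_range.mpr
            (Nat.lt_succ_of_le (hsmall e e.2)), ?_⟩
          rwa [Finset.sum_congr rfl fun e he => by rw [hext e he]]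
        refine ⟨_, Algebra.subset_adjoin (Finset.mem_image_of_mem g hmem), (hg _ hmem).trans ?_⟩
        exact Finset.prod_congr rfl fun e he => by rw [hext e he]
      · push Not at hsmall
        obtain ⟨e, he, hed⟩ := hsmall
        let one : A → ℕ := fun x => if x = e then d else 0
        let rest : A → ℕ := fun x => if x = e then α e - d else α x
        have hsplit : ∀ x, α x = one x + rest x := fun x => by
          by_cases hx : x = e
          · subst hx; simp [one, rest, Nat.add_sub_cancel' hed.le]
          · simp [one, rest, hx]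
        have h1sum : ∑ x ∈ E, one x • deg x = d * deg e := by
          rw [Finset.sum_eq_single e (fun x _ hx => by simp [one, hx]) (fun h => absurd he h)]
          simp [one]
        have hone1 : d ≤ ∑ x ∈ E, one x := by
          have := Finset.single_le_sum (f := one) (fun _ _ => Nat.zero_le _) he
          simpa [one] using this
        have htot : ∑ x ∈ E, α x = ∑ x ∈ E, one x + ∑ x ∈ E, rest x := by
          rw [← Finset.sum_add_distrib]; exact Finset.sum_congr rfl fun x _ => hsplit x
        have hwtot : ∑ x ∈ E, α x • deg x = ∑ x ∈ E, one x • deg x + ∑ x ∈ E, rest x • deg x := by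
          rw [← Finset.sum_add_distrib]; exact Finset.sum_congr rfl fun x _ => by rw [hsplit x, add_smul]
        obtain ⟨b₂, hb₂, e₂⟩ := ih rest (by omega) (by
          rw [hwtot, h1sum] at hdvd
          exact (Nat.dvd_add_right (dvd_mul_right d _)).mp hdvd)
        have hext : ∀ x ∈ E, ext (fun e : E => one e) x = one x := fun x hx => by simp [ext, hx]
        have hmem : (fun x : E => one x) ∈ P' := by
          refine Finset.mem_filter.mpr ⟨Fintype.mem_piFinset.mpr fun x => Finset.mem_range.mpr ?_, ?_⟩
          · simp only [one]; split_ifs <;> omega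
          · rw [Finset.sum_congr rfl fun x hx => by rw [hext x hx], h1sum]
            exact dvd_mul_right d _
        refine ⟨g (fun x : E => one x) * b₂, mul_mem (Algebra.subset_adjoin (Finset.mem_image_of_mem g hmem)) hb₂, ?_⟩
        rw [map_mul, hg _ hmem, e₂, Groth.Agent.GrFinGen.mon, Groth.Agent.GrFinGen.mon, Groth.Agent.GrFinGen.mon,
          ← Finset.prod_mul_distrib]
        exact Finset.prod_congr rfl fun x hx => by rw [hext x hx, ← pow_add, ← hsplit x]
  rw [← DirectSum.sum_support_decompose ℬ x]
  refine Subalgebra.sum_mem _ fun n _ => ?_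
  have hxn : φ (DirectSum.decompose ℬ x n : B) ∈ 𝒜 (n * d) := by
    rw [← hdeg n]; exact ⟨_, SetLike.coe_mem _, rfl⟩
  suffices ∃ b ∈ T, φ b = φ (DirectSum.decompose ℬ x n : B) by
    obtain ⟨b, hb, e⟩ := this
    rw [← hφ e]; exact hb
  refine Groth.Agent.GrFinGen.induction_deg hE hgen _ (motive := fun a => ∃ b ∈ T, φ b = a)
    ⟨0, zero_mem _, map_zero φ⟩ ?_ ?_ hxn
  · rintro a b ⟨a', ha, rfl⟩ ⟨b', hb, rfl⟩
    exact ⟨a' + b', add_mem ha hb, map_add φ _ _⟩
  · intro c α hc hα
    obtain ⟨c', hc', e'⟩ := hlift 0 c (by rwa [zero_mul])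
    obtain ⟨b, hb, eb⟩ := hmonT _ α le_rfl (hα ▸ dvd_mul_left d n)
    exact ⟨c' * b, mul_mem (Subalgebra.algebraMap_mem T (⟨c', hc'⟩ : ℬ 0)) hb, by rw [map_mul, e', eb]⟩

end Groth.Agent.S4411
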