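import Groth.Statements.S4412
import Mathlib

set_option autoImplicit false
set_option linter.style.haveILetI false
set_option linter.unusedVariables false
universe u
open EGA2

namespace Groth.Agent.S4412

/-- Let S be a ring graded in nonnegative degrees which is Noetherian, d > 0, and S^{(d)} the graded
ring with degree-n part S_{nd} (given as a graded ring S' with an injective algebra homomorphism φ :
S' → S carrying S'_n onto S_{nd} for every n). Then S^{(d)} is Noetherian. -/
theorem result {R A : Type u} [CommRing R] [CommRing A] [Algebra R A] (𝒜 : ℕ → Submodule R A) [GradedAlgebra 𝒜] [IsNoetherianRing A]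
    {B : Type u} [CommRing B] [Algebra R B] (ℬ : ℕ → Submodule R B) [GradedAlgebra ℬ]
    (d : ℕ) (hd : 0 < d) (φ : B →ₐ[R] A) (hφ : Function.Injective φ)
    (hdeg : ∀ n : ℕ, Submodule.map φ.toLinearMap (ℬ n) = 𝒜 (n * d)) :
    IsNoetherianRing B := by
  classical
  let π : A →ₗ[R] A := (DirectSum.toModule R ℕ A fun k => if d ∣ k then (𝒜 k).subtype else 0).comp
    (DirectSum.decomposeLinearEquiv 𝒜).toLinearMap
  have hπ : ∀ (k : ℕ) (a : A), a ∈ 𝒜 k → π a = if d ∣ k then a else 0 := by
    intro k a ha
    show DirectSum.toModule R ℕ A _ (DirectSum.decompose 𝒜 a) = _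
    rw [DirectSum.decompose_of_mem 𝒜 ha, ← DirectSum.lof_eq_of R, DirectSum.toModule_lof]
    split_ifs <;> rfl
  have hmul : ∀ (c : A) (b : B), π (c * φ b) = π c * φ b := by
    intro c b
    rw [← DirectSum.sum_support_decompose ℬ b, map_sum, Finset.mul_sum, Finset.mul_sum, map_sum]
    refine Finset.sum_congr rfl fun n _ => ?_
    have hb : φ (DirectSum.decompose ℬ b n : B) ∈ 𝒜 (n * d) := by
      rw [← hdeg n]; exact ⟨_, SetLike.coe_mem _, rfl⟩
    rw [← DirectSum.sum_support_decompose 𝒜 c, Finset.sum_mul, map_sum, map_sum, Finset.sum_mul]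
    refine Finset.sum_congr rfl fun k _ => ?_
    rw [hπ _ _ (SetLike.mul_mem_graded (SetLike.coe_mem _) hb), hπ _ _ (SetLike.coe_mem _), ite_mul, zero_mul]
    congr 1
    exact propext ((Nat.dvd_add_left (dvd_mul_left d n)))
  have hrange : ∀ a : A, ∃ b, φ b = π a := by
    intro a
    rw [← DirectSum.sum_support_decompose 𝒜 a, map_sum]
    have h : ∀ k, ∃ b, φ b = π (DirectSum.decompose 𝒜 a k : A) := by
      intro k
      rw [hπ _ _ (SetLike.coe_mem _)]
      split_ifs with hk
      · obtain ⟨n, rfl⟩ := hk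
        have h1 : (DirectSum.decompose 𝒜 a (d * n) : A) ∈ 𝒜 (n * d) := by
          rw [mul_comm n d]; exact SetLike.coe_mem _
        rw [← hdeg n] at h1
        obtain ⟨b, -, hb⟩ := h1
        exact ⟨b, hb⟩
      · exact ⟨0, map_zero φ⟩
    choose b hb using h
    exact ⟨_, (map_sum φ b _).trans (Finset.sum_congr rfl fun k _ => hb k)⟩
  have hone : π 1 = 1 := by rw [hπ 0 1 (SetLike.one_mem_graded 𝒜), if_pos (dvd_zero d)]
  have hcomap : ∀ I : Ideal B, (I.map φ.toRingHom).comap φ.toRingHom = I := by
    intro I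
    refine le_antisymm (fun x hx => ?_) Ideal.le_comap_map
    have key : ∀ y ∈ I.map φ.toRingHom, ∀ c : A, ∃ b ∈ I, φ b = π (c * y) := by
      intro y hy
      induction hy using Submodule.span_induction with
      | mem z hz =>
        obtain ⟨b, hb, rfl⟩ := hz
        intro c
        obtain ⟨c', hc'⟩ := hrange c
        exact ⟨c' * b, Ideal.mul_mem_left _ _ hb, by rw [map_mul, hc']; exact (hmul c b).symm⟩
      | zero => intro c; exact ⟨0, zero_mem _, by simp⟩
      | add a b _ _ ha hb =>
        intro c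
        obtain ⟨a', ha', ea⟩ := ha c
        obtain ⟨b', hb', eb⟩ := hb c
        exact ⟨a' + b', add_mem ha' hb', by rw [map_add, ea, eb, mul_add, map_add]⟩
      | smul r z _ hz =>
        intro c
        obtain ⟨b, hb, e⟩ := hz (c * r)
        exact ⟨b, hb, by rw [e, smul_eq_mul, mul_assoc]⟩
    obtain ⟨b, hb, e⟩ := key _ (Ideal.mem_comap.mp hx) 1
    have h2 : π (1 * φ x) = φ x := by rw [hmul, hone, one_mul]
    rwa [← hφ (e.trans h2)]
  have hinj : StrictMono (Ideal.map φ.toRingHom : Ideal B → Ideal A) := by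
    intro I J hIJ
    refine lt_of_le_of_ne (Ideal.map_mono hIJ.le) fun h => hIJ.ne ?_
    rw [← hcomap I, h, hcomap J]
  exact isNoetherian_iff'.mpr hinj.wellFoundedGT

end Groth.Agent.S4412
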