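import Groth.Statements.S4413
import Groth.Agent.AmpleLib.Pullback

set_option autoImplicit false
universe u
open CategoryTheory CategoryTheory.Limits AlgebraicGeometry
open EGA2

namespace Groth.Agent.S4413

/-- Let u : Z → S be a morphism of schemes, L an invertible O_S-module, s : O_S → L a global section of
L and s' the section of u^*(L) corresponding to s, i.e. u^*(s) composed with an isomorphism O_Z ≅
u^*(O_S) (the locus in question does not depend on that choice). Then the open Z_{s'} of Z where s'
generates u^*(L) is the preimage u⁻¹(S_s) of the open where s generates L. -/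
theorem result {Z S : Scheme.{u}} (u : Z ⟶ S) (L : S.Modules) (hL : PicF.IsInvertible L)
    (s : Coh.structureModule S ⟶ L)
    (e : Coh.structureModule Z ≅ (Scheme.Modules.pullback u).obj (Coh.structureModule S)) :
    CohB1.genLocus ((Scheme.Modules.pullback u).obj L) (e.hom ≫ (Scheme.Modules.pullback u).map s) = u ⁻¹ᵁ CohB1.genLocus L s := by
  let v := e.hom ≫ (Groth.Agent.AmpleLib.pullO u).hom
  have h : e.hom ≫ (Scheme.Modules.pullback u).map s = v ≫ Groth.Agent.AmpleLib.pullS u s := by
    simp [v, Groth.Agent.AmpleLib.pullS]
  rw [h, ← Groth.Agent.AmpleLib.genLocus_pullS u hL s]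
  refine congrArg sSup (Set.ext fun U => ?_)
  show IsIso ((Scheme.Modules.restrictFunctor U.ι).map (v ≫ Groth.Agent.AmpleLib.pullS u s)) ↔ IsIso _
  rw [Functor.map_comp]
  exact isIso_comp_left_iff _ _

end Groth.Agent.S4413
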