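import Groth.Statements.S4416
import Groth.Agent.ChowLib.Main

set_option autoImplicit false
universe u
open CategoryTheory CategoryTheory.Limits AlgebraicGeometry
open EGA2

namespace Groth.Agent.S4416

/-- Let r : X → S be separated of finite type, and assume either S Noetherian, or S quasi-compact and
separated with X having finitely many irreducible components. Then r is proper if and only if there
are a scheme X' and a surjective morphism f : X' → X with f ≫ r projective. Moreover, when r is
proper, f can be chosen so that in addition there is a dense open U of X with f⁻¹(U) dense in X'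
over which f is an isomorphism, and with X' irreducible (resp. reduced) if X is. (The published
statement also remarks that f is then projective; that is not stated here.) -/
theorem result {X S : Scheme.{u}} (r : X ⟶ S) [IsSeparated r] [LocallyOfFiniteType r] [QuasiCompact r]
    (h : IsNoetherian S ∨ (CompactSpace S ∧ S.IsSeparated ∧ (irreducibleComponents X).Finite)) :
    (IsProper r ↔ ∃ (X' : Scheme.{u}) (f : X' ⟶ X), Surjective f ∧ RelProj.IsProjective (f ≫ r)) ∧
    (IsProper r → ∃ (X' : Scheme.{u}) (f : X' ⟶ X), Surjective f ∧ RelProj.IsProjective (f ≫ r) ∧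
        (∃ U : X.Opens, Dense (U : Set X) ∧ Dense ((f ⁻¹ᵁ U : X'.Opens) : Set X') ∧ IsIso (f ∣_ U)) ∧
        (IrreducibleSpace X → IrreducibleSpace X') ∧ (IsReduced X → IsReduced X')) := by
  obtain ⟨hS, hqs, hfin⟩ : CompactSpace S ∧ QuasiSeparatedSpace S ∧ (irreducibleComponents X).Finite := by
    rcases h with h | ⟨hc, hs, hf⟩
    · haveI := h
      haveI : CompactSpace X := QuasiCompact.compactSpace_of_compactSpace r
      haveI : IsLocallyNoetherian X := LocallyOfFiniteType.isLocallyNoetherian r
      haveI : IsNoetherian X := ⟨⟩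
      exact ⟨inferInstance, inferInstance, finite_irreducibleComponents_of_isNoetherian⟩
    · haveI := hs
      exact ⟨hc, inferInstance, hf⟩
  have key : IsProper r → ∃ (X' : Scheme.{u}) (f : X' ⟶ X), Surjective f ∧ RelProj.IsProjective (f ≫ r) ∧
        (∃ U : X.Opens, Dense (U : Set X) ∧ Dense ((f ⁻¹ᵁ U : X'.Opens) : Set X') ∧ IsIso (f ∣_ U)) ∧
        (IrreducibleSpace X → IrreducibleSpace X') ∧ (IsReduced X → IsReduced X') := fun hr => by
    haveI := hr
    obtain ⟨N, X', π, j, hj, hjf, hπ, hs, hproj, hqp, hred, hirr, U, hd, hd', hiso⟩ :=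
      Groth.Agent.ChowLib.exists_chow_dense r hfin
    haveI := hj
    haveI := hπ
    haveI : IsProper (j ≫ CohB1.ProjSpaceOver.toBase N S) := by rw [hjf]; infer_instance
    haveI : IsSeparated (CohB1.ProjSpaceOver.toBase N S) := by
      haveI := (Groth.Agent.ProjBundleLib.isProper_of_isProjective
        (Groth.Agent.ProjBundleLib.isProjective_of_isHProjective
          (f := CohB1.ProjSpaceOver.toBase N S) ⟨N, 𝟙 _, inferInstance, Category.id_comp _⟩)).1
      infer_instance
    haveI : IsProper j := IsProper.of_comp j (CohB1.ProjSpaceOver.toBase N S)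
    exact ⟨X', π, hs, Groth.Agent.ProjBundleLib.isProjective_of_isHProjective
      ⟨N, j, IsClosedImmersion.of_isPreimmersion j j.isClosedMap.isClosed_range, hjf⟩, ⟨U, hd, hd', hiso⟩, hirr, hred⟩
  refine ⟨⟨fun hr => ?_, ?_⟩, key⟩
  · obtain ⟨X', f, hf, hp, -⟩ := key hr
    exact ⟨X', f, hf, hp⟩
  · rintro ⟨X', f, hf, hp⟩
    obtain ⟨hfp, -⟩ := Groth.Agent.ProjBundleLib.isProper_of_isProjective hp
    haveI := hf
    haveI := hfp
    haveI : UniversallyClosed r := UniversallyClosed.of_comp_surjective f r
    exact ⟨⟩

end Groth.Agent.S4416
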