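import Groth.Statements.S4422
import Groth.Agent.ProjBundleLib.CompVA
import Groth.Agent.ProjBundleLib.ProjMor

set_option autoImplicit false
universe u
open CategoryTheory CategoryTheory.Limits AlgebraicGeometry
open EGA2

namespace Groth.Agent.S4422

/-- Let a : Y → S and a' : Y' → S be morphisms and f : X → Y, f' : X' → Y' projective morphisms (so X
and X' are S-schemes through f ≫ a and f' ≫ a'). Then the product f ×_S f' : X ×_S X' → Y ×_S Y' is
projective. -/
theorem result {X X' Y Y' S : Scheme.{u}} (a : Y ⟶ S) (a' : Y' ⟶ S) (f : X ⟶ Y) (f' : X' ⟶ Y')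
    (hf : RelProj.IsProjective f) (hf' : RelProj.IsProjective f') :
    RelProj.IsProjective (pullback.map (f ≫ a) (f' ≫ a') a a' f f' (𝟙 S) (Category.comp_id (f ≫ a)) (Category.comp_id (f' ≫ a'))) := by

  exact (show RelProj.IsProjective _ by
    let g := pullback.map (f ≫ a) (f' ≫ a') a a' f f' (𝟙 S) (Category.comp_id (f ≫ a)) (Category.comp_id (f' ≫ a'))
    have hg1 : g ≫ pullback.fst a a' = pullback.fst (f ≫ a) (f' ≫ a') ≫ f := pullback.lift_fst _ _ _
    have hg2 : g ≫ pullback.snd a a' = pullback.snd (f ≫ a) (f' ≫ a') ≫ f' := pullback.lift_snd _ _ _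
    have h1 := Groth.Agent.ProjBundleLib.isProjective_baseChange
      (IsPullback.of_hasPullback f (pullback.fst a a')) hf
    have h2 := Groth.Agent.ProjBundleLib.isProjective_baseChange
      (IsPullback.of_hasPullback f' (pullback.snd a a')) hf'
    obtain ⟨E₁, Q₁, q₁, O₁, φ₁, D₁, k₁, hE₁, hk₁, hkq₁⟩ := Groth.Agent.ProjBundleLib.exists_closed_of_isProjective h1
    obtain ⟨E₂, Q₂, q₂, O₂, φ₂, D₂, k₂, hE₂, hk₂, hkq₂⟩ := Groth.Agent.ProjBundleLib.exists_closed_of_isProjective h2
    let c₁ := pullback.lift (f := f) (g := pullback.fst a a') (pullback.fst (f ≫ a) (f' ≫ a')) g hg1.symm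
    let c₂ := pullback.lift (f := f') (g := pullback.snd a a') (pullback.snd (f ≫ a) (f' ≫ a')) g hg2.symm
    have hc₁ : c₁ ≫ pullback.snd f (pullback.fst a a') = g := pullback.lift_snd _ _ _
    have hc₂ : c₂ ≫ pullback.snd f' (pullback.snd a a') = g := pullback.lift_snd _ _ _
    have hr₁ : (c₁ ≫ k₁) ≫ q₁ = g := by rw [Category.assoc, hkq₁, hc₁]
    have hr₂ : (c₂ ≫ k₂) ≫ q₂ = g := by rw [Category.assoc, hkq₂, hc₂]
    let c := pullback.lift c₁ c₂ (hc₁.trans hc₂.symm)
    let back : pullback (pullback.snd f (pullback.fst a a')) (pullback.snd f' (pullback.snd a a')) ⟶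
        pullback (f ≫ a) (f' ≫ a') :=
      pullback.lift (pullback.fst _ _ ≫ pullback.fst _ _) (pullback.snd _ _ ≫ pullback.fst _ _) (by
        simp only [Category.assoc]
        rw [pullback.condition_assoc, pullback.condition_assoc, pullback.condition (f := a) (g := a'),
          pullback.condition_assoc])
    haveI : IsImmersion (c ≫ back) := by
      have : c ≫ back = 𝟙 _ := by
        apply pullback.hom_ext <;> simp only [c, back, Category.assoc, pullback.lift_fst, pullback.lift_snd, pullback.lift_fst_assoc, pullback.lift_snd_assoc, Category.id_comp] <;> simp only [c₁, c₂, pullback.lift_fst]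
      rw [this]
      infer_instance
    haveI := IsImmersion.of_comp c back
    haveI := hk₁
    haveI := hk₂
    haveI : IsImmersion (pullback.lift (c₁ ≫ k₁) (c₂ ≫ k₂) (hr₁.trans hr₂.symm)) := by
      have : pullback.lift (c₁ ≫ k₁) (c₂ ≫ k₂) (hr₁.trans hr₂.symm) = c ≫
          pullback.map _ _ q₁ q₂ k₁ k₂ (𝟙 _) (by simp [hkq₁]) (by simp [hkq₂]) := by
        apply pullback.hom_ext <;> simp only [c, pullback.map, Category.assoc, pullback.lift_fst, pullback.lift_snd, pullback.lift_fst_assoc, pullback.lift_snd_assoc]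
      rw [this]
      haveI : IsImmersion (pullback.map (pullback.snd f (pullback.fst a a')) (pullback.snd f' (pullback.snd a a')) q₁ q₂
          k₁ k₂ (𝟙 _) (by simp [hkq₁]) (by simp [hkq₂])) :=
        MorphismProperty.pullbackMap (P := @IsImmersion) inferInstance inferInstance hkq₁.symm hkq₂.symm
      infer_instance
    obtain ⟨P, p, O1, φ, D, k, hk, hkp, -⟩ := Groth.Agent.ProjBundleLib.exists_tensor_immersion D₁ D₂ hr₁ hr₂
      (Iso.refl _) (Iso.refl _)
    haveI := D₁.hE
    haveI := D₂.hE
    have hft := Groth.Agent.BCLib.isFT_tensorMod E₁ E₂ hE₁ hE₂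
    haveI : IsProper f := (Groth.Agent.ProjBundleLib.isProper_of_isProjective hf).1
    haveI : IsProper f' := (Groth.Agent.ProjBundleLib.isProper_of_isProjective hf').1
    haveI : IsProper g := MorphismProperty.pullbackMap (P := @IsProper) inferInstance inferInstance rfl rfl
    haveI := hk
    haveI := D.isSeparated
    haveI : IsProper (k ≫ p) := by rw [hkp]; infer_instance
    haveI : IsProper k := IsProper.of_comp k p
    haveI : IsClosedImmersion k := IsClosedImmersion.of_isPreimmersion k k.isClosedMap.isClosed_range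
    exact D.isProjective_of_isClosedImmersion hft k hkp)

end Groth.Agent.S4422
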