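import Groth.Statements.S4430
import Groth.Agent.NormLib.Basic

set_option autoImplicit false
universe u
open EGA2

namespace Groth.Agent.S4430

/-- Let A be an integral domain with fraction field K, E a finitely generated A-module and u an
endomorphism of E whose characteristic-polynomial coefficients (those of u ⊗ 1 on K ⊗_A E) all lie
in A. If u is an automorphism of E, then its determinant, as an element of A, is invertible in A. -/
theorem result (A : Type u) [CommRing A] [IsDomain A] (K : Type u) [Field K]
    [Algebra A K] [IsFractionRing A K] (E : Type u) [AddCommGroup E] [Module A E] [Module.Finite A E]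
    (u : E →ₗ[A] E) (hcoeff : ∀ i : ℕ, ((u.baseChange K).charpoly).coeff i ∈ (algebraMap A K).range)
    (a : A) (ha : algebraMap A K a = LinearMap.det (u.baseChange K)) (hu : Function.Bijective u) :
    IsUnit a := by
  let v : E →ₗ[A] E := (LinearEquiv.ofBijective u hu).symm.toLinearMap
  have huv : u ∘ₗ v = LinearMap.id := LinearMap.ext fun x => (LinearEquiv.ofBijective u hu).apply_symm_apply x
  have hdet : LinearMap.det (u.baseChange K) * LinearMap.det (v.baseChange K) = 1 := by
    rw [← LinearMap.det_comp, ← LinearMap.baseChange_comp, huv, LinearMap.baseChange_id, LinearMap.det_id]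
  have hint : IsIntegral A (LinearMap.det (v.baseChange K)) := by
    rw [LinearMap.det_eq_sign_charpoly_coeff]
    exact (isIntegral_one.neg.pow _).mul (Groth.Agent.NormLib.isIntegral_charpoly_coeff A K E v 0)
  let S : Subalgebra A K := integralClosure A K
  have hu' : IsUnit (algebraMap A S a) :=
    IsUnit.of_mul_eq_one (⟨_, hint⟩ : S) (Subtype.ext (show algebraMap A K a * _ = 1 by rw [ha, hdet]))
  haveI : Algebra.IsIntegral A S := ⟨fun x => (isIntegral_algHom_iff S.val Subtype.val_injective).mp x.2⟩
  haveI : IsLocalHom (algebraMap A S) := (algebraMap_isIntegral_iff.mpr ‹_›).isLocalHom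
    (fun x y h => IsFractionRing.injective A K (congrArg (fun t : S => (t : K)) h))
  exact (isUnit_map_iff (algebraMap A S) a).mp hu'

end Groth.Agent.S4430
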