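import Groth.Statements.S4431
import Groth.Agent.NormLib.Basic

set_option autoImplicit false
universe u
open EGA2

namespace Groth.Agent.S4431

/-- Let A be an integral domain with fraction field K, E a finitely generated torsion-free A-module and
u an endomorphism of E whose characteristic-polynomial coefficients (those of u ⊗ 1 on K ⊗_A E) all
lie in A. If the determinant of u is the image of a unit of A, then u is an automorphism of E. -/
theorem result (A : Type u) [CommRing A] [IsDomain A] (K : Type u) [Field K]
    [Algebra A K] [IsFractionRing A K] (E : Type u) [AddCommGroup E] [Module A E] [Module.Finite A E]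
    [Module.IsTorsionFree A E]
    (u : E →ₗ[A] E) (hcoeff : ∀ i : ℕ, ((u.baseChange K).charpoly).coeff i ∈ (algebraMap A K).range)
    (a : A) (ha : algebraMap A K a = LinearMap.det (u.baseChange K)) (hunit : IsUnit a) :
    Function.Bijective u := by
  obtain ⟨q, hq⟩ := (Polynomial.mem_lifts _).mp ((Polynomial.lifts_iff_coeff_lifts _).mpr hcoeff)
  have h0 : Polynomial.aeval u q = 0 := by
    have h1 : (Polynomial.aeval u q).baseChange K = 0 := by
      rw [← Groth.Agent.NormLib.aeval_baseChange A E K, ← Polynomial.aeval_map_algebraMap K, hq]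
      exact LinearMap.aeval_self_charpoly _
    refine LinearMap.ext fun x => ?_
    have h2 := congrArg (fun t : TensorProduct A K E →ₗ[K] TensorProduct A K E => t (TensorProduct.mk A K E 1 x)) h1
    simp only [TensorProduct.mk_apply, LinearMap.baseChange_tmul, LinearMap.zero_apply] at h2
    obtain ⟨c, hc⟩ := (IsLocalizedModule.eq_zero_iff (nonZeroDivisors A) (TensorProduct.mk A K E 1)).mp h2
    exact (smul_eq_zero.mp hc).resolve_left (nonZeroDivisors.coe_ne_zero c)
  have hunit0 : IsUnit (q.coeff 0) := by
    have h := LinearMap.det_eq_sign_charpoly_coeff (u.baseChange K)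
    rw [← ha, ← hq, Polynomial.coeff_map, ← map_one (algebraMap A K), ← map_neg, ← map_pow, ← map_mul] at h
    have h' := IsFractionRing.injective A K h
    rw [h'] at hunit
    exact (IsUnit.mul_iff.mp hunit).2
  obtain ⟨b, hb⟩ := hunit0
  let r : E →ₗ[A] E := -((↑b⁻¹ : A) • Polynomial.aeval u q.divX)
  have e1 : u * Polynomial.aeval u q.divX + (b : A) • 1 = 0 := by
    have e := h0
    rw [← Polynomial.X_mul_divX_add q, map_add, map_mul, Polynomial.aeval_X, Polynomial.aeval_C, ← hb,
      Algebra.algebraMap_eq_smul_one] at e
    exact e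
  have hcomm : Polynomial.aeval u q.divX * u = u * Polynomial.aeval u q.divX :=
    (congrArg (Polynomial.aeval u q.divX * ·) (Polynomial.aeval_X u).symm).trans
      (((map_mul _ _ _).symm.trans (congrArg _ (mul_comm _ _))).trans ((map_mul _ _ _).trans
      (congrArg (· * Polynomial.aeval u q.divX) (Polynomial.aeval_X u))))
  have hur : u * r = 1 := by
    simp only [r, mul_neg, mul_smul_comm, eq_neg_of_add_eq_zero_left e1, smul_neg, smul_smul, neg_neg, Units.inv_mul, one_smul]
  have hru : r * u = 1 := by
    simp only [r, neg_mul, smul_mul_assoc, hcomm, eq_neg_of_add_eq_zero_left e1, smul_neg, smul_smul, neg_neg, Units.inv_mul, one_smul]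
  refine ⟨fun x y h => ?_, fun x => ⟨r x, LinearMap.congr_fun hur x⟩⟩
  rw [← Module.End.one_apply (R := A) x, ← Module.End.one_apply (R := A) y, ← hru, Module.End.mul_apply, Module.End.mul_apply, h]

end Groth.Agent.S4431
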