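import Groth.Statements.S4432
import Mathlib

set_option autoImplicit false
set_option maxHeartbeats 800000
universe u
open EGA2

namespace Groth.Agent.S4432

open Polynomial in
/-- An integral matrix over a field has an integral characteristic polynomial. -/
theorem isIntegral_charpoly_coeff_field {S L : Type u} [CommRing S] [Field L] [Algebra S L] {n : Type*} [Fintype n]
    [DecidableEq n] (M : Matrix n n L) (h : IsIntegral S M) (j : ℕ) : IsIntegral S (M.charpoly.coeff j) := by
  let Λ := AlgebraicClosure L
  let φ : L →ₐ[S] Λ := IsScalarTower.toAlgHom S L Λ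
  refine (isIntegral_algHom_iff φ φ.toRingHom.injective).mp ?_
  let M' : Matrix n n Λ := φ.mapMatrix M
  have hM : IsIntegral S M' := h.map φ.mapMatrix
  rw [show φ (M.charpoly.coeff j) = M'.charpoly.coeff j by
    rw [show M'.charpoly = M.charpoly.map φ.toRingHom from Matrix.charpoly_map M φ.toRingHom, coeff_map]
    rfl]
  refine isIntegral_coeff_of_factors _ (by rw [(Matrix.charpoly_monic M').leadingCoeff]; exact isIntegral_one)
    (IsAlgClosed.splits _) (fun μ hμ => ?_) j
  obtain ⟨q, hq, hqM⟩ := hM
  refine ⟨q, hq, ?_⟩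
  rcases isEmpty_or_nonempty n with hn | hn
  · exfalso
    rw [Matrix.charpoly_isEmpty, Polynomial.IsRoot.def, eval_one] at hμ
    exact one_ne_zero hμ
  have hσ : μ ∈ spectrum Λ M' := Matrix.mem_spectrum_of_isRoot_charpoly hμ
  have h0 : Polynomial.aeval M' (q.map (algebraMap S Λ)) = 0 := by
    rw [Polynomial.aeval_map_algebraMap]; exact hqM
  have hsub := spectrum.subset_polynomial_aeval M' (q.map (algebraMap S Λ)) ⟨μ, hσ, rfl⟩
  rw [h0, spectrum.zero_eq, Set.mem_singleton_iff] at hsub
  simp only [eval_map] at hsub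
  exact hsub

/-- An integral matrix over a reduced Noetherian ring has an integral characteristic polynomial. -/
theorem isIntegral_charpoly_coeff {S R : Type u} [CommRing S] [CommRing R] [IsReduced R] [IsNoetherianRing R]
    [Algebra S R] {n : Type*} [Fintype n] [DecidableEq n] (M : Matrix n n R) (h : IsIntegral S M) (j : ℕ) :
    IsIntegral S (M.charpoly.coeff j) := by
  classical
  have key : ∀ p : {p : Ideal R // p ∈ minimalPrimes R}, ∃ q : Polynomial S, q.Monic ∧
      Polynomial.aeval (M.charpoly.coeff j) q ∈ p.1 := by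
    intro ⟨p, hp⟩
    haveI : p.IsPrime := hp.1.1
    let L := FractionRing (R ⧸ p)
    let ψ : R →ₐ[S] L := (IsScalarTower.toAlgHom S (R ⧸ p) L).comp (Ideal.Quotient.mkₐ S p)
    obtain ⟨q, hq, hq0⟩ := isIntegral_charpoly_coeff_field (ψ.mapMatrix M) (h.map ψ.mapMatrix) j
    refine ⟨q, hq, ?_⟩
    rw [show (ψ.mapMatrix M).charpoly = M.charpoly.map ψ.toRingHom from Matrix.charpoly_map M ψ.toRingHom,
      Polynomial.coeff_map] at hq0
    have h1 : ψ (Polynomial.aeval (M.charpoly.coeff j) q) = 0 := by
      rw [← Polynomial.aeval_algHom_apply]; exact hq0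
    rw [← Ideal.Quotient.eq_zero_iff_mem]
    exact IsFractionRing.injective (R ⧸ p) L (h1.trans (map_zero _).symm)
  choose q hq hmem using key
  haveI : Finite {p : Ideal R // p ∈ minimalPrimes R} :=
    (minimalPrimes.finite_of_isNoetherianRing R).to_subtype
  haveI := Fintype.ofFinite {p : Ideal R // p ∈ minimalPrimes R}
  refine ⟨∏ p, q p, Polynomial.monic_prod_of_monic _ _ fun p _ => hq p, ?_⟩
  show Polynomial.aeval _ (∏ p, q p) = 0
  have hnil : Polynomial.aeval (M.charpoly.coeff j) (∏ p, q p) ∈ nilradical R := by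
    rw [nilradical, ← Ideal.sInf_minimalPrimes, Submodule.mem_sInf]
    intro p hp
    rw [map_prod]
    exact Ideal.prod_mem (I := p) (Finset.mem_univ (⟨p, hp⟩ : {p : Ideal R // p ∈ minimalPrimes R})) (hmem ⟨p, hp⟩)
  rwa [nilradical_eq_zero, Ideal.zero_eq_bot, Ideal.mem_bot] at hnil

open TensorProduct in

/-- Let A be a reduced Noetherian ring, K its total ring of fractions, and E a finitely generated
A-module with K ⊗_A E free over K. The A-subalgebra of K generated by the coefficients of the
characteristic polynomials of v ⊗ 1 (v running through all endomorphisms of E), i.e. by all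
elementary symmetric functions of all endomorphisms of E, is a finitely generated A-module. -/
theorem result (A : Type u) [CommRing A] [IsNoetherianRing A] [IsReduced A]
    (E : Type u) [AddCommGroup E] [Module A E] [Module.Finite A E]
    [Module.Free (FractionRing A) (TensorProduct A (FractionRing A) E)] :
    (Algebra.adjoin A {c : FractionRing A | ∃ (v : E →ₗ[A] E) (j : ℕ),
        c = ((v.baseChange (FractionRing A)).charpoly).coeff j}).toSubmodule.FG := by
  classical
  let K := FractionRing A
  haveI : IsNoetherianRing K := IsLocalization.isNoetherianRing (nonZeroDivisors A) K inferInstance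
  haveI : IsReduced K := inferInstance
  let M := K ⊗[A] E
  let b := Module.Free.chooseBasis K M
  let ι := Module.Free.ChooseBasisIndex K M
  obtain ⟨m, e, he⟩ := Module.Finite.exists_fin (R := A) (M := Module.End A E)
  let Φ : Module.End A E →ₐ[A] Matrix ι ι K :=
    ((LinearMap.toMatrixAlgEquiv b).toAlgHom.restrictScalars A).comp (Module.End.baseChangeHom A K E)
  let P := MvPolynomial (Fin m) A
  let R := MvPolynomial (Fin m) K
  letI : Algebra P R := MvPolynomial.algebraMvPolynomial
  haveI : IsScalarTower A P R := .of_algebraMap_eq fun a => by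
    show _ = MvPolynomial.map (algebraMap A K) (MvPolynomial.C a)
    rw [MvPolynomial.map_C]
    rfl
  let CK : K →ₐ[A] R := IsScalarTower.toAlgHom A K R
  let Ψ : P ⊗[A] Module.End A E →ₐ[P] Matrix ι ι R :=
    Algebra.TensorProduct.lift (Algebra.ofId P (Matrix ι ι R)) (CK.mapMatrix.comp Φ) fun x y => Algebra.commutes x _
  let τ : P ⊗[A] Module.End A E := ∑ i, (MvPolynomial.X i : P) ⊗ₜ[A] e i
  haveI : Module.Finite P (P ⊗[A] Module.End A E) := inferInstance
  have hτ : IsIntegral P (Ψ τ) := (IsIntegral.of_finite P τ).map Ψ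
  let G := (Ψ τ).charpoly
  have hG : ∀ j μ, IsIntegral A ((G.coeff j).coeff μ) := fun j =>
    MvPolynomial.isIntegral_iff_isIntegral_coeff.mp (isIntegral_charpoly_coeff (Ψ τ) hτ j)
  let T : Finset K := (Finset.range (Fintype.card ι + 1)).biUnion fun j =>
    (G.coeff j).support.image fun μ => (G.coeff j).coeff μ
  let Sub := Algebra.adjoin A (T : Set K)
  have hSub : Sub.toSubmodule.FG := fg_adjoin_of_finite T.finite_toSet fun x hx => by
    obtain ⟨j, -, hx⟩ := Finset.mem_biUnion.1 hx
    obtain ⟨μ, -, rfl⟩ := Finset.mem_image.1 hx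
    exact hG j μ
  have hle : Algebra.adjoin A {c : K | ∃ (v : E →ₗ[A] E) (j : ℕ), c = ((v.baseChange K).charpoly).coeff j} ≤ Sub := by
    refine Algebra.adjoin_le ?_
    rintro c ⟨v, j, rfl⟩
    obtain ⟨a, ha⟩ := Submodule.mem_span_range_iff_exists_fun A |>.1
      (show v ∈ Submodule.span A (Set.range e) by rw [he]; trivial)
    let ev : R →ₐ[K] K := MvPolynomial.aeval fun i => algebraMap A K (a i)
    have hev : ev.toRingHom.mapMatrix (Ψ τ) = Φ v := by
      rw [map_sum, map_sum, ← ha, map_sum]
      refine Finset.sum_congr rfl fun i _ => ?_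
      rw [map_smul]
      show ev.toRingHom.mapMatrix (Algebra.ofId P (Matrix ι ι R) (MvPolynomial.X i) * (CK.mapMatrix.comp Φ) (e i)) = _
      rw [map_mul]
      have h1 : ev.toRingHom.mapMatrix (Algebra.ofId P (Matrix ι ι R) (MvPolynomial.X i)) =
          algebraMap A (Matrix ι ι K) (a i) := by
        ext r s
        simp [Algebra.ofId_apply, Matrix.algebraMap_matrix_apply, apply_ite ev, ev,
          MvPolynomial.algebraMap_def]
        refine if_congr Iff.rfl ?_ rfl
        show MvPolynomial.aeval _ (MvPolynomial.map (algebraMap A K) (MvPolynomial.X i)) = _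
        exact (congrArg _ (MvPolynomial.map_X _ i)).trans (MvPolynomial.aeval_X _ i)
      have h2 : ev.toRingHom.mapMatrix ((CK.mapMatrix.comp Φ) (e i)) = Φ (e i) := by
        ext r s
        simp [ev, CK]
      rw [h1, h2, ← Algebra.smul_def]
    have hc : (v.baseChange K).charpoly.coeff j = ev (G.coeff j) := by
      rw [← LinearMap.charpoly_toMatrix (v.baseChange K) b]
      show (Φ v).charpoly.coeff j = _
      rw [← hev, show (ev.toRingHom.mapMatrix (Ψ τ)).charpoly = G.map ev.toRingHom from
        Matrix.charpoly_map (Ψ τ) ev.toRingHom, Polynomial.coeff_map]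
      rfl
    show (v.baseChange K).charpoly.coeff j ∈ Sub
    rw [hc]
    by_cases hj : j ≤ Fintype.card ι
    · show MvPolynomial.aeval _ (G.coeff j) ∈ Sub
      rw [MvPolynomial.aeval_def, MvPolynomial.eval₂_eq]
      refine Subalgebra.sum_mem _ fun μ hμ => Subalgebra.mul_mem _ (Algebra.subset_adjoin ?_)
        (Subalgebra.prod_mem _ fun i _ => Subalgebra.pow_mem _ (Subalgebra.algebraMap_mem _ _) _)
      exact Finset.mem_biUnion.2 ⟨j, Finset.mem_range.2 (by omega), Finset.mem_image.2 ⟨μ, hμ, rfl⟩⟩
    · rcases subsingleton_or_nontrivial K with hK | hK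
      · rw [Subsingleton.elim (ev (G.coeff j)) 0]; exact Sub.zero_mem
      haveI : Nontrivial R := inferInstance
      have : G.coeff j = 0 := Polynomial.coeff_eq_zero_of_natDegree_lt (by
        rw [Matrix.charpoly_natDegree_eq_dim]; omega)
      rw [this, map_zero]
      exact Sub.zero_mem
  exact Submodule.FG.of_le hSub hle

end Groth.Agent.S4432
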