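import Groth.Statements.S4438
import Groth.Agent.NormHomLib.FinLocFree
import Groth.Agent.QuotAmpleLib.NormRel
import Groth.Agent.InvDescLib.Disjoint
import Groth.Agent.AmpleEmb.Disjoint
import Groth.Agent.GrpAmpleLib.Clopen
import Groth.Agent.FinLocFreeLib.Basic
import Groth.Agent.AmpleLib.Rel

set_option autoImplicit false
universe u
open CategoryTheory CategoryTheory.Limits AlgebraicGeometry
open EGA2

namespace Groth.Agent.S4438

open TopologicalSpace Groth.Agent.AmpleLib

theorem isQuasiAffine_of_isAffineHom {A B : Scheme.{u}} (g : A ⟶ B) [IsAffineHom g] : Mor2.IsQuasiAffine g := by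
  refine ⟨inferInstance, fun U hU => ?_⟩
  haveI : IsAffine ((g ⁻¹ᵁ U : A.Opens) : Scheme.{u}) := hU.preimage g
  infer_instance

/-- In existence form: let f : X ⟶ Y be a quasi-compact morphism and g : X' ⟶ X a finite surjective
morphism such that the direct image of O_{X'} is a finite locally free O_X-module. Then there is an
invertible O_X-module ample relative to f if and only if there is an invertible O_{X'}-module ample
relative to f ∘ g. (For the descent direction the published statement names the module on X, the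
norm of the given one; this row asserts existence only. The other direction is the inverse image
along the affine morphism g.) -/
theorem result {X X' Y : Scheme.{u}} (f : X ⟶ Y) [QuasiCompact f]
    (g : X' ⟶ X) [IsFinite g] [Surjective g]
    (hfree : FlatMod.IsFinLocFree ((Coh.push g).obj (Coh.structureModule X'))) :
    (∃ L : X.Modules, PicF.IsInvertible L ∧ RelAmple.IsRelAmple f L) ↔
      ∃ L' : X'.Modules, PicF.IsInvertible L' ∧ RelAmple.IsRelAmple (g ≫ f) L' := by
  constructor
  · rintro ⟨L, hL, h⟩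
    exact ⟨(Scheme.Modules.pullback g).obj L, isInvertible_pullback g hL,
      isRelAmple_pullback_quasiAffine g (isQuasiAffine_of_isAffineHom g) h⟩
  rintro ⟨L', hL', h⟩
  have hflf : Mor2.IsFinLocFree g := FinLocFreeLib.isFinLocFree_of_push g hfree
  haveI : Flat g := hflf.2.1
  haveI : LocallyOfFinitePresentation g := hflf.2.2
  let U : ULift.{u} ℕ → X.Opens := fun e => ⟨g.finrank ⁻¹' {e.down}, g.isLocallyConstant_finrank.isOpen_fiber e.down⟩
  have hUc : ∀ e, IsClosed (U e : Set X) := fun e => g.isLocallyConstant_finrank.isClosed_fiber e.down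
  haveI : ∀ e, IsClosedImmersion (U e).ι := fun e =>
    IsClosedImmersion.of_isPreimmersion _ (by rw [Scheme.Opens.range_ι]; exact hUc e)
  have hN : ∀ e, ∃ M : (U e : Scheme.{u}).Modules, RelAmple.IsRelAmple ((U e).ι ≫ f) M := by
    intro e
    by_cases he : 1 ≤ e.down
    · haveI : IsFinite (g ∣_ U e) := MorphismProperty.of_isPullback (P := @IsFinite) (isPullback_morphismRestrict g (U e)).flip inferInstance
      have hrank : ∀ y, (g ∣_ U e).finrank y = e.down := fun y => by
        rw [Scheme.Hom.finrank_of_isPullback _ _ _ _ (isPullback_morphismRestrict g (U e)).flip y]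
        exact y.2
      obtain ⟨N⟩ := NormHomLib.hasNorm_of_finLocFree (g ∣_ U e) e.down he
        ⟨inferInstance, MorphismProperty.of_isPullback (P := @Flat) (isPullback_morphismRestrict g (U e)).flip inferInstance,
          MorphismProperty.of_isPullback (P := @LocallyOfFinitePresentation) (isPullback_morphismRestrict g (U e)).flip inferInstance⟩
        fun y => (hrank y).symm ▸ dvd_rfl
      haveI : IsClosedImmersion (g ⁻¹ᵁ U e).ι :=
        MorphismProperty.of_isPullback (P := @IsClosedImmersion) (isPullback_morphismRestrict g (U e)) inferInstance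
      have h1 := isRelAmple_pullback_quasiAffine (g ⁻¹ᵁ U e).ι (isQuasiAffine_of_isAffineHom _) h
      rw [← Category.assoc, ← morphismRestrict_ι, Category.assoc] at h1
      exact QuotAmpleLib.exists_isRelAmple_of_norm N h1
    · haveI : IsEmpty (U e : Scheme.{u}) := ⟨fun y => he (by
        have hy : g.finrank y.1 = e.down := y.2
        exact hy ▸ (Scheme.Hom.one_le_finrank_iff_surjective g).2 inferInstance y.1)⟩
      exact ⟨Coh.structureModule _, isRelAmple_of_locally fun y => by
        obtain ⟨_, ⟨V, hV, rfl⟩, hyV, -⟩ :=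
          Y.isBasis_affineOpens.exists_subset_of_mem_open (Set.mem_univ y) isOpen_univ
        haveI : IsEmpty (((U e).ι ≫ f) ⁻¹ᵁ V : Scheme.{u}) := ⟨fun z => isEmptyElim z.1⟩
        exact ⟨V, hV, hyV, ⟨ParaFLib.isInvertible_restrict _ ParaFLib.isInvertible_structureModule, inferInstance,
          fun z => isEmptyElim z⟩⟩⟩
  choose M hM using hN
  have hMi : ∀ e, PicF.IsInvertible (M e) := fun e => isInvertible_of_isRelAmple (hM e)
  have hdu : InvDescLib.IsDisjointUnion fun e => (U e).ι := by
    refine ⟨fun i k a b hab => ?_, fun x => ⟨⟨g.finrank x⟩, ⟨x, rfl⟩, rfl⟩⟩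
    have ha : g.finrank a.1 = i.down := a.2
    have hb : g.finrank b.1 = k.down := b.2
    rw [show a.1 = b.1 from hab, hb] at ha
    exact ULift.ext _ _ ha.symm
  obtain ⟨P, hP⟩ := hdu.exists_pic fun e => PicLib.cls (hMi e)
  obtain ⟨L, hL, rfl⟩ := PicLib.exists_cls P
  refine ⟨L, hL, isRelAmple_of_locally fun y => ?_⟩
  obtain ⟨_, ⟨V, hV, rfl⟩, hyV, -⟩ :=
    Y.isBasis_affineOpens.exists_subset_of_mem_open (Set.mem_univ y) isOpen_univ
  refine ⟨V, hV, hyV, ?_⟩
  haveI : CompactSpace (f ⁻¹ᵁ V : Scheme.{u}) := isCompact_iff_compactSpace.1 (f.isCompact_preimage hV.isCompact)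
  refine GrpAmpleLib.isAmple_of_clopen (ParaFLib.isInvertible_restrict _ hL) fun x => ?_
  let e : ULift.{u} ℕ := ⟨g.finrank x.1⟩
  refine ⟨(f ⁻¹ᵁ V).ι ⁻¹ᵁ U e, rfl, (hUc e).preimage (f ⁻¹ᵁ V).ι.continuous, ?_⟩
  obtain ⟨θ⟩ := (PicLib.cls_eq_cls (isInvertible_pullback _ hL) (hMi e)).1
    ((PicLib.pull_cls _ hL).symm.trans (hP e))
  have h2 : AmpleOn L ((U e).ι ''ᵁ (((U e).ι ≫ f) ⁻¹ᵁ V)) := by
    rw [← AmpleEmb.ampleOn_pullback_iff]
    exact isAmple_of_iso ((Scheme.Modules.restrictFunctor _).mapIso θ.symm) ((hM e).2 ⟨V, hV⟩)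
  refine isAmple_of_iso (ParaFLib.restrictComp _ _ L) ((ampleOn_iff_of_range _).2 ?_)
  rw [Scheme.Hom.opensRange_comp, Scheme.Opens.opensRange_ι]
  rw [Scheme.Hom.comp_preimage, Scheme.Hom.image_preimage_eq_opensRange_inf, Scheme.Opens.opensRange_ι] at h2
  rw [Scheme.Hom.image_preimage_eq_opensRange_inf, Scheme.Opens.opensRange_ι, inf_comm]
  exact h2

end Groth.Agent.S4438
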