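import Groth.Statements.S4441
import Mathlib

set_option autoImplicit false
set_option backward.isDefEq.respectTransparency false
universe u
open CategoryTheory CategoryTheory.Limits AlgebraicGeometry
open EGA2

namespace Groth.Agent.S4441

/-- Let X and Y be integral separated schemes and f : X ⟶ Y a dominant, quasi-compact, universally
closed morphism, ξ the generic point of X. Every valuation subring R of the function field K(X) of X
which dominates the local ring of Y at a point y (via O_{Y,y} → O_{Y,f(ξ)} → K(X): image inside R,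
maximal ideal into the maximal ideal of R) also dominates the local ring of X at some point x (via
O_{X,x} → K(X)). -/
theorem result {X Y : Scheme.{u}} [IsIntegral X] [IsIntegral Y]
    [X.IsSeparated] [Y.IsSeparated] (f : X ⟶ Y) [IsDominant f] [QuasiCompact f] [UniversallyClosed f]
    (R : ValuationSubring X.functionField) (y : Y) (hy : f.base (genericPoint X) ⤳ y)
    (hdom : (∀ a : Y.presheaf.stalk y, (Y.presheaf.stalkSpecializes hy ≫ f.stalkMap (genericPoint X)).hom a ∈ R) ∧
      ∀ a ∈ IsLocalRing.maximalIdeal (Y.presheaf.stalk y),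
        R.valuation ((Y.presheaf.stalkSpecializes hy ≫ f.stalkMap (genericPoint X)).hom a) < 1) :
    ∃ x : X, (∀ a : X.presheaf.stalk x, algebraMap (X.presheaf.stalk x) X.functionField a ∈ R) ∧
      ∀ a ∈ IsLocalRing.maximalIdeal (X.presheaf.stalk x), R.valuation (algebraMap (X.presheaf.stalk x) X.functionField a) < 1 := by
  let ψ : Y.presheaf.stalk y →+* X.functionField := (Y.presheaf.stalkSpecializes hy ≫ f.stalkMap (genericPoint X)).hom
  let φ : Y.presheaf.stalk y →+* R := ψ.codRestrict R.toSubring hdom.1
  haveI : IsLocalHom φ := ⟨fun a hu => by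
    by_contra ha
    have h1 : φ a ∈ IsLocalRing.maximalIdeal R := (R.valuation_lt_one_iff (φ a)).2 (hdom.2 a ha)
    exact h1 hu⟩
  let ξ := genericPoint X
  have hsq : CommSq (X.fromSpecStalk ξ) (Spec.map (CommRingCat.ofHom (algebraMap R X.functionField))) f
      (Spec.map (CommRingCat.ofHom φ) ≫ Y.fromSpecStalk y) := ⟨by
    rw [← Category.assoc, ← Spec.map_comp, ← Scheme.SpecMap_stalkMap_fromSpecStalk,
      ← Scheme.SpecMap_stalkSpecializes_fromSpecStalk hy, ← Category.assoc, ← Spec.map_comp]
    rfl⟩
  have huc : UniversallyClosed f := inferInstance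
  rw [UniversallyClosed.eq_valuativeCriterion] at huc
  let Sq : ValuativeCommSq f :=
    { R := R
      K := X.functionField
      i₁ := X.fromSpecStalk ξ
      i₂ := Spec.map (CommRingCat.ofHom φ) ≫ Y.fromSpecStalk y
      commSq := hsq }
  obtain ⟨⟨l⟩⟩ := huc.1 Sq
  let g : Spec (CommRingCat.of R) ⟶ X := l.l
  refine ⟨g (IsLocalRing.closedPoint R), ?_⟩
  let θ := Scheme.stalkClosedPointTo (R := CommRingCat.of R) g
  have hθ : θ ≫ CommRingCat.ofHom (algebraMap R X.functionField) =
      X.presheaf.stalkSpecializes ((genericPoint_spec X).specializes (Set.mem_univ _)) := by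
    refine Spec.map_injective ((cancel_mono (X.fromSpecStalk (g (IsLocalRing.closedPoint R)))).1 ?_)
    rw [Spec.map_comp, Category.assoc, Scheme.Spec_stalkClosedPointTo_fromSpecStalk,
      Scheme.SpecMap_stalkSpecializes_fromSpecStalk]
    exact l.fac_left
  have hval : ∀ a, algebraMap (X.presheaf.stalk (g (IsLocalRing.closedPoint R))) X.functionField a =
      (θ a : R).1 := fun a => (congrArg (fun z => z a) hθ).symm
  refine ⟨fun a => hval a ▸ (θ a : R).2, fun a ha => ?_⟩
  rw [hval a]
  refine (R.valuation_lt_one_iff _).1 fun hu => ?_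
  haveI : IsLocalHom θ.hom := inferInstance
  exact ha (IsUnit.of_map θ.hom a hu)

end Groth.Agent.S4441
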