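import Groth.Statements.S4442
import Groth.Agent.DimFormulaLib.Field
import Groth.Agent.DimFormulaLib.Misc

set_option autoImplicit false
universe u
open CategoryTheory CategoryTheory.Limits AlgebraicGeometry
attribute [local instance] Curv2.resAlgebra
open EGA2

namespace Groth.Agent.S4442

/-- (a) ⇔ (b): let X be a scheme of finite type over a field k. The residue fields of the generic points
of the irreducible components of X all have transcendence degree one over k if and only if the local
ring of X at every closed point has dimension one. (The published statement has a third equivalent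
condition: the irreducible closed subsets of X other than the irreducible components are exactly the
closed points of X. This row states only the equivalence of the first two.) -/
theorem result (k : Type u) [Field k] (X : Scheme.{u})
    [X.Over (Spec (CommRingCat.of k))] [LocallyOfFiniteType (X ↘ (Spec (CommRingCat.of k)))]
    [QuasiCompact (X ↘ (Spec (CommRingCat.of k)))] :
    (∀ x : X, closure ({x} : Set X) ∈ irreducibleComponents (X : Type u) → Algebra.trdeg k (X.residueField x) = 1) ↔
      ∀ x : X, IsClosed ({x} : Set X) → ringKrullDim (X.presheaf.stalk x) = 1 := by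
  classical
  haveI : CompactSpace X := QuasiCompact.compactSpace_of_compactSpace (X ↘ (Spec (CommRingCat.of k)))
  have key : ∀ y : X, ∃ a t : ℕ, ringKrullDim (X.presheaf.stalk y) = (a : WithBot ℕ∞) ∧
      Algebra.trdeg k (X.residueField y) = t ∧
      FlatMor.localDim ↥X y = ((a + t : ℕ) : WithBot ℕ∞) ∧ Order.height y = t := fun y => by
    obtain ⟨a, t, ha, ht, hl, hh⟩ := DimFormulaLib.field_dims (X ↘ (Spec (CommRingCat.of k))) y
    rw [DimFormulaLib.resTrdegAt_over] at ht
    exact ⟨a, t, ha, ht, hl, hh⟩
  have hgen : ∀ y : X, ∃ η : X, closure ({η} : Set X) ∈ irreducibleComponents (X : Type u) ∧ y ≤ η := fun y => by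
    obtain ⟨η, hη⟩ := QuasiSober.sober (isIrreducible_irreducibleComponent (x := y)) isClosed_irreducibleComponent
    exact ⟨η, hη.def.symm ▸ irreducibleComponent_mem_irreducibleComponents y,
      Scheme.le_iff_specializes.2 (hη.specializes mem_irreducibleComponent)⟩
  have hmax : ∀ η y : X, closure ({η} : Set X) ∈ irreducibleComponents (X : Type u) → η ≤ y → y = η :=
    fun η y h hy => by
      have h1 : closure ({η} : Set X) ⊆ closure {y} :=
        closure_minimal (Set.singleton_subset_iff.2 (Scheme.le_iff_specializes.1 hy).mem_closure) isClosed_closure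
      have h2 : y ⤳ η := Scheme.le_iff_specializes.1 hy
      have h3 : η ⤳ y := specializes_iff_mem_closure.2 (h.le_of_ge isIrreducible_singleton.closure h1 (subset_closure rfl))
      exact (h2.antisymm h3).eq
  constructor
  · intro h x hx
    obtain ⟨a, t, ha, -, -, hh⟩ := key x
    have ht : Order.height x = 0 := Order.height_eq_zero.2 fun w hw =>
      le_of_eq ((Scheme.le_iff_specializes.1 hw).mem_closed hx rfl).symm
    obtain ⟨η, hη, hxη⟩ := hgen x
    have hone : ∀ y : X, Order.height y ≤ 1 := fun y => by
      obtain ⟨η', hη', hy⟩ := hgen y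
      obtain ⟨_, s, -, hs, -, hsh⟩ := key η'
      rw [h η' hη'] at hs
      have h1 : s = 1 := by exact_mod_cast hs.symm
      exact (Order.height_mono hy).trans (le_of_eq (by rw [hsh, h1, Nat.cast_one]))
    have hlt : x < η := lt_of_le_not_ge hxη fun hge' => by
      have e : x = η := hmax η x hη hge'
      obtain ⟨_, s, -, hs, -, hsh⟩ := key η
      rw [h η hη] at hs
      have h1 : s = 1 := by exact_mod_cast hs.symm
      rw [← e, ht, h1] at hsh
      exact absurd hsh (by simp)
    rw [ringKrullDim_stalk_eq_coheight]
    have hle : Order.coheight x ≤ 1 := by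
      have := (Order.coheight_le_krullDim x).trans
        (by rw [Order.krullDim_eq_iSup_height]; exact iSup_le fun y => WithBot.coe_le_coe.2 (hone y) :
          Order.krullDim (X : Type u) ≤ ((1 : ℕ∞) : WithBot ℕ∞))
      exact WithBot.coe_le_coe.1 this
    have hge : 1 ≤ Order.coheight x := le_trans le_add_self (Order.coheight_add_one_le hlt)
    exact_mod_cast le_antisymm hle hge
  · intro h η hη
    obtain ⟨a, t, ha, ht, hl, hh⟩ := key η
    rw [ht]
    have ha0 : a = 0 := by
      have : Order.coheight η = 0 := Order.coheight_eq_zero.2 fun y hy => le_of_eq (hmax η y hη hy)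
      rw [ringKrullDim_stalk_eq_coheight, this] at ha
      exact_mod_cast ha.symm
    obtain ⟨x, hxη, hx⟩ := (isClosed_closure (s := ({η} : Set X))).exists_closed_singleton
      ⟨η, subset_closure rfl⟩
    obtain ⟨b, s, hb, -, hl', hs⟩ := key x
    have hs0 : Order.height x = 0 := Order.height_eq_zero.2 fun w hw =>
      le_of_eq ((Scheme.le_iff_specializes.1 hw).mem_closed hx rfl).symm
    rw [h x hx] at hb
    have hb1 : b = 1 := by exact_mod_cast hb.symm
    rw [hs] at hs0
    have hs1 : s = 0 := by exact_mod_cast hs0
    have hle := DimFormulaLib.localDim_le_of_specializes (specializes_iff_mem_closure.2 hxη : η ⤳ x)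
    rw [hl, hl', ha0, hb1, hs1] at hle
    have htle : t ≤ 1 := by exact_mod_cast (by simpa using hle : ((t : ℕ) : WithBot ℕ∞) ≤ ((1 : ℕ) : WithBot ℕ∞))
    have htne : t ≠ 0 := fun e => by
      have h0 : Order.height η = 0 := by rw [hh, e, Nat.cast_zero]
      have hxe : x = η := hmax η x hη
        (Order.height_eq_zero.1 h0 (Scheme.le_iff_specializes.2 (specializes_iff_mem_closure.2 hxη)))
      subst hxe
      have := h x hx
      rw [ha, ha0] at this
      exact absurd this (by simp)
    have : t = 1 := by omega
    rw [this, Nat.cast_one]

end Groth.Agent.S4442
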