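import Groth.Statements.S4444
import Groth.Agent.S1626
import Groth.Agent.FibreComp.DimSpace
import Groth.Agent.MeroLib.Curve
import Groth.Agent.DeltaBCLib.NorStalk
import Groth.Agent.RGBlowLib.Union.Basic

set_option autoImplicit false
set_option linter.style.haveILetI false
set_option backward.isDefEq.respectTransparency false
universe u
open CategoryTheory CategoryTheory.Limits AlgebraicGeometry
open EGA2

namespace Groth.Agent.S4444

/-- Every normal algebraic curve X over a field k (separated and of finite type over k, nonempty, local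
rings at closed points of dimension one, all local rings integrally closed domains) admits a
k-morphism which is an open immersion with dense image into a normal algebraic curve proper over k.
(The uniqueness of this completion up to unique isomorphism is not part of this row.) -/
theorem result (k : Type u) [Field k] (X : Scheme.{u})
    [X.Over (Spec (CommRingCat.of k))] [LocallyOfFiniteType (X ↘ (Spec (CommRingCat.of k)))]
    [QuasiCompact (X ↘ (Spec (CommRingCat.of k)))] [IsSeparated (X ↘ (Spec (CommRingCat.of k)))] [Nonempty X]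
    (hcurve : ∀ x : X, IsClosed ({x} : Set X) → ringKrullDim (X.presheaf.stalk x) = 1) (hnorm : Pi1.IsNormalScheme X) :
    ∃ (Xc : Scheme.{u}) (sc : Xc ⟶ Spec (CommRingCat.of k)) (j : X ⟶ Xc), IsOpenImmersion j ∧ Dense (Set.range j.base) ∧
      j ≫ sc = X ↘ (Spec (CommRingCat.of k)) ∧ IsProper sc ∧ Pi1.IsNormalScheme Xc ∧
      ∀ x : Xc, IsClosed ({x} : Set Xc) → ringKrullDim (Xc.presheaf.stalk x) = 1 := by
  haveI : IsReduced X := DeltaBC.isReduced_of_normal hnorm
  haveI : IsNoetherian X := RGBlowLib.Union.isNoetherian_of_ft (X ↘ (Spec (CommRingCat.of k)))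
  have hdim : topologicalKrullDim X ≤ 1 := FibreComp.topologicalKrullDim_le_of_stalk fun u => by
    obtain ⟨c, hc, huc⟩ := MeroLib.exists_closed_specialization u
    rw [← hcurve c hc, ringKrullDim_stalk_eq_coheight, ringKrullDim_stalk_eq_coheight]
    exact WithBot.coe_le_coe.2 (Order.coheight_anti huc)
  obtain ⟨d, Y, c, j, hc, hj, hjc, hd, -, -, hbd⟩ := S1626.result k X hdim
  haveI := hc
  haveI := hj
  haveI : IsProper (CohB1.ProjSpace.toSpec d k) := inferInstance
  refine ⟨Y, c ≫ CohB1.ProjSpace.toSpec d k, j, hj, hd, hjc, inferInstance, fun y => ?_, fun y hy => ?_⟩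
  · by_cases h : y ∈ Set.range j.base
    · obtain ⟨x, rfl⟩ := h
      obtain ⟨h1, h2⟩ := hnorm x
      let e := (asIso (j.stalkMap x)).commRingCatIsoToRingEquiv
      exact ⟨MulEquiv.isDomain (X.presheaf.stalk x) e.toMulEquiv, IsIntegrallyClosed.of_equiv e.symm⟩
    · obtain ⟨-, _, hdvr⟩ := hbd y h
      haveI := hdvr
      exact ⟨inferInstance, inferInstance⟩
  · by_cases h : y ∈ Set.range j.base
    · obtain ⟨x, rfl⟩ := h
      have hx : IsClosed ({x} : Set X) := by
        have : j.base ⁻¹' {j.base x} = {x} := by
          ext z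
          exact ⟨fun h => j.isOpenEmbedding.injective h, fun h => congrArg j.base h⟩
        rw [← this]
        exact hy.preimage j.continuous
      rw [← hcurve x hx]
      exact ringKrullDim_eq_of_ringEquiv (asIso (j.stalkMap x)).commRingCatIsoToRingEquiv
    · obtain ⟨-, _, hdvr⟩ := hbd y h
      haveI := hdvr
      exact IsPrincipalIdealRing.ringKrullDim_eq_one _ (IsDiscreteValuationRing.not_isField _)

end Groth.Agent.S4444
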