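import Groth.Statements.S4447
import Mathlib

set_option autoImplicit false
set_option linter.style.haveILetI false
set_option linter.unusedVariables false
universe u
open CategoryTheory CategoryTheory.Limits AlgebraicGeometry
open EGA2

namespace Groth.Agent.S4447

/-- Let p : X ⟶ Y be a morphism, x a point of X, y = p(x) and y' a specialization of y distinct from y.
Then there are a valuation ring A which is not a field, with field of fractions the residue field
k(x), and a morphism Spec A ⟶ Y mapping the closed point to y' and restricting on Spec k(x) to the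
canonical morphism Spec k(x) ⟶ X ⟶ Y (in particular the generic point of Spec A goes to y). -/
theorem result {X Y : Scheme.{u}} (p : X ⟶ Y) (x : X) (y' : Y)
    (hsp : p.base x ⤳ y') (hne : y' ≠ p.base x) :
    ∃ (A : ValuationSubring (X.residueField x)) (h : Spec (CommRingCat.of A) ⟶ Y), A ≠ ⊤ ∧
      h.base (IsLocalRing.closedPoint A) = y' ∧
      Spec.map (CommRingCat.ofHom A.subtype) ≫ h = X.fromSpecResidueField x ≫ p := by
  let φ : Y.presheaf.stalk y' ⟶ CommRingCat.of (X.residueField x) :=
    Y.presheaf.stalkSpecializes hsp ≫ p.stalkMap x ≫ X.residue x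
  obtain ⟨A, hA, hA_local⟩ := IsLocalRing.exists_factor_valuationRing φ.hom
  let ψ : Y.presheaf.stalk y' ⟶ CommRingCat.of A := CommRingCat.ofHom (φ.hom.codRestrict _ hA)
  have hcl : (Spec.map ψ ≫ Y.fromSpecStalk y') (IsLocalRing.closedPoint A) = y' := by
    rw [Scheme.Hom.comp_apply]
    have : Spec.map ψ (IsLocalRing.closedPoint A) = IsLocalRing.closedPoint (Y.presheaf.stalk y') :=
      IsLocalRing.comap_closedPoint (S := A) (φ.hom.codRestrict A.toSubring hA)
    rw [this, Y.fromSpecStalk_closedPoint]
  have w : Spec.map (CommRingCat.ofHom A.subtype) ≫ Spec.map ψ ≫ Y.fromSpecStalk y' =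
      X.fromSpecResidueField x ≫ p := by
    rw [Scheme.fromSpecResidueField, Category.assoc, ← Scheme.SpecMap_stalkMap_fromSpecStalk,
      ← Scheme.SpecMap_stalkSpecializes_fromSpecStalk hsp]
    simp_rw [← Spec.map_comp_assoc]
    rfl
  refine ⟨A, Spec.map ψ ≫ Y.fromSpecStalk y', fun htop => hne ?_, hcl, w⟩
  have hfield : IsField A := by
    rw [htop]
    exact MulEquiv.isField (Field.toIsField (X.residueField x)) (Subring.topEquiv).toMulEquiv
  have hm : IsLocalRing.maximalIdeal A = ⊥ := IsLocalRing.isField_iff_maximalIdeal_eq.mp hfield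
  have hpt : ∀ a : Spec (CommRingCat.of A), a = IsLocalRing.closedPoint A := fun a => by
    refine PrimeSpectrum.ext (le_antisymm (IsLocalRing.le_maximalIdeal a.2.ne_top) ?_)
    show IsLocalRing.maximalIdeal A ≤ a.asIdeal
    rw [hm]; exact bot_le
  have h1 := congrArg (fun t => t (IsLocalRing.closedPoint (X.residueField x))) w
  simp only [Scheme.Hom.comp_apply, Scheme.fromSpecResidueField_apply] at h1
  rw [hpt (Spec.map (CommRingCat.ofHom A.subtype) _)] at h1
  simp only [← Scheme.Hom.comp_apply] at h1
  rw [hcl, Scheme.Hom.comp_apply] at h1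
  erw [Scheme.fromSpecResidueField_apply] at h1
  exact h1

end Groth.Agent.S4447
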