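import Groth.Statements.S4455
import Groth.Agent.NormalSch.Normalization

set_option autoImplicit false
universe u
open CategoryTheory CategoryTheory.Limits AlgebraicGeometry
open EGA2

namespace Groth.Agent.S4455

/-- An integral algebraic curve X over a field k is complete (proper over k) if and only if its
normalization X', with the composite structure morphism X' ⟶ X ⟶ Spec k, is proper over k. (The
quasi-compactness and quasi-separatedness binders on the morphism from the generic point always
hold; they are needed only to form the normalization.) -/
theorem result (k : Type u) [Field k] (X : Scheme.{u})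
    [X.Over (Spec (CommRingCat.of k))] [LocallyOfFiniteType (X ↘ (Spec (CommRingCat.of k)))]
    [QuasiCompact (X ↘ (Spec (CommRingCat.of k)))] [IsSeparated (X ↘ (Spec (CommRingCat.of k)))] [IsIntegral X]
    (hX : ∀ x : X, IsClosed ({x} : Set X) → ringKrullDim (X.presheaf.stalk x) = 1)
    [QuasiCompact (X.fromSpecStalk (genericPoint X))] [QuasiSeparated (X.fromSpecStalk (genericPoint X))] :
    IsProper (X ↘ (Spec (CommRingCat.of k))) ↔ IsProper (Curv2.normalizationι X ≫ (X ↘ (Spec (CommRingCat.of k)))) := by
  let g := X.fromSpecStalk (genericPoint X)
  let φ : X.functionField →+* (X.presheaf.stalk (genericPoint X)) := RingHom.id _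
  letI : Field (X.presheaf.stalk (genericPoint X)) := inferInstanceAs (Field X.functionField)
  have hg : g = Spec.map (CommRingCat.ofHom φ) ≫ X.fromSpecStalk (genericPoint X) := by
    rw [show Spec.map (CommRingCat.ofHom φ) = 𝟙 (Spec (X.presheaf.stalk (genericPoint X))) from Spec.map_id _]
    exact (Category.id_comp _).symm
  haveI hfin : IsFinite g.fromNormalization :=
    Groth.Agent.FinIntClosure.isFinite_fromNormalization φ g hg k (X ↘ Spec (CommRingCat.of k))
      (RingHom.Finite.of_surjective φ (fun a => ⟨a, rfl⟩))
  haveI : IsFinite (Curv2.normalizationι X) := hfin
  haveI : Surjective (Curv2.normalizationι X) := ⟨fun x => by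
    have h1 : g.fromNormalization (genericPoint g.normalization) = genericPoint X :=
      Groth.Agent.NormalSch.fromNormalization_generic φ g hg
    have hsp : g.fromNormalization (genericPoint g.normalization) ⤳ x :=
      h1.symm ▸ (genericPoint_spec X).specializes trivial
    have := hsp.mem_closed g.fromNormalization.isClosedMap.isClosed_range (Set.mem_range_self _)
    exact this⟩
  constructor
  · intro h
    exact inferInstance
  · intro h
    haveI : UniversallyClosed (X ↘ Spec (CommRingCat.of k)) :=
      UniversallyClosed.of_comp_surjective (Curv2.normalizationι X) _
    exact { }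

end Groth.Agent.S4455
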