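import Groth.Statements.S4457
import Groth.Agent.AffCompLib.Basic

set_option autoImplicit false
universe u
open Coherent

namespace Groth.Agent.S4457

open AlgebraicGeometry CategoryTheory in
/-- Let f : X → Y be a separated quasi-compact morphism, g : Y → Z an affine morphism and F a
quasi-coherent O_X-module. Then for every p ≥ 0, R^p (g ∘ f)_* F is isomorphic to g_*(R^p f_* F)
(higher direct images and direct image of the underlying abelian sheaves). The source shows that the
canonical comparison map is an isomorphism; only the existence of an isomorphism is asserted here. -/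
theorem result {X Y Z : Scheme.{u}} (f : X ⟶ Y) (g : Y ⟶ Z)
    [IsSeparated f] [QuasiCompact f] [IsAffineHom g] (F : X.Modules) [Coh.IsQCoh F] (p : ℕ) :
    Nonempty ((Coh.RpushAb (f ≫ g) p).obj (Coh.toAb F) ≅
      (Coh.pushAb g).obj ((Coh.RpushAb f p).obj (Coh.toAb F))) := by
  haveI : HasInjectiveResolutions X.Modules := inferInstance
  refine Groth.Agent.AffComp.nonempty_comp_of_acyclic f g (Coh.toAb F) (fun q => ?_) p
  let e : Coh.toAb ((Coh.Rpush f q).obj F) ≅ (Coh.RpushAb f q).obj (Coh.toAb F) :=
    (Groth.Agent.RpushLib.toAbRpushIso f q).app F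
  haveI := Groth.Agent.RpushLib.isQCoh_rpush f (M := F) q
  intro k
  exact (Groth.Agent.S0028.result g ((Coh.Rpush f q).obj F) (k + 1) (Nat.succ_pos k)).of_iso
    ((Coh.RpushAb g (k + 1)).mapIso e.symm)

end Groth.Agent.S4457
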