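import Groth.Statements.S4459
import Mathlib

set_option autoImplicit false
universe u
open Coherent

namespace Groth.Agent.S4459

open AlgebraicGeometry CategoryTheory in
/-- Let A be a Noetherian ring which is separated and complete for the J-adic topology, and let f : X →
Spec A be a morphism of schemes which is a closed map on underlying spaces. Then every open subset
of X containing the inverse image of V(J) is all of X. (The published statement also assumes X of
finite type over A; that hypothesis is not used.) -/
theorem result (A : Type u) [CommRing A] [IsNoetherianRing A]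
    (J : Ideal A) [IsAdicComplete J A] {X : Scheme.{u}} (f : X ⟶ Spec (CommRingCat.of A))
    (hf : IsClosedMap f.base) (U : X.Opens)
    (hU : f.base ⁻¹' (PrimeSpectrum.zeroLocus (J : Set A)) ⊆ (U : Set X)) : U = ⊤ := by
  by_contra hne
  have hne' : ((U : Set X)ᶜ).Nonempty := Set.nonempty_compl.2 fun h => hne (TopologicalSpace.Opens.ext h)
  obtain ⟨x, hx⟩ := hne'
  have hcl : IsClosed (f.base '' (U : Set X)ᶜ) := hf _ U.isOpen.isClosed_compl
  have hp : f.base x ∈ f.base '' (U : Set X)ᶜ := ⟨x, hx, rfl⟩
  let p : PrimeSpectrum A := f.base x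
  obtain ⟨m, hm, hpm⟩ := Ideal.exists_le_maximal p.asIdeal p.2.ne_top
  let q : PrimeSpectrum A := ⟨m, hm.isPrime⟩
  have hpq : p ⤳ q := (PrimeSpectrum.le_iff_specializes p q).1 hpm
  obtain ⟨y, hy, hyq⟩ := hpq.mem_closed hcl hp
  refine hy (hU ?_)
  show f.base y ∈ PrimeSpectrum.zeroLocus (J : Set A)
  rw [hyq]
  refine (PrimeSpectrum.mem_zeroLocus q _).2 ?_
  rw [SetLike.coe_subset_coe]
  refine (IsAdicComplete.le_jacobson_bot J).trans ?_
  exact sInf_le ⟨bot_le, hm⟩

end Groth.Agent.S4459
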