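import Groth.Statements.S4464
import Groth.Agent.SteinConn.Apply

set_option autoImplicit false
universe u
open Coherent

namespace Groth.Agent.S4464

open AlgebraicGeometry CategoryTheory in
/-- Let X and Y be locally Noetherian integral schemes, f : X → Y a proper dominant morphism, and
suppose that the algebraic closure of the function field R(Y) in R(X) is purely inseparable over
R(Y): every element of R(X) satisfying a nonzero polynomial over R(Y) has a p^e-th power coming from
R(Y), p being the characteristic exponent. Then for every point y of Y whose local ring is
unibranch, the fibre X_y is connected and nonempty. -/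
theorem result {X Y : Scheme.{u}} [IsIntegral X]
    [IsIntegral Y] [IsLocallyNoetherian X] [IsLocallyNoetherian Y] (f : X ⟶ Y) [IsProper f]
    (hdom : f.base (genericPoint X) ⤳ genericPoint Y)
    (hrad : ∀ x : X.functionField,
      (∃ q : Polynomial Y.functionField, q ≠ 0 ∧
        Polynomial.eval₂ (CohIII.stalkToFunctionField f (genericPoint Y) hdom) x q = 0) →
      ∃ e : ℕ, x ^ (ringExpChar X.functionField ^ e) ∈
        Set.range (CohIII.stalkToFunctionField f (genericPoint Y) hdom))
    (y : Y) (hy : CAlg2.IsUnibranch (Y.presheaf.stalk y)) :
    ConnectedSpace ↥(f.fiber y) := by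
  have h : f.base (genericPoint X) ⤳ y := hdom.trans (genericPoint_specializes y)
  haveI : ExpChar X.functionField (ringExpChar X.functionField) := ringExpChar.expChar _
  haveI := Groth.Agent.SteinConn.subsingleton_integralClosureStalk f hdom y h
    (Groth.Agent.SteinConn.subsingleton_of_unibranch (Y.presheaf.stalk y) Y.functionField hy) (fun x hx => by
      obtain ⟨e, he⟩ := hrad x hx
      exact ⟨_, pow_pos (expChar_pos X.functionField _) e, he⟩)
  exact Groth.Agent.SteinConn.connectedSpace_of_subsingleton f y h

end Groth.Agent.S4464
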