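import Groth.Statements.S4468
import Groth.Agent.BirBlowLib.Main
import Groth.Agent.AmpleEmb.Immersion
import Groth.Agent.CompleteCurve.ProjSpace
import Groth.Agent.ProjOverLib.Affine
import Groth.Agent.LocImmBlow.Basic
set_option backward.isDefEq.respectTransparency false
open CategoryTheory CategoryTheory.Limits AlgebraicGeometry
-- import your own Groth.Agent.* helpers here

set_option autoImplicit false
universe u
open Coherent

namespace Groth.Agent.S4468

open AlgebraicGeometry CategoryTheory in
/-- Let k be a field, X and Y integral schemes projective over k (given with closed immersions into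
projective spaces over k) and f : X → Y a birational k-morphism (it sends the generic point of X to
that of Y and induces a bijection between the function fields). Then X is Y-isomorphic to the
blow-up of Y in a closed subscheme: there is a quasi-coherent ideal sheaf I on Y such that f is a
blowing up of Y in I (universal property of the blow-up). -/
theorem result (k : Type u) [Field k] {X Y : Scheme.{u}} [IsIntegral X] [IsIntegral Y]
    (a b : ℕ) (iX : X ⟶ CohB1.ProjSpace a k) [IsClosedImmersion iX] (iY : Y ⟶ CohB1.ProjSpace b k)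
    [IsClosedImmersion iY] (f : X ⟶ Y)
    (hk : f ≫ iY ≫ CohB1.ProjSpace.toSpec b k = iX ≫ CohB1.ProjSpace.toSpec a k)
    (hgen : f.base (genericPoint X) = genericPoint Y)
    (hbir : Function.Bijective (f.residueFieldMap (genericPoint X)).hom) :
    ∃ I : Y.IdealSheafData, BlowUp.IsBlowUp f I := by
  haveI hp : IsProper (CohB1.ProjSpace.toSpec b k) := inferInstance
  haveI : AlgebraicGeometry.IsNoetherian Y := LocImmBlow.isNoetherian_of_ft (iY ≫ CohB1.ProjSpace.toSpec b k)
  have hM : CohB1.IsAmple ((Scheme.Modules.pullback iY).obj (Twist.twistProjSpace b k 1)) :=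
    AmpleLib.isAmple_pullback_of_isInducing iY iY.isEmbedding.isInducing (AmpleEmb.isAmple_twistOne b k)
  letI : Algebra (ULift.{u} ℤ) k := ((Int.castRingHom k).comp (ULift.ringEquiv : ULift.{u} ℤ ≃+* ℤ).toRingHom).toAlgebra
  obtain ⟨g, hpb⟩ := ProjOverLib.exists_isPullback_polyProj a (ULift.{u} ℤ) k
  let q := iY ≫ CohB1.ProjSpace.toSpec b k
  let h : CohB1.ProjSpaceOver a Y ⟶ CohB1.ProjSpace a k :=
    hpb.lift (ProjMap.toInt Y a) (CohB1.ProjSpaceOver.toBase a Y ≫ q) (specULiftZIsTerminal.hom_ext _ _)
  have hh : h ≫ CohB1.ProjSpace.toSpec a k = CohB1.ProjSpaceOver.toBase a Y ≫ q := hpb.lift_snd _ _ _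
  haveI : IsSeparated (h ≫ CohB1.ProjSpace.toSpec a k) := hh ▸ inferInstance
  haveI : IsSeparated h := IsSeparated.of_comp h (CohB1.ProjSpace.toSpec a k)
  let j : X ⟶ CohB1.ProjSpaceOver a Y := ProjMap.liftOver (iX ≫ g) f
  have hj : j ≫ h = iX := hpb.hom_ext
    (by rw [Category.assoc, hpb.lift_fst]; exact ProjMap.liftOver_toInt _ _)
    (by rw [Category.assoc, hpb.lift_snd, ProjMap.liftOver_toBase_assoc]; exact hk)
  haveI : IsClosedImmersion (j ≫ h) := hj ▸ inferInstance
  haveI : IsClosedImmersion j := IsClosedImmersion.of_comp j h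
  refine BirBlowLib.exists_isBlowUp_of_birational hM j f (ProjMap.liftOver_toBase _ _) hgen ?_
  have hres : ∀ {Z : Scheme.{u}} [IsIntegral Z] (z : Z), z = genericPoint Z →
      Function.Bijective (Z.residue z) := fun {Z} _ z hz => by
    subst hz
    exact ⟨(Z.residue (genericPoint Z)).hom.injective, Scheme.residue_surjective _ _⟩
  have hc : Function.Bijective (X.residue (genericPoint X) ∘ f.stalkMap (genericPoint X)) := by
    have h := Scheme.residue_residueFieldMap f (genericPoint X)
    show Function.Bijective (⇑(f.stalkMap (genericPoint X) ≫ X.residue (genericPoint X)).hom)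
    rw [← h]
    exact hbir.comp (hres _ hgen)
  refine (ConcreteCategory.isIso_iff_bijective _).2 ?_
  exact (Function.Bijective.of_comp_iff' (hres (genericPoint X) rfl) _).1 hc

end Groth.Agent.S4468
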