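import Groth.Statements.S4469
import Mathlib

set_option autoImplicit false
universe u
open CAlg

namespace Groth.Agent.S4469

/-- Let A be an integrally closed Noetherian local domain with field of fractions K, B an A-algebra of
finite type which is a domain with the same field of fractions (A → B → K compatible with A → K),
and 𝔫 a maximal ideal of B lying over the maximal ideal 𝔪 of A and minimal among the prime ideals of
B lying over 𝔪. Then B = A: the structure map A → B is bijective. -/
theorem result (A B K : Type u) [CommRing A]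
    [IsDomain A] [IsNoetherianRing A] [IsLocalRing A] [IsIntegrallyClosed A] [CommRing B] [IsDomain B]
    [Field K] [Algebra A B] [Algebra B K] [Algebra A K] [IsScalarTower A B K] [IsFractionRing A K]
    [IsFractionRing B K] [Algebra.FiniteType A B] (n : Ideal B) [n.IsMaximal]
    (hn : n.comap (algebraMap A B) = IsLocalRing.maximalIdeal A)
    (hmin : ∀ q : Ideal B, q.IsPrime → q.comap (algebraMap A B) = IsLocalRing.maximalIdeal A → q ≤ n → q = n) :
    Function.Bijective (algebraMap A B) := by
  haveI : n.LiesOver (IsLocalRing.maximalIdeal A) := ⟨hn.symm⟩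
  have hopen : Algebra.QuasiFiniteAt A n := by
    refine Algebra.QuasiFiniteAt.of_isOpen_singleton_fiber ⟨n, inferInstance⟩ ?_
    let p := PrimeSpectrum.comap (algebraMap A B) ⟨n, inferInstance⟩
    have hp : p.asIdeal = IsLocalRing.maximalIdeal A := hn
    let e := PrimeSpectrum.preimageHomeomorphFiber A B p
    haveI : IsJacobsonRing (p.asIdeal.Fiber B) :=
      isJacobsonRing_of_finiteType (A := p.asIdeal.ResidueField)
    haveI : IsNoetherianRing (p.asIdeal.Fiber B) :=
      Algebra.FiniteType.isNoetherianRing p.asIdeal.ResidueField _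
    rw [← e.isOpen_image, Set.image_singleton]
    set Q := e ⟨⟨n, inferInstance⟩, rfl⟩ with hQ
    have hmax : ∀ x : PrimeSpectrum (p.asIdeal.Fiber B), Q ≤ x → x = Q := by
      intro x hx
      have hx' : (PrimeSpectrum.preimageOrderIsoFiber A B p).symm Q ≤
          (PrimeSpectrum.preimageOrderIsoFiber A B p).symm x :=
        (PrimeSpectrum.preimageOrderIsoFiber A B p).symm.le_iff_le.mpr hx
      rw [hQ, show (PrimeSpectrum.preimageOrderIsoFiber A B p).symm (e _) = _ from
        e.symm_apply_apply _] at hx'
      apply e.symm.injective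
      rw [hQ, e.symm_apply_apply]
      apply Subtype.ext
      apply PrimeSpectrum.ext
      exact ((‹n.IsMaximal›).eq_of_le ((e.symm x).1.isPrime.ne_top) hx').symm
    have hmin' : ∀ x : PrimeSpectrum (p.asIdeal.Fiber B), x ≤ Q → x = Q := by
      intro x hx
      have hx' : (PrimeSpectrum.preimageOrderIsoFiber A B p).symm x ≤
          (PrimeSpectrum.preimageOrderIsoFiber A B p).symm Q :=
        (PrimeSpectrum.preimageOrderIsoFiber A B p).symm.le_iff_le.mpr hx
      rw [hQ, show (PrimeSpectrum.preimageOrderIsoFiber A B p).symm (e _) = _ from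
        e.symm_apply_apply _] at hx'
      apply e.symm.injective
      rw [hQ, e.symm_apply_apply]
      apply Subtype.ext
      apply PrimeSpectrum.ext
      refine hmin _ (e.symm x).1.isPrime ?_ hx'
      exact (congrArg PrimeSpectrum.asIdeal (e.symm x).2).trans hn
    refine ((PrimeSpectrum.isOpen_singleton_tfae_of_isNoetherian_of_isJacobsonRing Q).out 0 2).mpr ?_
    refine ⟨(PrimeSpectrum.isClosed_singleton_iff_isMaximal Q).mpr
      (PrimeSpectrum.isMax_iff.mp fun x hx => (hmax x hx).le), fun x y hxy hx => ?_⟩
    obtain rfl := Set.mem_singleton_iff.mp hx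
    exact hmin' y ((PrimeSpectrum.le_iff_specializes y Q).mpr hxy)
  obtain ⟨S', hS', r, hr, H⟩ :=
    Algebra.QuasiFiniteAt.exists_fg_and_exists_notMem_and_awayMap_bijective (R := A) n
  haveI : Module.Finite A S' := ⟨(Submodule.fg_top _).mpr hS'⟩
  have hinjBK : Function.Injective (algebraMap B K) := IsFractionRing.injective B K
  have hmem : ∀ x : S', ∃ a : A, algebraMap A B a = x.1 := fun x => by
    have hint : IsIntegral A (algebraMap B K x.1) :=
      ((Algebra.IsIntegral.isIntegral x).map S'.val).map (IsScalarTower.toAlgHom A B K)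
    obtain ⟨a, ha⟩ := IsIntegrallyClosed.isIntegral_iff.mp hint
    exact ⟨a, hinjBK (by rw [← IsScalarTower.algebraMap_apply, ha])⟩
  refine ⟨fun x y hxy => ?_, fun b => ?_⟩
  · apply IsFractionRing.injective A K
    rw [IsScalarTower.algebraMap_apply A B K, hxy, ← IsScalarTower.algebraMap_apply]
  obtain ⟨a₀, ha₀⟩ := hmem r
  have hu : IsUnit r := by
    have : IsUnit a₀ := by
      by_contra hnu
      apply hr
      rw [← ha₀]
      exact (show a₀ ∈ n.comap (algebraMap A B) by rw [hn]; exact hnu)
    obtain ⟨c, hc⟩ := this.exists_right_inv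
    exact IsUnit.of_mul_eq_one (algebraMap A S' c) (Subtype.ext (by
      show r.1 * algebraMap A B c = 1
      rw [← ha₀, ← map_mul, hc, map_one]))
  obtain ⟨z, hz⟩ := H.2 (algebraMap B _ b)
  obtain ⟨s, ⟨_, k, rfl⟩, rfl⟩ := IsLocalization.exists_mk'_eq (.powers r) z
  have hz' : algebraMap B (Localization.Away (S'.val.toRingHom r)) s.1 =
      algebraMap B _ (b * (r ^ k).1) := by
    rw [map_mul, ← hz, Localization.awayMap, IsLocalization.Away.map, IsLocalization.map_mk']
    exact (IsLocalization.mk'_spec _ _ _).symm
  have hinj : Function.Injective (algebraMap B (Localization.Away (S'.val.toRingHom r))) :=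
    (IsLocalization.atUnits B (.powers (S'.val.toRingHom r)) (by
      rintro _ ⟨m, rfl⟩; exact (hu.map S'.val.toRingHom).pow m)
      (S := Localization.Away (S'.val.toRingHom r))).injective
  obtain ⟨c, hc⟩ := (hu.pow k).exists_right_inv
  obtain ⟨a, ha⟩ := hmem (s * c)
  refine ⟨a, ha.trans ?_⟩
  show s.1 * c.1 = b
  have hc' : (r ^ k).1 * c.1 = 1 := congrArg Subtype.val hc
  rw [hinj hz', mul_assoc, hc', mul_one]

end Groth.Agent.S4469
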