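import Groth.Statements.S4472
import Groth.Agent.SteinConn.UnibranchModif
-- import your own Groth.Agent.* helpers here

set_option autoImplicit false
universe u
open Coherent

namespace Groth.Agent.S4472

open AlgebraicGeometry CategoryTheory in
/-- Let A be a unibranch Noetherian local domain (a local domain whose integral closure is a local ring)
with maximal ideal m, let 𝔞 be an ideal of definition of A (𝔞 ⊆ m and m^p ⊆ 𝔞 for some p), and let b
: X → Spec A be a blowing up of Spec A in the ideal sheaf defined by 𝔞. Then the fibre of b over the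
closed point is preconnected. Its underlying space is that of Proj of the associated graded ring ⊕
𝔞^i/𝔞^(i+1), so this says that Proj is connected (possibly empty). -/
theorem result (A : Type u) [CommRing A] [IsDomain A]
    [IsNoetherianRing A] [IsLocalRing A] (hA : CAlg2.IsUnibranch A) (𝔞 : Ideal A)
    (hle : 𝔞 ≤ IsLocalRing.maximalIdeal A)
    (hpow : ∃ p : ℕ, IsLocalRing.maximalIdeal A ^ p ≤ 𝔞) {X : Scheme.{u}}
    (b : X ⟶ Spec (CommRingCat.of A))
    (hb : BlowUp.IsBlowUp b
      (Scheme.IdealSheafData.ofIdealTop (𝔞.map (Scheme.ΓSpecIso (CommRingCat.of A)).inv.hom))) :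
    PreconnectedSpace ↥(b.fiber (IsLocalRing.closedPoint A)) := by
  let 𝓘 := Scheme.IdealSheafData.ofIdealTop (𝔞.map (Scheme.ΓSpecIso (CommRingCat.of A)).inv.hom)
  by_cases h0 : 𝔞 = ⊥
  · haveI : IsEmpty ↥X := ⟨fun x => by
      obtain ⟨U, hxU, f, hf, hU⟩ := hb.1 x
      have hbot : 𝓘.comap b = ⊥ := by
        have h𝓘 : 𝓘 = ⊥ := Scheme.IdealSheafData.ext_of_isAffine (by simp [𝓘, h0])
        rw [h𝓘]
        exact Scheme.IdealSheafData.comap_bot b
      have h1 : (𝓘.comap b).ideal U = ⊥ := by rw [hbot]; simp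
      rw [hU, Ideal.span_singleton_eq_bot] at h1
      subst h1
      haveI : Nonempty U.1 := ⟨⟨x, hxU⟩⟩
      exact zero_ne_one (α := Γ(X, U.1)) (mem_nonZeroDivisors_iff_right.mp hf 1 (mul_zero 1)).symm⟩
    haveI : IsEmpty ↥(b.fiber (IsLocalRing.closedPoint A)) := Function.isEmpty (b.fiberι _)
    infer_instance
  · have hne : 𝓘 ≠ ⊥ := fun h => h0 (by
      have h1 : (𝓘.ideal ⟨⊤, isAffineOpen_top _⟩) = ⊥ := by rw [h]; simp
      rw [Scheme.IdealSheafData.ofIdealTop_ideal] at h1
      simp only [Scheme.Hom.app, Ideal.map_id, homOfLE_refl, op_id, CategoryTheory.Functor.map_id] at h1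
      exact (Ideal.map_eq_bot_iff_of_injective (ConcreteCategory.bijective_of_isIso
        (Scheme.ΓSpecIso (CommRingCat.of A)).inv).1).1 (by simpa using h1))
    obtain ⟨hX, hgen, hbij⟩ := Groth.Agent.S2348.result 𝓘 hne b hb
    haveI := hX
    haveI : IsProper b := Groth.Agent.BlowExistsLib.isProper_of_FG hb fun U => by
      haveI : IsNoetherianRing Γ(Spec (CommRingCat.of A), U.1) := IsLocallyNoetherian.component_noetherian U
      exact IsNoetherian.noetherian _
    exact Groth.Agent.SteinConn.preconnectedSpace_closedFibre_of_birational b hA hgen hbij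

end Groth.Agent.S4472
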