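import Groth.Statements.S4476
import Groth.Agent.HomFibreLib.Lift
import Groth.Agent.HomFibreLib.Hyp
import Groth.Agent.HomFibreLib.Spread
import Groth.Agent.ParaFLib.Local
import Groth.Agent.BCLib.TrivNhd
-- import your own Groth.Agent.* helpers here
set_option backward.isDefEq.respectTransparency false

set_option autoImplicit false
universe u
attribute [local instance] HasDerivedCategory.standard
open Coherent

namespace Groth.Agent.S4476

open AlgebraicGeometry CategoryTheory in
/-- Over a local base. Let A be a Noetherian local ring with closed point y, X a scheme proper and flat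
over Spec A, F and G finite locally free O_X-modules and F_y, G_y their restrictions (module
pullbacks) to the closed fibre X_y. Assume that the internal Hom functor Hom(F_y, −) exists as the
right adjoint of F_y ⊗ − and that H^1(X_y, Hom(F_y, G_y)) = 0. Then every morphism u₀ : F_y → G_y is
the restriction to X_y of a morphism u : F → G; moreover for every such u, if u₀ is a monomorphism
(resp. an epimorphism) then u is a monomorphism (resp. an epimorphism). (Over a general locally
Noetherian base the published statements give u on the inverse image of a neighbourhood of y; over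
the spectrum of a local ring that neighbourhood is the whole base.) -/
theorem result (A : Type u) [CommRing A] [IsNoetherianRing A]
    [IsLocalRing A] (X : Scheme.{u}) [X.Over (Spec (CommRingCat.of A))]
    [IsProper (X ↘ Spec (CommRingCat.of A))] [Flat (X ↘ Spec (CommRingCat.of A))]
    (F G : X.Modules) (hF : FlatMod.IsFinLocFree F) (hG : FlatMod.IsFinLocFree G)
    [DCoh.HasSheafHom (CohIII.fiberMod (X ↘ Spec (CommRingCat.of A)) F (IsLocalRing.closedPoint A))]
    (h1 : Subsingleton (Coh.HH ((X ↘ Spec (CommRingCat.of A)).fiber (IsLocalRing.closedPoint A))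
      ((DCoh.sheafHom (CohIII.fiberMod (X ↘ Spec (CommRingCat.of A)) F (IsLocalRing.closedPoint A))).obj
        (CohIII.fiberMod (X ↘ Spec (CommRingCat.of A)) G (IsLocalRing.closedPoint A))) 1))
    (u₀ : CohIII.fiberMod (X ↘ Spec (CommRingCat.of A)) F (IsLocalRing.closedPoint A) ⟶
      CohIII.fiberMod (X ↘ Spec (CommRingCat.of A)) G (IsLocalRing.closedPoint A)) :
    (∃ u : F ⟶ G,
      (Scheme.Modules.pullback ((X ↘ Spec (CommRingCat.of A)).fiberι (IsLocalRing.closedPoint A))).map u = u₀) ∧
    ∀ u : F ⟶ G,
      (Scheme.Modules.pullback ((X ↘ Spec (CommRingCat.of A)).fiberι (IsLocalRing.closedPoint A))).map u = u₀ →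
        (Mono u₀ → Mono u) ∧ (Epi u₀ → Epi u) := by
  haveI : IsLocallyNoetherian X := LocallyOfFiniteType.isLocallyNoetherian (X ↘ Spec (CommRingCat.of A))
  haveI : IsNoetherianRing (CommRingCat.of A) := ‹IsNoetherianRing A›
  let f := X ↘ Spec (CommRingCat.of A)
  let q : Spec (CommRingCat.of A) := IsLocalRing.closedPoint A
  let g := f.fiberι q
  have hrank : CohIII.fiberRank f ((StalkHomLib.hF F).obj G) 1 q = 0 :=
    HomFibreLib.fiberRank_hF_eq_zero f q hF hG (Iso.refl _) h1
  refine ⟨?_, ?_⟩
  · obtain ⟨s, k, hk, hs⟩ := HomFibreLib.exists_lift_hom (R := CommRingCat.of A) hF hG q hrank u₀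
    letI : (f.fiber q).Over (Spec (CommRingCat.of ((Spec (CommRingCat.of A)).residueField q))) :=
      ⟨f.fiberToSpecResidueField q⟩
    let φ : CommRingCat.of A ⟶ (Spec (CommRingCat.of A)).residueField q :=
      CommRingCat.ofHom (algebraMap A q.asIdeal.ResidueField) ≫ (Scheme.Spec.residueFieldIso _ q).inv
    have hφ : Function.Surjective φ := by
      intro x
      haveI : q.asIdeal.IsMaximal := IsLocalRing.maximalIdeal.isMaximal A
      obtain ⟨y, rfl⟩ := (ConcreteCategory.bijective_of_isIso (Scheme.Spec.residueFieldIso (CommRingCat.of A) q).inv).2 x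
      obtain ⟨z, rfl⟩ := Ideal.algebraMap_residueField_surjective q.asIdeal y
      exact ⟨z, rfl⟩
    obtain ⟨b, hb⟩ := hφ k⁻¹
    let r : Γ(X, ⊤) := BCLib.secHom f ⊤ b
    refine ⟨HomFibreLib.homOfSec (r • s), HomFibreLib.hom_ext_pullStalk g fun z a => ?_⟩
    have h2 : PullbackMod.stalkLin (HomFibreLib.homOfSec (r • s)) (g z) a =
        X.presheaf.germ ⊤ (g z) trivial r • PullbackMod.stalkLin (HomFibreLib.homOfSec s) (g z) a := by
      rw [HomFibreLib.theta_homOfSec, HomFibreLib.theta_homOfSec, ParaFLib.germ_smul', map_smul,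
        LinearMap.smul_apply]
    rw [PullbackMod.pullStalk_natural, h2, PullbackMod.pullStalk_smul, ← PullbackMod.pullStalk_natural, hs,
      smul_smul, PullbackMod.germ_stalkMap_appLE g z (W := ⊤) (W' := ⊤) trivial trivial le_top, ← map_mul]
    have hc : g ≫ f = f.fiberToSpecResidueField q ≫ Spec.map φ := by
      rw [show Spec.map φ = (Spec (CommRingCat.of A)).fromSpecResidueField q from BCLib.fromSpecResidueField_eq q]
      exact (f.fiber_fac q)
    have h3 : g.appLE ⊤ ⊤ le_top r = BCLib.secHom (f.fiberToSpecResidueField q) ⊤ k⁻¹ := by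
      rw [← hb]
      exact ConcreteCategory.congr_hom (BCLib.secHom_comm hc (W := ⊤) (W' := ⊤) le_top) b
    rw [h3]
    have h4 : (BCLib.secHom (f.fiberToSpecResidueField q) ⊤) k⁻¹ * (BCLib.secHom (f.fiberToSpecResidueField q) ⊤) k = 1 :=
      (map_mul (BCLib.secHom (f.fiberToSpecResidueField q) ⊤).hom k⁻¹ k).symm.trans (by rw [inv_mul_cancel₀ hk, map_one])
    refine Eq.trans ?_ (one_smul ((f.fiber q).presheaf.stalk z) _)
    refine congrArg (· • _) ?_
    exact (congrArg ((f.fiber q).presheaf.germ ⊤ z trivial).hom h4).trans (map_one _)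
  · intro u hu
    have hqc : ∀ {M : X.Modules}, FlatMod.IsFinLocFree M → Coh.IsQCoh M ∧ CohB1.IsFP M :=
      fun {M} hM => PullbackMod.isQCoh_and_isFP_of_isFinLocFree M hM
    haveI := (hqc hF).1
    haveI := (hqc hG).1
    have htop : ∀ W : X.Opens, (∀ x, f x = q → x ∈ W) → ∀ x, x ∈ W := fun W hW x => by
      obtain ⟨U, hqU, hU⟩ := BCLib.exists_open_preimage_le f W q hW
      exact hU (show f x ∈ U by rw [ParaFLib.eq_top_of_closedPoint_mem (A := CommRingCat.of A) hqU]; trivial)
    refine ⟨fun hm => ?_, fun he => ?_⟩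
    · haveI : LocallyOfFinitePresentation f :=
        (LocallyOfFinitePresentation.iff_locallyOfFiniteType (f := f)).2 inferInstance
      obtain ⟨W, hW, hW'⟩ := HomFibreLib.exists_open_injective f q u (hqc hF).2 (hqc hG).2
        (TildePerf.isFlatOver_of_isFinLocFree f hG) (hu ▸ hm)
      exact (PullbackMod.mono_iff_stalk u).2 fun x => hW' x (htop W hW x)
    · obtain ⟨W, hW, hW'⟩ := HomFibreLib.exists_open_surjective f q u
        (QCohLib.isCoh_kernel_cokernel u (DCohLib.isCoh_of_isFinLocFree hF) (DCohLib.isCoh_of_isFinLocFree hG)).2.2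
        (fun x => (DCohLib.free_finite_stalk_of_flf hG x).2) (hu ▸ he)
      exact (PullbackMod.epi_iff_stalk u).2 fun x => hW' x (htop W hW x)

end Groth.Agent.S4476
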