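import Groth.Statements.S4477
import Groth.Agent.HomFibreLib.Lift
import Groth.Agent.HomFibreLib.Hyp
import Groth.Agent.HomFibreLib.Spread
import Groth.Agent.BCLib.TrivNhd
-- import your own Groth.Agent.* helpers here
set_option backward.isDefEq.respectTransparency false
set_option backward.defeqAttrib.useBackward true

set_option autoImplicit false
universe u
attribute [local instance] HasDerivedCategory.standard
open Coherent

namespace Groth.Agent.S4477

open AlgebraicGeometry CategoryTheory TopologicalSpace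

theorem exists_nhd_of_affine {R : CommRingCat.{u}} [IsNoetherianRing R] {X : Scheme.{u}}
    [X.Over (Spec (CommRingCat.of R))] [IsProper (FormalLib.str R X)] [Flat (FormalLib.str R X)] {F G : X.Modules}
    (hF : FlatMod.IsFinLocFree F) (hG : FlatMod.IsFinLocFree G) (q : Spec R)
    (h1 : CohIII.fiberRank (FormalLib.str R X) ((StalkHomLib.hF F).obj G) 1 q = 0)
    (e : (Scheme.Modules.pullback ((FormalLib.str R X).fiberι q)).obj F ≅
      (Scheme.Modules.pullback ((FormalLib.str R X).fiberι q)).obj G) :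
    ∃ (u : F ⟶ G) (O : X.Opens), (∀ x, FormalLib.str R X x = q → x ∈ O) ∧
      ∀ x ∈ O, Function.Bijective (PullbackMod.stalkLin u x) := by
  let f := FormalLib.str R X
  haveI : IsLocallyNoetherian X := LocallyOfFiniteType.isLocallyNoetherian f
  let g := f.fiberι q
  obtain ⟨s, k, hk, hs⟩ := HomFibreLib.exists_lift_hom (R := R) hF hG q h1 e.hom
  refine ⟨HomFibreLib.homOfSec s, ?_⟩
  let u := HomFibreLib.homOfSec s
  haveI := (PullbackMod.isQCoh_and_isFP_of_isFinLocFree F hF).1
  haveI := (PullbackMod.isQCoh_and_isFP_of_isFinLocFree G hG).1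
  letI : (f.fiber q).Over (Spec (CommRingCat.of ((Spec R).residueField q))) := ⟨f.fiberToSpecResidueField q⟩
  have hbij : ∀ z, Function.Bijective (PullbackMod.stalkLin ((Scheme.Modules.pullback g).map u) z) := by
    intro z
    let c := (f.fiber q).presheaf.germ ⊤ z trivial
      ((BCLib.secHom (FormalLib.str ((Spec R).residueField q) (f.fiber q)) ⊤).hom k)
    have hc : IsUnit c := (hk.isUnit.map _).map _
    have heq : ∀ t, PullbackMod.stalkLin ((Scheme.Modules.pullback g).map u) z t = c • PullbackMod.stalkLin e.hom z t := by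
      intro t
      letI : Algebra (X.presheaf.stalk (g z)) ((f.fiber q).presheaf.stalk z) := (g.stalkMap z).hom.toAlgebra
      letI := Module.compHom (((Scheme.Modules.pullback g).obj F).presheaf.stalk z) (g.stalkMap z).hom
      haveI : IsScalarTower (X.presheaf.stalk (g z)) ((f.fiber q).presheaf.stalk z)
          (((Scheme.Modules.pullback g).obj F).presheaf.stalk z) := .of_algebraMap_smul fun _ _ => rfl
      have hbc : IsBaseChange ((f.fiber q).presheaf.stalk z) (PullbackMod.pullStalkL g F z) :=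
        PullbackMod.isBaseChange_pullStalkL' g F z
      induction t using hbc.inductionOn with
      | zero => simp
      | tmul a => exact hs z a
      | smul r t ht => rw [map_smul, map_smul, ht, smul_comm]
      | add a b ha hb => rw [map_add, map_add, ha, hb, smul_add]
    rw [funext heq]
    exact hc.smul_bijective.comp ((PullbackMod.isIso_iff_stalk e.hom).1 inferInstance z)
  haveI : LocallyOfFinitePresentation f :=
    (LocallyOfFinitePresentation.iff_locallyOfFiniteType (f := f)).2 inferInstance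
  obtain ⟨W₁, hW₁, hi⟩ := HomFibreLib.exists_open_injective f q u
    (PullbackMod.isQCoh_and_isFP_of_isFinLocFree F hF).2 (PullbackMod.isQCoh_and_isFP_of_isFinLocFree G hG).2
    (TildePerf.isFlatOver_of_isFinLocFree f hG) ((PullbackMod.mono_iff_stalk _).2 fun z => (hbij z).1)
  obtain ⟨W₂, hW₂, hsj⟩ := HomFibreLib.exists_open_surjective f q u
    (QCohLib.isCoh_kernel_cokernel u (DCohLib.isCoh_of_isFinLocFree hF) (DCohLib.isCoh_of_isFinLocFree hG)).2.2
    (fun x => (DCohLib.free_finite_stalk_of_flf hG x).2) ((PullbackMod.epi_iff_stalk _).2 fun z => (hbij z).2)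
  exact ⟨W₁ ⊓ W₂, fun x hx => ⟨hW₁ x hx, hW₂ x hx⟩, fun x hx => ⟨hi x hx.1, hsj x hx.2⟩⟩

open AlgebraicGeometry CategoryTheory in
/-- Let Y be a locally Noetherian scheme, f : X → Y a proper flat morphism, y a point of Y, and F, G
finite locally free O_X-modules whose restrictions F_y and G_y to the fibre X_y are isomorphic (both
isomorphic to one locally free E₀). Assume that Hom(F_y, −) exists as the right adjoint of F_y ⊗ −
and that H^1(X_y, Hom(F_y, F_y)) = 0. Then there is an open neighbourhood U of y such that the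
restrictions of F and G to f⁻¹(U) are isomorphic. -/
theorem result {X Y : Scheme.{u}} (f : X ⟶ Y) [IsProper f] [Flat f]
    [IsLocallyNoetherian Y] (y : Y) (F G : X.Modules) (hF : FlatMod.IsFinLocFree F) (hG : FlatMod.IsFinLocFree G)
    [DCoh.HasSheafHom (CohIII.fiberMod f F y)]
    (h1 : Subsingleton (Coh.HH (f.fiber y) ((DCoh.sheafHom (CohIII.fiberMod f F y)).obj (CohIII.fiberMod f F y)) 1))
    (hy : Nonempty (CohIII.fiberMod f F y ≅ CohIII.fiberMod f G y)) :
    ∃ U : Y.Opens, y ∈ U ∧ Nonempty (F.restrict (f ⁻¹ᵁ U).ι ≅ G.restrict (f ⁻¹ᵁ U).ι) := by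
  obtain ⟨ey⟩ := hy
  have hrank := HomFibreLib.fiberRank_hF_eq_zero f y hF hG ey h1
  obtain ⟨_, ⟨W : Y.Opens, (hW : IsAffineOpen W), rfl⟩, hyW, -⟩ :=
    Y.isBasis_affineOpens.exists_subset_of_mem_open (Set.mem_univ y) isOpen_univ
  obtain ⟨q, rfl⟩ : ∃ q, hW.fromSpec q = y := ⟨_, hW.fromSpec_primeIdealOf ⟨y, hyW⟩⟩
  letI : (f ⁻¹ᵁ W : Scheme.{u}).Over (Spec (CommRingCat.of Γ(Y, W))) := ⟨BCLib.restOver f hW⟩
  haveI : IsNoetherianRing Γ(Y, W) := IsLocallyNoetherian.component_noetherian ⟨W, hW⟩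
  haveI hpr : IsProper (BCLib.restOver f hW) := BCLib.isProper_restOver f hW
  haveI : IsProper (FormalLib.str Γ(Y, W) (f ⁻¹ᵁ W : Scheme.{u})) := hpr
  haveI hfl : Flat (BCLib.restOver f hW) :=
    MorphismProperty.of_isPullback (BCLib.isPullback_restOver f hW) inferInstance
  haveI : Flat (FormalLib.str Γ(Y, W) (f ⁻¹ᵁ W : Scheme.{u})) := hfl
  haveI : IsLocallyNoetherian X := LocallyOfFiniteType.isLocallyNoetherian f
  haveI := (HomFibreLib.isCoh_hF_flf hF hG).1
  haveI hiso := HomFibreLib.isIso_cmpHom (f ⁻¹ᵁ W).ι F G hF hG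
  let ι' := (BCLib.restOver f hW).fiberι q
  have hr : CohIII.fiberRank (BCLib.restOver f hW)
      ((StalkHomLib.hF (BCLib.restMod f F)).obj (BCLib.restMod f G)) 1 q = 0 := by
    letI : ((BCLib.restOver f hW).fiber q).Over (Spec (CommRingCat.of ((Spec Γ(Y, W)).residueField q))) :=
      ⟨(BCLib.restOver f hW).fiberToSpecResidueField q⟩
    refine Eq.trans ?_ ((BCLib.fiberRank_restOver f hW ((StalkHomLib.hF F).obj G) 1 q).trans hrank)
    exact ((BCLib.hhEquivL (A := (Spec Γ(Y, W)).residueField q)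
      ((Scheme.Modules.pullback ι').mapIso (@asIso _ _ _ _ (HomFibreLib.cmpHom (f ⁻¹ᵁ W).ι F G) hiso)) 1).finrank_eq).symm
  let tr : ∀ P : X.Modules, (Scheme.Modules.pullback (BCLib.fiberRestMap f hW q)).obj
      ((Scheme.Modules.pullback (f.fiberι (hW.fromSpec q))).obj P) ≅
      (Scheme.Modules.pullback ι').obj (BCLib.restMod f P) := fun P =>
    (Scheme.Modules.pullbackComp (BCLib.fiberRestMap f hW q) (f.fiberι (hW.fromSpec q))).app P ≪≫
      (Scheme.Modules.pullbackCongr (BCLib.fiberRestMap_ι f hW q)).app P ≪≫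
      ((Scheme.Modules.pullbackComp ι' (f ⁻¹ᵁ W).ι).app P).symm
  obtain ⟨v, O, hO, hv⟩ := exists_nhd_of_affine (R := Γ(Y, W)) (PullbackMod.isFinLocFree_pullback _ F hF)
    (PullbackMod.isFinLocFree_pullback _ G hG) q hr
    ((tr F).symm ≪≫ (Scheme.Modules.pullback (BCLib.fiberRestMap f hW q)).mapIso ey ≪≫ tr G)
  have hG' : ∀ x : X, f x = hW.fromSpec q → x ∈ (f ⁻¹ᵁ W).ι ''ᵁ O := fun x hx => by
    have hxW : x ∈ f ⁻¹ᵁ W := show f x ∈ W by rw [hx]; exact hyW
    refine ⟨⟨x, hxW⟩, hO _ (hW.fromSpec.isOpenEmbedding.injective ?_), rfl⟩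
    show hW.fromSpec (BCLib.restOver f hW ⟨x, hxW⟩) = _
    rw [← Scheme.Hom.comp_apply, ← (BCLib.isPullback_restOver f hW).w, Scheme.Hom.comp_apply]
    exact hx
  obtain ⟨U₀, hyU, hU₀⟩ := BCLib.exists_open_preimage_le f _ (hW.fromSpec q) hG'
  refine ⟨U₀, hyU, ?_⟩
  have hVW : f ⁻¹ᵁ U₀ ≤ f ⁻¹ᵁ W := hU₀.trans (fun x hx => by obtain ⟨w, -, rfl⟩ := hx; exact w.2)
  let j := X.homOfLE hVW
  haveI : IsIso ((Scheme.Modules.pullback j).map v) := by
    refine (PullbackMod.isIso_iff_stalk _).2 fun w => ?_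
    letI := (j.stalkMap w).hom.toAlgebra
    have hw : j w ∈ O := by
      obtain ⟨w', hw', hww⟩ := hU₀ w.2
      have : w' = j w := (f ⁻¹ᵁ W).ι.isOpenEmbedding.injective (hww.trans (by
        rw [← Scheme.Hom.comp_apply, Scheme.homOfLE_ι]; rfl))
      exact this ▸ hw'
    have hb := ((LinearEquiv.ofBijective _ (hv _ hw)).lTensor ((f ⁻¹ᵁ U₀).toScheme.presheaf.stalk w)).bijective
    exact ⟨(PullbackMod.injective_stalk_pullback_iff j v w).2 hb.1,
      (PullbackMod.surjective_stalk_pullback_iff j v w).2 hb.2⟩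
  let tj : ∀ P : X.Modules, (Scheme.Modules.pullback j).obj (BCLib.restMod f P) ≅ P.restrict (f ⁻¹ᵁ U₀).ι := fun P =>
    (Scheme.Modules.pullbackComp j (f ⁻¹ᵁ W).ι).app P ≪≫
      (Scheme.Modules.pullbackCongr (X.homOfLE_ι hVW)).app P ≪≫ ((Scheme.Modules.restrictFunctorIsoPullback _).app P).symm
  exact ⟨(tj F).symm ≪≫ asIso ((Scheme.Modules.pullback j).map v) ≪≫ tj G⟩

end Groth.Agent.S4477
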