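import Groth.Statements.S4481
import Groth.Agent.CohBase.Standard
import Groth.Agent.CohBase.Cech
import Groth.Agent.QCohLib.Push


set_option autoImplicit false
universe u
open Coherent

namespace Groth.Agent.S4481

open CategoryTheory CategoryTheory.Limits AlgebraicGeometry

set_option backward.isDefEq.respectTransparency false
set_option backward.defeqAttrib.useBackward true
set_option linter.style.haveILetI false

open CategoryTheory Opposite TopologicalSpace AlgebraicGeometry Groth.Agent.CohBase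

variable {X : Scheme.{u}}

theorem pow_extend' [QuasiSeparatedSpace X] (M : X.Modules) [Coh.IsQCoh M] {V : X.Opens}
    (hV : IsCompact (V : Set X)) (a : Γ(X, V)) {V' : X.Opens} (h' : V' = X.basicOpen a) (t : Γ(M, V')) :
    ∃ (n : ℕ) (s : Γ(M, V)), M.presheaf.map (homOfLE (h'.le.trans (X.basicOpen_le a))).op s =
      sc (a ^ n) (h'.le.trans (X.basicOpen_le a)) t := by
  subst h'
  exact Groth.Agent.QCohLib.exists_pow_extend_of_isQuasiSeparated M hV
    (isQuasiSeparated_univ.of_subset (Set.subset_univ _)) a t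

theorem pow_zero' [QuasiSeparatedSpace X] (M : X.Modules) [Coh.IsQCoh M] {V : X.Opens}
    (hV : IsCompact (V : Set X)) (a : Γ(X, V)) {V' : X.Opens} (h' : V' = X.basicOpen a) (s : Γ(M, V))
    (hs : M.presheaf.map (homOfLE (h'.le.trans (X.basicOpen_le a))).op s = 0) :
    ∃ n : ℕ, sc (a ^ n) le_rfl s = 0 := by
  subst h'
  exact Groth.Agent.QCohLib.exists_pow_zero_of_isCompact M hV a s hs

variable {W : X.Opens} {ι : Type u} (g : ι → Γ(X, W))

theorem isCompact_inter_stdU [QuasiSeparatedSpace X] (hW : ∀ a, IsCompact (X.basicOpen (g a) : Set X)) :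
    ∀ {m : ℕ} (i : Fin (m + 1) → ι), IsCompact (inter (stdU g) i : Set X)
  | 0, i => by
    have : inter (stdU g) i = X.basicOpen (g (i 0)) := by
      change inter (stdU g) i = stdU g (i 0)
      rw [inter_const (U := stdU g) (i 0)]
      congr 1
      ext t; fin_cases t; rfl
    rw [this]
    exact hW _
  | m + 1, i => by
    have h := inter_cons g (i 0) (fun a => i a.succ)
    have he : (Fin.cons (i 0) (fun a => i a.succ) : Fin (m + 1 + 1) → ι) = i := Fin.cons_self_tail i
    rw [he] at h
    rw [h, Scheme.basicOpen_res]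
    exact QuasiSeparatedSpace.inter_isCompact _ _ (Opens.isOpen _) (isCompact_inter_stdU hW _) (Opens.isOpen _) (hW _)

/-- Čech exactness for standard coverings. -/
theorem cexact_stdU_qc [QuasiSeparatedSpace X] (M : X.Modules) [Coh.IsQCoh M] (hW : ∀ a, IsCompact (X.basicOpen (g a) : Set X)) [Finite ι]
    (hg : Ideal.span (Set.range g) = ⊤) (n : ℕ) :
    CExact (stdU g) (Coh.toAb M).obj n := by
  intro c₀ hc
  classical
  haveI := Fintype.ofFinite ι
  let c : ∀ i : Fin (n + 1 + 1) → ι, Γ(M, inter (stdU g) i) := c₀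
  change cdiff (stdU g) (Coh.toAb M).obj (n + 1) c = 0 at hc
  have hle1 : ∀ (k : ι) {m : ℕ} (i : Fin (m + 1) → ι),
      inter (stdU g) (Fin.cons k i : Fin (m + 1 + 1) → ι) ≤ inter (stdU g) i := fun k m i => by
    rw [inter_cons]; exact X.basicOpen_le _
  have H1 : ∀ (p : ι × (Fin (n + 1) → ι)), ∃ (N : ℕ) (e : Γ(M, inter (stdU g) p.2)),
      rM M (hle1 p.1 p.2) e = sc (g p.1 ^ N)
        ((hle1 p.1 p.2).trans (inter_stdU_le g p.2)) (c (Fin.cons p.1 p.2)) := by
    intro p
    obtain ⟨N, e, he⟩ := pow_extend' M (isCompact_inter_stdU g hW p.2)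
      (X.presheaf.map (homOfLE (inter_stdU_le g p.2)).op (g p.1)) (inter_cons g p.1 p.2)
      (c (Fin.cons p.1 p.2))
    refine ⟨N, e, he.trans ?_⟩
    rw [← map_pow, sc_res]
  choose N₀ e₀ he₀ using H1
  let N := Finset.univ.sup N₀
  have H1' : ∀ k (i : Fin (n + 1) → ι), ∃ e : Γ(M, inter (stdU g) i),
      rM M (hle1 k i) e = sc (g k ^ N)
        ((hle1 k i).trans (inter_stdU_le g i)) (c (Fin.cons k i)) := by
    intro k i
    refine ⟨sc (g k ^ (N - N₀ (k, i))) (inter_stdU_le g i) (e₀ (k, i)), ?_⟩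
    rw [rM_eq_map, map_sc, ← rM_eq_map, he₀ (k, i), ← sc_mul, ← pow_add,
      Nat.sub_add_cancel (Finset.le_sup (f := N₀) (Finset.mem_univ (k, i)))]
  choose e he using H1'
  -- the defect
  let D : ∀ (k : ι) (i : Fin (n + 1 + 1) → ι), Γ(M, inter (stdU g) i) := fun k i =>
    sc (g k ^ N) (inter_stdU_le g i) (c i) - ∑ j : Fin (n + 2), (-1 : ℤ) ^ (j : ℕ) •
      rM M (inter_comp_le (stdU g) i j.succAbove) (e k (i ∘ j.succAbove))
  have H2 : ∀ k (i : Fin (n + 1 + 1) → ι), ∃ L : ℕ,
      sc (g k ^ L) (inter_stdU_le g i) (D k i) = 0 := by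
    intro k i
    obtain ⟨L, hL⟩ := pow_zero' M (isCompact_inter_stdU g hW i)
      (X.presheaf.map (homOfLE (inter_stdU_le g i)).op (g k)) (inter_cons g k i) (D k i) (by
        rw [← rM_eq_map]
        simp only [D, map_sub, map_sum, map_zsmul]
        rw [sub_eq_zero, rM_eq_map, map_sc, ← rM_eq_map]
        have hcons := congrFun hc (Fin.cons k i)
        rw [cdiffM_apply, Fin.sum_univ_succ] at hcons
        replace hcons : _ = (0 : Γ(M, inter (stdU g) (Fin.cons k i))) := hcons
        have key : ∀ j : Fin (n + 2),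
            rM M (hle1 k i) (rM M (inter_comp_le (stdU g) i j.succAbove) (e k (i ∘ j.succAbove))) =
              sc (g k ^ N) ((hle1 k i).trans (inter_stdU_le g i))
                (rM M (inter_comp_le (stdU g) (Fin.cons k i) j.succ.succAbove)
                  (c ((Fin.cons k i : Fin (n + 3) → ι) ∘ j.succ.succAbove))) := by
          intro j
          have hle' : inter (stdU g) (Fin.cons k i : Fin (n + 3) → ι) ≤
              inter (stdU g) (Fin.cons k (i ∘ j.succAbove) : Fin (n + 2) → ι) := by
            rw [← cons_comp_succ_succAbove]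
            exact inter_comp_le _ _ _
          rw [rM_rM, ← rM_rM M (hle1 k (i ∘ j.succAbove)) hle', he, rM_eq_map, map_sc,
            ← rM_eq_map]
          exact congrArg _ (rM_congr M c (cons_comp_succ_succAbove k i j).symm _ _)
        refine Eq.trans ?_ (Finset.sum_congr rfl fun j _ => by rw [key j]).symm
        simp only [Fin.val_zero, pow_zero, one_smul, Fin.val_succ, pow_succ, mul_neg, mul_one,
          neg_smul, Finset.sum_neg_distrib, ← sub_eq_add_neg, sub_eq_zero] at hcons
        have h0 := congrArg (sc (M := M) (g k ^ N) ((hle1 k i).trans (inter_stdU_le g i))) hcons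
        simp only [map_sum, map_zsmul] at h0
        refine Eq.trans ?_ h0
        exact congrArg _ (rM_congr M c (cons_comp_succAbove_zero k i).symm _ _))
    refine ⟨L, ?_⟩
    rw [← map_pow, sc_res] at hL
    exact hL
  choose L₀ hL₀ using H2
  let L := Finset.univ.sup fun p : ι × (Fin (n + 1 + 1) → ι) => L₀ p.1 p.2
  have hL : ∀ k (i : Fin (n + 1 + 1) → ι), sc (g k ^ L) (inter_stdU_le g i) (D k i) = 0 := by
    intro k i
    obtain ⟨d, hd⟩ : ∃ d, L = d + L₀ k i := ⟨L - L₀ k i, (Nat.sub_add_cancel (Finset.le_sup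
      (f := fun p : ι × (Fin (n + 1 + 1) → ι) => L₀ p.1 p.2) (Finset.mem_univ (k, i)))).symm⟩
    rw [hd, pow_add, sc_mul, hL₀, map_zero]
  have hspan : Ideal.span (Set.range fun k => g k ^ (L + N)) = ⊤ := by
    rw [Set.range_comp' (fun x => x ^ (L + N)) g]
    exact Ideal.span_pow_eq_top _ hg _
  obtain ⟨a, ha⟩ := (Submodule.mem_span_range_iff_exists_fun _).mp
    (hspan.symm ▸ Submodule.mem_top : (1 : Γ(X, W)) ∈ Ideal.span (Set.range fun k => g k ^ (L + N)))
  let b : ∀ i : Fin (n + 1) → ι, Γ(M, inter (stdU g) i) :=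
    fun i => ∑ k, sc (a k * g k ^ L) (inter_stdU_le g i) (e k i)
  refine ⟨b, funext fun i => ?_⟩
  rw [cdiffM_apply]
  simp only [b]
  simp only [map_sum, Finset.smul_sum]
  rw [Finset.sum_comm]
  have key : ∀ k, ∑ j : Fin (n + 2), (-1 : ℤ) ^ (j : ℕ) •
      rM M (inter_comp_le (stdU g) i j.succAbove)
        (sc (a k * g k ^ L) (inter_stdU_le g _) (e k (i ∘ j.succAbove))) =
      sc (a k * g k ^ (L + N)) (inter_stdU_le g i) (c i) := by
    intro k
    have hD := hL k i
    simp only [D, map_sub, sub_eq_zero] at hD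
    calc _ = ∑ j : Fin (n + 2), (-1 : ℤ) ^ (j : ℕ) • sc (a k * g k ^ L) (inter_stdU_le g i)
            (rM M (inter_comp_le (stdU g) i j.succAbove) (e k (i ∘ j.succAbove))) :=
          Finset.sum_congr rfl fun j _ => by rw [rM_eq_map, map_sc, ← rM_eq_map]
      _ = sc (a k) (inter_stdU_le g i) (sc (g k ^ L) (inter_stdU_le g i)
            (∑ j : Fin (n + 2), (-1 : ℤ) ^ (j : ℕ) •
              rM M (inter_comp_le (stdU g) i j.succAbove) (e k (i ∘ j.succAbove)))) := by
          simp only [map_sum, map_zsmul, sc_mul]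
      _ = _ := by rw [← hD, pow_add, sc_mul, sc_mul]
  rw [Finset.sum_congr rfl fun k _ => key k]
  let scHom : Γ(X, W) →+ Γ(M, inter (stdU g) i) :=
    AddMonoidHom.mk' (fun r => sc r (inter_stdU_le g i) (c i)) fun r r' => sc_add r r' _ _
  change ∑ k, scHom (a k * g k ^ (L + N)) = c i
  rw [← map_sum, show (∑ k, a k * g k ^ (L + N)) = 1 from by simpa using ha]
  exact sc_one _ _


open AlgebraicGeometry CategoryTheory Opposite in
/-- Let X be a separated scheme, f_1, …, f_n global functions on X such that every open X_{f_i} is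
quasi-compact, U the union of the X_{f_i}, and suppose there are sections g_1, …, g_n of O_X over U
with Σ g_i · (f_i|_U) = 1. Then for every quasi-coherent O_X-module G and every p > 0 the Čech
cohomology group of G in degree p with respect to the family of opens (X_{f_i}) is zero. (The
published statement also covers a scheme whose underlying space is Noetherian, not necessarily
separated; this row treats separated X.) -/
theorem result (X : Scheme.{u}) [X.IsSeparated] (n : ℕ)
    (f : Fin n → Γ(X, ⊤)) (hqc : ∀ i, IsCompact (X.basicOpen (f i) : Set X))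
    (g : Fin n → Γ(X, ⨆ i, X.basicOpen (f i)))
    (hg : (Finset.univ.sum fun i => g i *
      (X.presheaf.map (homOfLE (le_top : (⨆ i, X.basicOpen (f i)) ≤ ⊤)).op).hom (f i)) = 1)
    (G : X.Modules) [Coh.IsQCoh G] (p : ℕ) (hp : 0 < p) :
    Limits.IsZero (CohB1.cechH (fun i : ULift.{u} (Fin n) => X.basicOpen (f i.down)) G p) := by
  obtain ⟨q, rfl⟩ := Nat.exists_eq_succ_of_ne_zero hp.ne'
  let W : X.Opens := ⨆ i, X.basicOpen (f i)
  let g' : ULift.{u} (Fin n) → Γ(X, W) := fun i =>
    X.presheaf.map (homOfLE (le_top : W ≤ ⊤)).op (f i.down)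
  have hU : ∀ i, X.basicOpen (g' i) = X.basicOpen (f i.down) := fun i => by
    rw [Scheme.basicOpen_res]
    exact inf_eq_right.2 (le_iSup (fun i => X.basicOpen (f i)) i.down)
  have hspan : Ideal.span (Set.range g') = ⊤ := by
    rw [Ideal.eq_top_iff_one, ← hg]
    exact Ideal.sum_mem _ fun i _ => Ideal.mul_mem_left _ _ (Ideal.subset_span ⟨⟨i⟩, rfl⟩)
  have h := cexact_stdU_qc g' G (fun a => by rw [hU]; exact hqc a.down) hspan q
  rw [show (stdU g') = fun i : ULift.{u} (Fin n) => X.basicOpen (f i.down) from funext hU] at h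
  exact (isZero_homology_iff _ (Coh.toAb G).obj q).2 h

end Groth.Agent.S4481
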