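import Groth.Statements.S4482
import Groth.Agent.EulerArtLib.Basic
import Groth.Agent.CurveLib.Components
import Groth.Prelude.Def_PicGrp
-- import your own Groth.Agent.* helpers here

set_option autoImplicit false
universe u
open Coherent

namespace Groth.Agent.S4482

set_option backward.isDefEq.respectTransparency false
set_option linter.style.haveILetI false

open AlgebraicGeometry CategoryTheory in
/-- Let A be an Artinian local ring, S a graded A-algebra with S_0 the image of A, generated by r+1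
elements of degree one spanning S_1, M a finitely generated graded S-module (graded in nonnegative
degrees) and X = Proj S. Then there is N such that for every n ≥ N the Euler characteristic of the
module M(n)~, namely the alternating sum over 0 ≤ j ≤ r of the lengths of the A-modules H^j(X,
M(n)~), equals the length of the A-module M_n. -/
theorem result {A S : Type u} [CommRing A] [IsArtinianRing A]
    [IsLocalRing A] [CommRing S] [Algebra A S] (𝒜 : ℕ → Submodule A S) [GradedAlgebra 𝒜]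
    (h0 : ∀ s ∈ 𝒜 0, s ∈ Set.range (algebraMap A S)) (r : ℕ) (g : Fin (r + 1) → S)
    (hg1 : ∀ i, g i ∈ 𝒜 1) (hspan : Submodule.span A (Set.range g) = 𝒜 1)
    (hgen : Algebra.adjoin A (Set.range g) = ⊤) {M : Type u} [AddCommGroup M] [Module A M] [Module S M]
    [IsScalarTower A S M] [Module.Finite S M] (ℳ : ℕ → Submodule A M) [DirectSum.Decomposition ℳ]
    [SetLike.GradedSMul 𝒜 ℳ] :
    ∃ N : ℕ, ∀ n : ℕ, N ≤ n →
      ((Finset.range (r + 1)).sum fun j => (-1 : ℤ) ^ j *
          ((Module.length A (Coh.HH (Proj 𝒜) (GrTilde.tilde 𝒜 ℳ (n : ℤ)) j)).toNat : ℤ)) =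
        ((Module.length A ↥(ℳ n)).toNat : ℤ) := by
  classical
  -- the degree one elements generate the irrelevant ideal
  have hgI : Ideal.span (Set.range g) ≤ (HomogeneousIdeal.irrelevant 𝒜).toIdeal :=
    Ideal.span_le.2 (by rintro _ ⟨i, rfl⟩; exact HomogeneousIdeal.mem_irrelevant_of_mem 𝒜 Nat.one_pos (hg1 i))
  have hirr : (HomogeneousIdeal.irrelevant 𝒜).toIdeal ≤ Ideal.span (Set.range g) := fun z hz => by
    have hdec : ∀ s ∈ Algebra.adjoin A (Set.range g), ∃ a : A, s - algebraMap A S a ∈ Ideal.span (Set.range g) := by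
      intro s hs
      induction hs using Algebra.adjoin_induction with
      | mem x hx => exact ⟨0, by rw [map_zero, sub_zero]; exact Ideal.subset_span hx⟩
      | algebraMap r => exact ⟨r, by simp⟩
      | add x y _ _ hx hy =>
        obtain ⟨a, ha⟩ := hx
        obtain ⟨b, hb⟩ := hy
        exact ⟨a + b, by rw [map_add, add_sub_add_comm]; exact add_mem ha hb⟩
      | mul x y _ _ hx hy =>
        obtain ⟨a, ha⟩ := hx
        obtain ⟨b, hb⟩ := hy
        refine ⟨a * b, ?_⟩
        rw [map_mul, show x * y - algebraMap A S a * algebraMap A S b =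
          (x - algebraMap A S a) * y + algebraMap A S a * (y - algebraMap A S b) by ring]
        exact add_mem (Ideal.mul_mem_right _ _ ha) (Ideal.mul_mem_left _ _ hb)
    obtain ⟨a, ha⟩ := hdec z (hgen.ge Algebra.mem_top)
    have h1 : algebraMap A S a ∈ (HomogeneousIdeal.irrelevant 𝒜).toIdeal := by
      have := sub_mem hz (hgI ha)
      rwa [sub_sub_cancel] at this
    have h2 : algebraMap A S a = 0 := by
      have h3 := (HomogeneousIdeal.mem_irrelevant_iff 𝒜 _).1 h1
      rwa [GradedRing.proj_apply, DirectSum.decompose_of_mem_same 𝒜 (SetLike.algebraMap_mem_graded 𝒜 a)] at h3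
    simpa [h2] using ha
  let gg : ULift.{u} (Fin (r + 1)) → 𝒜 1 := fun i => ⟨g i.down, hg1 i.down⟩
  have hgg : (Set.range fun i => (gg i).1) = Set.range g := by
    ext x
    constructor
    · rintro ⟨i, rfl⟩; exact ⟨i.down, rfl⟩
    · rintro ⟨i, rfl⟩; exact ⟨⟨i⟩, rfl⟩
  have hcov : (⨆ f : 𝒜 1, Proj.basicOpen 𝒜 (f : S)) = ⊤ := eq_top_iff.2 fun x _ => by
    obtain ⟨i, hi⟩ : ∃ i, g i ∉ (x : ProjectiveSpectrum 𝒜).asHomogeneousIdeal := by
      by_contra hne
      push Not at hne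
      exact (x : ProjectiveSpectrum 𝒜).not_irrelevant_le fun z hz =>
        (Ideal.span_le.2 (by rintro _ ⟨l, rfl⟩; exact hne l)) (hirr hz)
    exact TopologicalSpace.Opens.mem_iSup.2 ⟨⟨g i, hg1 i⟩, hi⟩
  -- the scheme
  haveI : Algebra.FiniteType A S := ⟨⟨Finset.univ.image g, by simpa using hgen⟩⟩
  haveI : IsNoetherianRing S := Algebra.FiniteType.isNoetherianRing A S
  haveI : IsScalarTower A (𝒜 0) S := ⟨fun a s x => smul_mul_assoc a (s : S) x⟩
  haveI : Algebra.FiniteType (𝒜 0) S := Algebra.FiniteType.of_restrictScalars_finiteType A (𝒜 0) S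
  have hsurj : Function.Surjective (algebraMap A (𝒜 0)) := fun s => by
    obtain ⟨a, ha⟩ := h0 s.1 s.2
    exact ⟨a, Subtype.ext ha⟩
  haveI : IsClosedImmersion (Spec.map (CommRingCat.ofHom (algebraMap A (𝒜 0)))) :=
    IsClosedImmersion.spec_of_surjective _ hsurj
  haveI : IsProper (Proj 𝒜 ↘ Spec (CommRingCat.of A)) :=
    inferInstanceAs (IsProper (Proj.toSpecZero 𝒜 ≫ Spec.map (CommRingCat.ofHom (algebraMap A (𝒜 0)))))
  haveI : IsLocallyNoetherian (Proj 𝒜) :=
    LocallyOfFiniteType.isLocallyNoetherian (Proj 𝒜 ↘ Spec (CommRingCat.of A))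
  haveI : CompactSpace (Proj 𝒜) := QuasiCompact.compactSpace_of_compactSpace (Proj 𝒜 ↘ Spec (CommRingCat.of A))
  -- the module
  have hfg : (HomogeneousIdeal.irrelevant 𝒜).toIdeal.FG := by
    rw [le_antisymm hirr hgI]
    exact ⟨Finset.univ.image g, by simp⟩
  have hTF : ∃ n : ℕ, (Submodule.span S (⋃ k ∈ Set.Ici n, (ℳ k : Set M))).FG := ⟨0, IsNoetherian.noetherian _⟩
  have hcoh : Coh.IsCoh (GrTilde.tilde 𝒜 ℳ 0) :=
    ⟨Groth.Agent.GrTildeLib.isQCoh_tilde 0, Groth.Agent.GrTildeLib.isFiniteType_tilde hfg hTF⟩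
  have hu := Groth.Agent.ProjTwistLib.hasUnit_one_of_cover hcov
  obtain ⟨N₁, hN₁⟩ := Groth.Agent.AmpleEmb.serre_vanishing (Proj 𝒜 ↘ Spec (CommRingCat.of A))
    (Groth.Agent.ProjTwistLib.isAmple_twist (d := 1) Nat.one_pos fun x => hu _ x) hcoh
  obtain ⟨N₂, hN₂⟩ := Groth.Agent.GrTildeLib.eventually_bijective (ℳ := ℳ) gg (hgg ▸ hirr)
  refine ⟨max N₁ N₂, fun n hn => ?_⟩
  obtain ⟨e₁⟩ := Groth.Agent.GrTildeLib.nonempty_twistBy_iso (ℳ := ℳ) (𝒜 := 𝒜) (n : ℤ) fun x => hu _ x
  let e₂ : Twist.twist 𝒜 (n : ℤ) ≅ CohB1.tensorPow (Twist.twist 𝒜 ((1 : ℕ) : ℤ)) n :=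
    eqToIso (congrArg (Twist.twist 𝒜) (mul_one (n : ℤ)).symm) ≪≫ (Groth.Agent.ProjTwistLib.powIso (fun x => hu _ x) n).symm
  let e := e₁ ≪≫ PicGrp.tensorModIso (CategoryTheory.Iso.refl (GrTilde.tilde 𝒜 ℳ 0)) e₂
  have hvan : ∀ j, 0 < j → Subsingleton (Coh.HH (Proj 𝒜) (GrTilde.tilde 𝒜 ℳ (n : ℤ)) j) := fun j hj =>
    Groth.Agent.CurveLib.subsingleton_HH_iso e.symm j (hN₁ n ((le_max_left _ _).trans hn) j hj)
  have hbij : Function.Bijective (Groth.Agent.EulerArtLib.globalLin 𝒜 ℳ n) :=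
    (Groth.Agent.CurveLib.secOf _).symm.bijective.comp (hN₂ n ((le_max_right _ _).trans hn))
  have hlen := (LinearEquiv.ofBijective _ hbij).length_eq
  rw [Finset.sum_eq_single 0 (fun j _ hj => ?_) (fun h => absurd (Finset.mem_range.2 (Nat.succ_pos r)) h)]
  · rw [pow_zero, one_mul, hlen]
  · haveI := hvan j (Nat.pos_of_ne_zero hj)
    rw [Module.length_eq_zero_iff.2 inferInstance]
    simp

end Groth.Agent.S4482
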