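import Groth.Statements.S4485
import Groth.Agent.FlatCx.Main

set_option autoImplicit false
universe u
open FlatCx

namespace Groth.Agent.S4485

open CategoryTheory CategoryTheory.Limits in
/-- For the homological functor T_p(M) = H_p(P ⊗_A M) of a chain complex P of flat modules over a
commutative ring A. If T_p takes injections to injections and surjections to surjections and T_p(A)
is a finitely presented A-module, then the function x ↦ dim_{k(x)} H_p(P ⊗_A k(x)) is locally
constant on Spec A (hence constant when Spec A is connected). No Noetherian hypothesis on A. -/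
theorem result {A : Type u} [CommRing A]
    (P : ChainComplex (ModuleCat.{u} A) ℤ) (hP : ∀ i, Module.Flat A (P.X i)) (p : ℤ)
    (hex : (CohIII.TFun P p).PreservesMonomorphisms ∧ (CohIII.TFun P p).PreservesEpimorphisms)
    (hfp : Module.FinitePresentation A (CohIII.T P p (ModuleCat.of A A))) :
    IsLocallyConstant (CohIII.dRank P p) := by
  have hq := sub_add_cancel p 1
  rw [Groth.Agent.FlatCx.preservesMono_iff_flat P p hP, Groth.Agent.FlatCx.preservesEpi_iff_flat P p hP hq] at hex
  obtain ⟨h1, h2⟩ := hex
  haveI := hP (p - 1)
  haveI : Module.Flat A (LinearMap.ker (Groth.Agent.FlatCx.δ P p (p - 1))) :=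
    Groth.Agent.FlatCx.flat_ker_δ P p hq (hP _) h2 h1
  haveI : Module.FinitePresentation A ((CohIII.TFun P p).obj (ModuleCat.of A A)) := hfp
  haveI : Module.FinitePresentation A (LinearMap.ker (Groth.Agent.FlatCx.δ P p (p - 1))) :=
    Module.FinitePresentation.of_equiv (Groth.Agent.FlatCx.tAEquiv P p hq)
  haveI : Module.Flat A (P.X (p - 1) ⧸ LinearMap.range (Groth.Agent.FlatCx.δ P p (p - 1))) :=
    Module.Flat.of_linearEquiv (Groth.Agent.FlatCx.cokerδ P p hq)
  have key := Groth.Agent.FlatCx.fdim_isLocallyConstant (A := A) (LinearMap.ker (Groth.Agent.FlatCx.δ P p (p - 1)))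
  convert key using 1
  funext x
  rw [Groth.Agent.FlatCx.dRank_eq_kdim P p hq]
  let K := x.asIdeal.ResidueField
  have hinj : Function.Injective ((LinearMap.ker (Groth.Agent.FlatCx.δ P p (p - 1))).subtype.baseChange K) := by
    rw [LinearMap.baseChange_eq_ltensor, LinearMap.lTensor_inj_iff_rTensor_inj]
    exact (Groth.Agent.FlatCx.kerTensor_injective_range _ K).1
  have hrange : LinearMap.range ((LinearMap.ker (Groth.Agent.FlatCx.δ P p (p - 1))).subtype.baseChange K) =
      LinearMap.ker ((Groth.Agent.FlatCx.δ P p (p - 1)).baseChange K) := by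
    have hex' : Function.Exact ((LinearMap.ker (Groth.Agent.FlatCx.δ P p (p - 1))).subtype.rTensor K)
        ((Groth.Agent.FlatCx.δ P p (p - 1)).rTensor K) :=
      LinearMap.exact_iff.mpr (Groth.Agent.FlatCx.kerTensor_injective_range (Groth.Agent.FlatCx.δ P p (p - 1)) K).2.symm
    have c1 : ∀ z, (LinearMap.ker (Groth.Agent.FlatCx.δ P p (p - 1))).subtype.rTensor K (TensorProduct.comm A K _ z) =
        TensorProduct.comm A K _ ((LinearMap.ker (Groth.Agent.FlatCx.δ P p (p - 1))).subtype.lTensor K z) := by
      intro z
      induction z using TensorProduct.induction_on with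
      | zero => simp
      | tmul c a => simp
      | add a b ha hb => simp only [map_add, ha, hb]
    have c2 : ∀ z, (Groth.Agent.FlatCx.δ P p (p - 1)).rTensor K (TensorProduct.comm A K _ z) =
        TensorProduct.comm A K _ ((Groth.Agent.FlatCx.δ P p (p - 1)).lTensor K z) := by
      intro z
      induction z using TensorProduct.induction_on with
      | zero => simp
      | tmul c a => simp
      | add a b ha hb => simp only [map_add, ha, hb]
    ext z
    simp only [LinearMap.mem_range, LinearMap.mem_ker, LinearMap.baseChange_eq_ltensor]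
    rw [← map_eq_zero_iff _ (TensorProduct.comm A K _).injective, ← c2, hex']
    constructor
    · rintro ⟨w, rfl⟩
      exact ⟨TensorProduct.comm A K _ w, c1 w⟩
    · rintro ⟨w, hw⟩
      refine ⟨(TensorProduct.comm A K _).symm w, (TensorProduct.comm A K _).injective ?_⟩
      rw [← c1, LinearEquiv.apply_symm_apply, hw]
  show Module.finrank K (LinearMap.ker ((Groth.Agent.FlatCx.δ P p (p - 1)).baseChange K)) = _
  rw [← hrange, LinearMap.finrank_range_of_inj hinj]
  rfl

end Groth.Agent.S4485
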