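import Groth.Statements.S4488
import Groth.Agent.FlatCx.Ext
-- import your own Groth.Agent.* helpers here

set_option autoImplicit false
universe u
open FlatCx

namespace Groth.Agent.S4488

open CategoryTheory CategoryTheory.Limits in
/-- For the homological functor T_q(M) = H_q(P ⊗_A M) of a chain complex P of flat modules over a
commutative local ring A with residue field k. Suppose P_i = 0 for i < i₀ and that every T_n(A) is a
finitely presented A-module, and let p be an integer. If T_q takes injections to injections and
surjections to surjections for every q ≤ p, then dim_{k(x)} T_q(k(x)) = dim_k T_q(k) for every point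
x of Spec A and every q ≤ p. Conversely, if A is reduced and this equality holds at the generic
point of every irreducible component of Spec A (every minimal prime) for every q ≤ p, then T_q takes
injections to injections and surjections to surjections for every q ≤ p. No Noetherian hypothesis on
A. -/
theorem result {A : Type u} [CommRing A] [IsLocalRing A]
    (P : ChainComplex (ModuleCat.{u} A) ℤ) (hP : ∀ i, Module.Flat A (P.X i)) (i₀ : ℤ)
    (hb : ∀ i < i₀, IsZero (P.X i))
    (hfp : ∀ n : ℤ, Module.FinitePresentation A (CohIII.T P n (ModuleCat.of A A))) (p : ℤ) :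
    ((∀ q ≤ p, (CohIII.TFun P q).PreservesMonomorphisms ∧ (CohIII.TFun P q).PreservesEpimorphisms) →
        ∀ (x : PrimeSpectrum A), ∀ q ≤ p, CohIII.dRank P q x = CohIII.dRank P q (IsLocalRing.closedPoint A)) ∧
      (IsReduced A →
        (∀ x : PrimeSpectrum A, x.asIdeal ∈ minimalPrimes A →
          ∀ q ≤ p, CohIII.dRank P q x = CohIII.dRank P q (IsLocalRing.closedPoint A)) →
        ∀ q ≤ p, (CohIII.TFun P q).PreservesMonomorphisms ∧ (CohIII.TFun P q).PreservesEpimorphisms) := by
  have hfpK : ∀ q, Module.FinitePresentation A (LinearMap.ker (Groth.Agent.FlatCx.δ P q (q - 1))) := fun q => by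
    haveI : Module.FinitePresentation A ((CohIII.TFun P q).obj (ModuleCat.of A A)) := hfp q
    exact Module.FinitePresentation.of_equiv (Groth.Agent.FlatCx.tAEquiv P q (sub_add_cancel q 1))
  constructor
  · intro h x q hq
    have e := sub_add_cancel q 1
    obtain ⟨h1, h2⟩ := h q hq
    rw [Groth.Agent.FlatCx.preservesMono_iff_flat P q hP] at h1
    rw [Groth.Agent.FlatCx.preservesEpi_iff_flat P q hP e] at h2
    rw [Groth.Agent.FlatCx.dRank_eq_fdim_ker P q e (hP _) h2, Groth.Agent.FlatCx.dRank_eq_fdim_ker P q e (hP _) h2]
    haveI := Groth.Agent.FlatCx.flat_ker_δ P q e (hP _) h2 h1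
    haveI := hfpK q
    let K := LinearMap.ker (Groth.Agent.FlatCx.δ P q (q - 1))
    have hlc := Groth.Agent.FlatCx.fdim_isLocallyConstant (A := A) K
    have hsp : x ⤳ IsLocalRing.closedPoint A := by
      rw [← PrimeSpectrum.le_iff_specializes]
      exact IsLocalRing.le_maximalIdeal x.isPrime.ne_top
    exact hsp.mem_open (hlc {Groth.Agent.FlatCx.fdim K (IsLocalRing.closedPoint A)}) rfl
  · intro _ heq
    have key := Groth.Agent.FlatCx.flat_Cq_of_flat_T P hP i₀ hb p fun q hq hC => by
      have e := sub_add_cancel q 1
      haveI := hfpK q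
      haveI : Module.Free A (LinearMap.ker (Groth.Agent.FlatCx.δ P q (q - 1))) := by
        refine Groth.Agent.FlatCx.free_of_fdim_eq _ fun x hx => ?_
        rw [← Groth.Agent.FlatCx.dRank_eq_fdim_ker P q e (hP _) hC, ← Groth.Agent.FlatCx.dRank_eq_fdim_ker P q e (hP _) hC]
        exact heq x hx q hq
      infer_instance
    intro q hq
    rw [Groth.Agent.FlatCx.preservesMono_iff_flat P q hP, Groth.Agent.FlatCx.preservesEpi_iff_flat P q hP (sub_add_cancel q 1)]
    exact ⟨key q hq, key _ (by omega)⟩

end Groth.Agent.S4488
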