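import Groth.Statements.S4489
import Groth.Agent.FlatCx.Main

import Mathlib.RingTheory.Flat.TorsionFree

set_option autoImplicit false
universe u
open FlatCx

namespace Groth.Agent.S4489

open CategoryTheory CategoryTheory.Limits in
/-- For the homological functor T_p(M) = H_p(P ⊗_A M) of a chain complex P of flat modules, stated over
a Dedekind domain A. (The published statement allows A to be a finite product of Dedekind domains,
that is, a Noetherian regular ring of dimension at most 1; this row takes A a Dedekind domain.) Then
T_p takes injections to injections if and only if H_p(P) is a flat A-module; and, with q + 1 = p,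
T_p takes injections to injections and surjections to surjections if and only if H_p(P) and H_q(P)
are both flat. -/
theorem result {A : Type u} [CommRing A] [IsDedekindDomain A]
    (P : ChainComplex (ModuleCat.{u} A) ℤ) (hP : ∀ i, Module.Flat A (P.X i)) (p q : ℤ) (hpq : q + 1 = p) :
    ((CohIII.TFun P p).PreservesMonomorphisms ↔ Module.Flat A (P.homology p)) ∧
      (((CohIII.TFun P p).PreservesMonomorphisms ∧ (CohIII.TFun P p).PreservesEpimorphisms) ↔
        (Module.Flat A (P.homology p) ∧ Module.Flat A (P.homology q))) := by
  have hq' : q - 1 + 1 = q := sub_add_cancel q 1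
  have key : ∀ (p q : ℤ), q + 1 = p →
      (Module.Flat A (Groth.Agent.FlatCx.Cq P p) ↔ Module.Flat A (P.homology p)) := by
    intro p q hpq
    haveI := hP q
    rw [Module.Flat.equiv_iff (Groth.Agent.FlatCx.homologyEquivKer P p hpq)]
    rw [IsDedekindDomain.flat_iff_torsion_eq_bot, IsDedekindDomain.flat_iff_torsion_eq_bot,
      Submodule.eq_bot_iff, Submodule.eq_bot_iff]
    constructor
    · intro h x hx
      obtain ⟨a, ha⟩ := (Submodule.mem_torsion_iff _).mp hx
      exact Subtype.ext (h x.1 ((Submodule.mem_torsion_iff _).mpr ⟨a, congrArg Subtype.val ha⟩))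
    · intro h x hx
      obtain ⟨a, ha⟩ := (Submodule.mem_torsion_iff _).mp hx
      have hker : x ∈ LinearMap.ker (Groth.Agent.FlatCx.δ P p q) := by
        rw [LinearMap.mem_ker]
        have hF : Submodule.torsion A (P.X q) = ⊥ :=
          (IsDedekindDomain.flat_iff_torsion_eq_bot).mp (hP q)
        exact (Submodule.eq_bot_iff _).mp hF _ ((Submodule.mem_torsion_iff _).mpr
          ⟨a, by rw [Submonoid.smul_def, ← map_smul, ← Submonoid.smul_def, ha, map_zero]⟩)
      exact congrArg Subtype.val (h ⟨x, hker⟩ ((Submodule.mem_torsion_iff _).mpr ⟨a, Subtype.ext ha⟩))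
  rw [Groth.Agent.FlatCx.preservesMono_iff_flat P p hP, Groth.Agent.FlatCx.preservesEpi_iff_flat P p hP hpq, key p q hpq,
    key q (q - 1) hq']
  exact ⟨Iff.rfl, Iff.rfl⟩

end Groth.Agent.S4489
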