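import Groth.Statements.S4491
import Groth.Agent.FlatCx.Main

set_option autoImplicit false
universe u
open FlatCx

namespace Groth.Agent.S4491

open CategoryTheory CategoryTheory.Limits in
/-- For the homological functor T_i(M) = H_i(P ⊗_A M) of a chain complex P of flat modules over a
commutative ring A. Let q + 1 = p and suppose T_p takes surjections to surjections. If
multiplication by f ∈ A is injective on an A-module M, then multiplication by f is injective on
T_q(M). In particular, when A is a domain, T_q(A) is torsion-free. -/
theorem result {A : Type u} [CommRing A]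
    (P : ChainComplex (ModuleCat.{u} A) ℤ) (hP : ∀ i, Module.Flat A (P.X i)) (p q : ℤ) (hpq : q + 1 = p)
    (hex : (CohIII.TFun P p).PreservesEpimorphisms) :
    (∀ (M : ModuleCat.{u} A) (f : A), Function.Injective (fun x : M => f • x) →
        Function.Injective (fun y : CohIII.T P q M => f • y)) ∧
      (IsDomain A → NoZeroSMulDivisors A (CohIII.T P q (ModuleCat.of A A))) := by
  have hmono : (CohIII.TFun P q).PreservesMonomorphisms := by
    rw [Groth.Agent.FlatCx.preservesMono_iff_flat P q hP]
    exact (Groth.Agent.FlatCx.preservesEpi_iff_flat P p hP hpq).mp hex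
  have hsmul : ∀ (M : ModuleCat.{u} A) (f : A), Function.Injective (fun x : M => f • x) →
      Function.Injective (fun y : CohIII.T P q M => f • y) := by
    intro M f hf
    haveI : Mono (ModuleCat.ofHom (f • LinearMap.id : M →ₗ[A] M)) :=
      (ModuleCat.mono_iff_injective _).mpr hf
    have hm := (ModuleCat.mono_iff_injective _).mp
      ((CohIII.TFun P q).map_mono (ModuleCat.ofHom (f • LinearMap.id : M →ₗ[A] M)))
    have e : ∀ y, ((CohIII.TFun P q).map (ModuleCat.ofHom (f • LinearMap.id : M →ₗ[A] M))).hom y
        = f • y := fun y => by
      apply Groth.Agent.FlatCx.θ_injective P q M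
      rw [Groth.Agent.FlatCx.θ_naturality, map_smul, ModuleCat.hom_ofHom, LinearMap.lTensor_smul,
        LinearMap.lTensor_id, LinearMap.smul_apply, LinearMap.id_apply]
    intro a b hab
    exact hm ((e a).trans (hab.trans (e b).symm))
  refine ⟨hsmul, fun _ => ⟨fun {c x} hcx => ?_⟩⟩
  rcases eq_or_ne c 0 with h | h
  · exact Or.inl h
  · refine Or.inr (hsmul (ModuleCat.of A A) c ?_ (hcx.trans (smul_zero c).symm))
    exact fun a b hab => mul_left_cancel₀ h hab

end Groth.Agent.S4491
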