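import Groth.Statements.S4492
import Mathlib.RingTheory.Length
import Mathlib.Algebra.Category.ModuleCat.Abelian
import Mathlib.Algebra.Homology.ShortComplex.ModuleCat
-- import your own Groth.Agent.* helpers here

set_option autoImplicit false
universe u
open FlatCx

namespace Groth.Agent.S4492

open CategoryTheory CategoryTheory.Limits in
/-- (The published statement is for arbitrary abelian categories; this row is for functors between
module categories.) Let F be an additive functor from A-modules to B-modules which is half exact
(every short exact sequence 0 → E' → E → E'' → 0 goes to a sequence F(E') → F(E) → F(E'') exact at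
the middle) and such that F(S) has finite length for every simple A-module S. Then F(E) has finite
length for every A-module E of finite length; and for every short exact sequence 0 → E' → E → E'' →
0 of A-modules with E of finite length one has length F(E) ≤ length F(E') + length F(E''), with
equality if and only if 0 → F(E') → F(E) → F(E'') → 0 is (short) exact. Lengths are Mathlib's,
valued in ℕ∞. -/
theorem result {A B : Type u} [Ring A] [Ring B]
    (F : ModuleCat.{u} A ⥤ ModuleCat.{u} B) [F.Additive]
    (hF : ∀ S : ShortComplex (ModuleCat.{u} A), S.ShortExact → (S.map F).Exact)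
    (hS : ∀ M : ModuleCat.{u} A, IsSimpleModule A M → Module.length B (F.obj M) ≠ ⊤) :
    (∀ E : ModuleCat.{u} A, Module.length A E ≠ ⊤ → Module.length B (F.obj E) ≠ ⊤) ∧
      ∀ S : ShortComplex (ModuleCat.{u} A), S.ShortExact → Module.length A S.X₂ ≠ ⊤ →
        Module.length B (F.obj S.X₂) ≤ Module.length B (F.obj S.X₁) + Module.length B (F.obj S.X₃) ∧
          (Module.length B (F.obj S.X₂) = Module.length B (F.obj S.X₁) + Module.length B (F.obj S.X₃) ↔
            (S.map F).ShortExact) := by
  have lra : ∀ {M N : ModuleCat.{u} B} (f : M ⟶ N), Module.length B M =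
      Module.length B (LinearMap.ker f.hom) + Module.length B (LinearMap.range f.hom) := fun f =>
    (Module.length_eq_add_of_exact (LinearMap.ker f.hom).subtype (LinearMap.ker f.hom).mkQ
      (Submodule.subtype_injective _) (Submodule.mkQ_surjective _) (LinearMap.exact_subtype_mkQ _)).trans
      (by rw [f.hom.quotKerEquivRange.length_eq])
  have key : ∀ S : ShortComplex (ModuleCat.{u} A), S.ShortExact →
      Module.length B (F.obj S.X₂) = Module.length B (LinearMap.range (F.map S.f).hom) +
        Module.length B (LinearMap.range (F.map S.g).hom) := by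
    intro S hS'
    have h : LinearMap.range (F.map S.f).hom = LinearMap.ker (F.map S.g).hom :=
      (ShortComplex.moduleCat_exact_iff_range_eq_ker _).mp (hF S hS')
    rw [lra (F.map S.g), ← h]
  have le₁ : ∀ {M N : ModuleCat.{u} B} (f : M ⟶ N), Module.length B (LinearMap.range f.hom) ≤
      Module.length B M := fun f => (lra f).ge.trans' le_add_self
  have le₂ : ∀ {M N : ModuleCat.{u} B} (f : M ⟶ N), Module.length B (LinearMap.range f.hom) ≤
      Module.length B N := fun f => Module.length_le_of_injective _ (Submodule.subtype_injective _)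
  have hfin : ∀ E : ModuleCat.{u} A, Module.length A E ≠ ⊤ → Module.length B (F.obj E) ≠ ⊤ := by
    suffices ∀ (M : Type u) [AddCommGroup M] [Module A M], IsFiniteLength A M →
        Module.length B (F.obj (ModuleCat.of A M)) ≠ ⊤ from
      fun E hE => this E (Module.length_ne_top_iff.mp hE)
    intro M _ _ hM
    induction hM with
    | @of_subsingleton M _ _ _ =>
      have h0 : Limits.IsZero (F.obj (ModuleCat.of A M)) :=
        F.map_isZero (ModuleCat.isZero_of_subsingleton (ModuleCat.of A M))
      haveI := ModuleCat.subsingleton_of_isZero h0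
      rw [Module.length_eq_zero]
      exact ENat.zero_ne_top
    | @of_simple_quotient M _ _ N hs _ ih =>
      let S : ShortComplex (ModuleCat.{u} A) := ShortComplex.mk (X₁ := ModuleCat.of A N)
        (X₂ := ModuleCat.of A M) (X₃ := ModuleCat.of A (M ⧸ N)) (ModuleCat.ofHom N.subtype)
        (ModuleCat.ofHom N.mkQ)
        (ModuleCat.hom_ext (LinearMap.exact_subtype_mkQ N).linearMap_comp_eq_zero)
      have hS' : S.ShortExact :=
        { exact := (ShortComplex.moduleCat_exact_iff_range_eq_ker S).mpr (N.range_subtype.trans N.ker_mkQ.symm)
          mono_f := (ModuleCat.mono_iff_injective _).mpr N.injective_subtype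
          epi_g := (ModuleCat.epi_iff_surjective _).mpr N.mkQ_surjective }
      show Module.length B (F.obj S.X₂) ≠ ⊤
      rw [key S hS']
      exact WithTop.add_ne_top.mpr ⟨ne_top_of_le_ne_top ih (le₁ (F.map S.f)),
        ne_top_of_le_ne_top (hS S.X₃ hs) (le₂ (F.map S.g))⟩
  refine ⟨hfin, fun S hS' h₂ => ?_⟩
  haveI := hS'.mono_f
  haveI := hS'.epi_g
  have h1 : Module.length B (F.obj S.X₁) ≠ ⊤ := hfin _ (ne_top_of_le_ne_top h₂
    (Module.length_le_of_injective S.f.hom ((ModuleCat.mono_iff_injective _).mp inferInstance)))
  have h3 : Module.length B (F.obj S.X₃) ≠ ⊤ := hfin _ (ne_top_of_le_ne_top h₂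
    (Module.length_le_of_surjective S.g.hom ((ModuleCat.epi_iff_surjective _).mp inferInstance)))
  refine ⟨(key S hS').le.trans (add_le_add (le₁ _) (le₂ _)), fun h => ?_, fun h => ?_⟩
  · rw [key S hS'] at h
    have hr : Module.length B (LinearMap.range (F.map S.f).hom) ≠ ⊤ := ne_top_of_le_ne_top h1 (le₁ _)
    have hr' : Module.length B (LinearMap.range (F.map S.g).hom) ≠ ⊤ := ne_top_of_le_ne_top h3 (le₂ _)
    have e1 : Module.length B (F.obj S.X₁) = Module.length B (LinearMap.range (F.map S.f).hom) := by
      refine le_antisymm ((ENat.add_le_add_iff_right hr').mp ?_) (le₁ _)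
      exact (add_le_add le_rfl (le₂ (F.map S.g))).trans h.ge
    have e3 : Module.length B (F.obj S.X₃) = Module.length B (LinearMap.range (F.map S.g).hom) := by
      refine le_antisymm ((ENat.add_le_add_iff_left hr).mp ?_) (le₂ _)
      exact (add_le_add (le₁ (F.map S.f)) le_rfl).trans h.ge
    refine ShortComplex.ShortExact.mk' (hF S hS') ((ModuleCat.mono_iff_injective _).mpr ?_)
      ((ModuleCat.epi_iff_surjective _).mpr ?_)
    · have h0 : Module.length B (LinearMap.ker (F.map S.f).hom) = 0 := by
        have := lra (F.map S.f)
        rw [← e1] at this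
        exact nonpos_iff_eq_zero.mp ((ENat.add_le_add_iff_right h1).mp (by rw [zero_add, ← this]))
      haveI := Module.length_eq_zero_iff.mp h0
      exact LinearMap.ker_eq_bot.mp (Submodule.eq_bot_of_subsingleton (p := LinearMap.ker (F.map S.f).hom))
    · haveI : IsNoetherian B (F.obj S.X₃) :=
        (isFiniteLength_iff_isNoetherian_isArtinian.mp (Module.length_ne_top_iff.mp h3)).1
      haveI : IsArtinian B (F.obj S.X₃) :=
        (isFiniteLength_iff_isNoetherian_isArtinian.mp (Module.length_ne_top_iff.mp h3)).2
      refine LinearMap.range_eq_top.mp (by_contra fun hne => ?_)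
      exact absurd e3.le (not_le.mpr (Submodule.length_lt hne))
  · haveI := h.mono_f
    haveI := h.epi_g
    exact Module.length_eq_add_of_exact (F.map S.f).hom (F.map S.g).hom
      ((ModuleCat.mono_iff_injective _).mp h.mono_f) ((ModuleCat.epi_iff_surjective _).mp h.epi_g)
      (LinearMap.exact_iff.mpr ((ShortComplex.moduleCat_exact_iff_range_eq_ker _).mp h.exact).symm)

end Groth.Agent.S4492
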