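import Groth.Statements.S4496
import Groth.Agent.FlatCx.Main

set_option autoImplicit false
universe u
open FlatCx

namespace Groth.Agent.S4496

open CategoryTheory CategoryTheory.Limits MonoidalCategory in
/-- For the homological functor T_p(M) = H_p(P ⊗_A M) of a chain complex P of flat modules over a
commutative ring A: T_p takes injections to injections and surjections to surjections if and only if
T_p is isomorphic to the functor M ↦ N ⊗_A M for some flat A-module N (which is then isomorphic to
T_p(A)). -/
theorem result {A : Type u} [CommRing A]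
    (P : ChainComplex (ModuleCat.{u} A) ℤ) (hP : ∀ i, Module.Flat A (P.X i)) (p : ℤ) :
    ((CohIII.TFun P p).PreservesMonomorphisms ∧ (CohIII.TFun P p).PreservesEpimorphisms) ↔
      ∃ N : ModuleCat.{u} A, Module.Flat A N ∧ Nonempty (CohIII.TFun P p ≅ tensorLeft N) := by
  have hq := sub_add_cancel p 1
  constructor
  · rintro ⟨h1, h2⟩
    rw [Groth.Agent.FlatCx.preservesMono_iff_flat P p hP] at h1
    rw [Groth.Agent.FlatCx.preservesEpi_iff_flat P p hP hq] at h2
    exact ⟨ModuleCat.of A (LinearMap.ker (Groth.Agent.FlatCx.δ P p (p - 1))),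
      Groth.Agent.FlatCx.flat_ker_δ P p hq (hP _) h2 h1, ⟨Groth.Agent.FlatCx.tensorLeftIso P p hq (hP _) h2⟩⟩
  · rintro ⟨N, hN, ⟨e⟩⟩
    haveI : (MonoidalCategory.tensorLeft N).PreservesEpimorphisms := ⟨fun g hg => by
      rw [ModuleCat.epi_iff_surjective] at hg ⊢
      exact LinearMap.lTensor_surjective _ hg⟩
    haveI : (MonoidalCategory.tensorLeft N).PreservesMonomorphisms := ⟨fun g hg => by
      rw [ModuleCat.mono_iff_injective] at hg ⊢
      exact Module.Flat.lTensor_preserves_injective_linearMap _ hg⟩
    exact ⟨Functor.preservesMonomorphisms.of_iso e.symm, Functor.preservesEpimorphisms.of_iso e.symm⟩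

end Groth.Agent.S4496
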