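import Groth.Statements.S4498
import Groth.Agent.BCLib.Gamma
import Mathlib.CategoryTheory.Linear.Yoneda
-- import your own Groth.Agent.* helpers here

set_option autoImplicit false
universe u
attribute [local instance] HasDerivedCategory.standard
open Coherent

namespace Groth.Agent.S4498

open AlgebraicGeometry CategoryTheory Opposite in
/-- The global form over an affine base. Let A be a Noetherian ring, X a proper A-scheme with structure
morphism f, and F, F' coherent O_X-modules flat over Spec A. Let η be a natural transformation from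
the functor M ↦ Γ(X, f^*(M~) ⊗ F) to the functor M ↦ Γ(X, f^*(M~) ⊗ F') of the A-module M (the
published statement takes η induced by a homomorphism F → F'; this row allows any natural
transformation, which is all the argument uses). Then the kernel functor M ↦ Ker(η_M) is
corepresentable by a finitely generated A-module R: there are such an R and a natural transformation
ι : Hom_A(R, −) → Γ(X, f^*(−~) ⊗ F) with injective components whose image at every M is exactly the
kernel of η_M. (R is then unique up to unique isomorphism.) -/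
theorem result (A : Type u) [CommRing A]
    [IsNoetherianRing A] (X : Scheme.{u}) [X.Over (Spec (CommRingCat.of A))]
    [IsProper (X ↘ Spec (CommRingCat.of A))] (F F' : X.Modules) (hF : Coh.IsCoh F) (hF' : Coh.IsCoh F')
    (hfl : FlatMod.IsFlatOver (X ↘ Spec (CommRingCat.of A)) F)
    (hfl' : FlatMod.IsFlatOver (X ↘ Spec (CommRingCat.of A)) F')
    (η : CohIII.tensorAFunctor A F ⋙ CohIII.globalSectionsA A ⟶ CohIII.tensorAFunctor A F' ⋙ CohIII.globalSectionsA A) :
    ∃ (R : ModuleCat.{u} A) (ι : (linearCoyoneda A (ModuleCat.{u} A)).obj (op R) ⟶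
        CohIII.tensorAFunctor A F ⋙ CohIII.globalSectionsA A),
      Module.Finite A R ∧ (∀ M : ModuleCat.{u} A, Function.Injective (ι.app M).hom) ∧
        ∀ (M : ModuleCat.{u} A) (x : (CohIII.tensorAFunctor A F ⋙ CohIII.globalSectionsA A).obj M),
          (η.app M).hom x = 0 ↔ ∃ y, (ι.app M).hom y = x := by
  obtain ⟨Q, hQ, ⟨e⟩⟩ := Groth.Agent.BCLib.exists_gammaCorep hF hfl
  obtain ⟨Q', hQ', ⟨e'⟩⟩ := Groth.Agent.BCLib.exists_gammaCorep hF' hfl'
  let η' := e.inv ≫ η ≫ e'.hom
  let u : Q' ⟶ Q := (η'.app Q).hom (𝟙 Q)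
  have hη : ∀ (M : ModuleCat.{u} A) (v : Q ⟶ M), (η'.app M).hom v = u ≫ v := fun M v => by
    have h := ConcreteCategory.congr_hom (η'.naturality v) (𝟙 Q)
    refine Eq.trans (congrArg (η'.app M).hom (Category.id_comp v).symm) ?_
    exact h
  let R := ModuleCat.of A (Q ⧸ LinearMap.range u.hom)
  let π : Q ⟶ R := ModuleCat.ofHom (LinearMap.range u.hom).mkQ
  refine ⟨R, (linearCoyoneda A (ModuleCat.{u} A)).map π.op ≫ e.inv, ?_, fun M a b hab => ?_, fun M x => ?_⟩
  · haveI := hQ
    exact inferInstanceAs (Module.Finite A (Q ⧸ LinearMap.range u.hom))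
  · apply ModuleCat.hom_ext
    refine Submodule.linearMap_qext _ ?_
    have h : π ≫ a = π ≫ b := ((e.app M).symm.toLinearEquiv).injective hab
    exact congrArg ModuleCat.Hom.hom h
  · have hx : (η.app M).hom x = 0 ↔ u ≫ (e.hom.app M).hom x = 0 := by
      rw [← hη]
      show _ ↔ (e'.hom.app M).hom ((η.app M).hom ((e.inv.app M).hom ((e.hom.app M).hom x))) = 0
      rw [show (e.inv.app M).hom ((e.hom.app M).hom x) = x from ConcreteCategory.congr_hom (e.hom_inv_id_app M) x]
      exact ((e'.app M).toLinearEquiv.map_eq_zero_iff).symm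
    rw [hx]
    constructor
    · intro h
      refine ⟨ModuleCat.ofHom ((LinearMap.range u.hom).liftQ ((e.hom.app M).hom x).hom ?_), ?_⟩
      · rintro _ ⟨q, rfl⟩
        exact LinearMap.mem_ker.2 (ConcreteCategory.congr_hom h q)
      · show (e.inv.app M).hom (π ≫ ModuleCat.ofHom _) = x
        rw [show π ≫ ModuleCat.ofHom ((LinearMap.range u.hom).liftQ ((e.hom.app M).hom x).hom _) =
          (e.hom.app M).hom x from by apply ModuleCat.hom_ext; exact Submodule.liftQ_mkQ _ _ _]
        exact ConcreteCategory.congr_hom (e.hom_inv_id_app M) x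
    · rintro ⟨v₀, rfl⟩
      let v : R ⟶ M := v₀
      show u ≫ (e.hom.app M).hom ((e.inv.app M).hom (show Q ⟶ M from π ≫ v)) = 0
      have hev : (e.hom.app M).hom ((e.inv.app M).hom (show Q ⟶ M from π ≫ v)) = (show Q ⟶ M from π ≫ v) :=
        LinearMap.congr_fun (congrArg ModuleCat.Hom.hom (e.inv_hom_id_app M)) (show Q ⟶ M from π ≫ v)
      rw [hev]
      apply ModuleCat.hom_ext
      ext q
      show v.hom ((LinearMap.range u.hom).mkQ (u.hom q)) = 0
      rw [Submodule.mkQ_apply, (Submodule.Quotient.mk_eq_zero _).2 (LinearMap.mem_range_self u.hom q), map_zero]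

end Groth.Agent.S4498
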