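import Groth.Statements.S4500
import Groth.Agent.BCLib.Gamma
import Groth.Agent.HomFibreLib.Lift
import Groth.Agent.CurveLib.TensorDeg
import Groth.Agent.S0938
import Groth.Agent.BCLib.SteinFlat
-- import your own Groth.Agent.* helpers here

set_option backward.isDefEq.respectTransparency false
set_option linter.style.haveILetI false

set_option autoImplicit false
universe u
attribute [local instance] HasDerivedCategory.standard
open Coherent

namespace Groth.Agent.S4500

section
open CategoryTheory CategoryTheory.Limits AlgebraicGeometry Opposite TensorProduct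
open Groth.Agent.DCohLib Groth.Agent.PullbackMod Groth.Agent.StalkHomLib Groth.Agent.LocFreeHomLib
noncomputable section

variable {A : Type u} [CommRing A] {X : Scheme.{u}} [X.Over (Spec (CommRingCat.of A))]

/-- Sections as morphisms out of the structure module. -/
def sectHom (N : X.Modules) : (Coh.structureModule X ⟶ N) ≃+ Γ(N, ⊤) where
  toFun ψ := S0938.secOf ψ
  invFun t := FactorOne.ofSection N t
  left_inv ψ := (S0938.eq_ofSection ψ).symm
  right_inv t := S0938.secOf_ofSection N t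
  map_add' _ _ := rfl

/-- The unit isomorphism. -/
def unitIsoLeft (E : X.Modules) : ((DCoh.tensorBi (X := X)).flip.obj E).obj (Coh.structureModule X) ≅ E :=
  ModTensor.tensComm X.sheaf (Coh.structureModule X) E ≪≫ (ModTensor.tensorUnitRight X.sheaf).app E

variable (E : X.Modules) [ModSite.HasSheafHom (O := X.sheaf) E]

/-- Homomorphisms out of `E` as sections of the internal Hom. -/
def homEquivΓ (N : X.Modules) : (E ⟶ N) ≃+ Γ((hF E).obj N, ⊤) :=
  letI adj := ModSite.sheafHomAdj (O := X.sheaf) E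
  haveI : ((DCoh.tensorBi (X := X)).flip.obj E).Additive := ModTensor.additive_tensorBi_flip (O := X.sheaf) E
  haveI : (hF E).Additive := (ModSite.sheafHomAdj (O := X.sheaf) E).right_adjoint_additive
  { toFun := fun φ => sectHom _ (adj.homEquiv _ _ ((unitIsoLeft E).hom ≫ φ))
    invFun := fun t => (unitIsoLeft E).inv ≫ (adj.homEquiv _ _).symm ((sectHom _).symm t)
    left_inv := fun φ => by simp
    right_inv := fun t => by simp
    map_add' := fun φ ψ => by
      rw [Preadditive.comp_add]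
      refine (congrArg (sectHom _) ((adj.homAddEquiv _ _).map_add _ _)).trans ((sectHom _).map_add _ _) }

/-- Global sections as sections. -/
def gam (N : X.Modules) : Γ(N, ⊤) ≃+ (CohIII.globalSectionsA A).obj N :=
  { toFun := fun t => t
    invFun := fun t => t
    left_inv := fun _ => rfl
    right_inv := fun _ => rfl
    map_add' := fun _ _ => rfl }

/-- Homomorphisms out of `E`, functorially. -/
def homIsoΓ : (preadditiveCoyoneda.obj (op E)) ≅
    hF E ⋙ CohIII.globalSectionsA A ⋙ forget₂ (ModuleCat.{u} A) AddCommGrpCat.{u} :=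
  NatIso.ofComponents (fun N => ((homEquivΓ E N).trans (gam (A := A) _)).toAddCommGrpIso)
    fun {N N'} g => by
      ext φ
      show sectHom _ ((ModSite.sheafHomAdj (O := X.sheaf) E).homEquiv _ _ ((unitIsoLeft E).hom ≫ φ ≫ g)) =
        ((hF E).map g).app ⊤ (sectHom _ ((ModSite.sheafHomAdj (O := X.sheaf) E).homEquiv _ _ ((unitIsoLeft E).hom ≫ φ)))
      rw [← Category.assoc, Adjunction.homEquiv_naturality_right]
      rfl

variable {S : Scheme.{u}}

theorem isFlatOverAt_tmod (f : X ⟶ S) {F P : X.Modules} (x : X) (hF : FlatMod.IsFlatOverAt f F x)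
    [Module.Free (X.presheaf.stalk x) (P.presheaf.stalk x)] :
    FlatMod.IsFlatOverAt f (tmod F P) x := by
  letI := (f.stalkMap x).hom.toAlgebra
  letI := FlatMod.moduleStalkOver f F x
  letI := FlatMod.moduleStalkOver f (tmod F P) x
  haveI : IsScalarTower (S.presheaf.stalk (f x)) (X.presheaf.stalk x) (F.presheaf.stalk x) :=
    .of_algebraMap_smul fun _ _ => rfl
  haveI : IsScalarTower (S.presheaf.stalk (f x)) (X.presheaf.stalk x) ((tmod F P).presheaf.stalk x) :=
    .of_algebraMap_smul fun _ _ => rfl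
  haveI : Module.Flat (S.presheaf.stalk (f x)) (F.presheaf.stalk x) := hF
  let b := Module.Free.chooseBasis (X.presheaf.stalk x) (P.presheaf.stalk x)
  let e : (tmod F P).presheaf.stalk x ≃ₗ[X.presheaf.stalk x] (Module.Free.ChooseBasisIndex (X.presheaf.stalk x)
      (P.presheaf.stalk x) →₀ F.presheaf.stalk x) :=
    (stalkTensor x F P).symm ≪≫ₗ TensorProduct.congr (LinearEquiv.refl _ _) b.repr ≪≫ₗ
      TensorProduct.finsuppScalarRight (X.presheaf.stalk x) (X.presheaf.stalk x) _ _
  show Module.Flat (S.presheaf.stalk (f x)) ((tmod F P).presheaf.stalk x)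
  classical
  exact Module.Flat.of_linearEquiv ((e.restrictScalars (S.presheaf.stalk (f x))).trans
    (finsuppLEquivDirectSum (S.presheaf.stalk (f x)) (F.presheaf.stalk x) _))

theorem isFlatOver_tmod_dual (f : X ⟶ S) {F : X.Modules} (hF : FlatMod.IsFlatOver f F)
    (hE : FlatMod.IsFinLocFree E) : FlatMod.IsFlatOver f (tmod F (dualE E)) := fun x => by
  obtain ⟨hfree, hfin⟩ := free_finite_stalk_of_flf hE x
  obtain ⟨h1, h2⟩ := free_finite_stalk_of_flf (BCLib.isFinLocFree_structureModule X) x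
  haveI : Module.Free (X.presheaf.stalk x) (E.presheaf.stalk x →ₗ[X.presheaf.stalk x] (Coh.structureModule X).presheaf.stalk x) :=
    Module.Free.linearMap _ _ _ _
  haveI : Module.Free (X.presheaf.stalk x) ((dualE E).presheaf.stalk x) :=
    Module.Free.of_equiv (LinearEquiv.ofBijective _ (theta_bijective_flf E hE _ x)).symm
  exact isFlatOverAt_tmod f x (hF x)

variable [IsNoetherianRing A] [IsProper (X ↘ Spec (CommRingCat.of A))] {F : X.Modules}

/-- `M ↦ Hom(E, f^* M~ ⊗ F)` is corepresentable for finite locally free `E`. -/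
theorem exists_corep_flf (hF : Coh.IsCoh F) (hfl : FlatMod.IsFlatOver (X ↘ Spec (CommRingCat.of A)) F)
    (hE : FlatMod.IsFinLocFree E) :
    ∃ Q : ModuleCat.{u} A, Module.Finite A Q ∧
      Nonempty (CohIII.tensorAFunctor A F ⋙ preadditiveCoyoneda.obj (op E) ≅
        (linearCoyoneda A (ModuleCat.{u} A)).obj (op Q) ⋙ forget₂ (ModuleCat.{u} A) AddCommGrpCat.{u}) := by
  haveI : IsLocallyNoetherian (Spec (CommRingCat.of A)) := inferInstance
  haveI : IsLocallyNoetherian X := LocallyOfFiniteType.isLocallyNoetherian (X ↘ Spec (CommRingCat.of A))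
  have hd : Coh.IsCoh (dualE E) := HomFibreLib.isCoh_hF_flf hE (BCLib.isFinLocFree_structureModule X)
  obtain ⟨Q, hQ, ⟨e⟩⟩ := BCLib.exists_gammaCorep (CurveLib.isCoh_tmod hF hd)
    (isFlatOver_tmod_dual E (X ↘ Spec (CommRingCat.of A)) hfl hE)
  let t : CohIII.tensorAFunctor A F ⋙ StalkHomLib.hF E ≅ CohIII.tensorAFunctor A (tmod F (dualE E)) :=
    Functor.isoWhiskerLeft (CohIII.tensorAFunctor A F) (tDualIso E hE).symm ≪≫
      Functor.isoWhiskerLeft (tilde.functor (CommRingCat.of A))
        (Functor.isoWhiskerLeft (Scheme.Modules.pullback (X ↘ Spec (CommRingCat.of A)))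
          (ModTensor.tensorAssoc X.sheaf F (dualE E)))
  exact ⟨Q, hQ, ⟨Functor.isoWhiskerLeft (CohIII.tensorAFunctor A F) (homIsoΓ (A := A) E) ≪≫
    Functor.isoWhiskerRight (Functor.isoWhiskerRight t (CohIII.globalSectionsA A) ≪≫ e)
      (forget₂ (ModuleCat.{u} A) AddCommGrpCat.{u})⟩⟩

end
end

open AlgebraicGeometry CategoryTheory CategoryTheory.Limits Opposite in
/-- The global form over an affine base. Let A be a Noetherian ring, X a proper A-scheme with structure
morphism f, F a coherent O_X-module flat over Spec A, and G an O_X-module admitting a presentation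
E₁ → E₀ → G → 0 with E₀, E₁ finite locally free O_X-modules. Then there are a finitely generated
A-module N and an isomorphism of functors of the A-module M between Hom_{O_X}(G, f^*(M~) ⊗ F) and
Hom_A(N, M) (as abelian-group-valued functors). (N is then unique up to unique isomorphism.) -/
theorem result (A : Type u) [CommRing A] [IsNoetherianRing A]
    (X : Scheme.{u}) [X.Over (Spec (CommRingCat.of A))] [IsProper (X ↘ Spec (CommRingCat.of A))]
    (F : X.Modules) (hF : Coh.IsCoh F) (hfl : FlatMod.IsFlatOver (X ↘ Spec (CommRingCat.of A)) F)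
    (G E₀ E₁ : X.Modules) (h₀ : FlatMod.IsFinLocFree E₀) (h₁ : FlatMod.IsFinLocFree E₁)
    (v : E₁ ⟶ E₀) (π : E₀ ⟶ G) [Epi π] (w : v ≫ π = 0) (hex : (ShortComplex.mk v π w).Exact) :
    ∃ N : ModuleCat.{u} A, Module.Finite A N ∧
      Nonempty (CohIII.tensorAFunctor A F ⋙ preadditiveCoyoneda.obj (op G) ≅
        (linearCoyoneda A (ModuleCat.{u} A)).obj (op N) ⋙ forget₂ (ModuleCat.{u} A) AddCommGrpCat.{u}) := by
  classical
  haveI := fun M : X.Modules => ModTensor.hasSheafHom (O := X.sheaf) M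
  obtain ⟨Q₀, hQ₀, ⟨e₀⟩⟩ := exists_corep_flf E₀ hF hfl h₀
  obtain ⟨Q₁, hQ₁, ⟨e₁⟩⟩ := exists_corep_flf E₁ hF hfl h₁
  let T := CohIII.tensorAFunctor A F
  let η := e₀.inv ≫ Functor.whiskerLeft T (preadditiveCoyoneda.map v.op) ≫ e₁.hom
  let u₀ : Q₁ ⟶ Q₀ := (η.app Q₀).hom (𝟙 Q₀)
  have hη : ∀ (M : ModuleCat.{u} A) (w : Q₀ ⟶ M), (η.app M).hom w = u₀ ≫ w := fun M w => by
    have h := ConcreteCategory.congr_hom (η.naturality w) (𝟙 Q₀)
    refine Eq.trans (congrArg (η.app M).hom (Category.id_comp w).symm) ?_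
    exact h
  let R := ModuleCat.of A (Q₀ ⧸ LinearMap.range u₀.hom)
  let p : Q₀ ⟶ R := ModuleCat.ofHom (LinearMap.range u₀.hom).mkQ
  haveI : Epi p := (ModuleCat.epi_iff_surjective p).2 (Submodule.mkQ_surjective _)
  haveI : Module.Finite A Q₀ := hQ₀
  have hup : u₀ ≫ p = 0 := by
    apply ModuleCat.hom_ext
    ext q
    exact (Submodule.Quotient.mk_eq_zero _).2 (LinearMap.mem_range_self u₀.hom q)
  have hlift : ∀ (M : ModuleCat.{u} A) (w : Q₀ ⟶ M), u₀ ≫ w = 0 → ∃ w' : R ⟶ M, p ≫ w' = w := fun M w hw =>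
    ⟨ModuleCat.ofHom ((LinearMap.range u₀.hom).liftQ w.hom (by
      rintro _ ⟨q, rfl⟩
      exact LinearMap.mem_ker.2 (ConcreteCategory.congr_hom hw q))),
      by apply ModuleCat.hom_ext; exact Submodule.liftQ_mkQ _ _ _⟩
  have hv : ∀ (M : ModuleCat.{u} A) (φ : E₀ ⟶ T.obj M), v ≫ φ = 0 ↔ u₀ ≫ (e₀.hom.app M).hom φ = 0 := by
    intro M φ
    rw [← hη]
    show _ ↔ (e₁.hom.app M).hom (v ≫ (e₀.inv.app M).hom ((e₀.hom.app M).hom φ)) = 0
    rw [show (e₀.inv.app M).hom ((e₀.hom.app M).hom φ) = φ from ConcreteCategory.congr_hom (e₀.hom_inv_id_app M) φ]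
    refine ⟨fun h => by rw [h]; exact map_zero _, fun h => ?_⟩
    refine ((DFunLike.congr_fun (congrArg AddCommGrpCat.Hom.hom (e₁.hom_inv_id_app M))
      (show E₁ ⟶ T.obj M from v ≫ φ)).symm).trans ?_
    show (e₁.inv.app M).hom ((e₁.hom.app M).hom (v ≫ φ)) = 0
    rw [h]
    exact map_zero _
  choose L hL using fun (M : ModuleCat.{u} A) (ψ : G ⟶ T.obj M) =>
    hlift M ((e₀.hom.app M).hom (π ≫ ψ)) ((hv M (π ≫ ψ)).1 (by rw [← Category.assoc, w, zero_comp]))
  refine ⟨R, inferInstanceAs (Module.Finite A (Q₀ ⧸ LinearMap.range u₀.hom)), ?_⟩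
  have hc : ∀ M, ∃ j : (G ⟶ T.obj M) ≃+ (R ⟶ M), ∀ ψ, j ψ = L M ψ := fun M => by
    refine ⟨AddEquiv.ofBijective (AddMonoidHom.mk' (L M) ?_) ⟨?_, ?_⟩, fun ψ => rfl⟩
    · intro a b
      refine (cancel_epi p).1 ((hL M _).trans ?_)
      rw [Preadditive.comp_add, Preadditive.comp_add, hL, hL]
      exact map_add _ _ _
    · intro a b hab
      have h : (e₀.hom.app M).hom (π ≫ a) = (e₀.hom.app M).hom (π ≫ b) := by
        rw [← hL, ← hL]
        exact congrArg (p ≫ ·) hab
      exact (cancel_epi π).1 ((AddCommGrpCat.mono_iff_injective _).1 inferInstance h)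
    · intro w'
      let φ : E₀ ⟶ T.obj M := (e₀.inv.app M).hom (p ≫ w')
      have hφ : (e₀.hom.app M).hom φ = p ≫ w' := DFunLike.congr_fun (congrArg AddCommGrpCat.Hom.hom (e₀.inv_hom_id_app M)) (show Q₀ ⟶ M from p ≫ w')
      have h0 : v ≫ φ = 0 := (hv M φ).2 (by rw [hφ, ← Category.assoc, hup, zero_comp])
      refine ⟨hex.desc φ h0, (cancel_epi p).1 ((hL M _).trans ?_)⟩
      rw [show π ≫ hex.desc φ h0 = φ from hex.g_desc φ h0]
      exact hφ
  choose j hj using hc
  refine ⟨NatIso.ofComponents (fun M => AddEquiv.toAddCommGrpIso (j M)) ?_⟩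
  intro M M' g
  ext ψ
  let ψ' : G ⟶ T.obj M := ψ
  show j M' (ψ' ≫ T.map g) = j M ψ' ≫ g
  rw [hj, hj]
  refine (cancel_epi p).1 ((hL M' _).trans ?_)
  rw [← Category.assoc p, hL, ← Category.assoc]
  exact DFunLike.congr_fun (congrArg AddCommGrpCat.Hom.hom (e₀.hom.naturality g)) (show E₀ ⟶ T.obj M from π ≫ ψ')

end Groth.Agent.S4500
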