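import Groth.Statements.S4511
import Groth.Agent.CohenPresLib.Basic
import Groth.Agent.MvPSTrunc.Basic
import Groth.Agent.S2452
import Groth.Agent.S0579
import Groth.Agent.FieldExtLib.Separable
-- import your own Groth.Agent.* helpers here

set_option autoImplicit false
universe u
open EGA41

namespace Groth.Agent.S4511

open IsLocalRing in
/-- Let A be a complete Noetherian local ring whose residue field has characteristic p (p = 0 allowed).
The following are equivalent: (a) A contains a field, i.e. there is a ring homomorphism from a field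
into A; (b) p·1 = 0 in A; (c) A is isomorphic to a quotient of a power series ring K[[T_1, …, T_n]]
over a field K. Moreover, when they hold, the surjection in (c) may be chosen with kernel contained
in the square of the maximal ideal of K[[T_1, …, T_n]]. -/
theorem result (A : Type u) [CommRing A] [IsLocalRing A] [IsNoetherianRing A]
    [IsAdicComplete (maximalIdeal A) A] (p : ℕ) [CharP (ResidueField A) p] :
    [∃ (K : Type u) (_ : Field K), Nonempty (K →+* A),
     (p : A) = 0,
     ∃ (K : Type u) (_ : Field K) (n : ℕ) (f : MvPowerSeries (Fin n) K →+* A), Function.Surjective f].TFAE ∧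
    ((p : A) = 0 → ∃ (K : Type u) (_ : Field K) (n : ℕ) (f : MvPowerSeries (Fin n) K →+* A),
      Function.Surjective f ∧ RingHom.ker f ≤ maximalIdeal (MvPowerSeries (Fin n) K) ^ 2) := by
  classical
  have deg_one : ∀ {n : ℕ} (d : Fin n →₀ ℕ), Finsupp.degree d = 1 → ∃ i, d = Finsupp.single i 1 := by
    intro n d hd
    obtain ⟨i, hi⟩ : ∃ i, d i ≠ 0 := by
      by_contra hno; push Not at hno
      rw [show d = 0 from Finsupp.ext hno] at hd; simp at hd
    have hle : Finsupp.single i 1 ≤ d := Finsupp.single_le_iff.mpr (Nat.one_le_iff_ne_zero.mpr hi)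
    have h2 : Finsupp.degree (d - Finsupp.single i 1) + 1 = Finsupp.degree d := by
      conv_rhs => rw [← tsub_add_cancel_of_le hle, map_add, Finsupp.degree_single]
    refine ⟨i, ?_⟩
    have h3 : d - Finsupp.single i 1 = 0 := (Finsupp.degree_eq_zero_iff _).mp (by omega)
    exact le_antisymm (tsub_eq_zero_iff_le.mp h3) hle
  have key : (p : A) = 0 → ∃ (K : Type u) (_ : Field K) (n : ℕ) (f : MvPowerSeries (Fin n) K →+* A),
      Function.Surjective f ∧ RingHom.ker f ≤ maximalIdeal (MvPowerSeries (Fin n) K) ^ 2 := by
    intro hp0
    obtain ⟨σ, hσ⟩ : ∃ σ : ResidueField A →+* A, ∀ z, residue A (σ z) = z := by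
      rcases CharP.char_is_prime_or_zero (ResidueField A) p with hp | rfl
      · haveI := Fact.mk hp
        haveI : CharP A p := (CharP.charP_iff_prime_eq_zero hp).2 hp0
        haveI : PerfectField (ULift.{u} (ZMod p)) := PerfectField.ofFinite
        letI : Algebra (ULift.{u} (ZMod p)) A :=
          ((ZMod.castHom (dvd_refl p) A).comp (ULift.ringEquiv (R := ZMod p)).toRingHom).toAlgebra
        haveI : Algebra.IsGeometricallyReduced (ULift.{u} (ZMod p)) (ResidueField A) :=
          FieldExtLib.isGeometricallyReduced_of_perfectField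
        obtain ⟨σ, hσ⟩ := S2452.result (k := ULift.{u} (ZMod p)) (A := A)
        exact ⟨σ.toRingHom, hσ⟩
      · haveI : CharZero (ResidueField A) := CharP.charP_to_charZero _
        obtain ⟨s, hs⟩ := S0579.result A
        exact ⟨s, fun z => RingHom.congr_fun hs z⟩
    letI : Algebra (ResidueField A) A := σ.toAlgebra
    let b := Module.finBasis (ResidueField A) (CotangentSpace A)
    set n := Module.finrank (ResidueField A) (CotangentSpace A)
    choose x hx using fun i => (maximalIdeal A).toCotangent_surjective (b i)
    have hspan : Submodule.span A (Set.range x) = ⊤ := by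
      have h := (CotangentSpace.span_image_eq_top_iff (R := A) (s := Set.range x)).mp (by
        rw [← Set.range_comp]
        convert b.span_eq
        exact funext hx)
      exact h
    obtain ⟨g, hg⟩ := ArtFunLib.ps_exists_lift (Λ := ResidueField A) (maximalIdeal A) (fun i : Fin n => (x i : A))
      (fun i => (x i).2)
    let f : MvPowerSeries (Fin n) (ResidueField A) →+* A := g.toRingHom
    haveI : IsAdicComplete (maximalIdeal (MvPowerSeries (Fin n) (ResidueField A))) (MvPowerSeries (Fin n) (ResidueField A)) := by
      obtain ⟨-, -, -, h⟩ := ArtFunLib.exists_psCRing (k := ResidueField A) (Λ := ResidueField A)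
        (fun z => ⟨z, rfl⟩) n
      exact h
    have hmax : maximalIdeal (MvPowerSeries (Fin n) (ResidueField A)) =
        RingHom.ker (MvPowerSeries.constantCoeff : MvPowerSeries (Fin n) (ResidueField A) →+* ResidueField A) := by
      refine (IsLocalRing.eq_maximalIdeal ?_).symm
      exact RingHom.ker_isMaximal_of_surjective _ (fun z => ⟨MvPowerSeries.C z, MvPowerSeries.constantCoeff_C z⟩)
    have hres : ∀ c : ResidueField A, residue A (f (MvPowerSeries.C c)) = c := fun c =>
      (congrArg (residue A) (g.commutes c)).trans (hσ c)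
    have hfm : (maximalIdeal (MvPowerSeries (Fin n) (ResidueField A))).map f ≤ maximalIdeal A := by
      rw [Ideal.map_le_iff_le_comap]
      intro w hw
      rw [hmax, RingHom.mem_ker] at hw
      rw [Ideal.mem_comap, ← residue_eq_zero_iff]
      by_contra hne
      have hu : IsUnit (w - MvPowerSeries.C (residue A (f w))) := by
        rw [MvPowerSeries.isUnit_iff_constantCoeff, map_sub, hw, MvPowerSeries.constantCoeff_C, zero_sub, isUnit_iff_ne_zero]
        exact neg_ne_zero.mpr hne
      have h0 := (hu.map f).map (residue A)
      rw [map_sub, map_sub, hres, sub_self] at h0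
      exact not_isUnit_zero h0
    have hdec : ∀ h : MvPowerSeries (Fin n) (ResidueField A), ∃ r ∈ maximalIdeal A ^ 2,
        f h = σ (MvPowerSeries.coeff 0 h) + ∑ i, σ (MvPowerSeries.coeff (Finsupp.single i 1) h) * (x i : A) + r := by
      intro h
      let L : MvPowerSeries (Fin n) (ResidueField A) := MvPowerSeries.C (MvPowerSeries.coeff 0 h) +
        ∑ i, MvPowerSeries.C (MvPowerSeries.coeff (Finsupp.single i 1) h) * MvPowerSeries.X i
      have hrem : h - L ∈ maximalIdeal (MvPowerSeries (Fin n) (ResidueField A)) ^ 2 := by
        rw [hmax]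
        refine MvPSTrunc.mem_pow_ker_constantCoeff 2 _ fun d hd => ?_
        rcases Nat.lt_or_ge (Finsupp.degree d) 1 with h0 | h1
        · obtain rfl : d = 0 := (Finsupp.degree_eq_zero_iff d).mp (by omega)
          simp [L, MvPowerSeries.coeff_C, MvPowerSeries.coeff_C_mul, MvPowerSeries.coeff_X]
        · obtain ⟨i, rfl⟩ := deg_one d (by omega)
          simp only [L, map_sub, map_add, map_sum, MvPowerSeries.coeff_C, MvPowerSeries.coeff_C_mul,
            MvPowerSeries.coeff_X]
          rw [if_neg (by simp), zero_add, Finset.sum_eq_single i]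
          · simp
          · intro j _ hj
            rw [if_neg (fun hh => hj ((Finsupp.single_left_inj one_ne_zero).mp hh).symm), mul_zero]
          · exact fun hh => absurd (Finset.mem_univ i) hh
      refine ⟨f (h - L), ?_, ?_⟩
      · have h1 := Ideal.mem_map_of_mem f hrem
        rw [Ideal.map_pow] at h1
        refine Ideal.pow_right_mono ?_ 2 h1
        exact hfm
      · simp only [L, f, map_sub, map_add, map_sum, map_mul]
        have hC : ∀ c : ResidueField A, g (MvPowerSeries.C c) = σ c := fun c => g.commutes c
        simp only [AlgHom.toRingHom_eq_coe, RingHom.coe_coe, hg, hC]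
        ring
    refine ⟨ResidueField A, inferInstance, n, f, ?_, fun h hh => ?_⟩
    · refine CohenRingLib.surjective_of_residue f (le_antisymm hfm ?_) (fun c => ⟨MvPowerSeries.C c, hres c⟩)
      intro z hz
      have hz' : (⟨z, hz⟩ : maximalIdeal A) ∈ Submodule.span A (Set.range x) := by rw [hspan]; trivial
      obtain ⟨c, hc⟩ := (Submodule.mem_span_range_iff_exists_fun A).mp hz'
      have hz2 : z = ∑ i, c i * (x i : A) := by
        have h3 := congrArg Subtype.val hc
        simp only [Submodule.coe_sum, Submodule.coe_smul, smul_eq_mul] at h3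
        exact h3.symm
      rw [hz2]
      refine Ideal.sum_mem _ fun i _ => Ideal.mul_mem_left _ _ ?_
      rw [← hg i]
      refine Ideal.mem_map_of_mem f ?_
      rw [hmax, RingHom.mem_ker, MvPowerSeries.constantCoeff_X]
    · obtain ⟨r, hr, he⟩ := hdec h
      rw [RingHom.mem_ker] at hh
      rw [hh] at he
      have hrm : r ∈ maximalIdeal A := Ideal.pow_le_self two_ne_zero hr
      have hc0 : MvPowerSeries.coeff 0 h = 0 := by
        have h4 := congrArg (residue A) he
        simp only [map_zero, map_add, map_sum, map_mul, hσ, (residue_eq_zero_iff _).mpr (x _).2,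
          (residue_eq_zero_iff _).mpr hrm, mul_zero, Finset.sum_const_zero, add_zero] at h4
        exact h4.symm
      rw [hc0, map_zero, zero_add] at he
      have hsum : ∑ i, σ (MvPowerSeries.coeff (Finsupp.single i 1) h) • x i = (⟨-r, neg_mem hrm⟩ : maximalIdeal A) := by
        refine Subtype.ext ?_
        simp only [Submodule.coe_sum, Submodule.coe_smul, smul_eq_mul]
        linear_combination -he
      have hcot := (congrArg (maximalIdeal A).toCotangent hsum).trans
        ((Ideal.toCotangent_eq_zero (maximalIdeal A) (⟨-r, neg_mem hrm⟩ : maximalIdeal A)).mpr (neg_mem hr))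
      rw [map_sum] at hcot
      have hli := Fintype.linearIndependent_iff.mp b.linearIndependent (fun i => MvPowerSeries.coeff (Finsupp.single i 1) h) (by
        refine Eq.trans (Finset.sum_congr rfl fun i _ => ?_) hcot
        rw [map_smul, hx i, ← algebraMap_smul (ResidueField A) (σ _) (b i)]
        congr 1
        exact (hσ _).symm)
      rw [hmax]
      refine MvPSTrunc.mem_pow_ker_constantCoeff 2 _ fun d hd => ?_
      rcases eq_or_ne d 0 with rfl | hd0
      · exact hc0
      · obtain ⟨i, rfl⟩ := deg_one d (by
          have : Finsupp.degree d ≠ 0 := fun h0 => hd0 ((Finsupp.degree_eq_zero_iff d).mp h0)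
          omega)
        exact hli i
  refine ⟨?_, key⟩
  tfae_have 1 → 2 := by
    rintro ⟨K, _, ⟨φ⟩⟩
    haveI : CharP K p := ((residue A).comp φ).charP_iff ((residue A).comp φ).injective p |>.mpr inferInstance
    rw [← map_natCast φ, CharP.cast_eq_zero, map_zero]
  tfae_have 2 → 3 := fun h => by
    obtain ⟨K, hK, n, f, hf, -⟩ := key h
    exact ⟨K, hK, n, f, hf⟩
  tfae_have 3 → 1 := by
    rintro ⟨K, _, n, f, -⟩
    exact ⟨K, inferInstance, ⟨f.comp MvPowerSeries.C⟩⟩
  tfae_finish

end Groth.Agent.S4511
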