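import Groth.Statements.S4513
import Groth.Agent.FieldExtLib.Extend
-- import your own Groth.Agent.* helpers here

set_option autoImplicit false
universe u
open EGA41

namespace Groth.Agent.S4513

open IsLocalRing in
/-- Let A be a Noetherian local ring and k a field mapping to A such that A is formally smooth over k
for the adic topology of its maximal ideal (k discrete). Then every field K with k → K → A
(compatible ring maps) is a separable extension of k, i.e. K is geometrically reduced over k. -/
theorem result {k A K : Type u} [Field k] [CommRing A]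
    [IsLocalRing A] [IsNoetherianRing A] [Algebra k A] (h : CAlgX.IsAdicFormallySmooth k A (maximalIdeal A))
    [Field K] [Algebra k K] [Algebra K A] [IsScalarTower k K A] :
    Algebra.IsGeometricallyReduced k K := by
  classical
  rw [Groth.Agent.FieldExtLib.imperfection_eq_bot_iff, Groth.Agent.FieldExtLib.imperfection_eq_bot_iff_derivation]
  intro D
  let e : K →+* (ResidueField A) := (residue A).comp (algebraMap K A)
  let f : k →+* TrivSqZeroExt (ResidueField A) (ResidueField A) :=
    { toFun := fun c => TrivSqZeroExt.inl (algebraMap k (ResidueField A) c) + TrivSqZeroExt.inr (e (D c))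
      map_one' := TrivSqZeroExt.ext (by simp) (by simp)
      map_mul' := fun a b => TrivSqZeroExt.ext (by simp) (by
        simp only [TrivSqZeroExt.snd_mul, TrivSqZeroExt.fst_add, TrivSqZeroExt.fst_inl, TrivSqZeroExt.fst_inr,
          TrivSqZeroExt.snd_add, TrivSqZeroExt.snd_inl, TrivSqZeroExt.snd_inr, Derivation.leibniz, Algebra.smul_def,
          op_smul_eq_smul, map_add, map_mul, add_zero, zero_add]
        have hek : ∀ c : k, e (algebraMap k K c) = algebraMap k (ResidueField A) c := fun c => by
          show residue A (algebraMap K A (algebraMap k K c)) = residue A (algebraMap k A c)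
          rw [← IsScalarTower.algebraMap_apply]
        simp [hek, mul_comm])
      map_zero' := TrivSqZeroExt.ext (by simp) (by simp)
      map_add' := fun a b => TrivSqZeroExt.ext (by simp) (by simp) }
  letI : Algebra k (TrivSqZeroExt (ResidueField A) (ResidueField A)) := f.toAlgebra
  let π : TrivSqZeroExt (ResidueField A) (ResidueField A) →ₐ[k] (ResidueField A) :=
    { (TrivSqZeroExt.fstHom (ResidueField A) (ResidueField A) (ResidueField A)).toRingHom with
      commutes' := fun c => by
        show (TrivSqZeroExt.inl (algebraMap k (ResidueField A) c) + TrivSqZeroExt.inr (e (D c))).fst = _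
        simp }
  have hπ : Function.Surjective π := fun z => ⟨TrivSqZeroExt.inl z, rfl⟩
  have hJ : RingHom.ker π ^ 2 = ⊥ := by
    rw [pow_two, eq_bot_iff, Ideal.mul_le]
    intro r hr z hz
    have h1 : r.fst = 0 := hr
    have h2 : z.fst = 0 := hz
    rw [Submodule.mem_bot]
    exact TrivSqZeroExt.ext (by simp [h1]) (by simp [h1, h2])
  let q := Ideal.quotientKerAlgEquivOfSurjective (f := π) hπ
  obtain ⟨χ, hχ⟩ := h _ (RingHom.ker π) hJ (q.symm.toAlgHom.comp (IsScalarTower.toAlgHom k A (ResidueField A))) ⟨1, fun x hx => by
    show q.symm (residue A x) = 0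
    rw [(residue_eq_zero_iff x).2 (by rwa [pow_one] at hx), map_zero]⟩
  have hfst : ∀ a, (χ a).fst = residue A a := by
    intro a
    have h1 : q (Ideal.Quotient.mk _ (χ a)) = q (q.symm (residue A a)) := congrArg q (AlgHom.congr_fun hχ a)
    rw [AlgEquiv.apply_symm_apply] at h1
    exact h1
  obtain ⟨r, hr⟩ := LinearMap.exists_leftInverse_of_injective (Algebra.linearMap K (ResidueField A))
    (LinearMap.ker_eq_bot.2 (algebraMap K (ResidueField A)).injective)
  let d : K →ₗ[ℤ] K :=
    (AddMonoidHom.mk' (fun x => r ((χ (algebraMap K A x)).snd)) fun a b => by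
      rw [map_add, map_add, TrivSqZeroExt.snd_add, map_add]).toIntLinearMap
  refine ⟨Derivation.mk' d fun a b => ?_, fun a => ?_⟩
  · show r ((χ (algebraMap K A (a * b))).snd) = a • r ((χ (algebraMap K A b)).snd) + b • r ((χ (algebraMap K A a)).snd)
    rw [map_mul, map_mul, TrivSqZeroExt.snd_mul, hfst, hfst, op_smul_eq_smul, ← map_smul, ← map_smul, ← map_add,
      ← algebraMap_smul (ResidueField A) a, ← algebraMap_smul (ResidueField A) b]
    rfl
  · show r ((χ (algebraMap K A (algebraMap k K a))).snd) = D a
    rw [← IsScalarTower.algebraMap_apply, χ.commutes]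
    show r ((f a).snd) = D a
    simp only [f, RingHom.coe_mk, MonoidHom.coe_mk, OneHom.coe_mk, TrivSqZeroExt.snd_add, TrivSqZeroExt.snd_inl,
      TrivSqZeroExt.snd_inr, zero_add]
    exact LinearMap.congr_fun hr (D a)

end Groth.Agent.S4513
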