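import Mathlib
import Groth.Agent.CohenPresLib.FlatRegular
import Groth.Statements.S4514

set_option autoImplicit false
universe u
open EGA41

namespace Groth.Agent.S4514

open IsLocalRing TensorProduct in
/-- Let A be a Noetherian local ring with residue field k, and let B₀ be a k-algebra which is a complete
regular local ring. Then there exist a complete Noetherian local ring B and a local homomorphism A →
B making B a flat A-module, such that B₀ is k-isomorphic to k ⊗_A B = B/𝔪B. -/
theorem result {A : Type u} [CommRing A] [IsLocalRing A] [IsNoetherianRing A]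
    (B₀ : Type u) [CommRing B₀] [IsRegularLocalRing B₀] [IsAdicComplete (maximalIdeal B₀) B₀]
    [Algebra (ResidueField A) B₀] :
    ∃ (B : Type u) (_ : CommRing B) (_ : IsLocalRing B) (_ : IsNoetherianRing B) (_ : Algebra A B)
      (_ : IsLocalHom (algebraMap A B)),
      IsAdicComplete (maximalIdeal B) B ∧ Module.Flat A B ∧
        Nonempty (ResidueField A ⊗[A] B ≃ₐ[ResidueField A] B₀) := by
  obtain ⟨C, _, _, _, hnoe, hcomp, hloc, hflat, π, hπ, hπa, hker⟩ :=
    Groth.Agent.CohenPresLib.exists_flat_lift_regular (A := A) (B := B₀)
  exact ⟨C, inferInstance, inferInstance, hnoe, inferInstance, hloc, hcomp, hflat,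
    Groth.Agent.CohenPresLib.fibre_equiv_of_ker π hπ hπa hker⟩

end Groth.Agent.S4514
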