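import Mathlib
import Groth.Statements.S4515

set_option autoImplicit false
universe u
open EGA41

namespace Groth.Agent.S4515

/-- Let A be a ring, J an ideal of A, and M, N two A-modules which are Hausdorff for the J-adic
topology; suppose moreover that N is J-adically complete and M is flat. Let u : N → M be A-linear.
If the induced map N/JN → M/JM is bijective (surjectivity and injectivity written out below), then u
is bijective. -/
theorem result {A : Type u} [CommRing A] (J : Ideal A)
    {M N : Type u} [AddCommGroup M] [Module A M] [AddCommGroup N] [Module A N]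
    [IsHausdorff J M] [IsAdicComplete J N] [Module.Flat A M] (u : N →ₗ[A] M)
    (hsurj : ∀ m : M, ∃ n : N, m - u n ∈ (J • ⊤ : Submodule A M))
    (hinj : ∀ n : N, u n ∈ (J • ⊤ : Submodule A M) → n ∈ (J • ⊤ : Submodule A N)) :
    Function.Bijective u := by
  classical
  have hs : Function.Surjective u := by
    refine surjective_of_mkQ_comp_surjective (I := J) (f := u) fun z => ?_
    obtain ⟨m, rfl⟩ := Submodule.Quotient.mk_surjective _ z
    obtain ⟨n, hn⟩ := hsurj m
    exact ⟨n, ((Submodule.Quotient.eq _).2 hn).symm⟩
  refine ⟨?_, hs⟩
  have hle : LinearMap.ker u ≤ J • LinearMap.ker u := fun x hx => by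
    rw [← LinearMap.ker_inf_smul_top_eq_smul_of_flat J u hs]
    exact ⟨hx, hinj x (by rw [LinearMap.mem_ker.1 hx]; exact zero_mem _)⟩
  have hpow : ∀ n : ℕ, LinearMap.ker u ≤ J ^ n • (⊤ : Submodule A N) := by
    intro n
    induction n with
    | zero => simp
    | succ n ih =>
      rw [pow_succ', Submodule.mul_smul]
      exact hle.trans (Submodule.smul_mono le_rfl ih)
  rw [← LinearMap.ker_eq_bot, eq_bot_iff]
  intro x hx
  exact (Submodule.mem_bot _).2 (IsHausdorff.haus (I := J) inferInstance x fun n => by
    rw [SModEq.zero]
    exact hpow n hx)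

end Groth.Agent.S4515
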