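import Groth.Statements.S4516
import Mathlib
-- import your own Groth.Agent.* helpers here

set_option autoImplicit false
universe u
open EGA41

namespace Groth.Agent.S4516

/-- Let p be a prime, B an A-algebra of characteristic p and A' an A-subalgebra of B contained in
A[B^p]. Then the canonical map between Ω_{B/A} and Ω_{B/A'} is bijective (every A-derivation of B
vanishes on A[B^p]). -/
theorem result (p : ℕ) [Fact p.Prime] {A B : Type u}
    [CommRing A] [CommRing B] [Algebra A B] [CharP B p] (A' : Subalgebra A B)
    (hA' : A' ≤ EGA41.pPowerSubalgebra p A B) :
    Function.Bijective (KaehlerDifferential.map A A' B B) := by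
  have hz : ∀ y : B, y ∈ EGA41.pPowerSubalgebra p A B → KaehlerDifferential.D A B y = 0 := by
    intro y hy
    induction hy using Algebra.adjoin_induction with
    | mem x hx =>
      obtain ⟨b, rfl⟩ := hx
      simp [Derivation.leibniz_pow, ← Nat.cast_smul_eq_nsmul B]
    | algebraMap r => simp
    | add x y _ _ hx hy => simp [hx, hy]
    | mul x y _ _ hx hy => simp [hx, hy]
  let D' : Derivation A' B (KaehlerDifferential A B) :=
    Derivation.mk'
      { toFun := KaehlerDifferential.D A B
        map_add' := map_add _
        map_smul' := fun r x => by
          have h0 := hz (r : B) (hA' r.2)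
          simp [Algebra.smul_def, h0, Subalgebra.algebraMap_apply]
          rfl }
      (fun a b => by simp)
  have hinj : ∀ z, D'.liftKaehlerDifferential (KaehlerDifferential.map A A' B B z) = z := by
    intro z
    have hz' : z ∈ Submodule.span B (Set.range (KaehlerDifferential.D A B)) := by
      rw [KaehlerDifferential.span_range_derivation]; trivial
    induction hz' using Submodule.span_induction with
    | mem x hx =>
      obtain ⟨b, rfl⟩ := hx
      simp [D']
    | zero => simp
    | add x y _ _ hx hy => simp [map_add, hx, hy]
    | smul r x _ hx => simp [map_smul, hx]
  exact ⟨Function.LeftInverse.injective hinj, KaehlerDifferential.map_surjective A A' B⟩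

end Groth.Agent.S4516
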