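import Groth.Statements.S4519
import Groth.Agent.PBasisLib.Basic
-- import your own Groth.Agent.* helpers here

set_option autoImplicit false
universe u
open EGA41

namespace Groth.Agent.S4519

/-- Let p be a prime, B a ring of characteristic p and A a subring of B with B^p ⊆ A (here: A → B
injective with every p-th power in its image; R → A → B with the image of R in B equal to the set of
p-th powers, so that R stands for B^p). If B admits a p-basis over A, then B is a formally smooth
A-algebra relative to R for the discrete topologies (square-zero liftings, as in the prelude's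
relative notion). -/
theorem result (p : ℕ) [Fact p.Prime] {R A B : Type u} [CommRing R] [CommRing A]
    [CommRing B] [Algebra R A] [Algebra A B] [Algebra R B] [IsScalarTower R A B] [CharP B p]
    (hinj : Function.Injective (algebraMap A B)) (hpow : ∀ b : B, b ^ p ∈ Set.range (algebraMap A B))
    (hR : Set.range (algebraMap R B) = Set.range fun b : B => b ^ p)
    {ι : Type u} (x : ι → B) (hx : EGA41.IsPBasis p A x) :
    EGA41.IsFormallySmoothRel R A B := by
  intro C _ _ _ _ J hJ u₀ ⟨u, hu⟩
  classical
  let P := EGA41.pPowerSubalgebra p A B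
  have hPA : ∀ y : P, (y : B) ∈ (algebraMap A B).range := fun y => by
    obtain ⟨y, hy⟩ := y
    show y ∈ _
    induction hy using Algebra.adjoin_induction with
    | mem z hz => obtain ⟨b, rfl⟩ := hz; exact hpow b
    | algebraMap a => exact ⟨a, rfl⟩
    | add a b _ _ ha hb => exact add_mem ha hb
    | mul a b _ _ ha hb => exact mul_mem ha hb
  let e : A ≃+* P := RingEquiv.ofBijective
    ((algebraMap A B).codRestrict P.toSubring (fun a => Subalgebra.algebraMap_mem _ a))
    ⟨fun a a' h => hinj (congrArg Subtype.val h), fun y => by
      obtain ⟨a, ha⟩ := hPA y; exact ⟨a, Subtype.ext ha⟩⟩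
  letI : Algebra P C := ((algebraMap A C).comp e.symm.toRingHom).toAlgebra
  choose r hr using fun i => (Set.ext_iff.mp hR (x i ^ p)).mpr ⟨x i, rfl⟩
  have hPr : ∀ i, e.symm (⟨x i ^ p, Algebra.subset_adjoin (Set.mem_range_self (x i))⟩ : P) =
      algebraMap R A (r i) := fun i => by
    apply e.injective
    rw [e.apply_symm_apply]
    exact Subtype.ext ((hr i).symm.trans (IsScalarTower.algebraMap_apply R A B (r i)))
  obtain ⟨v, hv, -⟩ := PBasisLib.existsUnique_lift (R := P) (Fact.out : p.Prime).pos x
    (fun i => ⟨x i ^ p, Algebra.subset_adjoin (Set.mem_range_self (x i))⟩) hx.1 hx.2 (fun i => rfl)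
    (fun i => u (x i)) (fun i => by
      show u (x i) ^ p = algebraMap A C (e.symm _)
      rw [hPr, ← IsScalarTower.algebraMap_apply, ← map_pow, ← hr, AlgHom.commutes])
  let vA : B →ₐ[A] C :=
    { toRingHom := v.toRingHom
      commutes' := fun a => by
        show v (algebraMap A B a) = algebraMap A C a
        have := v.commutes (e a)
        rw [show algebraMap P B (e a) = algebraMap A B a from rfl] at this
        rw [this]
        show algebraMap A C (e.symm (e a)) = _
        rw [e.symm_apply_apply] }
  refine ⟨vA, AlgHom.ext fun b => ?_⟩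
  have hb : b ∈ Algebra.adjoin P (Set.range x) := by
    rw [PBasisLib.adjoin_eq_top_of_span x hx.2]; trivial
  induction hb using Algebra.adjoin_induction with
  | mem z hz =>
      obtain ⟨i, rfl⟩ := hz
      show Ideal.Quotient.mk J (v (x i)) = _
      rw [hv]
      exact DFunLike.congr_fun hu (x i)
  | algebraMap y =>
      obtain ⟨a, ha⟩ := hPA y
      rw [show algebraMap P B y = algebraMap A B a from ha.symm, AlgHom.commutes, AlgHom.commutes]
  | add a b _ _ ha hb => rw [map_add, map_add, ha, hb]
  | mul a b _ _ ha hb => rw [map_mul, map_mul, ha, hb]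

end Groth.Agent.S4519
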