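import Groth.Statements.S4520
import Groth.Agent.PBasisLib.Kaehler
-- import your own Groth.Agent.* helpers here

set_option autoImplicit false
universe u
open EGA41

namespace Groth.Agent.S4520

open TensorProduct in
/-- Let p be a prime, B a reduced ring of characteristic p, A a subring with B^p ⊆ A ⊆ B (here A → B
injective with all p-th powers in its image, and R → A → B with image in B the set of p-th powers, R
standing for B^p). Suppose B has a p-basis (x_λ) over A and A has a p-basis over R, and let x'_λ ∈ A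
map to x_λ^p. Then the elements 1 ⊗ d_{A/ℤ}(x'_λ) form a basis of the B-module Υ_{B/A}, the kernel
of B ⊗_A Ω_{A/ℤ} → Ω_{B/ℤ}. (The published statement also identifies Υ_{B/A} with the Frobenius
twist of Ω_{B/A}; this row states only the basis.) -/
theorem result (p : ℕ) [Fact p.Prime] {R A B : Type u} [CommRing R] [CommRing A]
    [CommRing B] [IsReduced B] [Algebra R A] [Algebra A B] [Algebra R B] [IsScalarTower R A B] [CharP B p]
    (hinj : Function.Injective (algebraMap A B)) (hpow : ∀ b : B, b ^ p ∈ Set.range (algebraMap A B))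
    (hR : Set.range (algebraMap R B) = Set.range fun b : B => b ^ p)
    {Λ M : Type u} (x : Λ → B) (hx : EGA41.IsPBasis p A x) (x' : Λ → A) (hx' : ∀ i, algebraMap A B (x' i) = x i ^ p)
    (y : M → A) (hy : EGA41.IsPBasis p R y) :
    ∃ b : Module.Basis Λ B (EGA41.imperfection ℤ A B),
      ∀ i, (b i : B ⊗[A] Ω[A⁄ℤ]) = (1 : B) ⊗ₜ[A] KaehlerDifferential.D ℤ A (x' i) := by
  classical
  have hp : p.Prime := Fact.out
  haveI : ExpChar B p := .prime hp
  haveI hcA : CharP A p := RingHom.charP (algebraMap A B) hinj p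
  haveI : ExpChar A p := .prime hp
  let A' := EGA41.pPowerSubalgebra p R A
  let B' := EGA41.pPowerSubalgebra p A B
  -- elements of `A'` are `p`-th powers in `B`
  have hA' : ∀ r : A', ∃ b : B, b ^ p = algebraMap A B (r : A) := by
    rintro ⟨r, hr⟩
    show ∃ b : B, b ^ p = algebraMap A B r
    induction hr using Algebra.adjoin_induction with
    | mem z hz => obtain ⟨a, rfl⟩ := hz; exact ⟨algebraMap A B a, by simp⟩
    | algebraMap c =>
      have : algebraMap R B c ∈ Set.range fun b : B => b ^ p := hR ▸ ⟨c, rfl⟩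
      obtain ⟨b, hb⟩ := this
      exact ⟨b, by rw [← IsScalarTower.algebraMap_apply]; exact hb⟩
    | add a b _ _ ha hb =>
      obtain ⟨c, hc⟩ := ha
      obtain ⟨d, hd⟩ := hb
      exact ⟨c + d, by rw [add_pow_char, hc, hd, map_add]⟩
    | mul a b _ _ ha hb =>
      obtain ⟨c, hc⟩ := ha
      obtain ⟨d, hd⟩ := hb
      exact ⟨c * d, by rw [mul_pow, hc, hd, map_mul]⟩
  choose root hroot using hA'
  have hroot' : ∀ r b, b ^ p = algebraMap A B ((r : A') : A) → root r = b := fun r b h =>
    frobenius_inj B p (by simp only [frobenius_def, hroot, h])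
  -- every `p`-th power is in `A'`
  have hmem : ∀ (b : B) (a : A), algebraMap A B a = b ^ p → a ∈ A' := by
    intro b a h
    obtain ⟨c, hc⟩ : b ^ p ∈ Set.range (algebraMap R B) := hR ▸ ⟨b, rfl⟩
    rw [show a = algebraMap R A c from hinj (by rw [h, ← hc, ← IsScalarTower.algebraMap_apply])]
    exact A'.algebraMap_mem c
  -- elements of `B'` come from `A`
  have hB' : ∀ r : B', ∃ a, algebraMap A B a = (r : B) := by
    intro r
    refine AlgHom.mem_range _ |>.1 (Algebra.adjoin_le (S := (Algebra.ofId A B).range) ?_ r.2)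
    rintro _ ⟨b, rfl⟩
    exact hpow b
  choose eB heB using hB'
  have heB' : ∀ r a, algebraMap A B a = ((r : B') : B) → eB r = a := fun r a h => hinj ((heB r).trans h.symm)
  -- derivations of `B` dual to `y`
  have hdy : ∀ j, ∃ D : Derivation ℤ B B, (∀ i, D (x i) = 0) ∧ ∀ j', D (algebraMap A B (y j')) = if j' = j then 1 else 0 := by
    intro j
    obtain ⟨E, hE⟩ := Groth.Agent.PBasisLib.exists_derivation_of_pBasis p y hy (L := B) (fun j' => if j' = j then (1 : B) else 0)
    let D₀ : Derivation ℤ B' B := Derivation.mk' (AddMonoidHom.mk' (fun r => E (eB r)) (fun r s => by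
      rw [← map_add]; congr 1
      exact heB' _ _ (by rw [map_add, heB, heB]; rfl))).toIntLinearMap (fun r s => by
        show E (eB (r * s)) = r • E (eB s) + s • E (eB r)
        rw [heB' (r * s) (eB r * eB s) (by rw [map_mul, heB, heB]; rfl), Derivation.leibniz,
          Algebra.smul_def, Algebra.smul_def, heB, heB]
        rfl)
    have h0 : ∀ (a : A) (b : B), algebraMap A B a = b ^ p → E a = 0 := fun a b h =>
      Groth.Agent.PBasisLib.derivation_pPower_eq_zero p E (hmem b a h)
    obtain ⟨D, ⟨h1, h2⟩, -⟩ := Groth.Agent.PBasisLib.existsUnique_derivation (R := B') (p := p) hp.pos x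
      (Groth.Agent.PBasisLib.powElt p x) hx.1 hx.2 (fun i => rfl) D₀ (fun i => h0 _ (x i) (heB _)) 0
    refine ⟨D, h2, fun j' => ?_⟩
    have := h1 (algebraMap A B' (y j'))
    rw [← IsScalarTower.algebraMap_apply] at this
    rw [this, ← hE j']
    show E (eB _) = E (y j')
    rw [heB' _ (y j') (IsScalarTower.algebraMap_apply A B' B (y j'))]
  -- derivations of `A` dual to `x'`
  have hdx : ∀ i, ∃ D : Derivation ℤ A B, (∀ j, D (y j) = 0) ∧ ∀ i', D (x' i') = if i' = i then 1 else 0 := by
    intro i
    obtain ⟨E, hE⟩ := Groth.Agent.PBasisLib.exists_derivation_of_pBasis p x hx (L := B) (fun i' => if i' = i then (1 : B) else 0)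
    have hadd : ∀ r s : A', root (r + s) = root r + root s := fun r s =>
      hroot' _ _ (by rw [add_pow_char, hroot, hroot, ← map_add]; rfl)
    have hmul : ∀ r s : A', root (r * s) = root r * root s := fun r s =>
      hroot' _ _ (by rw [mul_pow, hroot, hroot, ← map_mul]; rfl)
    let D₀ : Derivation ℤ A' B := Derivation.mk' (AddMonoidHom.mk' (fun r => E (root r) ^ p) (fun r s => by
      rw [hadd, map_add, add_pow_char])).toIntLinearMap (fun r s => by
        show E (root (r * s)) ^ p = r • E (root s) ^ p + s • E (root r) ^ p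
        rw [hmul, Derivation.leibniz, add_pow_char, smul_eq_mul, smul_eq_mul, mul_pow, mul_pow, hroot, hroot]
        rw [← algebraMap_smul B r, ← algebraMap_smul B s]
        rfl)
    obtain ⟨D, ⟨h1, h2⟩, -⟩ := Groth.Agent.PBasisLib.existsUnique_derivation (R := A') (B := A) (p := p) hp.pos y
      (Groth.Agent.PBasisLib.powElt p y) hy.1 hy.2 (fun j => rfl) (L := B) D₀ (fun j => by
        show E (root (Groth.Agent.PBasisLib.powElt p y j)) ^ p = 0
        rw [hroot' _ (algebraMap A B (y j)) (by rw [← map_pow]; rfl), E.map_algebraMap, zero_pow hp.ne_zero]) 0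
    refine ⟨D, h2, fun i' => ?_⟩
    have := h1 ⟨x' i', hmem (x i') _ (hx' i')⟩
    rw [show algebraMap A' A ⟨x' i', hmem (x i') _ (hx' i')⟩ = x' i' from rfl] at this
    rw [this]
    show E (root _) ^ p = _
    rw [hroot' _ (x i') (hx' i').symm, hE]
    split_ifs <;> simp [hp.ne_zero]
  choose Dy hDyx hDyy using hdy
  choose Dx hDxy hDxx using hdx
  let vy : M → B ⊗[A] Ω[A⁄ℤ] := fun j => (1 : B) ⊗ₜ[A] KaehlerDifferential.D ℤ A (y j)
  let vx : Λ → B ⊗[A] Ω[A⁄ℤ] := fun i => (1 : B) ⊗ₜ[A] KaehlerDifferential.D ℤ A (x' i)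
  have hker : ∀ i, vx i ∈ EGA41.imperfection ℤ A B := fun i => by
    show KaehlerDifferential.mapBaseChange ℤ A B (vx i) = 0
    simp only [vx, KaehlerDifferential.mapBaseChange_tmul, one_smul, KaehlerDifferential.map_D, hx', Derivation.leibniz_pow]
    rw [← Nat.cast_smul_eq_nsmul B, CharP.cast_eq_zero, zero_smul]
  -- spanning
  let S : Submodule B (B ⊗[A] Ω[A⁄ℤ]) := Submodule.span B (Set.range vy) ⊔ Submodule.span B (Set.range vx)
  let δ : Derivation ℤ A (B ⊗[A] Ω[A⁄ℤ]) := (TensorProduct.mk A B Ω[A⁄ℤ] 1).compDer (KaehlerDifferential.D ℤ A)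
  have hspan : S = ⊤ := by
    let T : Subalgebra ℤ A :=
      { carrier := {a | δ a ∈ S}
        mul_mem' := fun {a b} ha hb => by
          show δ (a * b) ∈ S
          rw [Derivation.leibniz]
          exact S.add_mem (S.smul_of_tower_mem a hb) (S.smul_of_tower_mem b ha)
        add_mem' := fun {a b} ha hb => by
          show δ (a + b) ∈ S
          rw [map_add]; exact S.add_mem ha hb
        algebraMap_mem' := fun n => by
          show δ (algebraMap ℤ A n) ∈ S
          rw [Derivation.map_algebraMap]; exact S.zero_mem }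
    have hxT : ∀ i, x' i ∈ T := fun i => Submodule.mem_sup_right (Submodule.subset_span ⟨i, rfl⟩)
    have hyT : ∀ j, y j ∈ T := fun j => Submodule.mem_sup_left (Submodule.subset_span ⟨j, rfl⟩)
    have hpT : ∀ a, a ^ p ∈ T := fun a => by
      show δ (a ^ p) ∈ S
      rw [Derivation.leibniz_pow, ← Nat.cast_smul_eq_nsmul A, CharP.cast_eq_zero, zero_smul]
      exact S.zero_mem
    have hA'T : ∀ r : A', (r : A) ∈ T := by
      intro r
      have hb : root r ∈ Algebra.adjoin B' (Set.range x) := by
        rw [Groth.Agent.PBasisLib.adjoin_eq_top_of_span x hx.2]; trivial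
      suffices ∀ b ∈ Algebra.adjoin B' (Set.range x), ∀ a, algebraMap A B a = b ^ p → a ∈ T from this _ hb _ (hroot r).symm
      intro b hb
      clear hb
      intro a ha
      have hb : b ∈ Algebra.adjoin B' (Set.range x) := by
        rw [Groth.Agent.PBasisLib.adjoin_eq_top_of_span x hx.2]; trivial
      induction hb using Algebra.adjoin_induction generalizing a with
      | mem z hz => obtain ⟨i, rfl⟩ := hz; rw [hinj (ha.trans (hx' i).symm)]; exact hxT i
      | algebraMap c =>
        rw [hinj (show algebraMap A B a = algebraMap A B (eB c ^ p) by rw [map_pow, heB, ha]; rfl)]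
        exact hpT _
      | add b₁ b₂ _ _ h₁ h₂ =>
        obtain ⟨a₁, ha₁⟩ := hpow b₁
        obtain ⟨a₂, ha₂⟩ := hpow b₂
        rw [hinj (show algebraMap A B a = algebraMap A B (a₁ + a₂) by rw [map_add, ha₁, ha₂, ha, add_pow_char])]
        exact T.add_mem (h₁ _ ha₁) (h₂ _ ha₂)
      | mul b₁ b₂ _ _ h₁ h₂ =>
        obtain ⟨a₁, ha₁⟩ := hpow b₁
        obtain ⟨a₂, ha₂⟩ := hpow b₂
        rw [hinj (show algebraMap A B a = algebraMap A B (a₁ * a₂) by rw [map_mul, ha₁, ha₂, ha, mul_pow])]
        exact T.mul_mem (h₁ _ ha₁) (h₂ _ ha₂)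
    have hall : ∀ a : A, a ∈ T := by
      intro a
      have ha : a ∈ Algebra.adjoin A' (Set.range y) := by
        rw [Groth.Agent.PBasisLib.adjoin_eq_top_of_span y hy.2]; trivial
      induction ha using Algebra.adjoin_induction with
      | mem z hz => obtain ⟨j, rfl⟩ := hz; exact hyT j
      | algebraMap c => exact hA'T c
      | add a b _ _ ha hb => exact T.add_mem ha hb
      | mul a b _ _ ha hb => exact T.mul_mem ha hb
    rw [eq_top_iff]
    rintro z -
    induction z using TensorProduct.induction_on with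
    | zero => exact S.zero_mem
    | add a b ha hb => exact S.add_mem ha hb
    | tmul c w =>
      have hw : w ∈ Submodule.span A (Set.range (KaehlerDifferential.D ℤ A)) := by
        rw [KaehlerDifferential.span_range_derivation]; trivial
      induction hw using Submodule.span_induction generalizing c with
      | mem z hz =>
        obtain ⟨a, rfl⟩ := hz
        rw [show c ⊗ₜ[A] KaehlerDifferential.D ℤ A a = c • δ a by
          simp [δ, TensorProduct.smul_tmul']]
        exact S.smul_mem _ (hall a)
      | zero => simp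
      | add a b _ _ ha hb => rw [TensorProduct.tmul_add]; exact S.add_mem (ha c) (hb c)
      | smul a z _ hz => rw [show c ⊗ₜ[A] (a • z) = (a • c) ⊗ₜ[A] z from (TensorProduct.smul_tmul a c z).symm]; exact hz _
  have hli : LinearIndependent B (fun i => (⟨vx i, hker i⟩ : EGA41.imperfection ℤ A B)) := by
    refine LinearIndependent.of_comp (EGA41.imperfection ℤ A B).subtype ?_
    show LinearIndependent B vx
    rw [linearIndependent_iff']
    intro s g hg i hi
    have hval : ∀ i', (Dx i).liftKaehlerDifferential.liftBaseChange B (vx i') = if i' = i then 1 else 0 := fun i' => by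
      show (Dx i).liftKaehlerDifferential.liftBaseChange B ((1 : B) ⊗ₜ[A] KaehlerDifferential.D ℤ A (x' i')) = _
      rw [LinearMap.liftBaseChange_tmul, one_smul, Derivation.liftKaehlerDifferential_comp_D, hDxx]
    have := congrArg ((Dx i).liftKaehlerDifferential.liftBaseChange B) hg
    rw [map_sum, map_zero, Finset.sum_eq_single i (fun i' _ hne => by rw [map_smul, hval, if_neg hne, smul_zero])
      (fun h => absurd hi h), map_smul, hval, if_pos rfl, smul_eq_mul, mul_one] at this
    exact this
  refine ⟨Module.Basis.mk hli ?_, fun i => by rw [Module.Basis.mk_apply]⟩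
  rintro ⟨z, hz⟩ -
  obtain ⟨u, hu, w, hw, rfl⟩ := Submodule.mem_sup.1 (show z ∈ S by rw [hspan]; trivial)
  have hw' : w ∈ EGA41.imperfection ℤ A B := (Submodule.span_le.2 (by rintro _ ⟨i, rfl⟩; exact hker i)) hw
  have hu0 : u = 0 := by
    have hu' : KaehlerDifferential.mapBaseChange ℤ A B u = 0 := by
      have := LinearMap.mem_ker.1 (show u ∈ EGA41.imperfection ℤ A B by
        simpa using (EGA41.imperfection ℤ A B).sub_mem hz hw')
      exact this
    obtain ⟨l, rfl⟩ := (Finsupp.mem_span_range_iff_exists_finsupp).1 hu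
    suffices hl : l = 0 by simp [hl]
    ext j
    have hval : ∀ j', (Dy j).liftKaehlerDifferential (KaehlerDifferential.mapBaseChange ℤ A B (vy j')) =
        if j' = j then 1 else 0 := fun j' => by
      show (Dy j).liftKaehlerDifferential
        (KaehlerDifferential.mapBaseChange ℤ A B ((1 : B) ⊗ₜ[A] KaehlerDifferential.D ℤ A (y j'))) = _
      rw [KaehlerDifferential.mapBaseChange_tmul, one_smul, KaehlerDifferential.map_D,
        Derivation.liftKaehlerDifferential_comp_D, hDyy]
    have := congrArg (Dy j).liftKaehlerDifferential hu'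
    rw [Finsupp.sum, map_sum, map_sum, map_zero, Finset.sum_eq_single j
      (fun j' _ hne => by rw [map_smul, map_smul, hval, if_neg hne, smul_zero])
      (fun h => by rw [Finsupp.notMem_support_iff.1 h, zero_smul, map_zero, map_zero]),
      map_smul, map_smul, hval, if_pos rfl, smul_eq_mul, mul_one] at this
    rw [this]; rfl
  obtain ⟨l, rfl⟩ := (Finsupp.mem_span_range_iff_exists_finsupp).1 hw
  refine (Finsupp.mem_span_range_iff_exists_finsupp).2 ⟨l, Subtype.ext ?_⟩
  simp [hu0, Finsupp.sum, Submodule.coe_sum]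

end Groth.Agent.S4520
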