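import Groth.Statements.S4521
import Mathlib
import Groth.Agent.PBasisLib.Fields
-- import your own Groth.Agent.* helpers here

set_option autoImplicit false
universe u
open EGA41

namespace Groth.Agent.S4521

/-- Let k ⊆ K be fields of characteristic p > 0 and (x_α) a family of elements of K. Then (x_α) is
p-independent over k if and only if, for every α, x_α does not lie in the subfield generated over k
by K^p and the x_β with β ≠ α. -/
theorem result (p : ℕ) [Fact p.Prime] {k K : Type u} [Field k] [Field K]
    [Algebra k K] [CharP K p] {ι : Type u} (x : ι → K) :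
    EGA41.IsPIndependent p k x ↔
      ∀ a : ι, x a ∉ IntermediateField.adjoin k ((Set.range fun y : K => y ^ p) ∪ x '' {b | b ≠ a}) := by
  classical
  rw [Groth.Agent.PBasisLib.pIndependent_iff, linearIndependent_iff_notMem_span]
  have himg : ∀ a, (fun i => KaehlerDifferential.D k K (x i)) '' (Set.univ \ {a}) =
      (KaehlerDifferential.D k K) '' (x '' {b | b ≠ a}) := fun a => by
    rw [← Set.image_comp]
    congr 1
    ext b; simp
  refine forall_congr' fun a => not_congr ?_
  rw [himg]
  refine ⟨fun h => ?_, fun h => ?_⟩
  · have h2 : x a ∈ Algebra.adjoin (EGA41.pPowerSubalgebra p k K) (x '' {b | b ≠ a}) := by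
      refine Groth.Agent.PBasisLib.mem_adjoin_of_forall_derivation p _ fun D hD => ?_
      rw [← Derivation.liftKaehlerDifferential_comp_D D (x a), ← LinearMap.mem_ker]
      refine (Submodule.span_le.2 ?_) h
      rintro _ ⟨z, hz, rfl⟩
      simp [hD z hz]
    set F := IntermediateField.adjoin k ((Set.range fun y : K => y ^ p) ∪ x '' {b | b ≠ a})
    have hP : EGA41.pPowerSubalgebra p k K ≤ F.toSubalgebra :=
      Algebra.adjoin_le fun y hy => IntermediateField.subset_adjoin k _ (Or.inl hy)
    generalize x a = z at h2 ⊢
    induction h2 using Algebra.adjoin_induction with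
    | mem z hz => exact IntermediateField.subset_adjoin k _ (Or.inr hz)
    | algebraMap r => exact hP r.2
    | add u v _ _ hu hv => exact add_mem hu hv
    | mul u v _ _ hu hv => exact mul_mem hu hv
  · generalize x a = z at h ⊢
    induction h using IntermediateField.adjoin_induction with
    | mem z hz =>
      rcases hz with ⟨y, rfl⟩ | hz
      · rw [Derivation.leibniz_pow, ← Nat.cast_smul_eq_nsmul K, CharP.cast_eq_zero, zero_smul]
        exact Submodule.zero_mem _
      · exact Submodule.subset_span ⟨z, hz, rfl⟩
    | algebraMap r => rw [Derivation.map_algebraMap]; exact Submodule.zero_mem _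
    | add u v _ _ hu hv => rw [map_add]; exact Submodule.add_mem _ hu hv
    | inv u _ hu => rw [Derivation.leibniz_inv]; exact Submodule.smul_mem _ _ hu
    | mul u v _ _ hu hv =>
      rw [Derivation.leibniz]
      exact Submodule.add_mem _ (Submodule.smul_mem _ _ hv) (Submodule.smul_mem _ _ hu)

end Groth.Agent.S4521
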