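import Groth.Statements.S4522
import Groth.Agent.S4519
import Groth.Agent.S2467
import Groth.Agent.S3442
-- import your own Groth.Agent.* helpers here

set_option autoImplicit false
universe u
open EGA41

namespace Groth.Agent.S4522

/-- Let L be a field of characteristic p > 0 and K a subfield with L^p ⊆ K ⊆ L (here R → K → L with the
image of R in L the set of p-th powers and every p-th power of L in the image of K). Then the
canonical L-linear map L ⊗_K Ω_{K/L^p} → Ω_{L/L^p} is injective, so that 0 → Ω_{K/L^p} ⊗_K L →
Ω_{L/L^p} → Ω_{L/K} → 0 is exact: the imperfection module of L over K relative to L^p vanishes. -/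
theorem result (p : ℕ) [Fact p.Prime] {R K L : Type u} [Field R] [Field K] [Field L]
    [Algebra R K] [Algebra K L] [Algebra R L] [IsScalarTower R K L] [CharP L p]
    (hR : Set.range (algebraMap R L) = Set.range fun y : L => y ^ p)
    (hK : ∀ y : L, y ^ p ∈ Set.range (algebraMap K L)) :
    Function.Injective (KaehlerDifferential.mapBaseChange R K L) := by
  open scoped TensorProduct in
  have hinjK : Function.Injective (algebraMap K L) := (algebraMap K L).injective
  have hS : EGA41.IsPGenerating p K (Subtype.val : ↥(Set.univ : Set L) → L) := by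
    rw [EGA41.IsPGenerating, eq_top_iff]
    intro b _
    refine Submodule.subset_span ⟨⟨Finsupp.single ⟨b, trivial⟩ 1, fun i => ?_⟩, ?_⟩
    · classical
      rw [Finsupp.single_apply]
      split_ifs
      · exact (Fact.out : p.Prime).one_lt
      · exact (Fact.out : p.Prime).pos
    · show EGA41.pMonomial _ _ = b
      simp [EGA41.pMonomial, Finsupp.prod_single_index]
  have hL : EGA41.IsPIndependent p K (Subtype.val : ↥(∅ : Set L) → L) := by
    haveI : Unique {e : ↥(∅ : Set L) →₀ ℕ // ∀ i, e i < p} :=
      { default := ⟨0, fun i => i.2.elim⟩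
        uniq := fun a => Subtype.ext (Finsupp.ext fun i => i.2.elim) }
    refine linearIndependent_unique_iff.mpr ?_
    intro h0
    have h1 : EGA41.pMonomial (Subtype.val : ↥(∅ : Set L) → L) 0 = 0 := by
      convert h0 using 2
      exact (Finsupp.ext fun i => i.2.elim)
    simp [EGA41.pMonomial] at h1
  obtain ⟨Bs, -, -, hB⟩ := S2467.result p (Set.univ : Set L) ∅ (Set.empty_subset _) hS hL
  have hsm := S4519.result p (R := R) (A := K) (B := L) hinjK hK hR _ hB
  have hinj := S3442.result R K L L hsm
  intro a b hab
  have h1 : (KaehlerDifferential.mapBaseChange R K L).baseChange L ((1 : L) ⊗ₜ a) =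
      (KaehlerDifferential.mapBaseChange R K L).baseChange L ((1 : L) ⊗ₜ b) := by
    rw [LinearMap.baseChange_tmul, LinearMap.baseChange_tmul, hab]
  simpa using congrArg (TensorProduct.lid L (L ⊗[K] Ω[K⁄R])) (hinj h1)

end Groth.Agent.S4522
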