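import Groth.Statements.S4524
import Groth.Agent.FieldExtLib.Imperfection
-- import your own Groth.Agent.* helpers here

set_option autoImplicit false
universe u
open EGA41

namespace Groth.Agent.S4524

/-- Let k be a field of characteristic 0 and K an extension of k. Then Ω_{K/k} = 0 if and only if K is
an algebraic extension of k. -/
theorem result {k K : Type u} [Field k] [CharZero k] [Field K] [Algebra k K] :
    Subsingleton (Ω[K⁄k]) ↔ Algebra.IsAlgebraic k K := by
  constructor
  · intro hS
    by_contra halg
    obtain ⟨x, hx⟩ : ∃ x : K, Transcendental k x := by
      by_contra hc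
      push Not at hc
      exact halg ⟨fun x => not_not.1 (hc x)⟩
    let E := IntermediateField.adjoin k ({x} : Set K)
    haveI : Algebra.EssFiniteType k E := IntermediateField.essFiniteType_iff.2 (by
      show E.FG
      exact ⟨{x}, by simp [E]⟩)
    haveI : CharZero E := charZero_of_injective_algebraMap (algebraMap k E).injective
    haveI : Algebra.FormallySmooth E K := Groth.Agent.FieldExtLib.formallySmooth_field_of_perfectField E K
    haveI : Subsingleton (Algebra.H1Cotangent E K) := Algebra.FormallySmooth.subsingleton_h1Cotangent
    have hinj : Function.Injective (KaehlerDifferential.mapBaseChange k E K) := by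
      rw [injective_iff_map_eq_zero]
      intro z hz
      obtain ⟨y, rfl⟩ := (Algebra.H1Cotangent.exact_δ_mapBaseChange k E K z).1 hz
      rw [Subsingleton.elim y 0, map_zero]
    haveI : Subsingleton (TensorProduct E K Ω[E⁄k]) := hinj.subsingleton
    haveI : Subsingleton Ω[E⁄k] := by
      by_contra hne
      rw [not_subsingleton_iff_nontrivial] at hne
      haveI := Module.FaithfullyFlat.lTensor_nontrivial (R := E) (M := K) Ω[E⁄k]
      exact false_of_nontrivial_of_subsingleton (TensorProduct E K Ω[E⁄k])
    haveI : Algebra.FormallyUnramified k E := ⟨inferInstance⟩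
    haveI : Algebra.IsSeparable k E := Algebra.FormallyUnramified.isSeparable k E
    refine hx ?_
    have hxE : x ∈ E := IntermediateField.mem_adjoin_simple_self k x
    exact isAlgebraic_algHom_iff E.val Subtype.val_injective |>.2
      (Algebra.IsIntegral.isIntegral (R := k) (⟨x, hxE⟩ : E)).isAlgebraic
  · intro hA
    haveI : Algebra.IsSeparable k K := Algebra.IsAlgebraic.isSeparable_of_perfectField
    haveI := Algebra.FormallyUnramified.of_isSeparable k K
    exact Algebra.FormallyUnramified.subsingleton_kaehlerDifferential

end Groth.Agent.S4524
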