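import Groth.Statements.S4526
import Groth.Agent.FieldExtLib.Tower
import Groth.Agent.FieldExtLib.Extend
-- import your own Groth.Agent.* helpers here

set_option autoImplicit false
universe u
open EGA41

namespace Groth.Agent.S4526

/-- Let k ⊆ K ⊆ L be three fields with L an extension of finite type of k. Then Ω_{L/k} and Ω_{K/k} are
finite-dimensional and rank_L Ω_{L/k} − rank_K Ω_{K/k} ≥ trdeg_K L. (The published statement also
gives the exact value trdeg_K L + d(L/K, k) and an equality criterion; this row states only the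
inequality.) -/
theorem result {k K L : Type u} [Field k] [Field K] [Field L]
    [Algebra k K] [Algebra K L] [Algebra k L] [IsScalarTower k K L] [Algebra.EssFiniteType k L] :
    Module.Finite L (Ω[L⁄k]) ∧ Module.Finite K (Ω[K⁄k]) ∧
      (Cardinal.toNat (Algebra.trdeg K L) : ℤ) ≤ (Module.finrank L (Ω[L⁄k]) : ℤ) - Module.finrank K (Ω[K⁄k]) := by
  haveI : Algebra.EssFiniteType k K := Groth.Agent.FieldExtLib.essFiniteType_intermediate k K L
  obtain ⟨hL, eL⟩ := Groth.Agent.FieldExtLib.finrank_kaehler_eq k L
  obtain ⟨hK, eK⟩ := Groth.Agent.FieldExtLib.finrank_kaehler_eq k K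
  obtain ⟨fL⟩ := Groth.Agent.FieldExtLib.nonempty_h1_equiv_imperfection k L
  obtain ⟨fK⟩ := Groth.Agent.FieldExtLib.nonempty_h1_equiv_imperfection k K
  haveI := hL
  haveI := hK
  haveI : Module.Finite L (EGA41.imperfection ℤ k L) := Module.Finite.equiv fL
  haveI : Module.Finite K (EGA41.imperfection ℤ k K) := Module.Finite.equiv fK
  refine ⟨inferInstance, inferInstance, ?_⟩
  have hle := Groth.Agent.FieldExtLib.finrank_imperfection_le k K L
  rw [← fL.finrank_eq, ← fK.finrank_eq] at hle
  have htr : Algebra.trdeg k K + Algebra.trdeg K L = Algebra.trdeg k L := trdeg_add_eq k K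
  have h3 := congrArg Cardinal.toNat htr
  rw [Cardinal.toNat_add (lt_of_le_of_lt (htr ▸ le_self_add) (trdeg_lt_aleph0 k L))
    (lt_of_le_of_lt (htr ▸ le_add_self) (trdeg_lt_aleph0 k L))] at h3
  rw [eL, eK]
  push_cast
  omega

end Groth.Agent.S4526
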