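import Mathlib
import Groth.Statements.S4530
-- import your own Groth.Agent.* helpers here

set_option autoImplicit false
universe u
open EGA41

namespace Groth.Agent.S4530


open TensorProduct

/-- A left inverse up to an element outside `p`. -/
def Split {A : Type u} [CommRing A] {M N : Type u} [AddCommGroup M] [Module A M] [AddCommGroup N] [Module A N]
    (u : M →ₗ[A] N) (p : Ideal A) : Prop :=
  ∃ s ∉ p, ∃ g : N →ₗ[A] M, g.comp u = s • LinearMap.id

theorem inj_of_localized {A : Type u} [CommRing A] {M N : Type u} [AddCommGroup M] [Module A M] [AddCommGroup N]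
    [Module A N] (u : M →ₗ[A] N) (p : Ideal A) [p.IsPrime] (S : Submonoid A) (hS : S ≤ p.primeCompl)
    (h : ∃ w : LocalizedModule S N →ₗ[A] LocalizedModule S M, w ∘ₗ LocalizedModule.map S u = LinearMap.id) :
    Function.Injective (u.lTensor p.ResidueField) := by
  obtain ⟨w, hw⟩ := h
  let mkM := LocalizedModule.mkLinearMap S M
  let mkN := LocalizedModule.mkLinearMap S N
  have hunit : ∀ s : S, IsUnit (algebraMap A (Module.End A (p.ResidueField ⊗[A] M)) s) := by
    intro s
    have hs : IsUnit (algebraMap A p.ResidueField s) :=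
      isUnit_iff_ne_zero.mpr fun h => hS s.2 (Ideal.algebraMap_residueField_eq_zero.mp h)
    rw [Module.End.isUnit_iff]
    refine Function.bijective_iff_has_inverse.mpr ⟨fun z => (hs.unit⁻¹ : (p.ResidueField)ˣ).1 • z, fun z => ?_, fun z => ?_⟩
    · simp only [Module.algebraMap_end_apply]
      rw [← algebraMap_smul p.ResidueField (s : A), smul_smul, IsUnit.val_inv_mul, one_smul]
    · simp only [Module.algebraMap_end_apply]
      rw [← algebraMap_smul p.ResidueField (s : A), smul_smul, IsUnit.mul_val_inv, one_smul]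
  let L := IsLocalizedModule.lift S mkM ((TensorProduct.mk A p.ResidueField M) 1) hunit
  have hL : ∀ m, L (mkM m) = (1 : p.ResidueField) ⊗ₜ m := fun m =>
    LinearMap.congr_fun (IsLocalizedModule.lift_comp S mkM _ hunit) m
  let back : p.ResidueField ⊗[A] LocalizedModule S M →ₗ[A] p.ResidueField ⊗[A] M :=
    TensorProduct.lift (LinearMap.mk₂ A (fun c z => c • L z) (fun c d z => add_smul c d _)
      (fun a c z => smul_assoc a c _) (fun c z w => by rw [map_add, smul_add])
      (fun a c z => by rw [map_smul, smul_comm]))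
  have hback : back.comp (mkM.lTensor p.ResidueField) = LinearMap.id :=
    TensorProduct.ext' fun c m => by
      simp [back, hL, TensorProduct.smul_tmul', smul_eq_mul]
  have hcomm : (LocalizedModule.map S u).restrictScalars A ∘ₗ mkM = mkN ∘ₗ u := by
    refine LinearMap.ext fun m => ?_
    simp [mkM, mkN, LocalizedModule.map_mk]
  intro x y hxy
  have h1 := congrArg (mkN.lTensor p.ResidueField) hxy
  rw [← LinearMap.comp_apply, ← LinearMap.comp_apply, ← LinearMap.lTensor_comp, ← hcomm, LinearMap.lTensor_comp,
    LinearMap.comp_apply, LinearMap.comp_apply] at h1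
  have h2 := congrArg (w.lTensor p.ResidueField) h1
  rw [← LinearMap.comp_apply, ← LinearMap.comp_apply (LinearMap.lTensor _ w), ← LinearMap.lTensor_comp] at h2
  have hw' : w ∘ₗ (LocalizedModule.map S u).restrictScalars A = LinearMap.id := by
    refine LinearMap.ext fun z => ?_
    exact LinearMap.congr_fun hw z
  rw [hw', LinearMap.lTensor_id, LinearMap.id_apply, LinearMap.id_apply] at h2
  have h3 := congrArg back h2
  rwa [← LinearMap.comp_apply, hback, ← LinearMap.comp_apply, hback] at h3

theorem localized_of_split {A : Type u} [CommRing A] {M N : Type u} [AddCommGroup M] [Module A M] [AddCommGroup N]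
    [Module A N] (u : M →ₗ[A] N) (S : Submonoid A) {s : A} (hs : s ∈ S) (g : N →ₗ[A] M)
    (hg : g.comp u = s • LinearMap.id) :
    ∃ w : LocalizedModule S N →ₗ[A] LocalizedModule S M, w ∘ₗ LocalizedModule.map S u = LinearMap.id := by
  have hu := IsLocalizedModule.map_units (LocalizedModule.mkLinearMap S M) ⟨s, hs⟩
  refine ⟨(hu.unit⁻¹ : (Module.End A (LocalizedModule S M))ˣ).1 ∘ₗ (LocalizedModule.map S g).restrictScalars A, ?_⟩
  refine LinearMap.ext fun z => ?_
  induction z using LocalizedModule.induction_on with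
  | h m t =>
    have h1 : g (u m) = s • m := LinearMap.congr_fun hg m
    change (hu.unit⁻¹ : (Module.End A (LocalizedModule S M))ˣ).1
      (LocalizedModule.map S g (LocalizedModule.map S u (LocalizedModule.mk m t))) = LocalizedModule.mk m t
    rw [LocalizedModule.map_mk, LocalizedModule.map_mk, h1, ← LocalizedModule.smul'_mk]
    exact LinearMap.congr_fun hu.val_inv_mul (LocalizedModule.mk m t)

theorem split_of_inj {A : Type u} [CommRing A] {M N : Type u} [AddCommGroup M] [Module A M] [Module.Finite A M]
    [AddCommGroup N] [Module A N] [Module.Projective A N] (u : M →ₗ[A] N) (p : Ideal A) [p.IsPrime]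
    (h : Function.Injective (u.lTensor p.ResidueField)) : Split u p := by
  classical
  let k := p.ResidueField
  obtain ⟨F, _, _, hF, i, r, hri⟩ : ∃ (F : Type u) (_ : AddCommGroup F) (_ : Module A F) (_ : Module.Free A F)
      (i : N →ₗ[A] F) (r : F →ₗ[A] N), r ∘ₗ i = LinearMap.id := by
    refine ⟨N →₀ A, inferInstance, inferInstance, inferInstance, ?_⟩
    obtain ⟨i, hi⟩ := (Module.projective_def'.mp ‹Module.Projective A N›)
    exact ⟨i, Finsupp.linearCombination A id, hi⟩
  -- a basis of the fibre, from elements of `M`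
  haveI : Module.Finite k (k ⊗[A] M) := inferInstance
  have hsurjk : ∀ c : k, ∃ a d : A, d ∉ p ∧ algebraMap A k d * c = algebraMap A k a := by
    intro c
    obtain ⟨a, b, hb, rfl⟩ := IsFractionRing.div_surjective (A ⧸ p) c
    obtain ⟨a, rfl⟩ := Ideal.Quotient.mk_surjective a
    obtain ⟨b, rfl⟩ := Ideal.Quotient.mk_surjective b
    have hb' : b ∉ p := fun hbp => nonZeroDivisors.ne_zero hb (Ideal.Quotient.eq_zero_iff_mem.mpr hbp)
    refine ⟨a, b, hb', ?_⟩
    have hbk : algebraMap A k b ≠ 0 := fun h => hb' (Ideal.algebraMap_residueField_eq_zero.mp h)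
    show algebraMap A k b * (algebraMap A k a / algebraMap A k b) = algebraMap A k a
    rw [mul_div_cancel₀ _ hbk]
  have hspanM : Submodule.span k (Set.range ((TensorProduct.mk A k M) 1)) = ⊤ := by
    rw [eq_top_iff]
    rintro z -
    induction z using TensorProduct.induction_on with
    | zero => exact zero_mem _
    | tmul c m =>
      rw [← mul_one c, ← smul_eq_mul, ← TensorProduct.smul_tmul']
      exact Submodule.smul_mem _ _ (Submodule.subset_span ⟨m, rfl⟩)
    | add x y hx hy => exact add_mem hx hy
  let bk := Module.Basis.ofSpan hspanM.ge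
  haveI : Fintype _ := FiniteDimensional.fintypeBasisIndex bk
  have hbk : ∀ l, ∃ m : M, (1 : k) ⊗ₜ m = bk l := fun l => Module.Basis.ofSpan_subset hspanM.ge ⟨l, rfl⟩
  choose x hx using hbk
  -- `x` generates `M` near `p`
  let P := Fintype.linearCombination A x
  let Q := M ⧸ LinearMap.range P
  haveI : Subsingleton (k ⊗[A] Q) := by
    have hsj : Function.Surjective ((LinearMap.range P).mkQ.baseChange k) :=
      LinearMap.lTensor_surjective k (Submodule.mkQ_surjective _)
    have hz : (LinearMap.range P).mkQ.baseChange k = 0 := bk.ext fun l => by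
      rw [← hx l, LinearMap.baseChange_tmul, LinearMap.zero_apply,
        Submodule.mkQ_apply, (Submodule.Quotient.mk_eq_zero (LinearMap.range P)).mpr (⟨Pi.single l 1, by simp [P]⟩ : x l ∈ LinearMap.range P), TensorProduct.tmul_zero]
    exact subsingleton_of_forall_eq 0 fun z => by
      obtain ⟨y, rfl⟩ := hsj z
      rw [hz, LinearMap.zero_apply]
  have hp : (⟨p, inferInstance⟩ : PrimeSpectrum A) ∉ Module.support A Q := by
    rw [Module.mem_support_iff_nontrivial_residueField_tensorProduct]
    exact not_nontrivial_iff_subsingleton.mpr ‹_›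
  rw [Module.support_eq_zeroLocus, PrimeSpectrum.mem_zeroLocus, SetLike.coe_subset_coe, SetLike.not_le_iff_exists] at hp
  obtain ⟨f, hf, hfp⟩ := hp
  rw [Module.mem_annihilator] at hf
  -- functionals separating the images
  let bF := Module.Free.chooseBasis A F
  let bkF := Algebra.TensorProduct.basis k bF
  let vK : _ → k ⊗[A] F := fun l => (1 : k) ⊗ₜ i (u (x l))
  have hinj : Function.Injective ((i ∘ₗ u).lTensor k) := by
    have hi : Function.Injective (i.lTensor k) := Function.LeftInverse.injective (g := r.lTensor k) fun z => by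
      rw [← LinearMap.comp_apply, ← LinearMap.lTensor_comp, hri, LinearMap.lTensor_id, LinearMap.id_apply]
    rw [LinearMap.lTensor_comp, LinearMap.coe_comp]
    exact hi.comp h
  have hli : LinearIndependent k vK := by
    have := bk.linearIndependent.map' ((i ∘ₗ u).baseChange k) (LinearMap.ker_eq_bot.mpr hinj)
    rw [show vK = ⇑((i ∘ₗ u).baseChange k) ∘ bk from funext fun l => by simp [vK, ← hx l]]
    exact this
  obtain ⟨G, hG⟩ := (Finsupp.linearCombination k vK).exists_leftInverse_of_injective (LinearMap.ker_eq_bot.mpr hli)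
  let T : Finset _ := Finset.univ.biUnion fun l => (bF.repr (i (u (x l)))).support
  choose ca cd hcd hca using fun l (j : T) => hsurjk (G (bkF j) l)
  set dd := ∏ l, ∏ j : T, cd l j with hdd
  have hddp : dd ∉ p := fun hmem => by
    obtain ⟨l, -, hl⟩ := Ideal.IsPrime.prod_mem_iff.mp hmem
    obtain ⟨j, -, hj⟩ := Ideal.IsPrime.prod_mem_iff.mp hl
    exact hcd l j hj
  have hdvd : ∀ l (j : T), cd l j ∣ dd := fun l j =>
    (Finset.dvd_prod_of_mem (cd l) (Finset.mem_univ j)).trans (Finset.dvd_prod_of_mem (fun l => ∏ j : T, cd l j) (Finset.mem_univ l))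
  choose ce hce using hdvd
  let ψ := LinearMap.pi fun l => ((∑ j : T, (ce l j * ca l j) • bF.coord j) ∘ₗ i : N →ₗ[A] A)
  let W : Matrix _ _ A := Matrix.of fun l l' => ψ (u (x l')) l
  have hW : W.map (algebraMap A k) = algebraMap A k dd • 1 := by
    ext l l'
    have hexp : vK l' = ∑ j : T, algebraMap A k (bF.repr (i (u (x l'))) j) • bkF j := by
      have h1 : i (u (x l')) = ∑ j : T, bF.repr (i (u (x l'))) j • bF j := by
        conv_lhs => rw [← bF.linearCombination_repr (i (u (x l')))]
        rw [Finsupp.linearCombination_apply, Finsupp.sum_of_support_subset _ (s := T)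
          (fun q hq => Finset.mem_biUnion.mpr ⟨l', Finset.mem_univ _, hq⟩) (fun q a => a • bF q) (by simp)]
        exact (Finset.sum_coe_sort T fun q => bF.repr (i (u (x l'))) q • bF q).symm
      simp only [vK]
      conv_lhs => rw [h1]
      simp [TensorProduct.tmul_sum, bkF, algebraMap_smul]
    have hGv : G (vK l') l = if l' = l then 1 else 0 := by
      have := LinearMap.congr_fun hG (Finsupp.single l' 1)
      simp only [LinearMap.comp_apply, Finsupp.linearCombination_single, one_smul, LinearMap.id_apply] at this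
      rw [this, Finsupp.single_apply]
    rw [hexp, map_sum, Finsupp.finsetSum_apply] at hGv
    simp only [map_smul, Finsupp.smul_apply, smul_eq_mul] at hGv
    simp only [W, ψ, Matrix.map_apply, Matrix.of_apply, LinearMap.pi_apply, LinearMap.comp_apply, LinearMap.sum_apply,
      LinearMap.smul_apply, Module.Basis.coord_apply, smul_eq_mul, map_sum, map_mul, Matrix.smul_apply]
    rw [Matrix.one_apply, show (if l = l' then (1 : k) else 0) = if l' = l then 1 else 0 by simp [eq_comm], ← hGv,
      Finset.mul_sum]
    refine Finset.sum_congr rfl fun j _ => ?_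
    rw [← hca, hce l j, map_mul]
    ring
  have hD : W.det ∉ p := fun hmem => by
    have h0 := Ideal.algebraMap_residueField_eq_zero.mpr hmem
    rw [RingHom.map_det, RingHom.mapMatrix_apply, hW, Matrix.det_smul, Matrix.det_one, mul_one] at h0
    exact hddp (Ideal.algebraMap_residueField_eq_zero.mp (pow_eq_zero_iff'.mp h0).1)
  refine ⟨f * W.det, fun hm => ((Ideal.IsPrime.mem_or_mem ‹_› hm).elim hfp hD), f • (P ∘ₗ Matrix.mulVecLin W.adjugate ∘ₗ ψ), ?_⟩
  have hkey : ∀ c, P (W.adjugate.mulVec (ψ (u (P c)))) = W.det • P c := by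
    intro c
    have h1 : ψ (u (P c)) = W.mulVec c := by
      funext l
      simp [P, W, Matrix.mulVec, dotProduct, Fintype.linearCombination_apply, map_sum, mul_comm]
    rw [h1, Matrix.mulVec_mulVec, Matrix.adjugate_mul, Matrix.smul_mulVec, Matrix.one_mulVec, map_smul]
  refine LinearMap.ext fun m => ?_
  obtain ⟨c, hc⟩ : f • m ∈ LinearMap.range P := by
    rw [← Submodule.Quotient.mk_eq_zero, Submodule.Quotient.mk_smul]
    exact hf _
  simp only [LinearMap.comp_apply, LinearMap.smul_apply, LinearMap.id_apply, Matrix.mulVecLin_apply]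
  rw [← map_smul P, ← Matrix.mulVec_smul, ← map_smul ψ, ← map_smul u, ← hc, hkey, hc, smul_smul, mul_comm]


open TensorProduct in
/-- Let A be a ring, M an A-module of finite type, N a projective A-module, u : M → N a homomorphism.
For a prime ideal 𝔭 the following are equivalent: (a) u_𝔭 : M_𝔭 → N_𝔭 is left invertible; (b) u ⊗ 1
: M ⊗ k(𝔭) → N ⊗ k(𝔭) is injective; (d) there is f ∉ 𝔭 with u_f : M_f → N_f left invertible.
Moreover the set of such 𝔭 is open in Spec A. (The published statement also has a determinant
criterion (c); this row omits it.) -/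
theorem result {A : Type u} [CommRing A] {M N : Type u} [AddCommGroup M] [Module A M]
    [Module.Finite A M] [AddCommGroup N] [Module A N] [Module.Projective A N] (u : M →ₗ[A] N) :
    (∀ p : PrimeSpectrum A,
      [∃ w : LocalizedModule p.asIdeal.primeCompl N →ₗ[A] LocalizedModule p.asIdeal.primeCompl M,
          w ∘ₗ LocalizedModule.map p.asIdeal.primeCompl u = LinearMap.id,
       Function.Injective (u.lTensor p.asIdeal.ResidueField),
       ∃ f : A, f ∉ p.asIdeal ∧
          ∃ w : LocalizedModule (Submonoid.powers f) N →ₗ[A] LocalizedModule (Submonoid.powers f) M,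
            w ∘ₗ LocalizedModule.map (Submonoid.powers f) u = LinearMap.id].TFAE) ∧
    IsOpen {p : PrimeSpectrum A |
      ∃ w : LocalizedModule p.asIdeal.primeCompl N →ₗ[A] LocalizedModule p.asIdeal.primeCompl M,
        w ∘ₗ LocalizedModule.map p.asIdeal.primeCompl u = LinearMap.id} := by
  have hab : ∀ p : PrimeSpectrum A, Split u p.asIdeal →
      ∃ w : LocalizedModule p.asIdeal.primeCompl N →ₗ[A] LocalizedModule p.asIdeal.primeCompl M,
        w ∘ₗ LocalizedModule.map p.asIdeal.primeCompl u = LinearMap.id := fun p ⟨s, hs, g, hg⟩ =>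
    localized_of_split u p.asIdeal.primeCompl hs g hg
  refine ⟨fun p => ?_, ?_⟩
  · tfae_have 1 → 2 := inj_of_localized u p.asIdeal _ le_rfl
    tfae_have 2 → 1 := fun h => hab p (split_of_inj u p.asIdeal h)
    tfae_have 2 → 3 := fun h => by
      obtain ⟨s, hs, g, hg⟩ := split_of_inj u p.asIdeal h
      exact ⟨s, hs, localized_of_split u (Submonoid.powers s) (Submonoid.mem_powers s) g hg⟩
    tfae_have 3 → 2 := fun ⟨f, hf, hw⟩ =>
      inj_of_localized u p.asIdeal _ (Submonoid.powers_le.mpr hf) hw
    tfae_finish
  · rw [isOpen_iff_forall_mem_open]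
    intro p hp
    obtain ⟨s, hs, g, hg⟩ := split_of_inj u p.asIdeal (inj_of_localized u p.asIdeal _ le_rfl hp)
    exact ⟨PrimeSpectrum.basicOpen s, fun q hq => hab q ⟨s, hq, g, hg⟩, (PrimeSpectrum.basicOpen s).2, hs⟩

end Groth.Agent.S4530
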