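import Groth.Statements.S4531
import Mathlib
-- import your own Groth.Agent.* helpers here

set_option autoImplicit false
universe u
open EGA41

namespace Groth.Agent.S4531

open TensorProduct in
/-- Let A be a ring, M an A-module of finite type, N a projective A-module and u : M → N a homomorphism.
(i) u is left invertible if and only if u_𝔪 : M_𝔪 → N_𝔪 is left invertible for every maximal ideal 𝔪
of A. (ii) If A' is an A-algebra which is a faithfully flat A-module, u is left invertible if and
only if u ⊗ 1 : M ⊗_A A' → N ⊗_A A' is left invertible (as an A'-linear map). -/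
theorem result {A : Type u} [CommRing A] {M N : Type u} [AddCommGroup M] [Module A M]
    [Module.Finite A M] [AddCommGroup N] [Module A N] [Module.Projective A N] (u : M →ₗ[A] N) :
    ((∃ w : N →ₗ[A] M, w ∘ₗ u = LinearMap.id) ↔
      ∀ (m : Ideal A) [m.IsMaximal],
        ∃ w : LocalizedModule m.primeCompl N →ₗ[A] LocalizedModule m.primeCompl M,
          w ∘ₗ LocalizedModule.map m.primeCompl u = LinearMap.id) ∧
    ∀ (A' : Type u) [CommRing A'] [Algebra A A'] [Module.FaithfullyFlat A A'],
      (∃ w : N →ₗ[A] M, w ∘ₗ u = LinearMap.id) ↔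
        ∃ w : A' ⊗[A] N →ₗ[A'] A' ⊗[A] M, w ∘ₗ u.baseChange A' = LinearMap.id := by
  classical
  obtain ⟨k, m, hm⟩ := Module.Finite.exists_fin (R := A) (M := M)
  obtain ⟨s, hs⟩ := Module.projective_def.1 ‹Module.Projective A N›
  set I : Finset N := Finset.univ.biUnion fun j => (s (u (m j))).support with hI
  have hdec : ∀ j, u (m j) = ∑ i ∈ I, s (u (m j)) i • i := fun j => by
    conv_lhs => rw [← hs (u (m j))]
    rw [Finsupp.linearCombination_apply,
      Finsupp.sum_of_support_subset _ (Finset.subset_biUnion_of_mem (fun j => (s (u (m j))).support) (Finset.mem_univ j)) _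
        (fun i _ => zero_smul A i)]
    rfl
  let ψ : (I → M) →ₗ[A] (Fin k → M) := LinearMap.pi fun j => ∑ i : I, s (u (m j)) i.1 • LinearMap.proj i
  have hsolve : m ∈ LinearMap.range ψ → ∃ w : N →ₗ[A] M, w ∘ₗ u = LinearMap.id := by
    rintro ⟨y, hy⟩
    refine ⟨∑ i : I, (((Finsupp.lapply i.1).comp s).smulRight (y i)), LinearMap.ext_on_range hm fun j => ?_⟩
    have h := congrFun hy j
    simpa [ψ, LinearMap.sum_apply] using h
  refine ⟨⟨fun ⟨w, hw⟩ mm _ => ⟨LocalizedModule.map mm.primeCompl w, LinearMap.ext fun z => ?_⟩, fun h => hsolve ?_⟩,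
    fun A' _ _ _ => ⟨fun ⟨w, hw⟩ => ⟨w.baseChange A', ?_⟩, fun ⟨w, hw⟩ => hsolve ?_⟩⟩
  · induction z using LocalizedModule.induction_on with
    | h a t =>
      simp only [LinearMap.comp_apply, LinearMap.coe_restrictScalars, LinearMap.id_apply]
      rw [LocalizedModule.map_mk, LocalizedModule.map_mk, show w (u a) = a from LinearMap.congr_fun hw a]
  · by_contra hne
    let J : Ideal A := Submodule.comap (LinearMap.toSpanSingleton A (Fin k → M) m) (LinearMap.range ψ)
    have hJ : J ≠ ⊤ := fun hJ => hne (by
      have h1 : (1 : A) ∈ J := hJ.symm ▸ Submodule.mem_top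
      simpa [J] using h1)
    obtain ⟨mm, hmm, hle⟩ := Ideal.exists_le_maximal J hJ
    obtain ⟨w, hw⟩ := h mm
    let g := LocalizedModule.mkLinearMap mm.primeCompl M
    have hy : ∀ j, g (m j) = ∑ i : I, s (u (m j)) i.1 • w (LocalizedModule.mkLinearMap mm.primeCompl N i.1) := by
      intro j
      calc g (m j) = w (LocalizedModule.map mm.primeCompl u (g (m j))) := (LinearMap.congr_fun hw _).symm
        _ = w (LocalizedModule.mkLinearMap mm.primeCompl N (u (m j))) := by
              simp [g, LocalizedModule.mkLinearMap_apply, LocalizedModule.map_mk]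
        _ = _ := by
              conv_lhs => rw [hdec j, ← Finset.sum_coe_sort I]
              simp only [map_sum, map_smul, LinearMap.map_smul_of_tower]
    obtain ⟨t, ht⟩ := IsLocalizedModule.exist_integer_multiples_of_finite mm.primeCompl g
      (fun i : I => w (LocalizedModule.mkLinearMap mm.primeCompl N i.1))
    choose y hy' using ht
    have hz : ∀ j, g ((t : A) • m j) = g (∑ i : I, s (u (m j)) i.1 • y i) := fun j => by
      rw [map_smul, hy j, Finset.smul_sum, map_sum]
      refine Finset.sum_congr rfl fun i _ => ?_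
      rw [map_smul, hy' i, smul_comm]
    choose c hc using fun j => (IsLocalizedModule.eq_iff_exists mm.primeCompl g).1 (hz j)
    have hmem : (∏ j, (c j : A)) * t ∈ J := by
      refine ⟨fun i => (∏ j, (c j : A)) • y i, ?_⟩
      funext j
      simp only [ψ, LinearMap.pi_apply, LinearMap.sum_apply, LinearMap.smul_apply, LinearMap.proj_apply,
        LinearMap.toSpanSingleton_apply, Pi.smul_apply]
      rw [Finset.sum_congr rfl fun i _ => smul_comm (s (u (m j)) i.1) (∏ j, (c j : A)) (y i), ← Finset.smul_sum,
        ← Finset.mul_prod_erase Finset.univ (fun j => (c j : A)) (Finset.mem_univ j), mul_comm (c j : A),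
        mul_smul, mul_assoc, mul_smul, mul_smul]
      exact congrArg _ (hc j).symm
    exact mm.primeCompl.mul_mem (prod_mem fun j _ => (c j).2) t.2 (hle hmem)
  · rw [← LinearMap.baseChange_comp, hw, LinearMap.baseChange_id]
  · rw [← Submodule.Quotient.mk_eq_zero]
    refine (Module.FaithfullyFlat.one_tmul_eq_zero_iff (R := A) (A := A') (M := (Fin k → M) ⧸ LinearMap.range ψ) _).1 ?_
    have hrange : (1 : A') ⊗ₜ[A] m ∈ LinearMap.range (ψ.baseChange A') := by
      refine ⟨∑ i : I, (LinearMap.single A (fun _ : I => M) i).baseChange A' (w (1 ⊗ₜ i.1)), ?_⟩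
      have hψ : ∀ i : I, ψ ∘ₗ LinearMap.single A (fun _ : I => M) i =
          ∑ j, s (u (m j)) i.1 • LinearMap.single A (fun _ : Fin k => M) j := fun i => by
        refine LinearMap.ext fun x => funext fun j => ?_
        simp [ψ, LinearMap.sum_apply, Pi.single_apply, Finset.sum_apply]
      calc ψ.baseChange A' (∑ i : I, (LinearMap.single A (fun _ : I => M) i).baseChange A' (w (1 ⊗ₜ i.1)))
          = ∑ i : I, ∑ j, s (u (m j)) i.1 • (LinearMap.single A (fun _ : Fin k => M) j).baseChange A' (w (1 ⊗ₜ i.1)) := by
            rw [map_sum]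
            refine Finset.sum_congr rfl fun i _ => ?_
            rw [← LinearMap.comp_apply, ← LinearMap.baseChange_comp, hψ i]
            rw [show (∑ j, s (u (m j)) i.1 • LinearMap.single A (fun _ : Fin k => M) j).baseChange A' =
                ∑ j, s (u (m j)) i.1 • (LinearMap.single A (fun _ : Fin k => M) j).baseChange A' from
                (map_sum (LinearMap.baseChangeHom A A' M (Fin k → M))
                    (fun j => s (u (m j)) i.1 • LinearMap.single A (fun _ : Fin k => M) j) Finset.univ).trans
                  (Finset.sum_congr rfl fun j _ => map_smul (LinearMap.baseChangeHom A A' M (Fin k → M)) _ _)]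
            simp [LinearMap.sum_apply]
        _ = ∑ j, (LinearMap.single A (fun _ : Fin k => M) j).baseChange A' (w (u.baseChange A' (1 ⊗ₜ m j))) := by
            rw [Finset.sum_comm]
            refine Finset.sum_congr rfl fun j _ => ?_
            rw [LinearMap.baseChange_tmul]
            conv_rhs => rw [hdec j, ← Finset.sum_coe_sort I]
            simp only [TensorProduct.tmul_sum, TensorProduct.tmul_smul, map_sum, LinearMap.map_smul_of_tower]
        _ = (1 : A') ⊗ₜ[A] m := by
            have hwj : ∀ j, w (u.baseChange A' (1 ⊗ₜ m j)) = 1 ⊗ₜ m j := fun j => LinearMap.congr_fun hw _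
            simp only [hwj]
            simp only [LinearMap.baseChange_tmul]
            rw [← TensorProduct.tmul_sum]
            congr 1
            funext j
            simp [Pi.single_apply, Finset.sum_apply]
    obtain ⟨z, hz⟩ := hrange
    have : (LinearMap.range ψ).mkQ.baseChange A' (ψ.baseChange A' z) = 0 := by
      rw [← LinearMap.comp_apply, ← LinearMap.baseChange_comp, LinearMap.range_mkQ_comp, LinearMap.baseChange_zero]
      rfl
    rwa [hz, LinearMap.baseChange_tmul] at this

end Groth.Agent.S4531
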