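import Groth.Statements.S4536
-- import your own Groth.Agent.* helpers here

set_option autoImplicit false
universe u
open EGA41

namespace Groth.Agent.S4536

/-- Let A carry the 𝔞-adic and B the 𝔟-adic topology, A → B being continuous (a power of 𝔞 maps into 𝔟).
Then B is formally smooth over A if and only if for every n the (A/𝔞ⁿ)-algebra B/𝔞ⁿB, with the adic
topology of the image of 𝔟, is formally smooth over the discrete ring A/𝔞ⁿ. -/
theorem result {A B : Type u} [CommRing A] [CommRing B] [Algebra A B]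
    (𝔞 : Ideal A) (𝔟 : Ideal B) (hAB : ∃ k : ℕ, (𝔞 ^ k).map (algebraMap A B) ≤ 𝔟) :
    EGA41.IsFormallySmoothAdic A 𝔞 B 𝔟 ↔
      ∀ n : ℕ, EGA41.IsFormallySmoothAdic (A ⧸ 𝔞 ^ n) ⊥ (B ⧸ (𝔞 ^ n).map (algebraMap A B))
        (𝔟.map (Ideal.Quotient.mk ((𝔞 ^ n).map (algebraMap A B)))) := by
  have hmap : ∀ (n : ℕ) (b : B), b ∈ 𝔟 → Ideal.Quotient.mk ((𝔞 ^ n).map (algebraMap A B)) b ∈
      𝔟.map (Ideal.Quotient.mk ((𝔞 ^ n).map (algebraMap A B))) := fun n b hb => Ideal.mem_map_of_mem _ hb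
  constructor
  · intro h n C _ _ J hJ _ u hu
    letI : Algebra A C := ((algebraMap (A ⧸ 𝔞 ^ n) C).comp (algebraMap A (A ⧸ 𝔞 ^ n))).toAlgebra
    haveI : IsScalarTower A (A ⧸ 𝔞 ^ n) C := IsScalarTower.of_algebraMap_eq fun _ => rfl
    have hC : ∀ a ∈ 𝔞 ^ n, algebraMap A C a = 0 := fun a ha => by
      rw [IsScalarTower.algebraMap_apply A (A ⧸ 𝔞 ^ n) C, show algebraMap A (A ⧸ 𝔞 ^ n) a = 0 from
        Ideal.Quotient.eq_zero_iff_mem.2 ha, map_zero]
    obtain ⟨m, hm⟩ := hu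
    obtain ⟨v, hv⟩ := h C J hJ ⟨n, by rw [eq_bot_iff, Ideal.map_le_iff_le_comap]; exact fun a ha => hC a ha⟩
      ((u.restrictScalars A).comp (Ideal.Quotient.mkₐ A _)) ⟨m, fun x hx => hm _ (by
        rw [← Ideal.map_pow]; exact Ideal.mem_map_of_mem _ hx)⟩
    have hkill : (𝔞 ^ n).map (algebraMap A B) ≤ RingHom.ker v.toRingHom :=
      Ideal.map_le_iff_le_comap.2 fun a ha => by
        show v (algebraMap A B a) = 0
        rw [AlgHom.commutes, hC a ha]
    refine ⟨{ Ideal.Quotient.lift _ v.toRingHom (fun x hx => hkill hx) with commutes' := fun r => ?_ }, AlgHom.ext fun x => ?_⟩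
    · obtain ⟨a, rfl⟩ := Ideal.Quotient.mk_surjective r
      show v (algebraMap A B a) = algebraMap (A ⧸ 𝔞 ^ n) C (Ideal.Quotient.mk (𝔞 ^ n) a)
      rw [AlgHom.commutes]
      rfl
    · obtain ⟨b, rfl⟩ := Ideal.Quotient.mk_surjective x
      exact AlgHom.congr_fun hv b
  · intro h C _ _ J hJ hCd u hu
    obtain ⟨n, hn⟩ := hCd
    have hC : ∀ a ∈ 𝔞 ^ n, algebraMap A C a = 0 := fun a ha => by
      have := Ideal.mem_map_of_mem (algebraMap A C) ha
      rwa [hn, Ideal.mem_bot] at this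
    letI : Algebra (A ⧸ 𝔞 ^ n) C := (Ideal.Quotient.lift (𝔞 ^ n) (algebraMap A C) hC).toAlgebra
    haveI : IsScalarTower A (A ⧸ 𝔞 ^ n) C := IsScalarTower.of_algebraMap_eq fun _ => rfl
    have hkill : (𝔞 ^ n).map (algebraMap A B) ≤ RingHom.ker u.toRingHom :=
      Ideal.map_le_iff_le_comap.2 fun a ha => by
        show u (algebraMap A B a) = 0
        rw [AlgHom.commutes, IsScalarTower.algebraMap_apply A C (C ⧸ J), hC a ha, map_zero]
    obtain ⟨m, hm⟩ := hu
    let u' : (B ⧸ (𝔞 ^ n).map (algebraMap A B)) →ₐ[A ⧸ 𝔞 ^ n] C ⧸ J :=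
      { Ideal.Quotient.lift _ u.toRingHom (fun x hx => hkill hx) with
        commutes' := fun r => by
          obtain ⟨a, rfl⟩ := Ideal.Quotient.mk_surjective r
          show u (algebraMap A B a) = _
          rw [AlgHom.commutes]
          rfl }
    obtain ⟨v, hv⟩ := h n C J hJ ⟨1, by simp⟩ u' ⟨m, fun x hx => by
      rw [← Ideal.map_pow] at hx
      obtain ⟨b, hb, rfl⟩ := (Ideal.mem_map_iff_of_surjective _ Ideal.Quotient.mk_surjective).1 hx
      exact hm b hb⟩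
    refine ⟨(v.restrictScalars A).comp (Ideal.Quotient.mkₐ A _), AlgHom.ext fun b => ?_⟩
    exact AlgHom.congr_fun hv (Ideal.Quotient.mk _ b)

end Groth.Agent.S4536
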