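import Groth.Statements.S4539
import Groth.Agent.CohenRingLib.Basic
-- import your own Groth.Agent.* helpers here

set_option autoImplicit false
universe u
open EGA41

namespace Groth.Agent.S4539

open IsLocalRing in
/-- Let A be a local ring with residue characteristic p (p = 0 or a prime), P the prime local ring ℤ_(p)
(ℚ if p = 0) and P → A its unique local homomorphism. Then A is a Cohen ring, i.e. a Cohen P-algebra
— Noetherian and complete, flat over P, with pA its maximal ideal (and residue field separable over
the prime field) — if and only if A is a field of characteristic 0 or a complete discrete valuation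
ring of residue characteristic > 0 whose maximal ideal is generated by p·1. -/
theorem result (p : ℕ) [hp : (Ideal.span {(p : ℤ)}).IsPrime]
    {A : Type} [CommRing A] [IsLocalRing A] [CharP (ResidueField A) p]
    [Algebra (Localization.AtPrime (Ideal.span {(p : ℤ)})) A]
    [IsLocalHom (algebraMap (Localization.AtPrime (Ideal.span {(p : ℤ)})) A)] :
    EGA41.IsCohenAlgebra (Localization.AtPrime (Ideal.span {(p : ℤ)})) A ↔ EGA41.IsCohenRingEGA A := by
  haveI h0 : @IsLocalization ℤ _ (Ideal.span {(p : ℤ)}).primeCompl (Localization.AtPrime (Ideal.span {(p : ℤ)})) _
      (Ring.toIntAlgebra _) := by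
    have h1 := @Localization.isLocalization ℤ _ (Ideal.span {(p : ℤ)}).primeCompl
    convert! h1
    exact Subsingleton.elim _ _
  exact ⟨Groth.Agent.CohenRingLib.isCohenRingEGA_of_isCohenAlgebra p _,
    Groth.Agent.CohenRingLib.isCohenAlgebra_of_isCohenRingEGA p _⟩

end Groth.Agent.S4539
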