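import Groth.Statements.S4545
import Groth.Agent.ImperfLib.Admissible
import Mathlib
open scoped TensorProduct
open Groth.Agent.ImperfLib
-- import your own Groth.Agent.* helpers here

set_option autoImplicit false
universe u
open EGA41

namespace Groth.Agent.S4545

open TensorProduct in
/-- Let K be a field of characteristic p > 0, k₀ a subfield and (k_α) a decreasing filtered family of
subfields of K containing k₀. Then ⋂_α k_α(K^p) = k₀(K^p) if and only if for every extension L of K
such that Υ_{L/K/k₀} has finite rank over L there is an α with k_α admissible for L over K relative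
to k₀, i.e. with Υ_{L/K/k₀} → Υ_{L/K/k_α} injective. (The published statement has two further
equivalent conditions; this row states (a) ⇔ (b).) -/
theorem result (p : ℕ) [Fact p.Prime] {k₀ K : Type u}
    [Field k₀] [Field K] [Algebra k₀ K] [CharP K p]
    {ι : Type u} [Preorder ι] [IsDirected ι (· ≤ ·)] [Nonempty ι] (k : ι → IntermediateField k₀ K) (hk : Antitone k) :
    (⨅ i, k i ⊔ IntermediateField.adjoin k₀ (Set.range fun y : K => y ^ p)) =
        IntermediateField.adjoin k₀ (Set.range fun y : K => y ^ p) ↔
      ∀ (L : Type u) [Field L] [Algebra K L] [Algebra k₀ L] [IsScalarTower k₀ K L],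
        Module.Finite L (EGA41.imperfection k₀ K L) →
          ∃ i, ∀ ω ∈ EGA41.imperfection k₀ K L,
            ((KaehlerDifferential.map k₀ (k i) K K).restrictScalars K).baseChange L ω = 0 → ω = 0 := by
  classical
  constructor
  · intro h L _ _ _ _ hfin
    obtain ⟨i, hi⟩ := exists_admissible p k hk h (EGA41.imperfection k₀ K L) (Module.Finite.iff_fg.1 hfin)
    exact ⟨i, hi i le_rfl⟩
  · intro h
    refine le_antisymm ?_ (le_iInf fun i => le_sup_right)
    intro x hx
    rw [← SetLike.mem_coe, IntermediateField.coe_iInf, Set.mem_iInter] at hx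
    refine (mem_adjoin_pow_iff p x).2 (mem_pPower_of_D_eq_zero p ?_)
    by_contra hne
    have hirr : Irreducible (Polynomial.X ^ p - Polynomial.C x) :=
      X_pow_sub_C_irreducible_of_prime Fact.out fun b hb =>
        hne (D_eq_zero_of_mem_pPower p (hb ▸ PBasisLib.pow_mem_pPower p b))
    haveI := Fact.mk hirr
    let L := AdjoinRoot (Polynomial.X ^ p - Polynomial.C x)
    haveI : CharP L p := charP_of_injective_algebraMap (algebraMap K L).injective p
    let θ : L := AdjoinRoot.root (Polynomial.X ^ p - Polynomial.C x)
    have hθ : θ ^ p = algebraMap K L x := by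
      have h1 : (Polynomial.X ^ p - Polynomial.C x).eval₂ (AdjoinRoot.of _) θ = 0 := AdjoinRoot.eval₂_root _
      rwa [Polynomial.eval₂_sub, Polynomial.eval₂_X_pow, Polynomial.eval₂_C, sub_eq_zero] at h1
    let W : Submodule L (L ⊗[K] Ω[K⁄k₀]) := Submodule.span L {(1 : L) ⊗ₜ KaehlerDifferential.D k₀ K x}
    let N := (L ⊗[K] Ω[K⁄k₀]) ⧸ W
    haveI : IsCentralScalar L N := inferInstance
    let σ₀ : K →+* TrivSqZeroExt L N :=
      { toFun := fun a => (algebraMap K L a, W.mkQ ((1 : L) ⊗ₜ KaehlerDifferential.D k₀ K a))
        map_one' := TrivSqZeroExt.ext (map_one _) (by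
          show W.mkQ ((1 : L) ⊗ₜ KaehlerDifferential.D k₀ K 1) = 0
          simp)
        map_zero' := TrivSqZeroExt.ext (map_zero _) (by
          show W.mkQ ((1 : L) ⊗ₜ KaehlerDifferential.D k₀ K 0) = 0
          simp)
        map_add' := fun a b => TrivSqZeroExt.ext (map_add _ _ _) (by
          show W.mkQ ((1 : L) ⊗ₜ KaehlerDifferential.D k₀ K (a + b)) = _ + _
          rw [map_add, TensorProduct.tmul_add, map_add])
        map_mul' := fun a b => TrivSqZeroExt.ext (map_mul _ _ _) (by
          rw [TrivSqZeroExt.snd_mul, op_smul_eq_smul]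
          show W.mkQ ((1 : L) ⊗ₜ KaehlerDifferential.D k₀ K (a * b)) =
            algebraMap K L a • W.mkQ ((1 : L) ⊗ₜ KaehlerDifferential.D k₀ K b) +
              algebraMap K L b • W.mkQ ((1 : L) ⊗ₜ KaehlerDifferential.D k₀ K a)
          rw [Derivation.leibniz, TensorProduct.tmul_add, TensorProduct.tmul_smul, TensorProduct.tmul_smul,
            map_add, algebraMap_smul, algebraMap_smul, ← LinearMap.map_smul_of_tower, ← LinearMap.map_smul_of_tower]) }
    let θ' : TrivSqZeroExt L N := TrivSqZeroExt.inl θ
    have hθ' : (Polynomial.X ^ p - Polynomial.C x).eval₂ σ₀ θ' = 0 := by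
      rw [Polynomial.eval₂_sub, Polynomial.eval₂_X_pow, Polynomial.eval₂_C, sub_eq_zero]
      show TrivSqZeroExt.inl θ ^ p = σ₀ x
      rw [TrivSqZeroExt.inl_pow, hθ]
      refine TrivSqZeroExt.ext rfl ?_
      show (0 : N) = W.mkQ ((1 : L) ⊗ₜ KaehlerDifferential.D k₀ K x)
      exact ((Submodule.Quotient.mk_eq_zero W).2 (Submodule.mem_span_singleton_self _)).symm
    let σ : L →+* TrivSqZeroExt L N := AdjoinRoot.lift σ₀ θ' hθ'
    have hσof : ∀ a : K, σ (algebraMap K L a) = σ₀ a := fun a => AdjoinRoot.lift_of hθ'
    have hfst : ∀ l : L, (σ l).fst = l := by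
      intro l
      induction l using AdjoinRoot.induction_on with
      | ih P =>
        show (AdjoinRoot.lift σ₀ θ' hθ' (AdjoinRoot.mk _ P)).fst = _
        rw [AdjoinRoot.lift_mk]
        induction P using Polynomial.induction_on' with
        | add P Q hP hQ => rw [Polynomial.eval₂_add, TrivSqZeroExt.fst_add, hP, hQ, map_add]
        | monomial m a =>
          rw [Polynomial.eval₂_monomial, TrivSqZeroExt.fst_mul, TrivSqZeroExt.fst_pow, TrivSqZeroExt.fst_inl,
            ← Polynomial.C_mul_X_pow_eq_monomial, map_mul, map_pow, AdjoinRoot.mk_X, AdjoinRoot.mk_C]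
          rfl
    let D' : Derivation k₀ L N :=
      { toFun := fun l => (σ l).snd
        map_add' := fun a b => by rw [map_add, TrivSqZeroExt.snd_add]
        map_smul' := fun c l => by
          show (σ (c • l)).snd = c • (σ l).snd
          rw [Algebra.smul_def, IsScalarTower.algebraMap_apply k₀ K L, map_mul, TrivSqZeroExt.snd_mul, hσof, hfst]
          show algebraMap K L (algebraMap k₀ K c) • (σ l).snd +
            MulOpposite.op l • W.mkQ ((1 : L) ⊗ₜ KaehlerDifferential.D k₀ K (algebraMap k₀ K c)) = _
          rw [Derivation.map_algebraMap, TensorProduct.tmul_zero, map_zero, smul_zero, add_zero,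
            ← IsScalarTower.algebraMap_apply k₀ K L, algebraMap_smul]
        map_one_eq_zero' := by
          show (σ 1).snd = 0
          rw [map_one, TrivSqZeroExt.snd_one]
        leibniz' := fun a b => by
          show (σ (a * b)).snd = a • (σ b).snd + b • (σ a).snd
          rw [map_mul, TrivSqZeroExt.snd_mul, hfst, hfst, op_smul_eq_smul] }
    have hcomp : ∀ ω : L ⊗[K] Ω[K⁄k₀],
        D'.liftKaehlerDifferential (KaehlerDifferential.mapBaseChange k₀ K L ω) = W.mkQ ω := by
      intro ω
      induction ω using TensorProduct.induction_on with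
      | zero => simp
      | add a b ha hb => rw [map_add, map_add, ha, hb, map_add]
      | tmul l η =>
        have hη : η ∈ Submodule.span K (Set.range (KaehlerDifferential.D k₀ K)) := by
          rw [KaehlerDifferential.span_range_derivation]; trivial
        rw [KaehlerDifferential.mapBaseChange_tmul, map_smul]
        induction hη using Submodule.span_induction with
        | mem v hv =>
          obtain ⟨a, rfl⟩ := hv
          rw [KaehlerDifferential.map_D, Derivation.liftKaehlerDifferential_comp_D]
          show l • (σ (algebraMap K L a)).snd = _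
          rw [hσof, show l ⊗ₜ[K] KaehlerDifferential.D k₀ K a = l • ((1 : L) ⊗ₜ KaehlerDifferential.D k₀ K a) by
            rw [TensorProduct.smul_tmul', smul_eq_mul, mul_one], map_smul]
          rfl
        | zero => simp
        | add a b _ _ ha hb => rw [map_add, map_add, smul_add, ha, hb, TensorProduct.tmul_add, map_add]
        | smul r a _ ha =>
          rw [map_smul, LinearMap.map_smul_of_tower, smul_comm, ha, TensorProduct.tmul_smul, LinearMap.map_smul_of_tower]
    have hle : EGA41.imperfection k₀ K L ≤ W := by
      intro ω hω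
      have h1 := hcomp ω
      rw [LinearMap.mem_ker.1 hω, map_zero] at h1
      exact (Submodule.Quotient.mk_eq_zero W).1 h1.symm
    haveI : IsNoetherian L W := isNoetherian_of_fg_of_noetherian W (Submodule.fg_span_singleton _)
    haveI hfin : Module.Finite L (EGA41.imperfection k₀ K L) :=
      Module.Finite.of_injective (Submodule.inclusion hle) (Submodule.inclusion_injective hle)
    obtain ⟨i, hi⟩ := h L hfin
    have h2 : (1 : L) ⊗ₜ[K] KaehlerDifferential.D k₀ K x = 0 := by
      refine hi _ ?_ ?_
      · show _ ∈ LinearMap.ker _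
        rw [LinearMap.mem_ker, KaehlerDifferential.mapBaseChange_tmul, one_smul, KaehlerDifferential.map_D, ← hθ,
          Derivation.leibniz_pow, ← Nat.cast_smul_eq_nsmul L, CharP.cast_eq_zero L p, zero_smul]
      · have h3 : KaehlerDifferential.map k₀ (k i) K K (KaehlerDifferential.D k₀ K x) = 0 := by
          rw [KaehlerDifferential.map_D, Algebra.algebraMap_self_apply]
          exact D_eq_zero_of_mem_pPower p ((mem_sup_iff p (k i) x).1 (hx i))
        rw [LinearMap.baseChange_tmul, LinearMap.restrictScalars_apply, h3, TensorProduct.tmul_zero]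
    refine hne (Module.FaithfullyFlat.tensorProduct_mk_injective (A := K) (B := L) Ω[K⁄k₀] ?_)
    simpa using h2

end Groth.Agent.S4545
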