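import Groth.Statements.S4546
import Groth.Agent.ImperfLib.Admissible
import Mathlib
open scoped TensorProduct
open Groth.Agent.ImperfLib
-- import your own Groth.Agent.* helpers here

set_option autoImplicit false
universe u
open EGA41

namespace Groth.Agent.S4546

/-- Let K be a field of characteristic p > 0, k₀ a subfield, (k_α) a decreasing filtered family of
subfields of K containing k₀ with ⋂_α k_α(K^p) = k₀(K^p). Then for every extension L of K such that
Υ_{L/K/k₀} has finite rank over L, one has ⋂_α k_α(L^p) = k₀(L^p) (the k_α being viewed inside L). -/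
theorem result (p : ℕ) [Fact p.Prime] {k₀ K L : Type u}
    [Field k₀] [Field K] [Field L] [Algebra k₀ K] [Algebra K L] [Algebra k₀ L] [IsScalarTower k₀ K L] [CharP K p] [CharP L p]
    {ι : Type u} [Preorder ι] [IsDirected ι (· ≤ ·)] [Nonempty ι] (k : ι → IntermediateField k₀ K) (hk : Antitone k)
    (h : (⨅ i, k i ⊔ IntermediateField.adjoin k₀ (Set.range fun y : K => y ^ p)) =
      IntermediateField.adjoin k₀ (Set.range fun y : K => y ^ p))
    [Module.Finite L (EGA41.imperfection k₀ K L)] :
    (⨅ i, (k i).map (IsScalarTower.toAlgHom k₀ K L) ⊔ IntermediateField.adjoin k₀ (Set.range fun y : L => y ^ p)) =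
      IntermediateField.adjoin k₀ (Set.range fun y : L => y ^ p) := by
  classical
  refine le_antisymm ?_ (le_iInf fun i => le_sup_right)
  intro x hx
  rw [← SetLike.mem_coe, IntermediateField.coe_iInf, Set.mem_iInter] at hx
  refine (mem_adjoin_pow_iff p x).2 (mem_pPower_of_D_eq_zero p ?_)
  let U : ι → Submodule L (L ⊗[K] Ω[K⁄k₀]) := fun i =>
    Submodule.span L ((fun y => (1 : L) ⊗ₜ[K] KaehlerDifferential.D k₀ K y) '' (k i : Set K))
  let φ := KaehlerDifferential.mapBaseChange k₀ K L
  have hU : ∀ i j, i ≤ j → U j ≤ U i := fun i j hij => Submodule.span_mono (Set.image_mono fun y hy => hk hij hy)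
  have hker : ∀ i, ∀ ω ∈ U i, ((KaehlerDifferential.map k₀ (k i) K K).restrictScalars K).baseChange L ω = 0 := by
    intro i
    have h1 : U i ≤ LinearMap.ker (((KaehlerDifferential.map k₀ (k i) K K).restrictScalars K).baseChange L) := by
      refine Submodule.span_le.2 ?_
      rintro _ ⟨y, hy, rfl⟩
      rw [SetLike.mem_coe, LinearMap.mem_ker, LinearMap.baseChange_tmul]
      have h2 : KaehlerDifferential.map k₀ (k i) K K (KaehlerDifferential.D k₀ K y) = 0 := by
        rw [KaehlerDifferential.map_D]
        exact Derivation.map_algebraMap (KaehlerDifferential.D (k i) K) (⟨y, hy⟩ : k i)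
      rw [LinearMap.restrictScalars_apply, h2, TensorProduct.tmul_zero]
    exact fun ω hω => h1 hω
  have hmem : ∀ i, ∃ η ∈ U i, φ η = KaehlerDifferential.D k₀ L x := by
    intro i
    have h1 : (k i).map (IsScalarTower.toAlgHom k₀ K L) ⊔ IntermediateField.adjoin k₀ (Set.range fun y : L => y ^ p) ≤
        derivField (KaehlerDifferential.D k₀ L) ((U i).map φ) := by
      refine sup_le ?_ (IntermediateField.adjoin_le_iff.2 ?_)
      · rintro _ ⟨y, hy, rfl⟩
        refine ⟨(1 : L) ⊗ₜ KaehlerDifferential.D k₀ K y, Submodule.subset_span ⟨y, hy, rfl⟩, ?_⟩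
        show KaehlerDifferential.mapBaseChange k₀ K L ((1 : L) ⊗ₜ KaehlerDifferential.D k₀ K y) = _
        rw [KaehlerDifferential.mapBaseChange_tmul, one_smul, KaehlerDifferential.map_D]
        rfl
      · rintro _ ⟨b, rfl⟩
        exact pow_mem_derivField p (KaehlerDifferential.D k₀ L) _ b
    exact Submodule.mem_map.1 (h1 (hx i))
  obtain ⟨i, hi⟩ := exists_admissible p k hk h (EGA41.imperfection k₀ K L) (Module.Finite.iff_fg.1 inferInstance)
  obtain ⟨η, hηU, hη⟩ := hmem i
  obtain ⟨i', hi'⟩ := exists_admissible p k hk h (Submodule.span L {η}) (Submodule.fg_span_singleton η)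
  obtain ⟨j, hij, hi'j⟩ := exists_ge_ge i i'
  obtain ⟨η', hη'U, hη'⟩ := hmem j
  have h3 : η - η' ∈ EGA41.imperfection k₀ K L := by
    show η - η' ∈ LinearMap.ker φ
    rw [LinearMap.mem_ker, map_sub, hη, hη', sub_self]
  have h4 : η - η' = 0 := hi i le_rfl _ h3 (hker i _ (sub_mem hηU (hU i j hij hη'U)))
  have h5 : η = 0 := hi' j hi'j η (Submodule.mem_span_singleton_self η) (hker j η (sub_eq_zero.1 h4 ▸ hη'U))
  rw [← hη, h5, map_zero]

end Groth.Agent.S4546
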