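import Mathlib
import Groth.Agent.LeftInvLib.Basic
import Groth.Statements.S4547

set_option autoImplicit false
universe u
open EGA41

namespace Groth.Agent.S4547

open IsLocalRing TensorProduct in
/-- Let A be a local ring with residue field k, M an A-module of finite type, N a projective A-module
and u : M → N a homomorphism. Then u is left invertible if and only if there is a finite system of
generators (x_i) of M such that the elements 1 ⊗ u(x_i) of k ⊗_A N are linearly independent over k;
and such a system (x_i) is then a basis of M. -/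
theorem result {A : Type u} [CommRing A] [IsLocalRing A] {M N : Type u}
    [AddCommGroup M] [Module A M] [Module.Finite A M] [AddCommGroup N] [Module A N] [Module.Projective A N]
    (u : M →ₗ[A] N) :
    ((∃ w : N →ₗ[A] M, w ∘ₗ u = LinearMap.id) ↔
      ∃ (m : ℕ) (x : Fin m → M), Submodule.span A (Set.range x) = ⊤ ∧
        LinearIndependent (ResidueField A) (fun i => (1 : ResidueField A) ⊗ₜ[A] u (x i))) ∧
    ∀ (m : ℕ) (x : Fin m → M), Submodule.span A (Set.range x) = ⊤ →
      LinearIndependent (ResidueField A) (fun i => (1 : ResidueField A) ⊗ₜ[A] u (x i)) →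
        ∃ b : Module.Basis (Fin m) A M, ∀ i, b i = x i := by
  classical
  let k := ResidueField A
  have main : ∀ (m : ℕ) (x : Fin m → M), Submodule.span A (Set.range x) = ⊤ →
      LinearIndependent k (fun i => (1 : k) ⊗ₜ[A] u (x i)) →
      (∃ b : Module.Basis (Fin m) A M, ∀ i, b i = x i) ∧ ∃ w : N →ₗ[A] M, w ∘ₗ u = LinearMap.id := by
    intro m x hx hli
    let g : (Fin m → A) →ₗ[A] M := Fintype.linearCombination A x
    have hg : Function.Surjective g := by
      rw [← LinearMap.range_eq_top, Fintype.range_linearCombination, hx]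
    obtain ⟨l, hl⟩ : ∃ l : (k ⊗[A] N) →ₗ[k] (Fin m → k),
        l ∘ₗ Fintype.linearCombination k (fun i => (1 : k) ⊗ₜ[A] u (x i)) = LinearMap.id :=
      LinearMap.exists_leftInverse_of_injective _ (LinearMap.ker_eq_bot.2 hli.fintypeLinearCombination_injective)
    let v : N →ₗ[A] (Fin m → k) := (l.restrictScalars A) ∘ₗ (TensorProduct.mk A k N 1)
    let res : (Fin m → A) →ₗ[A] (Fin m → k) := LinearMap.pi fun i => (Algebra.linearMap A k) ∘ₗ LinearMap.proj i
    have hres : Function.Surjective res := fun f => by
      choose c hc using fun i => IsLocalRing.residue_surjective (f i)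
      exact ⟨c, funext fun i => hc i⟩
    obtain ⟨w₀, hw₀⟩ := Module.projective_lifting_property res v hres
    have hker : ∀ c : Fin m → A, res c = 0 → c ∈ (maximalIdeal A • ⊤ : Submodule A (Fin m → A)) := fun c hc => by
      rw [pi_eq_sum_univ c]
      exact Submodule.sum_mem _ fun i _ => Submodule.smul_mem_smul
        ((IsLocalRing.residue_eq_zero_iff _).1 (congrFun hc i)) Submodule.mem_top
    obtain ⟨w₁, hw₁⟩ := Groth.Agent.LeftInvLib.exists_leftInverse (maximalIdeal A)
      (Or.inr ⟨(IsLocalRing.jacobson_eq_maximalIdeal ⊥ bot_ne_top).ge, inferInstance⟩) (u ∘ₗ g) w₀ fun c => hker _ (by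
        rw [map_sub, show res (w₀ ((u ∘ₗ g) c)) = v (u (g c)) from LinearMap.congr_fun hw₀ _, sub_eq_zero]
        have : ((1 : k) ⊗ₜ[A] u (g c)) =
            Fintype.linearCombination k (fun i => (1 : k) ⊗ₜ[A] u (x i)) (res c) := by
          simp only [g, Fintype.linearCombination_apply, map_sum, map_smul, TensorProduct.tmul_sum]
          refine Finset.sum_congr rfl fun i _ => ?_
          rw [TensorProduct.tmul_smul, ← algebraMap_smul k (c i)]
          rfl
        show l ((1 : k) ⊗ₜ[A] u (g c)) = res c
        rw [this]
        exact LinearMap.congr_fun hl _)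
    have hinj : Function.Injective g := fun a b hab => by
      have ha := LinearMap.congr_fun hw₁ a
      have hb := LinearMap.congr_fun hw₁ b
      simp only [LinearMap.comp_apply, LinearMap.id_apply] at ha hb
      rw [← ha, ← hb, hab]
    refine ⟨⟨(Pi.basisFun A (Fin m)).map (LinearEquiv.ofBijective g ⟨hinj, hg⟩), fun i => ?_⟩,
      g ∘ₗ w₁, LinearMap.ext fun y => ?_⟩
    · simp [g, Fintype.linearCombination_apply, Pi.basisFun_apply, Pi.single_apply, ite_smul]
    · obtain ⟨c, rfl⟩ := hg y
      exact congrArg g (LinearMap.congr_fun hw₁ c)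
  refine ⟨⟨?_, fun ⟨m, x, hx, hli⟩ => (main m x hx hli).2⟩, fun m x hx hli => (main m x hx hli).1⟩
  rintro ⟨w, hw⟩
  haveI : Module.Projective A M := Module.Projective.of_split u w hw
  haveI : Module.Free A M := Module.free_of_flat_of_isLocalRing
  let b := Module.Free.chooseBasis A M
  let e := Fintype.equivFin (Module.Free.ChooseBasisIndex A M)
  refine ⟨_, b.reindex e, (b.reindex e).span_eq, LinearIndependent.of_comp (w.baseChange k) ?_⟩
  convert ((b.reindex e).baseChange k).linearIndependent using 1
  funext i
  rw [Function.comp_apply, LinearMap.baseChange_tmul, ← LinearMap.comp_apply (g := u), hw, LinearMap.id_apply]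
  exact (Module.Basis.baseChange_apply _ _ i).symm

end Groth.Agent.S4547
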