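import Groth.Statements.S4548
import Mathlib
import Groth.Agent.S2467
import Groth.Agent.PBasisLib.Fields

set_option autoImplicit false
universe u
open EGA41

namespace Groth.Agent.S4548

noncomputable section
open MvPowerSeries

variable {p : ℕ} [Fact p.Prime] {k : Type u} [Field k] [CharP k p] {r : ℕ}

/-- `F[[T^p]] → k[[T]]` -/
def φ (F : Subfield k) : MvPowerSeries (Fin r) F →+* MvPowerSeries (Fin r) k :=
  (MvPowerSeries.expand (R := k) p (Fact.out : p.Prime).ne_zero).toRingHom.comp (MvPowerSeries.map F.subtype)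

theorem coeff_φ_smul (F : Subfield k) (G : MvPowerSeries (Fin r) F) (q : Fin r →₀ ℕ) :
    coeff (p • q) (φ (p := p) F G) = ((coeff q G : F) : k) := by
  show coeff (p • q) (expand p (Fact.out : p.Prime).ne_zero (MvPowerSeries.map F.subtype G)) = _
  rw [coeff_expand_smul, coeff_map]; rfl

theorem coeff_φ_not_dvd (F : Subfield k) (G : MvPowerSeries (Fin r) F) {m : Fin r →₀ ℕ} {i : Fin r} (h : ¬ p ∣ m i) :
    coeff m (φ (p := p) F G) = 0 :=
  coeff_expand_of_not_dvd p (Fact.out : p.Prime).ne_zero _ h

theorem exists_smul_of_dvd {m : Fin r →₀ ℕ} (h : ∀ i, p ∣ m i) : ∃ q : Fin r →₀ ℕ, m = p • q := by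
  refine ⟨m.mapRange (· / p) (Nat.zero_div p), Finsupp.ext fun i => ?_⟩
  simp [Nat.mul_div_cancel' (h i)]

theorem mem_range_iff (F : Subfield k) (f : MvPowerSeries (Fin r) k) :
    f ∈ (φ (p := p) F).range ↔ (∀ m i, ¬ p ∣ m i → coeff m f = 0) ∧ ∀ q, coeff (p • q) f ∈ F := by
  constructor
  · rintro ⟨G, rfl⟩
    exact ⟨fun m i h => coeff_φ_not_dvd F G h, fun q => by rw [coeff_φ_smul]; exact (coeff q G).2⟩
  · rintro ⟨h1, h2⟩
    let G : MvPowerSeries (Fin r) F := fun q => ⟨coeff (p • q) f, h2 q⟩
    refine ⟨G, MvPowerSeries.ext fun m => ?_⟩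
    by_cases h : ∀ i, p ∣ m i
    · obtain ⟨q, rfl⟩ := exists_smul_of_dvd h
      rw [coeff_φ_smul]; rfl
    · push Not at h
      obtain ⟨i, hi⟩ := h
      rw [coeff_φ_not_dvd F G hi, h1 m i hi]

theorem free_finite (F : Subfield k) [FiniteDimensional F k] :
    Module.Free (φ (p := p) (r := r) F).range (MvPowerSeries (Fin r) k) ∧
      Module.Finite (φ (p := p) (r := r) F).range (MvPowerSeries (Fin r) k) := by
  classical
  have hp : 0 < p := (Fact.out : p.Prime).pos
  let β := Module.finBasis F k
  let S := (φ (p := p) (r := r) F).range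
  let ex : (Fin r → Fin p) → (Fin r →₀ ℕ) := fun e => Finsupp.equivFunOnFinite.symm fun i => (e i : ℕ)
  let mon : Fin (Module.finrank F k) × (Fin r → Fin p) → MvPowerSeries (Fin r) k := fun j => monomial (ex j.2) (β j.1)
  let Ψ := Fintype.linearCombination S mon
  have hcoef : ∀ (c : Fin (Module.finrank F k) × (Fin r → Fin p) → S) (G : Fin (Module.finrank F k) × (Fin r → Fin p) → MvPowerSeries (Fin r) F),
      (∀ j, φ (p := p) F (G j) = (c j).1) → ∀ (q : Fin r →₀ ℕ) (e : Fin r → Fin p),
        coeff (p • q + ex e) (Ψ c) = ∑ l, coeff q (G (l, e)) • β l := by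
    intro c G hG q e
    have hΨ : Ψ c = ∑ j, φ (p := p) F (G j) * mon j := by
      rw [Fintype.linearCombination_apply]
      exact Finset.sum_congr rfl fun j _ => by rw [hG j]; rfl
    rw [hΨ, map_sum, Fintype.sum_prod_type]
    refine Finset.sum_congr rfl fun l _ => ?_
    rw [Finset.sum_eq_single e]
    · show coeff (p • q + ex e) (φ (p := p) F (G (l, e)) * monomial (ex e) (β l)) = _
      rw [coeff_mul_monomial, if_pos le_add_self, add_tsub_cancel_right, coeff_φ_smul]
      rfl
    · intro e' _ hne
      show coeff (p • q + ex e) (φ (p := p) F (G (l, e')) * monomial (ex e') (β l)) = _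
      rw [coeff_mul_monomial]
      split_ifs with hle
      · obtain ⟨i, hi⟩ : ∃ i, e' i ≠ e i := not_forall.mp fun h => hne (funext h)
        rw [coeff_φ_not_dvd F _ (i := i), zero_mul]
        intro hd
        have h1 : ex e' i ≤ (p • q + ex e) i := hle i
        simp only [ex, Finsupp.coe_tsub, Pi.sub_apply, Finsupp.coe_add, Pi.add_apply, Finsupp.smul_apply, smul_eq_mul,
          Finsupp.equivFunOnFinite_symm_apply_apply] at hd h1
        obtain ⟨c, hc⟩ := hd
        apply hi
        have h2 : p * c + (e' i : ℕ) = p * q i + (e i : ℕ) := by omega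
        have h3 := congrArg (· % p) h2
        simp only [Nat.mul_add_mod_self_left, Nat.mod_eq_of_lt (e' i).isLt, Nat.mod_eq_of_lt (e i).isLt] at h3
        exact Fin.ext h3
      · rfl
    · simp
  have hdec : ∀ m : Fin r →₀ ℕ, ∃ (q : Fin r →₀ ℕ) (e : Fin r → Fin p), m = p • q + ex e := fun m => by
    refine ⟨m.mapRange (· / p) (Nat.zero_div p), fun i => ⟨m i % p, Nat.mod_lt _ hp⟩, Finsupp.ext fun i => ?_⟩
    simp [ex, Nat.div_add_mod]
  have hinj : Function.Injective Ψ := by
    refine (injective_iff_map_eq_zero Ψ).mpr fun c hc => funext fun j => ?_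
    choose G hG using fun j => (c j).2
    refine Subtype.ext ?_
    rw [← hG j]
    suffices G j = 0 by rw [this, map_zero]; rfl
    refine MvPowerSeries.ext fun q => ?_
    have h := hcoef c G hG q j.2
    rw [hc, map_zero] at h
    exact Fintype.linearIndependent_iff.mp β.linearIndependent (fun l => coeff q (G (l, j.2))) h.symm j.1
  have hsurj : Function.Surjective Ψ := by
    intro f
    let G : Fin (Module.finrank F k) × (Fin r → Fin p) → MvPowerSeries (Fin r) F :=
      fun j q => β.repr (coeff (p • q + ex j.2) f) j.1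
    refine ⟨fun j => ⟨φ (p := p) F (G j), G j, rfl⟩, MvPowerSeries.ext fun m => ?_⟩
    obtain ⟨q, e, rfl⟩ := hdec m
    rw [hcoef _ G (fun j => rfl)]
    exact β.sum_repr (coeff (p • q + ex e) f)
  let B := Module.Basis.ofEquivFun (LinearEquiv.ofBijective Ψ ⟨hinj, hsurj⟩).symm
  exact ⟨Module.Free.of_basis B, Module.Finite.of_basis B⟩

theorem mem_range_of_mul_mem (F : Subfield k) [FiniteDimensional F k] {a b h : MvPowerSeries (Fin r) k}
    (ha : a ∈ (φ (p := p) F).range) (hb : b ∈ (φ (p := p) F).range) (hb0 : b ≠ 0) (e : b * h = a) :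
    h ∈ (φ (p := p) F).range := by
  let S := (φ (p := p) (r := r) F).range
  haveI : Module.Free S (MvPowerSeries (Fin r) k) := (free_finite F).1
  haveI : Module.FaithfullyFlat S (MvPowerSeries (Fin r) k) := inferInstance
  have h1 : (⟨a, ha⟩ : S) ∈ ((Ideal.span {(⟨b, hb⟩ : S)}).map (algebraMap S (MvPowerSeries (Fin r) k))).comap
      (algebraMap S (MvPowerSeries (Fin r) k)) := by
    rw [Ideal.mem_comap, Ideal.map_span, Set.image_singleton, Ideal.mem_span_singleton]
    exact ⟨h, e.symm⟩
  rw [Ideal.comap_map_eq_self_of_faithfullyFlat, Ideal.mem_span_singleton] at h1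
  obtain ⟨⟨c, hc⟩, hc'⟩ := h1
  rwa [mul_left_cancel₀ hb0 (e.trans (congrArg Subtype.val hc'))]

theorem powRange_eq (x : k) :
    x ∈ EGA41.pPowerSubalgebra p (⊥ : Subfield k) k ↔ ∃ y, y ^ p = x := by
  constructor
  · intro hx
    induction hx using Algebra.adjoin_induction with
    | mem x hx => exact hx
    | algebraMap c =>
      have : (c : k) ∈ (frobenius k p).fieldRange := (bot_le : (⊥ : Subfield k) ≤ _) c.2
      exact this
    | add x y _ _ hx hy =>
      obtain ⟨a, rfl⟩ := hx; obtain ⟨b, rfl⟩ := hy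
      exact ⟨a + b, add_pow_char a b p⟩
    | mul x y _ _ hx hy =>
      obtain ⟨a, rfl⟩ := hx; obtain ⟨b, rfl⟩ := hy
      exact ⟨a * b, mul_pow a b p⟩
  · rintro ⟨y, rfl⟩
    exact Algebra.subset_adjoin ⟨y, rfl⟩

theorem exists_subfields : ∃ (ι : Type u) (_ : Nonempty ι) (F : ι → Subfield k),
    (∀ a b, ∃ c, F c ≤ F a ⊓ F b) ∧ (∀ i, FiniteDimensional (F i) k) ∧ (∀ i, ∀ y : k, y ^ p ∈ F i) ∧
      ∀ x, (∀ i, x ∈ F i) → ∃ y, y ^ p = x := by
  classical
  have hp : 1 < p := (Fact.out : p.Prime).one_lt
  let k₀ : Subfield k := ⊥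
  let P := EGA41.pPowerSubalgebra p k₀ k
  obtain ⟨B, -, -, hB⟩ := Groth.Agent.S2467.result p (k := k₀) (Set.univ : Set k) ∅ (Set.empty_subset _)
    (by
      rw [EGA41.IsPGenerating, eq_top_iff]
      intro x _
      refine Submodule.subset_span ⟨⟨Finsupp.single ⟨x, trivial⟩ 1, fun i => ?_⟩, ?_⟩
      · rw [Finsupp.single_apply]; split_ifs <;> omega
      · simp [EGA41.pMonomial])
    (by
      haveI : Subsingleton {e : (∅ : Set k) →₀ ℕ // ∀ i, e i < p} := ⟨fun a b => Subtype.ext (Finsupp.ext fun i => i.2.elim)⟩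
      refine LinearIndependent.of_subsingleton (v := fun e : {e : (∅ : Set k) →₀ ℕ // ∀ i, e i < p} => EGA41.pMonomial Subtype.val e.1)
        ⟨0, fun i => i.2.elim⟩ ?_
      simp [EGA41.pMonomial])
  let F : Finset B → Subfield k := fun s => Groth.Agent.PBasisLib.toSubfieldOfPow p
    (Algebra.adjoin P (Subtype.val '' ((s : Set B)ᶜ))).toSubring
    fun b => (Algebra.adjoin P _).algebraMap_mem ⟨b ^ p, Groth.Agent.PBasisLib.pow_mem_pPower p b⟩
  have hFpow : ∀ (s : Finset B) (y : k), y ^ p ∈ F s := fun s y =>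
    (Algebra.adjoin P _).algebraMap_mem ⟨y ^ p, Groth.Agent.PBasisLib.pow_mem_pPower p y⟩
  refine ⟨Finset B, inferInstance, F, fun a b => ⟨a ∪ b, le_inf ?_ ?_⟩, fun s => ?_, hFpow, fun x hx => ?_⟩
  · exact fun z hz => Algebra.adjoin_mono (Set.image_mono (Set.compl_subset_compl.mpr (by simp))) hz
  · exact fun z hz => Algebra.adjoin_mono (Set.image_mono (Set.compl_subset_compl.mpr (by simp))) hz
  · have hint : ∀ z ∈ ((s.image Subtype.val : Finset k) : Set k), IsIntegral (F s) z := fun z _ =>
      IsIntegral.of_pow (Fact.out : p.Prime).pos (isIntegral_algebraMap (x := (⟨z ^ p, hFpow s z⟩ : F s)))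
    have htop : Algebra.adjoin (F s) ((s.image Subtype.val : Finset k) : Set k) = ⊤ := by
      refine eq_top_iff.mpr fun z h' => ?_
      clear h'
      have hz : z ∈ Algebra.adjoin P (Set.range (Subtype.val : B → k)) := by
        rw [(Groth.Agent.PBasisLib.adjoin_eq_top_iff_isPGenerating p _).mpr hB.2]; trivial
      induction hz using Algebra.adjoin_induction with
      | mem z hz =>
        obtain ⟨b, rfl⟩ := hz
        by_cases hb : b ∈ s
        · exact Algebra.subset_adjoin (by simp [hb])
        · exact (Algebra.adjoin (F s) _).algebraMap_mem ⟨b, Algebra.subset_adjoin ⟨b, hb, rfl⟩⟩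
      | algebraMap c => exact (Algebra.adjoin (F s) _).algebraMap_mem ⟨c, (Algebra.adjoin P _).algebraMap_mem c⟩
      | add a b _ _ ha hb => exact add_mem ha hb
      | mul a b _ _ ha hb => exact mul_mem ha hb
    have hfg := fg_adjoin_of_finite (Finset.finite_toSet _) hint
    rw [htop, Algebra.top_toSubmodule] at hfg
    exact ⟨hfg⟩
  · obtain ⟨bΩ, hbΩ⟩ := Groth.Agent.PBasisLib.exists_basis_kaehler p _ hB
    have hd0 : KaehlerDifferential.D k₀ k x = 0 := bΩ.ext_elem fun i => by
      rw [map_zero, Finsupp.zero_apply]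
      let D : Derivation k₀ k k := (bΩ.coord i).compDer (KaehlerDifferential.D k₀ k)
      have hz : ∀ z ∈ Algebra.adjoin P (Subtype.val '' ((({i} : Finset B) : Set B)ᶜ)), D z = 0 := by
        intro z hz
        induction hz using Algebra.adjoin_induction with
        | mem z hz =>
          obtain ⟨j, hj, rfl⟩ := hz
          show bΩ.repr (KaehlerDifferential.D k₀ k j) i = 0
          have hj' : j ≠ i := by simpa using hj
          rw [← hbΩ j, Module.Basis.repr_self, Finsupp.single_eq_of_ne]
          exact Ne.symm hj'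
        | algebraMap c =>
          obtain ⟨y, hy⟩ := (powRange_eq (p := p) (c : k)).mp c.2
          show D (c : k) = 0
          rw [← hy, Derivation.leibniz_pow, ← Nat.cast_smul_eq_nsmul k, CharP.cast_eq_zero, zero_smul]
        | add a b _ _ ha hb => rw [map_add, ha, hb, add_zero]
        | mul a b _ _ ha hb => rw [Derivation.leibniz, ha, hb, smul_zero, smul_zero, add_zero]
      exact hz x (hx {i})
    have hmem := Groth.Agent.PBasisLib.mem_adjoin_of_forall_derivation p (k := k₀) (∅ : Set k) (a := x) fun D _ => by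
      rw [← Derivation.liftKaehlerDifferential_comp_D D x, hd0, map_zero]
    rw [Algebra.adjoin_empty, Algebra.mem_bot] at hmem
    obtain ⟨c, rfl⟩ := hmem
    exact (powRange_eq (p := p) (c : k)).mp c.2

end

/-- Let k be a field of characteristic p > 0, A = k[[T_1, …, T_r]] and K its field of fractions. Then
there is a decreasing filtered family (A_α) of Noetherian subrings of A (rendered: a nonempty
family, directed downwards for inclusion) such that A is a free A_α-module of finite type for every
α and, K_α denoting the subfield of K generated by A_α (its field of fractions inside K), ⋂_α K_α =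
K^p. -/
theorem result (p : ℕ) [Fact p.Prime] (k : Type u) [Field k] [CharP k p]
    (r : ℕ) :
    ∃ (ι : Type u) (_ : Nonempty ι) (S : ι → Subring (MvPowerSeries (Fin r) k)),
      (∀ a b : ι, ∃ c, S c ≤ S a ⊓ S b) ∧
      (∀ i, IsNoetherianRing (S i) ∧ Module.Free (S i) (MvPowerSeries (Fin r) k) ∧ Module.Finite (S i) (MvPowerSeries (Fin r) k)) ∧
      ((⨅ i, Subfield.closure (algebraMap (MvPowerSeries (Fin r) k) (FractionRing (MvPowerSeries (Fin r) k)) '' (S i)) :
          Set (FractionRing (MvPowerSeries (Fin r) k)))) =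
        Set.range fun x : FractionRing (MvPowerSeries (Fin r) k) => x ^ p := by
  classical
  obtain ⟨ι, hne, F, hdir, hfin, hpow, hinter⟩ := exists_subfields (p := p) (k := k)
  let S : ι → Subring (MvPowerSeries (Fin r) k) := fun i => (φ (p := p) (F i)).range
  have hpmem : ∀ i (f : MvPowerSeries (Fin r) k), f ^ p ∈ S i := by
    intro i f
    haveI : ExpChar k p := ExpChar.prime (Fact.out : p.Prime)
    refine (mem_range_iff (F i) _).mpr ?_
    rw [← MvPowerSeries.map_frobenius_expand p (Fact.out : p.Prime).ne_zero]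
    constructor
    · intro m j hj
      rw [MvPowerSeries.coeff_map, MvPowerSeries.coeff_expand_of_not_dvd _ _ _ hj, map_zero]
    · intro q
      rw [MvPowerSeries.coeff_map]
      exact hpow i _
  refine ⟨ι, hne, S, fun a b => ?_, fun i => ?_, ?_⟩
  · obtain ⟨c, hc⟩ := hdir a b
    refine ⟨c, fun f hf => ?_⟩
    obtain ⟨h1, h2⟩ := (mem_range_iff (F c) f).mp hf
    exact ⟨(mem_range_iff (F a) f).mpr ⟨h1, fun q => (hc (h2 q)).1⟩, (mem_range_iff (F b) f).mpr ⟨h1, fun q => (hc (h2 q)).2⟩⟩
  · haveI := hfin i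
    exact ⟨isNoetherianRing_range _, free_finite (p := p) (r := r) (F i)⟩
  · ext x
    simp only [Set.iInf_eq_iInter, Set.mem_iInter, SetLike.mem_coe, Subfield.mem_iInf, Set.mem_range]
    constructor
    · intro hx
      obtain ⟨f, g, hg, rfl⟩ := IsFractionRing.div_surjective (MvPowerSeries (Fin r) k) x
      have hg0 : g ≠ 0 := nonZeroDivisors.ne_zero hg
      have hp1 : p = (p - 1) + 1 := by have := (Fact.out : p.Prime).pos; omega
      have hmem : ∀ i, f * g ^ (p - 1) ∈ S i := by
        intro i
        haveI := hfin i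
        obtain ⟨y, hy, z, hz, hyz⟩ := Subfield.mem_closure_iff.mp (hx i)
        rw [← RingHom.map_closure, Subring.closure_eq] at hy hz
        obtain ⟨a, ha, rfl⟩ := hy
        obtain ⟨b, hb, rfl⟩ := hz
        by_cases hb0 : b = 0
        · subst hb0
          have hf0 : f = 0 := by
            simp only [map_zero, div_zero] at hyz
            rcases div_eq_zero_iff.mp hyz.symm with h | h
            · exact IsFractionRing.injective _ (FractionRing (MvPowerSeries (Fin r) k)) (h.trans (map_zero _).symm)
            · exact absurd (IsFractionRing.injective _ (FractionRing (MvPowerSeries (Fin r) k)) (h.trans (map_zero _).symm)) hg0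
          rw [hf0, zero_mul]; exact zero_mem _
        have e : b * f = a * g := by
          apply IsFractionRing.injective (MvPowerSeries (Fin r) k) (FractionRing (MvPowerSeries (Fin r) k))
          rw [div_eq_div_iff] at hyz
          · rw [map_mul, map_mul, mul_comm, ← hyz]
          · exact fun h => hb0 (IsFractionRing.injective _ (FractionRing (MvPowerSeries (Fin r) k)) (h.trans (map_zero _).symm))
          · exact fun h => hg0 (IsFractionRing.injective _ (FractionRing (MvPowerSeries (Fin r) k)) (h.trans (map_zero _).symm))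
        refine mem_range_of_mul_mem (F i) (mul_mem ha (hpmem i g)) hb hb0 ?_
        calc b * (f * g ^ (p - 1)) = (b * f) * g ^ (p - 1) := by ring
          _ = a * (g ^ (p - 1) * g) := by rw [e]; ring
          _ = a * g ^ p := by rw [← pow_succ, ← hp1]
      have hcoef : ∀ q, ∃ y, y ^ p = MvPowerSeries.coeff (p • q) (f * g ^ (p - 1)) := fun q =>
        hinter _ fun i => ((mem_range_iff (F i) _).mp (hmem i)).2 q
      choose y hy using hcoef
      obtain ⟨i₀⟩ := hne
      have hval : f * g ^ (p - 1) = (show MvPowerSeries (Fin r) k from y) ^ p := by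
        haveI : ExpChar k p := ExpChar.prime (Fact.out : p.Prime)
        rw [← MvPowerSeries.map_frobenius_expand p (Fact.out : p.Prime).ne_zero]
        refine MvPowerSeries.ext fun m => ?_
        by_cases h : ∀ i, p ∣ m i
        · obtain ⟨q, rfl⟩ := exists_smul_of_dvd h
          rw [MvPowerSeries.coeff_map, MvPowerSeries.coeff_expand_smul, frobenius_def, ← hy q]
          rfl
        · push Not at h
          obtain ⟨i, hi⟩ := h
          rw [MvPowerSeries.coeff_map, MvPowerSeries.coeff_expand_of_not_dvd _ _ _ hi, map_zero,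
            ((mem_range_iff (F i₀) _).mp (hmem i₀)).1 m i hi]
      refine ⟨algebraMap _ _ (show MvPowerSeries (Fin r) k from y) / algebraMap _ _ g, ?_⟩
      have hg' : algebraMap (MvPowerSeries (Fin r) k) (FractionRing (MvPowerSeries (Fin r) k)) g ≠ 0 :=
        fun h => hg0 (IsFractionRing.injective _ (FractionRing (MvPowerSeries (Fin r) k)) (h.trans (map_zero _).symm))
      rw [div_pow, ← map_pow, ← hval, div_eq_div_iff (pow_ne_zero _ hg') hg']
      rw [map_mul, map_pow, mul_assoc, ← pow_succ, ← hp1]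
    · rintro ⟨y, rfl⟩ i
      obtain ⟨f, g, -, rfl⟩ := IsFractionRing.div_surjective (MvPowerSeries (Fin r) k) y
      rw [div_pow, ← map_pow, ← map_pow]
      exact div_mem (Subfield.subset_closure ⟨_, hpmem i f, rfl⟩) (Subfield.subset_closure ⟨_, hpmem i g, rfl⟩)

end Groth.Agent.S4548
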