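import Groth.Statements.S4549
import Groth.Agent.ImperfLib.Admissible
import Mathlib
open scoped TensorProduct
open Groth.Agent.ImperfLib
-- import your own Groth.Agent.* helpers here

set_option autoImplicit false
universe u
open EGA41

namespace Groth.Agent.S4549

open TensorProduct in
/-- Let K be a field of characteristic p, k₀ a subfield and L an extension of K such that Υ_{L/K/k₀} has
finite rank over L. Then there is a subfield k of K containing k₀(K^p), with [K : k] finite, which
is k₀-admissible for the extension L of K, i.e. such that Υ_{L/K/k₀} → Υ_{L/K/k} is injective. (The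
published statement uses the characteristic exponent and so also covers characteristic 0, where k =
K works; this row treats characteristic p > 0.) -/
theorem result (p : ℕ) [Fact p.Prime] {k₀ K L : Type u} [Field k₀] [Field K] [Field L]
    [Algebra k₀ K] [Algebra K L] [Algebra k₀ L] [IsScalarTower k₀ K L] [CharP K p]
    [Module.Finite L (EGA41.imperfection k₀ K L)] :
    ∃ k : IntermediateField k₀ K, (∀ y : K, y ^ p ∈ k) ∧ Module.Finite k K ∧
      ∀ ω ∈ EGA41.imperfection k₀ K L,
        ((KaehlerDifferential.map k₀ k K K).restrictScalars K).baseChange L ω = 0 → ω = 0 := by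
  classical
  obtain ⟨S, hS⟩ := exists_finset_le_range (EGA41.imperfection k₀ K L) (Module.Finite.iff_fg.1 inferInstance)
  obtain ⟨b, hbsub, hbspan, hbind⟩ :=
    exists_linearIndependent K ((fun y => KaehlerDifferential.D k₀ K y) '' (S : Set K))
  obtain ⟨B, hBsub, hbB, hBspan, hBind⟩ := exists_linearIndepOn_id_extension (K := K) (s := b)
    (t := Set.range (KaehlerDifferential.D k₀ K)) hbind (hbsub.trans (Set.image_subset_range _ _))
  let W : Submodule K Ω[K⁄k₀] := Submodule.span K (B \ b)
  let F : IntermediateField k₀ K := derivField (KaehlerDifferential.D k₀ K) W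
  have hVW : Disjoint (Submodule.span K b) W := by
    have h1 := (linearIndependent_subtype_iff.2 hBind).disjoint_span_image
      (s := (Subtype.val ⁻¹' b : Set B)) (t := (Subtype.val ⁻¹' (B \ b) : Set B))
      (Set.disjoint_left.2 fun v hv hv' => hv'.2 hv)
    rw [Subtype.image_preimage_coe, Subtype.image_preimage_coe, Set.inter_eq_right.2 hbB,
      Set.inter_eq_right.2 Set.sdiff_subset] at h1
    exact h1
  have hker : LinearMap.ker (KaehlerDifferential.map k₀ F K K) ≤ W := by
    rw [← KaehlerDifferential.range_mapBaseChange]
    rintro _ ⟨t, rfl⟩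
    induction t using TensorProduct.induction_on with
    | zero => simp
    | add a a' ha ha' => rw [map_add]; exact add_mem ha ha'
    | tmul c η =>
      rw [KaehlerDifferential.mapBaseChange_tmul]
      refine W.smul_mem _ ?_
      have hη : η ∈ Submodule.span F (Set.range (KaehlerDifferential.D k₀ F)) := by
        rw [KaehlerDifferential.span_range_derivation]; trivial
      induction hη using Submodule.span_induction with
      | mem v hv =>
        obtain ⟨y, rfl⟩ := hv
        rw [KaehlerDifferential.map_D]
        exact y.2
      | zero => simp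
      | add a a' _ _ ha ha' => rw [map_add]; exact add_mem ha ha'
      | smul r a _ ha =>
        rw [map_smul, ← IsScalarTower.algebraMap_smul K r]
        exact W.smul_mem _ ha
  have hpow : ∀ y : K, y ^ p ∈ F := fun y => pow_mem_derivField p (KaehlerDifferential.D k₀ K) W y
  refine ⟨F, hpow, ?_, ?_⟩
  · -- finiteness: `K = F(S)`
    have hspan : Submodule.span K (Set.range fun y : (S : Set K) => KaehlerDifferential.D F K (y : K)) = ⊤ := by
      rw [eq_top_iff, ← KaehlerDifferential.span_range_derivation, Submodule.span_le]
      rintro _ ⟨y, rfl⟩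
      have h1 : KaehlerDifferential.D k₀ K y ∈ Submodule.span K b ⊔ W := by
        rw [← Submodule.span_union, Set.union_sdiff_cancel hbB]
        exact hBspan ⟨y, rfl⟩
      obtain ⟨v, hv, w, hw, hvw⟩ := Submodule.mem_sup.1 h1
      have h8 : KaehlerDifferential.D F K y = KaehlerDifferential.map k₀ F K K (KaehlerDifferential.D k₀ K y) := by
        rw [KaehlerDifferential.map_D, Algebra.algebraMap_self_apply]
      rw [SetLike.mem_coe, h8, ← hvw, map_add]
      refine add_mem ?_ ?_
      · have h2 : Submodule.span K b ≤ (Submodule.span K (Set.range fun y : (S : Set K) => KaehlerDifferential.D F K (y : K))).comap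
            (KaehlerDifferential.map k₀ F K K) := by
          rw [hbspan, Submodule.span_le]
          rintro _ ⟨z, hz, rfl⟩
          rw [SetLike.mem_coe, Submodule.mem_comap, KaehlerDifferential.map_D, Algebra.algebraMap_self_apply]
          exact Submodule.subset_span ⟨⟨z, hz⟩, rfl⟩
        exact h2 hv
      · have h3 : W ≤ LinearMap.ker (KaehlerDifferential.map k₀ F K K) := by
          refine Submodule.span_le.2 fun v hv => ?_
          obtain ⟨z, rfl⟩ := hBsub hv.1
          rw [SetLike.mem_coe, LinearMap.mem_ker, KaehlerDifferential.map_D, Algebra.algebraMap_self_apply]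
          exact Derivation.map_algebraMap (KaehlerDifferential.D F K)
            (⟨z, (Submodule.subset_span hv : KaehlerDifferential.D k₀ K z ∈ W)⟩ : F)
        rw [LinearMap.mem_ker.1 (h3 hw)]
        exact zero_mem _
    have h4 := PBasisLib.adjoin_eq_top_of_span_eq_top p (fun y : (S : Set K) => (y : K)) hspan
    have hle : EGA41.pPowerSubalgebra p F K ≤ ⊥ := Algebra.adjoin_le (by
      rintro _ ⟨y, rfl⟩
      exact Algebra.mem_bot.2 ⟨⟨y ^ p, hpow y⟩, rfl⟩)
    have h5 : Algebra.adjoin F (S : Set K) = ⊤ := by
      refine eq_top_iff.2 fun y _ => ?_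
      have h6 : y ∈ Algebra.adjoin (EGA41.pPowerSubalgebra p F K) (Set.range fun y : (S : Set K) => (y : K)) := by
        rw [h4]; trivial
      induction h6 using Algebra.adjoin_induction with
      | mem z hz =>
        obtain ⟨z, rfl⟩ := hz
        exact Algebra.subset_adjoin z.2
      | algebraMap c => exact (bot_le : (⊥ : Subalgebra F K) ≤ _) (hle c.2)
      | add a a' _ _ ha ha' => exact add_mem (ha trivial) (ha' trivial)
      | mul a a' _ _ ha ha' => exact mul_mem (ha trivial) (ha' trivial)
    have h7 := fg_adjoin_of_finite (R := F) S.finite_toSet fun z _ =>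
      IsIntegral.of_pow (Nat.Prime.pos Fact.out) (isIntegral_algebraMap (x := (⟨z ^ p, hpow z⟩ : F)))
    rw [h5, Algebra.top_toSubmodule] at h7
    exact ⟨h7⟩
  · intro ω hω h0
    refine eq_zero_of_mem_range_baseChange ((KaehlerDifferential.map k₀ F K K).restrictScalars K) _ ?_ (hS hω) h0
    intro v hv hv0
    rw [← hbspan] at hv
    exact (Submodule.disjoint_def.1 hVW) v hv (hker hv0)

end Groth.Agent.S4549
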