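import Groth.Statements.S4550
import Mathlib

universe w

namespace Groth.Agent.S4550

/-- A series times a nonzero series over a subfield lying over the subfield lies over the subfield. -/
theorem coeff_mem_of_mul_mem {k : Type w} [Field k] {σ : Type*} (E : Subfield k) (b : MvPowerSeries σ k) (hb : b ≠ 0)
    (hbE : ∀ n, MvPowerSeries.coeff n b ∈ E) (f : MvPowerSeries σ k)
    (h : ∀ n, MvPowerSeries.coeff n (f * b) ∈ E) (n : σ →₀ ℕ) : MvPowerSeries.coeff n f ∈ E := by
  classical
  obtain ⟨s, hs⟩ := LinearMap.exists_leftInverse_of_injective (Algebra.linearMap E k)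
    (LinearMap.ker_eq_bot.2 (algebraMap E k).injective)
  let lam : k →ₗ[E] k := LinearMap.id - Algebra.linearMap E k ∘ₗ s
  have hlam : ∀ c ∈ E, lam c = 0 := fun c hc => by
    have := LinearMap.congr_fun hs ⟨c, hc⟩
    simp only [LinearMap.comp_apply, LinearMap.id_apply] at this
    simp only [lam, LinearMap.sub_apply, LinearMap.id_apply, LinearMap.comp_apply, sub_eq_zero]
    exact (congrArg (fun z : E => (z : k)) this).symm
  let F : MvPowerSeries σ k := fun d => lam (MvPowerSeries.coeff d f)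
  have hF : F * b = 0 := MvPowerSeries.ext fun d => by
    have h1 := hlam _ (h d)
    rw [MvPowerSeries.coeff_mul, map_sum] at h1
    rw [MvPowerSeries.coeff_mul, map_zero, ← h1]
    refine Finset.sum_congr rfl fun x _ => ?_
    change lam (MvPowerSeries.coeff x.1 f) * _ = _
    rw [mul_comm, mul_comm (MvPowerSeries.coeff x.1 f)]
    exact (lam.map_smul (⟨_, hbE x.2⟩ : E) (MvPowerSeries.coeff x.1 f)).symm
  have hn : lam (MvPowerSeries.coeff n f) = 0 := congrArg (MvPowerSeries.coeff n) ((mul_eq_zero.1 hF).resolve_right hb)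
  simp only [lam, LinearMap.sub_apply, LinearMap.id_apply, LinearMap.comp_apply, sub_eq_zero] at hn
  rw [hn]
  exact (s _).2

end Groth.Agent.S4550

set_option autoImplicit false
universe u
open EGA41

namespace Groth.Agent.S4550

/-- Let k be a field, (k_α) a decreasing filtered family of subfields of k with intersection k₀, and
suppose there is a power q of the characteristic exponent of k with k^q ⊆ k₀. Then, inside k((T_1,
…, T_r)), one has ⋂_α k_α((T_1, …, T_r)) = k₀((T_1, …, T_r)); here F((T)) is the subfield of the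
fraction field of k[[T]] generated by the power series with all coefficients in F. -/
theorem result {k : Type u} [Field k] {ι : Type u} [Nonempty ι] (F : ι → Subfield k)
    (hdir : ∀ a b : ι, ∃ c, F c ≤ F a ⊓ F b) (e : ℕ) (hq : ∀ x : k, x ^ ringExpChar k ^ e ∈ ⨅ i, F i) (r : ℕ) :
    (⨅ i, Subfield.closure (algebraMap (MvPowerSeries (Fin r) k) (FractionRing (MvPowerSeries (Fin r) k)) ''
        {f | ∀ n, MvPowerSeries.coeff n f ∈ F i})) =
      Subfield.closure (algebraMap (MvPowerSeries (Fin r) k) (FractionRing (MvPowerSeries (Fin r) k)) ''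
        {f | ∀ n, MvPowerSeries.coeff n f ∈ ⨅ i, F i}) := by
  classical
  haveI : ExpChar k (ringExpChar k) := inferInstance
  have hp : ringExpChar k ≠ 0 := expChar_ne_zero k (ringExpChar k)
  let K := FractionRing (MvPowerSeries (Fin r) k)
  let ι' : MvPowerSeries (Fin r) k →+* K := algebraMap _ _
  let S : Subfield k → Subring (MvPowerSeries (Fin r) k) := fun E => (MvPowerSeries.map (σ := Fin r) E.subtype).range
  have hS : ∀ (E : Subfield k) f, f ∈ S E ↔ ∀ n, MvPowerSeries.coeff n f ∈ E := fun E f => by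
    refine ⟨?_, fun h => ⟨fun n => ⟨MvPowerSeries.coeff n f, h n⟩, MvPowerSeries.ext fun n => by rfl⟩⟩
    rintro ⟨g, rfl⟩ n
    rw [MvPowerSeries.coeff_map]
    exact (MvPowerSeries.coeff n g).2
  have hset : ∀ E : Subfield k, ι' '' {f | ∀ n, MvPowerSeries.coeff n f ∈ E} = (((S E).map ι' : Subring K) : Set K) := fun E => by
    rw [Subring.coe_map]; congr 1; ext f; exact (hS E f).symm
  have hmem : ∀ (E : Subfield k) (x : K), x ∈ Subfield.closure (ι' '' {f | ∀ n, MvPowerSeries.coeff n f ∈ E}) ↔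
      ∃ a ∈ S E, ∃ b ∈ S E, ι' a / ι' b = x := fun E x => by
    rw [hset, Subfield.mem_closure_iff, Subring.closure_eq]
    simp only [Subring.mem_map]
    constructor
    · rintro ⟨_, ⟨a, ha, rfl⟩, _, ⟨b, hb, rfl⟩, rfl⟩; exact ⟨a, ha, b, hb, rfl⟩
    · rintro ⟨a, ha, b, hb, rfl⟩; exact ⟨_, ⟨a, ha, rfl⟩, _, ⟨b, hb, rfl⟩, rfl⟩
  refine le_antisymm (fun x hx => ?_) (le_iInf fun i => Subfield.closure_mono (Set.image_mono fun f hf n => iInf_le F i (hf n)))
  rw [Subfield.mem_iInf] at hx
  obtain ⟨f, g, hg, rfl⟩ := IsFractionRing.div_surjective (A := MvPowerSeries (Fin r) k) x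
  have hg0 : g ≠ 0 := nonZeroDivisors.ne_zero hg
  set q := ringExpChar k ^ e with hqdef
  have hq0 : q ≠ 0 := pow_ne_zero _ hp
  have hgq : g ^ q ∈ S (⨅ i, F i) := (hS _ _).2 fun n => by
    rw [← MvPowerSeries.map_iterateFrobenius_expand (ringExpChar k) hp g e, MvPowerSeries.coeff_map, iterateFrobenius_def]
    exact hq _
  set f' := f * g ^ (q - 1) with hf'
  have hx' : ι' f / ι' g = ι' f' / ι' (g ^ q) := by
    have hι : ι' g ≠ 0 := fun h => hg0 ((map_eq_zero_iff _ (IsFractionRing.injective _ K)).1 h)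
    rw [hf', map_mul, map_pow, map_pow, div_eq_div_iff hι (pow_ne_zero _ hι), mul_assoc, ← pow_succ, Nat.sub_add_cancel (Nat.one_le_iff_ne_zero.2 hq0)]
  refine (hmem _ _).2 ⟨f', (hS _ _).2 fun n => ?_, g ^ q, hgq, hx'.symm⟩
  rw [Subfield.mem_iInf]
  intro i
  obtain ⟨a, ha, b, hb, hab⟩ := (hmem (F i) _).1 (hx i)
  by_cases hb0 : b = 0
  · have hf0 : f = 0 := by
      rw [hb0, map_zero, div_zero] at hab
      rcases div_eq_zero_iff.1 hab.symm with h | h
      · exact (map_eq_zero_iff _ (IsFractionRing.injective _ K)).1 h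
      · exact absurd ((map_eq_zero_iff _ (IsFractionRing.injective _ K)).1 h) hg0
    rw [hf', hf0, zero_mul, map_zero]; exact zero_mem _
  have hgqi : g ^ q ∈ S (F i) := (hS _ _).2 fun n => iInf_le F i ((hS _ _).1 hgq n)
  have key : f' * b = g ^ q * a := by
    apply IsFractionRing.injective (MvPowerSeries (Fin r) k) K
    change ι' (f' * b) = ι' (g ^ q * a)
    have h : ι' f' / ι' (g ^ q) = ι' a / ι' b := hx'.symm.trans hab.symm
    rw [div_eq_div_iff (fun h => pow_ne_zero q hg0 ((map_eq_zero_iff _ (IsFractionRing.injective _ K)).1 h))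
      (fun h => hb0 ((map_eq_zero_iff _ (IsFractionRing.injective _ K)).1 h))] at h
    rw [map_mul ι' f', map_mul ι' (g ^ q), h, mul_comm]
  exact coeff_mem_of_mul_mem (F i) b hb0 ((hS _ _).1 hb) f' ((hS _ _).1 (key ▸ (S (F i)).mul_mem hgqi ha)) n


end Groth.Agent.S4550
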