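import Groth.Statements.S4551
import Groth.Agent.FieldExtLib.Separable
import Mathlib

set_option autoImplicit false
universe u
open EGA41

namespace Groth.Agent.S4551

open Groth.Agent.FieldExtLib
set_option backward.isDefEq.respectTransparency false
set_option maxHeartbeats 800000

lemma coeff_pow_p {k : Type u} [Field k] {σ : Type*} [Finite σ] (p : ℕ) [Fact p.Prime] [CharP k p]
    (f : MvPowerSeries σ k) (ν : σ →₀ ℕ) :
    MvPowerSeries.coeff (p • ν) (f ^ p) = (MvPowerSeries.coeff ν f) ^ p := by
  have h : (MvPowerSeries.expand p (NeZero.ne p) f).map (frobenius k p) = f ^ p :=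
    MvPowerSeries.map_frobenius_expand ..
  rw [← h, MvPowerSeries.coeff_map, MvPowerSeries.coeff_expand_smul, frobenius_def]

lemma powIndep_mvPowerSeries (k : Type u) [Field k] (σ : Type*) [Finite σ] (p : ℕ) [Fact p.Prime]
    [CharP k p] : PowIndep k (MvPowerSeries σ k) p := by
  classical
  intro s hs
  rw [linearIndepOn_finset_iff] at hs ⊢
  intro c hc i hi
  let Φ : ((σ →₀ ℕ) →₀ k) →ₗ[k] (s → k) :=
    Finsupp.linearCombination k fun ν j => MvPowerSeries.coeff ν j.1
  have hΦ : Function.Surjective Φ := by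
    rw [← LinearMap.range_eq_top]
    by_contra hne
    obtain ⟨φ, hφ, hle⟩ := Submodule.exists_le_ker_of_lt_top _ (lt_top_iff_ne_top.2 hne)
    let g : MvPowerSeries σ k → k := fun x => if h : x ∈ s then φ (Pi.single ⟨x, h⟩ 1) else 0
    have hg : ∑ x ∈ s, g x • _root_.id x = 0 := by
      ext ν
      have h1 : φ (Φ (Finsupp.single ν 1)) = 0 := hle ⟨_, rfl⟩
      rw [map_sum, map_zero, ← Finset.sum_coe_sort]
      rw [pi_eq_sum_univ' (Φ (Finsupp.single ν 1)), map_sum] at h1
      refine (Finset.sum_congr rfl fun x _ => ?_).trans h1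
      simp [g, Φ, x.2, mul_comm]
    refine hφ (LinearMap.pi_ext' fun x => LinearMap.ext_ring ?_)
    have := hs g hg x.1 x.2
    simpa [g, x.2] using this
  obtain ⟨l, hl⟩ := hΦ (Pi.single ⟨i, hi⟩ 1)
  have hcol : ∀ x : s, ∑ ν ∈ l.support, (l ν) ^ p * (MvPowerSeries.coeff ν x.1) ^ p =
      if x = ⟨i, hi⟩ then 1 else 0 := by
    intro x
    have h1 := congrArg (frobenius k p) (congrFun hl x)
    simp only [Φ, Finsupp.linearCombination_apply, Finsupp.sum, Finset.sum_apply, Pi.smul_apply,
      smul_eq_mul, map_sum, map_mul, frobenius_def] at h1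
    rw [h1, Pi.single_apply]
    split_ifs <;> simp [(Fact.out : p.Prime).ne_zero]
  have hrow : ∀ ν, ∑ x : s, c x.1 * (MvPowerSeries.coeff ν x.1) ^ p = 0 := by
    intro ν
    have h1 := congrArg (MvPowerSeries.coeff (p • ν)) hc
    rw [map_sum, map_zero, ← Finset.sum_coe_sort] at h1
    simpa [coeff_pow_p p] using h1
  have : ∑ ν ∈ l.support, (l ν) ^ p * ∑ x : s, c x.1 * (MvPowerSeries.coeff ν x.1) ^ p = 0 :=
    Finset.sum_eq_zero fun ν _ => by rw [hrow, mul_zero]
  simp only [Finset.mul_sum] at this
  rw [Finset.sum_comm] at this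
  have h2 : ∀ x : s, ∑ ν ∈ l.support, (l ν) ^ p * (c x.1 * (MvPowerSeries.coeff ν x.1) ^ p) =
      c x.1 * if x = ⟨i, hi⟩ then 1 else 0 := by
    intro x; rw [← hcol, Finset.mul_sum]; exact Finset.sum_congr rfl fun ν _ => by ring
  simpa [Finset.sum_congr rfl (fun x _ => h2 x)] using this

lemma powIndep_fractionRing (k : Type u) [Field k] (A : Type*) [CommRing A] [IsDomain A]
    [Algebra k A] (p : ℕ) (h : PowIndep k A p) : PowIndep k (FractionRing A) p := by
  classical
  intro s hs
  obtain ⟨b, hb⟩ := IsLocalization.exist_integer_multiples (nonZeroDivisors A) s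
    (_root_.id : FractionRing A → FractionRing A)
  choose a ha using hb
  let β : FractionRing A := algebraMap A _ (b : A)
  have hβ : β ≠ 0 := IsFractionRing.to_map_ne_zero_of_mem_nonZeroDivisors b.2
  have ha' : ∀ x (hx : x ∈ s), algebraMap A (FractionRing A) (a x hx) = β * x := fun x hx => by
    have := ha x hx
    simpa [Algebra.smul_def] using this
  let t : Finset A := s.attach.image fun x => a x.1 x.2
  have hinj : ∀ x y : {x // x ∈ s}, a x.1 x.2 = a y.1 y.2 → x = y := fun x y h => by
    have h' := congrArg (algebraMap A (FractionRing A)) h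
    rw [ha', ha'] at h'
    exact Subtype.ext (mul_left_cancel₀ hβ h')
  have hinj' : Set.InjOn (fun x : {x // x ∈ s} => a x.1 x.2) s.attach := fun x _ y _ h => hinj x y h
  rw [linearIndepOn_finset_iff] at hs
  have ht : LinearIndepOn k _root_.id (t : Set A) := by
    rw [linearIndepOn_finset_iff]
    intro g hg y hy
    obtain ⟨x, -, rfl⟩ := Finset.mem_image.1 hy
    let g' : FractionRing A → k := fun z => if hz : z ∈ s then g (a z hz) else 0
    have h1 := congrArg (algebraMap A (FractionRing A)) hg
    rw [Finset.sum_image hinj', map_sum, map_zero] at h1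
    have h2 : β * ∑ z ∈ s, g' z • _root_.id z = 0 := by
      rw [Finset.mul_sum, ← Finset.sum_attach, ← h1]
      refine Finset.sum_congr rfl fun z _ => ?_
      simp only [g', dif_pos z.2, _root_.id, Algebra.smul_def, map_mul, ha', ← IsScalarTower.algebraMap_apply k A (FractionRing A)]
      ring
    have := hs g' ((mul_eq_zero.1 h2).resolve_left hβ) x.1 x.2
    simpa [g', x.2] using this
  have h' := linearIndepOn_finset_iff.1 (h t ht)
  rw [linearIndepOn_finset_iff]
  intro c hc x hx
  let g : A → k := fun y => if hy : ∃ z, ∃ hz : z ∈ s, a z hz = y then c hy.choose else 0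
  have hg : ∀ z (hz : z ∈ s), g (a z hz) = c z := by
    intro z hz
    have hy : ∃ z', ∃ hz' : z' ∈ s, a z' hz' = a z hz := ⟨z, hz, rfl⟩
    simp only [g, dif_pos hy]
    obtain ⟨hz', he⟩ := hy.choose_spec
    exact congrArg c (congrArg Subtype.val (hinj ⟨_, hz'⟩ ⟨z, hz⟩ he))
  rw [← hg x hx]
  refine h' g (IsFractionRing.injective A (FractionRing A) ?_) _ (Finset.mem_image.2 ⟨⟨x, hx⟩, by simp, rfl⟩)
  have h3 : β ^ p * ∑ z ∈ s, c z • z ^ p = 0 := by rw [show ∑ z ∈ s, c z • z ^ p = 0 from hc, mul_zero]
  rw [Finset.sum_image hinj', map_sum, map_zero, ← h3, Finset.mul_sum, ← Finset.sum_attach s (fun z => β ^ p * c z • z ^ p)]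
  refine Finset.sum_congr rfl fun z _ => ?_
  rw [hg, Algebra.smul_def, Algebra.smul_def, map_mul, map_pow, ha', ← IsScalarTower.algebraMap_apply k A (FractionRing A)]
  ring

/-- For every field k (any characteristic) the field of fractions k((T_1, …, T_r)) of the power series
ring k[[T_1, …, T_r]] is a separable extension of k, i.e. it is geometrically reduced over k. -/
theorem result (k : Type u) [Field k] (r : ℕ) :
    Algebra.IsGeometricallyReduced k (FractionRing (MvPowerSeries (Fin r) k)) := by
  haveI : IsDomain (MvPowerSeries (Fin r) k) := NoZeroDivisors.to_isDomain _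
  obtain ⟨p, hp⟩ := CharP.exists k
  rcases CharP.char_is_prime_or_zero k p with hp1 | hp1
  · haveI : Fact p.Prime := ⟨hp1⟩
    exact (isGeometricallyReduced_iff_powIndep p).2
      (powIndep_fractionRing k _ p (powIndep_mvPowerSeries k (Fin r) p))
  · subst hp1
    haveI : CharZero k := CharP.charP_to_charZero k
    exact isGeometricallyReduced_of_perfectField

end Groth.Agent.S4551
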