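import Mathlib
import Mathlib
import Groth.Statements.S4552

set_option autoImplicit false
universe u
open EGA41

namespace Groth.Agent.S4552

/-- For the 𝔞-adic topology on A and the deduced topology on M: the topological A-module M is formally
projective (for every open ideal 𝔞ⁿ, every pair of (A/𝔞ⁿ)-modules P, Q, every surjection P → Q and
every continuous A-linear map M → Q — here automatically continuous — there is a continuous A-linear
lift M → P) if and only if it is strictly formally projective, i.e. M/𝔞ⁿM is a projective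
(A/𝔞ⁿ)-module for every n. -/
theorem result {A : Type u} [CommRing A] (𝔞 : Ideal A) (M : Type u)
    [AddCommGroup M] [Module A M] :
    (∀ (n : ℕ) (P Q : Type u) [AddCommGroup P] [Module A P] [AddCommGroup Q] [Module A Q],
      (∀ a ∈ 𝔞 ^ n, ∀ y : P, a • y = 0) → (∀ a ∈ 𝔞 ^ n, ∀ y : Q, a • y = 0) →
      ∀ f : P →ₗ[A] Q, Function.Surjective f → ∀ v : M →ₗ[A] Q, ∃ w : M →ₗ[A] P, f ∘ₗ w = v) ↔
    ∀ n : ℕ, Module.Projective (A ⧸ 𝔞 ^ n) (M ⧸ (𝔞 ^ n • ⊤ : Submodule A M)) := by
  constructor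
  · intro h n
    refine Module.Projective.of_lifting_property ?_
    intro P Q _ _ _ _ f g hf
    letI : Module A P := Module.compHom P (algebraMap A (A ⧸ 𝔞 ^ n))
    letI : Module A Q := Module.compHom Q (algebraMap A (A ⧸ 𝔞 ^ n))
    haveI : IsScalarTower A (A ⧸ 𝔞 ^ n) P := .of_algebraMap_smul fun _ _ => rfl
    haveI : IsScalarTower A (A ⧸ 𝔞 ^ n) Q := .of_algebraMap_smul fun _ _ => rfl
    have hkill : ∀ (R : Type u) [AddCommGroup R] [Module (A ⧸ 𝔞 ^ n) R] [Module A R] [IsScalarTower A (A ⧸ 𝔞 ^ n) R],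
        ∀ a ∈ 𝔞 ^ n, ∀ y : R, a • y = 0 := fun R _ _ _ _ a ha y => by
      rw [← algebraMap_smul (A ⧸ 𝔞 ^ n) a y, Ideal.Quotient.algebraMap_eq,
        Ideal.Quotient.eq_zero_iff_mem.2 ha, zero_smul]
    obtain ⟨w, hw⟩ := h n P Q (hkill P) (hkill Q) (f.restrictScalars A) hf
      (g.restrictScalars A ∘ₗ (𝔞 ^ n • ⊤ : Submodule A M).mkQ)
    have hker : (𝔞 ^ n • ⊤ : Submodule A M) ≤ LinearMap.ker w := Submodule.smul_le.2 fun a ha y _ => by
      rw [LinearMap.mem_ker, map_smul, hkill P a ha]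
    let w' : (M ⧸ (𝔞 ^ n • ⊤ : Submodule A M)) →ₗ[A] P := Submodule.liftQ _ w hker
    refine ⟨{ w' with
      map_smul' := fun c x => by
        obtain ⟨a, rfl⟩ := Ideal.Quotient.mk_surjective c
        show w' (Ideal.Quotient.mk (𝔞 ^ n) a • x) = Ideal.Quotient.mk (𝔞 ^ n) a • w' x
        rw [← Ideal.Quotient.algebraMap_eq, algebraMap_smul, algebraMap_smul, map_smul] }, ?_⟩
    refine LinearMap.ext fun x => ?_
    obtain ⟨x, rfl⟩ := Submodule.Quotient.mk_surjective _ x
    exact LinearMap.congr_fun hw x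
  · intro h n P Q _ _ _ _ hP hQ f hf v
    haveI := h n
    have hP' : Module.IsTorsionBySet A P ((𝔞 ^ n : Ideal A) : Set A) := fun y a => hP a a.2 y
    have hQ' : Module.IsTorsionBySet A Q ((𝔞 ^ n : Ideal A) : Set A) := fun y a => hQ a a.2 y
    letI := hP'.module
    letI := hQ'.module
    haveI : IsScalarTower A (A ⧸ 𝔞 ^ n) P := hP'.isScalarTower
    haveI : IsScalarTower A (A ⧸ 𝔞 ^ n) Q := hQ'.isScalarTower
    have hker : (𝔞 ^ n • ⊤ : Submodule A M) ≤ LinearMap.ker v := Submodule.smul_le.2 fun a ha y _ => by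
      rw [LinearMap.mem_ker, map_smul, hQ a ha]
    have hs : Function.Surjective (algebraMap A (A ⧸ 𝔞 ^ n)) := Ideal.Quotient.mk_surjective
    obtain ⟨w, hw⟩ := Module.projective_lifting_property (f.extendScalarsOfSurjective hs)
      ((Submodule.liftQ _ v hker).extendScalarsOfSurjective hs) hf
    exact ⟨(w.restrictScalars A) ∘ₗ (𝔞 ^ n • ⊤ : Submodule A M).mkQ,
      LinearMap.ext fun x => LinearMap.congr_fun hw (Submodule.Quotient.mk x)⟩

end Groth.Agent.S4552
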