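import Groth.Statements.S4554
import Mathlib

set_option autoImplicit false
universe u
open EGA41

namespace Groth.Agent.S4554

open TensorProduct in
/-- Let A be 𝔞-adic, B a topological A-algebra for the 𝔟-adic topology (a power of 𝔞 maps into 𝔟) which
is a formally projective topological A-module, and A' an A-algebra with the topology deduced from A
(the 𝔞A'-adic topology) which is a faithfully flat, projective A-module of finite type. Then B' = A'
⊗_A B, with the tensor product topology (the adic topology of the ideal generated by the images of 𝔞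
and 𝔟), is a formally smooth A'-algebra if and only if B is a formally smooth A-algebra. -/
theorem result {A B A' : Type u} [CommRing A] [CommRing B]
    [CommRing A'] [Algebra A B] [Algebra A A'] (𝔞 : Ideal A) (𝔟 : Ideal B) (hAB : ∃ k : ℕ, (𝔞 ^ k).map (algebraMap A B) ≤ 𝔟)
    (hproj : ∀ (n : ℕ) (P Q : Type u) [AddCommGroup P] [Module A P] [AddCommGroup Q] [Module A Q],
      (∀ a ∈ 𝔞 ^ n, ∀ y : P, a • y = 0) → (∀ a ∈ 𝔞 ^ n, ∀ y : Q, a • y = 0) →
      ∀ f : P →ₗ[A] Q, Function.Surjective f → ∀ v : B →ₗ[A] Q, (∃ m : ℕ, ∀ x ∈ 𝔟 ^ m, v x = 0) →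
        ∃ w : B →ₗ[A] P, (∃ m : ℕ, ∀ x ∈ 𝔟 ^ m, w x = 0) ∧ f ∘ₗ w = v)
    [Module.FaithfullyFlat A A'] [Module.Projective A A'] [Module.Finite A A'] :
    EGA41.IsFormallySmoothAdic A' (𝔞.map (algebraMap A A')) (A' ⊗[A] B)
        ((𝔞.map (algebraMap A A')).map (algebraMap A' (A' ⊗[A] B)) ⊔
          𝔟.map (Algebra.TensorProduct.includeRight : B →ₐ[A] A' ⊗[A] B).toRingHom) ↔
      EGA41.IsFormallySmoothAdic A 𝔞 B 𝔟 := by
  classical
  have hmapA' : ∀ (C : Type u) [CommRing C] [Algebra A C] [Algebra A' C] [IsScalarTower A A' C] (k : ℕ),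
      ((𝔞.map (algebraMap A A')) ^ k).map (algebraMap A' C) = (𝔞 ^ k).map (algebraMap A C) := by
    intro C _ _ _ _ k
    rw [← Ideal.map_pow, Ideal.map_map, ← IsScalarTower.algebraMap_eq]
  let inr : B →ₐ[A] A' ⊗[A] B := Algebra.TensorProduct.includeRight
  let 𝔟' : Ideal (A' ⊗[A] B) := (𝔞.map (algebraMap A A')).map (algebraMap A' (A' ⊗[A] B)) ⊔ 𝔟.map inr.toRingHom
  constructor
  · -- descent
    intro h
    obtain ⟨s, hs⟩ : ∃ s : A' →ₗ[A] A, s 1 = 1 := by
      let ev : (A' →ₗ[A] A) →ₗ[A] A := LinearMap.applyₗ (1 : A')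
      by_contra hne
      have hT : LinearMap.range ev ≠ ⊤ := fun ht => hne (LinearMap.range_eq_top.1 ht 1)
      obtain ⟨m, hm, hle⟩ := Ideal.exists_le_maximal _ hT
      have hff : m • (⊤ : Submodule A A') ≠ ⊤ :=
        (Module.FaithfullyFlat.iff_flat_and_proper_ideal A A').1 inferInstance |>.2 m hm.ne_top
      apply hff
      obtain ⟨n, π, i, -, -, hi⟩ := Module.Finite.exists_comp_eq_id_of_projective A A'
      have h1 : (1 : A') ∈ m • (⊤ : Submodule A A') := by
        rw [show (1 : A') = π (i 1) from (LinearMap.congr_fun hi 1).symm, pi_eq_sum_univ (i 1), map_sum]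
        refine Submodule.sum_mem _ fun j _ => ?_
        rw [map_smul]
        exact Submodule.smul_mem_smul (hle ⟨(LinearMap.proj j).comp i, rfl⟩) trivial
      rw [eq_top_iff]
      intro x _
      rw [Ideal.smul_top_eq_map, Submodule.restrictScalars_mem] at h1 ⊢
      simpa using Ideal.mul_mem_left _ x h1
    suffices H : ∀ (n : ℕ) (C : Type u) [CommRing C] [Algebra A C] (J : Ideal C), J ^ 2 ^ n = ⊥ →
        (∃ k : ℕ, (𝔞 ^ k).map (algebraMap A C) = ⊥) →
        ∀ u : B →ₐ[A] C ⧸ J, (∃ k : ℕ, ∀ x ∈ 𝔟 ^ k, u x = 0) →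
          ∃ v : B →ₐ[A] C, (Ideal.Quotient.mkₐ A J).comp v = u by
      intro C _ _ J hJ hC u hu
      obtain ⟨n, hn⟩ := hJ
      refine H n C J ?_ hC u hu
      exact le_bot_iff.1 ((Ideal.pow_le_pow_right n.lt_two_pow_self.le).trans (le_of_eq hn))
    have H0 : ∀ (C : Type u) [CommRing C] [Algebra A C] (J : Ideal C), J ^ 2 = ⊥ →
        (∃ k : ℕ, (𝔞 ^ k).map (algebraMap A C) = ⊥) →
        ∀ u : B →ₐ[A] C ⧸ J, (∃ k : ℕ, ∀ x ∈ 𝔟 ^ k, u x = 0) →
          ∃ v : B →ₐ[A] C, (Ideal.Quotient.mkₐ A J).comp v = u := by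
      intro C _ _ J hJ ⟨k, hk⟩ u ⟨l, hl⟩
      let C' := A' ⊗[A] C
      let ic : C →ₐ[A] C' := Algebra.TensorProduct.includeRight
      let J' : Ideal C' := J.map ic.toRingHom
      have hJ' : IsNilpotent J' := ⟨2, by rw [← Ideal.map_pow, hJ, Ideal.map_bot]; rfl⟩
      let qc : C ⧸ J →ₐ[A] C' ⧸ J' := Ideal.quotientMapₐ J' ic (Ideal.le_comap_map)
      let u' : A' ⊗[A] B →ₐ[A'] C' ⧸ J' :=
        Algebra.TensorProduct.lift (Algebra.ofId A' _) (qc.comp u) (fun _ _ => Commute.all _ _)
      have hC' : ((𝔞.map (algebraMap A A')) ^ k).map (algebraMap A' C') = ⊥ := by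
        rw [hmapA', show algebraMap A C' = ic.toRingHom.comp (algebraMap A C) from ic.comp_algebraMap.symm,
          ← Ideal.map_map, hk, Ideal.map_bot]
      have hu' : ∃ N : ℕ, ∀ x ∈ 𝔟' ^ N, u' x = 0 := by
        refine ⟨k + l, fun x hx => RingHom.mem_ker.1 (SetLike.le_def.1 ?_
          (Ideal.sup_pow_add_le_pow_sup_pow hx))⟩
        refine sup_le ?_ ?_
        · rw [← Ideal.map_pow, Ideal.map_le_iff_le_comap]
          intro a ha
          have h1 : algebraMap A' C' a = 0 := by
            have := Ideal.mem_map_of_mem (algebraMap A' C') ha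
            rwa [hC'] at this
          rw [Ideal.mem_comap, RingHom.mem_ker]
          show u' (algebraMap A' (A' ⊗[A] B) a) = 0
          rw [AlgHom.commutes, IsScalarTower.algebraMap_apply A' C' (C' ⧸ J'), h1, map_zero]
        · rw [← Ideal.map_pow, Ideal.map_le_iff_le_comap]
          intro b hb
          rw [Ideal.mem_comap, RingHom.mem_ker]
          show u' ((1 : A') ⊗ₜ[A] b) = 0
          simp [u', hl b hb]
      obtain ⟨v', hv'⟩ := h C' J' hJ' ⟨k, hC'⟩ u' hu'
      let φ : C' →ₗ[A] C := (TensorProduct.lid A C).toLinearMap ∘ₗ s.rTensor C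
      have hφ : ∀ (z : C') (c : C), φ (z * ic c) = φ z * c := by
        intro z c
        induction z using TensorProduct.induction_on with
        | zero => simp
        | tmul a d =>
          rw [show ic c = (1 : A') ⊗ₜ[A] c from rfl, Algebra.TensorProduct.tmul_mul_tmul, mul_one]
          show s a • (d * c) = (s a • d) * c
          rw [smul_mul_assoc]
        | add x y hx hy => rw [add_mul, map_add, hx, hy, map_add, add_mul]
      have hφ1 : ∀ c, φ (ic c) = c := fun c => by
        show s 1 • c = c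
        rw [hs, one_smul]
      have hφJ : ∀ z ∈ J', φ z ∈ J := by
        intro z hz
        have : J' ≤ { carrier := {z | ∀ y, φ (y * z) ∈ J}
                      zero_mem' := fun y => by simp
                      add_mem' := fun {a b} ha hb y => by rw [mul_add, map_add]; exact add_mem (ha y) (hb y)
                      smul_mem' := fun r a ha y => by rw [smul_eq_mul, ← mul_assoc]; exact ha _ } := by
          refine Ideal.map_le_iff_le_comap.2 fun c hc y => ?_
          show φ (y * ic c) ∈ J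
          rw [hφ]; exact Ideal.mul_mem_left _ _ hc
        simpa using this hz 1
      let v₀ : B → C := fun b => φ (v' (inr b))
      have hdec : ∀ b, ∃ c : C, Ideal.Quotient.mk J c = u b ∧ v' (inr b) - ic c ∈ J' := by
        intro b
        obtain ⟨c, hc⟩ := Ideal.Quotient.mk_surjective (u b)
        refine ⟨c, hc, ?_⟩
        rw [← Ideal.Quotient.eq]
        refine (AlgHom.congr_fun hv' (inr b)).trans ?_
        show u' ((1 : A') ⊗ₜ[A] b) = qc (Ideal.Quotient.mk J c)
        rw [hc]
        simp [u']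
      have hmul : ∀ x y, v₀ (x * y) = v₀ x * v₀ y := by
        intro x y
        obtain ⟨c, -, hc⟩ := hdec x
        obtain ⟨d, -, hd⟩ := hdec y
        have hcd : (v' (inr x) - ic c) * (v' (inr y) - ic d) = 0 := by
          have h2 : J' * J' = ⊥ := by rw [← Ideal.map_mul, ← pow_two, hJ, Ideal.map_bot]
          exact (Submodule.eq_bot_iff _).1 h2 _ (Ideal.mul_mem_mul hc hd)
        have hcd' : (φ (v' (inr x)) - c) * (φ (v' (inr y)) - d) = 0 := by
          have hx' : φ (v' (inr x)) - c ∈ J := by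
            have := hφJ _ hc; rwa [map_sub, hφ1] at this
          have hy' : φ (v' (inr y)) - d ∈ J := by
            have := hφJ _ hd; rwa [map_sub, hφ1] at this
          exact (Submodule.eq_bot_iff _).1 hJ _ (by rw [pow_two]; exact Ideal.mul_mem_mul hx' hy')
        have e : v' (inr (x * y)) = v' (inr x) * ic d + v' (inr y) * ic c - ic (c * d) := by
          rw [map_mul, map_mul, map_mul]; linear_combination hcd
        show φ (v' (inr (x * y))) = φ (v' (inr x)) * φ (v' (inr y))
        rw [e, map_sub, map_add, hφ, hφ, hφ1]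
        linear_combination -hcd'
      let v : B →ₐ[A] C :=
        { toFun := v₀
          map_one' := by show φ (v' (inr 1)) = 1; rw [map_one, map_one, ← map_one ic, hφ1]
          map_mul' := hmul
          map_zero' := by show φ (v' (inr 0)) = 0; rw [map_zero, map_zero, map_zero]
          map_add' := fun x y => by show φ (v' (inr (x + y))) = _; rw [map_add, map_add, map_add]
          commutes' := fun a => by
            show φ (v' (inr (algebraMap A B a))) = _
            rw [AlgHom.commutes, show v' (algebraMap A (A' ⊗[A] B) a) = algebraMap A C' a by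
              rw [IsScalarTower.algebraMap_apply A A' (A' ⊗[A] B), AlgHom.commutes, ← IsScalarTower.algebraMap_apply],
              ← ic.commutes, hφ1] }
      refine ⟨v, AlgHom.ext fun b => ?_⟩
      obtain ⟨c, hc, hc'⟩ := hdec b
      show Ideal.Quotient.mk J (φ (v' (inr b))) = u b
      rw [← hc, Ideal.Quotient.eq, ← hφ1 c, ← map_sub]
      exact hφJ _ hc'
    intro n
    induction n with
    | zero =>
      intro C _ _ J hJ hC u hu
      refine H0 C J ?_ hC u hu
      rw [pow_zero, pow_one] at hJ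
      rw [hJ, pow_two, Submodule.bot_mul]
    | succ n ih =>
      intro C _ _ J hJ hC u hu
      let J₂ := J ^ 2
      let π : C →ₐ[A] C ⧸ J₂ := Ideal.Quotient.mkₐ A J₂
      let J₁ : Ideal (C ⧸ J₂) := J.map π.toRingHom
      have hJ₁ : J₁ ^ 2 = ⊥ := by
        rw [← Ideal.map_pow]; exact Ideal.map_quotient_self J₂
      obtain ⟨k, hk⟩ := hC
      have hC₁ : ∃ k : ℕ, (𝔞 ^ k).map (algebraMap A (C ⧸ J₂)) = ⊥ := ⟨k, by
        rw [show algebraMap A (C ⧸ J₂) = π.toRingHom.comp (algebraMap A C) from π.comp_algebraMap.symm,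
          ← Ideal.map_map, hk, Ideal.map_bot]⟩
      let e : C ⧸ J →ₐ[A] (C ⧸ J₂) ⧸ J₁ := Ideal.quotientMapₐ J₁ π Ideal.le_comap_map
      have hcom : J₁.comap π.toRingHom = J := by
        rw [Ideal.comap_map_of_surjective π.toRingHom (Ideal.Quotient.mkₐ_surjective A J₂), ← RingHom.ker_eq_comap_bot]
        exact sup_eq_left.2 ((le_of_eq Ideal.mk_ker).trans (Ideal.pow_le_self two_ne_zero))
      obtain ⟨l, hl⟩ := hu
      obtain ⟨w, hw⟩ := H0 (C ⧸ J₂) J₁ hJ₁ hC₁ (e.comp u) ⟨l, fun x hx => by simp [hl x hx]⟩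
      have hwk : ∀ x ∈ 𝔟 ^ l, w x ∈ J₁ := fun x hx => by
        rw [← Ideal.Quotient.eq_zero_iff_mem]
        exact (AlgHom.congr_fun hw x).trans (by simp [hl x hx])
      have hw2 : ∀ x ∈ 𝔟 ^ (l * 2), w x = 0 := by
        intro x hx
        have : (𝔟 ^ l) ^ 2 ≤ RingHom.ker w.toRingHom := by
          intro y hy
          have h1 := Ideal.mem_map_of_mem w.toRingHom hy
          rw [Ideal.map_pow] at h1
          have h2 : (Ideal.map w.toRingHom (𝔟 ^ l)) ≤ J₁ := Ideal.map_le_iff_le_comap.2 hwk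
          have h3 := Ideal.pow_right_mono h2 2 h1
          rwa [hJ₁] at h3
        rw [← pow_mul] at this
        exact this hx
      obtain ⟨v, hv⟩ := ih C J₂ (by rw [← pow_mul, ← pow_succ']; exact hJ) ⟨k, hk⟩ w ⟨l * 2, hw2⟩
      refine ⟨v, AlgHom.ext fun b => ?_⟩
      obtain ⟨c, hc⟩ := Ideal.Quotient.mk_surjective (u b)
      have h1 : Ideal.Quotient.mk J₁ (π (v b)) = Ideal.Quotient.mk J₁ (π c) := by
        have e1 := AlgHom.congr_fun hv b
        have e2 := AlgHom.congr_fun hw b
        change π (v b) = w b at e1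
        rw [e1]
        refine e2.trans ?_
        show e (u b) = _
        rw [← hc]; rfl
      rw [Ideal.Quotient.eq, ← map_sub] at h1
      show Ideal.Quotient.mk J (v b) = u b
      rw [← hc, Ideal.Quotient.eq, ← hcom]
      exact h1
  · intro h C _ _ J hJ ⟨k, hk⟩ u ⟨l, hl⟩
    letI : Algebra A C := ((algebraMap A' C).comp (algebraMap A A')).toAlgebra
    haveI : IsScalarTower A A' C := IsScalarTower.of_algebraMap_eq fun _ => rfl
    let u₀ : B →ₐ[A] C ⧸ J := (u.restrictScalars A).comp inr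
    obtain ⟨v, hv⟩ := h C J hJ ⟨k, by rw [← hmapA' C k]; exact hk⟩ u₀ ⟨l, fun x hx => hl _ (by
      refine Ideal.pow_right_mono (le_sup_right : 𝔟.map inr.toRingHom ≤ 𝔟') l ?_
      rw [← Ideal.map_pow]
      exact Ideal.mem_map_of_mem _ hx)⟩
    let v' : A' ⊗[A] B →ₐ[A'] C := Algebra.TensorProduct.lift (Algebra.ofId A' C) v (fun _ _ => Commute.all _ _)
    refine ⟨v', Algebra.TensorProduct.ext (AlgHom.ext fun a => ?_) (AlgHom.ext fun b => ?_)⟩
    · refine (((Ideal.Quotient.mkₐ A' J).comp v').commutes a).trans ?_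
      exact (u.commutes a).symm
    · show Ideal.Quotient.mk J (v' ((1 : A') ⊗ₜ[A] b)) = u ((1 : A') ⊗ₜ[A] b)
      simp only [v', Algebra.TensorProduct.lift_tmul, map_one, one_mul]
      exact AlgHom.congr_fun hv b

end Groth.Agent.S4554
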