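import Groth.Statements.S4555
import Groth.Agent.MvPSTrunc.Basic
-- import your own Groth.Agent.* helpers here

set_option autoImplicit false
universe u
open EGA41

namespace Groth.Agent.S4555

/-- Let A carry the 𝔞-adic topology, B = A[[T_1, …, T_n]] the product topology (the adic topology of 𝔞B
+ (T_1, …, T_n)), and let E be a discrete topological A-algebra (a power of 𝔞 kills E). (i) If f : B
→ E is a continuous A-algebra homomorphism then each f(T_i) is nilpotent. (ii) Conversely, for every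
family (z_i) of nilpotent elements of E there is one and only one continuous A-algebra homomorphism
g : B → E with g(T_i) = z_i for all i. -/
theorem result (A : Type u) [CommRing A] (𝔞 : Ideal A) (n : ℕ) (E : Type u) [CommRing E]
    [Algebra A E] (hE : ∃ k : ℕ, (𝔞 ^ k).map (algebraMap A E) = ⊥) :
    (∀ f : MvPowerSeries (Fin n) A →ₐ[A] E,
      (∃ m : ℕ, ∀ x ∈ (𝔞.map (MvPowerSeries.C : A →+* MvPowerSeries (Fin n) A) ⊔
        RingHom.ker (MvPowerSeries.constantCoeff : MvPowerSeries (Fin n) A →+* A)) ^ m, f x = 0) →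
      ∀ i, IsNilpotent (f (MvPowerSeries.X i))) ∧
    ∀ z : Fin n → E, (∀ i, IsNilpotent (z i)) →
      ∃! g : MvPowerSeries (Fin n) A →ₐ[A] E,
        (∃ m : ℕ, ∀ x ∈ (𝔞.map (MvPowerSeries.C : A →+* MvPowerSeries (Fin n) A) ⊔
          RingHom.ker (MvPowerSeries.constantCoeff : MvPowerSeries (Fin n) A →+* A)) ^ m, g x = 0) ∧
        ∀ i, g (MvPowerSeries.X i) = z i := by
  classical
  obtain ⟨k, hk⟩ := hE
  set T : Ideal (MvPowerSeries (Fin n) A) :=
    RingHom.ker (MvPowerSeries.constantCoeff : MvPowerSeries (Fin n) A →+* A) with hT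
  refine ⟨fun f ⟨m, hm⟩ i => ⟨m, ?_⟩, fun z hz => ?_⟩
  · rw [← map_pow]
    refine hm _ (Ideal.pow_mem_pow (Ideal.mem_sup_right ?_) m)
    rw [RingHom.mem_ker, MvPowerSeries.constantCoeff_X]
  obtain ⟨N, hN⟩ := (Ideal.FG.isNilpotent_iff_le_nilradical
      (⟨(Set.finite_range z).toFinset, by rw [Set.Finite.coe_toFinset]⟩ : (Ideal.span (Set.range z)).FG)).mpr
    (Ideal.span_le.mpr (by rintro _ ⟨i, rfl⟩; exact hz i))
  have hvars : (MvPolynomial.idealOfVars (Fin n) A).map (MvPolynomial.aeval (R := A) z).toRingHom ≤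
      Ideal.span (Set.range z) := by
    rw [MvPolynomial.idealOfVars, Ideal.map_span]
    refine Ideal.span_mono ?_
    rintro _ ⟨_, ⟨i, rfl⟩, rfl⟩
    exact ⟨i, (MvPolynomial.aeval_X _ _).symm⟩
  let ev : MvPolynomial (Fin n) A ⧸ (MvPolynomial.idealOfVars (Fin n) A) ^ (N + 1) →ₐ[A] E :=
    Ideal.Quotient.liftₐ _ (MvPolynomial.aeval z) fun p hp => by
      have h1 := Ideal.mem_map_of_mem (MvPolynomial.aeval (R := A) z).toRingHom hp
      rw [Ideal.map_pow] at h1
      have h2 := Ideal.pow_right_mono hvars (N + 1) h1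
      rw [pow_succ, hN, zero_mul] at h2
      exact h2
  let g : MvPowerSeries (Fin n) A →ₐ[A] E :=
    ev.comp ((MvPowerSeries.truncTotalAlgHom (Fin n) A (N + 1)).restrictScalars A)
  have hgpoly : ∀ p : MvPolynomial (Fin n) A, g (p : MvPowerSeries (Fin n) A) = MvPolynomial.aeval z p := fun p => by
    show ev (MvPowerSeries.truncTotalAlgHom (Fin n) A (N + 1) (algebraMap _ _ p)) = _
    rw [AlgHom.commutes]
    rfl
  have hgapp : ∀ p, g p = MvPolynomial.aeval z (MvPowerSeries.truncTotal (N + 1) p) := fun p => rfl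
  have hgX : ∀ i, g (MvPowerSeries.X i) = z i := fun i => by
    rw [← MvPolynomial.coe_X, hgpoly, MvPolynomial.aeval_X]
  have hgT : T.map g.toRingHom ≤ Ideal.span (Set.range z) := by
    rw [Ideal.map_le_iff_le_comap]
    intro p hp
    refine hvars ?_
    show g p ∈ _
    rw [hgapp]
    refine Ideal.mem_map_of_mem _ ?_
    rw [← pow_one (MvPolynomial.idealOfVars (Fin n) A), MvPolynomial.mem_pow_idealOfVars_iff']
    intro d hd
    have hd0 : d = 0 := (Finsupp.degree_eq_zero_iff d).mp (by omega)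
    rw [MvPowerSeries.coeff_truncTotal _ (by omega : Finsupp.degree d < N + 1), hd0]
    exact hp
  have hgI : (𝔞.map (MvPowerSeries.C : A →+* MvPowerSeries (Fin n) A)).map g.toRingHom ≤ 𝔞.map (algebraMap A E) := by
    rw [Ideal.map_map]
    refine le_of_eq (congrArg (fun φ => Ideal.map φ 𝔞) (RingHom.ext fun a => ?_))
    exact g.commutes a
  have hkill : ∀ x ∈ (𝔞.map (MvPowerSeries.C : A →+* MvPowerSeries (Fin n) A) ⊔ T) ^ (k + N), g x = 0 := by
    intro x hx
    have h1 := Ideal.mem_map_of_mem g.toRingHom hx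
    rw [Ideal.map_pow, Ideal.map_sup] at h1
    have h2 := Ideal.sup_pow_add_le_pow_sup_pow (Ideal.pow_right_mono (sup_le_sup hgI hgT) _ h1)
    rw [← Ideal.map_pow, hk, hN, bot_sup_eq] at h2
    exact h2
  refine ⟨g, ⟨⟨k + N, hkill⟩, hgX⟩, fun g' ⟨⟨m, hm⟩, hX⟩ => AlgHom.ext fun p => ?_⟩
  set M := max m (k + N) with hM
  have hr := MvPSTrunc.sub_truncTotal_mem M p
  have hmem : p - (MvPowerSeries.truncTotal M p : MvPolynomial (Fin n) A) ∈
      (𝔞.map (MvPowerSeries.C : A →+* MvPowerSeries (Fin n) A) ⊔ T) ^ M :=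
    Ideal.pow_right_mono le_sup_right M hr
  have e1 := hm _ (Ideal.pow_le_pow_right (le_max_left _ _) hmem)
  have e2 := hkill _ (Ideal.pow_le_pow_right (le_max_right _ _) hmem)
  rw [map_sub, sub_eq_zero] at e1 e2
  rw [e1, e2, hgpoly]
  have : g'.comp (MvPolynomial.coeToMvPowerSeries.algHom (R := A) A) = MvPolynomial.aeval z :=
    MvPolynomial.algHom_ext fun i => by
      simp [MvPolynomial.coeToMvPowerSeries.algHom_apply, hX]
  have e3 := DFunLike.congr_fun this (MvPowerSeries.truncTotal M p)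
  simp [MvPolynomial.coeToMvPowerSeries.algHom_apply] at e3
  exact e3

end Groth.Agent.S4555
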