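import Groth.Statements.S4557
import Groth.Agent.EGA418Lib.UnramCrit
import Groth.Agent.EGA418Lib.Fibre

set_option autoImplicit false
universe u
open EGA41

namespace Groth.Agent.S4557

open IsLocalRing TensorProduct in
/-- Let A be a complete Noetherian local integral domain, A₀ a subring of A isomorphic to a power series
ring k[[T_1, …, T_r]] over a field k such that A is a finite A₀-algebra and the field of fractions E
of A is a separable extension of the field of fractions L₀ of A₀ (here: A₀ = k[[T]] → A injective
and finite, A a k-algebra through A₀, and every element of A is a root of a polynomial over A₀ which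
is separable over L₀). Then rk_A Ω̂_{A/k} = rk_E (Ω̂_{A/k} ⊗_A E) = dim A = r, where Ω̂_{A/k} is the
𝔪-adic completion of Ω_{A/k}; stated as dim_E (E ⊗_A Ω̂_{A/k}) = r. -/
theorem result (k : Type u) [Field k] (r : ℕ) (A : Type u) [CommRing A]
    [IsDomain A] [IsLocalRing A] [IsNoetherianRing A] [IsAdicComplete (maximalIdeal A) A]
    [Algebra (MvPowerSeries (Fin r) k) A] [Algebra k A] [IsScalarTower k (MvPowerSeries (Fin r) k) A]
    (hinj : Function.Injective (algebraMap (MvPowerSeries (Fin r) k) A)) [Module.Finite (MvPowerSeries (Fin r) k) A]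
    (hsep : ∀ a : A, ∃ P : Polynomial (MvPowerSeries (Fin r) k), Polynomial.aeval a P = 0 ∧
      (P.map (algebraMap (MvPowerSeries (Fin r) k) (FractionRing (MvPowerSeries (Fin r) k)))).Separable) :
    Module.finrank (FractionRing A) (FractionRing A ⊗[A] AdicCompletion (maximalIdeal A) (Ω[A⁄k])) = r := by
  classical
  haveI : Algebra.IsIntegral (MvPowerSeries (Fin r) k) A := Algebra.IsIntegral.of_finite _ _
  haveI hloc : IsLocalHom (algebraMap (MvPowerSeries (Fin r) k) A) :=
    RingHom.IsIntegral.isLocalHom (algebraMap_isIntegral_iff.2 inferInstance) hinj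
  let P := MvPowerSeries (Fin r) k
  haveI : IsDomain P := NoZeroDivisors.to_isDomain _
  have hX : ∀ i : Fin r, algebraMap P A (MvPowerSeries.X i) ∈ maximalIdeal A := fun i hu => by
    have h := (isUnit_of_map_unit (algebraMap P A) _ hu).map MvPowerSeries.constantCoeff
    rw [MvPowerSeries.constantCoeff_X] at h
    exact not_isUnit_zero h
  haveI : Module.Finite k (ResidueField A) := by
    haveI : Module.Finite P (ResidueField A) := Module.Finite.trans A (ResidueField A)
    haveI : IsLocalHom (algebraMap k P) := ⟨fun c hc => by
      have h := hc.map MvPowerSeries.constantCoeff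
      rwa [MvPowerSeries.algebraMap_apply, MvPowerSeries.constantCoeff_C] at h⟩
    haveI : Module.Finite k (ResidueField P) := Module.Finite.of_surjective
      (Algebra.linearMap k (ResidueField P)) fun z => by
        obtain ⟨f, rfl⟩ := residue_surjective z
        refine ⟨MvPowerSeries.constantCoeff f, ?_⟩
        show algebraMap k (ResidueField P) _ = _
        rw [IsScalarTower.algebraMap_apply k P (ResidueField P)]
        show residue P (algebraMap k P (MvPowerSeries.constantCoeff f)) = residue P f
        rw [← sub_eq_zero, ← map_sub, residue_eq_zero_iff, Groth.Agent.WildQuotLib.mem_maximalIdeal_iff_constantCoeff,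
          map_sub, MvPowerSeries.algebraMap_apply, MvPowerSeries.constantCoeff_C, Algebra.algebraMap_self, RingHom.id_apply, sub_self]
    haveI : Module.Finite (ResidueField P) (ResidueField A) := inferInstance
    exact Module.Finite.trans (ResidueField P) (ResidueField A)
  haveI : (⊥ : Ideal A).IsPrime := Ideal.isPrime_bot
  let S := Localization.AtPrime (⊥ : Ideal A)
  haveI : IsFractionRing A S := by
    have : (⊥ : Ideal A).primeCompl = nonZeroDivisors A := by
      ext x; rw [Ideal.mem_primeCompl_iff, Ideal.mem_bot, mem_nonZeroDivisors_iff_ne_zero]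
    show IsLocalization (nonZeroDivisors A) S
    rw [← this]
    infer_instance
  let L₀ := FractionRing P
  let E := FractionRing A
  -- separability gives unramifiedness at the generic point
  haveI : Algebra.IsUnramifiedAt P (⊥ : Ideal A) := by
    letI : Algebra L₀ E := (IsFractionRing.lift (A := P) (K := L₀)
      (show Function.Injective (algebraMap P E) by
        rw [IsScalarTower.algebraMap_eq P A E]; exact (IsFractionRing.injective A E).comp hinj)).toAlgebra
    haveI : IsScalarTower P L₀ E := IsScalarTower.of_algebraMap_eq fun x =>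
      (IsFractionRing.lift_algebraMap (A := P) (K := L₀) _ x).symm
    haveI : Algebra.IsSeparable L₀ E := by
      refine ⟨fun z => ?_⟩
      have hsepA : ∀ a : A, IsSeparable L₀ (algebraMap A E a) := fun a => by
        obtain ⟨Q, hQ, hQs⟩ := hsep a
        refine hQs.of_dvd (minpoly.dvd _ _ ?_)
        rw [Polynomial.aeval_map_algebraMap, Polynomial.aeval_algebraMap_apply, hQ, map_zero]
      obtain ⟨a, b, -, rfl⟩ := IsFractionRing.div_surjective (A := A) z
      exact mem_separableClosure_iff.1
        (div_mem (mem_separableClosure_iff.2 (hsepA a)) (mem_separableClosure_iff.2 (hsepA b)))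
    haveI : Algebra.FormallyUnramified P L₀ := Algebra.FormallyUnramified.of_isLocalization (nonZeroDivisors P)
    haveI : Algebra.FormallyUnramified L₀ E := Algebra.FormallyUnramified.of_isSeparable L₀ E
    haveI : Algebra.FormallyUnramified P E := Algebra.FormallyUnramified.comp P L₀ E
    exact Algebra.FormallyUnramified.of_equiv ((IsLocalization.algEquiv (nonZeroDivisors A) E S).restrictScalars P)
  have hdim : ringKrullDim (A ⧸ (⊥ : Ideal A)) = r := by
    rw [ringKrullDim_eq_of_ringEquiv (RingEquiv.quotientBot A),
      ← Groth.Agent.GrSegreLib.ringKrullDim_eq_of_integral_injective (algebraMap P A) hinj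
        (algebraMap_isIntegral_iff.2 inferInstance)]
    exact Groth.Agent.WildQuotLib.ringKrullDim_eq k r
  haveI := Groth.Agent.EGA418Lib.finite_CO k A
  have hs := (Groth.Agent.EGA418Lib.isUnramifiedAt_iff_span k A hX ⊥).1 inferInstance
  rw [Groth.Agent.EGA418Lib.span_localized_eq_top_iff] at hs
  let κ := (⊥ : Ideal A).ResidueField
  have hle : Module.finrank κ (κ ⊗[A] Groth.Agent.EGA418Lib.CO k A) ≤ r := by
    have := finrank_range_le_card (R := κ) (fun i : Fin r => Groth.Agent.EGA418Lib.toFib (⊥ : Ideal A)
      (Groth.Agent.EGA418Lib.cD k A (algebraMap P A (MvPowerSeries.X i))))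
    rw [Set.finrank, hs, finrank_top, Fintype.card_fin] at this
    exact this
  have hge : r ≤ Module.finrank κ (κ ⊗[A] Groth.Agent.EGA418Lib.CO k A) :=
    Groth.Agent.EGA418Lib.dim_le_finrank_fib k A le_rfl hdim
  have hκinj : Function.Injective (algebraMap A κ) := by
    rw [injective_iff_map_eq_zero]
    intro a ha
    exact Ideal.mem_bot.1 (Ideal.algebraMap_residueField_eq_zero.1 ha)
  letI : Algebra E κ := (IsFractionRing.lift (A := A) (K := E) hκinj).toAlgebra
  haveI : IsScalarTower A E κ := IsScalarTower.of_algebraMap_eq fun x =>
    (IsFractionRing.lift_algebraMap (A := A) (K := E) hκinj x).symm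
  show Module.finrank E (E ⊗[A] Groth.Agent.EGA418Lib.CO k A) = r
  rw [← Module.finrank_baseChange (R := κ), (TensorProduct.AlgebraTensorModule.cancelBaseChange A E κ κ
    (Groth.Agent.EGA418Lib.CO k A)).finrank_eq]
  exact le_antisymm hle hge

end Groth.Agent.S4557
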