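import Groth.Statements.S4559
import Mathlib
-- import your own Groth.Agent.* helpers here

set_option autoImplicit false
universe u
open EGA41

namespace Groth.Agent.S4559

/-- Let A be 𝔞-adic and B a topological A-algebra for the 𝔟-adic topology (a power of 𝔞 maps into 𝔟).
Then B is a formally unramified A-algebra (for every homomorphism E → C of discrete A-algebras with
nilpotent kernel and every continuous u : B → C there is at most one continuous lift B → E; here E
discrete means killed by a power of 𝔞, and one may take C = E/J) if and only if the separated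
completion of Ω_{B/A}, i.e. its 𝔟-adic completion, is zero. -/
theorem result {A B : Type u} [CommRing A] [CommRing B] [Algebra A B]
    (𝔞 : Ideal A) (𝔟 : Ideal B) (hAB : ∃ k : ℕ, (𝔞 ^ k).map (algebraMap A B) ≤ 𝔟) :
    (∀ (E : Type u) [CommRing E] [Algebra A E], (∃ k : ℕ, (𝔞 ^ k).map (algebraMap A E) = ⊥) →
      ∀ J : Ideal E, IsNilpotent J → ∀ v₁ v₂ : B →ₐ[A] E,
        (∃ m : ℕ, ∀ x ∈ 𝔟 ^ m, v₁ x = 0) → (∃ m : ℕ, ∀ x ∈ 𝔟 ^ m, v₂ x = 0) →
        (∀ b : B, Ideal.Quotient.mk J (v₁ b) = Ideal.Quotient.mk J (v₂ b)) → v₁ = v₂) ↔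
    Subsingleton (AdicCompletion 𝔟 (Ω[B⁄A])) := by
  classical
  obtain ⟨k, hk⟩ := hAB
  let L := (𝔟 • ⊤ : Submodule B Ω[B⁄A])
  have hsub : Subsingleton (AdicCompletion 𝔟 (Ω[B⁄A])) ↔ ∀ m : ℕ, (𝔟 ^ m • ⊤ : Submodule B Ω[B⁄A]) = ⊤ := by
    constructor
    · intro hs m
      rw [eq_top_iff]
      intro x _
      have h1 : AdicCompletion.of 𝔟 _ x = 0 := Subsingleton.elim _ _
      have h2 := congrArg (fun z => AdicCompletion.eval 𝔟 _ m z) h1
      simpa [Submodule.Quotient.mk_eq_zero] using h2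
    · intro hall
      refine ⟨fun a b => AdicCompletion.ext fun m => ?_⟩
      haveI : Subsingleton (Ω[B⁄A] ⧸ (𝔟 ^ m • ⊤ : Submodule B Ω[B⁄A])) :=
        Submodule.Quotient.subsingleton_iff.mpr (hall m)
      exact Subsingleton.elim _ _
  rw [hsub]
  constructor
  · intro h
    suffices h1 : (𝔟 • ⊤ : Submodule B Ω[B⁄A]) = ⊤ by
      intro m
      induction m with
      | zero => rw [pow_zero, Ideal.one_eq_top, Submodule.top_smul]
      | succ m ih => rw [pow_succ, Submodule.mul_smul, h1, ih]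
    let M := Ω[B⁄A] ⧸ L
    have hb : Module.IsTorsionBySet B M (𝔟 : Set B) := fun x ⟨r, hr⟩ => by
      obtain ⟨x, rfl⟩ := Submodule.Quotient.mk_surjective _ x
      show Submodule.Quotient.mk (r • x) = (0 : M)
      exact (Submodule.Quotient.mk_eq_zero _).mpr (Submodule.smul_mem_smul hr Submodule.mem_top)
    letI : Module (B ⧸ 𝔟) M := hb.module
    haveI : IsScalarTower B (B ⧸ 𝔟) M := hb.isScalarTower
    haveI : IsScalarTower A (B ⧸ 𝔟) M := hb.isScalarTower
    letI : Module (B ⧸ 𝔟)ᵐᵒᵖ M := Module.compHom _ ((RingEquiv.toOpposite (B ⧸ 𝔟)).symm : (B ⧸ 𝔟)ᵐᵒᵖ ≃+* (B ⧸ 𝔟)).toRingHom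
    haveI : IsCentralScalar (B ⧸ 𝔟) M := ⟨fun _ _ => rfl⟩
    haveI : IsScalarTower A (B ⧸ 𝔟)ᵐᵒᵖ M := ⟨fun a r x => smul_assoc a r.unop x⟩
    let π : B →ₐ[A] B ⧸ 𝔟 := Ideal.Quotient.mkₐ A 𝔟
    let d : B → M := fun b => Submodule.Quotient.mk (KaehlerDifferential.D A B b)
    let v₁ : B →ₐ[A] TrivSqZeroExt (B ⧸ 𝔟) M := (TrivSqZeroExt.inlAlgHom A (B ⧸ 𝔟) M).comp π
    let v₂ : B →ₐ[A] TrivSqZeroExt (B ⧸ 𝔟) M :=
      { toFun := fun b => TrivSqZeroExt.inl (π b) + TrivSqZeroExt.inr (d b)
        map_one' := TrivSqZeroExt.ext (by simp) (by simp [d])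
        map_mul' := fun b b' => TrivSqZeroExt.ext (by simp) (by
          simp only [TrivSqZeroExt.snd_add, TrivSqZeroExt.snd_inl, TrivSqZeroExt.snd_inr, zero_add,
            TrivSqZeroExt.snd_mul, TrivSqZeroExt.fst_add, TrivSqZeroExt.fst_inl, TrivSqZeroExt.fst_inr,
            add_zero, op_smul_eq_smul]
          show Submodule.Quotient.mk _ = b • d b' + b' • d b
          rw [Derivation.leibniz]; rfl)
        map_zero' := TrivSqZeroExt.ext (by simp) (by simp [d])
        map_add' := fun b b' => TrivSqZeroExt.ext (by simp) (by simp [d]; abel)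
        commutes' := fun a => TrivSqZeroExt.ext (by simp [TrivSqZeroExt.algebraMap_eq_inlHom]; rfl)
          (by simp [d]; rfl) }
    have hπk : ∀ a ∈ 𝔞 ^ k, π (algebraMap A B a) = 0 := fun a ha =>
      Ideal.Quotient.eq_zero_iff_mem.mpr (hk (Ideal.mem_map_of_mem _ ha))
    have key := h (TrivSqZeroExt (B ⧸ 𝔟) M) ⟨k, by
        rw [eq_bot_iff, Ideal.map_le_iff_le_comap]
        intro a ha
        rw [Ideal.mem_comap, Ideal.mem_bot, ← AlgHom.commutes v₁]
        show TrivSqZeroExt.inl (π (algebraMap A B a)) = 0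
        rw [hπk a ha, TrivSqZeroExt.inl_zero]⟩
      (TrivSqZeroExt.kerIdeal (B ⧸ 𝔟) M) ⟨2, TrivSqZeroExt.kerIdeal_sq (B ⧸ 𝔟) M⟩ v₁ v₂
      ⟨1, fun x hx => by
        rw [pow_one] at hx
        show TrivSqZeroExt.inl (π x) = 0
        rw [show π x = 0 from Ideal.Quotient.eq_zero_iff_mem.mpr hx, TrivSqZeroExt.inl_zero]⟩
      ⟨2, fun x hx => by
        rw [pow_two] at hx
        have h0 : π x = 0 := Ideal.Quotient.eq_zero_iff_mem.mpr (Ideal.mul_le_left hx)
        have h1 : d x = 0 := by
          induction hx using Submodule.mul_induction_on' with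
          | mem_mul_mem a ha b hb' =>
              show Submodule.Quotient.mk _ = _
              rw [Derivation.leibniz]
              exact (Submodule.Quotient.mk_eq_zero _).mpr (add_mem (Submodule.smul_mem_smul ha Submodule.mem_top)
                (Submodule.smul_mem_smul hb' Submodule.mem_top))
          | add a ha b hb iha ihb =>
              show Submodule.Quotient.mk _ = _
              rw [map_add, Submodule.Quotient.mk_add]
              rw [show Submodule.Quotient.mk _ = (0 : M) from iha (Ideal.Quotient.eq_zero_iff_mem.mpr (Ideal.mul_le_left ha)),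
                show Submodule.Quotient.mk _ = (0 : M) from ihb (Ideal.Quotient.eq_zero_iff_mem.mpr (Ideal.mul_le_left hb)), add_zero]
        show TrivSqZeroExt.inl (π x) + TrivSqZeroExt.inr (d x) = 0
        rw [h0, h1, TrivSqZeroExt.inl_zero, TrivSqZeroExt.inr_zero, add_zero]⟩
      (fun b => by
        rw [Ideal.Quotient.eq, TrivSqZeroExt.mem_kerIdeal_iff_inr]
        exact TrivSqZeroExt.ext (by simp [v₁, v₂]) (by simp [v₁, v₂]))
    rw [eq_top_iff]
    conv_lhs => rw [← KaehlerDifferential.span_range_derivation]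
    rw [Submodule.span_le]
    rintro _ ⟨b, rfl⟩
    have h2 := congrArg TrivSqZeroExt.snd (DFunLike.congr_fun key b)
    simp [v₁, v₂, d] at h2
    exact (Submodule.Quotient.mk_eq_zero _).mp h2.symm
  · intro hall E _ _ hE J hJ v₁ v₂ hc₁ hc₂ heq
    obtain ⟨r, hr⟩ := hJ
    suffices hdiff : ∀ (j : ℕ) (b : B), v₁ b - v₂ b ∈ J ^ j by
      refine AlgHom.ext fun b => sub_eq_zero.mp ?_
      have := hdiff r b
      rw [hr] at this
      exact this
    intro j
    induction j with
    | zero => intro b; simp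
    | succ j ih =>
      intro b
      rcases Nat.eq_zero_or_pos j with rfl | hj
      · rw [zero_add, pow_one]; exact Ideal.Quotient.eq.mp (heq b)
      obtain ⟨m, hm⟩ := hc₁
      let π : E →+* E ⧸ J ^ (j + 1) := Ideal.Quotient.mk _
      letI : Module B (E ⧸ J ^ (j + 1)) := Module.compHom _ (π.comp v₁.toRingHom)
      haveI : IsScalarTower A B (E ⧸ J ^ (j + 1)) := IsScalarTower.of_algebraMap_smul fun a x => by
        show π (v₁ (algebraMap A B a)) * x = a • x
        rw [AlgHom.commutes, Algebra.smul_def]; rfl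
      let δ : Derivation A B (E ⧸ J ^ (j + 1)) := Derivation.mk'
        ((Ideal.Quotient.mkₐ A (J ^ (j + 1))).toLinearMap.comp (v₁.toLinearMap - v₂.toLinearMap))
        (fun x y => by
          show π (v₁ (x * y) - v₂ (x * y)) = π (v₁ x) * π (v₁ y - v₂ y) + π (v₁ y) * π (v₁ x - v₂ x)
          rw [← sub_eq_zero, ← map_mul, ← map_mul, ← map_add, ← map_sub, Ideal.Quotient.eq_zero_iff_mem]
          have h1 : (v₁ x - v₂ x) * (v₁ y - v₂ y) ∈ J ^ (j + 1) := by
            rw [pow_succ]
            refine Ideal.mul_mem_mul (ih x) ?_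
            exact Ideal.pow_le_self hj.ne' (ih y)
          rw [map_mul, map_mul]
          have e : v₁ x * v₁ y - v₂ x * v₂ y - (v₁ x * (v₁ y - v₂ y) + v₁ y * (v₁ x - v₂ x)) =
              -((v₁ x - v₂ x) * (v₁ y - v₂ y)) := by ring
          rw [e]
          exact neg_mem h1)
      have hφ : δ.liftKaehlerDifferential = 0 := by
        refine LinearMap.ext fun w => ?_
        have hw : w ∈ (𝔟 ^ m • ⊤ : Submodule B Ω[B⁄A]) := by rw [hall m]; trivial
        refine Submodule.smul_induction_on hw (fun c hc y _ => ?_) (fun a a' ha ha' => ?_)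
        · rw [map_smul]
          show π (v₁ c) * _ = 0
          rw [hm c hc, map_zero, zero_mul]
        · rw [map_add, ha, ha', map_add]
      have h2 : π (v₁ b - v₂ b) = 0 := by
        have h3 := Derivation.liftKaehlerDifferential_comp_D δ b
        rw [hφ] at h3
        exact h3.symm
      exact Ideal.Quotient.eq_zero_iff_mem.mp h2

end Groth.Agent.S4559
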