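import Mathlib
import Mathlib
import Groth.Agent.AdicUnramLib.Basic
import Groth.Statements.S4560

set_option autoImplicit false
universe u
open EGA41

namespace Groth.Agent.S4560

/-- Let A be a ring, 𝔪 an ideal of A, B an A-algebra; give A the 𝔪-adic topology and B the topology
deduced from it (the 𝔪B-adic topology), and put A₀ = A/𝔪, B₀ = B/𝔪B. Then B is a formally unramified
A-algebra (for these topologies: E discrete means killed by a power of 𝔪, and continuity of maps B →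
E is then automatic) if and only if Ω_{B₀/A₀} = 0, i.e. B₀ is a formally unramified A₀-algebra. -/
theorem result {A B : Type u} [CommRing A] [CommRing B] [Algebra A B] (𝔪 : Ideal A) :
    (∀ (E : Type u) [CommRing E] [Algebra A E], (∃ k : ℕ, (𝔪 ^ k).map (algebraMap A E) = ⊥) →
      ∀ J : Ideal E, IsNilpotent J → ∀ v₁ v₂ : B →ₐ[A] E,
        (∀ b : B, Ideal.Quotient.mk J (v₁ b) = Ideal.Quotient.mk J (v₂ b)) → v₁ = v₂) ↔
    Subsingleton (Ω[B ⧸ 𝔪.map (algebraMap A B)⁄A ⧸ 𝔪]) := by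
  refine ⟨fun h => ?_, fun h E _ _ hk J hJ v₁ v₂ hv =>
    Groth.Agent.AdicUnramLib.adic_unique 𝔪 h E hk J hJ v₁ v₂ hv⟩
  suffices hu : Algebra.FormallyUnramified (A ⧸ 𝔪) (B ⧸ 𝔪.map (algebraMap A B)) from hu.1
  rw [Algebra.FormallyUnramified.iff_comp_injective]
  intro E _ _ I hI f g hfg
  letI : Algebra A E := ((algebraMap (A ⧸ 𝔪) E).comp (Ideal.Quotient.mk 𝔪)).toAlgebra
  haveI : IsScalarTower A (A ⧸ 𝔪) E := IsScalarTower.of_algebraMap_eq fun _ => rfl
  let π := IsScalarTower.toAlgHom A B (B ⧸ 𝔪.map (algebraMap A B))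
  have hk : ∃ k : ℕ, (𝔪 ^ k).map (algebraMap A E) = ⊥ :=
    ⟨1, by
      rw [pow_one, show algebraMap A E = (algebraMap (A ⧸ 𝔪) E).comp (Ideal.Quotient.mk 𝔪) from rfl,
        ← Ideal.map_map, Ideal.map_quotient_self, Ideal.map_bot]⟩
  have hv := h E hk I ⟨2, hI⟩ ((f.restrictScalars A).comp π) ((g.restrictScalars A).comp π) fun b =>
    AlgHom.congr_fun hfg (π b)
  refine AlgHom.ext fun x => ?_
  obtain ⟨b, rfl⟩ := Ideal.Quotient.mk_surjective x
  exact AlgHom.congr_fun hv b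

end Groth.Agent.S4560
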