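import Groth.Statements.S4561
import Mathlib
-- import your own Groth.Agent.* helpers here

set_option autoImplicit false
universe u
open EGA41

namespace Groth.Agent.S4561

/-- Let k₀ be a field of characteristic p > 0 with [k₀ : k₀^p] < ∞ and K₀ an extension of k₀. Inside
K₀((T_1, …, T_r)) one has (k₀(K₀^p))((T_1, …, T_r)) = k₀(K₀^p((T_1, …, T_r))); here, for a subfield
F of K₀, F((T)) denotes the subfield of the fraction field of K₀[[T]] generated by the power series
with all coefficients in F. -/
theorem result (p : ℕ) [Fact p.Prime] {k₀ K₀ : Type u} [Field k₀] [Field K₀] [Algebra k₀ K₀] [CharP k₀ p]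
    (hfin : Module.Finite (Subfield.closure (Set.range fun x : k₀ => x ^ p)) k₀) (r : ℕ) :
    Subfield.closure (algebraMap (MvPowerSeries (Fin r) K₀) (FractionRing (MvPowerSeries (Fin r) K₀)) ''
        {f | ∀ n, MvPowerSeries.coeff n f ∈
          Subfield.closure (Set.range (algebraMap k₀ K₀) ∪ Set.range fun y : K₀ => y ^ p)}) =
      Subfield.closure
        (Set.range (algebraMap k₀ (FractionRing (MvPowerSeries (Fin r) K₀))) ∪
          (Subfield.closure (algebraMap (MvPowerSeries (Fin r) K₀) (FractionRing (MvPowerSeries (Fin r) K₀)) ''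
            {f | ∀ n, MvPowerSeries.coeff n f ∈ Subfield.closure (Set.range fun y : K₀ => y ^ p)}) :
            Set (FractionRing (MvPowerSeries (Fin r) K₀)))) := by
  classical
  set Kp : Subfield K₀ := Subfield.closure (Set.range fun y : K₀ => y ^ p) with hKp
  let L := FractionRing (MvPowerSeries (Fin r) K₀)
  let ι : MvPowerSeries (Fin r) K₀ →+* L := algebraMap _ _
  haveI : Module.Finite (Subfield.closure (Set.range fun x : k₀ => x ^ p)) k₀ := hfin
  obtain ⟨m, w, hw⟩ := Module.Finite.exists_fin (R := Subfield.closure (Set.range fun x : k₀ => x ^ p)) (M := k₀)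
  set F0 : Subfield k₀ := Subfield.closure (Set.range fun x : k₀ => x ^ p)
  have hF0 : ∀ x ∈ F0, algebraMap k₀ K₀ x ∈ Kp := by
    intro x hx
    have hle : F0 ≤ Kp.comap (algebraMap k₀ K₀) := Subfield.closure_le.mpr (by
      rintro _ ⟨y, rfl⟩
      exact Subfield.subset_closure ⟨algebraMap k₀ K₀ y, (map_pow _ _ _).symm⟩)
    exact hle hx
  let T : Submodule Kp K₀ := Submodule.span Kp (Set.range fun j => algebraMap k₀ K₀ (w j))
  have hTk : ∀ x : k₀, algebraMap k₀ K₀ x ∈ T := fun x => by
    have hx : x ∈ Submodule.span F0 (Set.range w) := by rw [hw]; trivial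
    obtain ⟨c, rfl⟩ := (Submodule.mem_span_range_iff_exists_fun _).mp hx
    rw [map_sum]
    refine Submodule.sum_mem _ fun j _ => ?_
    rw [Algebra.smul_def, map_mul]
    exact Submodule.smul_mem T (⟨_, hF0 _ (c j).2⟩ : Kp) (Submodule.subset_span ⟨j, rfl⟩)
  have hTmul : ∀ a ∈ T, ∀ b ∈ T, a * b ∈ T := by
    intro a ha b hb
    induction ha using Submodule.span_induction with
    | zero => rw [zero_mul]; exact T.zero_mem
    | add a a' _ _ h h' => rw [add_mul]; exact T.add_mem h h'
    | smul c a _ h => rw [smul_mul_assoc]; exact T.smul_mem c h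
    | mem a ha =>
        obtain ⟨i, rfl⟩ := ha
        induction hb using Submodule.span_induction with
        | zero => rw [mul_zero]; exact T.zero_mem
        | add b b' _ _ h h' => rw [mul_add]; exact T.add_mem h h'
        | smul c b _ h => rw [mul_smul_comm]; exact T.smul_mem c h
        | mem b hb =>
            obtain ⟨j, rfl⟩ := hb
            show algebraMap k₀ K₀ (w i) * algebraMap k₀ K₀ (w j) ∈ T
            rw [← map_mul]; exact hTk _
  let TA : Subalgebra Kp K₀ := T.toSubalgebra (map_one (algebraMap k₀ K₀) ▸ hTk 1) (fun a b ha hb => hTmul a ha b hb)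
  haveI : Module.Finite Kp T := Module.Finite.span_of_finite Kp (Set.finite_range _)
  haveI : Module.Finite Kp TA := ‹Module.Finite Kp T›
  have hTinv : ∀ a ∈ TA, a⁻¹ ∈ TA := fun a ha =>
    Subalgebra.inv_mem_of_algebraic TA (x := ⟨a, ha⟩)
      ((Algebra.IsAlgebraic.isAlgebraic (R := Kp) (⟨a, ha⟩ : TA)).algebraMap (A := K₀))
  have hK1 : Subfield.closure (Set.range (algebraMap k₀ K₀) ∪ Set.range fun y : K₀ => y ^ p) ≤
      { TA.toSubring with inv_mem' := hTinv } := by
    refine Subfield.closure_le.mpr (Set.union_subset ?_ ?_)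
    · rintro _ ⟨x, rfl⟩; exact hTk x
    · rintro _ ⟨y, rfl⟩
      exact TA.algebraMap_mem (⟨y ^ p, Subfield.subset_closure ⟨y, rfl⟩⟩ : Kp)
  apply le_antisymm
  · refine Subfield.closure_le.mpr ?_
    rintro _ ⟨f, hf, rfl⟩
    have hc : ∀ n, ∃ c : Fin m → Kp, ∑ j, c j • algebraMap k₀ K₀ (w j) = MvPowerSeries.coeff n f := fun n =>
      (Submodule.mem_span_range_iff_exists_fun _).mp (hK1 (hf n))
    choose c hc using hc
    let g : Fin m → MvPowerSeries (Fin r) K₀ := fun j n => ((c n j : Kp) : K₀)
    have hfg : f = ∑ j, MvPowerSeries.C (algebraMap k₀ K₀ (w j)) * g j := by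
      ext n
      rw [map_sum, ← hc n]
      refine Finset.sum_congr rfl fun j _ => ?_
      rw [MvPowerSeries.coeff_C_mul, Subfield.smul_def, smul_eq_mul, mul_comm]
      rfl
    rw [SetLike.mem_coe, hfg, map_sum]
    refine Subfield.sum_mem _ fun j _ => ?_
    rw [map_mul]
    refine Subfield.mul_mem _ (Subfield.subset_closure (Or.inl ⟨w j, ?_⟩))
      (Subfield.subset_closure (Or.inr (Subfield.subset_closure ⟨g j, fun n => (c n j).2, rfl⟩)))
    rw [IsScalarTower.algebraMap_apply k₀ (MvPowerSeries (Fin r) K₀) (FractionRing (MvPowerSeries (Fin r) K₀)),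
      MvPowerSeries.algebraMap_apply]
  · refine Subfield.closure_le.mpr (Set.union_subset ?_ ?_)
    · rintro _ ⟨x, rfl⟩
      rw [IsScalarTower.algebraMap_apply k₀ (MvPowerSeries (Fin r) K₀) (FractionRing (MvPowerSeries (Fin r) K₀))]
      refine Subfield.subset_closure ⟨algebraMap k₀ (MvPowerSeries (Fin r) K₀) x, fun n => ?_, rfl⟩
      rw [MvPowerSeries.algebraMap_apply, MvPowerSeries.coeff_C]
      split_ifs
      · exact Subfield.subset_closure (Or.inl ⟨x, rfl⟩)
      · exact zero_mem _
    · refine Subfield.closure_le.mpr ?_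
      rintro _ ⟨f, hf, rfl⟩
      exact Subfield.subset_closure ⟨f, fun n => Subfield.closure_mono Set.subset_union_right (hf n), rfl⟩

end Groth.Agent.S4561
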