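import Groth.Statements.S4563
import Groth.Agent.NagataLib.PowerSeries
import Groth.Agent.WildQuotLib.PSReg

set_option autoImplicit false
universe u
open CAlg

namespace Groth.Agent.S4563

open Groth.Agent.NagataLib
set_option backward.isDefEq.respectTransparency false
set_option maxHeartbeats 1000000


/-- If A is a Noetherian integrally closed Japanese (N-2) domain, then every formal power series ring
A[[T_1, ..., T_r]] is Japanese. (The power series ring is a domain; that instance is taken as a
hypothesis binder.) -/
theorem result {A : Type u} [CommRing A] [IsDomain A]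
    [IsNoetherianRing A] [IsIntegrallyClosed A] (hA : CAlg.IsN2 A) (r : ℕ)
    [IsDomain (MvPowerSeries (Fin r) A)] :
    CAlg.IsN2 (MvPowerSeries (Fin r) A) := by
  classical
  suffices h : ∀ (r : ℕ) [IsDomain (MvPowerSeries (Fin r) A)], IsNoetherianRing (MvPowerSeries (Fin r) A) ∧
      IsIntegrallyClosed (MvPowerSeries (Fin r) A) ∧ CAlg.IsN2 (MvPowerSeries (Fin r) A) from (h r).2.2
  intro r
  induction r with
  | zero =>
    intro _
    let e : A ≃+* MvPowerSeries (Fin 0) A := RingEquiv.ofBijective (MvPowerSeries.C (σ := Fin 0) (R := A))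
      ⟨fun a b h => by simpa using congrArg MvPowerSeries.constantCoeff h, fun f =>
        ⟨MvPowerSeries.constantCoeff f, by
          ext m
          rw [Subsingleton.elim m 0]
          simp⟩⟩
    exact ⟨isNoetherianRing_of_ringEquiv A e, IsIntegrallyClosed.of_equiv e,
      Groth.Agent.NagataCompleteLib.isN2_of_ringEquiv e hA⟩
  | succ n ih =>
    intro _
    haveI : IsDomain (MvPowerSeries (Fin n) A) := NoZeroDivisors.to_isDomain _
    obtain ⟨hnn, hic, hn2⟩ := @ih inferInstance
    haveI := hnn
    haveI := hic
    haveI := isIntegrallyClosed_powerSeries (MvPowerSeries (Fin n) A)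
    let e := (MvPowerSeries.finSuccEquiv A n).toRingEquiv.symm
    exact ⟨isNoetherianRing_of_ringEquiv _ e, IsIntegrallyClosed.of_equiv e,
      Groth.Agent.NagataCompleteLib.isN2_of_ringEquiv e (isN2_powerSeries (MvPowerSeries (Fin n) A) hn2)⟩

end Groth.Agent.S4563
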