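import Groth.Statements.S4565
import Groth.Agent.NagataLib.Completion

set_option autoImplicit false
universe u
open TensorProduct
open CAlg

namespace Groth.Agent.S4565

/-- Let A be a Noetherian local domain with fraction field K whose adic completion Â is reduced, R the
total ring of fractions of Â and K' a finite extension of K. If R ⊗_A K' (equal to R ⊗_K K', since K
is a localization of A and the nonzero elements of A are invertible in R) is reduced, then the
integral closure of A in K' is a finitely generated A-module. -/
theorem result {A K' R : Type u}
    [CommRing A] [IsDomain A] [IsLocalRing A] [IsNoetherianRing A]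
    (hred : IsReduced (AdicCompletion (IsLocalRing.maximalIdeal A) A))
    [CommRing R] [Algebra (AdicCompletion (IsLocalRing.maximalIdeal A) A) R]
    [IsFractionRing (AdicCompletion (IsLocalRing.maximalIdeal A) A) R] [Algebra A R]
    [IsScalarTower A (AdicCompletion (IsLocalRing.maximalIdeal A) A) R]
    [Field K'] [Algebra A K'] [Algebra (FractionRing A) K'] [IsScalarTower A (FractionRing A) K']
    [FiniteDimensional (FractionRing A) K'] (h : IsReduced (R ⊗[A] K')) :
    Module.Finite A (integralClosure A K') := by
  let Ah := AdicCompletion (IsLocalRing.maximalIdeal A) A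
  have hm := (IsLocalRing.maximalIdeal.isMaximal A).ne_top
  haveI : IsNoetherianRing Ah := RegLocal.isNoetherianRing_completion A _
  haveI := RegLocal.isLocalRing_completion A (IsLocalRing.maximalIdeal A) hm
  haveI : Module.FaithfullyFlat A Ah := RegLocal.faithfullyFlat_completion A _ hm
  haveI : IsAdicComplete (IsLocalRing.maximalIdeal Ah) Ah := by
    rw [RegLocal.maximalIdeal_completion A (IsLocalRing.maximalIdeal A) hm]
    exact AdicCompletion.isAdicComplete_self _ (IsLocalRing.maximalIdeal A).fg_of_isNoetherianRing
  haveI : Module.Flat A (FractionRing A) := IsLocalization.flat (FractionRing A) (nonZeroDivisors A)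
  haveI : Module.Flat A K' := Module.Flat.trans A (FractionRing A) K'
  let φ : Ah →ₐ[A] R := IsScalarTower.toAlgHom A Ah R
  have hφ : Function.Injective φ := IsFractionRing.injective Ah R
  haveI : IsReduced (Ah ⊗[A] K') := by
    have h1 : Function.Injective (Algebra.TensorProduct.map φ (AlgHom.id A K')) :=
      Module.Flat.rTensor_preserves_injective_linearMap (M := K') φ.toLinearMap hφ
    exact isReduced_of_injective (Algebra.TensorProduct.map φ (AlgHom.id A K')).toRingHom h1
  exact NagataCompleteLib.finite_integralClosure_of_reduced A Ah
    (fun q _ _ => NagataCompleteLib.isN2_quot_complete (R := Ah) (Ah ⧸ q) Ideal.Quotient.mk_surjective) K'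

end Groth.Agent.S4565
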