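import Groth.Statements.S4566
import Groth.Agent.NagataCompleteLib.Unramified
import Groth.Agent.RegLocal.Completion

set_option autoImplicit false
universe u
open CAlg

namespace Groth.Agent.S4566

open Groth.Agent.NagataCompleteLib
open scoped TensorProduct
set_option backward.isDefEq.respectTransparency false
set_option maxHeartbeats 1000000


/-- Let A be a Noetherian local domain with fraction field K whose adic completion Â is reduced, and R
the total ring of fractions of Â with its K-algebra structure. If R is geometrically reduced over K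
then A is Japanese (N-2). (The published statement asks R to be a separable K-algebra; what is used
is that K' ⊗_K R is reduced for every finite extension K' of K, which geometric reducedness gives.) -/
theorem result {A R : Type u}
    [CommRing A] [IsDomain A] [IsLocalRing A] [IsNoetherianRing A]
    (hred : IsReduced (AdicCompletion (IsLocalRing.maximalIdeal A) A))
    [CommRing R] [Algebra (AdicCompletion (IsLocalRing.maximalIdeal A) A) R]
    [IsFractionRing (AdicCompletion (IsLocalRing.maximalIdeal A) A) R] [Algebra A R]
    [IsScalarTower A (AdicCompletion (IsLocalRing.maximalIdeal A) A) R]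
    [Algebra (FractionRing A) R] [IsScalarTower A (FractionRing A) R]
    (h : Algebra.IsGeometricallyReduced (FractionRing A) R) :
    CAlg.IsN2 A := by
  intro L _ _ _ _ hfin
  let Ah := AdicCompletion (IsLocalRing.maximalIdeal A) A
  let K := FractionRing A
  haveI : IsNoetherianRing Ah := Groth.Agent.RegLocal.isNoetherianRing_adicCompletion _ (IsLocalRing.maximalIdeal A).fg_of_isNoetherianRing
  haveI : Module.FaithfullyFlat A Ah := Groth.Agent.RegLocal.faithfullyFlat_completion A _ (IsLocalRing.maximalIdeal.isMaximal A).ne_top
  haveI : IsAdicComplete (IsLocalRing.maximalIdeal Ah) Ah := by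
    show IsAdicComplete (IsLocalRing.maximalIdeal (AdicCompletion (IsLocalRing.maximalIdeal A) A)) (AdicCompletion (IsLocalRing.maximalIdeal A) A)
    rw [AdicCompletion.maximalIdeal_eq_map_of_fg (IsLocalRing.maximalIdeal A).fg_of_isNoetherianRing]
    exact AdicCompletion.isAdicComplete_self _ (IsLocalRing.maximalIdeal A).fg_of_isNoetherianRing
  have hJ : ∀ (q : Ideal Ah) [q.IsPrime], q ∈ minimalPrimes Ah → CAlg.IsN2 (Ah ⧸ q) := fun q _ _ =>
    isN2_quot_complete (R := Ah) (Ah ⧸ q) Ideal.Quotient.mk_surjective
  haveI : IsReduced (L ⊗[K] R) := inferInstance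
  let ι : Ah →ₐ[A] R := IsScalarTower.toAlgHom A Ah R
  let ψ : K ⊗[A] Ah →ₐ[K] R := Algebra.TensorProduct.lift (Algebra.ofId K R) ι fun _ _ => Commute.all _ _
  have hψ : Function.Injective ψ := by
    refine (injective_iff_map_eq_zero ψ).2 fun z hz => ?_
    obtain ⟨⟨w, s⟩, hw⟩ := IsLocalization.surj (Algebra.algebraMapSubmonoid Ah (nonZeroDivisors A))
      (Algebra.TensorProduct.comm A K Ah z)
    have h1 : algebraMap Ah R w = 0 := by
      have := congrArg (fun t => ψ ((Algebra.TensorProduct.comm A K Ah).symm t)) hw
      simp only [map_mul, AlgEquiv.symm_apply_apply, hz, zero_mul] at this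
      rw [this]
      simp [ψ, ι, Algebra.TensorProduct.algebraMap_apply]
    rw [(map_eq_zero_iff _ (IsFractionRing.injective Ah R)).1 h1, map_zero] at hw
    exact (Algebra.TensorProduct.comm A K Ah).injective
      (((IsLocalization.map_units _ s).mul_left_eq_zero.1 hw).trans (map_zero _).symm)
  haveI : IsReduced (Ah ⊗[A] L) := by
    let e1 : Ah ⊗[A] L ≃ₐ[A] L ⊗[A] Ah := Algebra.TensorProduct.comm A Ah L
    let e2 : L ⊗[K] (K ⊗[A] Ah) ≃ₐ[K] L ⊗[A] Ah := Algebra.TensorProduct.cancelBaseChange A K K L Ah
    let f : L ⊗[K] (K ⊗[A] Ah) →ₐ[K] L ⊗[K] R := Algebra.TensorProduct.map (AlgHom.id K L) ψ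
    have hf : Function.Injective f := Module.Flat.lTensor_preserves_injective_linearMap ψ.toLinearMap hψ
    exact isReduced_of_injective (f.toRingHom.comp (e2.symm.toRingEquiv.toRingHom.comp e1.toRingEquiv.toRingHom))
      (hf.comp (e2.symm.injective.comp e1.injective))
  exact finite_integralClosure_of_reduced A Ah hJ L

end Groth.Agent.S4566
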