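import Groth.Statements.S4567
import Groth.Agent.Unibranch.Radicial
-- import your own Groth.Agent.* helpers here

set_option autoImplicit false
universe u
open AlgebraicGeometry
open CAlg2

namespace Groth.Agent.S4567

/-- Let A be a domain with integral closure A' (in its fraction field) and f : Spec A' → Spec A the
canonical morphism. Then f is radicial (universally injective) if and only if every local ring A_p
is geometrically unibranch; when this holds f is a homeomorphism. -/
theorem result {A : Type u} [CommRing A] [IsDomain A] :
    (UniversallyInjective (Spec.map (CommRingCat.ofHom (algebraMap A (integralClosure A (FractionRing A))))) ↔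
      ∀ (p : Ideal A) [p.IsPrime], CAlg2.IsGeomUnibranch (Localization.AtPrime p)) ∧
    ((∀ (p : Ideal A) [p.IsPrime], CAlg2.IsGeomUnibranch (Localization.AtPrime p)) →
      IsHomeomorph (PrimeSpectrum.comap (algebraMap A (integralClosure A (FractionRing A))))) := by
  rw [Unibranch.universallyInjective_specMap_iff]
  refine ⟨⟨Unibranch.isGeomUnibranch_of_fieldEpi, Unibranch.fieldEpi_of_isGeomUnibranch⟩, fun h => ?_⟩
  refine RadicialLib.isHomeomorph_comap (Unibranch.fieldEpi_of_isGeomUnibranch h) fun r hr => ?_
  rw [show r = 0 from IsFractionRing.injective A (FractionRing A)
    ((congrArg Subtype.val hr).trans (map_zero _).symm)]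
  exact IsNilpotent.zero

end Groth.Agent.S4567
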