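import Groth.Statements.S4569
import Mathlib

set_option autoImplicit false
universe u
open CAlg

namespace Groth.Agent.S4569

/-- Let A be a ring, x a non-zero-divisor of A with p = xA prime. For every n > 0 the inverse image in A
of x^n A_p is x^n A. -/
theorem result {A : Type u} [CommRing A] (x : A)
    (hx : x ∈ nonZeroDivisors A) [(Ideal.span ({x} : Set A)).IsPrime] (n : ℕ) (hn : 0 < n) :
    Ideal.comap (algebraMap A (Localization.AtPrime (Ideal.span ({x} : Set A))))
      (Ideal.map (algebraMap A (Localization.AtPrime (Ideal.span ({x} : Set A)))) (Ideal.span ({x ^ n} : Set A))) =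
      Ideal.span ({x ^ n} : Set A) := by
  refine le_antisymm ?_ Ideal.le_comap_map
  intro y hy
  rw [Ideal.mem_comap, IsLocalization.mem_map_algebraMap_iff (Ideal.span {x}).primeCompl] at hy
  obtain ⟨⟨⟨z, hz⟩, ⟨s, hs⟩⟩, he⟩ := hy
  rw [← map_mul, IsLocalization.eq_iff_exists (Ideal.span {x}).primeCompl] at he
  obtain ⟨⟨u, hu⟩, he⟩ := he
  obtain ⟨a, rfl⟩ := Ideal.mem_span_singleton'.mp hz
  simp only at he
  suffices ∀ m, ∀ y b : A, (u * s) * y = b * x ^ m → y ∈ Ideal.span {x ^ m} from this n y (u * a) (by linear_combination he)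
  intro m
  induction m with
  | zero => intro y b _; simp
  | succ m ih =>
    intro y b hyb
    have hus : u * s ∉ Ideal.span {x} := fun h => (Ideal.IsPrime.mem_or_mem inferInstance h).elim hu hs
    have : u * s * y ∈ Ideal.span {x} := by
      rw [hyb]; exact Ideal.mem_span_singleton'.mpr ⟨b * x ^ m, by ring⟩
    obtain ⟨y', rfl⟩ := Ideal.mem_span_singleton'.mp ((Ideal.IsPrime.mem_or_mem inferInstance this).resolve_left hus)
    have hc : (u * s * y' - b * x ^ m) * x = 0 := by linear_combination hyb
    have := ih y' b (sub_eq_zero.mp (mul_right_mem_nonZeroDivisors_eq_zero_iff hx |>.mp hc))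
    obtain ⟨c, rfl⟩ := Ideal.mem_span_singleton'.mp this
    exact Ideal.mem_span_singleton'.mpr ⟨c, by ring⟩

end Groth.Agent.S4569
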