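import Groth.Statements.S4580
import Groth.Agent.JacobianLib.Basic

set_option autoImplicit false
universe u
open EGA41

namespace Groth.Agent.S4580

/-- Let k₀ be a field, k a separable (formally smooth) extension field of k₀, B = k[T_1, ..., T_r], J an
ideal of B and q a prime of B containing J, with image p in C = B/J. Then C_p is formally smooth
over k₀ for the discrete topologies if and only if there exist f_1, ..., f_m ∈ J whose images
generate J B_q and k₀-derivations D_1, ..., D_m of B with det(D_j f_i) ∉ q. -/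
theorem result {k₀ k : Type u} [Field k₀] [Field k] [Algebra k₀ k]
    [Algebra.FormallySmooth k₀ k] (r : ℕ) (J q : Ideal (MvPolynomial (Fin r) k)) [q.IsPrime] (hJq : J ≤ q)
    [(q.map (Ideal.Quotient.mk J)).IsPrime] :
    Algebra.FormallySmooth k₀ (Localization.AtPrime (q.map (Ideal.Quotient.mk J))) ↔
      ∃ (m : ℕ) (f : Fin m → MvPolynomial (Fin r) k) (D : Fin m → Derivation k₀ (MvPolynomial (Fin r) k) (MvPolynomial (Fin r) k)),
        (∀ i, f i ∈ J) ∧
        J.map (algebraMap (MvPolynomial (Fin r) k) (Localization.AtPrime q)) =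
          Ideal.span (Set.range fun i => algebraMap (MvPolynomial (Fin r) k) (Localization.AtPrime q) (f i)) ∧
        Matrix.det (Matrix.of fun i j => D j (f i)) ∉ q := by
  let B := MvPolynomial (Fin r) k
  let p := q.map (Ideal.Quotient.mk J)
  have hqp : q = p.comap (Ideal.Quotient.mk J) := by
    show q = (q.map (Ideal.Quotient.mk J)).comap (Ideal.Quotient.mk J)
    rw [Ideal.comap_map_of_surjective' _ Ideal.Quotient.mk_surjective, Ideal.mk_ker, sup_eq_left.2 hJq]
  let g : Localization.AtPrime q →+* Localization.AtPrime p :=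
    Localization.localRingHom q p (Ideal.Quotient.mk J) hqp
  letI : Algebra (Localization.AtPrime q) (Localization.AtPrime p) := g.toAlgebra
  have hg : ∀ b : B, g (algebraMap B _ b) = algebraMap (B ⧸ J) _ (Ideal.Quotient.mk J b) := fun b =>
    Localization.localRingHom_to_map q p (Ideal.Quotient.mk J) hqp b
  haveI : IsScalarTower k₀ (Localization.AtPrime q) (Localization.AtPrime p) := by
    refine IsScalarTower.of_algebraMap_eq fun a => ?_
    rw [IsScalarTower.algebraMap_apply k₀ B (Localization.AtPrime q), RingHom.algebraMap_toAlgebra, hg,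
      IsScalarTower.algebraMap_apply k₀ (B ⧸ J) (Localization.AtPrime p)]
    rfl
  haveI : Algebra.FormallySmooth k₀ B := Algebra.FormallySmooth.comp k₀ k B
  refine Groth.Agent.JacobianLib.iff_minor (R := k₀) q J hJq ?_ ?_
  · intro z
    obtain ⟨⟨x, s⟩, hxs⟩ := IsLocalization.surj p.primeCompl z
    obtain ⟨a, ha⟩ := Ideal.Quotient.mk_surjective (I := J) x
    obtain ⟨b, hb⟩ := Ideal.Quotient.mk_surjective (I := J) (s : B ⧸ J)
    have hbq : b ∈ q.primeCompl := fun h => s.2 (hb ▸ Ideal.mem_map_of_mem _ h)
    refine ⟨IsLocalization.mk' _ a ⟨b, hbq⟩, (IsLocalization.map_units (Localization.AtPrime p) s).mul_right_cancel ?_⟩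
    rw [hxs, ← hb, ← ha, ← hg, ← hg, RingHom.algebraMap_toAlgebra, ← map_mul]
    exact congrArg g (IsLocalization.mk'_spec (Localization.AtPrime q) a ⟨b, hbq⟩)
  · refine le_antisymm (fun z hz => ?_) (Ideal.map_le_iff_le_comap.2 fun a ha => ?_)
    · obtain ⟨⟨a, s⟩, has⟩ := IsLocalization.surj q.primeCompl z
      have h0 : algebraMap (B ⧸ J) (Localization.AtPrime p) (Ideal.Quotient.mk J a) = 0 := by
        rw [← hg, ← has, map_mul, show g z = 0 from hz, zero_mul]
      obtain ⟨⟨t, ht⟩, hta⟩ := (IsLocalization.map_eq_zero_iff p.primeCompl _ _).1 h0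
      obtain ⟨t, rfl⟩ := Ideal.Quotient.mk_surjective t
      have htq : t ∈ q.primeCompl := fun h => ht (Ideal.mem_map_of_mem _ h)
      have hta' : t * a ∈ J := by rw [← Ideal.Quotient.eq_zero_iff_mem, map_mul]; exact hta
      have h1 : algebraMap B (Localization.AtPrime q) t * (z * algebraMap B _ (s : B)) ∈
          J.map (algebraMap B (Localization.AtPrime q)) := by
        rw [has, ← map_mul]; exact Ideal.mem_map_of_mem _ hta'
      exact (Ideal.mul_unit_mem_iff_mem _ (IsLocalization.map_units _ s)).1
        ((Ideal.unit_mul_mem_iff_mem _ (IsLocalization.map_units (Localization.AtPrime q) ⟨t, htq⟩)).1 h1)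
    · show g (algebraMap B _ a) = 0
      rw [hg, Ideal.Quotient.eq_zero_iff_mem.2 ha, map_zero]

end Groth.Agent.S4580
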