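import Groth.Statements.S4581
import Groth.Agent.FSRelComplLib.Basic
import Mathlib
open scoped TensorProduct
-- import your own Groth.Agent.* helpers here

set_option autoImplicit false
universe u
open EGA41

namespace Groth.Agent.S4581

/-- Let A₀ be a semi-local Noetherian ring, A a module-finite A₀-algebra and Â the completion of A for
the adic topology of its Jacobson radical. For the discrete topologies, Â is a formally smooth
A-algebra relative to A₀. -/
theorem result {A₀ A : Type u} [CommRing A₀]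
    [IsNoetherianRing A₀] [Finite (MaximalSpectrum A₀)] [CommRing A] [Algebra A₀ A] [Module.Finite A₀ A] :
    EGA41.IsFormallySmoothRel A₀ A (AdicCompletion (Ideal.jacobson (⊥ : Ideal A)) A) := by
  intro C _ _ _ _ J hJ u₀ hu
  obtain ⟨u, hu⟩ := hu
  let Φ := AlgEquiv.ofBijective (FSRelComplLib.baseHom A₀ A) (FSRelComplLib.baseHom_bijective A₀ A)
  let g : A ⊗[A₀] AdicCompletion (Ideal.jacobson (⊥ : Ideal A₀)) A₀ →ₐ[A] C :=
    Algebra.TensorProduct.lift (Algebra.ofId A C) (u.comp (FSRelComplLib.complAlgHom A₀ A))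
      (fun _ _ => Commute.all _ _)
  refine ⟨g.comp Φ.symm.toAlgHom, AlgHom.ext fun z => ?_⟩
  obtain ⟨s, rfl⟩ := Φ.surjective z
  show Ideal.Quotient.mkₐ A J (g (Φ.symm (Φ s))) = u₀ (Φ s)
  rw [AlgEquiv.symm_apply_apply]
  induction s using TensorProduct.induction_on with
  | zero => simp
  | add a b ha hb => simp only [map_add, ha, hb]
  | tmul a y =>
    have h1 : g (a ⊗ₜ y) = algebraMap A C a * u (FSRelComplLib.complAlgHom A₀ A y) :=
      Algebra.TensorProduct.lift_tmul _ _ _ _ _
    have h2 : Ideal.Quotient.mk J (u (FSRelComplLib.complAlgHom A₀ A y)) =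
        u₀ (FSRelComplLib.complAlgHom A₀ A y) :=
      AlgHom.congr_fun hu (FSRelComplLib.complAlgHom A₀ A y)
    show Ideal.Quotient.mk J (g (a ⊗ₜ y)) = u₀ (FSRelComplLib.baseHom A₀ A (a ⊗ₜ y))
    rw [h1, FSRelComplLib.baseHom_tmul, map_mul, h2, map_mul, AlgHom.commutes]
    rfl

end Groth.Agent.S4581
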