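import Mathlib
import Groth.Agent.GRingCompleteLib.Main
import Groth.Agent.AdicFS.Regular
import Groth.Agent.SymGrLib.Extension
import Groth.Statements.S4582

set_option autoImplicit false
universe u
open IsLocalRing
open EGA41

namespace Groth.Agent.S4582

/-- Let A be a complete Noetherian local ring, p a prime of A, B = A_p, B̂ the completion of B, q a
prime of B̂ and r its contraction to B. Then B̂_q is formally smooth over B_r for the adic
topologies of the maximal ideals. -/
theorem result {A : Type u} [CommRing A]
    [IsLocalRing A] [IsNoetherianRing A] [IsAdicComplete (maximalIdeal A) A] (p : Ideal A) [p.IsPrime]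
    (q : Ideal (AdicCompletion (maximalIdeal (Localization.AtPrime p)) (Localization.AtPrime p))) [q.IsPrime]
    [Algebra (Localization.AtPrime (q.comap (algebraMap (Localization.AtPrime p)
        (AdicCompletion (maximalIdeal (Localization.AtPrime p)) (Localization.AtPrime p)))))
      (Localization.AtPrime q)]
    [IsScalarTower (Localization.AtPrime p)
      (Localization.AtPrime (q.comap (algebraMap (Localization.AtPrime p)
        (AdicCompletion (maximalIdeal (Localization.AtPrime p)) (Localization.AtPrime p)))))
      (Localization.AtPrime q)] :
    EGA41.IsFormallySmoothAdic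
      (Localization.AtPrime (q.comap (algebraMap (Localization.AtPrime p)
        (AdicCompletion (maximalIdeal (Localization.AtPrime p)) (Localization.AtPrime p)))))
      (maximalIdeal _) (Localization.AtPrime q) (maximalIdeal _) := by
  classical
  let B := Localization.AtPrime p
  let Bh := AdicCompletion (maximalIdeal B) B
  haveI : IsNoetherianRing B := IsLocalization.isNoetherianRing p.primeCompl _ inferInstance
  haveI : IsNoetherianRing Bh := RegLocal.isNoetherianRing_completion B (maximalIdeal B)
  have h := AdicFS.adic_of_isRegularHom (R := B) (Λ := Bh) ((GRingCompleteLib.isGRing_finiteType A A).2 p) q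
  rename_i inst tw _
  have heq : inst = (Localization.localRingHom (q.comap (algebraMap B Bh)) q (algebraMap B Bh) rfl).toAlgebra := by
    refine Algebra.algebra_ext _ _ (RingHom.congr_fun (IsLocalization.ringHom_ext
      (q.comap (algebraMap B Bh)).primeCompl (RingHom.ext fun b => ?_)))
    show @algebraMap _ _ _ _ inst (algebraMap B _ b) = Localization.localRingHom _ q (algebraMap B Bh) rfl (algebraMap B _ b)
    rw [Localization.localRingHom_to_map, ← IsScalarTower.algebraMap_apply, IsScalarTower.algebraMap_apply B Bh]
  subst heq
  letI := (Localization.localRingHom (q.comap (algebraMap B Bh)) q (algebraMap B Bh) rfl).toAlgebra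
  intro C _ _ J hJ _ v hv
  exact SymGrLib.isFormallySmoothAdic_bot h C J hJ ⟨1, by simp⟩ v hv

end Groth.Agent.S4582
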