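import Mathlib
import Groth.Agent.GRingCompleteLib.Main
import Groth.Agent.AdicFS.Regular
import Groth.Statements.S4583

set_option autoImplicit false
universe u
open IsLocalRing
open EGA41

namespace Groth.Agent.S4583

/-- Let A be a complete Noetherian local domain with fraction field K, p a prime of A, B = A_p, q a
prime of the completion B̂ of B with q ∩ B = 0. Then B̂_q is a K-algebra formally smooth over K for
the adic topology of its maximal ideal (the published statement adds that it is then geometrically
regular over K; that consequence is not stated). -/
theorem result {A : Type u} [CommRing A]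
    [IsDomain A] [IsLocalRing A] [IsNoetherianRing A] [IsAdicComplete (maximalIdeal A) A] (p : Ideal A) [p.IsPrime]
    (q : Ideal (AdicCompletion (maximalIdeal (Localization.AtPrime p)) (Localization.AtPrime p))) [q.IsPrime]
    (hq : q.comap (algebraMap (Localization.AtPrime p)
      (AdicCompletion (maximalIdeal (Localization.AtPrime p)) (Localization.AtPrime p))) = ⊥)
    [Algebra A (Localization.AtPrime q)]
    [IsScalarTower A (AdicCompletion (maximalIdeal (Localization.AtPrime p)) (Localization.AtPrime p))
      (Localization.AtPrime q)]
    [Algebra (FractionRing A) (Localization.AtPrime q)] [IsScalarTower A (FractionRing A) (Localization.AtPrime q)] :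
    CAlgX.IsAdicFormallySmooth (FractionRing A) (Localization.AtPrime q) (maximalIdeal (Localization.AtPrime q)) := by
  rename_i i1 tw1 i2 tw2
  classical
  let B := Localization.AtPrime p
  let Bh := AdicCompletion (maximalIdeal B) B
  have hKA : ∀ a, algebraMap (FractionRing A) (Localization.AtPrime q) (algebraMap A (FractionRing A) a) =
      algebraMap Bh (Localization.AtPrime q) (algebraMap A Bh a) := fun a => by
    have h1 := tw2.smul_assoc a (1 : FractionRing A) (1 : Localization.AtPrime q)
    have h2 := tw1.smul_assoc a (1 : Bh) (1 : Localization.AtPrime q)
    rw [one_smul] at h1 h2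
    have h3 := h1.trans h2.symm
    rw [Algebra.algebraMap_eq_smul_one (R := A) (A := FractionRing A), Algebra.algebraMap_eq_smul_one (R := A) (A := Bh)]
    simpa [Algebra.smul_def (R := FractionRing A) (A := Localization.AtPrime q),
      Algebra.smul_def (R := Bh) (A := Localization.AtPrime q)] using h3
  haveI : IsNoetherianRing B := IsLocalization.isNoetherianRing p.primeCompl _ inferInstance
  haveI : IsNoetherianRing Bh := RegLocal.isNoetherianRing_completion B (maximalIdeal B)
  haveI : IsNoetherianRing (Localization.AtPrime q) := IsLocalization.isNoetherianRing q.primeCompl _ inferInstance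
  have hle : p.primeCompl ≤ nonZeroDivisors A := fun x hx =>
    mem_nonZeroDivisors_of_ne_zero fun h => hx (h ▸ p.zero_mem)
  haveI : IsDomain B := IsLocalization.isDomain_localization hle
  letI : Algebra B (FractionRing A) := (IsLocalization.lift (M := p.primeCompl) (S := B) (g := algebraMap A (FractionRing A))
    fun y => IsLocalization.map_units (FractionRing A) (⟨y.1, hle y.2⟩ : nonZeroDivisors A)).toAlgebra
  haveI : IsScalarTower A B (FractionRing A) := IsScalarTower.of_algebraMap_eq fun a => (IsLocalization.lift_eq _ a).symm
  haveI : IsFractionRing B (FractionRing A) := IsFractionRing.isFractionRing_of_isDomain_of_isLocalization p.primeCompl B (FractionRing A)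
  haveI : IsScalarTower B (FractionRing A) (Localization.AtPrime q) := IsScalarTower.of_algebraMap_eq' <| IsLocalization.ringHom_ext p.primeCompl <|
    RingHom.ext fun a => by
      simp only [RingHom.comp_apply]
      rw [← IsScalarTower.algebraMap_apply A B (FractionRing A), hKA, IsScalarTower.algebraMap_apply B Bh,
        IsScalarTower.algebraMap_apply A B Bh]
  have h := RegHomLib.isRegularHom_localization (R := B) (Λ := Bh) ((GRingCompleteLib.isGRing_finiteType A A).2 p)
    (nonZeroDivisors B) (FractionRing A) q.primeCompl (Localization.AtPrime q)
  haveI := h.1
  haveI : IsLocalHom (algebraMap (FractionRing A) (Localization.AtPrime q)) :=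
    ⟨fun a ha => isUnit_iff_ne_zero.2 fun h0 => by rw [h0, map_zero] at ha; exact not_isUnit_zero ha⟩
  exact AdicFS.adic_of_fibre (h.2 (maximalIdeal (FractionRing A))).2

end Groth.Agent.S4583
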