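import Groth.Statements.S4584
import Groth.Agent.ProConsLib.Range
-- import your own Groth.Agent.* helpers here

set_option autoImplicit false
universe u
open AlgebraicGeometry CategoryTheory Topology
open EGA41

namespace Groth.Agent.S4584

open AlgebraicGeometry CategoryTheory in
theorem exists_of_family (X : Scheme.{u}) [CompactSpace X] [QuasiSeparatedSpace X] (Z : Set X) {κ : Type u} [Finite κ]
    {Y : κ → Scheme.{u}} [∀ c, IsAffine (Y c)] (g : ∀ c, Y c ⟶ X) (hg : ∀ c, LocallyOfFinitePresentation (g c))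
    (hZ : (⋃ c, Set.range (g c).base) = Z) :
    ∃ (X' : Scheme.{u}) (f : X' ⟶ X), IsAffine X' ∧ LocallyOfFinitePresentation f ∧ QuasiCompact f ∧
      QuasiSeparated f ∧ Set.range f.base = Z := by
  let F := Limits.Sigma.desc g
  haveI : QuasiCompact F := QuasiCompact.of_comp F X.toSpecΓ
  refine ⟨Limits.sigmaObj Y, F, inferInstance, IsZariskiLocalAtSource.sigmaDesc hg, inferInstance,
    QuasiSeparated.of_comp F X.toSpecΓ, ?_⟩
  rw [← hZ]
  ext x
  rw [Set.mem_iUnion]
  constructor
  · rintro ⟨z, rfl⟩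
    obtain ⟨c, w, rfl⟩ := (sigmaOpenCover Y).exists_eq z
    refine ⟨c, w, ?_⟩
    show _ = (Limits.Sigma.ι Y c ≫ F).base w
    rw [Limits.Sigma.ι_desc]
  · rintro ⟨c, w, rfl⟩
    refine ⟨(Limits.Sigma.ι Y c).base w, ?_⟩
    show (Limits.Sigma.ι Y c ≫ F).base w = _
    rw [Limits.Sigma.ι_desc]

theorem mem_toSet_iff {R : Type u} [CommRing R] {D : PrimeSpectrum.ConstructibleSetData R} {p : PrimeSpectrum R} :
    p ∈ D.toSet ↔ ∃ C, C ∈ D ∧ p ∈ C.toSet := by
  simp only [PrimeSpectrum.ConstructibleSetData.toSet, Set.mem_iUnion, exists_prop]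

theorem range_comap_data {R : Type u} [CommRing R] (C : PrimeSpectrum.BasicConstructibleSetData R) :
    Set.range (PrimeSpectrum.comap ((algebraMap (R ⧸ Ideal.span (Set.range C.g))
      (Localization.Away (Ideal.Quotient.mk (Ideal.span (Set.range C.g)) C.f))).comp (Ideal.Quotient.mk _))) = C.toSet := by
  let I := Ideal.span (Set.range C.g)
  let f := Ideal.Quotient.mk I C.f
  trans PrimeSpectrum.comap (Ideal.Quotient.mk I) '' (Set.range (PrimeSpectrum.comap (algebraMap _ (Localization.Away f))))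
  · rw [← Set.range_comp]; rfl
  · rw [PrimeSpectrum.localization_away_comap_range _ f, ← PrimeSpectrum.comap_basicOpen, TopologicalSpace.Opens.coe_comap,
      ContinuousMap.coe_mk, Set.image_preimage_eq_inter_range,
      range_comap_of_surjective _ _ Ideal.Quotient.mk_surjective, PrimeSpectrum.BasicConstructibleSetData.toSet,
      Set.sdiff_eq_compl_inter, PrimeSpectrum.basicOpen_eq_zeroLocus_compl, Ideal.mk_ker, PrimeSpectrum.zeroLocus_span]

theorem finitePresentation_data {R : Type u} [CommRing R] (C : PrimeSpectrum.BasicConstructibleSetData R) :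
    ((algebraMap (R ⧸ Ideal.span (Set.range C.g))
      (Localization.Away (Ideal.Quotient.mk (Ideal.span (Set.range C.g)) C.f))).comp (Ideal.Quotient.mk _)).FinitePresentation :=
  RingHom.FinitePresentation.comp
    (RingHom.finitePresentation_algebraMap.2 (IsLocalization.Away.finitePresentation (Ideal.Quotient.mk _ C.f)))
    (RingHom.FinitePresentation.of_surjective _ Ideal.Quotient.mk_surjective (by rw [Ideal.mk_ker]; exact Submodule.fg_span (Set.finite_range _)))


/-- Given a scheme X that is quasi-compact and quasi-separated, together with a constructible subset Z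
of X, one can find an affine scheme X' with a morphism X' → X of finite presentation whose image
equals Z. -/
theorem result (X : Scheme.{u}) [CompactSpace X]
    [QuasiSeparatedSpace X] (Z : Set X) (hZ : IsConstructible Z) :
    ∃ (X' : Scheme.{u}) (f : X' ⟶ X), IsAffine X' ∧ LocallyOfFinitePresentation f ∧ QuasiCompact f ∧
      QuasiSeparated f ∧ Set.range f.base = Z := by
  obtain ⟨𝒰, hfin, haff⟩ : ∃ 𝒰 : Scheme.OpenCover.{u} X, Finite 𝒰.I₀ ∧ ∀ i, IsAffine (𝒰.X i) :=
    ⟨X.affineCover.finiteSubcover, inferInstance, fun i => inferInstanceAs (IsAffine (Spec _))⟩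
  have hcov : ∀ x : X, ∃ i y, (𝒰.f i).base y = x := fun x => 𝒰.exists_eq x
  let A := fun i => Γ(𝒰.X i, ⊤)
  choose D hD using fun i => PrimeSpectrum.exists_constructibleSetData_iff.2
    (((𝒰.X i).isoSpec.inv ≫ 𝒰.f i).isConstructible_preimage hZ)
  let κ := Σ i, {C : PrimeSpectrum.BasicConstructibleSetData (A i) // C ∈ D i}
  let φ : ∀ c : κ, A c.1 →+* Localization.Away (Ideal.Quotient.mk (Ideal.span (Set.range c.2.1.g)) c.2.1.f) :=
    fun c => (algebraMap (A c.1 ⧸ Ideal.span (Set.range c.2.1.g)) _).comp (Ideal.Quotient.mk _)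
  have hφ : ∀ c, (φ c).FinitePresentation := fun c => finitePresentation_data c.2.1
  have hr : ∀ c, Set.range (PrimeSpectrum.comap (φ c)) = c.2.1.toSet := fun c => range_comap_data c.2.1
  let g : ∀ c : κ, Spec (CommRingCat.of (Localization.Away
      (Ideal.Quotient.mk (Ideal.span (Set.range c.2.1.g)) c.2.1.f))) ⟶ X :=
    fun c => Spec.map (CommRingCat.ofHom (φ c)) ≫ (𝒰.X c.1).isoSpec.inv ≫ 𝒰.f c.1
  refine exists_of_family X Z g (fun c => ?_) ?_
  · haveI : LocallyOfFinitePresentation (Spec.map (CommRingCat.ofHom (φ c))) := by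
      rw [HasRingHomProperty.Spec_iff (P := @LocallyOfFinitePresentation)]; exact hφ c
    infer_instance
  refine subset_antisymm (Set.iUnion_subset fun c => ?_) fun x hx => ?_
  · rintro _ ⟨w, rfl⟩
    have hw : PrimeSpectrum.comap (φ c) w ∈ c.2.1.toSet := (hr c).subset ⟨w, rfl⟩
    exact (hD c.1).subset (Set.mem_iUnion₂.2 ⟨_, c.2.2, hw⟩)
  · have hg : ∀ c w, (g c).base w = (𝒰.f c.1).base ((𝒰.X c.1).isoSpec.inv.base (PrimeSpectrum.comap (φ c) w)) :=
      fun _ _ => rfl
    clear_value g φ
    refine (hcov x).elim fun i h => h.elim fun y hy => ?_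
    let p : PrimeSpectrum (A i) := (𝒰.X i).isoSpec.hom.base y
    have hpy : (𝒰.X i).isoSpec.inv.base p = y := by
      show ((𝒰.X i).isoSpec.hom ≫ (𝒰.X i).isoSpec.inv).base y = y
      rw [Iso.hom_inv_id]; rfl
    have hmem : p ∈ (D i).toSet := by
      refine (hD i).superset ?_
      show (𝒰.f i).base ((𝒰.X i).isoSpec.inv.base p) ∈ Z
      rw [hpy, hy]; exact hx
    refine (mem_toSet_iff.1 hmem).elim fun C h => ?_
    exact Exists.elim ((hr ⟨i, C, h.1⟩).superset h.2) fun w hw =>
      Set.mem_iUnion.2 ⟨⟨i, C, h.1⟩, w, by rw [hg, hw, hpy, hy]⟩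

end Groth.Agent.S4584
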