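import Groth.Statements.S4586
import Groth.Agent.ProConsLib.Range
-- import your own Groth.Agent.* helpers here

set_option autoImplicit false
universe u
open AlgebraicGeometry CategoryTheory Topology
open EGA41

namespace Groth.Agent.S4586

/-- Let f : X → Y be surjective and either quasi-compact or locally of finite presentation, E ⊆ Y. Then
E is locally constructible (resp. pro-constructible, resp. ind-constructible) if and only if f⁻¹(E)
is. -/
theorem result {X Y : Scheme.{u}} (f : X ⟶ Y) [Surjective f]
    (hf : QuasiCompact f ∨ LocallyOfFinitePresentation f) (E : Set Y) :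
    (IsLocallyConstructible E ↔ IsLocallyConstructible (f.base ⁻¹' E)) ∧
    (ProCons.IsProConstructible E ↔ ProCons.IsProConstructible (f.base ⁻¹' E)) ∧
    (ProCons.IsIndConstructible E ↔ ProCons.IsIndConstructible (f.base ⁻¹' E)) := by
  have hs : f.base '' (f.base ⁻¹' E) = E := Set.image_preimage_eq E f.surjective
  have hsc : f.base '' (f.base ⁻¹' Eᶜ) = Eᶜ := Set.image_preimage_eq _ f.surjective
  have hp : ProCons.IsProConstructible (f.base ⁻¹' E) → ProCons.IsProConstructible E := by
    intro h
    rcases hf with hq | hl
    · exact hs ▸ Groth.Agent.ProConsLib.isProConstructible_image f h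
    · rw [Groth.Agent.ProConsLib.isProConstructible_iff_compl] at h ⊢
      exact hsc ▸ Groth.Agent.ProConsLib.isIndConstructible_image f (E := f.base ⁻¹' Eᶜ) h
  have hi : ProCons.IsIndConstructible (f.base ⁻¹' E) → ProCons.IsIndConstructible E := by
    intro h
    rcases hf with hq | hl
    · rw [Groth.Agent.ProConsLib.isIndConstructible_iff_compl] at h ⊢
      exact hsc ▸ Groth.Agent.ProConsLib.isProConstructible_image f (E := f.base ⁻¹' Eᶜ) h
    · exact hs ▸ Groth.Agent.ProConsLib.isIndConstructible_image f h
  refine ⟨?_, ⟨Groth.Agent.ProConsLib.isProConstructible_preimage f, hp⟩, ⟨Groth.Agent.ProConsLib.isIndConstructible_preimage f, hi⟩⟩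
  rw [Groth.Agent.ProConsLib.isLocallyConstructible_iff_pro_and_ind, Groth.Agent.ProConsLib.isLocallyConstructible_iff_pro_and_ind]
  exact ⟨fun h => ⟨Groth.Agent.ProConsLib.isProConstructible_preimage f h.1, Groth.Agent.ProConsLib.isIndConstructible_preimage f h.2⟩,
    fun h => ⟨hp h.1, hi h.2⟩⟩

end Groth.Agent.S4586
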