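import Groth.Statements.S4587
import Mathlib
-- import your own Groth.Agent.* helpers here

set_option autoImplicit false
universe u
open AlgebraicGeometry CategoryTheory
open EGA41

namespace Groth.Agent.S4587

/-- A morphism of schemes f : X → Y is generizing if and only if, for every irreducible closed subset Y'
of Y, each irreducible component of f⁻¹(Y') has dense image in Y'. -/
theorem result {X Y : Scheme.{u}} (f : X ⟶ Y) :
    GeneralizingMap f.base ↔
      ∀ Y' : Set Y, IsClosed Y' → IsIrreducible Y' →
        ∀ Z ∈ irreducibleComponents ↥(f.base ⁻¹' Y'), closure (f.base '' (Subtype.val '' Z)) = Y' := by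
  constructor
  · intro h Y' hY' hirr Z hZ
    have hQ : QuasiSober ↥(f.base ⁻¹' Y') :=
      ((hY'.preimage f.continuous).isClosedEmbedding_subtypeVal).quasiSober
    obtain ⟨z, hz⟩ := QuasiSober.sober hZ.1 (isClosed_of_mem_irreducibleComponents Z hZ)
    obtain ⟨y', hy'⟩ := QuasiSober.sober hirr hY'
    obtain ⟨w, hw, hwy⟩ := h (hy'.specializes (show f.base z.1 ∈ Y' from z.2))
    have hwY : f.base w ∈ Y' := hwy ▸ hy'.mem
    have hle : Z ⊆ closure {(⟨w, hwY⟩ : ↥(f.base ⁻¹' Y'))} := by
      rw [← hz.def]
      refine closure_minimal (Set.singleton_subset_iff.2 ?_) isClosed_closure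
      rw [closure_subtype, Set.image_singleton]
      exact specializes_iff_mem_closure.1 hw
    have hwZ : (⟨w, hwY⟩ : ↥(f.base ⁻¹' Y')) ∈ Z := hZ.2 isIrreducible_singleton.closure hle (subset_closure rfl)
    refine subset_antisymm (closure_minimal ?_ hY') ?_
    · rintro _ ⟨_, ⟨v, -, rfl⟩, rfl⟩; exact v.2
    · refine hy'.def.symm.subset.trans ?_
      exact closure_mono (Set.singleton_subset_iff.2 ⟨w, ⟨_, hwZ, rfl⟩, hwy⟩)
  · intro h x y' hy'
    have hxY : f.base x ∈ closure ({y'} : Set Y) := specializes_iff_mem_closure.1 hy'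
    let p : ↥(f.base ⁻¹' closure ({y'} : Set Y)) := ⟨x, hxY⟩
    have hC := irreducibleComponent_mem_irreducibleComponents p
    have hQ : QuasiSober ↥(f.base ⁻¹' closure ({y'} : Set Y)) :=
      ((isClosed_closure.preimage f.continuous).isClosedEmbedding_subtypeVal).quasiSober
    obtain ⟨z, hz⟩ := QuasiSober.sober hC.1 (isClosed_irreducibleComponent (x := p))
    refine ⟨z.1, (hz.specializes mem_irreducibleComponent).map continuous_subtype_val, ?_⟩
    have himg := h _ isClosed_closure isIrreducible_singleton.closure _ hC
    have hsub : closure (f.base '' (Subtype.val '' irreducibleComponent p)) ⊆ closure {f.base z.1} := by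
      refine closure_minimal ?_ isClosed_closure
      rintro _ ⟨_, ⟨v, hv, rfl⟩, rfl⟩
      exact specializes_iff_mem_closure.1 (((hz.specializes hv).map continuous_subtype_val).map f.continuous)
    rw [himg] at hsub
    exact ((specializes_iff_mem_closure.2 (hsub (subset_closure rfl))).antisymm
      (specializes_iff_mem_closure.2 z.2)).eq

end Groth.Agent.S4587
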