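import Groth.Statements.S4590
import Mathlib

set_option autoImplicit false
universe u
open CAlg

namespace Groth.Agent.S4590

/-- Let A be a domain with fraction field K, B a faithfully flat A-algebra, C = B_red and R the total
ring of fractions of C. Then A → C is injective with nonzero elements going to non-zero-divisors, so
that K embeds in R, and an element of K is integral over C in R if and only if it is integral over
A. -/
theorem result {A B : Type u} [CommRing A] [IsDomain A]
    [CommRing B] [Algebra A B] [Module.FaithfullyFlat A B] :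
    Function.Injective (algebraMap A (B ⧸ nilradical B)) ∧
    (∀ a : A, a ≠ 0 → algebraMap A (B ⧸ nilradical B) a ∈ nonZeroDivisors (B ⧸ nilradical B)) ∧
    ∀ (R : Type u) [CommRing R] [Algebra (B ⧸ nilradical B) R] [IsFractionRing (B ⧸ nilradical B) R]
      [Algebra A R] [IsScalarTower A (B ⧸ nilradical B) R] [Algebra (FractionRing A) R]
      [IsScalarTower A (FractionRing A) R] (x : FractionRing A),
      IsIntegral (B ⧸ nilradical B) (algebraMap (FractionRing A) R x) ↔ IsIntegral A x := by
  classical
  have hB : Function.Injective (algebraMap A B) := FaithfulSMul.algebraMap_injective A B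
  have hnil : ∀ a : A, IsNilpotent (algebraMap A B a) → a = 0 := fun a ⟨k, hk⟩ => by
    rw [← map_pow, ← map_zero (algebraMap A B)] at hk
    exact pow_eq_zero_iff'.mp (hB hk) |>.1
  have hmk : ∀ b : B, Ideal.Quotient.mk (nilradical B) b = 0 ↔ IsNilpotent b := fun b => by
    rw [Ideal.Quotient.eq_zero_iff_mem, mem_nilradical]
  have hAC : ∀ a : A, algebraMap A (B ⧸ nilradical B) a = Ideal.Quotient.mk (nilradical B) (algebraMap A B a) := fun a => rfl
  have hnzd : ∀ a : A, a ≠ 0 → algebraMap A (B ⧸ nilradical B) a ∈ nonZeroDivisors (B ⧸ nilradical B) := by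
    intro a ha
    rw [mem_nonZeroDivisors_iff_right]
    intro c hc
    obtain ⟨b, rfl⟩ := Ideal.Quotient.mk_surjective c
    rw [hAC, ← map_mul, hmk] at hc
    obtain ⟨k, hk⟩ := hc
    rw [hmk]
    refine ⟨k, ?_⟩
    have hreg : IsSMulRegular (TensorProduct A B A) (a ^ k) :=
      IsSMulRegular.lTensor B (IsSMulRegular.pow k (IsSMulRegular.of_ne_zero ha))
    have h2 : a ^ k • b ^ k = 0 := by
      rw [Algebra.smul_def, map_pow, ← mul_pow, mul_comm, hk]
    apply (TensorProduct.rid A B).symm.injective
    rw [map_zero]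
    apply hreg.right_eq_zero_of_smul
    rw [← map_smul, h2, map_zero]
  refine ⟨(injective_iff_map_eq_zero _).mpr fun a ha => hnil a ((hmk _).mp ha), hnzd, ?_⟩
  intro R _ _ _ _ _ _ _ x
  constructor
  · intro hx
    obtain ⟨⟨a, t, ht⟩, rfl⟩ := IsLocalization.mk'_surjective (nonZeroDivisors A) x
    obtain ⟨p, hp, hev⟩ := hx
    set n := p.natDegree
    have hC : Function.Injective (algebraMap (B ⧸ nilradical B) R) := IsFractionRing.injective _ R
    have htR : IsUnit (algebraMap A R t) := by
      rw [IsScalarTower.algebraMap_apply A (B ⧸ nilradical B) R]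
      exact IsLocalization.map_units R ⟨_, hnzd t (nonZeroDivisors.ne_zero ht)⟩
    have hxt : algebraMap (FractionRing A) R (IsLocalization.mk' (FractionRing A) a ⟨t, ht⟩) * algebraMap A R t = algebraMap A R a := by
      rw [IsScalarTower.algebraMap_apply A (FractionRing A) R t, IsScalarTower.algebraMap_apply A (FractionRing A) R a,
        ← map_mul]
      exact congrArg _ (IsLocalization.mk'_spec _ a ⟨t, ht⟩)
    simp only [Function.uncurry_apply_pair] at hev
    have hroot := Polynomial.scaleRoots_eval₂_eq_zero (algebraMap (B ⧸ nilradical B) R)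
      (s := algebraMap A (B ⧸ nilradical B) t) hev
    rw [← IsScalarTower.algebraMap_apply A (B ⧸ nilradical B) R, mul_comm, hxt,
      IsScalarTower.algebraMap_apply A (B ⧸ nilradical B) R, Polynomial.eval₂_at_apply] at hroot
    have h0 := hC (hroot.trans (map_zero _).symm)
    rw [Polynomial.eval_eq_sum_range, Polynomial.natDegree_scaleRoots, Finset.sum_range_succ,
      Polynomial.coeff_scaleRoots_natDegree, hp.leadingCoeff, one_mul] at h0
    let I : Ideal A := Ideal.span {t, a}
    have htI : t ∈ I := Ideal.subset_span (by simp)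
    have haI : a ∈ I := Ideal.subset_span (by simp)
    rcases Nat.eq_zero_or_pos n with hn | hn
    · exfalso
      have hp1 : p = 1 := Polynomial.Monic.natDegree_eq_zero hp |>.mp hn
      haveI : Nontrivial (B ⧸ nilradical B) := by
        refine Ideal.Quotient.nontrivial_iff.mpr fun h => one_ne_zero (α := A) (hnil 1 ?_)
        rw [map_one, ← mem_nilradical, h]
        trivial
      haveI : Nontrivial R := hC.nontrivial
      rw [hp1, Polynomial.eval₂_one] at hev
      exact one_ne_zero hev
    let J : Ideal A := Ideal.span {t} * I ^ (n - 1)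
    have hmem : algebraMap A (B ⧸ nilradical B) (a ^ n) ∈ (J.map (algebraMap A B)).map (Ideal.Quotient.mk (nilradical B)) := by
      rw [map_pow, eq_neg_of_add_eq_zero_right h0]
      refine neg_mem (Ideal.sum_mem _ fun i hi => ?_)
      rw [Polynomial.coeff_scaleRoots, mul_assoc, ← map_pow, ← map_pow, ← map_mul]
      refine Ideal.mul_mem_left _ _ ?_
      rw [hAC]
      refine Ideal.mem_map_of_mem _ (Ideal.mem_map_of_mem _ ?_)
      have hin : i < n := Finset.mem_range.mp hi
      rw [show t ^ (n - i) * a ^ i = t * (t ^ (n - 1 - i) * a ^ i) by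
        rw [← mul_assoc, ← pow_succ']; congr 2; omega]
      refine Ideal.mul_mem_mul (Ideal.mem_span_singleton_self t) ?_
      rw [show n - 1 = (n - 1 - i) + i by omega, pow_add, show n - 1 - i + i - i = n - 1 - i by omega]
      exact Ideal.mul_mem_mul (Ideal.pow_mem_pow htI _) (Ideal.pow_mem_pow haI _)
    rw [Ideal.mem_map_iff_of_surjective _ Ideal.Quotient.mk_surjective] at hmem
    obtain ⟨y, hy, hy2⟩ := hmem
    rw [hAC, Ideal.Quotient.eq, mem_nilradical] at hy2
    obtain ⟨N₀, hN₀⟩ := hy2
    set z := algebraMap A B (a ^ n) with hz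
    set N := N₀ + 1
    have hzy : (z - y) ^ N = 0 := by rw [← neg_sub, neg_pow, pow_succ (y - z) N₀, hN₀, zero_mul, mul_zero]
    set L := (I ^ n).map (algebraMap A B) with hL
    have hzL : z ∈ L := Ideal.mem_map_of_mem _ (Ideal.pow_mem_pow haI n)
    have hJle : J ≤ I ^ n := by
      conv_rhs => rw [show n = 1 + (n - 1) by omega, pow_add, pow_one]
      exact Ideal.mul_mono_left ((Ideal.span_singleton_le_iff_mem _).mpr htI)
    have hyL : y ∈ L := Ideal.map_mono hJle hy
    have hzN : z ^ N ∈ (J * (I ^ n) ^ N₀).map (algebraMap A B) := by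
      have hg := geom_sum₂_mul z (z - y) N
      rw [hzy, sub_zero, sub_sub_cancel] at hg
      rw [← hg, Ideal.map_mul, Ideal.map_pow]
      refine Ideal.mul_mem_mul_rev hy (Ideal.sum_mem _ fun i hi => ?_)
      have := Finset.mem_range.mp hi
      conv => arg 1; rw [show N₀ = i + (N - 1 - i) by omega, pow_add]
      exact Ideal.mul_mem_mul (Ideal.pow_mem_pow hzL _) (Ideal.pow_mem_pow (sub_mem hzL hyL) _)
    rw [hz, ← map_pow, ← Ideal.mem_comap, Ideal.comap_map_eq_self_of_faithfullyFlat (A := A) (B := B)] at hzN
    obtain ⟨m, hm⟩ : ∃ m, m + 1 = n * N := ⟨n * N - 1, by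
      have : 0 < n * N := Nat.mul_pos hn (Nat.succ_pos _)
      omega⟩
    have hJm : J * (I ^ n) ^ N₀ = Ideal.span {t} * I ^ m := by
      rw [mul_assoc, ← pow_mul, ← pow_add]
      congr 2
      have : n * N = n * N₀ + n := by rw [Nat.mul_succ]
      omega
    rw [hJm, ← pow_mul, Ideal.mem_span_singleton_mul] at hzN
    obtain ⟨r, hr, hreq⟩ := hzN
    set X₀ := IsLocalization.mk' (FractionRing A) a (⟨t, ht⟩ : nonZeroDivisors A) with hX₀
    set φ := algebraMap A (FractionRing A)
    have hXt : X₀ * φ t = φ a := IsLocalization.mk'_spec _ a _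
    have ht0 : φ t ≠ 0 := fun h =>
      nonZeroDivisors.ne_zero ht (IsFractionRing.injective A (FractionRing A) (h.trans (map_zero _).symm))
    have hpow : ∀ k : ℕ, ∀ r ∈ I ^ k, ∃ q : Polynomial A, q.natDegree ≤ k ∧ φ r = φ t ^ k * Polynomial.aeval X₀ q := by
      intro k
      induction k with
      | zero => exact fun r _ => ⟨Polynomial.C r, by simp, by simp [φ]⟩
      | succ k ih =>
        intro r hr
        rw [pow_succ] at hr
        induction hr using Submodule.mul_induction_on' with
        | mem_mul_mem x hx w hw =>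
          obtain ⟨u, v, rfl⟩ := Ideal.mem_span_pair.mp hw
          obtain ⟨q, hq, hxq⟩ := ih x hx
          refine ⟨q * (Polynomial.C u + Polynomial.C v * Polynomial.X),
            Polynomial.natDegree_mul_le.trans (Nat.add_le_add hq (by compute_degree)), ?_⟩
          simp only [map_mul, map_add, hxq, Polynomial.aeval_C, Polynomial.aeval_X, ← hXt, φ]
          ring
        | add x _ w _ hx hw =>
          obtain ⟨q, hq, hxq⟩ := hx
          obtain ⟨q', hq', hwq⟩ := hw
          exact ⟨q + q', (Polynomial.natDegree_add_le _ _).trans (max_le hq hq'), by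
            rw [map_add, map_add, hxq, hwq, mul_add]⟩
    obtain ⟨q, hq, hrq⟩ := hpow m r hr
    simp only [Function.uncurry_apply_pair, ← hX₀]
    refine ⟨Polynomial.X ^ (m + 1) - q, Polynomial.monic_X_pow_sub (Polynomial.degree_le_natDegree.trans_lt (by exact_mod_cast Nat.lt_succ_of_le hq)), ?_⟩
    rw [← Polynomial.aeval_def, map_sub, map_pow, Polynomial.aeval_X, sub_eq_zero]
    apply mul_left_cancel₀ (pow_ne_zero (m + 1) ht0)
    rw [← mul_pow, mul_comm (φ t) X₀, hXt, ← map_pow, hm, ← hreq, map_mul, hrq, ← hm, pow_succ']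
    ring
  · intro hx
    exact (hx.map (IsScalarTower.toAlgHom A (FractionRing A) R)).tower_top

end Groth.Agent.S4590
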