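import Groth.Statements.S4591
import Groth.Agent.ProConsLib.Range
-- import your own Groth.Agent.* helpers here

set_option autoImplicit false
universe u
open AlgebraicGeometry
open EGA41

namespace Groth.Agent.S4591

/-- Let X be a quasi-compact scheme, F a pro-constructible subset and (E_i) a family of
ind-constructible subsets covering F. Then some finite subfamily covers F. -/
theorem result (X : Scheme.{u}) [CompactSpace X]
    (F : Set X) (hF : ProCons.IsProConstructible F) {ι : Type u} (E : ι → Set X)
    (hE : ∀ i, ProCons.IsIndConstructible (E i)) (h : F ⊆ ⋃ i, E i) :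
    ∃ J : Finset ι, F ⊆ ⋃ i ∈ J, E i := by
  classical
  have key : ⋂ o : Option ι, o.elim F (fun i => (E i)ᶜ) = ∅ := by
    refine Set.eq_empty_iff_forall_notMem.2 fun z hz => ?_
    rw [Set.mem_iInter] at hz
    obtain ⟨i, hi⟩ := Set.mem_iUnion.1 (h (hz none))
    exact hz (some i) hi
  obtain ⟨J, hJ⟩ := Groth.Agent.ProConsLib.exists_finset_iInter_eq_empty _
    (fun o => by cases o with
      | none => exact hF
      | some i => exact Groth.Agent.ProConsLib.isIndConstructible_iff_compl.1 (hE i)) key
  refine ⟨J.eraseNone, fun z hz => ?_⟩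
  by_contra hzE
  refine Set.eq_empty_iff_forall_notMem.1 hJ z (Set.mem_iInter₂.2 fun o ho => ?_)
  cases o with
  | none => exact hz
  | some i => exact fun hi => hzE (Set.mem_iUnion₂.2 ⟨i, Finset.mem_eraseNone.2 ho, hi⟩)

end Groth.Agent.S4591
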