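import Groth.Statements.S4593
import Mathlib
-- import your own Groth.Agent.* helpers here

set_option autoImplicit false
universe u
open CategoryTheory CategoryTheory.Limits AlgebraicGeometry
open EGA41

namespace Groth.Agent.S4593

/-- Let B be a ring, (A_i) a filtered system of B-algebras with colimit A. The image of Spec A in Spec B
is the intersection of the images of the Spec A_i. -/
theorem result {I : Type u} [SmallCategory I] [IsFiltered I]
    (B : CommRingCat.{u}) (D : I ⥤ CommRingCat.{u}) (s : (Functor.const I).obj B ⟶ D) (c : Cocone D)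
    (hc : IsColimit c) (i₀ : I) :
    Set.range (Spec.map (s.app i₀ ≫ c.ι.app i₀)).base = ⋂ i : I, Set.range (Spec.map (s.app i)).base := by
  have hs : ∀ {i j : I} (a : i ⟶ j), s.app i ≫ D.map a = s.app j := fun a => by
    rw [← s.naturality a]; simp
  have hsc : ∀ i, s.app i ≫ c.ι.app i = s.app i₀ ≫ c.ι.app i₀ := fun i => by
    rw [← c.w (IsFiltered.leftToMax i i₀), ← Category.assoc, hs, ← c.w (IsFiltered.rightToMax i i₀),
      ← Category.assoc, hs]
  refine Set.Subset.antisymm ?_ ?_
  · rintro _ ⟨q, rfl⟩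
    refine Set.mem_iInter.2 fun i => ⟨(Spec.map (c.ι.app i)).base q, ?_⟩
    rw [← hsc i, Spec.map_comp]
    rfl
  · intro y hy
    rw [Set.mem_iInter] at hy
    refine (PrimeSpectrum.mem_range_comap_iff (s.app i₀ ≫ c.ι.app i₀).hom).2 ?_
    set φ := (s.app i₀ ≫ c.ι.app i₀).hom
    refine le_antisymm ?_ Ideal.le_comap_map
    intro b hb
    have key : ∀ z ∈ y.asIdeal.map φ, ∃ (i : I) (z' : D.obj i),
        c.ι.app i z' = z ∧ z' ∈ y.asIdeal.map (s.app i).hom := by
      intro z hz
      induction hz using Submodule.span_induction with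
      | mem w hw =>
        obtain ⟨a, ha, rfl⟩ := hw
        exact ⟨i₀, s.app i₀ a, rfl, Ideal.mem_map_of_mem _ ha⟩
      | zero => exact ⟨i₀, 0, map_zero _, zero_mem _⟩
      | add u v _ _ hu hv =>
        obtain ⟨i, u', rfl, hu'⟩ := hu
        obtain ⟨j, v', rfl, hv'⟩ := hv
        refine ⟨IsFiltered.max i j, D.map (IsFiltered.leftToMax i j) u' + D.map (IsFiltered.rightToMax i j) v', ?_, add_mem ?_ ?_⟩
        · rw [map_add, ← CommRingCat.comp_apply, c.w, ← CommRingCat.comp_apply, c.w]
        · rw [← hs (IsFiltered.leftToMax i j), CommRingCat.hom_comp, ← Ideal.map_map]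
          exact Ideal.mem_map_of_mem _ hu'
        · rw [← hs (IsFiltered.rightToMax i j), CommRingCat.hom_comp, ← Ideal.map_map]
          exact Ideal.mem_map_of_mem _ hv'
      | smul r u _ hu =>
        obtain ⟨i, u', rfl, hu'⟩ := hu
        obtain ⟨j, r', rfl⟩ := Concrete.isColimit_exists_rep D hc r
        refine ⟨IsFiltered.max i j, D.map (IsFiltered.rightToMax i j) r' * D.map (IsFiltered.leftToMax i j) u', ?_, Ideal.mul_mem_left _ _ ?_⟩
        · rw [smul_eq_mul, map_mul, ← CommRingCat.comp_apply, c.w, ← CommRingCat.comp_apply, c.w]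
        · rw [← hs (IsFiltered.leftToMax i j), CommRingCat.hom_comp, ← Ideal.map_map]
          exact Ideal.mem_map_of_mem _ hu'
    obtain ⟨i, z', hz', hmem⟩ := key _ hb
    have h1 : c.ι.app i z' = c.ι.app i (s.app i b) := hz'.trans (by rw [← CommRingCat.comp_apply, hsc])
    obtain ⟨k, g, g', hg⟩ := (Types.FilteredColimit.isColimit_eq_iff (D ⋙ forget CommRingCat)
      (isColimitOfPreserves (forget CommRingCat) hc)).1 h1
    change (D.map g).hom z' = (D.map g').hom (s.app i b) at hg
    have hk : (s.app k).hom b ∈ y.asIdeal.map (s.app k).hom := by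
      have e1 : (s.app k).hom b = (D.map g').hom ((s.app i).hom b) := by rw [← hs g']; rfl
      rw [e1]
      erw [← hg]
      rw [← hs g, CommRingCat.hom_comp, ← Ideal.map_map]
      exact Ideal.mem_map_of_mem _ hmem
    have hyk := (PrimeSpectrum.mem_range_comap_iff _).1 (hy k)
    rw [← hyk]
    exact hk

end Groth.Agent.S4593
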