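import Groth.Statements.S4594
-- import your own Groth.Agent.* helpers here

set_option autoImplicit false
universe u
open TensorProduct KaehlerDifferential
open EGA41

namespace Groth.Agent.S4594

/-- Let Λ be a ring, A → C a surjection of Λ-algebras with kernel J, C of characteristic p > 0, and π
the class of p·1 in J/J². If C is formally smooth over Λ/pΛ for the discrete topologies, then 0 →
(J/J²)/Cπ → Ω_{A/Λ} ⊗_A C → Ω_{C/Λ} → 0 is exact: the kernel of the conormal map J/J² → Ω_{A/Λ} ⊗_A
C is the span of π, and the base-change map to Ω_{C/Λ} is surjective with kernel the image of J/J². -/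
theorem result {Λ A C : Type u} [CommRing Λ] [CommRing A]
    [CommRing C] [Algebra Λ A] [Algebra A C] [Algebra Λ C] [IsScalarTower Λ A C]
    (hsurj : Function.Surjective (algebraMap A C)) (p : ℕ) [Fact p.Prime] [CharP C p]
    [Algebra (Λ ⧸ Ideal.span {(p : Λ)}) C] [IsScalarTower Λ (Λ ⧸ Ideal.span {(p : Λ)}) C]
    [Algebra.FormallySmooth (Λ ⧸ Ideal.span {(p : Λ)}) C]
    (hp : (p : A) ∈ RingHom.ker (algebraMap A C)) :
    LinearMap.ker (kerCotangentToTensor Λ A C) =
        Submodule.span A {(RingHom.ker (algebraMap A C)).toCotangent ⟨(p : A), hp⟩} ∧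
      LinearMap.range (kerCotangentToTensor Λ A C) = (LinearMap.ker (mapBaseChange Λ A C)).restrictScalars A ∧
      Function.Surjective (mapBaseChange Λ A C) := by
  refine ⟨le_antisymm ?_ ((Submodule.span_singleton_le_iff_mem _ _).2 ?_),
    KaehlerDifferential.range_kerCotangentToTensor Λ A C hsurj, KaehlerDifferential.mapBaseChange_surjective Λ A C hsurj⟩
  swap
  · rw [LinearMap.mem_ker, KaehlerDifferential.kerCotangentToTensor_toCotangent]
    simp
  let J := RingHom.ker (algebraMap A C)
  let N : Ideal A := Ideal.span {(p : A)} ⊔ J ^ 2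
  have hNJ : N ≤ J := sup_le ((Ideal.span_singleton_le_iff_mem _).2 hp) (Ideal.pow_le_self two_ne_zero)
  letI : Algebra (Λ ⧸ Ideal.span {(p : Λ)}) (A ⧸ N) := (Ideal.Quotient.lift (Ideal.span {(p : Λ)})
    ((Ideal.Quotient.mk N).comp (algebraMap Λ A)) fun x hx => by
      obtain ⟨y, rfl⟩ := Ideal.mem_span_singleton'.1 hx
      rw [RingHom.comp_apply, map_mul, map_natCast, map_mul, map_natCast,
        show ((p : ℕ) : A ⧸ N) = 0 from by
          rw [← map_natCast (Ideal.Quotient.mk N)]
          exact Ideal.Quotient.eq_zero_iff_mem.2 (Submodule.mem_sup_left (Ideal.mem_span_singleton_self _)), mul_zero]).toAlgebra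
  let π₀ : A ⧸ N →+* C := Ideal.Quotient.lift N (algebraMap A C) fun x hx => hNJ hx
  let π : A ⧸ N →ₐ[Λ ⧸ Ideal.span {(p : Λ)}] C :=
    { π₀ with
      commutes' := fun r => by
        obtain ⟨r, rfl⟩ := Ideal.Quotient.mk_surjective r
        show algebraMap A C (algebraMap Λ A r) = algebraMap (Λ ⧸ Ideal.span {(p : Λ)}) C (Ideal.Quotient.mk _ r)
        rw [← IsScalarTower.algebraMap_apply Λ A C, IsScalarTower.algebraMap_apply Λ (Λ ⧸ Ideal.span {(p : Λ)}) C]
        rfl }
  have hπ : Function.Surjective π := fun c => by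
    obtain ⟨a, rfl⟩ := hsurj c
    exact ⟨Ideal.Quotient.mk N a, rfl⟩
  let J' : Ideal (A ⧸ N) := J.map (Ideal.Quotient.mk N)
  have hker : ∀ z, π z = 0 → z ∈ J' := fun z hz => by
    obtain ⟨a, rfl⟩ := Ideal.Quotient.mk_surjective z
    exact Ideal.mem_map_of_mem _ hz
  have hJ'2 : J' ^ 2 = ⊥ := by
    rw [← Ideal.map_pow, Ideal.map_eq_bot_iff_le_ker, Ideal.mk_ker]
    exact le_sup_right
  have hnil : IsNilpotent (RingHom.ker π.toRingHom) := ⟨2, by
    rw [Ideal.zero_eq_bot, eq_bot_iff, ← hJ'2]
    exact Ideal.pow_right_mono (fun z hz => hker z hz) 2⟩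
  let σ := Algebra.FormallySmooth.liftOfSurjective (AlgHom.id _ C) π hπ hnil
  have hσ : ∀ c, π (σ c) = c := fun c => Algebra.FormallySmooth.liftOfSurjective_apply (AlgHom.id _ C) π hπ hnil c
  have hσΛ : ∀ r : Λ, σ (algebraMap Λ C r) = Ideal.Quotient.mk N (algebraMap Λ A r) := fun r => by
    rw [IsScalarTower.algebraMap_apply Λ (Λ ⧸ Ideal.span {(p : Λ)}) C, AlgHom.commutes]
    rfl
  have hin : ∀ a, Ideal.Quotient.mk N a - σ (algebraMap A C a) ∈ J' := fun a => hker _ (by
    rw [map_sub, hσ, sub_eq_zero]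
    rfl)
  have h00 : ∀ z ∈ J', ∀ w ∈ J', z * w = 0 := fun z hz w hw => by
    have := Ideal.mul_mem_mul hz hw
    rwa [← pow_two, hJ'2, Ideal.mem_bot] at this
  let d : Derivation Λ A (J'.restrictScalars A) :=
    Derivation.mk'
      { toFun := fun a => ⟨_, hin a⟩
        map_add' := fun a b => Subtype.ext (by
          show Ideal.Quotient.mk N (a + b) - σ (algebraMap A C (a + b)) = _
          simp only [map_add, Submodule.coe_add]; ring)
        map_smul' := fun r a => Subtype.ext (by
          show Ideal.Quotient.mk N (r • a) - σ (algebraMap A C (r • a)) = r • (Ideal.Quotient.mk N a - σ (algebraMap A C a))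
          rw [Algebra.smul_def, Algebra.smul_def, map_mul, map_mul, ← IsScalarTower.algebraMap_apply, map_mul, hσΛ]
          show _ = Ideal.Quotient.mk N (algebraMap Λ A r) * _
          ring) }
      fun a b => Subtype.ext (by
        show Ideal.Quotient.mk N (a * b) - σ (algebraMap A C (a * b)) =
          Ideal.Quotient.mk N a * (Ideal.Quotient.mk N b - σ (algebraMap A C b)) +
            Ideal.Quotient.mk N b * (Ideal.Quotient.mk N a - σ (algebraMap A C a))
        have h0 := h00 _ (hin a) _ (hin b)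
        simp only [map_mul]
        linear_combination -h0)
  let T := d.liftKaehlerDifferential
  let ψ : C ⊗[A] Ω[A⁄Λ] →+ A ⧸ N := TensorProduct.liftAddHom
    (AddMonoidHom.mk' (fun c => (AddMonoidHom.mulLeft (σ c)).comp
      ((J'.restrictScalars A).subtype.comp T).toAddMonoidHom) fun c c' => by
        ext ω
        simp [add_mul])
    fun a c ω => by
      show σ (a • c) * (T ω : A ⧸ N) = σ c * ((T (a • ω) : J'.restrictScalars A) : A ⧸ N)
      rw [Algebra.smul_def a c, map_mul, T.map_smul]
      show σ (algebraMap A C a) * σ c * (T ω : A ⧸ N) = σ c * (Ideal.Quotient.mk N a * (T ω : A ⧸ N))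
      have h0 := h00 _ (hin a) _ (T ω).2
      linear_combination -σ c * h0
  intro z hz
  obtain ⟨⟨x, hx⟩, rfl⟩ := J.toCotangent_surjective z
  rw [LinearMap.mem_ker, KaehlerDifferential.kerCotangentToTensor_toCotangent] at hz
  have h1 := congrArg ψ hz
  rw [map_zero, TensorProduct.liftAddHom_tmul] at h1
  change σ 1 * ((T (KaehlerDifferential.D Λ A x) : J'.restrictScalars A) : A ⧸ N) = 0 at h1
  rw [map_one, one_mul, show T (KaehlerDifferential.D Λ A x) = d x from Derivation.liftKaehlerDifferential_comp_D d x] at h1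
  change Ideal.Quotient.mk N x - σ (algebraMap A C x) = 0 at h1
  rw [show algebraMap A C x = 0 from hx, map_zero, sub_zero, Ideal.Quotient.eq_zero_iff_mem] at h1
  obtain ⟨u, hu, v, hv, rfl⟩ := Submodule.mem_sup.1 h1
  obtain ⟨a, rfl⟩ := Ideal.mem_span_singleton'.1 hu
  refine Submodule.mem_span_singleton.2 ⟨a, ?_⟩
  rw [← map_smul, Ideal.toCotangent_eq]
  show a * (p : A) - (a * (p : A) + v) ∈ J ^ 2
  rw [sub_add_cancel_left]
  exact neg_mem hv

end Groth.Agent.S4594
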