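import Groth.Statements.S4595
import Groth.Agent.FieldExtLib.Imperfection
import Groth.Agent.FieldExtLib.ResidueDiff
-- import your own Groth.Agent.* helpers here

set_option autoImplicit false
universe u
open TensorProduct IsLocalRing
open EGA41

namespace Groth.Agent.S4595

/-- The statement for an abstract `A[f^{1/p}]`. -/
theorem aux {A B : Type u} [CommRing A] [IsLocalRing A] [IsNoetherianRing A] [CommRing B] [IsLocalRing B]
    [IsNoetherianRing B] [Algebra A B] [Module.Finite A B] [IsLocalHom (algebraMap A B)]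
    (p : ℕ) [Fact p.Prime] [CharP A p] [CharP B p] {r : ℕ} (f : Fin r → A) (y : Fin r → B)
    (hy : ∀ i, y i ^ p = algebraMap A B (f i)) (hgen : Algebra.adjoin A (Set.range y) = ⊤)
    (hlift : ∀ (E : Type u) [CommRing E] [Algebra A E] (z : Fin r → E), (∀ i, z i ^ p = algebraMap A E (f i)) →
      ∃ w : B →ₐ[A] E, ∀ i, w (y i) = z i) :
    Module.finrank (ResidueField A) (CotangentSpace A) = Module.finrank (ResidueField B) (CotangentSpace B) ↔
      LinearIndependent (ResidueField A) (fun i => (1 : ResidueField A) ⊗ₜ[A] KaehlerDifferential.D ℤ A (f i)) := by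
  classical
  -- derivations out of `B`
  have hder : ∀ (M : Type u) [AddCommGroup M] [Module B M] [Module A M] [IsScalarTower A B M]
      (D₀ : Derivation ℤ A M), (∀ i, D₀ (f i) = 0) → ∀ v : Fin r → M,
      ∃ D : Derivation ℤ B M, (∀ a, D (algebraMap A B a) = D₀ a) ∧ ∀ i, D (y i) = v i := by
    intro M _ _ _ _ D₀ hD₀ v
    letI : Module Bᵐᵒᵖ M := Module.compHom M ((RingHom.id B).fromOpposite mul_comm)
    haveI : IsCentralScalar B M := ⟨fun _ _ => rfl⟩
    have hop : ∀ (b : B) (l : M), MulOpposite.op b • l = b • l := fun _ _ => rfl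
    let φ : A →+* TrivSqZeroExt B M :=
      { toFun := fun a => TrivSqZeroExt.inl (algebraMap A B a) + TrivSqZeroExt.inr (D₀ a)
        map_one' := TrivSqZeroExt.ext (by simp) (by simp)
        map_mul' := fun a b => TrivSqZeroExt.ext (by simp) (by
          simp only [TrivSqZeroExt.snd_mul, TrivSqZeroExt.fst_add, TrivSqZeroExt.fst_inl, TrivSqZeroExt.fst_inr,
            TrivSqZeroExt.snd_add, TrivSqZeroExt.snd_inl, TrivSqZeroExt.snd_inr, Derivation.leibniz,
            hop, algebraMap_smul, map_mul, add_zero, zero_add])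
        map_zero' := TrivSqZeroExt.ext (by simp) (by simp)
        map_add' := fun a b => TrivSqZeroExt.ext (by simp) (by simp) }
    letI : Algebra A (TrivSqZeroExt B M) := φ.toAlgebra
    have hφ : ∀ a, algebraMap A (TrivSqZeroExt B M) a = TrivSqZeroExt.inl (algebraMap A B a) + TrivSqZeroExt.inr (D₀ a) := fun a => rfl
    obtain ⟨w, hw⟩ := hlift (TrivSqZeroExt B M) (fun i => TrivSqZeroExt.inl (y i) + TrivSqZeroExt.inr (v i)) (fun i => by
      refine TrivSqZeroExt.ext ?_ ?_
      · rw [hφ]; simp [hy]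
      · rw [hφ, TrivSqZeroExt.snd_pow, ← Nat.cast_smul_eq_nsmul B, CharP.cast_eq_zero, zero_smul]
        simp [hD₀])
    have hfst : ∀ b, (w b).fst = b := by
      intro b
      have hb : b ∈ Algebra.adjoin A (Set.range y) := by rw [hgen]; trivial
      induction hb using Algebra.adjoin_induction with
      | mem z hz => obtain ⟨i, rfl⟩ := hz; simp [hw]
      | algebraMap a => rw [w.commutes, hφ]; simp
      | add a b _ _ ha hb => simp [ha, hb]
      | mul a b _ _ ha hb => simp [ha, hb]
    let d : B →ₗ[ℤ] M := (AddMonoidHom.mk' (fun b => (w b).snd) fun a b => by simp).toIntLinearMap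
    refine ⟨Derivation.mk' d fun a b => ?_, fun a => ?_, fun i => ?_⟩
    · show (w (a * b)).snd = a • (w b).snd + b • (w a).snd
      rw [map_mul, TrivSqZeroExt.snd_mul, hfst, hfst, hop]
    · show (w (algebraMap A B a)).snd = D₀ a
      rw [w.commutes, hφ]; simp
    · show (w (y i)).snd = v i
      rw [hw]; simp
  let K := ResidueField A
  let K' := ResidueField B
  haveI : CharP K p := (CharP.charP_iff_prime_eq_zero Fact.out).2 (by
    rw [← map_natCast (residue A), CharP.cast_eq_zero, map_zero])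
  -- the maps
  let cA : CotangentSpace A →ₗ[K] K ⊗[A] Ω[A⁄ℤ] :=
    (Groth.Agent.FieldExtLib.conormal A).extendScalarsOfSurjective (R := A) (S := K) residue_surjective
  let v₁ : CotangentSpace B →ₗ[K'] K' ⊗[B] Ω[B⁄ℤ] :=
    (Groth.Agent.FieldExtLib.conormal B).extendScalarsOfSurjective (R := B) (S := K') residue_surjective
  let v₂ := KaehlerDifferential.mapBaseChange ℤ B K'
  let e := TensorProduct.AlgebraTensorModule.cancelBaseChange A K K' K' Ω[A⁄ℤ]
  let u₁ : K' ⊗[K] CotangentSpace A →ₗ[K'] K' ⊗[A] Ω[A⁄ℤ] := e.toLinearMap ∘ₗ cA.baseChange K'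
  let u₂ : K' ⊗[A] Ω[A⁄ℤ] →ₗ[K'] K' ⊗[K] Ω[K⁄ℤ] :=
    (KaehlerDifferential.mapBaseChange ℤ A K).baseChange K' ∘ₗ e.symm.toLinearMap
  let f₂ : K' ⊗[A] Ω[A⁄ℤ] →ₗ[K'] K' ⊗[B] Ω[B⁄ℤ] :=
    LinearMap.liftBaseChange K' (((TensorProduct.mk B K' Ω[B⁄ℤ] 1).restrictScalars A) ∘ₗ KaehlerDifferential.map ℤ ℤ A B)
  let f₃ := KaehlerDifferential.mapBaseChange ℤ K K'
  have hcA : Function.Exact cA (KaehlerDifferential.mapBaseChange ℤ A K) := Groth.Agent.FieldExtLib.exact_conormal A
  have hu₁ : Function.Injective u₁ :=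
    e.injective.comp (Module.Flat.lTensor_preserves_injective_linearMap cA (Groth.Agent.FieldExtLib.conormal_injective A p))
  have hu : Function.Exact u₁ u₂ := by
    intro z
    have h := Module.Flat.lTensor_exact K' hcA (e.symm z)
    constructor
    · intro hz
      obtain ⟨w, hw⟩ := h.1 hz
      exact ⟨w, (congrArg e hw).trans (e.apply_symm_apply z)⟩
    · rintro ⟨w, rfl⟩
      exact h.2 ⟨w, (e.symm_apply_apply _).symm⟩
  have hu₂ : Function.Surjective u₂ :=
    (LinearMap.lTensor_surjective K' (fun w => by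
      have hw : w ∈ Submodule.span K (Set.range (KaehlerDifferential.D ℤ K)) := by
        rw [KaehlerDifferential.span_range_derivation]; trivial
      induction hw using Submodule.span_induction with
      | mem z hz =>
        obtain ⟨c, rfl⟩ := hz
        obtain ⟨a, rfl⟩ := residue_surjective c
        exact ⟨(1 : K) ⊗ₜ[A] KaehlerDifferential.D ℤ A a, by
          rw [KaehlerDifferential.mapBaseChange_tmul, one_smul, KaehlerDifferential.map_D]; rfl⟩
      | zero => exact ⟨0, map_zero _⟩
      | add a b _ _ ha hb =>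
        obtain ⟨x, rfl⟩ := ha
        obtain ⟨x', rfl⟩ := hb
        exact ⟨x + x', map_add _ _ _⟩
      | smul c a _ ha =>
        obtain ⟨x, rfl⟩ := ha
        exact ⟨c • x, map_smul _ _ _⟩)).comp e.symm.surjective
  have hv₁ : Function.Injective v₁ := Groth.Agent.FieldExtLib.conormal_injective B p
  have hv : Function.Exact v₁ v₂ := Groth.Agent.FieldExtLib.exact_conormal B
  have hv₂ : Function.Surjective v₂ := by
    intro w
    have hw : w ∈ Submodule.span K' (Set.range (KaehlerDifferential.D ℤ K')) := by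
      rw [KaehlerDifferential.span_range_derivation]; trivial
    induction hw using Submodule.span_induction with
    | mem z hz =>
      obtain ⟨c, rfl⟩ := hz
      obtain ⟨a, rfl⟩ := residue_surjective c
      exact ⟨(1 : K') ⊗ₜ[B] KaehlerDifferential.D ℤ B a, by
        rw [KaehlerDifferential.mapBaseChange_tmul, one_smul, KaehlerDifferential.map_D]; rfl⟩
    | zero => exact ⟨0, map_zero _⟩
    | add a b _ _ ha hb =>
      obtain ⟨x, rfl⟩ := ha
      obtain ⟨x', rfl⟩ := hb
      exact ⟨x + x', map_add _ _ _⟩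
    | smul c a _ ha =>
      obtain ⟨x, rfl⟩ := ha
      exact ⟨c • x, map_smul _ _ _⟩
  have hgen2 : ∀ a, f₂ ((1 : K') ⊗ₜ[A] KaehlerDifferential.D ℤ A a) =
      (1 : K') ⊗ₜ[B] KaehlerDifferential.D ℤ B (algebraMap A B a) := fun a => by
    show LinearMap.liftBaseChange K' _ ((1 : K') ⊗ₜ[A] KaehlerDifferential.D ℤ A a) = _
    rw [LinearMap.liftBaseChange_tmul, one_smul]
    show (1 : K') ⊗ₜ[B] KaehlerDifferential.map ℤ ℤ A B (KaehlerDifferential.D ℤ A a) = _
    rw [KaehlerDifferential.map_D]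
  -- extensionality on `K' ⊗ Ω_A`
  have hext : ∀ {M : Type u} [AddCommGroup M] [Module K' M] (g g' : K' ⊗[A] Ω[A⁄ℤ] →ₗ[K'] M),
      (∀ a, g ((1 : K') ⊗ₜ[A] KaehlerDifferential.D ℤ A a) = g' ((1 : K') ⊗ₜ[A] KaehlerDifferential.D ℤ A a)) → g = g' := by
    intro M _ _ g g' h
    refine LinearMap.ext fun z => ?_
    induction z using TensorProduct.induction_on with
    | zero => simp
    | add a b ha hb => rw [map_add, map_add, ha, hb]
    | tmul c w =>
      have hw : w ∈ Submodule.span A (Set.range (KaehlerDifferential.D ℤ A)) := by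
        rw [KaehlerDifferential.span_range_derivation]; trivial
      induction hw using Submodule.span_induction generalizing c with
      | mem z hz =>
        obtain ⟨a, rfl⟩ := hz
        rw [show c ⊗ₜ[A] KaehlerDifferential.D ℤ A a = c • ((1 : K') ⊗ₜ[A] KaehlerDifferential.D ℤ A a) by
          rw [TensorProduct.smul_tmul', smul_eq_mul, mul_one], map_smul, map_smul, h]
      | zero => simp
      | add a b _ _ ha hb => rw [TensorProduct.tmul_add, map_add, map_add, ha, hb]
      | smul a z _ hz => rw [show c ⊗ₜ[A] (a • z) = (a • c) ⊗ₜ[A] z from (TensorProduct.smul_tmul a c z).symm]; exact hz _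
  have h₂ : f₃ ∘ₗ u₂ = v₂ ∘ₗ f₂ := hext _ _ fun a => by
    show f₃ (u₂ _) = v₂ (f₂ _)
    rw [hgen2]
    show f₃ ((KaehlerDifferential.mapBaseChange ℤ A K).baseChange K' (e.symm ((1 : K') ⊗ₜ[A] KaehlerDifferential.D ℤ A a))) =
      KaehlerDifferential.mapBaseChange ℤ B K' ((1 : K') ⊗ₜ[B] KaehlerDifferential.D ℤ B (algebraMap A B a))
    rw [show e.symm ((1 : K') ⊗ₜ[A] KaehlerDifferential.D ℤ A a) = (1 : K') ⊗ₜ[K] ((1 : K) ⊗ₜ[A] KaehlerDifferential.D ℤ A a) from
      TensorProduct.AlgebraTensorModule.cancelBaseChange_symm_tmul A K K' _ _]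
    simp only [f₃, LinearMap.baseChange_tmul, KaehlerDifferential.mapBaseChange_tmul, one_smul, KaehlerDifferential.map_D]
    rw [← IsScalarTower.algebraMap_apply, ← IsScalarTower.algebraMap_apply]
  have hrange : ∀ x, f₂ (u₁ x) ∈ LinearMap.range v₁ := fun x => by
    refine (hv _).1 ?_
    rw [← LinearMap.comp_apply v₂, ← h₂, LinearMap.comp_apply, hu.apply_apply_eq_zero, map_zero]
  let f₁ : K' ⊗[K] CotangentSpace A →ₗ[K'] CotangentSpace B :=
    (LinearEquiv.ofInjective v₁ hv₁).symm.toLinearMap ∘ₗ (f₂ ∘ₗ u₁).codRestrict _ hrange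
  have h₁ : f₂ ∘ₗ u₁ = v₁ ∘ₗ f₁ := LinearMap.ext fun x => by
    have := congrArg Subtype.val ((LinearEquiv.ofInjective v₁ hv₁).apply_symm_apply ((f₂ ∘ₗ u₁).codRestrict _ hrange x))
    exact this.symm
  -- the cokernel of `f₂`
  obtain ⟨D, hDA, hDy⟩ := hder (Fin r → K') 0 (fun i => rfl) (fun i => Pi.single i 1)
  let χ : K' ⊗[B] Ω[B⁄ℤ] →ₗ[K'] (Fin r → K') := D.liftKaehlerDifferential.liftBaseChange K'
  have hχy : ∀ i, χ ((1 : K') ⊗ₜ[B] KaehlerDifferential.D ℤ B (y i)) = Pi.single i 1 := fun i => by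
    show LinearMap.liftBaseChange K' _ _ = _
    rw [LinearMap.liftBaseChange_tmul, one_smul, Derivation.liftKaehlerDifferential_comp_D, hDy]
  have hχsurj : Function.Surjective χ := fun c =>
    ⟨∑ i, c i • ((1 : K') ⊗ₜ[B] KaehlerDifferential.D ℤ B (y i)), by
      rw [map_sum]
      simp only [map_smul, hχy]
      ext j
      simp [Finset.sum_apply, Pi.single_apply]⟩
  have hspan : LinearMap.range f₂ ⊔ Submodule.span K' (Set.range fun i => (1 : K') ⊗ₜ[B] KaehlerDifferential.D ℤ B (y i)) = ⊤ := by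
    set S := LinearMap.range f₂ ⊔ Submodule.span K' (Set.range fun i => (1 : K') ⊗ₜ[B] KaehlerDifferential.D ℤ B (y i))
    have hS : ∀ b, (1 : K') ⊗ₜ[B] KaehlerDifferential.D ℤ B b ∈ S := by
      intro b
      have hb : b ∈ Algebra.adjoin A (Set.range y) := by rw [hgen]; trivial
      induction hb using Algebra.adjoin_induction with
      | mem z hz => obtain ⟨i, rfl⟩ := hz; exact Submodule.mem_sup_right (Submodule.subset_span ⟨i, rfl⟩)
      | algebraMap a => exact Submodule.mem_sup_left ⟨_, hgen2 a⟩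
      | add a b _ _ ha hb => rw [map_add, TensorProduct.tmul_add]; exact S.add_mem ha hb
      | mul a b _ _ ha hb =>
        rw [Derivation.leibniz, TensorProduct.tmul_add, TensorProduct.tmul_smul, TensorProduct.tmul_smul]
        exact S.add_mem (S.smul_of_tower_mem a hb) (S.smul_of_tower_mem b ha)
    rw [eq_top_iff]
    rintro z -
    induction z using TensorProduct.induction_on with
    | zero => exact S.zero_mem
    | add a b ha hb => exact S.add_mem ha hb
    | tmul c w =>
      have hw : w ∈ Submodule.span B (Set.range (KaehlerDifferential.D ℤ B)) := by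
        rw [KaehlerDifferential.span_range_derivation]; trivial
      induction hw using Submodule.span_induction generalizing c with
      | mem z hz =>
        obtain ⟨b, rfl⟩ := hz
        rw [show c ⊗ₜ[B] KaehlerDifferential.D ℤ B b = c • ((1 : K') ⊗ₜ[B] KaehlerDifferential.D ℤ B b) by
          rw [TensorProduct.smul_tmul', smul_eq_mul, mul_one]]
        exact S.smul_mem _ (hS b)
      | zero => simp
      | add a b _ _ ha hb => rw [TensorProduct.tmul_add]; exact S.add_mem (ha c) (hb c)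
      | smul a z _ hz => rw [show c ⊗ₜ[B] (a • z) = (a • c) ⊗ₜ[B] z from (TensorProduct.smul_tmul a c z).symm]; exact hz _
  have hχ0 : χ ∘ₗ f₂ = 0 := hext _ _ fun a => by
    rw [LinearMap.comp_apply, hgen2]
    show LinearMap.liftBaseChange K' _ _ = _
    rw [LinearMap.liftBaseChange_tmul, one_smul, Derivation.liftKaehlerDifferential_comp_D, hDA]
    rfl
  have hχker : LinearMap.ker χ = LinearMap.range f₂ := by
    refine le_antisymm (fun z hz => ?_) (LinearMap.range_le_ker_iff.2 hχ0)
    obtain ⟨a, ha, b, hb, rfl⟩ := Submodule.mem_sup.1 (show z ∈ _ by rw [hspan]; trivial)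
    obtain ⟨c, rfl⟩ := (Submodule.mem_span_range_iff_exists_fun _).1 hb
    have ha' : χ a = 0 := by
      obtain ⟨x, rfl⟩ := ha
      exact LinearMap.congr_fun hχ0 x
    have hz' : ∑ i, c i • (Pi.single i 1 : Fin r → K') = 0 := by
      have := LinearMap.mem_ker.1 hz
      rw [map_add, ha', zero_add, map_sum] at this
      simpa only [map_smul, hχy] using this
    have hc : ∀ i, c i = 0 := fun i => by
      have := congrFun hz' i
      simpa [Finset.sum_apply, Pi.single_apply] using this
    simp [hc, ha]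
  let eC2 : ((K' ⊗[B] Ω[B⁄ℤ]) ⧸ LinearMap.range f₂) ≃ₗ[K'] (Fin r → K') :=
    (Submodule.quotEquivOfEq _ _ hχker.symm).trans (χ.quotKerEquivOfSurjective hχsurj)
  haveI : Module.Finite K' ((K' ⊗[B] Ω[B⁄ℤ]) ⧸ LinearMap.range f₂) := Module.Finite.equiv eC2.symm
  -- the kernel of `f₂`
  let w : Fin r → K' ⊗[A] Ω[A⁄ℤ] := fun i => (1 : K') ⊗ₜ[A] KaehlerDifferential.D ℤ A (f i)
  have hw0 : ∀ i, f₂ (w i) = 0 := fun i => by
    rw [hgen2, ← hy, Derivation.leibniz_pow, ← Nat.cast_smul_eq_nsmul B, CharP.cast_eq_zero, zero_smul,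
      TensorProduct.tmul_zero]
  let W := Submodule.span K' (Set.range w)
  let δ₀ : Derivation ℤ A ((K' ⊗[A] Ω[A⁄ℤ]) ⧸ W) :=
    ((W.mkQ.restrictScalars A) ∘ₗ (TensorProduct.mk A K' Ω[A⁄ℤ] 1)).compDer (KaehlerDifferential.D ℤ A)
  obtain ⟨Dψ, hψA, -⟩ := hder ((K' ⊗[A] Ω[A⁄ℤ]) ⧸ W) δ₀
    (fun i => (Submodule.Quotient.mk_eq_zero _).2 (Submodule.subset_span ⟨i, rfl⟩)) (fun _ => 0)
  have hψ : Dψ.liftKaehlerDifferential.liftBaseChange K' ∘ₗ f₂ = W.mkQ := hext _ _ fun a => by
    rw [LinearMap.comp_apply, hgen2, LinearMap.liftBaseChange_tmul, one_smul, Derivation.liftKaehlerDifferential_comp_D, hψA]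
    rfl
  have hker2 : LinearMap.ker f₂ = W := by
    refine le_antisymm (fun z hz => ?_) (Submodule.span_le.2 (by rintro _ ⟨i, rfl⟩; exact hw0 i))
    have := LinearMap.congr_fun hψ z
    rw [LinearMap.comp_apply, LinearMap.mem_ker.1 hz, map_zero] at this
    exact (Submodule.Quotient.mk_eq_zero _).1 this.symm
  haveI : Module.Finite K' (LinearMap.ker f₂) := by
    rw [hker2]; exact Module.Finite.span_of_finite K' (Set.finite_range w)
  -- the residue field extension
  haveI : Algebra.IsAlgebraic K K' := Algebra.IsAlgebraic.of_finite K K'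
  obtain ⟨hH1, hCartier⟩ := Groth.Agent.FieldExtLib.finrank_kaehler_eq K K'
  haveI := hH1
  obtain ⟨eH⟩ := Groth.Agent.FieldExtLib.nonempty_h1_equiv_imperfection K K'
  haveI : Module.Finite K' (LinearMap.ker f₃) := Module.Finite.equiv eH
  let eC3 : (Ω[K'⁄ℤ] ⧸ LinearMap.range f₃) ≃ₗ[K'] Ω[K'⁄K] :=
    (Submodule.quotEquivOfEq _ _ (KaehlerDifferential.exact_mapBaseChange_map ℤ K K').linearMap_ker_eq.symm).trans
      ((KaehlerDifferential.map ℤ K K' K').quotKerEquivOfSurjective (KaehlerDifferential.map_surjective ℤ K K'))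
  haveI : Module.Finite K' (Ω[K'⁄ℤ] ⧸ LinearMap.range f₃) := Module.Finite.equiv eC3.symm
  have hidx := Groth.Agent.FieldExtLib.index_eq u₁ u₂ v₁ v₂ hu₁ hu hu₂ hv₁ hv hv₂ f₁ f₂ f₃ h₁ h₂
  have n1 : Module.finrank K' (K' ⊗[K] CotangentSpace A) = Module.finrank K (CotangentSpace A) := Module.finrank_baseChange
  have n2 : Module.finrank K' ((K' ⊗[B] Ω[B⁄ℤ]) ⧸ LinearMap.range f₂) = r := by
    rw [eC2.finrank_eq, Module.finrank_fin_fun]
  have n3 : Module.finrank K' (Ω[K'⁄ℤ] ⧸ LinearMap.range f₃) = Module.finrank K' (LinearMap.ker f₃) := by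
    rw [eC3.finrank_eq, hCartier, trdeg_eq_zero]
    rw [map_zero, add_zero]
    exact eH.finrank_eq
  have n4 : LinearIndependent K (fun i => (1 : K) ⊗ₜ[A] KaehlerDifferential.D ℤ A (f i)) ↔
      Module.finrank K' (LinearMap.ker f₂) = r := by
    have hwe : ∀ i, w i = e ((1 : K') ⊗ₜ[K] ((1 : K) ⊗ₜ[A] KaehlerDifferential.D ℤ A (f i))) := fun i => by
      simp only [w, e, TensorProduct.AlgebraTensorModule.cancelBaseChange_tmul, one_smul]
    have hw1 : LinearIndependent K' w ↔ LinearIndependent K (fun i => (1 : K) ⊗ₜ[A] KaehlerDifferential.D ℤ A (f i)) := by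
      constructor
      · intro h
        refine LinearIndependent.of_comp ((e.toLinearMap.restrictScalars K) ∘ₗ (TensorProduct.mk K K' (K ⊗[A] Ω[A⁄ℤ]) 1)) ?_
        have hfun : (((e.toLinearMap.restrictScalars K) ∘ₗ (TensorProduct.mk K K' (K ⊗[A] Ω[A⁄ℤ]) 1)) ∘
            fun i => (1 : K) ⊗ₜ[A] KaehlerDifferential.D ℤ A (f i)) = w := funext fun i => (hwe i).symm
        rw [hfun]
        exact h.restrict_scalars' K
      · intro h
        rw [show w = e ∘ fun i => (1 : K') ⊗ₜ[K] ((1 : K) ⊗ₜ[A] KaehlerDifferential.D ℤ A (f i)) from funext hwe]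
        refine LinearIndependent.map' ?_ e.toLinearMap e.ker
        rw [linearIndependent_iff']
        intro s c hc i hi
        have hc' : ∑ j ∈ s, c j ⊗ₜ[K] ((1 : K) ⊗ₜ[A] KaehlerDifferential.D ℤ A (f j)) = 0 := by
          rw [← hc]
          exact Finset.sum_congr rfl fun j _ => by rw [TensorProduct.smul_tmul', smul_eq_mul, mul_one]
        exact Groth.Agent.FieldExtLib.eq_zero_of_sum_tmul (h.linearIndepOn (s := (s : Set (Fin r)))) c hc' i hi
    rw [← hw1, linearIndependent_iff_card_eq_finrank_span, Fintype.card_fin, hker2]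
    exact ⟨fun h => h.symm, fun h => h.symm⟩
  rw [n4]
  rw [n1, n2, n3] at hidx
  show Module.finrank K (CotangentSpace A) = Module.finrank K' (CotangentSpace B) ↔ _
  omega

/-- Let A be an Artinian local ring of characteristic p > 0 with maximal ideal m of square zero and
residue field K, f_1, …, f_r ∈ A, and B = A[T_1, …, T_r]/(T_1^p − f_1, …, T_r^p − f_r). Then B is
local, and dim_K m = dim_{K'}(m'/m'²) (m', K' the maximal ideal and residue field of B) if and only
if the d f_i ⊗ 1 are linearly independent in Ω_A ⊗_A K. -/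
theorem result {A : Type u} [CommRing A]
    [IsArtinianRing A] [IsLocalRing A] (hm : maximalIdeal A ^ 2 = ⊥) (p : ℕ) [Fact p.Prime] [CharP A p]
    {r : ℕ} (f : Fin r → A) :
    let B := MvPolynomial (Fin r) A ⧸ Ideal.span (Set.range fun i => MvPolynomial.X i ^ p - MvPolynomial.C (f i))
    ∃ _ : IsLocalRing B,
      (Module.finrank (ResidueField A) (CotangentSpace A) = Module.finrank (ResidueField B) (CotangentSpace B) ↔
        LinearIndependent (ResidueField A) (fun i => (1 : ResidueField A) ⊗ₜ[A] KaehlerDifferential.D ℤ A (f i))) := by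
  classical
  intro B
  have hp : p.Prime := Fact.out
  let mkB : MvPolynomial (Fin r) A →ₐ[A] B := Ideal.Quotient.mkₐ A _
  let y : Fin r → B := fun i => mkB (MvPolynomial.X i)
  have hy : ∀ i, y i ^ p = algebraMap A B (f i) := fun i => by
    show mkB (MvPolynomial.X i) ^ p = _
    rw [← map_pow, ← AlgHom.commutes mkB]
    exact Ideal.Quotient.eq.2 (Ideal.subset_span ⟨i, rfl⟩)
  have hgen : Algebra.adjoin A (Set.range y) = ⊤ := by
    rw [show Set.range y = mkB '' Set.range MvPolynomial.X by rw [← Set.range_comp]; rfl, Algebra.adjoin_image,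
      MvPolynomial.adjoin_range_X, Algebra.map_top, AlgHom.range_eq_top]
    exact Ideal.Quotient.mk_surjective
  have hlift : ∀ (E : Type u) [CommRing E] [Algebra A E] (z : Fin r → E), (∀ i, z i ^ p = algebraMap A E (f i)) →
      ∃ w : B →ₐ[A] E, ∀ i, w (y i) = z i := by
    intro E _ _ z hz
    refine ⟨Ideal.Quotient.liftₐ _ (MvPolynomial.aeval z) fun a ha => ?_, fun i => MvPolynomial.aeval_X z i⟩
    have hle : Ideal.span (Set.range fun i => MvPolynomial.X i ^ p - MvPolynomial.C (f i)) ≤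
        RingHom.ker (MvPolynomial.aeval (R := A) z) :=
      Ideal.span_le.2 (by rintro _ ⟨i, rfl⟩; simp [hz])
    exact hle ha
  haveI hnt : Nontrivial B := by
    choose z hz using fun i => IsAlgClosed.exists_pow_nat_eq
      (algebraMap A (AlgebraicClosure (ResidueField A)) (f i)) hp.pos
    obtain ⟨w, -⟩ := hlift (AlgebraicClosure (ResidueField A)) z hz
    exact w.toRingHom.domain_nontrivial
  haveI : CharP B p := (CharP.charP_iff_prime_eq_zero hp).2 (by
    rw [← map_natCast (algebraMap A B), CharP.cast_eq_zero, map_zero])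
  haveI : ExpChar B p := .prime hp
  have hpow : ∀ b : B, ∃ a : A, algebraMap A B a = b ^ p := by
    intro b
    have hb : b ∈ Algebra.adjoin A (Set.range y) := by rw [hgen]; trivial
    induction hb using Algebra.adjoin_induction with
    | mem z hz => obtain ⟨i, rfl⟩ := hz; exact ⟨f i, (hy i).symm⟩
    | algebraMap a => exact ⟨a ^ p, map_pow _ _ _⟩
    | add a b _ _ ha hb =>
      obtain ⟨x, hx⟩ := ha
      obtain ⟨x', hx'⟩ := hb
      exact ⟨x + x', by rw [map_add, hx, hx', add_pow_char]⟩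
    | mul a b _ _ ha hb =>
      obtain ⟨x, hx⟩ := ha
      obtain ⟨x', hx'⟩ := hb
      exact ⟨x * x', by rw [map_mul, hx, hx', mul_pow]⟩
  have hnil : ∀ a ∈ maximalIdeal A, IsNilpotent (algebraMap A B a) := fun a ha =>
    ⟨2, by rw [← map_pow]; exact (congrArg _ (by
      have := Ideal.pow_mem_pow ha 2
      rwa [hm, Submodule.mem_bot] at this)).trans (map_zero _)⟩
  haveI hlocB : IsLocalRing B := IsLocalRing.of_isUnit_or_isUnit_one_sub_self fun b => by
    obtain ⟨a, ha⟩ := hpow b
    by_cases hu : IsUnit a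
    · exact Or.inl ((isUnit_pow_iff hp.ne_zero).1 (ha ▸ hu.map _))
    · refine Or.inr (IsNilpotent.isUnit_one_sub ?_)
      have := hnil a hu
      rw [ha] at this
      exact IsNilpotent.of_pow this
  refine ⟨hlocB, ?_⟩
  haveI : IsLocalHom (algebraMap A B) := ⟨fun a ha => by
    by_contra hu
    exact not_isUnit_zero (M₀ := B) (by
      obtain ⟨n, hn⟩ := hnil a hu
      rw [← hn]; exact ha.pow n)⟩
  haveI : Algebra.FiniteType A B := Algebra.FiniteType.of_surjective mkB Ideal.Quotient.mk_surjective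
  haveI : Algebra.IsIntegral A B := ⟨fun b => by
    obtain ⟨a, ha⟩ := hpow b
    exact ⟨Polynomial.X ^ p - Polynomial.C a, Polynomial.monic_X_pow_sub_C _ hp.ne_zero, by simp [ha]⟩⟩
  haveI : Module.Finite A B := Algebra.IsIntegral.finite
  haveI : IsNoetherianRing B := IsNoetherianRing.of_finite A B
  exact aux p f y hy hgen hlift

end Groth.Agent.S4595
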