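import Groth.Statements.S4598
import Groth.Agent.S4597
-- import your own Groth.Agent.* helpers here

set_option autoImplicit false
universe u
open AlgebraicGeometry CategoryTheory CategoryTheory.Limits
open EGA41

namespace Groth.Agent.S4598

/-- If g : Y' → Y is quasi-compact and surjective and the base change X ×_Y Y' → Y' of f : X → Y is
quasi-separated, then f is quasi-separated. -/
theorem result {X Y Y' : Scheme.{u}} (f : X ⟶ Y)
    (g : Y' ⟶ Y) [QuasiCompact g] [Surjective g] [QuasiSeparated (pullback.snd f g)] :
    QuasiSeparated f := by
  haveI : MorphismProperty.DescendsAlong @QuasiCompact (@QuasiCompact ⊓ @Surjective) :=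
    .mk' fun {X Y Z p q _} hp hfst => by
      haveI : Surjective p := hp.2
      have hsnd : QuasiCompact (pullback.snd q p) := by
        rw [← MorphismProperty.cancel_left_of_respectsIso @QuasiCompact (pullbackSymmetry p q).hom,
          pullbackSymmetry_hom_comp_snd]
        exact hfst
      exact (Groth.Agent.S4597.result q p).1 hp.1 hsnd
  have hd : (MorphismProperty.diagonal @QuasiCompact) (pullback.snd f g) := by
    rw [← quasiSeparated_eq_diagonal_is_quasiCompact]; infer_instance
  rw [quasiSeparated_eq_diagonal_is_quasiCompact]
  exact MorphismProperty.of_pullback_snd_of_descendsAlong (P := MorphismProperty.diagonal @QuasiCompact)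
    (Q := @QuasiCompact ⊓ @Surjective) ⟨inferInstance, inferInstance⟩ hd

end Groth.Agent.S4598
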