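import Groth.Statements.S4600
import Mathlib
-- import your own Groth.Agent.* helpers here

set_option autoImplicit false
universe u
open CategoryTheory CategoryTheory.Limits TensorProduct
open EGA41

namespace Groth.Agent.S4600

/-- Let (A_i) be a filtered system of rings with colimit A and B a finitely presented A-algebra. Then
some stage A_i carries a finitely presented algebra B_i with B isomorphic to A ⊗_{A_i} B_i as
A-algebras (existence of an isomorphism; the base change is along the colimit map A_i → A). -/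
theorem result {I : Type u} [SmallCategory I] [IsFiltered I]
    (D : I ⥤ CommRingCat.{u}) (c : Cocone D) (hc : IsColimit c) (B : Type u) [CommRing B] [Algebra c.pt B]
    [Algebra.FinitePresentation c.pt B] :
    ∃ (i : I) (Bi : Type u) (_ : CommRing Bi) (_ : Algebra (D.obj i) Bi),
      Algebra.FinitePresentation (D.obj i) Bi ∧
      (letI : Algebra (D.obj i) c.pt := (c.ι.app i).hom.toAlgebra
       Nonempty (B ≃ₐ[c.pt] (c.pt ⊗[D.obj i] Bi))) := by
  classical
  obtain ⟨n, f, hf, hker⟩ := Algebra.FinitePresentation.out (R := c.pt) (A := B)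
  obtain ⟨s, hs⟩ := hker
  have hex : ∀ (a : c.pt), ∃ (j : I) (b : D.obj j), (c.ι.app j).hom b = a :=
    fun a => Concrete.isColimit_exists_rep D hc a
  choose jf bf hbf using hex
  let T : Finset c.pt := s.biUnion fun r => r.support.image fun m => r.coeff m
  let i := IsFiltered.sup (insert (IsFiltered.nonempty (C := I)).some (T.image jf)) ∅
  letI : Algebra (D.obj i) c.pt := (c.ι.app i).hom.toAlgebra
  have hstage : ∀ a ∈ T, ∃ b : D.obj i, algebraMap (D.obj i) c.pt b = a := fun a ha => by
    let u : jf a ⟶ i := IsFiltered.toSup _ ∅ (Finset.mem_insert_of_mem (Finset.mem_image_of_mem jf ha))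
    refine ⟨(D.map u).hom (bf a), ?_⟩
    show (c.ι.app i).hom ((D.map u).hom (bf a)) = a
    rw [← CategoryTheory.comp_apply, c.w u, hbf]
  have hlift : ∀ r ∈ s, ∃ r' : MvPolynomial (Fin n) (D.obj i), MvPolynomial.map (algebraMap (D.obj i) c.pt) r' = r :=
    fun r hr => by
      refine MvPolynomial.mem_range_map_iff_coeffs_subset.mpr ?_
      intro a ha
      rw [Finset.mem_coe, MvPolynomial.mem_coeffs_iff] at ha
      obtain ⟨m, hm, rfl⟩ := ha
      exact hstage _ (Finset.mem_biUnion.mpr ⟨r, hr, Finset.mem_image_of_mem _ hm⟩)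
  choose r' hr' using hlift
  let J : Ideal (MvPolynomial (Fin n) (D.obj i)) :=
    Ideal.span ((s.attach.image fun r => r' r.1 r.2 : Finset _) : Set (MvPolynomial (Fin n) (D.obj i)))
  refine ⟨i, MvPolynomial (Fin n) (D.obj i) ⧸ J, inferInstance, inferInstance,
    Algebra.FinitePresentation.quotient ⟨_, rfl⟩, ⟨?_⟩⟩
  let e₁ := Algebra.TensorProduct.tensorQuotientEquiv (R := D.obj i) c.pt (MvPolynomial (Fin n) (D.obj i)) c.pt J
  let e₂ : c.pt ⊗[D.obj i] MvPolynomial (Fin n) (D.obj i) ≃ₐ[c.pt] MvPolynomial (Fin n) c.pt :=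
    MvPolynomial.algebraTensorAlgEquiv (D.obj i) c.pt
  have hJ : RingHom.ker f.toRingHom = (J.map (Algebra.TensorProduct.includeRight (A := c.pt) (R := D.obj i))).map
      (e₂ : c.pt ⊗[D.obj i] MvPolynomial (Fin n) (D.obj i) →+* MvPolynomial (Fin n) c.pt) := by
    rw [← hs]
    simp only [J, Ideal.map_span, Finset.coe_image]
    rw [Set.image_image, Set.image_image]
    congr 1
    ext x
    constructor
    · intro hx
      refine ⟨⟨x, hx⟩, Finset.mem_coe.mpr (Finset.mem_attach _ _), ?_⟩
      show e₂ (1 ⊗ₜ r' x hx) = x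
      rw [MvPolynomial.algebraTensorAlgEquiv_tmul, one_smul, hr']
    · rintro ⟨⟨r, hr⟩, -, rfl⟩
      show e₂ (1 ⊗ₜ r' r hr) ∈ _
      rw [MvPolynomial.algebraTensorAlgEquiv_tmul, one_smul, hr']
      exact hr
  exact (((Ideal.quotientKerAlgEquivOfSurjective hf).symm.trans
    (Ideal.quotientEquivAlgOfEq c.pt hJ)).trans
      (Ideal.quotientEquivAlg _ _ e₂ rfl).symm).trans e₁.symm

end Groth.Agent.S4600
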