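import Groth.Statements.S4601
import Mathlib
-- import your own Groth.Agent.* helpers here

set_option autoImplicit false
universe u
open TensorProduct
open CAlg

namespace Groth.Agent.S4601

/-- Let A be a domain with fraction field K, B a Noetherian A-algebra which is flat over A, K' an
extension field of K, B₁ = B_red and R its total ring of fractions. For every sub-A-algebra A' of
K', the map (A' ⊗_A B)_red → (K' ⊗_A R)_red is injective, i.e. an element of A' ⊗_A B with nilpotent
image in K' ⊗_A R is nilpotent. -/
theorem result {A B K' R : Type u} [CommRing A]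
    [IsDomain A] [CommRing B] [Algebra A B] [IsNoetherianRing B] [Module.Flat A B]
    [Field K'] [Algebra A K'] [Algebra (FractionRing A) K'] [IsScalarTower A (FractionRing A) K']
    [CommRing R] [Algebra (B ⧸ nilradical B) R] [IsFractionRing (B ⧸ nilradical B) R]
    [Algebra B R] [IsScalarTower B (B ⧸ nilradical B) R] [Algebra A R] [IsScalarTower A B R]
    (A' : Subalgebra A K') (x : ↥A' ⊗[A] B)
    (hx : IsNilpotent (Algebra.TensorProduct.map A'.val (IsScalarTower.toAlgHom A B R) x)) :
    IsNilpotent x := by
  classical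
  let g := IsScalarTower.toAlgHom A B R
  haveI : Module.Flat (FractionRing A) K' := inferInstance
  haveI : Module.Flat A (FractionRing A) := IsLocalization.flat (FractionRing A) (nonZeroDivisors A)
  haveI : Module.Flat A K' := Module.Flat.trans A (FractionRing A) K'
  -- the maps
  let Φ := Algebra.TensorProduct.map A'.val (AlgHom.id A B)
  have hΦ : Function.Injective Φ :=
    Module.Flat.rTensor_preserves_injective_linearMap (M := B) A'.val.toLinearMap Subtype.val_injective
  let Ψ := Algebra.TensorProduct.map (AlgHom.id A K') g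
  let q : B →ₐ[A] B ⧸ nilradical B := Ideal.Quotient.mkₐ A (nilradical B)
  let r : (B ⧸ nilradical B) →ₐ[A] R :=
    Ideal.Quotient.liftₐ (nilradical B) g fun b hb => by
      show algebraMap B R b = 0
      rw [IsScalarTower.algebraMap_apply B (B ⧸ nilradical B) R, Ideal.Quotient.algebraMap_eq,
        Ideal.Quotient.eq_zero_iff_mem.2 hb, map_zero]
  have hr : Function.Injective r := fun a b hab => by
    obtain ⟨a, rfl⟩ := Ideal.Quotient.mk_surjective a
    obtain ⟨b, rfl⟩ := Ideal.Quotient.mk_surjective b
    refine IsFractionRing.injective (B ⧸ nilradical B) R ?_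
    rw [← Ideal.Quotient.algebraMap_eq, ← IsScalarTower.algebraMap_apply, ← IsScalarTower.algebraMap_apply]
    exact hab
  obtain ⟨n, hn⟩ := hx
  have h0 : Ψ (Φ (x ^ n)) = 0 := by
    rw [← AlgHom.comp_apply, show Ψ.comp Φ = Algebra.TensorProduct.map A'.val (IsScalarTower.toAlgHom A B R) from by
      rw [← Algebra.TensorProduct.map_comp]; simp [g], map_pow, hn]
  have h1 : q.toLinearMap.lTensor K' (Φ (x ^ n)) = 0 := by
    apply Module.Flat.lTensor_preserves_injective_linearMap (M := K') r.toLinearMap hr
    rw [← LinearMap.lTensor_comp_apply, map_zero]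
    exact h0
  obtain ⟨w, hw⟩ := (lTensor_exact K' (f := ((nilradical B).restrictScalars A).subtype) (g := q.toLinearMap)
    (fun b => ⟨fun hb => ⟨⟨b, Ideal.Quotient.eq_zero_iff_mem.1 hb⟩, rfl⟩, by
      rintro ⟨y, rfl⟩; exact Ideal.Quotient.eq_zero_iff_mem.2 y.2⟩) Ideal.Quotient.mk_surjective _).1 h1
  have hnil : IsNilpotent (Φ (x ^ n)) := by
    rw [← hw]
    clear hw h1
    induction w using TensorProduct.induction_on with
    | zero => simp
    | add a b ha hb => rw [map_add]; exact Commute.isNilpotent_add (Commute.all _ _) ha hb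
    | tmul c b =>
      obtain ⟨m, hm⟩ := b.2
      refine ⟨m, ?_⟩
      show ((c ⊗ₜ[A] (b : B)) : K' ⊗[A] B) ^ m = 0
      rw [Algebra.TensorProduct.tmul_pow, hm, TensorProduct.tmul_zero]
  obtain ⟨m, hm⟩ := hnil
  exact ⟨n * m, hΦ (by rw [map_zero, pow_mul, map_pow, hm])⟩

end Groth.Agent.S4601
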