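import Mathlib
import Groth.Agent.GRingCompleteLib.Main
import Groth.Agent.AdicFS.SepTFAE
import Groth.Agent.FieldExtLib.Imperfection
import Groth.Statements.S4602

set_option autoImplicit false
universe u
open IsLocalRing
open EGA41

namespace Groth.Agent.S4602

/-- Let A be a regular local ring with fraction field of characteristic zero, B a domain containing A
and module-finite over it, with fraction field L, n a prime of B, C = B_n, q a prime of the
completion Ĉ with q ∩ C = 0. Then Ĉ_q is formally smooth over L for the adic topology of its maximal
ideal. (Case (ii) of the published statement, in characteristic p with a suitable filtered family of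
subrings, is not stated.) -/
theorem result
    {A B : Type u} [CommRing A] [IsRegularLocalRing A] [CharZero A] [CommRing B] [IsDomain B] [Algebra A B]
    [Module.Finite A B] (hinj : Function.Injective (algebraMap A B)) (n : Ideal B) [n.IsPrime]
    (q : Ideal (AdicCompletion (maximalIdeal (Localization.AtPrime n)) (Localization.AtPrime n))) [q.IsPrime]
    (hq : q.comap (algebraMap (Localization.AtPrime n)
      (AdicCompletion (maximalIdeal (Localization.AtPrime n)) (Localization.AtPrime n))) = ⊥)
    [Algebra B (Localization.AtPrime q)]
    [IsScalarTower B (AdicCompletion (maximalIdeal (Localization.AtPrime n)) (Localization.AtPrime n))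
      (Localization.AtPrime q)]
    [Algebra (FractionRing B) (Localization.AtPrime q)] [IsScalarTower B (FractionRing B) (Localization.AtPrime q)] :
    CAlgX.IsAdicFormallySmooth (FractionRing B) (Localization.AtPrime q) (maximalIdeal (Localization.AtPrime q)) := by
  classical
  let C := Localization.AtPrime n
  let Ch := AdicCompletion (maximalIdeal C) C
  let L := FractionRing B
  let T := Localization.AtPrime q
  haveI : IsDomain A := RegLocal.isDomain A
  haveI : IsRegularRing A := RegLocLib.isRegularRing_of_isRegularLocalRing A
  haveI : IsNoetherianRing B := IsNoetherianRing.of_finite A B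
  haveI : IsNoetherianRing C := IsLocalization.isNoetherianRing n.primeCompl _ inferInstance
  haveI : IsNoetherianRing Ch := RegLocal.isNoetherianRing_completion C (maximalIdeal C)
  haveI : IsNoetherianRing T := IsLocalization.isNoetherianRing q.primeCompl _ inferInstance
  haveI : CharZero B := charZero_of_injective_algebraMap hinj
  haveI : CharZero L := charZero_of_injective_algebraMap (IsFractionRing.injective B L)
  haveI : Algebra.FormallySmooth L (ResidueField T) := FieldExtLib.formallySmooth_field_of_perfectField _ _
  refine S2471.result.2 ⟨?_, AdicFS.injective_lTensor_of_formallySmooth⟩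
  obtain ⟨m, u, hu⟩ := Algebra.FiniteType.iff_quotient_mvPolynomial''.1 (inferInstance : Algebra.FiniteType A B)
  letI : Algebra (MvPolynomial (Fin m) A) B := u.toRingHom.toAlgebra
  let P := n.comap (algebraMap (MvPolynomial (Fin m) A) B)
  obtain ⟨e⟩ := GRingCompleteLib.exists_quotCompl (MvPolynomial (Fin m) A) B hu n
  let π : MvPolynomial (Fin 0) (MvPolynomial (Fin m) A) →ₐ[MvPolynomial (Fin m) A] B := MvPolynomial.aeval Fin.elim0
  have hπ : Function.Surjective π := fun b => by
    obtain ⟨x, hx⟩ := hu b
    exact ⟨MvPolynomial.C x, (MvPolynomial.aeval_C _ x).trans hx⟩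
  refine GRingCompleteLib.regular_of_algEquiv B Ch _ e.symm (fun Q _ hQ =>
    GRingCompleteLib.isRegularLocalRing_generic (R := A) (Or.inl inferInstance) P B π hπ ?_ Q hQ) q ?_
  · intro a b hab
    apply hinj
    have h : ∀ r, u (MvPolynomial.C r) = algebraMap A B r := fun r => u.commutes r
    rw [← h, ← h]
    exact hab
  · rw [IsScalarTower.algebraMap_eq B C Ch, ← Ideal.comap_comap, hq, ← RingHom.ker_eq_comap_bot]
    exact (RingHom.injective_iff_ker_eq_bot _).1 (IsLocalization.injective C
      (fun x hx => mem_nonZeroDivisors_of_ne_zero fun h => (Ideal.mem_primeCompl_iff.1 hx) (h ▸ n.zero_mem)))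

end Groth.Agent.S4602
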