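import Groth.Statements.S4603
import Groth.Agent.ProConsLib.Range
-- import your own Groth.Agent.* helpers here

set_option autoImplicit false
universe u
open AlgebraicGeometry CategoryTheory
open EGA41

namespace Groth.Agent.S4603

/-- Let f : X → Y be quasi-compact. The following are equivalent: f is dominant; the fibre of f over
every maximal point of Y (a point with no proper generization, i.e. the generic point of an
irreducible component) is nonempty; every maximal point of Y is the image of a maximal point of X. -/
theorem result {X Y : Scheme.{u}} (f : X ⟶ Y) [QuasiCompact f] :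
    [IsDominant f,
     ∀ y : Y, (∀ y' : Y, y' ⤳ y → y' = y) → y ∈ Set.range f.base,
     ∀ y : Y, (∀ y' : Y, y' ⤳ y → y' = y) → ∃ x : X, (∀ x' : X, x' ⤳ x → x' = x) ∧ f.base x = y].TFAE := by
  have hmax : ∀ y : Y, ∃ y', y' ⤳ y ∧ ∀ z : Y, z ⤳ y' → z = y' := by
    intro y
    have hC := irreducibleComponent_mem_irreducibleComponents y
    obtain ⟨y', hy'⟩ := QuasiSober.sober hC.1 (isClosed_irreducibleComponent (x := y))
    refine ⟨y', hy'.specializes mem_irreducibleComponent, fun z hz => ?_⟩
    have hle : irreducibleComponent y ⊆ closure {z} := by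
      rw [← hy'.def]
      exact closure_minimal (Set.singleton_subset_iff.2 (specializes_iff_mem_closure.1 hz)) isClosed_closure
    exact (IsGenericPoint.eq (S := irreducibleComponent y)
      ((hC.2 isIrreducible_singleton.closure hle).antisymm hle) hy')
  tfae_have 3 → 2 := fun h y hy => let ⟨x, _, hx⟩ := h y hy; ⟨x, hx⟩
  tfae_have 2 → 1 := fun h => ⟨fun y => by
    obtain ⟨y', hy', hm⟩ := hmax y
    exact hy'.mem_closed isClosed_closure (subset_closure (h y' hm))⟩
  tfae_have 1 → 3 := by
    intro h y hy
    obtain ⟨U, hU, hyU, -⟩ := exists_isAffineOpen_mem_and_subset (TopologicalSpace.Opens.mem_top y)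
    haveI := Groth.Agent.ProConsLib.spectralSpace_of_isAffineOpen hU
    have hr : ProCons.IsProConstructible (Set.range f.base) := by
      rw [← Set.image_univ]
      exact Groth.Agent.ProConsLib.isProConstructible_image f
        ((Groth.Agent.ProConsLib.isLocallyConstructible_iff_pro_and_ind _).1 Topology.IsLocallyConstructible.univ).1
    have hcl : (⟨y, hyU⟩ : (U : Set Y)) ∈ closure ((Subtype.val : ↥(U : Set Y) → Y) ⁻¹' Set.range f.base) :=
      (U.2.isOpenMap_subtype_val.preimage_closure_eq_closure_preimage continuous_subtype_val _).subset (f.denseRange y)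
    obtain ⟨e, ⟨x, hx⟩, hey⟩ := Groth.Agent.SpectralLib.exists_specializes_of_mem_closure (Groth.Agent.ProConsLib.isClosed_trace hr hU) hcl
    have hxy : f.base x = y := hx.trans (hy _ (hey.map continuous_subtype_val))
    have hC := irreducibleComponent_mem_irreducibleComponents x
    obtain ⟨x', hx'⟩ := QuasiSober.sober hC.1 (isClosed_irreducibleComponent (x := x))
    refine ⟨x', fun z hz => ?_, hy _ ?_⟩
    · have hle : irreducibleComponent x ⊆ closure {z} := by
        rw [← hx'.def]
        exact closure_minimal (Set.singleton_subset_iff.2 (specializes_iff_mem_closure.1 hz)) isClosed_closure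
      exact (IsGenericPoint.eq (S := irreducibleComponent x)
        ((hC.2 isIrreducible_singleton.closure hle).antisymm hle) hx')
    · exact hxy ▸ (hx'.specializes mem_irreducibleComponent).map f.continuous
  tfae_finish

end Groth.Agent.S4603
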