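import Groth.Statements.S4605
import Groth.Agent.PBasisLib.Basic
-- import your own Groth.Agent.* helpers here

set_option autoImplicit false
universe u
open IsLocalRing
open EGA41

namespace Groth.Agent.S4605

/-- Let A be a local ring with maximal ideal m of square zero and residue field K of characteristic p >
0, F_i(T_i) = T_i^p + p Σ_{k=1}^{p-1} c_{ik} T_i^{p-k} − f_i (i in a finite index set) with c_{ik},
f_i ∈ A, and suppose the residues of the f_i in K are p-independent over K^p. Then A' = A[T_i]/(F_i)
is local with maximal ideal m A'. (The identification of the residue field with K(a_i^{1/p}) is not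
restated.) -/
theorem result {A : Type u} [CommRing A]
    [IsLocalRing A] (hm : maximalIdeal A ^ 2 = ⊥) (p : ℕ) [Fact p.Prime] [CharP (ResidueField A) p]
    {ι : Type u} [Finite ι] (c : ι → Fin p → A) (f : ι → A)
    (hind : LinearIndependent (↥(frobenius (ResidueField A) p).fieldRange)
      (fun e : {e : ι →₀ ℕ // ∀ i, e i < p} => EGA41.pMonomial (fun i => residue A (f i)) e.1)) :
    let F : ι → MvPolynomial ι A := fun i =>
      MvPolynomial.X i ^ p + (p : MvPolynomial ι A) * (Finset.univ.sum fun j : Fin p =>
        if (j : ℕ) = 0 then 0 else MvPolynomial.C (c i j) * MvPolynomial.X i ^ (p - (j : ℕ))) - MvPolynomial.C (f i)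
    ∃ _ : IsLocalRing (MvPolynomial ι A ⧸ Ideal.span (Set.range F)),
      maximalIdeal (MvPolynomial ι A ⧸ Ideal.span (Set.range F)) =
        (maximalIdeal A).map (algebraMap A (MvPolynomial ι A ⧸ Ideal.span (Set.range F))) := by
  classical
  intro F
  have hp := (Fact.out : p.Prime)
  let K := ResidueField A
  let fb : ι → K := fun i => residue A (f i)
  let IK : Ideal (MvPolynomial ι K) := Ideal.span (Set.range fun i => MvPolynomial.X i ^ p - MvPolynomial.C (fb i))
  let L := AlgebraicClosure K
  haveI : CharP L p := charP_of_injective_algebraMap (algebraMap K L).injective p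
  choose z hz using fun i => IsAlgClosed.exists_pow_nat_eq (algebraMap K L (fb i)) hp.pos
  have hIK : ∀ q ∈ IK, MvPolynomial.aeval (R := K) z q = 0 := fun q hq => by
    have hle : IK ≤ RingHom.ker (MvPolynomial.aeval (R := K) z) :=
      Ideal.span_le.2 (by rintro _ ⟨i, rfl⟩; simp [hz])
    exact hle hq
  let ψ : MvPolynomial ι K ⧸ IK →ₐ[K] L := Ideal.Quotient.liftₐ IK (MvPolynomial.aeval z) hIK
  have hψ : ∀ e : {e : ι →₀ ℕ // ∀ i, e i < p},
      ψ (Ideal.Quotient.mk IK (MvPolynomial.monomial e.1 1)) ^ p = algebraMap K L (EGA41.pMonomial fb e.1) := by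
    intro e
    change (MvPolynomial.aeval z (MvPolynomial.monomial e.1 (1 : K))) ^ p = _
    rw [MvPolynomial.aeval_monomial, map_one, one_mul, EGA41.pMonomial, Finsupp.prod, Finsupp.prod,
      ← Finset.prod_pow, map_prod]
    exact Finset.prod_congr rfl fun i _ => by rw [map_pow, ← hz, ← pow_mul, ← pow_mul, mul_comm]
  have hli : LinearIndependent K (fun e : {e : ι →₀ ℕ // ∀ i, e i < p} =>
      ψ (Ideal.Quotient.mk IK (MvPolynomial.monomial e.1 1))) := by
    rw [linearIndependent_iff']
    intro s a hs e he
    have h1 : ∑ e ∈ s, algebraMap K L (a e ^ p * EGA41.pMonomial fb e.1) = 0 := by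
      have h2 := congrArg (frobenius L p) hs
      rw [map_sum, map_zero] at h2
      rw [← h2]
      refine Finset.sum_congr rfl fun e _ => ?_
      rw [frobenius_def, Algebra.smul_def, mul_pow, hψ, map_mul, map_pow]
    rw [← map_sum, map_eq_zero] at h1
    have h3 := (linearIndependent_iff'.1 hind) s
      (fun e => ⟨a e ^ p, ⟨a e, frobenius_def _ _⟩⟩) h1 e he
    exact pow_eq_zero_iff hp.ne_zero |>.1 (congrArg Subtype.val h3)
  have hψinj : Function.Injective ψ := by
    refine (injective_iff_map_eq_zero ψ).2 fun q hq => ?_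
    have hq' : q ∈ Submodule.span K (Set.range fun e : {e : ι →₀ ℕ // ∀ i, e i < p} =>
        Ideal.Quotient.mk IK (MvPolynomial.monomial e.1 1)) := by
      rw [Groth.Agent.PBasisLib.span_reduced_eq_top hp.pos fb]; trivial
    obtain ⟨l, rfl⟩ := (Finsupp.mem_span_range_iff_exists_finsupp).1 hq'
    have hl : l = 0 := (linearIndependent_iff.1 hli) l (by
      rw [Finsupp.linearCombination_apply, ← hq, map_finsuppSum]
      simp only [map_smul])
    rw [hl, Finsupp.sum_zero_index]
  haveI : IsDomain (MvPolynomial ι K ⧸ IK) := hψinj.isDomain _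
  haveI : Algebra.IsIntegral K (MvPolynomial ι K ⧸ IK) :=
    ⟨fun q => (isIntegral_algHom_iff ψ hψinj).1 (Algebra.IsIntegral.isIntegral _)⟩
  have hfield : IsField (MvPolynomial ι K ⧸ IK) :=
    isField_of_isIntegral_of_isField' (R := K) (Field.toIsField K)
  haveI hIKmax : IK.IsMaximal := Ideal.Quotient.maximal_of_isField _ hfield
  -- descend to `A`
  let m : Ideal (MvPolynomial ι A) := (maximalIdeal A).map MvPolynomial.C
  let μ : MvPolynomial ι A →+* MvPolynomial ι K := MvPolynomial.map (residue A)
  have hμ : Function.Surjective μ := MvPolynomial.map_surjective _ residue_surjective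
  have hkerμ : RingHom.ker μ = m := by
    show RingHom.ker (MvPolynomial.map (residue A)) = m
    rw [MvPolynomial.ker_map, IsLocalRing.ker_residue]
  have himg : (Ideal.span (Set.range F)).map μ = IK := by
    rw [Ideal.map_span, ← Set.range_comp]
    refine congrArg Ideal.span (congrArg Set.range (funext fun i => ?_))
    show μ (F i) = _
    simp only [F, μ, map_sub, map_add, map_mul, map_pow, MvPolynomial.map_X, MvPolynomial.map_C, map_natCast,
      CharP.cast_eq_zero (MvPolynomial ι K) p, zero_mul, add_zero]
    rfl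
  haveI hM0 : (Ideal.span (Set.range F) ⊔ m).IsMaximal := by
    rw [← hkerμ, RingHom.ker, ← Ideal.comap_map_of_surjective μ hμ, himg]
    exact Ideal.comap_isMaximal_of_surjective μ hμ
  let M := (maximalIdeal A).map (algebraMap A (MvPolynomial ι A ⧸ Ideal.span (Set.range F)))
  have hM : M = (Ideal.span (Set.range F) ⊔ m).map (Ideal.Quotient.mk _) := by
    rw [Ideal.map_sup, Ideal.map_quotient_self, bot_sup_eq, Ideal.map_map]
    rfl
  haveI hMmax : M.IsMaximal := by
    rw [hM]
    refine Ideal.IsMaximal.map_of_surjective_of_ker_le Ideal.Quotient.mk_surjective ?_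
    rw [Ideal.mk_ker]; exact le_sup_left
  have huniq : ∀ N : Ideal (MvPolynomial ι A ⧸ Ideal.span (Set.range F)), N.IsMaximal → N = M := by
    intro N hN
    refine (hMmax.eq_of_le hN.ne_top (Ideal.map_le_iff_le_comap.2 fun a ha => hN.isPrime.mem_of_pow_mem 2 ?_)).symm
    have : a ^ 2 ∈ maximalIdeal A ^ 2 := Ideal.pow_mem_pow ha 2
    rw [hm, Ideal.mem_bot] at this
    rw [← map_pow, this, map_zero]
    exact N.zero_mem
  haveI hloc := IsLocalRing.of_unique_max_ideal ⟨M, hMmax, huniq⟩
  exact ⟨hloc, huniq _ inferInstance⟩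

end Groth.Agent.S4605
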