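import Groth.Statements.S4607
import Mathlib
-- import your own Groth.Agent.* helpers here

set_option autoImplicit false
universe u
open TensorProduct
open EGA41
open CategoryTheory AlgebraicGeometry

namespace Groth.Agent.S4607

/-- First assertion, case of two factors: for A-algebras A' and A'' the image of Spec(A' ⊗_A A'') in
Spec A is the intersection of the images of Spec A' and Spec A''. -/
theorem result {A A' A'' : Type u} [CommRing A] [CommRing A'] [CommRing A'']
    [Algebra A A'] [Algebra A A''] :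
    Set.range (PrimeSpectrum.comap (algebraMap A (A' ⊗[A] A''))) =
      Set.range (PrimeSpectrum.comap (algebraMap A A')) ∩ Set.range (PrimeSpectrum.comap (algebraMap A A'')) := by
  refine Set.Subset.antisymm ?_ ?_
  · rintro _ ⟨q, rfl⟩
    refine ⟨⟨PrimeSpectrum.comap (Algebra.TensorProduct.includeLeftRingHom) q, ?_⟩,
      ⟨PrimeSpectrum.comap (Algebra.TensorProduct.includeRight : A'' →ₐ[A] A' ⊗[A] A'').toRingHom q, ?_⟩⟩
    · rw [← PrimeSpectrum.comap_comp_apply]; rfl
    · rw [← PrimeSpectrum.comap_comp_apply, AlgHom.toRingHom_eq_coe, AlgHom.comp_algebraMap]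
  · rintro y ⟨⟨q', hq'⟩, ⟨q'', hq''⟩⟩
    obtain ⟨z, hz⟩ : (PrimeSpectrum.comap (algebraMap A (A' ⊗[A] A'')) ⁻¹' {y}).Nonempty := by
      obtain ⟨z, -, hz⟩ := AlgebraicGeometry.Scheme.Pullback.exists_preimage_pullback (f := Spec.map (CommRingCat.ofHom (algebraMap A A')))
        (g := Spec.map (CommRingCat.ofHom (algebraMap A A''))) q' q'' (hq'.trans hq''.symm)
      refine ⟨(pullbackSpecIso A A' A'').hom.base z, ?_⟩
      have h1 : (pullbackSpecIso A A' A'').hom ≫ Spec.map (CommRingCat.ofHom (algebraMap A (A' ⊗[A] A''))) =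
          Limits.pullback.snd _ _ ≫ Spec.map (CommRingCat.ofHom (algebraMap A A'')) := by
        rw [← pullbackSpecIso_hom_snd, CategoryTheory.Category.assoc, ← Spec.map_comp, ← CommRingCat.ofHom_comp,
          AlgHom.comp_algebraMap]
      show (Spec.map (CommRingCat.ofHom (algebraMap A (A' ⊗[A] A'')))).base ((pullbackSpecIso A A' A'').hom.base z) = y
      rw [← Scheme.Hom.comp_apply, h1, Scheme.Hom.comp_apply, hz]
      exact hq''
    exact ⟨z, hz⟩
  

end Groth.Agent.S4607
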