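import Groth.Statements.S4608
-- import your own Groth.Agent.* helpers here

set_option autoImplicit false
universe u
open AlgebraicGeometry CategoryTheory CategoryTheory.Limits
open EGA41

namespace Groth.Agent.S4608

/-- A morphism from a disjoint union X' ⨿ X'' → Y is quasi-compact if and only if its two components
are. -/
theorem result {X' X'' Y : Scheme.{u}} (f' : X' ⟶ Y) (f'' : X'' ⟶ Y) :
    QuasiCompact (coprod.desc f' f'') ↔ QuasiCompact f' ∧ QuasiCompact f'' := by
  constructor
  · intro h
    have key : ∀ {Z : Scheme.{u}} (i : Z ⟶ X' ⨿ X''), IsOpenImmersion i → IsClosed (Set.range i.base) → QuasiCompact i :=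
      fun {Z} i hi hc => ⟨fun U hU hUc => by
        rw [i.isOpenEmbedding.isInducing.isCompact_iff, Set.image_preimage_eq_inter_range]
        exact hUc.inter_right hc⟩
    have hl : IsClosed (Set.range (coprod.inl : X' ⟶ X' ⨿ X'').base) := by
      rw [← isOpen_compl_iff, (isCompl_range_inl_inr X' X'').compl_eq]
      exact (coprod.inr : X'' ⟶ X' ⨿ X'').isOpenEmbedding.isOpen_range
    have hr : IsClosed (Set.range (coprod.inr : X'' ⟶ X' ⨿ X'').base) := by
      rw [← isOpen_compl_iff, (isCompl_range_inl_inr X' X'').symm.compl_eq]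
      exact (coprod.inl : X' ⟶ X' ⨿ X'').isOpenEmbedding.isOpen_range
    haveI := key _ inferInstance hl
    haveI := key _ inferInstance hr
    refine ⟨?_, ?_⟩
    · rw [← coprod.inl_desc f' f'']; infer_instance
    · rw [← coprod.inr_desc f' f'']; infer_instance
  · rintro ⟨h', h''⟩
    refine ⟨fun U ho hc => ?_⟩
    rw [show (coprod.desc f' f'').base ⁻¹' U = (coprod.inl : X' ⟶ X' ⨿ X'').base '' (f'.base ⁻¹' U) ∪
      (coprod.inr : X'' ⟶ X' ⨿ X'').base '' (f''.base ⁻¹' U) from ?_]
    · exact ((f'.isSpectralMap.2 ho hc).image (Scheme.Hom.continuous _)).union ((f''.isSpectralMap.2 ho hc).image (Scheme.Hom.continuous _))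
    ext z
    obtain ⟨z | z, rfl⟩ := (coprodMk X' X'').surjective z
    · rw [coprodMk_inl]
      constructor
      · intro h
        refine Or.inl ⟨z, ?_, rfl⟩
        rwa [Set.mem_preimage, ← Scheme.Hom.comp_apply, coprod.inl_desc] at h
      · rintro (⟨w, hw, he⟩ | ⟨w, -, he⟩)
        · obtain rfl := (coprod.inl : X' ⟶ X' ⨿ X'').isOpenEmbedding.injective he
          rwa [Set.mem_preimage, ← Scheme.Hom.comp_apply, coprod.inl_desc]
        · exact ((isCompl_range_inl_inr X' X'').disjoint.le_bot ⟨⟨z, rfl⟩, ⟨w, he⟩⟩).elim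
    · rw [coprodMk_inr]
      constructor
      · intro h
        refine Or.inr ⟨z, ?_, rfl⟩
        rwa [Set.mem_preimage, ← Scheme.Hom.comp_apply, coprod.inr_desc] at h
      · rintro (⟨w, -, he⟩ | ⟨w, hw, he⟩)
        · exact ((isCompl_range_inl_inr X' X'').disjoint.le_bot ⟨⟨w, he⟩, ⟨z, rfl⟩⟩).elim
        · obtain rfl := (coprod.inr : X'' ⟶ X' ⨿ X'').isOpenEmbedding.injective he
          rwa [Set.mem_preimage, ← Scheme.Hom.comp_apply, coprod.inr_desc]

end Groth.Agent.S4608
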