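import Groth.Statements.S4609
import Groth.Agent.S4608
-- import your own Groth.Agent.* helpers here

set_option autoImplicit false
universe u
open AlgebraicGeometry CategoryTheory CategoryTheory.Limits
open EGA41

namespace Groth.Agent.S4609

/-- A morphism from a disjoint union X' ⨿ X'' → Y is quasi-separated if and only if its two components
are. -/
theorem result {X' X'' Y : Scheme.{u}} (f' : X' ⟶ Y) (f'' : X'' ⟶ Y) :
    QuasiSeparated (coprod.desc f' f'') ↔ QuasiSeparated f' ∧ QuasiSeparated f'' := by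
  have hl : IsClosed (Set.range (coprod.inl : X' ⟶ X' ⨿ X'').base) := by
    rw [← isOpen_compl_iff, (isCompl_range_inl_inr X' X'').compl_eq]
    exact (coprod.inr : X'' ⟶ X' ⨿ X'').isOpenEmbedding.isOpen_range
  have hr : IsClosed (Set.range (coprod.inr : X'' ⟶ X' ⨿ X'').base) := by
    rw [← isOpen_compl_iff, (isCompl_range_inl_inr X' X'').symm.compl_eq]
    exact (coprod.inl : X' ⟶ X' ⨿ X'').isOpenEmbedding.isOpen_range
  constructor
  · intro h
    refine ⟨?_, ?_⟩
    · rw [← coprod.inl_desc f' f'']; infer_instance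
    · rw [← coprod.inr_desc f' f'']; infer_instance
  · rintro ⟨h', h''⟩
    refine IsZariskiLocalAtTarget.of_iSup_eq_top (fun U : Y.affineOpens => (U : Y.Opens)) (iSup_affineOpens_eq_top Y) fun U => ?_
    haveI : IsAffine (U : Y.Opens).toScheme := U.2
    rw [HasAffineProperty.iff_of_isAffine (P := @QuasiSeparated)]
    refine (isQuasiSeparated_iff_quasiSeparatedSpace _ ((coprod.desc f' f'') ⁻¹ᵁ (U : Y.Opens)).2).1 ?_
    have hA := (f'.isQuasiSeparated_preimage U.2.isQuasiSeparated).image_of_isEmbedding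
      (coprod.inl : X' ⟶ X' ⨿ X'').isOpenEmbedding.isEmbedding
    have hB := (f''.isQuasiSeparated_preimage U.2.isQuasiSeparated).image_of_isEmbedding
      (coprod.inr : X'' ⟶ X' ⨿ X'').isOpenEmbedding.isEmbedding
    intro A B hA1 hA2 hA3 hB1 hB2 hB3
    have key : ∀ {Z : Scheme.{u}} (i : Z ⟶ X' ⨿ X'') (g : Z ⟶ Y), IsOpenImmersion i → i ≫ coprod.desc f' f'' = g →
        IsClosed (Set.range i.base) → IsQuasiSeparated (i.base '' (g.base ⁻¹' (U : Set Y))) →
        IsCompact (A ∩ B ∩ Set.range i.base) := by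
      intro Z i g hi hig hcl hq
      rw [show A ∩ B ∩ Set.range i.base = (A ∩ Set.range i.base) ∩ (B ∩ Set.range i.base) from Set.inter_inter_distrib_right _ _ _]
      have hsub : ∀ S : Set ↑(X' ⨿ X'' : Scheme.{u}), S ⊆ (coprod.desc f' f'').base ⁻¹' (U : Set Y) →
          S ∩ Set.range i.base ⊆ i.base '' (g.base ⁻¹' (U : Set Y)) := by
        rintro S hS _ ⟨hz, z, rfl⟩
        refine ⟨z, ?_, rfl⟩
        rw [Set.mem_preimage, ← hig, Scheme.Hom.comp_apply]
        exact hS hz
      exact hq _ _ (hsub A hA1) (hA2.inter i.isOpenEmbedding.isOpen_range) (hA3.inter_right hcl)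
        (hsub B hB1) (hB2.inter i.isOpenEmbedding.isOpen_range) (hB3.inter_right hcl)
    have h1 := key _ f' inferInstance (coprod.inl_desc f' f'') hl hA
    have h2 := key _ f'' inferInstance (coprod.inr_desc f' f'') hr hB
    convert! h1.union h2 using 1
    rw [← Set.inter_union_distrib_left]
    exact (Set.inter_eq_left.2 fun z _ => (eq_top_iff.1 (isCompl_range_inl_inr X' X'').sup_eq_top) trivial).symm

end Groth.Agent.S4609
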