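import Mathlib
import Mathlib
import Groth.Statements.S4610

set_option autoImplicit false
universe u
open EGA41

namespace Groth.Agent.S4610

/-- Let A be a nonzero ring and F_1, …, F_r monic one-variable polynomials of degrees d_1, …, d_r; then
A[T_1, …, T_r]/(F_1(T_1), …, F_r(T_r)) is a free A-module of rank ∏ d_i. (The published statement
assumes A local with maximal ideal of square zero and A' local, which this assertion does not use;
its bound [K' : K] ≤ d and part (ii) are not stated.) -/
theorem result {A : Type u} [CommRing A] [Nontrivial A]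
    {r : ℕ} (F : Fin r → Polynomial A) (hF : ∀ i, (F i).Monic) :
    Module.Free A (MvPolynomial (Fin r) A ⧸ Ideal.span (Set.range fun i => Polynomial.aeval (MvPolynomial.X i : MvPolynomial (Fin r) A) (F i))) ∧
      Module.finrank A (MvPolynomial (Fin r) A ⧸ Ideal.span (Set.range fun i => Polynomial.aeval (MvPolynomial.X i : MvPolynomial (Fin r) A) (F i))) =
        Finset.univ.prod fun i => (F i).natDegree := by
  revert F
  induction r with
  | zero =>
    intro F hF
    have hbot : Ideal.span (Set.range fun i => Polynomial.aeval (MvPolynomial.X i : MvPolynomial (Fin 0) A) (F i)) = ⊥ := by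
      rw [Set.range_eq_empty, Ideal.span_empty]
    let e : (MvPolynomial (Fin 0) A ⧸ Ideal.span (Set.range fun i => Polynomial.aeval (MvPolynomial.X i : MvPolynomial (Fin 0) A) (F i))) ≃ₐ[A] A :=
      ((Ideal.quotientEquivAlgOfEq A hbot).trans (AlgEquiv.quotientBot A _)).trans (MvPolynomial.isEmptyAlgEquiv A (Fin 0))
    refine ⟨Module.Free.of_equiv e.toLinearEquiv.symm, ?_⟩
    rw [e.toLinearEquiv.finrank_eq, Module.finrank_self]
    simp
  | succ r ih =>
    intro F hF
    let I₀ : Ideal (MvPolynomial (Fin r) A) :=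
      Ideal.span (Set.range fun i : Fin r => Polynomial.aeval (MvPolynomial.X i : MvPolynomial (Fin r) A) (F i.succ))
    let I : Ideal (MvPolynomial (Fin (r + 1)) A) :=
      Ideal.span (Set.range fun i => Polynomial.aeval (MvPolynomial.X i : MvPolynomial (Fin (r + 1)) A) (F i))
    obtain ⟨hfree, hrank⟩ := ih (fun i => F i.succ) (fun i => hF i.succ)
    let S := MvPolynomial (Fin r) A ⧸ I₀
    haveI : Module.Free A S := hfree
    let G : Polynomial S := (F 0).map (algebraMap A S)
    have hG : G.Monic := (hF 0).map _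
    let T := AdjoinRoot G
    let φ₀ : MvPolynomial (Fin (r + 1)) A →ₐ[A] T := MvPolynomial.aeval
      (Fin.cases (AdjoinRoot.root G) fun i => algebraMap S T (Ideal.Quotient.mk I₀ (MvPolynomial.X i)))
    have hφ : ∀ z ∈ I, φ₀ z = 0 := by
      have hle : I ≤ RingHom.ker φ₀ := Ideal.span_le.2 (by
        rintro _ ⟨i, rfl⟩
        rw [SetLike.mem_coe, RingHom.mem_ker, ← Polynomial.aeval_algHom_apply]
        simp only [φ₀, MvPolynomial.aeval_X]
        cases i using Fin.cases with
        | zero =>
          simp only [Fin.cases_zero]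
          rw [← Polynomial.aeval_map_algebraMap S, AdjoinRoot.aeval_eq, AdjoinRoot.mk_self]
        | succ i =>
          simp only [Fin.cases_succ]
          rw [show Ideal.Quotient.mk I₀ (MvPolynomial.X i) = Ideal.Quotient.mkₐ A I₀ (MvPolynomial.X i) from rfl,
            Polynomial.aeval_algebraMap_apply, Polynomial.aeval_algHom_apply,
            show Ideal.Quotient.mkₐ A I₀ (Polynomial.aeval (MvPolynomial.X i : MvPolynomial (Fin r) A) (F i.succ)) = 0 from
              Ideal.Quotient.eq_zero_iff_mem.2 (Ideal.subset_span ⟨i, rfl⟩), map_zero])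
      exact fun z hz => hle hz
    let φ : (MvPolynomial (Fin (r + 1)) A ⧸ I) →ₐ[A] T := Ideal.Quotient.liftₐ I φ₀ hφ
    let j₀ : MvPolynomial (Fin r) A →ₐ[A] MvPolynomial (Fin (r + 1)) A ⧸ I :=
      MvPolynomial.aeval fun i => Ideal.Quotient.mk I (MvPolynomial.X i.succ)
    have hj : ∀ z ∈ I₀, j₀ z = 0 := by
      have hle : I₀ ≤ RingHom.ker j₀ := Ideal.span_le.2 (by
        rintro _ ⟨i, rfl⟩
        rw [SetLike.mem_coe, RingHom.mem_ker, ← Polynomial.aeval_algHom_apply]
        simp only [j₀, MvPolynomial.aeval_X]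
        rw [show Ideal.Quotient.mk I (MvPolynomial.X i.succ) = Ideal.Quotient.mkₐ A I (MvPolynomial.X i.succ) from rfl,
          Polynomial.aeval_algHom_apply]
        exact Ideal.Quotient.eq_zero_iff_mem.2 (Ideal.subset_span ⟨i.succ, rfl⟩))
      exact fun z hz => hle hz
    let j : S →ₐ[A] (MvPolynomial (Fin (r + 1)) A ⧸ I) := Ideal.Quotient.liftₐ I₀ j₀ hj
    have hroot : Polynomial.eval₂ (j : S →+* _) (Ideal.Quotient.mk I (MvPolynomial.X 0)) G = 0 := by
      rw [Polynomial.eval₂_map, j.comp_algebraMap,
        ← Polynomial.aeval_def, show Ideal.Quotient.mk I (MvPolynomial.X 0) = Ideal.Quotient.mkₐ A I (MvPolynomial.X 0) from rfl,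
        Polynomial.aeval_algHom_apply]
      exact Ideal.Quotient.eq_zero_iff_mem.2 (Ideal.subset_span ⟨0, rfl⟩)
    let ψ : T →ₐ[A] (MvPolynomial (Fin (r + 1)) A ⧸ I) := AdjoinRoot.liftAlgHom G j _ hroot
    have h1 : ψ.comp φ = AlgHom.id A _ := by
      refine Ideal.Quotient.algHom_ext A ?_
      refine MvPolynomial.algHom_ext fun i => ?_
      show ψ (φ₀ (MvPolynomial.X i)) = Ideal.Quotient.mk I (MvPolynomial.X i)
      simp only [φ₀, MvPolynomial.aeval_X]
      cases i using Fin.cases with
      | zero => exact AdjoinRoot.liftAlgHom_root G j (Ideal.Quotient.mk I (MvPolynomial.X 0)) hroot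
      | succ i =>
        simp only [Fin.cases_succ]
        show ψ (AdjoinRoot.of G (Ideal.Quotient.mk I₀ (MvPolynomial.X i))) = _
        rw [AdjoinRoot.liftAlgHom_of]
        show j₀ (MvPolynomial.X i) = _
        simp [j₀]
    have h2 : φ.comp ψ = AlgHom.id A T := by
      refine AdjoinRoot.algHom_ext' ?_ ?_
      · refine Ideal.Quotient.algHom_ext A ?_
        refine MvPolynomial.algHom_ext fun i => ?_
        show φ (ψ (AdjoinRoot.of G (Ideal.Quotient.mk I₀ (MvPolynomial.X i)))) =
          AdjoinRoot.of G (Ideal.Quotient.mk I₀ (MvPolynomial.X i))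
        rw [AdjoinRoot.liftAlgHom_of]
        show φ (j₀ (MvPolynomial.X i)) = _
        simp only [j₀, MvPolynomial.aeval_X]
        show φ₀ (MvPolynomial.X i.succ) = _
        simp only [φ₀, MvPolynomial.aeval_X, Fin.cases_succ]; rfl
      · show φ (ψ (AdjoinRoot.root G)) = AdjoinRoot.root G
        rw [show ψ (AdjoinRoot.root G) = Ideal.Quotient.mk I (MvPolynomial.X 0) from AdjoinRoot.liftAlgHom_root ..]
        show φ₀ (MvPolynomial.X 0) = _
        simp [φ₀]
    let e : (MvPolynomial (Fin (r + 1)) A ⧸ I) ≃ₐ[A] T := AlgEquiv.ofAlgHom φ ψ h2 h1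
    let b := (Module.Free.chooseBasis A S).smulTower (AdjoinRoot.powerBasis' hG).basis
    haveI : Module.Free A T := Module.Free.of_basis b
    refine ⟨Module.Free.of_equiv e.toLinearEquiv.symm, ?_⟩
    rcases subsingleton_or_nontrivial S with hS | hS
    · have hz : Module.finrank A S = 0 := Module.finrank_zero_of_subsingleton
      haveI : Subsingleton T := Module.subsingleton S T
      rw [e.toLinearEquiv.finrank_eq, Module.finrank_zero_of_subsingleton, Fin.prod_univ_succ, ← hrank, hz, mul_zero]
    rw [e.toLinearEquiv.finrank_eq, Module.finrank_eq_nat_card_basis b, Fin.prod_univ_succ, ← hrank,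
      Nat.card_prod, ← Module.finrank_eq_nat_card_basis (Module.Free.chooseBasis A S),
      ← Module.finrank_eq_nat_card_basis (AdjoinRoot.powerBasis' hG).basis, (AdjoinRoot.powerBasis' hG).finrank,
      AdjoinRoot.powerBasis'_dim, (hF 0).natDegree_map]
    exact mul_comm _ _

end Groth.Agent.S4610
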