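import Mathlib
import Groth.Agent.AdicEasyLib.Basic
import Groth.Statements.S4611

set_option autoImplicit false
universe u
open EGA41

namespace Groth.Agent.S4611

/-- A local algebra essentially of finite type over a ring A is A-isomorphic to a quotient of a
localization A[T_1, …, T_n]_q of a polynomial algebra at a prime ideal q; stated as the existence of
a surjective A-algebra map from such a localization. -/
theorem result {A B : Type u} [CommRing A]
    [CommRing B] [IsLocalRing B] [Algebra A B] [Algebra.EssFiniteType A B] :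
    ∃ (n : ℕ) (q : Ideal (MvPolynomial (Fin n) A)) (_ : q.IsPrime)
      (φ : Localization.AtPrime q →ₐ[A] B), Function.Surjective φ := by
  obtain ⟨n, π, hπ⟩ := Algebra.FiniteType.iff_quotient_mvPolynomial''.1
    (inferInstance : Algebra.FiniteType A (Algebra.EssFiniteType.subalgebra A B))
  let g : MvPolynomial (Fin n) A →ₐ[A] B := (Algebra.EssFiniteType.subalgebra A B).val.comp π
  let q : Ideal (MvPolynomial (Fin n) A) := (IsLocalRing.maximalIdeal B).comap g.toRingHom
  haveI hq : q.IsPrime := Ideal.comap_isPrime _ _
  have hu : ∀ y : q.primeCompl, IsUnit (g y) := fun y => by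
    by_contra h
    exact y.2 (show g y ∈ IsLocalRing.maximalIdeal B from h)
  refine ⟨n, q, hq, IsLocalization.liftAlgHom (M := q.primeCompl) (f := g) hu, fun b => ?_⟩
  obtain ⟨⟨s, t⟩, hst⟩ := IsLocalization.surj (Algebra.EssFiniteType.submonoid A B) b
  obtain ⟨s', hs'⟩ := hπ s
  obtain ⟨t', ht'⟩ := hπ t
  have ht : IsUnit (g t') := by
    rw [show g t' = (π t' : B) from rfl, ht']; exact t.2
  have htq : t' ∈ q.primeCompl := fun h => (IsLocalRing.mem_maximalIdeal _).1 h ht
  refine ⟨IsLocalization.mk' _ s' ⟨t', htq⟩, ?_⟩
  rw [IsLocalization.coe_liftAlgHom, IsLocalization.lift_mk'_spec]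
  show (π s' : B) = (π t' : B) * b
  rw [hs', ht', mul_comm]
  exact hst.symm

end Groth.Agent.S4611
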