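import Groth.Statements.S4616
import Groth.Agent.S4571
import Groth.Agent.PBasisLib.Fields
-- import your own Groth.Agent.* helpers here

set_option autoImplicit false
universe u
open TensorProduct KaehlerDifferential IsLocalRing
open EGA41

namespace Groth.Agent.S4616

open scoped Classical in
theorem exists_forall_relation_trivial {k : Type u} [Field k] {ι : Type u} [Preorder ι] [IsDirected ι (· ≤ ·)]
    [Nonempty ι] (L : ι → Subfield k) (hL : Antitone L) {E : Type*} (v : E → k) (s : Finset E)
    (h : ∀ c : E → k, (∀ e ∈ s, ∀ α, c e ∈ L α) → ∑ e ∈ s, c e * v e = 0 → ∀ e ∈ s, c e = 0) :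
    ∃ α, ∀ c : E → k, (∀ e ∈ s, c e ∈ L α) → ∑ e ∈ s, c e * v e = 0 → ∀ e ∈ s, c e = 0 := by
  induction s using Finset.induction_on with
  | empty => exact ⟨Classical.arbitrary ι, fun c _ _ e he => absurd he (Finset.notMem_empty e)⟩
  | insert a t ha ih =>
    obtain ⟨α₀, hα₀⟩ := ih fun c hc hsum e he => by
      have hne : ∀ e ∈ t, e ≠ a := fun e he h => ha (h ▸ he)
      have := h (Function.update c a 0) (fun e he α => by
          rcases Finset.mem_insert.1 he with rfl | he
          · rw [Function.update_self]; exact zero_mem _
          · rw [Function.update_of_ne (hne e he)]; exact hc e he α)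
        (by rw [Finset.sum_insert ha, Function.update_self, zero_mul, zero_add, ← hsum]
            exact Finset.sum_congr rfl fun e he => by rw [Function.update_of_ne (hne e he)]) e
        (Finset.mem_insert_of_mem he)
      rwa [Function.update_of_ne (hne e he)] at this
    by_contra hcon
    push Not at hcon
    have hd : ∀ α, α₀ ≤ α → ∃ d : E → k, (∀ e ∈ t, d e ∈ L α) ∧ ∑ e ∈ t, d e * v e = v a := by
      intro α hα
      obtain ⟨c, hc, hsum, e, he, hce⟩ := hcon α
      rw [Finset.sum_insert ha] at hsum
      have hca : c a ≠ 0 := fun h0 => by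
        rw [h0, zero_mul, zero_add] at hsum
        rcases Finset.mem_insert.1 he with rfl | he
        · exact hce h0
        · exact hce (hα₀ c (fun e he => hL hα (hc e (Finset.mem_insert_of_mem he))) hsum e he)
      refine ⟨fun e => -(c e) / c a, fun e he => div_mem (neg_mem (hc e (Finset.mem_insert_of_mem he)))
        (hc a (Finset.mem_insert_self a t)), ?_⟩
      have h1 : ∑ e ∈ t, -c e / c a * v e = -(∑ e ∈ t, c e * v e) / c a := by
        rw [← Finset.sum_neg_distrib, Finset.sum_div]; exact Finset.sum_congr rfl fun e _ => by ring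
      rw [h1, eq_neg_of_add_eq_zero_right hsum, neg_neg]
      field_simp
    obtain ⟨d, hd₀, hdsum⟩ := hd α₀ le_rfl
    have hdL : ∀ e ∈ t, ∀ β, d e ∈ L β := by
      intro e he β
      obtain ⟨γ, hγ₀, hγβ⟩ := exists_ge_ge α₀ β
      obtain ⟨d', hd', hd'sum⟩ := hd γ hγ₀
      have := hα₀ (fun e => d e - d' e) (fun e he => sub_mem (hd₀ e he) (hL hγ₀ (hd' e he)))
        (by simp only [sub_mul]; rw [Finset.sum_sub_distrib, hdsum, hd'sum, sub_self]) e he
      rw [sub_eq_zero.1 this]
      exact hL hγβ (hd' e he)
    have := h (Function.update d a (-1)) (fun e he α => by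
        rcases Finset.mem_insert.1 he with rfl | he
        · rw [Function.update_self]; exact neg_mem (one_mem _)
        · rw [Function.update_of_ne (fun h' : e = a => ha (h' ▸ he))]; exact hdL e he α)
      (by rw [Finset.sum_insert ha, Function.update_self, Finset.sum_congr rfl fun e he => by
            rw [Function.update_of_ne (fun h' : e = a => ha (h' ▸ he))], hdsum]; ring) a (Finset.mem_insert_self a t)
    rw [Function.update_self] at this
    exact one_ne_zero (neg_eq_zero.1 this)

theorem exists_linearIndependent_D {k : Type u} [Field k] (p : ℕ) [Fact p.Prime] [CharP k p]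
    {ι : Type u} [Preorder ι] [IsDirected ι (fun a b => a ≤ b)] [Nonempty ι] (kα : ι → Subfield k)
    (hanti : Antitone kα) (hint : ⨅ α, (kα α ⊔ (frobenius k p).fieldRange) = (frobenius k p).fieldRange)
    {σ : Type u} [Finite σ] (b : σ → k) (hb : LinearIndependent k fun i => D ℤ k (b i)) :
    ∃ α, ∀ β, α ≤ β → LinearIndependent k fun i => D (kα β) k (b i) := by
  classical
  let k0 := (⊥ : Subfield k)
  have hb0 : LinearIndependent k fun i => D k0 k (b i) := by
    have := hb.map' (KaehlerDifferential.map ℤ k0 k k) (LinearMap.ker_eq_bot.2 (Groth.Agent.S4571.map_bijective k k).1)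
    simpa [Function.comp_def, map_D] using this
  have hind0 : EGA41.IsPIndependent p k0 b := Groth.Agent.PBasisLib.pIndependent_of_linearIndependent_D p b hb0
  let E := {e : σ →₀ ℕ // ∀ i, e i < p}
  haveI : Finite E := Finite.of_injective (fun e : E => fun i => (⟨e.1 i, e.2 i⟩ : Fin p)) fun e e' h =>
    Subtype.ext (Finsupp.ext fun i => congrArg Fin.val (congrFun h i))
  letI := Fintype.ofFinite E
  let L := fun α => kα α ⊔ (frobenius k p).fieldRange
  obtain ⟨α, hα⟩ := exists_forall_relation_trivial L (fun a b hab => sup_le_sup_right (hanti hab) _)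
    (fun e : E => EGA41.pMonomial b e.1) Finset.univ (fun c hc hsum e _ => by
      have hmem : ∀ e, c e ∈ EGA41.pPowerSubalgebra p k0 k := fun e => by
        have h1 : c e ∈ ⨅ α, L α := Subfield.mem_iInf.2 fun α => hc e (Finset.mem_univ e) α
        rw [hint] at h1
        obtain ⟨y, hy⟩ := h1
        rw [← hy, frobenius_def]
        exact Algebra.subset_adjoin ⟨y, rfl⟩
      exact congrArg Subtype.val (linearIndependent_iff'.1 hind0 Finset.univ (fun e => ⟨c e, hmem e⟩) hsum e
        (Finset.mem_univ e)))
  refine ⟨α, fun β hβ => Groth.Agent.PBasisLib.linearIndependent_D_of_pIndependent p b ?_⟩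
  refine linearIndependent_iff'.2 fun S c hc e he => Subtype.ext ?_
  have hle : ∀ x ∈ EGA41.pPowerSubalgebra p (kα β) k, x ∈ L α := fun x hx => by
    induction hx using Algebra.adjoin_induction with
    | mem z hz => obtain ⟨y, rfl⟩ := hz; exact (le_sup_right : _ ≤ L α) ⟨y, frobenius_def ..⟩
    | algebraMap a => exact (le_sup_left : kα α ≤ L α) (hanti hβ a.2)
    | add a b _ _ ha hb => exact add_mem ha hb
    | mul a b _ _ ha hb => exact mul_mem ha hb
  have := hα (fun e => if e ∈ S then (c e : k) else 0) (fun e _ => by
      show (if e ∈ S then (c e : k) else 0) ∈ _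
      split_ifs
      · exact hle _ (c e).2
      · exact zero_mem _)
    (by refine Eq.trans ?_ hc
        simp only [ite_mul, zero_mul, Finset.sum_ite_mem, Finset.univ_inter]
        exact Finset.sum_congr rfl fun e _ => rfl) e (Finset.mem_univ e)
  rwa [if_pos he] at this

theorem eventually_iff {k A : Type u} [Field k] (p : ℕ) [Fact p.Prime] [CharP k p] [CommRing A] [IsLocalRing A]
    [Algebra k A] {ι : Type u} [Preorder ι] [IsDirected ι (fun a b => a ≤ b)] [Nonempty ι] (kα : ι → Subfield k)
    (hanti : Antitone kα) (hint : ⨅ α, (kα α ⊔ (frobenius k p).fieldRange) = (frobenius k p).fieldRange) :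
    Function.Injective ((mapBaseChange ℤ k A).lTensor (ResidueField A)) ↔
      ∃ α₀ : ι, ∀ α : ι, α₀ ≤ α → Function.Injective ((mapBaseChange (kα α) k A).lTensor (ResidueField A)) := by
  classical
  let K := ResidueField A
  let Φ := (mapBaseChange ℤ k A).baseChange K
  let Φα := fun α => (mapBaseChange (kα α) k A).baseChange K
  let πk := fun α => ((KaehlerDifferential.map ℤ (kα α) k k).baseChange A).baseChange K
  let πA := fun α => (KaehlerDifferential.map ℤ (kα α) A A).baseChange K
  have hsq : ∀ α z, Φα α (πk α z) = πA α (Φ z) := by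
    intro α z
    have h0 : ∀ y, mapBaseChange (kα α) k A ((KaehlerDifferential.map ℤ (kα α) k k).baseChange A y) =
        KaehlerDifferential.map ℤ (kα α) A A (mapBaseChange ℤ k A y) := by
      intro y
      induction y using TensorProduct.induction_on with
      | zero => simp
      | add a b ha hb => simp only [map_add, ha, hb]
      | tmul a ω =>
        rw [LinearMap.baseChange_tmul, mapBaseChange_tmul, mapBaseChange_tmul, map_smul]
        congr 1
        have hω : ω ∈ Submodule.span k (Set.range (D ℤ k)) := by rw [span_range_derivation]; trivial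
        induction hω using Submodule.span_induction with
        | mem z hz => obtain ⟨x, rfl⟩ := hz; simp [map_D]
        | zero => simp
        | add a b _ _ ha hb => simp only [map_add, ha, hb]
        | smul r z _ hz => rw [map_smul, map_smul, map_smul, hz, LinearMap.map_smul_of_tower]
    induction z using TensorProduct.induction_on with
    | zero => simp
    | add a b ha hb => simp only [map_add, ha, hb]
    | tmul c y =>
      show c ⊗ₜ[A] _ = c ⊗ₜ[A] _
      rw [h0]
  constructor
  · intro hinj
    refine ⟨Classical.arbitrary ι, fun α _ => ?_⟩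
    show Function.Injective (Φα α)
    rw [injective_iff_map_eq_zero]
    intro x hx
    obtain ⟨y, rfl⟩ : ∃ y, πk α y = x :=
      LinearMap.lTensor_surjective (R := A) K (g := (KaehlerDifferential.map ℤ (kα α) k k).baseChange A)
        (LinearMap.lTensor_surjective A (map_surjective ℤ (kα α) k)) x
    rw [hsq] at hx
    have hexA := lTensor_exact K (exact_mapBaseChange_map ℤ (kα α) A) (map_surjective ℤ (kα α) A)
    have hΦy : Φ y ∈ Submodule.map Φ (LinearMap.ker (πk α)) := by
      obtain ⟨w, hw⟩ := (hexA (Φ y)).1 hx
      rw [← hw]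
      clear hw
      induction w using TensorProduct.induction_on with
      | zero => rw [map_zero]; exact zero_mem _
      | add a b ha hb => rw [map_add]; exact add_mem ha hb
      | tmul c z =>
        induction z using TensorProduct.induction_on with
        | zero => rw [TensorProduct.tmul_zero, map_zero]; exact zero_mem _
        | add a b ha hb => rw [TensorProduct.tmul_add, map_add]; exact add_mem ha hb
        | tmul a ω =>
          have hω : ω ∈ Submodule.span (kα α) (Set.range (D ℤ (kα α))) := by rw [span_range_derivation]; trivial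
          induction hω using Submodule.span_induction with
          | mem z hz =>
            obtain ⟨x, rfl⟩ := hz
            refine ⟨c ⊗ₜ[A] (a ⊗ₜ[k] D ℤ k (x : k)), ?_, ?_⟩
            · show c ⊗ₜ[A] (a ⊗ₜ[k] KaehlerDifferential.map ℤ (kα α) k k (D ℤ k (algebraMap (kα α) k x))) = 0
              rw [map_D, Algebra.algebraMap_self, RingHom.id_apply, Derivation.map_algebraMap, TensorProduct.tmul_zero,
                TensorProduct.tmul_zero]
            · simp only [Φ, LinearMap.baseChange_tmul, LinearMap.lTensor_tmul, mapBaseChange_tmul, map_D]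
              rfl
          | zero => rw [TensorProduct.tmul_zero, TensorProduct.tmul_zero, map_zero]; exact zero_mem _
          | add z z' _ _ hz hz' => rw [TensorProduct.tmul_add, TensorProduct.tmul_add, map_add]; exact add_mem hz hz'
          | smul r z _ hz =>
            rw [show a ⊗ₜ[kα α] (r • z) = (algebraMap (kα α) A r) • (a ⊗ₜ[kα α] z) by
              rw [TensorProduct.smul_tmul', algebraMap_smul, TensorProduct.smul_tmul], TensorProduct.tmul_smul, map_smul]
            exact Submodule.smul_of_tower_mem _ _ hz
    obtain ⟨w, hw, hwy⟩ := hΦy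
    rw [← hinj hwy]
    exact hw
  · rintro ⟨α₀, hα₀⟩
    show Function.Injective Φ
    rw [injective_iff_map_eq_zero]
    intro y hy
    obtain ⟨s, hs, hsspan, hli⟩ := exists_linearIndependent k (Set.range (D ℤ k : k → Ω[k⁄ℤ]))
    rw [span_range_derivation] at hsspan
    choose b hb using fun x : s => hs x.2
    let B0 : Module.Basis s k Ω[k⁄ℤ] := Module.Basis.mk hli (by rw [Subtype.range_coe_subtype, Set.setOf_mem_eq, hsspan])
    let B1 := (B0.baseChange A).baseChange K
    let S := (B1.repr y).support
    obtain ⟨α₁, hα₁⟩ := exists_linearIndependent_D p kα hanti hint (fun x : S => b x.1) (by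
      simp only [hb]; exact hli.comp _ Subtype.val_injective)
    obtain ⟨α, hα0, hα1⟩ := exists_ge_ge α₀ α₁
    have hz : πk α y = 0 := by
      refine (injective_iff_map_eq_zero (Φα α)).1 (hα₀ α hα0) _ ?_
      rw [hsq, hy, map_zero]
    have hliK : LinearIndependent K fun x : S => πk α (B1 x.1) := by
      let can := TensorProduct.AlgebraTensorModule.cancelBaseChange k A K K Ω[k⁄(kα α)]
      refine LinearIndependent.of_comp can.toLinearMap ?_
      convert Module.Flat.linearIndependent_one_tmul (S := K) (hα₁ α hα1) using 1
      funext x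
      simp only [Function.comp_apply, LinearEquiv.coe_coe, πk, B1, Module.Basis.baseChange_apply, LinearMap.baseChange_tmul,
        can, TensorProduct.AlgebraTensorModule.cancelBaseChange_tmul, one_smul]
      rw [show B0 x.1 = (x.1 : Ω[k⁄ℤ]) from Module.Basis.mk_apply _ _ _, ← hb x.1, map_D]
      rfl
    rw [← B1.linearCombination_repr y, Finsupp.linearCombination_apply, Finsupp.sum, map_sum] at hz
    simp only [map_smul] at hz
    rw [← Finset.sum_coe_sort] at hz
    have h0 := Fintype.linearIndependent_iff.1 hliK (fun x => B1.repr y x.1) hz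
    rw [← B1.linearCombination_repr y]
    have : B1.repr y = 0 := Finsupp.ext fun x => by
      by_cases hx : x ∈ S
      · exact h0 ⟨x, hx⟩
      · exact Finsupp.notMem_support_iff.1 hx
    rw [this, map_zero]

/-- Let k be a field of characteristic p > 0, A a local k-algebra with maximal ideal m and residue field
K, (k_α) a decreasing directed family of subfields of k with ⋂ k_α(k^p) = k^p. Then A is formally
smooth over k for the m-adic topology if and only if the maps Sym^n_K(m/m²) → m^n/m^(n+1) are
bijective (n ≥ 1) and, for all large α, Ω_{k/k_α} ⊗_k K → Ω_{A/k_α} ⊗_A K is injective. -/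
theorem result {k A : Type u}
    [Field k] (p : ℕ) [Fact p.Prime] [CharP k p] [CommRing A] [IsLocalRing A] [Algebra k A]
    {ι : Type u} [Preorder ι] [IsDirected ι (fun a b => a ≤ b)] [Nonempty ι] (kα : ι → Subfield k)
    (hanti : Antitone kα) (hint : ⨅ α, (kα α ⊔ (frobenius k p).fieldRange) = (frobenius k p).fieldRange) :
    CAlgX.IsAdicFormallySmooth k A (maximalIdeal A) ↔
      (PP16.SymGrBijective A (maximalIdeal A) ∧ ∃ α₀ : ι, ∀ α : ι, α₀ ≤ α →
        Function.Injective ((mapBaseChange (kα α) k A).lTensor (ResidueField A))) := by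
  rw [Groth.Agent.S4571.result, eventually_iff p kα hanti hint]

end Groth.Agent.S4616
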