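import Groth.Statements.S4622
import Groth.Agent.UnivHomeo.Basic

set_option autoImplicit false
open CategoryTheory AlgebraicGeometry
universe u
open FBase

namespace Groth.Agent.S4622

open CategoryTheory.Limits

theorem isUnivHomeo_purelyInsep (k K : Type u) [Field k] [Field K] [Algebra k K]
    [IsPurelyInseparable k K] :
    FlatMor.IsUnivHomeo (Spec.map (CommRingCat.ofHom (algebraMap k K))) := by
  set g := Spec.map (CommRingCat.ofHom (algebraMap k K)) with hg
  haveI : IsIntegralHom g := by
    rw [hg, IsIntegralHom.SpecMap_iff]
    exact algebraMap_isIntegral_iff.mpr inferInstance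
  haveI : Surjective g := ⟨fun y => by
    haveI : Subsingleton (Spec (CommRingCat.of k)) := inferInstanceAs (Subsingleton (PrimeSpectrum k))
    exact ⟨default, Subsingleton.elim _ _⟩⟩
  haveI : UniversallyInjective g := by
    rw [UniversallyInjective.iff_diagonal]
    constructor
    intro z
    refine ⟨(pullback.fst g g).base z, ?_⟩
    have hinj : Function.Injective (pullback.fst g g).base := by
      have h := (PrimeSpectrum.isHomeomorph_comap_of_isPurelyInseparable k K K).injective
      have he : pullback.fst g g = (pullbackSpecIso k K K).hom ≫
          Spec.map (CommRingCat.ofHom Algebra.TensorProduct.includeLeftRingHom) := by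
        rw [← pullbackSpecIso_inv_fst k K K, Iso.hom_inv_id_assoc]
      rw [he]
      intro a b hab
      simp only [Scheme.Hom.comp_base, TopCat.hom_comp, ContinuousMap.comp_apply] at hab
      exact (pullbackSpecIso k K K).hom.homeomorph.injective (h hab)
    apply hinj
    rw [← Scheme.Hom.comp_apply, pullback.diagonal_fst]
    rfl
  exact Groth.Agent.UnivHomeo.of_isIntegralHom g


/-- Let k be a separably closed field, k' an algebraic closure of k and X a scheme over k. Then the
projection X ⊗_k k' → X is a universal homeomorphism. -/
theorem result {k k' : Type u} [Field k] [IsSepClosed k] [Field k'] [Algebra k k']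
    [IsAlgClosure k k'] {X : Scheme.{u}} (f : X ⟶ Spec (CommRingCat.of k)) :
    FlatMor.IsUnivHomeo (FBase.bcπ f k') := by
  haveI : IsPurelyInseparable k k' := inferInstance
  haveI : FlatMor.IsUnivHomeo.{u}.IsStableUnderBaseChange := MorphismProperty.universally_isStableUnderBaseChange _
  exact MorphismProperty.of_isPullback
    (IsPullback.of_hasPullback f (Spec.map (CommRingCat.ofHom (algebraMap k k')))).flip
    (isUnivHomeo_purelyInsep k k')

end Groth.Agent.S4622
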