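import Groth.Statements.S4626
import Groth.Agent.GeomRedDesc.Basic
-- import your own Groth.Agent.* helpers here

set_option autoImplicit false
open CategoryTheory AlgebraicGeometry
universe u
open FBase

namespace Groth.Agent.S4626

/-- Let X be a scheme over a field k and K an extension field of k. Then X is geometrically reduced over
k if and only if X ⊗_k K, with its structure of K-scheme, is geometrically reduced over K. -/
theorem result {k K : Type u} [Field k] [Field K] [Algebra k K]
    {X : Scheme.{u}} (f : X ⟶ Spec (CommRingCat.of k)) :
    GeometricallyReduced f ↔ GeometricallyReduced (FBase.bcStr f K) := by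
  haveI := Groth.Agent.GeomIrred.surjective_specMap_field k K
  constructor
  · intro h
    haveI := h
    show GeometricallyReduced (Limits.pullback.snd f (Spec.map (CommRingCat.ofHom (algebraMap k K))))
    infer_instance
  · intro h
    haveI : GeometricallyReduced (Limits.pullback.snd f (Spec.map (CommRingCat.ofHom (algebraMap k K)))) := h
    exact Groth.Agent.GeomRedDesc.geometricallyReduced_of_surjective f (Spec.map (CommRingCat.ofHom (algebraMap k K)))

end Groth.Agent.S4626
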