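import Groth.Statements.S4629
import Groth.Agent.AVLib.IdSub
import Groth.Agent.GeomRedDesc.Basic
import Groth.Agent.FinGrpdLib.Perfect

set_option autoImplicit false
open CategoryTheory AlgebraicGeometry
universe u
open FBase

namespace Groth.Agent.S4629

open CategoryTheory.Limits in
/-- If X and Y are schemes over a field k which are both geometrically reduced over k, then X ×_k Y is
geometrically reduced over k. -/
theorem result {k : Type u} [Field k] {X Y : Scheme.{u}}
    (f : X ⟶ Spec (CommRingCat.of k)) (g : Y ⟶ Spec (CommRingCat.of k)) [GeometricallyReduced f]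
    [GeometricallyReduced g] : GeometricallyReduced (pullback.fst f g ≫ f) := by
  let K := AlgebraicClosure k
  let y := Spec.map (CommRingCat.ofHom (algebraMap k K))
  haveI : IsReduced (pullback f y) := GeometricallyReduced.geometrically_isReduced (f := f) y _ _ (.of_hasPullback f y)
  haveI : IsReduced (pullback g y) := GeometricallyReduced.geometrically_isReduced (f := g) y _ _ (.of_hasPullback g y)
  haveI : IsReduced (pullback y g) := isReduced_of_isOpenImmersion (pullbackSymmetry y g).hom
  haveI := Groth.Agent.FinGrpdLib.isReduced_pullback (Iso.refl (Spec (CommRingCat.of K))) (pullback.snd f y) (pullback.fst y g)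
  let e : pullback (pullback.fst f g ≫ f) y ≅ pullback (pullback.snd f y) (pullback.fst y g) :=
    (pullbackRightPullbackFstIso f y (pullback.fst f g)).symm ≪≫ pullbackSymmetry _ _ ≪≫
      pullbackRightPullbackFstIso f g (pullback.fst f y) ≪≫ pullback.congrHom pullback.condition rfl ≪≫
      (pullbackRightPullbackFstIso y g (pullback.snd f y)).symm
  haveI : IsReduced (pullback (pullback.fst f g ≫ f) y) := isReduced_of_isOpenImmersion e.hom
  haveI := Groth.Agent.AVLib.geometricallyReduced_of_perfect (pullback.snd (pullback.fst f g ≫ f) y)
  exact Groth.Agent.GeomRedDesc.geometricallyReduced_of_surjective _ y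

end Groth.Agent.S4629
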