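import Groth.Statements.S4630
import Groth.Agent.GenIrredLib.PtIntegral
-- import your own Groth.Agent.* helpers here

set_option autoImplicit false
open CategoryTheory AlgebraicGeometry
universe u
open FBase

namespace Groth.Agent.S4630

/-- Let X be a scheme over a field k, k' an extension field of k, and x' a point of X' = X ⊗_k k' lying
over the point x of X. Then X is geometrically pointwise integral at x over k if and only if X' is
geometrically pointwise integral at x' over k'. -/
theorem result {k K : Type u} [Field k] [Field K] [Algebra k K]
    {X : Scheme.{u}} (f : X ⟶ Spec (CommRingCat.of k)) (x' : ↥(FBase.bc f K)) :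
    FBase.IsGeomPtIntegralAt f ((FBase.bcπ f K) x') ↔ FBase.IsGeomPtIntegralAt (FBase.bcStr f K) x' := by
  exact ⟨fun h => GenIrredLib.isGeomPtIntegralAt_baseChange (CategoryTheory.IsPullback.of_hasPullback f _) x' h,
    fun h => GenIrredLib.isGeomPtIntegralAt_of_isPullback (CategoryTheory.IsPullback.of_hasPullback f _) x' h⟩

end Groth.Agent.S4630
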