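import Groth.Statements.S4631
import Groth.Agent.GeomRedPtLib.Basic
import Groth.Agent.GeomIrred.Ring

set_option autoImplicit false
open CategoryTheory AlgebraicGeometry
universe u
open FBase

namespace Groth.Agent.S4631

open CategoryTheory.Limits TensorProduct
attribute [local instance] Curv2.stalkAlgebra
set_option backward.isDefEq.respectTransparency false

theorem isDomain_tensor {k A : Type u} [Field k] [IsAlgClosed k] [CommRing A] [Algebra k A] [IsDomain A]
    (K : Type u) [Field K] [Algebra k K] : IsDomain (A ⊗[k] K) := by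
  let e : AlgebraicClosure k ≃ₐ[k] k :=
    (AlgEquiv.ofBijective (Algebra.ofId k (AlgebraicClosure k)) (IsAlgClosed.algebraMap_bijective_of_isIntegral)).symm
  haveI : IsDomain (AlgebraicClosure k ⊗[k] A) :=
    ((Algebra.TensorProduct.congr e AlgEquiv.refl).trans (Algebra.TensorProduct.lid k A)).toMulEquiv.isDomain _
  haveI := Groth.Agent.GeomIrred.isDomain_tensor_of_algebraicClosure ‹_› K
  exact (Algebra.TensorProduct.comm k A K).toMulEquiv.isDomain _

theorem isDomain_stalk_bc {k : Type u} [Field k] [IsAlgClosed k] {X : Scheme.{u}} [X.Over (Spec (CommRingCat.of k))]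
    (K : Type u) [Field K] [Algebra k K] (x : X) [IsDomain (X.presheaf.stalk x)]
    (x' : Curv2.bc k X K) (hx : Curv2.bcFst k X K x' = x) :
    IsDomain ((Curv2.bc k X K).presheaf.stalk x') := by
  obtain ⟨q, hq⟩ : Curv2.bcFst k X K x' ∈ Set.range (X.fromSpecStalk x) := by
    rw [Scheme.range_fromSpecStalk]
    exact specializes_of_eq hx
  obtain ⟨p, hp, -⟩ := Scheme.exists_preimage_of_isPullback (Groth.Agent.GeomRedPtLib.isPullback_tensorPt K x) x' q hq.symm
  subst hp
  haveI := isDomain_tensor (A := X.presheaf.stalk x) (k := k) K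
  let t := Groth.Agent.GeomRedPtLib.tensorPt k X K x
  haveI : IsDomain ((Spec (CommRingCat.of (X.presheaf.stalk x ⊗[k] K))).presheaf.stalk p) := by
    letI : Algebra (X.presheaf.stalk x ⊗[k] K) ((Spec (CommRingCat.of (X.presheaf.stalk x ⊗[k] K))).presheaf.stalk p) :=
      StructureSheaf.stalkAlgebra _ p
    haveI : IsLocalization.AtPrime ((Spec (CommRingCat.of (X.presheaf.stalk x ⊗[k] K))).presheaf.stalk p) p.asIdeal :=
      StructureSheaf.IsLocalization.to_stalk (CommRingCat.of (X.presheaf.stalk x ⊗[k] K)) p
    exact IsLocalization.isDomain_of_le_nonZeroDivisors (R := X.presheaf.stalk x ⊗[k] K)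
      (M := p.asIdeal.primeCompl) _ (Ideal.primeCompl_le_nonZeroDivisors p.asIdeal)
  have hi : Function.Injective (t.stalkMap p).hom := by
    algebraize [(t.stalkMap p).hom]
    haveI : IsLocalHom (algebraMap ((Curv2.bc k X K).presheaf.stalk (t p))
        ((Spec (CommRingCat.of (X.presheaf.stalk x ⊗[k] K))).presheaf.stalk p)) := t.toLRSHom.prop p
    haveI : Module.Flat ((Curv2.bc k X K).presheaf.stalk (t p))
        ((Spec (CommRingCat.of (X.presheaf.stalk x ⊗[k] K))).presheaf.stalk p) := Flat.stalkMap t p
    haveI := Module.FaithfullyFlat.of_flat_of_isLocalHom (A := (Curv2.bc k X K).presheaf.stalk (t p))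
      (B := (Spec (CommRingCat.of (X.presheaf.stalk x ⊗[k] K))).presheaf.stalk p)
    exact FaithfulSMul.algebraMap_injective _ _
  exact hi.isDomain (t.stalkMap p).hom


/-- Let X be a scheme over an algebraically closed field k and x a point of X. Then X is geometrically
pointwise integral at x over k if and only if the local ring of X at x is a domain. -/
theorem result {k : Type u} [Field k] [IsAlgClosed k] {X : Scheme.{u}}
    (f : X ⟶ Spec (CommRingCat.of k)) (x : X) :
    FBase.IsGeomPtIntegralAt f x ↔ IsDomain ↑(X.presheaf.stalk x) := by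
  letI : X.Over (Spec (CommRingCat.of k)) := ⟨f⟩
  constructor
  · intro h
    let g := Spec.map (CommRingCat.ofHom (algebraMap k k))
    haveI : IsIso g := by
      have : CommRingCat.ofHom (algebraMap k k) = 𝟙 (CommRingCat.of k) := rfl
      show IsIso (Spec.map _)
      rw [this]
      infer_instance
    haveI : IsIso (FBase.bcπ f k) := inferInstanceAs (IsIso (CategoryTheory.Limits.pullback.fst f g))
    obtain ⟨x', rfl⟩ := (FBase.bcπ f k).homeomorph.surjective x
    haveI := h k x' rfl
    exact (asIso ((FBase.bcπ f k).stalkMap x')).commRingCatIsoToRingEquiv.toMulEquiv.isDomain _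
  · intro _ K _ _ x' hx'
    exact isDomain_stalk_bc K x x' hx'

end Groth.Agent.S4631
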