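import Groth.Statements.S4632
import Groth.Agent.QuasiFlatLib.Basic
import Groth.Agent.FlatLocus.ImageClosure
import Groth.Agent.GenPtLib.Basic

set_option autoImplicit false
open CategoryTheory AlgebraicGeometry
universe u
open FDesc

namespace Groth.Agent.S4632

open CategoryTheory.Limits in
/-- Let f : X → Y be a quasi-compact dominant morphism and g : Y' → Y a quasi-flat morphism (for
instance a flat one). Then the base change X ×_Y Y' → Y' is dominant. -/
theorem result {X Y Y' : Scheme.{u}} (f : X ⟶ Y) (g : Y' ⟶ Y)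
    [QuasiCompact f] [IsDominant f] (hg : FDesc.IsQuasiFlat g) : IsDominant (pullback.snd f g) := by
  rw [isDominant_iff]
  intro y'
  obtain ⟨ξ, hξy, hmax⟩ := GenPtLib.exists_maximal y'
  refine hξy.mem_closed isClosed_closure (subset_closure ?_)
  have hg' := QuasiFlatLib.generalizingMap g hg
  obtain ⟨z, ⟨x, -, rfl⟩, hz⟩ : ∃ z ∈ ⇑f '' Set.univ, z ⤳ g ξ := by
    obtain ⟨x, -, hx⟩ := FlatLocus.exists_specializes_of_mem_closure_image f isClosed_univ
      (y := g ξ) (by rw [Set.image_univ]; exact f.denseRange _)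
    exact ⟨_, ⟨x, trivial, rfl⟩, hx⟩
  obtain ⟨z', hz', he⟩ := hg' hz
  rw [hmax z' hz'] at he
  rw [Scheme.Pullback.range_snd]
  exact ⟨x, he.symm⟩

end Groth.Agent.S4632
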