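import Groth.Statements.S4635
import Groth.Agent.AssLib.Structure
import Groth.Agent.EGA4Dim.FieldTensorCM
import Groth.Agent.LiaisonLib.Basic
import Mathlib

set_option autoImplicit false
open CategoryTheory AlgebraicGeometry
universe u
open FBase

namespace Groth.Agent.S4635

open TensorProduct in
theorem h9_minimal_aux (k F K L : Type u) [Field k] [Field F] [Field K] [Field L] [Algebra k F] [Algebra k K] [Algebra F K]
    [IsScalarTower k F K] [Algebra k L] [Algebra.EssFiniteType k F] [IsNoetherianRing (K ⊗[k] L)]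
    (Q : Ideal (K ⊗[k] L)) (hQ : Q ∈ associatedPrimes (K ⊗[k] L) (K ⊗[k] L)) (Q' : Ideal (K ⊗[k] L)) [Q'.IsPrime]
    (hle : Q' ≤ Q) (a0 : F ⊗[k] L) (h : Algebra.TensorProduct.map (IsScalarTower.toAlgHom k F K) (AlgHom.id k L) a0 ∈ Q) :
    Algebra.TensorProduct.map (IsScalarTower.toAlgHom k F K) (AlgHom.id k L) a0 ∈ Q' := by
  haveI hcm : LocCoh.IsCohenMacaulayRing (F ⊗[k] L) := Groth.Agent.EGA4Dim.cm_tensor_fields k F L
  haveI : IsNoetherianRing (F ⊗[k] L) := hcm.toIsNoetherian
  let f : F ⊗[k] L →ₐ[k] K ⊗[k] L := Algebra.TensorProduct.map (IsScalarTower.toAlgHom k F K) (AlgHom.id k L)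
  let e := Algebra.TensorProduct.cancelBaseChange k F K K L
  have hfe : ∀ t, e (1 ⊗ₜ[F] t) = f t := fun t => by
    induction t using TensorProduct.induction_on with
    | zero => simp
    | tmul x y =>
      simp only [e, f, Algebra.TensorProduct.cancelBaseChange_tmul, Algebra.TensorProduct.map_tmul, AlgHom.id_apply]
      rw [Algebra.smul_def, mul_one]
      rfl
    | add x y hx hy => rw [tmul_add, map_add, map_add, hx, hy]
  haveI := hQ.isPrime
  let P : Ideal (F ⊗[k] L) := Q.comap f.toRingHom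
  let P' : Ideal (F ⊗[k] L) := Q'.comap f.toRingHom
  by_contra hn
  have hP : ∀ p ∈ associatedPrimes (F ⊗[k] L) (F ⊗[k] L), ¬ P ≤ p := fun p hp hPp => by
    have hmin : p ∈ minimalPrimes (F ⊗[k] L) := by
      haveI := hp.isPrime
      exact Ideal.height_eq_zero_iff.1 (Groth.Agent.LiaisonLib.height_eq_zero_of_mem_associatedPrimes hp)
    exact hn ((hmin.2 ⟨(inferInstance : P'.IsPrime), bot_le⟩ ((Ideal.comap_mono hle : P' ≤ P).trans hPp)) (hPp h))
  obtain ⟨t, htP, ht⟩ : ∃ t ∈ P, IsSMulRegular (F ⊗[k] L) t := by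
    have h2 : ¬ (P : Set (F ⊗[k] L)) ⊆ ⋃ p ∈ associatedPrimes (F ⊗[k] L) (F ⊗[k] L), (p : Set (F ⊗[k] L)) := by
      intro hsub
      obtain ⟨p, hp, hle'⟩ := (Ideal.subset_union_prime_finite (associatedPrimes.finite _ _) ⊥ ⊥ fun p hp _ _ => hp.isPrime).1 hsub
      exact hP p hp hle'
    obtain ⟨t, htP, ht⟩ := Set.not_subset.mp h2
    rw [biUnion_associatedPrimes_eq_zero_divisors] at ht
    exact ⟨t, htP, fun x y hxy => by_contra fun hne => ht ⟨x - y, sub_ne_zero.mpr hne, by rw [smul_sub]; exact sub_eq_zero.mpr hxy⟩⟩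
  obtain ⟨-, φ, hφ⟩ := (isAssociatedPrime_iff_exists_injective_linearMap _ _).1 hQ
  have hx0 : f t * φ 1 = 0 := by
    have h1 : f t • (1 : (K ⊗[k] L) ⧸ Q) = 0 := by
      show Ideal.Quotient.mk Q (f t * 1) = 0
      rw [mul_one]
      exact Ideal.Quotient.eq_zero_iff_mem.2 htP
    have h2 := congrArg φ h1
    rwa [LinearMap.map_smul, smul_eq_mul, map_zero] at h2
  have hx : e.symm (φ 1) = 0 := by
    have h3 : (1 ⊗ₜ[F] t) * e.symm (φ 1) = 0 := by
      apply e.injective
      rw [map_mul, e.apply_symm_apply, hfe, hx0, map_zero]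
    have hinj := Module.Flat.lTensor_preserves_injective_linearMap (M := K)
      (LinearMap.mulLeft F t) (fun x y hxy => ht hxy)
    refine hinj ?_
    rw [map_zero]
    refine Eq.trans ?_ h3
    generalize e.symm (φ 1) = z
    induction z using TensorProduct.induction_on with
    | zero => simp
    | tmul x y => simp
    | add x y hx hy => rw [map_add, mul_add, hx, hy]
  have h1 : φ 1 = φ 0 := by rw [map_zero]; exact e.symm.injective (hx.trans (map_zero _).symm)
  exact hQ.isPrime.ne_top ((Ideal.eq_top_iff_one _).2 (Ideal.Quotient.eq_zero_iff_mem.1 (hφ h1)))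

open TensorProduct in
theorem h9_minimal_fields (k K L : Type u) [Field k] [Field K] [Field L] [Algebra k K] [Algebra k L] [IsNoetherianRing (K ⊗[k] L)]
    (Q : Ideal (K ⊗[k] L)) (hQ : Q ∈ associatedPrimes (K ⊗[k] L) (K ⊗[k] L))
    (Q' : Ideal (K ⊗[k] L)) [Q'.IsPrime] (hle : Q' ≤ Q) : Q' = Q := by
  classical
  refine le_antisymm hle fun a ha => ?_
  obtain ⟨S, hS⟩ := TensorProduct.exists_finset a
  let F : IntermediateField k K := IntermediateField.adjoin k ((S.image Prod.fst : Finset K) : Set K)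
  haveI : Algebra.EssFiniteType k F := IntermediateField.essFiniteType_iff.2 (IntermediateField.fg_adjoin_finset _)
  let a0 : F ⊗[k] L := ∑ x ∈ S.attach, (⟨x.1.1, IntermediateField.subset_adjoin k _ (by
      rw [Finset.coe_image]; exact ⟨x.1, x.2, rfl⟩)⟩ : F) ⊗ₜ x.1.2
  have ha0 : Algebra.TensorProduct.map (IsScalarTower.toAlgHom k F K) (AlgHom.id k L) a0 = a := by
    rw [map_sum, hS, ← Finset.sum_attach S (fun x => x.1 ⊗ₜ[k] x.2)]
    rfl
  rw [← ha0] at ha ⊢
  exact h9_minimal_aux k F K L Q hQ Q' hle a0 ha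

def h9_NoEmb (R : Type u) [CommRing R] : Prop :=
  ∀ Q ∈ associatedPrimes R R, ∀ Q' : Ideal R, Q'.IsPrime → Q' ≤ Q → Q' = Q

theorem h9_step {R S : Type u} [CommRing R] [CommRing S] [Algebra R S] [IsNoetherianRing R] (M : Submonoid R)
    [IsLocalization M S] (hM : ∀ m ∈ M, ∀ x : R, m * x = 0 → x = 0) (h : h9_NoEmb S) : h9_NoEmb R := by
  intro Q hQ Q' hQ'p hle
  haveI := hQ.isPrime
  haveI := hQ'p
  haveI : IsLocalizedModule M (Algebra.linearMap R S) := isLocalizedModule_iff_isLocalization.mpr (by simpa using ‹IsLocalization M S›)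
  have hdisj : Disjoint (M : Set R) (Q : Set R) := Set.disjoint_left.mpr fun m hm hmQ => by
    obtain ⟨-, φ, hφ⟩ := (isAssociatedPrime_iff_exists_injective_linearMap _ _).1 hQ
    have h0 : m * φ 1 = 0 := by
      rw [← smul_eq_mul, ← map_smul, show (m • (1 : R ⧸ Q)) = 0 from ?_, map_zero]
      rw [Algebra.smul_def, mul_one]
      exact Ideal.Quotient.eq_zero_iff_mem.2 hmQ
    have h1 : φ 1 = φ 0 := by rw [map_zero]; exact hM m hm _ h0
    exact hQ.isPrime.ne_top ((Ideal.eq_top_iff_one _).2 (Ideal.Quotient.eq_zero_iff_mem.1 (hφ h1)))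
  have hdisj' : Disjoint (M : Set R) (Q' : Set R) := hdisj.mono_right hle
  have hass : Q.map (algebraMap R S) ∈ associatedPrimes S S := by
    rw [← Module.associatedPrimes.preimage_comap_associatedPrimes_eq_associatedPrimes_of_isLocalizedModule
      M S (Algebra.linearMap R S), Set.mem_preimage]
    rw [show Ideal.comap (algebraMap R S) (Q.map (algebraMap R S)) = Q from IsLocalization.under_map_of_isPrime_disjoint M S inferInstance hdisj]
    exact hQ
  have h2 := h _ hass (Q'.map (algebraMap R S)) (IsLocalization.isPrime_of_isPrime_disjoint M S Q' inferInstance hdisj') (Ideal.map_mono hle)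
  rw [← IsLocalization.under_map_of_isPrime_disjoint M S ‹Q'.IsPrime› hdisj',
    ← IsLocalization.under_map_of_isPrime_disjoint M S ‹Q.IsPrime› hdisj, h2]

open TensorProduct in
theorem h9_noEmb_tensor (k A B : Type u) [Field k] [CommRing A] [CommRing B] [IsDomain A] [IsDomain B] [Algebra k A] [Algebra k B]
    [IsNoetherianRing (A ⊗[k] B)] : h9_NoEmb (A ⊗[k] B) := by
  classical
  let K := FractionRing A
  let L := FractionRing B
  letI : Algebra (A ⊗[k] B) (K ⊗[k] B) := (Algebra.TensorProduct.map (IsScalarTower.toAlgHom k A K) (AlgHom.id k B)).toRingHom.toAlgebra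
  haveI : IsScalarTower A (A ⊗[k] B) (K ⊗[k] B) := IsScalarTower.of_algebraMap_eq fun a => by
    show algebraMap A K a ⊗ₜ[k] (1 : B) = Algebra.TensorProduct.map (IsScalarTower.toAlgHom k A K) (AlgHom.id k B) (a ⊗ₜ 1)
    rw [Algebra.TensorProduct.map_tmul]; rfl
  haveI := IsLocalization.tensorProduct_tensorProduct k B (nonZeroDivisors A) K (RingHom.ext fun b => by
    show Algebra.TensorProduct.map (IsScalarTower.toAlgHom k A K) (AlgHom.id k B) (1 ⊗ₜ b) = 1 ⊗ₜ b
    rw [Algebra.TensorProduct.map_tmul, map_one]; rfl)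
  letI : Algebra (K ⊗[k] B) (K ⊗[k] L) := (Algebra.TensorProduct.map (AlgHom.id K K) (IsScalarTower.toAlgHom k B L)).toRingHom.toAlgebra
  haveI : IsScalarTower K (K ⊗[k] B) (K ⊗[k] L) := by
    refine IsScalarTower.of_algebraMap_eq (R := K) (S := K ⊗[k] B) (A := K ⊗[k] L) fun a => ?_
    show a ⊗ₜ[k] (1 : L) = Algebra.TensorProduct.map (AlgHom.id K K) (IsScalarTower.toAlgHom k B L) (a ⊗ₜ 1)
    rw [Algebra.TensorProduct.map_tmul, map_one]; rfl
  haveI := IsLocalization.tensorProduct_tensorProduct_right k K (nonZeroDivisors B) L (RingHom.ext fun b => by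
    show Algebra.TensorProduct.map (AlgHom.id K K) (IsScalarTower.toAlgHom k B L) (1 ⊗ₜ b) = 1 ⊗ₜ algebraMap B L b
    rw [Algebra.TensorProduct.map_tmul]; rfl)
  haveI : IsNoetherianRing (K ⊗[k] B) := IsLocalization.isNoetherianRing (Algebra.algebraMapSubmonoid (A ⊗[k] B) (nonZeroDivisors A)) _ inferInstance
  haveI : IsNoetherianRing (K ⊗[k] L) := IsLocalization.isNoetherianRing ((nonZeroDivisors B).map (Algebra.TensorProduct.includeRight (R := k) (A := K))) _ (inferInstance : IsNoetherianRing (K ⊗[k] B))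
  refine h9_step (S := K ⊗[k] B) (Algebra.algebraMapSubmonoid (A ⊗[k] B) (nonZeroDivisors A)) ?_
    (h9_step (S := K ⊗[k] L) ((nonZeroDivisors B).map (Algebra.TensorProduct.includeRight (R := k) (A := K))) ?_
      fun Q hQ Q' hQ' hle => haveI := hQ'; h9_minimal_fields k K L Q hQ Q' hle)
  · rintro _ ⟨a, ha, rfl⟩ x hx
    refine Module.Flat.rTensor_preserves_injective_linearMap (M := B) (LinearMap.mulLeft k a)
      (mul_right_injective₀ (nonZeroDivisors.ne_zero ha)) ?_
    rw [map_zero]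
    refine Eq.trans ?_ hx
    clear hx
    induction x using TensorProduct.induction_on with
    | zero => simp
    | tmul x y => simp [Algebra.TensorProduct.algebraMap_apply]
    | add x y hx' hy' => rw [map_add, mul_add, hx', hy']
  · rintro _ ⟨b, hb, rfl⟩ x hx
    refine Module.Flat.lTensor_preserves_injective_linearMap (M := K) (LinearMap.mulLeft k b)
      (mul_right_injective₀ (nonZeroDivisors.ne_zero hb)) ?_
    rw [map_zero]
    refine Eq.trans ?_ hx
    clear hx
    induction x using TensorProduct.induction_on with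
    | zero => simp
    | tmul x y => simp
    | add x y hx' hy' => rw [map_add, mul_add, hx', hy']

open CategoryTheory.Limits in
/-- Let X and Y be integral locally Noetherian schemes over a field k such that X ×_k Y is locally
Noetherian. Then the structure sheaf of X ×_k Y has no embedded associated points. -/
theorem result {k : Type u} [Field k] {X Y : Scheme.{u}}
    (f : X ⟶ Spec (CommRingCat.of k)) (g : Y ⟶ Spec (CommRingCat.of k)) [IsIntegral X] [IsIntegral Y]
    [IsLocallyNoetherian X] [IsLocallyNoetherian Y] [IsLocallyNoetherian (pullback f g)] :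
    AssSch.NoEmbedded (Coh.structureModule (pullback f g)) := by
  intro x hx y hy hyx
  let p1 := pullback.fst f g
  let p2 := pullback.snd f g
  obtain ⟨U, hU, hxU, -⟩ := Groth.Agent.AssLib.exists_affine_mem (p1 x) (U := ⊤) trivial
  obtain ⟨V, hV, hxV, -⟩ := Groth.Agent.AssLib.exists_affine_mem (p2 x) (U := ⊤) trivial
  haveI : Nonempty U := ⟨⟨_, hxU⟩⟩
  haveI : Nonempty V := ⟨⟨_, hxV⟩⟩
  letI : Algebra k Γ(X, U) := (Spec.preimage (hU.fromSpec ≫ f)).hom.toAlgebra
  letI : Algebra k Γ(Y, V) := (Spec.preimage (hV.fromSpec ≫ g)).hom.toAlgebra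
  let i := pullback.map (Spec.map (CommRingCat.ofHom (algebraMap k Γ(X, U)))) (Spec.map (CommRingCat.ofHom (algebraMap k Γ(Y, V)))) f g
    hU.fromSpec hV.fromSpec (𝟙 _) (by simp [RingHom.algebraMap_toAlgebra]) (by simp [RingHom.algebraMap_toAlgebra])
  haveI : IsOpenImmersion i := inferInstance
  let J := (pullbackSpecIso k Γ(X, U) Γ(Y, V)).inv ≫ i
  haveI : IsOpenImmersion J := inferInstance
  let W := J ''ᵁ ⊤
  have hW : IsAffineOpen W := (isAffineOpen_top _).image_of_isOpenImmersion J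
  have hxW : x ∈ W := by
    have h1 : x ∈ Set.range i := by
      rw [Scheme.Pullback.range_map]
      exact ⟨by rw [Set.mem_preimage, hU.range_fromSpec]; exact hxU, by rw [Set.mem_preimage, hV.range_fromSpec]; exact hxV⟩
    obtain ⟨z, hz⟩ := h1
    refine ⟨(pullbackSpecIso k Γ(X, U) Γ(Y, V)).hom z, trivial, ?_⟩
    show i ((pullbackSpecIso k Γ(X, U) Γ(Y, V)).inv ((pullbackSpecIso k Γ(X, U) Γ(Y, V)).hom z)) = x
    rw [← Scheme.Hom.comp_apply (pullbackSpecIso k Γ(X, U) Γ(Y, V)).hom, Iso.hom_inv_id]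
    exact hz
  have hyW : y ∈ W := Groth.Agent.AssLib.mem_of_specializes hyx hxW
  haveI := Groth.Agent.QCohLib.isNoetherianRing_section hW
  let e : Γ(pullback f g, W) ≃+* TensorProduct k Γ(X, U) Γ(Y, V) :=
    ((J.appIso ⊤) ≪≫ Scheme.ΓSpecIso (CommRingCat.of (TensorProduct k Γ(X, U) Γ(Y, V)))).commRingCatIsoToRingEquiv
  haveI : IsNoetherianRing (TensorProduct k Γ(X, U) Γ(Y, V)) := isNoetherianRing_of_ringEquiv _ e
  letI : Algebra Γ(pullback f g, W) (TensorProduct k Γ(X, U) Γ(Y, V)) := e.toRingHom.toAlgebra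
  haveI : IsLocalization (⊥ : Submonoid Γ(pullback f g, W)) (TensorProduct k Γ(X, U) Γ(Y, V)) := by
    refine (IsLocalization.isLocalization_iff_of_ringEquiv _ e).1 ?_
    exact IsLocalization.of_le_isUnit (fun m hm => by rw [Submonoid.mem_bot] at hm; simp [hm, IsUnit.mem_submonoid_iff])
  have hne := h9_step (S := TensorProduct k Γ(X, U) Γ(Y, V)) (⊥ : Submonoid Γ(pullback f g, W))
    (fun m hm z hz => by rw [Submonoid.mem_bot] at hm; simpa [hm] using hz) (h9_noEmb_tensor k _ _)
  have hxa := (Groth.Agent.AssLib.isAssPoint_iff (M := Coh.structureModule (pullback f g)) hW hxW).mp hx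
  have h := hne _ hxa (Groth.Agent.AssLib.pr hW hyW) inferInstance ((Groth.Agent.AssLib.specializes_iff hW hxW hyW).mp hyx)
  exact ((Groth.Agent.AssLib.specializes_iff hW hyW hxW).mpr h.ge).antisymm hyx |>.eq

end Groth.Agent.S4635
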