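import Groth.Statements.S4638
import Mathlib
import Groth.Agent.AssLib.Noetherian


set_option autoImplicit false
open CategoryTheory AlgebraicGeometry
universe u
open AssSch

namespace Groth.Agent.S4638

/-- Let X be a locally Noetherian scheme, F a quasi-coherent O_X-module and f a global section of O_X.
Then f is F-regular, i.e. multiplication by the germ of f is injective on every stalk of F, if and
only if every associated point of F lies in the open subset X_f where f does not vanish. -/
theorem result {X : Scheme.{u}} [IsLocallyNoetherian X] (F : X.Modules)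
    (hF : Coh.IsQCoh F) (f : Γ(X, ⊤)) :
    (∀ x : X, IsSMulRegular ↑(F.presheaf.stalk x) (X.presheaf.germ ⊤ x trivial f)) ↔
      AssSch.Ass F ⊆ (X.basicOpen f : Set ↥X) := by
  haveI := hF
  constructor
  · intro h x hx
    by_contra hxf
    haveI : IsNoetherianRing (X.presheaf.stalk x) := inferInstance
    obtain ⟨hp, t, ht⟩ := isAssociatedPrime_iff.mp hx
    have hfm : X.presheaf.germ ⊤ x trivial f ∈ IsLocalRing.maximalIdeal (X.presheaf.stalk x) :=
      fun hu => hxf ((X.mem_basicOpen f x trivial).mpr hu)
    rw [ht, Submodule.mem_colon_singleton, Submodule.mem_bot] at hfm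
    refine hp.ne_top (ht.trans (eq_top_iff.mpr fun a _ => ?_))
    rw [Submodule.mem_colon_singleton, show t = 0 from h x (hfm.trans (smul_zero _).symm), smul_zero, Submodule.mem_bot]
  · intro h x
    rw [isSMulRegular_iff_right_eq_zero_of_smul]
    intro t ht
    by_contra hne
    obtain ⟨V, hxV, s, rfl⟩ := TopCat.Presheaf.exists_germ_eq F.presheaf t
    have h1 : F.presheaf.germ V x hxV (X.presheaf.map (homOfLE (le_top : V ≤ ⊤)).op f • s) = 0 := by
      refine ((PresheafOfModules.germ_smul (R := X.presheaf) F.val x V hxV _ s).trans ?_).trans ht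
      congr 1
      exact X.presheaf.germ_res_apply (homOfLE (le_top : V ≤ ⊤)) x hxV f
    obtain ⟨V', hxV', i₁, i₂, hV'⟩ := TopCat.Presheaf.germ_eq F.presheaf x hxV hxV _ 0 (h1.trans (map_zero _).symm)
    let s' := F.presheaf.map i₁.op s
    have hs' : F.presheaf.germ V' x hxV' s' ≠ 0 := by
      rw [show F.presheaf.germ V' x hxV' s' = F.presheaf.germ V x hxV s from F.presheaf.germ_res_apply _ _ _ s]
      exact hne
    obtain ⟨y, hy, -, hya, hys⟩ := Groth.Agent.AssLib.exists_isAssPoint s' hxV' hs'
    refine hys ?_
    have hyV : y ∈ V := i₁.le hy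
    have h2 : F.presheaf.germ V y hyV (X.presheaf.map (homOfLE (le_top : V ≤ ⊤)).op f • s) = 0 := by
      rw [← F.presheaf.germ_res_apply i₁ y hy, hV', F.presheaf.germ_res_apply, map_zero]
    have h2' := (PresheafOfModules.germ_smul (R := X.presheaf) F.val y V hyV _ s).symm.trans h2
    rw [show F.presheaf.germ V' y hy s' = F.presheaf.germ V y hyV s from F.presheaf.germ_res_apply _ _ _ s]
    refine (IsUnit.smul_eq_zero ?_).mp h2'
    have hu := (X.mem_basicOpen f y trivial).mp (h hya)
    rwa [← X.presheaf.germ_res_apply (homOfLE (le_top : V ≤ ⊤)) y hyV f] at hu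


end Groth.Agent.S4638
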