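import Groth.Statements.S4640
import Mathlib

set_option autoImplicit false
universe u
open FDesc

namespace Groth.Agent.S4640

open TensorProduct in
/-- Let A be a Dedekind domain with fraction field K, M an A-module and P' a K-submodule of K ⊗_A M. Let
φ : M → (K ⊗_A M)/P' be m ↦ class of 1 ⊗ m. Then a submodule Q of M equals ker φ if and only if M/Q
is a flat A-module and the kernel of the induced surjection K ⊗_A M → K ⊗_A (M/Q) is P'. Thus M/ker
φ is the unique flat quotient of M with generic fibre (K ⊗_A M)/P'. (The published statement takes A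
Noetherian, regular and of dimension 1; a field is allowed here, where the statement is immediate.) -/
theorem result {A K : Type u} [CommRing A] [IsDedekindDomain A] [Field K]
    [Algebra A K] [IsFractionRing A K] {M : Type u} [AddCommGroup M] [Module A M]
    (P' : Submodule K (K ⊗[A] M)) (Q : Submodule A M) :
    Q = LinearMap.ker ((P'.restrictScalars A).mkQ ∘ₗ TensorProduct.mk A K M 1) ↔
      (Module.Flat A (M ⧸ Q) ∧ LinearMap.ker (Q.mkQ.baseChange K) = P') := by
  let φ := (P'.restrictScalars A).mkQ ∘ₗ TensorProduct.mk A K M 1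
  let ι : ∀ (N : Type u) [AddCommGroup N] [Module A N], N →ₗ[A] K ⊗[A] N := fun N _ _ => TensorProduct.mk A K N 1
  have hmem : ∀ m, m ∈ LinearMap.ker φ ↔ (1 : K) ⊗ₜ[A] m ∈ P' := fun m => Submodule.Quotient.mk_eq_zero _
  have hnat : ∀ (m : M), Q.mkQ.baseChange K ((1 : K) ⊗ₜ[A] m) = (1 : K) ⊗ₜ[A] Q.mkQ m := fun m => rfl
  have hspan : ∀ z : K ⊗[A] M, ∃ (k : K) (m : M), k ≠ 0 ∧ z = k • ((1 : K) ⊗ₜ[A] m) := by
    intro z
    obtain ⟨⟨m, s⟩, h⟩ := IsLocalizedModule.surj (nonZeroDivisors A) (TensorProduct.mk A K M 1) z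
    have hs : algebraMap A K s ≠ 0 := IsFractionRing.to_map_ne_zero_of_mem_nonZeroDivisors s.2
    refine ⟨(algebraMap A K s)⁻¹, m, inv_ne_zero hs, ?_⟩
    rw [eq_inv_smul_iff₀ hs, algebraMap_smul]
    exact h
  have hinj : Module.Flat A (M ⧸ Q) → ∀ m : M, (1 : K) ⊗ₜ[A] Q.mkQ m = 0 → m ∈ Q := fun hfl m hm => by
    have h := Module.Flat.rTensor_preserves_injective_linearMap (M := M ⧸ Q) (Algebra.linearMap A K) (IsFractionRing.injective A K)
    have h1 : (1 : A) ⊗ₜ[A] Q.mkQ m = 0 := h (by rw [map_zero, LinearMap.rTensor_tmul, Algebra.linearMap_apply, map_one]; exact hm)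
    have h2 := congrArg (TensorProduct.lid A (M ⧸ Q)) h1
    rw [TensorProduct.lid_tmul, one_smul, map_zero] at h2
    exact (Submodule.Quotient.mk_eq_zero Q).1 h2
  constructor
  · rintro rfl
    haveI : Module.IsTorsionFree A (M ⧸ LinearMap.ker φ) := by
      refine Module.IsTorsionFree.of_smul_eq_zero fun a x h => ?_
      obtain ⟨m, rfl⟩ := Submodule.Quotient.mk_surjective _ x
      rcases eq_or_ne a 0 with rfl | ha
      · exact Or.inl rfl
      refine Or.inr ((Submodule.Quotient.mk_eq_zero _).2 ((hmem m).2 ?_))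
      have h' := (hmem _).1 ((Submodule.Quotient.mk_eq_zero _).1 h)
      rw [TensorProduct.tmul_smul, ← algebraMap_smul K] at h'
      have := P'.smul_mem (algebraMap A K a)⁻¹ h'
      rwa [inv_smul_smul₀ ((map_ne_zero_iff _ (IsFractionRing.injective A K)).2 ha)] at this
    haveI hfl : Module.Flat A (M ⧸ LinearMap.ker φ) := inferInstance
    refine ⟨hfl, ?_⟩
    ext z
    obtain ⟨k, m, hk, rfl⟩ := hspan z
    rw [LinearMap.mem_ker, map_smul, smul_eq_zero_iff_right hk, hnat, P'.smul_mem_iff hk, ← hmem]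
    exact ⟨hinj hfl m, fun h => by
      rw [show (LinearMap.ker φ).mkQ m = 0 from (Submodule.Quotient.mk_eq_zero _).2 h, TensorProduct.tmul_zero]⟩
  · rintro ⟨hfl, hP⟩
    ext m
    show m ∈ Q ↔ m ∈ LinearMap.ker φ
    rw [hmem, ← hP, LinearMap.mem_ker, hnat]
    exact ⟨fun h => by rw [show Q.mkQ m = 0 from (Submodule.Quotient.mk_eq_zero _).2 h, TensorProduct.tmul_zero],
      hinj hfl m⟩

end Groth.Agent.S4640
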