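import Groth.Statements.S4641
import Groth.Agent.AssLib.Structure

set_option autoImplicit false
open CategoryTheory AlgebraicGeometry
universe u
open AssSch

namespace Groth.Agent.S4641

/-- Let f : X → Y be a morphism of locally Noetherian schemes such that Y has no embedded associated
points, and let F be a quasi-coherent O_X-module which is flat over Y. Then for every associated
point x of F, f(x) is a maximal point of Y (every point of Y specialising to f(x) equals f(x)). (The
published statement assumes only Y locally Noetherian; X is taken locally Noetherian here so that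
associated points are those whose maximal ideal is an annihilator.) -/
theorem result {X Y : Scheme.{u}} (f : X ⟶ Y) [IsLocallyNoetherian X]
    [IsLocallyNoetherian Y] (hY : AssSch.NoEmbedded (Coh.structureModule Y)) (F : X.Modules) (hF : Coh.IsQCoh F)
    (hfl : FlatMod.IsFlatOver f F) (x : X) (hx : x ∈ AssSch.Ass F) (y : Y) (hy : y ⤳ f x) : y = f x := by
  letI := FlatMod.moduleStalkOver f F x
  haveI hfl' : Module.Flat (Y.presheaf.stalk (f x)) (F.presheaf.stalk x) := hfl x
  let A := Y.presheaf.stalk (f x)
  haveI : IsNoetherianRing A := inferInstance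
  have hass : IsAssociatedPrime (IsLocalRing.maximalIdeal A) A := by
    by_contra hc
    have h2 : ¬ (IsLocalRing.maximalIdeal A : Set A) ⊆ ⋃ p ∈ associatedPrimes A A, (p : Set A) := by
      rw [Ideal.subset_union_prime_finite (associatedPrimes.finite A A) ⊥ ⊥ fun p hp _ _ => hp.1]
      rintro ⟨p, hp, hle⟩
      exact hc ((IsLocalRing.maximalIdeal.isMaximal A).eq_of_le hp.1.ne_top hle ▸ hp)
    obtain ⟨t, htm, ht⟩ := Set.not_subset.mp h2
    rw [biUnion_associatedPrimes_eq_zero_divisors] at ht
    have hreg : IsSMulRegular A t := fun a b hab => by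
      by_contra hne
      exact ht ⟨a - b, sub_ne_zero.mpr hne, by rw [smul_sub]; exact sub_eq_zero.mpr hab⟩
    have hregF : IsSMulRegular (F.presheaf.stalk x) t := by
      have hinj := Module.Flat.rTensor_preserves_injective_linearMap (M := F.presheaf.stalk x)
        (LinearMap.lsmul A A t) hreg
      intro u v huv
      refine (TensorProduct.lid A (F.presheaf.stalk x)).symm.injective (hinj ?_)
      rw [TensorProduct.lid_symm_apply, TensorProduct.lid_symm_apply, LinearMap.rTensor_tmul, LinearMap.rTensor_tmul]
      refine (TensorProduct.lid A (F.presheaf.stalk x)).injective ?_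
      rw [TensorProduct.lid_tmul, TensorProduct.lid_tmul, LinearMap.lsmul_apply, smul_eq_mul, mul_one]
      exact huv
    obtain ⟨hp, m, hm⟩ := (hx : IsAssociatedPrime (IsLocalRing.maximalIdeal (X.presheaf.stalk x)) (F.presheaf.stalk x))
    have hs : f.stalkMap x t ∈ IsLocalRing.maximalIdeal (X.presheaf.stalk x) := by
      rw [SetLike.mem_coe, IsLocalRing.mem_maximalIdeal] at htm
      rw [IsLocalRing.mem_maximalIdeal]
      exact fun hu => htm (isUnit_of_map_unit (f.stalkMap x).hom t hu)
    rw [hm] at hs
    obtain ⟨n, hn⟩ := hs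
    rw [Submodule.mem_colon_singleton, Submodule.mem_bot, ← map_pow] at hn
    have hm0 : m ≠ 0 := by
      rintro rfl
      refine hp.ne_top ?_
      rw [hm, show Submodule.colon (⊥ : Submodule (X.presheaf.stalk x) (F.presheaf.stalk x)) {(0 : F.presheaf.stalk x)} = ⊤
        from eq_top_iff.mpr fun r _ => by simp [Submodule.mem_colon_singleton], Ideal.radical_top]
    exact hm0 ((hregF.pow n) (show t ^ n • m = t ^ n • 0 by rw [smul_zero]; exact hn))
  have hnt : Nontrivial ((Coh.structureModule Y).presheaf.stalk y) := by
    refine (subsingleton_or_nontrivial _).resolve_left fun hsub => ?_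
    obtain ⟨W, hW, hyW, -⟩ := Groth.Agent.AssLib.exists_affine_mem y (U := ⊤) trivial
    haveI : Coh.IsQCoh (Coh.structureModule Y) := inferInstance
    obtain ⟨a, ha, ha0⟩ := (Groth.Agent.AssLib.germ_eq_zero_iff (M := Coh.structureModule Y) hW hyW
      (1 : Γ(Y, W))).mp (Subsingleton.elim _ _)
    have ha0' : a * 1 = (0 : Γ(Y, W)) := ha0
    rw [mul_one] at ha0'
    exact ha (ha0' ▸ Submodule.zero_mem _)
  haveI : Coh.IsQCoh (Coh.structureModule Y) := inferInstance
  obtain ⟨z, hzy, hz⟩ := Groth.Agent.AssLib.exists_isAssPoint_of_nontrivial (M := Coh.structureModule Y) hnt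
  have hf' := hY (f x) ((Groth.Agent.AssLib.isAssPoint_structureModule_iff (f x)).mpr hass) z hz (hzy.trans hy)
  exact (hy.antisymm (hf'.symm ▸ hzy)).eq


end Groth.Agent.S4641
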