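import Groth.Statements.S4644
import Groth.Agent.OpenDim.Dims
import Groth.Agent.FlatDim.Trdeg
import Groth.Agent.RatNormal.SectionExt
import Mathlib
-- import your own Groth.Agent.* helpers here

set_option autoImplicit false
open CategoryTheory AlgebraicGeometry
universe u
open FBase

namespace Groth.Agent.S4644

/-- Let Y be a nonempty scheme locally of finite type over a field k whose irreducible components all
have the same dimension, and let Z be a locally closed subset of Y (the underlying set of a
subscheme). Then Z is nowhere dense in Y if and only if dim Z < dim Y. (For Y empty the left side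
holds and the right side fails, so Y is taken nonempty; dimensions are Krull dimensions of the
underlying spaces.) -/
theorem result {k : Type u} [Field k] {Y : Scheme.{u}} [Nonempty ↥Y]
    (g : Y ⟶ Spec (CommRingCat.of k)) [LocallyOfFiniteType g]
    (heq : ∀ T ∈ irreducibleComponents ↥Y, topologicalKrullDim ↥T = topologicalKrullDim ↥Y)
    (Z : Set ↥Y) (hZ : IsLocallyClosed Z) :
    IsNowhereDense Z ↔ topologicalKrullDim ↥Z < topologicalKrullDim ↥Y := by
  classical
  haveI : IsLocallyNoetherian Y := LocallyOfFiniteType.isLocallyNoetherian g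
  have key : ∀ (C G : Set Y), IsClosed C → IsOpen G → ∀ η : Y, (∀ v : Y, v ⤳ η → η ⤳ v) →
      η ∈ closure (C ∩ G) → η ∈ C ∩ G := by
    intro C G hC hG η hmax hη
    obtain ⟨W, hW, hηW, -⟩ := exists_isAffineOpen_mem_and_subset (X := Y) (x := η) (U := ⊤) trivial
    haveI : IsAffine W.toScheme := hW
    haveI : IsLocallyNoetherian W.toScheme := isLocallyNoetherian_of_isOpenImmersion W.ι
    haveI : IsNoetherian W.toScheme := {}
    obtain ⟨v, ⟨hvC, hvG⟩, hv⟩ := Groth.Agent.RatNormal.exists_specializes_of_mem_closure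
      (W.ι ⁻¹' C) (W.ι ⁻¹' G) (hC.preimage W.ι.continuous) (hG.preimage W.ι.continuous)
      (x := (⟨η, hηW⟩ : W)) (by
        rw [← Set.preimage_inter, ← W.ι.isOpenEmbedding.isOpenMap.preimage_closure_eq_closure_preimage
          W.ι.continuous]
        exact hη)
    have h1 : W.ι v ⤳ η := hv.map W.ι.continuous
    have h2 : η ⤳ W.ι v := hmax _ h1
    exact ⟨h1.mem_closed hC hvC, h2.mem_open hG hvG⟩
  have hy : ∀ w : Y, g w = IsLocalRing.closedPoint k := fun w => Subsingleton.elim (α := PrimeSpectrum k) _ _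
  have hdim : ∀ η : Y, topologicalKrullDim ↥(closure ({η} : Set Y)) = Groth.Agent.OpenDim.trd g η := by
    intro η
    obtain ⟨t, ht, hd⟩ := Groth.Agent.FlatDim.topologicalKrullDim_closure k g η
    rw [Groth.Agent.OpenDim.resTrdegAt_eq_trd] at ht
    rw [hd]
    exact_mod_cast ht.symm
  have hgen : ∀ w : Y, ∃ η : Y, η ⤳ w ∧ (∀ v, v ⤳ η → η ⤳ v) ∧
      (Groth.Agent.OpenDim.trd g η : WithBot ℕ∞) = topologicalKrullDim ↥Y := by
    intro w
    have hT := irreducibleComponent_mem_irreducibleComponents w
    obtain ⟨η, hη, hmax⟩ := Groth.Agent.FlatDim.exists_generic_of_component hT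
    refine ⟨η, specializes_iff_mem_closure.2 (hη ▸ mem_irreducibleComponent), hmax, ?_⟩
    rw [← hdim, hη]
    exact heq _ hT
  obtain ⟨y₀⟩ := (inferInstance : Nonempty Y)
  obtain ⟨η₀, -, -, hd₀⟩ := hgen y₀
  constructor
  · intro hnd
    rcases Z.eq_empty_or_nonempty with rfl | hne
    · haveI : IsEmpty (TopologicalSpace.IrreducibleCloseds ↥(∅ : Set Y)) :=
        ⟨fun C => C.2.nonempty.elim fun c _ => c.2.elim⟩
      rw [← hd₀, topologicalKrullDim, Order.krullDim_eq_bot]
      exact WithBot.bot_lt_coe _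
    have hlt : ∀ w ∈ closure Z, Groth.Agent.OpenDim.trd g w < Groth.Agent.OpenDim.trd g η₀ := by
      intro w hw
      obtain ⟨η, hηw, hmax, hdη⟩ := hgen w
      have he : Groth.Agent.OpenDim.trd g η = Groth.Agent.OpenDim.trd g η₀ := by
        exact_mod_cast hdη.trans hd₀.symm
      rcases eq_or_ne η w with rfl | hne'
      · exfalso
        have hmem : η ∈ closure (Set.univ ∩ (closure Z)ᶜ) := by
          rw [Set.univ_inter, closure_compl, (show interior (closure Z) = ∅ from hnd)]
          simp
        exact (key _ _ isClosed_univ isClosed_closure.isOpen_compl η hmax hmem).2 hw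
      · exact he ▸ Groth.Agent.OpenDim.trd_lt g hηw hne' ((hy _).trans (hy _).symm)
    obtain ⟨z₀, hz₀⟩ := hne
    obtain ⟨m, hm⟩ : ∃ m, Groth.Agent.OpenDim.trd g η₀ = m + 1 :=
      Nat.exists_eq_add_one.2 (lt_of_le_of_lt (Nat.zero_le _) (hlt z₀ (subset_closure hz₀)))
    rw [← hd₀]
    haveI : QuasiSober ↥(closure Z) := (isClosed_closure.isClosedEmbedding_subtypeVal).quasiSober
    calc topologicalKrullDim ↥Z ≤ topologicalKrullDim ↥(closure Z) :=
          (Topology.IsEmbedding.inclusion subset_closure).isInducing.topologicalKrullDim_le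
      _ ≤ (m : WithBot ℕ∞) := Groth.Agent.OpenDim.topologicalKrullDim_le_of_trd g
          Topology.IsEmbedding.subtypeVal (fun w => hy _) fun w => by
            have := hlt w.1 w.2
            exact_mod_cast (show Groth.Agent.OpenDim.trd g w.1 ≤ m by omega)
      _ < _ := by rw [hm]; exact_mod_cast Nat.lt_succ_self m
  · intro hlt
    by_contra hnd
    obtain ⟨w, hw⟩ := Set.nonempty_iff_ne_empty.2 hnd
    obtain ⟨η, hηw, hmax, hdη⟩ := hgen w
    have hη : η ∈ closure Z := interior_subset (hηw.mem_open isOpen_interior hw)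
    obtain ⟨U, C, hU, hC, rfl⟩ := hZ
    rw [Set.inter_comm] at hη
    obtain ⟨hηC, hηU⟩ := key C U hC hU η hmax hη
    refine hlt.not_ge (hdη ▸ Groth.Agent.OpenDim.trd_le_topologicalKrullDim g
      Topology.IsEmbedding.subtypeVal ⟨U, hU⟩ hηU fun x hxU hx _ => ?_)
    rw [Subtype.range_coe]
    exact ⟨hxU, hx.mem_closed hC hηC⟩

end Groth.Agent.S4644
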