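import Groth.Statements.S4645
import Groth.Agent.FBaseLib.GeomComp
-- import your own Groth.Agent.* helpers here

set_option autoImplicit false
open CategoryTheory AlgebraicGeometry
universe u
open FBase

namespace Groth.Agent.S4645

/-- Let X be a scheme over a field k with finitely many connected components, each of which contains a
point x such that the separable algebraic closure of k in κ(x) has finite degree over k. Then there
is a finite separable extension k'' of k such that all connected components of X ⊗_k k'' are
geometrically connected over k'': for every extension field K of k'' and every point x' of X ⊗_k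
k'', the inverse image in (X ⊗_k k'') ⊗_{k''} K of the connected component of x' is connected. -/
theorem result {k : Type u} [Field k] {X : Scheme.{u}}
    (f : X ⟶ Spec (CommRingCat.of k)) [Finite (_root_.ConnectedComponents ↥X)]
    (hx : ∀ c : _root_.ConnectedComponents ↥X, ∃ x : X, _root_.ConnectedComponents.mk x = c ∧
      FBase.ResidueFieldProp f x (fun K _ _ => FiniteDimensional k (separableClosure k K))) :
    ∃ (k'' : Type u) (_ : Field k'') (_ : Algebra k k''), FiniteDimensional k k'' ∧ Algebra.IsSeparable k k'' ∧
      ∀ (K : Type u) [Field K] [Algebra k'' K] (x' : ↥(FBase.bc f k'')),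
        _root_.IsConnected (⇑(FBase.bcπ (FBase.bcStr f k'') K) ⁻¹' connectedComponent x') := by
  choose x hx φ hφ hfd using hx
  letI : ∀ c, Algebra k (X.residueField (x c)) := fun c => (φ c).toAlgebra
  haveI : ∀ c, FiniteDimensional k (separableClosure k (X.residueField (x c))) := hfd
  obtain ⟨N, _, _, hN1, hN2, hN3, hι⟩ := FBaseLib.exists_galois (k := k)
    (fun c => ↥(separableClosure k (X.residueField (x c))))
  refine ⟨N, inferInstance, inferInstance, hN1, hN2, fun K _ _ x' => ?_⟩
  choose Q hQ Y hY hYx hYcov hYL using fun c => FBaseLib.exists_pieces f N (x c) (hφ c) (hι c).some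
  haveI : Algebra.IsAlgebraic k N := Algebra.IsAlgebraic.of_finite k N
  haveI : ∀ c, Finite (Q c) := hQ
  have hmeet : ∀ U : Set ↥(FBase.bc f N), IsClopen U → U.Nonempty →
      ∃ i : Σ c, Q c, (Y i.1 i.2 ∩ U).Nonempty := by
    rintro U hU ⟨z, hz⟩
    have hclopen : IsClopen (FBase.bcπ f N '' U) :=
      ⟨FBaseLib.isClosedMap_bcπ f N _ hU.1, FBaseLib.isOpenMap_bcπ f N _ hU.2⟩
    obtain ⟨z', hz', e⟩ : x (_root_.ConnectedComponents.mk (FBase.bcπ f N z)) ∈ FBase.bcπ f N '' U := by
      refine hclopen.connectedComponent_subset ⟨z, hz, rfl⟩ ?_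
      exact _root_.ConnectedComponents.coe_eq_coe'.1 (hx _)
    obtain ⟨q, hq⟩ := hYcov _ z' e
    exact ⟨⟨_, q⟩, z', hq, hz'⟩
  obtain ⟨hclo, ⟨c, q⟩, hne, hsub⟩ := FBaseLib.exists_subset_connectedComponent
    (fun i : Σ c, Q c => Y i.1 i.2) (fun i => (hY i.1 i.2).2.isPreconnected) hmeet x'
  exact GeomIrred.isConnected_preimage_of_subset (FBase.bcStr f N) hclo isConnected_connectedComponent
    hsub hne (fun L _ _ _ _ => (hYL c q L).2.isPreconnected) K

end Groth.Agent.S4645
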