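import Groth.Statements.S4647
import Mathlib

set_option backward.isDefEq.respectTransparency false
set_option autoImplicit false
open CategoryTheory AlgebraicGeometry
universe u
open FDesc

namespace Groth.Agent.S4647

/-- Let f : X → Y be a faithfully flat (flat and surjective) morphism. If all local rings of X are
domains (in particular if X is locally integral) and the underlying space of Y is locally
Noetherian, then Y is locally integral: every point of Y has an open neighbourhood which is an
integral scheme. -/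
theorem result {X Y : Scheme.{u}} (f : X ⟶ Y) [Flat f] [Surjective f]
    (hX : ∀ x : X, IsDomain ↑(X.presheaf.stalk x))
    (hY : ∀ y : Y, ∃ U : Y.Opens, y ∈ U ∧ TopologicalSpace.NoetherianSpace ↥U) (y : Y) :
    ∃ U : Y.Opens, y ∈ U ∧ IsIntegral (U : Scheme.{u}) := by
  have hdom : ∀ y : Y, IsDomain (Y.presheaf.stalk y) := fun y => by
    obtain ⟨x, rfl⟩ := f.surjective y
    haveI := hX x
    have hflat : (f.stalkMap x).hom.Flat := Flat.stalkMap f x
    letI := (f.stalkMap x).hom.toAlgebra
    haveI : Module.Flat (Y.presheaf.stalk (f x)) (X.presheaf.stalk x) := hflat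
    haveI : IsLocalHom (algebraMap (Y.presheaf.stalk (f x)) (X.presheaf.stalk x)) :=
      inferInstanceAs (IsLocalHom (f.stalkMap x).hom)
    haveI := Module.FaithfullyFlat.of_flat_of_isLocalHom (A := Y.presheaf.stalk (f x)) (B := X.presheaf.stalk x)
    exact (FaithfulSMul.algebraMap_injective (Y.presheaf.stalk (f x)) (X.presheaf.stalk x)).isDomain
      (algebraMap (Y.presheaf.stalk (f x)) (X.presheaf.stalk x))
  haveI : ∀ y : Y, _root_.IsReduced (Y.presheaf.stalk y) := fun y => by
    haveI := hdom y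
    infer_instance
  haveI : AlgebraicGeometry.IsReduced Y := isReduced_of_isReduced_stalk Y
  haveI := hdom y
  obtain ⟨U, hyU, hN⟩ := hY y
  haveI : TopologicalSpace.NoetherianSpace ↥U := hN
  haveI : TopologicalSpace.NoetherianSpace ↥(U : Set Y) := hN
  let yU : U := ⟨y, hyU⟩
  let F : Set U := ⋃ Z ∈ {Z ∈ irreducibleComponents U | yU ∉ Z}, Z
  have hFc : IsClosed F := ((@TopologicalSpace.NoetherianSpace.finite_irreducibleComponents ↥U _ hN).subset
    fun Z hZ => hZ.1).isClosed_biUnion fun Z hZ => isClosed_of_mem_irreducibleComponents Z hZ.1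
  let V : Y.Opens := ⟨Subtype.val '' Fᶜ, U.2.isOpenMap_subtype_val _ hFc.isOpen_compl⟩
  have hyV : y ∈ V := ⟨yU, by simp [F], rfl⟩
  let ξ₀ : PrimeSpectrum (Y.presheaf.stalk y) := ⟨⊥, Ideal.isPrime_bot⟩
  let ξ : Y := Y.fromSpecStalk y ξ₀
  have hξy : ξ ⤳ y := by
    rw [← Scheme.fromSpecStalk_closedPoint (x := y)]
    exact ((PrimeSpectrum.le_iff_specializes ξ₀ _).1 bot_le).map (Y.fromSpecStalk y).continuous
  have hξ : ∀ η : Y, η ⤳ y → ξ ⤳ η := fun η hη => by
    obtain ⟨p, rfl⟩ : η ∈ Set.range (Y.fromSpecStalk y) := by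
      rw [Scheme.range_fromSpecStalk]
      exact hη
    exact ((PrimeSpectrum.le_iff_specializes ξ₀ _).1 bot_le).map (Y.fromSpecStalk y).continuous
  have hξV : ξ ∈ V := hξy.mem_open V.2 hyV
  have hgen : ∀ v ∈ V, ξ ⤳ v := by
    rintro _ ⟨v, hv, rfl⟩
    have hZ := irreducibleComponent_mem_irreducibleComponents v
    have hyZ : yU ∈ irreducibleComponent v := by
      by_contra h
      exact hv (Set.mem_biUnion (show irreducibleComponent v ∈ _ from ⟨hZ, h⟩) mem_irreducibleComponent)
    have hirr : IsIrreducible (Subtype.val '' irreducibleComponent v : Set Y) :=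
      isIrreducible_irreducibleComponent.image _ continuous_subtype_val.continuousOn
    obtain ⟨η, hη⟩ := QuasiSober.sober hirr.closure isClosed_closure
    refine (hξ η (hη.specializes (subset_closure ⟨yU, hyZ, rfl⟩))).trans ?_
    exact hη.specializes (subset_closure ⟨v, mem_irreducibleComponent, rfl⟩)
  refine ⟨V, hyV, ?_⟩
  haveI : IrreducibleSpace (V : Set Y) := Subtype.irreducibleSpace ⟨⟨y, hyV⟩, fun U₁ U₂ h₁ h₂ ⟨a, ha, ha'⟩ ⟨b, hb, hb'⟩ =>
    ⟨ξ, hξV, (hgen a ha).mem_open h₁ ha', (hgen b hb).mem_open h₂ hb'⟩⟩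
  haveI : IrreducibleSpace ↥(V : Scheme.{u}) := ‹IrreducibleSpace (V : Set Y)›
  haveI : AlgebraicGeometry.IsReduced (V : Scheme.{u}) := isReduced_of_isOpenImmersion V.ι
  exact isIntegral_of_irreducibleSpace_of_isReduced _

end Groth.Agent.S4647
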