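import Groth.Statements.S4648
import Mathlib
import Groth.Agent.QuasiFlatLib.Basic
import Groth.Agent.DomLib.ProConsClosure
import Groth.Agent.ProConsLib.Scheme

set_option autoImplicit false
open CategoryTheory AlgebraicGeometry
universe u
open FDesc

namespace Groth.Agent.S4648

/-- Let f : X → Y be a quasi-flat, surjective and quasi-compact morphism and Z a subset of Y. Then Z is
a locally closed pro-constructible subset of Y if and only if f⁻¹(Z) is a locally closed
pro-constructible subset of X. -/
theorem result {X Y : Scheme.{u}} (f : X ⟶ Y)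
    (hf : FDesc.IsQuasiFlat f) [Surjective f] [QuasiCompact f] (Z : Set ↥Y) :
    (IsLocallyClosed Z ∧ ProCons.IsProConstructible Z) ↔
      (IsLocallyClosed (⇑f ⁻¹' Z) ∧ ProCons.IsProConstructible (⇑f ⁻¹' Z)) := by
  have hgen := Groth.Agent.QuasiFlatLib.generalizingMap f hf
  refine ⟨fun h => ⟨h.1.preimage f.continuous, Groth.Agent.ProConsLib.isProConstructible_preimage f h.2⟩, fun h => ?_⟩
  have hpc : ProCons.IsProConstructible Z := by
    have := Groth.Agent.ProConsLib.isProConstructible_image f h.2
    rwa [Set.image_preimage_eq _ f.surjective] at this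
  refine ⟨?_, hpc⟩
  have hcl : ⇑f ⁻¹' closure Z = closure (⇑f ⁻¹' Z) := by
    refine Set.Subset.antisymm (fun x hx => ?_) (f.continuous.closure_preimage_subset _)
    obtain ⟨z, hz, hzx⟩ := Groth.Agent.DomLib.exists_specializes_of_mem_closure hpc (show f x ∈ closure Z from hx)
    obtain ⟨x', hx', hfx'⟩ := hgen hzx
    exact hx'.mem_closed isClosed_closure (subset_closure (show f x' ∈ Z from hfx'.symm ▸ hz))
  have hco : ⇑f ⁻¹' coborder Z = coborder (⇑f ⁻¹' Z) := by
    simp only [coborder, Set.preimage_compl, Set.preimage_sdiff, hcl]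
  rw [isLocallyClosed_iff_isOpen_coborder] at h ⊢
  rw [← (Groth.Agent.QuasiFlatLib.isQuotientMap f hgen).isOpen_preimage, hco]
  exact h.1

end Groth.Agent.S4648
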