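import Groth.Statements.S4651
import Groth.Agent.CompTopLib.Basic
import Mathlib.AlgebraicGeometry.Properties

set_option autoImplicit false
open CategoryTheory AlgebraicGeometry
universe u
open FDesc

namespace Groth.Agent.S4651

/-- Let Y be a scheme whose family of irreducible components is locally finite (every point has an open
neighbourhood meeting only finitely many irreducible components), and let f : X → Y be a morphism
along which generizations lift (e.g. flat, quasi-flat or open) such that every fibre f⁻¹(y) is a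
finite set (e.g. f quasi-finite or radicial). Then the family of irreducible components of X is
locally finite. -/
theorem result {X Y : Scheme.{u}} (f : X ⟶ Y)
    (hY : ∀ y : Y, ∃ U : Set ↥Y, IsOpen U ∧ y ∈ U ∧ {Z ∈ irreducibleComponents ↥Y | (Z ∩ U).Nonempty}.Finite)
    (hf : GeneralizingMap ⇑f) (hfin : ∀ y : Y, (⇑f ⁻¹' {y}).Finite) (x : X) :
    ∃ U : Set ↥X, IsOpen U ∧ x ∈ U ∧ {T ∈ irreducibleComponents ↥X | (T ∩ U).Nonempty}.Finite := by
  obtain ⟨V, hV, hxV, hVfin⟩ := hY (f x)
  refine ⟨f ⁻¹' V, hV.preimage f.continuous, hxV, ?_⟩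
  let S : Set Y := {y | closure {y} ∈ {Z ∈ irreducibleComponents ↥Y | (Z ∩ V).Nonempty}}
  have hS : S.Finite := by
    refine Set.Finite.of_finite_image (f := fun y => closure ({y} : Set Y)) (hVfin.subset ?_) ?_
    · rintro _ ⟨y, hy, rfl⟩; exact hy
    · intro a _ b _ h
      exact ((specializes_iff_closure_subset.2 h.ge).antisymm (specializes_iff_closure_subset.2 h.le)).eq
  refine ((hS.preimage' fun y _ => hfin y).image (fun ξ => closure ({ξ} : Set X))).subset ?_
  rintro T ⟨hT, t, htT, htV⟩
  obtain ⟨ξ, hξ, e, hmem⟩ := CompTopLib.closure_image_mem_irreducibleComponents f.continuous hf hT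
  refine ⟨ξ, ⟨e ▸ hmem, f t, ?_, htV⟩, hξ.def⟩
  exact e ▸ subset_closure ⟨t, htT, rfl⟩

end Groth.Agent.S4651
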