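import Groth.Statements.S4652
import Groth.Agent.PullbackMod.Descent

set_option autoImplicit false
set_option linter.style.haveILetI false
open CategoryTheory AlgebraicGeometry
universe u
open FDesc

namespace Groth.Agent.S4652

/-- Let X be a scheme, F a finitely presented O_X-module and x a point of X. Then F_x is a flat module
over the local ring O_{X,x} if and only if x has an open neighbourhood U such that the restriction
of F to U is finite locally free. -/
theorem result {X : Scheme.{u}} (F : X.Modules) (hF : CohB1.IsFP F) (x : X) :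
    FlatMod.IsFlatAt F x ↔ ∃ U : X.Opens, x ∈ U ∧ FlatMod.IsFinLocFree ((Scheme.Modules.pullback U.ι).obj F) := by
  haveI : Coh.IsQCoh F := by
    obtain ⟨σ, -⟩ := hF.exists_quasicoherentData
    exact { nonempty_quasicoherentData := ⟨σ⟩ }
  constructor
  · intro h
    obtain ⟨U, n, hxU, ⟨e⟩⟩ := Groth.Agent.FlatLocus.exists_free_nhd F hF x h
    refine ⟨U, hxU, ?_⟩
    rw [PullbackMod.isFinLocFree_iff]
    refine ⟨PullbackMod.isQCoh_pullback _ F, PullbackMod.isFP_pullback _ F hF, fun u => ?_⟩
    exact PullbackMod.isFlat_restrict_of_free F e u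
  · rintro ⟨U, hxU, h⟩
    exact PullbackMod.isFlatAt_descent U.ι F (⟨x, hxU⟩ : U) (Flat.stalkMap U.ι _)
      (PullbackMod.isFlat_of_isFinLocFree _ h _)

end Groth.Agent.S4652
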