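import Groth.Statements.S4653
import Groth.Agent.FlatMaxLib.Basic

set_option autoImplicit false
set_option linter.style.haveILetI false
set_option backward.isDefEq.respectTransparency false
-- import your own Groth.Agent.* helpers here

set_option autoImplicit false
open CategoryTheory AlgebraicGeometry
universe u
open FDesc

namespace Groth.Agent.S4653

/-- Let f : X → Y be a morphism of schemes, F a quasi-coherent O_X-module of finite type which is flat
over Y, E a quasi-coherent O_Y-module of finite type, and x a point of X with image y. Then x is a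
maximal point of the support of f^*E ⊗ F (a point of the support admitting no proper generization in
it) if and only if y is a maximal point of Supp E and x, viewed in the fibre f⁻¹(y), is a maximal
point of the support of the restriction of F to that fibre. -/
theorem result {X Y : Scheme.{u}} (f : X ⟶ Y) (F : X.Modules) (hF : Coh.IsCoh F)
    (hfl : FlatMod.IsFlatOver f F) (E : Y.Modules) (hE : Coh.IsCoh E) (x : X) :
    (x ∈ CohB1.support (CohB1.tensorMod ((Scheme.Modules.pullback f).obj E) F) ∧
        ∀ z ∈ CohB1.support (CohB1.tensorMod ((Scheme.Modules.pullback f).obj E) F), z ⤳ x → z = x) ↔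
      ((f x ∈ CohB1.support E ∧ ∀ w ∈ CohB1.support E, w ⤳ f x → w = f x) ∧
        (f.asFiber x ∈ CohB1.support ((Scheme.Modules.pullback (f.fiberι (f x))).obj F) ∧
          ∀ z ∈ CohB1.support ((Scheme.Modules.pullback (f.fiberι (f x))).obj F), z ⤳ f.asFiber x → z = f.asFiber x)) := by
  haveI := hF.1
  rw [Groth.Agent.FlatMaxLib.support_tensor_pullback f F hF E hE,
    Groth.Agent.SuppLib.support_pullback (f.fiberι (f x)) F hF.2]
  have emb := (f.fiberι (f x)).isEmbedding
  constructor
  · rintro ⟨⟨hy, hxF⟩, hmax⟩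
    refine ⟨⟨hy, fun w hw hwy => ?_⟩, ?_, fun z hz hzx => ?_⟩
    · obtain ⟨z, hz, hzx, rfl⟩ := Groth.Agent.FlatMaxLib.exists_lift f F hF hfl hxF hwy
      rw [hmax z ⟨hw, hz⟩ hzx]
    · show f.fiberι (f x) (f.asFiber x) ∈ CohB1.support F
      rwa [Scheme.Hom.fiberι_asFiber]
    · have h1 : f (f.fiberι (f x) z) = f x := (f.range_fiberι (f x)).le ⟨z, rfl⟩
      have h2 : f.fiberι (f x) z ⤳ x := by
        have := hzx.map (f.fiberι (f x)).continuous
        rwa [Scheme.Hom.fiberι_asFiber] at this
      refine emb.injective ?_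
      rw [Scheme.Hom.fiberι_asFiber]
      exact hmax _ ⟨show f (f.fiberι (f x) z) ∈ CohB1.support E from h1.symm ▸ hy, hz⟩ h2
  · rintro ⟨⟨hy, hmaxE⟩, hxF, hmax⟩
    refine ⟨⟨hy, ?_⟩, fun z hz hzx => ?_⟩
    · have : f.fiberι (f x) (f.asFiber x) ∈ CohB1.support F := hxF
      rwa [Scheme.Hom.fiberι_asFiber] at this
    · have h1 := hmaxE (f z) hz.1 (hzx.map f.continuous)
      obtain ⟨z', rfl⟩ : z ∈ Set.range (f.fiberι (f x)) := (f.range_fiberι (f x)).ge h1
      have h2 : z' = f.asFiber x := hmax z' hz.2 (by
        rw [← emb.isInducing.specializes_iff, Scheme.Hom.fiberι_asFiber]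
        exact hzx)
      rw [h2, Scheme.Hom.fiberι_asFiber]

end Groth.Agent.S4653
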