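import Groth.Statements.S4658
import Groth.Agent.AssLib.Noetherian
import Groth.Agent.DCohLib.ClosedPush
import Groth.Agent.FactorOne.Basic
import Groth.Agent.DVRCrit.Local
import Groth.Agent.PullbackMod.SkyStalk
-- import your own Groth.Agent.* helpers here

set_option autoImplicit false
open CategoryTheory AlgebraicGeometry
set_option backward.isDefEq.respectTransparency false
universe u
open AssSch

namespace Groth.Agent.S4658

open CategoryTheory CategoryTheory.Limits AlgebraicGeometry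
open Groth.Agent

/-- The canonical map to the structure sheaf of a closed subscheme. -/
noncomputable def toClosed {X Z : Scheme.{u}} (i : Z ⟶ X) :
    Coh.structureModule X ⟶ (Scheme.Modules.pushforward i).obj (Coh.structureModule Z) :=
  FactorOne.ofSection _ (1 : Γ(Z, i ⁻¹ᵁ ⊤))

theorem toClosed_app {X Z : Scheme.{u}} (i : Z ⟶ X) (V : X.Opens) (c : Γ(X, V)) :
    (toClosed i).app V c = i.app V c := by
  rw [toClosed, FactorOne.ofSection_app]
  show (i.app V c : Γ(Z, i ⁻¹ᵁ V)) *
    (Z.presheaf.map (homOfLE (i.preimage_mono (le_top : V ≤ ⊤))).op : Γ(Z, i ⁻¹ᵁ ⊤) ⟶ Γ(Z, i ⁻¹ᵁ V))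
      (1 : Γ(Z, i ⁻¹ᵁ ⊤)) = _
  rw [map_one, mul_one]

theorem epi_toClosed {X Z : Scheme.{u}} (i : Z ⟶ X) [IsClosedImmersion i] : Epi (toClosed i) := by
  refine (PullbackMod.epi_iff_stalk _).2 fun y z ↦ ?_
  by_cases hy : y ∈ Set.range i
  swap
  · haveI := DCohLib.subsingleton_stalk_pushforward i (Coh.structureModule Z) y hy
    exact ⟨0, Subsingleton.elim _ _⟩
  obtain ⟨p, rfl⟩ := hy
  obtain ⟨U, hp, w, hw⟩ := TopCat.Presheaf.exists_germ_eq (Coh.structureModule Z).presheaf
    (DCohLib.pushStalk i (Coh.structureModule Z) p z)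
  obtain ⟨a, ha⟩ := i.stalkMap_surjective p (Z.presheaf.germ U p hp w)
  obtain ⟨V, hV, c, rfl⟩ := TopCat.Presheaf.exists_germ_eq X.presheaf a
  refine ⟨(Coh.structureModule X).presheaf.germ V (i p) hV c,
    (DCohLib.bijective_pushStalk i (Coh.structureModule Z) p).1 ?_⟩
  rw [PullbackMod.stalkLin_germ, DCohLib.pushStalk_germ, toClosed_app, ← hw]
  rw [Scheme.Hom.germ_stalkMap_apply] at ha
  obtain ⟨O, hO, i₁, i₂, hres⟩ := TopCat.Presheaf.germ_eq Z.presheaf p hV hp _ _ ha
  refine ((Coh.structureModule Z).presheaf.germ_res_apply i₁ p hO _).symm.trans ?_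
  refine Eq.trans ?_ ((Coh.structureModule Z).presheaf.germ_res_apply i₂ p hO _)
  exact congrArg _ hres

theorem toClosed_app_eq_zero_iff {X : Scheme.{u}} (x : X) (V : X.Opens) (c : Γ(X, V)) :
    (toClosed (Scheme.IdealSheafData.vanishingIdeal
        (⟨closure {x}, isClosed_closure⟩ : TopologicalSpace.Closeds X)).subschemeι).app V c = 0 ↔
      ∀ hx : x ∈ V, X.presheaf.germ V x hx c ∈ IsLocalRing.maximalIdeal (X.presheaf.stalk x) := by
  let I := Scheme.IdealSheafData.vanishingIdeal
    (⟨closure {x}, isClosed_closure⟩ : TopologicalSpace.Closeds X)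
  haveI : IsReduced I.subscheme :=
    DVRCrit.isReduced_vanishingIdeal (⟨closure {x}, isClosed_closure⟩ : TopologicalSpace.Closeds X)
  have hr : Set.range I.subschemeι = closure {x} := by
    rw [Scheme.IdealSheafData.range_subschemeι, Scheme.IdealSheafData.coe_support_vanishingIdeal]
    rfl
  have hiff : (∀ hx : x ∈ V, X.presheaf.germ V x hx c ∈
      IsLocalRing.maximalIdeal (X.presheaf.stalk x)) ↔ x ∉ X.basicOpen c := by
    refine ⟨fun h hb ↦ ?_, fun h hx ↦ ?_⟩
    · have hxV := X.basicOpen_le c hb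
      exact (IsLocalRing.mem_maximalIdeal _).1 (h hxV) ((X.mem_basicOpen c x hxV).1 hb)
    · rw [IsLocalRing.mem_maximalIdeal]
      exact fun hu ↦ h ((X.mem_basicOpen c x hx).2 hu)
  rw [hiff, toClosed_app]
  show I.subschemeι.app V c = 0 ↔ _
  rw [← basicOpen_eq_bot_iff, ← Scheme.preimage_basicOpen]
  constructor
  · intro h hx
    obtain ⟨z, hz⟩ : x ∈ Set.range I.subschemeι := hr.symm ▸ subset_closure rfl
    have hzm : z ∈ I.subschemeι ⁻¹ᵁ X.basicOpen c := by
      show I.subschemeι z ∈ X.basicOpen c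
      rw [hz]; exact hx
    rw [h] at hzm
    exact hzm
  · intro h
    refine le_bot_iff.mp fun z hz ↦ h ?_
    have hsp : x ⤳ I.subschemeι z := specializes_iff_mem_closure.mpr (hr ▸ ⟨z, rfl⟩)
    exact hsp.mem_open (X.basicOpen c).2 hz

/-- The monomorphism given by a section whose annihilator is the prime of the point. -/
theorem exists_mono {X : Scheme.{u}} (F : X.Modules) [Coh.IsQCoh F] (x : X) {W : X.Opens}
    (hW : IsAffineOpen W) (hxW : x ∈ W) (s : Γ(F, W))
    (hs : ∀ a : Γ(X, W), a • s = 0 ↔ a ∈ AssLib.pr hW hxW) :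
    ∃ φ : (Scheme.Modules.restrictFunctor W.ι).obj
        ((Scheme.Modules.pushforward (Scheme.IdealSheafData.vanishingIdeal
          (⟨closure {x}, isClosed_closure⟩ : TopologicalSpace.Closeds X)).subschemeι).obj
            (Coh.structureModule (Scheme.IdealSheafData.vanishingIdeal
              (⟨closure {x}, isClosed_closure⟩ : TopologicalSpace.Closeds X)).subscheme)) ⟶
        (Scheme.Modules.restrictFunctor W.ι).obj F, Mono φ := by
  let I := Scheme.IdealSheafData.vanishingIdeal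
    (⟨closure {x}, isClosed_closure⟩ : TopologicalSpace.Closeds X)
  let M' := (Scheme.Modules.pushforward W.ι).obj ((Scheme.Modules.restrictFunctor W.ι).obj F)
  have htop : W.ι ''ᵁ (W.ι ⁻¹ᵁ ⊤) ≤ W := W.ι_image_le _
  let s₀ : Γ(M', ⊤) := F.presheaf.map (homOfLE htop).op s
  let ψ : Coh.structureModule X ⟶ M' := FactorOne.ofSection M' s₀
  have hgerm : ∀ (V : X.Opens) (c : Γ(X, V)) (y : X) (hy : y ∈ W.ι ''ᵁ (W.ι ⁻¹ᵁ V)),
      F.presheaf.germ (W.ι ''ᵁ (W.ι ⁻¹ᵁ V)) y hy (ψ.app V c) =
        X.presheaf.germ V y (W.ι.image_preimage_le V hy) c •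
          F.presheaf.germ W y (W.ι_image_le _ hy) s := by
    intro V c y hy
    have hψ : (ψ.app V c : Γ(F, W.ι ''ᵁ (W.ι ⁻¹ᵁ V))) =
        X.presheaf.map (homOfLE (W.ι.image_preimage_le V)).op c •
          F.presheaf.map (homOfLE (W.ι_image_le (W.ι ⁻¹ᵁ V))).op s := by
      rw [show ψ.app V c = c • M'.presheaf.map (homOfLE le_top).op s₀ from FactorOne.ofSection_app _ _ V c]
      show ((W.ι.appIso (W.ι ⁻¹ᵁ V)).inv (W.ι.app V c) : Γ(X, W.ι ''ᵁ (W.ι ⁻¹ᵁ V))) •
        (F.presheaf.map (homOfLE ((W.ι.image_le_image_iff (W.ι ⁻¹ᵁ V) (W.ι ⁻¹ᵁ ⊤)).mpr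
          (W.ι.preimage_mono le_top))).op (F.presheaf.map (homOfLE htop).op s) :
            Γ(F, W.ι ''ᵁ (W.ι ⁻¹ᵁ V))) = _
      rw [← ConcreteCategory.comp_apply, ← ConcreteCategory.comp_apply, ← Functor.map_comp,
        W.ι.app_appIso_inv]
      rfl
    rw [hψ]
    refine (PresheafOfModules.germ_smul (R := X.presheaf) F.val y _ hy _ _).trans ?_
    exact congrArg₂ (· • ·) (X.presheaf.germ_res_apply _ _ _ c) (F.presheaf.germ_res_apply _ _ _ s)
  have hzero : ∀ (V : X.Opens) (c : Γ(X, V)),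
      ψ.app V c = 0 ↔ (toClosed I.subschemeι).app V c = 0 := by
    intro V c
    rw [toClosed_app_eq_zero_iff]
    constructor
    · intro h hx
      by_contra hu
      rw [IsLocalRing.notMem_maximalIdeal] at hu
      have hxV' : x ∈ W.ι ''ᵁ (W.ι ⁻¹ᵁ V) := by
        rw [Scheme.Hom.image_preimage_eq_opensRange_inf, Scheme.Opens.opensRange_ι]; exact ⟨hxW, hx⟩
      have h0 := hgerm V c x hxV'
      have h1 : F.presheaf.germ _ x hxV' (ψ.app V c) = 0 :=
        (congrArg _ h).trans (map_zero _)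
      rw [h1, eq_comm, hu.smul_eq_zero, AssLib.germ_eq_zero_iff hW hxW] at h0
      obtain ⟨a, ha, has⟩ := h0
      exact ha ((hs a).mp has)
    · intro h
      refine AssLib.eq_zero_of_germ F (show Γ(F, W.ι ''ᵁ (W.ι ⁻¹ᵁ V)) from ψ.app V c) fun y hy ↦ ?_
      refine (hgerm V c y hy).trans ?_
      have hyW : y ∈ W := W.ι_image_le _ hy
      have hyV : y ∈ V := W.ι.image_preimage_le V hy
      by_cases hxy : x ⤳ y
      · have hxV : x ∈ V := hxy.mem_open V.2 hyV
        letI : Algebra Γ(X, W) (X.presheaf.stalk y) :=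
          TopCat.Presheaf.algebra_section_stalk X.presheaf ⟨y, hyW⟩
        haveI := hW.isLocalization_stalk ⟨y, hyW⟩
        obtain ⟨⟨a, b⟩, hab⟩ := IsLocalization.surj (AssLib.pr hW hyW).primeCompl
          (X.presheaf.germ V y hyV c)
        have hsm : a ∈ AssLib.pr hW hxW := by
          rw [← AssLib.under_maximalIdeal hW hxW, Ideal.mem_comap]
          have h2 := congrArg (X.presheaf.stalkSpecializes hxy) hab
          rw [map_mul] at h2
          erw [TopCat.Presheaf.germ_stalkSpecializes_apply, TopCat.Presheaf.germ_stalkSpecializes_apply,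
            TopCat.Presheaf.germ_stalkSpecializes_apply] at h2
          exact h2 ▸ Ideal.mul_mem_right _ _ (h hxV)
        have hb : IsUnit (algebraMap Γ(X, W) (X.presheaf.stalk y) b.1) :=
          IsLocalization.map_units _ b
        rw [← hb.smul_eq_zero, smul_smul, mul_comm, hab]
        refine (PresheafOfModules.germ_smul (R := X.presheaf) F.val y W hyW a s).symm.trans ?_
        exact (congrArg _ ((hs a).mpr hsm)).trans (map_zero _)
      · rw [AssLib.specializes_iff hW hyW hxW, SetLike.not_le_iff_exists] at hxy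
        obtain ⟨a, hax, hay⟩ := hxy
        rw [(AssLib.germ_eq_zero_iff hW hyW s).mpr ⟨a, hay, (hs a).mpr hax⟩, smul_zero]
  haveI := epi_toClosed I.subschemeι
  have hker : kernel.ι (toClosed I.subschemeι) ≫ ψ = 0 :=
    Scheme.Modules.hom_ext _ _ fun V ↦ AddCommGrpCat.hom_ext (AddMonoidHom.ext fun t ↦
      (hzero V _).mpr congr($(kernel.condition (toClosed I.subschemeι)).app V t))
  obtain ⟨χ, hχ⟩ := CokernelCofork.IsColimit.desc' (Abelian.epiIsCokernelOfKernel
    (KernelFork.ofι _ (kernel.condition (toClosed I.subschemeι))) (kernelIsKernel _)) ψ hker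
  have hχ' : toClosed I.subschemeι ≫ χ = ψ := hχ
  haveI : Mono χ := by
    refine (PullbackMod.mono_iff_stalk χ).2 fun y ↦ (injective_iff_map_eq_zero _).mpr fun z hz ↦ ?_
    obtain ⟨w, rfl⟩ := (PullbackMod.epi_iff_stalk (toClosed I.subschemeι)).1 inferInstance y z
    obtain ⟨V, hy, c, rfl⟩ := TopCat.Presheaf.exists_germ_eq (Coh.structureModule X).presheaf w
    rw [PullbackMod.stalkLin_germ] at hz ⊢
    replace hz := (PullbackMod.stalkLin_germ χ y hy ((toClosed I.subschemeι).app V c)).symm.trans hz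
    rw [show χ.app V ((toClosed I.subschemeι).app V c) = ψ.app V c
      from congr($(hχ').app V c)] at hz
    obtain ⟨V', hy', i₁, i₂, hres⟩ := TopCat.Presheaf.germ_eq M'.presheaf y hy hy _ 0
      (hz.trans (map_zero _).symm)
    let c' : Γ(X, V') := X.presheaf.map i₁.op c
    have hc' : ψ.app V' c' = 0 := by
      refine (QCohLib.app_res ψ i₁.le c).trans ?_
      exact hres.trans (map_zero _)
    have h3 := (hzero V' c').mp hc'
    rw [show (toClosed I.subschemeι).app V' c' = _ from QCohLib.app_res (toClosed I.subschemeι) i₁.le c] at h3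
    rw [← TopCat.Presheaf.germ_res_apply _ i₁ y hy']
    exact (congrArg _ h3).trans (map_zero _)
  let adj := Scheme.Modules.restrictAdjunction W.ι
  refine ⟨(adj.homEquiv _ _).symm χ, ?_⟩
  rw [adj.homEquiv_counit]
  haveI : Mono ((Scheme.Modules.restrictFunctor W.ι).map χ) := by
    refine Preadditive.mono_of_cancel_zero _ fun {T} g hg ↦ ?_
    refine Scheme.Modules.hom_ext _ _ fun O ↦ AddCommGrpCat.hom_ext (AddMonoidHom.ext fun u ↦ ?_)
    haveI := (QCohLib.toAbF X).map_mono χ
    refine CohBase.sections_injective ((QCohLib.toAbF X).map χ) (W.ι ''ᵁ O) ?_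
    exact (congr($(hg).app O u)).trans (map_zero _).symm
  exact mono_comp _ _

/-- A stalk where a monomorphism from the reduced closure lives has the point associated. -/
theorem isAssPoint_of_mono {X : Scheme.{u}} (F : X.Modules) (x : X) (U : X.Opens) (hx : x ∈ U)
    (φ : (Scheme.Modules.restrictFunctor U.ι).obj
        ((Scheme.Modules.pushforward (Scheme.IdealSheafData.vanishingIdeal
          (⟨closure {x}, isClosed_closure⟩ : TopologicalSpace.Closeds X)).subschemeι).obj
            (Coh.structureModule (Scheme.IdealSheafData.vanishingIdeal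
              (⟨closure {x}, isClosed_closure⟩ : TopologicalSpace.Closeds X)).subscheme)) ⟶
        (Scheme.Modules.restrictFunctor U.ι).obj F) [Mono φ] :
    Curv2.IsAssPoint F x := by
  let I := Scheme.IdealSheafData.vanishingIdeal
    (⟨closure {x}, isClosed_closure⟩ : TopologicalSpace.Closeds X)
  let π := toClosed I.subschemeι
  let one : Γ(U, ⊤) := 1
  let t₀ : Γ((Scheme.Modules.pushforward I.subschemeι).obj (Coh.structureModule I.subscheme),
      U.ι ''ᵁ ⊤) := (1 : Γ(I.subscheme, I.subschemeι ⁻¹ᵁ (U.ι ''ᵁ ⊤)))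
  let t : Γ(F, U.ι ''ᵁ ⊤) := φ.app ⊤ t₀
  have hxU : x ∈ U.ι ''ᵁ (⊤ : U.toScheme.Opens) := by
    rw [U.ι.image_top_eq_opensRange, Scheme.Opens.opensRange_ι]; exact hx
  refine ⟨(IsLocalRing.maximalIdeal.isMaximal _).isPrime, F.presheaf.germ _ x hxU t, ?_⟩
  have hinj : ∀ (O : U.toScheme.Opens), Function.Injective (φ.app O) := fun O ↦ by
    haveI := (QCohLib.toAbF U.toScheme).map_mono φ
    exact CohBase.sections_injective ((QCohLib.toAbF U.toScheme).map φ) O
  have hiff : ∀ (O : U.toScheme.Opens) (hxO : x ∈ U.ι ''ᵁ O) (a : Γ(X, U.ι ''ᵁ O)),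
      a • F.presheaf.map (homOfLE ((U.ι.image_le_image_iff O ⊤).mpr le_top)).op t = 0 ↔
      X.presheaf.germ _ x hxO a ∈ IsLocalRing.maximalIdeal (X.presheaf.stalk x) := by
    intro O hxO a
    let p : Γ((Scheme.Modules.restrictFunctor U.ι).obj
        ((Scheme.Modules.pushforward I.subschemeι).obj (Coh.structureModule I.subscheme)), O) :=
      π.app (U.ι ''ᵁ O) a
    have hp : φ.app O p =
        a • F.presheaf.map (homOfLE ((U.ι.image_le_image_iff O ⊤).mpr le_top)).op t := by
      have e1 : p = ((U.ι.appIso O).hom a : Γ(U, O)) •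
          (((Scheme.Modules.restrictFunctor U.ι).obj
            ((Scheme.Modules.pushforward I.subschemeι).obj (Coh.structureModule I.subscheme))).presheaf.map
              (homOfLE (le_top : O ≤ ⊤)).op t₀) := by
        show π.app (U.ι ''ᵁ O) a = (U.ι.appIso O).inv ((U.ι.appIso O).hom a) •
          ((Scheme.Modules.pushforward I.subschemeι).obj (Coh.structureModule I.subscheme)).presheaf.map
            (homOfLE ((U.ι.image_le_image_iff O ⊤).mpr le_top)).op t₀
        rw [Iso.hom_inv_id_apply, toClosed_app]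
        show I.subschemeι.app (U.ι ''ᵁ O) a = (I.subschemeι.app (U.ι ''ᵁ O) a :
          Γ(I.subscheme, I.subschemeι ⁻¹ᵁ (U.ι ''ᵁ O))) *
            (I.subscheme.presheaf.map (homOfLE (I.subschemeι.preimage_mono
              ((U.ι.image_le_image_iff O ⊤).mpr le_top))).op :
                Γ(I.subscheme, I.subschemeι ⁻¹ᵁ (U.ι ''ᵁ ⊤)) ⟶ Γ(I.subscheme, I.subschemeι ⁻¹ᵁ (U.ι ''ᵁ O)))
              (1 : Γ(I.subscheme, I.subschemeι ⁻¹ᵁ (U.ι ''ᵁ ⊤)))
        rw [map_one, mul_one]
      rw [e1, Scheme.Modules.Hom.app_smul, QCohLib.app_res]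
      show ((U.ι.appIso O).inv ((U.ι.appIso O).hom a) : Γ(X, U.ι ''ᵁ O)) •
        (F.presheaf.map (homOfLE ((U.ι.image_le_image_iff O ⊤).mpr le_top)).op t :
          Γ(F, U.ι ''ᵁ O)) = _
      rw [Iso.hom_inv_id_apply]
    rw [← hp, map_eq_zero_iff _ (hinj O)]
    refine (toClosed_app_eq_zero_iff x (U.ι ''ᵁ O) a).trans ⟨fun h ↦ h hxO, fun h _ ↦ h⟩
  have hle : ∀ a : X.presheaf.stalk x, a • F.presheaf.germ _ x hxU t = 0 ↔
      a ∈ IsLocalRing.maximalIdeal (X.presheaf.stalk x) := by
    intro a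
    obtain ⟨V, hV, c, rfl⟩ := TopCat.Presheaf.exists_germ_eq X.presheaf a
    have hOV : ∀ O : U.toScheme.Opens, O ≤ U.ι ⁻¹ᵁ V → U.ι ''ᵁ O ≤ V := fun O h ↦
      ((U.ι.image_le_image_iff _ _).mpr h).trans (U.ι.image_preimage_le V)
    constructor
    · intro h
      have hle0 : U.ι ''ᵁ (U.ι ⁻¹ᵁ V) ≤ U.ι ''ᵁ ⊤ := (U.ι.image_le_image_iff _ _).mpr le_top
      have hx0 : x ∈ U.ι ''ᵁ (U.ι ⁻¹ᵁ V) := by
        rw [Scheme.Hom.image_preimage_eq_opensRange_inf, Scheme.Opens.opensRange_ι]; exact ⟨hx, hV⟩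
      rw [← X.presheaf.germ_res_apply (homOfLE (U.ι.image_preimage_le V)) x hx0 c,
        ← F.presheaf.germ_res_apply (homOfLE hle0) x hx0 t] at h
      have h1 : F.presheaf.germ _ x hx0 (X.presheaf.map (homOfLE (U.ι.image_preimage_le V)).op c •
          F.presheaf.map (homOfLE hle0).op t) = 0 :=
        (PresheafOfModules.germ_smul (R := X.presheaf) F.val x _ hx0 _ _).trans h
      obtain ⟨V', hx', i₁, i₂, hres⟩ := TopCat.Presheaf.germ_eq F.presheaf x hx0 hx0 _ 0
        (h1.trans (map_zero _).symm)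
      have hV'eq : U.ι ''ᵁ (U.ι ⁻¹ᵁ V') = V' := by
        rw [Scheme.Hom.image_preimage_eq_opensRange_inf, Scheme.Opens.opensRange_ι]
        exact inf_eq_right.mpr (i₁.le.trans (U.ι_image_le _))
      obtain ⟨j, hj⟩ : ∃ j : U.ι ''ᵁ (U.ι ⁻¹ᵁ V') ≤ U.ι ''ᵁ (U.ι ⁻¹ᵁ V), True :=
        ⟨hV'eq.le.trans i₁.le, trivial⟩
      have hx'' : x ∈ U.ι ''ᵁ (U.ι ⁻¹ᵁ V') := hV'eq.symm ▸ hx'
      have hz : F.presheaf.map (homOfLE j).op (X.presheaf.map (homOfLE (U.ι.image_preimage_le V)).op c •
          F.presheaf.map (homOfLE hle0).op t) = 0 := by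
        have := congrArg (F.presheaf.map (homOfLE hV'eq.le).op) hres
        rw [← ConcreteCategory.comp_apply, ← Functor.map_comp, map_zero, map_zero] at this
        exact this
      rw [Scheme.Modules.map_smul] at hz
      rw [← X.presheaf.germ_res_apply (homOfLE (U.ι.image_preimage_le V)) x hx0 c,
        ← X.presheaf.germ_res_apply (homOfLE j) x hx'' _]
      refine (hiff _ hx'' _).mp (Eq.trans ?_ hz)
      rw [← ConcreteCategory.comp_apply, ← ConcreteCategory.comp_apply, ← Functor.map_comp,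
        ← Functor.map_comp]
      rfl
    · intro h
      have hx0 : x ∈ U.ι ''ᵁ (U.ι ⁻¹ᵁ V) := by
        rw [Scheme.Hom.image_preimage_eq_opensRange_inf, Scheme.Opens.opensRange_ι]; exact ⟨hx, hV⟩
      rw [← X.presheaf.germ_res_apply (homOfLE (U.ι.image_preimage_le V)) x hx0 c] at h ⊢
      have h2 := (hiff _ hx0 _).mpr h
      refine Eq.trans ?_ ((congrArg (F.presheaf.germ _ x hx0) h2).trans (map_zero _))
      refine Eq.trans ?_ (PresheafOfModules.germ_smul (R := X.presheaf) F.val x _ hx0 _ _).symm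
      exact congrArg (_ • ·) (F.presheaf.germ_res_apply _ _ _ t).symm
  ext a
  rw [Ideal.mem_radical_iff]
  constructor
  · exact fun ha ↦ ⟨1, by rw [pow_one, Submodule.mem_colon_singleton, Submodule.mem_bot]; exact (hle a).mpr ha⟩
  · rintro ⟨n, hn⟩
    rw [Submodule.mem_colon_singleton, Submodule.mem_bot, hle] at hn
    exact (IsLocalRing.maximalIdeal.isMaximal _).isPrime.mem_of_pow_mem n hn

/-- Let X be a locally Noetherian scheme, F a quasi-coherent O_X-module and x a point of X; let Z be the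
reduced closed subscheme of X whose underlying space is the closure of x, and O_Z its structure
sheaf viewed as an O_X-module. Then x is an associated point of F if and only if x has an open
neighbourhood U over which there is a monomorphism of O_U-modules O_Z|_U → F|_U. -/
theorem result {X : Scheme.{u}} [IsLocallyNoetherian X] (F : X.Modules)
    (hF : Coh.IsQCoh F) (x : X) :
    x ∈ AssSch.Ass F ↔ ∃ (U : X.Opens), x ∈ U ∧
      ∃ φ : (Scheme.Modules.pullback U.ι).obj
              ((Scheme.Modules.pushforward (Scheme.IdealSheafData.vanishingIdeal ⟨closure {x}, isClosed_closure⟩).subschemeι).obj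
                (Coh.structureModule (Scheme.IdealSheafData.vanishingIdeal ⟨closure {x}, isClosed_closure⟩).subscheme)) ⟶
            (Scheme.Modules.pullback U.ι).obj F, Mono φ := by
  haveI := hF
  let e := fun (U : X.Opens) ↦ Scheme.Modules.restrictFunctorIsoPullback U.ι
  constructor
  · intro hx
    obtain ⟨W, hW, hxW, -⟩ := Groth.Agent.AssLib.exists_affine_mem x (U := ⊤) trivial
    haveI := Groth.Agent.QCohLib.isNoetherianRing_section hW
    obtain ⟨-, s, hs⟩ := isAssociatedPrime_iff.mp ((Groth.Agent.AssLib.isAssPoint_iff hW hxW).mp hx)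
    obtain ⟨φ, hφ⟩ := exists_mono F x hW hxW s (fun a ↦ by
      rw [hs, Submodule.mem_colon_singleton, Submodule.mem_bot])
    haveI := hφ
    exact ⟨W, hxW, (e W).inv.app _ ≫ φ ≫ (e W).hom.app _, inferInstance⟩
  · rintro ⟨U, hxU, φ, hφ⟩
    haveI := hφ
    exact isAssPoint_of_mono F x U hxU ((e U).hom.app _ ≫ φ ≫ (e U).inv.app _)

end Groth.Agent.S4658
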