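import Groth.Statements.S4659
import Groth.Agent.FBaseLib.RedModScheme
import Groth.Agent.GeomRedPtLib.PInsep
import Groth.Agent.GeomRedPtLib.Basic
set_option backward.isDefEq.respectTransparency false
open TensorProduct
-- import your own Groth.Agent.* helpers here

set_option autoImplicit false
open CategoryTheory AlgebraicGeometry
universe u
open FBase

namespace Groth.Agent.S4659

/-- Let X be a locally Noetherian scheme over a field k and F a coherent O_X-module. Then F ⊗_k k' is a
reduced module on X ⊗_k k' for every finite purely inseparable extension k' of k if and only if F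
⊗_k K is a reduced module on X ⊗_k K for every extension K of k for which X ⊗_k K is locally
Noetherian. (The published statement takes K finitely generated over k, a hypothesis used only to
make X ⊗_k K locally Noetherian.) -/
theorem result {k : Type u} [Field k] {X : Scheme.{u}} [IsLocallyNoetherian X]
    (f : X ⟶ Spec (CommRingCat.of k)) (F : X.Modules) (hF : Coh.IsCoh F) :
    (∀ (k' : Type u) [Field k'] [Algebra k k'] [FiniteDimensional k k'] [IsPurelyInseparable k k'],
        AssSch.IsReducedMod ((Scheme.Modules.pullback (FBase.bcπ f k')).obj F)) ↔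
      ∀ (K : Type u) [Field K] [Algebra k K] [IsLocallyNoetherian (FBase.bc f K)],
        AssSch.IsReducedMod ((Scheme.Modules.pullback (FBase.bcπ f K)).obj F) := by
  have hfin : ∀ (k' : Type u) [Field k'] [Algebra k k'] [FiniteDimensional k k'], IsLocallyNoetherian (FBase.bc f k') := by
    intro k' _ _ _
    haveI : IsFinite (Spec.map (CommRingCat.ofHom (algebraMap k k'))) := by
      rw [IsFinite.SpecMap_iff]
      exact RingHom.finite_algebraMap.mpr inferInstance
    haveI : IsFinite (FBase.bcπ f k') := MorphismProperty.pullback_fst f _ inferInstance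
    exact LocallyOfFiniteType.isLocallyNoetherian (FBase.bcπ f k')
  constructor
  · intro h K _ _ _
    haveI := hF.1
    refine FBaseLib.isReducedMod_of_cover (PullbackMod.isCoh_pullback _ _ hF) fun z => ?_
    obtain ⟨W, hW, hzW, -⟩ := AssLib.exists_affine_mem (FBase.bcπ f K z) (U := ⊤) trivial
    haveI : IsAffineHom (FBase.bcπ f K) := MorphismProperty.pullback_fst (P := @IsAffineHom) _ _ inferInstance
    refine ⟨_, hW.preimage (FBase.bcπ f K), hzW, ?_⟩
    haveI := hfin k
    have hred : ∀ (k' : Type u) [Field k'] [Algebra k k'] [FiniteDimensional k k'] [IsPurelyInseparable k k'],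
        FBaseLib.RedMod Γ(FBase.bc f k', FBase.bcπ f k' ⁻¹ᵁ W)
          Γ((Scheme.Modules.pullback (FBase.bcπ f k')).obj F, FBase.bcπ f k' ⁻¹ᵁ W) := by
      intro k' _ _ _ _
      haveI := hfin k'
      haveI : IsAffineHom (FBase.bcπ f k') := MorphismProperty.pullback_fst (P := @IsAffineHom) _ _ inferInstance
      exact (FBaseLib.isReducedMod_iff (PullbackMod.isCoh_pullback _ _ hF)).1 (h k') _ (hW.preimage _)
    have hM : FBaseLib.RedMod Γ(X, W) Γ(F, W) := FBaseLib.redMod_of_bc_self f hF hW (hred k)
    letI := FBaseLib.secAlg f W
    refine (FBaseLib.redMod_bc_iff f K hF hW hM).2 fun P hP _ => ?_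
    haveI : Algebra.IsGeometricallyReduced k P.ResidueField :=
      GeomRedPtLib.isGeometricallyReduced_of_pinsep k P.ResidueField fun k' _ _ _ _ => by
        haveI := hfin k'
        exact (FBaseLib.redMod_bc_iff f k' hF hW hM).1 (hred k') P hP
    exact GeomRedPtLib.isReduced_tensor_field (k := k) P.ResidueField K
  · intro h k' _ _ _ _
    haveI := hfin k'
    exact h k'

end Groth.Agent.S4659
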