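import Groth.Statements.S4660
import Groth.Agent.SuppLib.Basic
import Groth.Agent.GeomIrred.FinSep
import Groth.Agent.GeomIrred.Scheme
import Groth.Agent.S4659
import Groth.Agent.AssLib.Push
-- import your own Groth.Agent.* helpers here

set_option autoImplicit false
open CategoryTheory AlgebraicGeometry
universe u
open FBase

namespace Groth.Agent.S4660


section

open CategoryTheory.Limits TopologicalSpace
open Groth.Agent

variable {k : Type u} [Field k] {X : Scheme.{u}} (f : X ⟶ Spec (CommRingCat.of k))

theorem mem_support_of_mem_ass {Y : Scheme.{u}} {M : Y.Modules} {y : Y} (h : y ∈ AssSch.Ass M) :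
    y ∈ CohB1.support M := fun hs => by
  obtain ⟨hp, m, hm⟩ := (h : IsAssociatedPrime _ _)
  haveI := hs
  refine hp.ne_top (hm.trans (Ideal.radical_eq_top.2 (eq_top_iff.2 fun a _ => ?_)))
  rw [Submodule.mem_colon_singleton, Submodule.mem_bot]
  exact Subsingleton.elim _ _

theorem exists_ass_of_mem_support {Y : Scheme.{u}} {M : Y.Modules} [Coh.IsQCoh M] {z : Y}
    (h : z ∈ CohB1.support M) : ∃ y ∈ AssSch.Ass M, y ⤳ z := by
  haveI : Nontrivial (M.presheaf.stalk z) := not_subsingleton_iff_nontrivial.1 h
  obtain ⟨m, hm⟩ := exists_ne (0 : M.presheaf.stalk z)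
  obtain ⟨V, hz, s, rfl⟩ := M.presheaf.exists_germ_eq m
  obtain ⟨y, -, hyz, hy, -⟩ := AssLib.exists_isWeakAssPoint s hz hm
  exact ⟨y, (AssLib.isWeakAssPoint_iff_isAssPoint M y).1 hy, hyz⟩

/-- The fibre of a base change over `x`, as a base change of `Spec κ(x)`. -/
noncomputable def fibreIso (K : Type u) [Field K] [Algebra k K] (x : X) :
    (FBase.bcπ f K).fiber x ≅ GeomIrred.bcs (X.fromSpecResidueField x ≫ f) K :=
  pullbackSymmetry _ _ ≪≫ pullbackRightPullbackFstIso f _ (X.fromSpecResidueField x)

theorem irreducible_fibre_of_forall_specializes {Y : Scheme.{u}} (π : Y ⟶ X) (x : X) {η : Y} (hη : π η = x)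
    (h : ∀ z, π z = x → η ⤳ z) : IrreducibleSpace (π.fiber x) := by
  let e := π.fiberHomeo x
  have hgen : IsGenericPoint (e.symm ⟨η, hη⟩) (Set.univ : Set (π.fiber x)) := by
    refine isGenericPoint_iff_specializes.2 fun w => ⟨fun _ => trivial, fun _ => ?_⟩
    rw [← (π.fiberι x).isEmbedding.isInducing.specializes_iff, Scheme.Hom.fiberι_fiberHomeo_symm]
    exact h _ (e w).2
  exact (irreducibleSpace_def _).2 hgen.isIrreducible

theorem geometricallyIrreducible_residue {x : X}
    (h : ∀ (k' : Type u) [Field k'] [Algebra k k'] [FiniteDimensional k k'],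
      IrreducibleSpace ((FBase.bcπ f k').fiber x)) :
    GeometricallyIrreducible (X.fromSpecResidueField x ≫ f) := by
  let g := X.fromSpecResidueField x ≫ f
  haveI : IrreducibleSpace (GeomIrred.bcs g (SeparableClosure k)) :=
    GeomIrred.irreducibleSpace_bcs g _ fun L hL => by
      haveI := hL
      haveI := h L
      exact (fibreIso f L x).hom.homeomorph.irreducibleSpace_iff.1 inferInstance
  exact GeomIrred.geometricallyIrreducible_of_irreducible_pullback g (SeparableClosure k)

theorem exists_ass_eq_singleton (K : Type u) [Field K] [Algebra k K] [IsLocallyNoetherian X]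
    [IsLocallyNoetherian (FBase.bc f K)] {F : X.Modules} (hF : Coh.IsCoh F) {x : X}
    (hx : x ∈ CohB1.support F) (hsupp : ∀ y ∈ CohB1.support F, x ⤳ y)
    (hred : AssSch.NoEmbedded ((Scheme.Modules.pullback (FBase.bcπ f K)).obj F))
    [IrreducibleSpace ((FBase.bcπ f K).fiber x)] :
    ∃ η, AssSch.Ass ((Scheme.Modules.pullback (FBase.bcπ f K)).obj F) = {η} := by
  haveI := hF.1
  let π := FBase.bcπ f K
  let G := (Scheme.Modules.pullback π).obj F
  haveI : Coh.IsQCoh G := (PullbackMod.isCoh_pullback π F hF).1
  have hsG : CohB1.support G = π ⁻¹' CohB1.support F := SuppLib.support_pullback π F hF.2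
  haveI : Flat (Spec.map (CommRingCat.ofHom (algebraMap k K))) :=
    Flat.SpecMap_iff.2 (RingHom.flat_algebraMap_iff.2 inferInstance)
  haveI : Flat π := inferInstanceAs (Flat (pullback.fst f (Spec.map (CommRingCat.ofHom (algebraMap k K)))))
  have hfib : ∀ y ∈ AssSch.Ass G, π y = x := fun y hy => by
    have hy' : π y ∈ CohB1.support F := hsG.le (mem_support_of_mem_ass hy)
    obtain ⟨z, hzy, hz⟩ := Flat.generalizingMap π (hsupp _ hy')
    obtain ⟨y', hy'A, hy'z⟩ := exists_ass_of_mem_support (M := G) (hsG.ge (show π z ∈ CohB1.support F by rw [hz]; exact hx))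
    have e : y = y' := (hred y hy y' hy'A (hy'z.trans hzy))
    subst e
    rw [← hz, (hy'z.antisymm hzy).eq]
  let η₀ := genericPoint (π.fiber x)
  let η := π.fiberι x η₀
  have hηx : π η = x := (π.fiberHomeo x η₀).2
  have hηle : ∀ y, π y = x → η ⤳ y := fun y hy => by
    have := (genericPoint_specializes ((π.fiberHomeo x).symm ⟨y, hy⟩)).map (π.fiberι x).continuous
    rwa [Scheme.Hom.fiberι_fiberHomeo_symm] at this
  obtain ⟨y, hyA, hyη⟩ := exists_ass_of_mem_support (M := G) (hsG.ge (show π η ∈ CohB1.support F by rw [hηx]; exact hx))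
  have e : y = η := (hyη.antisymm (hηle y (hfib y hyA))).eq
  subst e
  exact ⟨η, Set.eq_singleton_iff_unique_mem.2 ⟨hyA, fun z hz => (hred z hz η hyA (hηle z (hfib z hz)))⟩⟩

end

/-- Let X be a locally Noetherian scheme over a field k and F a coherent O_X-module. A coherent module
is called integral when it has exactly one associated point and its stalk at that point has length
one over the local ring. Then F ⊗_k k' is integral on X ⊗_k k' for every finite extension k' of k if
and only if F ⊗_k K is integral on X ⊗_k K for every extension K of k such that X ⊗_k K is locally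
Noetherian. (The published statement takes K finitely generated over k, a hypothesis used only to
make X ⊗_k K locally Noetherian.) -/
theorem result {k : Type u} [Field k] {X : Scheme.{u}} [IsLocallyNoetherian X]
    (f : X ⟶ Spec (CommRingCat.of k)) (F : X.Modules) (hF : Coh.IsCoh F) :
    (∀ (k' : Type u) [Field k'] [Algebra k k'] [FiniteDimensional k k'],
        ∃ x' : ↥(FBase.bc f k'), AssSch.Ass ((Scheme.Modules.pullback (FBase.bcπ f k')).obj F) = {x'} ∧
          Module.length ↑((FBase.bc f k').presheaf.stalk x') ↑(((Scheme.Modules.pullback (FBase.bcπ f k')).obj F).presheaf.stalk x') = 1) ↔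
      ∀ (K : Type u) [Field K] [Algebra k K] [IsLocallyNoetherian (FBase.bc f K)],
        ∃ x' : ↥(FBase.bc f K), AssSch.Ass ((Scheme.Modules.pullback (FBase.bcπ f K)).obj F) = {x'} ∧
          Module.length ↑((FBase.bc f K).presheaf.stalk x') ↑(((Scheme.Modules.pullback (FBase.bcπ f K)).obj F).presheaf.stalk x') = 1 := by
  classical
  have hfin : ∀ (k' : Type u) [Field k'] [Algebra k k'] [FiniteDimensional k k'], IsLocallyNoetherian (FBase.bc f k') := by
    intro k' _ _ _
    haveI : IsFinite (Spec.map (CommRingCat.ofHom (algebraMap k k'))) := by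
      rw [IsFinite.SpecMap_iff]
      exact RingHom.finite_algebraMap.mpr inferInstance
    haveI : IsFinite (FBase.bcπ f k') := inferInstanceAs (IsFinite (Limits.pullback.fst f (Spec.map (CommRingCat.ofHom (algebraMap k k')))))
    exact LocallyOfFiniteType.isLocallyNoetherian (FBase.bcπ f k')
  refine ⟨fun h K _ _ _ => ?_, fun h k' _ _ _ => by haveI := hfin k'; exact h k'⟩
  haveI := hF.1
  have hred : AssSch.IsReducedMod ((Scheme.Modules.pullback (FBase.bcπ f K)).obj F) :=
    (Groth.Agent.S4659.result f F hF).1 (fun k' _ _ _ _ => by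
      obtain ⟨x', hx', hl⟩ := h k'
      refine ⟨fun a ha b hb _ => ?_, fun a ha => ?_⟩
      · rw [hx'] at ha hb
        exact (Set.mem_singleton_iff.1 ha).trans (Set.mem_singleton_iff.1 hb).symm
      · rw [hx'] at ha
        obtain rfl := Set.mem_singleton_iff.1 ha
        exact hl) K
  -- facts at a finite extension
  have main : ∀ (k' : Type u) [Field k'] [Algebra k k'] [FiniteDimensional k k'], ∃ x : X,
      x ∈ CohB1.support F ∧ (∀ y ∈ CohB1.support F, x ⤳ y) ∧ IrreducibleSpace ((FBase.bcπ f k').fiber x) := by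
    intro k' _ _ _
    obtain ⟨η, hη, -⟩ := h k'
    let π := FBase.bcπ f k'
    let G := (Scheme.Modules.pullback π).obj F
    haveI : Coh.IsQCoh G := (Groth.Agent.PullbackMod.isCoh_pullback π F hF).1
    have hsG : CohB1.support G = π ⁻¹' CohB1.support F := Groth.Agent.SuppLib.support_pullback π F hF.2
    haveI : Surjective (Spec.map (CommRingCat.ofHom (algebraMap k k'))) := Groth.Agent.GeomIrred.surjective_specMap_field k k'
    haveI : Surjective π := inferInstanceAs (Surjective (Limits.pullback.fst f (Spec.map (CommRingCat.ofHom (algebraMap k k')))))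
    have hmem : η ∈ AssSch.Ass G := by rw [show AssSch.Ass G = _ from hη]; rfl
    have hgen : ∀ z ∈ CohB1.support G, η ⤳ z := fun z hz => by
      obtain ⟨y, hy, hyz⟩ := exists_ass_of_mem_support hz
      rw [show AssSch.Ass G = _ from hη, Set.mem_singleton_iff] at hy
      exact hy ▸ hyz
    have hxS : π η ∈ CohB1.support F := hsG.le (mem_support_of_mem_ass hmem)
    refine ⟨π η, hxS, fun y hy => ?_, irreducible_fibre_of_forall_specializes π _ rfl fun z hz => ?_⟩
    · obtain ⟨z, rfl⟩ := π.surjective y
      exact (hgen z (hsG.ge hy)).map π.continuous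
    · exact hgen z (hsG.ge (show π z ∈ CohB1.support F by rw [hz]; exact hxS))
  obtain ⟨x, hx, hsupp, -⟩ := main k
  haveI := geometricallyIrreducible_residue f (x := x) fun k' _ _ _ => by
    obtain ⟨x', hx', hsupp', hirr⟩ := main k'
    obtain rfl : x = x' := ((hsupp x' hx').antisymm (hsupp' x hx)).eq
    exact hirr
  haveI : IrreducibleSpace (Groth.Agent.GeomIrred.bcs (X.fromSpecResidueField x ≫ f) K) :=
    pullback_of_geometrically (GeometricallyIrreducible.geometrically_irreducibleSpace) _ _
  haveI : IrreducibleSpace ((FBase.bcπ f K).fiber x) :=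
    (fibreIso f K x).hom.homeomorph.irreducibleSpace_iff.2 inferInstance
  obtain ⟨η, hη⟩ := exists_ass_eq_singleton f K hF hx hsupp hred.1
  exact ⟨η, hη, hred.2 η (by rw [hη]; rfl)⟩

end Groth.Agent.S4660
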