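import Groth.Statements.S4661
import Groth.Agent.FBaseLib.RedTensorScheme
import Groth.Agent.S2546
import Groth.Agent.S4659
import Groth.Agent.PullbackMod.Flat
set_option backward.isDefEq.respectTransparency false
-- import your own Groth.Agent.* helpers here

set_option autoImplicit false
open CategoryTheory AlgebraicGeometry
universe u
open FBase

namespace Groth.Agent.S4661

open CategoryTheory.Limits in
/-- Let X and Y be locally Noetherian schemes over a field k such that X ×_k Y is locally Noetherian, F
a coherent O_X-module which is geometrically reduced over k (F ⊗_k k' is a reduced module for every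
finite purely inseparable extension k' of k) and G a coherent O_Y-module which is a reduced module.
Then F ⊗_k G, i.e. the tensor product on X ×_k Y of the inverse images of F and G, is a reduced
module. -/
theorem result {k : Type u} [Field k] {X Y : Scheme.{u}}
    [IsLocallyNoetherian X] [IsLocallyNoetherian Y] (f : X ⟶ Spec (CommRingCat.of k)) (g : Y ⟶ Spec (CommRingCat.of k))
    [IsLocallyNoetherian (pullback f g)] (F : X.Modules) (hF : Coh.IsCoh F) (G : Y.Modules) (hG : Coh.IsCoh G)
    (hFgr : ∀ (k' : Type u) [Field k'] [Algebra k k'] [FiniteDimensional k k'] [IsPurelyInseparable k k'],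
      AssSch.IsReducedMod ((Scheme.Modules.pullback (FBase.bcπ f k')).obj F))
    (hGr : AssSch.IsReducedMod G) :
    AssSch.IsReducedMod (CohB1.tensorMod ((Scheme.Modules.pullback (pullback.fst f g)).obj F)
      ((Scheme.Modules.pullback (pullback.snd f g)).obj G)) := by
  haveI := hF.1
  let F' := (Scheme.Modules.pullback (pullback.fst f g)).obj F
  have hF' : Coh.IsCoh F' := PullbackMod.isCoh_pullback _ _ hF
  have hflat : FlatMod.IsFlatOver (pullback.snd f g) F' := fun z =>
    PullbackMod.isFlatOverAt_baseChange (IsPullback.of_hasPullback f g) F z (FBaseLib.isFlatOver_specField f F _)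
  have hG' : Coh.IsCoh ((Scheme.Modules.pullback (pullback.snd f g)).obj G) := PullbackMod.isCoh_pullback _ _ hG
  refine FBaseLib.isReducedMod_tensor_comm hG' hF' ((S2546.result (pullback.snd f g) G hG F' hF' hflat).2 ?_)
  intro y hy
  refine ⟨fun y' hy' hsp => (hGr.1 y hy.1 y' hy' hsp).symm, hGr.2 y hy.1, ?_⟩
  -- the fibre over `y` is the base change of `X` to the residue field of `y`
  let K := Y.residueField y
  letI : Algebra k K := (Spec.preimage (Y.fromSpecResidueField y ≫ g)).hom.toAlgebra
  have ht : Spec.map (CommRingCat.ofHom (algebraMap k K)) = Y.fromSpecResidueField y ≫ g := Spec.map_preimage _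
  let P := (pullback.snd f g).fiber y
  haveI hP : IsLocallyNoetherian P := FBaseLib.isLocallyNoetherian_fibre _ y
  have hsq : IsPullback ((pullback.snd f g).fiberι y ≫ pullback.fst f g) ((pullback.snd f g).fiberToSpecResidueField y)
      f (Spec.map (CommRingCat.ofHom (algebraMap k K))) := by
    rw [ht]
    exact (IsPullback.of_hasPullback _ _).flip.paste_vert (IsPullback.of_hasPullback f g).flip |>.flip
  let e : P ≅ FBase.bc f K := hsq.isoPullback
  have he : e.hom ≫ FBase.bcπ f K = (pullback.snd f g).fiberι y ≫ pullback.fst f g := hsq.isoPullback_hom_fst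
  haveI : IsLocallyNoetherian (FBase.bc f K) := isLocallyNoetherian_of_isOpenImmersion e.inv
  have h1 := (S4659.result f F hF).1 hFgr K
  have hB : Coh.IsCoh ((Scheme.Modules.pullback (FBase.bcπ f K)).obj F) := PullbackMod.isCoh_pullback _ _ hF
  have h2 := FBaseLib.isReducedMod_pullback_iso e.hom hB h1
  refine FBaseLib.isReducedMod_of_iso (PullbackMod.isCoh_pullback _ _ hF') ?_ h2
  exact (Scheme.Modules.pullbackComp e.hom (FBase.bcπ f K)).app F ≪≫ (Scheme.Modules.pullbackCongr he).app F ≪≫
    ((Scheme.Modules.pullbackComp ((pullback.snd f g).fiberι y) (pullback.fst f g)).app F).symm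

end Groth.Agent.S4661
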