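import Groth.Statements.S4666
import Groth.Agent.IdealStalkLib.Comap
import Mathlib.RingTheory.TensorProduct.Quotient
import Mathlib.RingTheory.Ideal.Colon

set_option autoImplicit false
open CategoryTheory AlgebraicGeometry
universe u
open FDesc

namespace Groth.Agent.S4666

/-- Let f : X → Y be a flat and surjective morphism of schemes. Then the map sending a quasi-coherent
sheaf of ideals of O_Y (a closed subscheme of Y) to its inverse image in X is injective. -/
theorem result {X Y : Scheme.{u}} (f : X ⟶ Y) [Flat f] [Surjective f] :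
    Function.Injective fun J : Y.IdealSheafData => J.comap f := by
  intro J₁ J₂ h
  suffices H : ∀ J J' : Y.IdealSheafData, J.comap f = J'.comap f → J ≤ J' from
    le_antisymm (H _ _ h) (H _ _ h.symm)
  clear h J₁ J₂
  intro J J' h U a ha
  let A := Γ(Y, U.1)
  let I : Ideal A := J'.ideal U
  let c : Ideal A := I.colon {a}
  by_contra haI
  have hc : c ≠ ⊤ := fun h' => haI (by
    have h1 : (1 : A) ∈ c := h' ▸ Submodule.mem_top
    simpa [c, I, Submodule.mem_colon_singleton] using h1)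
  obtain ⟨m, hm, hcm⟩ := Ideal.exists_le_maximal c hc
  let y : Y := U.2.fromSpec (⟨m, hm.isPrime⟩ : PrimeSpectrum A)
  obtain ⟨x, hx⟩ := f.surjective y
  have hyU : y ∈ U.1 := U.2.range_fromSpec.subset ⟨_, rfl⟩
  obtain ⟨_, ⟨V : X.Opens, (hV : IsAffineOpen V), rfl⟩, hxV, hle⟩ :=
    X.isBasis_affineOpens.exists_subset_of_mem_open (a := x) (u := ↑(f ⁻¹ᵁ U.1)) (show f x ∈ U.1 by rw [hx]; exact hyU) (f ⁻¹ᵁ U.1).2
  letI : Algebra A Γ(X, V) := (f.appLE U.1 V hle).hom.toAlgebra
  haveI : Module.Flat A Γ(X, V) := f.flat_appLE U.2 hV hle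
  have hmap : (J.ideal U).map (algebraMap A Γ(X, V)) = I.map (algebraMap A Γ(X, V)) := by
    have h1 := IdealStalkLib.comap_ideal J f U.2 hV hle
    have h2 := IdealStalkLib.comap_ideal J' f U.2 hV hle
    exact h1.symm.trans ((congrArg (fun K : X.IdealSheafData => K.ideal ⟨V, hV⟩) h).trans h2)
  have hB : algebraMap A Γ(X, V) a ∈ I.map (algebraMap A Γ(X, V)) := hmap ▸ Ideal.mem_map_of_mem _ ha
  -- the colon ideal becomes the unit ideal
  let μ : (A ⧸ c) →ₗ[A] (A ⧸ I) := Submodule.mapQ c I (LinearMap.mulRight A a) fun r hr => by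
    simpa [c, Submodule.mem_colon_singleton] using hr
  have hμ : Function.Injective μ := by
    rw [← LinearMap.ker_eq_bot, eq_bot_iff]
    intro q hq
    obtain ⟨r, rfl⟩ := Ideal.Quotient.mk_surjective q
    refine (Submodule.mem_bot A).2 (Ideal.Quotient.eq_zero_iff_mem.2 ?_)
    have : Ideal.Quotient.mk I (r * a) = 0 := hq
    simpa [c, Submodule.mem_colon_singleton] using Ideal.Quotient.eq_zero_iff_mem.1 this
  have hz : μ.lTensor Γ(X, V) ((1 : Γ(X, V)) ⊗ₜ[A] (1 : A ⧸ c)) = 0 := by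
    rw [LinearMap.lTensor_tmul]
    show (1 : Γ(X, V)) ⊗ₜ[A] Ideal.Quotient.mk I (1 * a) = 0
    rw [one_mul, show Ideal.Quotient.mk I a = a • (1 : A ⧸ I) by rw [Algebra.smul_def, mul_one]; rfl,
      TensorProduct.tmul_smul, TensorProduct.smul_tmul', ← Algebra.algebraMap_eq_smul_one]
    rw [← Algebra.TensorProduct.quotIdealMapEquivTensorQuot_mk, Ideal.Quotient.eq_zero_iff_mem.2 hB, map_zero]
  have h1 : (1 : Γ(X, V)) ⊗ₜ[A] (1 : A ⧸ c) = 0 :=
    Module.Flat.lTensor_preserves_injective_linearMap μ hμ (hz.trans (map_zero _).symm)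
  rw [← Algebra.TensorProduct.quotIdealMapEquivTensorQuot_mk, EmbeddingLike.map_eq_zero_iff,
    Ideal.Quotient.eq_zero_iff_mem] at h1
  have hp : hV.primeIdealOf ⟨x, hxV⟩ ∈ PrimeSpectrum.zeroLocus (c.map (algebraMap A Γ(X, V)) : Set Γ(X, V)) := by
    rw [PrimeSpectrum.mem_zeroLocus]
    refine Ideal.map_le_iff_le_comap.2 (hcm.trans_eq ?_)
    have := IsAffineOpen.comap_primeIdealOf_appLE (f := f) (x := x) U.1 U.2 V hV hle hxV
    rw [show (hV.primeIdealOf ⟨x, hxV⟩).asIdeal.comap (algebraMap A Γ(X, V)) =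
      (U.2.primeIdealOf ⟨f x, hle hxV⟩).asIdeal from congrArg PrimeSpectrum.asIdeal this]
    have e : U.2.primeIdealOf ⟨f x, hle hxV⟩ = (⟨m, hm.isPrime⟩ : PrimeSpectrum A) := by
      refine U.2.fromSpec.isOpenEmbedding.injective ?_
      rw [IsAffineOpen.fromSpec_primeIdealOf]
      exact hx
    rw [e]
  exact (hV.primeIdealOf ⟨x, hxV⟩).isPrime.ne_top ((Ideal.eq_top_iff_one _).2 (hp h1))

end Groth.Agent.S4666
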