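import Groth.Statements.S4667
import Mathlib
import Groth.Agent.SchDenseLib.Basic

set_option autoImplicit false
open CategoryTheory AlgebraicGeometry
universe u
open FDesc

namespace Groth.Agent.S4667

open CategoryTheory.Limits in
/-- Let f : X → Y be a quasi-compact morphism of schemes and g : Y' → Y a flat morphism, and let f' : X
×_Y Y' → Y' be the base change of f. Then the scheme-theoretic image of f' is the inverse image
under g of the scheme-theoretic image of f: the quasi-coherent ideal sheaf cutting out the former is
the pull-back along g of the one cutting out the latter. (One published statement is phrased for a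
quasi-compact and quasi-separated S-morphism f and a flat base change S′ → S, which reduces to this
case; quasi-compactness of f suffices.) -/
theorem result {X Y Y' : Scheme.{u}} (f : X ⟶ Y) (g : Y' ⟶ Y)
    [QuasiCompact f] [Flat g] :
    (pullback.snd f g).ker = f.ker.comap g := by
  have hP : IsPullback (pullback.fst f g) (pullback.snd f g) f g := IsPullback.of_hasPullback f g
  have sq0 := (IsPullback.of_hasPullback g f.ker.subschemeι).flip
  let t := sq0.lift (pullback.fst f g ≫ f.toImage) (pullback.snd f g) (by
    rw [Category.assoc, show f.toImage ≫ f.ker.subschemeι = f from f.toImage_imageι, hP.w])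
  have sqg : IsPullback (pullback.fst f g) t f.toImage (pullback.snd g f.ker.subschemeι) := by
    refine IsPullback.of_bot (v₂₁ := pullback.fst g f.ker.subschemeι) (v₂₂ := f.ker.subschemeι)
      (h₃₁ := g) ?_ (sq0.lift_fst _ _ _).symm sq0
    rw [sq0.lift_snd, show f.toImage ≫ f.ker.subschemeι = f from f.toImage_imageι]
    exact hP
  haveI : AlgebraicGeometry.Flat (pullback.snd g f.ker.subschemeι) := inferInstance
  haveI : IsSchemeTheoreticallyDominant f.toImage := SchDenseLib.toImage_dominant f
  haveI : IsSchemeTheoreticallyDominant t := IsSchemeTheoreticallyDominant.of_isPullback sqg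
  rw [show pullback.snd f g = t ≫ pullback.fst g f.ker.subschemeι from (sq0.lift_snd _ _ _).symm,
    Scheme.Hom.ker_comp, t.ker_eq_bot, Scheme.IdealSheafData.map_bot]
  rfl

end Groth.Agent.S4667
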