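import Groth.Statements.S4671
import Groth.Agent.AssTensorLib.Global

set_option autoImplicit false
open CategoryTheory AlgebraicGeometry
universe u
open AssSch

namespace Groth.Agent.S4671

open CategoryTheory.Limits in
/-- Let f : X → S and g : Y → S be morphisms of schemes with X, Y, S and X ×_S Y locally Noetherian, F a
quasi-coherent O_X-module such that f maps every associated point of F to an associated point of
O_S, and G a quasi-coherent O_Y-module flat over S. If F and G have no embedded associated points,
then F ⊗_S G (the tensor product on X ×_S Y of the pull-backs of F and G along the two projections)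
has no embedded associated points. (The published statement assumes only X, S, the fibres of g and
the schemes Spec κ(x) ×_S Spec κ(y) locally Noetherian; this row assumes Y and X ×_S Y locally
Noetherian, which implies all of these, so that associated points are those whose maximal ideal is
the annihilator of an element of the stalk.) -/
theorem result {X Y S : Scheme.{u}} (f : X ⟶ S) (g : Y ⟶ S)
    [IsLocallyNoetherian X] [IsLocallyNoetherian Y] [IsLocallyNoetherian S] [IsLocallyNoetherian (pullback f g)]
    (F : X.Modules) (hF : Coh.IsQCoh F) (G : Y.Modules) (hG : Coh.IsQCoh G) (hGfl : FlatMod.IsFlatOver g G)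
    (hAss : ∀ x ∈ AssSch.Ass F, f x ∈ AssSch.Ass (Coh.structureModule S))
    (hFne : AssSch.NoEmbedded F) (hGne : AssSch.NoEmbedded G) :
    AssSch.NoEmbedded (CohB1.tensorMod ((Scheme.Modules.pullback (pullback.fst f g)).obj F) ((Scheme.Modules.pullback (pullback.snd f g)).obj G)) := by
  haveI := hF
  haveI := hG
  intro z hz z' hz' hsp
  obtain ⟨x, w, h1, h2, t, ht, rfl⟩ := (Groth.Agent.AssTensorLib.mem_ass_iff_exists f g F G hGfl z).1 hz
  obtain ⟨x', w', h1', h2', t', ht', rfl⟩ := (Groth.Agent.AssTensorLib.mem_ass_iff_exists f g F G hGfl z').1 hz'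
  have hp := hsp.map (pullback.fst f g).continuous
  rw [Groth.Agent.AssTensorLib.fst_resMap, Groth.Agent.AssTensorLib.fst_resMap] at hp
  obtain rfl := hFne x h1 x' h1' hp
  have hq := hsp.map (pullback.snd f g).continuous
  rw [Groth.Agent.AssTensorLib.snd_resMap, Groth.Agent.AssTensorLib.snd_resMap] at hq
  obtain rfl := (g.fiberι (f x)).isEmbedding.injective
    (hGne _ ((Groth.Agent.AssTensorLib.mem_ass_flat_iff g G hGfl _ w).2 ⟨hAss x h1, h2⟩) _
      ((Groth.Agent.AssTensorLib.mem_ass_flat_iff g G hGfl _ w').2 ⟨hAss x h1', h2'⟩) hq)
  refine congrArg _ (Groth.Agent.AssTensorLib.noEmbedded_res f g x _ (Groth.Agent.AssTensorLib.apply_fiberι g (f x) w)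
    t ht t' ht' ?_)
  exact (Groth.Agent.AssTensorLib.isEmbedding_resMap f g x _).specializes_iff.1 hsp

end Groth.Agent.S4671
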