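import Groth.Statements.S4672
import Groth.Agent.DimFormulaLib.FibrePoints
import Mathlib

set_option autoImplicit false
open CategoryTheory AlgebraicGeometry
universe u
open FBase

namespace Groth.Agent.S4672

open CategoryTheory.Limits

set_option backward.isDefEq.respectTransparency.types false in
theorem h9_map_closed {X Y X' Y' S : Scheme.{u}} (i : X ⟶ X') (j : Y ⟶ Y') (f : X' ⟶ S) (g : Y' ⟶ S) [IsClosedImmersion i] [IsClosedImmersion j] :
    IsClosedImmersion (pullback.map (i ≫ f) (j ≫ g) f g i j (𝟙 _) (by simp) (by simp)) :=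
  MorphismProperty.pullbackMap (P := @IsClosedImmersion) ‹_› ‹_› rfl rfl

theorem h9_max_image {P X : Scheme.{u}} (p : P ⟶ X) [Flat p] {z : P} (hz : ∀ w : P, w ⤳ z → w = z) :
    ∀ y : X, y ⤳ p z → y = p z := fun y hy => by
  obtain ⟨w, hw, rfl⟩ := (Flat.generalizingMap (f := p)) hy
  rw [hz w hw]

theorem h9_generic {X : Scheme.{u}} {Z : Set X} (hZ : Z ∈ irreducibleComponents X) :
    ∃ ξ, closure {ξ} = Z ∧ ∀ y : X, y ⤳ ξ → y = ξ := by
  obtain ⟨ξ, hξ⟩ := QuasiSober.sober hZ.1 (isClosed_of_mem_irreducibleComponents Z hZ)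
  refine ⟨ξ, hξ, fun y hy => ?_⟩
  have h1 : Z ⊆ closure {y} := by
    rw [← hξ.def]
    exact closure_minimal (Set.singleton_subset_iff.2 hy.mem_closure) isClosed_closure
  have h2 : closure {y} ⊆ Z := hZ.2 isIrreducible_singleton.closure h1
  have h3 : IsGenericPoint y Z := subset_antisymm h2 h1
  exact h3.eq hξ

open CategoryTheory.Limits in
/-- Let X and Y be locally Noetherian schemes over a field k such that X ×_k Y is locally Noetherian,
with projections p and q. Then a subset W of X ×_k Y is an irreducible component of X ×_k Y if and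
only if there exist an irreducible component X' of X and an irreducible component Y' of Y such that
W is a maximal irreducible subset of p⁻¹(X') ∩ q⁻¹(Y') (that is, an irreducible component of the
space underlying X' ×_k Y' for the reduced structures on X' and Y'). -/
theorem result {k : Type u} [Field k] {X Y : Scheme.{u}}
    (f : X ⟶ Spec (CommRingCat.of k)) (g : Y ⟶ Spec (CommRingCat.of k)) [IsLocallyNoetherian X]
    [IsLocallyNoetherian Y] [IsLocallyNoetherian (pullback f g)] (W : Set ↥(pullback f g)) :
    W ∈ irreducibleComponents ↥(pullback f g) ↔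
      ∃ X' ∈ irreducibleComponents ↥X, ∃ Y' ∈ irreducibleComponents ↥Y,
        Maximal (fun V : Set ↥(pullback f g) => IsIrreducible V ∧ V ⊆ ⇑(pullback.fst f g) ⁻¹' X' ∩ ⇑(pullback.snd f g) ⁻¹' Y') W := by
  let p := pullback.fst f g
  let q := pullback.snd f g
  haveI : Flat f := inferInstance
  haveI : Flat g := inferInstance
  constructor
  · intro hW
    obtain ⟨z, hz, hzmax⟩ := h9_generic hW
    refine ⟨closure {p z}, Groth.Agent.DimFormulaLib.closure_mem_irreducibleComponents (h9_max_image p hzmax),
      closure {q z}, Groth.Agent.DimFormulaLib.closure_mem_irreducibleComponents (h9_max_image q hzmax), ⟨hW.1, ?_⟩, fun V hV hle => hW.2 hV.1 hle⟩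
    rw [← hz]
    exact closure_minimal (Set.singleton_subset_iff.2 ⟨subset_closure rfl, subset_closure rfl⟩)
      ((isClosed_closure.preimage p.continuous).inter (isClosed_closure.preimage q.continuous))
  · rintro ⟨X', hX', Y', hY', hW⟩
    obtain ⟨ξ, hξ, hξmax⟩ := h9_generic hX'
    obtain ⟨η, hη, hηmax⟩ := h9_generic hY'
    have hcl : IsClosed (p ⁻¹' X' ∩ q ⁻¹' Y') := ((isClosed_of_mem_irreducibleComponents X' hX').preimage p.continuous).inter
      ((isClosed_of_mem_irreducibleComponents Y' hY').preimage q.continuous)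
    have hWc : IsClosed W := by
      have := hW.2 ⟨hW.1.1.closure, closure_minimal hW.1.2 hcl⟩ subset_closure
      rw [le_antisymm subset_closure this]
      exact isClosed_closure
    obtain ⟨z, hz⟩ := QuasiSober.sober hW.1.1 hWc
    have hz' : z ∈ p ⁻¹' X' ∩ q ⁻¹' Y' := hW.1.2 hz.mem
    have hmax : ∀ w : ↥(pullback f g), w ∈ p ⁻¹' X' ∩ q ⁻¹' Y' → w ⤳ z → w = z := fun w hw hwz => by
      have h1 : W ⊆ closure {w} := by
        rw [← hz.def]
        exact closure_minimal (Set.singleton_subset_iff.2 hwz.mem_closure) isClosed_closure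
      have h2 : closure {w} ⊆ W := hW.2 ⟨isIrreducible_singleton.closure,
        closure_minimal (Set.singleton_subset_iff.2 hw) hcl⟩ h1
      exact (show IsGenericPoint w W from subset_antisymm h2 h1).eq hz
    let I := Scheme.IdealSheafData.vanishingIdeal ⟨X', isClosed_of_mem_irreducibleComponents X' hX'⟩
    let J := Scheme.IdealSheafData.vanishingIdeal ⟨Y', isClosed_of_mem_irreducibleComponents Y' hY'⟩
    have hI : Set.range I.subschemeι = X' := by rw [Scheme.IdealSheafData.range_subschemeι, Scheme.IdealSheafData.coe_support_vanishingIdeal]; rfl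
    have hJ : Set.range J.subschemeι = Y' := by rw [Scheme.IdealSheafData.range_subschemeι, Scheme.IdealSheafData.coe_support_vanishingIdeal]; rfl
    let m := pullback.map (I.subschemeι ≫ f) (J.subschemeι ≫ g) f g I.subschemeι J.subschemeι (𝟙 _) (by simp) (by simp)
    have hrange : Set.range m = p ⁻¹' X' ∩ q ⁻¹' Y' := by
      rw [Scheme.Pullback.range_map, hI, hJ]
    obtain ⟨z0, hz0⟩ : z ∈ Set.range m := hrange.symm ▸ hz'
    haveI : IsClosedImmersion m := h9_map_closed _ _ _ _
    have hz0max : ∀ w, w ⤳ z0 → w = z0 := fun w hw => m.isEmbedding.injective (by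
      rw [hz0]
      exact hmax _ (hrange ▸ Set.mem_range_self w) (hz0 ▸ hw.map m.continuous))
    haveI : Flat (I.subschemeι ≫ f) := inferInstance
    haveI : Flat (J.subschemeι ≫ g) := inferInstance
    have hp : p z = ξ := by
      have h1 := h9_max_image (pullback.fst (I.subschemeι ≫ f) (J.subschemeι ≫ g)) hz0max
      have h2 : ξ ∈ Set.range I.subschemeι := by rw [hI, ← hξ]; exact subset_closure rfl
      obtain ⟨a, ha⟩ := h2
      have h3 : p z = I.subschemeι (pullback.fst (I.subschemeι ≫ f) (J.subschemeι ≫ g) z0) := by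
        rw [← hz0, ← Scheme.Hom.comp_apply, ← Scheme.Hom.comp_apply]
        exact congrArg (fun h : _ ⟶ X => h z0) (pullback.lift_fst _ _ _)
      have h4 : a ⤳ pullback.fst (I.subschemeι ≫ f) (J.subschemeι ≫ g) z0 := by
        rw [← I.subschemeι.isEmbedding.isInducing.specializes_iff, ha, ← h3, specializes_iff_mem_closure, hξ]
        exact hz'.1
      rw [h3, ← h1 a h4, ha]
    have hq : q z = η := by
      have h1 := h9_max_image (pullback.snd (I.subschemeι ≫ f) (J.subschemeι ≫ g)) hz0max
      have h2 : η ∈ Set.range J.subschemeι := by rw [hJ, ← hη]; exact subset_closure rfl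
      obtain ⟨a, ha⟩ := h2
      have h3 : q z = J.subschemeι (pullback.snd (I.subschemeι ≫ f) (J.subschemeι ≫ g) z0) := by
        rw [← hz0, ← Scheme.Hom.comp_apply, ← Scheme.Hom.comp_apply]
        exact congrArg (fun h : _ ⟶ Y => h z0) (pullback.lift_snd _ _ _)
      have h4 : a ⤳ pullback.snd (I.subschemeι ≫ f) (J.subschemeι ≫ g) z0 := by
        rw [← J.subschemeι.isEmbedding.isInducing.specializes_iff, ha, ← h3, specializes_iff_mem_closure, hη]
        exact hz'.2
      rw [h3, ← h1 a h4, ha]
    rw [← hz.def]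
    refine Groth.Agent.DimFormulaLib.closure_mem_irreducibleComponents fun w hw => hmax w ⟨?_, ?_⟩ hw
    · show p w ∈ X'
      rw [hξmax (p w) (hp ▸ hw.map p.continuous), ← hξ]
      exact subset_closure rfl
    · show q w ∈ Y'
      rw [hηmax (q w) (hq ▸ hw.map q.continuous), ← hη]
      exact subset_closure rfl

end Groth.Agent.S4672
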