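import Groth.Statements.S4674
import Mathlib

set_option autoImplicit false
open scoped TensorProduct
universe u v w
open FDesc

namespace Groth.Agent.S4674

/-- Let B be a flat A-algebra and M a finitely presented A-module. Then the annihilator of the B-module
B ⊗_A M is the ideal of B generated by the image of the annihilator of M. -/
theorem result {A : Type u} {B : Type v} [CommRing A] [CommRing B] [Algebra A B]
    [Module.Flat A B] (M : Type w) [AddCommGroup M] [Module A M] [Module.FinitePresentation A M] :
    Module.annihilator B (B ⊗[A] M) = (Module.annihilator A M).map (algebraMap A B) := by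
  obtain ⟨n, m, hm⟩ := Module.Finite.exists_fin (R := A) (M := M)
  let ψ : A →ₗ[A] (Fin n → M) := LinearMap.pi fun i => LinearMap.toSpanSingleton A M (m i)
  have hker : LinearMap.ker ψ = Module.annihilator A M := by
    ext a
    simp only [ψ, LinearMap.mem_ker, funext_iff, LinearMap.pi_apply, LinearMap.toSpanSingleton_apply, Pi.zero_apply,
      Module.mem_annihilator]
    refine ⟨fun h x => ?_, fun h i => h _⟩
    have hx : x ∈ Submodule.span A (Set.range m) := hm ▸ Submodule.mem_top
    induction hx using Submodule.span_induction with
    | mem x hx => obtain ⟨i, rfl⟩ := hx; exact h i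
    | zero => simp
    | add x y _ _ hx hy => rw [smul_add, hx, hy, add_zero]
    | smul r x _ hx => rw [smul_comm, hx, smul_zero]
  refine le_antisymm (fun b hb => ?_) (Ideal.map_le_iff_le_comap.mpr fun a ha => ?_)
  · have hz : ψ.lTensor B (b ⊗ₜ[A] 1) = 0 := by
      apply (TensorProduct.piRight A A B (fun _ : Fin n => M)).injective
      rw [map_zero, LinearMap.lTensor_tmul]
      ext i
      rw [TensorProduct.piRight_apply, TensorProduct.piRightHom_tmul]
      have := Module.mem_annihilator.mp hb ((1 : B) ⊗ₜ[A] m i)
      simpa [ψ, TensorProduct.smul_tmul'] using this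
    obtain ⟨w, hw⟩ := (Module.Flat.lTensor_exact B (LinearMap.exact_subtype_ker_map ψ) (b ⊗ₜ[A] 1)).mp hz
    have hb' : TensorProduct.rid A B ((LinearMap.ker ψ).subtype.lTensor B w) = b := by rw [hw]; simp
    rw [← hb']
    clear hb' hw
    induction w using TensorProduct.induction_on with
    | zero => simp
    | tmul c k =>
      simp only [LinearMap.lTensor_tmul, Submodule.subtype_apply, TensorProduct.rid_tmul, Algebra.smul_def]
      exact Ideal.mul_mem_right _ _ (Ideal.mem_map_of_mem _ (hker ▸ k.2))
    | add x y hx hy => simp only [map_add]; exact Ideal.add_mem _ hx hy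
  · rw [Ideal.mem_comap, Module.mem_annihilator]
    intro z
    rw [algebraMap_smul]
    induction z using TensorProduct.induction_on with
    | zero => simp
    | tmul c x => rw [← TensorProduct.tmul_smul, Module.mem_annihilator.mp ha, TensorProduct.tmul_zero]
    | add x y hx hy => rw [smul_add, hx, hy, add_zero]

end Groth.Agent.S4674
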