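import Groth.Statements.S4675
import Mathlib

set_option autoImplicit false
universe u v
open FDesc

namespace Groth.Agent.S4675

/-- Let B be a ring, not necessarily commutative, and V, W two left B-modules which are isomorphic. For
a B-linear map u : V → W the following are equivalent: every B-linear map V → W can be written
uniquely as u ∘ c with c a B-linear endomorphism of V (that is, u is a basis of Hom_B(V, W) for its
right module structure over End_B(V)); u is bijective. -/
theorem result {B : Type u} [Ring B] {V W : Type v} [AddCommGroup V] [AddCommGroup W]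
    [Module B V] [Module B W] (e : V ≃ₗ[B] W) (u : V →ₗ[B] W) :
    (∀ v : V →ₗ[B] W, ∃! c : V →ₗ[B] V, v = u ∘ₗ c) ↔ Function.Bijective u := by
  constructor
  · intro h
    obtain ⟨c, hc, -⟩ := h e.toLinearMap
    obtain ⟨c', -, huniq⟩ := h u
    have hcu : ∀ x, u (c x) = e x := fun x => (LinearMap.congr_fun hc x).symm
    refine ⟨?_, fun w => ⟨c (e.symm w), by rw [hcu, e.apply_symm_apply]⟩⟩
    -- `c ∘ e.symm ∘ u` and `id` both give `u` after composing with `u`
    have h1 : (c ∘ₗ e.symm.toLinearMap ∘ₗ u) = c' := huniq _ (LinearMap.ext fun x => by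
      simp [hcu])
    have h2 : LinearMap.id = c' := huniq _ (LinearMap.comp_id u).symm
    intro x y hxy
    have := LinearMap.congr_fun (h1.trans h2.symm)
    calc x = c (e.symm (u x)) := (this x).symm
      _ = c (e.symm (u y)) := by rw [hxy]
      _ = y := this y
  · intro hb v
    let E := LinearEquiv.ofBijective u hb
    refine ⟨E.symm.toLinearMap ∘ₗ v, LinearMap.ext fun x => (E.apply_symm_apply (v x)).symm, ?_⟩
    intro c hc
    exact LinearMap.ext fun x => hb.1 ((LinearMap.congr_fun hc x).symm.trans (E.apply_symm_apply (v x)).symm)

end Groth.Agent.S4675
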