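import Groth.Statements.S4677
import Mathlib
import Groth.Agent.PIGeomRedLib.Main
import Groth.Agent.FieldExtLib.Separable

namespace Groth.Agent.S4677
open TensorProduct
theorem fg_nil (k P A : Type*) [Field k] [Field P] [Algebra k P] [CommRing A] [Algebra k A]
    [Algebra.EssFiniteType k A] : (nilradical (P ⊗[k] A)).FG := by
  haveI : IsNoetherianRing (P ⊗[k] A) := Algebra.EssFiniteType.isNoetherianRing P _
  exact IsNoetherian.noetherian _
end Groth.Agent.S4677


set_option autoImplicit false
open scoped TensorProduct
universe u
open FBase

namespace Groth.Agent.S4677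

/-- Let K be a finitely generated extension field of a field k. Then there exists a finite purely
inseparable extension k' of k such that, for every maximal ideal m of the ring k' ⊗_k K, the residue
field (k' ⊗_k K)/m is geometrically reduced over k' (a separable, not necessarily algebraic,
extension of k'). -/
theorem result {k K : Type u} [Field k] [Field K] [Algebra k K]
    [Algebra.EssFiniteType k K] :
    ∃ (k' : Type u) (_ : Field k') (_ : Algebra k k'), FiniteDimensional k k' ∧ IsPurelyInseparable k k' ∧
      ∀ (m : Ideal (k' ⊗[k] K)), m.IsMaximal → Algebra.IsGeometricallyReduced k' ((k' ⊗[k] K) ⧸ m) := by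
  obtain ⟨k', i1, i2, h1, h2, h3⟩ := Groth.Agent.PIGeomRedLib.exists_of_fg (k := k)
    (P := perfectClosure k (AlgebraicClosure k)) K
    (fun L _ _ => Groth.Agent.FieldExtLib.isGeometricallyReduced_of_perfectField)
    (fg_nil _ _ _)
  refine ⟨k', i1, i2, h1, h2, fun m hm => ?_⟩
  haveI := hm.isPrime
  rw [Groth.Agent.PIGeomRedLib.eq_nilradical_of_isPrime m]
  exact h3

end Groth.Agent.S4677
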