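import Groth.Statements.S4678
import Groth.Agent.DCohMore.RelPerfBC
import Groth.Agent.DCohLib.StalkTensor
import Groth.Agent.PullbackMod.Props

set_option autoImplicit false
set_option backward.isDefEq.respectTransparency false
set_option maxHeartbeats 1000000
set_option linter.style.haveILetI false
open CategoryTheory AlgebraicGeometry
universe u
open FDesc

namespace Groth.Agent.S4678

/-- `M ⊗_B N` is flat over `C` when `M` is flat over `B` and `N` over `C`. -/
theorem flat_tensorProduct (C B : Type u) [CommRing C] [CommRing B] [Algebra C B] (M N : Type u)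
    [AddCommGroup M] [AddCommGroup N] [Module B M] [Module B N] [Module C M] [Module C N]
    [IsScalarTower C B M] [IsScalarTower C B N] [Module.Flat B M] [Module.Flat C N] :
    Module.Flat C (TensorProduct B M N) := by
  rw [Module.Flat.iff_lTensor_preserves_injective_linearMap]
  intro P Q _ _ _ _ f hf
  have hN : Function.Injective (TensorProduct.AlgebraTensorModule.lTensor B N f) :=
    Module.Flat.lTensor_preserves_injective_linearMap f hf
  have hM := Module.Flat.lTensor_preserves_injective_linearMap (M := M)
    (TensorProduct.AlgebraTensorModule.lTensor B N f) hN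
  have hsq : ∀ a, TensorProduct.AlgebraTensorModule.assoc C B B M N Q (f.lTensor (TensorProduct B M N) a) =
      (TensorProduct.AlgebraTensorModule.lTensor B N f).lTensor M
        (TensorProduct.AlgebraTensorModule.assoc C B B M N P a) := fun a => by
    induction a using TensorProduct.induction_on with
    | zero => simp
    | tmul x p =>
      induction x using TensorProduct.induction_on with
      | zero => simp
      | tmul m n => simp
      | add x y hx hy => simp only [TensorProduct.add_tmul, map_add, hx, hy]
    | add x y hx hy => simp only [map_add, hx, hy]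
  intro a b hab
  exact (TensorProduct.AlgebraTensorModule.assoc C B B M N P).injective
    (hM (by rw [← hsq, ← hsq, hab]))

open CategoryTheory.Limits in
/-- Let f : X → Y, g : Y' → Y and h : Y' → Z be morphisms of schemes, X' = X ×_Y Y' with projections p :
X' → X and q : X' → Y', and x' a point of X'. Let F be a quasi-coherent O_X-module which is flat
over Y at p(x') and G' a quasi-coherent O_{Y'}-module which is flat over Z at q(x'). Then the
O_{X'}-module p^*F ⊗ q^*G' is flat over Z at x', for the structure morphism q followed by h. -/
theorem result {X Y Y' Z : Scheme.{u}} (f : X ⟶ Y) (g : Y' ⟶ Y) (h : Y' ⟶ Z)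
    (F : X.Modules) (hF : Coh.IsQCoh F) (G' : Y'.Modules) (hG' : Coh.IsQCoh G') (x' : ↥(pullback f g))
    (hFx : FlatMod.IsFlatOverAt f F (pullback.fst f g x')) (hGy : FlatMod.IsFlatOverAt h G' (pullback.snd f g x')) :
    FlatMod.IsFlatOverAt (pullback.snd f g ≫ h) (CohB1.tensorMod ((Scheme.Modules.pullback (pullback.fst f g)).obj F) ((Scheme.Modules.pullback (pullback.snd f g)).obj G')) x' := by
  let p := pullback.fst f g
  let q := pullback.snd f g
  let M := (Scheme.Modules.pullback p).obj F
  let N := (Scheme.Modules.pullback q).obj G'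
  have hM := Groth.Agent.DCohMore.isFlatOverAt_pullback_bc (IsPullback.of_hasPullback f g) x' F hFx
  haveI := hG'
  let C := Z.presheaf.stalk (h (q x'))
  let B := Y'.presheaf.stalk (q x')
  let A := (pullback f g).presheaf.stalk x'
  letI : Algebra C B := (h.stalkMap (q x')).hom.toAlgebra
  letI : Algebra B A := (q.stalkMap x').hom.toAlgebra
  letI : Algebra C A := ((algebraMap B A).comp (algebraMap C B)).toAlgebra
  haveI : IsScalarTower C B A := .of_algebraMap_eq fun _ => rfl
  letI : Module B (M.presheaf.stalk x') := FlatMod.moduleStalkOver q M x'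
  haveI : IsScalarTower B A (M.presheaf.stalk x') := .of_algebraMap_smul fun _ _ => rfl
  haveI : Module.Flat B (M.presheaf.stalk x') := hM
  letI : Module C (M.presheaf.stalk x') := Module.compHom _ (algebraMap C B)
  haveI : IsScalarTower C B (M.presheaf.stalk x') := .of_algebraMap_smul fun _ _ => rfl
  haveI : IsScalarTower C A (M.presheaf.stalk x') := .of_algebraMap_smul fun _ _ => rfl
  letI : Module C (G'.presheaf.stalk (q x')) := FlatMod.moduleStalkOver h G' (q x')
  haveI : IsScalarTower C B (G'.presheaf.stalk (q x')) := .of_algebraMap_smul fun _ _ => rfl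
  haveI : Module.Flat C (G'.presheaf.stalk (q x')) := hGy
  haveI := flat_tensorProduct C B (M.presheaf.stalk x') (G'.presheaf.stalk (q x'))
  obtain ⟨φ, -⟩ := Groth.Agent.PullbackMod.exists_pullback_stalk_equiv q G' x'
  let e₂ : TensorProduct B (M.presheaf.stalk x') (G'.presheaf.stalk (q x')) ≃ₗ[A]
      (CohB1.tensorMod M N).presheaf.stalk x' :=
    (TensorProduct.AlgebraTensorModule.cancelBaseChange B A A (M.presheaf.stalk x')
      (G'.presheaf.stalk (q x'))).symm ≪≫ₗ
      (TensorProduct.congr (LinearEquiv.refl A (M.presheaf.stalk x')) φ ≪≫ₗ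
        Groth.Agent.DCohLib.stalkTensor x' M N)
  unfold FlatMod.IsFlatOverAt
  letI : Module C ((CohB1.tensorMod M N).presheaf.stalk x') :=
    FlatMod.moduleStalkOver (q ≫ h) (CohB1.tensorMod M N) x'
  haveI : IsScalarTower C A ((CohB1.tensorMod M N).presheaf.stalk x') := .of_algebraMap_smul fun r z => by
    show q.stalkMap x' (h.stalkMap (q x') r) • z = (q ≫ h).stalkMap x' r • z
    rw [Scheme.Hom.stalkMap_comp]
    rfl
  show Module.Flat C ((CohB1.tensorMod M N).presheaf.stalk x')
  exact Module.Flat.of_linearEquiv (e₂.restrictScalars C).symm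

end Groth.Agent.S4678
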