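import Groth.Statements.S4681
import Groth.Agent.FlatLocus.FibreCritMod

set_option backward.isDefEq.respectTransparency false
set_option autoImplicit false
open CategoryTheory AlgebraicGeometry
universe u
open FDesc

namespace Groth.Agent.S4681

/-- Let f : X → Y and g : Y → Z be morphisms of schemes and F a quasi-coherent O_X-module which is
faithfully flat relative to Y: flat over Y, and for every point y of Y there is a point x over y
with F_x ⊗ κ(y) ≠ 0. Then g is flat and surjective (faithfully flat) if and only if F is faithfully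
flat relative to Z for the morphism f followed by g: flat over Z, and for every point z of Z there
is a point x of X over z with F_x ⊗ κ(z) ≠ 0. -/
theorem result {X Y Z : Scheme.{u}} (f : X ⟶ Y) (g : Y ⟶ Z)
    (F : X.Modules) (hF : Coh.IsQCoh F) (hFfl : FlatMod.IsFlatOver f F)
    (hFff : (∀ y : ↥Y, ∃ x : ↥X, f x = y ∧
      letI := FlatMod.moduleStalkOver f F x
      IsLocalRing.maximalIdeal (Y.presheaf.stalk (f x)) • (⊤ : Submodule (Y.presheaf.stalk (f x)) (F.presheaf.stalk x)) ≠ ⊤)) :
    (Flat g ∧ Surjective g) ↔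
      (FlatMod.IsFlatOver (f ≫ g) F ∧
        (∀ z : ↥Z, ∃ x : ↥X, (f ≫ g) x = z ∧
      letI := FlatMod.moduleStalkOver (f ≫ g) F x
      IsLocalRing.maximalIdeal (Z.presheaf.stalk ((f ≫ g) x)) • (⊤ : Submodule (Z.presheaf.stalk ((f ≫ g) x)) (F.presheaf.stalk x)) ≠ ⊤)) := by
  have htower : ∀ x : X, ∀ (a : Z.presheaf.stalk (g (f x))) (m : F.presheaf.stalk x),
      letI := FlatMod.moduleStalkOver f F x
      letI : Module (Z.presheaf.stalk (g (f x))) (F.presheaf.stalk x) := FlatMod.moduleStalkOver (f ≫ g) F x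
      (g.stalkMap (f x)).hom a • m = a • m := by
    intro x a m
    show (f.stalkMap x).hom ((g.stalkMap (f x)).hom a) • m = ((f ≫ g).stalkMap x).hom a • m
    rw [Scheme.Hom.stalkMap_comp]
    rfl
  constructor
  · rintro ⟨hg, hs⟩
    refine ⟨fun x => ?_, fun z => ?_⟩
    · letI := (g.stalkMap (f x)).hom.toAlgebra
      letI := FlatMod.moduleStalkOver f F x
      letI : Module (Z.presheaf.stalk (g (f x))) (F.presheaf.stalk x) := FlatMod.moduleStalkOver (f ≫ g) F x
      haveI : IsScalarTower (Z.presheaf.stalk (g (f x))) (Y.presheaf.stalk (f x)) (F.presheaf.stalk x) :=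
        .of_algebraMap_smul (htower x)
      haveI : Module.Flat (Z.presheaf.stalk (g (f x))) (Y.presheaf.stalk (f x)) := Flat.stalkMap g (f x)
      haveI : Module.Flat (Y.presheaf.stalk (f x)) (F.presheaf.stalk x) := hFfl x
      exact Module.Flat.trans (Z.presheaf.stalk (g (f x))) (Y.presheaf.stalk (f x)) (F.presheaf.stalk x)
    · obtain ⟨y, rfl⟩ := hs.surj z
      obtain ⟨x, rfl, hx⟩ := hFff y
      refine ⟨x, Scheme.Hom.comp_apply _ _ _, fun htop => hx (top_le_iff.1 fun m _ => ?_)⟩
      letI := (g.stalkMap (f x)).hom.toAlgebra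
      letI := FlatMod.moduleStalkOver f F x
      letI : Module (Z.presheaf.stalk (g (f x))) (F.presheaf.stalk x) := FlatMod.moduleStalkOver (f ≫ g) F x
      have hm : m ∈ IsLocalRing.maximalIdeal (Z.presheaf.stalk (g (f x))) •
          (⊤ : Submodule (Z.presheaf.stalk (g (f x))) (F.presheaf.stalk x)) := htop.ge trivial
      refine Submodule.smul_induction_on hm (fun a ha n _ => ?_) (fun _ _ => Submodule.add_mem _)
      rw [← htower x a n]
      exact Submodule.smul_mem_smul (map_nonunit (g.stalkMap (f x)).hom a ha) Submodule.mem_top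
  · rintro ⟨hfl, hff⟩
    refine ⟨Flat.of_stalkMap _ fun y => ?_, ⟨fun z => ?_⟩⟩
    · obtain ⟨x, rfl, hx⟩ := hFff y
      letI := (g.stalkMap (f x)).hom.toAlgebra
      letI := FlatMod.moduleStalkOver f F x
      letI : Module (Z.presheaf.stalk (g (f x))) (F.presheaf.stalk x) := FlatMod.moduleStalkOver (f ≫ g) F x
      haveI : IsScalarTower (Z.presheaf.stalk (g (f x))) (Y.presheaf.stalk (f x)) (F.presheaf.stalk x) :=
        .of_algebraMap_smul (htower x)
      haveI : Module.Flat (Z.presheaf.stalk (g (f x))) (F.presheaf.stalk x) := hfl x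
      haveI : Module.FaithfullyFlat (Y.presheaf.stalk (f x)) (F.presheaf.stalk x) :=
        (Module.FaithfullyFlat.iff_flat_and_proper_ideal _ _).2 ⟨hFfl x, fun J hJ htop => hx (top_le_iff.1
          (htop.ge.trans (Submodule.smul_mono_left (IsLocalRing.le_maximalIdeal hJ))))⟩
      exact Groth.Agent.FlatLocus.flat_of_faithfullyFlat_module _ (Y.presheaf.stalk (f x)) (F.presheaf.stalk x)
    · obtain ⟨x, hx, -⟩ := hff z
      exact ⟨f x, hx⟩

end Groth.Agent.S4681
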