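import Groth.Statements.S4682
import Groth.Agent.DVRCrit.Local
import Groth.Agent.FBaseLib.ReducedProd
import Mathlib
-- import your own Groth.Agent.* helpers here

set_option autoImplicit false
open CategoryTheory AlgebraicGeometry
universe u
open FBase

namespace Groth.Agent.S4682

/-- Let Y be a scheme over a field K', let K be an extension field of K' which is separable over K'
(Spec K → Spec K' is geometrically reduced), let g : Y ⊗_{K'} K → Y be the projection and T a closed
subset of Y ⊗_{K'} K. Then T is defined over K' as a closed subset, that is T = g⁻¹(T') for some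
closed subset T' of Y, if and only if the reduced closed subscheme of Y ⊗_{K'} K with support T is
defined over K', that is, there is a quasi-coherent ideal sheaf of O_Y whose inverse image in Y
⊗_{K'} K is the vanishing ideal sheaf of T. -/
theorem result {K' K : Type u} [Field K'] [Field K] [Algebra K' K]
    {Y : Scheme.{u}} (fY : Y ⟶ Spec (CommRingCat.of K'))
    [GeometricallyReduced (Spec.map (CommRingCat.ofHom (algebraMap K' K)))]
    (T : TopologicalSpace.Closeds ↥(FBase.bc fY K)) :
    (∃ T' : TopologicalSpace.Closeds ↥Y, (T : Set ↥(FBase.bc fY K)) = ⇑(FBase.bcπ fY K) ⁻¹' (T' : Set ↥Y)) ↔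
      ∃ J : Y.IdealSheafData, J.comap (FBase.bcπ fY K) = Scheme.IdealSheafData.vanishingIdeal T := by
  constructor
  · rintro ⟨T', hT'⟩
    refine ⟨Scheme.IdealSheafData.vanishingIdeal T', ?_⟩
    set J := Scheme.IdealSheafData.vanishingIdeal T' with hJ
    haveI : IsReduced J.subscheme := Groth.Agent.DVRCrit.isReduced_vanishingIdeal T'
    haveI : IsReduced (Limits.pullback (FBase.bcπ fY K) J.subschemeι) := by
      haveI := Groth.Agent.FBaseLib.isReduced_pullback
        (Spec.map (CommRingCat.ofHom (algebraMap K' K))) (J.subschemeι ≫ fY)
      exact isReduced_of_isOpenImmersion (Limits.pullbackSymmetry _ _ ≪≫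
        Limits.pullbackRightPullbackFstIso fY (Spec.map (CommRingCat.ofHom (algebraMap K' K))) J.subschemeι ≪≫
        Limits.pullbackSymmetry _ _).hom
    haveI : IsReduced (J.comap (FBase.bcπ fY K)).subscheme :=
      isReduced_of_isOpenImmersion (J.comapIso (FBase.bcπ fY K)).hom
    have hsupp : (J.comap (FBase.bcπ fY K)).support = T := by
      refine SetLike.coe_injective ?_
      rw [Scheme.IdealSheafData.support_comap, TopologicalSpace.Closeds.coe_preimage, hT', hJ,
        Scheme.IdealSheafData.coe_support_vanishingIdeal]
    rw [← hsupp, Scheme.IdealSheafData.vanishingIdeal_support]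
    set I := J.comap (FBase.bcπ fY K)
    apply Scheme.IdealSheafData.ext
    funext U
    show I.ideal U = (I.ideal U).radical
    refine ((Ideal.isRadical_iff_quotient_reduced (I.ideal U)).2 ?_).radical.symm
    exact isReduced_of_injective (I.subschemeObjIso U).inv.hom
      (ConcreteCategory.bijective_of_isIso (I.subschemeObjIso U).inv).1
  · rintro ⟨J, hJ⟩
    refine ⟨J.support, ?_⟩
    have h := congrArg (fun I : (FBase.bc fY K).IdealSheafData => (I.support : Set ↥(FBase.bc fY K))) hJ
    simp only [Scheme.IdealSheafData.support_comap, TopologicalSpace.Closeds.coe_preimage,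
      Scheme.IdealSheafData.coe_support_vanishingIdeal] at h
    exact h.symm

end Groth.Agent.S4682
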