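import Groth.Statements.S4683
import Groth.Agent.CoprimaryLib.Family
-- import your own Groth.Agent.* helpers here

set_option autoImplicit false
open CategoryTheory AlgebraicGeometry
set_option backward.isDefEq.respectTransparency false
universe u
open AssSch

namespace Groth.Agent.S4683

/-- Let X be a locally Noetherian scheme and M a coherent O_X-module without embedded associated points.
Then M has only one reduced irredundant decomposition: if (q_x : M → G_x) and (q'_x : M → G'_x) are
two families of coherent quotients of M indexed by the associated points x of M, with Ass(G_x) =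
Ass(G'_x) = {x} for every x and each family jointly monomorphic (M embeds in the product), then for
every x there is an isomorphism G_x ≅ G'_x under M (it is unique, q_x being an epimorphism). -/
theorem result {X : Scheme.{u}} [IsLocallyNoetherian X] (M : X.Modules)
    (hM : Coh.IsCoh M) (hne : AssSch.NoEmbedded M)
    (G G' : ↥(AssSch.Ass M) → X.Modules) (q : ∀ x, M ⟶ G x) (q' : ∀ x, M ⟶ G' x)
    (hq : ∀ x, Epi (q x)) (hq' : ∀ x, Epi (q' x)) (hG : ∀ x, Coh.IsCoh (G x)) (hG' : ∀ x, Coh.IsCoh (G' x))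
    (hA : ∀ x, AssSch.Ass (G x) = {x.1}) (hA' : ∀ x, AssSch.Ass (G' x) = {x.1})
    (hm : ∀ (T : X.Modules) (a b : T ⟶ M), (∀ x, a ≫ q x = b ≫ q x) → a = b)
    (hm' : ∀ (T : X.Modules) (a b : T ⟶ M), (∀ x, a ≫ q' x = b ≫ q' x) → a = b) (x : ↥(AssSch.Ass M)) :
    ∃ e : G x ≅ G' x, q x ≫ e.hom = q' x := by
  haveI := hM.1
  have hrel : ∀ (H : ↥(AssSch.Ass M) → X.Modules) (p : ∀ x, M ⟶ H x), (∀ x, Coh.IsCoh (H x)) →
      (∀ x, AssSch.Ass (H x) = {x.1}) →
      (∀ (T : X.Modules) (a b : T ⟶ M), (∀ x, a ≫ p x = b ≫ p x) → a = b) →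
      ∀ (V : X.Opens) (s : Γ(M, V)),
        (p x).app V s = 0 ↔ ∀ hx : x.1 ∈ V, M.presheaf.germ V x.1 hx s = 0 := by
    intro H p hH hHA hHm V s
    haveI := (hH x).1
    refine ⟨fun h hx ↦ ?_, fun h ↦ ?_⟩
    · obtain ⟨W, hW, hxW, hWV⟩ := Groth.Agent.AssLib.exists_affine_mem x.1 hx
      let O : Set X := {y | y ∈ W ∧ Curv2.IsAssPoint M y} \ {x.1}
      have hfin : O.Finite := (Groth.Agent.AssLib.finite_ass_affine hM hW).sdiff
      let W' : X.Opens := ⟨(W : Set X) \ ⋃ y ∈ O, closure {y},
        W.2.sdiff (hfin.isClosed_biUnion fun _ _ ↦ isClosed_closure)⟩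
      have hxW' : x.1 ∈ W' := by
        refine ⟨hxW, ?_⟩
        simp only [Set.mem_iUnion, not_exists]
        intro y hy hxy
        exact hy.2 (hne x.1 x.2 y hy.1.2 (specializes_iff_mem_closure.mpr hxy)).symm
      have hW'V : W' ≤ V := fun y hy ↦ hWV hy.1
      let s' : Γ(M, W') := M.presheaf.map (homOfLE hW'V).op s
      have hall : ∀ y, (p y).app W' s' = 0 := by
        intro y
        by_cases hyx : y = x
        · subst hyx
          rw [Groth.Agent.QCohLib.app_res, h, map_zero]
        · haveI := (hH y).1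
          refine Groth.Agent.AssLib.eq_zero_of_germ_ass _ fun z hz ha ↦ ?_
          obtain rfl : z = y.1 := Set.mem_singleton_iff.mp ((hHA y).subset ha)
          refine absurd ?_ hz.2
          exact Set.mem_biUnion (show y.1 ∈ O from ⟨⟨hz.1, y.2⟩, fun e ↦ hyx (Subtype.ext e)⟩)
            (subset_closure rfl)
      obtain ⟨t, ht⟩ := Groth.Agent.CoprimaryLib.exists_kernel_pi_lift p W' s' hall
      have hk : Limits.kernel.ι (Limits.Pi.lift p) = 0 := hHm _ _ _ fun y ↦ by
        rw [Limits.zero_comp, ← Limits.Pi.lift_π p y, ← Category.assoc, Limits.kernel.condition,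
          Limits.zero_comp]
      have hs' : s' = 0 := ht.symm.trans congr($(hk).app W' t)
      rw [← M.presheaf.germ_res_apply (homOfLE hW'V) x.1 hxW' s]
      exact (congrArg _ hs').trans (map_zero _)
    · refine Groth.Agent.AssLib.eq_zero_of_germ_ass _ fun z hz ha ↦ ?_
      obtain rfl : z = x.1 := Set.mem_singleton_iff.mp ((hHA x).subset ha)
      rw [← Groth.Agent.PullbackMod.stalkLin_germ (p x) x.1 hz s, h hz, map_zero]
  have hker : ∀ (H H' : ↥(AssSch.Ass M) → X.Modules) (p : ∀ x, M ⟶ H x) (p' : ∀ x, M ⟶ H' x),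
      (∀ (V : X.Opens) (s : Γ(M, V)), (p x).app V s = 0 → (p' x).app V s = 0) →
      Limits.kernel.ι (p x) ≫ p' x = 0 := fun H H' p p' h ↦
    Scheme.Modules.hom_ext _ _ fun V ↦ AddCommGrpCat.hom_ext (AddMonoidHom.ext fun t ↦
      h V _ congr($(Limits.kernel.condition (p x)).app V t))
  haveI := hq x
  haveI := hq' x
  let hc := Abelian.epiIsCokernelOfKernel
    (Limits.KernelFork.ofι _ (Limits.kernel.condition (q x))) (Limits.kernelIsKernel (q x))
  let hc' := Abelian.epiIsCokernelOfKernel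
    (Limits.KernelFork.ofι _ (Limits.kernel.condition (q' x))) (Limits.kernelIsKernel (q' x))
  obtain ⟨l, hl⟩ := Limits.CokernelCofork.IsColimit.desc' hc (q' x) (hker G G' q q' fun V s h ↦
    (hrel G' q' hG' hA' hm' V s).mpr ((hrel G q hG hA hm V s).mp h))
  obtain ⟨l', hl'⟩ := Limits.CokernelCofork.IsColimit.desc' hc' (q x) (hker G' G q' q fun V s h ↦
    (hrel G q hG hA hm V s).mpr ((hrel G' q' hG' hA' hm' V s).mp h))
  have hl1 : q x ≫ l = q' x := hl
  have hl2 : q' x ≫ l' = q x := hl'
  refine ⟨⟨l, l', ?_, ?_⟩, hl1⟩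
  · rw [← cancel_epi (q x), ← Category.assoc, hl1, hl2, Category.comp_id]
  · rw [← cancel_epi (q' x), ← Category.assoc, hl2, hl1, Category.comp_id]

end Groth.Agent.S4683
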