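import Mathlib
import Mathlib
import Groth.Statements.S4688

set_option autoImplicit false
universe u
open EGA4

namespace Groth.Agent.S4688

open Polynomial in
/-- Let A be a Noetherian ring, p a prime ideal of A and q a prime ideal of the polynomial ring A[T]
lying over p. Then the extended ideal p A[T] has the same height as p, and if q is different from p
A[T] one has ht(q) = ht(p) + 1. (The remaining assertions of the published item, that p A[T] is
prime over p and that there are infinitely many pairwise incomparable such q, are not restated.) -/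
theorem result (A : Type u) [CommRing A] [IsNoetherianRing A]
    (p : Ideal A) [p.IsPrime] (q : Ideal A[X]) [q.IsPrime] [q.LiesOver p] :
    (p.map (Polynomial.C : A →+* A[X])).height = p.height ∧
      (q ≠ p.map (Polynomial.C : A →+* A[X]) → q.height = p.height + 1) := by
  classical
  haveI : (p.map (Polynomial.C : A →+* A[X])).IsPrime := Ideal.isPrime_map_C_of_isPrime
  haveI : (p.map (Polynomial.C : A →+* A[X])).LiesOver p := ⟨le_antisymm Ideal.le_comap_map (fun a ha => by
    have h := (Ideal.mem_map_C_iff.1 ha) 0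
    rwa [Polynomial.algebraMap_eq, Polynomial.coeff_C_zero] at h)⟩
  refine ⟨?_, fun hne => ?_⟩
  · rw [Ideal.height_eq_height_add_of_liesOver_of_hasGoingDown p (p.map (Polynomial.C : A →+* A[X])),
      show (p.map (algebraMap A A[X])) = p.map (Polynomial.C : A →+* A[X]) from rfl, Ideal.map_quotient_self]
    haveI : Nontrivial (A[X] ⧸ p.map (Polynomial.C : A →+* A[X])) :=
      Ideal.Quotient.nontrivial_iff.2 (Ideal.IsPrime.ne_top inferInstance)
    rw [Ideal.height_bot, add_zero]
  · have hle : p.map (Polynomial.C : A →+* A[X]) ≤ q :=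
      Ideal.map_le_iff_le_comap.2 (Ideal.LiesOver.over (p := p) (P := q)).le
    suffices h : (q.map (Ideal.Quotient.mk (p.map (algebraMap A A[X])))).height = 1 by
      rw [Ideal.height_eq_height_add_of_liesOver_of_hasGoingDown p q, h]
    let e : (A[X] ⧸ (p.map (algebraMap A A[X]))) ≃+* (A ⧸ p)[X] :=
      (Ideal.polynomialQuotientEquivQuotientPolynomial p).symm
    set q₁ := q.map (Ideal.Quotient.mk (p.map (algebraMap A A[X]))) with hq₁
    haveI : q₁.IsPrime := Ideal.map_isPrime_of_surjective Ideal.Quotient.mk_surjective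
      (by rw [Ideal.mk_ker]; exact hle)
    rw [← e.height_map q₁]
    set Q := q₁.map e with hQ
    haveI : Q.IsPrime := Ideal.map_isPrime_of_equiv e
    have hQne : Q ≠ ⊥ := fun h => by
      rw [hQ, Ideal.map_eq_bot_iff_of_injective e.injective, hq₁, ← le_bot_iff, Ideal.map_le_iff_le_comap,
        ← RingHom.ker_eq_comap_bot, Ideal.mk_ker] at h
      exact hne (le_antisymm h hle)
    have hcomap : ∀ c : A ⧸ p, Polynomial.C c ∈ Q → c = 0 := fun c hc => by
      obtain ⟨a, rfl⟩ := Ideal.Quotient.mk_surjective c
      have he : e (Ideal.Quotient.mk _ (Polynomial.C a)) = Polynomial.C (Ideal.Quotient.mk p a) := by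
        show (Ideal.polynomialQuotientEquivQuotientPolynomial p).symm _ = _
        exact (Ideal.polynomialQuotientEquivQuotientPolynomial_symm_mk p (Polynomial.C a)).trans (Polynomial.map_C _)
      rw [← he, hQ, Ideal.apply_mem_of_equiv_iff, hq₁, Ideal.mem_quotient_iff_mem (show p.map (algebraMap A A[X]) ≤ q from hle)] at hc
      exact Ideal.Quotient.eq_zero_iff_mem.2 ((Ideal.LiesOver.over (p := p) (P := q)).ge hc)
    refine le_antisymm ?_ ?_
    · let K := FractionRing (A ⧸ p)
      letI : Algebra (A ⧸ p)[X] K[X] := Polynomial.algebra (R := A ⧸ p) (A := K)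
      haveI : IsLocalization (Submonoid.map (Polynomial.C : A ⧸ p →+* (A ⧸ p)[X]) (nonZeroDivisors (A ⧸ p))) K[X] :=
        Polynomial.isLocalization (nonZeroDivisors (A ⧸ p)) K
      have disj : Disjoint ((Submonoid.map (Polynomial.C : A ⧸ p →+* (A ⧸ p)[X]) (nonZeroDivisors (A ⧸ p)) : Submonoid (A ⧸ p)[X]) : Set (A ⧸ p)[X]) (Q : Set (A ⧸ p)[X]) :=
        Set.disjoint_left.mpr fun x ⟨c, hc, hcx⟩ hx => nonZeroDivisors.ne_zero hc (hcomap c (hcx ▸ hx))
      rw [← IsLocalization.height_map_of_disjoint (S := K[X])
        (Submonoid.map (Polynomial.C : A ⧸ p →+* (A ⧸ p)[X]) (nonZeroDivisors (A ⧸ p))) Q disj]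
      haveI := IsLocalization.isPrime_of_isPrime_disjoint _ K[X] Q inferInstance disj
      refine WithBot.coe_le_coe.1 ((Ideal.height_le_ringKrullDim_of_ne_top (Ideal.IsPrime.ne_top inferInstance)).trans ?_)
      rw [Polynomial.ringKrullDim_of_isNoetherianRing, ringKrullDim_eq_zero_of_field, zero_add]
      rfl
    · rw [ENat.one_le_iff_ne_zero]
      intro h
      rw [Ideal.height_eq_zero_iff, minimalPrimes_eq_minimals] at h
      exact hQne (le_bot_iff.1 (h.2 Ideal.isPrime_bot bot_le))

end Groth.Agent.S4688
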