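import Groth.Statements.S4690
import Groth.Agent.DimFormulaLib.Catenary
-- import your own Groth.Agent.* helpers here

set_option autoImplicit false
universe u
open EGA4

namespace Groth.Agent.S4690

open AlgebraicGeometry CategoryTheory in
/-- Let Y be an irreducible locally Noetherian scheme, X an irreducible scheme and f : X → Y a dominant
morphism locally of finite type; let e be the dimension of the generic fibre of f. Then dim X ≤ dim
Y + e. If moreover every local ring of Y is universally catenary, the two sides are equal if and
only if dim Y equals the supremum of the dimensions of the local rings of Y at the points of f(X). -/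
theorem result {X Y : Scheme.{u}} (f : X ⟶ Y) [IsLocallyNoetherian Y]
    [LocallyOfFiniteType f] [IrreducibleSpace X] [IrreducibleSpace Y] (hf : DenseRange f.base) :
    topologicalKrullDim X ≤ topologicalKrullDim Y + topologicalKrullDim (f.fiber (genericPoint Y)) ∧
      ((∀ y : Y, CAlg.IsUniversallyCatenary (Y.presheaf.stalk y)) →
        (topologicalKrullDim X = topologicalKrullDim Y + topologicalKrullDim (f.fiber (genericPoint Y)) ↔
          topologicalKrullDim Y = ⨆ y ∈ Set.range f.base, ringKrullDim (Y.presheaf.stalk y))) := by
  obtain ⟨n, hn, hgen, -⟩ := Groth.Agent.DimFormulaLib.genericFibre_dim f hf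
  refine ⟨?_, fun hY => ?_⟩
  · rw [hgen]
    exact (Groth.Agent.DimFormulaLib.topologicalKrullDim_eq_add_of_isClosedMap f hf n hn).1
  · rw [hgen, Groth.Agent.DimFormulaLib.topologicalKrullDim_eq_iSup_range_add f hf hY n hgen]
    have hc : ∀ u v : WithBot ℕ∞, u + (n : WithBot ℕ∞) = v + (n : WithBot ℕ∞) → u = v := by
      intro u v huv
      rcases u with _ | u <;> rcases v with _ | v
      · rfl
      · simp only [WithBot.none_eq_bot, WithBot.bot_add] at huv
        exact absurd huv.symm WithBot.coe_ne_bot
      · simp only [WithBot.none_eq_bot, WithBot.bot_add] at huv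
        exact absurd huv WithBot.coe_ne_bot
      · exact congrArg WithBot.some (WithTop.add_right_cancel (ENat.coe_ne_top n)
          (WithBot.coe_injective huv))
    exact ⟨fun h => (hc _ _ h).symm, fun h => by rw [h]⟩

end Groth.Agent.S4690
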