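import Groth.Statements.S4692
import Groth.Agent.DimFormulaLib.Catenary
-- import your own Groth.Agent.* helpers here

set_option autoImplicit false
universe u
open EGA4

namespace Groth.Agent.S4692

open AlgebraicGeometry CategoryTheory in
/-- Let Y be a locally Noetherian scheme all of whose local rings are universally catenary, X an
irreducible scheme, f : X → Y a morphism locally of finite type and n a natural number. If every
fibre of f has dimension at least n then dim X ≥ dim Y + n; if every fibre has dimension exactly n
then dim X = dim Y + n. (The empty scheme has dimension ⊥, so either hypothesis forces f to be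
surjective.) -/
theorem result {X Y : Scheme.{u}} (f : X ⟶ Y) [IsLocallyNoetherian Y]
    [LocallyOfFiniteType f] [IrreducibleSpace X] (hY : ∀ y : Y, CAlg.IsUniversallyCatenary (Y.presheaf.stalk y))
    (n : ℕ) :
    ((∀ y : Y, (n : WithBot ℕ∞) ≤ topologicalKrullDim (f.fiber y)) →
        topologicalKrullDim Y + n ≤ topologicalKrullDim X) ∧
      ((∀ y : Y, topologicalKrullDim (f.fiber y) = n) →
        topologicalKrullDim X = topologicalKrullDim Y + n) := by
  have hsurj : (∀ y : Y, (n : WithBot ℕ∞) ≤ topologicalKrullDim (f.fiber y)) → Function.Surjective f.base := by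
    intro h y
    have hne : topologicalKrullDim (f.fiber y) ≠ ⊥ := fun hb => by
      have h1 := h y
      rw [hb, le_bot_iff] at h1
      exact WithBot.coe_ne_bot h1
    by_contra hy
    haveI : IsEmpty ↥(f.fiber y) := ⟨fun z => hy ⟨_, (f.fiberHomeo y z).2⟩⟩
    haveI : IsEmpty (TopologicalSpace.IrreducibleCloseds ↥(f.fiber y)) :=
      ⟨fun Z => IsEmpty.false Z.2.nonempty.choose⟩
    exact hne Order.krullDim_eq_bot
  have key : (∀ y : Y, (n : WithBot ℕ∞) ≤ topologicalKrullDim (f.fiber y)) → ∃ η : Y, ∃ T : ℕ,
      topologicalKrullDim (f.fiber η) = T ∧ topologicalKrullDim X = topologicalKrullDim Y + T := by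
    intro h
    have hs := hsurj h
    haveI : IrreducibleSpace Y := (irreducibleSpace_def Y).2 (by
      have := (IrreducibleSpace.isIrreducible_univ X).image f.base f.continuous.continuousOn
      rwa [Set.image_univ, hs.range_eq] at this)
    obtain ⟨T, -, hgen, -⟩ := Groth.Agent.DimFormulaLib.genericFibre_dim f hs.denseRange
    refine ⟨genericPoint Y, T, hgen, ?_⟩
    rw [Groth.Agent.DimFormulaLib.topologicalKrullDim_eq_iSup_range_add f hs.denseRange hY T hgen,
      Groth.Agent.DimFormulaLib.topologicalKrullDim_eq_iSup_stalk Y]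
    congr 1
    refine le_antisymm (iSup₂_le fun y _ => le_iSup (fun y : Y => ringKrullDim (Y.presheaf.stalk y)) y) ?_
    exact iSup_le fun y => le_iSup₂ (f := fun y (_ : y ∈ Set.range f.base) => ringKrullDim (Y.presheaf.stalk y)) y (hs y)
  refine ⟨fun h => ?_, fun h => ?_⟩
  · obtain ⟨η, T, hη, hX⟩ := key h
    rw [hX]
    exact add_le_add le_rfl (hη ▸ h η)
  · obtain ⟨η, T, hη, hX⟩ := key fun y => (h y).ge
    rw [hX, ← hη, h η]

end Groth.Agent.S4692
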