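import Mathlib
import Groth.Agent.FlatTensorDimLib.Basic
import Groth.Agent.FlatDepth.Basic
import Groth.Agent.S5769
import Groth.Statements.S4693

set_option autoImplicit false
universe u
open EGA4

namespace Groth.Agent.S4693

/-- Let A → B be a local homomorphism of Noetherian local rings such that the closed fibre ring B/m_A B
has Krull dimension 0 (that is, m_A B is an ideal of definition of B). Then dim B ≤ dim A. If
moreover some finite B-module which is flat over A has support equal to all of Spec B (for instance
if B is flat over A), then dim B = dim A. -/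
theorem result (A B : Type u) [CommRing A] [CommRing B] [IsNoetherianRing A]
    [IsNoetherianRing B] [IsLocalRing A] [IsLocalRing B] [Algebra A B] [IsLocalHom (algebraMap A B)]
    (h0 : ringKrullDim (EGA4.FibRing A B) = 0) :
    ringKrullDim B ≤ ringKrullDim A ∧
      (∀ (N : Type u) [AddCommGroup N] [Module B N] [Module A N] [IsScalarTower A B N] [Module.Finite B N]
          [Module.Flat A N], Module.support B N = Set.univ → ringKrullDim B = ringKrullDim A) := by
  have h69 := Groth.Agent.S5769.result A B
  change ringKrullDim (B ⧸ (IsLocalRing.maximalIdeal A).map (algebraMap A B)) = 0 at h0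
  rw [h0, add_zero] at h69
  refine ⟨h69, ?_⟩
  intro N _ _ _ _ _ _ hsupp
  haveI : Nontrivial N := by
    by_contra h
    haveI := not_nontrivial_iff_subsingleton.1 h
    rw [Module.support_eq_empty] at hsupp
    exact Set.empty_ne_univ hsupp
  have h := Groth.Agent.FlatTensorDimLib.supportDim_tensor_eq (A := A) (B := B) (N := N) A
  have hN : ∀ (S : Type u) [CommRing S] (P : Type u) [AddCommGroup P] [Module S P],
      Module.support S P = Set.univ → Module.supportDim S P = ringKrullDim S := fun S _ P _ _ hP => by
    rw [← Module.supportDim_self_eq_ringKrullDim, Module.supportDim, Module.supportDim, hP,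
      (Module.support_of_algebra (R := S) (A := S)).trans (show _ = Set.univ by
        rw [(RingHom.injective_iff_ker_eq_bot _).1 (fun _ _ h => h : Function.Injective (algebraMap S S))]
        simp)]
  rw [Module.supportDim_eq_of_equiv (TensorProduct.AlgebraTensorModule.rid A B N), hN B N hsupp,
    Module.supportDim_self_eq_ringKrullDim] at h
  set I := (IsLocalRing.maximalIdeal A).map (algebraMap A B)
  haveI : Nontrivial (N ⧸ (I • ⊤ : Submodule B N)) :=
    Groth.Agent.FlatDepth.nontrivial_fib (A := A) (B := B) (N := N)
  have hle : Module.supportDim B (N ⧸ (I • ⊤ : Submodule B N)) ≤ 0 := by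
    rw [← h0, ← Module.supportDim_quotient_eq_ringKrullDim, Module.supportDim, Module.supportDim]
    refine Order.krullDim_le_of_strictMono (fun q => ⟨q.1, ?_⟩) fun a b hab => hab
    rw [Module.mem_support_iff_of_finite, Ideal.annihilator_quotient]
    exact ((Groth.Agent.FlatTensorDimLib.mem_support_quot I q.1).1 q.2).2
  have hge : (0 : WithBot ℕ∞) ≤ Module.supportDim B (N ⧸ (I • ⊤ : Submodule B N)) :=
    Order.krullDim_nonneg_iff.mpr (Set.nonempty_coe_sort.mpr Module.nonempty_support_of_nontrivial)
  rw [le_antisymm hle hge, add_zero] at h
  exact h

end Groth.Agent.S4693
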