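import Groth.Statements.S4694
import Groth.Agent.FlatDepth.Basic
-- import your own Groth.Agent.* helpers here

set_option autoImplicit false
universe u
open EGA4

namespace Groth.Agent.S4694

open TensorProduct in
/-- Let A → B be a local homomorphism of Noetherian local rings, M a finite A-module and N a nonzero
finite B-module, flat over A, whose closed-fibre module N/m_A N has finite length. Then the depth of
the B-module N ⊗_A M equals the depth of the A-module M. (The companion equality of codepths in the
published item is not restated.) -/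
theorem result {A B M N : Type u} [CommRing A] [CommRing B]
    [IsNoetherianRing A] [IsNoetherianRing B] [IsLocalRing A] [IsLocalRing B] [Algebra A B]
    [IsLocalHom (algebraMap A B)] [AddCommGroup M] [Module A M] [Module.Finite A M]
    [AddCommGroup N] [Module B N] [Module A N] [IsScalarTower A B N] [Module.Finite B N] [Nontrivial N]
    [Module.Flat A N] (hN : IsFiniteLength B (EGA4.FibMod A B N)) :
    LocCoh.depth B (N ⊗[A] M) = LocCoh.depth A M := by
  rcases subsingleton_or_nontrivial M with hM | hM
  · haveI : Subsingleton (N ⊗[A] M) := inferInstance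
    rw [Groth.Agent.CAlgBasics.depth_eq_top, Groth.Agent.CAlgBasics.depth_eq_top]
  haveI := Groth.Agent.FlatDepth.nontrivial_fib (A := A) (B := B) (N := N)
  suffices h : LocCoh.depth B (Groth.Agent.FlatDepth.Fib A B N) = 0 by
    rw [Groth.Agent.FlatDepth.depth_tensor (A := A) (B := B) (N := N) M, h, add_zero]
  rw [Groth.Agent.FlatDepth.depth_eq_zero_iff]
  haveI : IsArtinian B (EGA4.FibMod A B N) := (isFiniteLength_iff_isNoetherian_isArtinian.1 hN).2
  haveI : IsAtomic (Submodule B (EGA4.FibMod A B N)) := isAtomic_of_orderBot_wellFounded_lt wellFounded_lt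
  obtain ⟨S, hS, -⟩ := (IsAtomic.eq_bot_or_exists_atom_le (⊤ : Submodule B (EGA4.FibMod A B N))).resolve_left top_ne_bot
  obtain ⟨x, hx, hx0⟩ := (Submodule.ne_bot_iff S).1 hS.1
  refine ⟨x, hx0, fun r hr => ?_⟩
  have hle : IsLocalRing.maximalIdeal B • S ≤ S := Submodule.smul_le_right
  rcases hS.le_iff.1 hle with h | h
  · exact (Submodule.mem_bot B).1 (h ▸ Submodule.smul_mem_smul hr hx)
  · exact absurd (Submodule.eq_bot_of_le_smul_of_le_jacobson_bot _ S (IsNoetherian.noetherian S) h.ge
      (IsLocalRing.jacobson_eq_maximalIdeal ⊥ bot_ne_top).ge) hS.1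

end Groth.Agent.S4694
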