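import Groth.Statements.S4695
import Groth.Agent.RegDesc.Basic
-- import your own Groth.Agent.* helpers here

set_option autoImplicit false
universe u
open EGA4

namespace Groth.Agent.S4695

open TensorProduct in
/-- Case of regular morphisms, affine form: let A → B be a homomorphism of Noetherian rings and A' a
Noetherian A-algebra, and assume that B or A' is of finite type over A. If A → B is regular then the
base change A' → A' ⊗_A B is regular; the converse holds when A' is faithfully flat over A. -/
theorem result (A B A' : Type u) [CommRing A] [CommRing B] [CommRing A']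
    [IsNoetherianRing A] [IsNoetherianRing B] [IsNoetherianRing A'] [Algebra A B] [Algebra A A']
    (hft : Algebra.FiniteType A B ∨ Algebra.FiniteType A A') :
    (CAlg.IsRegularHom A B → CAlg.IsRegularHom A' (A' ⊗[A] B)) ∧
      (Module.FaithfullyFlat A A' → CAlg.IsRegularHom A' (A' ⊗[A] B) → CAlg.IsRegularHom A B) := by
  refine ⟨fun h => ?_, fun hff h => ?_⟩
  · haveI : IsNoetherianRing (A' ⊗[A] B) := by
      rcases hft with hB | hA
      · haveI := hB
        exact Groth.Agent.RegDesc.isNoetherianRing_tensor_finiteType A A' B
      · haveI := hA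
        exact Groth.Agent.RegDesc.isNoetherianRing_tensor_essFiniteType A A' B
    exact Groth.Agent.RegDesc.isRegularHom_baseChange A B A' h
  · haveI := hff
    haveI := h.1
    haveI : Module.Flat A B := Module.Flat.of_flat_tensorProduct A B A'
    refine Groth.Agent.RegHomLib.isRegularHom_of_fields
      (fun p _ => Groth.Agent.RegDesc.isNoetherianRing_tensor_essFiniteType A _ _) fun K _ _ _ hN => ?_
    haveI : Nontrivial (K ⊗[A] A') := inferInstance
    obtain ⟨m, hm⟩ := Ideal.exists_maximal (K ⊗[A] A')
    letI : Field ((K ⊗[A] A') ⧸ m) := Ideal.Quotient.field m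
    let L := (K ⊗[A] A') ⧸ m
    letI : Algebra A' L := ((Ideal.Quotient.mk m).comp
      (Algebra.TensorProduct.includeRight (R := A) (A := K) (B := A')).toRingHom).toAlgebra
    haveI : IsScalarTower A A' L := IsScalarTower.of_algebraMap_eq fun x => by
      rw [RingHom.algebraMap_toAlgebra, RingHom.comp_apply]
      show _ = Ideal.Quotient.mk m (Algebra.TensorProduct.includeRight (algebraMap A A' x))
      rw [AlgHom.commutes]
      rfl
    haveI : IsNoetherianRing (L ⊗[A] B) := by
      rcases hft with hB | hA
      · haveI := hB
        exact Groth.Agent.RegDesc.isNoetherianRing_tensor_finiteType A L B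
      · haveI := hA
        haveI : Algebra.FiniteType K L :=
          (inferInstance : Algebra.FiniteType K (K ⊗[A] A')).of_surjective (Ideal.Quotient.mkₐ K m) (Ideal.Quotient.mkₐ_surjective K m)
        haveI := Groth.Agent.RegDesc.isNoetherianRing_tensor_essFiniteType K L (K ⊗[A] B)
        exact isNoetherianRing_of_ringEquiv (L ⊗[K] (K ⊗[A] B)) (Algebra.TensorProduct.cancelBaseChange A K L L B).toRingEquiv
    let e := (Algebra.TensorProduct.cancelBaseChange A A' L L B).toRingEquiv
    haveI : IsNoetherianRing (L ⊗[A'] (A' ⊗[A] B)) := isNoetherianRing_of_ringEquiv (L ⊗[A] B) e.symm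
    haveI := Groth.Agent.RegDesc.regular_tensor_any_field h L
    exact Groth.Agent.RegDesc.isRegularRing_field_descent A K L B (IsRegularRing.of_ringEquiv (R := L ⊗[A'] (A' ⊗[A] B)) e)

end Groth.Agent.S4695
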