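import Groth.Statements.S4701
import Groth.Agent.RegLocLib.Dim1
-- import your own Groth.Agent.* helpers here

set_option autoImplicit false
universe u
open EGA4

namespace Groth.Agent.S4701

/-- Let A be a Noetherian ring. The regular locus of every quotient ring A/I is open in its spectrum if
and only if, for every prime ideal p, the regular locus of the domain A/p contains a nonempty open
subset of Spec(A/p). (The published statement quantifies over all subschemes of Spec A; open
subschemes of the closed ones add nothing, so closed subschemes are used here.) -/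
theorem result (A : Type u) [CommRing A] [IsNoetherianRing A] :
    (∀ I : Ideal A, IsOpen (EGA4.regLocus (A ⧸ I))) ↔
      ∀ (p : Ideal A) [p.IsPrime],
        ∃ U : Set (PrimeSpectrum (A ⧸ p)), IsOpen U ∧ U.Nonempty ∧ U ⊆ EGA4.regLocus (A ⧸ p) := by
  constructor
  · intro h p _
    exact RegLocLib.nonempty_open_of_isOpen (h p)
  · intro h I
    refine RegLocLib.isOpen_regLocus_of_quotients fun q _ => ?_
    let P : Ideal A := q.asIdeal.comap (Ideal.Quotient.mk I)
    haveI : P.IsPrime := Ideal.comap_isPrime _ _
    let π : A →+* (A ⧸ I) ⧸ q.asIdeal := (Ideal.Quotient.mk q.asIdeal).comp (Ideal.Quotient.mk I)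
    have hker : RingHom.ker π = P := Ideal.ext fun x =>
      (Ideal.Quotient.eq_zero_iff_mem (I := q.asIdeal) (a := Ideal.Quotient.mk I x))
    exact RegLocLib.exists_open_of_equiv
      (((Ideal.quotEquivOfEq hker.symm).trans (RingHom.quotientKerEquivOfSurjective
        (f := π) (Ideal.Quotient.mk_surjective.comp Ideal.Quotient.mk_surjective))).symm) (h P)

end Groth.Agent.S4701
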