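import Groth.Statements.S4704
import Groth.Agent.RegDesc.Basic
import Groth.Agent.EtLocalLib.Completion
import Groth.Agent.RatliffLib.EssFinite
-- import your own Groth.Agent.* helpers here

set_option autoImplicit false
universe u
open EGA4

namespace Groth.Agent.S4704

/-- Let A → A' be a local homomorphism of Noetherian local rings which is regular (flat, with
geometrically regular fibres). If the completion map of A' is regular (the formal fibres of A' are
geometrically regular), then the completion map of A is regular. -/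
theorem result (A A' : Type u) [CommRing A] [CommRing A'] [IsNoetherianRing A]
    [IsNoetherianRing A'] [IsLocalRing A] [IsLocalRing A'] [Algebra A A'] [IsLocalHom (algebraMap A A')]
    (hf : CAlg.IsRegularHom A A') (hA' : CAlg.IsRegularHom A' (EGA4.Cpl A')) :
    CAlg.IsRegularHom A (EGA4.Cpl A) := by
  haveI : IsNoetherianRing (EGA4.Cpl A') := Groth.Agent.RegLocal.isNoetherianRing_completion A' _
  haveI : IsNoetherianRing (EGA4.Cpl A) := Groth.Agent.RegLocal.isNoetherianRing_completion A _
  have hAC : CAlg.IsRegularHom A (EGA4.Cpl A') := Groth.Agent.RegDesc.isRegularHom_comp A A' (EGA4.Cpl A') hf hA'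
  let ψ := Groth.Agent.CMCat.complHom (algebraMap A A') (IsLocalRing.maximalIdeal A) (IsLocalRing.maximalIdeal A')
    ((((IsLocalRing.local_hom_TFAE (algebraMap A A')).out 0 2 :
      IsLocalHom (algebraMap A A') ↔ (IsLocalRing.maximalIdeal A).map (algebraMap A A') ≤ IsLocalRing.maximalIdeal A')).mp inferInstance)
  letI : Algebra (EGA4.Cpl A) (EGA4.Cpl A') := ψ.toAlgebra
  haveI : IsScalarTower A (EGA4.Cpl A) (EGA4.Cpl A') := IsScalarTower.of_algebraMap_eq fun a => by
    rw [RingHom.algebraMap_toAlgebra, IsScalarTower.algebraMap_apply A A' (EGA4.Cpl A')]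
    exact (Groth.Agent.CMCat.complHom_algebraMap _ _ _ _ a).symm
  haveI : IsLocalRing (EGA4.Cpl A') :=
    Groth.Agent.RegLocal.isLocalRing_completion A' _ (IsLocalRing.maximalIdeal.isMaximal A').ne_top
  haveI : IsLocalRing (EGA4.Cpl A) :=
    Groth.Agent.RegLocal.isLocalRing_completion A _ (IsLocalRing.maximalIdeal.isMaximal A).ne_top
  haveI : Module.Flat A (EGA4.Cpl A') := hAC.1
  haveI : IsLocalHom (algebraMap (EGA4.Cpl A) (EGA4.Cpl A')) := Groth.Agent.EtLocalLib.isLocalHom_completion
  haveI : Module.Flat (EGA4.Cpl A) (EGA4.Cpl A') := Groth.Agent.RatliffLib.flat_over_completion (by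
    rw [IsLocalRing.jacobson_eq_maximalIdeal ⊥ bot_ne_top]
    refine Ideal.map_le_iff_le_comap.mpr fun x hx => ?_
    rw [Ideal.mem_comap, IsScalarTower.algebraMap_apply A A' (EGA4.Cpl A')]
    haveI : Module.FaithfullyFlat A' (EGA4.Cpl A') :=
      Groth.Agent.RegLocal.faithfullyFlat_completion A' _ (IsLocalRing.maximalIdeal.isMaximal A').ne_top
    exact map_nonunit _ _ (map_nonunit _ _ hx))
  haveI : Module.FaithfullyFlat (EGA4.Cpl A) (EGA4.Cpl A') := Module.FaithfullyFlat.of_flat_of_isLocalHom
  exact Groth.Agent.RegDesc.isRegularHom_of_comp A (EGA4.Cpl A) (EGA4.Cpl A') hAC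

end Groth.Agent.S4704
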