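import Groth.Statements.S4705
import Groth.Agent.GeomRedFib.Basic
import Groth.Agent.EtLocalLib.Completion
import Groth.Agent.RatliffLib.EssFinite
-- import your own Groth.Agent.* helpers here

set_option autoImplicit false
universe u
open EGA4

namespace Groth.Agent.S4705

/-- Let A → A' be a flat local homomorphism of Noetherian local rings all of whose fibre rings k(p) ⊗_A
A' are geometrically reduced over k(p). If the completion map of A' is regular (the formal fibres of
A' are geometrically regular), then the formal fibres of A are geometrically reduced. -/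
theorem result (A A' : Type u) [CommRing A] [CommRing A']
    [IsNoetherianRing A] [IsNoetherianRing A'] [IsLocalRing A] [IsLocalRing A'] [Algebra A A']
    [IsLocalHom (algebraMap A A')] [Module.Flat A A']
    (hf : ∀ (p : Ideal A) [p.IsPrime], Algebra.IsGeometricallyReduced p.ResidueField (p.Fiber A'))
    (hA' : CAlg.IsRegularHom A' (EGA4.Cpl A')) : EGA4.HasGeomReducedFormalFibres A := by
  haveI : IsNoetherianRing (EGA4.Cpl A') := Groth.Agent.RegLocal.isNoetherianRing_completion A' _
  haveI : IsNoetherianRing (EGA4.Cpl A) := Groth.Agent.RegLocal.isNoetherianRing_completion A _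
  haveI := hA'.1
  haveI : Module.Flat A (EGA4.Cpl A') := Module.Flat.trans A A' (EGA4.Cpl A')
  have hAC : Groth.Agent.GeomRedFib.FieldReduced A (EGA4.Cpl A') :=
    Groth.Agent.GeomRedFib.fieldReduced_comp A A' (EGA4.Cpl A') (Groth.Agent.GeomRedFib.fieldReduced_of_fibres hf)
      (Groth.Agent.GeomRedFib.fieldReduced_of_isRegularHom hA')
  let ψ := Groth.Agent.CMCat.complHom (algebraMap A A') (IsLocalRing.maximalIdeal A) (IsLocalRing.maximalIdeal A')
    ((((IsLocalRing.local_hom_TFAE (algebraMap A A')).out 0 2 :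
      IsLocalHom (algebraMap A A') ↔ (IsLocalRing.maximalIdeal A).map (algebraMap A A') ≤ IsLocalRing.maximalIdeal A')).mp inferInstance)
  letI : Algebra (EGA4.Cpl A) (EGA4.Cpl A') := ψ.toAlgebra
  haveI : IsScalarTower A (EGA4.Cpl A) (EGA4.Cpl A') := IsScalarTower.of_algebraMap_eq fun a => by
    rw [RingHom.algebraMap_toAlgebra, IsScalarTower.algebraMap_apply A A' (EGA4.Cpl A')]
    exact (Groth.Agent.CMCat.complHom_algebraMap _ _ _ _ a).symm
  haveI : IsLocalRing (EGA4.Cpl A') :=
    Groth.Agent.RegLocal.isLocalRing_completion A' _ (IsLocalRing.maximalIdeal.isMaximal A').ne_top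
  haveI : IsLocalRing (EGA4.Cpl A) :=
    Groth.Agent.RegLocal.isLocalRing_completion A _ (IsLocalRing.maximalIdeal.isMaximal A).ne_top
  haveI : IsLocalHom (algebraMap (EGA4.Cpl A) (EGA4.Cpl A')) := Groth.Agent.EtLocalLib.isLocalHom_completion
  haveI : Module.Flat (EGA4.Cpl A) (EGA4.Cpl A') := Groth.Agent.RatliffLib.flat_over_completion (by
    rw [IsLocalRing.jacobson_eq_maximalIdeal ⊥ bot_ne_top]
    refine Ideal.map_le_iff_le_comap.mpr fun x hx => ?_
    rw [Ideal.mem_comap, IsScalarTower.algebraMap_apply A A' (EGA4.Cpl A')]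
    haveI : Module.FaithfullyFlat A' (EGA4.Cpl A') :=
      Groth.Agent.RegLocal.faithfullyFlat_completion A' _ (IsLocalRing.maximalIdeal.isMaximal A').ne_top
    exact map_nonunit _ _ (map_nonunit _ _ hx))
  haveI : Module.FaithfullyFlat (EGA4.Cpl A) (EGA4.Cpl A') := Module.FaithfullyFlat.of_flat_of_isLocalHom
  exact fun p _ => Groth.Agent.GeomRedFib.fibres_of_fieldReduced
    (Groth.Agent.GeomRedFib.fieldReduced_of_comp A (EGA4.Cpl A) (EGA4.Cpl A') hAC) p

end Groth.Agent.S4705
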