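import Groth.Statements.S4706
import Groth.Agent.NormalTensor.Hom
import Groth.Agent.EtLocalLib.Completion
import Groth.Agent.RatliffLib.EssFinite
import Groth.Agent.PurityLib.Normal
-- import your own Groth.Agent.* helpers here

set_option autoImplicit false
universe u
open EGA4

namespace Groth.Agent.S4706

/-- Let A → A' be a local homomorphism of Noetherian local rings which is normal (flat, with
geometrically normal fibres). If the completion map of A' is regular (the formal fibres of A' are
geometrically regular), then the formal fibres of A are geometrically normal. -/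
theorem result (A A' : Type u) [CommRing A] [CommRing A']
    [IsNoetherianRing A] [IsNoetherianRing A'] [IsLocalRing A] [IsLocalRing A'] [Algebra A A']
    [IsLocalHom (algebraMap A A')] (hf : EGA4.IsNormalHom A A') (hA' : CAlg.IsRegularHom A' (EGA4.Cpl A')) :
    EGA4.HasGeomNormalFormalFibres A := by
  have hR : ∀ (R : Type u) [CommRing R], IsRegularRing R → EGA4.IsNormalRing R := fun R _ hR p _ => by
    haveI := hR.isRegularLocalRing_localization p
    exact Groth.Agent.PurityLib.isIntegrallyClosed_of_regular (Localization.AtPrime p)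
  have hA'' : EGA4.IsNormalHom A' (EGA4.Cpl A') := ⟨hA'.1, fun p _ k' _ _ hfin => hR _ ((hA'.2 p).2 k' hfin)⟩
  haveI : IsNoetherianRing (EGA4.Cpl A') := Groth.Agent.RegLocal.isNoetherianRing_completion A' _
  haveI : IsNoetherianRing (EGA4.Cpl A) := Groth.Agent.RegLocal.isNoetherianRing_completion A _
  have hAC : EGA4.IsNormalHom A (EGA4.Cpl A') := Groth.Agent.NormalTensor.isNormalHom_comp A A' (EGA4.Cpl A') hf hA''
  let ψ := Groth.Agent.CMCat.complHom (algebraMap A A') (IsLocalRing.maximalIdeal A) (IsLocalRing.maximalIdeal A')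
    ((((IsLocalRing.local_hom_TFAE (algebraMap A A')).out 0 2 :
      IsLocalHom (algebraMap A A') ↔ (IsLocalRing.maximalIdeal A).map (algebraMap A A') ≤ IsLocalRing.maximalIdeal A')).mp inferInstance)
  letI : Algebra (EGA4.Cpl A) (EGA4.Cpl A') := ψ.toAlgebra
  haveI : IsScalarTower A (EGA4.Cpl A) (EGA4.Cpl A') := IsScalarTower.of_algebraMap_eq fun a => by
    rw [RingHom.algebraMap_toAlgebra, IsScalarTower.algebraMap_apply A A' (EGA4.Cpl A')]
    exact (Groth.Agent.CMCat.complHom_algebraMap _ _ _ _ a).symm
  haveI : IsLocalRing (EGA4.Cpl A') :=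
    Groth.Agent.RegLocal.isLocalRing_completion A' _ (IsLocalRing.maximalIdeal.isMaximal A').ne_top
  haveI : IsLocalRing (EGA4.Cpl A) :=
    Groth.Agent.RegLocal.isLocalRing_completion A _ (IsLocalRing.maximalIdeal.isMaximal A).ne_top
  haveI : Module.Flat A (EGA4.Cpl A') := hAC.1
  haveI : IsLocalHom (algebraMap (EGA4.Cpl A) (EGA4.Cpl A')) := Groth.Agent.EtLocalLib.isLocalHom_completion
  haveI : Module.Flat (EGA4.Cpl A) (EGA4.Cpl A') := Groth.Agent.RatliffLib.flat_over_completion (by
    rw [IsLocalRing.jacobson_eq_maximalIdeal ⊥ bot_ne_top]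
    refine Ideal.map_le_iff_le_comap.mpr fun x hx => ?_
    rw [Ideal.mem_comap, IsScalarTower.algebraMap_apply A A' (EGA4.Cpl A')]
    haveI : Module.FaithfullyFlat A' (EGA4.Cpl A') :=
      Groth.Agent.RegLocal.faithfullyFlat_completion A' _ (IsLocalRing.maximalIdeal.isMaximal A').ne_top
    exact map_nonunit _ _ (map_nonunit _ _ hx))
  haveI : Module.FaithfullyFlat (EGA4.Cpl A) (EGA4.Cpl A') := Module.FaithfullyFlat.of_flat_of_isLocalHom
  exact (Groth.Agent.NormalTensor.isNormalHom_of_comp A (EGA4.Cpl A) (EGA4.Cpl A') hAC).2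

end Groth.Agent.S4706
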