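import Groth.Statements.S4707
import Groth.Agent.NormalTensor.Reduced
-- import your own Groth.Agent.* helpers here

set_option autoImplicit false
universe u
open EGA4

namespace Groth.Agent.S4707

open TensorProduct in
/-- Let A be a Noetherian ring and A' a Noetherian A-algebra such that A → A' is a normal homomorphism
(flat, with geometrically normal fibres). Let B → C be a homomorphism of A-algebras and D the
integral closure of B in C. Then the integral closure in A' ⊗_A C of the image of A' ⊗_A B is the
image of A' ⊗_A D. (No finiteness is assumed on B or C.) -/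
theorem result (A A' : Type u) [CommRing A] [CommRing A']
    [IsNoetherianRing A] [IsNoetherianRing A'] [Algebra A A'] (h : EGA4.IsNormalHom A A')
    (B C : Type u) [CommRing B] [CommRing C] [Algebra A B] [Algebra A C] [Algebra B C] [IsScalarTower A B C] :
    (integralClosure
          ↥(Algebra.TensorProduct.map (AlgHom.id A' A') (IsScalarTower.toAlgHom A B C)).range (A' ⊗[A] C) :
        Set (A' ⊗[A] C)) =
      Set.range (Algebra.TensorProduct.map (AlgHom.id A' A')
        ((integralClosure B C).val.restrictScalars A)) := by
  haveI : Module.Flat A A' := h.1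
  let φ := Algebra.TensorProduct.map (AlgHom.id A' A') (IsScalarTower.toAlgHom A B C)
  ext z
  constructor
  · intro hz
    obtain ⟨p, hp, hpz⟩ := hz
    rcases subsingleton_or_nontrivial φ.range with hs | hn
    · refine ⟨0, ?_⟩
      have h1 : (1 : A' ⊗[A] C) = 0 := congrArg Subtype.val (Subsingleton.elim (1 : φ.range) 0)
      rw [map_zero, ← mul_one z, h1, mul_zero]
    obtain ⟨p₀, hp₀, -, hp₀m⟩ := Polynomial.lifts_and_degree_eq_and_monic (Polynomial.mem_lifts _ |>.mpr
      (Polynomial.map_surjective φ.rangeRestrict.toRingHom φ.rangeRestrict_surjective p)) hp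
    obtain ⟨w, hw⟩ := Groth.Agent.NormalTensor.mem_range_integralClosure_tensor A A' (Groth.Agent.NormalTensor.fieldNormal_of_isNormalHom h) B C z
      ⟨p₀, hp₀m, by
        rw [← hp₀, Polynomial.eval₂_map] at hpz
        exact hpz⟩
    rw [← hw]
    clear hw
    show _ ∈ Set.range _
    induction w using TensorProduct.induction_on with
    | zero => exact ⟨0, by simp⟩
    | tmul a c => exact ⟨a ⊗ₜ c, rfl⟩
    | add a b ha hb =>
      obtain ⟨a', ha'⟩ := ha
      obtain ⟨b', hb'⟩ := hb
      exact ⟨a' + b', by rw [map_add, ha', hb', map_add]⟩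
  · rintro ⟨w, rfl⟩
    show _ ∈ integralClosure φ.range (A' ⊗[A] C)
    induction w using TensorProduct.induction_on with
    | zero => rw [map_zero]; exact Subalgebra.zero_mem _
    | tmul a c =>
      rw [Algebra.TensorProduct.map_tmul]
      have h1 : (a ⊗ₜ[A] (1 : C)) ∈ φ.range := ⟨a ⊗ₜ 1, by simp [φ]⟩
      obtain ⟨q, hq, hqe⟩ := c.2
      have h2 : IsIntegral φ.range ((1 : A') ⊗ₜ[A] (c : C)) := by
        refine ⟨q.map (φ.rangeRestrict.toRingHom.comp
          (Algebra.TensorProduct.includeRight (R := A) (A := A')).toRingHom), hq.map _, ?_⟩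
        rw [Polynomial.eval₂_map]
        have h3 := congrArg (Algebra.TensorProduct.includeRight (R := A) (A := A') (B := C)).toRingHom hqe
        rw [map_zero, Polynomial.hom_eval₂] at h3
        exact h3
      have h4 := (integralClosure φ.range (A' ⊗[A] C)).mul_mem
        (show (a ⊗ₜ[A] (1 : C)) ∈ _ from isIntegral_algebraMap (x := (⟨_, h1⟩ : φ.range))) h2
      rw [Algebra.TensorProduct.tmul_mul_tmul, mul_one, one_mul] at h4
      exact h4
    | add a b ha hb => rw [map_add]; exact Subalgebra.add_mem _ ha hb

end Groth.Agent.S4707
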