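import Groth.Statements.S4709
import Groth.Agent.NagataCompleteLib.QuasiExcellent
import Groth.Agent.GeomRedFib.Basic
import Groth.Agent.N2Lib.Basic
import Groth.Agent.S0567
-- import your own Groth.Agent.* helpers here

set_option autoImplicit false
universe u
open EGA4

namespace Groth.Agent.S4709

open Groth.Agent.NagataCompleteLib
open scoped TensorProduct
set_option backward.isDefEq.respectTransparency false
set_option maxHeartbeats 1000000

/-- Let A be a Noetherian ring such that (i) for every maximal ideal m the formal fibres of A_m are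
geometrically reduced, and (ii) the regular locus of every A-algebra of finite type is open (A is
J-2). Then A is universally Japanese. -/
theorem result (A : Type u) [CommRing A] [IsNoetherianRing A]
    (h1 : ∀ (m : Ideal A) [m.IsMaximal], EGA4.HasGeomReducedFormalFibres (Localization.AtPrime m))
    (h2 : EGA4.IsJ2 A) : CAlg.IsUniversallyJapanese A := by
  refine ((Groth.Agent.S0567.result A).1 ⟨inferInstance, fun p _ => isN2_of_open_norLocus (A ⧸ p) (fun q _ => ?_) fun C _ _ _ hC => ?_⟩).2
  · obtain ⟨Q, hQmax, hqQ⟩ := Ideal.exists_le_maximal q Ideal.IsPrime.ne_top'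
    haveI := hQmax
    let m : Ideal A := Q.comap (Ideal.Quotient.mk p)
    haveI : m.IsMaximal := Ideal.comap_isMaximal_of_surjective (Ideal.Quotient.mk p) Ideal.Quotient.mk_surjective
    let Am := Localization.AtPrime m
    have hpm : p ≤ m := fun x hx => by
      show Ideal.Quotient.mk p x ∈ Q
      rw [Ideal.Quotient.eq_zero_iff_mem.2 hx]
      exact zero_mem Q
    have hd : Disjoint (m.primeCompl : Set A) (p : Set A) := Set.disjoint_left.2 fun x hx hxp => hx (hpm hxp)
    haveI : (p.map (algebraMap A Am)).IsPrime := IsLocalization.isPrime_of_isPrime_disjoint m.primeCompl Am p ‹_› hd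
    have h2 : CAlg.IsN2 (Am ⧸ p.map (algebraMap A Am)) :=
      isN2_quot_of_reduced_fibres Am (p.map (algebraMap A Am)) fun L _ _ hL =>
        haveI := h1 m (p.map (algebraMap A Am))
        Groth.Agent.GeomRedFib.isReduced_field_tensor (p.map (algebraMap A Am)).ResidueField (EGA4.formalFibre Am (p.map (algebraMap A Am))) L
    have hM : Algebra.algebraMapSubmonoid (A ⧸ p) m.primeCompl = Q.primeCompl := by
      ext y
      constructor
      · rintro ⟨a, ha, rfl⟩; exact ha
      · intro hy
        obtain ⟨a, rfl⟩ := Ideal.Quotient.mk_surjective y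
        exact ⟨a, hy, rfl⟩
    haveI : IsLocalization.AtPrime (Am ⧸ p.map (algebraMap A Am)) Q := by
      show IsLocalization Q.primeCompl _
      rw [← hM]; infer_instance
    have hN2 : CAlg.IsN2 (Localization.AtPrime Q) := isN2_of_ringEquiv
      (IsLocalization.algEquiv Q.primeCompl (Am ⧸ p.map (algebraMap A Am)) (Localization.AtPrime Q)).toRingEquiv h2
    have hle : Q.primeCompl ≤ q.primeCompl := fun x hx hxq => hx (hqQ hxq)
    letI : Algebra (Localization.AtPrime Q) (Localization.AtPrime q) :=
      IsLocalization.localizationAlgebraOfSubmonoidLe (Localization.AtPrime Q) (Localization.AtPrime q) Q.primeCompl q.primeCompl hle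
    haveI : IsScalarTower (A ⧸ p) (Localization.AtPrime Q) (Localization.AtPrime q) :=
      IsLocalization.localization_isScalarTower_of_submonoid_le _ _ Q.primeCompl q.primeCompl hle
    haveI := IsLocalization.isLocalization_of_submonoid_le (Localization.AtPrime Q) (Localization.AtPrime q) Q.primeCompl q.primeCompl hle
    exact Groth.Agent.N2Lib.isN2_localization (q.primeCompl.map (algebraMap (A ⧸ p) (Localization.AtPrime Q))) _ hN2
  · letI : Algebra A C := ((algebraMap (A ⧸ p) C).comp (Ideal.Quotient.mk p)).toAlgebra
    haveI : IsScalarTower A (A ⧸ p) C := IsScalarTower.of_algebraMap_eq fun _ => rfl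
    haveI : Module.Finite A C := Module.Finite.trans (A ⧸ p) C
    haveI : IsNoetherianRing C := IsNoetherianRing.of_finite A C
    exact Groth.Agent.RegLocLib.isOpen_norLocus_of_isOpen_regLocus (h2 C inferInstance)

end Groth.Agent.S4709
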