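import Groth.Statements.S4711
import Mathlib
import Groth.Agent.QHomeoLib.Basic
-- import your own Groth.Agent.* helpers here

set_option autoImplicit false
universe u
open EGA4

namespace Groth.Agent.S4711

open AlgebraicGeometry Topology in
/-- In any scheme X, every nonempty locally constructible subset E contains a point x such that the
one-point set {x} is locally closed in X (equivalently x is isolated in its closure). -/
theorem result (X : Scheme.{u}) (E : Set X)
    (hE : Topology.IsLocallyConstructible E) (hne : E.Nonempty) :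
    ∃ x ∈ E, IsLocallyClosed ({x} : Set X) := by
  obtain ⟨x, hx⟩ := hne
  obtain ⟨U, hUn, hU, hc⟩ := hE x
  have hxU : x ∈ U := mem_of_mem_nhds hUn
  have hqc : QHomeoLib.IsQC (Subtype.val ⁻¹' E : Set U) := by
    refine Topology.IsConstructible.empty_union_induction (p := fun s _ => QHomeoLib.IsQC s)
      (fun V hV _ => QHomeoLib.isQC_of_isLocallyClosed hV.isLocallyClosed)
      (fun s _ t _ hs ht => hs.union ht) (fun s _ hs => hs.compl) hc
  obtain ⟨T, -, hT, hUE⟩ := hqc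
  obtain ⟨t, ht, hxt⟩ := hUE.subset (show (⟨x, hxU⟩ : U) ∈ (Subtype.val ⁻¹' E : Set U) from hx)
  obtain ⟨V, F, hV, hF, hVF⟩ := hT t ht
  obtain ⟨W, hW, rfl⟩ := isOpen_induced_iff.1 hV
  obtain ⟨G, hG, rfl⟩ := isClosed_induced_iff.1 hF
  subst hVF
  obtain ⟨A, hA, hxA, hAsub⟩ := exists_isAffineOpen_mem_and_subset (X := X) (U := ⟨U ∩ W, hU.inter hW⟩) (x := x)
    ⟨hxU, hxt.1⟩
  haveI : CompactSpace (A : Set X) := isCompact_iff_compactSpace.1 hA.isCompact
  obtain ⟨z, hz, hzc⟩ := IsClosed.exists_closed_singleton (X := (A : Set X))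
    (hG.preimage (continuous_subtype_val (p := (· ∈ (A : Set X))))) ⟨⟨x, hxA⟩, hxt.2⟩
  have hzUW : (z : X) ∈ U ∩ W := hAsub z.2
  refine ⟨z, hUE.superset ⟨_, ht, (show (⟨(z : X), hzUW.1⟩ : U) ∈ Subtype.val ⁻¹' W ∩ Subtype.val ⁻¹' G from ⟨hzUW.2, hz⟩)⟩, ?_⟩
  obtain ⟨F', hF', hFz⟩ := isClosed_induced_iff.1 hzc
  refine ⟨A, F', A.2, hF', ?_⟩
  ext w
  constructor
  · rintro rfl
    exact ⟨z.2, (Set.ext_iff.1 hFz z).2 rfl⟩
  · exact fun hw => congrArg Subtype.val ((Set.ext_iff.1 hFz ⟨w, hw.1⟩).1 hw.2)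

end Groth.Agent.S4711
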