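import Groth.Statements.S4714
import Groth.Agent.CutDimLib.Basic

set_option autoImplicit false
universe u
open EGA4

namespace Groth.Agent.S4714

open AlgebraicGeometry CategoryTheory in
open TopologicalSpace in
/-- The closure of a maximal point of a locally Noetherian scheme is a neighbourhood of it. -/
theorem exists_open_of_maximal {X : Scheme.{u}} [IsLocallyNoetherian X] {η : X} (hmax : ∀ w, w ⤳ η → w = η) :
    ∃ o : Set X, IsOpen o ∧ η ∈ o ∧ o ⊆ closure {η} := by
  classical
  obtain ⟨W, hW, hη, -⟩ := exists_isAffineOpen_mem_and_subset (X := X) (x := η) (U := ⊤) trivial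
  haveI : IsNoetherianRing Γ(X, W) := IsLocallyNoetherian.component_noetherian ⟨W, hW⟩
  open Groth.Agent.AssLib in
  have hPmin : pr hW hη ∈ minimalPrimes Γ(X, W) := by
    refine ⟨⟨inferInstance, bot_le⟩, fun J hJ hle => ?_⟩
    haveI := hJ.1
    have h1 := hmax _ ((specializes_iff hW hη (pt_mem hW ⟨J, hJ.1⟩)).2 (by rw [pr_pt]; exact hle))
    have h2 : hW.primeIdealOf ⟨pt hW ⟨J, hJ.1⟩, pt_mem hW _⟩ = hW.primeIdealOf ⟨η, hη⟩ := by simp only [h1]
    rw [primeIdealOf_pt] at h2
    exact le_of_eq (congrArg PrimeSpectrum.asIdeal h2).symm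
  let T := ((minimalPrimes.finite_of_isNoetherianRing Γ(X, W)).toFinset).erase (Groth.Agent.AssLib.pr hW hη)
  have hT : ∀ Q ∈ T, ∃ a ∈ Q, a ∉ Groth.Agent.AssLib.pr hW hη := fun Q hQ => by
    obtain ⟨hne, hQm⟩ := Finset.mem_erase.1 hQ
    exact SetLike.not_le_iff_exists.1 fun hle =>
      hne (le_antisymm hle (hPmin.2 ((Set.Finite.mem_toFinset _).1 hQm).1 hle))
  choose a haQ haP using hT
  let s := ∏ Q : T, a Q.1 Q.2
  refine ⟨hW.fromSpec '' (PrimeSpectrum.basicOpen s : Set (PrimeSpectrum Γ(X, W))),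
    hW.fromSpec.isOpenEmbedding.isOpenMap _ (PrimeSpectrum.basicOpen s).isOpen,
    ⟨hW.primeIdealOf ⟨η, hη⟩, fun hs => ?_, hW.fromSpec_primeIdealOf _⟩, ?_⟩
  · obtain ⟨Q, -, hQ⟩ := (inferInstance : (Groth.Agent.AssLib.pr hW hη).IsPrime).prod_mem_iff.1 hs
    exact haP Q.1 Q.2 hQ
  · rintro _ ⟨R, hR, rfl⟩
    obtain ⟨Q, hQ, hle⟩ := Ideal.exists_minimalPrimes_le (bot_le : (⊥ : Ideal Γ(X, W)) ≤ R.asIdeal)
    have hQP : Q = Groth.Agent.AssLib.pr hW hη := by
      by_contra hne
      have hQT : Q ∈ T := Finset.mem_erase.2 ⟨hne, (Set.Finite.mem_toFinset _).2 hQ⟩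
      exact hR (hle (Ideal.mem_of_dvd _ (Finset.dvd_prod_of_mem _ (Finset.mem_univ (⟨Q, hQT⟩ : T))) (haQ Q hQT)))
    subst hQP
    exact specializes_iff_mem_closure.1
      ((Groth.Agent.AssLib.specializes_iff hW (Groth.Agent.AssLib.pt_mem hW R) hη).2
        (hle.trans (Groth.Agent.AssLib.pr_pt hW R).ge))

open AlgebraicGeometry CategoryTheory in
/-- For a section of the structure sheaf: let X be a scheme locally of finite type over a field k and f
a global section of O_X whose zero locus Y is nowhere dense in X. Then dim Y + 1 ≤ dim X. If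
moreover some irreducible component of X has dimension equal to dim X and Y meets every such
component, then dim Y + 1 = dim X. (The published statement is for a section of an invertible sheaf;
the existence of a component of maximal dimension, implicit in the published wording, is made a
hypothesis of the equality clause.) -/
theorem result (k : Type u) [Field k] (X : Scheme.{u}) (p : X ⟶ Spec (CommRingCat.of k))
    [LocallyOfFiniteType p] (f : Γ(X, ⊤)) (hY : interior (X.zeroLocus (U := ⊤) {f}) = ∅) :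
    topologicalKrullDim (X.zeroLocus (U := ⊤) {f}) + 1 ≤ topologicalKrullDim X ∧
      ((∃ Z ∈ irreducibleComponents (X : Type u), topologicalKrullDim Z = topologicalKrullDim X) →
        (∀ Z ∈ irreducibleComponents (X : Type u), topologicalKrullDim Z = topologicalKrullDim X →
          (Z ∩ X.zeroLocus (U := ⊤) {f}).Nonempty) →
        topologicalKrullDim (X.zeroLocus (U := ⊤) {f}) + 1 = topologicalKrullDim X) := by
  let Y : Set X := X.zeroLocus (U := ⊤) {f}
  have hYc : IsClosed Y := X.zeroLocus_isClosed _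
  haveI : IsLocallyNoetherian X := LocallyOfFiniteType.isLocallyNoetherian p
  have hgen : ∀ y ∈ Y, ∃ η, η ⤳ y ∧ η ∉ Y := by
    intro y hy
    obtain ⟨η, hη, hmax⟩ := Groth.Agent.DimFormulaLib.exists_maximal_point y
    refine ⟨η, hη, fun hηY => ?_⟩
    obtain ⟨o, ho, hηo, hsub⟩ := exists_open_of_maximal hmax
    have : o ⊆ interior Y := interior_maximal
      (hsub.trans (closure_minimal (Set.singleton_subset_iff.2 hηY) hYc)) ho
    rw [show interior Y = ∅ from hY] at this
    exact this hηo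
  have hstep : ∀ y ∈ Y, ((Groth.Agent.OpenDim.trd p y : ℕ) : WithBot ℕ∞) + 1 ≤ topologicalKrullDim X := by
    intro y hy
    obtain ⟨η, hη, hηY⟩ := hgen y hy
    have hlt := Groth.Agent.OpenDim.trd_lt p hη (fun h => hηY (h ▸ hy)) (Subsingleton.elim _ _)
    calc ((Groth.Agent.OpenDim.trd p y : ℕ) : WithBot ℕ∞) + 1 ≤ (Groth.Agent.OpenDim.trd p η : WithBot ℕ∞) := by
          exact_mod_cast hlt
      _ ≤ topologicalKrullDim ↥(Set.univ : Set X) := CutDimLib.trd_le_dim p _ isClosed_univ trivial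
      _ = topologicalKrullDim X := (Homeomorph.Set.univ _).isHomeomorph.topologicalKrullDim_eq
  have hle : topologicalKrullDim Y + 1 ≤ topologicalKrullDim X := by
    rcases Y.eq_empty_or_nonempty with h0 | ⟨y₀, hy₀⟩
    · haveI : IsEmpty Y := Set.isEmpty_coe_sort.2 h0
      haveI : IsEmpty (TopologicalSpace.IrreducibleCloseds ↥Y) := ⟨fun T => IsEmpty.false T.isIrreducible.nonempty.some⟩
      rw [topologicalKrullDim, Order.krullDim_eq_bot, WithBot.bot_add]
      exact bot_le
    · have h1 := hstep y₀ hy₀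
      obtain ⟨D, hD⟩ : ∃ D : ℕ∞, topologicalKrullDim X = D := by
        obtain hb | ⟨D, hD⟩ := (em (topologicalKrullDim X = ⊥)).imp id WithBot.ne_bot_iff_exists.1
        · rw [hb, le_bot_iff] at h1
          exact absurd h1 (by
            rw [show ((Groth.Agent.OpenDim.trd p y₀ : ℕ) : WithBot ℕ∞) + 1 =
              (((Groth.Agent.OpenDim.trd p y₀ + 1 : ℕ) : ℕ∞) : WithBot ℕ∞) from by push_cast; rfl]
            exact WithBot.coe_ne_bot)
        · exact ⟨D, hD.symm⟩
      rw [hD]
      rcases eq_or_ne D ⊤ with rfl | hne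
      · exact le_top
      obtain ⟨d, rfl⟩ := ENat.ne_top_iff_exists.1 hne
      have hnat : ∀ y ∈ Y, Groth.Agent.OpenDim.trd p y + 1 ≤ d := fun y hy => by
        have h := hstep y hy
        rw [hD] at h
        exact_mod_cast h
      have hdim : topologicalKrullDim Y ≤ ((d - 1 : ℕ) : WithBot ℕ∞) := CutDimLib.dim_le_trd p Y hYc _ fun y hy => by
        have := hnat y hy
        exact_mod_cast (by omega : Groth.Agent.OpenDim.trd p y ≤ d - 1)
      have := hnat y₀ hy₀
      refine (add_le_add hdim le_rfl).trans ?_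
      rw [show ((d - 1 : ℕ) : WithBot ℕ∞) + 1 = (((d - 1 + 1 : ℕ) : ℕ∞) : WithBot ℕ∞) from by push_cast; rfl]
      exact WithBot.coe_le_coe.2 (Nat.cast_le.2 (by omega))
  refine ⟨hle, fun ⟨Z, hZ, hZd⟩ hmeet => le_antisymm hle ?_⟩
  obtain ⟨y, hyZ, hyY⟩ := hmeet Z hZ hZd
  obtain ⟨η, rfl, hmax⟩ := Groth.Agent.DimFormulaLib.exists_generic_of_mem_irreducibleComponents hZ
  have hηY : η ∉ Y := by
    intro h
    obtain ⟨η', hη', hη'Y⟩ := hgen η h
    exact hη'Y (hmax η' hη' ▸ h)
  obtain ⟨z, hz, hzd⟩ := CutDimLib.exists_dim_eq p η f hηY (specializes_iff_mem_closure.2 hyZ) hyY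
  rw [← hZd]
  refine hzd.trans (add_le_add ?_ le_rfl)
  exact (Topology.IsEmbedding.inclusion (closure_minimal (Set.singleton_subset_iff.2 hz) hYc)).isInducing.topologicalKrullDim_le

end Groth.Agent.S4714
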