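import Mathlib
import Groth.Agent.DimLiftLib.Basic
import Groth.Statements.S4717

set_option autoImplicit false
universe u
open EGA4

namespace Groth.Agent.S4717

open AlgebraicGeometry CategoryTheory in
/-- Let f : X → Y be a finite morphism of locally Noetherian schemes. Then dim X equals the dimension of
the image f(X); in particular if f is surjective then dim X = dim Y. -/
theorem result {X Y : Scheme.{u}} (f : X ⟶ Y) [IsLocallyNoetherian X] [IsLocallyNoetherian Y]
    [IsFinite f] :
    topologicalKrullDim X = topologicalKrullDim (Set.range f.base) ∧
      (Function.Surjective f.base → topologicalKrullDim X = topologicalKrullDim Y) := by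
  have hc : IsClosed (Set.range f.base) := f.isClosedMap.isClosed_range
  haveI : QuasiSober ↥(Set.range f.base) := hc.isClosedEmbedding_subtypeVal.quasiSober
  let g : X → Set.range f.base := Set.rangeFactorization f.base
  have hgc : IsClosedMap g := fun Z hZ => by
    refine (hc.isClosedEmbedding_subtypeVal.isClosed_iff_image_isClosed).2 ?_
    rw [Set.image_image]
    exact f.isClosedMap Z hZ
  have h1 : topologicalKrullDim (Set.range f.base) ≤ topologicalKrullDim X :=
    Groth.Agent.DimLiftLib.le_of_specializingMap g Set.rangeFactorization_surjective hgc.specializingMap
  have h2 : topologicalKrullDim X ≤ topologicalKrullDim (Set.range f.base) := by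
    letI := specializationOrder X
    letI := specializationOrder (Set.range f.base)
    rw [Groth.Agent.DimLiftLib.topologicalKrullDim_eq, Groth.Agent.DimLiftLib.topologicalKrullDim_eq]
    refine @Order.krullDim_le_of_strictMono X (Set.range f.base) (specializationOrder X).toPreorder
      (specializationOrder (Set.range f.base)).toPreorder g fun a b hab => ?_
    have hs : b ⤳ a := le_of_lt hab
    refine @lt_of_le_of_ne _ (specializationOrder (Set.range f.base)) _ _
      (show g b ⤳ g a from hs.map (f.continuous.subtype_mk _)) fun e => ?_
    exact hab.ne (Groth.Agent.DimLiftLib.eq_of_specializes f hs (congrArg Subtype.val e).symm).symm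
  refine ⟨le_antisymm h2 h1, fun hs => ?_⟩
  exact le_antisymm (Groth.Agent.DimLiftLib.le_of_isIntegralHom f)
    (Groth.Agent.DimLiftLib.le_of_specializingMap f.base hs f.isClosedMap.specializingMap)

end Groth.Agent.S4717
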