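import Groth.Statements.S4718
import Groth.Agent.EGA4Dim.FiniteRestrict
-- import your own Groth.Agent.* helpers here

set_option autoImplicit false
universe u
open EGA4

namespace Groth.Agent.S4718

/-- Let A be a Noetherian local ring, B a Noetherian ring, A → B a ring homomorphism and M a nonzero
B-module which is finite as an A-module. Then M is a Cohen–Macaulay A-module if and only if, for all
primes q of B lying over the maximal ideal of A and belonging to the support of M, the B_q-module
M_q is Cohen–Macaulay and all these modules M_q have the same dimension. -/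
theorem result (A B : Type u) [CommRing A] [CommRing B]
    [IsNoetherianRing A] [IsLocalRing A] [IsNoetherianRing B] [Algebra A B]
    (M : Type u) [AddCommGroup M] [Module B M] [Module A M] [IsScalarTower A B M] [Module.Finite A M]
    [Nontrivial M] :
    LocCoh.IsCohenMacaulayModule A M ↔
      (∀ q ∈ {q : PrimeSpectrum B | q.asIdeal.comap (algebraMap A B) = IsLocalRing.maximalIdeal A ∧
          q ∈ Module.support B M},
        LocCoh.IsCohenMacaulayModule (Localization.AtPrime q.asIdeal) (LocalizedModule q.asIdeal.primeCompl M)) ∧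
      (∀ q ∈ {q : PrimeSpectrum B | q.asIdeal.comap (algebraMap A B) = IsLocalRing.maximalIdeal A ∧
          q ∈ Module.support B M},
        ∀ q' ∈ {q : PrimeSpectrum B | q.asIdeal.comap (algebraMap A B) = IsLocalRing.maximalIdeal A ∧
          q ∈ Module.support B M},
          Module.supportDim (Localization.AtPrime q.asIdeal) (LocalizedModule q.asIdeal.primeCompl M) =
            Module.supportDim (Localization.AtPrime q'.asIdeal) (LocalizedModule q'.asIdeal.primeCompl M)) := by
  haveI : Module.Finite B M := Module.Finite.of_restrictScalars_finite A B M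
  have hdim := EGA4Dim.supportDim_eq_iSup_closedFibre A B M
  have hdep := EGA4Dim.depth_eq_iInf_closedFibre A B M
  have hle : ∀ q ∈ EGA4Dim.closedFibreSupp A B M,
      ((LocCoh.depth (Localization.AtPrime q.asIdeal) (LocalizedModule q.asIdeal.primeCompl M) : ℕ∞) : WithBot ℕ∞) ≤
        Module.supportDim (Localization.AtPrime q.asIdeal) (LocalizedModule q.asIdeal.primeCompl M) := fun q hq => by
    haveI : Nontrivial (LocalizedModule q.asIdeal.primeCompl M) := hq.2
    haveI : IsNoetherianRing (Localization.AtPrime q.asIdeal) := IsLocalization.isNoetherianRing q.asIdeal.primeCompl _ inferInstance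
    exact QGorLib.depth_le_supportDim (R := Localization.AtPrime q.asIdeal) _
  obtain ⟨q0, hq0⟩ : (EGA4Dim.closedFibreSupp A B M).Nonempty := by
    by_contra hne
    haveI : Nonempty (Module.support A M) := Module.nonempty_support_of_nontrivial.to_subtype
    have h0 : (0 : WithBot ℕ∞) ≤ Module.supportDim A M := Order.krullDim_nonneg
    rw [hdim] at h0
    have h1 : (0 : WithBot ℕ∞) ≤ ⊥ := h0.trans (iSup₂_le fun q hq => absurd ⟨q, hq⟩ hne)
    exact WithBot.coe_ne_bot (le_bot_iff.1 h1)
  constructor
  · intro h
    have key : ∀ q ∈ EGA4Dim.closedFibreSupp A B M,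
        Module.supportDim (Localization.AtPrime q.asIdeal) (LocalizedModule q.asIdeal.primeCompl M) = Module.supportDim A M ∧
        ((LocCoh.depth (Localization.AtPrime q.asIdeal) (LocalizedModule q.asIdeal.primeCompl M) : ℕ∞) : WithBot ℕ∞) =
          Module.supportDim A M := fun q hq => by
      have h1 : Module.supportDim (Localization.AtPrime q.asIdeal) (LocalizedModule q.asIdeal.primeCompl M) ≤ Module.supportDim A M := by
        rw [hdim]; exact le_iSup₂_of_le q hq le_rfl
      have h2 : Module.supportDim A M ≤ ((LocCoh.depth (Localization.AtPrime q.asIdeal) (LocalizedModule q.asIdeal.primeCompl M) : ℕ∞) : WithBot ℕ∞) := by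
        rw [show Module.supportDim A M = ((LocCoh.depth A M : ℕ∞) : WithBot ℕ∞) from h, hdep]
        exact WithBot.coe_le_coe.2 (iInf₂_le q hq)
      exact ⟨le_antisymm h1 (h2.trans (hle q hq)), le_antisymm ((hle q hq).trans h1) h2⟩
    exact ⟨fun q hq => (key q hq).1.trans (key q hq).2.symm, fun q hq q' hq' => (key q hq).1.trans (key q' hq').1.symm⟩
  · rintro ⟨hcm, heq⟩
    show _ = _
    have h0 : Module.supportDim (Localization.AtPrime q0.asIdeal) (LocalizedModule q0.asIdeal.primeCompl M) = _ := hcm q0 hq0
    rw [hdim, hdep]
    have hsup : (⨆ q ∈ EGA4Dim.closedFibreSupp A B M,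
        Module.supportDim (Localization.AtPrime q.asIdeal) (LocalizedModule q.asIdeal.primeCompl M)) =
          ((LocCoh.depth (Localization.AtPrime q0.asIdeal) (LocalizedModule q0.asIdeal.primeCompl M) : ℕ∞) : WithBot ℕ∞) :=
      le_antisymm (iSup₂_le fun q hq => ((heq q hq q0 hq0).trans h0).le) (le_iSup₂_of_le q0 hq0 h0.ge)
    have hinf : (⨅ q ∈ EGA4Dim.closedFibreSupp A B M,
        LocCoh.depth (Localization.AtPrime q.asIdeal) (LocalizedModule q.asIdeal.primeCompl M)) =
          LocCoh.depth (Localization.AtPrime q0.asIdeal) (LocalizedModule q0.asIdeal.primeCompl M) :=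
      le_antisymm (iInf₂_le q0 hq0) (le_iInf₂ fun q hq => WithBot.coe_le_coe.1 (by
        rw [← h0, ← hcm q hq, heq q hq q0 hq0]))
    rw [hsup, hinf]

end Groth.Agent.S4718
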