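import Groth.Statements.S4719
import Groth.Agent.EGA4Dim.FiniteRestrict
-- import your own Groth.Agent.* helpers here

set_option autoImplicit false
universe u
open EGA4

namespace Groth.Agent.S4719

/-- Let A → B be a homomorphism of Noetherian rings and M a B-module which is finite as an A-module. (i)
If M satisfies (S_k) as an A-module, it satisfies (S_k) as a B-module. (ii) If for every two primes
q, q' of B in the support of M having the same contraction to A the modules M_q and M_{q'} have the
same dimension, then (S_k) for M as a B-module implies (S_k) for M as an A-module. (The published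
statement asks the equal-dimension condition for all pairs of primes of B with the same contraction;
this row asks it only for primes in the support of M, which is all its proof uses.) -/
theorem result (k : ℕ) (A B : Type u) [CommRing A] [CommRing B] [IsNoetherianRing A]
    [IsNoetherianRing B] [Algebra A B] (M : Type u) [AddCommGroup M] [Module B M] [Module A M]
    [IsScalarTower A B M] [Module.Finite A M] :
    (LocCoh.HasSk k A M → LocCoh.HasSk k B M) ∧
      ((∀ q ∈ Module.support B M, ∀ q' ∈ Module.support B M,
          q.asIdeal.comap (algebraMap A B) = q'.asIdeal.comap (algebraMap A B) →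
            Module.supportDim (Localization.AtPrime q.asIdeal) (LocalizedModule q.asIdeal.primeCompl M) =
              Module.supportDim (Localization.AtPrime q'.asIdeal) (LocalizedModule q'.asIdeal.primeCompl M)) →
        LocCoh.HasSk k B M → LocCoh.HasSk k A M) := by
  refine ⟨fun h q _ => ?_, fun heq h p _ => ?_⟩
  · by_cases hq : (⟨q, inferInstance⟩ : PrimeSpectrum B) ∈ Module.support B M
    · obtain ⟨hdim, hdep⟩ := EGA4Dim.supportDim_depth_atPrime A B M (q.comap (algebraMap A B))
      refine ((min_le_min le_rfl ?_).trans (h (q.comap (algebraMap A B)))).trans (WithBot.coe_le_coe.2 ?_)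
      · rw [hdim]
        exact le_iSup₂_of_le (⟨q, inferInstance⟩ : PrimeSpectrum B) ⟨rfl, hq⟩ le_rfl
      · rw [hdep]
        exact iInf₂_le (⟨q, inferInstance⟩ : PrimeSpectrum B) ⟨rfl, hq⟩
    · haveI : Subsingleton (LocalizedModule q.primeCompl M) := Module.notMem_support_iff.1 hq
      rw [Module.supportDim_eq_bot_of_subsingleton]
      exact (min_le_right _ _).trans bot_le
  · obtain ⟨hdim, hdep⟩ := EGA4Dim.supportDim_depth_atPrime A B M p
    by_cases hne : (EGA4Dim.fibreSupp A B M p).Nonempty
    · obtain ⟨q0, hq0⟩ := hne
      have hd : ∀ q ∈ EGA4Dim.fibreSupp A B M p, Module.supportDim (Localization.AtPrime q.asIdeal)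
          (LocalizedModule q.asIdeal.primeCompl M) = Module.supportDim (Localization.AtPrime p) (LocalizedModule p.primeCompl M) := by
        intro q hq
        rw [hdim]
        exact le_antisymm (le_iSup₂_of_le q hq le_rfl)
          (iSup₂_le fun q' hq' => (heq q' hq'.2 q hq.2 (hq'.1.trans hq.1.symm)).le)
      have key : ∀ q ∈ EGA4Dim.fibreSupp A B M p, min (k : WithBot ℕ∞) (Module.supportDim (Localization.AtPrime p) (LocalizedModule p.primeCompl M)) ≤
          ((LocCoh.depth (Localization.AtPrime q.asIdeal) (LocalizedModule q.asIdeal.primeCompl M) : ℕ∞) : WithBot ℕ∞) := fun q hq => by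
        rw [← hd q hq]
        exact h q.asIdeal
      rw [hdep]
      generalize min (k : WithBot ℕ∞) (Module.supportDim (Localization.AtPrime p) (LocalizedModule p.primeCompl M)) = x at key ⊢
      cases x with
      | bot => exact bot_le
      | coe x => exact WithBot.coe_le_coe.2 (le_iInf₂ fun q hq => WithBot.coe_le_coe.1 (key q hq))
    · refine (min_le_right _ _).trans ?_
      rw [hdim]
      exact iSup₂_le fun q hq => absurd ⟨q, hq⟩ hne

end Groth.Agent.S4719
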