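import Mathlib
import Groth.Agent.AdicEasyLib.Basic
import Groth.Statements.S4722

set_option autoImplicit false
universe u
open EGA4

namespace Groth.Agent.S4722

/-- Let A be a Noetherian ring and M a finite A-module whose set of associated primes is a single prime
p. Then M has a finite decreasing filtration by submodules M = M_0 ⊇ M_1 ⊇ ⋯ ⊇ M_m = 0 such that
each quotient M_h/M_{h+1} is isomorphic to a submodule of A/p (i.e. embeds A-linearly into A/p). -/
theorem result (A : Type u) [CommRing A] [IsNoetherianRing A]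
    (M : Type u) [AddCommGroup M] [Module A M] [Module.Finite A M] (p : Ideal A)
    (hp : associatedPrimes A M = {p}) :
    ∃ (m : ℕ) (F : Fin (m + 1) → Submodule A M), Antitone F ∧ F 0 = ⊤ ∧ F (Fin.last m) = ⊥ ∧
      ∀ i : Fin m, ∃ g : (↥(F i.castSucc) ⧸ Submodule.comap (F i.castSucc).subtype (F i.succ)) →ₗ[A] (A ⧸ p),
        Function.Injective g := by
  have hpm : p ∈ associatedPrimes A M := by rw [hp]; exact rfl
  haveI hpp : p.IsPrime := hpm.isPrime
  let rel : SetRel (Submodule A M) (Submodule A M) := {q | q.1 ≤ q.2 ∧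
    ∃ g : (↥q.2 ⧸ Submodule.comap q.2.subtype q.1) →ₗ[A] (A ⧸ p), Function.Injective g}
  suffices ∃ s : RelSeries rel, s.head = ⊥ ∧ s.last = ⊤ by
    obtain ⟨s, h0, h1⟩ := this
    refine ⟨s.length, fun i => s i.rev, ?_, ?_, ?_, fun i => ?_⟩
    · intro a b hab
      have hmono : Monotone (fun i => s i) := Fin.monotone_iff_le_succ.2 fun i => (s.step i).1
      exact hmono (Fin.rev_le_rev.2 hab)
    · show s (Fin.rev 0) = ⊤
      rw [Fin.rev_zero]; exact h1
    · show s (Fin.rev (Fin.last _)) = ⊥
      rw [Fin.rev_last]; exact h0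
    · have h := (s.step i.rev).2
      rw [← Fin.rev_succ, ← Fin.rev_castSucc] at h
      exact h
  suffices ∀ N : Submodule A M, associatedPrimes A (M ⧸ N) ⊆ {p} → ∀ t : RelSeries rel,
      t.head = ⊥ → t.last = N → ∃ s : RelSeries rel, s.head = ⊥ ∧ s.last = ⊤ by
    refine this ⊥ ?_ (RelSeries.singleton rel ⊥) rfl rfl
    rw [LinearEquiv.AssociatedPrimes.eq (Submodule.quotEquivOfEqBot _ rfl), hp]
  intro N
  induction N using WellFoundedGT.induction with
  | ind N ih =>
    intro hN t ht0 ht1
    by_cases htop : N = ⊤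
    · exact ⟨t, ht0, ht1.trans htop⟩
    haveI := Submodule.Quotient.nontrivial_iff.2 htop
    obtain ⟨q, hq⟩ := associatedPrimes.nonempty A (M ⧸ N)
    obtain rfl : q = p := hN hq
    obtain ⟨g, hg⟩ := ((isAssociatedPrime_iff_exists_injective_linearMap _ _).1 hq).2
    let N' : Submodule A M :=
      { carrier := {m | ∃ s ∉ q, s • N.mkQ m ∈ LinearMap.range g}
        zero_mem' := ⟨1, fun h => hpp.ne_top ((Ideal.eq_top_iff_one _).2 h), by simp⟩
        add_mem' := fun {a b} ⟨s, hs, ha⟩ ⟨s', hs', hb⟩ => ⟨s * s', fun h => (hpp.mem_or_mem h).elim hs hs',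
          by
            rw [map_add, smul_add, mul_comm s s', mul_smul s' s, mul_comm s' s, mul_smul s s']
            exact add_mem (Submodule.smul_mem _ _ ha) (Submodule.smul_mem _ _ hb)⟩
        smul_mem' := fun r a ⟨s, hs, ha⟩ => ⟨s, hs, by
          rw [map_smul, smul_comm]; exact Submodule.smul_mem _ _ ha⟩ }
    have hle : N ≤ N' := fun m hm => ⟨1, fun h => hpp.ne_top ((Ideal.eq_top_iff_one _).2 h), by
      rw [show N.mkQ m = 0 from (Submodule.Quotient.mk_eq_zero N).2 hm, smul_zero]; exact zero_mem _⟩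
    have hlt : N < N' := by
      refine lt_of_le_of_ne hle fun h => ?_
      obtain ⟨x, hx⟩ := Submodule.mkQ_surjective N (g 1)
      have h1 : x ∈ N' := ⟨1, fun h => hpp.ne_top ((Ideal.eq_top_iff_one _).2 h),
        by rw [one_smul, hx]; exact ⟨1, rfl⟩⟩
      rw [← h, ← Submodule.Quotient.mk_eq_zero N] at h1
      exact one_ne_zero (hg ((hx.symm.trans h1).trans (map_zero g).symm))
    have hreg : ∀ s ∉ q, IsSMulRegular (M ⧸ N) s := fun s hs => by
      rw [isSMulRegular_iff_right_eq_zero_of_smul]
      by_contra h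
      push_neg at h
      obtain ⟨z, hz, hz0⟩ := h
      have hmem : s ∈ ⋃ r ∈ associatedPrimes A (M ⧸ N), (r : Set A) := by
        rw [biUnion_associatedPrimes_eq_zero_divisors]; exact ⟨z, hz0, hz⟩
      obtain ⟨r, hr, hsr⟩ := Set.mem_iUnion₂.1 hmem
      exact hs ((hN hr : r = q) ▸ hsr)
    have hN' : associatedPrimes A (M ⧸ N') ⊆ {q} := by
      intro r hr
      have hrq : r ≤ q := fun a ha => by
        by_contra haq
        obtain ⟨k, hk⟩ := ((isAssociatedPrime_iff_exists_injective_linearMap _ _).1 hr).2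
        obtain ⟨z, hz⟩ := Submodule.mkQ_surjective N' (k 1)
        have h0 : a • z ∈ N' := by
          rw [← Submodule.Quotient.mk_eq_zero, Submodule.Quotient.mk_smul]
          show a • N'.mkQ z = 0
          rw [hz, ← map_smul, Algebra.smul_def, mul_one, Ideal.Quotient.algebraMap_eq,
            Ideal.Quotient.eq_zero_iff_mem.2 ha, map_zero]
        obtain ⟨s, hs, hsz⟩ := h0
        have h1 : z ∈ N' := ⟨s * a, fun h => (hpp.mem_or_mem h).elim hs haq, by
          rw [mul_smul, ← map_smul]; exact hsz⟩
        rw [← Submodule.Quotient.mk_eq_zero] at h1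
        haveI : r.IsPrime := hr.isPrime
        exact one_ne_zero (hk ((hz.symm.trans h1).trans (map_zero k).symm))
      haveI : r.IsPrime := hr.isPrime
      have hrad : q ≤ r := by
        have hann : Module.annihilator A M ≤ r :=
          (LinearMap.annihilator_le_of_surjective N'.mkQ (Submodule.mkQ_surjective _)).trans (Submodule.annihilator_top (R := A) (M := M ⧸ N') ▸ hr.annihilator_le)
        obtain ⟨r', hr', hr'le⟩ := Ideal.exists_minimalPrimes_le hann
        have h2 := Module.associatedPrimes.minimalPrimes_annihilator_subset_associatedPrimes A M hr'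
        rw [hp] at h2
        exact (h2 : r' = q) ▸ hr'le
      exact le_antisymm hrq hrad
    obtain ⟨G, hG⟩ := IsNoetherian.noetherian N'
    classical
    choose! σ hσ hσm using fun m (hm : m ∈ N') => hm
    let s := ∏ m ∈ G, σ m
    have hs : s ∉ q := fun h => by
      obtain ⟨m, hm, h'⟩ := (hpp.prod_mem_iff).1 h
      exact hσ m (hG ▸ Submodule.subset_span hm) h'
    have hsN : ∀ m ∈ N', s • N.mkQ m ∈ LinearMap.range g := fun m hm => by
      rw [← hG] at hm
      refine Submodule.span_induction (fun a ha => ?_) (by simp) (fun a b _ _ ha hb => ?_)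
        (fun c a _ ha => ?_) hm
      · rw [show s = (∏ m ∈ G.erase a, σ m) * σ a from (Finset.prod_erase_mul _ _ ha).symm, mul_smul]
        exact Submodule.smul_mem _ _ (hσm a (hG ▸ Submodule.subset_span ha))
      · rw [map_add, smul_add]; exact add_mem ha hb
      · rw [map_smul, smul_comm]; exact Submodule.smul_mem _ _ ha
    let e := LinearEquiv.ofInjective g hg
    let φ : N' →ₗ[A] A ⧸ q := e.symm.toLinearMap ∘ₗ
      LinearMap.codRestrict (LinearMap.range g) (s • (N.mkQ ∘ₗ N'.subtype)) fun m => hsN m m.2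
    have hker : Submodule.comap N'.subtype N = LinearMap.ker φ := by
      ext m
      rw [LinearMap.mem_ker, LinearMap.comp_apply, LinearEquiv.coe_coe, LinearEquiv.map_eq_zero_iff,
        ← Subtype.coe_inj, LinearMap.codRestrict_apply, ZeroMemClass.coe_zero, LinearMap.smul_apply,
        LinearMap.comp_apply, Submodule.mem_comap]
      constructor
      · intro h
        rw [show N.mkQ (N'.subtype m) = 0 from (Submodule.Quotient.mk_eq_zero N).2 h, smul_zero]
      · intro h
        exact (Submodule.Quotient.mk_eq_zero N).1 (isSMulRegular_iff_right_eq_zero_of_smul.1 (hreg s hs) _ h)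
    have hstep : (t.last, N') ∈ rel := by
      rw [ht1]
      exact ⟨hle, Submodule.liftQ _ φ hker.le,
        LinearMap.ker_eq_bot.1 (Submodule.ker_liftQ_eq_bot _ _ _ hker.ge)⟩
    exact ih N' hlt hN' (t.snoc N' hstep) (by simp [ht0]) (by simp)

end Groth.Agent.S4722
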