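import Groth.Statements.S4723
import Groth.Agent.HullFinLib.Basic
-- import your own Groth.Agent.* helpers here

set_option autoImplicit false
universe u
open EGA4

namespace Groth.Agent.S4723

/-- Let A be a Noetherian ring which is either a quotient of a regular Noetherian ring or universally
catenary and universally Japanese. Then for every prime q of A, writing B = A/q with fraction field
K, and every ideal J of B of height at least 2, the subring of K consisting of the elements lying in
B_p for every prime p of B not containing J (the ring of sections of the structure sheaf of Spec B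
over the open complement of V(J)) is a finite B-algebra (some B-subalgebra of K with exactly this
underlying set is a finitely generated B-module). -/
theorem result (A : Type u) [CommRing A] [IsNoetherianRing A]
    (hA : (∃ (R : Type u) (_ : CommRing R), IsNoetherianRing R ∧ IsRegularRing R ∧
        ∃ f : R →+* A, Function.Surjective f) ∨
      (CAlg.IsUniversallyCatenary A ∧ CAlg.IsUniversallyJapanese A))
    (q : Ideal A) [q.IsPrime] (J : Ideal (A ⧸ q)) (hJ2 : (2 : ℕ∞) ≤ J.height) :
    ∃ B' : Subalgebra (A ⧸ q) (FractionRing (A ⧸ q)),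
      (B' : Set (FractionRing (A ⧸ q))) =
          {x | ∀ (p : Ideal (A ⧸ q)) [p.IsPrime], ¬ J ≤ p →
            ∃ s : A ⧸ q, s ∉ p ∧ ∃ a : A ⧸ q,
              algebraMap (A ⧸ q) (FractionRing (A ⧸ q)) a = algebraMap (A ⧸ q) (FractionRing (A ⧸ q)) s * x} ∧
        Module.Finite (A ⧸ q) B' := by
  have hfin : EGA4.HeightOneHullFinite (A ⧸ q) := by
    rcases hA with ⟨R, _, -, hR, f, hf⟩ | ⟨hcat, hjap⟩
    · haveI := hR
      exact HullFinLib.heightOneHullFinite_of_regular ((Ideal.Quotient.mk q).comp f)
        (Ideal.Quotient.mk_surjective.comp hf)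
    · refine HullFinLib.heightOneHullFinite_of_univCatenary _
        (RatliffLib.isUniversallyCatenary_of_surjective (Ideal.Quotient.mk q) Ideal.Quotient.mk_surjective hcat) ?_
      have h := hjap (A ⧸ q) inferInstance
      exact h (FractionRing (A ⧸ q)) inferInstance
  obtain ⟨H, hH, hHfin⟩ := hfin
  let B' : Subalgebra (A ⧸ q) (FractionRing (A ⧸ q)) :=
    { carrier := {x | ∀ (p : Ideal (A ⧸ q)) [p.IsPrime], ¬ J ≤ p →
        ∃ s : A ⧸ q, s ∉ p ∧ ∃ a : A ⧸ q,
          algebraMap (A ⧸ q) (FractionRing (A ⧸ q)) a = algebraMap (A ⧸ q) (FractionRing (A ⧸ q)) s * x}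
      mul_mem' := fun {x y} hx hy p _ hp => by
        obtain ⟨s, hs, a, ha⟩ := hx p hp
        obtain ⟨t, ht, b, hb⟩ := hy p hp
        refine ⟨s * t, fun h => (Ideal.IsPrime.mem_or_mem ‹_› h).elim hs ht, a * b, ?_⟩
        rw [map_mul, map_mul, ha, hb]; ring
      add_mem' := fun {x y} hx hy p _ hp => by
        obtain ⟨s, hs, a, ha⟩ := hx p hp
        obtain ⟨t, ht, b, hb⟩ := hy p hp
        refine ⟨s * t, fun h => (Ideal.IsPrime.mem_or_mem ‹_› h).elim hs ht, a * t + b * s, ?_⟩
        rw [map_add, map_mul, map_mul, map_mul, ha, hb]; ring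
      algebraMap_mem' := fun r p hp _ =>
        ⟨1, fun h => hp.ne_top ((Ideal.eq_top_iff_one p).2 h), r, by rw [map_one, one_mul]⟩ }
  refine ⟨B', rfl, ?_⟩
  have hle : B' ≤ H := by
    intro x hx
    show x ∈ (H : Set (FractionRing (A ⧸ q)))
    rw [hH]
    intro p hp hp1
    refine hx p fun hJp => ?_
    have h := hJ2.trans (Ideal.height_mono hJp)
    rw [hp1] at h
    exact absurd h (by decide)
  haveI := hHfin
  exact Module.Finite.of_injective (Subalgebra.inclusion hle).toLinearMap (Subalgebra.inclusion_injective hle)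

end Groth.Agent.S4723
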