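import Groth.Statements.S4726
import Mathlib
-- import your own Groth.Agent.* helpers here

set_option autoImplicit false
universe u
open EGA4

namespace Groth.Agent.S4726

open TensorProduct in
/-- Let (A_i) be a directed system of commutative rings with direct limit A and M a finitely presented
A-module. Then there exist an index i and a finitely presented A_i-module M_i such that M is
isomorphic, as an A-module, to A ⊗_{A_i} M_i (A being an A_i-algebra through the canonical map). -/
theorem result (ι : Type u) [Preorder ι] [Nonempty ι] [IsDirectedOrder ι]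
    (G : ι → Type u) [∀ i, CommRing (G i)] (f : ∀ i j, i ≤ j → G i →+* G j)
    [DirectedSystem G (fun i j h ↦ f i j h)] (M : Type u) [AddCommGroup M]
    [Module (Ring.DirectLimit G (fun i j h ↦ f i j h)) M]
    [Module.FinitePresentation (Ring.DirectLimit G (fun i j h ↦ f i j h)) M] :
    ∃ (i : ι) (Mi : Type u) (_ : AddCommGroup Mi) (_ : Module (G i) Mi), Module.FinitePresentation (G i) Mi ∧
      letI : Algebra (G i) (Ring.DirectLimit G (fun i j h ↦ f i j h)) :=
        (Ring.DirectLimit.of G (fun i j h ↦ f i j h) i).toAlgebra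
      Nonempty (M ≃ₗ[Ring.DirectLimit G (fun i j h ↦ f i j h)] (Ring.DirectLimit G (fun i j h ↦ f i j h)) ⊗[G i] Mi) := by
  open scoped TensorProduct in
  classical
  obtain ⟨n, K, e, hK⟩ := Module.FinitePresentation.exists_fin (Ring.DirectLimit G (fun i j h ↦ f i j h)) M
  obtain ⟨s, hs⟩ := hK
  choose ι₀ x₀ hx₀ using fun a : Ring.DirectLimit G (fun i j h ↦ f i j h) =>
    Ring.DirectLimit.exists_of (G := G) (f := fun i j h ↦ f i j h) a
  obtain ⟨i, hi⟩ := Finset.exists_le ((s ×ˢ (Finset.univ : Finset (Fin n))).image fun q => ι₀ (q.1 q.2))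
  letI : Algebra (G i) (Ring.DirectLimit G (fun i j h ↦ f i j h)) :=
    (Ring.DirectLimit.of G (fun i j h ↦ f i j h) i).toAlgebra
  let R := Ring.DirectLimit G (fun i j h ↦ f i j h)
  have hlift : ∀ v ∈ s, ∃ v' : Fin n → G i, (fun j => algebraMap (G i) R (v' j)) = v := fun v hv =>
    ⟨fun j => f _ i (hi _ (Finset.mem_image.mpr ⟨(v, j), Finset.mem_product.mpr ⟨hv, Finset.mem_univ _⟩, rfl⟩)) (x₀ (v j)),
      funext fun j => (Ring.DirectLimit.of_f _ _).trans (hx₀ (v j))⟩
  choose v' hv' using hlift
  let Ki : Submodule (G i) (Fin n → G i) :=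
    Submodule.span (G i) ((s.attach.image fun v => v' v.1 v.2 : Finset _) : Set (Fin n → G i))
  refine ⟨i, (Fin n → G i) ⧸ Ki, inferInstance, inferInstance,
    Module.finitePresentation_of_surjective Ki.mkQ Ki.mkQ_surjective (by rw [Ki.ker_mkQ]; exact ⟨_, rfl⟩), ⟨?_⟩⟩
  let pi : R ⊗[G i] (Fin n → G i) ≃ₗ[R] (Fin n → R) := TensorProduct.piScalarRight (G i) R R (Fin n)
  let q : R ⊗[G i] (Fin n → G i) →ₗ[R] R ⊗[G i] ((Fin n → G i) ⧸ Ki) := Ki.mkQ.baseChange R
  have hqs : Function.Surjective q := LinearMap.lTensor_surjective R Ki.mkQ_surjective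
  have hqk : (LinearMap.ker q).map pi.toLinearMap = K := by
    have hker : LinearMap.ker q = Submodule.span R ((fun v => (1 : R) ⊗ₜ[G i] v) ''
        ((s.attach.image fun v => v' v.1 v.2 : Finset _) : Set (Fin n → G i))) := by
      refine Eq.trans ?_ (Submodule.baseChange_span (A := R) _)
      ext z
      exact lTensor_exact R (LinearMap.exact_subtype_mkQ Ki) Ki.mkQ_surjective z
    rw [hker, Submodule.map_span, ← hs, Finset.coe_image, Set.image_image, Set.image_image]
    congr 1
    have hval : ∀ v (hv : v ∈ s), pi ((1 : R) ⊗ₜ[G i] v' v hv) = v := fun v hv => by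
      funext j
      conv_rhs => rw [← congrFun (hv' v hv) j]
      simp [pi, TensorProduct.piScalarRight_apply, TensorProduct.piScalarRightHom_tmul, Algebra.smul_def]
    ext y
    constructor
    · rintro ⟨⟨v, hv⟩, -, rfl⟩
      show pi ((1 : R) ⊗ₜ[G i] v' v hv) ∈ (s : Set (Fin n → R))
      rw [hval v hv]; exact hv
    · intro hy
      exact ⟨⟨y, hy⟩, Finset.mem_coe.mpr (Finset.mem_attach _ _), hval y hy⟩
  exact e.trans ((Submodule.Quotient.equiv _ _ pi hqk).symm.trans (q.quotKerEquivOfSurjective hqs))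

end Groth.Agent.S4726
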