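import Groth.Statements.S4728
import Groth.Agent.NormalTensor.Hom
-- import your own Groth.Agent.* helpers here

set_option autoImplicit false
universe u
open EGA4

namespace Groth.Agent.S4728
open TensorProduct

/-- Let A be a Noetherian local domain of dimension 1 with maximal ideal m, A' a Noetherian local ring
and A → A' a local homomorphism which is normal (flat, with geometrically normal fibres). Then the
ideal m A' of A' is prime and the local ring of A' at m A' has dimension 1. (The remaining clauses
of the published item, describing A' inside its total ring of fractions, are not restated.) -/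
theorem result (A A' : Type u) [CommRing A] [CommRing A']
    [IsNoetherianRing A] [IsNoetherianRing A'] [IsLocalRing A] [IsLocalRing A'] [IsDomain A]
    (hA : ringKrullDim A = 1) [Algebra A A'] [IsLocalHom (algebraMap A A')] (h : EGA4.IsNormalHom A A') :
    ((IsLocalRing.maximalIdeal A).map (algebraMap A A')).IsPrime ∧
      ((IsLocalRing.maximalIdeal A).map (algebraMap A A')).height = 1 := by
  let m := IsLocalRing.maximalIdeal A
  let I := m.map (algebraMap A A')
  haveI := h.1
  have h1 : EGA4.IsNormalRing (A' ⊗[A] (A ⧸ m)) := by
    letI : Field (A ⧸ m) := Ideal.Quotient.field m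
    exact Groth.Agent.NormalTensor.fieldNormal_of_isNormalHom h (A ⧸ m)
  have h2 : EGA4.IsNormalRing (A' ⧸ I) := Groth.Agent.NormalTensor.isNormalRing_of_ringEquiv
    (Algebra.TensorProduct.quotIdealMapEquivTensorQuot A' m).toRingEquiv.symm h1
  have hI : I ≠ ⊤ := fun htop => (IsLocalRing.maximalIdeal.isMaximal A').ne_top
    (top_le_iff.mp (htop ▸ Ideal.map_le_iff_le_comap.mpr (fun x hx => map_nonunit (algebraMap A A') x hx)))
  haveI : Nontrivial (A' ⧸ I) := Ideal.Quotient.nontrivial_iff.mpr hI
  haveI : IsLocalRing (A' ⧸ I) := IsLocalRing.of_surjective' (Ideal.Quotient.mk I) Ideal.Quotient.mk_surjective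
  let P := IsLocalRing.maximalIdeal (A' ⧸ I)
  haveI := (h2 P).1
  haveI hloc : IsLocalization P.primeCompl (A' ⧸ I) := IsLocalization.self fun x hx =>
    IsLocalRing.notMem_maximalIdeal.mp hx
  let e := (IsLocalization.algEquiv P.primeCompl (A' ⧸ I) (Localization.AtPrime P)).toRingEquiv
  haveI : IsDomain (A' ⧸ I) := e.injective.isDomain
  haveI hprime : I.IsPrime := (Ideal.Quotient.isDomain_iff_prime I).mp inferInstance
  refine ⟨hprime, ?_⟩
  haveI : I.LiesOver m := ⟨((IsLocalRing.maximalIdeal.isMaximal A).eq_of_le
    (Ideal.IsPrime.comap (algebraMap A A')).ne_top Ideal.le_comap_map)⟩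
  show I.height = 1
  rw [Ideal.height_eq_height_add_of_liesOver_of_hasGoingDown m I, Ideal.map_quotient_self,
    Ideal.height_bot, add_zero]
  have h3 := IsLocalRing.maximalIdeal_height_eq_ringKrullDim (R := A)
  rw [hA] at h3
  exact_mod_cast h3

end Groth.Agent.S4728
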