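import Mathlib
import Groth.Agent.AdicEasyLib.Basic
import Groth.Statements.S4731

set_option autoImplicit false
universe u
open EGA4

namespace Groth.Agent.S4731

/-- Let S → R be an injective homomorphism of commutative rings making R a finite S-module, with R
Noetherian; let c be the conductor of S in R, the ideal of those s in S with s R contained in (the
image of) S. If S/c is Noetherian, then every increasing sequence of ideals of S contained in c is
eventually constant. -/
theorem result (S R : Type u) [CommRing S] [CommRing R] [Algebra S R]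
    [FaithfulSMul S R] [IsNoetherianRing R] [Module.Finite S R] (c : Ideal S)
    (hc : ∀ s : S, s ∈ c ↔ ∀ r : R, ∃ s' : S, algebraMap S R s' = algebraMap S R s * r)
    [IsNoetherianRing (S ⧸ c)] (a : ℕ →o Ideal S) (ha : ∀ n, a n ≤ c) :
    ∃ N : ℕ, ∀ n, N ≤ n → a n = a N := by
  let ρ : S →ₗ[S] R := Algebra.linearMap S R
  have hinj : Function.Injective (algebraMap S R) := FaithfulSMul.algebraMap_injective S R
  let E : ℕ → Ideal R := fun n => (a n).map (algebraMap S R)
  obtain ⟨N, hN⟩ := (monotone_stabilizes_iff_noetherian (R := R) (M := R)).2 inferInstance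
    ⟨E, fun i j h => Ideal.map_mono (a.monotone h)⟩
  let ES : Submodule S R := (E N).restrictScalars S
  haveI : Module.Finite S ES :=
    Module.Finite.iff_fg.2 (Submodule.FG.restrictScalars (R := S) (IsNoetherian.noetherian (E N)))
  have hcle : ∀ n, N ≤ n → ∀ z ∈ c • ES, z ∈ Submodule.map ρ (a n) := by
    intro n hn z hz
    refine Submodule.smul_induction_on hz (fun s hs e he => ?_) fun x y hx hy => add_mem hx hy
    have he' : e ∈ Ideal.span (algebraMap S R '' (a n : Set S)) := by
      show e ∈ E n
      rw [show E n = E N from (hN n hn).symm]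
      exact he
    suffices ∀ r : R, s • (r * e) ∈ Submodule.map ρ (a n) by simpa using this 1
    refine Submodule.span_induction ?_ ?_ ?_ ?_ he'
    · rintro _ ⟨x, hx, rfl⟩ r
      obtain ⟨s', hs'⟩ := (hc s).1 hs r
      refine ⟨s' * x, Ideal.mul_mem_left _ s' hx, ?_⟩
      simp [ρ, Algebra.smul_def, hs', mul_assoc]
    · intro r; simp
    · intro x y _ _ hx hy r; rw [mul_add, smul_add]; exact add_mem (hx r) (hy r)
    · intro t x _ hx r; rw [smul_eq_mul, ← mul_assoc]; exact hx _
  let T : Submodule S ES := c • ⊤
  haveI : IsNoetherian S (ES ⧸ T) := by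
    haveI : Module.Finite (S ⧸ c) (ES ⧸ T) := Module.Finite.of_restrictScalars_finite S _ _
    refine isNoetherian_iff'.2 (StrictMono.wellFoundedGT
      (f := fun P : Submodule S (ES ⧸ T) => (⟨P.toAddSubmonoid, fun r x hx => by
        obtain ⟨r, rfl⟩ := Ideal.Quotient.mk_surjective r
        exact P.smul_mem r hx⟩ : Submodule (S ⧸ c) (ES ⧸ T))) fun P Q h => h)
  let F : ℕ → Submodule S (ES ⧸ T) := fun n =>
    ((Submodule.map ρ (a n)).comap ES.subtype).map T.mkQ
  obtain ⟨N', hN'⟩ := (monotone_stabilizes_iff_noetherian (R := S) (M := ES ⧸ T)).2 inferInstance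
    ⟨F, fun i j h => Submodule.map_mono (Submodule.comap_mono (Submodule.map_mono (a.monotone h)))⟩
  refine ⟨max N N', fun n hn => le_antisymm (fun x hx => ?_) (a.monotone hn)⟩
  have hxE : ρ x ∈ ES := by
    show algebraMap S R x ∈ E N
    rw [show E N = E n from hN n (le_of_max_le_left hn)]
    exact Ideal.mem_map_of_mem _ hx
  have hxF : T.mkQ ⟨ρ x, hxE⟩ ∈ F (max N N') := by
    rw [show F (max N N') = F n from (hN' _ (le_max_right N N')).symm.trans (hN' n (le_of_max_le_right hn))]
    exact ⟨_, ⟨x, hx, rfl⟩, rfl⟩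
  obtain ⟨⟨y, hyE⟩, ⟨x', hx', hxy⟩, hy⟩ := hxF
  have hT : (ρ x - y) ∈ Submodule.map ρ (a (max N N')) := by
    refine hcle _ (le_max_left N N') _ ?_
    have := (Submodule.Quotient.eq T).1 hy.symm
    have h2 := Submodule.mem_map_of_mem (f := ES.subtype) this
    rwa [Submodule.map_smul'', Submodule.map_subtype_top] at h2
  obtain ⟨x'', hx'', h⟩ := hT
  rw [show x = x'' + x' from hinj (by
    have h' : algebraMap S R x'' = algebraMap S R x - y := h
    have h'' : algebraMap S R x' = y := hxy
    rw [map_add, h', h'', sub_add_cancel])]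
  exact add_mem hx'' hx'

end Groth.Agent.S4731
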