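import Groth.Statements.S4732
import Mathlib
-- import your own Groth.Agent.* helpers here

set_option autoImplicit false
universe u
open EGA4

namespace Groth.Agent.S4732

open AlgebraicGeometry CategoryTheory in
/-- Let k be a field, X a scheme locally of finite type over k and x a point of X. Then there are an
open neighbourhood U of x, a k-scheme Y all of whose local rings are regular, and an immersion U → Y
compatible with the structure morphisms to Spec k. -/
theorem result (k : Type u) [Field k] {X : Scheme.{u}}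
    (f : X ⟶ Spec (CommRingCat.of k)) [LocallyOfFiniteType f] (x : X) :
    ∃ (U : X.Opens) (_ : x ∈ U) (Y : Scheme.{u}) (g : Y ⟶ Spec (CommRingCat.of k)) (i : (U : Scheme.{u}) ⟶ Y),
      IsImmersion i ∧ i ≫ g = U.ι ≫ f ∧ ∀ y : Y, IsRegularLocalRing (Y.presheaf.stalk y) := by
  obtain ⟨U, hU, hxU, -⟩ := exists_isAffineOpen_mem_and_subset (x := x) (U := ⊤) trivial
  haveI : IsAffine U := hU
  let φ : CommRingCat.of k ⟶ Γ(U, ⊤) := Spec.preimage ((U : Scheme.{u}).isoSpec.inv ≫ U.ι ≫ f)
  have hφ : Spec.map φ = (U : Scheme.{u}).isoSpec.inv ≫ U.ι ≫ f := Spec.map_preimage _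
  letI := φ.hom.toAlgebra
  haveI : LocallyOfFiniteType (Spec.map φ) := hφ ▸ inferInstance
  haveI : Algebra.FiniteType k Γ(U, ⊤) := (HasRingHomProperty.Spec_iff (P := @LocallyOfFiniteType)).1 this
  obtain ⟨n, a, ha⟩ := Algebra.FiniteType.iff_quotient_mvPolynomial''.1 ‹Algebra.FiniteType k Γ(U, ⊤)›
  refine ⟨U, hxU, Spec (CommRingCat.of (MvPolynomial (Fin n) k)),
    Spec.map (CommRingCat.ofHom (algebraMap k (MvPolynomial (Fin n) k))),
    (U : Scheme.{u}).isoSpec.hom ≫ Spec.map (CommRingCat.ofHom a.toRingHom), ?_, ?_, fun y => ?_⟩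
  · haveI hcl : IsClosedImmersion (Spec.map (CommRingCat.ofHom a.toRingHom)) :=
      IsClosedImmersion.spec_of_surjective _ ha
    have h3 : IsClosedImmersion ((U : Scheme.{u}).isoSpec.hom ≫ Spec.map (CommRingCat.ofHom a.toRingHom)) :=
      MorphismProperty.comp_mem @IsClosedImmersion _ _ inferInstance hcl
    have key : ∀ {X Y : Scheme.{u}} (f : X ⟶ Y), IsClosedImmersion f → IsImmersion f := fun f _ => inferInstance
    exact key _ h3
  · rw [Category.assoc, ← Spec.map_comp]
    have h2 : CommRingCat.ofHom (algebraMap k (MvPolynomial (Fin n) k)) ≫ CommRingCat.ofHom a.toRingHom = φ :=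
      CommRingCat.hom_ext a.comp_algebraMap
    exact (congrArg (fun t => (U : Scheme.{u}).isoSpec.hom ≫ Spec.map t) h2).trans
      (by rw [hφ, Iso.hom_inv_id_assoc])
  · haveI : IsRegularRing k := inferInstance
    haveI : IsRegularLocalRing (Localization.AtPrime y.asIdeal) := inferInstance
    exact IsRegularLocalRing.of_ringEquiv (R := Localization.AtPrime y.asIdeal) (StructureSheaf.stalkIso (MvPolynomial (Fin n) k) y).toRingEquiv

end Groth.Agent.S4732
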