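import Groth.Statements.S4733
import Groth.Agent.RegDesc.Basic
-- import your own Groth.Agent.* helpers here

set_option autoImplicit false
universe u
open EGA4

namespace Groth.Agent.S4733

open TensorProduct in
/-- For the property 'regular' (affine form): let k be a field, S a Noetherian k-algebra and k' an
extension field of k such that S is of finite type over k or k' is essentially of finite type over
k; let q' be a prime of S ⊗_k k' and q its contraction to S. If (S ⊗_k k')_{q'} is a regular local
ring then so is S_q; conversely, if k' is separable over k (geometrically reduced) and S_q is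
regular, then (S ⊗_k k')_{q'} is regular. -/
theorem result (k S k' : Type u) [Field k] [CommRing S] [Algebra k S]
    [IsNoetherianRing S] [Field k'] [Algebra k k'] (hft : Algebra.FiniteType k S ∨ Algebra.EssFiniteType k k')
    [IsNoetherianRing (S ⊗[k] k')] (q' : Ideal (S ⊗[k] k')) [q'.IsPrime] :
    (IsRegularLocalRing (Localization.AtPrime q') →
        IsRegularLocalRing (Localization.AtPrime (q'.comap (algebraMap S (S ⊗[k] k'))))) ∧
      (Algebra.IsGeometricallyReduced k k' →
        IsRegularLocalRing (Localization.AtPrime (q'.comap (algebraMap S (S ⊗[k] k')))) →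
          IsRegularLocalRing (Localization.AtPrime q')) := by
  refine ⟨fun h => Groth.Agent.RegDesc.isRegularLocalRing_comap_of_flat S (S ⊗[k] k') q' h, fun hk h => ?_⟩
  let q := q'.comap (algebraMap S (S ⊗[k] k'))
  let Sq := Localization.AtPrime q
  haveI := h
  haveI : IsRegularRing Sq := Groth.Agent.RegLocLib.isRegularRing_of_isRegularLocalRing Sq
  haveI := hk
  let j : S ⊗[k] k' →ₐ[k] Sq ⊗[k] k' :=
    Algebra.TensorProduct.map (IsScalarTower.toAlgHom k S Sq) (AlgHom.id k k')
  letI := j.toRingHom.toAlgebra
  haveI : IsScalarTower S (S ⊗[k] k') (Sq ⊗[k] k') := IsScalarTower.of_algebraMap_eq fun a => by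
    simp [RingHom.algebraMap_toAlgebra, j, IsScalarTower.algebraMap_apply S Sq (Sq ⊗[k] k')]
  haveI := IsLocalization.tensorProduct_tensorProduct k k' q.primeCompl Sq
    (RingHom.ext fun b => by simp [RingHom.algebraMap_toAlgebra, j])
  let M := Algebra.algebraMapSubmonoid (S ⊗[k] k') q.primeCompl
  have hdis : Disjoint (M : Set (S ⊗[k] k')) (q' : Set (S ⊗[k] k')) := by
    rw [Set.disjoint_left]
    rintro _ ⟨b, hb, rfl⟩ hbQ
    exact hb hbQ
  haveI : IsNoetherianRing (Sq ⊗[k] k') := IsLocalization.isNoetherianRing M _ inferInstance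
  haveI := Groth.Agent.RegDesc.isRegularRing_tensor k Sq k'
    (Groth.Agent.RegDesc.isGeometricallyRegular_of_geometricallyReduced k k')
  let N : PrimeSpectrum (Sq ⊗[k] k') :=
    ⟨q'.map (algebraMap _ _), IsLocalization.isPrime_of_isPrime_disjoint M _ q' inferInstance hdis⟩
  have h1 := (Groth.Agent.RegLocLib.mem_regLocus_iff_of_isLocalization M N).1
    (@IsRegularRing.isRegularLocalRing_localization _ _ _ N.asIdeal N.isPrime)
  have h2 : PrimeSpectrum.comap (algebraMap (S ⊗[k] k') (Sq ⊗[k] k')) N = ⟨q', inferInstance⟩ :=
    PrimeSpectrum.ext (IsLocalization.under_map_of_isPrime_disjoint M _ inferInstance hdis)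
  rw [h2] at h1
  exact h1

end Groth.Agent.S4733
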