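import Groth.Statements.S4735
import Groth.Agent.EGA4Dim.SnFormal
import Groth.Agent.KollarLib.Quotient
import Groth.Agent.DimFormulaLib.Local
import Groth.Agent.RatliffLib.Converse.Main
import Groth.Agent.GRingCompleteLib.Descend
-- import your own Groth.Agent.* helpers here

set_option autoImplicit false
universe u
open EGA4

namespace Groth.Agent.S4735

/-- Let A be a strictly formally catenary Noetherian local ring. Then every Noetherian local ring B
which is an A-algebra essentially of finite type is strictly formally catenary. -/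
theorem result (A : Type u) [CommRing A] [IsNoetherianRing A] [IsLocalRing A]
    (hA : EGA4.IsFormallyStrictlyCatenary A) (B : Type u) [CommRing B] [IsNoetherianRing B] [IsLocalRing B]
    [Algebra A B] [Algebra.EssFiniteType A B] : EGA4.IsFormallyStrictlyCatenary B := by
  intro p _
  haveI : IsLocalRing (B ⧸ p) := IsLocalRing.of_surjective' _ Ideal.Quotient.mk_surjective
  obtain ⟨_, _, _, _, -⟩ := RatliffLib.compl_facts B
  obtain ⟨_, _, _, _, -⟩ := RatliffLib.compl_facts (B ⧸ p)
  have hS := EGA4Dim.hasSnFormalFibres_essFiniteType 1 A B (EGA4Dim.hasSOne_of_strictly hA)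
  have hfc : EGA4.IsFormallyCatenary A := fun P _ => by
    haveI : IsLocalRing (A ⧸ P) := IsLocalRing.of_surjective' _ Ideal.Quotient.mk_surjective
    obtain ⟨_, _, _, _, -⟩ := RatliffLib.compl_facts (A ⧸ P)
    exact RatliffLib.isEquidim_of_isStrictlyEquidim (hA P)
  have hUA : CAlg.IsUniversallyCatenary A := RatliffLib.isUniversallyCatenary_of_formallyCatenary hfc
  have hUB : CAlg.IsUniversallyCatenary B := by
    obtain ⟨B₀, q, hq, hft, hloc⟩ := GRingCompleteLib.exists_model A B
    haveI := hq
    haveI := hft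
    haveI := hloc
    refine DimFormulaLib.isUniversallyCatenary_of_isLocalization q.primeCompl
      ⟨Algebra.FiniteType.isNoetherianRing A B₀, fun S _ _ hS' => ?_⟩
    letI : Algebra A S := ((algebraMap B₀ S).comp (algebraMap A B₀)).toAlgebra
    haveI : IsScalarTower A B₀ S := .of_algebraMap_eq fun _ => rfl
    exact hUA.2 S (Algebra.FiniteType.trans hft hS')
  have hD : EGA4.IsFormallyEquidim (B ⧸ p) := RatliffLib.isFormallyEquidim_of_universallyCatenary
    (RatliffLib.isUniversallyCatenary_of_surjective (Ideal.Quotient.mk p) Ideal.Quotient.mk_surjective hUB)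
  obtain ⟨e, -⟩ := CMCat.exists_complQuotEquiv (A := B) p
  haveI : IsNoetherianRing (EGA4.Cpl B ⧸ p.map (algebraMap B (EGA4.Cpl B))) :=
    isNoetherianRing_of_surjective _ _ _ Ideal.Quotient.mk_surjective
  refine RatliffLib.isStrictlyEquidim_of_ringEquiv e fun P hP => ?_
  haveI := hP.1
  let mkK := Ideal.Quotient.mk (p.map (algebraMap B (EGA4.Cpl B)))
  obtain ⟨hPp, z, hz⟩ := isAssociatedPrime_iff.1 hP
  have hQ : P.comap mkK ∈ associatedPrimes (EGA4.Cpl B) (EGA4.Cpl B ⧸ p.map (algebraMap B (EGA4.Cpl B))) := by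
    refine isAssociatedPrime_iff.2 ⟨Ideal.IsPrime.comap _, z, Ideal.ext fun r => ?_⟩
    rw [Ideal.mem_comap, hz, Submodule.mem_colon_singleton, Submodule.mem_colon_singleton]
    rfl
  have hmin := KollarLib.minimal_of_ass_of_fibre p (hS p) hQ
  have hP0 : P ∈ minimalPrimes (EGA4.Cpl B ⧸ p.map (algebraMap B (EGA4.Cpl B))) := by
    refine ⟨⟨inferInstance, bot_le⟩, fun T hT hTle => ?_⟩
    haveI := hT.1
    have h1 : P.comap mkK ≤ T.comap mkK := hmin.2 ⟨inferInstance, Ideal.mk_ker.symm.le.trans (Ideal.comap_mono bot_le)⟩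
      (Ideal.comap_mono hTle)
    exact (Ideal.comap_le_comap_iff_of_surjective _ Ideal.Quotient.mk_surjective _ _).1 h1
  have hE : EGA4.IsEquidim (EGA4.Cpl B ⧸ p.map (algebraMap B (EGA4.Cpl B))) := fun T hT => by
    haveI := hT.1.1
    have hT' : T.map e ∈ minimalPrimes (EGA4.Cpl (B ⧸ p)) := by
      rw [← Ideal.comap_symm]
      refine ⟨⟨Ideal.IsPrime.comap _, bot_le⟩, fun U hU hUle => ?_⟩
      haveI := hU.1
      intro x hx
      have h2 : U.comap e.toRingHom ≤ T := fun y hy => by
        have := hUle hy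
        simpa [Ideal.mem_comap] using this
      have h3 : e (e.symm x) ∈ U := hT.2 ⟨inferInstance, bot_le⟩ h2 (show e.symm x ∈ T from by simpa using hx)
      rwa [e.apply_symm_apply] at h3
    rw [ringKrullDim_eq_of_ringEquiv e, ← hD _ hT']
    exact ringKrullDim_eq_of_ringEquiv (Ideal.quotientEquiv _ _ e rfl)
  exact hE P hP0

end Groth.Agent.S4735
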