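import Groth.Statements.S4737
import Groth.Agent.RegDesc.Basic
import Groth.Agent.CMCat.ComplQuot
import Groth.Agent.ExcLib.Transfer
-- import your own Groth.Agent.* helpers here

set_option autoImplicit false
universe u
open scoped TensorProduct
open EGA4

namespace Groth.Agent.S4737

/-- The property 'geometrically regular', case of a local ring: let A be a Noetherian local ring whose
completion map A → Â is regular (the formal fibres of A are geometrically regular). Then for every
proper ideal I of A, the completion map of the local ring A/I is regular. -/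
theorem result (A : Type u) [CommRing A] [IsNoetherianRing A] [IsLocalRing A]
    (hA : CAlg.IsRegularHom A (EGA4.Cpl A)) (I : Ideal A) [Nontrivial (A ⧸ I)] :
    CAlg.IsRegularHom (A ⧸ I) (EGA4.Cpl (A ⧸ I)) := by
  haveI : IsLocalRing (A ⧸ I) := IsLocalRing.of_surjective' (Ideal.Quotient.mk I) Ideal.Quotient.mk_surjective
  haveI : IsNoetherianRing (EGA4.Cpl A) := Groth.Agent.RegLocal.isNoetherianRing_completion A _
  haveI : IsNoetherianRing ((A ⧸ I) ⊗[A] EGA4.Cpl A) :=
    Groth.Agent.RegDesc.isNoetherianRing_tensor_essFiniteType A (A ⧸ I) (EGA4.Cpl A)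
  have h1 := Groth.Agent.RegDesc.isRegularHom_baseChange A (EGA4.Cpl A) (A ⧸ I) hA
  obtain ⟨e, he⟩ := Groth.Agent.CMCat.exists_complQuotEquiv (A := A) (P := I)
  let φ : (A ⧸ I) ⊗[A] EGA4.Cpl A ≃+* EGA4.Cpl (A ⧸ I) :=
    (Algebra.TensorProduct.comm A (A ⧸ I) (EGA4.Cpl A)).toRingEquiv.trans
      ((Algebra.TensorProduct.quotIdealMapEquivTensorQuot (EGA4.Cpl A) I).symm.toRingEquiv.trans e)
  refine Groth.Agent.ExcLib.isRegularHom_of_ringEquiv (RingEquiv.refl (A ⧸ I)) φ (fun a => ?_) h1
  obtain ⟨a, rfl⟩ := Ideal.Quotient.mk_surjective a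
  show φ (Ideal.Quotient.mk I a ⊗ₜ[A] (1 : EGA4.Cpl A)) = algebraMap (A ⧸ I) (EGA4.Cpl (A ⧸ I)) (Ideal.Quotient.mk I a)
  rw [← he]
  show e ((Algebra.TensorProduct.quotIdealMapEquivTensorQuot (EGA4.Cpl A) I).symm
    ((1 : EGA4.Cpl A) ⊗ₜ[A] Ideal.Quotient.mk I a)) = _
  congr 1
  rw [AlgEquiv.symm_apply_eq, Algebra.TensorProduct.quotIdealMapEquivTensorQuot_mk,
    ← Ideal.Quotient.algebraMap_eq, Algebra.algebraMap_eq_smul_one, Algebra.algebraMap_eq_smul_one,
    TensorProduct.smul_tmul]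

end Groth.Agent.S4737
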