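import Groth.Statements.S4738
import Groth.Agent.GeomRedFib.Basic
import Groth.Agent.CMCat.ComplQuot
-- import your own Groth.Agent.* helpers here

set_option autoImplicit false
universe u
open scoped TensorProduct
open EGA4

namespace Groth.Agent.S4738

/-- For the property 'geometrically reduced', case of a local ring: if the formal fibres of a Noetherian
local ring A are geometrically reduced, then so are the formal fibres of A/I for every proper ideal
I of A. -/
theorem result (A : Type u) [CommRing A] [IsNoetherianRing A] [IsLocalRing A]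
    (hA : EGA4.HasGeomReducedFormalFibres A) (I : Ideal A) [Nontrivial (A ⧸ I)] :
    EGA4.HasGeomReducedFormalFibres (A ⧸ I) := by
  haveI : IsLocalRing (A ⧸ I) := IsLocalRing.of_surjective' (Ideal.Quotient.mk I) Ideal.Quotient.mk_surjective
  obtain ⟨e, he⟩ := Groth.Agent.CMCat.exists_complQuotEquiv (A := A) (P := I)
  let φ : (A ⧸ I) ⊗[A] EGA4.Cpl A ≃+* EGA4.Cpl (A ⧸ I) :=
    (Algebra.TensorProduct.comm A (A ⧸ I) (EGA4.Cpl A)).toRingEquiv.trans
      ((Algebra.TensorProduct.quotIdealMapEquivTensorQuot (EGA4.Cpl A) I).symm.toRingEquiv.trans e)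
  have hφ : ∀ a : A ⧸ I, φ (a ⊗ₜ[A] (1 : EGA4.Cpl A)) = algebraMap (A ⧸ I) (EGA4.Cpl (A ⧸ I)) a := by
    intro a
    obtain ⟨a, rfl⟩ := Ideal.Quotient.mk_surjective a
    rw [← he]
    show e ((Algebra.TensorProduct.quotIdealMapEquivTensorQuot (EGA4.Cpl A) I).symm
      ((1 : EGA4.Cpl A) ⊗ₜ[A] Ideal.Quotient.mk I a)) = _
    congr 1
    rw [AlgEquiv.symm_apply_eq, Algebra.TensorProduct.quotIdealMapEquivTensorQuot_mk,
      ← Ideal.Quotient.algebraMap_eq, Algebra.algebraMap_eq_smul_one, Algebra.algebraMap_eq_smul_one,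
      TensorProduct.smul_tmul]
  let ψ : (A ⧸ I) ⊗[A] EGA4.Cpl A ≃ₐ[A ⧸ I] EGA4.Cpl (A ⧸ I) := AlgEquiv.ofRingEquiv (f := φ) hφ
  have hF : Groth.Agent.GeomRedFib.FieldReduced (A ⧸ I) (EGA4.Cpl (A ⧸ I)) := by
    intro K _ _
    letI : Algebra A K := ((algebraMap (A ⧸ I) K).comp (Ideal.Quotient.mk I)).toAlgebra
    haveI : IsScalarTower A (A ⧸ I) K := IsScalarTower.of_algebraMap_eq fun _ => rfl
    haveI := Groth.Agent.GeomRedFib.fieldReduced_of_fibres hA K
    let g : K ⊗[A ⧸ I] EGA4.Cpl (A ⧸ I) ≃ₐ[K] K ⊗[A] EGA4.Cpl A :=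
      (Algebra.TensorProduct.congr (AlgEquiv.refl : K ≃ₐ[K] K) ψ.symm).trans
        (Algebra.TensorProduct.cancelBaseChange A (A ⧸ I) K K (EGA4.Cpl A))
    exact isReduced_of_injective (((Algebra.TensorProduct.comm (A ⧸ I) (EGA4.Cpl (A ⧸ I)) K).toRingEquiv.trans
      g.toRingEquiv).trans (Algebra.TensorProduct.comm A K (EGA4.Cpl A)).toRingEquiv) (RingEquiv.injective _)
  exact fun q _ => Groth.Agent.GeomRedFib.fibres_of_fieldReduced hF q

end Groth.Agent.S4738
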