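import Groth.Statements.S4739
import Groth.Agent.FormalFibreLib.Completion
import Groth.Agent.RatliffLib.Formal
import Groth.Agent.CMCat.ComplQuot
import Groth.Agent.RatliffLib.Hensel
open scoped TensorProduct
-- import your own Groth.Agent.* helpers here

set_option autoImplicit false
universe u
open EGA4

namespace Groth.Agent.S4739

open TensorProduct in
/-- Let A → B be a local homomorphism of Noetherian local rings and Â the completion of A, and suppose
B' = B ⊗_A Â is Noetherian. Then for every prime ideal n' of B' lying over the maximal ideal of B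
and containing the image of the maximal ideal of A through Â (that is, lying over the maximal ideal
m_A Â of Â), the completion of B and the completion of the local ring B'_{n'} are isomorphic
(existence of a ring isomorphism only). -/
theorem result (A B : Type u) [CommRing A] [CommRing B] [IsNoetherianRing A]
    [IsNoetherianRing B] [IsLocalRing A] [IsLocalRing B] [Algebra A B] [IsLocalHom (algebraMap A B)]
    [IsNoetherianRing (B ⊗[A] EGA4.Cpl A)] (n' : Ideal (B ⊗[A] EGA4.Cpl A)) [n'.IsPrime]
    (h1 : n'.comap (algebraMap B (B ⊗[A] EGA4.Cpl A)) = IsLocalRing.maximalIdeal B)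
    (h2 : (IsLocalRing.maximalIdeal A).map
        ((Algebra.TensorProduct.includeRight.toRingHom : EGA4.Cpl A →+* B ⊗[A] EGA4.Cpl A).comp
          (algebraMap A (EGA4.Cpl A))) ≤ n') :
    Nonempty (EGA4.Cpl B ≃+* EGA4.Cpl (Localization.AtPrime n')) := by
  let C := B ⊗[A] EGA4.Cpl A
  let m := IsLocalRing.maximalIdeal B
  haveI : Module.Flat A (EGA4.Cpl A) := AdicCompletion.flat_of_isNoetherian _
  haveI : Module.Flat B C := Module.Flat.baseChange A B (EGA4.Cpl A)
  obtain ⟨_, _, _, _, hmax⟩ := RatliffLib.compl_facts (A := A)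
  have hm : (IsLocalRing.maximalIdeal A).map (algebraMap A B) ≤ m := IsLocalRing.map_maximalIdeal_le _
  have hres' : ∀ c : C, ∃ b : B, c - algebraMap B C b ∈ m.map (algebraMap B C) := by
    intro c
    induction c using TensorProduct.induction_on with
    | zero => exact ⟨0, by simp⟩
    | tmul b x =>
      obtain ⟨a, ha⟩ := Ideal.Quotient.mk_surjective (AdicCompletion.evalOneₐ (IsLocalRing.maximalIdeal A) x)
      refine ⟨b * algebraMap A B a, ?_⟩
      have hx : x - algebraMap A (EGA4.Cpl A) a ∈ (IsLocalRing.maximalIdeal A).map (algebraMap A (EGA4.Cpl A)) := by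
        rw [← AdicCompletion.ker_evalOneₐ_eq_map _ (IsNoetherian.noetherian _), RingHom.mem_ker, AlgHom.toRingHom_eq_coe, RingHom.coe_coe, map_sub, ← ha,
          AlgHom.commutes, Ideal.Quotient.algebraMap_eq, sub_self]
      have h1 : b ⊗ₜ[A] x - algebraMap B C (b * algebraMap A B a) = (b ⊗ₜ[A] (1 : EGA4.Cpl A)) *
          (Algebra.TensorProduct.includeRight (x - algebraMap A (EGA4.Cpl A) a)) := by
        rw [map_sub, AlgHom.commutes, mul_sub, Algebra.TensorProduct.includeRight_apply,
          Algebra.TensorProduct.tmul_mul_tmul, mul_one, one_mul, map_mul]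
        rfl
      rw [h1]
      refine Ideal.mul_mem_left _ _ ?_
      have h2 := Ideal.mem_map_of_mem (Algebra.TensorProduct.includeRight : EGA4.Cpl A →ₐ[A] C).toRingHom hx
      rw [Ideal.map_map] at h2
      refine (le_of_eq ?_).trans (Ideal.map_mono hm) h2
      rw [Ideal.map_map]
      congr 1
      exact RingHom.ext fun a => ((Algebra.TensorProduct.includeRight : EGA4.Cpl A →ₐ[A] C).commutes a).trans
        (IsScalarTower.algebraMap_apply A B C a)
    | add c d hc hd =>
      obtain ⟨b, hb⟩ := hc
      obtain ⟨b', hb'⟩ := hd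
      exact ⟨b + b', by rw [map_add, add_sub_add_comm]; exact add_mem hb hb'⟩
  have hle : m.map (algebraMap B C) ≤ n' := Ideal.map_le_iff_le_comap.2 h1.ge
  have hgen : (n'.comap (algebraMap B C)).map (algebraMap B C) = n' := by
    refine le_antisymm Ideal.map_comap_le fun c hc => ?_
    obtain ⟨b, hb⟩ := hres' c
    rw [h1]
    have hb' : b ∈ m := by
      show b ∈ IsLocalRing.maximalIdeal B
      rw [← h1, Ideal.mem_comap]
      have := sub_mem hc (hle hb)
      rwa [sub_sub_cancel] at this
    have := add_mem hb (Ideal.mem_map_of_mem (algebraMap B C) hb')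
    rwa [sub_add_cancel] at this
  haveI : n'.IsMaximal := by
    refine Ideal.isMaximal_iff.2 ⟨fun h => (inferInstance : n'.IsPrime).ne_top ((Ideal.eq_top_iff_one _).2 h),
      fun J x hJ hx hxJ => ?_⟩
    obtain ⟨b, hb⟩ := hres' x
    have hbm : b ∉ m := fun hbm => hx (by
      have := add_mem (hle hb) (hle (Ideal.mem_map_of_mem (algebraMap B C) hbm))
      rwa [sub_add_cancel] at this)
    have hbJ : algebraMap B C b ∈ J := by
      have := sub_mem hxJ (hJ (hle hb))
      rwa [sub_sub_cancel] at this
    exact (Ideal.eq_top_iff_one J).1 (Ideal.eq_top_of_isUnit_mem J hbJ ((IsLocalRing.notMem_maximalIdeal.1 hbm).map _))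
  obtain ⟨e⟩ := FormalFibreLib.exists_cplEquiv B C n' hgen fun c => (hres' c).imp fun b hb => hle hb
  let p := n'.comap (algebraMap B C)
  let ι := algebraMap B (Localization.AtPrime p)
  have hp : p = m := h1
  haveI : IsLocalization.AtPrime B p := IsLocalization.at_units fun s hs => by
    exact IsLocalRing.notMem_maximalIdeal.1 (fun h => hs (hp.ge h))
  let g : B ≃ₐ[B] Localization.AtPrime p := IsLocalization.algEquiv p.primeCompl B (Localization.AtPrime p)
  have hmap : m.map g.toRingEquiv.toRingHom = IsLocalRing.maximalIdeal (Localization.AtPrime p) :=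
    IsLocalRing.eq_maximalIdeal (Ideal.map_isMaximal_of_equiv g.toRingEquiv)
  have hbij := RatliffLib.exists_complEquiv g.toRingEquiv.toRingHom m (IsLocalRing.maximalIdeal (Localization.AtPrime p))
    hmap.le fun n => by
      refine ⟨Ideal.quotientMap_injective' ?_, Ideal.quotientMap_surjective g.surjective⟩
      rw [← hmap, ← Ideal.map_pow]
      exact (Ideal.comap_map_of_bijective _ g.toRingEquiv.bijective).le
  exact ⟨(RingEquiv.ofBijective _ hbij).trans e.toRingEquiv⟩

end Groth.Agent.S4739
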