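import Groth.Statements.S4741
import Mathlib
import Groth.Agent.S14105

set_option autoImplicit false
universe u
open EGA4

namespace Groth.Agent.S4741

open CategoryTheory CategoryTheory.Limits AlgebraicGeometry
open Groth.Agent.S14105 (dim_stalk_fiber isNoetherianRing_stalk_fiber)
open Groth.Agent

/-- Over a point in the image of a morphism there is a point whose local ring has the same dimension. -/
theorem exists_stalk_dim_le {Z' Z : Scheme.{u}} (φ : Z' ⟶ Z)
    (hZ' : ∀ z', IsNoetherianRing (Z'.presheaf.stalk z')) (hZ : ∀ z, IsNoetherianRing (Z.presheaf.stalk z))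
    (z'₀ : Z') : ∃ z' : Z', φ z' = φ z'₀ ∧
      ringKrullDim (Z'.presheaf.stalk z') ≤ ringKrullDim (Z.presheaf.stalk (φ z')) := by
  obtain ⟨η, -, hη⟩ := DimFormulaLib.exists_maximal_point (φ.asFiber z'₀)
  refine ⟨φ.fiberι (φ z'₀) η, ?_, ?_⟩
  · have := φ.range_fiberι (φ z'₀)
    exact this.le ⟨η, rfl⟩
  have hd : ringKrullDim ((φ.fiber (φ z'₀)).presheaf.stalk η) = 0 := by
    rw [ringKrullDim_stalk_eq_coheight, Order.coheight_eq_zero.2 (show IsMax η from fun w hw =>
      (Scheme.le_iff_specializes.2 (by rw [hη w (Scheme.le_iff_specializes.1 hw)])))]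
    rfl
  rw [dim_stalk_fiber, CMFlatLib.dim_fibre_stalk] at hd
  generalize φ.fiberι (φ z'₀) η = z' at hd ⊢
  haveI := hZ' z'
  haveI := hZ (φ z')
  letI := (φ.stalkMap z').hom.toAlgebra
  haveI hloc : IsLocalHom (algebraMap (Z.presheaf.stalk (φ z')) (Z'.presheaf.stalk z')) :=
    inferInstanceAs (IsLocalHom (φ.stalkMap z').hom)
  haveI : (IsLocalRing.maximalIdeal (Z'.presheaf.stalk z')).LiesOver (IsLocalRing.maximalIdeal (Z.presheaf.stalk (φ z'))) :=
    ⟨(((IsLocalRing.local_hom_TFAE (algebraMap (Z.presheaf.stalk (φ z')) (Z'.presheaf.stalk z'))).out 0 4 rfl rfl).mp hloc).symm⟩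
  have h := Ideal.height_le_height_add_of_liesOver (IsLocalRing.maximalIdeal (Z.presheaf.stalk (φ z')))
    (IsLocalRing.maximalIdeal (Z'.presheaf.stalk z'))
  rw [← IsLocalRing.maximalIdeal_height_eq_ringKrullDim, ← IsLocalRing.maximalIdeal_height_eq_ringKrullDim]
  refine WithBot.coe_le_coe.2 (h.trans (le_of_eq ?_))
  suffices h0 : ((IsLocalRing.maximalIdeal (Z'.presheaf.stalk z')).map (Ideal.Quotient.mk
      ((IsLocalRing.maximalIdeal (Z.presheaf.stalk (φ z'))).map (φ.stalkMap z').hom))).height = 0 by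
    exact (congrArg (_ + ·) h0).trans (add_zero _)
  have hp := Ideal.isPrime_map_quotientMk_of_isPrime (p := IsLocalRing.maximalIdeal (Z'.presheaf.stalk z'))
    (I := (IsLocalRing.maximalIdeal (Z.presheaf.stalk (φ z'))).map (φ.stalkMap z').hom) (IsLocalRing.map_maximalIdeal_le _)
  have h1 := Ideal.height_le_ringKrullDim_of_ne_top hp.ne_top
  rw [hd] at h1
  exact le_antisymm (WithBot.coe_le_coe.1 h1) bot_le


open AlgebraicGeometry CategoryTheory in
/-- Suppose X and Y are locally Noetherian schemes, f : X → Y is a morphism that is surjective, and Z is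
a closed subset of Y. Then codim(f⁻¹(Z), X) ≤ codim(Z, Y), where the codimension of a closed subset
means the infimum over its points of the dimensions of the local rings there; when f is in addition
flat, these two codimensions coincide. (In the published version the equality part assumes f
quasi-flat; here f is taken to be flat.) -/
theorem result {X Y : Scheme.{u}} (f : X ⟶ Y) [IsLocallyNoetherian X]
    [IsLocallyNoetherian Y] (hf : Function.Surjective f.base) (Z : Set Y) (hZ : IsClosed Z) :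
    (⨅ x ∈ f.base ⁻¹' Z, ringKrullDim (X.presheaf.stalk x)) ≤ ⨅ y ∈ Z, ringKrullDim (Y.presheaf.stalk y) ∧
      (Flat f → (⨅ x ∈ f.base ⁻¹' Z, ringKrullDim (X.presheaf.stalk x)) = ⨅ y ∈ Z, ringKrullDim (Y.presheaf.stalk y)) := by
  open AlgebraicGeometry in
  have h1 : ∀ y ∈ Z, ∃ x ∈ f.base ⁻¹' Z, ringKrullDim (X.presheaf.stalk x) ≤ ringKrullDim (Y.presheaf.stalk y) := by
    intro y hy
    obtain ⟨x₀, rfl⟩ := hf y
    obtain ⟨x, hx, hle⟩ := exists_stalk_dim_le f (fun _ => inferInstance) (fun _ => inferInstance) x₀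
    exact ⟨x, show f x ∈ Z from hx ▸ hy, hle.trans_eq (by rw [hx])⟩
  have h2 : (⨅ x ∈ f.base ⁻¹' Z, ringKrullDim (X.presheaf.stalk x)) ≤ ⨅ y ∈ Z, ringKrullDim (Y.presheaf.stalk y) :=
    le_iInf₂ fun y hy => by
      obtain ⟨x, hx, hle⟩ := h1 y hy
      exact (iInf₂_le x hx).trans hle
  refine ⟨h2, fun hfl => le_antisymm h2 (le_iInf₂ fun x hx => ?_)⟩
  exact (iInf₂_le (f.base x) hx).trans (Groth.Agent.S14105.stalk_dim_le f x)

end Groth.Agent.S4741
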