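import Groth.Statements.S4742
import Groth.Agent.RatliffLib.Equidim
import Mathlib
-- import your own Groth.Agent.* helpers here

set_option autoImplicit false
universe u
open EGA4

namespace Groth.Agent.S4742

/-- Let A be a Noetherian local ring which is equidimensional and catenary, t an element of A belonging
to a system of parameters (dim A/tA + 1 = dim A), and Z a set of prime ideals of A stable under
specialization. Write X = Spec A, X₀ = V(t), X₁ = X ∖ X₀ and Z₀ = Z ∩ X₀, Z₁ = Z ∩ X₁. Then
codim(Z₀, X₀) ≤ codim(Z, X) ≤ codim(Z₁, X₁), where each codimension is the infimum of the heights of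
the primes concerned, heights for Z₀ being taken in A/tA. -/
theorem result (A : Type u) [CommRing A] [IsNoetherianRing A] [IsLocalRing A]
    (hA : EGA4.IsEquidim A) (hA' : CAlg.IsCatenary A) (t : A)
    (ht : ringKrullDim (A ⧸ Ideal.span {t}) + 1 = ringKrullDim A) (Z : Set (PrimeSpectrum A))
    (hZ : StableUnderSpecialization Z) :
    (⨅ p ∈ {p ∈ Z | t ∈ p.asIdeal}, (p.asIdeal.map (Ideal.Quotient.mk (Ideal.span {t}))).height) ≤
        ⨅ p ∈ Z, p.asIdeal.height ∧
      (⨅ p ∈ Z, p.asIdeal.height) ≤ ⨅ p ∈ {p ∈ Z | t ∉ p.asIdeal}, p.asIdeal.height := by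
  classical
  refine ⟨le_iInf₂ fun p hp => ?_, le_iInf₂ fun p hp => iInf₂_le p hp.1⟩
  -- `t` lies in no minimal prime
  have htmin : ∀ m : PrimeSpectrum A, IsMin m → t ∉ m.asIdeal := by
    intro m hm htm
    have hle : Ideal.span {t} ≤ m.asIdeal := (Ideal.span_singleton_le_iff_mem _).mpr htm
    have hd : ringKrullDim (A ⧸ m.asIdeal) ≤ ringKrullDim (A ⧸ Ideal.span {t}) :=
      ringKrullDim_le_of_surjective (Ideal.Quotient.factor hle) (Ideal.Quotient.factor_surjective hle)
    rw [hA m.asIdeal (PrimeSpectrum.isMin_iff.1 hm), ← ht] at hd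
    have hlt : ringKrullDim (A ⧸ Ideal.span {t}) < ringKrullDim (A ⧸ Ideal.span {t}) + 1 := by
      haveI : Nontrivial (A ⧸ Ideal.span {t}) :=
        Ideal.Quotient.nontrivial_iff.2 fun h => m.2.ne_top (top_le_iff.1 (h ▸ hle))
      haveI : IsLocalRing (A ⧸ Ideal.span {t}) := IsLocalRing.of_surjective' _ Ideal.Quotient.mk_surjective
      rw [← IsLocalRing.maximalIdeal_height_eq_ringKrullDim]
      obtain ⟨a, ha⟩ := ENat.ne_top_iff_exists.mp (Ideal.height_ne_top (IsLocalRing.maximalIdeal.isMaximal (A ⧸ Ideal.span {t})).ne_top)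
      rw [← ha]
      exact_mod_cast Nat.lt_succ_self a
    exact absurd hd (not_le.mpr hlt)
  -- the height drops modulo `t`
  have hdrop : ∀ q : PrimeSpectrum A, t ∈ q.asIdeal →
      (q.asIdeal.map (Ideal.Quotient.mk (Ideal.span {t}))).height + 1 ≤ Order.height q := by
    intro q htq
    have hker : RingHom.ker (Ideal.Quotient.mk (Ideal.span {t})) ≤ q.asIdeal := by
      rw [Ideal.mk_ker]; exact (Ideal.span_singleton_le_iff_mem _).mpr htq
    haveI : (q.asIdeal.map (Ideal.Quotient.mk (Ideal.span {t}))).IsPrime :=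
      Ideal.map_isPrime_of_surjective Ideal.Quotient.mk_surjective hker
    let qb : PrimeSpectrum (A ⧸ Ideal.span {t}) := ⟨q.asIdeal.map (Ideal.Quotient.mk (Ideal.span {t})), inferInstance⟩
    let f := PrimeSpectrum.comap (Ideal.Quotient.mk (Ideal.span {t}))
    have hmono : StrictMono f := fun a b hab =>
      lt_of_le_of_ne (Ideal.comap_mono hab.le) fun h =>
        hab.ne (PrimeSpectrum.comap_injective_of_surjective _ Ideal.Quotient.mk_surjective h)
    have hfq : f qb = q := PrimeSpectrum.ext (by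
      show (q.asIdeal.map (Ideal.Quotient.mk (Ideal.span {t}))).comap (Ideal.Quotient.mk (Ideal.span {t})) = _
      rw [Ideal.comap_map_of_surjective _ Ideal.Quotient.mk_surjective, sup_eq_left.mpr]
      exact hker)
    rw [show (q.asIdeal.map (Ideal.Quotient.mk (Ideal.span {t}))).height = Order.height qb from
      PrimeSpectrum.height_eq_orderHeight qb]
    obtain ⟨a, ha⟩ : ∃ a : ℕ, Order.height qb = a := by
      obtain ⟨a, ha⟩ := ENat.ne_top_iff_exists.mp (Groth.Agent.RatliffLib.height_ne_top' qb)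
      exact ⟨a, ha.symm⟩
    obtain ⟨s, hs, hsl⟩ := Order.exists_series_of_height_eq_coe qb ha
    let s' := s.map f hmono
    obtain ⟨m, hm, hmle⟩ := Ideal.exists_minimalPrimes_le (I := (⊥ : Ideal A)) (J := s'.head.asIdeal) bot_le
    haveI := hm.1.1
    have hmlt : (⟨m, hm.1.1⟩ : PrimeSpectrum A) < s'.head := by
      refine lt_of_le_of_ne hmle fun h => htmin ⟨m, hm.1.1⟩ (PrimeSpectrum.isMin_iff.2 hm) ?_
      rw [h]
      show Ideal.Quotient.mk (Ideal.span {t}) t ∈ s.head.asIdeal
      rw [Ideal.Quotient.eq_zero_iff_mem.mpr (Ideal.mem_span_singleton_self t)]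
      exact zero_mem _
    have hle : ((s'.cons ⟨m, hm.1.1⟩ hmlt).length : ℕ∞) ≤ Order.height q := by
      refine Order.length_le_height ?_
      rw [RelSeries.last_cons]
      show (s.map f hmono).last ≤ q
      rw [LTSeries.last_map, hs, hfq]
    rw [RelSeries.cons_length] at hle
    rw [ha, ← hsl]
    exact_mod_cast hle
  obtain ⟨q, hq, hqm⟩ := Ideal.exists_minimalPrimes_le
    (I := p.asIdeal ⊔ Ideal.span {t}) (J := IsLocalRing.maximalIdeal A)
    (sup_le (IsLocalRing.le_maximalIdeal p.2.ne_top) (IsLocalRing.le_maximalIdeal fun h => by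
      have : Subsingleton (A ⧸ Ideal.span {t}) := Ideal.Quotient.subsingleton_iff.mpr h
      rw [ringKrullDim_eq_bot_of_subsingleton, WithBot.bot_add] at ht
      exact ringKrullDim_ne_bot ht.symm))
  haveI := hq.1.1
  let Q : PrimeSpectrum A := ⟨q, hq.1.1⟩
  have hpQ : p ≤ Q := le_sup_left.trans hq.1.2
  have htQ : t ∈ q := hq.1.2 (Ideal.mem_sup_right (Ideal.mem_span_singleton_self t))
  refine (iInf₂_le Q ⟨hZ (PrimeSpectrum.le_iff_specializes p Q |>.mp hpQ) hp, htQ⟩).trans ?_
  rw [PrimeSpectrum.height_eq_orderHeight p]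
  have hcov : Order.height Q ≤ Order.height p + 1 := by
    by_cases htp : t ∈ p.asIdeal
    · have : Q = p := PrimeSpectrum.ext (le_antisymm
        (hq.2 ⟨p.2, sup_le le_rfl ((Ideal.span_singleton_le_iff_mem _).mpr htp)⟩ hpQ) hpQ)
      rw [this]
      exact le_self_add
    · have hlt : p < Q := lt_of_le_of_ne hpQ fun h => htp (by rw [h]; exact htQ)
      have hcv : p ⋖ Q := by
        refine ⟨hlt, fun r hpr hrq => ?_⟩
        let π := Ideal.Quotient.mk p.asIdeal
        have hkerπ : ∀ r' : PrimeSpectrum A, p ≤ r' → RingHom.ker π ≤ r'.asIdeal := fun r' h => by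
          rw [Ideal.mk_ker]; exact h
        haveI := Ideal.map_isPrime_of_surjective (f := π) Ideal.Quotient.mk_surjective (hkerπ Q hpQ)
        haveI := Ideal.map_isPrime_of_surjective (f := π) Ideal.Quotient.mk_surjective (hkerπ r hpr.le)
        let qb : PrimeSpectrum (A ⧸ p.asIdeal) := ⟨q.map π, by
          haveI := Ideal.map_isPrime_of_surjective (f := π) Ideal.Quotient.mk_surjective (hkerπ Q hpQ)
          assumption⟩
        let rb : PrimeSpectrum (A ⧸ p.asIdeal) := ⟨r.asIdeal.map π, inferInstance⟩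
        have hcomap : ∀ r' : PrimeSpectrum A, p ≤ r' → (r'.asIdeal.map π).comap π = r'.asIdeal := fun r' h => by
          rw [Ideal.comap_map_of_surjective _ Ideal.Quotient.mk_surjective, sup_eq_left.mpr]
          exact hkerπ r' h
        have hmem : qb.asIdeal ∈ (Ideal.span {π t}).minimalPrimes := by
          refine ⟨⟨qb.2, (Ideal.span_singleton_le_iff_mem _).mpr (Ideal.mem_map_of_mem π htQ)⟩, ?_⟩
          rintro J ⟨hJ, htJ⟩ hJq
          haveI := hJ
          have h1 : p.asIdeal ⊔ Ideal.span {t} ≤ J.comap π := by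
            refine sup_le ?_ ((Ideal.span_singleton_le_iff_mem _).mpr (show π t ∈ J from (Ideal.span_singleton_le_iff_mem J).mp htJ))
            intro x hx
            show π x ∈ J
            rw [Ideal.Quotient.eq_zero_iff_mem.mpr hx]; exact zero_mem J
          have h2 : J.comap π ≤ q := (Ideal.comap_mono hJq).trans (hcomap Q hpQ).le
          have h3 := hq.2 ⟨Ideal.IsPrime.comap π, h1⟩ h2
          exact (Ideal.map_mono h3).trans (Ideal.map_comap_le)
        have hb := Ideal.height_le_one_of_isPrincipal_of_mem_minimalPrimes _ qb.asIdeal hmem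
        haveI : IsDomain (A ⧸ p.asIdeal) := Ideal.Quotient.isDomain _
        have hbot : (⊥ : PrimeSpectrum (A ⧸ p.asIdeal)) < rb := by
          refine bot_lt_iff_ne_bot.mpr fun h => hpr.ne (PrimeSpectrum.ext ?_)
          have h1 : rb.asIdeal.comap π = (⊥ : Ideal (A ⧸ p.asIdeal)).comap π := by rw [h]; rfl
          rw [hcomap r hpr.le, ← RingHom.ker_eq_comap_bot, Ideal.mk_ker] at h1
          exact h1.symm
        have hrq' : rb < qb := lt_of_le_of_ne (Ideal.map_mono hrq.le) fun h => hrq.ne (PrimeSpectrum.ext (by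
          rw [← hcomap r hpr.le, ← hcomap Q hpQ]; exact congrArg (fun x : PrimeSpectrum (A ⧸ p.asIdeal) => x.asIdeal.comap π) h))
        rw [PrimeSpectrum.height_eq_orderHeight qb] at hb
        have h3 := (Order.height_add_one_le hbot).trans le_rfl
        have h4 := Order.height_add_one_le hrq'
        have h5 : (2 : ℕ∞) ≤ 1 := by
          have h6 : (1 : ℕ∞) ≤ Order.height rb := le_trans le_add_self h3
          calc (2 : ℕ∞) = 1 + 1 := by norm_num
            _ ≤ Order.height rb + 1 := by gcongr
            _ ≤ 1 := h4.trans hb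
        exact absurd h5 (by norm_num)
      have hc := (Groth.Agent.CatLib.isCatenary_iff_coheight.1 hA') p Q hcv
      have e1 := Groth.Agent.RatliffLib.height_add_coheight hA hA' p
      have e2 := Groth.Agent.RatliffLib.height_add_coheight hA hA' Q
      rw [hc, ← add_assoc] at e1
      obtain ⟨a, ha⟩ := ENat.ne_top_iff_exists.mp (Groth.Agent.CatLib.coheight_ne_top Q)
      rw [← e1, ← ha] at e2
      exact (WithTop.add_right_cancel (z := (a : ℕ∞)) (ENat.coe_ne_top a) (by
        rw [add_right_comm] at e2; exact e2)).le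
  obtain ⟨a, ha⟩ := ENat.ne_top_iff_exists.mp (Groth.Agent.RatliffLib.height_ne_top' p)
  have h := (hdrop Q htQ).trans hcov
  rw [← ha] at h ⊢
  exact (WithTop.add_le_add_iff_right (by decide)).mp h

end Groth.Agent.S4742
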