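import Groth.Statements.S4748
import Groth.Agent.NormalTensor.Hom
-- import your own Groth.Agent.* helpers here

set_option autoImplicit false
universe u
open EGA4

namespace Groth.Agent.S4748

theorem atPrime_normal {R : Type u} [CommRing R] (M : Submonoid R) (D : Type u) [CommRing D] [Algebra R D]
    [IsLocalization M D] (hD : EGA4.IsNormalRing D) (Q : Ideal R) [Q.IsPrime]
    (hdis : Disjoint (M : Set R) (Q : Set R)) :
    IsDomain (Localization.AtPrime Q) ∧ IsIntegrallyClosed (Localization.AtPrime Q) := by
  haveI := IsLocalization.isPrime_of_isPrime_disjoint M D Q inferInstance hdis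
  let Q' := Q.map (algebraMap R D)
  have hc : Q'.comap (algebraMap R D) = Q := IsLocalization.under_map_of_isPrime_disjoint M D inferInstance hdis
  haveI : IsLocalization.AtPrime (Localization.AtPrime Q') (Q'.comap (algebraMap R D)) :=
    IsLocalization.isLocalization_isLocalization_atPrime_isLocalization M (Localization.AtPrime Q') Q'
  haveI : IsLocalization.AtPrime (Localization.AtPrime Q') Q := by simpa only [hc]
  let e := (IsLocalization.algEquiv Q.primeCompl (Localization.AtPrime Q') (Localization.AtPrime Q)).toRingEquiv
  haveI := (hD Q').1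
  haveI := (hD Q').2
  haveI : IsDomain (Localization.AtPrime Q) := e.symm.injective.isDomain
  exact ⟨inferInstance, IsIntegrallyClosed.of_equiv e⟩

open TensorProduct

open TensorProduct in
/-- For the property 'normal' (affine form): let k be a field, S a Noetherian k-algebra and k' an
extension field of k such that S is of finite type over k or k' is essentially of finite type over
k; let q' be a prime of S ⊗_k k' and q its contraction to S. If (S ⊗_k k')_{q'} is an integrally
closed domain then so is S_q; conversely, if k' is separable over k (geometrically reduced) and S_q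
is an integrally closed domain, then so is (S ⊗_k k')_{q'}. -/
theorem result (k S k' : Type u) [Field k] [CommRing S] [Algebra k S]
    [IsNoetherianRing S] [Field k'] [Algebra k k'] (hft : Algebra.FiniteType k S ∨ Algebra.EssFiniteType k k')
    [IsNoetherianRing (S ⊗[k] k')] (q' : Ideal (S ⊗[k] k')) [q'.IsPrime] :
    ((IsDomain (Localization.AtPrime q') ∧ IsIntegrallyClosed (Localization.AtPrime q')) →
        (IsDomain (Localization.AtPrime (q'.comap (algebraMap S (S ⊗[k] k')))) ∧
          IsIntegrallyClosed (Localization.AtPrime (q'.comap (algebraMap S (S ⊗[k] k')))))) ∧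
      (Algebra.IsGeometricallyReduced k k' →
        (IsDomain (Localization.AtPrime (q'.comap (algebraMap S (S ⊗[k] k')))) ∧
          IsIntegrallyClosed (Localization.AtPrime (q'.comap (algebraMap S (S ⊗[k] k'))))) →
          (IsDomain (Localization.AtPrime q') ∧ IsIntegrallyClosed (Localization.AtPrime q'))) := by
  let f := algebraMap S (S ⊗[k] k')
  let q := q'.comap f
  haveI : q.IsPrime := inferInstance
  let Sq := Localization.AtPrime q
  let Tq := Localization.AtPrime q'
  refine ⟨fun ⟨hd, hic⟩ => ?_, fun hk ⟨hd, hic⟩ => ?_⟩
  · haveI := hd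
    haveI := hic
    haveI : q'.LiesOver q := ⟨rfl⟩
    letI := Localization.AtPrime.algebraOfLiesOver q q'
    haveI : Module.Flat S (S ⊗[k] k') := inferInstance
    haveI : Module.Flat Sq Tq := inferInstance
    haveI : Module.FaithfullyFlat Sq Tq := Module.FaithfullyFlat.of_flat_of_isLocalHom
    have hinj : Function.Injective (algebraMap Sq Tq) := FaithfulSMul.algebraMap_injective Sq Tq
    haveI hdS : IsDomain Sq := hinj.isDomain
    exact ⟨hdS, Groth.Agent.NormalTensor.isIntegrallyClosed_of_isNormalRing
      (Groth.Agent.NormalTensor.isNormalRing_of_faithfullyFlat Sq Tq (Groth.Agent.NormalTensor.isNormalRing_of_domain Tq))⟩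
  · haveI := hd
    haveI := hic
    haveI := hk
    have h1 : EGA4.IsNormalRing (Sq ⊗[k] k') := Groth.Agent.NormalTensor.isNormalRing_of_ringEquiv
      (Algebra.TensorProduct.comm k k' Sq).toRingEquiv
      (Groth.Agent.NormalTensor.isNormalRing_tensor_of_isGeometricallyReduced (Groth.Agent.NormalTensor.isNormalRing_of_domain Sq))
    let j : S ⊗[k] k' →ₐ[k] Sq ⊗[k] k' :=
      Algebra.TensorProduct.map (IsScalarTower.toAlgHom k S Sq) (AlgHom.id k k')
    letI := j.toRingHom.toAlgebra
    haveI : IsScalarTower S (S ⊗[k] k') (Sq ⊗[k] k') := IsScalarTower.of_algebraMap_eq fun a => by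
      simp [RingHom.algebraMap_toAlgebra, j, IsScalarTower.algebraMap_apply S Sq (Sq ⊗[k] k')]
    haveI := IsLocalization.tensorProduct_tensorProduct k k' q.primeCompl Sq
      (RingHom.ext fun b => by simp [RingHom.algebraMap_toAlgebra, j])
    let M := Algebra.algebraMapSubmonoid (S ⊗[k] k') q.primeCompl
    have hdis : Disjoint (M : Set (S ⊗[k] k')) (q' : Set (S ⊗[k] k')) := by
      rw [Set.disjoint_left]
      rintro _ ⟨b, hb, rfl⟩ hbQ
      exact hb hbQ
    exact atPrime_normal M (Sq ⊗[k] k') h1 q' hdis

end Groth.Agent.S4748
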