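import Groth.Statements.S4754
import Groth.Agent.NormalTensor.Basic
import Groth.Agent.CMCat.ComplQuot
import Groth.Agent.RegLocal.Completion
-- import your own Groth.Agent.* helpers here

set_option autoImplicit false
universe u
open scoped TensorProduct
open EGA4

namespace Groth.Agent.S4754

/-- For the property 'geometrically normal', case of a local ring: if the formal fibres of a Noetherian
local ring A are geometrically normal, then so are the formal fibres of A/I for every proper ideal I
of A. -/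
theorem result (A : Type u) [CommRing A] [IsNoetherianRing A] [IsLocalRing A]
    (hA : EGA4.HasGeomNormalFormalFibres A) (I : Ideal A) [Nontrivial (A ⧸ I)] :
    EGA4.HasGeomNormalFormalFibres (A ⧸ I) := by
  haveI : IsLocalRing (A ⧸ I) := IsLocalRing.of_surjective' (Ideal.Quotient.mk I) Ideal.Quotient.mk_surjective
  obtain ⟨e, he⟩ := Groth.Agent.CMCat.exists_complQuotEquiv (A := A) (P := I)
  let φ : (A ⧸ I) ⊗[A] EGA4.Cpl A ≃+* EGA4.Cpl (A ⧸ I) :=
    (Algebra.TensorProduct.comm A (A ⧸ I) (EGA4.Cpl A)).toRingEquiv.trans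
      ((Algebra.TensorProduct.quotIdealMapEquivTensorQuot (EGA4.Cpl A) I).symm.toRingEquiv.trans e)
  have hφ : ∀ a : A ⧸ I, φ (a ⊗ₜ[A] (1 : EGA4.Cpl A)) = algebraMap (A ⧸ I) (EGA4.Cpl (A ⧸ I)) a := by
    intro a
    obtain ⟨a, rfl⟩ := Ideal.Quotient.mk_surjective a
    rw [← he]
    show e ((Algebra.TensorProduct.quotIdealMapEquivTensorQuot (EGA4.Cpl A) I).symm
      ((1 : EGA4.Cpl A) ⊗ₜ[A] Ideal.Quotient.mk I a)) = _
    congr 1
    rw [AlgEquiv.symm_apply_eq, Algebra.TensorProduct.quotIdealMapEquivTensorQuot_mk,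
      ← Ideal.Quotient.algebraMap_eq, Algebra.algebraMap_eq_smul_one, Algebra.algebraMap_eq_smul_one,
      TensorProduct.smul_tmul]
  let ψ : (A ⧸ I) ⊗[A] EGA4.Cpl A ≃ₐ[A ⧸ I] EGA4.Cpl (A ⧸ I) := AlgEquiv.ofRingEquiv (f := φ) hφ
  intro q _ k' _ _ hk'
  let p := q.comap (Ideal.Quotient.mk I)
  let f := Ideal.ResidueField.map p q (Ideal.Quotient.mk I) rfl
  have hf : Function.Surjective f := by
    intro z
    obtain ⟨a, b, hb, rfl⟩ := IsFractionRing.div_surjective (A := (A ⧸ I) ⧸ q) z
    obtain ⟨a, rfl⟩ := Ideal.Quotient.mk_surjective a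
    obtain ⟨b, rfl⟩ := Ideal.Quotient.mk_surjective b
    have key : ∀ x : A ⧸ I, algebraMap _ q.ResidueField x ∈ f.fieldRange := fun x => by
      obtain ⟨y, rfl⟩ := Ideal.Quotient.mk_surjective x
      exact ⟨algebraMap A _ y, Ideal.ResidueField.map_algebraMap _ _ _ _ _⟩
    exact f.fieldRange.div_mem (key a) (key b)
  letI : Algebra p.ResidueField k' := ((algebraMap q.ResidueField k').comp f).toAlgebra
  letI : Algebra (A ⧸ I) k' := ((algebraMap q.ResidueField k').comp (algebraMap (A ⧸ I) q.ResidueField)).toAlgebra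
  haveI : IsScalarTower (A ⧸ I) q.ResidueField k' := IsScalarTower.of_algebraMap_eq fun _ => rfl
  letI : Algebra A k' := ((algebraMap (A ⧸ I) k').comp (Ideal.Quotient.mk I)).toAlgebra
  haveI : IsScalarTower A (A ⧸ I) k' := IsScalarTower.of_algebraMap_eq fun _ => rfl
  haveI : IsScalarTower A p.ResidueField k' := IsScalarTower.of_algebraMap_eq fun a =>
    congrArg (algebraMap q.ResidueField k') (Ideal.ResidueField.map_algebraMap p q (Ideal.Quotient.mk I) rfl a).symm
  haveI := hk'
  haveI : Module.Finite p.ResidueField k' := by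
    letI : Algebra p.ResidueField q.ResidueField := f.toAlgebra
    haveI : IsScalarTower p.ResidueField q.ResidueField k' := IsScalarTower.of_algebraMap_eq fun _ => rfl
    haveI : Module.Finite p.ResidueField q.ResidueField := Module.Finite.of_surjective (Algebra.linearMap _ _) hf
    exact Module.Finite.trans q.ResidueField k'
  refine Groth.Agent.NormalTensor.isNormalRing_of_ringEquiv ?_ (hA p k' inferInstance)
  exact (Algebra.TensorProduct.cancelBaseChange A p.ResidueField k' k' (EGA4.Cpl A)).toRingEquiv.trans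
    ((Algebra.TensorProduct.cancelBaseChange A (A ⧸ I) k' k' (EGA4.Cpl A)).symm.toRingEquiv.trans
      ((Algebra.TensorProduct.congr (AlgEquiv.refl : k' ≃ₐ[A ⧸ I] k') ψ).toRingEquiv.trans
        (Algebra.TensorProduct.cancelBaseChange (A ⧸ I) q.ResidueField k' k' (EGA4.Cpl (A ⧸ I))).symm.toRingEquiv))

end Groth.Agent.S4754
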