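import Groth.Statements.S4755
import Groth.Agent.FlatDepth.Fibres
import Groth.Agent.CMCat.ComplQuot
import Groth.Agent.RegDesc.Basic
-- import your own Groth.Agent.* helpers here

set_option autoImplicit false
universe u
open scoped TensorProduct
open EGA4

namespace Groth.Agent.S4755

/-- For the property 'Cohen–Macaulay', case of a local ring: if the formal fibres of a Noetherian local
ring A are Cohen–Macaulay, then so are the formal fibres of A/I for every proper ideal I of A. -/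
theorem result (A : Type u) [CommRing A] [IsNoetherianRing A] [IsLocalRing A]
    (hA : EGA4.HasCMFormalFibres A) (I : Ideal A) [Nontrivial (A ⧸ I)] :
    EGA4.HasCMFormalFibres (A ⧸ I) := by
  haveI : IsLocalRing (A ⧸ I) := IsLocalRing.of_surjective' (Ideal.Quotient.mk I) Ideal.Quotient.mk_surjective
  obtain ⟨e, he⟩ := Groth.Agent.CMCat.exists_complQuotEquiv (A := A) (P := I)
  let φ : (A ⧸ I) ⊗[A] EGA4.Cpl A ≃+* EGA4.Cpl (A ⧸ I) :=
    (Algebra.TensorProduct.comm A (A ⧸ I) (EGA4.Cpl A)).toRingEquiv.trans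
      ((Algebra.TensorProduct.quotIdealMapEquivTensorQuot (EGA4.Cpl A) I).symm.toRingEquiv.trans e)
  have hφ : ∀ a : A ⧸ I, φ (a ⊗ₜ[A] (1 : EGA4.Cpl A)) = algebraMap (A ⧸ I) (EGA4.Cpl (A ⧸ I)) a := by
    intro a
    obtain ⟨a, rfl⟩ := Ideal.Quotient.mk_surjective a
    rw [← he]
    show e ((Algebra.TensorProduct.quotIdealMapEquivTensorQuot (EGA4.Cpl A) I).symm
      ((1 : EGA4.Cpl A) ⊗ₜ[A] Ideal.Quotient.mk I a)) = _
    congr 1
    rw [AlgEquiv.symm_apply_eq, Algebra.TensorProduct.quotIdealMapEquivTensorQuot_mk,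
      ← Ideal.Quotient.algebraMap_eq, Algebra.algebraMap_eq_smul_one, Algebra.algebraMap_eq_smul_one,
      TensorProduct.smul_tmul]
  let ψ : (A ⧸ I) ⊗[A] EGA4.Cpl A ≃ₐ[A ⧸ I] EGA4.Cpl (A ⧸ I) := AlgEquiv.ofRingEquiv (f := φ) hφ
  intro q _
  obtain ⟨p, hp, ⟨f⟩⟩ := Groth.Agent.FlatDepth.exists_fiber_quot_equiv A (A ⧸ I) (EGA4.Cpl A)
    Ideal.Quotient.mk_surjective q
  haveI := hp
  haveI : LocCoh.IsCohenMacaulayRing (p.Fiber (EGA4.Cpl A)) := hA p
  exact Groth.Agent.CMCat.isCohenMacaulayRing_of_ringEquiv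
    (f.trans (Algebra.TensorProduct.congr (AlgEquiv.refl : q.ResidueField ≃ₐ[A ⧸ I] q.ResidueField) ψ).toRingEquiv)

end Groth.Agent.S4755
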