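import Groth.Statements.S4757
import Groth.Agent.GeomRedFib.Basic
-- import your own Groth.Agent.* helpers here

set_option autoImplicit false
universe u
open scoped TensorProduct
open EGA4

namespace Groth.Agent.S4757

/-- Let A → B be a flat homomorphism of Noetherian rings with geometrically reduced fibres and S a
multiplicative subset of A. Then the induced homomorphism S⁻¹A → S⁻¹B (arbitrary localizations at S
and at its image) is flat with geometrically reduced fibres. -/
theorem result (A B : Type u) [CommRing A] [CommRing B] [IsNoetherianRing A]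
    [IsNoetherianRing B] [Algebra A B] [Module.Flat A B]
    (h : ∀ (p : Ideal A) [p.IsPrime], Algebra.IsGeometricallyReduced p.ResidueField (p.Fiber B)) (S : Submonoid A)
    (A' B' : Type u) [CommRing A'] [CommRing B'] [Algebra A A'] [Algebra B B'] [Algebra A' B'] [Algebra A B']
    [IsScalarTower A A' B'] [IsScalarTower A B B'] [IsLocalization S A']
    [IsLocalization (Algebra.algebraMapSubmonoid B S) B'] :
    Module.Flat A' B' ∧ ∀ (p' : Ideal A') [p'.IsPrime], Algebra.IsGeometricallyReduced p'.ResidueField (p'.Fiber B') := by
  haveI : IsLocalization (Algebra.algebraMapSubmonoid B S) B' := inferInstance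
  haveI : Algebra.IsPushout A A' B B' := (Algebra.isPushout_of_isLocalization S A' B B').symm
  let e := Algebra.IsPushout.equiv A A' B B'
  refine ⟨Module.Flat.of_linearEquiv e.toLinearEquiv.symm, fun p _ => ?_⟩
  refine Groth.Agent.GeomRedFib.fibres_of_fieldReduced (fun K _ _ => ?_) p
  letI : Algebra A K := ((algebraMap A' K).comp (algebraMap A A')).toAlgebra
  haveI : IsScalarTower A A' K := IsScalarTower.of_algebraMap_eq fun _ => rfl
  haveI := Groth.Agent.GeomRedFib.fieldReduced_of_fibres h K
  let g : K ⊗[A'] B' ≃ₐ[K] K ⊗[A] B :=
    (Algebra.TensorProduct.congr (AlgEquiv.refl : K ≃ₐ[K] K) e.symm).trans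
      (Algebra.TensorProduct.cancelBaseChange A A' K K B)
  exact isReduced_of_injective (((Algebra.TensorProduct.comm A' B' K).toRingEquiv.trans
    g.toRingEquiv).trans (Algebra.TensorProduct.comm A K B).toRingEquiv) (RingEquiv.injective _)

end Groth.Agent.S4757
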