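import Groth.Statements.S4777
import Groth.Agent.AffLim.Presentation

set_option autoImplicit false
universe u
open CategoryTheory
open Lim8

namespace Groth.Agent.S4777

/-- Let B be an algebra over a commutative ring A. If, for every inductive system (C_λ) of A-algebras
indexed by a nonempty directed preordered set, the canonical map colim Hom_A(B, C_λ) → Hom_A(B,
colim C_λ) is bijective (that is, Hom_A(B, -) preserves the colimit of the system), then B is an
A-algebra of finite presentation. (This is the necessity half of the characterization of algebras of
finite presentation by this property; the converse is standard.) -/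
theorem result {A B : CommRingCat.{u}} (f : A ⟶ B)
    (h : ∀ (J : Type u) [Preorder J] [IsDirected J (· ≤ ·)] [Nonempty J] (F : J ⥤ Under A),
      Limits.PreservesColimit F (coyoneda.obj (Opposite.op (Under.mk f)))) :
    f.hom.FinitePresentation := by
  refine AffLim.finitePresentation_of_factor f fun J _ _ _ F α c hc g hg => ?_
  let F' : J ⥤ Under A :=
    { obj := fun j => Under.mk (α.app j)
      map := fun {i j} a => Under.homMk (F.map a) (by
        simpa using (α.naturality a).symm)
      map_id := fun i => Under.UnderMorphism.ext (by simp)
      map_comp := fun a b => Under.UnderMorphism.ext (by simp) }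
  let c' : Limits.Cocone F' :=
    { pt := Under.mk (f ≫ g)
      ι :=
        { app := fun j => Under.homMk (c.ι.app j) (hg j).symm
          naturality := fun i j a => Under.UnderMorphism.ext (by simp [F']) } }
  let hc' : Limits.IsColimit c' :=
    { desc := fun s => Under.homMk (hc.desc ((Under.forget A).mapCocone s)) (by
        obtain ⟨j⟩ := (inferInstance : Nonempty J)
        simp only [Functor.const_obj_obj, Under.mk_hom, c', hg j, Category.assoc]
        erw [hc.fac]
        exact Under.w (s.ι.app j))
      fac := fun s j => Under.UnderMorphism.ext (hc.fac _ j)
      uniq := fun s m hm => Under.UnderMorphism.ext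
        (hc.uniq ((Under.forget A).mapCocone s) m.right fun j => congrArg (·.right) (hm j)) }
  have := h J F'
  obtain ⟨j, a, ha⟩ := Limits.Types.jointly_surjective_of_isColimit
    (Limits.isColimitOfPreserves (coyoneda.obj (Opposite.op (Under.mk f))) hc')
    (Under.homMk g rfl : Under.mk f ⟶ c'.pt)
  exact ⟨j, a.right, Under.w a, congrArg (·.right) ha⟩

end Groth.Agent.S4777
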