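import Groth.Statements.S4778
import Groth.Agent.AffLim.Presentation

set_option autoImplicit false
universe u
open CategoryTheory AlgebraicGeometry
open Lim8

namespace Groth.Agent.S4778

/-- Let f : X ⟶ S be a morphism of schemes. Suppose that for every affine open U of S and every
projective system (Z_λ) of U-schemes indexed by a nonempty directed preordered set, with every Z_λ
an affine scheme, the functor Hom_S(-, X) takes the limit of the system to the colimit of the
Hom_S(Z_λ, X) (the canonical map from the colimit is bijective). Then f is locally of finite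
presentation. -/
theorem result {X S : Scheme.{u}} (f : X ⟶ S)
    (h : ∀ (U : S.Opens), IsAffineOpen U →
      ∀ (J : Type u) [Preorder J] [IsDirected J (· ≤ ·)] [Nonempty J] (Z : Jᵒᵖ ⥤ Over (U : Scheme.{u})),
      (∀ j, IsAffine (Z.obj j).left) →
      Limits.PreservesColimit (Z ⋙ Over.map U.ι).op (yoneda.obj (Over.mk f))) :
    LocallyOfFinitePresentation f := by
  refine AffLim.locallyOfFinitePresentation_of_factor f fun U hU J _ _ _ F α c hc g hg => ?_
  let D : Jᵒᵖ ⥤ Scheme.{u} := F.op ⋙ Scheme.Spec
  let hc' : Limits.IsLimit (Scheme.Spec.mapCone c.op) := Limits.isLimitOfPreserves Scheme.Spec hc.op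
  let Z : Jᵒᵖ ⥤ Over (U : Scheme.{u}) :=
    { obj := fun j => Over.mk (Spec.map (α.app j.unop) ≫ hU.isoSpec.inv)
      map := fun {i j} a => Over.homMk (D.map a) (by
        change Spec.map (F.map a.unop) ≫ Spec.map (α.app j.unop) ≫ hU.isoSpec.inv =
          Spec.map (α.app i.unop) ≫ hU.isoSpec.inv
        rw [← Spec.map_comp_assoc, ← α.naturality a.unop]
        simp)
      map_id := fun i => Over.OverMorphism.ext (D.map_id i)
      map_comp := fun a b => Over.OverMorphism.ext (D.map_comp a b) }
  let cZ : Limits.Cone (Z ⋙ Over.map U.ι) :=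
    { pt := Over.mk (g ≫ f)
      π :=
        { app := fun j => Over.homMk (Spec.map (c.ι.app j.unop)) (by
            change Spec.map (c.ι.app j.unop) ≫ (Spec.map (α.app j.unop) ≫ hU.isoSpec.inv) ≫ U.ι =
              g ≫ f
            rw [hg j.unop, Spec.map_comp, Category.assoc, Category.assoc,
              IsAffineOpen.isoSpec_inv_ι])
          naturality := fun i j a => Over.OverMorphism.ext
            ((Scheme.Spec.mapCone c.op).π.naturality a) } }
  let hcZ : Limits.IsLimit cZ :=
    { lift := fun s => Over.homMk (hc'.lift ((Over.forget S).mapCone s)) (by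
        obtain ⟨j⟩ := (inferInstance : Nonempty Jᵒᵖ)
        change hc'.lift ((Over.forget S).mapCone s) ≫ g ≫ f = s.pt.hom
        rw [hg j.unop, Spec.map_comp, Category.assoc]
        refine (hc'.fac_assoc ((Over.forget S).mapCone s) j _).trans ?_
        change (s.π.app j).left ≫ Spec.map (α.app j.unop) ≫ hU.fromSpec = s.pt.hom
        rw [← IsAffineOpen.isoSpec_inv_ι, ← Category.assoc (Spec.map (α.app j.unop))]
        exact Over.w (s.π.app j))
      fac := fun s j => Over.OverMorphism.ext (hc'.fac _ j)
      uniq := fun s m hm => Over.OverMorphism.ext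
        (hc'.uniq ((Over.forget S).mapCone s) m.left fun j => congrArg (·.left) (hm j)) }
  have := h U hU J Z (fun j => inferInstanceAs (IsAffine (Spec _)))
  obtain ⟨j, a, ha⟩ := Limits.Types.jointly_surjective_of_isColimit
    (Limits.isColimitOfPreserves (yoneda.obj (Over.mk f)) hcZ.op)
    (Over.homMk g rfl : cZ.pt ⟶ Over.mk f)
  refine ⟨j.unop.unop, a.left, ?_, congrArg (·.left) ha⟩
  rw [← IsAffineOpen.isoSpec_inv_ι, ← Category.assoc]
  exact Over.w a

end Groth.Agent.S4778
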