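import Groth.Statements.S4779
import Mathlib
import Groth.Agent.AffLim.DescendBaseChange

set_option backward.isDefEq.respectTransparency false
set_option backward.defeqAttrib.useBackward true
set_option autoImplicit false
universe u
open CategoryTheory AlgebraicGeometry
open Lim8

namespace Groth.Agent.S4779

/-- Let S = lim S_i be a cofiltered limit of schemes with affine transition maps, let f₀ : X₀ ⟶ Y₀ be a
morphism of schemes over a stage S_{i₀}, and let f : X ⟶ Y be its base change along S ⟶ S_{i₀} (all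
base changes are expressed by pullback squares). If there is an index i over i₀ such that, for every
j over i, the base change f_j : X_j ⟶ Y_j of f₀ along S_j ⟶ S_{i₀} is an open map, then f is an open
map. (The corresponding statement for universally open morphisms follows from this one by base
change.) -/
theorem result {I : Type u} [SmallCategory I] [IsCofiltered I]
    (D : I ⥤ Scheme.{u}) (c : Limits.Cone D) (hc : Limits.IsLimit c)
    [∀ (i j : I) (f : i ⟶ j), IsAffineHom (D.map f)] (i₀ : I)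
    {X₀ Y₀ : Scheme.{u}} (f₀ : X₀ ⟶ Y₀) (g₀ : Y₀ ⟶ D.obj i₀)
    {X Y : Scheme.{u}} (f : X ⟶ Y) (g : Y ⟶ c.pt) (qY : Y ⟶ Y₀) (qX : X ⟶ X₀)
    (hY : IsPullback qY g g₀ (c.π.app i₀)) (hX : IsPullback qX f f₀ qY)
    (h : ∃ (i : I) (φ : i ⟶ i₀), ∀ (j : I) (ψ : j ⟶ i) (Xj Yj : Scheme.{u}) (fj : Xj ⟶ Yj)
      (gj : Yj ⟶ D.obj j) (pY : Yj ⟶ Y₀) (pX : Xj ⟶ X₀),
      IsPullback pY gj g₀ (D.map (ψ ≫ φ)) → IsPullback pX fj f₀ pY → IsOpenMap ⇑fj) :
    IsOpenMap ⇑f := by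
  obtain ⟨i, φ, hi⟩ := h
  let P : MorphismProperty Scheme.{u} := topologically @IsOpenMap
  haveI : P.RespectsIso := topologically_respectsIso _ (fun e => e.isOpenMap) (fun a b ha hb => hb.comp ha)
  show P f
  rw [Groth.Agent.AffLim.prop_baseChangeMapLimit D c i₀ f₀ g₀ P hY hX]
  obtain ⟨hlim⟩ := Groth.Agent.AffLim.nonempty_isLimit_baseChangeCone D c hc i₀ (f₀ ≫ g₀)
  let F := Groth.Agent.AffLim.baseChangeMapLimit D c i₀ f₀ g₀
  let cX := Groth.Agent.AffLim.baseChangeCone D c i₀ (f₀ ≫ g₀)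
  let cY := Groth.Agent.AffLim.baseChangeCone D c i₀ g₀
  haveI : ∀ (a b : Over i₀) (u : a ⟶ b), IsAffineHom ((Groth.Agent.AffLim.baseChange D i₀ (f₀ ≫ g₀)).map u) :=
    fun a b u => inferInstance
  show IsOpenMap ⇑F
  have hbasis := isBasis_preimage_isAffineOpen (Groth.Agent.AffLim.baseChange D i₀ (f₀ ≫ g₀)) cX hlim
  rw [TopologicalSpace.IsTopologicalBasis.isOpenMap_iff hbasis]
  rintro _ ⟨_, ⟨k, V, -, rfl⟩, rfl⟩
  obtain ⟨j₀, u₁, u₂, -⟩ := IsCofilteredOrEmpty.cone_objs k.left i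
  obtain ⟨j, e, he⟩ := IsCofilteredOrEmpty.cone_maps (u₁ ≫ k.hom) (u₂ ≫ φ)
  let l : Over i₀ := Over.mk ((e ≫ u₂) ≫ φ)
  let a : l ⟶ k := Over.homMk (e ≫ u₁) (by simp [l, he])
  let fl := (Groth.Agent.AffLim.baseChangeMap D i₀ f₀ g₀).app l
  have hopen : IsOpenMap ⇑fl :=
    hi j (e ≫ u₂) _ _ fl (Limits.pullback.snd g₀ (D.map l.hom)) (Limits.pullback.fst _ _) (Limits.pullback.fst _ _)
      (IsPullback.of_hasPullback g₀ (D.map l.hom)) (Groth.Agent.AffLim.isPullback_baseChangeMap D i₀ f₀ g₀ l)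
  let Vl := (Groth.Agent.AffLim.baseChange D i₀ (f₀ ≫ g₀)).map a ⁻¹ᵁ V
  have hpre : (⇑(cX.π.app k) ⁻¹' (V : Set _) : Set cX.pt) = ⇑(cX.π.app l) ⁻¹' (Vl : Set _) := by
    rw [← cX.w a]
    rfl
  have hsq : IsPullback (cX.π.app l) F fl (cY.π.app l) := by
    refine IsPullback.of_right ?_ (Groth.Agent.AffLim.baseChangeMapLimit_w D c i₀ f₀ g₀ l).symm
      (Groth.Agent.AffLim.isPullback_baseChangeMap D i₀ f₀ g₀ l)
    simpa [cX, cY, F, Groth.Agent.AffLim.baseChangeCone, Groth.Agent.AffLim.baseChangeMapLimit] using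
      Groth.Agent.AffLim.isPullback_map_fst D i₀ f₀ g₀ (c.π.app i₀)
  have himg : ⇑F '' (⇑(cX.π.app k) ⁻¹' (V : Set _) : Set cX.pt) = ⇑(cY.π.app l) ⁻¹' (⇑fl '' (Vl : Set _)) := by
    rw [hpre]
    ext y
    constructor
    · rintro ⟨x, hx, rfl⟩
      exact ⟨cX.π.app l x, hx, congr($(hsq.w) x)⟩
    · rintro ⟨x₁, hx₁, he₁⟩
      obtain ⟨z, hz₁, hz₂⟩ := Scheme.Pullback.exists_preimage_pullback x₁ y he₁
      refine ⟨hsq.isoPullback.inv z, ?_, (congr($(hsq.isoPullback_inv_snd) z)).trans hz₂⟩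
      show cX.π.app l (hsq.isoPullback.inv z) ∈ (Vl : Set _)
      rwa [show cX.π.app l (hsq.isoPullback.inv z) = x₁ from (congr($(hsq.isoPullback_inv_fst) z)).trans hz₁]
  show IsOpen (⇑F '' (⇑(cX.π.app k) ⁻¹' (V : Set _) : Set cX.pt))
  rw [himg]
  exact (hopen _ Vl.2).preimage (cY.π.app l).continuous

end Groth.Agent.S4779
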