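import Groth.Statements.S4781
import Groth.Agent.OpenDim.Local
import Groth.Agent.OpenDim.EquidimCrit
-- import your own Groth.Agent.* helpers here

set_option autoImplicit false
universe u
open CategoryTheory AlgebraicGeometry
open Cons9

namespace Groth.Agent.S4781

open Groth.Agent Topology

theorem isGeneric_image {X S : Scheme.{u}} (f : X ⟶ S) [IrreducibleSpace X] [IrreducibleSpace S] [IsDominant f] :
    f (genericPoint X) = genericPoint S := by
  have h : IsGenericPoint (f (genericPoint X)) Set.univ := by
    have := (genericPoint_spec X).image f.continuous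
    rwa [Set.image_univ, f.denseRange.closure_range] at this
  exact h.eq (genericPoint_spec S)

theorem max_of_generic {X S : Scheme.{u}} (f : X ⟶ S) [IrreducibleSpace X] [IrreducibleSpace S] [IsDominant f]
    {ω : X} (hω : f ω = genericPoint S) (hmax : OpenDim.MaxInFibre f ω) : ω = genericPoint X :=
  (hmax (genericPoint X) (by rw [hω]; exact isGeneric_image f) (genericPoint_specializes ω)).symm

/-- Let S be a Noetherian irreducible scheme with generic point η, let X be an irreducible scheme and f
: X ⟶ S a dominant morphism of finite type. Then there is an open neighbourhood U of η in S such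
that, for every s ∈ U, all irreducible components of the fibre f⁻¹(s) have dimension equal to dim
f⁻¹(η). Fibres are taken as subspaces of X and dimensions are topological Krull dimensions. -/
theorem result {X S : Scheme.{u}} (f : X ⟶ S)
    [IsNoetherian S] [IrreducibleSpace S] [IrreducibleSpace X] [IsDominant f]
    [LocallyOfFiniteType f] [QuasiCompact f] :
    ∃ U : S.Opens, genericPoint S ∈ U ∧ ∀ s ∈ U, ∀ T ∈ irreducibleComponents ↥(⇑f ⁻¹' {s}),
      topologicalKrullDim ↥T = topologicalKrullDim ↥(⇑f ⁻¹' {genericPoint S}) := by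
  haveI : IsLocallyNoetherian X := LocallyOfFiniteType.isLocallyNoetherian f
  let d := OpenDim.trd f (genericPoint X)
  have hlow : ∀ x : X, (d : WithBot ℕ∞) ≤ FlatMor.fibreDimAt f x := by
    intro x
    by_contra hlt
    obtain ⟨n, hn⟩ := CMFlatLib.exists_nat_fibreDimAt f x
    rw [hn] at hlt
    have hlt' : n < d := by
      by_contra h
      exact hlt (by exact_mod_cast (not_lt.1 h))
    have hmem : genericPoint X ∈ {w : X | FlatMor.fibreDimAt f w ≤ (n : WithBot ℕ∞)} :=
      (genericPoint_specializes x).mem_open (FibreDepth.isOpen_fibreDimAt_le f _) hn.le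
    obtain ⟨ζ, hfζ, -, hmax, hdim⟩ := OpenDim.exists_maxInFibre_fibreDimAt f (genericPoint X)
    have hζ := max_of_generic f (hfζ.trans (isGeneric_image f)) hmax
    have h1 : FlatMor.fibreDimAt f (genericPoint X) = (d : WithBot ℕ∞) := by rw [hdim, hζ]
    rw [Set.mem_ofPred_eq, h1] at hmem
    have : d ≤ n := by exact_mod_cast hmem
    omega
  let E : Set X := {x | FlatMor.fibreDimAt f x ≤ (d : WithBot ℕ∞)}ᶜ
  haveI : LocallyOfFinitePresentation f := by
    rw [HasRingHomProperty.iff_appLE (P := @LocallyOfFinitePresentation)]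
    intro W V e
    haveI : IsNoetherianRing ↥Γ(S, W) := IsLocallyNoetherian.component_noetherian W
    exact RingHom.FinitePresentation.of_finiteType.1
      (HasRingHomProperty.appLE (P := @LocallyOfFiniteType) f ‹_› W V e)
  have hE : IsLocallyConstructible E := fun v =>
    let ⟨U, h1, h2, h3⟩ := OpenDim.isLocallyConstructible_of_isOpen (FibreDepth.isOpen_fibreDimAt_le f (d : WithBot ℕ∞)) v
    ⟨U, h1, h2, h3.compl⟩
  have himg : IsLocallyConstructible (⇑f '' E)ᶜ := fun v =>
    let ⟨U, h1, h2, h3⟩ := f.isLocallyConstructible_image hE v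
    ⟨U, h1, h2, h3.compl⟩
  have hnhd := OpenDim.mem_nhds_of_generizations himg (genericPoint S) fun z hz => by
    have : z = genericPoint S := (hz.antisymm (genericPoint_specializes z)).eq
    rw [this]
    rintro ⟨x, hxE, hx⟩
    refine hxE ?_
    obtain ⟨ζ, hfζ, -, hmax, hdim⟩ := OpenDim.exists_maxInFibre_fibreDimAt f x
    have hζ := max_of_generic f (hfζ.trans hx) hmax
    show FlatMor.fibreDimAt f x ≤ _
    rw [hdim, hζ]
  obtain ⟨U, hU, hUo, hηU⟩ := mem_nhds_iff.1 hnhd
  refine ⟨⟨U, hUo⟩, hηU, fun s hs T hT => ?_⟩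
  have hgen : topologicalKrullDim ↥(⇑f ⁻¹' {genericPoint S}) = (d : WithBot ℕ∞) := by
    have h := OpenDim.dim_generic_fibre f (ξ := genericPoint X)
    rw [(genericPoint_spec X).def, Set.univ_inter, isGeneric_image f] at h
    exact h
  rw [hgen]
  let e := f.fiberHomeo s
  have hZ : e ⁻¹' T ∈ irreducibleComponents ↥(f.fiber s) :=
    preimage_mem_irreducibleComponents hT e.isOpenEmbedding ⟨_, (hT.1.nonempty.choose_spec), e.surjective _⟩
  obtain ⟨ω, hfω, hmax, hdim⟩ := OpenDim.exists_maxInFibre_of_component f hZ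
  have he : topologicalKrullDim ↥(e ⁻¹' T) = topologicalKrullDim ↥T :=
    IsHomeomorph.topologicalKrullDim_eq _ (e.sets (t := T) rfl).isHomeomorph
  rw [← he, hdim]
  have h1 := hlow ω
  rw [OpenDim.fibreDimAt_eq_trd f hmax] at h1
  have h2 : FlatMor.fibreDimAt f ω ≤ (d : WithBot ℕ∞) := by
    by_contra hc
    exact hU hs ⟨ω, hc, hfω⟩
  rw [OpenDim.fibreDimAt_eq_trd f hmax] at h2
  exact le_antisymm h2 h1

end Groth.Agent.S4781
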