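import Groth.Statements.S4786
import Groth.Agent.ProConsLib.Scheme
import Groth.Agent.DomLib.ProConsClosure
import Groth.Agent.S4764
import Groth.Agent.S4784

set_option autoImplicit false
universe u
open CategoryTheory AlgebraicGeometry
open Lim8

namespace Groth.Agent.S4786

/-- Let S = lim S_i be a cofiltered limit of schemes whose transition maps are affine and flat, let
S_{i₁} be a quasi-compact stage, and let Z' and Z'' be pro-constructible subsets of S_{i₁} such that
the closure of Z' is constructible. Then the preimage of Z'' in S is contained in the closure of the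
preimage of Z' in S if and only if there is an index j over i₁ such that the preimage of Z'' in S_j
is contained in the closure of the preimage of Z' in S_j. -/
theorem result {I : Type u} [SmallCategory I] [IsCofiltered I]
    (D : I ⥤ Scheme.{u}) (c : Limits.Cone D) (hc : Limits.IsLimit c)
    [∀ (i j : I) (f : i ⟶ j), IsAffineHom (D.map f)] (i₁ : I) [CompactSpace (D.obj i₁)]
    (hfl : ∀ (i j : I) (φ : i ⟶ j), Flat (D.map φ))
    (Z' Z'' : Set (D.obj i₁)) (hZ' : ProCons.IsProConstructible Z') (hZ'' : ProCons.IsProConstructible Z'')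
    (hcl : Topology.IsConstructible (closure Z')) :
    (⇑(c.π.app i₁) ⁻¹' Z'' : Set c.pt) ⊆ closure (⇑(c.π.app i₁) ⁻¹' Z' : Set c.pt) ↔
      ∃ (j : I) (φ : j ⟶ i₁), ⇑(D.map φ) ⁻¹' Z'' ⊆ closure (⇑(D.map φ) ⁻¹' Z') := by
  haveI : Flat (c.π.app i₁) := Groth.Agent.S4764.result D c hc i₁ (fun j φ => hfl j i₁ φ)
  have hgen : ∀ {A B : Scheme.{u}} (f : A ⟶ B) [Flat f] {E : Set B}, ProCons.IsProConstructible E →
      ⇑f ⁻¹' closure E = closure (⇑f ⁻¹' E) := by
    intro A B f _ E hE
    refine Set.Subset.antisymm ?_ (f.continuous.closure_preimage_subset E)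
    intro x hx
    obtain ⟨z, hz, hzx⟩ := Groth.Agent.DomLib.exists_specializes_of_mem_closure hE hx
    obtain ⟨x', hx'x, rfl⟩ := Flat.generalizingMap f hzx
    exact hx'x.mem_closed isClosed_closure (subset_closure hz)
  rw [← hgen (c.π.app i₁) hZ']
  constructor
  · intro h
    have hBc : ProCons.IsProConstructible (closure Z')ᶜ :=
      ((Groth.Agent.ProConsLib.isLocallyConstructible_iff_pro_and_ind _).1
        hcl.compl.isLocallyConstructible).1
    let F : Option (Σ j : I, j ⟶ i₁) → Set (D.obj i₁) := fun o =>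
      o.elim (Z'' ∩ (closure Z')ᶜ) (fun p => Set.range ⇑(D.map p.2))
    have hF : ∀ o, ProCons.IsProConstructible (F o) := by
      rintro (_ | ⟨j, φ⟩)
      · rw [Groth.Agent.ProConsLib.isProConstructible_iff]
        intro U hU
        exact @IsClosed.inter _ _ _ (_) (Groth.Agent.ProConsLib.isClosed_trace hZ'' hU)
          (Groth.Agent.ProConsLib.isClosed_trace hBc hU)
      · show ProCons.IsProConstructible (Set.range ⇑(D.map φ))
        rw [← Set.image_univ]
        refine Groth.Agent.ProConsLib.isProConstructible_image (D.map φ) ?_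
        rw [Groth.Agent.ProConsLib.isProConstructible_iff]
        intro U hU
        simp
    obtain ⟨J, hJ⟩ := Groth.Agent.ProConsLib.exists_finset_iInter_eq_empty F hF (by
      refine Set.eq_empty_iff_forall_notMem.2 fun y hy => ?_
      rw [Set.mem_iInter] at hy
      obtain ⟨s, rfl⟩ : y ∈ Set.range ⇑(c.π.app i₁) := by
        rw [Groth.Agent.S4784.result D c hc i₁]
        exact Set.mem_iInter₂.2 fun j φ => hy (some ⟨j, φ⟩)
      exact (hy none).2 (h (hy none).1))
    classical
    obtain ⟨j, φ, hφ⟩ : ∃ (j : I) (φ : j ⟶ i₁), ∀ p : Σ j : I, j ⟶ i₁, some p ∈ J →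
        Set.range ⇑(D.map φ) ⊆ Set.range ⇑(D.map p.2) := by
      clear hJ
      induction J using Finset.induction_on with
      | empty => exact ⟨i₁, 𝟙 _, fun p hp => absurd hp (Finset.notMem_empty _)⟩
      | insert a J _ ih =>
        obtain ⟨j, φ, hφ⟩ := ih
        rcases a with _ | ⟨k, ψ⟩
        · exact ⟨j, φ, fun p hp => hφ p (by simpa using hp)⟩
        · obtain ⟨l, α, β, hαβ⟩ := IsCofiltered.cospan φ ψ
          refine ⟨l, α ≫ φ, fun p hp => ?_⟩
          rw [Finset.mem_insert] at hp
          rintro _ ⟨z, rfl⟩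
          rcases hp with hp | hp
          · obtain rfl := Option.some.inj hp
            exact ⟨D.map β z, by
              rw [← Scheme.Hom.comp_apply, ← D.map_comp, hαβ]⟩
          · refine hφ p hp ⟨D.map α z, ?_⟩
            rw [← Scheme.Hom.comp_apply, ← D.map_comp]
    haveI : Flat (D.map φ) := hfl j i₁ φ
    refine ⟨j, φ, ?_⟩
    rw [← hgen (D.map φ) hZ']
    intro x hx
    by_contra hx'
    refine Set.eq_empty_iff_forall_notMem.1 hJ (D.map φ x) (Set.mem_iInter₂.2 ?_)
    rintro (_ | p) hp
    · exact ⟨hx, hx'⟩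
    · exact hφ p hp ⟨x, rfl⟩
  · rintro ⟨j, φ, hj⟩ x hx
    haveI : Flat (D.map φ) := hfl j i₁ φ
    rw [← hgen (D.map φ) hZ'] at hj
    have e : c.π.app i₁ x = D.map φ (c.π.app j x) := by
      rw [← Scheme.Hom.comp_apply, c.w]
    simp only [Set.mem_preimage] at hx ⊢
    rw [e] at hx ⊢
    exact hj hx

end Groth.Agent.S4786
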