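import Groth.Statements.S4787
import Mathlib
import Groth.Agent.AffLim.Points
import Groth.Agent.SpectralLib.Limit
import Groth.Agent.ProConsLib.Scheme

set_option autoImplicit false
set_option linter.style.haveILetI false
universe u
open CategoryTheory AlgebraicGeometry
open Lim8

namespace Groth.Agent.S4787

/-- Let S = lim S_i be a cofiltered limit of schemes with affine transition maps, some stage S_{i₀}
being quasi-compact. For every index let E_i be a pro-constructible and F_i an ind-constructible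
subset of S_i such that, for every transition map S_i ⟶ S_j, E_i lies in the preimage of E_j and F_i
contains the preimage of F_j. Put E = ⋂ (preimage of E_i in S) and F = ⋃ (preimage of F_i in S).
Then E ⊆ F if and only if there is an index i over i₀ such that E_j ⊆ F_j for every j over i. -/
theorem result {I : Type u} [SmallCategory I] [IsCofiltered I]
    (D : I ⥤ Scheme.{u}) (c : Limits.Cone D) (hc : Limits.IsLimit c)
    [∀ (i j : I) (f : i ⟶ j), IsAffineHom (D.map f)] (i₀ : I)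
    [CompactSpace (D.obj i₀)] (E F : ∀ i : I, Set (D.obj i))
    (hE : ∀ i, ProCons.IsProConstructible (E i)) (hF : ∀ i, ProCons.IsIndConstructible (F i))
    (hEm : ∀ (i j : I) (φ : i ⟶ j), E i ⊆ ⇑(D.map φ) ⁻¹' E j)
    (hFm : ∀ (i j : I) (φ : i ⟶ j), ⇑(D.map φ) ⁻¹' F j ⊆ F i) :
    (⋂ i, ⇑(c.π.app i) ⁻¹' E i : Set c.pt) ⊆ (⋃ i, ⇑(c.π.app i) ⁻¹' F i : Set c.pt) ↔
      ∃ (i : I) (_ : i ⟶ i₀), ∀ (j : I) (_ : j ⟶ i), E j ⊆ F j := by
  classical
  haveI hA : ∀ {i j : I} (f : i ⟶ j), IsAffineHom (D.map f) := fun f => inferInstance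
  constructor
  swap
  · rintro ⟨i, -, hi⟩ x hx
    exact Set.mem_iUnion.mpr ⟨i, hi i (𝟙 i) (Set.mem_iInter.mp hx i)⟩
  intro hsub
  by_contra! H
  let Z : ∀ j : I, Set (D.obj j) := fun j => E j \ F j
  have hZm : ∀ {j k : I} (φ : j ⟶ k) (z), z ∈ Z j → D.map φ z ∈ Z k := fun φ z hz =>
    ⟨hEm _ _ φ hz.1, fun h => hz.2 (hFm _ _ φ h)⟩
  have hne : ∀ k : Over i₀, (Z k.left).Nonempty := by
    intro k
    obtain ⟨j, φ, hj⟩ := H k.left k.hom
    obtain ⟨z, hzE, hzF⟩ := Set.not_subset.mp hj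
    exact ⟨_, hZm φ z ⟨hzE, hzF⟩⟩
  have hV : ∃ V : (D.obj i₀).affineOpens,
      ∀ k : Over i₀, ∃ z ∈ Z k.left, D.map k.hom z ∈ (V : (D.obj i₀).Opens) := by
    by_contra! hn
    choose k hk using hn
    obtain ⟨s, hs⟩ := isCompact_univ.elim_finite_subcover
      (fun V : (D.obj i₀).affineOpens => ((V : (D.obj i₀).Opens) : Set (D.obj i₀)))
      (fun V => (V : (D.obj i₀).Opens).2)
      (fun x _ => by
        obtain ⟨U, hU, hxU, -⟩ := exists_isAffineOpen_mem_and_subset (TopologicalSpace.Opens.mem_top x)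
        exact Set.mem_iUnion.mpr ⟨⟨U, hU⟩, hxU⟩)
    obtain ⟨S, hS⟩ := IsCofiltered.inf_objs_exists (s.image k)
    obtain ⟨z, hz⟩ := hne S
    obtain ⟨V, hVs, hzV⟩ := Set.mem_iUnion₂.mp (hs (Set.mem_univ (D.map S.hom z)))
    let ψ : S ⟶ k V := (hS (Finset.mem_image_of_mem k hVs)).some
    refine hk V _ (hZm ψ.left z hz) ?_
    rw [← Scheme.Hom.comp_apply, ← D.map_comp, Over.w ψ]
    exact hzV
  obtain ⟨⟨V, hV⟩, hVne⟩ := hV
  haveI : IsAffine V.toScheme := hV
  let B := AffLim.baseChange D i₀ V.ι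
  let bc := AffLim.baseChangeCone D c i₀ V.ι
  have hbc : Limits.IsLimit bc := (AffLim.nonempty_isLimit_baseChangeCone D c hc i₀ V.ι).some
  haveI : ∀ j : Over i₀, IsAffine (B.obj j) := fun j => by
    haveI haf : IsAffineHom (Limits.pullback.fst V.ι (D.map j.hom)) :=
      MorphismProperty.pullback_fst (P := @IsAffineHom) V.ι (D.map j.hom) (hA j.hom)
    exact @isAffine_of_isAffineHom _ _ (Limits.pullback.fst V.ι (D.map j.hom)) haf _
  haveI : ∀ {j k : Over i₀} (f : j ⟶ k), IsAffineHom (B.map f) := fun f => inferInstance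
  have htop := (AffLim.nonempty_isLimit_forgetToTop B bc hbc).some
  let p : ∀ j : Over i₀, B.obj j ⟶ D.obj j.left := fun j => Limits.pullback.snd _ _
  have hZcl : ∀ j : Over i₀, @IsClosed (B.obj j) (constructibleTopology (B.obj j)) (p j ⁻¹' Z j.left) := by
    intro j
    have h1 := (ProConsLib.isProConstructible_iff_isClosed _).mp
      (ProConsLib.isProConstructible_preimage (p j) (hE j.left))
    have h2 := (ProConsLib.isProConstructible_iff_isClosed _).mp
      (ProConsLib.isProConstructible_preimage (p j) (ProConsLib.isIndConstructible_iff_compl.mp (hF j.left)))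
    letI := constructibleTopology (B.obj j)
    exact h1.inter h2
  have hfin : ∀ (O : Finset (Over i₀)) (S : Over i₀) (T : ∀ {X : Over i₀}, X ∈ O → (S ⟶ X)), Over.mk (𝟙 i₀) ∈ O →
      ∃ z : (B ⋙ Scheme.forgetToTop).obj S, ∀ (X : Over i₀) (hX : X ∈ O), (B ⋙ Scheme.forgetToTop).map (T hX) z ∈ p X ⁻¹' Z X.left := by
    intro O S T hO
    obtain ⟨z, hz, hzV⟩ := hVne S
    obtain ⟨w, -, hw⟩ := Scheme.Pullback.exists_preimage_pullback (⟨D.map S.hom z, hzV⟩ : V.toScheme) z
      (f := V.ι) (g := D.map S.hom) rfl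
    refine ⟨w, fun X hX => ?_⟩
    show p X (B.map (T hX) w) ∈ Z X.left
    have e : B.map (T hX) ≫ p X = Limits.pullback.snd V.ι (D.map S.hom) ≫ D.map (T hX).left := by
      exact Limits.pullback.lift_snd _ _ _
    rw [← Scheme.Hom.comp_apply, e]
    show D.map (T hX).left (Limits.pullback.snd V.ι (D.map S.hom) w) ∈ _
    rw [hw]
    exact hZm _ z hz
  obtain ⟨x, hx⟩ := SpectralLib.exists_point_of_forall (B ⋙ Scheme.forgetToTop) _ htop
    (fun j => ProConsLib.spectralSpace_scheme (B.obj j))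
    (fun {j k} f => (B.map f).isSpectralMap) (fun j => p j ⁻¹' Z j.left) hZcl (Over.mk (𝟙 i₀)) hfin
  let y : c.pt := Limits.pullback.snd V.ι (c.π.app i₀) x
  have hy : ∀ j : Over i₀, c.π.app j.left y ∈ Z j.left := fun j => by
    have h := hx j
    change p j ((bc.π.app j) x) ∈ Z j.left at h
    have e : bc.π.app j ≫ p j = Limits.pullback.snd V.ι (c.π.app i₀) ≫ c.π.app j.left := by
      exact Limits.pullback.lift_snd _ _ _
    rw [← Scheme.Hom.comp_apply, e] at h
    exact h
  have key : ∀ i : I, c.π.app i y ∈ Z i := by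
    intro i
    have := hZm (IsCofiltered.minToLeft i i₀) _ (hy (Over.mk (IsCofiltered.minToRight i i₀)))
    simp only [Over.mk_left, ← Scheme.Hom.comp_apply, c.w] at this
    exact this
  obtain ⟨i, hi⟩ := Set.mem_iUnion.mp (hsub (Set.mem_iInter.mpr fun i => (key i).1))
  exact (key i).2 hi


end Groth.Agent.S4787
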