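import Groth.Statements.S4790
import Groth.Agent.LimHom.Descend
import Groth.Agent.ExactConstrLib.LocFree

set_option autoImplicit false
universe u
open CategoryTheory AlgebraicGeometry
open Lim8

namespace Groth.Agent.S4790

/-- Let S = lim S_i be a cofiltered limit of schemes with affine transition maps and S_{i₀} a
quasi-compact quasi-separated stage; let F₀ and G₀ be quasi-coherent O-modules of finite
presentation on S_{i₀}. Then the pullbacks of F₀ and G₀ along S ⟶ S_{i₀} are isomorphic if and only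
if, for some index j over i₀, their pullbacks along S_j ⟶ S_{i₀} are isomorphic. -/
theorem result {I : Type u} [SmallCategory I] [IsCofiltered I]
    (D : I ⥤ Scheme.{u}) (c : Limits.Cone D) (hc : Limits.IsLimit c)
    [∀ (i j : I) (f : i ⟶ j), IsAffineHom (D.map f)] (i₀ : I) [CompactSpace (D.obj i₀)]
    [QuasiSeparatedSpace (D.obj i₀)] (F₀ G₀ : (D.obj i₀).Modules)
    [Coh.IsQCoh F₀] (hF₀fp : CohB1.IsFP F₀)
    [Coh.IsQCoh G₀] (hG₀fp : CohB1.IsFP G₀) :
    Nonempty ((Scheme.Modules.pullback (c.π.app i₀)).obj F₀ ≅ (Scheme.Modules.pullback (c.π.app i₀)).obj G₀) ↔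
      ∃ (j : I) (φ : j ⟶ i₀),
        Nonempty ((Scheme.Modules.pullback (D.map φ)).obj F₀ ≅ (Scheme.Modules.pullback (D.map φ)).obj G₀) := by
  haveI hD : ∀ {i j : I} (f : i ⟶ j), IsAffineHom (D.map f) := fun {i j} f => inferInstance
  constructor
  · rintro ⟨e⟩
    obtain ⟨j, φ, hj, hj'⟩ := LimHom.exists_stage_hom D c hc i₀ (F₀ := F₀) (G₀ := G₀) hF₀fp e.hom
    haveI : CompactSpace (D.obj j) := QuasiCompact.compactSpace_of_compactSpace (D.map φ)
    haveI := PullbackMod.isQCoh_pullback (D.map φ) F₀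
    haveI := PullbackMod.isQCoh_pullback (D.map φ) G₀
    haveI : IsIso (LimHom.ov (LimHom.pr c j) (LimHom.pr_w c φ) hj) := by rw [hj']; exact e.isIso_hom
    have h1 : IsIso ((Scheme.Modules.pullback (c.π.app j)).map hj) := by
      have h := IsIso.of_isIso_comp_left (FpqcQCoh.cmpIso F₀ (LimHom.pr c j) (LimHom.pr_w c φ)).inv
        ((Scheme.Modules.pullback (LimHom.pr c j)).map hj ≫
          (FpqcQCoh.cmpIso G₀ (LimHom.pr c j) (LimHom.pr_w c φ)).hom)
      exact IsIso.of_isIso_comp_right ((Scheme.Modules.pullback (LimHom.pr c j)).map hj)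
        (FpqcQCoh.cmpIso G₀ (LimHom.pr c j) (LimHom.pr_w c φ)).hom
    obtain ⟨k, ψ, hk⟩ := (PullbackMod.isIso_eventually D c hc j hj
      (ExactConstrLib.isFT_of_isFP (PullbackMod.isFP_pullback (D.map φ) F₀ hF₀fp))
      (PullbackMod.isFP_pullback (D.map φ) G₀ hG₀fp)).1 h1
    refine ⟨k, ψ ≫ φ, ⟨(FpqcQCoh.cmpIso F₀ (D.map ψ) (D.map_comp ψ φ).symm).symm ≪≫
      @asIso _ _ _ _ ((Scheme.Modules.pullback (D.map ψ)).map hj) hk ≪≫
      FpqcQCoh.cmpIso G₀ (D.map ψ) (D.map_comp ψ φ).symm⟩⟩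
  · rintro ⟨j, φ, ⟨e⟩⟩
    exact ⟨(FpqcQCoh.cmpIso F₀ (c.π.app j) (c.w φ)).symm ≪≫ (Scheme.Modules.pullback (c.π.app j)).mapIso e ≪≫
      FpqcQCoh.cmpIso G₀ (c.π.app j) (c.w φ)⟩

end Groth.Agent.S4790
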