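import Groth.Statements.S4794
import Groth.Agent.PullbackMod.LimEventually
import Groth.Agent.AffLim.Stalks

set_option autoImplicit false
set_option linter.style.haveILetI false
set_option backward.isDefEq.respectTransparency false
universe u
open CategoryTheory AlgebraicGeometry
open Lim8

namespace Groth.Agent.S4794

/-- Let S = lim S_i be a cofiltered limit of schemes whose transition maps are affine and flat, and
S_{i₀} a quasi-compact stage; let f₀ : F₀ ⟶ G₀ be a homomorphism of quasi-coherent O-modules on
S_{i₀} whose kernel is an O-module of finite type. Then the pullback of f₀ along S ⟶ S_{i₀} is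
injective (a monomorphism of O_S-modules) if and only if, for some index j over i₀, the pullback of
f₀ along S_j ⟶ S_{i₀} is injective. -/
theorem result {I : Type u} [SmallCategory I] [IsCofiltered I]
    (D : I ⥤ Scheme.{u}) (c : Limits.Cone D) (hc : Limits.IsLimit c)
    [∀ (i j : I) (f : i ⟶ j), IsAffineHom (D.map f)] (i₀ : I) [CompactSpace (D.obj i₀)]
    (hfl : ∀ (i j : I) (φ : i ⟶ j), Flat (D.map φ))
    {F₀ G₀ : (D.obj i₀).Modules} [Coh.IsQCoh F₀]
    [Coh.IsQCoh G₀] (f₀ : F₀ ⟶ G₀)
    (hker : CohB1.IsFT (Limits.kernel f₀)) :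
    Mono ((Scheme.Modules.pullback (c.π.app i₀)).map f₀) ↔
      ∃ (j : I) (φ : j ⟶ i₀), Mono ((Scheme.Modules.pullback (D.map φ)).map f₀) := by
  haveI hD : ∀ {i j : I} (f : i ⟶ j), IsAffineHom (D.map f) := fun f => inferInstance
  haveI : Coh.IsQCoh (Limits.kernel f₀) := (QCohLib.isQCoh_image f₀ inferInstance inferInstance).1
  refine ⟨fun h => ?_, fun ⟨j, φ, h⟩ => ?_⟩
  · have h0 : (Scheme.Modules.pullback (c.π.app i₀)).map (Limits.kernel.ι f₀) = 0 := by
      rw [← cancel_mono ((Scheme.Modules.pullback (c.π.app i₀)).map f₀), ← Functor.map_comp,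
        Limits.kernel.condition, Functor.map_zero, Limits.zero_comp]
    obtain ⟨j, φ, h1⟩ := (PullbackMod.zero_eventually D c hc i₀ _ hker).mp h0
    refine ⟨j, φ, ?_⟩
    haveI := hfl j i₀ φ
    let P := Scheme.Modules.pullback (D.map φ)
    haveI : Limits.PreservesColimitsOfSize.{0, 0} P :=
      (Scheme.Modules.pullbackPushforwardAdjunction (D.map φ)).leftAdjoint_preservesColimits
    have hcok := Limits.CokernelCofork.mapIsColimit _
      (Limits.cokernelIsCokernel (Limits.kernel.ι f₀)) P
    haveI : IsIso (P.map (Limits.cokernel.π (Limits.kernel.ι f₀))) :=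
      Limits.CokernelCofork.IsColimit.isIso_π _ hcok h1
    haveI : Mono (P.map (Abelian.factorThruCoimage f₀)) :=
      PullbackMod.mono_map_pullback (D.map φ) _
    show Mono (P.map f₀)
    rw [← Abelian.coimage.fac f₀, Functor.map_comp]
    exact mono_comp _ _
  · haveI : Flat (c.π.app j) := AffLim.flat_π D c hc fun k ψ => hfl k j ψ
    obtain ⟨a, b, e⟩ := PullbackMod.exists_map_comp_conj f₀ (D.map φ) (c.π.app j) _ (c.w φ)
    rw [e]
    haveI := PullbackMod.mono_map_pullback (c.π.app j) ((Scheme.Modules.pullback (D.map φ)).map f₀)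
    infer_instance

end Groth.Agent.S4794
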