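import Groth.Statements.S4800
import Groth.Agent.ProConsLib.Scheme
import Groth.Agent.DomLib.ProConsClosure
import Groth.Agent.S4764
import Groth.Agent.S4784

set_option autoImplicit false
universe u
open CategoryTheory AlgebraicGeometry
open Lim8

namespace Groth.Agent.S4800

/-- Let S = lim S_i be a cofiltered limit of schemes whose transition maps are affine and flat, and
S_{i₀} a quasi-compact stage; let X₀ ⟶ S_{i₀} be quasi-compact, Y₀ ⟶ S_{i₀} quasi-compact and
quasi-separated, and f₀ : X₀ ⟶ Y₀ a morphism over S_{i₀} such that the closure of its image f₀(X₀)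
is a constructible subset of Y₀. Let f : X ⟶ Y be the base change of f₀ along S ⟶ S_{i₀} (base
changes are expressed by pullback squares). Then f is dominant if and only if, for some index j over
i₀ and the base change f_j : X_j ⟶ Y_j of f₀ along S_j ⟶ S_{i₀}, f_j is dominant. (The published
statement asks instead that the image f₀(X₀) itself be constructible, which is not enough: let R be
the ring of locally constant functions from the Cantor set to a field, take for stages the spectra
of the rings of locally constant functions on the clopen neighbourhoods of a point p, so that the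
limit is the spectrum of the residue field at p, and take Y₀ = Spec R[t]/(m_p t) and X₀ its basic
open subset where t is invertible; the image of X₀ is constructible, the limit morphism is the
inclusion of the punctured affine line into the affine line, which is dominant, and no stage
morphism is dominant. The published proof applies the criterion for a preimage to lie in the closure
of the preimage of a pro-constructible subset along a flat limit, whose hypothesis is that the
closure of that subset is constructible; the image f₀(X₀) is pro-constructible because f₀ is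
quasi-compact, so constructibility of its closure is the hypothesis taken here.) -/
theorem result {I : Type u} [SmallCategory I] [IsCofiltered I]
    (D : I ⥤ Scheme.{u}) (c : Limits.Cone D) (hc : Limits.IsLimit c)
    [∀ (i j : I) (f : i ⟶ j), IsAffineHom (D.map f)] (i₀ : I) [CompactSpace (D.obj i₀)]
    (hfl : ∀ (i j : I) (φ : i ⟶ j), Flat (D.map φ))
    {X₀ Y₀ : Scheme.{u}} (f₀ : X₀ ⟶ Y₀) (g₀ : Y₀ ⟶ D.obj i₀)
    [QuasiCompact (f₀ ≫ g₀)] [QuasiCompact g₀] [QuasiSeparated g₀]
    (hcl : Topology.IsConstructible (closure (Set.range ⇑f₀)))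
    {X Y : Scheme.{u}} (f : X ⟶ Y) (g : Y ⟶ c.pt) (qY : Y ⟶ Y₀) (qX : X ⟶ X₀)
    (hY : IsPullback qY g g₀ (c.π.app i₀)) (hX : IsPullback qX f f₀ qY) :
    IsDominant f ↔ ∃ (j : I) (φ : j ⟶ i₀) (Xj Yj : Scheme.{u}) (fj : Xj ⟶ Yj) (gj : Yj ⟶ D.obj j)
      (pY : Yj ⟶ Y₀) (pX : Xj ⟶ X₀), IsPullback pY gj g₀ (D.map φ) ∧ IsPullback pX fj f₀ pY ∧
      IsDominant fj := by
  haveI : Flat (c.π.app i₀) := Groth.Agent.S4764.result D c hc i₀ (fun j φ => hfl j i₀ φ)
  haveI : QuasiCompact f₀ := QuasiCompact.of_comp f₀ g₀
  haveI : CompactSpace Y₀ := QuasiCompact.compactSpace_of_compactSpace g₀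
  have hrange : ∀ {P A B Z : Scheme.{u}} {a : P ⟶ A} {b : P ⟶ B} {f : A ⟶ Z} {g : B ⟶ Z},
      IsPullback a b f g → Set.range ⇑a = ⇑f ⁻¹' Set.range ⇑g := by
    intro P A B Z a b f g h
    rw [← Scheme.Pullback.range_fst (f := f) (g := g), ← h.isoPullback_hom_fst, Scheme.Hom.comp_base,
      TopCat.coe_comp, Set.range_comp, Set.range_eq_univ.2 h.isoPullback.hom.surjective, Set.image_univ]
  have hR : ProCons.IsProConstructible (Set.range ⇑f₀) := by
    rw [← Set.image_univ]
    refine Groth.Agent.ProConsLib.isProConstructible_image f₀ ?_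
    rw [Groth.Agent.ProConsLib.isProConstructible_iff]
    intro U hU
    simp
  have hgen : ∀ {A : Scheme.{u}} (q : A ⟶ Y₀) [Flat q],
      ⇑q ⁻¹' closure (Set.range ⇑f₀) = closure (⇑q ⁻¹' Set.range ⇑f₀) := by
    intro A q _
    refine Set.Subset.antisymm ?_ (q.continuous.closure_preimage_subset _)
    intro x hx
    obtain ⟨z, hz, hzx⟩ := Groth.Agent.DomLib.exists_specializes_of_mem_closure hR hx
    obtain ⟨x', hx'x, rfl⟩ := Flat.generalizingMap q hzx
    exact hx'x.mem_closed isClosed_closure (subset_closure hz)
  -- dominance of a base change of `f₀` along a flat map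
  have hdom : ∀ {W A : Scheme.{u}} (h : W ⟶ A) (q : A ⟶ Y₀) (qW : W ⟶ X₀), Flat q → IsPullback qW h f₀ q →
      (IsDominant h ↔ Set.range ⇑q ⊆ closure (Set.range ⇑f₀)) := by
    intro W A h q qW _ hpb
    rw [isDominant_iff, DenseRange, dense_iff_closure_eq, hrange hpb.flip,
      ← hgen q, Set.preimage_eq_univ_iff]
  haveI : Flat qY := MorphismProperty.of_isPullback hY.flip inferInstance
  rw [hdom f qY qX inferInstance hX]
  constructor
  · intro h
    have hBc : ProCons.IsProConstructible (closure (Set.range ⇑f₀))ᶜ :=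
      ((Groth.Agent.ProConsLib.isLocallyConstructible_iff_pro_and_ind _).1
        hcl.compl.isLocallyConstructible).1
    let F : Option (Σ j : I, j ⟶ i₀) → Set Y₀ := fun o =>
      o.elim (closure (Set.range ⇑f₀))ᶜ (fun p => ⇑g₀ ⁻¹' Set.range ⇑(D.map p.2))
    have hF : ∀ o, ProCons.IsProConstructible (F o) := by
      rintro (_ | ⟨j, φ⟩)
      · exact hBc
      · refine Groth.Agent.ProConsLib.isProConstructible_preimage g₀ ?_
        show ProCons.IsProConstructible (Set.range ⇑(D.map φ))
        rw [← Set.image_univ]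
        refine Groth.Agent.ProConsLib.isProConstructible_image (D.map φ) ?_
        rw [Groth.Agent.ProConsLib.isProConstructible_iff]
        intro U hU
        simp
    obtain ⟨J, hJ⟩ := Groth.Agent.ProConsLib.exists_finset_iInter_eq_empty F hF (by
      refine Set.eq_empty_iff_forall_notMem.2 fun y hy => ?_
      rw [Set.mem_iInter] at hy
      refine hy none (h ?_)
      rw [hrange hY, Groth.Agent.S4784.result D c hc i₀]
      exact Set.mem_iInter₂.2 fun j φ => hy (some ⟨j, φ⟩))
    classical
    obtain ⟨j, φ, hφ⟩ : ∃ (j : I) (φ : j ⟶ i₀), ∀ p : Σ j : I, j ⟶ i₀, some p ∈ J →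
        Set.range ⇑(D.map φ) ⊆ Set.range ⇑(D.map p.2) := by
      clear hJ
      induction J using Finset.induction_on with
      | empty => exact ⟨i₀, 𝟙 _, fun p hp => absurd hp (Finset.notMem_empty _)⟩
      | insert a J _ ih =>
        obtain ⟨j, φ, hφ⟩ := ih
        rcases a with _ | ⟨k, ψ⟩
        · exact ⟨j, φ, fun p hp => hφ p (by simpa using hp)⟩
        · obtain ⟨l, α, β, hαβ⟩ := IsCofiltered.cospan φ ψ
          refine ⟨l, α ≫ φ, fun p hp => ?_⟩
          rw [Finset.mem_insert] at hp
          rintro _ ⟨z, rfl⟩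
          rcases hp with hp | hp
          · obtain rfl := Option.some.inj hp
            exact ⟨D.map β z, by
              rw [← Scheme.Hom.comp_apply, ← D.map_comp, hαβ]⟩
          · refine hφ p hp ⟨D.map α z, ?_⟩
            rw [← Scheme.Hom.comp_apply, ← D.map_comp]
    haveI : Flat (D.map φ) := hfl j i₀ φ
    have hYj := IsPullback.of_hasPullback g₀ (D.map φ)
    have hXj := IsPullback.of_hasPullback f₀ (Limits.pullback.fst g₀ (D.map φ))
    refine ⟨j, φ, _, _, _, _, _, _, hYj, hXj, ?_⟩
    rw [hdom _ _ _ inferInstance hXj]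
    intro y hy
    rw [hrange hYj] at hy
    by_contra hy'
    refine Set.eq_empty_iff_forall_notMem.1 hJ y (Set.mem_iInter₂.2 ?_)
    rintro (_ | p) hp
    · exact hy'
    · exact hφ p hp hy
  · rintro ⟨j, φ, Xj, Yj, fj, gj, pY, pX, hYj, hXj, hd⟩ y hy
    haveI : Flat (D.map φ) := hfl j i₀ φ
    haveI : Flat pY := MorphismProperty.of_isPullback hYj.flip inferInstance
    refine (hdom fj pY pX inferInstance hXj).1 hd ?_
    rw [hrange hY] at hy
    rw [hrange hYj]
    obtain ⟨s, hs⟩ := hy
    exact ⟨c.π.app j s, by rw [← Scheme.Hom.comp_apply, c.w, hs]⟩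

end Groth.Agent.S4800
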