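import Groth.Statements.S4810
import Groth.Agent.BirNormal.Basic
import Groth.Agent.NormalSch.Basic
import Groth.Agent.IntImage.Spread

set_option autoImplicit false
universe u
set_option backward.isDefEq.respectTransparency false
open CategoryTheory CategoryTheory.Limits AlgebraicGeometry
open Lim8

namespace Groth.Agent.S4810

/-- Let Y be an integral scheme, X an integral normal scheme (every local ring integrally closed) and f
: X ⟶ Y a dominant locally quasi-finite morphism (locally of finite type with discrete fibres). Let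
Y' be the relative normalization of Y in X (here the normalization of Y in the function field of X)
and f' : X ⟶ Y' the canonical morphism, so that f is f' followed by the canonical morphism Y' ⟶ Y.
Then f' is a local isomorphism, and f' is an open immersion if and only if f is separated. (The
published statement assumes f only locally quasi-finite; this row takes f moreover quasi-compact and
quasi-separated, the setting in which the relative normalization is built chart by chart from
integral closures.) -/
theorem result {X Y : Scheme.{u}} [IsIntegral X] [IsIntegral Y]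
    (hN : ∀ x : X, IsIntegrallyClosed (X.presheaf.stalk x)) (f : X ⟶ Y) [IsDominant f]
    [LocallyQuasiFinite f] [LocallyOfFiniteType f] [QuasiCompact f] [QuasiSeparated f] :
    IsLocalIso f.toNormalization ∧ (IsOpenImmersion f.toNormalization ↔ IsSeparated f) := by
  classical
  have hX : Pi1.IsNormalScheme X := fun x => ⟨inferInstance, hN x⟩
  let t := f.toNormalization
  haveI : LocallyOfFiniteType t := by
    haveI : LocallyOfFiniteType (t ≫ f.fromNormalization) := by rw [f.toNormalization_fromNormalization]; infer_instance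
    exact locallyOfFiniteType_of_comp t f.fromNormalization
  haveI : LocallyQuasiFinite t := by
    haveI : LocallyQuasiFinite (t ≫ f.fromNormalization) := by rw [f.toNormalization_fromNormalization]; infer_instance
    exact LocallyQuasiFinite.of_comp t f.fromNormalization
  -- the normalisation is normal
  have hNN : ∀ n : f.normalization, IsIntegrallyClosed (f.normalization.presheaf.stalk n) := fun n => by
    obtain ⟨_, ⟨U, hU, rfl⟩, hnU, -⟩ :=
      Y.isBasis_affineOpens.exists_subset_of_mem_open (Set.mem_univ (f.fromNormalization n)) isOpen_univ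
    have hV : IsAffineOpen (f.fromNormalization ⁻¹ᵁ U) := hU.preimage _
    haveI hneV : Nonempty (f.fromNormalization ⁻¹ᵁ U) := ⟨⟨n, hnU⟩⟩
    obtain ⟨x, hx⟩ := t.denseRange.exists_mem_open (f.fromNormalization ⁻¹ᵁ U).2 ⟨n, hnU⟩
    haveI : Nonempty (f ⁻¹ᵁ U) := ⟨⟨x, by
      show f x ∈ U
      rw [← f.toNormalization_fromNormalization]
      exact hx⟩⟩
    haveI : IsIntegrallyClosed Γ(X, f ⁻¹ᵁ U) := Groth.Agent.NormalSch.isIntegrallyClosed_section hX _
    letI := (f.app U).hom.toAlgebra
    haveI : IsIntegrallyClosed (integralClosure Γ(Y, U) Γ(X, f ⁻¹ᵁ U)) :=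
      IsIntegrallyClosed.of_isIntegrallyClosed_of_isIntegrallyClosedIn _ Γ(X, f ⁻¹ᵁ U)
    haveI : IsIntegrallyClosed Γ(f.normalization, f.fromNormalization ⁻¹ᵁ U) :=
      IsIntegrallyClosed.of_equiv (f.normalizationObjIso hU).commRingCatIsoToRingEquiv.symm
    letI := f.normalization.presheaf.algebra_section_stalk (⟨n, hnU⟩ : f.fromNormalization ⁻¹ᵁ U)
    haveI := hV.isLocalization_stalk ⟨n, hnU⟩
    haveI : IsDomain Γ(f.normalization, f.fromNormalization ⁻¹ᵁ U) := IsIntegral.component_integral _
    exact isIntegrallyClosed_of_isLocalization _ (hV.primeIdealOf ⟨n, hnU⟩).asIdeal.primeCompl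
      (Ideal.primeCompl_le_nonZeroDivisors _)
  have hgen : t (genericPoint X) = genericPoint f.normalization :=
    IsGenericPoint.eq ((genericPoint_spec X).image t.continuous)
      (by rw [Set.image_univ, t.denseRange.closure_range]; exact genericPoint_spec f.normalization)
  -- the generic point has a neighbourhood on which `f` is affine
  have hfgen : f (genericPoint X) = genericPoint Y :=
    IsGenericPoint.eq ((genericPoint_spec X).image f.continuous)
      (by rw [Set.image_univ, f.denseRange.closure_range]; exact genericPoint_spec Y)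
  obtain ⟨_, ⟨W : Y.Opens, hW, rfl⟩, hηW, -⟩ :=
    Y.isBasis_affineOpens.exists_subset_of_mem_open (Set.mem_univ (genericPoint Y)) isOpen_univ
  haveI : IsAffine W := hW
  obtain ⟨_, ⟨U : X.Opens, hU, rfl⟩, hηU, hUW⟩ := X.isBasis_affineOpens.exists_subset_of_mem_open
    (show genericPoint X ∈ f ⁻¹ᵁ W by show f _ ∈ W; rw [hfgen]; exact hηW) (f ⁻¹ᵁ W).2
  haveI : CompactSpace (f ⁻¹ᵁ W : X.Opens) :=
    isCompact_iff_compactSpace.1 (f.isCompact_preimage hW.isCompact)
  obtain ⟨g, hgη, hle⟩ := Groth.Agent.IntImage.exists_basicOpen_le (f ∣_ W) ⟨genericPoint Y, hηW⟩ ⊤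
    ((f ⁻¹ᵁ W).ι ⁻¹ᵁ U) isCompact_univ fun z _ hz => by
      have h1 : f z.1 = genericPoint Y := by
        have h2 := hz.map W.ι.continuous
        rw [← Scheme.Hom.comp_apply, morphismRestrict_ι] at h2
        exact ((Specializes.antisymm h2 ((genericPoint_spec Y).specializes trivial))).eq
      show z.1 ∈ U
      by_contra hn
      refine hn ?_
      have hd := f.isDiscrete_preimage_singleton (genericPoint Y)
      haveI := hd.1
      have h3 : (⟨genericPoint X, hfgen⟩ : f ⁻¹' {genericPoint Y}) ⤳ ⟨z.1, h1⟩ :=
        (subtype_specializes_iff _ _).2 ((genericPoint_spec X).specializes trivial)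
      rw [specializes_iff_eq] at h3
      exact congrArg Subtype.val h3 ▸ hηU
  let V : Y.Opens := W.ι ''ᵁ (W : Scheme.{u}).basicOpen g
  have hV : IsAffineOpen V := ((isAffineOpen_top _).basicOpen g).image_of_isOpenImmersion W.ι
  have hfV : IsAffineOpen (f ⁻¹ᵁ V) := by
    have h1 : f ⁻¹ᵁ V = (f ⁻¹ᵁ W).ι ''ᵁ ((f ∣_ W) ⁻¹ᵁ (W : Scheme.{u}).basicOpen g) :=
      (image_morphismRestrict_preimage f W _).symm
    have h2 : (f ∣_ W) ⁻¹ᵁ (W : Scheme.{u}).basicOpen g =
        (((f ⁻¹ᵁ W).ι ⁻¹ᵁ U) : (f ⁻¹ᵁ W).toScheme.Opens) ⊓ (f ⁻¹ᵁ W).toScheme.basicOpen ((f ∣_ W).appTop g) := by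
      rw [Scheme.preimage_basicOpen]
      exact (inf_eq_right.2 ((le_inf le_top le_rfl).trans (Scheme.preimage_basicOpen (f ∣_ W) g ▸ hle))).symm
    rw [h1, h2]
    refine IsAffineOpen.image_of_isOpenImmersion ?_ _
    have hU' : IsAffineOpen ((f ⁻¹ᵁ W).ι ⁻¹ᵁ U) := hU.preimage_of_isOpenImmersion _ (by rw [Scheme.Opens.opensRange_ι]; exact hUW)
    rw [← Scheme.basicOpen_res _ _ (homOfLE le_top).op]
    exact hU'.basicOpen _
  -- so `t` is an open immersion near the generic point
  let a := pullback.snd f V.ι
  haveI : IsAffine V := hV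
  haveI : IsAffine (pullback f V.ι) := by
    haveI : IsAffine (f ⁻¹ᵁ V : X.Opens) := hfV
    exact IsAffine.of_isIso (pullbackRestrictIsoRestrict f V).hom
  haveI : IsAffineHom a := isAffineHom_of_isAffine a
  haveI : LocallyQuasiFinite a := MorphismProperty.pullback_snd f V.ι inferInstance
  haveI : IsOpenImmersion (a.toNormalization ≫ f.normalizationPullback V.ι ≫ pullback.fst _ _) := inferInstance
  have hcomp : IsOpenImmersion (pullback.fst f V.ι ≫ t) := by
    rw [← Scheme.Hom.toNormalization_normalizationPullback_fst]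
    infer_instance
  haveI := hcomp
  obtain ⟨p, hp⟩ : genericPoint X ∈ Set.range (pullback.fst f V.ι) := by
    rw [Scheme.Pullback.range_fst, Scheme.Opens.range_ι]
    show f _ ∈ V
    rw [hfgen]
    exact ⟨⟨_, hηW⟩, hgη, rfl⟩
  have hbir : IsIso (t.stalkMap (genericPoint X)) := by
    rw [← hp]
    haveI : IsIso ((pullback.fst f V.ι ≫ t).stalkMap p) := inferInstance
    rw [Scheme.Hom.stalkMap_comp] at this
    exact IsIso.of_isIso_comp_right _ ((pullback.fst f V.ι).stalkMap p)
  haveI hl : IsLocalIso t := ⟨fun x =>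
    Groth.Agent.BirNormal.exists_isOpenImmersion hNN t hgen hbir x (t.quasiFiniteAt x)⟩
  refine ⟨hl, fun h => ?_, fun h => inferInstance⟩
  haveI : IsSeparated (t ≫ f.fromNormalization) := inferInstance
  rwa [f.toNormalization_fromNormalization] at this

end Groth.Agent.S4810
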