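import Groth.Statements.S4815
import Mathlib
import Groth.Agent.FPModelLib.Model2
import Groth.Agent.AffLim.DescendBaseChange

set_option backward.isDefEq.respectTransparency false
set_option backward.defeqAttrib.useBackward true
set_option autoImplicit false
universe u
open CategoryTheory AlgebraicGeometry
open Lim8

namespace Groth.Agent.S4815

/-- Let S = lim S_i be a cofiltered limit of schemes with affine transition maps and S_{i₀} a
quasi-compact quasi-separated stage. Then every subscheme of finite presentation of S, that is every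
immersion ι : Z ⟶ S which is locally of finite presentation and quasi-compact, is the base change
along S ⟶ S_j of an immersion of finite presentation Z_j ⟶ S_j, for some index j over i₀ (the base
change is expressed by a pullback square). -/
theorem result {I : Type u} [SmallCategory I] [IsCofiltered I]
    (D : I ⥤ Scheme.{u}) (c : Limits.Cone D) (hc : Limits.IsLimit c)
    [∀ (i j : I) (f : i ⟶ j), IsAffineHom (D.map f)] (i₀ : I)
    [CompactSpace (D.obj i₀)] [QuasiSeparatedSpace (D.obj i₀)]
    {Z : Scheme.{u}} (ι : Z ⟶ c.pt) [IsImmersion ι] [LocallyOfFinitePresentation ι] [QuasiCompact ι] :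
    ∃ (j : I) (_ : j ⟶ i₀) (Zj : Scheme.{u}) (ιj : Zj ⟶ D.obj j) (q : Z ⟶ Zj),
      IsImmersion ιj ∧ LocallyOfFinitePresentation ιj ∧ QuasiCompact ιj ∧ IsPullback q ι ιj (c.π.app j) := by
  let D' := Over.forget i₀ ⋙ D
  let c' := c.whisker (Over.forget i₀)
  have hc' : Limits.IsLimit c' := (Functor.Initial.isLimitWhiskerEquiv (Over.forget i₀) c).symm hc
  haveI : ∀ a : Over i₀, CompactSpace (D'.obj a) := fun a =>
    QuasiCompact.compactSpace_of_compactSpace (D.map a.hom)
  haveI : ∀ a : Over i₀, QuasiSeparatedSpace (D'.obj a) := fun a =>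
    quasiSeparatedSpace_of_quasiSeparated (D.map a.hom)
  haveI hD' : ∀ {a b : Over i₀} (φ : a ⟶ b), IsAffineHom (D'.map φ) := fun φ => inferInstanceAs (IsAffineHom (D.map φ.left))
  haveI : CompactSpace c'.pt := Scheme.compactSpace_of_isLimit D' c' hc'
  haveI : CompactSpace c.pt := ‹CompactSpace c'.pt›
  haveI : QuasiSeparatedSpace c'.pt := by
    haveI : IsAffineHom (c.π.app i₀) := isAffineHom_π_app D c hc _
    exact quasiSeparatedSpace_of_quasiSeparated (c.π.app i₀)
  haveI : QuasiSeparatedSpace c.pt := ‹QuasiSeparatedSpace c'.pt›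
  haveI : CompactSpace Z := QuasiCompact.compactSpace_of_compactSpace ι
  haveI : QuasiSeparatedSpace Z := quasiSeparatedSpace_of_quasiSeparated ι
  obtain ⟨i, G, g, q, h⟩ := Groth.Agent.FPModelLib.Gen.exists_model D' c' hc' ι
  haveI := h.compact
  haveI := h.qs
  haveI := h.lfp
  have hY : IsPullback (c'.π.app i) (𝟙 c'.pt) (𝟙 (D'.obj i)) (c'.π.app i) := IsPullback.id_vert _
  obtain ⟨k, hk⟩ := Groth.Agent.AffLim.exists_isImmersion_baseChange D' c' hc' i g (𝟙 (D'.obj i))
    (qX := q) (qY := c'.π.app i) (g := 𝟙 c'.pt) hY h.isPullback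
  let gk := Limits.pullback.snd (g ≫ 𝟙 (D'.obj i)) (D'.map k.hom)
  haveI : IsImmersion gk := by
    have : gk = (Groth.Agent.AffLim.baseChangeMap D' i g (𝟙 (D'.obj i))).app k ≫
        Limits.pullback.snd (𝟙 (D'.obj i)) (D'.map k.hom) := by
      simp [gk, Groth.Agent.AffLim.baseChangeMap]
    rw [this]
    exact MorphismProperty.comp_mem (W := @IsImmersion) _ _ hk inferInstance
  haveI : LocallyOfFinitePresentation gk :=
    MorphismProperty.pullback_snd (P := @LocallyOfFinitePresentation) _ _ (by rw [Category.comp_id]; exact h.lfp)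
  haveI : QuasiCompact gk :=
    MorphismProperty.pullback_snd (P := @QuasiCompact) _ _ (quasiCompact_of_compactSpace _)
  let r : Z ⟶ Limits.pullback (g ≫ 𝟙 (D'.obj i)) (D'.map k.hom) :=
    Limits.pullback.lift q (ι ≫ c'.π.app k.left) (by
      rw [Category.assoc, c'.w, Category.comp_id]; exact h.isPullback.w)
  refine ⟨k.left.left, k.left.hom, _, gk, r, inferInstance, inferInstance, inferInstance, ?_⟩
  refine IsPullback.of_right ?_ (Limits.pullback.lift_snd _ _ _) (IsPullback.of_hasPullback _ _)
  rw [Limits.pullback.lift_fst]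
  have hw : c'.π.app k.left ≫ D'.map k.hom = c'.π.app i := c'.w k.hom
  have e : IsPullback q ι (g ≫ 𝟙 (D'.obj i)) (c'.π.app k.left ≫ D'.map k.hom) := by
    rw [hw, Category.comp_id]
    exact h.isPullback
  exact e

end Groth.Agent.S4815
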