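import Groth.Statements.S4816
import Mathlib
import Groth.Agent.AffLim.DescendMore

set_option backward.isDefEq.respectTransparency false
set_option backward.defeqAttrib.useBackward true
set_option autoImplicit false
universe u
open CategoryTheory AlgebraicGeometry
open Lim8

namespace Groth.Agent.S4816

theorem factors_iff_isIso {S Z₁ Z₂ T : Scheme.{u}} (ι₁ : Z₁ ⟶ S) (ι₂ : Z₂ ⟶ S) [Mono ι₂] (t : T ⟶ Z₁) :
    (∃ k : T ⟶ Z₂, k ≫ ι₂ = t ≫ ι₁) ↔
      IsIso (Limits.pullback.snd (Limits.pullback.fst ι₁ ι₂) t) := by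
  constructor
  · rintro ⟨k, hk⟩
    let s : T ⟶ Limits.pullback (Limits.pullback.fst ι₁ ι₂) t :=
      Limits.pullback.lift (Limits.pullback.lift t k hk.symm) (𝟙 T) (by simp)
    have hs : s ≫ Limits.pullback.snd (Limits.pullback.fst ι₁ ι₂) t = 𝟙 T := Limits.pullback.lift_snd _ _ _
    exact ⟨s, by rw [← cancel_mono (Limits.pullback.snd (Limits.pullback.fst ι₁ ι₂) t), Category.assoc, hs,
      Category.comp_id, Category.id_comp], hs⟩
  · intro h
    refine ⟨inv (Limits.pullback.snd (Limits.pullback.fst ι₁ ι₂) t) ≫ Limits.pullback.fst _ _ ≫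
      Limits.pullback.snd ι₁ ι₂, ?_⟩
    rw [Category.assoc, Category.assoc, ← Limits.pullback.condition, Limits.pullback.condition_assoc,
      IsIso.inv_hom_id_assoc]

theorem factors_pullback_iff {S S' Z₁ Z₂ : Scheme.{u}} (ι₁ : Z₁ ⟶ S) (ι₂ : Z₂ ⟶ S) (π : S' ⟶ S) :
    (∃ k : Limits.pullback ι₁ π ⟶ Limits.pullback ι₂ π,
        k ≫ Limits.pullback.snd ι₂ π = Limits.pullback.snd ι₁ π) ↔
      ∃ k : Limits.pullback ι₁ π ⟶ Z₂, k ≫ ι₂ = Limits.pullback.fst ι₁ π ≫ ι₁ := by
  constructor
  · rintro ⟨k, hk⟩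
    exact ⟨k ≫ Limits.pullback.fst ι₂ π, by
      rw [Category.assoc, Limits.pullback.condition, reassoc_of% hk, Limits.pullback.condition]⟩
  · rintro ⟨k, hk⟩
    exact ⟨Limits.pullback.lift k (Limits.pullback.snd ι₁ π) (by rw [hk, Limits.pullback.condition]),
      Limits.pullback.lift_snd _ _ _⟩


open CategoryTheory.Limits in
/-- Let S = lim S_i be a cofiltered limit of schemes with affine transition maps and S_{i₀} a
quasi-compact stage; let ι₁ : Z₁ ⟶ S_{i₀} and ι₂ : Z₂ ⟶ S_{i₀} be two subschemes of finite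
presentation of S_{i₀} (immersions which are locally of finite presentation and quasi-compact), with
base changes Z₁ ×_{S_{i₀}} T ⟶ T to T = S and to T = S_j. Then Z₁ ×_{S_{i₀}} S is a subscheme of Z₂
×_{S_{i₀}} S (its immersion into S factors through that of Z₂ ×_{S_{i₀}} S) if and only if, for some
index j over i₀, Z₁ ×_{S_{i₀}} S_j is a subscheme of Z₂ ×_{S_{i₀}} S_j. -/
theorem result {I : Type u} [SmallCategory I] [IsCofiltered I]
    (D : I ⥤ Scheme.{u}) (c : Limits.Cone D) (hc : Limits.IsLimit c)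
    [∀ (i j : I) (f : i ⟶ j), IsAffineHom (D.map f)] (i₀ : I) [CompactSpace (D.obj i₀)]
    {Z₁ Z₂ : Scheme.{u}} (ι₁ : Z₁ ⟶ D.obj i₀) (ι₂ : Z₂ ⟶ D.obj i₀)
    [IsImmersion ι₁] [LocallyOfFinitePresentation ι₁] [QuasiCompact ι₁]
    [IsImmersion ι₂] [LocallyOfFinitePresentation ι₂] [QuasiCompact ι₂] :
    (∃ k : pullback ι₁ (c.π.app i₀) ⟶ pullback ι₂ (c.π.app i₀),
        k ≫ pullback.snd ι₂ (c.π.app i₀) = pullback.snd ι₁ (c.π.app i₀)) ↔
      ∃ (j : I) (φ : j ⟶ i₀) (k : pullback ι₁ (D.map φ) ⟶ pullback ι₂ (D.map φ)),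
        k ≫ pullback.snd ι₂ (D.map φ) = pullback.snd ι₁ (D.map φ) := by
  simp only [factors_pullback_iff, factors_iff_isIso]
  constructor
  · intro h
    let f₀ := Limits.pullback.fst ι₁ ι₂
    haveI : IsImmersion f₀ := MorphismProperty.pullback_fst (P := @IsImmersion) ι₁ ι₂ inferInstance
    haveI : LocallyOfFinitePresentation f₀ :=
      MorphismProperty.pullback_fst (P := @LocallyOfFinitePresentation) ι₁ ι₂ inferInstance
    haveI : QuasiCompact f₀ := MorphismProperty.pullback_fst (P := @QuasiCompact) ι₁ ι₂ inferInstance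
    haveI : CompactSpace Z₁ := QuasiCompact.compactSpace_of_compactSpace ι₁
    let E := Groth.Agent.AffLim.baseChange D i₀ ι₁
    let cE := Groth.Agent.AffLim.baseChangeCone D c i₀ ι₁
    obtain ⟨hcE⟩ := Groth.Agent.AffLim.nonempty_isLimit_baseChangeCone D c hc i₀ ι₁
    haveI hE : ∀ k : Over i₀, CompactSpace (E.obj k) := fun k => by
      haveI : IsAffineHom (Limits.pullback.fst ι₁ (D.map k.hom)) :=
        MorphismProperty.pullback_fst (P := @IsAffineHom) _ _ inferInstance
      exact QuasiCompact.compactSpace_of_compactSpace (Limits.pullback.fst ι₁ (D.map k.hom))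
    let o : Over i₀ := Over.mk (𝟙 i₀)
    let e : E.obj o ⟶ Z₁ := Limits.pullback.fst ι₁ (D.map o.hom)
    let ι := Limits.pullback.snd f₀ e
    haveI : IsImmersion ι := MorphismProperty.pullback_snd (P := @IsImmersion) f₀ e inferInstance
    haveI : LocallyOfFinitePresentation ι :=
      MorphismProperty.pullback_snd (P := @LocallyOfFinitePresentation) f₀ e inferInstance
    haveI : QuasiCompact ι := MorphismProperty.pullback_snd (P := @QuasiCompact) f₀ e inferInstance
    have hlim : IsIso (Limits.pullback.snd ι (cE.π.app o)) := by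
      have h1 : cE.π.app o ≫ e = Limits.pullback.fst ι₁ (c.π.app i₀) := by simp [cE, e, o]
      have h2 := (Limits.pullbackLeftPullbackSndIso f₀ e (cE.π.app o))
      haveI : IsIso (Limits.pullback.snd f₀ (cE.π.app o ≫ e)) := by rw [h1]; exact h
      rw [show Limits.pullback.snd ι (cE.π.app o) = (Limits.pullbackLeftPullbackSndIso f₀ e (cE.π.app o)).hom ≫
        Limits.pullback.snd f₀ (cE.π.app o ≫ e) from
          (Limits.pullbackLeftPullbackSndIso_hom_snd f₀ e (cE.π.app o)).symm]
      infer_instance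
    obtain ⟨j, φ, hj⟩ := (Groth.Agent.AffLim.isOpenImmersion_pullback_snd_iff E cE hcE ι).1 inferInstance
    let R : (E.obj j).Opens := (Limits.pullback.snd ι (E.map φ)).opensRange
    obtain ⟨l, ψ, hl⟩ := exists_map_preimage_le_map_preimage E cE hcE (i := j)
      (U := ⊤) (V := R) (by simpa using isCompact_univ) (by
        intro x _
        show cE.π.app j x ∈ Set.range (Limits.pullback.snd ι (E.map φ))
        rw [Scheme.Pullback.range_snd]
        show E.map φ (cE.π.app j x) ∈ Set.range ι
        rw [← Scheme.Hom.comp_apply, cE.w]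
        have : x ∈ Set.range (Limits.pullback.snd ι (cE.π.app o)) :=
          (Limits.pullback.snd ι (cE.π.app o)).surjective x
        rw [Scheme.Pullback.range_snd] at this
        exact this)
    refine ⟨l.left, l.hom, ?_⟩
    let m := Limits.pullback.snd ι (E.map (ψ ≫ φ))
    haveI : IsIso m := by
      haveI : IsOpenImmersion m := by
        let r : Limits.pullback ι (E.map (ψ ≫ φ)) ⟶ Limits.pullback ι (E.map φ) :=
          Limits.pullback.lift (Limits.pullback.fst _ _) (m ≫ E.map ψ) (by
            rw [Category.assoc, ← E.map_comp]; exact Limits.pullback.condition)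
        have : IsPullback r m (Limits.pullback.snd ι (E.map φ)) (E.map ψ) := by
          refine IsPullback.of_right ?_ (Limits.pullback.lift_snd _ _ _) (IsPullback.of_hasPullback ι (E.map φ))
          rw [Limits.pullback.lift_fst, ← E.map_comp]
          exact IsPullback.of_hasPullback _ _
        exact MorphismProperty.of_isPullback (P := @IsOpenImmersion) this hj
      haveI : Surjective m := ⟨fun y => by
        have h1 : E.map ψ y ∈ R := hl (show y ∈ E.map ψ ⁻¹ᵁ (⊤ : (E.obj j).Opens) from trivial)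
        have h2 : E.map ψ y ∈ Set.range (Limits.pullback.snd ι (E.map φ)) := h1
        rw [Scheme.Pullback.range_snd] at h2
        have h3 : y ∈ Set.range m := by
          rw [Scheme.Pullback.range_snd, E.map_comp]
          show (E.map ψ ≫ E.map φ) y ∈ Set.range ι
          rw [Scheme.Hom.comp_apply]
          exact h2
        exact h3⟩
      haveI : Epi m.base := (TopCat.epi_iff_surjective _).2 m.surjective
      exact IsOpenImmersion.isIso m
    have h1 : E.map (ψ ≫ φ) ≫ e = Limits.pullback.fst ι₁ (D.map l.hom) := by simp [E, e, o]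
    rw [← h1]
    rw [show Limits.pullback.snd f₀ (E.map (ψ ≫ φ) ≫ e) =
      (Limits.pullbackLeftPullbackSndIso f₀ e (E.map (ψ ≫ φ))).inv ≫ m from
        (Limits.pullbackLeftPullbackSndIso_inv_snd_snd f₀ e (E.map (ψ ≫ φ))).symm]
    infer_instance
  · rintro ⟨j, φ, h⟩
    obtain ⟨k, hk⟩ := (factors_iff_isIso ι₁ ι₂ _).2 h
    rw [← factors_iff_isIso ι₁ ι₂]
    refine ⟨Limits.pullback.lift (Limits.pullback.fst ι₁ (c.π.app i₀))
      (Limits.pullback.snd ι₁ (c.π.app i₀) ≫ c.π.app j) (by rw [Category.assoc, c.w, Limits.pullback.condition]) ≫ k, ?_⟩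
    rw [Category.assoc, hk, Limits.pullback.lift_fst_assoc]

end Groth.Agent.S4816
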