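import Groth.Statements.S4821
import Mathlib
import Mathlib.RingTheory.MvPolynomial.Localization
import Mathlib.RingTheory.Finiteness.Basic
import Mathlib.RingTheory.LocalRing.ResidueField.Ideal

set_option autoImplicit false
universe u
open Cons9

namespace Groth.Agent.S4821

/-- Let A be an integral domain with fraction field K, and (P_i) a finite family of polynomials in
A[T_1, …, T_m], generating an ideal 𝔞; for a point s of Spec A write 𝔞_s for the ideal of κ(s)[T_1,
…, T_m] generated by the images of the P_i. If the zero locus of 𝔞_η in affine m-space over K = κ(η)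
is empty, that is if 𝔞_η is the unit ideal, then there is an open neighbourhood D(f) (f ≠ 0) of the
generic point such that 𝔞_s is the unit ideal (its zero locus is empty) for every s in D(f). -/
theorem result {A : Type u} [CommRing A] [IsDomain A] {m : ℕ}
    (P : Finset (MvPolynomial (Fin m) A))
    (hη : Ideal.span ((MvPolynomial.map (algebraMap A (FractionRing A))) '' (P : Set (MvPolynomial (Fin m) A))) = ⊤) :
    ∃ f : A, f ≠ 0 ∧ ∀ p : PrimeSpectrum A, f ∉ p.asIdeal →
      Ideal.span ((MvPolynomial.map (algebraMap A p.asIdeal.ResidueField)) '' (P : Set (MvPolynomial (Fin m) A))) = ⊤ := by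
  classical
  have h1 : (1 : MvPolynomial (Fin m) (FractionRing A)) ∈ Ideal.span
      ((MvPolynomial.map (algebraMap A (FractionRing A))) '' (P : Set (MvPolynomial (Fin m) A))) := by
    rw [hη]; trivial
  rw [Set.image_eq_range] at h1
  obtain ⟨c, hc⟩ := (Submodule.mem_span_range_iff_exists_fun _).mp h1
  -- lift the coefficients
  let ι := Σ x : (P : Set (MvPolynomial (Fin m) A)),
    {d // d ∈ (c x).support}
  obtain ⟨b, hb⟩ := IsLocalization.exist_integer_multiples_of_finite (nonZeroDivisors A)
    (fun i : ι => (c i.1).coeff i.2.1)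
  have hlift : ∀ x, ∃ g : MvPolynomial (Fin m) A,
      MvPolynomial.map (algebraMap A (FractionRing A)) g = (b : A) • c x := fun x => by
    have : ∀ d, ∃ a : A, algebraMap A (FractionRing A) a = (b : A) • (c x).coeff d := fun d => by
      by_cases hd : d ∈ (c x).support
      · exact hb ⟨x, ⟨d, hd⟩⟩
      · exact ⟨0, by rw [MvPolynomial.notMem_support_iff.mp hd, map_zero, smul_zero]⟩
    choose a ha using this
    refine ⟨∑ d ∈ (c x).support, MvPolynomial.monomial d (a d), ?_⟩
    rw [map_sum]
    conv_rhs => rw [(c x).as_sum, Finset.smul_sum]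
    exact Finset.sum_congr rfl fun d _ => by rw [MvPolynomial.map_monomial, ha, MvPolynomial.smul_monomial]
  choose g hg using hlift
  refine ⟨b, nonZeroDivisors.ne_zero b.2, fun p hp => ?_⟩
  have key : MvPolynomial.C (b : A) ∈ Ideal.span (P : Set (MvPolynomial (Fin m) A)) := by
    have e : MvPolynomial.C (b : A) = ∑ x : (P : Set (MvPolynomial (Fin m) A)), g x * x.1 := by
      apply MvPolynomial.map_injective _ (IsFractionRing.injective A (FractionRing A))
      rw [map_sum, MvPolynomial.map_C]
      simp only [map_mul, hg, smul_mul_assoc]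
      rw [← Finset.smul_sum]
      simp only [smul_eq_mul] at hc
      simp only [hc, Algebra.smul_def, mul_one]
      rfl
    rw [e]
    exact Ideal.sum_mem _ fun x _ => Ideal.mul_mem_left _ _ (Ideal.subset_span x.2)
  refine Ideal.eq_top_of_isUnit_mem _ ?_
    (IsUnit.map MvPolynomial.C (IsUnit.mk0 (algebraMap A p.asIdeal.ResidueField b)
      fun h => hp (Ideal.algebraMap_residueField_eq_zero.mp h)))
  rw [← Ideal.map_span, ← MvPolynomial.map_C]
  exact Ideal.mem_map_of_mem _ key

end Groth.Agent.S4821
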