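import Groth.Statements.S4846
import Groth.Agent.LimHom.RelGen
import Groth.Agent.S9223
import Groth.Agent.AmpleLib.RelLocal

set_option backward.isDefEq.respectTransparency false
set_option linter.style.haveILetI false

set_option autoImplicit false
universe u
open CategoryTheory AlgebraicGeometry
open Lim8

namespace Groth.Agent.S4846

open CategoryTheory.Limits TopologicalSpace Groth.Agent.AmpleLib

/-- Ampleness on the inverse image of an open, computed on the base change of that open. -/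
theorem ample_iff {X₀ S S' X' : Scheme.{u}} (U₀ : X₀.Opens) (h₀ : X₀ ⟶ S) (ψ : S' ⟶ S)
    (p : X' ⟶ X₀) (q : X' ⟶ S') (hp : IsPullback p q h₀ ψ) (L₀ : X₀.Modules) :
    CohB1.IsAmple ((Scheme.Modules.pullback (pullback.fst (U₀.ι ≫ h₀) ψ)).obj
        ((Scheme.Modules.pullback U₀.ι).obj L₀)) ↔
      CohB1.IsAmple (((Scheme.Modules.pullback p).obj L₀).restrict (p ⁻¹ᵁ U₀).ι) := by
  let P := pullback (U₀.ι ≫ h₀) ψ
  let j : P ⟶ X' := hp.lift (pullback.fst (U₀.ι ≫ h₀) ψ ≫ U₀.ι) (pullback.snd (U₀.ι ≫ h₀) ψ)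
    ((Category.assoc _ _ _).trans pullback.condition)
  have hj : IsPullback (pullback.fst (U₀.ι ≫ h₀) ψ) j U₀.ι p := by
    refine IsPullback.of_bot ?_ (hp.lift_fst _ _ _).symm hp
    rw [hp.lift_snd]
    exact IsPullback.of_hasPullback _ _
  let e := hj.isoIsPullback _ _ (isPullback_morphismRestrict p U₀)
  have he₁ : e.hom ≫ (p ∣_ U₀) = pullback.fst (U₀.ι ≫ h₀) ψ := hj.isoIsPullback_hom_fst _ _ _
  have he₂ : e.hom ≫ (p ⁻¹ᵁ U₀).ι = j := hj.isoIsPullback_hom_snd _ _ _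
  let a : (Scheme.Modules.pullback e.hom).obj (((Scheme.Modules.pullback p).obj L₀).restrict (p ⁻¹ᵁ U₀).ι) ≅
      (Scheme.Modules.pullback (pullback.fst (U₀.ι ≫ h₀) ψ)).obj ((Scheme.Modules.pullback U₀.ι).obj L₀) :=
    (Scheme.Modules.pullback e.hom).mapIso (restrictIso _ _) ≪≫
      FpqcQCoh.cmpIso ((Scheme.Modules.pullback p).obj L₀) e.hom he₂ ≪≫
      FpqcQCoh.cmpIso L₀ j (hj.w.symm) ≪≫
      (FpqcQCoh.cmpIso L₀ (pullback.fst (U₀.ι ≫ h₀) ψ) rfl).symm
  refine ⟨fun h => ?_, fun h => isAmple_of_iso a (isAmple_pullback e.hom h)⟩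
  have h2 := isAmple_pullback e.inv (isAmple_of_iso a.symm h)
  exact isAmple_of_iso (FpqcQCoh.cmpIso _ e.inv e.inv_hom_id ≪≫ (Scheme.Modules.pullbackId _).app _) h2

/-- Let S = lim S_i be a cofiltered limit of schemes with affine transition maps and S_{i₀} a
quasi-compact stage; let X₀ and Y₀ be schemes of finite presentation over S_{i₀}, f₀ : X₀ ⟶ Y₀ an
S_{i₀}-morphism and L₀ an invertible O_{X₀}-module. Let f : X ⟶ Y be the base change of f₀ along S ⟶
S_{i₀} and L the pullback of L₀ to X (base changes are expressed by pullback squares). Then L is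
ample relative to f if and only if, for some index j over i₀, the pullback L_j of L₀ to X_j is ample
relative to the base change f_j : X_j ⟶ Y_j of f₀ along S_j ⟶ S_{i₀}. This is the case of relative
ampleness (the very ample case is not stated here). -/
theorem result {I : Type u} [SmallCategory I] [IsCofiltered I]
    (D : I ⥤ Scheme.{u}) (c : Limits.Cone D) (hc : Limits.IsLimit c)
    [∀ (i j : I) (f : i ⟶ j), IsAffineHom (D.map f)] (i₀ : I) [CompactSpace (D.obj i₀)]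
    {X₀ Y₀ : Scheme.{u}} (f₀ : X₀ ⟶ Y₀) (g₀ : Y₀ ⟶ D.obj i₀)
    [LocallyOfFinitePresentation g₀] [QuasiCompact g₀] [QuasiSeparated g₀]
    [LocallyOfFinitePresentation (f₀ ≫ g₀)] [QuasiCompact (f₀ ≫ g₀)] [QuasiSeparated (f₀ ≫ g₀)]
    (L₀ : X₀.Modules) (hL₀ : PicF.IsInvertible L₀)
    {X Y : Scheme.{u}} (f : X ⟶ Y) (g : Y ⟶ c.pt) (qY : Y ⟶ Y₀) (qX : X ⟶ X₀)
    (hY : IsPullback qY g g₀ (c.π.app i₀)) (hX : IsPullback qX f f₀ qY) :
    RelAmple.IsRelAmple f ((Scheme.Modules.pullback qX).obj L₀) ↔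
      ∃ (j : I) (φ : j ⟶ i₀) (Xj Yj : Scheme.{u}) (fj : Xj ⟶ Yj) (gj : Yj ⟶ D.obj j) (pY : Yj ⟶ Y₀)
        (pX : Xj ⟶ X₀), IsPullback pY gj g₀ (D.map φ) ∧ IsPullback pX fj f₀ pY ∧
          RelAmple.IsRelAmple fj ((Scheme.Modules.pullback pX).obj L₀) := by
  classical
  haveI hD : ∀ {i j : I} (f : i ⟶ j), IsAffineHom (D.map f) := fun {i j} f => inferInstance
  haveI : CompactSpace Y₀ := QuasiCompact.compactSpace_of_compactSpace g₀
  haveI : IsAffineHom (c.π.app i₀) := isAffineHom_π_app D c hc i₀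
  haveI : QuasiCompact f₀ := QuasiCompact.of_comp f₀ g₀
  haveI : QuasiSeparated f₀ := QuasiSeparated.of_comp f₀ g₀
  haveI hqY : IsAffineHom qY := MorphismProperty.of_isPullback hY.flip ‹IsAffineHom (c.π.app i₀)›
  constructor
  · intro h
    have hst : ∀ W : Y₀.affineOpens, ∃ k : Over i₀, ∀ (l : Over i₀) (_ : l ⟶ k),
        CohB1.IsAmple (((Scheme.Modules.pullback (pullback.fst (f₀ ≫ g₀) (D.map l.hom))).obj L₀).restrict
          (pullback.fst (f₀ ≫ g₀) (D.map l.hom) ⁻¹ᵁ (f₀ ⁻¹ᵁ W.1)).ι) := by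
      intro W
      let U₀ := f₀ ⁻¹ᵁ W.1
      let g := U₀.ι ≫ f₀ ≫ g₀
      haveI : CompactSpace U₀ := isCompact_iff_compactSpace.mp (f₀.isCompact_preimage W.2.isCompact)
      haveI : QuasiSeparatedSpace U₀ := (isQuasiSeparated_iff_quasiSeparatedSpace _ U₀.2).mp
        (f₀.isQuasiSeparated_preimage W.2.isQuasiSeparated)
      haveI : ∀ a : Over i₀, QuasiSeparatedSpace ((AffLim.baseChange D i₀ g).obj a) :=
        LimHom.qs_baseChange D i₀ g
      obtain ⟨hcW⟩ := AffLim.nonempty_isLimit_baseChangeCone D c hc i₀ g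
      let L₁ := (Scheme.Modules.pullback U₀.ι).obj L₀
      let q : (AffLim.baseChange D i₀ g).obj (Over.mk (𝟙 i₀)) ⟶ (U₀ : Scheme.{u}) := pullback.fst g (D.map (𝟙 i₀))
      have hlim : CohB1.IsAmple ((Scheme.Modules.pullback (pullback.fst g (c.π.app i₀))).obj L₁) := by
        rw [ample_iff U₀ (f₀ ≫ g₀) (c.π.app i₀) qX (f ≫ _) (hX.paste_vert hY) L₀]
        have hV : IsAffineOpen (qY ⁻¹ᵁ W.1) := W.2.preimage qY
        rw [← Scheme.Hom.comp_preimage, hX.w, Scheme.Hom.comp_preimage]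
        exact h.2 ⟨qY ⁻¹ᵁ W.1, hV⟩
      obtain ⟨k, φ, hk⟩ := Groth.Agent.S9223.result (AffLim.baseChange D i₀ g) _ hcW (Over.mk (𝟙 i₀))
        ((Scheme.Modules.pullback q).obj L₁) (isInvertible_pullback q (isInvertible_pullback _ hL₀))
        (isAmple_of_iso (FpqcQCoh.cmpIso L₁ _ ((pullback.lift_fst _ _ _).trans (Category.comp_id _))).symm hlim)
      refine ⟨k, fun l a => (ample_iff U₀ (f₀ ≫ g₀) (D.map l.hom) _ _ (IsPullback.of_hasPullback _ _) L₀).mp ?_⟩
      have hk' : CohB1.IsAmple ((Scheme.Modules.pullback (pullback.fst g (D.map k.hom))).obj L₁) :=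
        isAmple_of_iso (FpqcQCoh.cmpIso L₁ _ ((pullback.lift_fst _ _ _).trans (Category.comp_id _))) hk
      exact isAmple_of_iso (FpqcQCoh.cmpIso L₁ ((AffLim.baseChange D i₀ g).map a)
        ((pullback.lift_fst _ _ _).trans (Category.comp_id _))) (isAmple_pullback _ hk')
    choose k hk using hst
    obtain ⟨T, hT⟩ := isCompact_univ.elim_finite_subcover (fun W : Y₀.affineOpens => ((W : Y₀.Opens) : Set Y₀))
      (fun W => W.1.isOpen) fun y _ => by
        obtain ⟨_, ⟨W, hW, rfl⟩, hy, -⟩ :=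
          Y₀.isBasis_affineOpens.exists_subset_of_mem_open (Set.mem_univ y) isOpen_univ
        exact Set.mem_iUnion.mpr ⟨⟨W, hW⟩, hy⟩
    obtain ⟨l, hl⟩ := IsCofiltered.inf_objs_exists (T.image k)
    let fj := (AffLim.baseChangeMap D i₀ f₀ g₀).app l
    let pY := pullback.fst g₀ (D.map l.hom)
    let pX := pullback.fst (f₀ ≫ g₀) (D.map l.hom)
    have hsq : IsPullback pX fj f₀ pY := AffLim.isPullback_baseChangeMap D i₀ f₀ g₀ l
    refine ⟨l.left, l.hom, _, _, fj, pullback.snd g₀ (D.map l.hom), pY, pX, IsPullback.of_hasPullback _ _, hsq, ?_⟩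
    haveI : QuasiCompact fj := MorphismProperty.of_isPullback hsq ‹QuasiCompact f₀›
    haveI : IsAffineHom pY := MorphismProperty.pullback_fst (P := @IsAffineHom) g₀ (D.map l.hom) inferInstance
    refine isRelAmple_of_locally fun y => ?_
    obtain ⟨W, hW, hy⟩ := Set.mem_iUnion₂.mp (hT (Set.mem_univ (pY y)))
    refine ⟨pY ⁻¹ᵁ W.1, W.2.preimage pY, hy, ?_⟩
    have := hk W l (hl (Finset.mem_image_of_mem k hW)).some
    rw [← Scheme.Hom.comp_preimage, hsq.w, Scheme.Hom.comp_preimage] at this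
    exact this
  · rintro ⟨j, φ, Xj, Yj, fj, gj, pY, pX, hYj, hXj, h⟩
    let s : Y ⟶ Yj := hYj.lift qY (g ≫ c.π.app j) (by rw [hY.w, Category.assoc, c.w])
    have hs : s ≫ pY = qY := hYj.lift_fst _ _ _
    let t : X ⟶ Xj := hXj.lift qX (f ≫ s) (by rw [hX.w, Category.assoc, hs])
    have ht : IsPullback t f fj s := by
      refine IsPullback.of_right ?_ (hXj.lift_snd _ _ _) hXj
      rw [hXj.lift_fst, hs]
      exact hX
    haveI := h.1
    have h1 := isRelAmple_baseChange fj s h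
    let e := ht.isoPullback
    have hqa : Mor2.IsQuasiAffine e.hom := ⟨inferInstance, fun V hV => by
      haveI : IsAffine (e.hom ⁻¹ᵁ V) := hV.preimage e.hom
      infer_instance⟩
    have h2 := isRelAmple_pullback_quasiAffine e.hom hqa h1
    rw [ht.isoPullback_hom_snd] at h2
    exact (fun u hu => ⟨hu.1, fun V => isAmple_of_iso ((Scheme.Modules.restrictFunctor (f ⁻¹ᵁ V.1).ι).mapIso u) (hu.2 V)⟩) (FpqcQCoh.cmpIso _ e.hom ht.isoPullback_hom_fst ≪≫
      FpqcQCoh.cmpIso L₀ t (hXj.lift_fst _ _ _)) h2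

end Groth.Agent.S4846
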