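import Groth.Statements.S4845
import Groth.Agent.PointStage.Locus
import Groth.Agent.S4846

set_option backward.isDefEq.respectTransparency false
set_option linter.style.haveILetI false

set_option autoImplicit false
open CategoryTheory AlgebraicGeometry
universe u
open Cons9

namespace Groth.Agent.S4845

open CategoryTheory.Limits Groth.Agent.AmpleLib

/-- Relative ampleness is inherited by base changes. -/
theorem relAmple_of_squares {X Y Xj Yj X' Y' : Scheme.{u}} {f : X ⟶ Y} {t : Yj ⟶ Y} {pX : Xj ⟶ X}
    {fj : Xj ⟶ Yj} {t' : Y' ⟶ Y} {pX' : X' ⟶ X} {f' : X' ⟶ Y'} (L : X.Modules) (a : Y' ⟶ Yj)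
    (ha : a ≫ t = t') (hj : IsPullback pX fj f t) (h' : IsPullback pX' f' f t')
    (h : RelAmple.IsRelAmple fj ((Scheme.Modules.pullback pX).obj L)) :
    RelAmple.IsRelAmple f' ((Scheme.Modules.pullback pX').obj L) := by
  let b : X' ⟶ Xj := hj.lift pX' (f' ≫ a) (by rw [h'.w, Category.assoc, ha])
  have hb : IsPullback b f' fj a := by
    refine IsPullback.of_right ?_ (hj.lift_snd _ _ _) hj
    rw [hj.lift_fst, ha]
    exact h'
  haveI := h.1
  have h1 := isRelAmple_baseChange fj a h
  let e := hb.isoPullback
  have hqa : Mor2.IsQuasiAffine e.hom := ⟨inferInstance, fun V hV => by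
    haveI : IsAffine (e.hom ⁻¹ᵁ V) := hV.preimage e.hom
    infer_instance⟩
  have h2 := isRelAmple_pullback_quasiAffine e.hom hqa h1
  rw [hb.isoPullback_hom_snd] at h2
  exact (fun u hu => ⟨hu.1, fun V => isAmple_of_iso ((Scheme.Modules.restrictFunctor (f' ⁻¹ᵁ V.1).ι).mapIso u) (hu.2 V)⟩)
    (FpqcQCoh.cmpIso _ e.hom hb.isoPullback_hom_fst ≪≫ FpqcQCoh.cmpIso L b (hj.lift_fst _ _ _)) h2

/-- Let g : Y ⟶ S and f : X ⟶ Y be such that X and Y are of finite presentation over S (locally of
finite presentation, quasi-compact and quasi-separated), and let L be an invertible O_X-module. For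
each point s of S let f_s : X_s ⟶ Y_s be the morphism induced on the fibres over s and L_s the
pullback of L to X_s. Then the set of s for which L_s is ample relative to f_s is ind-constructible
in S. This is the case of relative ampleness (the very ample case is not stated here). -/
theorem result {X Y S : Scheme.{u}} (f : X ⟶ Y) (g : Y ⟶ S)
    [LocallyOfFinitePresentation g] [QuasiCompact g] [QuasiSeparated g]
    [LocallyOfFinitePresentation (f ≫ g)] [QuasiCompact (f ≫ g)] [QuasiSeparated (f ≫ g)]
    (L : X.Modules) (hL : PicF.IsInvertible L) :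
    ProCons.IsIndConstructible {s : S |
      RelAmple.IsRelAmple
        (pullback.lift (pullback.fst (f ≫ g) (S.fromSpecResidueField s) ≫ f) (pullback.snd (f ≫ g) (S.fromSpecResidueField s))
          ((Category.assoc _ _ _).trans pullback.condition) :
        pullback (f ≫ g) (S.fromSpecResidueField s) ⟶ pullback g (S.fromSpecResidueField s))
        ((Scheme.Modules.pullback (pullback.fst (f ≫ g) (S.fromSpecResidueField s))).obj L)} := by
  haveI : LocallyOfFinitePresentation f := FlatLocus.locallyOfFinitePresentation_of_comp f g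
  haveI : QuasiCompact f := QuasiCompact.of_comp f g
  haveI : QuasiSeparated f := QuasiSeparated.of_comp f g
  let F : ∀ ⦃Y' : Scheme.{u}⦄, (Y' ⟶ Y) → Prop := fun _ t =>
    RelAmple.IsRelAmple (pullback.snd f t) ((Scheme.Modules.pullback (pullback.fst f t)).obj L)
  have key : {s : S | RelAmple.IsRelAmple (FibreMapConstr.fib f g s)
      ((Scheme.Modules.pullback (pullback.fst (f ≫ g) (S.fromSpecResidueField s))).obj L)} =
      {s : S | F (pullback.fst g (S.fromSpecResidueField s))} := by
    ext s
    exact ⟨relAmple_of_squares L (𝟙 _) (Category.id_comp _) (PointStage.isPullback_fib g f s)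
        (IsPullback.of_hasPullback _ _),
      relAmple_of_squares L (𝟙 _) (Category.id_comp _) (IsPullback.of_hasPullback _ _)
        (PointStage.isPullback_fib g f s)⟩
  show ProCons.IsIndConstructible {s : S | RelAmple.IsRelAmple (FibreMapConstr.fib f g s)
      ((Scheme.Modules.pullback (pullback.fst (f ≫ g) (S.fromSpecResidueField s))).obj L)}
  rw [key]
  refine PointStage.isIndConstructible g F
    (fun Y' Y'' a t h => relAmple_of_squares L a rfl (IsPullback.of_hasPullback _ _) (IsPullback.of_hasPullback _ _) h)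
    fun A j _ p _ hw => ?_
  obtain ⟨⟨_, _, _, _, hf₀⟩, ⟨qY, qX, hY, hX, hqX⟩, -⟩ := PointStage.exists_squares g f A j p
  haveI := hf₀
  let i : (PointStage.Idx A p)ᵒᵖ := Opposite.op (Classical.arbitrary _)
  let tY := pullback.fst g (PointStage.str A p i ≫ j)
  let tX := pullback.fst f tY
  let g₀ := pullback.snd g (PointStage.str A p i ≫ j)
  let L₀ := (Scheme.Modules.pullback tX).obj L
  have hw' : RelAmple.IsRelAmple _ ((Scheme.Modules.pullback qX).obj L₀) :=
    (fun u (hu : RelAmple.IsRelAmple _ _) => ⟨hu.1, fun V => isAmple_of_iso ((Scheme.Modules.restrictFunctor _).mapIso u) (hu.2 V)⟩)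
      (FpqcQCoh.cmpIso L qX hqX).symm hw
  haveI : CompactSpace ↥((PointStage.sys A p).obj i) := inferInstance
  obtain ⟨k, φ, Xk, Yk, fk, gk, pY, pX, hYk, hXk, hamp⟩ :=
    (Groth.Agent.S4846.result (PointStage.sys A p) (PointStage.cone A p) (PointStage.isLimitCone A p) i
      (pullback.snd f tY) g₀ L₀ (isInvertible_pullback tX hL) _ _ qY qX hY hX).1 hw'
  have hsqY : IsPullback (pY ≫ tY) gk g (PointStage.str A p k ≫ j) := by
    rw [show PointStage.str A p k ≫ j = (PointStage.sys A p).map φ ≫ PointStage.str A p i ≫ j from by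
      rw [← Category.assoc, PointStage.map_str]]
    exact hYk.paste_horiz (IsPullback.of_hasPullback g _)
  have hsqX : IsPullback (pX ≫ tX) fk f (pY ≫ tY) := hXk.paste_horiz (IsPullback.of_hasPullback f _)
  have hamp' : RelAmple.IsRelAmple fk ((Scheme.Modules.pullback (pX ≫ tX)).obj L) :=
    ⟨hamp.1, fun V => isAmple_of_iso ((Scheme.Modules.restrictFunctor _).mapIso (FpqcQCoh.cmpIso L pX rfl)) (hamp.2 V)⟩
  exact ⟨k, relAmple_of_squares L hsqY.isoPullback.inv hsqY.isoPullback_inv_fst hsqX
    (IsPullback.of_hasPullback _ _) hamp'⟩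

end Groth.Agent.S4845
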