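import Groth.Statements.S4822
import Groth.Agent.AmpleFibLib.Locus
import Groth.Agent.S4845

set_option autoImplicit false
open CategoryTheory AlgebraicGeometry
universe u
open Cons9

namespace Groth.Agent.S4822

open CategoryTheory.Limits in
/-- Let g : Y ⟶ S and f : X ⟶ Y be morphisms such that X and Y are of finite presentation over S
(locally of finite presentation, quasi-compact and quasi-separated) and f is proper, and let L be an
invertible O_X-module. For each point s of S let f_s : X_s ⟶ Y_s be the morphism induced on the
fibres over s and L_s the pullback of L to X_s. Then the set of s for which L_s is ample relative to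
f_s is locally constructible in S. This is the case of relative ampleness (the very ample case is
not stated here). -/
theorem result {X Y S : Scheme.{u}} (f : X ⟶ Y) (g : Y ⟶ S)
    [LocallyOfFinitePresentation g] [QuasiCompact g] [QuasiSeparated g]
    [LocallyOfFinitePresentation (f ≫ g)] [QuasiCompact (f ≫ g)] [QuasiSeparated (f ≫ g)] [IsProper f]
    (L : X.Modules) (hL : PicF.IsInvertible L) :
    Topology.IsLocallyConstructible {s : S |
      RelAmple.IsRelAmple
        (pullback.lift (pullback.fst (f ≫ g) (S.fromSpecResidueField s) ≫ f) (pullback.snd (f ≫ g) (S.fromSpecResidueField s))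
          ((Category.assoc _ _ _).trans pullback.condition) :
          pullback (f ≫ g) (S.fromSpecResidueField s) ⟶ pullback g (S.fromSpecResidueField s))
        ((Scheme.Modules.pullback (pullback.fst (f ≫ g) (S.fromSpecResidueField s))).obj L)} := by
  haveI : LocallyOfFinitePresentation f := Groth.Agent.FlatLocus.locallyOfFinitePresentation_of_comp f g
  have key : {s : S | RelAmple.IsRelAmple (Groth.Agent.FibreMapConstr.fib f g s)
      ((Scheme.Modules.pullback (pullback.fst (f ≫ g) (S.fromSpecResidueField s))).obj L)} =
      (g '' (Groth.Agent.AmpleFibLib.locus f L)ᶜ)ᶜ := by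
    ext s
    have hsq : IsPullback (pullback.fst (f ≫ g) (S.fromSpecResidueField s)) (Groth.Agent.FibreMapConstr.fib f g s) f
        (pullback.fst g (S.fromSpecResidueField s)) := Groth.Agent.PointStage.isPullback_fib g f s
    haveI : IsProper (Groth.Agent.FibreMapConstr.fib f g s) :=
      MorphismProperty.of_isPullback (P := @IsProper) hsq inferInstance
    constructor
    · rintro h ⟨y, hy, hgy⟩
      obtain ⟨w, rfl⟩ : y ∈ Set.range (pullback.fst g (S.fromSpecResidueField s)) := by
        rw [Scheme.Pullback.range_fst, Scheme.range_fromSpecResidueField]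
        exact hgy
      exact hy ((Groth.Agent.AmpleFibLib.mem_locus_of_isPullback hsq hL w).1
        (Groth.Agent.AmpleFibLib.isAmple_fiber_of_isRelAmple _ h w))
    · intro h
      refine Groth.Agent.AmpleFibLib.isRelAmple_of_fibres _ (Groth.Agent.AmpleLib.isInvertible_pullback _ hL) fun w => ?_
      refine (Groth.Agent.AmpleFibLib.mem_locus_of_isPullback hsq hL w).2 (not_not.1 fun hw => h ⟨_, hw, ?_⟩)
      have h2 : (pullback.fst g (S.fromSpecResidueField s)) w ∈ Set.range (pullback.fst g (S.fromSpecResidueField s)) :=
        ⟨w, rfl⟩
      rw [Scheme.Pullback.range_fst, Scheme.range_fromSpecResidueField] at h2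
      exact h2
  show Topology.IsLocallyConstructible {s : S | RelAmple.IsRelAmple (Groth.Agent.FibreMapConstr.fib f g s)
      ((Scheme.Modules.pullback (pullback.fst (f ≫ g) (S.fromSpecResidueField s))).obj L)}
  rw [key]
  intro x
  obtain ⟨U, hxU, hU, h⟩ := g.isLocallyConstructible_image
    (Groth.Agent.AmpleFibLib.isLocallyConstructible_compl_locus f hL) x
  exact ⟨U, hxU, hU, by rw [Set.preimage_compl]; exact h.compl⟩

end Groth.Agent.S4822
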