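import Groth.Statements.S4824
import Mathlib
import Groth.Agent.GeomIrred.Ring
namespace Groth.Agent.S4824Aux
open TensorProduct in
theorem isDomain_iff (k K : Type*) [Field k] [Field K] [Algebra k K] {P Q : Type*} [CommRing P] [Algebra k P]
    [CommRing Q] [Algebra K Q] (p : P) (e : K ⊗[k] P ≃ₐ[K] Q) :
    IsDomain (K ⊗[k] (P ⧸ Ideal.span ({p} : Set P))) ↔ (Ideal.span ({e (1 ⊗ₜ[k] p)} : Set Q)).IsPrime := by
  have e1 := Algebra.TensorProduct.tensorQuotientEquiv (R := k) K P K (Ideal.span ({p} : Set P))
  have e3 := Ideal.quotientEquiv ((Ideal.span ({p} : Set P)).map (Algebra.TensorProduct.includeRight : P →ₐ[k] K ⊗[k] P))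
    (Ideal.span ({e (1 ⊗ₜ[k] p)} : Set Q)) (e : _ ≃+* _) (by
      rw [Ideal.map_span, Set.image_singleton, Ideal.map_span, Set.image_singleton]; rfl)
  rw [← Ideal.Quotient.isDomain_iff_prime]
  exact (e1.toRingEquiv.toMulEquiv.trans e3.toMulEquiv).isDomain_iff
end Groth.Agent.S4824Aux

open CategoryTheory CategoryTheory.Limits AlgebraicGeometry TensorProduct
-- import your own Groth.Agent.* helpers here

set_option autoImplicit false
open CategoryTheory AlgebraicGeometry
universe u
open Cons9

namespace Groth.Agent.S4824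

/-- Let k be a field, Ω an algebraically closed extension of k and F a non-constant polynomial in k[T_1,
…, T_n]. The following are equivalent: (a) the k-scheme Spec(k[T_1, …, T_n]/(F)) is geometrically
integral; (b) for every extension field K of k the image of F in K[T_1, …, T_n] is irreducible; (c)
the image of F in Ω[T_1, …, T_n] is irreducible. (Such an F is called geometrically irreducible.) -/
theorem result {k : Type u} [Field k] (Ω : Type u) [Field Ω] [Algebra k Ω]
    [IsAlgClosed Ω] {n : ℕ} (F : MvPolynomial (Fin n) k) (hF : 0 < F.totalDegree) :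
    List.TFAE [
      GeometricallyIntegral (Spec.map (CommRingCat.ofHom
        (algebraMap k (MvPolynomial (Fin n) k ⧸ Ideal.span ({F} : Set (MvPolynomial (Fin n) k)))))),
      ∀ (K : Type u) [Field K] [Algebra k K], Irreducible (MvPolynomial.map (algebraMap k K) F),
      Irreducible (MvPolynomial.map (algebraMap k Ω) F)] := by
  classical
  have hF0 : F ≠ 0 := by
    rintro rfl
    simp at hF
  have key : ∀ (K : Type u) [Field K] [Algebra k K],
      IsDomain (K ⊗[k] (MvPolynomial (Fin n) k ⧸ Ideal.span ({F} : Set (MvPolynomial (Fin n) k)))) ↔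
        Irreducible (MvPolynomial.map (algebraMap k K) F) := by
    intro K _ _
    have hFK : MvPolynomial.map (algebraMap k K) F ≠ 0 := by
      rw [Ne, ← map_zero (MvPolynomial.map (σ := Fin n) (algebraMap k K))]
      exact fun h => hF0 (MvPolynomial.map_injective _ (algebraMap k K).injective h)
    rw [Groth.Agent.S4824Aux.isDomain_iff k K F (MvPolynomial.algebraTensorAlgEquiv k K),
      show (MvPolynomial.algebraTensorAlgEquiv k K : K ⊗[k] MvPolynomial (Fin n) k ≃ₐ[K] MvPolynomial (Fin n) K) (1 ⊗ₜ[k] F) = MvPolynomial.map (algebraMap k K) F by simp,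
      Ideal.span_singleton_prime hFK, irreducible_iff_prime]
  tfae_have 1 → 2 := by
    intro h K _ _
    rw [← key]
    have h1 := pullback_of_geometrically h.geometrically_isIntegral K
      (Spec.map (CommRingCat.ofHom (algebraMap k K)))
    haveI := h1; have h2 := IsIntegral.of_isIso (pullbackSpecIso k (MvPolynomial (Fin n) k ⧸ Ideal.span ({F} : Set (MvPolynomial (Fin n) k))) K).hom
    haveI := (affine_isIntegral_iff _).mp h2
    exact (Algebra.TensorProduct.comm k K _).toRingEquiv.toMulEquiv.isDomain_iff.mpr ‹_›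
  tfae_have 2 → 3 := fun h => h Ω
  tfae_have 3 → 1 := by
    intro h
    have hΩ := (key Ω).mpr h
    let S := MvPolynomial (Fin n) k ⧸ Ideal.span ({F} : Set (MvPolynomial (Fin n) k))
    let σ : AlgebraicClosure k →ₐ[k] Ω := IsAlgClosed.lift
    have hK : IsDomain (AlgebraicClosure k ⊗[k] S) :=
      Function.Injective.isDomain (Algebra.TensorProduct.map σ (AlgHom.id k S)).toRingHom
        (Module.Flat.rTensor_preserves_injective_linearMap (M := S) σ.toLinearMap σ.toRingHom.injective)
    haveI : ObjectProperty.IsClosedUnderIsomorphisms (fun X : Scheme.{u} => IsIntegral X) :=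
      ⟨fun {X Y} e hX => by haveI := hX; exact (IsIntegral.of_isIso e.hom)⟩
    refine ⟨(geometrically_iff_of_commRing_of_isClosedUnderIsomorphisms (P := (IsIntegral ·))).mpr
      fun K _ _ => ?_⟩
    haveI := Groth.Agent.GeomIrred.isDomain_tensor_of_algebraicClosure hK K
    haveI : IsDomain (S ⊗[k] K) :=
      (Algebra.TensorProduct.comm k S K).toRingEquiv.toMulEquiv.isDomain_iff.mpr ‹_›
    haveI := (affine_isIntegral_iff (CommRingCat.of (S ⊗[k] K))).mpr ‹_›
    exact IsIntegral.of_isIso (pullbackSpecIso k S K).inv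
  tfae_finish

end Groth.Agent.S4824
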