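import Groth.Statements.S4825
import Groth.Agent.S0385

set_option autoImplicit false
set_option backward.isDefEq.respectTransparency false
set_option linter.style.haveILetI false
open CategoryTheory AlgebraicGeometry
universe u
open Lim8

namespace Groth.Agent.S4825

open CategoryTheory.Limits in
/-- Separatedness can be checked over the local schemes of the base. -/
theorem isSeparated_of_stalk {X Y : Scheme.{u}} (f : X ⟶ Y) [QuasiSeparated f]
    (h : ∀ y : Y, IsSeparated (pullback.snd f (Y.fromSpecStalk y))) : IsSeparated f := by
  refine ⟨IsClosedImmersion.of_isPreimmersion _ ?_⟩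
  let Δ := pullback.diagonal f
  have hsp : SpecializingMap Δ := by
    intro x q' hq
    let π := pullback.fst f f ≫ f
    let y := π q'
    haveI := h y
    let S := Y.fromSpecStalk y
    let k := pullback.fst π S
    haveI : IsPreimmersion k := inferInstanceAs (IsPreimmersion (pullback.fst π S))
    have hq' : q' ∈ Set.range k := by
      rw [Scheme.Pullback.range_fst]
      show π q' ∈ Set.range S
      rw [Scheme.range_fromSpecStalk]
      exact specializes_rfl
    have hqx : Δ x ∈ Set.range k := by
      rw [Scheme.Pullback.range_fst]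
      show π (Δ x) ∈ Set.range S
      rw [Scheme.range_fromSpecStalk]
      exact hq.map π.continuous
    obtain ⟨z', hz'⟩ := hq'
    obtain ⟨z, hz⟩ := hqx
    have hzz : z ⤳ z' := k.isEmbedding.specializes_iff.1 (by rw [hz, hz']; exact hq)
    -- the equalizer of the two projections
    let a : pullback π S ⟶ pullback f S := pullback.lift (k ≫ pullback.fst f f) (pullback.snd π S)
      (by rw [Category.assoc]; exact pullback.condition)
    let b : pullback π S ⟶ pullback f S := pullback.lift (k ≫ pullback.snd f f) (pullback.snd π S)
      (by rw [Category.assoc, ← pullback.condition (f := f) (g := f)]; exact pullback.condition)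
    let ab : pullback π S ⟶ pullback (pullback.snd f S) (pullback.snd f S) := pullback.lift a b (by simp [a, b])
    let e := pullback.snd (pullback.diagonal (pullback.snd f S)) ab
    have he : e ≫ k ≫ pullback.fst f f = e ≫ k ≫ pullback.snd f f := by
      have h1 : e ≫ a = e ≫ b := by
        have hab : pullback.diagonal (pullback.snd f S) ≫ pullback.fst _ _ =
            pullback.diagonal (pullback.snd f S) ≫ pullback.snd _ _ := by simp
        have := congrArg (pullback.fst (pullback.diagonal (pullback.snd f S)) ab ≫ ·) hab
        simp only [pullback.condition_assoc, ab, pullback.lift_fst, pullback.lift_snd] at this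
        exact this
      have := congrArg (· ≫ pullback.fst f S) h1
      simpa [a, b] using this
    -- the specialised point is on the diagonal
    obtain ⟨w, hw, hw'⟩ := Scheme.Pullback.exists_preimage_pullback x z hz.symm
    have hl : pullback.snd Δ k ≫ a = pullback.snd Δ k ≫ b := by
      ext1
      · simp only [Category.assoc, a, b, pullback.lift_fst, ← pullback.condition_assoc]
        simp [Δ]
      · simp [a, b]
    let j : pullback Δ k ⟶ pullback (pullback.diagonal (pullback.snd f S)) ab :=
      pullback.lift (pullback.snd Δ k ≫ a) (pullback.snd Δ k) (by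
        ext1
        · simp [ab]
        · simp [ab, hl])
    have hze : z ∈ Set.range e := ⟨j w, by
      rw [← Scheme.Hom.comp_apply]
      simp only [j, e, pullback.lift_snd]
      exact hw'⟩
    haveI : IsClosedImmersion e := inferInstance
    obtain ⟨v, hv⟩ := hzz.mem_closed e.isClosedEmbedding.isClosed_range hze
    let c := e ≫ k ≫ pullback.fst f f
    have hc : c ≫ Δ = e ≫ k := by
      ext1
      · simp [c, Δ]
      · simp [c, Δ, he]
    have hcv : Δ (c v) = q' := by
      rw [← Scheme.Hom.comp_apply, hc, Scheme.Hom.comp_apply, hv, hz']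
    exact ⟨c v, Δ.isEmbedding.specializes_iff.1 (by rw [hcv]; exact hq), hcv⟩
  exact (((isClosedMap_iff_specializingMap Δ).2 hsp).isClosed_range)

open CategoryTheory.Limits in
/-- Quasi-finiteness can be checked over the local schemes of the base. -/
theorem locallyQuasiFinite_of_stalk {X Y : Scheme.{u}} (f : X ⟶ Y) [LocallyOfFiniteType f] [QuasiCompact f]
    (h : ∀ y : Y, LocallyQuasiFinite (pullback.snd f (Y.fromSpecStalk y))) : LocallyQuasiFinite f := by
  refine locallyQuasiFinite_iff_finite_preimage_singleton.2 fun y => ?_
  haveI := h y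
  refine (((pullback.snd f (Y.fromSpecStalk y)).finite_preimage_singleton (IsLocalRing.closedPoint _)).image
    (pullback.fst f (Y.fromSpecStalk y))).subset fun x hx => ?_
  obtain ⟨w, hw, hw'⟩ := Scheme.Pullback.exists_preimage_pullback (f := f) (g := Y.fromSpecStalk y) x (IsLocalRing.closedPoint (Y.presheaf.stalk y))
    (hx.trans (Scheme.fromSpecStalk_closedPoint (X := Y) (x := y)).symm)
  exact ⟨w, hw', hw⟩

open CategoryTheory.Limits in
/-- Let Y be a Noetherian scheme and f : X ⟶ Y a morphism of finite type. Then f admits a factorization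
into an immersion followed by a finite morphism if and only if, for every point y of Y, the base
change X ×_Y Spec O_{Y,y} ⟶ Spec O_{Y,y} of f to the local scheme of Y at y admits such a
factorization. (Pointwise criterion for pseudo-finite morphisms.) -/
theorem result {X Y : Scheme.{u}} (f : X ⟶ Y) [IsNoetherian Y]
    [LocallyOfFiniteType f] [QuasiCompact f] :
    (∃ (Y' : Scheme.{u}) (f' : X ⟶ Y') (u : Y' ⟶ Y), IsImmersion f' ∧ IsFinite u ∧ f' ≫ u = f) ↔
      ∀ y : Y, ∃ (Z : Scheme.{u}) (g : pullback f (Y.fromSpecStalk y) ⟶ Z) (u : Z ⟶ Spec (Y.presheaf.stalk y)),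
        IsImmersion g ∧ IsFinite u ∧ g ≫ u = pullback.snd f (Y.fromSpecStalk y) := by
  constructor
  · rintro ⟨Y', f', u, hf', hu, rfl⟩ y
    haveI := hf'
    haveI := hu
    refine ⟨pullback u (Y.fromSpecStalk y),
      pullback.map (f' ≫ u) (Y.fromSpecStalk y) u (Y.fromSpecStalk y) f' (𝟙 _) (𝟙 _) (by simp) (by simp),
      pullback.snd _ _,
      ?_, inferInstance, by simp⟩
    have sq : IsPullback (pullback.fst (f' ≫ u) (Y.fromSpecStalk y))
        (pullback.map (f' ≫ u) (Y.fromSpecStalk y) u (Y.fromSpecStalk y) f' (𝟙 _) (𝟙 _) (by simp) (by simp))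
        f' (pullback.fst u (Y.fromSpecStalk y)) := by
      refine IsPullback.of_bot ?_ (by simp) (IsPullback.of_hasPullback u (Y.fromSpecStalk y))
      simpa using IsPullback.of_hasPullback (f' ≫ u) (Y.fromSpecStalk y)
    exact MorphismProperty.of_isPullback sq hf'
  · intro h
    haveI : IsLocallyNoetherian X := LocallyOfFiniteType.isLocallyNoetherian f
    haveI : IsSeparated f := isSeparated_of_stalk f fun y => by
      obtain ⟨Z, g, u, hg, hu, hgu⟩ := h y
      haveI := hg; haveI := hu
      rw [← hgu]; infer_instance
    haveI : LocallyQuasiFinite f := locallyQuasiFinite_of_stalk f fun y => by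
      obtain ⟨Z, g, u, hg, hu, hgu⟩ := h y
      haveI := hg; haveI := hu
      rw [← hgu]; infer_instance
    obtain ⟨T, j, π, hj, -, hπ, hjπ⟩ := S0385.result f
    exact ⟨T, j, π, inferInstance, hπ, hjπ⟩

end Groth.Agent.S4825
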