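import Groth.Statements.S4826
import Groth.Agent.BranchInv.Locus
import Groth.Agent.SteinConn.Unibranch
import Groth.Agent.FibreDepth.ConstrScheme
-- import your own Groth.Agent.* helpers here

set_option autoImplicit false
open CategoryTheory AlgebraicGeometry
universe u
open Cons9

namespace Groth.Agent.S4826

/-- Let X be a locally Noetherian scheme whose reduction has a normalization finite over X: for every
affine open U of X, the integral closure of Γ(U)_red in its total ring of fractions is a finite
module over Γ(U)_red. Then the set of points x of X at which X is geometrically unibranch (the local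
ring O_{X,x} is geometrically unibranch) is locally constructible in X. -/
theorem result (X : Scheme.{u}) [IsLocallyNoetherian X]
    (hfin : ∀ U : X.affineOpens, Module.Finite (CAlg2.red Γ(X, U.1)) (CAlg2.normRed Γ(X, U.1))) :
    Topology.IsLocallyConstructible {x : X | CAlg2.IsGeomUnibranch (X.presheaf.stalk x)} := by
  refine Groth.Agent.FibreDepth.isLocallyConstructible_of_embeddings _ fun x => ?_
  obtain ⟨U, hU, hxU, -⟩ := exists_isAffineOpen_mem_and_subset (X := X) (x := x) (U := ⊤) trivial
  haveI : IsNoetherianRing Γ(X, U) := IsLocallyNoetherian.component_noetherian ⟨U, hU⟩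
  have hr : x ∈ Set.range hU.fromSpec := by
    rw [hU.range_fromSpec]; exact hxU
  refine ⟨Γ(X, U), inferInstance, fun p => hU.fromSpec p, hU.fromSpec.isOpenEmbedding, hr, ?_⟩
  convert Groth.Agent.BranchInv.isConstructible_geomUnibranch (A := Γ(X, U)) (hfin ⟨U, hU⟩) using 1
  ext p
  let e := ((asIso (hU.fromSpec.stalkMap p)) ≪≫ (Spec.stalkIso Γ(X, U) p)).commRingCatIsoToRingEquiv
  exact ⟨fun h => Groth.Agent.SteinConn.isGeomUnibranch_of_ringEquiv e h,
    fun h => Groth.Agent.SteinConn.isGeomUnibranch_of_ringEquiv e.symm h⟩

end Groth.Agent.S4826
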