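import Groth.Statements.S4833
import Groth.Agent.S5948
import Groth.Agent.FlatStage.Main
import Groth.Agent.ConstrNoeth.Basic

set_option autoImplicit false
open CategoryTheory AlgebraicGeometry
universe u
open Cons9

namespace Groth.Agent.S4833

open CategoryTheory.Limits in
/-- Let S be an integral Noetherian scheme with generic point η, let g : X ⟶ Y be an S-morphism between
schemes of finite type over S (structure morphisms h : Y ⟶ S and g ≫ h), and let F be a coherent
O_X-module. For s in S write g_s : X_s ⟶ Y_s for the morphism induced on the fibres over s and F_s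
for the pullback of F to X_s. If F_η is not flat relative to g_η (not flat over O_{Y_η, g_η(x)} at
some point x of X_η), then there is an open neighbourhood U of η such that for every s in U the
module F_s is not flat relative to g_s. -/
theorem result {X Y S : Scheme.{u}} [IsIntegral S] [IsNoetherian S]
    (g : X ⟶ Y) (h : Y ⟶ S) [LocallyOfFiniteType h] [QuasiCompact h]
    [LocallyOfFiniteType (g ≫ h)] [QuasiCompact (g ≫ h)]
    (F : X.Modules) [Coh.IsQCoh F] (hF : CohB1.IsFP F)
    (hη : ¬ FlatMod.IsFlatOver
      (pullback.lift (pullback.fst (g ≫ h) (S.fromSpecResidueField (genericPoint S)) ≫ g)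
          (pullback.snd (g ≫ h) (S.fromSpecResidueField (genericPoint S)))
          ((Category.assoc _ _ _).trans pullback.condition) :
        pullback (g ≫ h) (S.fromSpecResidueField (genericPoint S)) ⟶ pullback h (S.fromSpecResidueField (genericPoint S)))
      ((Scheme.Modules.pullback (pullback.fst (g ≫ h) (S.fromSpecResidueField (genericPoint S)))).obj F)) :
    ∃ U : S.Opens, genericPoint S ∈ U ∧ ∀ s ∈ U, ¬ FlatMod.IsFlatOver
      (pullback.lift (pullback.fst (g ≫ h) (S.fromSpecResidueField s) ≫ g) (pullback.snd (g ≫ h) (S.fromSpecResidueField s))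
          ((Category.assoc _ _ _).trans pullback.condition) :
        pullback (g ≫ h) (S.fromSpecResidueField s) ⟶ pullback h (S.fromSpecResidueField s))
      ((Scheme.Modules.pullback (pullback.fst (g ≫ h) (S.fromSpecResidueField s))).obj F) := by
  let k := g ≫ h
  let ιX : ∀ s : S, pullback k (S.fromSpecResidueField s) ⟶ X := fun s => pullback.fst k (S.fromSpecResidueField s)
  let ιY : ∀ s : S, pullback h (S.fromSpecResidueField s) ⟶ Y := fun s => pullback.fst h (S.fromSpecResidueField s)
  let gs : ∀ s : S, pullback k (S.fromSpecResidueField s) ⟶ pullback h (S.fromSpecResidueField s) := fun s =>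
    pullback.lift (pullback.fst k (S.fromSpecResidueField s) ≫ g) (pullback.snd k (S.fromSpecResidueField s))
      ((Category.assoc _ _ _).trans pullback.condition)
  have hsq : ∀ s : S, IsPullback (ιX s) (gs s) g (ιY s) := fun s =>
    IsPullback.of_bot (by rw [pullback.lift_snd]; exact IsPullback.of_hasPullback k _)
      (pullback.lift_fst _ _ _).symm (IsPullback.of_hasPullback h _)
  have hlie : ∀ (s : S) (x' : ↥(pullback k (S.fromSpecResidueField s))), k (ιX s x') = s := fun s x' => by
    show k (pullback.fst k (S.fromSpecResidueField s) x') = s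
    rw [← Scheme.Hom.comp_apply, pullback.condition, Scheme.Hom.comp_apply, Scheme.fromSpecResidueField_apply]
  -- flatness on the chosen fibre is flatness on every model of it
  have model : ∀ (s : S) (Xs Ys : Scheme.{u}) (a : Xs ⟶ X) (b : Ys ⟶ Y) (fs : Xs ⟶ Ys)
      (pY : Ys ⟶ Spec (S.residueField s)), IsPullback b pY h (S.fromSpecResidueField s) → IsPullback a fs g b →
      FlatMod.IsFlatOver (gs s) ((Scheme.Modules.pullback (ιX s)).obj F) →
      FlatMod.IsFlatOver fs ((Scheme.Modules.pullback a).obj F) := by
    intro s Xs Ys a b fs pY hb ha hfl x'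
    have hsqY := hb
    let w : Ys ⟶ pullback h (S.fromSpecResidueField s) := hb.isoPullback.hom
    have hw : w ≫ ιY s = b := hb.isoPullback_hom_fst
    let v : Xs ⟶ pullback k (S.fromSpecResidueField s) :=
      pullback.lift a (fs ≫ pY) (by rw [← Category.assoc, ha.w, Category.assoc, Category.assoc, hb.w])
    have hv : v ≫ ιX s = a := pullback.lift_fst _ _ _
    have hvs : v ≫ gs s = fs ≫ w := by
      apply pullback.hom_ext
      · rw [Category.assoc, pullback.lift_fst, ← Category.assoc, show v ≫ pullback.fst k _ = a from hv, ha.w,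
          Category.assoc, show w ≫ pullback.fst h _ = b from hw]
      · rw [Category.assoc, pullback.lift_snd, pullback.lift_snd, Category.assoc,
          show w ≫ pullback.snd h _ = pY from hb.isoPullback_hom_snd]
    exact Groth.Agent.FlatStage.isFlatOverAt_of_square
      (IsPullback.of_right (by rw [hv, hw]; exact ha) hvs (hsq s)) (ιX s) hv F x' (hfl _)
  let E := {x : ↥X | ∀ (Xs Ys : Scheme.{u}) (a : Xs ⟶ X) (b : Ys ⟶ Y) (fs : Xs ⟶ Ys)
      (pY : Ys ⟶ Spec (S.residueField (k.base x))),
      IsPullback b pY h (S.fromSpecResidueField (k.base x)) → IsPullback a fs g b →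
        ∀ x' : ↥Xs, a.base x' = x → FlatMod.IsFlatOverAt fs ((Scheme.Modules.pullback a).obj F) x'}
  haveI : LocallyOfFinitePresentation k := inferInstance
  haveI : LocallyOfFinitePresentation h := inferInstance
  have hE : Topology.IsLocallyConstructible E := Groth.Agent.S5948.result k h g rfl F hF
  have hT : Topology.IsLocallyConstructible (k '' Eᶜ) := k.isLocallyConstructible_image (fun x => by
    obtain ⟨U, hxU, hU, hc⟩ := hE x
    exact ⟨U, hxU, hU, hc.compl⟩)
  have hη' : genericPoint S ∈ k '' Eᶜ := by
    simp only [FlatMod.IsFlatOver, not_forall] at hη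
    obtain ⟨x', hx'⟩ := hη
    refine ⟨ιX _ x', fun hmem => hx' ?_, hlie _ x'⟩
    have key : ∀ (s : S) (e : k (ιX (genericPoint S) x') = s) (Xs Ys : Scheme.{u}) (a : Xs ⟶ X) (b : Ys ⟶ Y)
        (fs : Xs ⟶ Ys) (pY : Ys ⟶ Spec (S.residueField s)), IsPullback b pY h (S.fromSpecResidueField s) →
        IsPullback a fs g b → ∀ z : ↥Xs, a.base z = ιX (genericPoint S) x' →
          FlatMod.IsFlatOverAt fs ((Scheme.Modules.pullback a).obj F) z := by
      rintro s rfl; exact hmem
    exact key _ (hlie _ x') _ _ (ιX _) (ιY _) (gs _) _ (IsPullback.of_hasPullback h _) (hsq _) x' rfl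
  obtain ⟨U, hU, ⟨a, haU, -⟩, hUT⟩ := Groth.Agent.ConstrNoeth.exists_open_of_constructible
    hT.isConstructible (Y := Set.univ) ((irreducibleSpace_def ↥S).1 inferInstance)
    (fun y _ => closure_mono (show ({genericPoint ↥S} : Set ↥S) ⊆ k '' Eᶜ ∩ Set.univ from
      Set.singleton_subset_iff.2 ⟨hη', trivial⟩) ((genericPoint_spec ↥S).ge trivial))
  refine ⟨⟨U, hU⟩, ((genericPoint_spec ↥S).specializes trivial).mem_open hU haU, fun s hs hfl => ?_⟩
  obtain ⟨x, hx, rfl⟩ := hUT ⟨hs, trivial⟩
  exact hx fun Xs Ys a b fs pY hb ha x' _ => model _ Xs Ys a b fs pY hb ha hfl x'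

end Groth.Agent.S4833
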