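import Groth.Statements.S4837
import Groth.Agent.RelSpecLib.Basic

set_option autoImplicit false
set_option linter.style.haveILetI false
set_option backward.isDefEq.respectTransparency false
open CategoryTheory AlgebraicGeometry
universe u
open Lim8

namespace Groth.Agent.S4837

/-- Let f : X ⟶ Y be a quasi-compact quasi-separated morphism, C a quasi-coherent O_Y-algebra with
relative spectrum Z = Spec(C) over Y, g : X ⟶ Z a Y-morphism which is an immersion, and φ : C ⟶
f_*O_X the homomorphism of O_Y-algebras corresponding to g (the canonical identification of C with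
the direct image of O_Z followed by the map induced by g). Then the scheme-theoretic image of g is
the whole of Z, i.e. the kernel ideal of g vanishes, if and only if φ is injective; and when this
holds g is an open immersion. -/
theorem result {X Y : Scheme.{u}} (f : X ⟶ Y)
    [QuasiCompact f] [QuasiSeparated f] (C : RelSpec.QCAlg Y) (g : X ⟶ C.spec) (w : g ≫ C.π = f)
    [IsImmersion g] (φ : C ⟶ RelSpec.QCAlg.directImage f)
    (hφ : C.gammaMap ≫ φ.hom = AffAlg.algHom C.π f g w) :
    (g.ker = ⊥ ↔ ∀ U : Y.Opens, Function.Injective (φ.hom.app (Opposite.op U)).hom) ∧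
      (g.ker = ⊥ → IsOpenImmersion g) := by
  haveI : IsSeparated C.π := inferInstance
  haveI : QuasiCompact (g ≫ C.π) := by rw [w]; infer_instance
  haveI : QuasiCompact g := QuasiCompact.of_comp g C.π
  haveI := Groth.Agent.SpecQCAlg.isIso_gammaMap C
  have hφ' : φ.hom = Groth.Agent.RelSpecLib.algMap C f g w := by
    rw [← cancel_epi C.gammaMap, hφ, Groth.Agent.RelSpecLib.gammaMap_algMap]
  have key : ∀ (U : Y.Opens) (hU : IsAffineOpen U),
      (Function.Injective (φ.hom.app (Opposite.op U)).hom ↔ Function.Injective (g.app (C.π ⁻¹ᵁ U))) := by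
    intro U hU
    have h := Groth.Agent.RelSpecLib.gammaAff_algMap C f g w U hU
    rw [← hφ'] at h
    haveI : IsIso (C.gammaAff U hU) := Groth.Agent.SpecQCAlg.isIso_gammaAff C U hU
    subst w
    have h' : C.gammaAff U hU ≫ φ.hom.app (Opposite.op U) = g.app (C.π ⁻¹ᵁ U) := by
      refine h.trans ?_
      rw [Scheme.Hom.app_eq_appLE]
      rfl
    rw [← h']
    have hb : Function.Bijective (C.gammaAff U hU) := ConcreteCategory.bijective_of_isIso (C := CommRingCat) _
    exact ⟨fun hi => hi.comp hb.1, fun hi => Function.Injective.of_comp_right hi hb.2⟩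
  refine ⟨⟨fun hk => ?_, fun hinj => ?_⟩, fun hk => ?_⟩
  · haveI : IsSchemeTheoreticallyDominant g := ⟨hk⟩
    intro U a b hab
    refine TopCat.Sheaf.eq_of_locally_eq' ⟨C.presheaf, C.isSheaf⟩
      (fun W : {W : Y.affineOpens // (W : Y.Opens) ≤ U} => (W.1 : Y.Opens)) U
      (fun W => homOfLE W.2) ?_ a b fun W => ?_
    · intro y hy
      obtain ⟨W, hW, hyW, hWle⟩ := exists_isAffineOpen_mem_and_subset (U := U) hy
      exact TopologicalSpace.Opens.mem_iSup.mpr ⟨⟨⟨W, hW⟩, hWle⟩, hyW⟩
    · have hi := (key W.1 W.1.2).mpr (g.app_injective _)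
      apply hi
      have hn : ∀ x : C.presheaf.obj (Opposite.op U), φ.hom.app (Opposite.op (W.1 : Y.Opens))
          (C.presheaf.map (homOfLE W.2).op x) =
          (RelSpec.QCAlg.directImage f).presheaf.map (homOfLE W.2).op (φ.hom.app (Opposite.op U) x) :=
        fun x => congrArg (fun t => t.hom x) (φ.hom.naturality (homOfLE W.2).op)
      exact (hn a).trans ((congrArg _ hab).trans (hn b).symm)
  · refine Scheme.IdealSheafData.ext_of_iSup_eq_top
      (fun U : Y.affineOpens => ⟨C.π ⁻¹ᵁ (U : Y.Opens), U.2.preimage C.π⟩)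
      (Groth.Agent.RelSpecLib.iSup_preimage_affine C.π) fun U => ?_
    rw [Scheme.Hom.ker_apply, Scheme.IdealSheafData.ideal_bot, Pi.bot_apply]
    exact (RingHom.injective_iff_ker_eq_bot _).mp ((key U.1 U.2).mp (hinj U.1))
  · haveI : IsIso g.imageι := by
      have hb : ∀ I : C.spec.IdealSheafData, I = ⊥ → IsIso I.subschemeι := by
        rintro I rfl
        infer_instance
      exact hb g.ker hk
    rw [← g.toImage_imageι]
    infer_instance

end Groth.Agent.S4837
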