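import Groth.Statements.S4840
import Groth.Agent.PullbackMod.LimEventually
import Groth.Agent.QCohLib.Exact
import Groth.Agent.AffLim.Stalks

set_option backward.isDefEq.respectTransparency false
set_option autoImplicit false
universe u
open CategoryTheory AlgebraicGeometry
open Lim8

namespace Groth.Agent.S4840

open CategoryTheory.Limits in
/-- Exactness after a flat pullback, as two vanishing conditions. -/
theorem exact_pullback_iff {T S : Scheme.{u}} (t : T ⟶ S) [Flat t] {F G H : S.Modules}
    [Coh.IsQCoh F] [Coh.IsQCoh G] [Coh.IsQCoh H] (f : F ⟶ G) (g : G ⟶ H) :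
    (∃ w : (Scheme.Modules.pullback t).map f ≫ (Scheme.Modules.pullback t).map g = 0,
        (ShortComplex.mk _ _ w).Exact) ↔
      (Scheme.Modules.pullback t).map (Limits.image.ι f ≫ g) = 0 ∧
        (Scheme.Modules.pullback t).map (kernel.ι g ≫ cokernel.π f) = 0 := by
  let P := Scheme.Modules.pullback t
  haveI : PreservesColimitsOfSize.{0, 0} P :=
    (Scheme.Modules.pullbackPushforwardAdjunction t).leftAdjoint_preservesColimits
  haveI : PreservesColimit (parallelPair f 0) P := inferInstance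
  constructor
  · rintro ⟨w, hex⟩
    constructor
    · rw [← cancel_epi (P.map (factorThruImage f)), comp_zero, ← P.map_comp, image.fac_assoc, P.map_comp]
      exact w
    · have hz := (ShortComplex.exact_iff_kernel_ι_comp_cokernel_π_zero _).1 hex
      rw [P.map_comp, ← kernel.lift_ι (P.map g) (P.map (kernel.ι g)) (by rw [← P.map_comp, kernel.condition, P.map_zero]),
        Category.assoc, ← π_comp_cokernelComparison f P, reassoc_of% hz, zero_comp, comp_zero]
  · rintro ⟨h₁, h₂⟩
    have w : P.map f ≫ P.map g = 0 := by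
      rw [← P.map_comp, ← image.fac f, Category.assoc, P.map_comp, h₁, comp_zero]
    refine ⟨w, (ShortComplex.exact_iff_kernel_ι_comp_cokernel_π_zero _).2 ?_⟩
    show kernel.ι (P.map g) ≫ cokernel.π (P.map f) = 0
    haveI : Coh.IsQCoh (kernel g) := (Groth.Agent.QCohLib.isQCoh_image g inferInstance inferInstance).1
    haveI : Coh.IsQCoh (cokernel (kernel.ι g)) :=
      (Groth.Agent.QCohLib.isQCoh_image (kernel.ι g) inferInstance inferInstance).2
    haveI : Mono (P.map (Abelian.factorThruCoimage g)) := Groth.Agent.PullbackMod.mono_map_pullback t _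
    have hw : P.map (kernel.ι g) ≫ P.map g = 0 := by rw [← P.map_comp, kernel.condition, P.map_zero]
    have hK : (ShortComplex.mk _ _ hw).Exact := by
      have hc : P.map (kernel.ι g) ≫ P.map (cokernel.π (kernel.ι g)) = 0 := by
        rw [← P.map_comp, cokernel.condition, P.map_zero]
      have h0 : (ShortComplex.mk _ _ hc).Exact := ShortComplex.exact_of_g_is_cokernel _
        (CokernelCofork.mapIsColimit _ (cokernelIsCokernel (kernel.ι g)) P)
      let φ : ShortComplex.mk _ _ hc ⟶ ShortComplex.mk _ _ hw :=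
        { τ₁ := 𝟙 _, τ₂ := 𝟙 _, τ₃ := P.map (Abelian.factorThruCoimage g)
          comm₂₃ := by
            show 𝟙 _ ≫ P.map g = P.map (cokernel.π (kernel.ι g)) ≫ P.map (Abelian.factorThruCoimage g)
            rw [Category.id_comp, ← P.map_comp]
            exact congrArg P.map (Abelian.coimage.fac g).symm }
      haveI : Epi φ.τ₁ := inferInstanceAs (Epi (𝟙 _))
      haveI : IsIso φ.τ₂ := inferInstanceAs (IsIso (𝟙 _))
      haveI : Mono φ.τ₃ := ‹Mono (P.map (Abelian.factorThruCoimage g))›
      exact (ShortComplex.exact_iff_of_epi_of_isIso_of_mono φ).1 h0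
    haveI : Epi (kernel.lift (P.map g) (P.map (kernel.ι g)) hw) :=
      (ShortComplex.exact_iff_epi_kernel_lift _).1 hK
    rw [← cancel_epi (kernel.lift (P.map g) (P.map (kernel.ι g)) hw), kernel.lift_ι_assoc, comp_zero,
      ← cancel_mono (cokernelComparison f P), Category.assoc, π_comp_cokernelComparison, ← P.map_comp, h₂, zero_comp]


/-- Let S = lim S_i be a cofiltered limit of schemes whose transition maps are affine and flat, and
S_{i₀} a quasi-compact stage; let f₀ : F₀ ⟶ G₀ and g₀ : G₀ ⟶ H₀ be homomorphisms of quasi-coherent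
O-modules on S_{i₀} such that the image of f₀ and the kernel of g₀ are O-modules of finite type.
Then the pulled-back sequence F ⟶ G ⟶ H on S is exact (the composite is zero and the sequence is
exact at G) if and only if, for some index j over i₀, the pulled-back sequence F_j ⟶ G_j ⟶ H_j on
S_j is exact. -/
theorem result {I : Type u} [SmallCategory I] [IsCofiltered I]
    (D : I ⥤ Scheme.{u}) (c : Limits.Cone D) (hc : Limits.IsLimit c)
    [∀ (i j : I) (f : i ⟶ j), IsAffineHom (D.map f)] (i₀ : I) [CompactSpace (D.obj i₀)]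
    [∀ (i j : I) (f : i ⟶ j), Flat (D.map f)]
    {F₀ G₀ H₀ : (D.obj i₀).Modules} [Coh.IsQCoh F₀] [Coh.IsQCoh G₀] [Coh.IsQCoh H₀]
    (f₀ : F₀ ⟶ G₀) (g₀ : G₀ ⟶ H₀)
    (hIm : CohB1.IsFT (Limits.image f₀)) (hKer : CohB1.IsFT (Limits.kernel g₀)) :
    (∃ w : (Scheme.Modules.pullback (c.π.app i₀)).map f₀ ≫ (Scheme.Modules.pullback (c.π.app i₀)).map g₀ = 0, (ShortComplex.mk _ _ w).Exact) ↔
      ∃ (j : I) (φ : j ⟶ i₀) (w : (Scheme.Modules.pullback (D.map φ)).map f₀ ≫ (Scheme.Modules.pullback (D.map φ)).map g₀ = 0),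
        (ShortComplex.mk _ _ w).Exact := by
  haveI hD : ∀ {i j : I} (f : i ⟶ j), IsAffineHom (D.map f) := fun f => inferInstance
  haveI : Flat (c.π.app i₀) := Groth.Agent.AffLim.flat_π D c hc fun k ψ => inferInstance
  haveI : Coh.IsQCoh (Limits.kernel g₀) := (Groth.Agent.QCohLib.isQCoh_image g₀ inferInstance inferInstance).1
  haveI : Coh.IsQCoh (Limits.cokernel f₀) := (Groth.Agent.QCohLib.isQCoh_image f₀ inferInstance inferInstance).2
  haveI : Coh.IsQCoh (Limits.image f₀) := by
    have h := (Groth.Agent.QCohLib.isQCoh_image (Limits.cokernel.π f₀) inferInstance inferInstance).1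
    exact (SheafOfModules.isQuasicoherent (R := (D.obj i₀).ringCatSheaf)).prop_of_iso (Abelian.imageIsoImage f₀) h
  rw [exact_pullback_iff, Groth.Agent.PullbackMod.zero_eventually D c hc i₀ _ hIm,
    Groth.Agent.PullbackMod.zero_eventually D c hc i₀ _ hKer]
  constructor
  · rintro ⟨⟨j₁, φ₁, h₁⟩, ⟨j₂, φ₂, h₂⟩⟩
    obtain ⟨j, a, b, hab⟩ := IsCofiltered.cospan φ₁ φ₂
    refine ⟨j, a ≫ φ₁, (exact_pullback_iff _ f₀ g₀).2
      ⟨(Groth.Agent.PullbackMod.pullback_map_stable _ (D.map φ₁) (D.map a) _ (D.map_comp a φ₁).symm).1 h₁,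
        (Groth.Agent.PullbackMod.pullback_map_stable _ (D.map φ₂) (D.map b) _ (by rw [hab, D.map_comp])).1 h₂⟩⟩
  · rintro ⟨j, φ, h⟩
    exact ⟨⟨j, φ, ((exact_pullback_iff _ f₀ g₀).1 h).1⟩, ⟨j, φ, ((exact_pullback_iff _ f₀ g₀).1 h).2⟩⟩

end Groth.Agent.S4840
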