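import Groth.Statements.S4843
import Groth.Agent.PointStage.QuasiProj
import Groth.Agent.S12416
import Groth.Agent.S4418
import Groth.Agent.FPModelLib.Proper

set_option backward.isDefEq.respectTransparency false
set_option linter.style.haveILetI false

set_option autoImplicit false
open CategoryTheory AlgebraicGeometry
universe u
open Cons9

namespace Groth.Agent.S4843

open CategoryTheory.Limits in
/-- Let g : Y ⟶ S and f : X ⟶ Y be such that X and Y are of finite presentation over S (locally of
finite presentation, quasi-compact and quasi-separated). For each point s of S let f_s : X_s ⟶ Y_s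
be the morphism induced on the fibres over s. Then the set of s for which f_s is projective (X_s is
isomorphic over Y_s to the homogeneous spectrum of a quasi-coherent graded O_{Y_s}-algebra generated
by its degree-one part, which is of finite type) is ind-constructible in S. -/
theorem result {X Y S : Scheme.{u}} (f : X ⟶ Y) (g : Y ⟶ S)
    [LocallyOfFinitePresentation g] [QuasiCompact g] [QuasiSeparated g]
    [LocallyOfFinitePresentation (f ≫ g)] [QuasiCompact (f ≫ g)] [QuasiSeparated (f ≫ g)] :
    ProCons.IsIndConstructible {s : S |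
      RelProj.IsProjective
        (pullback.lift (pullback.fst (f ≫ g) (S.fromSpecResidueField s) ≫ f) (pullback.snd (f ≫ g) (S.fromSpecResidueField s))
          ((Category.assoc _ _ _).trans pullback.condition) :
        pullback (f ≫ g) (S.fromSpecResidueField s) ⟶ pullback g (S.fromSpecResidueField s))} := by
  haveI : LocallyOfFinitePresentation f := FlatLocus.locallyOfFinitePresentation_of_comp f g
  haveI : QuasiCompact f := QuasiCompact.of_comp f g
  haveI : QuasiSeparated f := QuasiSeparated.of_comp f g
  let F : ∀ ⦃Y' : Scheme.{u}⦄, (Y' ⟶ Y) → Prop := fun _ t => IsProper (pullback.snd f t) ∧ PointStage.QP f t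
  have hsnd : ∀ ⦃Y' Y'' : Scheme.{u}⦄ (a : Y'' ⟶ Y') (t : Y' ⟶ Y),
      IsPullback (pullback.lift (pullback.fst f (a ≫ t)) (pullback.snd f (a ≫ t) ≫ a)
        (by rw [Category.assoc]; exact pullback.condition)) (pullback.snd f (a ≫ t)) (pullback.snd f t) a :=
    fun Y' Y'' a t => IsPullback.of_right (by rw [pullback.lift_fst]; exact IsPullback.of_hasPullback _ _)
      (pullback.lift_snd _ _ _) (IsPullback.of_hasPullback f t)
  have hmono : ∀ ⦃Y' Y'' : Scheme.{u}⦄ (a : Y'' ⟶ Y') (t : Y' ⟶ Y), F t → F (a ≫ t) :=
    fun Y' Y'' a t h => ⟨MorphismProperty.of_isPullback (hsnd a t) h.1, PointStage.qp_mono f a t h.2⟩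
  have key : {s : S | RelProj.IsProjective (FibreMapConstr.fib f g s)} =
      {s : S | F (pullback.fst g (S.fromSpecResidueField s))} := by
    ext s
    have sq := PointStage.isPullback_fib g f s
    have e : (sq.isoPullback).hom ≫ pullback.snd f _ = FibreMapConstr.fib f g s := sq.isoPullback_hom_snd
    constructor
    · intro h
      obtain ⟨hq, hp⟩ := Groth.Agent.S4418.result _ h
      refine ⟨?_, PointStage.qp_of_squares f (𝟙 _) (Category.id_comp _) sq (IsPullback.of_hasPullback _ _) hq⟩
      have hp' : IsProper (sq.isoPullback.hom ≫ pullback.snd f _) := e.symm ▸ hp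
      exact (MorphismProperty.cancel_left_of_respectsIso @IsProper _ _).1 hp'
    · rintro ⟨hp, hq⟩
      haveI : IsProper (FibreMapConstr.fib f g s) :=
        e ▸ (MorphismProperty.cancel_left_of_respectsIso @IsProper _ _).2 hp
      haveI : CompactSpace ↥(pullback g (S.fromSpecResidueField s)) :=
        QuasiCompact.compactSpace_of_compactSpace (pullback.snd g _)
      haveI : QuasiSeparatedSpace ↥(pullback g (S.fromSpecResidueField s)) :=
        quasiSeparatedSpace_of_quasiSeparated (pullback.snd g _)
      exact Groth.Agent.S12416.result _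
        (PointStage.qp_of_squares f (𝟙 _) (Category.id_comp _) (IsPullback.of_hasPullback _ _) sq hq)
  show ProCons.IsIndConstructible {s : S | RelProj.IsProjective (FibreMapConstr.fib f g s)}
  rw [key]
  refine PointStage.isIndConstructible g F hmono fun A j _ p _ hw => ?_
  obtain ⟨d₁, hd₁⟩ := PointStage.descendsToStage_qp f g A j p hw.2
  obtain ⟨⟨_, _, _, _, hf₀⟩, ⟨qY, qX, hY, hX, -⟩, hst⟩ := PointStage.exists_squares g f A j p
  haveI := hf₀
  haveI := hw.1
  obtain ⟨d₂, φ, hprop⟩ := FPModelLib.exists_proper_stage (PointStage.sys A p) (PointStage.cone A p)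
    (PointStage.isLimitCone A p) _ _ _ hY hX
  obtain ⟨t, v, a, hat, -, hsq⟩ := hst (Over.mk φ)
  have h2 : IsProper (pullback.snd f (pullback.fst g (PointStage.str A p d₂ ≫ j))) := by
    have h : IsProper (pullback.snd f t) := by
      rw [← hsq.isoPullback_inv_snd]
      exact (MorphismProperty.cancel_left_of_respectsIso @IsProper _ _).2 hprop
    have := MorphismProperty.of_isPullback (P := @IsProper) (hsnd a t) h
    exact hat ▸ this
  refine ⟨IsCofiltered.min d₁ d₂, ?_, ?_⟩
  · let b := (PointStage.sys A p).map (IsCofiltered.minToRight d₁ d₂)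
    let r := pullback.map g (PointStage.str A p (IsCofiltered.min d₁ d₂) ≫ j) g (PointStage.str A p d₂ ≫ j)
      (𝟙 _) b (𝟙 _) (by simp) (by rw [Category.comp_id, ← Category.assoc, PointStage.map_str])
    have hr : r ≫ pullback.fst g (PointStage.str A p d₂ ≫ j) = pullback.fst g _ :=
      (pullback.lift_fst _ _ _).trans (Category.comp_id _)
    exact hr ▸ MorphismProperty.of_isPullback (P := @IsProper) (hsnd r _) h2
  · let b := (PointStage.sys A p).map (IsCofiltered.minToLeft d₁ d₂)
    let r := pullback.map g (PointStage.str A p (IsCofiltered.min d₁ d₂) ≫ j) g (PointStage.str A p d₁ ≫ j)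
      (𝟙 _) b (𝟙 _) (by simp) (by rw [Category.comp_id, ← Category.assoc, PointStage.map_str])
    have hr : r ≫ pullback.fst g (PointStage.str A p d₁ ≫ j) = pullback.fst g _ :=
      (pullback.lift_fst _ _ _).trans (Category.comp_id _)
    exact hr ▸ PointStage.qp_mono f r _ hd₁

end Groth.Agent.S4843
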