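import Groth.Statements.S4844
import Groth.Agent.PointStage.QuasiProj

set_option backward.isDefEq.respectTransparency false
set_option linter.style.haveILetI false

set_option autoImplicit false
open CategoryTheory AlgebraicGeometry
universe u
open Cons9

namespace Groth.Agent.S4844

open CategoryTheory.Limits in
/-- Let g : Y ⟶ S and f : X ⟶ Y be such that X and Y are of finite presentation over S (locally of
finite presentation, quasi-compact and quasi-separated). For each point s of S let f_s : X_s ⟶ Y_s
be the morphism induced on the fibres over s. Then the set of s for which f_s is quasi-projective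
(of finite type, with an invertible O_{X_s}-module ample relative to f_s) is ind-constructible in S. -/
theorem result {X Y S : Scheme.{u}} (f : X ⟶ Y) (g : Y ⟶ S)
    [LocallyOfFinitePresentation g] [QuasiCompact g] [QuasiSeparated g]
    [LocallyOfFinitePresentation (f ≫ g)] [QuasiCompact (f ≫ g)] [QuasiSeparated (f ≫ g)] :
    ProCons.IsIndConstructible {s : S |
      RelProj.IsQuasiProjective
        (pullback.lift (pullback.fst (f ≫ g) (S.fromSpecResidueField s) ≫ f) (pullback.snd (f ≫ g) (S.fromSpecResidueField s))
          ((Category.assoc _ _ _).trans pullback.condition) :
        pullback (f ≫ g) (S.fromSpecResidueField s) ⟶ pullback g (S.fromSpecResidueField s))} := by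
  haveI : LocallyOfFinitePresentation f := FlatLocus.locallyOfFinitePresentation_of_comp f g
  haveI : QuasiCompact f := QuasiCompact.of_comp f g
  haveI : QuasiSeparated f := QuasiSeparated.of_comp f g
  have key : {s : S | RelProj.IsQuasiProjective (FibreMapConstr.fib f g s)} =
      {s : S | PointStage.QP f (Limits.pullback.fst g (S.fromSpecResidueField s))} := by
    ext s
    exact ⟨PointStage.qp_of_squares f (𝟙 _) (Category.id_comp _) (PointStage.isPullback_fib g f s)
        (IsPullback.of_hasPullback _ _),
      PointStage.qp_of_squares f (𝟙 _) (Category.id_comp _) (IsPullback.of_hasPullback _ _)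
        (PointStage.isPullback_fib g f s)⟩
  show ProCons.IsIndConstructible {s : S | RelProj.IsQuasiProjective (FibreMapConstr.fib f g s)}
  rw [key]
  exact PointStage.isIndConstructible g (PointStage.QP f) (PointStage.qp_mono f)
    (PointStage.descendsToStage_qp f g)

end Groth.Agent.S4844
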