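import Groth.Statements.S4847
import Groth.Agent.FlatLocus.FibreCritMod
import Groth.Agent.PullbackMod.OpenLocus
import Groth.Agent.S0392
open IsLocalRing Groth.Agent.FlatLocus
-- import your own Groth.Agent.* helpers here

set_option autoImplicit false
universe u
open EGA43

set_option backward.isDefEq.respectTransparency false

namespace Groth.Agent.S4847

open AlgebraicGeometry CategoryTheory Limits in
/-- Case 1° (fibrewise flatness criterion for locally Noetherian schemes): let S, X and Y be locally
Noetherian schemes, f : X ⟶ Y and h : Y ⟶ S arbitrary morphisms, F a coherent O_X-module and x a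
point of X with images y in Y and s in S, such that the stalk F_x is nonzero. Then F is flat over S
at x and F_x / m_s F_x is flat over O_{Y,y} / m_s O_{Y,y} (that is, the fibre module F_s is flat
over the fibre Y_s at x) if and only if h is flat at y and F is flat over Y at x. No finiteness
hypothesis on f or h is required in this case. -/
theorem result {X Y S : Scheme.{u}}
    [IsLocallyNoetherian X] [IsLocallyNoetherian Y] [IsLocallyNoetherian S]
    (f : X ⟶ Y) (h : Y ⟶ S) (F : X.Modules) (hF : Coh.IsCoh F) (x : X)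
    (hx : Nontrivial ↑(F.presheaf.stalk x)) :
    letI := FlatMod.moduleStalkOver f F x
    (FlatMod.IsFlatOverAt (f ≫ h) F x ∧
      Module.Flat (↑(Y.presheaf.stalk (f x)) ⧸ Ideal.map (h.stalkMap (f x)).hom (IsLocalRing.maximalIdeal ↑(S.presheaf.stalk (h (f x)))))
        (↑(F.presheaf.stalk x) ⧸ (Ideal.map (h.stalkMap (f x)).hom (IsLocalRing.maximalIdeal ↑(S.presheaf.stalk (h (f x)))) •
          (⊤ : Submodule ↑(Y.presheaf.stalk (f x)) ↑(F.presheaf.stalk x))))) ↔
    ((h.stalkMap (f x)).hom.Flat ∧ FlatMod.IsFlatOverAt f F x) := by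
  letI := FlatMod.moduleStalkOver f F x
  letI mS : Module (S.presheaf.stalk (h (f x))) (F.presheaf.stalk x) :=
    FlatMod.moduleStalkOver (f ≫ h) F x
  letI := (h.stalkMap (f x)).hom.toAlgebra
  letI := (f.stalkMap x).hom.toAlgebra
  haveI : IsScalarTower (S.presheaf.stalk (h (f x))) (Y.presheaf.stalk (f x))
      (F.presheaf.stalk x) := .of_algebraMap_smul fun r m => by
    show (f.stalkMap x) ((h.stalkMap (f x)) r) • m = (f ≫ h).stalkMap x r • m
    rw [Scheme.Hom.stalkMap_comp, CommRingCat.comp_apply]
    rfl
  haveI : IsScalarTower (Y.presheaf.stalk (f x)) (X.presheaf.stalk x) (F.presheaf.stalk x) :=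
    .of_algebraMap_smul fun _ _ => rfl
  letI : Algebra (S.presheaf.stalk (h (f x))) (X.presheaf.stalk x) :=
    ((algebraMap (Y.presheaf.stalk (f x)) (X.presheaf.stalk x)).comp (algebraMap (S.presheaf.stalk (h (f x))) (Y.presheaf.stalk (f x)))).toAlgebra
  haveI : IsScalarTower (S.presheaf.stalk (h (f x))) (Y.presheaf.stalk (f x)) (X.presheaf.stalk x) :=
    IsScalarTower.of_algebraMap_eq fun _ => rfl
  haveI : IsLocalHom (algebraMap (Y.presheaf.stalk (f x)) (X.presheaf.stalk x)) := f.toLRSHom.prop x
  haveI : IsLocalHom (algebraMap (S.presheaf.stalk (h (f x))) (Y.presheaf.stalk (f x))) := h.toLRSHom.prop (f x)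
  constructor
  · rintro ⟨h1, h2⟩
    haveI : Coh.IsQCoh F := hF.1
    haveI : Module.Finite (X.presheaf.stalk x) (F.presheaf.stalk x) := PullbackMod.finite_stalk_of_isFT hF.2 x
    haveI : Module.Flat (S.presheaf.stalk (h (f x))) (F.presheaf.stalk x) := h1
    haveI := h2
    exact S0392.result (R := S.presheaf.stalk (h (f x))) (S := Y.presheaf.stalk (f x)) (S' := X.presheaf.stalk x)
      (M := F.presheaf.stalk x) (Module.Flat.of_linearEquiv
        ((TensorProduct.quotTensorEquivQuotSMul (F.presheaf.stalk x)
          ((maximalIdeal (S.presheaf.stalk (h (f x)))).map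
            (algebraMap (S.presheaf.stalk (h (f x))) (Y.presheaf.stalk (f x))))).extendScalarsOfSurjective
              Ideal.Quotient.mk_surjective))
  · rintro ⟨hg, hf⟩
    haveI : Module.Flat (S.presheaf.stalk (h (f x))) (Y.presheaf.stalk (f x)) := hg
    haveI : Module.Flat (Y.presheaf.stalk (f x)) (F.presheaf.stalk x) := hf
    exact ⟨Module.Flat.trans (S.presheaf.stalk (h (f x))) (Y.presheaf.stalk (f x))
      (F.presheaf.stalk x), flat_quotient_of_flat _⟩

end Groth.Agent.S4847
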