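import Groth.Statements.S4858
import Groth.Agent.QHomeoLib.Basic
import Mathlib
-- import your own Groth.Agent.* helpers here

set_option autoImplicit false
universe u
open EGA43

namespace Groth.Agent.S4858

/-- Conditions a), a′), c), c′) (very dense subsets): for a subset X₀ of a topological space X the
following are equivalent: every nonempty locally closed subset of X meets X₀; every closed subset Z
of X equals the closure of Z ∩ X₀; the map U ↦ U ∩ X₀ is injective on open subsets of X; the map F ↦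
F ∩ X₀ is injective on closed subsets of X. -/
theorem result {X : Type u} [TopologicalSpace X] (X₀ : Set X) :
    [∀ Z : Set X, IsLocallyClosed Z → Z.Nonempty → (Z ∩ X₀).Nonempty,
      ∀ Z : Set X, IsClosed Z → closure (Z ∩ X₀) = Z,
      ∀ U V : Set X, IsOpen U → IsOpen V → U ∩ X₀ = V ∩ X₀ → U = V,
      ∀ F F' : Set X, IsClosed F → IsClosed F' → F ∩ X₀ = F' ∩ X₀ → F = F'].TFAE := by
  tfae_have 1 → 2 := fun h Z hZ => (closure_minimal Set.inter_subset_left hZ).antisymm fun z hz =>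
    mem_closure_iff.2 fun U hU hzU => by
      obtain ⟨w, ⟨hwU, hwZ⟩, hw0⟩ := h (U ∩ Z) ⟨U, Z, hU, hZ, rfl⟩ ⟨z, hzU, hz⟩
      exact ⟨w, hwU, hwZ, hw0⟩
  tfae_have 2 → 4 := fun h F F' hF hF' he => by rw [← h F hF, he, h F' hF']
  tfae_have 4 → 3 := fun h U V hU hV he => compl_injective (h Uᶜ Vᶜ hU.isClosed_compl hV.isClosed_compl (by
    ext z; constructor
    · rintro ⟨hz, hz0⟩; exact ⟨fun hzV => hz (he.superset ⟨hzV, hz0⟩).1, hz0⟩
    · rintro ⟨hz, hz0⟩; exact ⟨fun hzU => hz (he.subset ⟨hzU, hz0⟩).1, hz0⟩))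
  tfae_have 3 → 1 := by
    rintro h _ ⟨U, F, hU, hF, rfl⟩ ⟨z, hzU, hzF⟩
    by_contra hn
    have := h (U ∩ Fᶜ) U (hU.inter hF.isOpen_compl) hU (by
      ext w; exact ⟨fun hw => ⟨hw.1.1, hw.2⟩, fun hw => ⟨⟨hw.1, fun hwF => hn ⟨w, ⟨hw.1, hwF⟩, hw.2⟩⟩, hw.2⟩⟩)
    exact (this.superset hzU).2 hzF
  tfae_finish

end Groth.Agent.S4858
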