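import Groth.Statements.S4859
import Groth.Agent.QHomeoLib.Basic
import Mathlib
-- import your own Groth.Agent.* helpers here

set_option autoImplicit false
universe u
open EGA43

namespace Groth.Agent.S4859

/-- Conditions a), a′), b) (quasi-homeomorphisms): for a continuous map f : X₀ → X the following are
equivalent: taking preimages is a bijection from the open subsets of X onto the open subsets of X₀;
taking preimages is a bijection from the closed subsets of X onto the closed subsets of X₀; the
topology of X₀ is induced from X through f and the image f(X₀) is very dense in X, in the sense that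
two open subsets of X with the same trace on f(X₀) coincide. -/
theorem result {X₀ X : Type u} [TopologicalSpace X₀] [TopologicalSpace X]
    (f : X₀ → X) (hf : Continuous f) :
    [Function.Bijective (fun U : TopologicalSpace.Opens X =>
        (⟨f ⁻¹' (U : Set X), U.isOpen.preimage hf⟩ : TopologicalSpace.Opens X₀)),
      Function.Bijective (fun F : TopologicalSpace.Closeds X =>
        (⟨f ⁻¹' (F : Set X), F.isClosed.preimage hf⟩ : TopologicalSpace.Closeds X₀)),
      Topology.IsInducing f ∧
        ∀ U V : Set X, IsOpen U → IsOpen V → U ∩ Set.range f = V ∩ Set.range f → U = V].TFAE := by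
  tfae_have 1 → 2 := fun h => by
    constructor
    · intro F F' he
      have := h.1 (a₁ := F.compl) (a₂ := F'.compl) (TopologicalSpace.Opens.ext (by
        show f ⁻¹' (F : Set X)ᶜ = f ⁻¹' (F' : Set X)ᶜ
        rw [Set.preimage_compl, Set.preimage_compl]
        exact congrArg compl (congrArg SetLike.coe he)))
      exact TopologicalSpace.Closeds.ext (compl_injective (congrArg SetLike.coe this))
    · intro F
      obtain ⟨U, hU⟩ := h.2 F.compl
      refine ⟨U.compl, TopologicalSpace.Closeds.ext ?_⟩
      show f ⁻¹' (U : Set X)ᶜ = F
      rw [Set.preimage_compl]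
      exact (congrArg compl (congrArg SetLike.coe hU)).trans (compl_compl _)
  tfae_have 2 → 1 := fun h => by
    constructor
    · intro F F' he
      have := h.1 (a₁ := F.compl) (a₂ := F'.compl) (TopologicalSpace.Closeds.ext (by
        show f ⁻¹' (F : Set X)ᶜ = f ⁻¹' (F' : Set X)ᶜ
        rw [Set.preimage_compl, Set.preimage_compl]
        exact congrArg compl (congrArg SetLike.coe he)))
      exact TopologicalSpace.Opens.ext (compl_injective (congrArg SetLike.coe this))
    · intro F
      obtain ⟨U, hU⟩ := h.2 F.compl
      refine ⟨U.compl, TopologicalSpace.Opens.ext ?_⟩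
      show f ⁻¹' (U : Set X)ᶜ = F
      rw [Set.preimage_compl]
      exact (congrArg compl (congrArg SetLike.coe hU)).trans (compl_compl _)
  tfae_have 1 → 3 := fun h => by
    have hq := (Groth.Agent.QHomeoLib.isQH_iff_bijective hf).2 h
    refine ⟨Topology.isInducing_iff _ |>.2 (le_antisymm (continuous_iff_le_induced.1 hf) fun V hV => ?_), fun U V hU hV he => ?_⟩
    · obtain ⟨U, hU, hUV⟩ := hq.2 V hV
      exact isOpen_induced_iff.2 ⟨U, hU, hUV⟩
    · refine hq.1 U V hU hV ?_
      rw [← Set.preimage_inter_range, he, Set.preimage_inter_range]
  tfae_have 3 → 1 := fun ⟨hi, hd⟩ => by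
    refine (Groth.Agent.QHomeoLib.isQH_iff_bijective hf).1 ⟨fun U V hU hV he => hd U V hU hV ?_, fun V hV => hi.isOpen_iff.1 hV⟩
    rw [← Set.image_preimage_eq_inter_range, he, Set.image_preimage_eq_inter_range]
  tfae_finish

end Groth.Agent.S4859
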