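import Groth.Statements.S4860
import Mathlib
-- import your own Groth.Agent.* helpers here

set_option autoImplicit false
universe u
open EGA43

namespace Groth.Agent.S4860

/-- For an integral domain B the following are equivalent: a) the localization B_f is a field for some
nonzero f; b) the fraction field of B is a finitely generated B-algebra; c) there is a field
containing B (an injective algebra map from B) which is a finitely generated B-algebra; d) the
generic point of Spec B is open. -/
theorem result (B : Type u) [CommRing B] [IsDomain B] :
    [∃ f : B, f ≠ 0 ∧ IsField (Localization.Away f),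
      Algebra.FiniteType B (FractionRing B),
      ∃ (K : Type u) (_ : Field K) (_ : Algebra B K), Function.Injective (algebraMap B K) ∧ Algebra.FiniteType B K,
      IsOpen ({⟨⊥, Ideal.bot_prime⟩} : Set (PrimeSpectrum B))].TFAE := by
  tfae_have 1 → 2 := by
    rintro ⟨f, hf, hF⟩
    letI := hF.toField
    let g : Localization.Away f →+* FractionRing B := IsLocalization.Away.lift (g := algebraMap B (FractionRing B)) f
      (isUnit_iff_ne_zero.mpr ((map_ne_zero_iff _ (IsFractionRing.injective B _)).mpr hf))
    let φ : Localization.Away f →ₐ[B] FractionRing B := ⟨g, fun b => IsLocalization.Away.lift_eq f _ b⟩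
    haveI : Algebra.FinitePresentation B (Localization.Away f) := IsLocalization.Away.finitePresentation f
    refine Algebra.FiniteType.of_surjective φ fun z => ?_
    obtain ⟨a, s, hs, rfl⟩ := IsFractionRing.div_surjective (A := B) z
    exact ⟨algebraMap B _ a / algebraMap B _ s, by rw [map_div₀ φ, AlgHom.commutes, AlgHom.commutes]⟩
  tfae_have 2 → 3 := fun h => ⟨FractionRing B, inferInstance, inferInstance, IsFractionRing.injective B _, h⟩
  tfae_have 3 → 1 := by
    rintro ⟨K, _, _, hinj, hK⟩
    haveI : FaithfulSMul B K := (faithfulSMul_iff_algebraMap_injective B K).mpr hinj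
    let F := FractionRing B
    letI : Algebra F K := FractionRing.liftAlgebra B K
    haveI : IsScalarTower B F K := inferInstance
    haveI : Algebra.FiniteType F K := Algebra.FiniteType.of_restrictScalars_finiteType B F K
    haveI : Module.Finite F K := finite_of_finite_type_of_isJacobsonRing F K
    obtain ⟨s, hs⟩ := hK.out
    classical
    have hint : ∀ z : K, ∃ m : nonZeroDivisors B, IsIntegral B (m • z) := fun z =>
      IsIntegral.exists_multiple_integral_of_isLocalization (nonZeroDivisors B) z (IsIntegral.of_finite F z)
    choose m hm using hint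
    let f : B := ∏ z ∈ s, (m z : B)
    have hf : f ≠ 0 := Finset.prod_ne_zero_iff.mpr fun z _ => nonZeroDivisors.coe_ne_zero _
    have hunit : ∀ z ∈ s, IsUnit (algebraMap B (Localization.Away f) (m z)) := fun z hz =>
      isUnit_of_dvd_unit (map_dvd _ (Finset.dvd_prod_of_mem (fun z => (m z : B)) hz))
        (IsLocalization.Away.algebraMap_isUnit f)
    let g : Localization.Away f →+* K := IsLocalization.Away.lift (g := algebraMap B K) f
      (isUnit_iff_ne_zero.mpr ((map_ne_zero_iff _ hinj).mpr hf))
    letI : Algebra (Localization.Away f) K := g.toAlgebra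
    haveI : IsScalarTower B (Localization.Away f) K :=
      IsScalarTower.of_algebraMap_eq fun b => (IsLocalization.Away.lift_eq f _ b).symm
    have hle : ∀ z ∈ (s : Set K), IsIntegral (Localization.Away f) z := fun z hz => by
      obtain ⟨w, hw⟩ := (hunit z hz).exists_left_inv
      have h1 : IsIntegral (Localization.Away f) ((m z : B) • z) := (hm z).tower_top
      have h2 := h1.smul w
      rwa [← IsScalarTower.algebraMap_smul (Localization.Away f) (m z : B) z, smul_smul, hw, one_smul] at h2
    haveI : Algebra.IsIntegral (Localization.Away f) K := by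
      refine ⟨fun z => ?_⟩
      have hz : z ∈ Algebra.adjoin B (s : Set K) := hs ▸ Algebra.mem_top
      induction hz using Algebra.adjoin_induction with
      | mem w hw => exact hle w hw
      | algebraMap r => rw [IsScalarTower.algebraMap_apply B (Localization.Away f) K]; exact isIntegral_algebraMap
      | add u v _ _ hu hv => exact hu.add hv
      | mul u v _ _ hu hv => exact hu.mul hv
    have hgi : Function.Injective (algebraMap (Localization.Away f) K) := by
      refine IsLocalization.lift_injective_iff _ |>.mpr fun a b => ?_
      rw [hinj.eq_iff, (IsLocalization.injective (Localization.Away f)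
        (powers_le_nonZeroDivisors_of_noZeroDivisors hf)).eq_iff]
    exact ⟨f, hf, isField_of_isIntegral_of_isField hgi (Field.toIsField K)⟩
  tfae_have 1 → 4 := by
    rintro ⟨f, hf, hF⟩
    have : ({⟨⊥, Ideal.bot_prime⟩} : Set (PrimeSpectrum B)) = PrimeSpectrum.basicOpen f := by
      ext q
      refine ⟨?_, fun hq => ?_⟩
      · rintro rfl; simpa using hf
      · letI := hF.toField
        have hd : Disjoint (Submonoid.powers f : Set B) (q.asIdeal : Set B) := by
          rw [Set.disjoint_left]; rintro _ ⟨n, rfl⟩ h
          exact hq (q.2.mem_of_pow_mem n h)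
        have h1 := IsLocalization.under_map_of_isPrime_disjoint (Submonoid.powers f) (Localization.Away f) q.2 hd
        have h2 := IsLocalization.isPrime_of_isPrime_disjoint (Submonoid.powers f) (Localization.Away f) q.asIdeal q.2 hd
        rw [((Ideal.eq_bot_or_top _).resolve_right h2.ne_top), Ideal.under,
          Ideal.comap_bot_of_injective _ (IsLocalization.injective (Localization.Away f)
            (powers_le_nonZeroDivisors_of_noZeroDivisors hf))] at h1
        exact PrimeSpectrum.ext h1.symm
    rw [this]
    exact (PrimeSpectrum.basicOpen f).isOpen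
  tfae_have 4 → 1 := by
    intro h
    obtain ⟨_, ⟨f, rfl⟩, hmem, hle⟩ := PrimeSpectrum.isTopologicalBasis_basic_opens.exists_subset_of_mem_open
      (Set.mem_singleton _) h
    have hf : f ≠ 0 := fun h0 => hmem (by simp [h0])
    refine ⟨f, hf, ?_⟩
    haveI : Nontrivial (Localization.Away f) :=
      (IsLocalization.injective (Localization.Away f) (powers_le_nonZeroDivisors_of_noZeroDivisors hf)).nontrivial
    by_contra hnot
    obtain ⟨q, hq0, hq⟩ := Ring.not_isField_iff_exists_prime.mp hnot
    obtain ⟨h1, h2⟩ := (IsLocalization.isPrime_iff_isPrime_disjoint (Submonoid.powers f) (Localization.Away f) q).mp hq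
    have h3 : (⟨q.under B, h1⟩ : PrimeSpectrum B) ∈ (PrimeSpectrum.basicOpen f : Set (PrimeSpectrum B)) :=
      fun hfq => Set.disjoint_left.mp h2 ⟨1, pow_one f⟩ hfq
    have h4 : q.under B = ⊥ := congrArg PrimeSpectrum.asIdeal (hle h3)
    exact hq0 (by rw [← IsLocalization.map_under (Submonoid.powers f) (Localization.Away f) q, h4, Ideal.map_bot])
  tfae_finish

end Groth.Agent.S4860
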