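import Groth.Statements.S4866
import Groth.Agent.FlatSeqLib.Open
import Groth.Agent.FlatLocus.ModFlat
import Groth.Agent.QCohLib.Coherent

set_option autoImplicit false
universe u
open EGA43

namespace Groth.Agent.S4866

open AlgebraicGeometry CategoryTheory Limits in
/-- Let Y be a locally Noetherian scheme, f : X ⟶ Y locally of finite type, F a coherent f-flat
O_X-module and g₁, …, gₙ sections of O_X over X. Then the set of points x of X, with y = f x, such
that the germs (gᵢ)_x form a weakly regular sequence on the fibre module F_x / m_y F_x (each gᵢ is a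
non-zero-divisor on the quotient by the preceding ones; the quotient by all of them may be zero) is
open in X. -/
theorem result {X Y : Scheme.{u}} [IsLocallyNoetherian Y] (f : X ⟶ Y)
    [LocallyOfFiniteType f] (F : X.Modules) (hF : Coh.IsCoh F) (hflat : FlatMod.IsFlatOver f F)
    (n : ℕ) (g : Fin n → Γ(X, ⊤)) :
    IsOpen {x : X |
      RingTheory.Sequence.IsWeaklyRegular
        (↑(F.presheaf.stalk x) ⧸ (Ideal.map (f.stalkMap x).hom (IsLocalRing.maximalIdeal ↑(Y.presheaf.stalk (f x))) •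
          (⊤ : Submodule ↑(X.presheaf.stalk x) ↑(F.presheaf.stalk x))))
        (List.ofFn fun i => (X.presheaf.germ ⊤ x trivial) (g i))} := by
  haveI : Coh.IsQCoh F := hF.1
  haveI : IsLocallyNoetherian X := LocallyOfFiniteType.isLocallyNoetherian f
  refine isOpen_iff_forall_mem_open.2 fun x hx => ?_
  obtain ⟨_, ⟨V : Y.Opens, (hV : IsAffineOpen V), rfl⟩, hyV, -⟩ :=
    Y.isBasis_affineOpens.exists_subset_of_mem_open (Set.mem_univ (f x)) isOpen_univ
  obtain ⟨_, ⟨W : X.Opens, (hW : IsAffineOpen W), rfl⟩, hxW, hWV : W ≤ f ⁻¹ᵁ V⟩ :=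
    X.isBasis_affineOpens.exists_subset_of_mem_open (show x ∈ f ⁻¹ᵁ V from hyV) (f ⁻¹ᵁ V).isOpen
  haveI : IsNoetherianRing Γ(Y, V) := IsLocallyNoetherian.component_noetherian ⟨V, hV⟩
  haveI : IsNoetherianRing Γ(X, W) := IsLocallyNoetherian.component_noetherian ⟨W, hW⟩
  letI := (f.appLE V W hWV).hom.toAlgebra
  haveI : Algebra.FiniteType Γ(Y, V) Γ(X, W) := LocallyOfFiniteType.finiteType_appLE f hV hW hWV
  haveI : Algebra.FinitePresentation Γ(Y, V) Γ(X, W) := Algebra.FinitePresentation.of_finiteType.1 inferInstance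
  letI := Module.compHom Γ(F, W) (f.appLE V W hWV).hom
  haveI : IsScalarTower Γ(Y, V) Γ(X, W) Γ(F, W) := .of_algebraMap_smul fun _ _ => rfl
  haveI : Module.Finite Γ(X, W) Γ(F, W) := QCohLib.finite_sections_of_isCoh hF hW
  haveI : Module.FinitePresentation Γ(X, W) Γ(F, W) := Module.finitePresentation_of_finite _ _
  let gs : List Γ(X, W) := List.ofFn fun i => X.presheaf.map (homOfLE (le_top : W ≤ ⊤)).op (g i)
  have key : ∀ (z : X) (hz : z ∈ W),
      RingTheory.Sequence.IsWeaklyRegular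
        (↑(F.presheaf.stalk z) ⧸ (Ideal.map (f.stalkMap z).hom (IsLocalRing.maximalIdeal ↑(Y.presheaf.stalk (f z))) •
          (⊤ : Submodule ↑(X.presheaf.stalk z) ↑(F.presheaf.stalk z))))
        (List.ofFn fun i => (X.presheaf.germ ⊤ z trivial) (g i)) ↔
      (Module.Flat Γ(Y, V) (LocalizedModule (hW.primeIdealOf ⟨z, hz⟩).asIdeal.primeCompl Γ(F, W)) ∧
        RingTheory.Sequence.IsWeaklyRegular (FlatSeqLib.LocFibre Γ(Y, V) (hW.primeIdealOf ⟨z, hz⟩) Γ(F, W)) gs) := by
    intro z hz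
    have hflatz := (FlatLocus.isFlatOverAt_iff f F hV hW hWV z hz).1 (hflat z)
    rw [and_iff_right hflatz]
    let q := hW.primeIdealOf ⟨z, hz⟩
    letI : Algebra Γ(X, W) (X.presheaf.stalk z) := TopCat.Presheaf.algebra_section_stalk X.presheaf ⟨z, hz⟩
    letI := Module.compHom (F.presheaf.stalk z) (X.presheaf.germ W z hz).hom
    haveI : IsScalarTower Γ(X, W) (X.presheaf.stalk z) (F.presheaf.stalk z) := .of_algebraMap_smul fun _ _ => rfl
    haveI := hW.isLocalization_stalk ⟨z, hz⟩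
    obtain ⟨l, hl⟩ := GenFree.exists_isLocalizedModule_germ F hW z hz
    haveI := hl
    have hyV' : f z ∈ V := hWV hz
    letI : Algebra Γ(Y, V) (Y.presheaf.stalk (f z)) := TopCat.Presheaf.algebra_section_stalk Y.presheaf ⟨f z, hyV'⟩
    haveI := hV.isLocalization_stalk ⟨f z, hyV'⟩
    have hcomm : ((f.stalkMap z).hom.comp (algebraMap Γ(Y, V) (Y.presheaf.stalk (f z)))) =
        (algebraMap Γ(X, W) (X.presheaf.stalk z)).comp (algebraMap Γ(Y, V) Γ(X, W)) := by
      ext r
      show (f.stalkMap z) (Y.presheaf.germ V (f z) hyV' r) = X.presheaf.germ W z hz (f.appLE V W hWV r)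
      rw [Scheme.Hom.germ_stalkMap_apply, Scheme.Hom.appLE, CommRingCat.comp_apply,
        X.presheaf.germ_res_apply]
    have hpq : (hV.primeIdealOf ⟨f z, hyV'⟩).asIdeal = Ideal.comap (algebraMap Γ(Y, V) Γ(X, W)) q.asIdeal := by
      rw [← IsLocalization.AtPrime.under_maximalIdeal (Y.presheaf.stalk (f z)) (hV.primeIdealOf ⟨f z, hyV'⟩).asIdeal,
        ← IsLocalization.AtPrime.under_maximalIdeal (X.presheaf.stalk z) q.asIdeal, Ideal.under, Ideal.under,
        Ideal.comap_comap, ← hcomm, ← Ideal.comap_comap]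
      congr 1
      exact (((IsLocalRing.local_hom_TFAE _).out 0 4 rfl rfl).mp inferInstance).symm
    have hJ : Ideal.map (f.stalkMap z).hom (IsLocalRing.maximalIdeal ↑(Y.presheaf.stalk (f z))) =
        ((Ideal.comap (algebraMap Γ(Y, V) Γ(X, W)) q.asIdeal).map (algebraMap Γ(Y, V) Γ(X, W))).map
          (algebraMap Γ(X, W) (X.presheaf.stalk z)) := by
      rw [← IsLocalization.AtPrime.map_eq_maximalIdeal (hV.primeIdealOf ⟨f z, hyV'⟩).asIdeal
        (Y.presheaf.stalk (f z)), Ideal.map_map, hcomm, ← Ideal.map_map, hpq]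
    let pB := (Ideal.comap (algebraMap Γ(Y, V) Γ(X, W)) q.asIdeal).map (algebraMap Γ(Y, V) Γ(X, W))
    let e := IsLocalizedModule.iso q.asIdeal.primeCompl l
    have hmap : Submodule.map e.toLinearMap (pB • ⊤ : Submodule Γ(X, W) _) =
        (Ideal.map (f.stalkMap z).hom (IsLocalRing.maximalIdeal ↑(Y.presheaf.stalk (f z))) •
          (⊤ : Submodule ↑(X.presheaf.stalk z) ↑(F.presheaf.stalk z))).restrictScalars Γ(X, W) := by
      rw [Submodule.map_smul'', Submodule.map_top, LinearEquiv.range, hJ]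
      ext w
      exact LocFlat.mem_smul_top_iff pB w
    have hgs : List.ofFn (fun i => (X.presheaf.germ ⊤ z trivial) (g i)) =
        gs.map (algebraMap Γ(X, W) (X.presheaf.stalk z)) := by
      rw [List.map_ofFn]
      refine congrArg List.ofFn (funext fun i => ?_)
      exact (X.presheaf.germ_res_apply (homOfLE (le_top : W ≤ ⊤)) z hz (g i)).symm
    rw [hgs, RingTheory.Sequence.isWeaklyRegular_map_algebraMap_iff]
    exact (((Submodule.Quotient.equiv _ _ e hmap).trans
      (Submodule.Quotient.restrictScalarsEquiv Γ(X, W) _)).isWeaklyRegular_congr gs).symm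
  refine ⟨hW.fromSpec '' {q | Module.Flat Γ(Y, V) (LocalizedModule q.asIdeal.primeCompl Γ(F, W)) ∧
      RingTheory.Sequence.IsWeaklyRegular (FlatSeqLib.LocFibre Γ(Y, V) q Γ(F, W)) gs}, ?_,
    hW.fromSpec.isOpenEmbedding.isOpenMap _ (FlatSeqLib.isOpen_fibre_weaklyRegular gs Γ(F, W)), ?_⟩
  · rintro _ ⟨q, hq, rfl⟩
    have hmem : hW.fromSpec q ∈ W := by
      rw [← SetLike.mem_coe, ← hW.range_fromSpec]; exact ⟨q, rfl⟩
    refine (key _ hmem).2 ?_
    rw [show hW.primeIdealOf ⟨hW.fromSpec q, hmem⟩ = q from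
      hW.fromSpec.isOpenEmbedding.injective (hW.fromSpec_primeIdealOf _)]
    exact hq
  · exact ⟨hW.primeIdealOf ⟨x, hxW⟩, (key x hxW).1 hx, hW.fromSpec_primeIdealOf _⟩

end Groth.Agent.S4866
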