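import Groth.Statements.S4867
import Groth.Agent.NoethDescLib.Basic

set_option autoImplicit false
set_option backward.isDefEq.respectTransparency false
universe u
open CategoryTheory AlgebraicGeometry
open EGA43

namespace Groth.Agent.S4867

/-- Let A be a commutative ring, f : X ⟶ Spec A a morphism of finite presentation, F a quasi-coherent
O_X-module of finite presentation and x a point of X. If F is f-flat at x, then there are a finitely
generated subring A₀ of A, a morphism of finite type f₀ : X₀ ⟶ Spec A₀, a coherent O_{X₀}-module F₀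
and a cartesian square q : X ⟶ X₀ over Spec A ⟶ Spec A₀ together with an isomorphism q^*F₀ ≅ F, such
that F₀ is f₀-flat at q x; and if F is f-flat, F₀ can be chosen f₀-flat. -/
theorem result {A : Type u} [CommRing A] {X : Scheme.{u}}
    (f : X ⟶ Spec (CommRingCat.of A)) [LocallyOfFinitePresentation f] [QuasiCompact f] [QuasiSeparated f]
    (F : X.Modules) [Coh.IsQCoh F] (hF : CohB1.IsFP F) (x : X) :
    (FlatMod.IsFlatOverAt f F x →
      ∃ (A₀ : Subalgebra ℤ A) (_ : A₀.FG) (X₀ : Scheme.{u}) (f₀ : X₀ ⟶ Spec (CommRingCat.of ↥A₀))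
        (_ : LocallyOfFiniteType f₀) (_ : QuasiCompact f₀) (F₀ : X₀.Modules) (_ : Coh.IsCoh F₀) (q : X ⟶ X₀)
        (_ : IsPullback q f f₀ (Spec.map (CommRingCat.ofHom A₀.val.toRingHom)))
        (_ : (Scheme.Modules.pullback q).obj F₀ ≅ F),
        FlatMod.IsFlatOverAt f₀ F₀ (q x)) ∧
    (FlatMod.IsFlatOver f F →
      ∃ (A₀ : Subalgebra ℤ A) (_ : A₀.FG) (X₀ : Scheme.{u}) (f₀ : X₀ ⟶ Spec (CommRingCat.of ↥A₀))
        (_ : LocallyOfFiniteType f₀) (_ : QuasiCompact f₀) (F₀ : X₀.Modules) (_ : Coh.IsCoh F₀) (q : X ⟶ X₀)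
        (_ : IsPullback q f f₀ (Spec.map (CommRingCat.ofHom A₀.val.toRingHom)))
        (_ : (Scheme.Modules.pullback q).obj F₀ ≅ F),
        FlatMod.IsFlatOver f₀ F₀) := by
  refine ⟨fun h => ?_, fun h => ?_⟩
  · obtain ⟨i, X₀, f₀, q, F₀, h1, h2, h3, h4, h5, ⟨e⟩, h7⟩ := Groth.Agent.NoethDescLib.exists_flatAt_subring (A := CommRingCat.of A) f F hF x h
    haveI := h1; haveI := h4
    exact ⟨i.unop.1, i.unop.2, X₀, f₀, (inferInstance : LocallyOfFiniteType f₀), h2, F₀,
      ⟨h4, Groth.Agent.ExactConstrLib.isFT_of_isFP h5⟩, q, h3, e, h7⟩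
  · obtain ⟨i, X₀, f₀, q, F₀, h1, h2, h3, h4, h5, ⟨e⟩, h7⟩ := Groth.Agent.NoethDescLib.exists_flat_subring (A := CommRingCat.of A) f F hF h
    haveI := h1; haveI := h4
    exact ⟨i.unop.1, i.unop.2, X₀, f₀, (inferInstance : LocallyOfFiniteType f₀), h2, F₀,
      ⟨h4, Groth.Agent.ExactConstrLib.isFT_of_isFP h5⟩, q, h3, e, h7⟩

end Groth.Agent.S4867
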