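import Groth.Statements.S4869
import Groth.Agent.GrFlatLib.Apply

set_option autoImplicit false
universe u
open TensorProduct
open EGA43

namespace Groth.Agent.S4869

open Groth.Agent

/-- Let A₀ be a commutative ring, (A_i) a directed system of A₀-algebras with colimit A, B₀ a finitely
presented A₀-algebra, J₀ a finitely generated ideal of B₀ and M₀ a finitely presented B₀-module; put
M = A ⊗_{A₀} M₀ and J = J₀B, and likewise M_i, J_i over each A_i. Then the associated graded module
gr_J(M) = ⊕_k J^k M / J^{k+1} M is flat over A if and only if, for some index i, gr_{J_i}(M_i) is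
flat over A_i. Flatness of the graded module is expressed through the equivalent condition that
every truncation M / J^k M (k ≥ 0) is flat (the pieces J^k M / J^{k+1} M are the kernels of the
surjections M / J^{k+1} M → M / J^k M), and J^k M is realised as the image of A ⊗_{A₀} J₀^k M₀ in A
⊗_{A₀} M₀. (The published statement also asserts that the canonical maps from gr_{J_i}(M_i) ⊗_{A_i}
A to gr_J(M) are then bijective; this row states only the equivalence.) -/
theorem result {A₀ : Type u} [CommRing A₀]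
    {ι : Type u} [Preorder ι] (G : ι → Type u) [∀ i, CommRing (G i)] [∀ i, Algebra A₀ (G i)]
    (g : ∀ i j, i ≤ j → G i →ₐ[A₀] G j)
    (A : Type u) [CommRing A] [Algebra A₀ A] [∀ i, Algebra (G i) A] [∀ i, IsScalarTower A₀ (G i) A]
    (hcolim : FlatCA.IsDirectedColimitRing G (fun i j h => (g i j h).toRingHom) A)
    {B₀ : Type u} [CommRing B₀] [Algebra A₀ B₀] [Algebra.FinitePresentation A₀ B₀]
    (J₀ : Ideal B₀) (hJ₀ : J₀.FG)
    (M₀ : Type u) [AddCommGroup M₀] [Module B₀ M₀] [Module A₀ M₀] [IsScalarTower A₀ B₀ M₀]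
    [Module.FinitePresentation B₀ M₀] :
    (∀ k : ℕ, Module.Flat A ((A ⊗[A₀] M₀) ⧸
        LinearMap.range (((J₀ ^ k • (⊤ : Submodule B₀ M₀)).restrictScalars A₀).subtype.baseChange A))) ↔
      ∃ i : ι, ∀ k : ℕ, Module.Flat (G i) ((G i ⊗[A₀] M₀) ⧸
        LinearMap.range (((J₀ ^ k • (⊤ : Submodule B₀ M₀)).restrictScalars A₀).subtype.baseChange (G i))) := by
  obtain ⟨S, _, _, _, B, _, _, _, J, M, _, _, _, _, _, he⟩ := GrFlatLib.exists_model J₀ hJ₀ M₀ (A₀ := A₀)
  letI : ∀ i, Algebra S (G i) := fun i => ((algebraMap A₀ (G i)).comp (algebraMap S A₀)).toAlgebra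
  letI : Algebra S A := ((algebraMap A₀ A).comp (algebraMap S A₀)).toAlgebra
  haveI : ∀ i, IsScalarTower S A₀ (G i) := fun i => .of_algebraMap_eq fun _ => rfl
  haveI : IsScalarTower S A₀ A := .of_algebraMap_eq fun _ => rfl
  haveI : ∀ i, IsScalarTower S (G i) A := fun i => .of_algebraMap_eq fun s =>
    IsScalarTower.algebraMap_apply A₀ (G i) A (algebraMap S A₀ s)
  constructor
  · intro h
    have hA : GrFlatLib.FlatQ S J M A := fun k => (GrFlatLib.flat_iff_model _ (he k).some A).mp (h k)
    obtain ⟨R, _, _, _, htower, _, hR⟩ := GrFlatLib.exists_flatQ_finiteType J M A hA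
    obtain ⟨i, ψ, hψ⟩ : ∃ (i : ι) (ψ : R →+* G i),
        ∀ s, ψ (algebraMap S R s) = algebraMap A₀ (G i) (algebraMap S A₀ s) := by
      obtain ⟨i, -, ψ, hψ, -⟩ := GrFlatLib.exists_lift_stage (FlatStage.sysOfDirected hcolim)
        hcolim.2.1.some R (algebraMap R A) fun s => (IsScalarTower.algebraMap_apply S R A s).symm
      exact ⟨i, ψ, hψ⟩
    letI : Algebra R (G i) := ψ.toAlgebra
    haveI : IsScalarTower S R (G i) := .of_algebraMap_eq fun s => (hψ s).symm
    refine ⟨i, fun k => (GrFlatLib.flat_iff_model _ (he k).some (G i)).mpr ?_⟩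
    haveI := hR k
    exact GrFlatLib.flat_base_change R (G i)
  · rintro ⟨i, h⟩ k
    haveI := (GrFlatLib.flat_iff_model _ (he k).some (G i)).mp (h k)
    exact (GrFlatLib.flat_iff_model _ (he k).some A).mpr (GrFlatLib.flat_base_change (G i) A)

end Groth.Agent.S4869
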