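import Groth.Statements.S4870
import Groth.Agent.GrFlatLib.Point

set_option autoImplicit false
universe u
open EGA43

namespace Groth.Agent.S4870

open Groth.Agent

theorem flat_trunc {A B : Type u} [CommRing A] [CommRing B] [Algebra A B] (J : Ideal B)
    (M : Type u) [AddCommGroup M] [Module B M] [Module A M] [IsScalarTower A B M]
    (hgr : ∀ k : ℕ, Module.Flat A
      (↥(J ^ k • (⊤ : Submodule B M)) ⧸ Submodule.comap (J ^ k • (⊤ : Submodule B M)).subtype (J ^ (k + 1) • ⊤)))
    (k : ℕ) : Module.Flat A (GrFlatLib.Q J M k) := by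
  induction k with
  | zero =>
    haveI : Subsingleton (GrFlatLib.Q J M 0) := Submodule.Quotient.subsingleton_iff.mpr
      (by rw [pow_zero, Ideal.one_eq_top, Submodule.top_smul])
    infer_instance
  | succ k ih =>
    let f : (↥(J ^ k • (⊤ : Submodule B M)) ⧸ Submodule.comap (J ^ k • (⊤ : Submodule B M)).subtype
        (J ^ (k + 1) • ⊤)) →ₗ[B] GrFlatLib.Q J M (k + 1) := Submodule.mapQ _ _ (Submodule.subtype _) le_rfl
    haveI := hgr k
    haveI := ih
    refine CAlgBasics.flat_of_exact (f := f.restrictScalars A) (g := (GrFlatLib.qmap J M k).restrictScalars A)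
      ?_ ?_ (GrFlatLib.qmap_surjective J M k)
    · rw [LinearMap.coe_restrictScalars, ← LinearMap.ker_eq_bot, Submodule.ker_mapQ]
      exact Submodule.mkQ_map_self _
    · intro x
      refine (GrFlatLib.exact_qmap J M k x).trans ?_
      constructor
      · rintro ⟨⟨_, m, hm, rfl⟩, rfl⟩
        exact ⟨Submodule.Quotient.mk ⟨m, hm⟩, rfl⟩
      · rintro ⟨y, rfl⟩
        obtain ⟨⟨m, hm⟩, rfl⟩ := Submodule.Quotient.mk_surjective _ y
        exact ⟨⟨_, m, hm, rfl⟩, rfl⟩

/-- Let A be a commutative ring, B a finitely presented A-algebra, J a finitely generated ideal of B and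
M a finitely presented B-module. If the associated graded module gr_J(M) is flat over A, that is
every J^k M / J^{k+1} M is a flat A-module, then M is flat over A at every point of V(J): for every
prime ideal q of B containing J, the localization M_q is a flat A-module. -/
theorem result {A B : Type u} [CommRing A] [CommRing B] [Algebra A B]
    [Algebra.FinitePresentation A B] (J : Ideal B) (hJ : J.FG)
    (M : Type u) [AddCommGroup M] [Module B M] [Module A M] [IsScalarTower A B M] [Module.FinitePresentation B M]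
    (hgr : ∀ k : ℕ, Module.Flat A
      (↥(J ^ k • (⊤ : Submodule B M)) ⧸ Submodule.comap (J ^ k • (⊤ : Submodule B M)).subtype (J ^ (k + 1) • ⊤)))
    (q : Ideal B) [q.IsPrime] (hq : J ≤ q) :
    Module.Flat A (LocalizedModule q.primeCompl M) := by
  obtain ⟨S, _, _, _, B₁, _, _, _, J₁, M₁, _, _, _, _, _, he, π, e, hπ, hJ₁, hbij, hlin⟩ :=
    GrFlatLib.exists_model' J hJ M (A₀ := A)
  have hA : GrFlatLib.FlatQ S J₁ M₁ A := fun k => by
    haveI := flat_trunc J M hgr k
    exact Module.Flat.of_linearEquiv
      ((he k).some.symm.trans (Submodule.Quotient.restrictScalarsEquiv A (J ^ k • (⊤ : Submodule B M))))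
  obtain ⟨R, _, _, _, htower, hft, hR⟩ := GrFlatLib.exists_flatQ_finiteType J₁ M₁ A hA
  refine GrFlatLib.flat_localized_semilinear π hπ e hbij hlin q ?_
  exact GrFlatLib.flat_localized_of_model J₁ M₁ R A hR ⟨q.comap π.toRingHom, inferInstance⟩
    fun x hx => hq (hJ₁ ▸ Ideal.mem_map_of_mem _ hx)

end Groth.Agent.S4870
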