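import Groth.Statements.S4873
import Mathlib
-- import your own Groth.Agent.* helpers here

set_option autoImplicit false
universe u
open CategoryTheory AlgebraicGeometry
open EGA43

namespace Groth.Agent.S4873

/-- Let (f_i : Z_i ⟶ X) be a family of morphisms. If the family is schematically dominant, i.e. a
section of O_X over an open V whose pullback to every f_i⁻¹(V) vanishes is zero, then the union of
the images f_i(Z_i) is dense in X. Conversely, if X is reduced and this union is dense, the family
is schematically dominant. -/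
theorem result {X : Scheme.{u}} {ι : Type u} (Z : ι → Scheme.{u})
    (f : ∀ i, Z i ⟶ X) :
    ((∀ (V : (X).Opens) (t : Γ(X, V)), (∀ i, (f i).app V t = 0) → t = 0) → Dense (⋃ i, Set.range (f i))) ∧
    (IsReduced X → Dense (⋃ i, Set.range (f i)) → (∀ (V : (X).Opens) (t : Γ(X, V)), (∀ i, (f i).app V t = 0) → t = 0)) := by
  refine ⟨fun h => ?_, fun hred hd V t ht => ?_⟩
  · rw [dense_iff_inter_open]
    intro V hV ⟨v, hv⟩
    by_contra hne
    rw [Set.not_nonempty_iff_eq_empty] at hne
    let V' : X.Opens := ⟨V, hV⟩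
    have he : ∀ i, (f i) ⁻¹ᵁ V' = ⊥ := fun i => by
      ext z
      simp only [Scheme.Hom.coe_preimage, Set.mem_preimage, TopologicalSpace.Opens.coe_bot,
        Set.mem_empty_iff_false, iff_false]
      intro hz
      have : (f i) z ∈ V ∩ ⋃ i, Set.range (f i) := ⟨hz, Set.mem_iUnion.2 ⟨i, z, rfl⟩⟩
      rw [hne] at this
      exact this
    have : Nonempty V' := ⟨⟨v, hv⟩⟩
    refine one_ne_zero (h V' 1 fun i => ?_)
    have : Subsingleton Γ(Z i, (f i) ⁻¹ᵁ V') := by
      rw [he i]; exact CommRingCat.subsingleton_of_isTerminal (Z i).sheaf.isTerminalOfEmpty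
    exact Subsingleton.elim _ _
  · rw [← basicOpen_eq_bot_iff]
    by_contra hne
    obtain ⟨v, hv⟩ : (X.basicOpen t : Set X).Nonempty := by
      rw [Set.nonempty_iff_ne_empty]
      exact fun h0 => hne (TopologicalSpace.Opens.ext h0)
    obtain ⟨y, hy, hyr⟩ := dense_iff_inter_open.1 hd _ (X.basicOpen t).2 ⟨v, hv⟩
    obtain ⟨i, z, rfl⟩ := Set.mem_iUnion.1 hyr
    have h2 : z ∈ (f i) ⁻¹ᵁ X.basicOpen t := hy
    rw [Scheme.preimage_basicOpen, ht i, Scheme.basicOpen_zero] at h2
    exact h2

end Groth.Agent.S4873
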