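import Groth.Statements.S4882
import Groth.Agent.QHomeoLib.Basic
import Mathlib
-- import your own Groth.Agent.* helpers here

set_option autoImplicit false
universe u
open EGA43

namespace Groth.Agent.S4882

/-- Let X be a Jacobson space and Z a locally quasi-constructible subset of X, i.e. every point of X has
an open neighbourhood U such that U ∩ Z is a finite union of locally closed subsets of X. Then the
subspace Z is a Jacobson space, and a point of Z is closed in Z if and only if it is closed in X. -/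
theorem result {X : Type u} [TopologicalSpace X] [JacobsonSpace X]
    (Z : Set X)
    (hZ : ∀ x : X, ∃ U : Set X, IsOpen U ∧ x ∈ U ∧
      ∃ T : Set (Set X), T.Finite ∧ (∀ t ∈ T, IsLocallyClosed t) ∧ U ∩ Z = ⋃₀ T) :
    JacobsonSpace ↥Z ∧ ∀ z : ↥Z, IsClosed ({z} : Set ↥Z) ↔ IsClosed ({(z : X)} : Set X) := by
  have hL : Groth.Agent.QHomeoLib.IsLQC Z := hZ
  have hcp : ∀ z : ↥Z, IsClosed ({z} : Set ↥Z) ↔ IsClosed ({(z : X)} : Set X) := by
    refine fun z => ⟨fun h => ?_, fun h => ?_⟩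
    · obtain ⟨t, ⟨U, F, hU, hF, rfl⟩, hzt, hts⟩ := hL.exists_locallyClosed z.2
      obtain ⟨w, ⟨⟨hwt, hwc⟩, hw⟩⟩ := nonempty_inter_closedPoints (Z := (U ∩ F) ∩ closure {(z : X)})
        ⟨z, hzt, subset_closure rfl⟩
        (IsLocallyClosed.inter ⟨U, F, hU, hF, rfl⟩ isClosed_closure.isLocallyClosed)
      have hm : (⟨w, hts hwt⟩ : Z) ∈ closure ({z} : Set Z) := by
        rw [closure_subtype, Set.image_singleton]; exact hwc
      rw [h.closure_eq] at hm
      rw [show (z : X) = w from (congrArg Subtype.val (Set.mem_singleton_iff.1 hm)).symm]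
      exact hw
    · have := h.preimage (continuous_subtype_val (p := (· ∈ Z)))
      rwa [← Set.image_singleton, Set.preimage_image_eq _ Subtype.val_injective] at this
  refine ⟨(jacobsonSpace_iff_locallyClosed (X := ↥Z)).2 fun S hS hS' => ?_, hcp⟩
  obtain ⟨U, F, hU, hF, rfl⟩ := hS'
  obtain ⟨U', hU', rfl⟩ := hU
  obtain ⟨F', hF', rfl⟩ := isClosed_induced_iff.1 hF
  obtain ⟨z, hzU, hzF⟩ := hS
  obtain ⟨t, ht, hzt, hts⟩ := hL.exists_locallyClosed z.2
  obtain ⟨w, ⟨⟨hwU, hwF⟩, hwt⟩, hw⟩ := nonempty_inter_closedPoints (Z := (U' ∩ F') ∩ t)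
    ⟨z, ⟨hzU, hzF⟩, hzt⟩ (IsLocallyClosed.inter ⟨U', F', hU', hF', rfl⟩ ht)
  exact ⟨⟨w, hts hwt⟩, ⟨hwU, hwF⟩, (hcp _).2 hw⟩

end Groth.Agent.S4882
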