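import Groth.Statements.S4884
import Groth.Agent.BranchInv.NormalAway
import Groth.Agent.BranchInv.Unibranch
import Groth.Agent.SteinConn.Unibranch
import Groth.Agent.CMFlatLib.Chart
-- import your own Groth.Agent.* helpers here

set_option autoImplicit false
universe u
open CategoryTheory AlgebraicGeometry
open EGA43

namespace Groth.Agent.S4884

open AlgebraicGeometry CategoryTheory Groth.Agent in
theorem aux {X Y : Scheme.{u}} (f : X ⟶ Y) [LocallyOfFinitePresentation f] [Flat f]
    (x : X) (hY : CAlg2.IsGeomUnibranch ↑(Y.presheaf.stalk (f x))) (hgood : BranchInv.GoodAt f x) :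
    CAlg2.IsGeomUnibranch ↑(X.presheaf.stalk x) := by
  obtain ⟨c⟩ := DimFormulaLib.exists_chart f x
  haveI : Algebra.FinitePresentation c.A c.B := CMFlatLib.chart_finitePresentation c
  haveI := GeomRk.lfp_specMap c.A c.B
  have hsq : IsPullback (𝟙 (Spec (.of c.B))) (GeomRk.specMap c.A c.B) (c.j ≫ f) c.i :=
    IsPullback.of_horiz_isIso_mono ⟨by rw [Category.id_comp]; exact c.w⟩
  haveI : Flat (GeomRk.specMap c.A c.B) := MorphismProperty.of_isPullback (P := @Flat) hsq inferInstance
  haveI : Module.Flat c.A c.B := RingHom.flat_algebraMap_iff.mp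
    ((HasRingHomProperty.Spec_iff (P := @Flat)).1 ‹Flat (GeomRk.specMap c.A c.B)›)
  have hq : BranchInv.GoodAt (GeomRk.specMap c.A c.B) c.q := by
    refine (BranchInv.goodAt_baseChange (c.j ≫ f) hsq c.q).2 inferInstance ?_
    show BranchInv.GoodAt (c.j ≫ f) c.q
    rw [BranchInv.goodAt_comp, c.hq]
    exact hgood
  let B := Localization.AtPrime c.q.asIdeal
  let A := Localization.AtPrime c.p.asIdeal
  letI : Algebra A B := Localization.AtPrime.algebraOfLiesOver c.p.asIdeal c.q.asIdeal
  haveI : IsLocalHom (algebraMap A B) := by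
    rw [Localization.AtPrime.IsLiesOverAlgebra.algebraMap_eq (p := c.p.asIdeal) (P := c.q.asIdeal)]
    exact Localization.isLocalHom_localRingHom _ _ _ _
  haveI : Module.Flat A B := (Module.flat_iff_of_isLocalization A c.p.asIdeal.primeCompl _).mpr inferInstance
  have hX : ∀ x' : X, c.j c.q = x' → Nonempty (X.presheaf.stalk x' ≃+* B) := by
    rintro _ rfl
    exact ⟨((asIso (c.j.stalkMap c.q)) ≪≫ (Spec.stalkIso (.of c.B) c.q)).commRingCatIsoToRingEquiv⟩
  have hY' : ∀ y : Y, c.i c.p = y → Nonempty (Y.presheaf.stalk y ≃+* A) := by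
    rintro _ rfl
    exact ⟨((asIso (c.i.stalkMap c.p)) ≪≫ (Spec.stalkIso (.of c.A) c.p)).commRingCatIsoToRingEquiv⟩
  obtain ⟨eX⟩ := hX x c.hq
  obtain ⟨eY⟩ := hY' (f x) c.hp
  refine SteinConn.isGeomUnibranch_of_ringEquiv eX.symm
    (BranchInv.isGeomUnibranch_of_flat A B (SteinConn.isGeomUnibranch_of_ringEquiv eY hY) fun P _ _ => ?_).1
  letI : Algebra c.A (CAlg2.normRed (A ⧸ P)) :=
    ((algebraMap A (CAlg2.normRed (A ⧸ P))).comp (algebraMap c.A A)).toAlgebra
  haveI : IsScalarTower c.A A (CAlg2.normRed (A ⧸ P)) := IsScalarTower.of_algebraMap_eq fun _ => rfl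
  refine BranchInv.isNormalRing_of_localized_base c.A A B _ c.p.asIdeal.primeCompl ?_
  obtain ⟨g, hg, hu⟩ := BranchInv.isNormalRing_tensor_of_goodAt c.A c.B c.q (Flat.stalkMap _ _) hq
    (CAlg2.normRed (A ⧸ P)) (BranchInv.isNormalRing_normRed P)
  exact BranchInv.isNormalRing_of_normalOff_tensor c.A B _ c.q.asIdeal.primeCompl hg hu


/-- Let f : X ⟶ Y be locally of finite presentation and x a point of X with y = f x. If O_{Y,y} is
geometrically unibranch and f is normal at x — that is, f is flat at x and the fibre X_y is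
geometrically normal at x: for every finite field extension K of k(y), the local rings of X_y
⊗_{k(y)} K at the points above x are integrally closed domains — then O_{X,x} is geometrically
unibranch. -/
theorem result {X Y : Scheme.{u}} (f : X ⟶ Y) [LocallyOfFinitePresentation f]
    (x : X) (hY : CAlg2.IsGeomUnibranch ↑(Y.presheaf.stalk (f x))) (hflat : (f.stalkMap x).hom.Flat)
    (hnorm : ∀ (K : Type u) [Field K] [Algebra (IsLocalRing.ResidueField ↑(Y.presheaf.stalk (f x))) K],
      Module.Finite (IsLocalRing.ResidueField ↑(Y.presheaf.stalk (f x))) K →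
      ∀ x' : ↥(FBase.bc (f.fiberToSpecResidueField (f x)) K),
        FBase.bcπ (f.fiberToSpecResidueField (f x)) K x' = f.asFiber x →
        IsDomain ↑((FBase.bc (f.fiberToSpecResidueField (f x)) K).presheaf.stalk x') ∧
          IsIntegrallyClosed ↑((FBase.bc (f.fiberToSpecResidueField (f x)) K).presheaf.stalk x')) :
    CAlg2.IsGeomUnibranch ↑(X.presheaf.stalk x) := by
  have hgood : Groth.Agent.BranchInv.GoodAt f x := (Groth.Agent.BranchInv.goodAt_iff_fin f x).1 hnorm
  let U : X.Opens := ⟨{z | (f.stalkMap z).hom.Flat}, Groth.Agent.FlatLocus.isOpen_flat_stalkMap f⟩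
  haveI : AlgebraicGeometry.Flat (U.ι ≫ f) := (AlgebraicGeometry.Flat.iff_flat_stalkMap _).2 fun z => by
    rw [Scheme.Hom.stalkMap_comp]
    exact RingHom.Flat.respectsIso.cancel_right_isIso _ (U.ι.stalkMap z) |>.2 z.2
  let z : ↥(U : Scheme.{u}) := ⟨x, hflat⟩
  have h := aux (U.ι ≫ f) z hY ((Groth.Agent.BranchInv.goodAt_comp U.ι f z).2 hgood)
  exact Groth.Agent.SteinConn.isGeomUnibranch_of_ringEquiv (U.stalkIso z).commRingCatIsoToRingEquiv h

end Groth.Agent.S4884
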