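import Groth.Statements.S4885
import Mathlib
-- import your own Groth.Agent.* helpers here

set_option autoImplicit false
universe u
open EGA43

namespace Groth.Agent.S4885

/-- Every finite algebra A' over a commutative ring A is a directed colimit (filtered inductive limit)
of A-algebras which are finite and of finite presentation over A. -/
theorem result (A A' : Type u) [CommRing A] [CommRing A']
    [Algebra A A'] [Module.Finite A A'] :
    ∃ (ι : Type u) (_ : Preorder ι) (G : ι → Type u) (_ : ∀ i, CommRing (G i)) (_ : ∀ i, Algebra A (G i))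
      (g : ∀ i j, i ≤ j → G i →ₐ[A] G j) (_ : ∀ i, Algebra (G i) A') (_ : ∀ i, IsScalarTower A (G i) A'),
      FlatCA.IsDirectedColimitRing G (fun i j h => (g i j h).toRingHom) A' ∧
        ∀ i, Module.Finite A (G i) ∧ Algebra.FinitePresentation A (G i) := by
  classical
  obtain ⟨n, a, ha⟩ := Module.Finite.exists_fin (R := A) (M := A')
  choose p hpm hp using fun i => Algebra.IsIntegral.isIntegral (R := A) (a i)
  let P := MvPolynomial (Fin n) A
  let f : P →ₐ[A] A' := MvPolynomial.aeval a
  have hf : Function.Surjective f := by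
    rw [← AlgHom.range_eq_top, ← top_le_iff]
    intro y _
    have hy : y ∈ Submodule.span A (Set.range a) := by rw [ha]; trivial
    refine (Submodule.span_le (p := Subalgebra.toSubmodule f.range)).mpr ?_ hy
    rintro _ ⟨i, rfl⟩
    exact ⟨MvPolynomial.X i, MvPolynomial.aeval_X _ _⟩
  let q : Fin n → P := fun i => (p i).aeval (MvPolynomial.X i)
  have hq : ∀ i, f (q i) = 0 := fun i => by
    rw [← Polynomial.aeval_algHom_apply]
    rw [show f (MvPolynomial.X i) = a i from MvPolynomial.aeval_X a i, Polynomial.aeval_def]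
    exact hp i
  let J : Finset (RingHom.ker f.toRingHom) → Ideal P := fun s =>
    Ideal.span ((Finset.univ.image q ∪ s.image (fun z : RingHom.ker f.toRingHom => (z : P)) : Finset P) : Set P)
  have hJle : ∀ s, J s ≤ RingHom.ker f.toRingHom := fun s => Ideal.span_le.mpr (by
    intro z hz
    rcases Finset.mem_union.mp hz with h | h
    · obtain ⟨i, -, rfl⟩ := Finset.mem_image.mp h; exact hq i
    · obtain ⟨w, -, rfl⟩ := Finset.mem_image.mp h; exact w.2)
  have hmono : ∀ s t, s ≤ t → J s ≤ J t := fun s t h => Ideal.span_mono (by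
    rw [Finset.coe_subset]; exact Finset.union_subset_union le_rfl (Finset.image_subset_image h))
  let g : ∀ s t, s ≤ t → (P ⧸ J s) →ₐ[A] (P ⧸ J t) := fun s t h =>
    Ideal.Quotient.factorₐ A (hmono s t h)
  let e : ∀ s, (P ⧸ J s) →ₐ[A] A' := fun s => Ideal.Quotient.liftₐ (J s) f (fun z hz => hJle s hz)
  letI algG : ∀ s, Algebra (P ⧸ J s) A' := fun s => (e s).toRingHom.toAlgebra
  refine ⟨Finset (RingHom.ker f.toRingHom), inferInstance, fun s => P ⧸ J s, inferInstance, inferInstance, g,
    algG, fun s => IsScalarTower.of_algebraMap_eq fun r => ((e s).commutes r).symm,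
    ⟨⟨fun s t => ⟨s ∪ t, Finset.subset_union_left, Finset.subset_union_right⟩⟩, ⟨∅⟩, ?_, ?_, ?_, ?_, ?_⟩, ?_⟩
  · intro s; refine RingHom.ext fun x => ?_
    obtain ⟨x, rfl⟩ := Ideal.Quotient.mk_surjective x; rfl
  · intro i j k hij hjk; refine RingHom.ext fun x => ?_
    obtain ⟨x, rfl⟩ := Ideal.Quotient.mk_surjective x; rfl
  · intro i j h; refine RingHom.ext fun x => ?_
    obtain ⟨x, rfl⟩ := Ideal.Quotient.mk_surjective x; rfl
  · intro y
    obtain ⟨x, hx⟩ := hf y
    exact ⟨∅, Ideal.Quotient.mk _ x, hx⟩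
  · intro i x hx
    obtain ⟨x, rfl⟩ := Ideal.Quotient.mk_surjective x
    refine ⟨insert ⟨x, hx⟩ i, Finset.subset_insert _ _, ?_⟩
    exact Ideal.Quotient.eq_zero_iff_mem.mpr (Ideal.subset_span (Finset.mem_coe.mpr
      (Finset.mem_union_right _ (Finset.mem_image.mpr ⟨⟨x, hx⟩, Finset.mem_insert_self _ _, rfl⟩))))
  · intro s
    refine ⟨?_, Algebra.FinitePresentation.quotient ⟨_, rfl⟩⟩
    have hint : Algebra.IsIntegral A (P ⧸ J s) := ⟨fun x => by
      obtain ⟨x, rfl⟩ := Ideal.Quotient.mk_surjective x
      have hX : ∀ i, IsIntegral A (Ideal.Quotient.mkₐ A (J s) (MvPolynomial.X i)) := fun i => ⟨p i, hpm i, by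
        rw [← Polynomial.aeval_def, Polynomial.aeval_algHom_apply]
        exact Ideal.Quotient.eq_zero_iff_mem.mpr (Ideal.subset_span (Finset.mem_coe.mpr
          (Finset.mem_union_left _ (Finset.mem_image_of_mem q (Finset.mem_univ i)))))⟩
      induction x using MvPolynomial.induction_on with
      | C r => exact isIntegral_algebraMap (R := A) (A := P ⧸ J s) (x := r)
      | add a b ha hb => rw [map_add]; exact ha.add hb
      | mul_X a i ha => rw [map_mul]; exact ha.mul (hX i)⟩
    haveI := hint
    exact Algebra.IsIntegral.finite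

end Groth.Agent.S4885
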