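import Groth.Statements.S4888
import Groth.Agent.JacEquidimLib.Basic
import Groth.Agent.NoethPtsLib.Basic

set_option autoImplicit false
set_option maxHeartbeats 1000000
universe u
open CategoryTheory AlgebraicGeometry
open EGA43

namespace Groth.Agent.S4888

open Topology TopologicalSpace in
theorem closure_subtype_preimage {T : Type u} [TopologicalSpace T] {W : Set T} (v : W) :
    (closure {v} : Set W) = Subtype.val ⁻¹' closure ({v.1} : Set T) := by
  rw [IsInducing.subtypeVal.closure_eq_preimage_closure_image, Set.image_singleton]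

/-- The trace of a set on a subspace. -/
def homeoPre {T : Type u} [TopologicalSpace T] (Y A : Set T) : ↥(Y ∩ A) ≃ₜ ↥(Subtype.val ⁻¹' A : Set ↥Y) where
  toFun t := ⟨⟨t.1, t.2.1⟩, t.2.2⟩
  invFun t := ⟨t.1.1, t.1.2, t.2⟩
  left_inv _ := rfl
  right_inv _ := rfl
  continuous_toFun := (continuous_subtype_val.subtype_mk _).subtype_mk _
  continuous_invFun := (continuous_subtype_val.comp continuous_subtype_val).subtype_mk _

open Topology TopologicalSpace in
/-- Let X be a locally Noetherian Jacobson scheme whose local rings are universally catenary and whose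
irreducible components are equidimensional (for every irreducible component X' and closed point x of
X', dim X' equals the dimension of the space of generizations of x in X'); let Y be a closed subset
of X and x a point of Y. Then dim_x(Y) = dim(U ∩ Y) = dim cl{x} + codim(cl{x}, Y) = sup_i dim(Y_i);
that is, the local dimension of Y at x equals the dimension of the closure of x plus the codimension
of that closure in Y (the Krull dimension of the space of generizations of x in Y), equals the
supremum of the dimensions of the irreducible components Y_i of Y through x, and equals dim(U ∩ Y)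
for every open neighbourhood U of x meeting no irreducible component of Y that avoids x. (The
published statement assumes only the Jacobson and universally-catenary conditions; its proof applies
the dimension formula for dense opens to the irreducible components, which needs their
equidimensionality, and for an irreducible Noetherian Jacobson scheme with universally catenary
local rings having two closed points with local rings of different dimensions n − 1 and n — such
schemes exist — the two sides differ at the first of these points; so equidimensionality of the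
components is assumed here.) -/
theorem result (X : Scheme.{u}) [IsLocallyNoetherian X] [JacobsonSpace X]
    (h2 : ∀ x : X, CAlg.IsUniversallyCatenary (X.presheaf.stalk x))
    (h3 : ∀ X' ∈ irreducibleComponents (X : Type u), ∀ x ∈ X', IsClosed ({x} : Set X) →
      topologicalKrullDim (↥X' : Type u) = topologicalKrullDim ↥{t : X | t ∈ X' ∧ t ⤳ x})
    (Y : Set X) (hY : IsClosed Y) (x : X) (hx : x ∈ Y) :
    FlatMor.localDim ↥Y ⟨x, hx⟩ =
        topologicalKrullDim ↥(closure ({x} : Set X)) + topologicalKrullDim ↥{t : X | t ∈ Y ∧ t ⤳ x} ∧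
      FlatMor.localDim ↥Y ⟨x, hx⟩ =
        ⨆ C ∈ {C : Set ↥Y | C ∈ irreducibleComponents ↥Y ∧ (⟨x, hx⟩ : ↥Y) ∈ C}, topologicalKrullDim ↥C ∧
      ∀ U : Set X, IsOpen U → x ∈ U →
        (∀ C ∈ irreducibleComponents ↥Y, (⟨x, hx⟩ : ↥Y) ∉ C → Disjoint (Subtype.val ⁻¹' U) C) →
        topologicalKrullDim ↥(U ∩ Y) = FlatMor.localDim ↥Y ⟨x, hx⟩ := by
  let D : WithBot ℕ∞ := ⨆ c ∈ {c : X | c ∈ Y ∧ c ⤳ x}, topologicalKrullDim ↥(closure ({c} : Set X))
  have hgenY : ∀ (T : Set X), closure (Y ∩ T) ⊆ Y := fun T => closure_minimal Set.inter_subset_left hY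
  -- the sum
  have hsum : D = topologicalKrullDim ↥(closure ({x} : Set X)) + topologicalKrullDim ↥{t : X | t ∈ Y ∧ t ⤳ x} := by
    obtain ⟨p, hp, hpc⟩ := JacEquidimLib.exists_closed_specialization x
    rw [JacEquidimLib.dim_closure_eq_dist h2 h3 hp hpc]
    have hW : topologicalKrullDim ↥{t : X | t ∈ Y ∧ t ⤳ x} =
        ((⨆ c : {c : X // c ∈ Y ∧ c ⤳ x}, CatSpaceLib.dist (CatSpaceLib.ofPoint x) (CatSpaceLib.ofPoint c.1) : ℕ∞) :
          WithBot ℕ∞) := by
      refine le_antisymm ?_ ?_
      · rw [topologicalKrullDim]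
        refine iSup_le fun s => ?_
        let e := CatSpaceLib.mapEmb (Subtype.val : ↥{t : X | t ∈ Y ∧ t ⤳ x} → X) IsInducing.subtypeVal
        have hgen := JacEquidimLib.exists_generic_sub {t : X | t ∈ Y ∧ t ⤳ x} fun t w ht hwt hw =>
          ⟨closure_minimal (fun y hy => hy.1) hY hw, hwt.trans ht.2⟩
        obtain ⟨w, hw, hwe⟩ := hgen s.last
        obtain ⟨v, hv, hve⟩ := hgen s.head
        refine WithBot.coe_le_coe.2 (le_iSup_of_le ⟨w, hw.1, hw.2⟩ ?_)
        refine JacEquidimLib.length_le_dist (s.map e e.strictMono) ?_ ?_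
        · rw [LTSeries.head_map, show e s.head = _ from hve]
          exact CatSpaceLib.ofPoint_le.2 hv.2
        · rw [LTSeries.last_map]
          exact hwe.le
      · haveI : Nonempty {c : X // c ∈ Y ∧ c ⤳ x} := ⟨⟨x, hx, specializes_rfl⟩⟩
        rw [WithBot.coe_iSup (OrderTop.bddAbove _)]
        refine iSup_le fun c => ?_
        rw [← JacEquidimLib.topologicalKrullDim_interval c.2.2]
        exact (IsEmbedding.inclusion fun t ht =>
          (⟨closure_minimal (Set.singleton_subset_iff.2 c.2.1) hY ht.1, ht.2⟩ : t ∈ Y ∧ t ⤳ x)).isInducing.topologicalKrullDim_le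
    haveI : Nonempty {c : X // c ∈ Y ∧ c ⤳ x} := ⟨⟨x, hx, specializes_rfl⟩⟩
    rw [hW, ← WithBot.coe_add, ENat.add_iSup, WithBot.coe_iSup (OrderTop.bddAbove _)]
    show (⨆ c ∈ {c : X | c ∈ Y ∧ c ⤳ x}, _) = _
    rw [iSup_subtype']
    refine iSup_congr fun c => ?_
    rw [WithBot.coe_add, ← JacEquidimLib.dim_closure_eq_dist h2 h3 hp hpc]
    exact JacEquidimLib.dim_closure_eq_add h2 h3 c.2.2
  -- lower bound near `x`
  have hge : ∀ U : Set X, IsOpen U → x ∈ U → D ≤ topologicalKrullDim ↥(U ∩ Y) := fun U hU hxU => by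
    refine iSup₂_le fun c hc => ?_
    have hcU : c ∈ U := hc.2.mem_open hU hxU
    obtain ⟨p, ⟨hpc', hpU⟩, hpc⟩ := nonempty_inter_closedPoints (Z := closure ({c} : Set X) ∩ U)
      ⟨c, subset_closure rfl, hcU⟩ (isClosed_closure.isLocallyClosed.inter hU.isLocallyClosed)
    have hcp : c ⤳ p := specializes_iff_mem_closure.2 hpc'
    rw [JacEquidimLib.dim_closure_eq_dist h2 h3 hcp hpc, ← JacEquidimLib.topologicalKrullDim_interval hcp]
    exact (IsEmbedding.inclusion fun t ht =>
      (⟨ht.2.mem_open hU hpU, closure_minimal (Set.singleton_subset_iff.2 hc.1) hY ht.1⟩ : t ∈ U ∩ Y)).isInducing.topologicalKrullDim_le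
  -- upper bound
  have hle : ∀ U : Set X, IsOpen U → (∀ y ∈ U ∩ Y, ∀ η ∈ Y, η ⤳ y → (∀ v ∈ Y, v ⤳ η → v = η) → η ⤳ x) →
      topologicalKrullDim ↥(U ∩ Y) ≤ D := fun U hU hcond => by
    refine JacEquidimLib.topologicalKrullDim_le_sub _ _ fun t w ht hwt hw => ?_
    have hwY : w ∈ Y := closure_minimal Set.inter_subset_right hY hw
    obtain ⟨η, hη, hmax, hηw⟩ := NoethPtsLib.exists_maximal_generization Y w hwY
    exact ⟨η, hηw, le_iSup₂ (f := fun c (_ : c ∈ {c : X | c ∈ Y ∧ c ⤳ x}) =>
      topologicalKrullDim ↥(closure ({c} : Set X))) η ⟨hη, hcond w ⟨hwt.mem_open hU ht.1, hwY⟩ η hη hηw hmax⟩⟩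
  haveI : QuasiSober ↥Y := hY.isClosedEmbedding_subtypeVal.quasiSober
  -- components
  have hcomp : ∀ η : X, ∀ hη : η ∈ Y, (∀ v ∈ Y, v ⤳ η → v = η) →
      (Subtype.val ⁻¹' closure ({η} : Set X) : Set ↥Y) ∈ irreducibleComponents ↥Y := fun η hη hmax => by
    have he : (Subtype.val ⁻¹' closure ({η} : Set X) : Set ↥Y) = closure {(⟨η, hη⟩ : ↥Y)} := by
      rw [closure_subtype_preimage]
    rw [he]
    refine ⟨isIrreducible_singleton.closure, fun T hT hTle => ?_⟩
    obtain ⟨v, hv⟩ := QuasiSober.sober hT.closure isClosed_closure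
    have hvη : v ⤳ (⟨η, hη⟩ : ↥Y) := hv.specializes (subset_closure (hTle (subset_closure rfl)))
    have := hmax v.1 v.2 (hvη.map continuous_subtype_val)
    rw [show v = ⟨η, hη⟩ from Subtype.ext this] at hv
    rw [hv.def]
    exact subset_closure
  have hcompgen : ∀ C ∈ irreducibleComponents ↥Y, ∃ η : X, ∃ hη : η ∈ Y,
      C = Subtype.val ⁻¹' closure ({η} : Set X) := fun C hC => by
    obtain ⟨v, hv⟩ := QuasiSober.sober hC.1 (isClosed_of_mem_irreducibleComponents C hC)
    exact ⟨v.1, v.2, by rw [← hv.def]; exact closure_subtype_preimage v⟩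
  have hloc : FlatMor.localDim ↥Y ⟨x, hx⟩ = D := by
    refine le_antisymm ?_ (le_iInf fun V => ?_)
    · obtain ⟨U₀, hU₀, hxU₀, -⟩ := exists_isAffineOpen_mem_and_subset (X := X) (x := x) (U := ⊤) trivial
      haveI : IsNoetherianRing Γ(X, U₀) := IsLocallyNoetherian.component_noetherian ⟨U₀, hU₀⟩
      haveI : NoetherianSpace ↥U₀ := noetherianSpace_of_isAffineOpen U₀ hU₀
      haveI : NoetherianSpace ↥((U₀ : Set X) ∩ Y) :=
        (IsEmbedding.inclusion (Set.inter_subset_left : (U₀ : Set X) ∩ Y ⊆ U₀)).isInducing.noetherianSpace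
      let F : Set X := {η | η ∈ Y ∧ η ∈ U₀ ∧ (∀ v ∈ Y, v ⤳ η → v = η) ∧ ¬ η ⤳ x}
      have hFfin : F.Finite := by
        have hfin := NoetherianSpace.finite_irreducibleComponents (α := ↥((U₀ : Set X) ∩ Y))
        refine Set.Finite.of_finite_image (f := fun η => (Subtype.val ⁻¹' closure ({η} : Set X) :
          Set ↥((U₀ : Set X) ∩ Y))) (hfin.subset ?_) ?_
        · rintro _ ⟨η, ⟨hη, hηU, hmax, -⟩, rfl⟩
          have he : (Subtype.val ⁻¹' closure ({η} : Set X) : Set ↥((U₀ : Set X) ∩ Y)) =
              closure {(⟨η, hηU, hη⟩ : ↥((U₀ : Set X) ∩ Y))} := by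
            rw [closure_subtype_preimage]
          show (Subtype.val ⁻¹' closure ({η} : Set X) : Set ↥((U₀ : Set X) ∩ Y)) ∈ irreducibleComponents _
          rw [he]
          refine ⟨isIrreducible_singleton.closure, fun T hT hTle => ?_⟩
          obtain ⟨v, hv⟩ := QuasiSober.sober ((hT.closure).image Subtype.val continuous_subtype_val.continuousOn).closure
            isClosed_closure
          intro t ht
          have hvη : v ⤳ η := hv.specializes (subset_closure ⟨_, subset_closure (hTle (subset_closure rfl)), rfl⟩)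
          have hvY : v ∈ Y := by
            have h1 : v ∈ closure (Subtype.val '' closure T) := hv.mem
            exact closure_minimal (by rintro _ ⟨y, -, rfl⟩; exact y.2.2) hY h1
          have h2 : η ⤳ t.1 := hmax v hvY hvη ▸ hv.specializes (subset_closure ⟨t, subset_closure ht, rfl⟩)
          exact specializes_iff_mem_closure.1 ((subtype_specializes_iff _ _).2 h2)
        · intro a ha b hb hab
          have h1 : b ⤳ a := by
            have : (⟨a, ha.2.1, ha.1⟩ : ↥((U₀ : Set X) ∩ Y)) ∈
                (Subtype.val ⁻¹' closure ({b} : Set X) : Set ↥((U₀ : Set X) ∩ Y)) := by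
              dsimp only at hab
              rw [← hab]
              exact subset_closure rfl
            exact specializes_iff_mem_closure.2 this
          exact (ha.2.2.1 b hb.1 h1).symm
      have hZ : IsClosed (⋃ η ∈ F, closure ({η} : Set X)) := hFfin.isClosed_biUnion fun _ _ => isClosed_closure
      let U : Set X := (U₀ : Set X) \ ⋃ η ∈ F, closure ({η} : Set X)
      have hxU : x ∈ U := ⟨hxU₀, by
        simp only [Set.mem_iUnion, not_exists]
        exact fun η hη h => hη.2.2.2 (specializes_iff_mem_closure.2 h)⟩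
      refine iInf_le_of_le ⟨⟨Subtype.val ⁻¹' U, (U₀.isOpen.sdiff hZ).preimage continuous_subtype_val⟩, hxU⟩ ?_
      refine le_trans (le_of_eq ?_) (hle U (U₀.isOpen.sdiff hZ) fun y hy η hη hηy hmax => ?_)
      · exact ((Homeomorph.setCongr (Set.inter_comm U Y)).isHomeomorph.topologicalKrullDim_eq.trans
          (homeoPre Y U).isHomeomorph.topologicalKrullDim_eq).symm
      · by_contra hne
        exact hy.1.2 (Set.mem_biUnion (show η ∈ F from ⟨hη, hηy.mem_open U₀.isOpen hy.1.1, hmax, hne⟩)
          (specializes_iff_mem_closure.1 hηy))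
    · obtain ⟨U, hU, hUV⟩ := isOpen_induced_iff.1 V.1.isOpen
      have hxU : x ∈ U := by
        have : (⟨x, hx⟩ : ↥Y) ∈ Subtype.val ⁻¹' U := hUV ▸ V.2
        exact this
      refine (hge U hU hxU).trans (le_of_eq ?_)
      rw [show topologicalKrullDim ↥(V.1 : Set ↥Y) = topologicalKrullDim ↥(Subtype.val ⁻¹' U : Set ↥Y) by rw [hUV]]
      exact (Homeomorph.setCongr (Set.inter_comm U Y)).isHomeomorph.topologicalKrullDim_eq.trans
        (homeoPre Y U).isHomeomorph.topologicalKrullDim_eq
  rw [hloc]
  refine ⟨hsum, le_antisymm (iSup₂_le fun c hc => ?_) (iSup₂_le fun C hC => ?_), fun U hU hxU hdisj => ?_⟩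
  · obtain ⟨η, hη, hmax, hηc⟩ := NoethPtsLib.exists_maximal_generization Y c hc.1
    refine le_trans ?_ (le_iSup₂ (f := fun C (_ : C ∈ {C : Set ↥Y | C ∈ irreducibleComponents ↥Y ∧ (⟨x, hx⟩ : ↥Y) ∈ C}) =>
      topologicalKrullDim ↥C) _ ⟨hcomp η hη hmax, specializes_iff_mem_closure.1 (hηc.trans hc.2)⟩)
    rw [← (homeoPre Y (closure ({η} : Set X))).isHomeomorph.topologicalKrullDim_eq]
    exact (IsEmbedding.inclusion fun t ht =>
      (⟨closure_minimal (Set.singleton_subset_iff.2 hc.1) hY ht, (hηc.trans (specializes_iff_mem_closure.2 ht)) |>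
        specializes_iff_mem_closure.1⟩ : t ∈ Y ∩ closure {η})).isInducing.topologicalKrullDim_le
  · obtain ⟨η, hη, rfl⟩ := hcompgen C hC.1
    refine le_trans ?_ (le_iSup₂ (f := fun c (_ : c ∈ {c : X | c ∈ Y ∧ c ⤳ x}) =>
      topologicalKrullDim ↥(closure ({c} : Set X))) η ⟨hη, specializes_iff_mem_closure.2 hC.2⟩)
    rw [← (homeoPre Y (closure ({η} : Set X))).isHomeomorph.topologicalKrullDim_eq]
    exact (IsEmbedding.inclusion (Set.inter_subset_right : Y ∩ closure {η} ⊆ closure {η})).isInducing.topologicalKrullDim_le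
  · refine le_antisymm (hle U hU fun y hy η hη hηy hmax => ?_) (hge U hU hxU)
    by_contra hne
    refine Set.disjoint_left.1 (hdisj _ (hcomp η hη hmax) fun h => hne (specializes_iff_mem_closure.2 h))
      (show (⟨y, hy.2⟩ : ↥Y) ∈ Subtype.val ⁻¹' U from hy.1) (specializes_iff_mem_closure.1 hηy)

end Groth.Agent.S4888
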