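import Groth.Statements.S4892
import Groth.Agent.GrFlatLib.Locus

set_option autoImplicit false
universe u
open TensorProduct
open EGA43

namespace Groth.Agent.S4892

open Groth.Agent

set_option backward.isDefEq.respectTransparency false
set_option synthInstance.maxHeartbeats 400000
set_option maxHeartbeats 1000000

attribute [local instance] Algebra.TensorProduct.rightAlgebra

theorem flat_trunc {A B : Type u} [CommRing A] [CommRing B] [Algebra A B] (J : Ideal B)
    (M : Type u) [AddCommGroup M] [Module B M] [Module A M] [IsScalarTower A B M]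
    (hgr : ∀ k : ℕ, Module.Flat A
      (↥(J ^ k • (⊤ : Submodule B M)) ⧸ Submodule.comap (J ^ k • (⊤ : Submodule B M)).subtype (J ^ (k + 1) • ⊤)))
    (k : ℕ) : Module.Flat A (GrFlatLib.Q J M k) := by
  induction k with
  | zero =>
    haveI : Subsingleton (GrFlatLib.Q J M 0) := Submodule.Quotient.subsingleton_iff.mpr
      (by rw [pow_zero, Ideal.one_eq_top, Submodule.top_smul])
    infer_instance
  | succ k ih =>
    haveI := hgr k
    haveI := ih
    haveI : Module.Flat A (GrFlatLib.grk J M k) :=
      Module.Flat.of_linearEquiv ((GrFlatLib.pieceEquiv J M k).restrictScalars A).symm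
    exact CAlgBasics.flat_of_exact (f := (GrFlatLib.grk J M k).subtype.restrictScalars A)
      (g := (GrFlatLib.qmap J M k).restrictScalars A) Subtype.val_injective (GrFlatLib.exact_qmap J M k)
      (GrFlatLib.qmap_surjective J M k)

/-- The truncations of a model satisfy `FlatQ` and the model gives `IsModel`. -/
theorem isOpen_pieces {A B₀ : Type u} [CommRing A] [CommRing B₀] [Algebra A B₀]
    [Algebra.FinitePresentation A B₀] (J₀ : Ideal B₀) (hJ₀ : J₀.FG)
    (M₀ : Type u) [AddCommGroup M₀] [Module B₀ M₀] [Module A M₀] [IsScalarTower A B₀ M₀]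
    [Module.FinitePresentation B₀ M₀] (hflat : ∀ k, Module.Flat A (GrFlatLib.Q J₀ M₀ k))
    [∀ k, Module (B₀ ⧸ J₀) (GrFlatLib.grk J₀ M₀ k)]
    [∀ k, IsScalarTower B₀ (B₀ ⧸ J₀) (GrFlatLib.grk J₀ M₀ k)] :
    IsOpen {q : PrimeSpectrum (B₀ ⧸ J₀) | ∀ k,
      Module.Flat (B₀ ⧸ J₀) (LocalizedModule q.asIdeal.primeCompl (GrFlatLib.grk J₀ M₀ k))} := by
  obtain ⟨S, _, _, _, B, _, _, _, J, M, _, _, _, _, _, he, π, e, hπ, hJ, hbij, hlin⟩ :=
    GrFlatLib.exists_model' J₀ hJ₀ M₀ (A₀ := A)
  have hA : GrFlatLib.FlatQ S J M A := fun k => by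
    haveI := hflat k
    exact Module.Flat.of_linearEquiv
      ((he k).some.symm.trans (Submodule.Quotient.restrictScalarsEquiv A (J₀ ^ k • (⊤ : Submodule B₀ M₀))))
  obtain ⟨R, _, _, _, htower, hft, hR⟩ := GrFlatLib.exists_flatQ_finiteType J M A hA
  letI : Algebra B B₀ := (π.toRingHom.comp (algebraMap B (A ⊗[S] B))).toAlgebra
  letI : Algebra S B₀ := ((algebraMap A B₀).comp (algebraMap S A)).toAlgebra
  haveI : IsScalarTower S A B₀ := .of_algebraMap_eq fun _ => rfl
  haveI : IsScalarTower S B B₀ := .of_algebraMap_eq fun s => by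
    show _ = π ((1 : A) ⊗ₜ algebraMap S B s)
    rw [← Algebra.TensorProduct.tmul_one_eq_one_tmul, show (algebraMap S A s ⊗ₜ[S] (1 : B)) =
      algebraMap A (A ⊗[S] B) (algebraMap S A s) from rfl, π.commutes]
    rfl
  letI : Module B M₀ := Module.compHom M₀ (algebraMap B B₀)
  haveI : IsScalarTower B B₀ M₀ := .of_algebraMap_smul fun _ _ => rfl
  letI : Module S M₀ := Module.compHom M₀ (algebraMap S A)
  haveI : IsScalarTower S A M₀ := .of_algebraMap_smul fun _ _ => rfl
  haveI : IsScalarTower S B₀ M₀ := .of_algebraMap_smul fun s m => algebraMap_smul B₀ (algebraMap S A s) m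
  haveI : IsScalarTower S B M₀ := .of_algebraMap_smul fun s m => by
    rw [← algebraMap_smul B₀ (algebraMap S B s) m, ← IsScalarTower.algebraMap_apply, algebraMap_smul]
  have h1 : ∀ (b : B) (m : M), e ((1 : A ⊗[S] B) ⊗ₜ[B] (b • m)) = algebraMap B B₀ b • e (1 ⊗ₜ[B] m) :=
    fun b m => by
      rw [TensorProduct.tmul_smul, ← algebraMap_smul (A ⊗[S] B) b, hlin]
      rfl
  let μ : M →ₗ[B] M₀ :=
    { toFun := fun m => e ((1 : A ⊗[S] B) ⊗ₜ[B] m)
      map_add' := fun x y => by rw [TensorProduct.tmul_add, map_add]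
      map_smul' := h1 }
  have hL : ∀ x, (μ.restrictScalars S).liftBaseChange A (GrFlatLib.eC (C := B) A M x) = e x := by
    intro x
    induction x with
    | zero => simp
    | tmul z m =>
      induction z with
      | zero => simp
      | tmul a b =>
        rw [GrFlatLib.eC_tmul, LinearMap.liftBaseChange_tmul]
        show a • e ((1 : A ⊗[S] B) ⊗ₜ[B] (b • m)) = _
        have hz : ((a ⊗ₜ[S] b : A ⊗[S] B) ⊗ₜ[B] m) =
            (a ⊗ₜ[S] (1 : B) : A ⊗[S] B) • ((1 : A ⊗[S] B) ⊗ₜ[B] (b • m)) := by
          rw [TensorProduct.tmul_smul, ← algebraMap_smul (A ⊗[S] B) b, smul_smul,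
            TensorProduct.smul_tmul', smul_eq_mul, mul_one]
          congr 1
          show _ = (a ⊗ₜ[S] (1 : B)) * ((1 : A) ⊗ₜ[S] b)
          rw [Algebra.TensorProduct.tmul_mul_tmul, mul_one, one_mul]
        rw [hz, hlin, show (a ⊗ₜ[S] (1 : B)) = algebraMap A (A ⊗[S] B) a from rfl, π.commutes,
          algebraMap_smul]
      | add x y hx hy => simp only [TensorProduct.add_tmul, map_add, hx, hy]
    | add x y hx hy => simp only [map_add, hx, hy]
  have h : GrFlatLib.IsModel (S := S) (A := A) J J₀ μ :=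
    { surj := fun b₀ => by
        obtain ⟨z, rfl⟩ := hπ b₀
        induction z with
        | zero => rw [map_zero]; exact zero_mem _
        | tmul a b =>
          rw [show (a ⊗ₜ[S] b : A ⊗[S] B) = a • algebraMap B (A ⊗[S] B) b by
            show _ = a • ((1 : A) ⊗ₜ[S] b)
            rw [TensorProduct.smul_tmul', smul_eq_mul, mul_one], map_smul]
          exact Submodule.smul_mem _ a (Submodule.subset_span ⟨b, rfl⟩)
        | add x y hx hy => rw [map_add]; exact add_mem hx hy
      map := hJ
      bij := by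
        refine ⟨fun x y hxy => ?_, fun m => ?_⟩
        · obtain ⟨x, rfl⟩ := (GrFlatLib.eC (C := B) A M).surjective x
          obtain ⟨y, rfl⟩ := (GrFlatLib.eC (C := B) A M).surjective y
          rw [hL, hL] at hxy
          rw [hbij.1 hxy]
        · obtain ⟨x, rfl⟩ := hbij.2 m
          exact ⟨_, hL x⟩ }
  exact h.isOpen_flat_pieces R hR hJ₀

/-- Affine form: let A be a commutative ring, B a finitely presented A-algebra, J a finitely generated
ideal of B and M a finitely presented B-module; assume that every graded piece J^k / J^{k+1} of B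
and every graded piece J^k M / J^{k+1} M of M is flat over A. Then the set W of primes q ⊇ J of B at
which M is normally flat along V(J) — every localisation (J^k M / J^{k+1} M)_q is flat over B/J — is
open in V(J); equivalently the set of primes q such that J ⊆ q implies this condition is open in
Spec B. Flatness over B/J of the localised piece N_q (a module killed by J) is expressed as flatness
of (B/J) ⊗_B N_q. -/
theorem result {A B : Type u} [CommRing A] [CommRing B] [Algebra A B]
    [Algebra.FinitePresentation A B] (J : Ideal B) (hJ : J.FG)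
    (M : Type u) [AddCommGroup M] [Module B M] [Module A M] [IsScalarTower A B M] [Module.FinitePresentation B M]
    (hgrB : ∀ k : ℕ, Module.Flat A (↥(J ^ k) ⧸ Submodule.comap (J ^ k).subtype (J ^ (k + 1))))
    (hgrM : ∀ k : ℕ, Module.Flat A
      (↥(J ^ k • (⊤ : Submodule B M)) ⧸ Submodule.comap (J ^ k • (⊤ : Submodule B M)).subtype (J ^ (k + 1) • ⊤))) :
    IsOpen {q : PrimeSpectrum B | J ≤ q.asIdeal → ∀ k : ℕ,
      Module.Flat (B ⧸ J) ((B ⧸ J) ⊗[B] LocalizedModule q.asIdeal.primeCompl
        (↥(J ^ k • (⊤ : Submodule B M)) ⧸ Submodule.comap (J ^ k • (⊤ : Submodule B M)).subtype (J ^ (k + 1) • ⊤)))} := by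
  let _ := hgrB
  have htor : ∀ k, Module.IsTorsionBySet B (GrFlatLib.grk J M k) J := fun k y j =>
    GrFlatLib.smul_grk_eq_zero J M j.2 y
  letI : ∀ k, Module (B ⧸ J) (GrFlatLib.grk J M k) := fun k => (htor k).module
  haveI : ∀ k, IsScalarTower B (B ⧸ J) (GrFlatLib.grk J M k) := fun k => (htor k).isScalarTower
  refine GrFlatLib.isOpen_imp_of_quotient J (isOpen_pieces J hJ M (flat_trunc J M hgrM) (A := A)) fun q => ?_
  exact forall_congr' fun k => GrFlatLib.flat_tensor_localized_iff J (GrFlatLib.pieceEquiv J M k) q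

end Groth.Agent.S4892
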