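import Groth.Statements.S4896
import Groth.Agent.JacEquidimLib.RectDepth
import Groth.Agent.PullbackMod.OpenLocus

set_option autoImplicit false
universe u
open CategoryTheory AlgebraicGeometry
open EGA43

namespace Groth.Agent.S4896

/-- Let S be locally Noetherian, Jacobson and regular with equidimensional irreducible components, g : X
⟶ S locally of finite type and F a coherent O_X-module. For every point x of X the rectified depth
prof*_x(F) = prof(F_x) + dim cl{x} is the unique n (a natural number or ∞) such that, for some open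
neighbourhood U of x, prof(F_{x'}) = n for every point x' of U ∩ cl{x} which is closed in U. -/
theorem result {X S : Scheme.{u}} [IsLocallyNoetherian S] [JacobsonSpace S]
    (hreg : ∀ s : S, IsRegularLocalRing ↑(S.presheaf.stalk s))
    (h3 : ∀ S' ∈ irreducibleComponents (S : Type u), ∀ s ∈ S', IsClosed ({s} : Set S) →
      topologicalKrullDim (↥S' : Type u) = topologicalKrullDim ↥{t : S | t ∈ S' ∧ t ⤳ s})
    (g : X ⟶ S) [LocallyOfFiniteType g] (F : X.Modules) (hF : Coh.IsCoh F) (x : X) :
    letI pstar : WithBot ℕ∞ :=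
      ((LocCoh.depth ↑(X.presheaf.stalk x) ↑(F.presheaf.stalk x) : ℕ∞) : WithBot ℕ∞) +
        topologicalKrullDim ↥(closure ({x} : Set X))
    ∀ n : ℕ∞,
      (∃ U : X.Opens, x ∈ U ∧ ∀ x' : ↥U, (x' : X) ∈ closure ({x} : Set X) → IsClosed ({x'} : Set ↥U) →
        LocCoh.depth ↑(X.presheaf.stalk (x' : X)) ↑(F.presheaf.stalk (x' : X)) = n) ↔
      ((n : WithBot ℕ∞) = pstar) := by
  let pstar : WithBot ℕ∞ := JacEquidimLib.pstar F x
  intro n
  show _ ↔ (n : WithBot ℕ∞) = pstar
  haveI : JacobsonSpace X := LocallyOfFiniteType.jacobsonSpace g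
  haveI : IsLocallyNoetherian X := LocallyOfFiniteType.isLocallyNoetherian g
  haveI : Coh.IsQCoh F := hF.1
  have hopen := JacEquidimLib.isOpen_pstar hreg h3 g F hF
  have hcl : ∀ p : X, IsClosed ({p} : Set X) → JacEquidimLib.pstar F p =
      ((LocCoh.depth ↑(X.presheaf.stalk p) ↑(F.presheaf.stalk p) : ℕ∞) : WithBot ℕ∞) := fun p hp => by
    obtain ⟨d, hd⟩ := JacEquidimLib.exists_nat_dim_closure
      (JacEquidimLib.universallyCatenary_stalks (JacEquidimLib.universallyCatenary_of_regular hreg) g)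
      (JacEquidimLib.components_equidim (JacEquidimLib.universallyCatenary_of_regular hreg) h3 g) p
    haveI : Subsingleton ↥(closure ({p} : Set X)) := by
      rw [hp.closure_eq]
      infer_instance
    have h0 : topologicalKrullDim ↥(closure ({p} : Set X)) ≤ 0 := by
      haveI : Subsingleton (TopologicalSpace.IrreducibleCloseds ↥(closure ({p} : Set X))) := ⟨fun a b => by
        ext z
        exact ⟨fun _ => by obtain ⟨w, hw⟩ := b.isIrreducible.nonempty; rwa [Subsingleton.elim z w],
          fun _ => by obtain ⟨w, hw⟩ := a.isIrreducible.nonempty; rwa [Subsingleton.elim z w]⟩⟩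
      exact Order.krullDim_nonpos_of_subsingleton
    rw [hd] at h0
    have h1 : d ≤ 0 := by exact_mod_cast h0
    rw [JacEquidimLib.pstar, hd, show d = 0 by omega]
    simp
  -- the value at closed points near `x`
  have hnear : ∃ U : X.Opens, x ∈ U ∧ ∀ p : X, p ∈ U → x ⤳ p → IsClosed ({p} : Set X) →
      ((LocCoh.depth ↑(X.presheaf.stalk p) ↑(F.presheaf.stalk p) : ℕ∞) : WithBot ℕ∞) = pstar := by
    obtain ⟨d, hd⟩ := JacEquidimLib.exists_nat_dim_closure
      (JacEquidimLib.universallyCatenary_stalks (JacEquidimLib.universallyCatenary_of_regular hreg) g)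
      (JacEquidimLib.components_equidim (JacEquidimLib.universallyCatenary_of_regular hreg) h3 g) x
    have hgen : ∀ (k : ℕ) (p : X), x ⤳ p → (k : WithBot ℕ∞) ≤ JacEquidimLib.pstar F p →
        (k : WithBot ℕ∞) ≤ JacEquidimLib.pstar F x := fun k p hxp hk => hxp.mem_open (hopen k) hk
    cases hdep : LocCoh.depth ↑(X.presheaf.stalk x) ↑(F.presheaf.stalk x) with
    | top =>
      have hpx : pstar = ((⊤ : ℕ∞) : WithBot ℕ∞) := by
        show ((LocCoh.depth ↑(X.presheaf.stalk x) ↑(F.presheaf.stalk x) : ℕ∞) : WithBot ℕ∞) +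
          topologicalKrullDim ↥(closure ({x} : Set X)) = _
        rw [hdep, hd, show ((d : ℕ) : WithBot ℕ∞) = ((d : ℕ∞) : WithBot ℕ∞) from rfl, ← WithBot.coe_add, top_add]
      by_cases hx : x ∈ CohB1.support F
      · haveI : Module.Finite ↑(X.presheaf.stalk x) ↑(F.presheaf.stalk x) := PullbackMod.finite_stalk_of_isFT hF.2 x
        haveI : Nontrivial ↑(F.presheaf.stalk x) := not_subsingleton_iff_nontrivial.1 hx
        have h1 := (QGorLib.depth_le_supportDim (R := ↑(X.presheaf.stalk x)) ↑(F.presheaf.stalk x)).trans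
          (Module.supportDim_le_ringKrullDim _ _)
        rw [hdep] at h1
        exact absurd (h1.trans_lt (ringKrullDim_lt_top (R := ↑(X.presheaf.stalk x)))) (lt_irrefl _)
      · refine ⟨⟨(CohB1.support F)ᶜ, (PullbackMod.isClosed_support_of_isFT hF.2).isOpen_compl⟩, hx,
          fun p hp _ _ => ?_⟩
        haveI : Subsingleton ↑(F.presheaf.stalk p) := not_not.1 hp
        have h1 : LocCoh.depth ↑(X.presheaf.stalk p) ↑(F.presheaf.stalk p) = ⊤ :=
          if_pos (Subsingleton.elim _ _)
        rw [hpx, h1]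
    | coe a =>
      have hpx : pstar = ((a + d : ℕ) : WithBot ℕ∞) := by
        show ((LocCoh.depth ↑(X.presheaf.stalk x) ↑(F.presheaf.stalk x) : ℕ∞) : WithBot ℕ∞) +
          topologicalKrullDim ↥(closure ({x} : Set X)) = _
        rw [hdep, hd]
        rfl
      refine ⟨⟨_, hopen (a + d)⟩, hpx.ge, fun p hp hxp hpc => ?_⟩
      have h1 : ((a + d : ℕ) : WithBot ℕ∞) ≤ JacEquidimLib.pstar F p := hp
      rw [hcl p hpc] at h1
      rw [hpx]
      refine le_antisymm ?_ h1
      by_contra hlt
      have h2 : ((a + d + 1 : ℕ) : WithBot ℕ∞) ≤ JacEquidimLib.pstar F p := by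
        rw [hcl p hpc]
        rw [not_le] at hlt
        have h3 : ((a + d : ℕ) : ℕ∞) < LocCoh.depth ↑(X.presheaf.stalk p) ↑(F.presheaf.stalk p) :=
          WithBot.coe_lt_coe.1 hlt
        exact WithBot.coe_le_coe.2 (show ((a + d + 1 : ℕ) : ℕ∞) ≤ _ by
          push_cast
          exact Order.add_one_le_of_lt (by exact_mod_cast h3))
      have h4 := hgen _ p hxp h2
      rw [show JacEquidimLib.pstar F x = pstar from rfl, hpx] at h4
      exact absurd (show a + d + 1 ≤ a + d by exact_mod_cast h4) (by omega)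
  obtain ⟨U₀, hxU₀, hU₀⟩ := hnear
  constructor
  · rintro ⟨U, hxU, hU⟩
    obtain ⟨p, ⟨hpx, hpU, hpU₀⟩, hpc⟩ := nonempty_inter_closedPoints
      (Z := closure ({x} : Set X) ∩ ((U : Set X) ∩ U₀)) ⟨x, subset_closure rfl, hxU, hxU₀⟩
      (isClosed_closure.isLocallyClosed.inter (U.isOpen.inter U₀.isOpen).isLocallyClosed)
    rw [← hU ⟨p, hpU⟩ hpx (by
      rw [show ({⟨p, hpU⟩} : Set ↥U) = Subtype.val ⁻¹' ({p} : Set X) from Set.ext fun z => by simp [Subtype.ext_iff]]
      exact hpc.preimage continuous_subtype_val)]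
    exact hU₀ p hpU₀ (specializes_iff_mem_closure.2 hpx) hpc
  · intro hn
    refine ⟨U₀, hxU₀, fun p hpx hpc => ?_⟩
    have hp : IsClosed ({(p : X)} : Set X) := by
      refine isClosed_singleton_of_isLocallyClosed_singleton ?_
      have h2 := hpc.isLocallyClosed.image Topology.IsInducing.subtypeVal
        (by rw [Subtype.range_coe]; exact U₀.isOpen.isLocallyClosed)
      rwa [Set.image_singleton] at h2
    exact WithBot.coe_inj.1 ((hU₀ p p.2 (specializes_iff_mem_closure.2 hpx) hp).trans hn.symm)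

end Groth.Agent.S4896
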