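import Groth.Statements.S4897
import Groth.Agent.QHomeoLib.Basic
import Mathlib
-- import your own Groth.Agent.* helpers here

set_option autoImplicit false
universe u
open EGA43

namespace Groth.Agent.S4897

/-- Let f : X → Y be a quasi-homeomorphism, i.e. a continuous map such that U ↦ f⁻¹(U) is a bijection
from the open subsets of Y onto the open subsets of X. Then Z ↦ f⁻¹(Z) induces bijections from the
locally closed (resp. constructible, resp. locally constructible) subsets of Y onto those of X. -/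
theorem result {X Y : Type u}
    [TopologicalSpace X] [TopologicalSpace Y] (f : X → Y) (hf : Continuous f)
    (hq : Function.Bijective (fun U : TopologicalSpace.Opens Y =>
      (⟨f ⁻¹' (U : Set Y), U.isOpen.preimage hf⟩ : TopologicalSpace.Opens X))) :
    Function.Bijective (fun Z : {Z : Set Y // IsLocallyClosed Z} =>
        (⟨f ⁻¹' Z.1, Z.2.preimage hf⟩ : {Z : Set X // IsLocallyClosed Z})) ∧
      Set.BijOn (fun Z : Set Y => f ⁻¹' Z) {Z | Topology.IsConstructible Z} {Z | Topology.IsConstructible Z} ∧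
      Set.BijOn (fun Z : Set Y => f ⁻¹' Z) {Z | Topology.IsLocallyConstructible Z}
        {Z | Topology.IsLocallyConstructible Z} := by
  have h : Groth.Agent.QHomeoLib.IsQH f := (Groth.Agent.QHomeoLib.isQH_iff_bijective hf).2 hq
  refine ⟨⟨fun A B he => Subtype.ext (h.1.eq_of_preimage_eq (Groth.Agent.QHomeoLib.isQC_of_isLocallyClosed A.2).isLQC
    (Groth.Agent.QHomeoLib.isQC_of_isLocallyClosed B.2).isLQC (congrArg Subtype.val he)), fun Z => ?_⟩,
    Groth.Agent.QHomeoLib.bijOn_preimage h _ _ (fun Z hZ => (Groth.Agent.QHomeoLib.isQC_of_isConstructible hZ).isLQC)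
      (fun Z hZ => h.isConstructible_preimage hf hZ) (fun Z hZ => h.exists_isConstructible_preimage hf hZ),
    Groth.Agent.QHomeoLib.bijOn_preimage h _ _ (fun Z hZ => Groth.Agent.QHomeoLib.isLQC_of_isLocallyConstructible hZ)
      (fun Z hZ => h.isLocallyConstructible_preimage hf hZ) (fun Z hZ => h.exists_isLocallyConstructible_preimage hf hZ)⟩
  obtain ⟨Z, U, F, hU, hF, rfl⟩ := Z
  obtain ⟨U', hU', rfl⟩ := h.2 U hU
  obtain ⟨G, hG, hGF⟩ := h.2 Fᶜ hF.isOpen_compl
  refine ⟨⟨U' ∩ Gᶜ, U', Gᶜ, hU', hG.isClosed_compl, rfl⟩, Subtype.ext ?_⟩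
  show f ⁻¹' (U' ∩ Gᶜ) = _
  rw [Set.preimage_inter, Set.preimage_compl, hGF, compl_compl]

end Groth.Agent.S4897
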