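import Groth.Statements.S4898
import Groth.Agent.FlattenGenLib.Scheme

set_option autoImplicit false
universe u
open CategoryTheory AlgebraicGeometry
open EGA43

namespace Groth.Agent.S4898

open CategoryTheory.Limits in
/-- Over an affine irreducible base, tested on affine base changes, to which the general statement
reduces: let A be a commutative ring whose spectrum is irreducible, f : X ⟶ Spec A a morphism of
finite presentation and F a quasi-coherent O_X-module of finite presentation. Then there are an
element h of A which is not nilpotent (so that U = Spec A_h is a nonempty open subset of Spec A) and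
a finitely generated ideal J of A_h contained in the nilradical (so that the closed subscheme Z =
V(J) of U, of finite presentation over U, has the same underlying space as U) such that for every
A_h-algebra A' the pullback of F to X ×_{Spec A} Spec A' is flat over Spec A' if and only if J
generates the zero ideal of A', i.e. if and only if Spec A' ⟶ U factors through Z. (The published
statement also asserts that, for a finite affine open cover (W_i) of X, U can be chosen so that the
sections of the pullback of F over each W_i ×_{Spec A} Spec A' form a free A'-module whenever Spec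
A' ⟶ U factors through Z; this row omits that assertion.) -/
theorem result {A : Type u} [CommRing A] [IrreducibleSpace (PrimeSpectrum A)]
    {X : Scheme.{u}} (f : X ⟶ Spec (CommRingCat.of A))
    [LocallyOfFinitePresentation f] [QuasiCompact f] [QuasiSeparated f]
    (F : X.Modules) [Coh.IsQCoh F] (hF : CohB1.IsFP F) :
    ∃ (h : A) (_ : ¬ IsNilpotent h) (J : Ideal (Localization.Away h)) (_ : J.FG)
      (_ : J ≤ nilradical (Localization.Away h)),
      ∀ (A' : Type u) [CommRing A'] [Algebra (Localization.Away h) A'],
        letI g : Spec (CommRingCat.of A') ⟶ Spec (CommRingCat.of A) :=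
          Spec.map (CommRingCat.ofHom ((algebraMap (Localization.Away h) A').comp (algebraMap A (Localization.Away h))))
        (FlatMod.IsFlatOver (pullback.snd f g) ((Scheme.Modules.pullback (pullback.fst f g)).obj F) ↔
          Ideal.map (algebraMap (Localization.Away h) A') J = ⊥) := by
  classical
  haveI : CompactSpace X := QuasiCompact.compactSpace_of_compactSpace f
  obtain ⟨s, hs, he⟩ := (isCompact_iff_finite_and_eq_biUnion_affineOpens (U := (⊤ : X.Opens))).1 isCompact_univ
  haveI : Finite s := hs.to_subtype
  have hcov : ∀ x : X, ∃ i : s, x ∈ (i.1 : X.Opens) := fun x => by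
    have hx : x ∈ (⊤ : X.Opens) := trivial
    rw [he] at hx
    simp only [TopologicalSpace.Opens.mem_iSup] at hx
    obtain ⟨i, hi, hx⟩ := hx
    exact ⟨⟨i, hi⟩, hx⟩
  have hpres := fun i : s => FlattenGen.exists_presentation f F hF i.1.2
  choose a m N hN hiso using hpres
  obtain ⟨h, hh, J, hJ, hJn, key⟩ := FlattenGen.exists_family a m N hN
  refine ⟨h, hh, J, hJ, hJn, fun A' _ _ => ?_⟩
  letI : Algebra A A' := ((algebraMap (Localization.Away h) A').comp (algebraMap A (Localization.Away h))).toAlgebra
  haveI : IsScalarTower A (Localization.Away h) A' := IsScalarTower.of_algebraMap_eq fun r => rfl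
  refine (FlattenGen.isFlatOver_pullback_iff f F (fun i : s => (i.1 : X.Opens)) (fun i => i.1.2) hcov A').trans
    (Iff.trans (forall_congr' fun i => ?_) (key A'))
  letI := FlattenGen.secModule f F (i.1 : X.Opens)
  obtain ⟨e⟩ := hiso i
  let eT := TensorProduct.AlgebraTensorModule.congr (LinearEquiv.refl A' A') e
  exact ⟨fun hf => (haveI : Module.Flat A' (TensorProduct A A' Γ(F, i.1.1)) := hf; Module.Flat.of_linearEquiv eT.symm), fun hf => (Module.Flat.of_linearEquiv eT : Module.Flat A' (TensorProduct A A' Γ(F, i.1.1)))⟩

end Groth.Agent.S4898
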