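import Groth.Statements.S4900
import Groth.Agent.FlatStage.Given
-- import your own Groth.Agent.* helpers here

set_option autoImplicit false
universe u
open CategoryTheory AlgebraicGeometry
open EGA43

namespace Groth.Agent.S4900

/-- Let S be the limit of a cofiltered system (S_i) of schemes with affine transition morphisms, S_{i₀}
a quasi-compact stage, f₀ : X₀ ⟶ Y₀ an S_{i₀}-morphism between schemes of finite presentation over
S_{i₀}, F₀ a quasi-coherent O_{X₀}-module of finite presentation, f : X ⟶ Y and F the base changes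
to S, and x a point of X. Then F is f-flat at x if and only if there are an index i over i₀ and base
changes f_i : X_i ⟶ Y_i, F_i of f₀, F₀ to S_i (pullback squares, with the induced compatible
morphisms X ⟶ X_i, Y ⟶ Y_i) such that F_i is f_i-flat at the image x_i of x in X_i. -/
theorem result {I : Type u} [SmallCategory I] [IsCofiltered I]
    (D : I ⥤ Scheme.{u}) (c : Limits.Cone D) (hc : Limits.IsLimit c)
    [∀ (i j : I) (φ : i ⟶ j), IsAffineHom (D.map φ)] (i₀ : I) [CompactSpace (D.obj i₀)]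
    {X₀ Y₀ : Scheme.{u}} (f₀ : X₀ ⟶ Y₀) (g₀ : Y₀ ⟶ D.obj i₀)
    [LocallyOfFinitePresentation g₀] [QuasiCompact g₀] [QuasiSeparated g₀]
    [LocallyOfFinitePresentation (f₀ ≫ g₀)] [QuasiCompact (f₀ ≫ g₀)] [QuasiSeparated (f₀ ≫ g₀)]
    (F₀ : X₀.Modules) [Coh.IsQCoh F₀] (hF₀ : CohB1.IsFP F₀)
    {X Y : Scheme.{u}} (f : X ⟶ Y) (g : Y ⟶ c.pt) (qY : Y ⟶ Y₀) (qX : X ⟶ X₀)
    (hY : IsPullback qY g g₀ (c.π.app i₀)) (hX : IsPullback qX f f₀ qY) (x : X) :
    FlatMod.IsFlatOverAt f ((Scheme.Modules.pullback qX).obj F₀) x ↔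
      ∃ (i : I) (φ : i ⟶ i₀) (Xi Yi : Scheme.{u}) (fi : Xi ⟶ Yi) (gi : Yi ⟶ D.obj i)
        (pY : Yi ⟶ Y₀) (pX : Xi ⟶ X₀) (vY : Y ⟶ Yi) (vX : X ⟶ Xi),
        IsPullback pY gi g₀ (D.map φ) ∧ IsPullback pX fi f₀ pY ∧
          vY ≫ pY = qY ∧ vY ≫ gi = g ≫ c.π.app i ∧ vX ≫ pX = qX ∧ vX ≫ fi = f ≫ vY ∧
          FlatMod.IsFlatOverAt fi ((Scheme.Modules.pullback pX).obj F₀) (vX x) := by
  haveI hfp : LocallyOfFinitePresentation f₀ :=
    Groth.Agent.ASp.locallyOfFinitePresentation_of_comp _ g₀ ‹_› inferInstance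
  constructor
  · intro h
    obtain ⟨k, -, hk⟩ := Groth.Agent.FlatStage.exists_isFlatOverAt D c i₀ g₀ hY hc f₀ hX F₀ hF₀ x
      (Over.mk (𝟙 i₀)) h
    exact ⟨k.left, k.hom, _, _, (Groth.Agent.AffLim.baseChangeMap D i₀ f₀ g₀).app k,
      Limits.pullback.snd g₀ (D.map k.hom), Limits.pullback.fst g₀ (D.map k.hom),
      Limits.pullback.fst _ _, Groth.Agent.FlatStage.vMap D c i₀ g₀ hY k,
      Groth.Agent.FlatStage.vMap D c i₀ (f₀ ≫ g₀) (hX.paste_vert hY) k,
      IsPullback.of_hasPullback _ _, Groth.Agent.AffLim.isPullback_baseChangeMap D i₀ f₀ g₀ k,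
      Groth.Agent.FlatStage.vMap_fst _ _ _ _ _ _, Groth.Agent.FlatStage.vMap_snd _ _ _ _ _ _,
      Groth.Agent.FlatStage.vMap_fst _ _ _ _ _ _, Groth.Agent.FlatStage.xMap_comp D c i₀ g₀ hY f₀ hX k, hk⟩
  · rintro ⟨i, φ, Xi, Yi, fi, gi, pY, pX, vY, vX, h1, h2, e3, e4, e5, e6, h⟩
    obtain ⟨eX, eY, e1, e2, -, hsq⟩ :=
      Groth.Agent.FlatStage.exists_comparison D i₀ f₀ g₀ (Over.mk φ) h1 h2
    refine Groth.Agent.FlatStage.isFlatOverAt_of_stage D c i₀ f₀ g₀ hY hX F₀ (Over.mk φ) x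
      (Groth.Agent.FlatStage.isFlatOverAt_of_square hsq pX (by rw [Iso.inv_comp_eq, e1]) F₀ _ ?_)
    have hv : Groth.Agent.FlatStage.vMap D c i₀ (f₀ ≫ g₀) (hX.paste_vert hY) (Over.mk φ) = vX ≫ eX.hom := by
      refine Limits.pullback.hom_ext ?_ ?_
      · exact (Groth.Agent.FlatStage.vMap_fst _ _ _ _ _ _).trans
          (((Category.assoc _ _ _).trans ((congrArg (fun t => vX ≫ t) e1).trans e5)).symm)
      · exact (Groth.Agent.FlatStage.vMap_snd _ _ _ _ _ _).trans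
          (((Category.assoc _ _ _).trans ((congrArg (fun t => vX ≫ t) e2).trans
            ((congrArg (fun t => t ≫ gi) e6 |> (Category.assoc vX fi gi).symm.trans).trans
              ((Category.assoc f vY gi).trans ((congrArg (fun t => f ≫ t) e4).trans
                (Category.assoc f g _).symm))))).symm)
    have hpt : eX.inv (Groth.Agent.FlatStage.vMap D c i₀ (f₀ ≫ g₀) (hX.paste_vert hY) (Over.mk φ) x) = vX x := by
      rw [hv, ← Scheme.Hom.comp_apply, Category.assoc, Iso.hom_inv_id, Category.comp_id]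
    rw [hpt]
    exact h

end Groth.Agent.S4900
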