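import Groth.Statements.S4901
import Groth.Agent.InjCokerStage.Stage
import Groth.Agent.FlatStage.Given
import Groth.Agent.DCohLib.FlatPerf
-- import your own Groth.Agent.* helpers here

set_option autoImplicit false
set_option linter.style.haveILetI false
set_option backward.isDefEq.respectTransparency false
set_option backward.defeqAttrib.useBackward true
universe u
open CategoryTheory AlgebraicGeometry
open EGA43

namespace Groth.Agent.S4901

open Groth.Agent.PullbackMod in
/-- Injectivity on stalks is insensitive to isomorphisms on both sides. -/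
theorem injective_conj {X : AlgebraicGeometry.Scheme.{u}} {M M' N N' : X.Modules} (a : M' ≅ M)
    (φ : M ⟶ N) (b : N ≅ N') (x : X) :
    Function.Injective (stalkLin (a.hom ≫ φ ≫ b.hom) x) ↔ Function.Injective (stalkLin φ x) := by
  have ha := (isIso_iff_stalk a.hom).mp inferInstance x
  have hb := (isIso_iff_stalk b.hom).mp inferInstance x
  rw [stalkLin_comp, stalkLin_comp]
  constructor
  · intro h p q hpq
    obtain ⟨p, rfl⟩ := ha.2 p
    obtain ⟨q, rfl⟩ := ha.2 q
    exact congrArg _ (h (by simp only [LinearMap.comp_apply, hpq]))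
  · intro h
    exact (hb.1.comp h).comp ha.1

open CategoryTheory.Limits Groth.Agent.PullbackMod in
/-- Let S be the limit of a cofiltered system (S_i) of schemes with affine transition morphisms, i₀ an
index, f₀ : X₀ ⟶ Y₀ a morphism locally of finite presentation of S_{i₀}-schemes, F₀ and G₀
quasi-coherent O_{X₀}-modules of finite presentation and h₀ : F₀ ⟶ G₀ a homomorphism; let f : X ⟶ Y
and h = q^*h₀ be the base changes to S and x a point of X. Then the stalk map h_x is injective and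
Coker h is f-flat at x if and only if there are an index i over i₀ and base changes f_i : X_i ⟶ Y_i,
h_i = p^*h₀ to S_i (pullback squares with the compatible morphisms X ⟶ X_i, Y ⟶ Y_i) such that
(h_i)_{x_i} is injective and Coker h_i is f_i-flat at the image x_i of x. -/
theorem result {I : Type u} [SmallCategory I] [IsCofiltered I]
    (D : I ⥤ Scheme.{u}) (c : Limits.Cone D) (hc : Limits.IsLimit c)
    [∀ (i j : I) (φ : i ⟶ j), IsAffineHom (D.map φ)] (i₀ : I)
    {X₀ Y₀ : Scheme.{u}} (f₀ : X₀ ⟶ Y₀) (g₀ : Y₀ ⟶ D.obj i₀) [LocallyOfFinitePresentation f₀]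
    (F₀ G₀ : X₀.Modules) [Coh.IsQCoh F₀] [Coh.IsQCoh G₀] (hF₀ : CohB1.IsFP F₀) (hG₀ : CohB1.IsFP G₀)
    (h₀ : F₀ ⟶ G₀)
    {X Y : Scheme.{u}} (f : X ⟶ Y) (g : Y ⟶ c.pt) (qY : Y ⟶ Y₀) (qX : X ⟶ X₀)
    (hY : IsPullback qY g g₀ (c.π.app i₀)) (hX : IsPullback qX f f₀ qY) (x : X) :
    (Function.Injective ((TopCat.Presheaf.stalkFunctor Ab x).map
        (Scheme.Modules.Hom.mapPresheaf ((Scheme.Modules.pullback qX).map h₀))) ∧
      FlatMod.IsFlatOverAt f (cokernel ((Scheme.Modules.pullback qX).map h₀)) x) ↔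
      ∃ (i : I) (φ : i ⟶ i₀) (Xi Yi : Scheme.{u}) (fi : Xi ⟶ Yi) (gi : Yi ⟶ D.obj i)
        (pY : Yi ⟶ Y₀) (pX : Xi ⟶ X₀) (vY : Y ⟶ Yi) (vX : X ⟶ Xi),
        IsPullback pY gi g₀ (D.map φ) ∧ IsPullback pX fi f₀ pY ∧
          vY ≫ pY = qY ∧ vY ≫ gi = g ≫ c.π.app i ∧ vX ≫ pX = qX ∧ vX ≫ fi = f ≫ vY ∧
          Function.Injective ((TopCat.Presheaf.stalkFunctor Ab (vX x)).map
            (Scheme.Modules.Hom.mapPresheaf ((Scheme.Modules.pullback pX).map h₀))) ∧
          FlatMod.IsFlatOverAt fi (cokernel ((Scheme.Modules.pullback pX).map h₀)) (vX x) := by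
  haveI hD : ∀ {i j : I} (f : i ⟶ j), IsAffineHom (D.map f) := fun f => inferInstance
  haveI : Coh.IsQCoh (cokernel h₀) := (QCohLib.isQCoh_image h₀ ‹_› ‹_›).2
  have hFT : CohB1.IsFT F₀ :=
    haveI : SheafOfModules.IsFinitePresentation (R := X₀.ringCatSheaf) F₀ := hF₀
    inferInstanceAs (SheafOfModules.IsFiniteType (R := X₀.ringCatSheaf) F₀)
  have hC : CohB1.IsFP (cokernel h₀) := DCohLib.isFP_cokernel h₀ ‹_› ‹_› hFT hG₀
  constructor
  · rintro ⟨hinj, hflat⟩
    have hflat' : FlatMod.IsFlatOverAt f ((Scheme.Modules.pullback qX).obj (cokernel h₀)) x :=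
      isFlatOverAt_of_iso (PreservesCokernel.iso (Scheme.Modules.pullback qX) h₀).symm f x hflat
    obtain ⟨k, -, hk⟩ := FlatStage.exists_isFlatOverAt D c i₀ g₀ hY hc f₀ hX (cokernel h₀) hC x
      (Over.mk (𝟙 i₀)) hflat'
    let E := AffLim.baseChange D i₀ (f₀ ≫ g₀)
    let e := FlatStage.vCone D c i₀ (f₀ ≫ g₀) (hX.paste_vert hY)
    obtain ⟨hcE⟩ := FlatStage.nonempty_isLimit_vCone D c i₀ (f₀ ≫ g₀) (hX.paste_vert hY) hc
    let pk := pullback.fst (f₀ ≫ g₀) (D.map k.hom)
    let φk := (AffLim.baseChangeMap D i₀ f₀ g₀).app k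
    let u := (Scheme.Modules.pullback pk).map h₀
    haveI : Coh.IsQCoh ((Scheme.Modules.pullback pk).obj F₀) := isQCoh_pullback pk F₀
    haveI : Coh.IsQCoh ((Scheme.Modules.pullback pk).obj G₀) := isQCoh_pullback pk G₀
    haveI : LocallyOfFinitePresentation φk :=
      MorphismProperty.of_isPullback (AffLim.isPullback_baseChangeMap D i₀ f₀ g₀ k) inferInstance
    have hku : FlatMod.IsFlatOverAt φk (cokernel u) (e.π.app k x) :=
      isFlatOverAt_of_iso (PreservesCokernel.iso (Scheme.Modules.pullback pk) h₀) φk _ hk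
    have hfg := InjCokerStage.fg_ker_stalkLin u φk
      (isFiniteType_pullback pk F₀ hFT) (isFP_pullback pk G₀ hG₀) (e.π.app k x) hku
    obtain ⟨a, b, hab⟩ := exists_map_comp_conj h₀ pk (e.π.app k) qX
      (FlatStage.vMap_fst D c i₀ (f₀ ≫ g₀) (hX.paste_vert hY) k)
    have hu : Function.Injective (stalkLin ((Scheme.Modules.pullback (e.π.app k)).map u) x) := by
      have h1 : Function.Injective (stalkLin ((Scheme.Modules.pullback qX).map h₀) x) := hinj
      rw [hab] at h1
      exact (injective_conj _ _ _ x).mp h1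
    obtain ⟨j, hj⟩ := InjCokerStage.exists_stage_injective_stalk E e hcE k x u hfg
      (fun j => InjCokerStage.ker_lTensor_stalk_le u
        (AffLim.isPullback_baseChangeMap_map D i₀ f₀ g₀ j.hom) (e.π.app j.left x)
        (π_apply E e x j.hom) hku) hu
    let l := j.left
    let pl := pullback.fst (f₀ ≫ g₀) (D.map l.hom)
    obtain ⟨a', b', hab'⟩ := exists_map_comp_conj h₀ pk (E.map j.hom) pl
      (FlatStage.fst_map D i₀ (f₀ ≫ g₀) j.hom)
    have hflatl : FlatMod.IsFlatOverAt ((AffLim.baseChangeMap D i₀ f₀ g₀).app l)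
        ((Scheme.Modules.pullback pl).obj (cokernel h₀)) (e.π.app l x) :=
      FlatStage.isFlatOverAt_map D i₀ f₀ g₀ (cokernel h₀) j.hom _
        ((π_apply E e x j.hom).symm ▸ hk)
    refine ⟨l.left, l.hom, _, _, (AffLim.baseChangeMap D i₀ f₀ g₀).app l,
      pullback.snd g₀ (D.map l.hom), pullback.fst g₀ (D.map l.hom), pl,
      FlatStage.vMap D c i₀ g₀ hY l, FlatStage.vMap D c i₀ (f₀ ≫ g₀) (hX.paste_vert hY) l,
      IsPullback.of_hasPullback _ _, AffLim.isPullback_baseChangeMap D i₀ f₀ g₀ l,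
      FlatStage.vMap_fst _ _ _ _ _ _, FlatStage.vMap_snd _ _ _ _ _ _,
      FlatStage.vMap_fst _ _ _ _ _ _, FlatStage.xMap_comp D c i₀ g₀ hY f₀ hX l, ?_,
      isFlatOverAt_of_iso (PreservesCokernel.iso (Scheme.Modules.pullback pl) h₀) _ _ hflatl⟩
    show Function.Injective (stalkLin ((Scheme.Modules.pullback pl).map h₀) (e.π.app l x))
    rw [hab']
    exact (injective_conj _ _ _ _).mpr hj
  · rintro ⟨i, φ, Xi, Yi, fi, gi, pY, pX, vY, vX, h1, h2, e3, e4, e5, e6, hinj, hflat⟩
    have hsq : IsPullback vX f fi vY := by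
      refine IsPullback.of_right ?_ e6 h2
      rw [e5, e3]
      exact hX
    haveI : Coh.IsQCoh ((Scheme.Modules.pullback pX).obj F₀) := isQCoh_pullback pX F₀
    haveI : Coh.IsQCoh ((Scheme.Modules.pullback pX).obj G₀) := isQCoh_pullback pX G₀
    obtain ⟨a, b, hab⟩ := exists_map_comp_conj h₀ pX vX qX e5
    let u := (Scheme.Modules.pullback pX).map h₀
    refine ⟨?_, ?_⟩
    · show Function.Injective (stalkLin ((Scheme.Modules.pullback qX).map h₀) x)
      rw [hab]
      refine (injective_conj _ _ _ x).mpr ((InjCokerStage.injective_iff_mapAt u vX x rfl).mpr ?_)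
      letI := (mapAt vX x (rfl : vX x = vX x)).hom.toAlgebra
      have hbot : LinearMap.ker (stalkLin u (vX x)) = ⊥ := LinearMap.ker_eq_bot.mpr hinj
      have hle := InjCokerStage.ker_lTensor_stalk_le u hsq x rfl hflat
      refine LinearMap.ker_eq_bot.mp (eq_bot_iff.mpr (hle.trans ?_))
      have h0 : (LinearMap.ker (stalkLin u (vX x))).subtype = 0 := LinearMap.ext fun m => by
        rw [Submodule.subtype_apply, LinearMap.zero_apply]
        exact (Submodule.mem_bot _).mp (hbot.le m.2)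
      rw [h0, LinearMap.lTensor_zero, LinearMap.range_zero]
    · haveI : Coh.IsQCoh (cokernel u) := (QCohLib.isQCoh_image u ‹_› ‹_›).2
      have hflat' := isFlatOverAt_baseChange hsq (cokernel u) x hflat
      exact isFlatOverAt_of_iso (PreservesCokernel.iso (Scheme.Modules.pullback vX) u ≪≫
        cokernel.mapIso _ _
          (((Scheme.Modules.pullbackComp vX pX) ≪≫ Scheme.Modules.pullbackCongr e5).app F₀)
          (((Scheme.Modules.pullbackComp vX pX) ≪≫ Scheme.Modules.pullbackCongr e5).app G₀)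
          (((Scheme.Modules.pullbackComp vX pX) ≪≫ Scheme.Modules.pullbackCongr e5).hom.naturality h₀) ≪≫
        Iso.refl _) f x hflat'

end Groth.Agent.S4901
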