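import Groth.Statements.S4903
import Groth.Agent.QHomeoLib.Basic
import Mathlib
-- import your own Groth.Agent.* helpers here

set_option autoImplicit false
universe u
open EGA43

namespace Groth.Agent.S4903

/-- Conditions a), b), b′), c″), c‴) and its last assertion: given a topological space X and a subset X₀
⊆ X, the statements below are equivalent. Every locally closed subset of X that is nonempty
intersects X₀. Every nonempty locally quasi-constructible subset of X intersects X₀; here a subset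
is locally quasi-constructible when each point of X has an open neighbourhood on which the subset's
trace can be written as a union of finitely many locally closed sets. Each locally
quasi-constructible Z ⊆ X is contained in the closure of Z ∩ X₀. Any two quasi-constructible subsets
of X (unions of finitely many locally closed sets) having equal traces on X₀ coincide. Any two
locally quasi-constructible subsets of X having equal traces on X₀ coincide. Assuming these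
conditions, each locally quasi-constructible subset of the subspace X₀ arises as the trace on X₀ of
some locally quasi-constructible subset of X. -/
theorem result {X : Type u} [TopologicalSpace X] (X₀ : Set X) :
    [∀ Z : Set X, IsLocallyClosed Z → Z.Nonempty → (Z ∩ X₀).Nonempty,
      ∀ Z : Set X, (∀ x : X, ∃ U : Set X, IsOpen U ∧ x ∈ U ∧ ∃ T : Set (Set X), T.Finite ∧ (∀ t ∈ T, IsLocallyClosed t) ∧ U ∩ Z = ⋃₀ T) → Z.Nonempty → (Z ∩ X₀).Nonempty,
      ∀ Z : Set X, (∀ x : X, ∃ U : Set X, IsOpen U ∧ x ∈ U ∧ ∃ T : Set (Set X), T.Finite ∧ (∀ t ∈ T, IsLocallyClosed t) ∧ U ∩ Z = ⋃₀ T) → Z ⊆ closure (Z ∩ X₀),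
      ∀ Z Z' : Set X, (∃ T : Set (Set X), T.Finite ∧ (∀ t ∈ T, IsLocallyClosed t) ∧ Z = ⋃₀ T) → (∃ T : Set (Set X), T.Finite ∧ (∀ t ∈ T, IsLocallyClosed t) ∧ Z' = ⋃₀ T) → Z ∩ X₀ = Z' ∩ X₀ → Z = Z',
      ∀ Z Z' : Set X, (∀ x : X, ∃ U : Set X, IsOpen U ∧ x ∈ U ∧ ∃ T : Set (Set X), T.Finite ∧ (∀ t ∈ T, IsLocallyClosed t) ∧ U ∩ Z = ⋃₀ T) → (∀ x : X, ∃ U : Set X, IsOpen U ∧ x ∈ U ∧ ∃ T : Set (Set X), T.Finite ∧ (∀ t ∈ T, IsLocallyClosed t) ∧ U ∩ Z' = ⋃₀ T) → Z ∩ X₀ = Z' ∩ X₀ → Z = Z'].TFAE ∧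
    ((∀ Z : Set X, IsLocallyClosed Z → Z.Nonempty → (Z ∩ X₀).Nonempty) →
      ∀ Z₀ : Set ↥X₀, (∀ x : ↥X₀, ∃ U : Set ↥X₀, IsOpen U ∧ x ∈ U ∧ ∃ T : Set (Set ↥X₀), T.Finite ∧ (∀ t ∈ T, IsLocallyClosed t) ∧ U ∩ Z₀ = ⋃₀ T) →
        ∃ Z : Set X, (∀ x : X, ∃ U : Set X, IsOpen U ∧ x ∈ U ∧ ∃ T : Set (Set X), T.Finite ∧ (∀ t ∈ T, IsLocallyClosed t) ∧ U ∩ Z = ⋃₀ T) ∧ Subtype.val ⁻¹' Z = Z₀) := by
  refine ⟨?_, fun h Z₀ hZ₀ => ?_⟩
  · tfae_have 1 → 2 := fun h Z hZ ⟨z, hz⟩ => by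
      obtain ⟨t, ht, hzt, hts⟩ := Groth.Agent.QHomeoLib.IsLQC.exists_locallyClosed (A := Z) hZ hz
      obtain ⟨w, hw, hw0⟩ := h t ht ⟨z, hzt⟩
      exact ⟨w, hts hw, hw0⟩
    tfae_have 2 → 3 := fun h Z hZ z hz => mem_closure_iff.2 fun U hU hzU => by
      obtain ⟨w, ⟨hwU, hwZ⟩, hw0⟩ := h (U ∩ Z) ((Groth.Agent.QHomeoLib.isLQC_of_isOpen hU).inter hZ) ⟨z, hzU, hz⟩
      exact ⟨w, hwU, hwZ, hw0⟩
    tfae_have 3 → 5 := fun h Z Z' hZ hZ' he => by
      have key : ∀ A B : Set X, Groth.Agent.QHomeoLib.IsLQC A → Groth.Agent.QHomeoLib.IsLQC B → A ∩ X₀ ⊆ B ∩ X₀ → A ⊆ B := fun A B hA hB hsub a ha => by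
        by_contra hb
        have := h (A ∩ Bᶜ) (hA.inter hB.compl) ⟨ha, hb⟩
        rw [show A ∩ Bᶜ ∩ X₀ = ∅ from Set.eq_empty_iff_forall_notMem.2 fun w hw => hw.1.2 (hsub ⟨hw.1.1, hw.2⟩).1,
          closure_empty] at this
        exact this
      exact (key Z Z' hZ hZ' he.subset).antisymm (key Z' Z hZ' hZ he.superset)
    tfae_have 5 → 4 := fun h Z Z' hZ hZ' he => h Z Z' (Groth.Agent.QHomeoLib.IsQC.isLQC hZ) (Groth.Agent.QHomeoLib.IsQC.isLQC hZ') he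
    tfae_have 4 → 1 := fun h Z hZ hne => by
      by_contra hn
      rw [Set.not_nonempty_iff_eq_empty] at hn
      exact hne.ne_empty (h Z ∅ (Groth.Agent.QHomeoLib.isQC_of_isLocallyClosed hZ) Groth.Agent.QHomeoLib.isQC_empty (hn.trans (Set.empty_inter X₀).symm))
    tfae_finish
  · have hq : Groth.Agent.QHomeoLib.IsQH (Subtype.val : X₀ → X) := by
      refine ⟨fun U V hU hV he => ?_, fun V hV => isOpen_induced_iff.1 hV⟩
      have key : ∀ A B : Set X, IsOpen A → IsOpen B → (Subtype.val : X₀ → X) ⁻¹' A = Subtype.val ⁻¹' B → A ⊆ B :=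
        fun A B hA hB he a ha => by
          by_contra hb
          obtain ⟨w, ⟨hwA, hwB⟩, hw0⟩ := h (A ∩ Bᶜ) ⟨A, Bᶜ, hA, hB.isClosed_compl, rfl⟩ ⟨a, ha, hb⟩
          exact hwB ((Set.ext_iff.1 he ⟨w, hw0⟩).1 hwA)
      exact (key U V hU hV he).antisymm (key V U hV hU he.symm)
    obtain ⟨W, hW, hWZ⟩ := hq.exists_isLQC_preimage (Z := Z₀) hZ₀
    exact ⟨W, hW, hWZ⟩

end Groth.Agent.S4903
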