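import Groth.Statements.S4905
import Groth.Agent.IdealStalkLib.Comap
import Groth.Agent.GeomRedImage.Sections
import Mathlib
set_option backward.isDefEq.respectTransparency false
set_option linter.style.haveILetI false
open CategoryTheory.Limits TensorProduct Groth.Agent.GeomRedImage
-- import your own Groth.Agent.* helpers here

set_option autoImplicit false
universe u
open CategoryTheory AlgebraicGeometry
open EGA43

namespace Groth.Agent.S4905

open CategoryTheory.Limits in
/-- Let k be a field, X a k-scheme, (f_i : Z_i ⟶ X) a family of k-morphisms with every Z_i geometrically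
reduced over k, and Y the reduced closed subscheme of X whose underlying space is the closure of ⋃
f_i(Z_i), i.e. the closed subscheme defined by the vanishing ideal sheaf of that closed set. Let k'
be a field extension of k, X' = X ⊗_k k' and f'_i : Z_i ⊗_k k' ⟶ X' the base changes. Then the
reduced closed subscheme of X' on the closure of ⋃ f'_i(Z_i ⊗_k k') is Y ⊗_k k': the vanishing ideal
sheaf of that closure equals the pullback (comap) along X' ⟶ X of the vanishing ideal sheaf defining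
Y. (The published statement also concludes that Y is geometrically reduced over k; this row states
only the equality of Y' with Y ⊗_k k'.) -/
theorem result {k : Type u} [Field k] {X : Scheme.{u}}
    (p : X ⟶ Spec (CommRingCat.of k)) {ι : Type u} (Z : ι → Scheme.{u}) (f : ∀ i, Z i ⟶ X)
    (hred : ∀ (i : ι) (z : Z i), FBase.IsGeomReducedAt (f i ≫ p) z)
    (k' : Type u) [Field k'] [Algebra k k'] :
    letI q : Spec (CommRingCat.of k') ⟶ Spec (CommRingCat.of k) := Spec.map (CommRingCat.ofHom (algebraMap k k'))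
    letI f' : ∀ i, pullback (f i ≫ p) q ⟶ pullback p q :=
      fun i => pullback.map (f i ≫ p) q p q (f i) (𝟙 _) (𝟙 _) (Category.comp_id _) ((Category.comp_id _).trans (Category.id_comp _).symm)
    Scheme.IdealSheafData.vanishingIdeal (TopologicalSpace.Closeds.closure (⋃ i, Set.range (f' i))) =
      (Scheme.IdealSheafData.vanishingIdeal (TopologicalSpace.Closeds.closure (⋃ i, Set.range (f i)))).comap
        (pullback.fst p q) := by
  let q : Spec (CommRingCat.of k') ⟶ Spec (CommRingCat.of k) := Spec.map (CommRingCat.ofHom (algebraMap k k'))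
  let f' : ∀ i, pullback (f i ≫ p) q ⟶ pullback p q :=
    fun i => pullback.map (f i ≫ p) q p q (f i) (𝟙 _) (𝟙 _) (Category.comp_id _) ((Category.comp_id _).trans (Category.id_comp _).symm)
  let π := pullback.fst p q
  haveI : IsAffineHom π := MorphismProperty.pullback_fst (P := @IsAffineHom) _ _ inferInstance
  let C := TopologicalSpace.Closeds.closure (⋃ i, Set.range (f i))
  let C' := TopologicalSpace.Closeds.closure (⋃ i, Set.range (f' i))
  show Scheme.IdealSheafData.vanishingIdeal C' = (Scheme.IdealSheafData.vanishingIdeal C).comap π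
  refine le_antisymm ?_ ?_
  swap
  · rw [← Scheme.IdealSheafData.le_support_iff_le_vanishingIdeal, Scheme.IdealSheafData.support_comap,
      TopologicalSpace.Closeds.closure_le]
    refine Set.iUnion_subset fun i => ?_
    rintro _ ⟨z, rfl⟩
    show π (f' i z) ∈ (Scheme.IdealSheafData.vanishingIdeal C).support
    rw [← SetLike.mem_coe, Scheme.IdealSheafData.coe_support_vanishingIdeal]
    refine subset_closure (Set.mem_iUnion.2 ⟨i, ⟨pullback.fst (f i ≫ p) q z, ?_⟩⟩)
    show (pullback.fst (f i ≫ p) q ≫ f i) z = (f' i ≫ π) z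
    rw [show f' i ≫ π = pullback.fst (f i ≫ p) q ≫ f i from pullback.lift_fst _ _ _]
  · refine Scheme.IdealSheafData.le_of_iSup_eq_top (fun U : X.affineOpens => ⟨π ⁻¹ᵁ U.1, U.2.preimage π⟩) ?_ fun U => ?_
    · exact eq_top_iff.2 fun x _ => by
        obtain ⟨_, ⟨U, hU, rfl⟩, hxU, -⟩ := X.isBasis_affineOpens.exists_subset_of_mem_open
          (Set.mem_univ (π x)) isOpen_univ
        exact TopologicalSpace.Opens.mem_iSup.2 ⟨⟨U, hU⟩, hxU⟩
    intro s hs
    rw [Groth.Agent.IdealStalkLib.comap_ideal _ π U.2 (U.2.preimage π) le_rfl]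
    letI := secAlg p U.1
    have hp := isPushoutSec p k' U.2
    letI : Algebra Γ(X, U.1) Γ(pullback p q, π ⁻¹ᵁ U.1) := (π.appLE U.1 (π ⁻¹ᵁ U.1) le_rfl).hom.toAlgebra
    letI : Algebra k' Γ(pullback p q, π ⁻¹ᵁ U.1) :=
      ((Scheme.ΓSpecIso (CommRingCat.of k')).inv ≫ (pullback.snd p q).appLE ⊤ (π ⁻¹ᵁ U.1) le_top).hom.toAlgebra
    letI : Algebra k Γ(pullback p q, π ⁻¹ᵁ U.1) :=
      ((algebraMap Γ(X, U.1) Γ(pullback p q, π ⁻¹ᵁ U.1)).comp (algebraMap k Γ(X, U.1))).toAlgebra
    haveI : IsScalarTower k Γ(X, U.1) Γ(pullback p q, π ⁻¹ᵁ U.1) := IsScalarTower.of_algebraMap_eq fun _ => rfl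
    haveI : IsScalarTower k k' Γ(pullback p q, π ⁻¹ᵁ U.1) :=
      IsScalarTower.of_algebraMap_eq' (congrArg CommRingCat.Hom.hom hp.w)
    haveI hpu : Algebra.IsPushout k Γ(X, U.1) k' Γ(pullback p q, π ⁻¹ᵁ U.1) := CommRingCat.isPushout_iff_isPushout.1 hp
    let e := Algebra.IsPushout.equiv k Γ(X, U.1) k' Γ(pullback p q, π ⁻¹ᵁ U.1)
    let b := Module.Free.chooseBasis k k'
    obtain ⟨c, hc⟩ := TensorProduct.eq_repr_basis_right b (e.symm s)
    have hsc : s = c.sum fun j r => algebraMap Γ(X, U.1) Γ(pullback p q, π ⁻¹ᵁ U.1) r *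
        algebraMap k' Γ(pullback p q, π ⁻¹ᵁ U.1) (b j) := by
      rw [← e.apply_symm_apply s, ← hc, map_finsuppSum]
      exact Finsupp.sum_congr fun j _ => Algebra.IsPushout.equiv_tmul k _ _ _ _ _
    rw [hsc]
    refine Ideal.sum_mem _ fun j _ => Ideal.mul_mem_right _ _ (Ideal.mem_map_of_mem _ ?_)
    rw [Scheme.IdealSheafData.vanishingIdeal_ideal, PrimeSpectrum.mem_vanishingIdeal]
    intro P hP
    by_contra hcP
    have hb : U.2.fromSpec P ∈ X.basicOpen (c j) := by
      show P ∈ U.2.fromSpec ⁻¹ᵁ X.basicOpen (c j)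
      rw [U.2.fromSpec_preimage_basicOpen]
      exact hcP
    obtain ⟨y, hy, hyU⟩ := mem_closure_iff.1 hP (X.basicOpen (c j)) (X.basicOpen (c j)).isOpen hb
    obtain ⟨i, z, rfl⟩ := Set.mem_iUnion.1 hyU
    obtain ⟨_, ⟨W, hW, rfl⟩, hzW, hWU⟩ := (Z i).isBasis_affineOpens.exists_subset_of_mem_open
      (show z ∈ ((f i) ⁻¹ᵁ U.1 : (Z i).Opens) from X.basicOpen_le (c j) hy) ((f i) ⁻¹ᵁ U.1).isOpen
    replace hWU : W ≤ (f i) ⁻¹ᵁ U.1 := hWU
    let πZ := pullback.fst (f i ≫ p) q
    let W' := πZ ⁻¹ᵁ W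
    haveI : IsAffineHom πZ := MorphismProperty.pullback_fst (P := @IsAffineHom) _ _ inferInstance
    have hfst : f' i ≫ π = πZ ≫ f i := pullback.lift_fst _ _ _
    have hW'V : W' ≤ f' i ⁻¹ᵁ (π ⁻¹ᵁ U.1) := by
      rw [← Scheme.Hom.comp_preimage, hfst, Scheme.Hom.comp_preimage]
      exact Scheme.Hom.preimage_mono _ hWU
    haveI : AlgebraicGeometry.IsReduced (pullback (f i ≫ p) q) := by
      haveI : ∀ x : ↥(pullback (f i ≫ p) q), _root_.IsReduced ((pullback (f i ≫ p) q).presheaf.stalk x) :=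
        fun x => hred i (πZ x) k' x rfl
      exact isReduced_of_isReduced_stalk _
    let m := (f' i).appLE (π ⁻¹ᵁ U.1) W' hW'V
    have hm : m s = 0 := by
      rw [← basicOpen_eq_bot_iff, eq_bot_iff]
      intro x hx
      rw [Scheme.basicOpen_appLE] at hx
      exfalso
      obtain ⟨hxW', hxb⟩ := hx
      have hxV : f' i x ∈ π ⁻¹ᵁ U.1 := hW'V hxW'
      obtain ⟨Q, hQ⟩ : f' i x ∈ Set.range (U.2.preimage π).fromSpec := by
        rw [(U.2.preimage π).range_fromSpec]; exact hxV
      rw [Scheme.IdealSheafData.vanishingIdeal_ideal, PrimeSpectrum.mem_vanishingIdeal] at hs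
      have hsQ := hs Q (show (U.2.preimage π).fromSpec Q ∈ (C' : Set _) from
        hQ ▸ subset_closure (Set.mem_iUnion.2 ⟨i, x, rfl⟩))
      have : Q ∈ (U.2.preimage π).fromSpec ⁻¹ᵁ (pullback p q).basicOpen s := by
        show (U.2.preimage π).fromSpec Q ∈ (pullback p q).basicOpen s
        rw [hQ]; exact hxb
      rw [(U.2.preimage π).fromSpec_preimage_basicOpen] at this
      exact this hsQ
    letI := secAlg (f i ≫ p) W
    have hpZ := isPushoutSec (f i ≫ p) k' hW
    letI : Algebra Γ(Z i, W) Γ(pullback (f i ≫ p) q, W') := (πZ.appLE W W' le_rfl).hom.toAlgebra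
    letI : Algebra k' Γ(pullback (f i ≫ p) q, W') :=
      ((Scheme.ΓSpecIso (CommRingCat.of k')).inv ≫ (pullback.snd (f i ≫ p) q).appLE ⊤ W' le_top).hom.toAlgebra
    letI : Algebra k Γ(pullback (f i ≫ p) q, W') :=
      ((algebraMap Γ(Z i, W) Γ(pullback (f i ≫ p) q, W')).comp (algebraMap k Γ(Z i, W))).toAlgebra
    haveI : IsScalarTower k Γ(Z i, W) Γ(pullback (f i ≫ p) q, W') := IsScalarTower.of_algebraMap_eq fun _ => rfl
    haveI : IsScalarTower k k' Γ(pullback (f i ≫ p) q, W') :=
      IsScalarTower.of_algebraMap_eq' (congrArg CommRingCat.Hom.hom hpZ.w)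
    haveI : Algebra.IsPushout k Γ(Z i, W) k' Γ(pullback (f i ≫ p) q, W') := CommRingCat.isPushout_iff_isPushout.1 hpZ
    let eZ := Algebra.IsPushout.equiv k Γ(Z i, W) k' Γ(pullback (f i ≫ p) q, W')
    let φ := ((f i).appLE U.1 W hWU).hom
    have h1 : ∀ r : Γ(X, U.1), m (algebraMap Γ(X, U.1) _ r) = algebraMap Γ(Z i, W) _ (φ r) := fun r => by
      show (π.appLE U.1 (π ⁻¹ᵁ U.1) le_rfl ≫ m) r = ((f i).appLE U.1 W hWU ≫ πZ.appLE W W' le_rfl) r
      congr 2
      simp only [m, Scheme.Hom.appLE_comp_appLE]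
      simp only [hfst]
    have h2 : ∀ a : k', m (algebraMap k' _ a) = algebraMap k' _ a := fun a => by
      show (((Scheme.ΓSpecIso (CommRingCat.of k')).inv ≫ (pullback.snd p q).appLE ⊤ (π ⁻¹ᵁ U.1) le_top) ≫ m) a =
        ((Scheme.ΓSpecIso (CommRingCat.of k')).inv ≫ (pullback.snd (f i ≫ p) q).appLE ⊤ W' le_top) a
      congr 2
      rw [Category.assoc]
      congr 1
      simp only [m, Scheme.Hom.appLE_comp_appLE]
      simp only [show f' i ≫ pullback.snd p q = pullback.snd (f i ≫ p) q from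
        (pullback.lift_snd _ _ _).trans (Category.comp_id _)]
    have hz : eZ (c.sum fun j r => φ r ⊗ₜ[k] b j) = 0 := by
      rw [← hm, hsc, map_finsuppSum, map_finsuppSum]
      exact Finsupp.sum_congr fun j _ => by rw [map_mul, h1, h2]; exact Algebra.IsPushout.equiv_tmul k _ _ _ _ _
    rw [EmbeddingLike.map_eq_zero_iff] at hz
    have hzero : φ (c j) = 0 := by
      have := congrArg ((TensorProduct.rid k Γ(Z i, W)).toLinearMap ∘ₗ LinearMap.lTensor Γ(Z i, W) (b.coord j)) hz
      by_cases hcj : c j = 0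
      · rw [hcj, map_zero]
      · exact (by simpa [map_finsuppSum, Finsupp.sum, Finsupp.single_apply, Finset.sum_ite_eq'] using this : c j ≠ 0 → φ (c j) = 0) hcj
    have hzb : z ∈ (Z i).basicOpen (φ (c j)) := by
      show z ∈ (Z i).basicOpen ((f i).appLE U.1 W hWU (c j))
      rw [Scheme.basicOpen_appLE]
      exact ⟨hzW, hy⟩
    rw [hzero, Scheme.basicOpen_zero] at hzb
    exact hzb

end Groth.Agent.S4905
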