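import Groth.Statements.S4906
import Groth.Agent.FibreDepth.AbsDepth
import Groth.Agent.FibreDepth.Local
import Groth.Agent.PullbackMod.OpenLocus
import Groth.Agent.QCohLib.Coherent
import Mathlib
-- import your own Groth.Agent.* helpers here

set_option autoImplicit false
universe u
open CategoryTheory AlgebraicGeometry
open EGA43

namespace Groth.Agent.S4906

/-- Let X be a regular biequidimensional scheme — Noetherian, with regular local rings, of finite
dimension, with all irreducible components of dimension dim X and with dim T = dim cl{y} +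
codim(cl{y}, T) for every closed irreducible T and point y of T — and F a coherent O_X-module. Then
for every point x of the support of F one has prof(F_x) + dim cl{x} + proj.dim(F_x) = dim X, that
is, the rectified depth prof*_x(F) equals dim X − proj.dim_{O_{X,x}}(F_x). -/
theorem result (X : Scheme.{u}) [IsNoetherian X]
    (hreg : ∀ x : X, IsRegularLocalRing ↑(X.presheaf.stalk x))
    (hfin : topologicalKrullDim X < ⊤)
    (hcomp : ∀ C ∈ irreducibleComponents (X : Type u), topologicalKrullDim ↥C = topologicalKrullDim X)
    (hchain : ∀ (y : X) (T : Set X), IsClosed T → IsIrreducible T → y ∈ T →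
      topologicalKrullDim ↥T = topologicalKrullDim ↥(closure ({y} : Set X)) + topologicalKrullDim ↥{t : X | t ∈ T ∧ t ⤳ y})
    (F : X.Modules) (hF : Coh.IsCoh F) (x : X) (hx : x ∈ CohB1.support F) :
    ((LocCoh.depth ↑(X.presheaf.stalk x) ↑(F.presheaf.stalk x) : ℕ∞) : WithBot ℕ∞) +
        topologicalKrullDim ↥(closure ({x} : Set X)) +
        projectiveDimension (ModuleCat.of ↑(X.presheaf.stalk x) ↑(F.presheaf.stalk x)) =
      topologicalKrullDim X := by
  have hd : ∀ y : X, IsDomain ↑(X.presheaf.stalk y) := fun y =>
    haveI := hreg y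
    Groth.Agent.RegLocal.isDomain _
  obtain ⟨d, t, h1, h2, h3⟩ := Groth.Agent.FibreDepth.exists_dims_of_biequidim X hd hfin hcomp hchain x
  haveI := hreg x
  haveI : Coh.IsQCoh F := hF.1
  haveI := Groth.Agent.PullbackMod.finite_stalk_of_isFT (M := F) hF.2 x
  haveI : Nontrivial ↑(F.presheaf.stalk x) := not_subsingleton_iff_nontrivial.mp hx
  let R := ↑(X.presheaf.stalk x)
  let M := ↑(F.presheaf.stalk x)
  have hle := Groth.Agent.FibreDepth.depth_le_dim (A := R) (M := M) d h1
  obtain ⟨e, he⟩ := ENat.ne_top_iff_exists.mp (ne_top_of_le_ne_top (ENat.natCast_ne_top d) hle)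
  have hed : e ≤ d := by rw [← he] at hle; exact_mod_cast hle
  have hpd : projectiveDimension (ModuleCat.of R M) = ((d - e : ℕ) : WithBot ℕ∞) := by
    refine le_antisymm ((projectiveDimension_le_iff _ _).mpr ?_) ((projectiveDimension_ge_iff _ _).mpr ?_)
    · refine (Groth.Agent.FibreDepth.projDimLT_iff_le_depth (A := R) (M := M) d h1 (d - e)).mpr ?_
      rw [← he]; exact_mod_cast (by omega : d - (d - e) ≤ e)
    · intro hlt
      rcases Nat.eq_zero_or_pos (d - e) with h0 | h0
      · rw [h0, hasProjectiveDimensionLT_zero_iff_isZero, ModuleCat.isZero_iff_subsingleton] at hlt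
        exact not_subsingleton M hlt
      · obtain ⟨k, hk⟩ := Nat.exists_eq_succ_of_ne_zero h0.ne'
        rw [hk] at hlt
        have h := (Groth.Agent.FibreDepth.projDimLT_iff_le_depth (A := R) (M := M) d h1 k).mp hlt
        rw [← he] at h
        have h' : d - k ≤ e := by exact_mod_cast h
        omega
  rw [h2, hpd, show (LocCoh.depth R M) = (e : ℕ∞) from he.symm, ← h3]
  rw [show ((e : ℕ∞) : WithBot ℕ∞) = ((e : ℕ) : WithBot ℕ∞) from rfl, ← Nat.cast_add, ← Nat.cast_add,
    show e + t + (d - e) = d + t by omega]

end Groth.Agent.S4906
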