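import Groth.Statements.S4914
import Groth.Agent.QHomeoLib.Basic
import Mathlib
-- import your own Groth.Agent.* helpers here

set_option autoImplicit false
open CategoryTheory AlgebraicGeometry
universe u v w
open EGA43

namespace Groth.Agent.S4914

/-- Let ψ : X → Y be a continuous map, x a point of X, and (Y_i) a locally finite covering of Y by
closed subsets. If for every index i with ψ x ∈ Y_i the restriction ψ⁻¹(Y_i) → Y_i of ψ is open at
x, then ψ is open at x. -/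
theorem result {α : Type u} {β : Type v} {ι : Type w} [TopologicalSpace α]
    [TopologicalSpace β] (ψ : α → β) (hψ : Continuous ψ) (x : α) (Y : ι → Set β) (hY : LocallyFinite Y)
    (hcl : ∀ i, IsClosed (Y i)) (hcov : ⋃ i, Y i = Set.univ)
    (h : ∀ i, ∀ hi : ψ x ∈ Y i, EGA43.IsOpenAt ((Y i).restrictPreimage ψ) ⟨x, hi⟩) :
    EGA43.IsOpenAt ψ x := by
  intro U hU
  have key : ∀ i, ψ x ∈ Y i → ∃ O ∈ nhds (ψ x), O ∩ Y i ⊆ ψ '' U := fun i hi => by
    have h1 := h i hi _ (continuous_subtype_val.continuousAt.preimage_mem_nhds (x := (⟨x, hi⟩ : ↥(ψ ⁻¹' Y i))) hU)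
    rw [nhds_subtype] at h1
    obtain ⟨O, hO, hOU⟩ := Filter.mem_comap.1 h1
    refine ⟨O, hO, fun y hy => ?_⟩
    obtain ⟨⟨v, hv⟩, hvU, hvy⟩ := hOU (a := ⟨y, hy.2⟩) hy.1
    exact ⟨v, hvU, congrArg Subtype.val hvy⟩
  choose O hO hOU using key
  have hfin : {i | ψ x ∈ Y i}.Finite := hY.point_finite (ψ x)
  have h1 : (⋂ i : {i // ψ x ∈ Y i}, O i.1 i.2) ∈ nhds (ψ x) := by
    haveI : Finite {i // ψ x ∈ Y i} := hfin.to_subtype
    exact Filter.iInter_mem.2 fun i => hO i.1 i.2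
  have h2 : (⋃ i : {i // ψ x ∉ Y i}, Y i.1)ᶜ ∈ nhds (ψ x) :=
    ((hY.comp_injective Subtype.val_injective).isClosed_iUnion fun i => hcl i.1).isOpen_compl.mem_nhds
      (fun hm => by obtain ⟨i, hi⟩ := Set.mem_iUnion.1 hm; exact i.2 hi)
  refine Filter.mem_of_superset (Filter.inter_mem h1 h2) fun y hy => ?_
  obtain ⟨i, hi⟩ := Set.mem_iUnion.1 (hcov.superset (Set.mem_univ y))
  by_cases hxi : ψ x ∈ Y i
  · exact hOU i hxi ⟨Set.mem_iInter.1 hy.1 ⟨i, hxi⟩, hi⟩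
  · exact (hy.2 (Set.mem_iUnion.2 ⟨⟨i, hxi⟩, hi⟩)).elim

end Groth.Agent.S4914
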