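import Groth.Statements.S4916
import Groth.Agent.QHomeoLib.Basic
import Mathlib
-- import your own Groth.Agent.* helpers here

set_option autoImplicit false
open CategoryTheory AlgebraicGeometry
universe u v w
open EGA43

namespace Groth.Agent.S4916

/-- Let ψ : X → Y be a continuous map of topological spaces and y a point of Y. The set of points x of
the fibre ψ⁻¹(y) at which ψ is open is a closed subset of ψ⁻¹(y). -/
theorem result {α : Type u} {β : Type v} [TopologicalSpace α] [TopologicalSpace β]
    (ψ : α → β) (hψ : Continuous ψ) (y : β) :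
    IsClosed {x : ↥(ψ ⁻¹' {y}) | EGA43.IsOpenAt ψ x.1} := by
  rw [isClosed_iff_nhds]
  intro x hx U hU
  obtain ⟨z, hzU, hz⟩ := hx _ (continuous_subtype_val.continuousAt.preimage_mem_nhds (interior_mem_nhds.2 hU))
  have h1 := hz U (mem_interior_iff_mem_nhds.1 hzU)
  rwa [show ψ z.1 = ψ x.1 from z.2.trans x.2.symm] at h1

end Groth.Agent.S4916
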