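import Groth.Statements.S4917
import Groth.Agent.OpenDim.Conv
-- import your own Groth.Agent.* helpers here

set_option autoImplicit false
open CategoryTheory AlgebraicGeometry
universe u v w
open EGA43

namespace Groth.Agent.S4917

/-- Assume Y is a locally Noetherian scheme and X is an irreducible scheme, and consider a dominant
morphism f : X ⟶ Y that is locally of finite type. Fix a point x of X and write y = f x. If, for
every irreducible component of the fibre X_y that contains x, the morphism f is open at the generic
point of that component, then f is equidimensional at x. -/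
theorem result {X Y : Scheme.{u}} [IsLocallyNoetherian Y]
    [IrreducibleSpace X] (f : X ⟶ Y) [LocallyOfFiniteType f] [IsDominant f] (x : X)
    (h : ∀ z : ↥(f.fiber (f.base x)), f.asFiber x ∈ closure {z} →
      (∀ z' : ↥(f.fiber (f.base x)), z ∈ closure {z'} → z' = z) →
      EGA43.IsOpenAt f.base ((f.fiberι (f.base x)).base z)) :
    EGA43.IsEquidimAt f x := by
  haveI : IsLocallyNoetherian X := LocallyOfFiniteType.isLocallyNoetherian f
  haveI : IrreducibleSpace Y := by
    haveI : Nonempty Y := ⟨f.base (genericPoint X)⟩
    have h1 : IsGenericPoint (f.base (genericPoint X)) Set.univ := by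
      have := (genericPoint_spec X).image f.continuous
      rwa [Set.image_univ, f.denseRange.closure_range] at this
    haveI : PreirreducibleSpace Y := ⟨h1.def ▸ isIrreducible_singleton.closure.isPreirreducible⟩
    exact ⟨‹Nonempty Y›⟩
  exact Groth.Agent.DimFormulaLib.isEquidimAt_of_formula f x
    (Groth.Agent.OpenDim.isEquidim_stalk_of_irreducibleSpace _)
    (Groth.Agent.OpenDim.isEquidim_stalk_of_irreducibleSpace _)
    (Groth.Agent.OpenDim.dim_formula_of_isOpenAt f x
      (Groth.Agent.OpenDim.forall_max_of_fibre f x _ h))

end Groth.Agent.S4917
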