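import Groth.Statements.S4919
import Groth.Agent.OpenDim.Generic
-- import your own Groth.Agent.* helpers here

set_option autoImplicit false
open CategoryTheory AlgebraicGeometry
universe u v w
open EGA43

namespace Groth.Agent.S4919

/-- Let Y be an irreducible locally Noetherian scheme with generic point η, f : X ⟶ Y a morphism locally
of finite type, y a point of Y and Z an irreducible component of the fibre f⁻¹(y) (a maximal
irreducible subset of f⁻¹(y), with the topology induced from X) such that f is open at the generic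
point ζ of Z. Then there is an irreducible component X' of X containing Z and dominating Y such that
the local dimension of X' ∩ f⁻¹(y) at ζ equals dim Z, and dim Z = dim (X' ∩ f⁻¹(η)). (The published
statement writes the middle term as the dimension of the whole of X' ∩ f⁻¹(y); its proof yields only
the local dimension at the generic point of Z, and the global equality can fail: for the
endomorphism (a, b) ↦ (ab, b² − b) of the affine plane over a field, the fibre over the origin is
the line b = 0 together with the isolated point (0, 1), at which the map is étale, hence open; with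
Z that point, X' is the whole plane, X' ∩ f⁻¹(y) has dimension 1 and dim Z = 0. So the local form is
stated here.) -/
theorem result {X Y : Scheme.{u}} [IrreducibleSpace Y]
    [IsLocallyNoetherian Y] (f : X ⟶ Y) [LocallyOfFiniteType f] (y : Y) (Z : Set X)
    (hZy : Z ⊆ f.base ⁻¹' {y}) (hZ : IsIrreducible Z)
    (hZmax : ∀ Z' : Set X, IsIrreducible Z' → Z' ⊆ f.base ⁻¹' {y} → Z ⊆ Z' → Z' = Z)
    (hopen : ∀ ζ ∈ Z, Z ⊆ closure {ζ} → EGA43.IsOpenAt f.base ζ) :
    ∃ X' ∈ irreducibleComponents (X : Type u), Z ⊆ X' ∧ Dense (f.base '' X') ∧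
      (∀ ζ ∈ Z, Z ⊆ closure {ζ} → ∀ hζ : ζ ∈ X' ∩ f.base ⁻¹' {y},
        FlatMor.localDim ↥(X' ∩ f.base ⁻¹' {y}) ⟨ζ, hζ⟩ = topologicalKrullDim ↥Z) ∧
      topologicalKrullDim ↥Z = topologicalKrullDim ↥(X' ∩ f.base ⁻¹' {genericPoint Y}) := by
  obtain ⟨ζ₀, hζ₀Z, hfζ₀, hmax, hZeq, huniq⟩ :=
    Groth.Agent.OpenDim.exists_generic_of_fibre_component f y Z hZy hZ hZmax
  have hZsub : Z ⊆ closure {ζ₀} := hZeq ▸ Set.inter_subset_left
  have hηmax : Groth.Agent.OpenDim.IsMaxPt (genericPoint Y) :=
    fun y' hy' => (hy'.antisymm (genericPoint_specializes y')).eq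
  obtain ⟨z, hzζ, hfz, hzmax, htr⟩ := Groth.Agent.OpenDim.exists_trd_of_isOpenAt f hmax
    (hopen ζ₀ hζ₀Z hZsub) (genericPoint_specializes (f ζ₀))
  have hdimZ : topologicalKrullDim ↥Z = (Groth.Agent.OpenDim.trd f ζ₀ : WithBot ℕ∞) := by
    refine le_antisymm (Groth.Agent.OpenDim.dim_inter_le f (closure {ζ₀}) isClosed_closure Set.univ
      isOpen_univ y Z (by rw [Set.inter_univ]; exact hZeq) fun w hw => ?_)
      (Groth.Agent.OpenDim.trd_le_dim_inter f (closure {ζ₀}) isClosed_closure Set.univ isOpen_univ y Z
        (by rw [Set.inter_univ]; exact hZeq) hζ₀Z)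
    exact_mod_cast Groth.Agent.OpenDim.trd_le f (specializes_iff_mem_closure.2 (hZsub hw))
      (hfζ₀.trans (hZy hw).symm)
  refine ⟨closure {z}, Groth.Agent.DimFormulaLib.closure_mem_irreducibleComponents
    (Groth.Agent.OpenDim.isMaxPt_of_maxInFibre f hzmax (hfz ▸ hηmax)),
    hZsub.trans (closure_minimal (Set.singleton_subset_iff.2 (specializes_iff_mem_closure.1 hzζ))
      isClosed_closure), ?_, fun ζ hζ hsub hζ' => ?_, ?_⟩
  · rw [dense_iff_closure_eq, Groth.Agent.OpenDim.closure_image_closure_point, hfz]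
    exact genericPoint_spec Y
  · obtain rfl := huniq ζ hζ hsub
    rw [hdimZ]
    exact Groth.Agent.OpenDim.localDim_inter_eq_trd f (closure {z}) isClosed_closure ⟨ζ, hζ'⟩ hmax
  · rw [hdimZ, ← htr, ← hfz]
    exact (Groth.Agent.OpenDim.dim_generic_fibre f).symm

end Groth.Agent.S4919
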