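import Groth.Statements.S4920
import Groth.Agent.OpenDim.Tfae
import Groth.Agent.DimFormulaLib.FibreComp
-- import your own Groth.Agent.* helpers here

set_option autoImplicit false
open CategoryTheory AlgebraicGeometry
universe u v w
open EGA43

namespace Groth.Agent.S4920

/-- Let Y be an irreducible locally Noetherian scheme with generic point η, f : X ⟶ Y a morphism locally
of finite type and y a point of Y such that f is open at every point of the fibre over y. For z in Y
write E(z) for the set of dimensions of the irreducible components of the fibre X_z. Then E(y) ⊆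
E(η), and consequently dim X_y ≤ dim X_η. -/
theorem result {X Y : Scheme.{u}} [IrreducibleSpace Y] [IsLocallyNoetherian Y]
    (f : X ⟶ Y) [LocallyOfFiniteType f] (y : Y) (h : ∀ x : X, f.base x = y → EGA43.IsOpenAt f.base x) :
    letI E : Y → Set (WithBot ℕ∞) := fun z =>
      (fun Z : Set ↥(f.fiber z) => topologicalKrullDim ↥Z) '' irreducibleComponents ↥(f.fiber z)
    E y ⊆ E (genericPoint Y) ∧
      topologicalKrullDim ↥(f.fiber y) ≤ topologicalKrullDim ↥(f.fiber (genericPoint Y)) := by
  have key : (fun Z : Set ↥(f.fiber y) => topologicalKrullDim ↥Z) '' irreducibleComponents ↥(f.fiber y) ⊆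
      (fun Z : Set ↥(f.fiber (genericPoint Y)) => topologicalKrullDim ↥Z) ''
        irreducibleComponents ↥(f.fiber (genericPoint Y)) := by
    rintro _ ⟨Z, hZ, rfl⟩
    obtain ⟨x, t, hfx, hmax, ht, hdim⟩ := Groth.Agent.DimFormulaLib.exists_point_of_component f y Z hZ
    subst hfx
    obtain ⟨z, -, hfz, hzmax, htr⟩ := Groth.Agent.OpenDim.exists_trd_of_isOpenAt f hmax (h x rfl)
      (genericPoint_specializes (f x))
    obtain ⟨Z', hZ', hdim'⟩ := Groth.Agent.DimFormulaLib.exists_component_of_point f z hfz
      (fun x' hx' hs => hzmax x' (hx'.trans hfz.symm) hs) t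
      (by rw [← ht, Groth.Agent.OpenDim.resTrdegAt_eq_trd, Groth.Agent.OpenDim.resTrdegAt_eq_trd, htr])
    exact ⟨Z', hZ', hdim'.trans hdim.symm⟩
  refine ⟨key, Groth.Agent.DimFormulaLib.topologicalKrullDim_fiber_le f fun Z hZ => ?_⟩
  obtain ⟨Z', -, hdim'⟩ := key ⟨Z, hZ, rfl⟩
  simp only at hdim'
  rw [← hdim']
  exact Topology.IsEmbedding.subtypeVal.isInducing.topologicalKrullDim_le

end Groth.Agent.S4920
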