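import Groth.Statements.S4921
import Groth.Agent.OpenDim.Tfae
import Groth.Agent.DimFormulaLib.FibreComp
import Groth.Agent.FibreDepth.FibreDim
-- import your own Groth.Agent.* helpers here

set_option autoImplicit false
open CategoryTheory AlgebraicGeometry
universe u v w
open EGA43

namespace Groth.Agent.S4921

/-- Let Y be a locally Noetherian scheme, f : X ⟶ Y a proper morphism and y a point of Y such that f is
open at every point of the fibre over y. Then the function z ↦ dim X_z is constant on a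
neighbourhood of y. -/
theorem result {X Y : Scheme.{u}} [IsLocallyNoetherian Y] (f : X ⟶ Y)
    [IsProper f] (y : Y) (h : ∀ x : X, f.base x = y → EGA43.IsOpenAt f.base x) :
    ∃ V ∈ nhds y, ∀ z ∈ V, topologicalKrullDim ↥(f.fiber z) = topologicalKrullDim ↥(f.fiber y) := by
  classical
  -- near `y` every point is a specialization of a maximal point above `y`
  obtain ⟨R, j, hj, ⟨(p : PrimeSpectrum R), hp⟩, -⟩ := Scheme.exists_affine_mem_range_and_range_subset
    (show y ∈ (⊤ : Y.Opens) from trivial)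
  haveI := hj
  haveI : IsLocallyNoetherian (Spec R) := isLocallyNoetherian_of_isOpenImmersion j
  haveI : IsNoetherianRing R := by
    haveI : IsNoetherianRing Γ(Spec R, ⊤) :=
      IsLocallyNoetherian.component_noetherian ⟨⊤, isAffineOpen_top _⟩
    exact isNoetherianRing_of_ringEquiv _ (Scheme.ΓSpecIso R).commRingCatIsoToRingEquiv
  let G : Set (PrimeSpectrum R) :=
    ⋃ N ∈ {N : PrimeSpectrum R | IsMin N ∧ ¬ N ≤ p}, closure {N}
  have hfin : {N : PrimeSpectrum R | IsMin N ∧ ¬ N ≤ p}.Finite := by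
    refine ((minimalPrimes.finite_of_isNoetherianRing R).preimage
      (f := fun N : PrimeSpectrum R => N.asIdeal) (fun a _ b _ hab => PrimeSpectrum.ext hab)).subset
      fun N hN => PrimeSpectrum.isMin_iff.1 hN.1
  have hG : IsClosed G := hfin.isClosed_biUnion fun _ _ => isClosed_closure
  have hpG : p ∈ Gᶜ := by
    intro hmem
    obtain ⟨N, hN, hNp⟩ := Set.mem_iUnion₂.1 hmem
    exact hN.2 ((PrimeSpectrum.le_iff_specializes N p).2 (specializes_iff_mem_closure.2 hNp))
  refine ⟨(j '' Gᶜ) ∩ {z : Y | topologicalKrullDim ↥(f.fiber z) ≤ topologicalKrullDim ↥(f.fiber y)},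
    Filter.inter_mem ((j.isOpenEmbedding.isOpenMap _ hG.isOpen_compl).mem_nhds ⟨p, hpG, hp⟩)
      ((Groth.Agent.FibreDepth.isOpen_fibre_dim_le f f.isClosedMap _).mem_nhds (Set.mem_ofPred_eq ▸ le_rfl)),
    fun z hz => le_antisymm hz.2 ?_⟩
  obtain ⟨(P : PrimeSpectrum R), hPG, rfl⟩ := hz.1
  obtain ⟨N₀, hN₀, hN₀P⟩ := Ideal.exists_minimalPrimes_le (I := (⊥ : Ideal R)) (J := P.asIdeal) bot_le
  let N : PrimeSpectrum R := ⟨N₀, hN₀.1.1⟩
  have hNp : N ≤ p := by
    by_contra hle
    exact hPG (Set.mem_iUnion₂.2 ⟨N, ⟨PrimeSpectrum.isMin_iff.2 hN₀, hle⟩,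
      specializes_iff_mem_closure.1 ((PrimeSpectrum.le_iff_specializes N P).1 hN₀P)⟩)
  have hηy : j N ⤳ y := hp ▸ ((PrimeSpectrum.le_iff_specializes N p).1 hNp).map j.continuous
  have hηz : j N ⤳ j P := ((PrimeSpectrum.le_iff_specializes N P).1 hN₀P).map j.continuous
  refine Groth.Agent.DimFormulaLib.topologicalKrullDim_fiber_le f fun Z hZ => ?_
  obtain ⟨x, t, hfx, hmax, ht, hdim⟩ := Groth.Agent.DimFormulaLib.exists_point_of_component f y Z hZ
  subst hfx
  obtain ⟨ξ, -, hfξ, -, htr⟩ := Groth.Agent.OpenDim.exists_trd_of_isOpenAt f hmax (h x rfl) hηy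
  obtain ⟨w, hw, hfw⟩ : j P ∈ f.base '' closure {ξ} :=
    hηz.mem_closed (f.isClosedMap _ isClosed_closure) ⟨ξ, subset_closure rfl, hfξ⟩
  obtain ⟨w', -, -, hfw', hle⟩ :=
    Groth.Agent.OpenDim.exists_trd_ge f (specializes_iff_mem_closure.2 hw)
  obtain ⟨ζ, hfζ, hζw, hζmax⟩ := Groth.Agent.OpenDim.exists_max_in_fibre f w'
  have hfζz : f ζ = j P := hfζ.trans (hfw'.trans hfw)
  obtain ⟨Z', -, hdim'⟩ := Groth.Agent.DimFormulaLib.exists_component_of_point f ζ hfζz
    (fun x' hx' hs => hζmax x' (hx'.trans hfζz.symm) hs) _ (Groth.Agent.OpenDim.resTrdegAt_eq_trd f ζ)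
  have h3 : t ≤ Groth.Agent.OpenDim.trd f ζ := by
    refine le_trans ?_ (hle.trans (Groth.Agent.OpenDim.trd_le f hζw hfζ))
    rw [htr]
    have := ht.symm.trans (Groth.Agent.OpenDim.resTrdegAt_eq_trd f x)
    exact_mod_cast this.le
  rw [hdim]
  refine le_trans ?_ (Topology.IsEmbedding.subtypeVal (p := fun w => w ∈ Z')).isInducing.topologicalKrullDim_le
  refine le_trans ?_ hdim'.ge
  exact_mod_cast h3

end Groth.Agent.S4921
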