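import Groth.Statements.S4922
import Groth.Agent.OpenDim.Local
-- import your own Groth.Agent.* helpers here

set_option autoImplicit false
open CategoryTheory AlgebraicGeometry
universe u v w
open EGA43

namespace Groth.Agent.S4922

/-- Let Y be a locally Noetherian scheme, f : X ⟶ Y an open morphism of finite type and y a point of Y.
If dim X_y = dim X_{η} for the generic point η of every irreducible component of Y containing y,
then z ↦ dim X_z is constant on a neighbourhood of y. -/
theorem result {X Y : Scheme.{u}} [IsLocallyNoetherian Y]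
    (f : X ⟶ Y) [LocallyOfFiniteType f] [QuasiCompact f] (hf : IsOpenMap f.base) (y : Y)
    (h : ∀ η : Y, y ∈ closure {η} → closure {η} ∈ irreducibleComponents (Y : Type u) →
      topologicalKrullDim ↥(f.fiber y) = topologicalKrullDim ↥(f.fiber η)) :
    ∃ V ∈ nhds y, ∀ z ∈ V, topologicalKrullDim ↥(f.fiber z) = topologicalKrullDim ↥(f.fiber y) := by
  have hall : ∀ᶠ z in nhds y, ∀ Z ∈ irreducibleComponents ↥(f.fiber y),
      topologicalKrullDim ↥Z ≤ topologicalKrullDim ↥(f.fiber z) := by
    rw [Filter.eventually_all_finite (Groth.Agent.OpenDim.finite_components_fiber f y)]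
    intro Z hZ
    obtain ⟨x, hfx, hmax, hdim⟩ := Groth.Agent.OpenDim.exists_maxInFibre_of_component f hZ
    filter_upwards [hfx ▸ Groth.Agent.OpenDim.eventually_exists_trd_eq f hf hmax] with z ⟨ω, hfω, _, htr⟩
    rw [hdim, ← htr]
    exact Groth.Agent.OpenDim.le_dim_fiber f hfω
  refine ⟨_, (hall.and (Groth.Agent.OpenDim.eventually_below_generic y)), fun z hz => ?_⟩
  obtain ⟨h1, η, hηmax, hηy, hηz⟩ := hz
  refine le_antisymm ?_ (Groth.Agent.DimFormulaLib.topologicalKrullDim_fiber_le f h1)
  rw [h η (specializes_iff_mem_closure.1 hηy)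
    (Groth.Agent.DimFormulaLib.closure_mem_irreducibleComponents hηmax)]
  refine Groth.Agent.DimFormulaLib.topologicalKrullDim_fiber_le f fun Z hZ => ?_
  obtain ⟨w, hfw, hmax, hdim⟩ := Groth.Agent.OpenDim.exists_maxInFibre_of_component f hZ
  subst hfw
  obtain ⟨ω, hfω, -, htr⟩ := Groth.Agent.OpenDim.exists_trd_eq_of_generic f hf hmax hηz
  rw [hdim, ← htr]
  exact Groth.Agent.OpenDim.le_dim_fiber f hfω

end Groth.Agent.S4922
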