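import Groth.Statements.S4923
import Groth.Agent.OpenDim.Local
-- import your own Groth.Agent.* helpers here

set_option autoImplicit false
open CategoryTheory AlgebraicGeometry
universe u v w
open EGA43

namespace Groth.Agent.S4923

/-- Let Y be a locally Noetherian scheme, f : X ⟶ Y an open morphism of finite type and y a point of Y;
for z in Y let E(z) be the set of dimensions of the irreducible components of the fibre X_z. If E(y)
= E(η) for the generic point η of every irreducible component of Y containing y, then E is constant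
on a neighbourhood of y. -/
theorem result {X Y : Scheme.{u}}
    [IsLocallyNoetherian Y] (f : X ⟶ Y) [LocallyOfFiniteType f] [QuasiCompact f] (hf : IsOpenMap f.base) (y : Y) :
    letI E : Y → Set (WithBot ℕ∞) := fun z =>
      (fun Z : Set ↥(f.fiber z) => topologicalKrullDim ↥Z) '' irreducibleComponents ↥(f.fiber z)
    (∀ η : Y, y ∈ closure {η} → closure {η} ∈ irreducibleComponents (Y : Type u) → E y = E η) →
      ∃ V ∈ nhds y, ∀ z ∈ V, E z = E y := by
  intro h
  have hsub : ∀ z η : Y, η ⤳ z →
      (fun Z : Set ↥(f.fiber z) => topologicalKrullDim ↥Z) '' irreducibleComponents ↥(f.fiber z) ⊆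
        (fun Z : Set ↥(f.fiber η) => topologicalKrullDim ↥Z) '' irreducibleComponents ↥(f.fiber η) := by
    rintro z η hη _ ⟨Z, hZ, rfl⟩
    obtain ⟨w, hfw, hmax, hdim⟩ := Groth.Agent.OpenDim.exists_maxInFibre_of_component f hZ
    subst hfw
    obtain ⟨ω, hfω, hωmax, htr⟩ := Groth.Agent.OpenDim.exists_trd_eq_of_generic f hf hmax hη
    obtain ⟨Z', hZ', hdim'⟩ := Groth.Agent.DimFormulaLib.exists_component_of_point f ω hfω
      (fun x' hx' hs => hωmax x' (hx'.trans hfω.symm) hs) _ (Groth.Agent.OpenDim.resTrdegAt_eq_trd f ω)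
    exact ⟨Z', hZ', hdim'.trans ((congrArg (fun n : ℕ => (n : WithBot ℕ∞)) htr).trans hdim.symm)⟩
  have hall : ∀ᶠ z in nhds y, ∀ Z ∈ irreducibleComponents ↥(f.fiber y), topologicalKrullDim ↥Z ∈
      (fun Z : Set ↥(f.fiber z) => topologicalKrullDim ↥Z) '' irreducibleComponents ↥(f.fiber z) := by
    rw [Filter.eventually_all_finite (Groth.Agent.OpenDim.finite_components_fiber f y)]
    intro Z hZ
    obtain ⟨x, hfx, hmax, hdim⟩ := Groth.Agent.OpenDim.exists_maxInFibre_of_component f hZ
    filter_upwards [hfx ▸ Groth.Agent.OpenDim.eventually_exists_trd_eq f hf hmax] with z ⟨ω, hfω, hωmax, htr⟩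
    obtain ⟨Z', hZ', hdim'⟩ := Groth.Agent.DimFormulaLib.exists_component_of_point f ω hfω
      (fun x' hx' hs => hωmax x' (hx'.trans hfω.symm) hs) _ (Groth.Agent.OpenDim.resTrdegAt_eq_trd f ω)
    exact ⟨Z', hZ', hdim'.trans ((congrArg (fun n : ℕ => (n : WithBot ℕ∞)) htr).trans hdim.symm)⟩
  refine ⟨_, (hall.and (Groth.Agent.OpenDim.eventually_below_generic y)), fun z hz => ?_⟩
  obtain ⟨h1, η, hηmax, hηy, hηz⟩ := hz
  refine Set.Subset.antisymm ((hsub z η hηz).trans ?_) ?_
  · exact (h η (specializes_iff_mem_closure.1 hηy)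
      (Groth.Agent.DimFormulaLib.closure_mem_irreducibleComponents hηmax)).ge
  · rintro _ ⟨Z, hZ, rfl⟩
    exact h1 Z hZ

end Groth.Agent.S4923
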