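import Groth.Statements.S4924
import Groth.Agent.OpenDim.Local
-- import your own Groth.Agent.* helpers here

set_option autoImplicit false
open CategoryTheory AlgebraicGeometry
universe u v w
open EGA43

namespace Groth.Agent.S4924

/-- Let Y be a locally Noetherian scheme, f : X ⟶ Y an open morphism of finite type and y a point of Y.
Then there is an open neighbourhood U of the fibre f⁻¹(y) in X such that the function z ↦ dim (U ∩
f⁻¹(z)) is constant on a neighbourhood of y. -/
theorem result {X Y : Scheme.{u}} [IsLocallyNoetherian Y]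
    (f : X ⟶ Y) [LocallyOfFiniteType f] [QuasiCompact f] (hf : IsOpenMap f.base) (y : Y) :
    ∃ U : X.Opens, f.base ⁻¹' {y} ⊆ (U : Set X) ∧ ∃ V ∈ nhds y, ∀ z ∈ V,
      topologicalKrullDim ↥((U : Set X) ∩ f.base ⁻¹' {z}) = topologicalKrullDim ↥((U : Set X) ∩ f.base ⁻¹' {y}) := by
  let D := topologicalKrullDim ↥(f.fiber y)
  let U : X.Opens := ⟨{w | FlatMor.fibreDimAt f w ≤ D}, Groth.Agent.FibreDepth.isOpen_fibreDimAt_le f D⟩
  have hU : f.base ⁻¹' {y} ⊆ (U : Set X) := fun w hw => Groth.Agent.OpenDim.fibreDimAt_le f fun z hz _ =>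
    Groth.Agent.OpenDim.le_dim_fiber f (hz.trans hw)
  have hall : ∀ᶠ z in nhds y, ∀ Z ∈ irreducibleComponents ↥(f.fiber y),
      topologicalKrullDim ↥Z ≤ topologicalKrullDim ↥((U : Set X) ∩ f.base ⁻¹' {z}) := by
    rw [Filter.eventually_all_finite (Groth.Agent.OpenDim.finite_components_fiber f y)]
    intro Z hZ
    obtain ⟨x, hfx, hmax, hdim⟩ := Groth.Agent.OpenDim.exists_maxInFibre_of_component f hZ
    filter_upwards [hfx ▸ Groth.Agent.OpenDim.eventually_exists_trd_eq f hf hmax] with z ⟨ω, hfω, hωmax, htr⟩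
    rw [hdim, ← htr]
    refine Groth.Agent.OpenDim.trd_le_dim_inter f Set.univ isClosed_univ (U : Set X) U.isOpen z _
      (by rw [Set.univ_inter]) (z := ω) ⟨?_, hfω⟩
    show FlatMor.fibreDimAt f ω ≤ D
    rw [Groth.Agent.OpenDim.fibreDimAt_eq_trd f hωmax, htr]
    exact Groth.Agent.OpenDim.le_dim_fiber f hfx
  have hy : topologicalKrullDim ↥((U : Set X) ∩ f.base ⁻¹' {y}) = D := by
    rw [Set.inter_eq_right.2 hU]
    exact (IsHomeomorph.topologicalKrullDim_eq _ (f.fiberHomeo y).isHomeomorph).symm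
  refine ⟨U, hU, _, hall, fun z hz => ?_⟩
  rw [hy]
  refine le_antisymm ?_ (Groth.Agent.DimFormulaLib.topologicalKrullDim_fiber_le f hz)
  refine Groth.Agent.OpenDim.dim_inter_le f Set.univ isClosed_univ (U : Set X) U.isOpen z _
    (by rw [Set.univ_inter]) fun w hw => ?_
  exact (Groth.Agent.OpenDim.trd_le_fibreDimAt f rfl (specializes_refl w)).trans hw.1

end Groth.Agent.S4924
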