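import Groth.Statements.S4929
import Groth.Agent.UnivOpenAtLib.Basic
-- import your own Groth.Agent.* helpers here

set_option autoImplicit false
open CategoryTheory AlgebraicGeometry
universe u v w
open EGA43

namespace Groth.Agent.S4929

open CategoryTheory.Limits in
/-- Let f : X ⟶ Y be a morphism of schemes, x a point of X, and (Y_i ⟶ Y) a finite family of closed
immersions whose images cover Y. If for every i the base change X ×_Y Y_i ⟶ Y_i is universally open
at every point lying over x, then f is universally open at x. -/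
theorem result {X Y : Scheme.{u}} (f : X ⟶ Y) (x : X) {ι : Type w}
    [Finite ι] (T : ι → Scheme.{u}) (g : ∀ i, T i ⟶ Y) [∀ i, IsClosedImmersion (g i)]
    (hcov : ⋃ i, Set.range (g i).base = Set.univ)
    (h : ∀ i, ∀ x' : ↥(pullback f (g i)), (pullback.fst f (g i)).base x' = x →
      EGA43.IsUnivOpenAt (pullback.snd f (g i)) x') :
    EGA43.IsUnivOpenAt f x := by
  intro Y' k x' hx'
  let Y'i := fun i => pullback k (g i)
  have key : ∀ (U : Set ↑(pullback f k)), IsOpen U → x' ∈ U → (pullback.snd f k).base '' U ∈ nhds ((pullback.snd f k).base x') := by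
    intro U hU hxU
    let v := fun i => pullback.fst k (g i)
    let B := fun i => (pullback.snd (pullback.snd f k) (v i)).base '' ((pullback.fst (pullback.snd f k) (v i)).base ⁻¹' U)
    have hint : ∀ i (w : ↑(Y'i i)), (v i).base w = (pullback.snd f k).base x' → w ∈ interior (B i) := by
      intro i w hw
      obtain ⟨p, hp1, hp2⟩ := Scheme.Pullback.exists_preimage_pullback (f := pullback.snd f k) (g := v i) x' w hw.symm
      have sqB := (IsPullback.of_hasPullback (pullback.snd f k) (v i)).paste_horiz (IsPullback.of_hasPullback f k)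
      rw [pullback.condition] at sqB
      have ho := Groth.Agent.UnivOpenAtLib.isOpenAt_of_isPullback (h i _ ?_)
        (IsPullback.of_right' sqB (IsPullback.of_hasPullback f (g i))) p rfl
      · rw [← hp2]
        exact mem_interior_iff_mem_nhds.2 (ho _ ((hU.preimage (Scheme.Hom.continuous _)).mem_nhds
          (show (pullback.fst (pullback.snd f k) (v i)).base p ∈ U by rw [hp1]; exact hxU)))
      · rw [← Scheme.Hom.comp_apply, IsPullback.lift_fst, Scheme.Hom.comp_apply, hp1, hx']
    rw [mem_nhds_iff]
    refine ⟨(⋃ i, (v i).base '' (interior (B i))ᶜ)ᶜ, ?_,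
      (isClosed_iUnion_of_finite fun i => (Scheme.Hom.isClosedMap (v i)) _ isOpen_interior.isClosed_compl).isOpen_compl, ?_⟩
    · intro y hy
      obtain ⟨i, t, ht⟩ := Set.mem_iUnion.1 (hcov.superset (Set.mem_univ (k.base y)))
      obtain ⟨w, hw, -⟩ := Scheme.Pullback.exists_preimage_pullback (f := k) (g := g i) y t ht.symm
      obtain ⟨p, hp, hpw⟩ := interior_subset (by_contra fun hn => hy (Set.mem_iUnion.2 ⟨i, w, hn, hw⟩) : w ∈ interior (B i))
      refine ⟨(pullback.fst (pullback.snd f k) (v i)).base p, hp, ?_⟩
      rw [← hw, ← hpw, ← Scheme.Hom.comp_apply, pullback.condition, Scheme.Hom.comp_apply]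
    · intro hy
      obtain ⟨i, w, hw, hwy⟩ := Set.mem_iUnion.1 hy
      exact hw (hint i w hwy)
  intro U hU
  obtain ⟨W, hWU, hW, hxW⟩ := mem_nhds_iff.1 hU
  exact Filter.mem_of_superset (key W hW hxW) (Set.image_mono hWU)

end Groth.Agent.S4929
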