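import Groth.Statements.S4933
import Groth.Agent.OpenDim.Dominate
-- import your own Groth.Agent.* helpers here

set_option autoImplicit false
open CategoryTheory AlgebraicGeometry
universe u v w
open EGA43

namespace Groth.Agent.S4933

/-- Let f : X ⟶ Y be a morphism locally of finite type, x a point of X which is a maximal point of its
fibre X_y, y = f x. Consider: a) f is universally open at x; b) for every irreducible component Y₀
of Y containing y, with generic point η, there is an irreducible component Z of X containing x and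
dominating Y₀ such that dim_x(X_y) = dim_x(Z ∩ X_y) = dim(Z ∩ X_η); b') for every open neighbourhood
U of x and every generization y' of y one has dim(U ∩ X_{y'}) ≥ dim_x(X_y). Then a) implies b'), and
b') implies b). (Subsets of X carry the induced topology; dim_x(U ∩ X_y) = dim_x(X_y). The published
statement asserts moreover that b) implies b'); that implication can fail, because a generization y'
of y need not lie under any point of U ∩ Z: for the finite birational morphism from the affine plane
onto the surface obtained from it by identifying two rational points p and q, at x = p condition b)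
holds with all dimensions equal to 0, while for U the complement of a line L through q avoiding p
and y' the image of the generic point of L the set U ∩ X_{y'} is empty. So only a) ⇒ b') and b') ⇒
b) are stated here.) -/
theorem result {X Y : Scheme.{u}} (f : X ⟶ Y) [LocallyOfFiniteType f]
    (x : X) (hmax : ∀ x' : X, f.base x' = f.base x → x ∈ closure {x'} → x' = x) :
    (EGA43.IsUnivOpenAt f x → (∀ U : X.Opens, x ∈ U → ∀ y' : Y, y' ⤳ f.base x →
        FlatMor.fibreDimAt f x ≤ topologicalKrullDim ↥((U : Set X) ∩ f.base ⁻¹' {y'}))) ∧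
    ((∀ U : X.Opens, x ∈ U → ∀ y' : Y, y' ⤳ f.base x →
        FlatMor.fibreDimAt f x ≤ topologicalKrullDim ↥((U : Set X) ∩ f.base ⁻¹' {y'})) →
      (∀ Y₀ ∈ irreducibleComponents (Y : Type u), f.base x ∈ Y₀ →
        ∃ Z ∈ irreducibleComponents (X : Type u), ∃ hx : x ∈ Z, closure (f.base '' Z) = Y₀ ∧
          ∀ η : Y, closure ({η} : Set Y) = Y₀ →
            FlatMor.fibreDimAt f x = FlatMor.localDim ↥(Z ∩ f.base ⁻¹' {f.base x}) ⟨x, ⟨hx, rfl⟩⟩ ∧
            FlatMor.localDim ↥(Z ∩ f.base ⁻¹' {f.base x}) ⟨x, ⟨hx, rfl⟩⟩ =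
              topologicalKrullDim ↥(Z ∩ f.base ⁻¹' {η}))) := by
  have hm : Groth.Agent.OpenDim.MaxInFibre f x := Groth.Agent.OpenDim.maxInFibre_iff (f := f) |>.2 hmax
  have hdim := Groth.Agent.OpenDim.fibreDimAt_eq_trd f hm
  refine ⟨fun h U hxU y' hy' => ?_, fun h Y₀ hY₀ hx₀ => ?_⟩
  · obtain ⟨z, hzx, hfz, hle⟩ := Groth.Agent.OpenDim.exists_generization_of_univOpenAt f x h y' hy'
    rw [hdim]
    refine le_trans ?_ (Groth.Agent.OpenDim.trd_le_dim_inter f Set.univ isClosed_univ (U : Set X)
      U.isOpen y' _ (by rw [Set.univ_inter]) (z := z) ⟨hzx.mem_open U.isOpen hxU, hfz⟩)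
    exact_mod_cast hle
  · obtain ⟨η₀, hη₀, hη₀max, hη₀gen⟩ := Groth.Agent.OpenDim.exists_component_generic hY₀
    obtain ⟨ξ, hfξ, hξx, hξmax, hle⟩ := Groth.Agent.OpenDim.exists_generization_trd_ge f x η₀
      (e := Groth.Agent.OpenDim.trd f x)
      (fun U hxU => hdim ▸ h U hxU η₀ (hη₀gen _ hx₀))
    have heq := le_antisymm (Groth.Agent.OpenDim.trd_le_of_specializes_maxInFibre f hm hξx) hle
    obtain ⟨Z, hZ, hxZ, hcl, hw⟩ := Groth.Agent.OpenDim.component_witness f
      (Groth.Agent.OpenDim.isMaxPt_of_maxInFibre f hξmax (hfξ ▸ hη₀max)) hξx (Y₀ := Y₀)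
      (by rw [hfξ]; exact hη₀)
    refine ⟨Z, hZ, hxZ, hcl, fun η hη => ?_⟩
    obtain ⟨h1, h2, h3⟩ := hw η hη
    rw [h3, heq]
    rw [heq] at h1
    rw [hdim] at h2 ⊢
    exact ⟨le_antisymm h1 h2, le_antisymm h2 h1⟩

end Groth.Agent.S4933
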