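import Groth.Statements.S4935
import Mathlib
-- import your own Groth.Agent.* helpers here

set_option autoImplicit false
universe u
open EGA43

namespace Groth.Agent.S4935

/-- Let A be a unibranch local domain, B a domain containing A and integral over A, and 𝔫 a prime ideal
of B lying over the maximal ideal of A. Then Spec B_𝔫 → Spec A is surjective: for every prime ideal
𝔭 of A there is a prime ideal 𝔮 ⊆ 𝔫 of B with 𝔮 ∩ A = 𝔭. -/
theorem result {A B : Type u} [CommRing A] [IsDomain A]
    [IsLocalRing A] (hA : CAlg2.IsUnibranch A) [CommRing B] [IsDomain B] [Algebra A B]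
    (hinj : Function.Injective (algebraMap A B)) [Algebra.IsIntegral A B] (n : Ideal B) [n.IsPrime]
    (hn : n.comap (algebraMap A B) = IsLocalRing.maximalIdeal A) (p : Ideal A) [p.IsPrime] :
    ∃ q : Ideal B, q.IsPrime ∧ q ≤ n ∧ q.comap (algebraMap A B) = p := by
  classical
  obtain ⟨hdom, hloc⟩ := hA
  haveI := hdom
  haveI : IsLocalRing (CAlg2.normRed A) := hloc
  have hnil : ∀ a ∈ nilradical A, algebraMap A B a = 0 := fun a ha => by
    rw [nilradical_eq_zero A, Ideal.zero_eq_bot, Ideal.mem_bot] at ha
    rw [ha, map_zero]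
  let g : CAlg2.red A →+* B := Ideal.Quotient.lift (nilradical A) (algebraMap A B) hnil
  have hg : Function.Injective g := by
    refine (injective_iff_map_eq_zero g).mpr fun z hz => ?_
    obtain ⟨a, rfl⟩ := Ideal.Quotient.mk_surjective z
    have ha : a = 0 := hinj (by simpa [g] using hz)
    rw [ha, map_zero]
  let G : FractionRing (CAlg2.red A) →+* FractionRing B := IsFractionRing.map hg
  let Gₐ : FractionRing (CAlg2.red A) →ₐ[A] FractionRing B :=
    { G with
      commutes' := fun a => by
        show G (algebraMap A (FractionRing (CAlg2.red A)) a) = algebraMap A (FractionRing B) a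
        rw [IsScalarTower.algebraMap_apply A (CAlg2.red A) (FractionRing (CAlg2.red A)),
          IsScalarTower.algebraMap_apply A B (FractionRing B)]
        show IsLocalization.map (FractionRing B) g _ (algebraMap _ _ _) = _
        rw [IsLocalization.map_eq]
        rfl }
  let C := integralClosure B (FractionRing B)
  haveI : Algebra.IsIntegral A (CAlg2.red A) :=
    Algebra.isIntegral_of_surjective Ideal.Quotient.mk_surjective
  have hint : ∀ z : CAlg2.normRed A, Gₐ z.1 ∈ C := fun z =>
    ((isIntegral_trans (R := A) z.1 z.2).map Gₐ).tower_top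
  let ψ : CAlg2.normRed A →+* C :=
    (G.comp (integralClosure (CAlg2.red A) (FractionRing (CAlg2.red A))).val.toRingHom).codRestrict C.toSubring hint
  letI : Algebra A C := ((algebraMap B C).comp (algebraMap A B)).toAlgebra
  haveI : IsScalarTower A B C := .of_algebraMap_eq fun _ => rfl
  haveI : Algebra.IsIntegral A C := Algebra.IsIntegral.trans B
  letI : Algebra (CAlg2.normRed A) C := ψ.toAlgebra
  haveI : IsScalarTower A (CAlg2.normRed A) C := .of_algebraMap_eq fun a => Subtype.ext
    (Gₐ.commutes a).symm
  haveI : Algebra.IsIntegral (CAlg2.normRed A) C := Algebra.IsIntegral.tower_top A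
  haveI : FaithfulSMul (CAlg2.normRed A) C := (faithfulSMul_iff_algebraMap_injective _ _).mpr
    fun _ _ h => Subtype.ext (G.injective (congrArg Subtype.val h))
  haveI : IsIntegrallyClosed (CAlg2.normRed A) :=
    integralClosure.isIntegrallyClosedOfFiniteExtension (FractionRing (CAlg2.red A))
  haveI : Algebra.IsIntegral A (CAlg2.normRed A) := Algebra.IsIntegral.trans (CAlg2.red A)
  obtain ⟨n', -, hn'p, hn'⟩ := Ideal.exists_ideal_over_prime_of_isIntegral (S := C) n ⊥ (by
    rw [Ideal.comap_bot_of_injective _ fun a b h =>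
      IsFractionRing.injective B (FractionRing B) (congrArg Subtype.val h)]
    exact bot_le)
  haveI := hn'p
  obtain ⟨p', -, hp'p, hp'⟩ := Ideal.exists_ideal_over_prime_of_isIntegral (S := CAlg2.normRed A) p ⊥
    (by
      refine le_trans (fun a (ha : algebraMap A (CAlg2.normRed A) a = 0) => ?_) bot_le
      refine Ideal.mem_bot.mpr (hinj (?_ : algebraMap A B a = algebraMap A B 0))
      have h1 := congrArg (algebraMap (CAlg2.normRed A) C) ha
      rw [← IsScalarTower.algebraMap_apply, map_zero] at h1
      rw [map_zero]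
      exact IsFractionRing.injective B (FractionRing B)
        ((congrArg Subtype.val h1).trans (map_zero _).symm))
  haveI := hp'p
  have hmax : n'.comap (algebraMap (CAlg2.normRed A) C) =
      IsLocalRing.maximalIdeal (CAlg2.normRed A) := by
    haveI : (n'.comap (algebraMap (CAlg2.normRed A) C)).IsPrime := Ideal.comap_isPrime _ _
    refine IsLocalRing.eq_maximalIdeal
      (Ideal.isMaximal_of_isIntegral_of_isMaximal_comap (R := A) _ ?_)
    rw [Ideal.comap_comap, ← IsScalarTower.algebraMap_eq, IsScalarTower.algebraMap_eq A B C,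
      ← Ideal.comap_comap]
    show ((n'.comap (algebraMap B C)).comap (algebraMap A B)).IsMaximal
    rw [hn', hn]
    exact IsLocalRing.maximalIdeal.isMaximal A
  haveI : n'.LiesOver (n'.comap (algebraMap (CAlg2.normRed A) C)) := ⟨rfl⟩
  obtain ⟨q', hq'n, hq'p, hq'⟩ := Ideal.exists_ideal_le_liesOver_of_le (p := p')
    (q := n'.comap (algebraMap (CAlg2.normRed A) C)) n'
    (hmax ▸ IsLocalRing.le_maximalIdeal hp'p.ne_top)
  refine ⟨q'.comap (algebraMap B C), inferInstance, hn' ▸ Ideal.comap_mono hq'n, ?_⟩
  rw [Ideal.comap_comap, ← IsScalarTower.algebraMap_eq, IsScalarTower.algebraMap_eq A (CAlg2.normRed A) C,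
    ← Ideal.comap_comap]
  show (q'.under (CAlg2.normRed A)).comap (algebraMap A (CAlg2.normRed A)) = p
  rw [← hq'.over]
  exact hp' 

end Groth.Agent.S4935
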