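import Groth.Statements.S4937
import Groth.Agent.QuasiSecLib.UnibranchRed
import Groth.Agent.DimFormulaLib.Chart
import Groth.Agent.S3404
open TopologicalSpace
-- import your own Groth.Agent.* helpers here

set_option autoImplicit false
open CategoryTheory AlgebraicGeometry
universe u v w
open EGA43

namespace Groth.Agent.S4937

/-- Let X and Y be irreducible schemes and f : X ⟶ Y a dominant morphism which is locally of finite
presentation and locally quasi-finite. If x is a point of X whose image y = f x has unibranch local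
ring O_{Y,y}, then f is open at x. (Stated for f locally of finite presentation, the class to which
the openness criterion by lifting of generizations used in the published argument applies; the
published hypothesis is 'locally quasi-finite', which includes locally of finite type.) -/
theorem result {X Y : Scheme.{u}} [IrreducibleSpace X]
    [IrreducibleSpace Y] (f : X ⟶ Y) [LocallyOfFinitePresentation f] [LocallyQuasiFinite f] [IsDominant f]
    (x : X) (hy : CAlg2.IsUnibranch (Y.presheaf.stalk (f.base x))) : EGA43.IsOpenAt f.base x := by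
  refine ((S3404.result f x).2 inferInstance).2 fun y' hy' => ?_
  obtain ⟨c⟩ := DimFormulaLib.exists_chart f x
  obtain ⟨p', rfl⟩ : y' ∈ Set.range c.i := hy'.mem_open c.i.isOpenEmbedding.isOpen_range ⟨c.p, c.hp⟩
  have hp' : p' ⤳ c.p := c.i.isEmbedding.isInducing.specializes_iff.1 (by rw [c.hp]; exact hy')
  have hlq : LocallyQuasiFinite (Spec.map (CommRingCat.ofHom (algebraMap c.A c.B))) := by
    haveI : LocallyQuasiFinite (Spec.map (CommRingCat.ofHom (algebraMap c.A c.B)) ≫ c.i) := by
      rw [← c.w]; infer_instance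
    exact LocallyQuasiFinite.of_comp _ c.i
  haveI : Algebra.QuasiFinite c.A c.B :=
    RingHom.quasiFinite_algebraMap.1 ((HasRingHomProperty.Spec_iff (P := @LocallyQuasiFinite)).1 hlq)
  -- the generic points
  obtain ⟨ν, hν⟩ : genericPoint X ∈ Set.range c.j :=
    (genericPoint_specializes (c.j c.q)).mem_open c.j.isOpenEmbedding.isOpen_range ⟨c.q, rfl⟩
  have hνmin : ∀ Q : PrimeSpectrum c.B, ν.asIdeal ≤ Q.asIdeal := fun Q =>
    (PrimeSpectrum.le_iff_specializes ν Q).2
      (c.j.isEmbedding.isInducing.specializes_iff.1 (by rw [hν]; exact genericPoint_specializes _))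
  have hηgen : ∀ y : Y, f (genericPoint X) ⤳ y := fun y => by
    rw [specializes_iff_mem_closure]
    have h1 := ((genericPoint_spec X).image f.continuous).def
    rw [h1, Set.image_univ, f.denseRange.closure_range]
    trivial
  let η := PrimeSpectrum.comap (algebraMap c.A c.B) ν
  have hη : c.i η = f (genericPoint X) := by rw [← hν, c.apply_j]
  have hηmin : ∀ P : PrimeSpectrum c.A, η.asIdeal ≤ P.asIdeal := fun P =>
    (PrimeSpectrum.le_iff_specializes η P).2
      (c.i.isEmbedding.isInducing.specializes_iff.1 (by rw [hη]; exact hηgen _))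
  have hnilB : nilradical c.B = ν.asIdeal := le_antisymm (nilradical_le_prime _) (by
    rw [nilradical_eq_sInf]
    exact le_sInf fun J hJ => hνmin ⟨J, hJ⟩)
  have hnilA : nilradical c.A = η.asIdeal := le_antisymm (nilradical_le_prime _) (by
    rw [nilradical_eq_sInf]
    exact le_sInf fun J hJ => hηmin ⟨J, hJ⟩)
  haveI : (nilradical c.B).IsPrime := hnilB ▸ ν.2
  haveI : (nilradical c.A).IsPrime := hnilA ▸ η.2
  -- the local ring as a localisation
  have hy₁ : CAlg2.IsUnibranch (Y.presheaf.stalk (c.i c.p)) := by
    have hcast : ∀ y, y = f x → CAlg2.IsUnibranch (Y.presheaf.stalk y) := by rintro _ rfl; exact hy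
    exact hcast _ c.hp
  letI : Algebra c.A ((Spec (.of c.A)).presheaf.stalk c.p) := StructureSheaf.stalkAlgebra (CommRingCat.of c.A) c.p
  haveI : IsLocalization.AtPrime ((Spec (.of c.A)).presheaf.stalk c.p) c.p.asIdeal :=
    inferInstanceAs (IsLocalization.AtPrime ((Spec.structureSheaf (CommRingCat.of c.A)).presheaf.stalk c.p) c.p.asIdeal)
  let e := (asIso (c.i.stalkMap c.p)).commRingCatIsoToRingEquiv
  letI : Algebra c.A (Y.presheaf.stalk (c.i c.p)) := (e.symm.toRingHom.comp
    (algebraMap c.A ((Spec (.of c.A)).presheaf.stalk c.p))).toAlgebra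
  haveI : IsLocalization.AtPrime (Y.presheaf.stalk (c.i c.p)) (c.q.asIdeal.comap (algebraMap c.A c.B)) :=
    IsLocalization.isLocalization_of_algEquiv (S := (Spec (.of c.A)).presheaf.stalk c.p) c.p.asIdeal.primeCompl
      (AlgEquiv.ofRingEquiv (f := e.symm) fun a => rfl)
  obtain ⟨q', hq'p, hq'q, hq'⟩ := QuasiSecLib.exists_le_comap_eq_of_isUnibranch
    (S₀ := Y.presheaf.stalk (c.i c.p)) (by rw [hnilA, hnilB]; rfl) c.q.asIdeal hy₁ p'.asIdeal
    ((PrimeSpectrum.le_iff_specializes p' c.p).2 hp')
  refine ⟨c.j (⟨q', hq'p⟩ : PrimeSpectrum c.B), ?_, ?_⟩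
  · have h1 := ((PrimeSpectrum.le_iff_specializes ⟨q', hq'p⟩ c.q).1 hq'q).map c.j.continuous
    rwa [show c.j c.q = x from c.hq] at h1
  · rw [c.apply_j]
    exact congrArg c.i (PrimeSpectrum.ext hq')

end Groth.Agent.S4937
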