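import Groth.Statements.S4938
import Groth.Agent.OpenDim.Tfae
-- import your own Groth.Agent.* helpers here

set_option autoImplicit false
open CategoryTheory AlgebraicGeometry
universe u v w
open EGA43

namespace Groth.Agent.S4938

/-- Let Y be a locally Noetherian scheme, f : X ⟶ Y a morphism locally of finite type, and y a
geometrically unibranch point of Y, lying on the unique irreducible component Y₀ of Y with generic
point η. The following are equivalent: a) f is universally open at every point of X_y; b) every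
point x of X_y lies on an irreducible component Z of X dominating Y₀ with dim_x(Z ∩ X_y) = dim(Z ∩
X_η); b'') for every open subset U of X, dim(U ∩ X_η) ≥ dim(U ∩ X_y); c) f is open at every point of
X_y. (The published statement assumes Y locally Noetherian only for c) and also lists b′), the
pointwise form of b″) (for every x in X_y and every open U ∋ x, dim(U ∩ X_η) ≥ dim_x(U ∩ X_y)); over
the spectrum of an infinite product of copies of a field, the inclusion of a non-open closed point
satisfies b) and b″) but not a), so this row takes Y locally Noetherian throughout, and b′) is not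
listed.) -/
theorem result {X Y : Scheme.{u}} [IsLocallyNoetherian Y] (f : X ⟶ Y)
    [LocallyOfFiniteType f] (y : Y) (hy : CAlg2.IsGeomUnibranch (Y.presheaf.stalk y)) :
    List.TFAE [∀ x : X, f.base x = y → EGA43.IsUnivOpenAt f x,
      ∀ x : X, f.base x = y → ∀ Y₀ ∈ irreducibleComponents (Y : Type u), y ∈ Y₀ →
        ∃ Z ∈ irreducibleComponents (X : Type u), ∃ hx : x ∈ Z, closure (f.base '' Z) = Y₀ ∧
          ∀ η : Y, closure ({η} : Set Y) = Y₀ →
            FlatMor.localDim ↥(Z ∩ f.base ⁻¹' {f.base x}) ⟨x, ⟨hx, rfl⟩⟩ = topologicalKrullDim ↥(Z ∩ f.base ⁻¹' {η}),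
      ∀ U : X.Opens, ∀ Y₀ ∈ irreducibleComponents (Y : Type u), y ∈ Y₀ → ∀ η : Y, closure ({η} : Set Y) = Y₀ →
        topologicalKrullDim ↥((U : Set X) ∩ f.base ⁻¹' {y}) ≤ topologicalKrullDim ↥((U : Set X) ∩ f.base ⁻¹' {η}),
      ∀ x : X, f.base x = y → EGA43.IsOpenAt f.base x] := by
  tfae_have 1 → 4 := fun h x hx => Groth.Agent.OpenDim.isOpenAt_of_univOpenAt (h x hx)
  tfae_have 4 → 1 := fun h x hx => by
    subst hx
    exact Groth.Agent.OpenDim.univOpenAt_of_isOpenAt_forall_max f x hy fun ζ hζ _ _ => h ζ hζ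
  tfae_have 4 → 2 := fun h x hx Y₀ hY₀ hy₀ => by
    subst hx
    obtain ⟨ζ, hfζ, hζx, hm, hdim⟩ := Groth.Agent.OpenDim.exists_maxInFibre_fibreDimAt f x
    obtain ⟨Z, hZ, hxZ, hcl, hw⟩ :=
      Groth.Agent.OpenDim.component_of_isOpenAt f hfζ hζx hm hdim (h ζ hfζ) Y₀ hY₀ hy₀
    exact ⟨Z, hZ, hxZ, hcl, fun η hη => (hw η hη).2⟩
  tfae_have 2 → 1 := fun h x hx => by
    subst hx
    refine Groth.Agent.OpenDim.univOpenAt_of_forall_max f x fun ζ hfζ _ hm => ?_
    exact Groth.Agent.OpenDim.univOpenAt_of_component' f hm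
      (by rw [show f.base ζ = f.base x from hfζ]; exact hy)
      fun Y₀ hY₀ hy₀ => h ζ hfζ Y₀ hY₀ (by rw [← show f.base ζ = f.base x from hfζ]; exact hy₀)
  tfae_have 4 → 3 := fun h U Y₀ hY₀ hy₀ η hη => by
    have hgen : η ⤳ y := specializes_iff_mem_closure.2 (hη.symm ▸ hy₀)
    refine Groth.Agent.OpenDim.dim_inter_le f Set.univ isClosed_univ (U : Set X) U.isOpen y _
      (by rw [Set.univ_inter]) fun w hw => ?_
    obtain ⟨ζ, hfζ, hζw, hm⟩ := Groth.Agent.OpenDim.exists_max_in_fibre f w
    have hfy : f ζ = y := hfζ.trans hw.2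
    obtain ⟨z, hzζ, hfz, -, htr⟩ :=
      Groth.Agent.OpenDim.exists_trd_of_isOpenAt f hm (h ζ hfy) (show η ⤳ f ζ by rw [hfy]; exact hgen)
    refine le_trans ?_ (Groth.Agent.OpenDim.trd_le_dim_inter f Set.univ isClosed_univ (U : Set X)
      U.isOpen η _ (by rw [Set.univ_inter]) (z := z) ⟨(hzζ.trans hζw).mem_open U.isOpen hw.1, hfz⟩)
    rw [htr]
    exact_mod_cast Groth.Agent.OpenDim.trd_le f hζw hfζ
  tfae_have 3 → 1 := fun h x hx => by
    subst hx
    refine Groth.Agent.OpenDim.univOpenAt_of_forall_max f x fun ζ hfζ _ hm => ?_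
    refine Groth.Agent.OpenDim.univOpenAt_of_dim_le f hm
      (by rw [show f.base ζ = f.base x from hfζ]; exact hy) fun η hηmax hη U hζU => ?_
    refine le_trans (Groth.Agent.OpenDim.trd_le_dim_inter f Set.univ isClosed_univ (U : Set X)
      U.isOpen (f.base x) _ (by rw [Set.univ_inter]) (z := ζ)
      (show ζ ∈ (U : Set X) ∩ f.base ⁻¹' {f.base x} from ⟨hζU, hfζ⟩)) ?_
    exact h U _ (Groth.Agent.DimFormulaLib.closure_mem_irreducibleComponents hηmax)
      (specializes_iff_mem_closure.1 (show η ⤳ f.base x by rw [← show f.base ζ = f.base x from hfζ]; exact hη)) η rfl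
  tfae_finish

end Groth.Agent.S4938
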