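import Groth.Statements.S4943
import Groth.Agent.OpenDim.EquidimCrit
import Groth.Agent.FlatDim.Trdeg
-- import your own Groth.Agent.* helpers here

set_option autoImplicit false
open CategoryTheory AlgebraicGeometry
universe u v w
open EGA43

namespace Groth.Agent.S4943

/-- Let Y be an irreducible locally Noetherian scheme, f : X ⟶ Y a morphism locally of finite type which
is equidimensional at the point x, y = f x and e = dim_x(X_y). Let X' be an irreducible closed
subset of X containing x, with generic point x', and n a natural number such that codim(X', X) ≤ n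
(the codimension being dim O_{X,x'}) and dim_x(X' ∩ X_y) ≤ e − n. Then codim(X', X) = n, dim_x(X' ∩
X_y) = e − n, and the restriction of f to X' with its reduced subscheme structure is equidimensional
at x. -/
theorem result {X Y : Scheme.{u}} [IrreducibleSpace Y]
    [IsLocallyNoetherian Y] (f : X ⟶ Y) [LocallyOfFiniteType f] (x : X) (hf : EGA43.IsEquidimAt f x)
    (X' : TopologicalSpace.Closeds X) (x' : X) (hx' : closure ({x'} : Set X) = (X' : Set X)) (hx : x ∈ X') (n : ℕ)
    (hcodim : ringKrullDim (X.presheaf.stalk x') ≤ n)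
    (hdim : FlatMor.localDim ↥((X' : Set X) ∩ f.base ⁻¹' {f.base x}) ⟨x, ⟨hx, rfl⟩⟩ + n ≤ FlatMor.fibreDimAt f x) :
    ringKrullDim (X.presheaf.stalk x') = n ∧
      FlatMor.localDim ↥((X' : Set X) ∩ f.base ⁻¹' {f.base x}) ⟨x, ⟨hx, rfl⟩⟩ + n = FlatMor.fibreDimAt f x ∧
      ∀ w : ↥(Scheme.IdealSheafData.vanishingIdeal X').subscheme,
        (Scheme.IdealSheafData.vanishingIdeal X').subschemeι.base w = x →
        EGA43.IsEquidimAt ((Scheme.IdealSheafData.vanishingIdeal X').subschemeι ≫ f) w := by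
  obtain ⟨e, U, hxU, hgen, hw, hdim0⟩ := Groth.Agent.OpenDim.generic_of_isEquidimAt f hf
  have hx'x : x' ⤳ x := specializes_iff_mem_closure.2 (hx'.symm ▸ hx)
  have hx'U : x' ∈ U := hx'x.mem_open U.isOpen hxU
  have hx'cl : closure ({x'} : Set X) = (X' : Set X) := hx'
  obtain ⟨a, d, ha, hda, hle, heq⟩ := Groth.Agent.OpenDim.fibre_height_le f x'
    fun ξ hξ hξmax => (hgen ξ (hξ.mem_open U.isOpen hx'U) hξmax).1
  have hde : d + Groth.Agent.OpenDim.trd f x' = e := by
    obtain ⟨ζ, -, hζx, hmax, hdim⟩ := Groth.Agent.OpenDim.exists_maxInFibre_fibreDimAt f x'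
    have := hda.symm.trans (hdim.trans (by rw [hw ζ (hζx.mem_open U.isOpen hx'U) hmax]))
    exact_mod_cast this
  rw [hdim0] at hdim ⊢
  obtain ⟨w₀, hx'w, hwx, hfw, htw⟩ := Groth.Agent.OpenDim.exists_trd_ge f hx'x
  have hlow : (Groth.Agent.OpenDim.trd f x' : WithBot ℕ∞) ≤
      FlatMor.localDim ↥((X' : Set X) ∩ f.base ⁻¹' {f.base x}) ⟨x, ⟨hx, rfl⟩⟩ :=
    le_trans (by exact_mod_cast htw) (Groth.Agent.OpenDim.trd_le_localDim_inter f (X' : Set X) X'.isClosed _
      (z := w₀) ⟨hx'cl ▸ specializes_iff_mem_closure.1 hx'w, hfw⟩ hwx)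
  obtain ⟨l, hl⟩ : ∃ l : ℕ,
      FlatMor.localDim ↥((X' : Set X) ∩ f.base ⁻¹' {f.base x}) ⟨x, ⟨hx, rfl⟩⟩ = (l : WithBot ℕ∞) := by
    revert hdim hlow
    generalize FlatMor.localDim ↥((X' : Set X) ∩ f.base ⁻¹' {f.base x}) ⟨x, ⟨hx, rfl⟩⟩ = D
    intro hdim hlow
    induction D using WithBot.recBotCoe with
    | bot => simp at hlow
    | coe D =>
      induction D using ENat.recTopCoe with
      | top =>
        exfalso
        have h2 : ((⊤ : ℕ∞) : WithBot ℕ∞) + (n : WithBot ℕ∞) = ((⊤ : ℕ∞) : WithBot ℕ∞) := by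
          rw [← WithBot.coe_natCast, ← WithBot.coe_add, top_add]
        rw [h2] at hdim
        exact ENat.top_ne_natCast _ (top_le_iff.1 (WithBot.coe_le_coe.1 hdim)).symm
      | coe k => exact ⟨k, rfl⟩
  rw [hl] at hdim hlow ⊢
  have h1 : l + n ≤ e := by exact_mod_cast hdim
  have h2 : Groth.Agent.OpenDim.trd f x' ≤ l := by exact_mod_cast hlow
  have h3 : a ≤ n := by rw [ha] at hcodim; exact_mod_cast hcodim
  have hn : a = n := by omega
  have hl' : l = Groth.Agent.OpenDim.trd f x' := by omega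
  have hfmax : Groth.Agent.OpenDim.IsMaxPt (f x') := heq (by omega)
  refine ⟨by rw [ha, hn], by exact_mod_cast (show l + n = e by omega), fun w hwx' => ?_⟩
  let I := Scheme.IdealSheafData.vanishingIdeal X'
  have hrange : Set.range I.subschemeι = (X' : Set X) := by
    rw [Scheme.IdealSheafData.range_subschemeι]; rfl
  have htr : ∀ z, Groth.Agent.OpenDim.trd (I.subschemeι ≫ f) z = Groth.Agent.OpenDim.trd f (I.subschemeι z) := by
    intro z
    have h := (Groth.Agent.FlatDim.resTrdegAt_comp I.subschemeι f z).trans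
      (by rw [Groth.Agent.FlatDim.resTrdegAt_preimmersion I.subschemeι z, add_zero])
    rw [Groth.Agent.OpenDim.resTrdegAt_eq_trd, Groth.Agent.OpenDim.resTrdegAt_eq_trd] at h
    exact_mod_cast h
  refine Groth.Agent.OpenDim.isEquidimAt_of_generic _ w (Groth.Agent.OpenDim.trd f x') (fun ξ hξ _ => ?_) ?_
  · obtain ⟨v, hv⟩ : x' ∈ Set.range I.subschemeι := by
      rw [hrange, ← hx'cl]; exact subset_closure rfl
    have hvξ : v ⤳ ξ := by
      rw [← I.subschemeι.isEmbedding.isInducing.specializes_iff, hv, specializes_iff_mem_closure, hx'cl, ← hrange]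
      exact ⟨ξ, rfl⟩
    obtain rfl := hξ v hvξ
    rw [htr, Scheme.Hom.comp_apply, hv]
    exact ⟨hfmax, rfl⟩
  · refine Groth.Agent.OpenDim.fibreDimAt_le _ fun z hz hzw => ?_
    rw [htr, ← hl', ← hl]
    refine Groth.Agent.OpenDim.trd_le_localDim_inter f (X' : Set X) X'.isClosed _ (z := I.subschemeι z)
      ⟨by rw [← hrange]; exact ⟨z, rfl⟩, ?_⟩ ?_
    · rw [← hwx']; exact hz
    · exact hwx' ▸ hzw.map I.subschemeι.continuous

end Groth.Agent.S4943
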