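import Groth.Statements.S4944
import Groth.Agent.QuasiSecLib.Criterion
import Groth.Agent.QuasiSecLib.Fibre
import Groth.Prelude.Def_EGA43

set_option autoImplicit false
open CategoryTheory AlgebraicGeometry
universe u v w
open EGA43

namespace Groth.Agent.S4944

/-- Suppose Y is an irreducible, locally Noetherian scheme and f : X ⟶ Y is locally of finite type. Take
a point x of X at which f is equidimensional and which is closed in its fibre f⁻¹(f x). Then one can
find an irreducible reduced scheme T together with an immersion i : T ⟶ X whose image contains x,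
such that the composite T ⟶ Y is dominant and quasi-finite (meaning locally quasi-finite and of
finite type). -/
theorem result {X Y : Scheme.{u}} [IrreducibleSpace Y]
    [IsLocallyNoetherian Y] (f : X ⟶ Y) [LocallyOfFiniteType f] (x : X) (hf : EGA43.IsEquidimAt f x)
    (hcl : ∀ x' : X, f.base x' = f.base x → x ⤳ x' → x' = x) :
    ∃ (T : Scheme.{u}) (i : T ⟶ X), IsImmersion i ∧ IrreducibleSpace ↥T ∧ IsReduced T ∧ x ∈ Set.range i.base ∧
        LocallyOfFiniteType (i ≫ f) ∧ LocallyQuasiFinite (i ≫ f) ∧ QuasiCompact (i ≫ f) ∧ IsDominant (i ≫ f) := by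
  obtain ⟨e, U, hxU, hcomp, hfib⟩ := hf
  let g := U.ι ≫ f
  let x₁ : ↥U.toScheme := ⟨x, hxU⟩
  obtain ⟨c⟩ := Groth.Agent.DimFormulaLib.exists_chart g x₁
  obtain ⟨P₀, hP₀min, hP₀⟩ := Ideal.exists_minimalPrimes_le (I := (⊥ : Ideal c.B)) (J := c.q.asIdeal) bot_le
  let P : PrimeSpectrum c.B := ⟨P₀, hP₀min.1.1⟩
  have hmaxP : ∀ w : ↥U.toScheme, w ⤳ c.j P → w = c.j P := fun w hw => by
    obtain ⟨P', hP', rfl⟩ := (c.move P).exists_le hw
    have hle : P₀ ≤ P'.asIdeal := hP₀min.2 ⟨P'.isPrime, bot_le⟩ hP'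
    rw [show P' = P from le_antisymm hP' hle]
    rfl
  have hPη : g (c.j P) = genericPoint Y := by
    obtain ⟨W, hW, -, hcl⟩ := hcomp _ (Groth.Agent.DimFormulaLib.closure_mem_irreducibleComponents hmaxP)
    rw [irreducibleComponents_eq_singleton, Set.mem_singleton_iff] at hW
    rw [hW, closure_image_closure g.continuous, Set.image_singleton] at hcl
    exact ((show IsGenericPoint (g (c.j P)) (Set.univ : Set Y) from hcl).eq (genericPoint_spec Y))
  have htrd : ∀ (z : PrimeSpectrum c.B) (t : ℕ),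
      Algebra.trdeg (c.A ⧸ (PrimeSpectrum.comap (algebraMap c.A c.B) z).asIdeal) (c.B ⧸ z.asIdeal) = t →
        t ≤ e ∧ ((∀ w : ↥U.toScheme, w ⤳ c.j z → g w = g (c.j z) → w = c.j z) → t = e) := fun z t ht =>
    Groth.Agent.QuasiSecLib.trdeg_le_components g (c.j z) e (hfib (c.j z)) t ((c.resTrdegAt_eq z).trans ht)
  obtain ⟨t₀, ht₀⟩ := Groth.Agent.DimFormulaLib.exists_nat_trdeg_quotient_pair (A := c.A) P
  have ht₀e : t₀ = e := (htrd P t₀ ht₀).2 fun w hw _ => hmaxP w hw
  subst ht₀e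
  have hjx : U.ι (c.j c.q) = x := by rw [c.hq]; rfl
  have hmax : ∀ z : PrimeSpectrum c.B, PrimeSpectrum.comap (algebraMap c.A c.B) z = PrimeSpectrum.comap (algebraMap c.A c.B) c.q →
      c.q ≤ z → z = c.q := fun z hz hqz => by
    refine c.j.isOpenEmbedding.injective (U.ι.isOpenEmbedding.injective (Eq.trans ?_ hjx.symm))
    refine hcl _ ?_ ?_
    · show g (c.j z) = _
      rw [c.apply_j, hz, ← c.apply_j, c.hq]
      rfl
    · have h := (((PrimeSpectrum.le_iff_specializes _ _).1 hqz).map c.j.continuous).map U.ι.continuous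
      rwa [hjx] at h
  obtain ⟨q', a, hPq', hq'q, haq, hq'η, hqf⟩ := Groth.Agent.QuasiSecLib.exists_quasi_section P c.q hP₀ t₀ ht₀ hmax
    (fun z t _ _ ht => (htrd z t ht).1)
  let C := c.B ⧸ q'.asIdeal
  let D := Localization.Away (Ideal.Quotient.mk q'.asIdeal a)
  have ha0 : Ideal.Quotient.mk q'.asIdeal a ≠ 0 := fun h => haq (hq'q (Ideal.Quotient.eq_zero_iff_mem.1 h))
  haveI : IsDomain D := IsLocalization.isDomain_localization (powers_le_nonZeroDivisors_of_noZeroDivisors ha0)
  let i₁ : Spec (CommRingCat.of D) ⟶ Spec (CommRingCat.of C) := Spec.map (CommRingCat.ofHom (algebraMap C D))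
  haveI : IsOpenImmersion i₁ := IsOpenImmersion.of_isLocalization (Ideal.Quotient.mk q'.asIdeal a)
  let i₂ : Spec (CommRingCat.of C) ⟶ Spec (CommRingCat.of c.B) := Spec.map (CommRingCat.ofHom (Ideal.Quotient.mk q'.asIdeal))
  haveI : IsClosedImmersion i₂ := IsClosedImmersion.spec_of_surjective _ Ideal.Quotient.mk_surjective
  let i := i₁ ≫ i₂ ≫ c.j ≫ U.ι
  have hif : i ≫ f = Spec.map (CommRingCat.ofHom (algebraMap c.A D)) ≫ c.i := by
    simp only [i, Category.assoc, c.w, i₁, i₂, g, ← Spec.map_comp_assoc, ← CommRingCat.ofHom_comp]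
  haveI : Algebra.FiniteType c.A C := Algebra.FiniteType.trans c.finiteType inferInstance
  haveI : Algebra.FiniteType c.A D := Algebra.FiniteType.trans (inferInstance : Algebra.FiniteType c.A C) inferInstance
  haveI : LocallyOfFiniteType (Spec.map (CommRingCat.ofHom (algebraMap c.A D))) :=
    HasRingHomProperty.Spec_iff.2 (RingHom.finiteType_algebraMap.2 ‹_›)
  haveI : LocallyQuasiFinite (Spec.map (CommRingCat.ofHom (algebraMap c.A D))) :=
    HasRingHomProperty.Spec_iff.2 (RingHom.quasiFinite_algebraMap.2 hqf)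
  refine ⟨Spec (CommRingCat.of D), i, inferInstance, inferInstance, inferInstance, ?_, ?_, ?_, ?_, ?_⟩
  · haveI : (c.q.asIdeal.map (Ideal.Quotient.mk q'.asIdeal)).IsPrime :=
      Ideal.map_isPrime_of_surjective Ideal.Quotient.mk_surjective (by rw [Ideal.mk_ker]; exact hq'q)
    have hcomap : (c.q.asIdeal.map (Ideal.Quotient.mk q'.asIdeal)).comap (Ideal.Quotient.mk q'.asIdeal) = c.q.asIdeal := by
      rw [Ideal.comap_map_of_surjective _ Ideal.Quotient.mk_surjective, ← RingHom.ker_eq_comap_bot, Ideal.mk_ker]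
      exact sup_eq_left.2 hq'q
    let z₁ : PrimeSpectrum C := ⟨_, ‹(c.q.asIdeal.map (Ideal.Quotient.mk q'.asIdeal)).IsPrime›⟩
    obtain ⟨z, hz⟩ := (PrimeSpectrum.localization_away_comap_range D (Ideal.Quotient.mk q'.asIdeal a)).ge
      (show z₁ ∈ (PrimeSpectrum.basicOpen (Ideal.Quotient.mk q'.asIdeal a) : Set (PrimeSpectrum C)) from
        fun h => haq (hcomap.le h))
    refine ⟨z, ?_⟩
    show U.ι (c.j (i₂ (i₁ z))) = x
    rw [show i₂ (i₁ z) = c.q from (congrArg i₂ (show i₁ z = z₁ from hz)).trans (PrimeSpectrum.ext hcomap)]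
    exact hjx
  · rw [hif]; infer_instance
  · rw [hif]; infer_instance
  · rw [hif]; infer_instance
  · refine ⟨(dense_iff_closure_eq.2 (genericPoint_spec Y).def).mono (Set.singleton_subset_iff.2 ?_)⟩
    let z : PrimeSpectrum D := ⟨⊥, Ideal.isPrime_bot⟩
    refine ⟨z, ?_⟩
    show (U.ι ≫ f) (c.j (i₂ (i₁ z))) = _
    rw [show i₂ (i₁ z) = q' from PrimeSpectrum.ext (by
      show Ideal.comap (Ideal.Quotient.mk q'.asIdeal) (Ideal.comap (algebraMap C D) ⊥) = q'.asIdeal
      rw [Ideal.comap_bot_of_injective _ (IsLocalization.injective D (powers_le_nonZeroDivisors_of_noZeroDivisors ha0)),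
        ← RingHom.ker_eq_comap_bot, Ideal.mk_ker])]
    show g (c.j q') = _
    rw [c.apply_j, hq'η, ← c.apply_j, hPη]

end Groth.Agent.S4944
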