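import Groth.Statements.S4945
import Groth.Agent.OpenDim.Tfae
import Groth.Agent.OpenDim.QuasiSection
import Groth.Agent.OpenDim.Split
-- import your own Groth.Agent.* helpers here

set_option autoImplicit false
open CategoryTheory AlgebraicGeometry
universe u v w
open EGA43

namespace Groth.Agent.S4945

/-- Let Y be an irreducible locally Noetherian scheme with generic point η, f : X ⟶ Y a morphism locally
of finite type and y a geometrically unibranch point of Y. The following are equivalent: a) f is
universally open at every point of X_y; b) f is open at every point of X_y; c) for every maximal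
point z of X_y there is an irreducible component Z of X containing z and dominating Y with dim_z(Z ∩
X_y) = dim(Z ∩ X_η); d) for every point x closed in X_y there are an irreducible reduced scheme T
and an immersion T ⟶ X with image containing x such that T ⟶ Y is quasi-finite and dominant. -/
theorem result {X Y : Scheme.{u}} [IrreducibleSpace Y]
    [IsLocallyNoetherian Y] (f : X ⟶ Y) [LocallyOfFiniteType f] (y : Y) (hy : CAlg2.IsGeomUnibranch (Y.presheaf.stalk y)) :
    List.TFAE [∀ x : X, f.base x = y → EGA43.IsUnivOpenAt f x,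
      ∀ x : X, f.base x = y → EGA43.IsOpenAt f.base x,
      ∀ z : X, ∀ hzy : f.base z = y, (∀ z' : X, f.base z' = y → z ∈ closure {z'} → z' = z) →
        ∃ Z ∈ irreducibleComponents (X : Type u), ∃ hz : z ∈ Z, Dense (f.base '' Z) ∧
          FlatMor.localDim ↥(Z ∩ f.base ⁻¹' {y}) ⟨z, ⟨hz, hzy⟩⟩ = topologicalKrullDim ↥(Z ∩ f.base ⁻¹' {genericPoint Y}),
      ∀ x : X, f.base x = y → (∀ x' : X, f.base x' = y → x ⤳ x' → x' = x) →
        ∃ (T : Scheme.{u}) (i : T ⟶ X), IsImmersion i ∧ IrreducibleSpace ↥T ∧ IsReduced T ∧ x ∈ Set.range i.base ∧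
        LocallyOfFiniteType (i ≫ f) ∧ LocallyQuasiFinite (i ≫ f) ∧ QuasiCompact (i ≫ f) ∧ IsDominant (i ≫ f)] := by
  have huniv : ∀ Y₀ ∈ irreducibleComponents (Y : Type u), Y₀ = Set.univ := fun Y₀ hY₀ => by
    rwa [irreducibleComponents_eq_singleton, Set.mem_singleton_iff] at hY₀
  have hgen : closure ({genericPoint Y} : Set Y) = Set.univ := genericPoint_spec Y
  tfae_have 1 → 2 := fun h x hx => Groth.Agent.OpenDim.isOpenAt_of_univOpenAt (h x hx)
  tfae_have 2 → 1 := fun h x hx => by
    subst hx
    exact Groth.Agent.OpenDim.univOpenAt_of_isOpenAt_forall_max f x hy fun ζ hζ _ _ => h ζ hζ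
  tfae_have 2 → 3 := fun h z hzy hzmax => by
    subst hzy
    have hm : Groth.Agent.OpenDim.MaxInFibre f z := (Groth.Agent.OpenDim.maxInFibre_iff (f := f)).2 hzmax
    obtain ⟨Z, hZ, hzZ, hcl, hw⟩ := Groth.Agent.OpenDim.component_of_isOpenAt f (x := z) rfl (specializes_refl z) hm
      (Groth.Agent.OpenDim.fibreDimAt_eq_trd f hm) (h z rfl) Set.univ
      (by rw [irreducibleComponents_eq_singleton]; rfl) trivial
    exact ⟨Z, hZ, hzZ, dense_iff_closure_eq.2 hcl, (hw _ hgen).2⟩
  tfae_have 3 → 1 := fun h x hx => by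
    subst hx
    refine Groth.Agent.OpenDim.univOpenAt_of_forall_max f x fun ζ hfζ _ hm => ?_
    have hfζ' : f.base ζ = f.base x := hfζ
    refine Groth.Agent.OpenDim.univOpenAt_of_component' f hm (by rw [hfζ']; exact hy) fun Y₀ hY₀ _ => ?_
    obtain ⟨Z, hZ, hζZ, hd, heq⟩ := h ζ hfζ'
      (fun z' hz' hc => hm z' (hz'.trans hfζ'.symm) (specializes_iff_mem_closure.2 hc))
    obtain rfl := huniv Y₀ hY₀
    refine ⟨Z, hZ, hζZ, hd.closure_eq, fun η hη => ?_⟩
    obtain rfl : η = genericPoint Y :=
      (show IsGenericPoint η (Set.univ : Set Y) from hη).eq (show IsGenericPoint (genericPoint Y) Set.univ from hgen)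
    convert heq using 2 <;> first | rw [hfζ'] | exact (Subtype.heq_iff_coe_eq (by simp [hfζ'])).2 rfl
  tfae_have 2 → 4 := fun h x hx hcl => by
    subst hx
    obtain ⟨ζ, hfζ, hζx, hm, hdim⟩ := Groth.Agent.OpenDim.exists_maxInFibre_fibreDimAt f x
    obtain ⟨ξ, hξζ, hfξ, -, htr⟩ := Groth.Agent.OpenDim.exists_trd_of_isOpenAt f hm (h ζ hfζ)
      (genericPoint_specializes (f ζ))
    refine Groth.Agent.OpenDim.exists_qf_subscheme f (hξζ.trans hζx) hfξ hcl fun w hw hwx => ?_
    rw [htr]
    have := hdim ▸ Groth.Agent.OpenDim.trd_le_fibreDimAt f hw hwx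
    exact_mod_cast this
  tfae_have 4 → 2 := fun h x hx U hU => by
    obtain ⟨O, hOU, hO, hxO⟩ := mem_nhds_iff.1 hU
    haveI : LocallyOfFiniteType (Y := Spec (CommRingCat.of (Y.residueField y))) (f.fiberToSpecResidueField y) :=
      MorphismProperty.pullback_snd _ _ inferInstance
    haveI := LocallyOfFiniteType.jacobsonSpace (Y := Spec (CommRingCat.of (Y.residueField y))) (f.fiberToSpecResidueField y)
    have hfib : ∀ w, f (f.fiberι y w) = y := fun w => by
      have hw : f.fiberι y w ∈ Set.range (f.fiberι y) := ⟨w, rfl⟩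
      rw [f.range_fiberι] at hw
      exact hw
    obtain ⟨z₀, hz₀⟩ : x ∈ Set.range (f.fiberι y) := by rw [f.range_fiberι]; exact hx
    obtain ⟨z, hzO, hzc⟩ := nonempty_inter_closedPoints (Z := (f.fiberι y) ⁻¹' O)
      ⟨z₀, by rw [Set.mem_preimage, hz₀]; exact hxO⟩ (hO.preimage (f.fiberι y).continuous).isLocallyClosed
    let x' := f.fiberι y z
    obtain ⟨T, i, _, _, _, ⟨t, ht⟩, _, _, _, _⟩ := h x' (hfib z) (fun x'' hx'' hsp => by
      obtain ⟨w, rfl⟩ : x'' ∈ Set.range (f.fiberι y) := by rw [f.range_fiberι]; exact hx''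
      have hw := ((f.fiberι y).isEmbedding.isInducing.specializes_iff.1 hsp).mem_closed (mem_closedPoints_iff.1 hzc) rfl
      rw [Set.mem_singleton_iff.1 hw])
    have hit : (i ≫ f) t = y := by
      show f (i.base t) = y
      rw [ht]
      exact hfib z
    have huo := Groth.Agent.OpenDim.univOpenAt_of_quasiFinite (i ≫ f) t
      (Groth.Agent.ChevalleyOpen.locFinComp_of_isLocallyNoetherian Y) (by rw [hit]; exact hy)
      (fun ξ _ hξmax y' hy' => by
        have hξ : ξ = genericPoint T := (hξmax _ (genericPoint_specializes ξ)).symm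
        have h2 : (i ≫ f) (genericPoint T) = genericPoint Y :=
          ((genericPoint_spec T).image (i ≫ f).continuous).eq (by
            rw [Set.image_univ, (i ≫ f).denseRange.closure_eq]; exact genericPoint_spec Y)
        rw [hξ, h2] at hy' ⊢
        exact (hy'.antisymm (genericPoint_specializes y')).eq)
    have hop := Groth.Agent.OpenDim.isOpenAt_of_univOpenAt huo (i.base ⁻¹' O)
      ((hO.preimage i.continuous).mem_nhds (show i.base t ∈ O by rw [ht]; exact hzO))
    rw [show (i ≫ f).base t = f.base x from hit.trans hx.symm] at hop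
    refine Filter.mem_of_superset hop ?_
    rintro _ ⟨s, hs, rfl⟩
    exact ⟨i.base s, hOU hs, rfl⟩
  tfae_finish

end Groth.Agent.S4945
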