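import Groth.Statements.S4946
import Groth.Agent.QuasiSecLib.Criterion
import Groth.Agent.QuasiSecLib.Fibre

set_option autoImplicit false
open CategoryTheory AlgebraicGeometry
universe u v w
open EGA43

namespace Groth.Agent.S4946

/-- Let Y be an irreducible locally Noetherian scheme which is regular of dimension 1 (all local rings
regular of dimension at most 1), f : X ⟶ Y a morphism locally of finite type and y a point of Y.
Then the following are equivalent: d) every irreducible component of X meeting the fibre X_y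
dominates Y; e) for every point x closed in X_y and every irreducible component X_i of X containing
x, there are an irreducible reduced scheme T and an immersion T ⟶ X with image containing x and
contained in X_i, such that T ⟶ Y is quasi-finite and dominant. -/
theorem result {X Y : Scheme.{u}} [IrreducibleSpace Y]
    [IsLocallyNoetherian Y] (hY : ∀ y : Y, IsRegularLocalRing (Y.presheaf.stalk y) ∧ ringKrullDim (Y.presheaf.stalk y) ≤ 1)
    (f : X ⟶ Y) [LocallyOfFiniteType f] (y : Y) :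
    (∀ Z ∈ irreducibleComponents (X : Type u), (Z ∩ f.base ⁻¹' {y}).Nonempty → Dense (f.base '' Z)) ↔
      ∀ x : X, f.base x = y → (∀ x' : X, f.base x' = y → x ⤳ x' → x' = x) →
        ∀ Xi ∈ irreducibleComponents (X : Type u), x ∈ Xi →
          ∃ (T : Scheme.{u}) (i : T ⟶ X), IsImmersion i ∧ IrreducibleSpace ↥T ∧ IsReduced T ∧ x ∈ Set.range i.base ∧
            Set.range i.base ⊆ Xi ∧
            LocallyOfFiniteType (i ≫ f) ∧ LocallyQuasiFinite (i ≫ f) ∧ QuasiCompact (i ≫ f) ∧ IsDominant (i ≫ f) := by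
  constructor
  swap
  · intro h Z hZ hne
    haveI : LocallyOfFiniteType (Y := Spec (CommRingCat.of (Y.residueField y))) (f.fiberToSpecResidueField y) :=
      MorphismProperty.pullback_snd _ _ inferInstance
    haveI := LocallyOfFiniteType.jacobsonSpace (Y := Spec (CommRingCat.of (Y.residueField y))) (f.fiberToSpecResidueField y)
    obtain ⟨x₀, hx₀Z, hx₀y⟩ := hne
    obtain ⟨z₀, hz₀⟩ : x₀ ∈ Set.range (f.fiberι y) := by rw [f.range_fiberι]; exact hx₀y
    obtain ⟨z, hzZ, hzc⟩ := nonempty_inter_closedPoints (Z := (f.fiberι y) ⁻¹' Z) ⟨z₀, by rw [Set.mem_preimage, hz₀]; exact hx₀Z⟩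
      ((isClosed_of_mem_irreducibleComponents Z hZ).preimage (f.fiberι y).continuous).isLocallyClosed
    have hfib : ∀ w, f (f.fiberι y w) = y := fun w => by
      have hw : f.fiberι y w ∈ Set.range (f.fiberι y) := ⟨w, rfl⟩
      rw [f.range_fiberι] at hw
      exact hw
    obtain ⟨T, i, -, -, -, -, hsub, -, -, -, hdom⟩ := h (f.fiberι y z) (hfib z) (fun x' hx' hsp => by
      obtain ⟨w, rfl⟩ : x' ∈ Set.range (f.fiberι y) := by rw [f.range_fiberι]; exact hx'
      have hw := ((f.fiberι y).isEmbedding.isInducing.specializes_iff.1 hsp).mem_closed (mem_closedPoints_iff.1 hzc) rfl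
      rw [Set.mem_singleton_iff.1 hw]) Z hZ hzZ
    haveI := hdom
    exact ((i ≫ f).denseRange).mono (by rintro _ ⟨t, rfl⟩; exact ⟨i t, hsub ⟨t, rfl⟩, rfl⟩)
  intro hdense x hxy hcl Xi hXi hxXi
  obtain ⟨ξ, hξcl, hξmax⟩ := Groth.Agent.DimFormulaLib.exists_generic_of_mem_irreducibleComponents hXi
  have hξx : ξ ⤳ x := specializes_iff_mem_closure.2 (hξcl.ge hxXi)
  obtain ⟨c⟩ := Groth.Agent.DimFormulaLib.exists_chart f x
  obtain ⟨P, hP₀, hPξ⟩ := c.exists_le hξx
  have hXicl : closure {c.j P} ⊆ Xi := by rw [hPξ, hξcl]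
  have hPη : f (c.j P) = genericPoint Y := by
    have h := hdense Xi hXi ⟨x, hxXi, hxy⟩
    have h2 : closure ({f ξ} : Set Y) = Set.univ := by
      have h3 : f.base '' Xi = f '' closure {ξ} := by rw [hξcl]
      rw [← Set.image_singleton, ← closure_image_closure f.continuous, ← h3]
      exact h.closure_eq
    rw [hPξ]
    exact ((show IsGenericPoint (f ξ) (Set.univ : Set Y) from h2).eq (genericPoint_spec Y))
  haveI := c.isNoetherianRing
  haveI : IsNoetherianRing c.B := Algebra.FiniteType.isNoetherianRing c.A c.B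
  obtain ⟨e, he⟩ := Groth.Agent.DimFormulaLib.exists_nat_trdeg_quotient_pair (A := c.A) P
  have hp1 : (PrimeSpectrum.comap (algebraMap c.A c.B) c.q).asIdeal.height ≤ 1 := by
    have h := (hY (f x)).2
    rw [c.dim_stalk_target] at h
    exact WithBot.coe_le_coe.1 h
  have hmax : ∀ z : PrimeSpectrum c.B, PrimeSpectrum.comap (algebraMap c.A c.B) z = PrimeSpectrum.comap (algebraMap c.A c.B) c.q →
      c.q ≤ z → z = c.q := fun z hz hqz => by
    refine c.j.isOpenEmbedding.injective (Eq.trans ?_ c.hq.symm)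
    refine hcl _ ?_ ?_
    · show f (c.j z) = _
      rw [c.apply_j, hz, ← c.apply_j, c.hq]
      exact hxy
    · have h := (((PrimeSpectrum.le_iff_specializes _ _).1 hqz).map c.j.continuous)
      rwa [c.hq] at h
  obtain ⟨q', a, hPq', hq'q, haq, hq'η, hqf⟩ : ∃ (q' : PrimeSpectrum c.B) (g : c.B), P ≤ q' ∧ q' ≤ c.q ∧ g ∉ c.q.asIdeal ∧
      PrimeSpectrum.comap (algebraMap c.A c.B) q' = PrimeSpectrum.comap (algebraMap c.A c.B) P ∧
      Algebra.QuasiFinite c.A (Localization.Away (Ideal.Quotient.mk q'.asIdeal g)) := by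
    let p₀ := (PrimeSpectrum.comap (algebraMap c.A c.B) P).asIdeal
    haveI : P.asIdeal.LiesOver p₀ := ⟨rfl⟩
    haveI : Algebra.FiniteType c.A (c.B ⧸ P.asIdeal) := Algebra.FiniteType.trans c.finiteType inferInstance
    let π := Ideal.Quotient.mk P.asIdeal
    have hup : ∀ w : PrimeSpectrum (c.B ⧸ P.asIdeal), P ≤ PrimeSpectrum.comap π w := fun w z hz => by
      show π z ∈ w.asIdeal
      rw [Ideal.Quotient.eq_zero_iff_mem.2 hz]
      exact zero_mem _
    have hinj : Function.Injective (PrimeSpectrum.comap π) := PrimeSpectrum.comap_injective_of_surjective _ Ideal.Quotient.mk_surjective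
    have hq₁ : ∀ w : PrimeSpectrum c.B, P ≤ w → ∃ w₁, PrimeSpectrum.comap π w₁ = w := fun w hw => by
      haveI : (w.asIdeal.map π).IsPrime := Ideal.map_isPrime_of_surjective Ideal.Quotient.mk_surjective (by rw [Ideal.mk_ker]; exact hw)
      exact ⟨⟨w.asIdeal.map π, inferInstance⟩, PrimeSpectrum.ext (by
        show (w.asIdeal.map π).comap π = _
        rw [Ideal.comap_map_of_surjective _ Ideal.Quotient.mk_surjective, ← RingHom.ker_eq_comap_bot, Ideal.mk_ker]
        exact sup_eq_left.2 hw)⟩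
    have hcomp : ∀ w : PrimeSpectrum (c.B ⧸ P.asIdeal), PrimeSpectrum.comap (algebraMap c.A (c.B ⧸ P.asIdeal)) w =
        PrimeSpectrum.comap (algebraMap c.A c.B) (PrimeSpectrum.comap π w) := fun w => PrimeSpectrum.ext rfl
    have htr : ∀ w : PrimeSpectrum (c.B ⧸ P.asIdeal),
        Algebra.trdeg (c.A ⧸ (PrimeSpectrum.comap (algebraMap c.A (c.B ⧸ P.asIdeal)) w).asIdeal) ((c.B ⧸ P.asIdeal) ⧸ w.asIdeal) =
        Algebra.trdeg (c.A ⧸ (PrimeSpectrum.comap (algebraMap c.A c.B) (PrimeSpectrum.comap π w)).asIdeal)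
          (c.B ⧸ (PrimeSpectrum.comap π w).asIdeal) := fun w => by
      haveI : w.asIdeal.LiesOver (PrimeSpectrum.comap (algebraMap c.A (c.B ⧸ P.asIdeal)) w).asIdeal := ⟨rfl⟩
      haveI : (PrimeSpectrum.comap π w).asIdeal.LiesOver (PrimeSpectrum.comap (algebraMap c.A c.B) (PrimeSpectrum.comap π w)).asIdeal := ⟨rfl⟩
      refine (Groth.Agent.DimFormulaLib.trdeg_eq_of_ringEquiv (R := c.A ⧸ (PrimeSpectrum.comap (algebraMap c.A c.B) (PrimeSpectrum.comap π w)).asIdeal)
        (A := c.B ⧸ (PrimeSpectrum.comap π w).asIdeal) (Ideal.quotEquivOfEq (congrArg PrimeSpectrum.asIdeal (hcomp w)).symm) (RingEquiv.ofBijective (Ideal.quotientMap w.asIdeal π le_rfl)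
        ⟨Ideal.quotientMap_injective' le_rfl, Ideal.quotientMap_surjective Ideal.Quotient.mk_surjective⟩) fun r => ?_).symm
      obtain ⟨r, rfl⟩ := Ideal.Quotient.mk_surjective r
      rfl
    obtain ⟨P₁, hP₁⟩ := hq₁ P le_rfl
    obtain ⟨q₁, hq₁'⟩ := hq₁ c.q hP₀
    have hle : ∀ {v w : PrimeSpectrum (c.B ⧸ P.asIdeal)}, PrimeSpectrum.comap π v ≤ PrimeSpectrum.comap π w → v ≤ w :=
      fun {v w} h => (Ideal.comap_le_comap_iff_of_surjective _ Ideal.Quotient.mk_surjective _ _).1 h
    obtain ⟨q'₁, g, h1, h2, h3, h4, h5⟩ := Groth.Agent.QuasiSecLib.exists_quasi_section (A := c.A) P₁ q₁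
      (hle (by rw [hP₁, hq₁']; exact hP₀)) e (by rw [htr, hP₁, he])
      (fun w hw hqw => hinj (by
        rw [hq₁']
        refine hmax _ (by rw [← hcomp, hw, hcomp, hq₁']) (hq₁' ▸ Ideal.comap_mono hqw)))
      (fun w t hwp hwq hwt => by
        rw [htr] at hwt
        set z := PrimeSpectrum.comap π w
        obtain ⟨aa, bb, haa, hbb, hle', -⟩ := Groth.Agent.DimFormulaLib.formula_component (hup w) e t he hwt
        have hzp : PrimeSpectrum.comap (algebraMap c.A c.B) z = PrimeSpectrum.comap (algebraMap c.A c.B) c.q := by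
          rw [← hcomp, hwp, hcomp, hq₁']
        by_cases hzP : z = P
        · rw [hzP, he] at hwt
          exact le_of_eq (by exact_mod_cast hwt.symm)
        have haa1 : 1 ≤ aa := by
          have h := Groth.Agent.DimFormulaLib.one_add_relHeight_le (lt_of_le_of_ne (hup w) (Ne.symm hzP)) (le_refl z)
          rw [Groth.Agent.DimFormulaLib.relHeight_self, zero_add, haa] at h
          exact_mod_cast h
        have hbb1 : bb ≤ 1 := by
          have h := (Groth.Agent.DimFormulaLib.relHeight_le_height (P := PrimeSpectrum.comap (algebraMap c.A c.B) P)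
            (p := PrimeSpectrum.comap (algebraMap c.A c.B) c.q) (Ideal.comap_mono hP₀)).trans hp1
          rw [← hzp, hbb] at h
          exact_mod_cast h
        omega)
    obtain ⟨g, rfl⟩ := Ideal.Quotient.mk_surjective g
    refine ⟨PrimeSpectrum.comap π q'₁, g, hup _, hq₁' ▸ Ideal.comap_mono h2, fun hg => h3 ?_, ?_, ?_⟩
    · rw [← hq₁'] at hg
      exact hg
    · rw [← hcomp, h4, hcomp, hP₁]
    · haveI := h5
      let eq₁ : (c.B ⧸ (PrimeSpectrum.comap π q'₁).asIdeal) ≃ₐ[c.A] ((c.B ⧸ P.asIdeal) ⧸ q'₁.asIdeal) :=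
        AlgEquiv.ofRingEquiv (f := RingEquiv.ofBijective (Ideal.quotientMap q'₁.asIdeal π le_rfl)
          ⟨Ideal.quotientMap_injective' le_rfl, Ideal.quotientMap_surjective Ideal.Quotient.mk_surjective⟩) fun _ => rfl
      let g₂ : (c.B ⧸ P.asIdeal) ⧸ q'₁.asIdeal := Ideal.Quotient.mk q'₁.asIdeal (π g)
      haveI : IsLocalization.Away (eq₁.symm.toAlgHom g₂) (Localization.Away (Ideal.Quotient.mk (PrimeSpectrum.comap π q'₁).asIdeal g)) := by
        rw [show eq₁.symm.toAlgHom g₂ = Ideal.Quotient.mk (PrimeSpectrum.comap π q'₁).asIdeal g from eq₁.symm_apply_eq.2 rfl]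
        infer_instance
      refine Algebra.QuasiFinite.of_surjective_algHom (R := c.A) (S := Localization.Away g₂)
        (IsLocalization.Away.mapₐ (Localization.Away g₂) (Localization.Away (Ideal.Quotient.mk (PrimeSpectrum.comap π q'₁).asIdeal g)) eq₁.symm.toAlgHom g₂) ?_
      exact IsLocalization.Away.mapₐ_surjective_of_surjective _ eq₁.symm.surjective
  let C := c.B ⧸ q'.asIdeal
  let D := Localization.Away (Ideal.Quotient.mk q'.asIdeal a)
  have ha0 : Ideal.Quotient.mk q'.asIdeal a ≠ 0 := fun h => haq (hq'q (Ideal.Quotient.eq_zero_iff_mem.1 h))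
  haveI : IsDomain D := IsLocalization.isDomain_localization (powers_le_nonZeroDivisors_of_noZeroDivisors ha0)
  let i₁ : Spec (CommRingCat.of D) ⟶ Spec (CommRingCat.of C) := Spec.map (CommRingCat.ofHom (algebraMap C D))
  haveI : IsOpenImmersion i₁ := IsOpenImmersion.of_isLocalization (Ideal.Quotient.mk q'.asIdeal a)
  let i₂ : Spec (CommRingCat.of C) ⟶ Spec (CommRingCat.of c.B) := Spec.map (CommRingCat.ofHom (Ideal.Quotient.mk q'.asIdeal))
  haveI : IsClosedImmersion i₂ := IsClosedImmersion.spec_of_surjective _ Ideal.Quotient.mk_surjective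
  let i := i₁ ≫ i₂ ≫ c.j
  have hif : i ≫ f = Spec.map (CommRingCat.ofHom (algebraMap c.A D)) ≫ c.i := by
    simp only [i, Category.assoc, c.w, i₁, i₂, ← Spec.map_comp_assoc, ← CommRingCat.ofHom_comp]
  haveI : Algebra.FiniteType c.A C := Algebra.FiniteType.trans c.finiteType inferInstance
  haveI : Algebra.FiniteType c.A D := Algebra.FiniteType.trans (inferInstance : Algebra.FiniteType c.A C) inferInstance
  haveI : LocallyOfFiniteType (Spec.map (CommRingCat.ofHom (algebraMap c.A D))) :=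
    HasRingHomProperty.Spec_iff.2 (RingHom.finiteType_algebraMap.2 ‹_›)
  haveI : LocallyQuasiFinite (Spec.map (CommRingCat.ofHom (algebraMap c.A D))) :=
    HasRingHomProperty.Spec_iff.2 (RingHom.quasiFinite_algebraMap.2 hqf)
  refine ⟨Spec (CommRingCat.of D), i, inferInstance, inferInstance, inferInstance, ?_, ?_, ?_, ?_, ?_, ?_⟩
  · haveI : (c.q.asIdeal.map (Ideal.Quotient.mk q'.asIdeal)).IsPrime :=
      Ideal.map_isPrime_of_surjective Ideal.Quotient.mk_surjective (by rw [Ideal.mk_ker]; exact hq'q)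
    have hcomap : (c.q.asIdeal.map (Ideal.Quotient.mk q'.asIdeal)).comap (Ideal.Quotient.mk q'.asIdeal) = c.q.asIdeal := by
      rw [Ideal.comap_map_of_surjective _ Ideal.Quotient.mk_surjective, ← RingHom.ker_eq_comap_bot, Ideal.mk_ker]
      exact sup_eq_left.2 hq'q
    let z₁ : PrimeSpectrum C := ⟨_, ‹(c.q.asIdeal.map (Ideal.Quotient.mk q'.asIdeal)).IsPrime›⟩
    obtain ⟨z, hz⟩ := (PrimeSpectrum.localization_away_comap_range D (Ideal.Quotient.mk q'.asIdeal a)).ge
      (show z₁ ∈ (PrimeSpectrum.basicOpen (Ideal.Quotient.mk q'.asIdeal a) : Set (PrimeSpectrum C)) from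
        fun h => haq (hcomap.le h))
    refine ⟨z, ?_⟩
    show c.j (i₂ (i₁ z)) = x
    rw [show i₂ (i₁ z) = c.q from (congrArg i₂ (show i₁ z = z₁ from hz)).trans (PrimeSpectrum.ext hcomap)]
    exact c.hq
  · rintro _ ⟨z, rfl⟩
    refine hXicl ?_
    show c.j (i₂ (i₁ z)) ∈ closure {c.j P}
    refine specializes_iff_mem_closure.1 (((PrimeSpectrum.le_iff_specializes P (i₂ (i₁ z))).1 ?_).map c.j.continuous)
    refine le_trans hPq' (show q'.asIdeal ≤ (i₂ (i₁ z)).asIdeal from fun w hw => ?_)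
    show Ideal.Quotient.mk q'.asIdeal w ∈ (i₁ z).asIdeal
    rw [Ideal.Quotient.eq_zero_iff_mem.2 hw]
    exact zero_mem _
  · rw [hif]; infer_instance
  · rw [hif]; infer_instance
  · rw [hif]; infer_instance
  · refine ⟨(dense_iff_closure_eq.2 (genericPoint_spec Y).def).mono (Set.singleton_subset_iff.2 ?_)⟩
    let z : PrimeSpectrum D := ⟨⊥, Ideal.isPrime_bot⟩
    refine ⟨z, ?_⟩
    show f (c.j (i₂ (i₁ z))) = _
    rw [show i₂ (i₁ z) = q' from PrimeSpectrum.ext (by
      show Ideal.comap (Ideal.Quotient.mk q'.asIdeal) (Ideal.comap (algebraMap C D) ⊥) = q'.asIdeal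
      rw [Ideal.comap_bot_of_injective _ (IsLocalization.injective D (powers_le_nonZeroDivisors_of_noZeroDivisors ha0)),
        ← RingHom.ker_eq_comap_bot, Ideal.mk_ker])]
    show f (c.j q') = _
    rw [c.apply_j, hq'η, ← c.apply_j, hPη]

end Groth.Agent.S4946
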