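import Groth.Statements.S4947
import Groth.Agent.RegLocal.Basic
import Groth.Agent.QRegLib.Basic
import Mathlib.RingTheory.DiscreteValuationRing.Basic
import Mathlib.RingTheory.Filtration
import Mathlib.RingTheory.AlgebraicIndependent.Basic
import Mathlib.FieldTheory.IntermediateField.Adjoin.Basic

set_option autoImplicit false
universe u
open EGA43

namespace Groth.Agent.S4947

set_option backward.isDefEq.respectTransparency false

open IsLocalRing MvPolynomial
open Groth.Agent

namespace S4947Aux

variable {A : Type u} [CommRing A] [IsRegularLocalRing A]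

local notation "𝔪" => IsLocalRing.maximalIdeal A

variable {d : ℕ} {x : Fin d → A} (hx : Ideal.span (Set.range x) = maximalIdeal A)
  (hq : CAlgX.IsQuasiRegular x)

lemma exists_ord {a : A} (ha : a ≠ 0) :
    ∃ n, a ∈ maximalIdeal A ^ n ∧ a ∉ maximalIdeal A ^ (n + 1) := by
  classical
  have h : ∃ n, a ∉ maximalIdeal A ^ n := by
    by_contra h
    push Not at h
    have hmem : a ∈ ⨅ n, maximalIdeal A ^ n := Ideal.mem_iInf.2 h
    rw [Ideal.iInf_pow_eq_bot_of_isLocalRing _ (maximalIdeal.isMaximal A).ne_top] at hmem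
    exact ha hmem
  cases hn : Nat.find h with
  | zero => exact absurd (by simp [Ideal.one_eq_top]) (hn ▸ Nat.find_spec h)
  | succ n =>
    exact ⟨n, not_not.1 (Nat.find_min h (by omega)), hn ▸ Nat.find_spec h⟩

include hx hq in
lemma mul_notMem {a b : A} {n l : ℕ} (ha : a ∈ maximalIdeal A ^ n) (ha' : a ∉ maximalIdeal A ^ (n + 1))
    (hb : b ∈ maximalIdeal A ^ l) (hb' : b ∉ maximalIdeal A ^ (l + 1)) :
    a * b ∉ maximalIdeal A ^ (n + l + 1) := by
  intro hab
  have key : ∀ (n : ℕ) (a : A), a ∈ maximalIdeal A ^ n → a ∉ maximalIdeal A ^ (n + 1) →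
      ∃ P : MvPolynomial (Fin d) A, P.IsHomogeneous n ∧ eval x P = a ∧
        map (residue A) P ≠ 0 := by
    intro n a ha ha'
    rw [← hx, ← Set.image_univ] at ha
    obtain ⟨P, hP, -, rfl⟩ := QRegLib.exists_poly_of_mem_pow x Set.univ n a ha
    refine ⟨P, hP, rfl, fun h0 => ha' ?_⟩
    have h := QRegLib.eval_mem_mul_pow x (maximalIdeal A) Set.univ n P hP (QRegLib.suppIn_univ P)
      (fun e => by
        have h1 := congrArg (coeff e) h0
        rw [coeff_map, coeff_zero] at h1
        exact (residue_eq_zero_iff _).1 h1)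
    rwa [Set.image_univ, hx, ← pow_succ'] at h
  obtain ⟨P, hP, rfl, hP0⟩ := key n a ha ha'
  obtain ⟨Q, hQ, rfl, hQ0⟩ := key l b hb hb'
  have h := hq (n + l) (P * Q) (hP.mul hQ) (by rw [map_mul, hx]; exact hab)
  refine mul_ne_zero hP0 hQ0 ?_
  rw [← map_mul]
  ext e
  rw [coeff_map, coeff_zero, residue_eq_zero_iff]
  rw [hx] at h
  exact h e

variable [IsDomain A]

/-- The predicate defining the valuation ring of the order valuation. -/
def InV (z : FractionRing A) : Prop :=
  ∃ (n : ℕ) (a b : A), a ∈ maximalIdeal A ^ n ∧ b ∈ maximalIdeal A ^ n ∧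
    b ∉ maximalIdeal A ^ (n + 1) ∧ z = algebraMap A (FractionRing A) a / algebraMap A (FractionRing A) b

omit hx hq in
lemma ne_zero_of_notMem {b : A} {n : ℕ} (hb : b ∉ maximalIdeal A ^ n) :
    algebraMap A (FractionRing A) b ≠ 0 := by
  rw [Ne, IsFractionRing.to_map_eq_zero_iff]
  rintro rfl
  exact hb (Ideal.zero_mem _)

lemma inV_algebraMap (a : A) : InV (algebraMap A (FractionRing A) a) :=
  ⟨0, a, 1, by simp [Ideal.one_eq_top], by simp [Ideal.one_eq_top], by
    rw [zero_add, pow_one]; exact (Ideal.ne_top_iff_one _).1 (maximalIdeal.isMaximal A).ne_top,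
    by simp⟩

/-- The valuation ring of the order valuation. -/
def V : Subalgebra A (FractionRing A) where
  carrier := {z | InV z}
  mul_mem' := by
    rintro _ _ ⟨n, a, b, ha, hb, hb', rfl⟩ ⟨l, c, e, hc, he, he', rfl⟩
    refine ⟨n + l, a * c, b * e, ?_, ?_, mul_notMem hx hq hb hb' he he', by
      rw [div_mul_div_comm, map_mul, map_mul]⟩
    · rw [pow_add]; exact Ideal.mul_mem_mul ha hc
    · rw [pow_add]; exact Ideal.mul_mem_mul hb he
  add_mem' := by
    rintro _ _ ⟨n, a, b, ha, hb, hb', rfl⟩ ⟨l, c, e, hc, he, he', rfl⟩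
    refine ⟨n + l, a * e + b * c, b * e, ?_, ?_, mul_notMem hx hq hb hb' he he', by
      rw [div_add_div _ _ (ne_zero_of_notMem hb') (ne_zero_of_notMem he'), map_add, map_mul,
        map_mul, map_mul]⟩
    · rw [pow_add]; exact add_mem (Ideal.mul_mem_mul ha he) (Ideal.mul_mem_mul hb hc)
    · rw [pow_add]; exact Ideal.mul_mem_mul hb he
  algebraMap_mem' := inV_algebraMap

lemma mem_V {z : FractionRing A} : z ∈ V hx hq ↔ InV z := Iff.rfl

lemma isUnit_iff {z : V hx hq} {n : ℕ} {a b : A} (ha : a ∈ maximalIdeal A ^ n)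
    (hb : b ∈ maximalIdeal A ^ n) (hb' : b ∉ maximalIdeal A ^ (n + 1))
    (hz : (z : FractionRing A) = algebraMap A (FractionRing A) a / algebraMap A (FractionRing A) b) :
    IsUnit z ↔ a ∉ maximalIdeal A ^ (n + 1) := by
  constructor
  · intro hu ha'
    obtain ⟨w, hw⟩ := hu.exists_right_inv
    obtain ⟨l, c, e, hc, he, he', hwe⟩ := w.2
    have h1 : (z : FractionRing A) * w = 1 := congrArg Subtype.val hw
    rw [hz, hwe, div_mul_div_comm, div_eq_one_iff_eq (mul_ne_zero (ne_zero_of_notMem hb')
      (ne_zero_of_notMem he')), ← map_mul, ← map_mul] at h1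
    refine mul_notMem hx hq hb hb' he he' ?_
    rw [← IsFractionRing.injective A (FractionRing A) h1, show n + l + 1 = n + 1 + l by omega, pow_add]
    exact Ideal.mul_mem_mul ha' hc
  · intro ha'
    refine IsUnit.of_mul_eq_one ⟨_, n, b, a, hb, ha, ha', rfl⟩ (Subtype.ext ?_)
    change (z : FractionRing A) * _ = 1
    rw [hz, div_mul_div_comm, mul_comm, div_self]
    exact mul_ne_zero (ne_zero_of_notMem hb') (ne_zero_of_notMem ha')

lemma isFractionRing_V : IsFractionRing (V hx hq) (FractionRing A) where
  map_units := by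
    rintro ⟨z, hz⟩
    refine isUnit_iff_ne_zero.2 fun h => nonZeroDivisors.ne_zero hz (Subtype.ext h)
  surj z := by
    obtain ⟨a, b, hb, rfl⟩ := IsFractionRing.div_surjective (A := A) z
    refine ⟨⟨algebraMap A (V hx hq) a, ⟨algebraMap A (V hx hq) b, ?_⟩⟩, ?_⟩
    · refine mem_nonZeroDivisors_of_ne_zero fun h => ?_
      exact IsFractionRing.to_map_ne_zero_of_mem_nonZeroDivisors (K := FractionRing A) hb
        (congrArg Subtype.val h)
    · exact div_mul_cancel₀ _ (IsFractionRing.to_map_ne_zero_of_mem_nonZeroDivisors hb)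
  exists_of_eq := by
    intro a b h
    exact ⟨1, by simpa using Subtype.ext h⟩

/-- The element `x i / x j`. -/
noncomputable def ratio (j : Fin d) (hj : x j ∉ maximalIdeal A ^ 2) (i : Fin d) : V hx hq :=
  ⟨algebraMap A (FractionRing A) (x i) / algebraMap A (FractionRing A) (x j),
    1, x i, x j, by rw [pow_one, ← hx]; exact Ideal.subset_span ⟨i, rfl⟩,
    by rw [pow_one, ← hx]; exact Ideal.subset_span ⟨j, rfl⟩, hj, rfl⟩

/-- Degree zero fractions with denominator a power of `x j` are polynomials in the ratios. -/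
lemma exists_mem_adjoin (j : Fin d) (hj : x j ∉ maximalIdeal A ^ 2) :
    ∀ (n : ℕ) (a : A), a ∈ maximalIdeal A ^ n →
    ∃ w ∈ Algebra.adjoin A (Set.range (ratio hx hq j hj)), (w : FractionRing A) =
      algebraMap A (FractionRing A) a / algebraMap A (FractionRing A) (x j) ^ n
  | 0, a, _ => ⟨algebraMap A _ a, Subalgebra.algebraMap_mem _ a, by simp⟩
  | n + 1, a, ha => by
    rw [pow_succ'] at ha
    refine Submodule.mul_induction_on ha (fun y hy c hc => ?_) ?_
    · obtain ⟨w, hw, hwe⟩ := exists_mem_adjoin j hj n c hc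
      rw [← hx] at hy
      obtain ⟨r, rfl⟩ := (Submodule.mem_span_range_iff_exists_fun A).1 hy
      refine ⟨(∑ i, algebraMap A (V hx hq) (r i) * ratio hx hq j hj i) * w,
        mul_mem (Subalgebra.sum_mem _ fun i _ => mul_mem (Subalgebra.algebraMap_mem _ _)
          (Algebra.subset_adjoin ⟨i, rfl⟩)) hw, ?_⟩
      change (_ : FractionRing A) * _ = _
      rw [hwe, AddSubmonoidClass.coe_finsetSum, pow_succ', map_mul, map_sum, ← div_mul_div_comm,
        Finset.sum_div]
      refine congrArg (· * _) (Finset.sum_congr rfl fun i _ => ?_)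
      rw [smul_eq_mul, map_mul, mul_div_assoc]
      rfl
    · rintro y y' ⟨w, hw, hwe⟩ ⟨w', hw', hwe'⟩
      exact ⟨w + w', add_mem hw hw', by
        change (w : FractionRing A) + (w' : FractionRing A) = _
        rw [hwe, hwe', map_add, add_div]⟩

end S4947Aux

open S4947Aux

/-- Let A be a regular local ring which is not a field, K its fraction field and k its residue field.
Then there is a discrete valuation ring V between A and K, with fraction field K, dominating A,
whose residue field is a purely transcendental extension of k: for some ring map from k compatible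
with A → V there is an algebraically independent family generating the residue field of V as a field
over k. -/
theorem result (A : Type u) [CommRing A] [IsRegularLocalRing A]
    (hA : ¬ IsField A) :
    ∃ (V : Subalgebra A (FractionRing A)) (_ : IsDomain V) (_ : IsDiscreteValuationRing V), IsFractionRing V (FractionRing A) ∧
      (IsLocalRing.maximalIdeal V).comap (algebraMap A V) = IsLocalRing.maximalIdeal A ∧
      ∃ (φ : IsLocalRing.ResidueField A →+* IsLocalRing.ResidueField V),
        φ.comp (IsLocalRing.residue A) = (IsLocalRing.residue V).comp (algebraMap A V) ∧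
        letI := φ.toAlgebra
        ∃ (ι : Type u) (t : ι → IsLocalRing.ResidueField V), AlgebraicIndependent (IsLocalRing.ResidueField A) t ∧
          IntermediateField.adjoin (IsLocalRing.ResidueField A) (Set.range t) = ⊤ := by
  classical
  haveI : IsDomain A := RegLocal.isDomain A
  obtain ⟨D, hD⟩ := RegLocal.exists_nat_ringKrullDim (R := A)
  have hr := (isRegularLocalRing_iff A).1 inferInstance
  rw [hD] at hr
  have hr' : (maximalIdeal A).spanFinrank = D := by exact_mod_cast hr
  obtain ⟨x, hx⟩ := RegLocal.exists_generators (R := A)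
  have hq : CAlgX.IsQuasiRegular x := QRegLib.isQuasiRegular_of_isWeaklyRegular x
    (RegLocal.isRegular_of_generators A (d := (maximalIdeal A).spanFinrank) (by rw [hD, hr']) x hx).toIsWeaklyRegular
  generalize (maximalIdeal A).spanFinrank = d at x hx hq
  clear hr hr'
  obtain ⟨j⟩ : Nonempty (Fin d) := by
    by_contra h
    refine hA ((IsLocalRing.isField_iff_maximalIdeal_eq).2 ?_)
    haveI : IsEmpty (Fin d) := not_nonempty_iff.1 h
    rw [← hx, Set.range_eq_empty, Ideal.span_empty]
  have hx1 : ∀ i, x i ∈ maximalIdeal A := fun i => hx ▸ Ideal.subset_span ⟨i, rfl⟩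
  have hj : x j ∉ maximalIdeal A ^ 2 := fun h => by
    have := hq 1 (MvPolynomial.X j) (MvPolynomial.isHomogeneous_X _ j) (by rwa [MvPolynomial.eval_X, hx])
      (Finsupp.single j 1)
    rw [MvPolynomial.coeff_X, hx] at this
    simp at this
  have hpow : ∀ n, x j ^ n ∉ maximalIdeal A ^ (n + 1) := by
    intro n
    induction n with
    | zero => simp
    | succ n ih =>
      have := mul_notMem hx hq (Ideal.pow_mem_pow (hx1 j) n) ih (by rw [pow_one]; exact hx1 j) hj
      rwa [← pow_succ] at this
  let W := V hx hq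
  haveI : IsDomain W := inferInstance
  let π : W := algebraMap A W (x j)
  have hπu : ¬ IsUnit π := fun h =>
    (isUnit_iff hx hq (n := 0) (a := x j) (b := 1) (by simp) (by simp) (by simp) (by simp [π])).1 h
      (by rw [zero_add, pow_one]; exact hx1 j)
  -- factorisation
  have hfac : ∀ z : W, z ≠ 0 → ∃ e : ℕ, Associated (π ^ e) z := by
    intro z hz
    obtain ⟨n, a, b, ha, hb, hb', hze⟩ := z.2
    have ha0 : a ≠ 0 := by
      rintro rfl
      exact hz (Subtype.ext (by rw [hze, map_zero, zero_div]; rfl))
    obtain ⟨m, hm, hm'⟩ := exists_ord ha0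
    have hnm : n ≤ m := by
      by_contra h
      exact hm' (Ideal.pow_le_pow_right (by omega) ha)
    obtain ⟨e, rfl⟩ := Nat.exists_eq_add_of_le hnm
    have hxe := mul_notMem hx hq hb hb' (Ideal.pow_mem_pow (hx1 j) e) (hpow e)
    have hbe : b * x j ^ e ∈ maximalIdeal A ^ (n + e) := by
      rw [pow_add]; exact Ideal.mul_mem_mul hb (Ideal.pow_mem_pow (hx1 j) e)
    let u : W := ⟨_, n + e, a, b * x j ^ e, hm, hbe, hxe, rfl⟩
    have hu : IsUnit u := (isUnit_iff hx hq (z := u) hm hbe hxe rfl).2 hm'
    refine ⟨e, hu.unit, Subtype.ext ?_⟩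
    change (algebraMap A (FractionRing A) (x j)) ^ e * (u : FractionRing A) = z
    rw [hze]
    simp only [u, map_mul, map_pow]
    have hb0 := ne_zero_of_notMem hb'
    have hx0 : algebraMap A (FractionRing A) (x j) ≠ 0 := ne_zero_of_notMem hj
    field_simp
  have hπ : Irreducible π := by
    refine ⟨hπu, fun {y z} h => ?_⟩
    have hπ0 : π ≠ 0 := fun h0 => ne_zero_of_notMem hj (congrArg Subtype.val h0)
    obtain ⟨i, u, hu⟩ := hfac y (fun h0 => hπ0 (by rw [h, h0, zero_mul]))
    obtain ⟨k, v, hv⟩ := hfac z (fun h0 => hπ0 (by rw [h, h0, mul_zero]))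
    rcases i with _ | i
    · exact Or.inl (by rw [← hu, pow_zero, one_mul]; exact u.isUnit)
    rcases k with _ | k
    · exact Or.inr (by rw [← hv, pow_zero, one_mul]; exact v.isUnit)
    refine absurd (IsUnit.of_mul_eq_one (π ^ i * π ^ k * ↑u * ↑v) (mul_left_cancel₀ hπ0 ?_)) hπu
    rw [mul_one]
    conv_rhs => rw [h, ← hu, ← hv]
    ring
  haveI : IsDiscreteValuationRing W :=
    IsDiscreteValuationRing.ofHasUnitMulPowIrreducibleFactorization ⟨π, hπ, fun {z} hz => hfac z hz⟩
  have hcomap : (maximalIdeal W).comap (algebraMap A W) = maximalIdeal A := by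
    ext a
    rw [Ideal.mem_comap, mem_maximalIdeal, mem_nonunits_iff, isUnit_iff hx hq (n := 0) (a := a) (b := 1)
      (by simp) (by simp) (by simp) (by simp), not_not, zero_add, pow_one]
  let φ : ResidueField A →+* ResidueField W := Ideal.Quotient.lift (maximalIdeal A)
    ((residue W).comp (algebraMap A W)) (fun a ha => by
      rw [RingHom.comp_apply, residue_eq_zero_iff]
      rwa [← hcomap] at ha)
  have hφ : φ.comp (residue A) = (residue W).comp (algebraMap A W) := RingHom.ext fun a => rfl
  refine ⟨W, inferInstance, inferInstance, isFractionRing_V hx hq, hcomap, φ, hφ, ?_⟩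
  letI := φ.toAlgebra
  let g : ULift.{u} {i : Fin d // i ≠ j} → Fin d := fun i => i.down.1
  have hg : Function.Injective g := fun a b h => ULift.ext _ _ (Subtype.ext h)
  let t : ULift.{u} {i : Fin d // i ≠ j} → ResidueField W := fun i => residue W (ratio hx hq j hj (g i))
  refine ⟨_, t, ?_, ?_⟩
  · rw [algebraicIndependent_iff]
    intro P hP
    obtain ⟨Q, rfl⟩ := MvPolynomial.map_surjective (residue A) residue_surjective P
    let N := Q.totalDegree
    let τ : ((ULift.{u} {i : Fin d // i ≠ j}) →₀ ℕ) → (Fin d →₀ ℕ) := fun e =>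
      Finsupp.mapDomain g e + Finsupp.single j (N - e.degree)
    have hτ : ∀ e i, τ e (g i) = e i := fun e i => by
      simp only [τ, Finsupp.add_apply, Finsupp.mapDomain_apply hg]
      rw [Finsupp.single_apply, if_neg (fun h => i.down.2 h.symm), add_zero]
    have hτinj : Function.Injective τ := fun e e' h => Finsupp.ext fun i => by
      rw [← hτ e i, ← hτ e' i, h]
    let H : MvPolynomial (Fin d) A := ∑ e ∈ Q.support, monomial (τ e) (coeff e Q)
    have hH : H.IsHomogeneous N := by
      refine MvPolynomial.IsHomogeneous.sum _ _ _ fun e he => isHomogeneous_monomial _ ?_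
      have h1 : e.degree ≤ N := MvPolynomial.le_totalDegree he
      simp only [τ, map_add, Finsupp.degree_mapDomain, Finsupp.degree_single]
      omega
    let w : W := aeval (fun i => ratio hx hq j hj (g i)) Q
    have hw : residue W w = 0 := by
      rw [← hP, aeval_def, eval₂_map]
      exact eval₂_comp_left (residue W) _ _ Q
    obtain ⟨n, a, b, ha, hb, hb', hwe⟩ := w.2
    have hcancel : eval x H ∈ maximalIdeal A ^ (N + 1) := by
      by_contra hmem
      have hHm : eval x H ∈ maximalIdeal A ^ N := by
        have := QRegLib.eval_mem_mul_pow x ⊤ Set.univ N H hH (QRegLib.suppIn_univ H) (fun _ => trivial)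
        rwa [Set.image_univ, hx, Ideal.top_mul] at this
      have hval : (w : FractionRing A) = algebraMap A (FractionRing A) (eval x H) /
          algebraMap A (FractionRing A) (x j ^ N) := by
        have hx0 : algebraMap A (FractionRing A) (x j) ≠ 0 := ne_zero_of_notMem hj
        simp only [w, H, map_sum, map_pow, Finset.sum_div]
        conv_lhs => rw [aeval_def, eval₂_eq]
        rw [AddSubmonoidClass.coe_finsetSum]
        refine Finset.sum_congr rfl fun e he => ?_
        have h1 : e.degree ≤ N := MvPolynomial.le_totalDegree he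
        rw [eval_monomial, Subalgebra.coe_mul, SubmonoidClass.coe_finsetProd, map_mul, map_finsuppProd]
        have h2 : ((τ e).prod fun i k => algebraMap A (FractionRing A) (x i ^ k)) =
            (∏ i ∈ e.support, algebraMap A (FractionRing A) (x (g i)) ^ e i) *
              algebraMap A (FractionRing A) (x j) ^ (N - e.degree) := by
          simp only [τ, map_pow]
          rw [Finsupp.prod_add_index' (by simp) (fun _ _ _ => pow_add _ _ _),
            Finsupp.prod_mapDomain_index (by simp) (fun _ _ _ => pow_add _ _ _),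
            Finsupp.prod_single_index (by simp)]
          rfl
        rw [h2, mul_div_assoc]
        congr 1
        simp only [SubmonoidClass.coe_pow, ratio, div_pow, Finset.prod_div_distrib,
          Finset.prod_pow_eq_pow_sum]
        rw [show ∑ i ∈ e.support, e i = e.degree from rfl,
          div_eq_div_iff (pow_ne_zero _ hx0) (pow_ne_zero _ hx0), mul_assoc, ← pow_add,
          Nat.sub_add_cancel h1]
      exact (residue_eq_zero_iff _).1 hw |> fun h => (mem_maximalIdeal _).1 h
        ((isUnit_iff hx hq (z := w) hHm (Ideal.pow_mem_pow (hx1 j) N) (hpow N) hval).2 hmem)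
    ext e
    rw [coeff_map, coeff_zero, residue_eq_zero_iff, ← hx]
    have h3 : coeff (τ e) H = coeff e Q := by
      simp only [H, coeff_sum, coeff_monomial, hτinj.eq_iff]
      rw [Finset.sum_ite_eq']
      split_ifs with he
      · rfl
      · exact (notMem_support_iff.1 he).symm
    rw [← h3]
    exact hq N H hH (by rwa [hx]) (τ e)
  · rw [eq_top_iff]
    intro r _
    obtain ⟨z, rfl⟩ := residue_surjective r
    let E := IntermediateField.adjoin (ResidueField A) (Set.range t)
    have hsub : ∀ w ∈ Algebra.adjoin A (Set.range (ratio hx hq j hj)), residue W w ∈ E := by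
      intro w hw
      induction hw using Algebra.adjoin_induction with
      | mem y hy =>
        obtain ⟨i, rfl⟩ := hy
        by_cases hij : i = j
        · subst hij
          have : ratio hx hq i hj i = 1 := Subtype.ext (div_self (ne_zero_of_notMem hj))
          rw [this, map_one]
          exact one_mem _
        · exact IntermediateField.subset_adjoin _ _ ⟨⟨⟨i, hij⟩⟩, rfl⟩
      | algebraMap a => exact E.algebraMap_mem (residue A a)
      | add _ _ _ _ h h' => rw [map_add]; exact add_mem h h'
      | mul _ _ _ _ h h' => rw [map_mul]; exact mul_mem h h'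
    obtain ⟨n, a, b, ha, hb, hb', hze⟩ := z.2
    obtain ⟨wa, hwa, hwae⟩ := exists_mem_adjoin hx hq j hj n a ha
    obtain ⟨wb, hwb, hwbe⟩ := exists_mem_adjoin hx hq j hj n b hb
    have hub : IsUnit wb := (isUnit_iff hx hq (z := wb) hb (Ideal.pow_mem_pow (hx1 j) n) (hpow n)
      (by rw [hwbe, map_pow])).2 hb'
    have heq : z * wb = wa := Subtype.ext (by
      change (z : FractionRing A) * (wb : FractionRing A) = (wa : FractionRing A)
      rw [hze, hwae, hwbe, div_mul_div_cancel₀ (ne_zero_of_notMem hb')])
    have h4 : residue W z = residue W wa / residue W wb := by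
      rw [← heq, map_mul, mul_div_cancel_right₀]
      exact ((residue W).isUnit_map hub).ne_zero
    rw [h4]
    exact div_mem (hsub wa hwa) (hsub wb hwb)

end Groth.Agent.S4947
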