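import Groth.Statements.S4951
-- import your own Groth.Agent.* helpers here

set_option autoImplicit false
universe u
open EGA43

namespace Groth.Agent.S4951

/-- Let X be a locally Noetherian topological space in which every irreducible closed subset has a
unique generic point (X quasi-sober and T₀), and Z a closed nowhere dense subset of X such that for
every point x of Z the set of generizations of x distinct from x is connected (possibly empty). If X
is connected, then X − Z is connected. (Uniqueness of generic points, automatic for the underlying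
space of a scheme, is needed: in the four-point space {u, v, z₁, z₂} whose open sets are ∅, {u},
{v}, {u, v} and the whole space, the closed nowhere dense set Z = {z₁, z₂} satisfies the hypothesis,
since z₂ is a generization of z₁ and conversely, yet X − Z = {u, v} is not connected.) -/
theorem result {X : Type u} [TopologicalSpace X]
    [QuasiSober X] [T0Space X] (hloc : ∀ x : X, ∃ U ∈ nhds x, TopologicalSpace.NoetherianSpace ↥U) [ConnectedSpace X]
    (Z : Set X) (hZ : IsClosed Z) (hZn : IsNowhereDense Z)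
    (hgen : ∀ x ∈ Z, IsPreconnected ({x' : X | x' ⤳ x} \ {x})) :
    IsConnected Zᶜ := by
  classical
  have hd : Dense Zᶜ := by
    rw [dense_iff_closure_eq, closure_compl, Set.compl_univ_iff]
    have := hZn
    rwa [IsNowhereDense, hZ.closure_eq] at this
  refine ⟨hd.nonempty, fun U V hU hV hsub hUn hVn => ?_⟩
  by_contra hne
  rw [Set.not_nonempty_iff_eq_empty] at hne
  set U' := Zᶜ ∩ U with hU'
  set V' := Zᶜ ∩ V with hV'
  have hU'o : IsOpen U' := hZ.isOpen_compl.inter hU
  have hV'o : IsOpen V' := hZ.isOpen_compl.inter hV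
  have hcov : closure U' ∪ closure V' = Set.univ := by
    rw [← closure_union, ← Set.univ_subset_iff, ← hd.closure_eq]
    exact closure_mono fun x hx => (hsub hx).imp (fun h => ⟨hx, h⟩) (fun h => ⟨hx, h⟩)
  have hdisj : Disjoint U' V' := Set.disjoint_left.2 fun x hx hx' =>
    Set.eq_empty_iff_forall_notMem.1 hne x ⟨hx.1, hx.2, hx'.2⟩
  have hUV : Disjoint U' (closure V') := (hdisj.closure_right hU'o)
  have hVU : Disjoint V' (closure U') := (hdisj.symm.closure_right hV'o)
  set F := closure U' ∩ closure V'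
  obtain ⟨z, hz⟩ : F.Nonempty := by
    have := isPreconnected_closed_iff.1 (isPreconnected_univ (α := X)) _ _
      (isClosed_closure (s := U')) (isClosed_closure (s := V')) hcov.ge
      ⟨_, Set.mem_univ _, subset_closure hUn.some_mem⟩ ⟨_, Set.mem_univ _, subset_closure hVn.some_mem⟩
    obtain ⟨z, -, hz⟩ := this
    exact ⟨z, hz⟩
  have hFc : IsClosed F := isClosed_closure.inter isClosed_closure
  -- a maximal point of `F`
  let C : Set ↥F := irreducibleComponent (⟨z, hz⟩ : ↥F)
  have hCirr : IsIrreducible (Subtype.val '' C : Set X) :=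
    isIrreducible_irreducibleComponent.image _ continuous_subtype_val.continuousOn
  have hCcl : IsClosed (Subtype.val '' C : Set X) :=
    hFc.isClosedEmbedding_subtypeVal.isClosedMap _ isClosed_irreducibleComponent
  obtain ⟨x, hxg⟩ := QuasiSober.sober hCirr hCcl
  have hxC : x ∈ (Subtype.val '' C : Set X) := hxg.mem
  have hxF : x ∈ F := by obtain ⟨y, -, rfl⟩ := hxC; exact y.2
  have hmax : ∀ y ∈ F, y ⤳ x → y = x := fun y hy hyx => by
    let D : Set ↥F := closure {(⟨y, hy⟩ : ↥F)}
    have hD : D = Subtype.val ⁻¹' closure {y} := by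
      rw [show D = _ from (Topology.IsInducing.subtypeVal).closure_eq_preimage_closure_image _,
        Set.image_singleton]
    have hCD : C ⊆ D := fun p hp => by
      rw [hD]
      have : p.1 ∈ closure ({x} : Set X) := by
        rw [hxg.def]; exact Set.mem_image_of_mem _ hp
      exact (specializes_iff_closure_subset.1 hyx) this
    have hDC : D = C := eq_irreducibleComponent isIrreducible_singleton.closure.isPreirreducible hCD
    have hyC : y ∈ closure ({x} : Set X) := by
      rw [hxg.def]
      exact ⟨⟨y, hy⟩, hDC ▸ subset_closure rfl, rfl⟩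
    exact (hyx.antisymm (specializes_iff_mem_closure.2 hyC)).eq
  -- points of `U'`, `V'` generizing `x`
  have hgenpt : ∀ S : Set X, IsOpen S → x ∈ closure S → x ∉ S → ∃ η, η ⤳ x ∧ η ≠ x ∧ η ∈ S := by
    intro S hS hxS hxS'
    obtain ⟨W₀, hW₀, hN⟩ := hloc x
    obtain ⟨W, hWsub, hWo, hxW⟩ := mem_nhds_iff.1 hW₀
    haveI := hN
    haveI : TopologicalSpace.NoetherianSpace ↥(S ∩ W) :=
      (Topology.IsEmbedding.inclusion (show S ∩ W ⊆ W₀ from fun a ha => hWsub ha.2)).isInducing.noetherianSpace
    obtain ⟨T, hTf, -, hTirr, hTu⟩ :=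
      TopologicalSpace.NoetherianSpace.exists_finite_set_isClosed_irreducible
        (isClosed_univ (X := ↥(S ∩ W)))
    have hx' : x ∈ closure (S ∩ W) := by
      rw [mem_closure_iff_nhds] at hxS ⊢
      intro O hO
      obtain ⟨a, ⟨haO, haW⟩, haS⟩ := hxS _ (Filter.inter_mem hO (hWo.mem_nhds hxW))
      exact ⟨a, haO, haS, haW⟩
    have himg : S ∩ W = ⋃ t ∈ T, Subtype.val '' t := by
      rw [← Set.image_iUnion₂, ← Set.sUnion_eq_biUnion, ← hTu, Set.image_univ, Subtype.range_coe]
    rw [himg, hTf.closure_biUnion, Set.mem_iUnion₂] at hx'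
    obtain ⟨t, ht, hxt⟩ := hx'
    have hirr : IsIrreducible (Subtype.val '' t : Set X) :=
      (hTirr t ht).image _ continuous_subtype_val.continuousOn
    obtain ⟨η, hη⟩ := QuasiSober.sober hirr.closure isClosed_closure
    have hηS : η ∈ S := by
      obtain ⟨a, ha⟩ := hirr.nonempty
      have haS : a ∈ S := by obtain ⟨⟨b, hb⟩, -, rfl⟩ := ha; exact hb.1
      exact (hη.mem_open_set_iff hS).2 ⟨a, subset_closure ha, haS⟩
    exact ⟨η, hη.specializes hxt, fun h => hxS' (h ▸ hηS), hηS⟩
  have hxU : x ∉ U' := fun h => hUV.le_bot ⟨h, hxF.2⟩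
  have hxV : x ∉ V' := fun h => hVU.le_bot ⟨h, hxF.1⟩
  have hxZ : x ∈ Z := by
    by_contra hxZ
    rcases hsub hxZ with h | h
    · exact hxU ⟨hxZ, h⟩
    · exact hxV ⟨hxZ, h⟩
  obtain ⟨η, hη, hηne, hηU⟩ := hgenpt U' hU'o hxF.1 hxU
  obtain ⟨θ, hθ, hθne, hθV⟩ := hgenpt V' hV'o hxF.2 hxV
  obtain ⟨y, ⟨hyx, hyne⟩, hy⟩ := isPreconnected_closed_iff.1 (hgen x hxZ) _ _
    (isClosed_closure (s := U')) (isClosed_closure (s := V')) (by rw [hcov]; exact Set.subset_univ _)
    ⟨η, ⟨hη, by simpa using hηne⟩, subset_closure hηU⟩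
    ⟨θ, ⟨hθ, by simpa using hθne⟩, subset_closure hθV⟩
  exact hyne (hmax y hy hyx)

end Groth.Agent.S4951
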