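import Groth.Statements.S4952
import Groth.Agent.OpenDim.SectionDim
-- import your own Groth.Agent.* helpers here

set_option autoImplicit false
open CategoryTheory AlgebraicGeometry
universe u v w
open EGA43

namespace Groth.Agent.S4952

/-- Let Y be a locally Noetherian scheme, f : X ⟶ Y a morphism locally of finite type and g : Y ⟶ X a
section of f; for z in Y let X_z^0 be the connected component of the fibre f⁻¹(z) containing g z (a
subset of X with the induced topology). Let y be a point of Y and y' a generization of y. (i) If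
there is an irreducible component Z of f⁻¹(y') containing g y' with dim Z = dim X_{y'}^0, then dim
X_y^0 ≥ dim X_{y'}^0. (ii) If moreover X_y^0 is irreducible and dim X_y^0 = dim X_{y'}^0, then X_y^0
is contained in the closure of X_{y'}^0 in X. -/
theorem result {X Y : Scheme.{u}} [IsLocallyNoetherian Y] (f : X ⟶ Y)
    [LocallyOfFiniteType f] (g : Y ⟶ X) (hg : g ≫ f = 𝟙 Y) (y y' : Y) (hy : y' ⤳ y)
    (hZ : ∃ Z : Set X, Z ⊆ f.base ⁻¹' {y'} ∧ IsIrreducible Z ∧
      (∀ Z' : Set X, IsIrreducible Z' → Z' ⊆ f.base ⁻¹' {y'} → Z ⊆ Z' → Z' = Z) ∧ g.base y' ∈ Z ∧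
      topologicalKrullDim ↥Z = topologicalKrullDim ↥(connectedComponentIn (f.base ⁻¹' {y'}) (g.base y'))) :
    topologicalKrullDim ↥(connectedComponentIn (f.base ⁻¹' {y'}) (g.base y')) ≤ topologicalKrullDim ↥(connectedComponentIn (f.base ⁻¹' {y}) (g.base y)) ∧
      (IsIrreducible (connectedComponentIn (f.base ⁻¹' {y}) (g.base y)) → topologicalKrullDim ↥(connectedComponentIn (f.base ⁻¹' {y}) (g.base y)) = topologicalKrullDim ↥(connectedComponentIn (f.base ⁻¹' {y'}) (g.base y')) →
        connectedComponentIn (f.base ⁻¹' {y}) (g.base y) ⊆ closure (connectedComponentIn (f.base ⁻¹' {y'}) (g.base y'))) := by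
  obtain ⟨Z, hZy, hZ, hZmax, hgZ, hZdim⟩ := hZ
  obtain ⟨ζ', hζ'Z, hfζ', -, hZeq, -⟩ := Groth.Agent.OpenDim.exists_generic_of_fibre_component f y' Z hZy hZ hZmax
  have hgen : ∀ w ∈ Z, ζ' ⤳ w := fun w hw => by
    rw [hZeq] at hw; exact specializes_iff_mem_closure.2 hw.1
  have hdZ : topologicalKrullDim ↥Z = (Groth.Agent.OpenDim.trd f ζ' : WithBot ℕ∞) := by
    refine le_antisymm (Groth.Agent.OpenDim.dim_inter_le f (closure {ζ'}) isClosed_closure Set.univ isOpen_univ y' _
      (by rw [Set.inter_univ]; exact hZeq) fun w hw => ?_)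
      (Groth.Agent.OpenDim.trd_le_dim_inter f (closure {ζ'}) isClosed_closure Set.univ isOpen_univ y' _
        (by rw [Set.inter_univ]; exact hZeq) hζ'Z)
    exact_mod_cast Groth.Agent.OpenDim.trd_le f (hgen w hw) (hfζ'.trans (hZy hw).symm)
  rw [hdZ] at hZdim
  rw [← hZdim]
  refine ⟨?_, fun hirr hd => Groth.Agent.OpenDim.comp_subset_closure f g hg hy hirr
    (Groth.Agent.OpenDim.mem_comp_of_specializes f
      (mem_connectedComponentIn (Groth.Agent.OpenDim.section_apply f hg y')) hfζ' (hgen _ hgZ))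
    (hgen _ hgZ) hd.le⟩
  obtain ⟨w, hw, -, hfw, hle⟩ := Groth.Agent.OpenDim.exists_trd_ge_comp f g hg hy (hgen _ hgZ)
  refine le_trans ?_ (Groth.Agent.OpenDim.trd_le_dim_inter f (closure (connectedComponentIn (f.base ⁻¹' {y}) (g.base y)))
    isClosed_closure Set.univ isOpen_univ y _ (by
      rw [Set.inter_univ]; exact Groth.Agent.OpenDim.comp_eq_closure_inter f (Groth.Agent.OpenDim.section_apply f hg y)) hw)
  exact_mod_cast hle

end Groth.Agent.S4952
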