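import Groth.Statements.S4957
import Groth.Agent.S4976
import Groth.Agent.FibreDepth.FibreDim

set_option autoImplicit false
open CategoryTheory AlgebraicGeometry
universe u v w
open EGA43

namespace Groth.Agent.S4957

open CategoryTheory CategoryTheory.Limits AlgebraicGeometry

open Groth.Agent
set_option backward.isDefEq.respectTransparency false

theorem fibre_dim_eq {Z X U Y : Scheme.{u}} (h : Z ⟶ U) (e : Z ⟶ X) (he : Topology.IsEmbedding e.base)
    (v : U) (C : Set X) (hC : e.base '' (h.base ⁻¹' {v}) = C) :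
    topologicalKrullDim ↥(h.fiber v) = topologicalKrullDim ↥C := by
  subst hC
  exact IsHomeomorph.topologicalKrullDim_eq _
    ((h.fiberHomeo v).trans (he.homeomorphImage (h.base ⁻¹' {v}))).isHomeomorph


/-- Let f : X ⟶ Y be a separated morphism of finite presentation with a section g : Y ⟶ X, and X_z^0 the
connected component of f⁻¹(z) containing g z. Let y be a point such that X_y^0, as an open subscheme
of the fibre X_y, is proper over κ(y). Then for every generization y' of y one has dim X_{y'}^0 ≤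
dim X_y^0. -/
theorem result {X Y : Scheme.{u}} (f : X ⟶ Y) [IsSeparated f]
    [LocallyOfFinitePresentation f] [QuasiCompact f] [QuasiSeparated f] (g : Y ⟶ X) (hg : g ≫ f = 𝟙 Y) (y : Y)
    (hop : IsOpen ((f.fiberι y).base ⁻¹' connectedComponentIn (f.base ⁻¹' {y}) (g.base y)))
    (hprop : IsProper (Scheme.Opens.ι (⟨(f.fiberι y).base ⁻¹' connectedComponentIn (f.base ⁻¹' {y}) (g.base y), hop⟩ : (f.fiber y).Opens) ≫
      f.fiberToSpecResidueField y))
    (y' : Y) (hy' : y' ⤳ y) :
    topologicalKrullDim ↥(connectedComponentIn (f.base ⁻¹' {y'}) (g.base y')) ≤ topologicalKrullDim ↥(connectedComponentIn (f.base ⁻¹' {y}) (g.base y)) := by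
  obtain ⟨U, hyU, hC, hproper⟩ := Groth.Agent.S4976.result f g hg y hop hprop
  have hy'U : y' ∈ U := hy'.mem_open U.isOpen hyU
  let Zs := Scheme.IdealSheafData.vanishingIdeal (X := ((f ⁻¹ᵁ U : X.Opens) : Scheme.{u}))
    (⟨(f ⁻¹ᵁ U).ι.base ⁻¹' MoreMor.sectionComponents f g, hC⟩ : TopologicalSpace.Closeds ↥(f ⁻¹ᵁ U))
  let h : Zs.subscheme ⟶ (U : Scheme.{u}) := Zs.subschemeι ≫ (f ∣_ U)
  haveI : IsProper h := hproper
  let e : Zs.subscheme ⟶ X := Zs.subschemeι ≫ (f ⁻¹ᵁ U).ι
  have he : Topology.IsEmbedding e.base := e.isEmbedding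
  have heh : ∀ z, f.base (e.base z) = (h.base z).1 := fun z => by
    show (e ≫ f).base z = ((h ≫ U.ι).base z)
    simp [e, h, Category.assoc]
  have him : ∀ v : U, e.base '' (h.base ⁻¹' {v}) = connectedComponentIn (f.base ⁻¹' {v.1}) (g.base v.1) := by
    intro v
    ext x
    constructor
    · rintro ⟨z, hz, rfl⟩
      have hfz : f.base (e.base z) = v.1 := by rw [heh, show h.base z = v from hz]
      have hmem : Zs.subschemeι.base z ∈ (Zs.support : Set _) := Zs.range_subschemeι.le ⟨z, rfl⟩
      rw [show (Zs.support : Set _) = (f ⁻¹ᵁ U).ι.base ⁻¹' MoreMor.sectionComponents f g from by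
        simp [Zs]] at hmem
      have hmem' : e.base z ∈ connectedComponentIn (f.base ⁻¹' {f.base (e.base z)}) (g.base (f.base (e.base z))) := hmem
      rwa [hfz] at hmem'
    · intro hx
      have hfx : f.base x = v.1 := connectedComponentIn_subset (f.base ⁻¹' {v.1}) _ hx
      let x' : ↥(f ⁻¹ᵁ U) := ⟨x, show f.base x ∈ U from hfx ▸ v.2⟩
      have hx' : x' ∈ Set.range Zs.subschemeι.base := by
        rw [Zs.range_subschemeι, show (Zs.support : Set _) = (f ⁻¹ᵁ U).ι.base ⁻¹' MoreMor.sectionComponents f g from by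
          simp [Zs]]
        show x ∈ connectedComponentIn (f.base ⁻¹' {f.base x}) (g.base (f.base x))
        rw [hfx]
        exact hx
      obtain ⟨z, hz⟩ := hx'
      have hez : e.base z = x := by
        show (f ⁻¹ᵁ U).ι.base (Zs.subschemeι.base z) = x
        rw [hz]
        rfl
      refine ⟨z, Subtype.ext ?_, hez⟩
      show (h.base z).1 = v.1
      rw [← heh, hez, hfx]
  rw [← fibre_dim_eq (Y := Y) h e he ⟨y', hy'U⟩ _ (him _), ← fibre_dim_eq (Y := Y) h e he ⟨y, hyU⟩ _ (him _)]
  have hopen := FibreDepth.isOpen_fibre_dim_le h h.isClosedMap (topologicalKrullDim ↥(h.fiber ⟨y, hyU⟩))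
  have hspec : (⟨y', hy'U⟩ : U) ⤳ (⟨y, hyU⟩ : U) :=
    Topology.IsInducing.subtypeVal.specializes_iff.mp hy'
  exact hspec.mem_open hopen (Set.mem_ofPred_eq ▸ le_refl _)

end Groth.Agent.S4957
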