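import Groth.Statements.S4958
import Groth.Agent.DimFormulaLib.FibreComp
-- import your own Groth.Agent.* helpers here

set_option autoImplicit false
open CategoryTheory AlgebraicGeometry
universe u v w
open EGA43

namespace Groth.Agent.S4958

/-- Let Y be an irreducible locally Noetherian scheme with generic point η, f : X ⟶ Y a morphism of
finite type and y a point of Y whose local ring O_{Y,y} is universally catenary. Suppose that dim
O_{X,z} = dim O_{Y,y} for every maximal point z of the fibre X_y. For z' in Y let E(z') be the set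
of dimensions of the irreducible components of X_{z'}. Then E(y) ⊆ E(η), and hence dim X_y ≤ dim
X_η. -/
theorem result {X Y : Scheme.{u}} [IrreducibleSpace Y]
    [IsLocallyNoetherian Y] (f : X ⟶ Y) [LocallyOfFiniteType f] [QuasiCompact f] (y : Y)
    (hcat : CAlg.IsUniversallyCatenary (Y.presheaf.stalk y))
    (hb : ∀ z : X, f.base z = y → (∀ z' : X, f.base z' = y → z ∈ closure {z'} → z' = z) →
      ringKrullDim (X.presheaf.stalk z) = ringKrullDim (Y.presheaf.stalk y)) :
    letI E : Y → Set (WithBot ℕ∞) := fun z =>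
      (fun Z : Set ↥(f.fiber z) => topologicalKrullDim ↥Z) '' irreducibleComponents ↥(f.fiber z)
    E y ⊆ E (genericPoint Y) ∧
      topologicalKrullDim ↥(f.fiber y) ≤ topologicalKrullDim ↥(f.fiber (genericPoint Y)) := by
  dsimp only
  have key : ∀ Z ∈ irreducibleComponents ↥(f.fiber y), topologicalKrullDim ↥Z ∈
      (fun Z : Set ↥(f.fiber (genericPoint Y)) => topologicalKrullDim ↥Z) ''
        irreducibleComponents ↥(f.fiber (genericPoint Y)) := fun Z hZ => by
    obtain ⟨x, t, hx, hmax, ht, hdim⟩ := Groth.Agent.DimFormulaLib.exists_point_of_component f y Z hZ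
    obtain ⟨W, hW, hWd⟩ := Groth.Agent.DimFormulaLib.exists_generic_component f y hcat x hx hmax
      (hb x hx fun z' hz' hc => hmax z' hz' (specializes_iff_mem_closure.2 hc)) t ht
    exact ⟨W, hW, hWd.trans hdim.symm⟩
  refine ⟨?_, Groth.Agent.DimFormulaLib.topologicalKrullDim_fiber_le f fun Z hZ => ?_⟩
  · rintro _ ⟨Z, hZ, rfl⟩
    exact key Z hZ
  · obtain ⟨W, -, hWd⟩ := key Z hZ
    exact hWd ▸ topologicalKrullDim_subspace_le _ _

end Groth.Agent.S4958
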