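import Groth.Statements.S4959
import Mathlib
-- import your own Groth.Agent.* helpers here

set_option autoImplicit false
open CategoryTheory AlgebraicGeometry
universe u v w
open EGA43

namespace Groth.Agent.S4959

open CategoryTheory.Limits in
/-- Let f : X ⟶ Y be a morphism of schemes and g : Y' ⟶ Y a surjective morphism which is either proper,
or flat and quasi-compact. If the base change f' : X ×_Y Y' ⟶ Y' is universally submersive (all of
its base changes are topological quotient maps), then f is universally submersive. -/
theorem result {X Y Y' : Scheme.{u}} (f : X ⟶ Y) (g : Y' ⟶ Y) [Surjective g]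
    (hg : IsProper g ∨ (Flat g ∧ QuasiCompact g))
    (h : MorphismProperty.universally (topologically @Topology.IsQuotientMap) (pullback.snd f g)) :
    MorphismProperty.universally (topologically @Topology.IsQuotientMap) f := by
  have hgu : MorphismProperty.universally (topologically @Topology.IsQuotientMap) g := by
    intro Y'' Z i₁ i₂ g' hsq
    rw [topologically]
    haveI : Surjective g' := MorphismProperty.of_isPullback hsq.flip ‹Surjective g›
    rcases hg with hp | ⟨hf', hqc⟩
    · haveI : IsProper g' := MorphismProperty.of_isPullback hsq.flip hp
      exact g'.isClosedMap.isQuotientMap g'.continuous g'.surjective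
    · haveI : Flat g' := MorphismProperty.of_isPullback hsq.flip hf'
      haveI : QuasiCompact g' := MorphismProperty.of_isPullback hsq.flip hqc
      exact Flat.isQuotientMap_of_surjective g'
  intro X'' Z i₁ i₂ f' hsq
  have hd : (pullback.snd f' (pullback.fst i₂ g)).base ≫ (pullback.fst i₂ g).base =
      (pullback.fst f' (pullback.fst i₂ g)).base ≫ f'.base := by
    rw [← Scheme.Hom.comp_base, ← pullback.condition, Scheme.Hom.comp_base]
  have hg' : Topology.IsQuotientMap (pullback.fst i₂ g).base :=
    hgu _ _ _ (IsPullback.of_hasPullback i₂ g)
  have hf'' : Topology.IsQuotientMap (pullback.snd f' (pullback.fst i₂ g)).base := by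
    have w : (pullback.fst f' (pullback.fst i₂ g) ≫ i₁) ≫ f =
        (pullback.snd f' (pullback.fst i₂ g) ≫ pullback.snd i₂ g) ≫ g := by
      rw [Category.assoc, Category.assoc, ← hsq.w, ← pullback.condition, pullback.condition_assoc]
    refine h (pullback.lift _ _ w) (pullback.snd i₂ g) (pullback.snd f' (pullback.fst i₂ g)) ?_
    refine IsPullback.of_bot ?_ (pullback.lift_snd _ _ _).symm (IsPullback.of_hasPullback f g).flip
    rw [pullback.lift_fst, ← pullback.condition]
    exact (IsPullback.of_hasPullback f' (pullback.fst i₂ g)).flip.paste_vert hsq
  have hcomp : Topology.IsQuotientMap (⇑f'.base ∘ ⇑(pullback.fst f' (pullback.fst i₂ g)).base) := by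
    have := hg'.comp hf''
    convert this using 1
    funext z
    exact (ConcreteCategory.congr_hom hd z).symm
  exact Topology.IsQuotientMap.of_comp (pullback.fst f' (pullback.fst i₂ g)).continuous f'.continuous hcomp

end Groth.Agent.S4959
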