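import Groth.Statements.S4966
import Groth.Agent.FibreDepth.AssComponents
-- import your own Groth.Agent.* helpers here

set_option autoImplicit false
open CategoryTheory AlgebraicGeometry
universe u v w
open EGA43

namespace Groth.Agent.S4966

/-- Let f : X ⟶ Y be a proper morphism of finite presentation and F a finitely presented O_X-module
which is f-flat; for y in Y write F_y for the restriction of F to the fibre X_y. Let Φ be a finite
set of natural numbers. Then the set of points y of Y such that F_y has no embedded associated point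
and the set of dimensions of the irreducible components of Supp(F_y) is exactly Φ is open in Y. -/
theorem result {X Y : Scheme.{u}} (f : X ⟶ Y) [IsProper f]
    [LocallyOfFinitePresentation f] (F : X.Modules) (hF : CohB1.IsFP F) (hflat : FlatMod.IsFlatOver f F) (Φ : Finset ℕ) :
    IsOpen {y : Y | AssSch.NoEmbedded ((Scheme.Modules.pullback (f.fiberι y)).obj F) ∧
      (fun Z : Set ↥{z : ↥(f.fiber y) | Nontrivial (((Scheme.Modules.pullback (f.fiberι y)).obj F).presheaf.stalk z)} => topologicalKrullDim ↥Z) '' irreducibleComponents ↥{z : ↥(f.fiber y) | Nontrivial (((Scheme.Modules.pullback (f.fiberι y)).obj F).presheaf.stalk z)} =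
        (fun n : ℕ => (n : WithBot ℕ∞)) '' (Φ : Set ℕ)} := by
  haveI := FibreDepth.isQCoh_of_isFP F hF
  have h := ((FibreDepth.isOpen_fibre_noEmbedded f F hF hflat).inter
    (FibreDepth.isOpen_fibre_ass_dims f F hF hflat Φ)).inter
    (isOpen_biInter_finset (s := Φ) fun n _ => FibreDepth.isOpen_fibre_component_dim f F hF hflat n)
  convert h using 1
  ext y
  simp only [Set.mem_inter_iff, Set.mem_iInter, Set.mem_ofPred_eq, Set.Subset.antisymm_iff]
  constructor
  · rintro ⟨hne, hsub, hsup⟩
    refine ⟨⟨hne, (FibreDepth.ass_dims_iff_components f F hF y hne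
      (fun v => ∃ n ∈ Φ, v = (n : WithBot ℕ∞))).2 fun Z hZ => ?_⟩, fun n hn => ?_⟩
    · obtain ⟨n, hn, h⟩ := hsub ⟨Z, hZ, rfl⟩
      exact ⟨n, hn, h.symm⟩
    · exact hsup ⟨n, hn, rfl⟩
  · rintro ⟨⟨hne, hass⟩, hcomp⟩
    refine ⟨hne, ?_, ?_⟩
    · rintro _ ⟨Z, hZ, rfl⟩
      obtain ⟨n, hn, h⟩ := (FibreDepth.ass_dims_iff_components f F hF y hne
        (fun v => ∃ n ∈ Φ, v = (n : WithBot ℕ∞))).1 hass Z hZ
      exact ⟨n, hn, h.symm⟩
    · rintro _ ⟨n, hn, rfl⟩
      exact hcomp n hn

end Groth.Agent.S4966
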