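import Groth.Statements.S4971
import Mathlib
-- import your own Groth.Agent.* helpers here

set_option autoImplicit false
universe u
open EGA43

namespace Groth.Agent.S4971

/-- Let B be a Noetherian local ring, M, N, P three B-modules with N finitely generated, u : M → N and v
: N → P linear maps with v ∘ u = 0, and t an element of the maximal ideal of B which is P-regular.
If the induced sequence M/tM → N/tN → P/tP is exact, then M → N → P is exact. -/
theorem result {B : Type u} [CommRing B] [IsNoetherianRing B] [IsLocalRing B]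
    {M N P : Type u} [AddCommGroup M] [Module B M] [AddCommGroup N] [Module B N] [Module.Finite B N]
    [AddCommGroup P] [Module B P] (u : M →ₗ[B] N) (v : N →ₗ[B] P) (huv : v ∘ₗ u = 0) (t : B)
    (ht : t ∈ IsLocalRing.maximalIdeal B) (hreg : IsSMulRegular P t)
    (hu : (Ideal.span {t} • ⊤ : Submodule B M) ≤ (Ideal.span {t} • ⊤ : Submodule B N).comap u)
    (hv : (Ideal.span {t} • ⊤ : Submodule B N) ≤ (Ideal.span {t} • ⊤ : Submodule B P).comap v)
    (hex : LinearMap.ker ((Ideal.span {t} • ⊤ : Submodule B N).mapQ (Ideal.span {t} • ⊤ : Submodule B P) v hv) ≤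
      LinearMap.range ((Ideal.span {t} • ⊤ : Submodule B M).mapQ (Ideal.span {t} • ⊤ : Submodule B N) u hu)) :
    LinearMap.ker v ≤ LinearMap.range u := by
  refine Submodule.le_of_le_smul_of_le_jacobson_bot (I := Ideal.span {t}) (IsNoetherian.noetherian _) ?_ ?_
  · rw [Ideal.span_le, Set.singleton_subset_iff]
    exact IsLocalRing.maximalIdeal_le_jacobson ⊥ ht
  intro x hx
  have hx' : Submodule.Quotient.mk x ∈ LinearMap.ker
      ((Ideal.span {t} • ⊤ : Submodule B N).mapQ (Ideal.span {t} • ⊤ : Submodule B P) v hv) := by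
    rw [LinearMap.mem_ker, Submodule.mapQ_apply, LinearMap.mem_ker.1 hx]
    exact Submodule.Quotient.mk_zero _
  obtain ⟨m', hm'⟩ := hex hx'
  obtain ⟨m, rfl⟩ := Submodule.Quotient.mk_surjective _ m'
  rw [Submodule.mapQ_apply, Submodule.Quotient.eq, Submodule.ideal_span_singleton_smul,
    Submodule.mem_smul_pointwise_iff_exists] at hm'
  obtain ⟨n, -, hn⟩ := hm'
  have hvn : v n = 0 := hreg (by
    show t • v n = t • (0 : P)
    rw [smul_zero, ← map_smul, hn, map_sub, LinearMap.mem_ker.1 hx, sub_zero]
    exact congrArg (fun l : M →ₗ[B] P => l m) huv)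
  rw [show x = u m + (-t) • n by rw [neg_smul, hn]; abel]
  exact Submodule.add_mem_sup ⟨m, rfl⟩
    (Submodule.smul_mem_smul (neg_mem (Ideal.mem_span_singleton_self t)) hvn)

end Groth.Agent.S4971
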