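import Groth.Statements.S4973
import Groth.Agent.IdealStalkLib.Cartier
open CategoryTheory.Limits
-- import your own Groth.Agent.* helpers here

set_option autoImplicit false
open CategoryTheory AlgebraicGeometry
universe u v w
open EGA43

namespace Groth.Agent.S4973

open CategoryTheory.Limits in
/-- Let Y₀ and Y be integral schemes, g : Y ⟶ Y₀ a dominant morphism, f₀ : X₀ ⟶ Y₀ a dominant morphism
whose fibre over the generic point of Y₀ is irreducible, and X'₀ an irreducible component of X₀
meeting that generic fibre (it is unique), regarded as a reduced closed subscheme of X₀. If X = X₀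
×_{Y₀} Y is an integral scheme, then the morphism X'₀ ×_{Y₀} Y ⟶ X induced by the inclusion of X'₀
is an isomorphism. -/
theorem result {X₀ Y₀ Y : Scheme.{u}} [IsIntegral Y₀] [IsIntegral Y]
    (g : Y ⟶ Y₀) [IsDominant g] (f₀ : X₀ ⟶ Y₀) [IsDominant f₀]
    (hirr : IsIrreducible (f₀.base ⁻¹' {genericPoint Y₀}))
    (C : TopologicalSpace.Closeds X₀) (hC : (C : Set X₀) ∈ irreducibleComponents (X₀ : Type u))
    (hCη : ((C : Set X₀) ∩ f₀.base ⁻¹' {genericPoint Y₀}).Nonempty) [IsIntegral (pullback f₀ g)]
    (e₁ : ((Scheme.IdealSheafData.vanishingIdeal C).subschemeι ≫ f₀) ≫ 𝟙 Y₀ =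
      (Scheme.IdealSheafData.vanishingIdeal C).subschemeι ≫ f₀) (e₂ : g ≫ 𝟙 Y₀ = 𝟙 Y ≫ g) :
    IsIso (pullback.map ((Scheme.IdealSheafData.vanishingIdeal C).subschemeι ≫ f₀) g f₀ g
      (Scheme.IdealSheafData.vanishingIdeal C).subschemeι (𝟙 Y) (𝟙 Y₀) e₁ e₂) := by
  let ι := (Scheme.IdealSheafData.vanishingIdeal C).subschemeι
  let j := pullback.map (ι ≫ f₀) g f₀ g ι (𝟙 Y) (𝟙 Y₀) e₁ e₂
  haveI : IsClosedImmersion j := by
    have h : j = (pullbackRightPullbackFstIso f₀ g ι).inv ≫ pullback.snd _ _ := by
      apply pullback.hom_ext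
      · simp only [j, Category.assoc, pullback.lift_fst, ← pullback.condition, pullbackRightPullbackFstIso_inv_fst_assoc]
      · simp only [j, Category.assoc, pullback.lift_snd, Category.comp_id, pullbackRightPullbackFstIso_inv_snd_snd]
    rw [h]; infer_instance
  let η := genericPoint Y₀
  have hge : g (genericPoint Y) = η := by
    refine IsGenericPoint.eq ?_ (genericPoint_spec Y₀)
    have := (genericPoint_spec Y).image g.continuous
    rwa [Set.image_univ, g.denseRange.closure_range] at this
  have hmax : ∀ {T : Scheme.{u}} [IrreducibleSpace T] (z : T), z ⤳ genericPoint T → z = genericPoint T :=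
    fun {T} _ z hz => (hz.antisymm ((genericPoint_spec T).specializes trivial)).eq
  have hfib : f₀.base ⁻¹' {η} ⊆ C := by
    obtain ⟨c, hcC, hcη⟩ := hCη
    obtain ⟨ξ, hξ⟩ := QuasiSober.sober hC.1 C.isClosed
    have hξη : f₀ ξ = η := hmax _ (by
      have h1 := (hξ.specializes hcC).map f₀.continuous
      rwa [show f₀ c = η from hcη] at h1)
    have hsub : (C : Set X₀) ⊆ closure (f₀.base ⁻¹' {η}) := by
      rw [← hξ.def]
      exact closure_mono (Set.singleton_subset_iff.2 hξη)
    exact subset_closure.trans (hC.2 hirr.closure hsub)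
  haveI : Surjective j := by
    obtain ⟨a, ha⟩ := hirr.nonempty
    obtain ⟨z, hz₁, hz₂⟩ := Scheme.Pullback.exists_preimage_pullback (f := f₀) (g := g) a (genericPoint Y)
      ((show f₀ a = η from ha).trans hge.symm)
    let ζ := genericPoint ↥(pullback f₀ g)
    have hζY : pullback.snd f₀ g ζ = genericPoint Y := hmax _ (by
      rw [← hz₂]
      exact ((genericPoint_spec ↥(pullback f₀ g)).specializes trivial).map (pullback.snd f₀ g).continuous)
    have hζC : pullback.fst f₀ g ζ ∈ (C : Set X₀) := hfib (by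
      show f₀ (pullback.fst f₀ g ζ) = η
      rw [← Scheme.Hom.comp_apply, pullback.condition, Scheme.Hom.comp_apply, hζY, hge])
    have hζ : ζ ∈ Set.range j := by
      rw [Scheme.Pullback.range_map, Scheme.IdealSheafData.range_subschemeι,
        Scheme.IdealSheafData.coe_support_vanishingIdeal]
      exact ⟨hζC, ⟨_, rfl⟩⟩
    refine ⟨fun w => ?_⟩
    exact ((genericPoint_spec ↥(pullback f₀ g)).specializes trivial : ζ ⤳ w).mem_closed j.isClosedEmbedding.isClosed_range hζ
  exact isIso_of_isClosedImmersion_of_surjective j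

end Groth.Agent.S4973
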