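import Groth.Statements.S4975
import Groth.Agent.OpenDim.SectionConst
import Groth.Agent.GenIrredLib.SectionLocal
-- import your own Groth.Agent.* helpers here

set_option autoImplicit false
open CategoryTheory AlgebraicGeometry
universe u v w
open EGA43

namespace Groth.Agent.S4975

/-- Let f : X ⟶ Y be a morphism locally of finite type with Y locally Noetherian, g : Y ⟶ X a section of
f, X_y^0 the connected component of f⁻¹(y) containing g y, and X^0 ⊆ X their union. Suppose every
X_y^0 is geometrically integral over κ(y) (its preimage in X_y ⊗ K is irreducible and has reduced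
local rings, for every field extension K of κ(y)). Then y ↦ dim X_y^0 is locally constant on Y if
and only if f is universally open at every point of X^0; and when this holds, X^0 is open in X. (The
published statement also lists, as a further equivalent condition, flatness of the base change of f
to the reduced closed subscheme Y_red at the points of X^0; that condition is not stated here.) -/
theorem result {X Y : Scheme.{u}}
    [IsLocallyNoetherian Y] (f : X ⟶ Y) [LocallyOfFiniteType f] (g : Y ⟶ X) (hg : g ≫ f = 𝟙 Y)
    (hint : ∀ y : Y, (∀ (K : Type u) [Field K] [Algebra (IsLocalRing.ResidueField (Y.presheaf.stalk y)) K],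
        IsIrreducible ((FBase.bcπ (f.fiberToSpecResidueField y) K ≫ f.fiberι y).base ⁻¹' connectedComponentIn (f.base ⁻¹' {y}) (g.base y)) ∧
        ∀ x' : ↥(FBase.bc (f.fiberToSpecResidueField y) K),
          (FBase.bcπ (f.fiberToSpecResidueField y) K ≫ f.fiberι y).base x' ∈ connectedComponentIn (f.base ⁻¹' {y}) (g.base y) →
          _root_.IsReduced ((FBase.bc (f.fiberToSpecResidueField y) K).presheaf.stalk x'))) :
    (IsLocallyConstant (fun y : Y => topologicalKrullDim ↥(connectedComponentIn (f.base ⁻¹' {y}) (g.base y))) ↔ ∀ x ∈ MoreMor.sectionComponents f g, EGA43.IsUnivOpenAt f x) ∧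
      (IsLocallyConstant (fun y : Y => topologicalKrullDim ↥(connectedComponentIn (f.base ⁻¹' {y}) (g.base y))) → IsOpen (MoreMor.sectionComponents f g)) := by
  have hgirr := fun (y : Y) (K : Type u) [Field K]
    [Algebra (IsLocalRing.ResidueField (Y.presheaf.stalk y)) K] => (hint y K).1
  have hirr := fun y => OpenDim.isIrreducible_of_geom f (hgirr y)
  have hgr : ∀ (y : Y) (w : X), w ∈ connectedComponentIn (f.base ⁻¹' {y}) (g.base y) →
      FBase.IsGeomReducedAt (f.fiberToSpecResidueField (f.base w)) (f.asFiber w) := by
    intro y w hw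
    obtain rfl : f.base w = y := connectedComponentIn_subset (f.base ⁻¹' {y}) _ hw
    intro K _ _ x' hx'
    refine (hint (f.base w) K).2 x' ?_
    rw [Scheme.Hom.comp_apply, hx', f.fiberι_asFiber]
    exact hw
  have hconst : IsLocallyConstant
      (fun y : Y => topologicalKrullDim ↥(connectedComponentIn (f.base ⁻¹' {y}) (g.base y))) →
      ∀ x ∈ MoreMor.sectionComponents f g, EGA43.IsUnivOpenAt f x := by
    intro hd x hx
    refine OpenDim.univOpenAt_comp_of_const f g hg (f.base x) (hgirr _) (fun y' hy' => ?_) hx
    have h := mem_of_mem_nhds (hy'.nhds_le_nhds (((hd.isOpen_fiber _).mem_nhds rfl) :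
      {z | topologicalKrullDim ↥(connectedComponentIn (f.base ⁻¹' {z}) (g.base z)) =
        topologicalKrullDim ↥(connectedComponentIn (f.base ⁻¹' {f.base x}) (g.base (f.base x)))} ∈ nhds (f.base x)))
    rw [Set.mem_ofPred_eq, OpenDim.dim_comp_eq_fibreDimAt f g hg _ (hirr _),
      OpenDim.dim_comp_eq_fibreDimAt f g hg _ (hirr _)] at h
    exact h.ge
  have hcomp : ∀ (y : Y) (w : X), w ∈ connectedComponentIn (f.base ⁻¹' {y}) (g.base y) →
      w ∈ MoreMor.sectionComponents f g := fun y w hw => by
    show w ∈ connectedComponentIn (f.base ⁻¹' {f.base w}) (g.base (f.base w))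
    rw [show f.base w = y from connectedComponentIn_subset (f.base ⁻¹' {y}) _ hw]
    exact hw
  refine ⟨⟨hconst, fun hop => ?_⟩, fun hd => isOpen_iff_mem_nhds.2 fun x hx => mem_interior_iff_mem_nhds.1 ?_⟩
  · rw [IsLocallyConstant.iff_eventually_eq]
    intro y
    obtain ⟨V, hV, hVc⟩ := OpenDim.exists_nhds_const f g hg hirr y fun η _ hηy =>
      OpenDim.dim_eq_of_generization f g hg hηy (hgirr y) (fun w hw => hop w (hcomp y w hw))
        (hgr y _ (mem_connectedComponentIn (OpenDim.section_apply f hg y)))
    exact Filter.eventually_of_mem hV hVc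
  · exact GenIrredLib.subset_interior_sectionComponents f g hg (f.base x)
      (fun w hw => ⟨hconst hd w (hcomp _ w hw), hgr _ w hw⟩) hx

end Groth.Agent.S4975
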