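import Groth.Statements.S4980
import Groth.Agent.LenSpecLib.Fibre
-- import your own Groth.Agent.* helpers here

set_option autoImplicit false
open CategoryTheory AlgebraicGeometry
universe u v w
open EGA43

namespace Groth.Agent.S4980

open CategoryTheory AlgebraicGeometry Pointwise IsLocalRing in
/-- A minimal point of the support reduced by a regular element is associated to the reduction. -/
theorem ass_of_min {R : Type u} [CommRing R] [IsNoetherianRing R] [IsLocalRing R] (N : Type u) [AddCommGroup N]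
    [Module R N] [Module.Finite R N] [Nontrivial N] (x : R) (hxm : x ∈ maximalIdeal R)
    (hmin : ∀ q : PrimeSpectrum R, q ∈ Module.support R N → x ∈ q.asIdeal → q.asIdeal = maximalIdeal R) :
    maximalIdeal R ∈ associatedPrimes R (N ⧸ x • (⊤ : Submodule R N)) := by
  haveI : Nontrivial (N ⧸ x • (⊤ : Submodule R N)) := by
    rw [Submodule.Quotient.nontrivial_iff]
    intro h
    have := Submodule.top_ne_ideal_smul_of_le_jacobson_annihilator (M := N) (I := Ideal.span {x})
      ((Ideal.span_singleton_le_iff_mem _).2 ((maximalIdeal_le_jacobson _) hxm))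
    rw [Submodule.ideal_span_singleton_smul, h] at this
    exact this rfl
  obtain ⟨P, hP⟩ := associatedPrimes.nonempty R (N ⧸ x • (⊤ : Submodule R N))
  have hs : (⟨P, hP.isPrime⟩ : PrimeSpectrum R) ∈ Module.support R (N ⧸ x • (⊤ : Submodule R N)) :=
    Module.mem_support_iff_of_finite.2 (fun r hr => hP.annihilator_le (Submodule.mem_annihilator.2 fun v _ => Module.mem_annihilator.1 hr v))
  have he : Module.support R (N ⧸ x • (⊤ : Submodule R N)) =
      Module.support R N ∩ PrimeSpectrum.zeroLocus (Ideal.span {x} : Set R) := by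
    rw [← Submodule.ideal_span_singleton_smul, Module.support_quotient]
  rw [he] at hs
  have := hmin _ hs.1 (hs.2 (Ideal.mem_span_singleton_self x))
  exact this ▸ hP

open CategoryTheory AlgebraicGeometry Pointwise IsLocalRing in
/-- Let A be a discrete valuation ring, Y = Spec A with closed point y and generic point y', f : X ⟶ Y a
proper morphism and F a coherent O_X-module which is f-flat; write F_y, F_{y'} for the restrictions
of F to the two fibres and suppose F_y has no embedded associated point. Then the sum, over the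
maximal points z' of Supp(F_{y'}), of the lengths of the stalks (F_{y'})_{z'} is at most the sum,
over the maximal points z of Supp(F_y), of the lengths of the stalks (F_y)_z (lengths over the local
rings of the fibres). -/
theorem result {A : Type u} [CommRing A] [IsDomain A]
    [IsDiscreteValuationRing A] {X : Scheme.{u}} (f : X ⟶ Spec (CommRingCat.of A)) [IsProper f] (F : X.Modules)
    (hF : Coh.IsCoh F) (hflat : FlatMod.IsFlatOver f F)
    (hemb : AssSch.NoEmbedded ((Scheme.Modules.pullback (f.fiberι (IsLocalRing.closedPoint A))).obj F)) :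
    letI y : ↥(Spec (CommRingCat.of A)) := IsLocalRing.closedPoint A
    letI y' : ↥(Spec (CommRingCat.of A)) := genericPoint (Spec (CommRingCat.of A))
    ∑ᶠ z' : {v : ↥(f.fiber y') // Nontrivial (((Scheme.Modules.pullback (f.fiberι y')).obj F).presheaf.stalk v) ∧
        ∀ w : ↥(f.fiber y'), Nontrivial (((Scheme.Modules.pullback (f.fiberι y')).obj F).presheaf.stalk w) → v ∈ closure {w} → w = v},
        Module.length ((f.fiber y').presheaf.stalk z'.1) (((Scheme.Modules.pullback (f.fiberι y')).obj F).presheaf.stalk z'.1) ≤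
      ∑ᶠ z : {v : ↥(f.fiber y) // Nontrivial (((Scheme.Modules.pullback (f.fiberι y)).obj F).presheaf.stalk v) ∧
        ∀ w : ↥(f.fiber y), Nontrivial (((Scheme.Modules.pullback (f.fiberι y)).obj F).presheaf.stalk w) → v ∈ closure {w} → w = v},
        Module.length ((f.fiber y).presheaf.stalk z.1) (((Scheme.Modules.pullback (f.fiberι y)).obj F).presheaf.stalk z.1) := by
  classical
  let y : ↥(Spec (CommRingCat.of A)) := IsLocalRing.closedPoint A
  let y' : ↥(Spec (CommRingCat.of A)) := genericPoint (Spec (CommRingCat.of A))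
  haveI := hF.1
  haveI : IsLocallyNoetherian X := LocallyOfFiniteType.isLocallyNoetherian f
  haveI : CompactSpace X := QuasiCompact.compactSpace_of_compactSpace f
  obtain ⟨ϖ, hϖ⟩ := IsDiscreteValuationRing.exists_irreducible A
  have hfin : ∀ (W : X.affineOpens), Module.Finite Γ(X, W.1) Γ(F, W.1) := fun W =>
    QCohLib.finite_sections F hF.2 W.2
  have hnoeth : ∀ (W : X.affineOpens), IsNoetherianRing Γ(X, W.1) := fun W => QCohLib.isNoetherianRing_section W.2
  have hfy : ∀ z, f (f.fiberι y z) = y := fun z => by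
    have h : f.fiberι y z ∈ f ⁻¹' {y} := by rw [← f.range_fiberι y]; exact ⟨z, rfl⟩
    exact h
  have hfy' : ∀ z, f (f.fiberι y' z) = y' := fun z => by
    have h : f.fiberι y' z ∈ f ⁻¹' {y'} := by rw [← f.range_fiberι y']; exact ⟨z, rfl⟩
    exact h
  have hgen : ∀ {x₁ x₂ : X}, x₁ ⤳ x₂ → f x₂ = y' → f x₁ = y' := by
    intro x₁ x₂ h h2
    rcases LenSpecLib.eq_closed_or_generic (f x₁) with e | e
    · exfalso
      have hs : f x₁ ⤳ f x₂ := h.map f.continuous
      rw [e, h2] at hs
      have hc : IsClosed ({(closedPoint A : ↥(Spec (CommRingCat.of A)))} : Set _) := (PrimeSpectrum.isClosed_singleton_iff_isMaximal (IsLocalRing.closedPoint A)).2 (IsLocalRing.maximalIdeal.isMaximal A)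
      exact LenSpecLib.closed_ne_generic (hs.mem_closed hc rfl).symm
    · exact e
  have hnt : ∀ {x : X} (W : X.affineOpens) (hx : x ∈ W.1), Module.Finite (X.presheaf.stalk x) (F.presheaf.stalk x) := by
    intro x W hx
    haveI := hfin W
    letI := Module.compHom (F.presheaf.stalk x) (X.presheaf.germ W.1 x hx).hom
    letI : Algebra Γ(X, W.1) (X.presheaf.stalk x) := TopCat.Presheaf.algebra_section_stalk X.presheaf ⟨x, hx⟩
    haveI : IsScalarTower Γ(X, W.1) (X.presheaf.stalk x) (F.presheaf.stalk x) := .of_algebraMap_smul fun _ _ => rfl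
    haveI := FlatLocus.isLocalizedModule_germL F W.2 x hx
    haveI := W.2.isLocalization_stalk ⟨x, hx⟩
    exact Module.Finite.of_isLocalizedModule (W.2.primeIdealOf ⟨x, hx⟩).asIdeal.primeCompl (FlatLocus.germL F W.1 x hx)
  have hchart : ∀ x : X, ∃ W : X.affineOpens, x ∈ W.1 := fun x => by
    obtain ⟨_, ⟨W, hW, rfl⟩, hx, -⟩ :=
      X.isBasis_affineOpens.exists_subset_of_mem_open (Set.mem_univ x) isOpen_univ
    exact ⟨⟨W, hW⟩, hx⟩
  choose Wx hWx using hchart
  let t : ∀ W : X.affineOpens, Γ(X, W.1) := fun W => LenSpecLib.unif f ϖ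
  have htmem : ∀ (W : X.affineOpens) (x : X) (hx : x ∈ W.1), t W ∈ AssLib.pr W.2 hx ↔ f x = y := by
    intro W x hx
    have h := LenSpecLib.mem_basicOpen_unif f hϖ hx
    have h2 := SetLike.ext_iff.mp (W.2.fromSpec_preimage_basicOpen (t W)) (W.2.primeIdealOf ⟨x, hx⟩)
    have h3 : W.2.fromSpec (W.2.primeIdealOf ⟨x, hx⟩) ∈ X.basicOpen (t W) ↔ t W ∉ AssLib.pr W.2 hx := h2
    rw [W.2.fromSpec_primeIdealOf] at h3
    exact not_iff_not.1 ((h3.symm.trans h : (t W ∉ AssLib.pr W.2 hx ↔ f x ≠ y)))
  -- fibre stalks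
  have hclosed : ∀ (z : f.fiber y) (W : X.affineOpens) (hz : f.fiberι y z ∈ W.1),
      Module.length ((f.fiber y).presheaf.stalk z) (((Scheme.Modules.pullback (f.fiberι y)).obj F).presheaf.stalk z) =
        Module.length (X.presheaf.stalk (f.fiberι y z)) (F.presheaf.stalk (f.fiberι y z) ⧸
          (X.presheaf.germ W.1 _ hz).hom (t W) • (⊤ : Submodule (X.presheaf.stalk (f.fiberι y z)) (F.presheaf.stalk (f.fiberι y z)))) ∧
      (maximalIdeal (X.presheaf.stalk (f.fiberι y z)) ∈ associatedPrimes (X.presheaf.stalk (f.fiberι y z))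
          (F.presheaf.stalk (f.fiberι y z) ⧸
            (X.presheaf.germ W.1 _ hz).hom (t W) • (⊤ : Submodule (X.presheaf.stalk (f.fiberι y z)) (F.presheaf.stalk (f.fiberι y z)))) →
        z ∈ AssSch.Ass ((Scheme.Modules.pullback (f.fiberι y)).obj F)) := fun z W hz =>
    LenSpecLib.fibre_stalk f F y z _ (LenSpecLib.map_maximal_closed f hϖ hz (hfy z))
  have hgeneric : ∀ z : f.fiber y',
      Module.length ((f.fiber y').presheaf.stalk z) (((Scheme.Modules.pullback (f.fiberι y')).obj F).presheaf.stalk z) =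
        Module.length (X.presheaf.stalk (f.fiberι y' z)) (F.presheaf.stalk (f.fiberι y' z)) := by
    intro z
    rw [(LenSpecLib.fibre_stalk f F y' z 0 (LenSpecLib.map_maximal_generic f _ (hfy' z))).1]
    exact (Submodule.quotEquivOfEqBot _ (eq_bot_iff.2 (by rintro _ ⟨w, -, rfl⟩; simp))).length_eq
  have hsupp' : ∀ z : f.fiber y', Nontrivial (((Scheme.Modules.pullback (f.fiberι y')).obj F).presheaf.stalk z) ↔
      Nontrivial (F.presheaf.stalk (f.fiberι y' z)) := fun z => by
    rw [← Module.length_pos_iff (R := (f.fiber y').presheaf.stalk z), hgeneric z, Module.length_pos_iff]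
  have hsupp : ∀ z : f.fiber y, Nontrivial (((Scheme.Modules.pullback (f.fiberι y)).obj F).presheaf.stalk z) ↔
      Nontrivial (F.presheaf.stalk (f.fiberι y z)) := fun z => by
    obtain ⟨W, hz⟩ : ∃ W : X.affineOpens, f.fiberι y z ∈ W.1 := ⟨_, hWx _⟩
    rw [← Module.length_pos_iff (R := (f.fiber y).presheaf.stalk z), (hclosed z W hz).1, Module.length_pos_iff,
      Submodule.Quotient.nontrivial_iff]
    refine ⟨fun h => ?_, fun h => ?_⟩
    · by_contra hc
      rw [not_nontrivial_iff_subsingleton] at hc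
      exact h (Subsingleton.elim _ _)
    · haveI := hnt W hz
      have hm : (X.presheaf.germ W.1 _ hz).hom (t W) ∈ maximalIdeal (X.presheaf.stalk (f.fiberι y z)) := by
        refine Ideal.mem_comap.1 (?_ : t W ∈ (maximalIdeal (X.presheaf.stalk (f.fiberι y z))).comap (X.presheaf.germ W.1 _ hz).hom)
        rw [AssLib.under_maximalIdeal W.2 hz]
        exact (htmem W _ hz).2 (hfy z)
      have h2 := Submodule.top_ne_ideal_smul_of_le_jacobson_annihilator (M := F.presheaf.stalk (f.fiberι y z))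
        ((Ideal.span_singleton_le_iff_mem _).2 ((maximalIdeal_le_jacobson _) hm))
      rw [Submodule.ideal_span_singleton_smul] at h2
      exact h2.symm
  -- maximality read in `X`
  have hmax' : ∀ v : f.fiber y', (∀ w : f.fiber y', Nontrivial (((Scheme.Modules.pullback (f.fiberι y')).obj F).presheaf.stalk w) →
      v ∈ closure {w} → w = v) → ∀ x : X, Nontrivial (F.presheaf.stalk x) → x ⤳ f.fiberι y' v → x = f.fiberι y' v := by
    intro v hv x hx hsp
    have hfx := hgen hsp (hfy' v)
    obtain ⟨w, rfl⟩ : x ∈ Set.range (f.fiberι y') := by rw [f.range_fiberι]; exact hfx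
    rw [hv w ((hsupp' w).2 hx) (specializes_iff_mem_closure.1 ((f.fiberι y').isEmbedding.isInducing.specializes_iff.1 hsp))]
  have hmax : ∀ v : f.fiber y, (∀ w : f.fiber y, Nontrivial (((Scheme.Modules.pullback (f.fiberι y)).obj F).presheaf.stalk w) →
      v ∈ closure {w} → w = v) → ∀ x : X, Nontrivial (F.presheaf.stalk x) → f x = y → x ⤳ f.fiberι y v → x = f.fiberι y v := by
    intro v hv x hx hfx hsp
    obtain ⟨w, rfl⟩ : x ∈ Set.range (f.fiberι y) := by rw [f.range_fiberι]; exact hfx
    rw [hv w ((hsupp w).2 hx) (specializes_iff_mem_closure.1 ((f.fiberι y).isEmbedding.isInducing.specializes_iff.1 hsp))]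
  -- finiteness
  let G : Set X := {x | Nontrivial (F.presheaf.stalk x) ∧
    ((f x = y' ∧ ∀ x₁, Nontrivial (F.presheaf.stalk x₁) → x₁ ⤳ x → x₁ = x) ∨
     (f x = y ∧ ∀ x₁, Nontrivial (F.presheaf.stalk x₁) → f x₁ = y → x₁ ⤳ x → x₁ = x))}
  have hGfin : G.Finite := by
    obtain ⟨s, hs⟩ := isCompact_univ.elim_finite_subcover (fun W : X.affineOpens => (W.1 : Set X))
      (fun W => W.1.isOpen) (fun x _ => Set.mem_iUnion.2 ⟨Wx x, hWx x⟩)
    refine (s.finite_toSet.biUnion (t := fun W => G ∩ (W.1 : Set X)) fun W _ => ?_).subset fun x hx => ?_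
    · haveI := hfin W
      haveI := hnoeth W
      let ann := Module.annihilator Γ(X, W.1) Γ(F, W.1)
      refine (((ann.finite_minimalPrimes_of_isNoetherianRing.union
        (ann ⊔ Ideal.span {t W}).finite_minimalPrimes_of_isNoetherianRing).preimage
          (f := fun q : PrimeSpectrum Γ(X, W.1) => q.asIdeal) (fun a _ b _ h => PrimeSpectrum.ext h)).image
          (AssLib.pt W.2)).subset ?_
      rintro x ⟨⟨hx, hx'⟩, hxW⟩
      refine ⟨W.2.primeIdealOf ⟨x, hxW⟩, ?_, AssLib.pt_primeIdealOf W.2 hxW⟩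
      have hsup : ∀ q : PrimeSpectrum Γ(X, W.1), ann ≤ q.asIdeal → Nontrivial (F.presheaf.stalk (AssLib.pt W.2 q)) := by
        intro q hq
        rw [AssLib.nontrivial_stalk_iff W.2 (AssLib.pt_mem W.2 q), AssLib.primeIdealOf_pt]
        exact Module.mem_support_iff_of_finite.2 hq
      have hann : ann ≤ AssLib.pr W.2 hxW :=
        Module.mem_support_iff_of_finite.1 ((AssLib.nontrivial_stalk_iff W.2 hxW).1 hx)
      have hle : ∀ q : PrimeSpectrum Γ(X, W.1), q.asIdeal ≤ AssLib.pr W.2 hxW → AssLib.pt W.2 q ⤳ x := fun q hq => by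
        rw [AssLib.specializes_iff W.2 hxW (AssLib.pt_mem W.2 q), AssLib.pr_pt]; exact hq
      have hback : ∀ q : PrimeSpectrum Γ(X, W.1), AssLib.pt W.2 q = x → AssLib.pr W.2 hxW ≤ q.asIdeal := fun q hq => by
        subst hq
        exact (AssLib.pr_pt W.2 q).le
      rcases hx' with ⟨-, hm⟩ | ⟨hfx, hm⟩
      · exact Or.inl ⟨⟨(W.2.primeIdealOf ⟨x, hxW⟩).2, hann⟩, fun J hJ hJle =>
          hback ⟨J, hJ.1⟩ (hm _ (hsup ⟨J, hJ.1⟩ hJ.2) (hle ⟨J, hJ.1⟩ hJle))⟩
      · refine Or.inr ⟨⟨(W.2.primeIdealOf ⟨x, hxW⟩).2, sup_le hann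
          ((Ideal.span_singleton_le_iff_mem _).2 ((htmem W x hxW).2 hfx))⟩, fun J hJ hJle =>
          hback ⟨J, hJ.1⟩ (hm _ (hsup ⟨J, hJ.1⟩ (le_sup_left.trans hJ.2)) ?_ (hle ⟨J, hJ.1⟩ hJle))⟩
        rw [← htmem W _ (AssLib.pt_mem W.2 _), AssLib.pr_pt]
        exact hJ.2 (le_sup_right (a := ann) (Ideal.mem_span_singleton_self _))
    · obtain ⟨W, hW, hxW⟩ := Set.mem_iUnion₂.1 (hs (Set.mem_univ x))
      exact Set.mem_biUnion hW ⟨hx, hxW⟩
  let I := {v : ↥(f.fiber y') // Nontrivial (((Scheme.Modules.pullback (f.fiberι y')).obj F).presheaf.stalk v) ∧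
        ∀ w : ↥(f.fiber y'), Nontrivial (((Scheme.Modules.pullback (f.fiberι y')).obj F).presheaf.stalk w) → v ∈ closure {w} → w = v}
  let J := {v : ↥(f.fiber y) // Nontrivial (((Scheme.Modules.pullback (f.fiberι y)).obj F).presheaf.stalk v) ∧
        ∀ w : ↥(f.fiber y), Nontrivial (((Scheme.Modules.pullback (f.fiberι y)).obj F).presheaf.stalk w) → v ∈ closure {w} → w = v}
  haveI := hGfin.to_subtype
  haveI : Finite I := Finite.of_injective (β := G) (fun a => ⟨f.fiberι y' a.1,
    (hsupp' a.1).1 a.2.1, Or.inl ⟨hfy' a.1, hmax' a.1 a.2.2⟩⟩)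
    fun a b h => Subtype.ext ((f.fiberι y').isEmbedding.injective (congrArg Subtype.val h))
  haveI : Finite J := Finite.of_injective (β := G) (fun a => ⟨f.fiberι y a.1,
    (hsupp a.1).1 a.2.1, Or.inr ⟨hfy a.1, hmax a.1 a.2.2⟩⟩)
    fun a b h => Subtype.ext ((f.fiberι y).isEmbedding.injective (congrArg Subtype.val h))
  -- a maximal point of the special fibre under each one of the generic fibre
  have hφ : ∀ a : I, ∃ b : J, f.fiberι y' a.1 ⤳ f.fiberι y b.1 := by
    intro a
    obtain ⟨w, hw, hfw⟩ : ∃ w ∈ closure ({f.fiberι y' a.1} : Set X), f w = y := by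
      have hc : IsClosed (f '' closure ({f.fiberι y' a.1} : Set X)) := f.isClosedMap _ isClosed_closure
      have h : y' ⤳ y := by
        show genericPoint (Spec (CommRingCat.of A)) ⤳ y
        exact (genericPoint_spec (Spec (CommRingCat.of A))).specializes trivial
      exact h.mem_closed hc ⟨_, subset_closure rfl, hfy' a.1⟩
    have hsp : f.fiberι y' a.1 ⤳ w := specializes_iff_mem_closure.2 hw
    let W := Wx w
    have hwW : w ∈ W.1 := hWx w
    have haW : f.fiberι y' a.1 ∈ W.1 := hsp.mem_open W.1.isOpen hwW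
    haveI := hfin W
    haveI := hnoeth W
    let P := AssLib.pr W.2 haW
    obtain ⟨Q, hQ, hQw⟩ := Ideal.exists_minimalPrimes_le (show P ⊔ Ideal.span {t W} ≤ AssLib.pr W.2 hwW from
      sup_le ((AssLib.specializes_iff W.2 hwW haW).1 hsp) ((Ideal.span_singleton_le_iff_mem _).2 ((htmem W w hwW).2 hfw)))
    let q : PrimeSpectrum Γ(X, W.1) := ⟨Q, hQ.1.1⟩
    let x := AssLib.pt W.2 q
    have hxW : x ∈ W.1 := AssLib.pt_mem W.2 q
    have hprx : AssLib.pr W.2 hxW = Q := AssLib.pr_pt W.2 q
    have hPQ : P ≤ Q := le_sup_left.trans hQ.1.2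
    have htQ : t W ∈ Q := hQ.1.2 (le_sup_right (a := P) (Ideal.mem_span_singleton_self _))
    have hax : f.fiberι y' a.1 ⤳ x := (AssLib.specializes_iff W.2 hxW haW).2 (hprx ▸ hPQ)
    have hfx : f x = y := (htmem W x hxW).1 (hprx ▸ htQ)
    obtain ⟨z, hz⟩ : x ∈ Set.range (f.fiberι y) := by rw [f.range_fiberι]; exact hfx
    have hzW : f.fiberι y z ∈ W.1 := hz ▸ hxW
    have hprz : AssLib.pr W.2 hzW = Q := by
      have key : ∀ x' (h : x' ∈ W.1), x' = x → AssLib.pr W.2 h = Q := by intro x' h e; subst e; exact hprx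
      exact key _ hzW hz
    have hann : Module.annihilator Γ(X, W.1) Γ(F, W.1) ≤ P :=
      Module.mem_support_iff_of_finite.1 ((AssLib.nontrivial_stalk_iff W.2 haW).1 ((hsupp' a.1).1 a.2.1))
    have hPass : P ∈ associatedPrimes Γ(X, W.1) Γ(F, W.1) := by
      refine Module.associatedPrimes.minimalPrimes_annihilator_subset_associatedPrimes _ _
        ⟨⟨(W.2.primeIdealOf ⟨_, haW⟩).2, hann⟩, fun K hK hKP => ?_⟩
      have hs' : Nontrivial (F.presheaf.stalk (AssLib.pt W.2 ⟨K, hK.1⟩)) := by
        rw [AssLib.nontrivial_stalk_iff W.2 (AssLib.pt_mem W.2 _), AssLib.primeIdealOf_pt]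
        exact Module.mem_support_iff_of_finite.2 hK.2
      have := hmax' a.1 a.2.2 _ hs' ((AssLib.specializes_iff W.2 haW (AssLib.pt_mem W.2 _)).2 (by rw [AssLib.pr_pt]; exact hKP))
      have key : ∀ x' (h : x' ∈ W.1), x' = AssLib.pt W.2 ⟨K, hK.1⟩ → AssLib.pr W.2 h ≤ K := by
        intro x' h e; subst e; exact (AssLib.pr_pt W.2 ⟨K, hK.1⟩).le
      exact key _ haW this.symm
    have hzass : z ∈ AssSch.Ass ((Scheme.Modules.pullback (f.fiberι y)).obj F) := by
      refine (hclosed z W hzW).2 ?_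
      letI := Module.compHom (F.presheaf.stalk (f.fiberι y z)) (X.presheaf.germ W.1 _ hzW).hom
      letI : Algebra Γ(X, W.1) (X.presheaf.stalk (f.fiberι y z)) :=
        TopCat.Presheaf.algebra_section_stalk X.presheaf ⟨_, hzW⟩
      haveI : IsScalarTower Γ(X, W.1) (X.presheaf.stalk (f.fiberι y z)) (F.presheaf.stalk (f.fiberι y z)) :=
        .of_algebraMap_smul fun _ _ => rfl
      haveI := FlatLocus.isLocalizedModule_germL F W.2 _ hzW
      haveI := W.2.isLocalization_stalk ⟨_, hzW⟩
      haveI := hnt W hzW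
      let O := X.presheaf.stalk (f.fiberι y z)
      have hd : Disjoint ((AssLib.pr W.2 hzW).primeCompl : Set Γ(X, W.1)) (P : Set Γ(X, W.1)) :=
        Set.disjoint_left.2 fun r hr hrP => hr (hprz ▸ hPQ hrP)
      have hcP : (P.map (algebraMap Γ(X, W.1) O)).comap (algebraMap Γ(X, W.1) O) = P :=
        IsLocalization.comap_map_of_isPrime_disjoint (AssLib.pr W.2 hzW).primeCompl O
          (W.2.primeIdealOf ⟨_, haW⟩).2 hd
      haveI : (P.map (algebraMap Γ(X, W.1) O)).IsPrime :=
        IsLocalization.isPrime_of_isPrime_disjoint (AssLib.pr W.2 hzW).primeCompl O _ (W.2.primeIdealOf ⟨_, haW⟩).2 hd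
      refine LenSpecLib.mem_associatedPrimes_quotient _ _ ?_ (LenSpecLib.regular_unif f hϖ F hflat hzW)
        (P.map (algebraMap Γ(X, W.1) O))
        (Module.associatedPrimes.mem_associatedPrimes_of_comap_mem_associatedPrimes_of_isLocalizedModule
          (AssLib.pr W.2 hzW).primeCompl (FlatLocus.germL F W.1 _ hzW) _ (hcP.symm ▸ hPass)) ?_
      · refine Ideal.mem_comap.1 (?_ : t W ∈ (maximalIdeal O).comap (X.presheaf.germ W.1 _ hzW).hom)
        rw [AssLib.under_maximalIdeal W.2 hzW, hprz]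
        exact htQ
      · intro p hp hPp htp
        have h1 : P ⊔ Ideal.span {t W} ≤ p.comap (algebraMap Γ(X, W.1) O) :=
          sup_le (hcP ▸ Ideal.comap_mono hPp) ((Ideal.span_singleton_le_iff_mem _).2 htp)
        have h2 : p.comap (algebraMap Γ(X, W.1) O) ≤ Q := by
          intro r hr
          by_contra hrQ
          exact hp.ne_top (Ideal.eq_top_of_isUnit_mem _ hr
            (IsLocalization.map_units O (⟨r, hprz.symm ▸ hrQ⟩ : (AssLib.pr W.2 hzW).primeCompl)))
        have h3 : p.comap (algebraMap Γ(X, W.1) O) = Q := le_antisymm h2 (hQ.2 ⟨hp.comap _, h1⟩ h2)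
        rw [← IsLocalization.map_comap (AssLib.pr W.2 hzW).primeCompl O p]
        show Ideal.map (algebraMap Γ(X, W.1) O) (p.comap (algebraMap Γ(X, W.1) O)) = _
        rw [h3, ← hprz]
        exact IsLocalization.AtPrime.map_eq_maximalIdeal (AssLib.pr W.2 hzW) O
    have hQann : Module.annihilator Γ(X, W.1) Γ(F, W.1) ≤ Q := hann.trans hPQ
    refine ⟨⟨z, (hsupp z).2 ?_, fun v hv hvz => ?_⟩, by rw [hz]; exact hax⟩
    · rw [AssLib.nontrivial_stalk_iff W.2 hzW]
      refine Module.mem_support_iff_of_finite.2 ?_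
      show _ ≤ AssLib.pr W.2 hzW
      rw [hprz]; exact hQann
    · have hvz' : f.fiberι y v ⤳ f.fiberι y z :=
        (f.fiberι y).isEmbedding.isInducing.specializes_iff.2 (specializes_iff_mem_closure.2 hvz)
      have hvW : f.fiberι y v ∈ W.1 := hvz'.mem_open W.1.isOpen hzW
      obtain ⟨Q₀, hQ₀, hQ₀v⟩ := Ideal.exists_minimalPrimes_le
        (show Module.annihilator Γ(X, W.1) Γ(F, W.1) ⊔ Ideal.span {t W} ≤ AssLib.pr W.2 hvW from
        sup_le (Module.mem_support_iff_of_finite.1 ((AssLib.nontrivial_stalk_iff W.2 hvW).1 ((hsupp v).1 hv)))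
          ((Ideal.span_singleton_le_iff_mem _).2 ((htmem W _ hvW).2 (hfy v))))
      let q₀ : PrimeSpectrum Γ(X, W.1) := ⟨Q₀, hQ₀.1.1⟩
      obtain ⟨z₀, hz₀⟩ : AssLib.pt W.2 q₀ ∈ Set.range (f.fiberι y) := by
        rw [f.range_fiberι, Set.mem_preimage, Set.mem_singleton_iff, ← htmem W _ (AssLib.pt_mem W.2 _), AssLib.pr_pt]
        exact hQ₀.1.2 (le_sup_right (a := Module.annihilator Γ(X, W.1) Γ(F, W.1)) (Ideal.mem_span_singleton_self _))
      have hz₀W : f.fiberι y z₀ ∈ W.1 := hz₀ ▸ AssLib.pt_mem W.2 q₀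
      have hprz₀ : AssLib.pr W.2 hz₀W = Q₀ := by
        have key : ∀ x' (h : x' ∈ W.1), x' = AssLib.pt W.2 q₀ → AssLib.pr W.2 h = Q₀ := by
          intro x' h e; subst e; exact AssLib.pr_pt W.2 q₀
        exact key _ hz₀W hz₀
      have hsp₀ : f.fiberι y z₀ ⤳ f.fiberι y v := (AssLib.specializes_iff W.2 hvW hz₀W).2 (hprz₀ ▸ hQ₀v)
      have hz₀ass : z₀ ∈ AssSch.Ass ((Scheme.Modules.pullback (f.fiberι y)).obj F) := by
        refine (hclosed z₀ W hz₀W).2 ?_
        letI := Module.compHom (F.presheaf.stalk (f.fiberι y z₀)) (X.presheaf.germ W.1 _ hz₀W).hom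
        letI : Algebra Γ(X, W.1) (X.presheaf.stalk (f.fiberι y z₀)) :=
          TopCat.Presheaf.algebra_section_stalk X.presheaf ⟨_, hz₀W⟩
        haveI : IsScalarTower Γ(X, W.1) (X.presheaf.stalk (f.fiberι y z₀)) (F.presheaf.stalk (f.fiberι y z₀)) :=
          .of_algebraMap_smul fun _ _ => rfl
        haveI := FlatLocus.isLocalizedModule_germL F W.2 _ hz₀W
        haveI := W.2.isLocalization_stalk ⟨_, hz₀W⟩
        haveI := hnt W hz₀W
        let O := X.presheaf.stalk (f.fiberι y z₀)
        haveI : Nontrivial (F.presheaf.stalk (f.fiberι y z₀)) := by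
          rw [AssLib.nontrivial_stalk_iff W.2 hz₀W]
          refine Module.mem_support_iff_of_finite.2 ?_
          show _ ≤ AssLib.pr W.2 hz₀W
          rw [hprz₀]; exact le_sup_left.trans hQ₀.1.2
        refine ass_of_min _ _ ?_ fun p hp htp => ?_
        · refine Ideal.mem_comap.1 (?_ : t W ∈ (maximalIdeal O).comap (X.presheaf.germ W.1 _ hz₀W).hom)
          rw [AssLib.under_maximalIdeal W.2 hz₀W]
          exact (htmem W _ hz₀W).2 (hfy z₀)
        · have h1 : Module.annihilator Γ(X, W.1) Γ(F, W.1) ⊔ Ideal.span {t W} ≤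
              p.asIdeal.comap (algebraMap Γ(X, W.1) O) := by
            refine sup_le (fun r hr => ?_) ((Ideal.span_singleton_le_iff_mem _).2 htp)
            refine Module.mem_support_iff_of_finite.1 hp (Module.mem_annihilator.2 fun m => ?_)
            obtain ⟨⟨m₀, s⟩, hms⟩ := IsLocalizedModule.surj (AssLib.pr W.2 hz₀W).primeCompl
              (FlatLocus.germL F W.1 _ hz₀W) m
            refine IsLocalizedModule.smul_injective (FlatLocus.germL F W.1 _ hz₀W) s ?_
            show s • (algebraMap Γ(X, W.1) O r • m) = s • 0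
            rw [smul_zero, algebraMap_smul, smul_comm, hms, ← map_smul, Module.mem_annihilator.1 hr m₀, map_zero]
          have h2 : p.asIdeal.comap (algebraMap Γ(X, W.1) O) ≤ Q₀ := by
            intro r hr
            by_contra hrQ
            exact p.2.ne_top (Ideal.eq_top_of_isUnit_mem _ hr
              (IsLocalization.map_units O (⟨r, hprz₀.symm ▸ hrQ⟩ : (AssLib.pr W.2 hz₀W).primeCompl)))
          have h3 : p.asIdeal.comap (algebraMap Γ(X, W.1) O) = Q₀ :=
            le_antisymm h2 (hQ₀.2 ⟨p.2.comap _, h1⟩ h2)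
          rw [← IsLocalization.map_comap (AssLib.pr W.2 hz₀W).primeCompl O p.asIdeal]
          show Ideal.map (algebraMap Γ(X, W.1) O) (p.asIdeal.comap (algebraMap Γ(X, W.1) O)) = _
          rw [h3, ← hprz₀]
          exact IsLocalization.AtPrime.map_eq_maximalIdeal (AssLib.pr W.2 hz₀W) O
      have h4 : z = z₀ := hemb z hzass z₀ hz₀ass
        ((f.fiberι y).isEmbedding.isInducing.specializes_iff.1 (hsp₀.trans hvz'))
      subst h4
      exact (f.fiberι y).isEmbedding.injective (hvz'.antisymm hsp₀).eq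
  choose φ hφ using hφ
  haveI : Fintype I := Fintype.ofFinite I
  haveI : Fintype J := Fintype.ofFinite J
  rw [finsum_eq_sum_of_fintype, finsum_eq_sum_of_fintype]
  rw [← Finset.sum_fiberwise (Finset.univ : Finset I) φ]
  refine Finset.sum_le_sum fun b _ => ?_
  let x := f.fiberι y b.1
  let W := Wx x
  have hxW : x ∈ W.1 := hWx x
  haveI := hfin W
  haveI := hnoeth W
  let S := Finset.univ.filter fun a => φ a = b
  have hmemW : ∀ a : S, f.fiberι y' a.1.1 ∈ W.1 := fun a => by
    have h := hφ a.1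
    rw [(Finset.mem_filter.1 a.2).2] at h
    exact h.mem_open W.1.isOpen hxW
  let ψ : S → PrimeSpectrum Γ(X, W.1) := fun a => W.2.primeIdealOf ⟨_, hmemW a⟩
  have hψi : Function.Injective ψ := fun a a' h => by
    have e1 := W.2.fromSpec_primeIdealOf ⟨_, hmemW a⟩
    have e2 := W.2.fromSpec_primeIdealOf ⟨_, hmemW a'⟩
    exact Subtype.ext (Subtype.ext ((f.fiberι y').isEmbedding.injective (e1.symm.trans ((congrArg (fun q => W.2.fromSpec q) h).trans e2))))
  let Q := W.2.primeIdealOf ⟨x, hxW⟩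
  have hloc : ∀ (x' : X) (h : x' ∈ W.1),
      Module.length (X.presheaf.stalk x') (F.presheaf.stalk x') =
        Module.length (Localization.AtPrime (AssLib.pr W.2 h)) (LocalizedModule (AssLib.pr W.2 h).primeCompl Γ(F, W.1)) ∧
      Module.length (X.presheaf.stalk x') (F.presheaf.stalk x' ⧸ (X.presheaf.germ W.1 x' h).hom (t W) •
          (⊤ : Submodule (X.presheaf.stalk x') (F.presheaf.stalk x'))) =
        Module.length (Localization.AtPrime (AssLib.pr W.2 h)) (LocalizedModule (AssLib.pr W.2 h).primeCompl Γ(F, W.1) ⧸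
          algebraMap Γ(X, W.1) (Localization.AtPrime (AssLib.pr W.2 h)) (t W) •
            (⊤ : Submodule (Localization.AtPrime (AssLib.pr W.2 h)) (LocalizedModule (AssLib.pr W.2 h).primeCompl Γ(F, W.1)))) ∧
      IsSMulRegular (LocalizedModule (AssLib.pr W.2 h).primeCompl Γ(F, W.1))
        (algebraMap Γ(X, W.1) (Localization.AtPrime (AssLib.pr W.2 h)) (t W)) := by
    intro x' h
    letI := Module.compHom (F.presheaf.stalk x') (X.presheaf.germ W.1 x' h).hom
    letI : Algebra Γ(X, W.1) (X.presheaf.stalk x') := TopCat.Presheaf.algebra_section_stalk X.presheaf ⟨x', h⟩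
    haveI : IsScalarTower Γ(X, W.1) (X.presheaf.stalk x') (F.presheaf.stalk x') := .of_algebraMap_smul fun _ _ => rfl
    haveI := FlatLocus.isLocalizedModule_germL F W.2 x' h
    haveI := W.2.isLocalization_stalk ⟨x', h⟩
    refine ⟨LenSpecLib.length_eq_of_localizations (AssLib.pr W.2 h).primeCompl (FlatLocus.germL F W.1 x' h)
        (LocalizedModule.mkLinearMap _ _),
      LenSpecLib.length_quot_eq_of_localizations (AssLib.pr W.2 h).primeCompl (FlatLocus.germL F W.1 x' h)
        (LocalizedModule.mkLinearMap _ _) (t W), fun v w hvw => ?_⟩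
    let e := IsLocalizedModule.iso (AssLib.pr W.2 h).primeCompl (FlatLocus.germL F W.1 x' h)
    apply e.injective
    refine LenSpecLib.regular_unif f hϖ F hflat h ?_
    show t W • e v = t W • e w
    rw [← map_smul, ← map_smul, ← algebraMap_smul (Localization.AtPrime (AssLib.pr W.2 h)) (t W) v,
      ← algebraMap_smul (Localization.AtPrime (AssLib.pr W.2 h)) (t W) w]
    exact congrArg e hvw
  calc ∑ a ∈ S, Module.length ((f.fiber y').presheaf.stalk a.1) (((Scheme.Modules.pullback (f.fiberι y')).obj F).presheaf.stalk a.1)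
      = ∑ a : S, Module.length (Localization.AtPrime (ψ a).asIdeal) (LocalizedModule (ψ a).asIdeal.primeCompl Γ(F, W.1)) := by
        rw [← S.sum_coe_sort]
        exact Finset.sum_congr rfl fun a _ => (hgeneric _).trans (hloc _ (hmemW a)).1
    _ = ∑ P ∈ Finset.univ.image ψ, Module.length (Localization.AtPrime P.asIdeal) (LocalizedModule P.asIdeal.primeCompl Γ(F, W.1)) :=
        (Finset.sum_image (f := fun P : PrimeSpectrum Γ(X, W.1) =>
          Module.length (Localization.AtPrime P.asIdeal) (LocalizedModule P.asIdeal.primeCompl Γ(F, W.1))) hψi.injOn).symm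
    _ ≤ Module.length (Localization.AtPrime Q.asIdeal) (LocalizedModule Q.asIdeal.primeCompl Γ(F, W.1) ⧸
          algebraMap Γ(X, W.1) (Localization.AtPrime Q.asIdeal) (t W) •
            (⊤ : Submodule (Localization.AtPrime Q.asIdeal) (LocalizedModule Q.asIdeal.primeCompl Γ(F, W.1)))) := by
        refine LenSpecLib.sum_length_le _ Q (t W) ((htmem W x hxW).2 (hfy b.1)) (hloc x hxW).2.2
          (fun P hP htP hPQ => ?_) _ fun P hP => ?_
        · have h1 : AssLib.pt W.2 P = x := by
            refine hmax b.1 b.2.2 _ ?_ ?_ ((AssLib.specializes_iff W.2 hxW (AssLib.pt_mem W.2 P)).2 (by rw [AssLib.pr_pt]; exact hPQ))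
            · rw [AssLib.nontrivial_stalk_iff W.2 (AssLib.pt_mem W.2 P), AssLib.primeIdealOf_pt]; exact hP
            · rw [← htmem W _ (AssLib.pt_mem W.2 P), AssLib.pr_pt]; exact htP
          exact W.2.fromSpec.isOpenEmbedding.injective (h1.trans (W.2.fromSpec_primeIdealOf ⟨x, hxW⟩).symm)
        · obtain ⟨a, -, rfl⟩ := Finset.mem_image.1 hP
          refine ⟨(AssLib.nontrivial_stalk_iff W.2 (hmemW a)).1 ((hsupp' a.1.1).1 a.1.2.1), ?_, fun ht => ?_⟩
          · have h := hφ a.1
            rw [(Finset.mem_filter.1 a.2).2] at h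
            exact (AssLib.specializes_iff W.2 hxW (hmemW a)).1 h
          · exact LenSpecLib.closed_ne_generic (((htmem W _ (hmemW a)).1 ht).symm.trans (hfy' a.1.1))
    _ = _ := ((hclosed b.1 W hxW).1.trans (hloc x hxW).2.1).symm

end Groth.Agent.S4980
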