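import Groth.Statements.S4981
import Groth.Agent.GenIrredLib.DvrPoints
-- import your own Groth.Agent.* helpers here

set_option autoImplicit false
open CategoryTheory AlgebraicGeometry
universe u v w
open EGA43

namespace Groth.Agent.S4981

/-- Let Y be a locally Noetherian scheme, f : X ⟶ Y a morphism locally of finite type, y a point of Y
and x a point of the fibre X_y. Then f is universally open at x if and only if the following holds:
for every complete discrete valuation ring A with algebraically closed residue field k, every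
morphism g : Spec A ⟶ Y sending the closed point to y, and every Y-morphism u₀ : Spec k ⟶ X with
image x, there exist a discrete valuation ring B which is a finite A-algebra through a local
homomorphism φ : A → B, and a Y-morphism u : Spec B ⟶ X, such that the restriction of u to the
closed point Spec κ(B) equals u₀ composed with the morphism Spec κ(B) ⟶ Spec k. -/
theorem result {X Y : Scheme.{u}} [IsLocallyNoetherian Y]
    (f : X ⟶ Y) [LocallyOfFiniteType f] (x : X) :
    EGA43.IsUnivOpenAt f x ↔
      ∀ (A : Type u) [CommRing A] [IsDomain A] [IsDiscreteValuationRing A]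
        [IsAdicComplete (IsLocalRing.maximalIdeal A) A] [IsAlgClosed (IsLocalRing.ResidueField A)]
        (g : Spec (CommRingCat.of A) ⟶ Y), g.base (IsLocalRing.closedPoint A) = f.base x →
        ∀ u₀ : Spec (CommRingCat.of (IsLocalRing.ResidueField A)) ⟶ X,
          u₀ ≫ f = Spec.map (CommRingCat.ofHom (IsLocalRing.residue A)) ≫ g → x ∈ Set.range u₀.base →
          ∃ (B : CommRingCat.{u}) (_ : IsDomain B) (_ : IsDiscreteValuationRing B) (φ : A →+* B)
            (_ : IsLocalHom φ) (v : Spec B ⟶ X),
            φ.Finite ∧ v ≫ f = Spec.map (CommRingCat.ofHom φ) ≫ g ∧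
            Spec.map (CommRingCat.ofHom (IsLocalRing.ResidueField.map φ)) ≫ u₀ =
              Spec.map (CommRingCat.ofHom (IsLocalRing.residue B)) ≫ v := by
  open CategoryTheory CategoryTheory.Limits in
  constructor
  · intro h A _ _ _ _ _ g hg u₀ hu₀ hx
    let u : Spec (CommRingCat.of (IsLocalRing.ResidueField A)) ⟶ pullback f g := pullback.lift u₀ _ hu₀
    have hu : u ≫ pullback.snd f g = Spec.map (CommRingCat.ofHom (IsLocalRing.residue A)) := pullback.lift_snd _ _ _
    have h1 : (pullback.fst f g).base (u (IsLocalRing.closedPoint _)) = x := by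
      obtain ⟨t, ht⟩ := hx
      rw [← Scheme.Hom.comp_apply, pullback.lift_fst, ← ht]
      exact congrArg u₀ (Subsingleton.elim _ _)
    have h2 : (pullback.snd f g).base (u (IsLocalRing.closedPoint _)) = IsLocalRing.closedPoint A := by
      rw [← Scheme.Hom.comp_apply, hu]
      exact IsLocalRing.comap_closedPoint (IsLocalRing.residue A)
    obtain ⟨z, hz, hzπ⟩ := UnivOpenAtLib.dvrLifts_of_univOpenAt f x h A g hg _ h1 h2
    obtain ⟨B, hB1, hB2, φ, hφ, v, hfin, hv, hc⟩ := GenIrredLib.exists_finite_lift (pullback.snd f g) u hu hz hzπ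
    refine ⟨B, hB1, hB2, φ, hφ, v ≫ pullback.fst f g, hfin, ?_, ?_⟩
    · rw [Category.assoc, pullback.condition, reassoc_of% hv]
    · rw [← reassoc_of% hc, pullback.lift_fst]
  · intro H
    refine UnivOpenAtLib.univOpenAt_of_dvrLifts f x fun A _ _ _ g hg x' hx' hc => ?_
    let T := pullback f g
    let π : T ⟶ Spec (CommRingCat.of A) := pullback.snd f g
    let K := AlgebraicClosure (T.residueField x')
    -- the residue field of `A` acts on that of `x'`
    obtain ⟨β, hβ⟩ : ∃ β : CommRingCat.of A ⟶ T.residueField x', Spec.map β = T.fromSpecResidueField x' ≫ π :=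
      ⟨Spec.preimage _, Spec.map_preimage _⟩
    have hβ0 : ∀ a ∈ IsLocalRing.maximalIdeal A, β.hom a = 0 := by
      intro a ha
      have h1 : PrimeSpectrum.comap β.hom (IsLocalRing.closedPoint _) = IsLocalRing.closedPoint A := by
        show Spec.map β (IsLocalRing.closedPoint _) = _
        rw [hβ, Scheme.Hom.comp_apply, Scheme.fromSpecResidueField_apply]
        exact hc
      have h2 := (congrArg PrimeSpectrum.asIdeal h1).ge ha
      exact (Submodule.mem_bot _).1 ((IsLocalRing.maximalIdeal_eq_bot (R := T.residueField x')).le h2)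
    letI : Algebra (IsLocalRing.ResidueField A) K :=
      ((algebraMap (T.residueField x') K).comp (Ideal.Quotient.lift _ β.hom hβ0)).toAlgebra
    obtain ⟨A₁, _, _, _, _, _, φ₁, hφ₁, e, hinj, he⟩ := GenIrredLib.exists_dvr_of_residue_ext A K
    let m : T.residueField x' ⟶ CommRingCat.of (IsLocalRing.ResidueField A₁) :=
      CommRingCat.ofHom (e.symm.toRingHom.comp (algebraMap (T.residueField x') K))
    let g₁ : Spec (CommRingCat.of A₁) ⟶ Y := Spec.map (CommRingCat.ofHom φ₁) ≫ g
    let w₀ : Spec (CommRingCat.of (IsLocalRing.ResidueField A₁)) ⟶ T := Spec.map m ≫ T.fromSpecResidueField x'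
    have hw₀ : w₀ ≫ π = Spec.map (CommRingCat.ofHom ((IsLocalRing.residue A₁).comp φ₁)) := by
      rw [Category.assoc, ← hβ, ← Spec.map_comp]
      congr 1
      ext a
      exact e.injective ((e.apply_symm_apply _).trans (he a).symm)
    have hu₀ : (w₀ ≫ pullback.fst f g) ≫ f = Spec.map (CommRingCat.ofHom (IsLocalRing.residue A₁)) ≫ g₁ := by
      rw [Category.assoc, pullback.condition, reassoc_of% hw₀, ← Spec.map_comp_assoc]
      rfl
    have hg₁ : g₁.base (IsLocalRing.closedPoint A₁) = f.base x := by
      rw [← hg, Scheme.Hom.comp_apply]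
      exact congrArg g (IsLocalRing.comap_closedPoint φ₁)
    have hrange : x ∈ Set.range (w₀ ≫ pullback.fst f g).base := by
      refine ⟨IsLocalRing.closedPoint _, ?_⟩
      rw [Scheme.Hom.comp_apply, Scheme.Hom.comp_apply, Scheme.fromSpecResidueField_apply, hx']
    obtain ⟨B, hB1, hB2, φ, hφ, v, hfin, hv, hcomp⟩ := H A₁ g₁ hg₁ _ hu₀ hrange
    let w : Spec B ⟶ T := pullback.lift v (Spec.map (CommRingCat.ofHom (φ.comp φ₁))) (by
      rw [hv, ← Category.assoc, ← Spec.map_comp]; rfl)
    have hw : Spec.map (CommRingCat.ofHom (IsLocalRing.residue B)) ≫ w =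
        Spec.map (CommRingCat.ofHom (IsLocalRing.ResidueField.map φ)) ≫ w₀ := by
      apply pullback.hom_ext
      · rw [Category.assoc, Category.assoc, pullback.lift_fst, ← hcomp]
      · rw [Category.assoc, Category.assoc, pullback.lift_snd, hw₀, ← Spec.map_comp, ← Spec.map_comp]
        rfl
    have hwc : w (IsLocalRing.closedPoint B) = x' := by
      have h1 := congrArg (fun k : Spec (CommRingCat.of (IsLocalRing.ResidueField B)) ⟶ T =>
        k (IsLocalRing.closedPoint _)) hw
      simp only [Scheme.Hom.comp_apply, w₀, Scheme.fromSpecResidueField_apply] at h1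
      rw [← h1]
      exact congrArg w (IsLocalRing.comap_closedPoint (IsLocalRing.residue B)).symm
    have hinjφ : Function.Injective φ := by
      rw [RingHom.injective_iff_ker_eq_bot]
      by_contra hk
      haveI := RingHom.ker_isPrime φ
      obtain ⟨ϖ, hϖ⟩ := IsDiscreteValuationRing.exists_irreducible A₁
      have hkm : RingHom.ker φ = IsLocalRing.maximalIdeal A₁ :=
        IsLocalRing.eq_maximalIdeal (Ideal.IsPrime.isMaximal inferInstance hk)
      letI : Algebra (A₁ ⧸ RingHom.ker φ) B := (RingHom.kerLift φ).toAlgebra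
      have hfld : IsField (A₁ ⧸ RingHom.ker φ) := (Ideal.Quotient.maximal_ideal_iff_isField_quotient _).1
        (hkm ▸ inferInstance)
      have h' : (RingHom.kerLift φ).IsIntegral := RingHom.IsIntegral.tower_top (Ideal.Quotient.mk _) _
        (show ((RingHom.kerLift φ).comp (Ideal.Quotient.mk _)).IsIntegral from hfin.to_isIntegral)
      haveI : Algebra.IsIntegral (A₁ ⧸ RingHom.ker φ) B := ⟨h'⟩
      exact IsDiscreteValuationRing.not_isField B (isField_of_isIntegral_of_isField' hfld)
    let η : Spec B := ⟨⊥, Ideal.isPrime_bot⟩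
    refine ⟨w η, ?_, ?_⟩
    · rw [← hwc]
      exact (IsLocalRing.specializes_closedPoint η).map w.continuous
    · rw [← Scheme.Hom.comp_apply, pullback.lift_snd]
      intro h
      refine IsDiscreteValuationRing.not_a_field A ?_
      have h1 := congrArg PrimeSpectrum.asIdeal h
      rw [show IsLocalRing.maximalIdeal A = (IsLocalRing.closedPoint A).asIdeal from rfl, ← h1]
      show (⊥ : Ideal B).comap (φ.comp φ₁) = ⊥
      exact Ideal.comap_bot_of_injective _ (hinjφ.comp hinj)

end Groth.Agent.S4981
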