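import Groth.Statements.S4985
import Groth.Agent.GenIrredLib.FourCond
import Groth.Agent.CurveLib.Components
-- import your own Groth.Agent.* helpers here

set_option autoImplicit false
open CategoryTheory AlgebraicGeometry
universe u v w
open EGA43

namespace Groth.Agent.S4985

/-- Let Y be a locally Noetherian scheme, f : X ⟶ Y a morphism of finite type, x a point of X with y = f
x, X' an irreducible closed subset of X containing x, regarded as a reduced closed subscheme, and Y'
the closure of f(X') regarded as a reduced closed subscheme of Y, with generic point η'. Write A, B,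
A', B' for the local rings of Y at y, of X at x, of Y' at y and of X' at x, and B ⊗ κ(y), B' ⊗ κ(y)
for the local rings at x of the fibres over y of X and of X'. Then dim B' = dim A + dim(B ⊗ κ(y)) if
and only if all of the following hold: (i) dim A' = dim A; (ii) dim(B' ⊗ κ(y)) = dim(B ⊗ κ(y));
(iii) X' is equidimensional over Y' at x, i.e. the local dimension at x of the fibre of X' over y
equals dim(X' ∩ f⁻¹(η')); (iv) dim B' = dim A' + dim(B' ⊗ κ(y)) (the published (iv) carries the
correction term dim_x − dim of (iii), which vanishes under (iii)). -/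
theorem result {X Y : Scheme.{u}} [IsLocallyNoetherian Y] (f : X ⟶ Y)
    [LocallyOfFiniteType f] [QuasiCompact f] (x : X) (X' : TopologicalSpace.Closeds X) (hirr : IsIrreducible (X' : Set X))
    (hx : x ∈ X') (w : ↥(Scheme.IdealSheafData.vanishingIdeal X').subscheme)
    (hw : (Scheme.IdealSheafData.vanishingIdeal X').subschemeι.base w = x)
    (v : ↥(Scheme.IdealSheafData.vanishingIdeal
      (⟨closure (f.base '' (X' : Set X)), isClosed_closure⟩ : TopologicalSpace.Closeds Y)).subscheme)
    (hv : (Scheme.IdealSheafData.vanishingIdeal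
      (⟨closure (f.base '' (X' : Set X)), isClosed_closure⟩ : TopologicalSpace.Closeds Y)).subschemeι.base v = f.base x)
    (η' : Y) (hη' : closure ({η'} : Set Y) = closure (f.base '' (X' : Set X))) :
    letI ιX := (Scheme.IdealSheafData.vanishingIdeal X').subschemeι
    letI dA := ringKrullDim (Y.presheaf.stalk (f.base x))
    letI dB := ringKrullDim (X.presheaf.stalk x)
    letI dA' := ringKrullDim ((Scheme.IdealSheafData.vanishingIdeal
      (⟨closure (f.base '' (X' : Set X)), isClosed_closure⟩ : TopologicalSpace.Closeds Y)).subscheme.presheaf.stalk v)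
    letI dB' := ringKrullDim ((Scheme.IdealSheafData.vanishingIdeal X').subscheme.presheaf.stalk w)
    letI dBk := ringKrullDim ((f.fiber (f.base x)).presheaf.stalk (f.asFiber x))
    letI dB'k := ringKrullDim (((ιX ≫ f).fiber ((ιX ≫ f).base w)).presheaf.stalk ((ιX ≫ f).asFiber w))
    letI e' := topologicalKrullDim ↥((X' : Set X) ∩ f.base ⁻¹' {η'})
    (dB' = dA + dBk ↔
      (dA' = dA ∧ dB'k = dBk ∧ FlatMor.fibreDimAt (ιX ≫ f) w = e' ∧ dB' = dA' + dB'k)) := by
  let I := Scheme.IdealSheafData.vanishingIdeal X'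
  let CY : TopologicalSpace.Closeds Y := ⟨closure (f.base '' (X' : Set X)), isClosed_closure⟩
  let J := Scheme.IdealSheafData.vanishingIdeal CY
  let ιX := I.subschemeι
  let ιY := J.subschemeι
  have hrX : Set.range ιX = (X' : Set X) := by
    rw [Scheme.IdealSheafData.range_subschemeι, Scheme.IdealSheafData.coe_support_vanishingIdeal]
  have hrY : Set.range ιY = (CY : Set Y) := by
    rw [Scheme.IdealSheafData.range_subschemeι, Scheme.IdealSheafData.coe_support_vanishingIdeal]
  haveI : IsIntegral I.subscheme := CurveLib.isIntegral_vanishingIdeal X'.2 hirr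
  haveI : IsIntegral J.subscheme :=
    CurveLib.isIntegral_vanishingIdeal isClosed_closure (hirr.image _ f.continuous.continuousOn).closure
  haveI : IsLocallyNoetherian J.subscheme := LocallyOfFiniteType.isLocallyNoetherian ιY
  have hrange : Set.range (ιX ≫ f) ⊆ (CY : Set Y) := by
    rintro _ ⟨z, rfl⟩
    rw [Scheme.Hom.comp_apply]
    exact subset_closure ⟨_, hrX.le ⟨z, rfl⟩, rfl⟩
  obtain ⟨h, hh⟩ : ∃ h : I.subscheme ⟶ J.subscheme, h ≫ ιY = ιX ≫ f := by
    have e : ιY.ker ≤ (ιX ≫ f).ker := by
      rw [Scheme.IdealSheafData.ker_subschemeι, ← Scheme.IdealSheafData.map_bot, ← Scheme.nilradical_eq_bot,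
        ← Scheme.IdealSheafData.vanishingIdeal_top, Scheme.IdealSheafData.map_vanishingIdeal]
      refine Scheme.IdealSheafData.vanishingIdeal_antimono ?_
      exact closure_minimal (by simpa [Function.comp_def] using hrange) CY.isClosed
    exact ⟨IsClosedImmersion.lift _ _ e, IsClosedImmersion.lift_fac _ _ _⟩
  haveI : LocallyOfFiniteType (h ≫ ιY) := by rw [hh]; infer_instance
  haveI : LocallyOfFiniteType h := locallyOfFiniteType_of_comp h ιY
  have hι : ∀ z, ιY (h z) = f (ιX z) := fun z => by rw [← Scheme.Hom.comp_apply, hh, Scheme.Hom.comp_apply]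
  -- generic points
  have hξ : closure {ιX (genericPoint I.subscheme)} = (X' : Set X) := by
    rw [← Set.image_singleton, ιX.isClosedEmbedding.closure_image_eq, (genericPoint_spec I.subscheme).def,
      Set.image_univ, hrX]
  have hfξ : f (ιX (genericPoint I.subscheme)) = η' := by
    have h1 : closure {f (ιX (genericPoint I.subscheme))} = closure ({η'} : Set Y) := by
      rw [hη', ← hξ, closure_image_closure f.continuous, Set.image_singleton]
    exact (show IsGenericPoint (f (ιX (genericPoint I.subscheme))) (closure ({η'} : Set Y)) from h1).eq rfl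
  have hdom : h (genericPoint I.subscheme) = genericPoint J.subscheme := by
    refine (show IsGenericPoint (h (genericPoint I.subscheme)) (Set.univ : Set J.subscheme) from ?_).eq
      (genericPoint_spec J.subscheme)
    show closure _ = _
    rw [ιY.isClosedEmbedding.isEmbedding.closure_eq_preimage_closure_image, Set.image_singleton, hι, hfξ, hη',
      ← Set.preimage_range ιY, hrY]
    rfl
  obtain ⟨a, b, d, ha, hb, hd, hfd, hle, hineq, hgen⟩ := GenIrredLib.dims_integral h hdom w
  -- comparison with the ambient morphism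
  have hv' : h w = v := ιY.isClosedEmbedding.injective ((hι w).trans ((congrArg f hw).trans hv.symm))
  rw [hv'] at hb
  obtain ⟨c⟩ := DimFormulaLib.exists_chart f x
  obtain ⟨aX, bY, dX, tX, hX, hY, hdX, -, -, -, -, hleX, -⟩ := c.dims
  obtain ⟨c'⟩ := DimFormulaLib.exists_chart (ιX ≫ f) w
  obtain ⟨a₁, b₁, d₁, t₁, -, -, hd₁, ht₁, hfd₁, -, -, -, -⟩ := c'.dims
  have htrd : ∀ z, OpenDim.trd (ιX ≫ f) z = OpenDim.trd h z ∧ OpenDim.trd (ιX ≫ f) z = OpenDim.trd f (ιX z) := by
    intro z
    have h1 := FlatDim.resTrdegAt_congr hh z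
    rw [FlatDim.resTrdegAt_comp, FlatDim.resTrdegAt_preimmersion ιY, zero_add, OpenDim.resTrdegAt_eq_trd,
      OpenDim.resTrdegAt_eq_trd] at h1
    have h2 := FlatDim.resTrdegAt_comp ιX f z
    rw [FlatDim.resTrdegAt_preimmersion ιX, add_zero, OpenDim.resTrdegAt_eq_trd, OpenDim.resTrdegAt_eq_trd] at h2
    exact ⟨by exact_mod_cast h1.symm, by exact_mod_cast h2⟩
  have ht₁' : t₁ = OpenDim.trd h w := by
    have h1 := ht₁.symm
    rw [← c'.resTrdegAt_self, OpenDim.resTrdegAt_eq_trd, (htrd w).1] at h1
    exact_mod_cast h1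
  have hdd : d₁ = d := by
    have h1 := GenIrredLib.dim_stalk_fibre_le (ιX ≫ f) h (φ := id) Topology.IsEmbedding.id w fun z hz =>
      ιY.isClosedEmbedding.injective (by rw [id, id, hι, hι, ← Scheme.Hom.comp_apply, hz, Scheme.Hom.comp_apply])
    have h2 := GenIrredLib.dim_stalk_fibre_le h (ιX ≫ f) (φ := id) Topology.IsEmbedding.id w fun z hz => by
      rw [id, id, Scheme.Hom.comp_apply, Scheme.Hom.comp_apply, ← hι, ← hι, hz]
    simp only [id] at h1 h2
    rw [hd₁] at h1 h2
    rw [hd] at h1 h2
    exact le_antisymm (by exact_mod_cast h1) (by exact_mod_cast h2)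
  have hdle : d₁ ≤ dX := by
    have h1 := GenIrredLib.dim_stalk_fibre_le (ιX ≫ f) f ιX.isClosedEmbedding.isEmbedding w fun z hz => by
      rw [← Scheme.Hom.comp_apply, hz, Scheme.Hom.comp_apply]
    rw [hd₁] at h1
    rw [show ringKrullDim ((f.fiber (f (ιX w))).presheaf.stalk (f.asFiber (ιX w))) = _ from
      (congrArg (fun p => ringKrullDim ((f.fiber (f p)).presheaf.stalk (f.asFiber p))) hw).trans hdX] at h1
    exact_mod_cast h1
  have hble : b ≤ bY := by
    have h1 := GenIrredLib.dim_stalk_le ιY ιY.isClosedEmbedding.isEmbedding v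
    rw [hb, hv, hY] at h1
    exact_mod_cast h1
  have he' : topologicalKrullDim ↥((X' : Set X) ∩ f.base ⁻¹' {η'}) =
      ((OpenDim.trd h (genericPoint I.subscheme) : ℕ) : WithBot ℕ∞) := by
    rw [← (htrd _).1, (htrd _).2]
    refine le_antisymm (OpenDim.dim_inter_le f _ X'.isClosed Set.univ isOpen_univ η' _ (by rw [Set.inter_univ])
      fun z hz => ?_) (OpenDim.trd_le_dim_inter f _ X'.isClosed Set.univ isOpen_univ η' _ (by rw [Set.inter_univ])
      (z := ιX (genericPoint I.subscheme)) ⟨hrX.le ⟨_, rfl⟩, hfξ⟩)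
    exact Nat.cast_le.2 (OpenDim.trd_le f (specializes_iff_mem_closure.2 (hξ.ge hz.1)) (hfξ.trans hz.2.symm))
  show (ringKrullDim (I.subscheme.presheaf.stalk w) = ringKrullDim (Y.presheaf.stalk (f x)) + _ ↔ _)
  show (ringKrullDim (I.subscheme.presheaf.stalk w) = _ ↔ (ringKrullDim (J.subscheme.presheaf.stalk v) = _ ∧
    ringKrullDim (((ιX ≫ f).fiber ((ιX ≫ f) w)).presheaf.stalk ((ιX ≫ f).asFiber w)) = _ ∧
    FlatMor.fibreDimAt (ιX ≫ f) w = _ ∧ ringKrullDim (I.subscheme.presheaf.stalk w) =
      ringKrullDim (J.subscheme.presheaf.stalk v) +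
        ringKrullDim (((ιX ≫ f).fiber ((ιX ≫ f) w)).presheaf.stalk ((ιX ≫ f).asFiber w))))
  rw [ha, hb, hd₁, hfd₁]
  erw [hY, hdX, he']
  rw [ht₁', hdd]
  norm_cast
  omega

end Groth.Agent.S4985
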