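import Groth.Statements.S4986
import Groth.Agent.S4985

set_option autoImplicit false
open CategoryTheory AlgebraicGeometry
universe u v w
open EGA43

namespace Groth.Agent.S4986

/-- Let Y be locally Noetherian, f : X ⟶ Y of finite type, x ∈ X, y = f x, X' an irreducible closed
subset containing x with its reduced structure, Y' the closure of f(X') with its reduced structure
and generic point η', and A, B, A', B' the local rings of Y at y, of X at x, of Y' at y and of X' at
x. Suppose dim B = dim A + dim(B ⊗ κ(y)). Then X' satisfies the four conditions (i) dim A' = dim A,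
(ii) dim_x(X' ∩ X_y) = dim_x(X_y), (iii) X' equidimensional over Y' at x, (iv) dim B' = dim A' +
dim(B' ⊗ κ(y)), if and only if dim B' = dim B. -/
theorem result {X Y : Scheme.{u}} [IsLocallyNoetherian Y] (f : X ⟶ Y)
    [LocallyOfFiniteType f] [QuasiCompact f] (x : X) (X' : TopologicalSpace.Closeds X) (hirr : IsIrreducible (X' : Set X))
    (hx : x ∈ X') (w : ↥(Scheme.IdealSheafData.vanishingIdeal X').subscheme)
    (hw : (Scheme.IdealSheafData.vanishingIdeal X').subschemeι.base w = x)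
    (v : ↥(Scheme.IdealSheafData.vanishingIdeal
      (⟨closure (f.base '' (X' : Set X)), isClosed_closure⟩ : TopologicalSpace.Closeds Y)).subscheme)
    (hv : (Scheme.IdealSheafData.vanishingIdeal
      (⟨closure (f.base '' (X' : Set X)), isClosed_closure⟩ : TopologicalSpace.Closeds Y)).subschemeι.base v = f.base x)
    (η' : Y) (hη' : closure ({η'} : Set Y) = closure (f.base '' (X' : Set X))) :
    letI ιX := (Scheme.IdealSheafData.vanishingIdeal X').subschemeι
    letI dA := ringKrullDim (Y.presheaf.stalk (f.base x))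
    letI dB := ringKrullDim (X.presheaf.stalk x)
    letI dA' := ringKrullDim ((Scheme.IdealSheafData.vanishingIdeal
      (⟨closure (f.base '' (X' : Set X)), isClosed_closure⟩ : TopologicalSpace.Closeds Y)).subscheme.presheaf.stalk v)
    letI dB' := ringKrullDim ((Scheme.IdealSheafData.vanishingIdeal X').subscheme.presheaf.stalk w)
    letI dBk := ringKrullDim ((f.fiber (f.base x)).presheaf.stalk (f.asFiber x))
    letI dB'k := ringKrullDim (((ιX ≫ f).fiber ((ιX ≫ f).base w)).presheaf.stalk ((ιX ≫ f).asFiber w))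
    letI e' := topologicalKrullDim ↥((X' : Set X) ∩ f.base ⁻¹' {η'})
    dB = dA + dBk →
      ((dA' = dA ∧ FlatMor.localDim ↥((X' : Set X) ∩ f.base ⁻¹' {f.base x}) ⟨x, ⟨hx, rfl⟩⟩ = FlatMor.fibreDimAt f x ∧
        FlatMor.fibreDimAt (ιX ≫ f) w = e' ∧ dB' = dA' + dB'k) ↔ dB' = dB) := by
  intro hB
  let ιX := (Scheme.IdealSheafData.vanishingIdeal X').subschemeι
  have key := S4985.result f x X' hirr hx w hw v hv η' hη'
  rw [hB]
  subst hw
  obtain ⟨c⟩ := DimFormulaLib.exists_chart f (ιX w)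
  obtain ⟨aX, bY, dX, tX, -, -, hdX, htX, hfX, -, -, -, -⟩ := c.dims
  obtain ⟨c'⟩ := DimFormulaLib.exists_chart (ιX ≫ f) w
  obtain ⟨a₁, b₁, d₁, t₁, -, -, hd₁, ht₁, hf₁, -, -, -, -⟩ := c'.dims
  have hrX : Set.range ιX = (X' : Set X) := by
    show Set.range (Scheme.IdealSheafData.vanishingIdeal X').subschemeι = _
    rw [Scheme.IdealSheafData.range_subschemeι, Scheme.IdealSheafData.coe_support_vanishingIdeal]
  have htrd : ∀ z, OpenDim.trd (ιX ≫ f) z = OpenDim.trd f (ιX z) := fun z => by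
    have h2 := FlatDim.resTrdegAt_comp ιX f z
    rw [FlatDim.resTrdegAt_preimmersion ιX, add_zero, OpenDim.resTrdegAt_eq_trd, OpenDim.resTrdegAt_eq_trd] at h2
    exact_mod_cast h2
  have htt : t₁ = tX := by
    have h1 := ht₁.symm
    rw [← c'.resTrdegAt_self, OpenDim.resTrdegAt_eq_trd, htrd] at h1
    have h2 := htX.symm
    rw [← c.resTrdegAt_self, OpenDim.resTrdegAt_eq_trd] at h2
    exact_mod_cast h1.trans h2.symm
  have hloc : FlatMor.localDim ↥((X' : Set X) ∩ f.base ⁻¹' {f.base (ιX w)}) ⟨ιX w, ⟨hx, rfl⟩⟩ =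
      FlatMor.fibreDimAt (ιX ≫ f) w := by
    refine le_antisymm (OpenDim.localDim_inter_le f _ X'.isClosed (y := f (ιX w)) ⟨ιX w, hx, rfl⟩ fun z hz hzx => ?_)
      (OpenDim.fibreDimAt_le (ιX ≫ f) fun z hz hzx => ?_)
    · obtain ⟨z', rfl⟩ := hrX.ge hz.1
      rw [← htrd]
      refine OpenDim.trd_le_fibreDimAt (ιX ≫ f) ?_ (ιX.isEmbedding.isInducing.specializes_iff.1 hzx)
      rw [Scheme.Hom.comp_apply, Scheme.Hom.comp_apply]
      exact hz.2
    · rw [htrd]
      refine OpenDim.trd_le_localDim_inter f _ X'.isClosed (y := f (ιX w)) ⟨ιX w, hx, rfl⟩ (z := ιX z)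
        ⟨hrX.le ⟨z, rfl⟩, ?_⟩ (hzx.map ιX.continuous)
      exact (Scheme.Hom.comp_apply ιX f z).symm.trans (hz.trans (Scheme.Hom.comp_apply ιX f w))
  have hk : ringKrullDim (((ιX ≫ f).fiber ((ιX ≫ f).base w)).presheaf.stalk ((ιX ≫ f).asFiber w)) =
      ringKrullDim ((f.fiber (f.base (ιX w))).presheaf.stalk (f.asFiber (ιX w))) ↔ FlatMor.localDim ↥((X' : Set X) ∩ f.base ⁻¹' {f.base (ιX w)}) ⟨ιX w, ⟨hx, rfl⟩⟩ =
      FlatMor.fibreDimAt f (ιX w) := by
    rw [hloc, hf₁, hfX]
    erw [hd₁, hdX]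
    rw [Nat.cast_inj, Nat.cast_inj, htt]
    omega
  rw [key, hk]

end Groth.Agent.S4986
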