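import Groth.Statements.S4994
import Groth.Agent.SectSmoothLib.Scheme

set_option autoImplicit false
universe u
open CategoryTheory CategoryTheory.Limits AlgebraicGeometry TopologicalSpace
open Unram17

namespace Groth.Agent.S4994

/-- Let f : X ⟶ Y be locally of finite presentation. The diagonal X ⟶ X ×_Y X is a quasi-regular
immersion (that is, f is differentially smooth) if and only if the second projection X ×_Y X ⟶ X is
smooth at every point of the image of the diagonal. -/
theorem result {X Y : Scheme.{u}} (f : X ⟶ Y)
    [LocallyOfFinitePresentation f] :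
    RegImm.IsRegularImmersion RegImm.Kind.quasi (pullback.diagonal f) ↔
      ∀ x : ↥X, (pullback.diagonal f).base x ∈ (pullback.snd f f).smoothLocus := by
  have hu : pullback.diagonal f ≫ pullback.snd f f = 𝟙 X := pullback.diagonal_snd f
  refine ⟨fun h x => Groth.Agent.SectSmoothLib.mem_smoothLocus_of_quasi (pullback.snd f f) _ hu x (h.2 x),
    fun h => ⟨inferInstance, fun x => ?_⟩⟩
  obtain ⟨V, hxV, hV⟩ := Groth.Agent.SectSmoothLib.exists_quasi_of_mem_smoothLocus (pullback.snd f f) _ hu x (h x)
  exact Groth.Agent.SectSmoothLib.isRegularImmersionAt_of_restrict (pullback.snd f f) _ hu V x hxV (hV.2 ⟨x, hxV⟩)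

end Groth.Agent.S4994
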