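import Groth.Statements.S4998
import Mathlib.RingTheory.Etale.Field
import Mathlib.FieldTheory.Separable

set_option autoImplicit false
universe u
open Unram17

namespace Groth.Agent.S4998

open Polynomial

theorem isSeparable_pi {k : Type u} [Field k] {I : Type u} [Finite I] {L : I → Type u}
    [∀ i, Field (L i)] [∀ i, Algebra k (L i)] [∀ i, Algebra.IsSeparable k (L i)]
    (x : Π i, L i) : IsSeparable k x := by
  classical
  haveI := Fintype.ofFinite I
  set s : Finset k[X] := Finset.univ.image (fun i => minpoly k (x i)) with hs
  have hsep : (∏ q ∈ s, q).Separable := by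
    refine Polynomial.separable_prod' (fun a ha b hb hab => ?_) (fun a ha => ?_)
    · obtain ⟨i, _, rfl⟩ := Finset.mem_image.mp ha
      obtain ⟨j, _, rfl⟩ := Finset.mem_image.mp hb
      have hi := Algebra.IsSeparable.isIntegral k (x i)
      have hj := Algebra.IsSeparable.isIntegral k (x j)
      refine (minpoly.irreducible hi).coprime_iff_not_dvd.mpr fun hdvd => hab ?_
      exact eq_of_monic_of_associated (minpoly.monic hi) (minpoly.monic hj)
        ((minpoly.irreducible hi).associated_of_dvd (minpoly.irreducible hj) hdvd)
    · obtain ⟨i, _, rfl⟩ := Finset.mem_image.mp ha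
      exact Algebra.IsSeparable.isSeparable k (x i)
  refine hsep.of_dvd (minpoly.dvd k x ?_)
  funext i
  have h : aeval (x i) (∏ q ∈ s, q) = 0 := by
    rw [map_prod]
    exact Finset.prod_eq_zero (Finset.mem_image.mpr ⟨i, Finset.mem_univ i, rfl⟩) (minpoly.aeval k (x i))
  have h2 : (Pi.evalAlgHom k L i) (aeval x (∏ q ∈ s, q)) = aeval (x i) (∏ q ∈ s, q) :=
    (aeval_algHom_apply (Pi.evalAlgHom k L i) x _).symm
  rw [h] at h2
  exact h2

theorem formallyUnramified_of_isSeparable (k A : Type u) [Field k] [CommRing A] [Algebra k A]
    [Algebra.IsSeparable k A] : Algebra.FormallyUnramified k A := by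
  rw [Algebra.FormallyUnramified.iff_comp_injective]
  intro B _ _ I hI f₁ f₂ e
  ext x
  have hm : f₁ x - f₂ x ∈ I := by
    simpa [Ideal.Quotient.mk_eq_mk_iff_sub_mem] using AlgHom.congr_fun e x
  have := Polynomial.eval_add_of_sq_eq_zero ((minpoly k x).map (algebraMap k B)) (f₂ x)
    (f₁ x - f₂ x) (show (f₁ x - f₂ x) ^ 2 ∈ ⊥ from hI ▸ Ideal.pow_mem_pow hm 2)
  simp only [add_sub_cancel, eval_map_algebraMap, aeval_algHom_apply, minpoly.aeval, map_zero,
    derivative_map, zero_add] at this
  obtain ⟨a, b, hab⟩ := Algebra.IsSeparable.isSeparable k x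
  have hu : IsUnit (aeval x (derivative (minpoly k x))) := by
    apply IsUnit.of_mul_eq_one_right (aeval x b)
    have h := congrArg (aeval x) hab
    simpa [minpoly.aeval] using h
  rwa [eq_comm, (hu.map f₂).mul_right_eq_zero, sub_eq_zero] at this


/-- Let A be an algebra of finite type over a field k. Then A is formally unramified over k if and only
if A is finite over k and every element of A has separable minimal polynomial over k (equivalently,
A is a finite product of finite separable extensions of k). -/
theorem result (k A : Type u) [Field k] [CommRing A]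
    [Algebra k A] [Algebra.FiniteType k A] :
    Algebra.FormallyUnramified k A ↔ Module.Finite k A ∧ Algebra.IsSeparable k A := by
  constructor
  · intro _
    haveI := Algebra.FormallyUnramified.finite_of_free k A
    haveI := Algebra.FormallyEtale.of_formallyUnramified_of_field k A
    obtain ⟨I, _, L, _, _, e, hL⟩ := (Algebra.FormallyEtale.iff_exists_algEquiv_prod k A).mp inferInstance
    haveI : Algebra.IsSeparable k (Π i, L i) := ⟨fun x => isSeparable_pi x⟩
    exact ⟨inferInstance, AlgEquiv.Algebra.isSeparable e.symm⟩
  · rintro ⟨_, _⟩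
    exact formallyUnramified_of_isSeparable k A

end Groth.Agent.S4998
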