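import Groth.Statements.S4999
import Groth.Agent.S2063
import Groth.Agent.FieldExtLib.Separable
import Groth.Agent.RegHomLib.Basic
import Groth.Agent.NagataCompleteLib.QuasiExcellent
import Groth.Agent.DimFormulaLib.Misc
-- import your own Groth.Agent.* helpers here

set_option autoImplicit false
universe u
open Unram17

namespace Groth.Agent.S4999

/-- Let A be an algebra of finite type over a field k. Then A is smooth over k if and only if the module
of differentials of A over k is projective (locally free) and, at every minimal prime p of A, the
local ring A_p is geometrically reduced over k, which for this Artinian local ring says that A_p is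
a field and a separable (not necessarily algebraic) extension of k. -/
theorem result (k A : Type u) [Field k] [CommRing A]
    [Algebra k A] [Algebra.FiniteType k A] :
    Algebra.Smooth k A ↔
      Module.Projective A (KaehlerDifferential k A) ∧
        ∀ (p : Ideal A) [p.IsPrime], p ∈ minimalPrimes A →
          Algebra.IsGeometricallyReduced k (Localization.AtPrime p) := by
  open scoped TensorProduct in
  haveI : IsNoetherianRing A := Algebra.FiniteType.isNoetherianRing k A
  have hfield : ∀ (p : Ideal A) [p.IsPrime], p ∈ minimalPrimes A → IsReduced (Localization.AtPrime p) →
      IsField (Localization.AtPrime p) := fun p _ hp hred => by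
    haveI := hred
    haveI : Ring.KrullDimLE 0 (Localization.AtPrime p) := by
      refine (Ring.krullDimLE_iff).2 ?_
      rw [IsLocalization.AtPrime.ringKrullDim_eq_height p, (Ideal.height_eq_zero_iff).2 hp]
      rfl
    exact Ring.KrullDimLE.isField_of_isReduced
  constructor
  · intro hsm
    refine ⟨inferInstance, fun p _ hp => ?_⟩
    haveI : IsRegularRing A := RegHomLib.isRegularRing_of_smooth k A
    haveI : IsReduced A := NagataCompleteLib.isReduced_of_isRegularRing A
    letI := (hfield p hp inferInstance).toField
    haveI : Algebra.FormallySmooth A (Localization.AtPrime p) :=
      Algebra.FormallySmooth.of_isLocalization p.primeCompl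
    haveI : Algebra.FormallySmooth k (Localization.AtPrime p) := Algebra.FormallySmooth.comp k A _
    exact FieldExtLib.formallySmooth_iff_isGeometricallyReduced.1 inferInstance
  · rintro ⟨hproj, hmin⟩
    haveI := hproj
    haveI : Algebra.FinitePresentation k A := Algebra.FinitePresentation.of_finiteType.1 inferInstance
    have hall : Algebra.smoothLocus k A = Set.univ := by
      refine Set.eq_univ_of_forall fun q => ?_
      obtain ⟨P, hP, hPq⟩ := Ideal.exists_minimalPrimes_le (bot_le : ⊥ ≤ q.asIdeal)
      haveI := hP.1.1
      haveI := hmin P hP
      haveI : IsReduced (Localization.AtPrime P) := Algebra.isReduced_of_isGeometricallyReduced k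
      letI := (hfield P hP inferInstance).toField
      have hPs : Algebra.IsSmoothAt k P :=
        FieldExtLib.formallySmooth_iff_isGeometricallyReduced.2 inferInstance
      have h1 := (Groth.Agent.S2063.result P).1 hPs
      haveI : Module.FinitePresentation A (KaehlerDifferential k A) := Module.finitePresentation_of_finite A _
      have h2 : Module.finrank P.ResidueField (P.ResidueField ⊗[A] KaehlerDifferential k A) =
          Module.finrank q.asIdeal.ResidueField (q.asIdeal.ResidueField ⊗[A] KaehlerDifferential k A) := by
        have h := Module.rankAtStalk_eq_of_le_of_finite_of_flat (M := KaehlerDifferential k A)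
          (show (⟨P, inferInstance⟩ : PrimeSpectrum A) ≤ q from hPq)
        rwa [Module.rankAtStalk_eq, Module.rankAtStalk_eq] at h
      rw [h2] at h1
      have h3 : Algebra.IsSmoothAt k q.asIdeal := by
        rw [Groth.Agent.S2063.result q.asIdeal]
        exact h1.trans (DimFormulaLib.localDim_le_of_specializes
          ((PrimeSpectrum.le_iff_specializes ⟨P, inferInstance⟩ q).1 hPq))
      exact h3
    exact { formallySmooth := Algebra.smoothLocus_eq_univ_iff.1 hall, finitePresentation := inferInstance }

end Groth.Agent.S4999
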