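import Groth.Statements.S5000
import Groth.Agent.S2091
import Groth.Agent.S7767
import Mathlib

set_option autoImplicit false
universe u
open Unram17

namespace Groth.Agent.S5000

theorem smooth_tensor (k K T : Type u) [Field k] [Field K] [IsAlgClosed K] [CharZero K] [Algebra k K] [CommRing T]
    [Algebra k T] [Algebra.FiniteType k T] [hprojT : Module.Projective T (KaehlerDifferential k T)] :
    Algebra.Smooth K (TensorProduct k K T) := by
  let S := TensorProduct k K T
  letI : Algebra T S := Algebra.TensorProduct.rightAlgebra
  haveI : Algebra.IsPushout k K T S := TensorProduct.isPushout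
  haveI : Module.Projective S (KaehlerDifferential K S) :=
    Module.Projective.of_equiv (KaehlerDifferential.tensorKaehlerEquiv k K T S)
  haveI : Algebra.FiniteType K S := inferInstance
  haveI : Algebra.FinitePresentation K S := Algebra.FinitePresentation.of_finiteType.1 inferInstance
  haveI : IsNoetherianRing S := Algebra.FiniteType.isNoetherianRing K S
  have hmax : ∀ (m : Ideal S) (hm : m.IsMaximal), haveI := hm.isPrime; Algebra.IsSmoothAt K m := by
    intro m hm
    haveI hmp : m.IsPrime := hm.isPrime
    rw [Groth.Agent.S2091.result]
    let L := Localization.AtPrime m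
    haveI : Algebra.EssFiniteType K L := Algebra.EssFiniteType.comp K S L
    haveI : Module.Finite L (KaehlerDifferential K L) := inferInstance
    haveI : Module.Free L (KaehlerDifferential K L) :=
      (Module.mem_freeLocus_of_isLocalization ⟨m, inferInstance⟩ L _ (KaehlerDifferential.map K K S L)).1
        (by rw [Module.freeLocus_eq_univ]; trivial)
    haveI : IsNoetherianRing L := IsLocalization.isNoetherianRing m.primeCompl _ inferInstance
    refine (Groth.Agent.S7767.result K L ?_ _
      (Module.finBasis L (KaehlerDifferential K L)).equivFun).1
    letI : Field (S ⧸ m) := Ideal.Quotient.field m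
    haveI : Algebra.FiniteType K (S ⧸ m) := inferInstance
    haveI : Module.Finite K (S ⧸ m) := finite_of_finite_type_of_isJacobsonRing K (S ⧸ m)
    haveI : Algebra.IsAlgebraic K (S ⧸ m) := Algebra.IsAlgebraic.of_finite K (S ⧸ m)
    have h1 : Function.Surjective (algebraMap K (S ⧸ m)) :=
      IsAlgClosed.algebraMap_bijective_of_isIntegral.2
    intro z
    obtain ⟨z, rfl⟩ := IsLocalRing.residue_surjective z
    obtain ⟨s, ⟨t, ht⟩, rfl⟩ := IsLocalization.exists_mk'_eq m.primeCompl z
    obtain ⟨c, hc⟩ := h1 (Ideal.Quotient.mk m s)
    obtain ⟨d, hd⟩ := h1 (Ideal.Quotient.mk m t)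
    have hd0 : d ≠ 0 := fun h => ht (Ideal.Quotient.eq_zero_iff_mem.1 (by rw [← hd, h, map_zero]))
    refine ⟨c / d, ?_⟩
    have hbar : ∀ (e : K) (x : S), algebraMap K (S ⧸ m) e = Ideal.Quotient.mk m x →
        algebraMap K (IsLocalRing.ResidueField L) e = IsLocalRing.residue L (algebraMap S L x) := by
      intro e x hex
      rw [← Ideal.Quotient.mk_algebraMap, Ideal.Quotient.eq] at hex
      show IsLocalRing.residue L (algebraMap S L (algebraMap K S e)) = _
      rw [← sub_eq_zero, ← map_sub, ← map_sub, IsLocalRing.residue_eq_zero_iff,
        IsLocalization.AtPrime.to_map_mem_maximal_iff L m]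
      exact hex
    have hunit := (IsLocalization.map_units L (⟨t, ht⟩ : m.primeCompl)).map (IsLocalRing.residue L)
    rw [map_div₀, hbar c s hc, hbar d t hd, div_eq_iff hunit.ne_zero, ← map_mul, IsLocalization.mk'_spec]
  have huniv : Algebra.smoothLocus K S = Set.univ := by
    rw [Set.eq_univ_iff_forall]
    intro P
    obtain ⟨m, hm, hPm⟩ := Ideal.exists_le_maximal P.asIdeal P.isPrime.ne_top
    haveI := hm
    exact ((PrimeSpectrum.le_iff_specializes P ⟨m, inferInstance⟩).1 hPm).mem_open
      Algebra.isOpen_smoothLocus (hmax m hm)
  haveI : Algebra.FormallySmooth K S := Algebra.smoothLocus_eq_univ_iff.1 huniv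
  haveI : Algebra.Smooth K S := ⟨inferInstance, inferInstance⟩
  infer_instance

/-- Let k be a field of characteristic zero, A a k-algebra of finite type and q a prime of A. Then A is
smooth over k at q if and only if the module of differentials of the local ring A_q over k is free. -/
theorem result (k A : Type u) [Field k] [CharZero k] [CommRing A]
    [Algebra k A] [Algebra.FiniteType k A] (q : Ideal A) [q.IsPrime] :
    Algebra.IsSmoothAt k q ↔
      Module.Free (Localization.AtPrime q) (KaehlerDifferential k (Localization.AtPrime q)) := by
  classical
  haveI : Algebra.EssFiniteType k A := inferInstance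
  constructor
  · intro h
    haveI : Algebra.FormallySmooth k (Localization.AtPrime q) := h
    haveI : Algebra.EssFiniteType k (Localization.AtPrime q) := Algebra.EssFiniteType.comp k A _
    haveI : Module.Finite (Localization.AtPrime q) (KaehlerDifferential k (Localization.AtPrime q)) := inferInstance
    exact Module.free_of_flat_of_isLocalRing
  · intro hfree
    haveI : Algebra.FinitePresentation k A := Algebra.FinitePresentation.of_finiteType.1 inferInstance
    haveI : IsNoetherianRing A := Algebra.FiniteType.isNoetherianRing k A
    haveI : Module.FinitePresentation A (KaehlerDifferential k A) := Module.finitePresentation_of_finite A _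
    have hq : (⟨q, inferInstance⟩ : PrimeSpectrum A) ∈ Module.freeLocus A (KaehlerDifferential k A) :=
      (Module.mem_freeLocus_of_isLocalization _ (Localization.AtPrime q) _
        (KaehlerDifferential.map k k A (Localization.AtPrime q))).2 hfree
    obtain ⟨_, ⟨f, rfl⟩, hqf, hf⟩ := PrimeSpectrum.isTopologicalBasis_basic_opens.exists_subset_of_mem_open hq Module.isOpen_freeLocus
    let T := Localization.Away f
    haveI : Algebra.FiniteType A T := IsLocalization.finiteType_of_monoid_fg (.powers f) T
    haveI : Algebra.FiniteType k T := Algebra.FiniteType.trans (S := A) inferInstance inferInstance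
    haveI hprojT : Module.Projective T (KaehlerDifferential k T) := by
      haveI := Module.basicOpen_subset_freeLocus_iff.1 hf
      exact Module.Projective.of_equiv
        ((IsLocalizedModule.iso (.powers f) (KaehlerDifferential.map k k A T)).extendScalarsOfIsLocalization (.powers f) T)
    let K := AlgebraicClosure k
    haveI : CharZero K := charZero_of_injective_algebraMap (algebraMap k K).injective
    haveI : Algebra.Smooth K (TensorProduct k K T) := smooth_tensor k K T
    haveI : Algebra.Smooth k T := Algebra.Smooth.of_smooth_tensorProduct_of_faithfullyFlat (R := k) (T := K)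
    haveI : Algebra.FinitePresentation k T := inferInstance
    exact (Algebra.basicOpen_subset_smoothLocus_iff_smooth (R := k) (A := A) (f := f)).2 inferInstance hqf

end Groth.Agent.S5000
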