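import Groth.Statements.S5001
import Groth.Agent.EtFieldCrit.Param
-- import your own Groth.Agent.* helpers here

set_option autoImplicit false
universe u
open Unram17

namespace Groth.Agent.S5001

/-- Let k be a field, A a k-algebra of finite type equipped with a k-algebra map from the polynomial
ring in n variables, with images g_i of the variables, and p a prime of A such that Spec A has local
dimension n at p, the residue field of p is a finite separable extension of k, and every g_i lies in
p. Then A is etale over the polynomial ring at p if and only if the images of the g_i generate the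
maximal ideal of the local ring A_p. -/
theorem result (k A : Type u) [Field k] [CommRing A] [Algebra k A]
    [Algebra.FiniteType k A] (n : ℕ) [Algebra (MvPolynomial (Fin n) k) A]
    [IsScalarTower k (MvPolynomial (Fin n) k) A] (p : Ideal A) [p.IsPrime]
    (hn : FlatMor.localDim (PrimeSpectrum A) ⟨p, inferInstance⟩ = (n : WithBot ℕ∞))
    [Module.Finite k p.ResidueField] [Algebra.IsSeparable k p.ResidueField]
    (hg : ∀ i : Fin n, algebraMap (MvPolynomial (Fin n) k) A (MvPolynomial.X i) ∈ p) :
    Algebra.IsEtaleAt (MvPolynomial (Fin n) k) p ↔
      Ideal.span (Set.range fun i : Fin n =>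
        algebraMap A (Localization.AtPrime p) (algebraMap (MvPolynomial (Fin n) k) A (MvPolynomial.X i))) =
        IsLocalRing.maximalIdeal (Localization.AtPrime p) := by
  classical
  haveI : Algebra.EssFiniteType A (Localization.AtPrime p) :=
    Algebra.EssFiniteType.of_isLocalization (Localization.AtPrime p) p.primeCompl
  haveI : Algebra.EssFiniteType k (Localization.AtPrime p) := Algebra.EssFiniteType.comp k A _
  simp only [← IsScalarTower.algebraMap_apply (MvPolynomial (Fin n) k) A (Localization.AtPrime p)]
  haveI : Algebra.FormallyUnramified k p.ResidueField := Algebra.FormallyUnramified.of_isSeparable k _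
  have ht : Algebra.trdeg k (A ⧸ p) = (0 : ℕ) := by
    rw [DimFormulaLib.trdeg_residueField k p, trdeg_eq_zero, Nat.cast_zero]
  obtain ⟨a, ha, hd, -⟩ := DimFormulaLib.localDim_eq_height_add k A ⟨p, inferInstance⟩ 0 ht
  rw [hn] at hd
  have han : n = a := by exact_mod_cast hd
  have hr : ringKrullDim (Localization.AtPrime p) = (n : WithBot ℕ∞) := by
    rw [IsLocalization.AtPrime.ringKrullDim_eq_height p, show p.height = a from ha, han]
    rfl
  constructor
  · intro h
    have h1 := EtFieldCrit.span_eq_maximalIdeal_of_isEtaleAt k A n n p hn hr (fun i _ => hg i) h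
    rwa [show {i : Fin n | (i : ℕ) < n} = Set.univ from Set.eq_univ_of_forall fun i => i.2, Set.image_univ] at h1
  · intro h1
    refine (EtFieldCrit.isEtaleAt_iff_span k A n p hn).2
      (EtFieldCrit.span_dX_eq_top_of_param k n (Localization.AtPrime p) Set.univ (by rw [Set.image_univ]; exact h1) ?_)
    haveI : Subsingleton (KaehlerDifferential k p.ResidueField) :=
      (Algebra.formallyUnramified_iff k p.ResidueField).1 inferInstance
    exact Submodule.eq_top_iff'.2 fun z => by
      rw [Subsingleton.elim z 0]; exact zero_mem _

end Groth.Agent.S5001
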