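import Mathlib
import Mathlib
import Groth.Statements.S5006

set_option autoImplicit false
universe u
open Nrm16

namespace Groth.Agent.S5006

/-- Let A be a commutative ring, I a finitely generated ideal and p a prime ideal containing I. Then
some basic open neighbourhood of p in Spec A is contained in the closed set V(I) (so that V(I) ⟶
Spec A is a local homeomorphism onto an open set near p) if and only if there is an integer n > 0
with I^n A_p = I^(n+1) A_p in the local ring at p. Affine form. -/
theorem result (A : Type u) [CommRing A] (I : Ideal A) (hI : I.FG)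
    (p : Ideal A) [p.IsPrime] (hp : I ≤ p) :
    (∃ f : A, f ∉ p ∧ ∀ q : Ideal A, q.IsPrime → f ∉ q → I ≤ q) ↔
      ∃ n : ℕ, 0 < n ∧
        (I ^ n).map (algebraMap A (Localization.AtPrime p)) =
          (I ^ (n + 1)).map (algebraMap A (Localization.AtPrime p)) := by
  constructor
  · rintro ⟨g, hgp, hg⟩
    have hnil : I.map (algebraMap A (Localization.Away g)) ≤ nilradical (Localization.Away g) := by
      rw [nilradical_eq_sInf]
      refine le_sInf fun P hP => Ideal.map_le_iff_le_comap.2 (hg _ (Ideal.IsPrime.comap (hK := hP) _) fun hmem => ?_)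
      exact hP.ne_top (Ideal.eq_top_of_isUnit_mem _ hmem
        (IsLocalization.map_units (Localization.Away g) (⟨g, Submonoid.mem_powers g⟩ : Submonoid.powers g)))
    obtain ⟨N, hN⟩ := Ideal.exists_pow_le_of_le_radical_of_fg hnil (hI.map _)
    refine ⟨N + 1, Nat.succ_pos _, ?_⟩
    have h0 : ∀ m, N ≤ m → (I ^ m).map (algebraMap A (Localization.AtPrime p)) = ⊥ := fun m hm => by
      rw [eq_bot_iff, Ideal.map_le_iff_le_comap]
      intro x hx
      have hx' : algebraMap A (Localization.Away g) x = 0 := by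
        have := Ideal.mem_map_of_mem (algebraMap A (Localization.Away g)) (Ideal.pow_le_pow_right hm hx)
        rw [Ideal.map_pow] at this
        exact (Submodule.mem_bot _).1 (hN this)
      obtain ⟨⟨s, k, rfl⟩, hs⟩ := (IsLocalization.map_eq_zero_iff (Submonoid.powers g) _ x).1 hx'
      rw [Ideal.mem_comap, Submodule.mem_bot, IsLocalization.map_eq_zero_iff p.primeCompl]
      exact ⟨⟨g ^ k, fun hgk => hgp (Ideal.IsPrime.mem_of_pow_mem inferInstance k hgk)⟩, hs⟩
    rw [h0 (N + 1) (Nat.le_succ N), h0 (N + 1 + 1) (by omega)]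
  · rintro ⟨n, hn, heq⟩
    have hfg : ((I ^ n).map (algebraMap A (Localization.AtPrime p))).FG := (hI.pow).map _
    have hbot : (I ^ n).map (algebraMap A (Localization.AtPrime p)) = ⊥ := by
      refine Submodule.eq_bot_of_le_smul_of_le_jacobson_bot (I.map (algebraMap A (Localization.AtPrime p))) _ hfg ?_ ?_
      · conv_lhs => rw [heq]
        rw [pow_succ', Ideal.map_mul, smul_eq_mul]
      · rw [IsLocalRing.jacobson_eq_maximalIdeal ⊥ bot_ne_top, ← Localization.AtPrime.map_eq_maximalIdeal]
        exact Ideal.map_mono hp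
    have key : ∀ J : Ideal A, J.FG → J.map (algebraMap A (Localization.AtPrime p)) = ⊥ →
        ∃ g, g ∉ p ∧ ∀ x ∈ J, g * x = 0 := fun J hJ hJ0 => by
      induction J, hJ using Submodule.fg_induction with
      | singleton a =>
        have h : algebraMap A (Localization.AtPrime p) a = 0 :=
          (Submodule.mem_bot _).1 (hJ0 ▸ Ideal.mem_map_of_mem _ (Submodule.mem_span_singleton_self a))
        obtain ⟨⟨s, hs⟩, hsa⟩ := (IsLocalization.map_eq_zero_iff p.primeCompl _ a).1 h
        refine ⟨s, hs, fun x hx => ?_⟩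
        obtain ⟨c, rfl⟩ := Submodule.mem_span_singleton.1 hx
        rw [smul_eq_mul, mul_left_comm, hsa, mul_zero]
      | sup J₁ J₂ h₁ h₂ ih₁ ih₂ =>
        rw [Ideal.map_sup, sup_eq_bot_iff] at hJ0
        obtain ⟨g₁, hg₁, hg₁'⟩ := ih₁ hJ0.1
        obtain ⟨g₂, hg₂, hg₂'⟩ := ih₂ hJ0.2
        refine ⟨g₁ * g₂, fun h => ((Ideal.IsPrime.mem_or_mem inferInstance h).elim hg₁ hg₂), fun x hx => ?_⟩
        obtain ⟨y, hy, z, hz, rfl⟩ := Submodule.mem_sup.1 hx
        rw [mul_add, mul_right_comm, hg₁' y hy, zero_mul, mul_assoc, hg₂' z hz, mul_zero, add_zero]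
    obtain ⟨g, hgp, hg⟩ := key (I ^ n) hI.pow hbot
    refine ⟨g, hgp, fun q hq hgq => ?_⟩
    intro x hx
    refine hq.mem_of_pow_mem n ((hq.mem_or_mem ?_).resolve_left hgq)
    rw [hg _ (Ideal.pow_mem_pow hx n)]
    exact zero_mem _

end Groth.Agent.S5006
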