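import Groth.Statements.S5010
import Groth.Agent.DiffSmLib.Basis
import Groth.Agent.DiffSmLib.DividedPower
import Groth.Agent.S3820

set_option autoImplicit false
universe u
open PP16

namespace Groth.Agent.S5010

open CategoryTheory CategoryTheory.Limits AlgebraicGeometry

open TensorProduct MvPolynomial in
theorem core (k : Type u) [Field k] (r n : ℕ) (R : Type u) [CommRing R] [Algebra k R]
    [Algebra (MvPolynomial (Fin r) k) R] [IsScalarTower k (MvPolynomial (Fin r) k) R]
    (M : Submonoid (MvPolynomial (Fin r) k)) [IsLocalization M R] :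
    Function.Surjective (aeval (R := R) (S₁ := PP16.P n k R) (fun i : Fin r =>
        PP16.dn n k R (algebraMap (MvPolynomial (Fin r) k) R (X i)) -
          algebraMap R (PP16.P n k R) (algebraMap (MvPolynomial (Fin r) k) R (X i)))) ∧
    RingHom.ker (aeval (R := R) (S₁ := PP16.P n k R) (fun i : Fin r =>
        PP16.dn n k R (algebraMap (MvPolynomial (Fin r) k) R (X i)) -
          algebraMap R (PP16.P n k R) (algebraMap (MvPolynomial (Fin r) k) R (X i)))).toRingHom =
      Ideal.span (Set.range (X : Fin r → MvPolynomial (Fin r) R)) ^ (n + 1) := by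
  classical
  let I := KaehlerDifferential.ideal k R
  haveI : Algebra.FormallySmooth (MvPolynomial (Fin r) k) R := Algebra.FormallySmooth.of_isLocalization M
  haveI : Algebra.FormallyEtale (MvPolynomial (Fin r) k) R := Algebra.FormallyEtale.of_isLocalization M
  haveI : Algebra.FormallySmooth k R := Algebra.FormallySmooth.comp k (MvPolynomial (Fin r) k) R
  have hsm : PP16.IsDiffSmooth k R := S3820.result k R
  let b := ((KaehlerDifferential.mvPolynomialBasis k (Fin r)).baseChange R).map
    (KaehlerDifferential.tensorKaehlerEquivOfFormallyEtale k (MvPolynomial (Fin r) k) R)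
  let z : Fin r → R := fun i => algebraMap (MvPolynomial (Fin r) k) R (X i)
  have hb : ∀ i, b i = KaehlerDifferential.D k R (z i) := fun i => by
    rw [Module.Basis.map_apply, Module.Basis.baseChange_apply, KaehlerDifferential.mvPolynomialBasis_apply,
      KaehlerDifferential.tensorKaehlerEquivOfFormallyEtale_apply, KaehlerDifferential.mapBaseChange_tmul, one_smul,
      KaehlerDifferential.map_D]
  let y : Fin r → R ⊗[k] R := fun i => (1 : R) ⊗ₜ[k] z i - z i ⊗ₜ[k] (1 : R)
  have hy : ∀ i, y i ∈ I := fun i => KaehlerDifferential.one_smul_sub_smul_one_mem_ideal k (z i)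
  have hby : ∀ i, (I.toCotangent ⟨y i, hy i⟩ : KaehlerDifferential k R) = b i := fun i =>
    ((hb i).trans (KaehlerDifferential.D_apply k R (z i))).symm
  set F := aeval (R := R) (S₁ := PP16.P n k R) (fun i : Fin r =>
        PP16.dn n k R (algebraMap (MvPolynomial (Fin r) k) R (X i)) -
          algebraMap R (PP16.P n k R) (algebraMap (MvPolynomial (Fin r) k) R (X i))) with hF
  have hFy : ∀ p, F p = Ideal.Quotient.mk (I ^ (n + 1)) (DiffSmLib.evy y p) := fun p => by
    refine AlgHom.congr_fun (show F = (Ideal.Quotient.mkₐ R (I ^ (n + 1))).comp (DiffSmLib.evy y) from ?_) p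
    refine MvPolynomial.algHom_ext fun i => ?_
    rw [hF, aeval_X, AlgHom.comp_apply, DiffSmLib.evy, aeval_X]
    rfl
  refine ⟨fun w => ?_, ?_⟩
  · obtain ⟨x, rfl⟩ := Ideal.Quotient.mk_surjective w
    obtain ⟨P, -, hP⟩ := DiffSmLib.exists_poly_sub_mem hy (by
      rw [show (fun i => (I.toCotangent ⟨y i, hy i⟩ : KaehlerDifferential k R)) = b from funext hby]
      exact b.span_eq) 0 (n + 1) x (by simp)
    exact ⟨P, (hFy P).trans (Ideal.Quotient.eq.2 (by
      rw [← neg_sub]; exact neg_mem (by simpa using hP)))⟩
  · have hle : ∀ q ∈ MvPolynomial.idealOfVars (Fin r) R ^ (n + 1), DiffSmLib.evy y q ∈ I ^ (n + 1) := fun q hq => by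
      have h1 := Ideal.mem_map_of_mem (DiffSmLib.evy y) hq
      rw [Ideal.map_pow] at h1
      refine Ideal.pow_right_mono ?_ _ h1
      rw [MvPolynomial.idealOfVars, Ideal.map_span, Ideal.span_le]
      rintro _ ⟨_, ⟨i, rfl⟩, rfl⟩
      rw [DiffSmLib.evy, aeval_X]
      exact hy i
    refine le_antisymm (fun p hp => ?_) (fun p hp => ?_)
    swap
    · show F p = 0
      rw [hFy, Ideal.Quotient.eq_zero_iff_mem]
      exact hle p hp
    replace hp : DiffSmLib.evy y p ∈ I ^ (n + 1) := by
      rw [← Ideal.Quotient.eq_zero_iff_mem, ← hFy]; exact hp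
    let L : MvPolynomial (Fin r) R := ∑ d ∈ p.support.filter (fun d => d.degree ≤ n), monomial d (p.coeff d)
    have hpL : p - L ∈ MvPolynomial.idealOfVars (Fin r) R ^ (n + 1) := by
      rw [MvPolynomial.mem_pow_idealOfVars_iff']
      intro d hd
      simp only [L, coeff_sub, coeff_sum, coeff_monomial, Finset.sum_ite_eq', Finset.mem_filter, mem_support_iff]
      split_ifs with h
      · exact sub_self _
      · rw [sub_zero]
        exact not_not.1 fun h0 => h ⟨h0, by omega⟩
    have hL : DiffSmLib.evy y L ∈ I ^ (n + 1) := by
      have := sub_mem hp (hle _ hpL)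
      rwa [map_sub, sub_sub_cancel] at this
    have hdeg : L.totalDegree ≤ n := (totalDegree_finsetSum _ _).trans (Finset.sup_le fun d hd =>
      (totalDegree_monomial_le _ _).trans (by
        have := (Finset.mem_filter.1 hd).2
        rw [Finsupp.degree_apply] at this
        exact this))
    rw [DiffSmLib.eq_zero_of_evy_mem hy (DiffSmLib.eq_zero_of_isDiffSmooth hsm b y hy hby) L hdeg hL, sub_zero] at hpL
    exact hpL


/-- Let k be a field and K the field of fractions of the polynomial ring k[T_1, ..., T_r]. For every n,
the K-algebra map from the polynomial ring K[U_1, ..., U_r] to the ring of principal parts of order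
n of K over k (a K-algebra through the first factor) that sends U_i to d^n(T_i) − T_i · 1 is
surjective, and its kernel is the (n+1)-st power of the ideal generated by the U_i. -/
theorem result (k : Type u) [Field k] (r n : ℕ) :
    Function.Surjective
        (MvPolynomial.aeval (R := FractionRing (MvPolynomial (Fin r) k))
          (S₁ := PP16.P n k (FractionRing (MvPolynomial (Fin r) k)))
          (fun i : Fin r =>
            PP16.dn n k (FractionRing (MvPolynomial (Fin r) k))
                (algebraMap (MvPolynomial (Fin r) k) (FractionRing (MvPolynomial (Fin r) k)) (MvPolynomial.X i)) -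
              algebraMap (FractionRing (MvPolynomial (Fin r) k)) (PP16.P n k (FractionRing (MvPolynomial (Fin r) k)))
                (algebraMap (MvPolynomial (Fin r) k) (FractionRing (MvPolynomial (Fin r) k)) (MvPolynomial.X i)))) ∧
      RingHom.ker
          (MvPolynomial.aeval (R := FractionRing (MvPolynomial (Fin r) k))
            (S₁ := PP16.P n k (FractionRing (MvPolynomial (Fin r) k)))
            (fun i : Fin r =>
              PP16.dn n k (FractionRing (MvPolynomial (Fin r) k))
                  (algebraMap (MvPolynomial (Fin r) k) (FractionRing (MvPolynomial (Fin r) k)) (MvPolynomial.X i)) -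
                algebraMap (FractionRing (MvPolynomial (Fin r) k)) (PP16.P n k (FractionRing (MvPolynomial (Fin r) k)))
                  (algebraMap (MvPolynomial (Fin r) k) (FractionRing (MvPolynomial (Fin r) k)) (MvPolynomial.X i)))).toRingHom =
        (Ideal.span (Set.range (MvPolynomial.X : Fin r → MvPolynomial (Fin r) (FractionRing (MvPolynomial (Fin r) k))))) ^ (n + 1) := by
  exact core k r n (FractionRing (MvPolynomial (Fin r) k)) (nonZeroDivisors _)

end Groth.Agent.S5010
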