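import Groth.Statements.S5012
import Groth.Agent.FieldExtLib.Separable
import Groth.Agent.RegHomLib.Basic
import Groth.Agent.NagataCompleteLib.QuasiExcellent
-- import your own Groth.Agent.* helpers here

set_option autoImplicit false
universe u
open Unram17

namespace Groth.Agent.S5012

/-- Let A be an algebra of finite type over a field k. Then Spec A has a dense open subset consisting of
points at which A is smooth over k if and only if, for every minimal prime p of A, the local ring
A_p is geometrically reduced over k (that is, A_p is a field and a separable extension of k). -/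
theorem result (k A : Type u) [Field k] [CommRing A] [Algebra k A]
    [Algebra.FiniteType k A] :
    (∃ U : TopologicalSpace.Opens (PrimeSpectrum A), Dense (U : Set (PrimeSpectrum A)) ∧
        ∀ p ∈ U, Algebra.IsSmoothAt k p.asIdeal) ↔
      ∀ (p : Ideal A) [p.IsPrime], p ∈ minimalPrimes A →
        Algebra.IsGeometricallyReduced k (Localization.AtPrime p) := by
  haveI : IsNoetherianRing A := Algebra.FiniteType.isNoetherianRing k A
  haveI : Algebra.FinitePresentation k A := Algebra.FinitePresentation.of_finiteType.1 inferInstance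
  have hfield : ∀ (p : Ideal A) [p.IsPrime], p ∈ minimalPrimes A → IsReduced (Localization.AtPrime p) →
      IsField (Localization.AtPrime p) := fun p _ hp hred => by
    haveI := hred
    haveI : Ring.KrullDimLE 0 (Localization.AtPrime p) := by
      refine (Ring.krullDimLE_iff).2 ?_
      rw [IsLocalization.AtPrime.ringKrullDim_eq_height p, (Ideal.height_eq_zero_iff).2 hp]
      rfl
    exact Ring.KrullDimLE.isField_of_isReduced
  constructor
  · rintro ⟨U, hd, hU⟩ P _ hP
    classical
    have hfin : (minimalPrimes A).Finite := minimalPrimes.finite_of_isNoetherianRing A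
    have hex : ∀ Q : Ideal A, ∃ g ∉ P, Q ∈ minimalPrimes A → Q ≠ P → g ∈ Q := fun Q => by
      by_cases h : Q ∈ minimalPrimes A ∧ Q ≠ P
      · obtain ⟨g, hg, hgP⟩ := SetLike.not_le_iff_exists.1 (fun hle : Q ≤ P =>
          h.2 (le_antisymm hle (hP.2 ⟨h.1.1.1, bot_le⟩ hle)))
        exact ⟨g, hgP, fun _ _ => hg⟩
      · exact ⟨1, fun h1 => Ideal.IsPrime.ne_top ‹P.IsPrime› ((Ideal.eq_top_iff_one _).2 h1), fun h1 h2 => absurd ⟨h1, h2⟩ h⟩
    choose g hg hgQ using hex
    let f := ∏ Q ∈ hfin.toFinset, g Q
    have hf : f ∉ P := fun h => by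
      obtain ⟨Q, -, hQ⟩ := Ideal.IsPrime.prod_mem_iff.1 h
      exact hg Q hQ
    obtain ⟨x, hx, hxU⟩ := hd.inter_open_nonempty _ (PrimeSpectrum.basicOpen f).isOpen ⟨⟨P, inferInstance⟩, hf⟩
    have hPx : P ≤ x.asIdeal := by
      obtain ⟨Q, hQ, hQx⟩ := Ideal.exists_minimalPrimes_le (bot_le : ⊥ ≤ x.asIdeal)
      by_contra hne
      exact hx (hQx (Q.mem_of_dvd (Finset.dvd_prod_of_mem g (hfin.mem_toFinset.2 hQ))
        (hgQ Q hQ fun e => hne (e ▸ hQx))))
    have hs : Algebra.IsSmoothAt k P := hU ⟨P, inferInstance⟩
      (U.isOpen.stableUnderGeneralization ((PrimeSpectrum.le_iff_specializes ⟨P, inferInstance⟩ x).1 hPx) hxU)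
    obtain ⟨h, hhP, hsm⟩ := Algebra.IsSmoothAt.exists_notMem_smooth (R := k) (A := A) (p := P)
    haveI : IsRegularRing (Localization.Away h) := RegHomLib.isRegularRing_of_smooth k _
    haveI : IsReduced (Localization.Away h) := NagataCompleteLib.isReduced_of_isRegularRing _
    have hle : Submonoid.powers h ≤ P.primeCompl := Submonoid.powers_le.2 hhP
    letI := IsLocalization.localizationAlgebraOfSubmonoidLe (Localization.Away h) (Localization.AtPrime P) _ _ hle
    haveI := IsLocalization.localization_isScalarTower_of_submonoid_le (Localization.Away h) (Localization.AtPrime P) _ _ hle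
    haveI := IsLocalization.isLocalization_of_submonoid_le (Localization.Away h) (Localization.AtPrime P) _ _ hle
    haveI : IsReduced (Localization.AtPrime P) :=
      isReduced_localizationPreserves (P.primeCompl.map (algebraMap A (Localization.Away h))) (Localization.AtPrime P) inferInstance
    letI := (hfield P hP inferInstance).toField
    exact FieldExtLib.formallySmooth_iff_isGeometricallyReduced.1 hs
  · intro H
    refine ⟨⟨Algebra.smoothLocus k A, Algebra.isOpen_smoothLocus⟩, fun x => ?_, fun p hp => hp⟩
    obtain ⟨P, hP, hPx⟩ := Ideal.exists_minimalPrimes_le (bot_le : ⊥ ≤ x.asIdeal)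
    haveI := hP.1.1
    haveI := H P hP
    haveI : IsReduced (Localization.AtPrime P) := Algebra.isReduced_of_isGeometricallyReduced k
    letI := (hfield P hP inferInstance).toField
    have hPs : (⟨P, inferInstance⟩ : PrimeSpectrum A) ∈ Algebra.smoothLocus k A :=
      FieldExtLib.formallySmooth_iff_isGeometricallyReduced.2 inferInstance
    exact ((PrimeSpectrum.le_iff_specializes ⟨P, inferInstance⟩ x).1 hPx).mem_closed isClosed_closure (subset_closure hPs)

end Groth.Agent.S5012
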