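import Groth.Statements.S5013
import Groth.Agent.GeomRegFibLib.Basic
import Groth.Agent.S3408
import Groth.Agent.S2595
import Groth.Agent.S4939

set_option autoImplicit false
universe u
open CategoryTheory CategoryTheory.Limits AlgebraicGeometry TopologicalSpace
open Unram17

namespace Groth.Agent.S5013

/-- Let Y be locally Noetherian, f : X ⟶ Y locally of finite type, x a point of X with image y, and
suppose the local ring of Y at y is reduced and geometrically unibranch. Then f is smooth on an open
neighbourhood of x if and only if f is equidimensional at x and the local ring of the fibre at x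
(the quotient of the local ring of X at x by the extension of the maximal ideal at y) is
geometrically regular over the residue field κ(y). -/
theorem result {X Y : Scheme.{u}} (f : X ⟶ Y)
    [IsLocallyNoetherian Y] [LocallyOfFiniteType f] (x : ↥X)
    (hred : IsReduced ↑(Y.presheaf.stalk (f.base x)))
    (hgu : CAlg2.IsGeomUnibranch ↑(Y.presheaf.stalk (f.base x))) :
    letI φ := (f.stalkMap x).hom
    letI 𝔪 := IsLocalRing.maximalIdeal ↑(Y.presheaf.stalk (f.base x))
    letI : Algebra (IsLocalRing.ResidueField ↑(Y.presheaf.stalk (f.base x))) (↑(X.presheaf.stalk x) ⧸ 𝔪.map φ) :=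
      (Ideal.quotientMap (𝔪.map φ) φ Ideal.le_comap_map).toAlgebra
    (∃ U : X.Opens, x ∈ U ∧ Smooth (U.ι ≫ f)) ↔
      EGA43.IsEquidimAt f x ∧
        CAlg.IsGeometricallyRegular (IsLocalRing.ResidueField ↑(Y.presheaf.stalk (f.base x)))
          (↑(X.presheaf.stalk x) ⧸ 𝔪.map φ) := by
  haveI : LocallyOfFinitePresentation f := inferInstance
  rw [GeomRegFibLib.exists_nhd_smooth_iff f x, GeomRegFibLib.mem_smoothLocus_iff f x]
  refine ⟨fun h => ⟨?_, h.2⟩, fun ⟨he, hg⟩ => ⟨?_, hg⟩⟩
  · haveI := GeomRk.lfp_fibre f (f.base x)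
    haveI := GeomRegFibLib.isRegularLocalRing_of_mem_smoothLocus (k := Y.residueField (f x))
      (f.fiberToSpecResidueField (f x)) ((GeomRegFibLib.fibSm_iff_geometricallyRegular f x).2 h.2)
    exact Groth.Agent.S2595.result f x h.1
      (GorLib.isCohenMacaulay _ (GorLib.gorensteinLocal_of_regular _))
  · obtain ⟨U, hxU, hU, -⟩ := Groth.Agent.S3408.result f x
      (((Groth.Agent.S4939.result f x hgu).out 0 2
        (a := EGA43.IsEquidimAt f x)
        (b := EGA4.IsEquidim (X.presheaf.stalk x) ∧ (∀ z : ↥(f.fiber (f.base x)), f.asFiber x ∈ closure {z} →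
          (∀ z' : ↥(f.fiber (f.base x)), z ∈ closure {z'} → z' = z) →
          EGA43.IsUnivOpenAt f ((f.fiberι (f.base x)).base z)))).1 he).2
      (GeomRegFibLib.isGeomReducedAt_fibre f x ((GeomRegFibLib.fibSm_iff_geometricallyRegular f x).2 hg)) hred
    exact GeomRegFibLib.flat_stalkMap_of_nhd f U x hxU

end Groth.Agent.S5013
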