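import Groth.Statements.S5014
import Groth.Agent.EtAlgEasy.SmoothRel
-- import your own Groth.Agent.* helpers here

set_option autoImplicit false
universe u
open Unram17

namespace Groth.Agent.S5014

/-- Let C be a smooth algebra over a commutative ring A, equipped with an A-algebra map from the
polynomial ring in r variables (images s_i of the variables), and let q be a prime of C. Then C is
etale at q over the polynomial ring if and only if the differentials of the s_i are linearly
independent and generate the module of differentials of the local ring C_q over A, i.e. form a basis
of it. -/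
theorem result (A C : Type u) [CommRing A] [CommRing C]
    [Algebra A C] [Algebra.Smooth A C] (r : ℕ) [Algebra (MvPolynomial (Fin r) A) C]
    [IsScalarTower A (MvPolynomial (Fin r) A) C] (q : Ideal C) [q.IsPrime] :
    Algebra.IsEtaleAt (MvPolynomial (Fin r) A) q ↔
      LinearIndependent (Localization.AtPrime q)
          (fun i : Fin r => KaehlerDifferential.D A (Localization.AtPrime q)
            (algebraMap C (Localization.AtPrime q) (algebraMap (MvPolynomial (Fin r) A) C (MvPolynomial.X i)))) ∧
        Submodule.span (Localization.AtPrime q)
          (Set.range fun i : Fin r => KaehlerDifferential.D A (Localization.AtPrime q)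
            (algebraMap C (Localization.AtPrime q) (algebraMap (MvPolynomial (Fin r) A) C (MvPolynomial.X i)))) = ⊤ := by
  classical
  let L := Localization.AtPrime q
  let P := MvPolynomial (Fin r) A
  haveI : Algebra.FormallySmooth A L :=
    Algebra.FormallySmooth.comp A C L
  rw [show Algebra.IsEtaleAt P q ↔ Function.Bijective (KaehlerDifferential.mapBaseChange A P L) from
    EtAlgEasy.formallyEtale_iff_bijective (R := A) (S := P)]
  let b := Algebra.TensorProduct.basis L (KaehlerDifferential.mvPolynomialBasis A (Fin r))
  let v : Fin r → KaehlerDifferential A L := fun i => KaehlerDifferential.D A L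
    (algebraMap C L (algebraMap P C (MvPolynomial.X i)))
  have hv : ∀ i, KaehlerDifferential.mapBaseChange A P L (b i) = v i := fun i => by
    simp only [b, v, Algebra.TensorProduct.basis_apply]
    rw [← IsScalarTower.algebraMap_apply P C L, KaehlerDifferential.mvPolynomialBasis_apply]
    exact (KaehlerDifferential.mapBaseChange_tmul A P L _ _).trans
      (by rw [one_smul, KaehlerDifferential.map_D])
  have hc : (KaehlerDifferential.mapBaseChange A P L) = (Finsupp.linearCombination L v).comp b.repr.toLinearMap :=
    b.ext fun i => by rw [hv]; simp
  show Function.Bijective _ ↔ LinearIndependent L v ∧ Submodule.span L (Set.range v) = ⊤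
  rw [hc, LinearMap.coe_comp, LinearEquiv.coe_coe, b.repr.bijective.of_comp_iff]
  refine and_congr ?_ ?_
  · exact Iff.rfl
  · rw [← LinearMap.range_eq_top, Finsupp.range_linearCombination]

end Groth.Agent.S5014
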