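import Groth.Statements.S5023
import Groth.Agent.S9386
import Groth.Agent.ConormalLib.Split
-- import your own Groth.Agent.* helpers here

set_option autoImplicit false
universe u
open CategoryTheory CategoryTheory.Limits AlgebraicGeometry TopologicalSpace
open Nrm16

namespace Groth.Agent.S5023

/-- Let a : X ⟶ S and b : Y ⟶ S be morphisms and Z a fibre product of X and Y over S with projections p,
q and structure morphism h. Given sheaves of differentials (universal derivations) of X, Y and Z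
over S and the canonical compatible maps c₁ : p^*Ω_X ⟶ Ω_Z and c₂ : q^*Ω_Y ⟶ Ω_Z, the induced map
from the coproduct p^*Ω_X ⨿ q^*Ω_Y to Ω_Z is an isomorphism. -/
theorem result {X Y S Z : Scheme.{u}} (a : X ⟶ S) (b : Y ⟶ S)
    (p : Z ⟶ X) (q : Z ⟶ Y) (h : Z ⟶ S) (wp : p ≫ a = h) (wq : q ≫ b = h) (hZ : IsPullback p q a b)
    (ΩX : X.Modules) (dX : OmegaSh.Der a ΩX) (hX : OmegaSh.IsUniversal dX)
    (ΩY : Y.Modules) (dY : OmegaSh.Der b ΩY) (hY : OmegaSh.IsUniversal dY)
    (ΩZ : Z.Modules) (dZ : OmegaSh.Der h ΩZ) (hZu : OmegaSh.IsUniversal dZ)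
    (c₁ : (Scheme.Modules.pullback p).obj ΩX ⟶ ΩZ) (hc₁ : OmegaSh.IsDiffCompat p dX dZ c₁)
    (c₂ : (Scheme.Modules.pullback q).obj ΩY ⟶ ΩZ) (hc₂ : OmegaSh.IsDiffCompat q dY dZ c₂) :
    IsIso (coprod.desc c₁ c₂) := by
  subst wp
  have hw : (p ≫ a) = q ≫ b := wq.symm
  -- the cokernel of `c₁` carries the differentials over `X`
  let π := cokernel.π c₁
  let δ : OmegaSh.Der p (cokernel c₁) :=
    Groth.Agent.OmegaUnivLib.mkDer (fun U => ((Groth.Agent.OmegaUnivLib.comp dZ π).app U))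
      (fun U r s => Groth.Agent.OmegaUnivLib.app_mul _ U r s)
      (fun {U V} i s => Groth.Agent.OmegaUnivLib.app_res _ i s)
      (fun V s => by
        show π.app (p ⁻¹ᵁ V) (dZ.app (p ⁻¹ᵁ V) (p.app V s)) = 0
        rw [← hc₁ V s]
        exact congr($(cokernel.condition c₁).app (p ⁻¹ᵁ V) (OmegaSh.pullSect p ΩX V (dX.app V s))))
  have hδ : OmegaSh.IsUniversal δ := by
    intro F D
    let D' : OmegaSh.Der (p ≫ a) F := Groth.Agent.OmegaUnivLib.mkDer (fun U => D.app U)
      (fun U r s => Groth.Agent.OmegaUnivLib.app_mul _ U r s)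
      (fun {U V} i s => Groth.Agent.OmegaUnivLib.app_res _ i s)
      (fun V s => D.d_app (X := Opposite.op (a ⁻¹ᵁ V)) (a.app V s))
    obtain ⟨α, hα, huniq⟩ := hZu F D'
    have hαv : ∀ U s, α.app U (dZ.app U s) = D.app U s := fun U s =>
      congrArg (fun E : OmegaSh.Der (p ≫ a) F => E.app U s) hα
    have h0 : c₁ ≫ α = 0 := Groth.Agent.ConormalLib.hom_ext_pullback_omega p hX fun U s => by
      show α.app (p ⁻¹ᵁ U) (c₁.app (p ⁻¹ᵁ U) (OmegaSh.pullSect p ΩX U (dX.app U s))) = 0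
      rw [hc₁ U s, hαv]
      exact D.d_app (X := Opposite.op U) s
    refine ⟨cokernel.desc c₁ α h0, ?_, fun β hβ => ?_⟩
    · refine Groth.Agent.OmegaUnivLib.der_ext fun U s => ?_
      show (cokernel.desc c₁ α h0).app U (π.app U (dZ.app U s)) = _
      refine Eq.trans ?_ (hαv U s)
      exact congr($(cokernel.π_desc c₁ α h0).app U (dZ.app U s))
    · refine (cancel_epi π).1 ?_
      rw [cokernel.π_desc]
      exact huniq _ (Groth.Agent.OmegaUnivLib.der_ext fun U s =>
        congrArg (fun E : OmegaSh.Der p F => E.app U s) hβ)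
  haveI h2 : IsIso (c₂ ≫ π) := by
    refine Groth.Agent.S9386.result b a q p hZ.flip ΩY dY hY (cokernel c₁) δ hδ _ fun U s => ?_
    show π.app (q ⁻¹ᵁ U) (c₂.app (q ⁻¹ᵁ U) (OmegaSh.pullSect q ΩY U (dY.app U s))) = _
    rw [hc₂ U s]
    rfl
  let π' := cokernel.π c₂
  let δ' : OmegaSh.Der q (cokernel c₂) :=
    Groth.Agent.OmegaUnivLib.mkDer (fun U => ((Groth.Agent.OmegaUnivLib.comp dZ π').app U))
      (fun U r s => Groth.Agent.OmegaUnivLib.app_mul _ U r s)
      (fun {U V} i s => Groth.Agent.OmegaUnivLib.app_res _ i s)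
      (fun V s => by
        show π'.app (q ⁻¹ᵁ V) (dZ.app (q ⁻¹ᵁ V) (q.app V s)) = 0
        rw [← hc₂ V s]
        exact congr($(cokernel.condition c₂).app (q ⁻¹ᵁ V) (OmegaSh.pullSect q ΩY V (dY.app V s))))
  have hδ' : OmegaSh.IsUniversal δ' := by
    intro F D
    let D' : OmegaSh.Der (p ≫ a) F := Groth.Agent.OmegaUnivLib.mkDer (fun U => D.app U)
      (fun U r s => Groth.Agent.OmegaUnivLib.app_mul _ U r s)
      (fun {U V} i s => Groth.Agent.OmegaUnivLib.app_res _ i s)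
      (fun V s => by
        have key : ∀ (k : Z ⟶ S), k = q ≫ b → D.app (k ⁻¹ᵁ V) (k.app V s) = 0 := by
          rintro _ rfl
          exact D.d_app (X := Opposite.op (b ⁻¹ᵁ V)) (b.app V s)
        exact key _ hw)
    obtain ⟨α, hα, huniq⟩ := hZu F D'
    have hαv : ∀ U s, α.app U (dZ.app U s) = D.app U s := fun U s =>
      congrArg (fun E : OmegaSh.Der (p ≫ a) F => E.app U s) hα
    have h0 : c₂ ≫ α = 0 := Groth.Agent.ConormalLib.hom_ext_pullback_omega q hY fun U s => by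
      show α.app (q ⁻¹ᵁ U) (c₂.app (q ⁻¹ᵁ U) (OmegaSh.pullSect q ΩY U (dY.app U s))) = 0
      rw [hc₂ U s, hαv]
      exact D.d_app (X := Opposite.op U) s
    refine ⟨cokernel.desc c₂ α h0, ?_, fun β hβ => ?_⟩
    · refine Groth.Agent.OmegaUnivLib.der_ext fun U s => ?_
      show (cokernel.desc c₂ α h0).app U (π'.app U (dZ.app U s)) = _
      refine Eq.trans ?_ (hαv U s)
      exact congr($(cokernel.π_desc c₂ α h0).app U (dZ.app U s))
    · refine (cancel_epi π').1 ?_
      rw [cokernel.π_desc]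
      exact huniq _ (Groth.Agent.OmegaUnivLib.der_ext fun U s =>
        congrArg (fun E : OmegaSh.Der q F => E.app U s) hβ)
  haveI h1 : IsIso (c₁ ≫ π') := by
    refine Groth.Agent.S9386.result a b p q hZ ΩX dX hX (cokernel c₂) δ' hδ' _ fun U s => ?_
    show π'.app (p ⁻¹ᵁ U) (c₁.app (p ⁻¹ᵁ U) (OmegaSh.pullSect p ΩX U (dX.app U s))) = _
    rw [hc₁ U s]
    rfl
  let inv' : ΩZ ⟶ (Scheme.Modules.pullback p).obj ΩX ⨿ (Scheme.Modules.pullback q).obj ΩY :=
    π' ≫ inv (c₁ ≫ π') ≫ coprod.inl + π ≫ inv (c₂ ≫ π) ≫ coprod.inr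
  haveI : Mono (coprod.desc c₁ c₂) := by
    suffices hi : coprod.desc c₁ c₂ ≫ inv' = 𝟙 _ by
      haveI := IsSplitMono.mk' (f := coprod.desc c₁ c₂) ⟨inv', hi⟩
      infer_instance
    apply coprod.hom_ext
    · rw [coprod.inl_desc_assoc, Category.comp_id, Preadditive.comp_add, ← Category.assoc c₁ π',
        IsIso.hom_inv_id_assoc, cokernel.condition_assoc, zero_comp, add_zero]
    · rw [coprod.inr_desc_assoc, Category.comp_id, Preadditive.comp_add, ← Category.assoc c₂ π,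
        IsIso.hom_inv_id_assoc, cokernel.condition_assoc, zero_comp, zero_add]
  haveI : Epi (coprod.desc c₁ c₂) := by
    refine Preadditive.epi_of_cancel_zero _ fun {W} t ht => ?_
    have e1 : c₁ ≫ t = 0 := by rw [← coprod.inl_desc c₁ c₂, Category.assoc, ht, comp_zero]
    have e2 : c₂ ≫ t = 0 := by rw [← coprod.inr_desc c₁ c₂, Category.assoc, ht, comp_zero]
    have e3 : cokernel.desc c₁ t e1 = 0 := by
      rw [← cancel_epi (c₂ ≫ π), Category.assoc, cokernel.π_desc, e2, comp_zero]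
    rw [← cokernel.π_desc c₁ t e1, e3, comp_zero]
  exact isIso_of_mono_of_epi _

end Groth.Agent.S5023
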