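import Groth.Statements.S5024
import Groth.Agent.EtAlgEasy.SmoothStalkProps
-- import your own Groth.Agent.* helpers here

set_option autoImplicit false
universe u
open CategoryTheory CategoryTheory.Limits AlgebraicGeometry TopologicalSpace
open Unram17

namespace Groth.Agent.S5024

/-- Let Y be locally Noetherian and f : X ⟶ Y locally of finite type, smooth on an open neighbourhood of
a point x with image y. Then for every n the local ring of X at x has Serre's property (S_n),
respectively (R_n), if and only if the local ring of Y at y has it. -/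
theorem result {X Y : Scheme.{u}} (f : X ⟶ Y)
    [IsLocallyNoetherian Y] [LocallyOfFiniteType f] (x : ↥X)
    (hx : ∃ U : X.Opens, x ∈ U ∧ Smooth (U.ι ≫ f)) (n : ℕ) :
    (LocCoh.HasSk n ↑(X.presheaf.stalk x) ↑(X.presheaf.stalk x) ↔
        LocCoh.HasSk n ↑(Y.presheaf.stalk (f.base x)) ↑(Y.presheaf.stalk (f.base x))) ∧
      (LocCoh.HasRk n ↑(X.presheaf.stalk x) ↔ LocCoh.HasRk n ↑(Y.presheaf.stalk (f.base x))) := by
  haveI : LocallyOfFinitePresentation f := inferInstance
  have hx' := Groth.Agent.EtAlgEasy.SmoothStalk.mem_smoothLocus_of_nhd f hx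
  exact ⟨Groth.Agent.EtAlgEasy.SmoothStalk.hasSk_iff_stalk f hx' n, Groth.Agent.EtAlgEasy.SmoothStalk.hasRk_iff_stalk f hx' n⟩

end Groth.Agent.S5024
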