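import Groth.Statements.S5026
import Groth.Agent.EtFieldCrit.Param
-- import your own Groth.Agent.* helpers here

set_option autoImplicit false
universe u
open Unram17

namespace Groth.Agent.S5026

/-- Let k be a field, A a k-algebra of finite type equipped with a k-algebra map from the polynomial
ring in n variables (images g_i of the variables), p a prime of A such that Spec A has local
dimension n at p, r the Krull dimension of the local ring A_p, and suppose g_i ∈ p for the indices i
< r. Then A is etale at p over the polynomial ring if and only if the images of the g_i with i < r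
generate the maximal ideal of A_p and the differentials of the residue classes of the g_i with i ≥ r
generate the module of differentials of the residue field κ(p) over k. (The published statement adds
that these conditions imply that A is smooth at p over k and that κ(p) is separable over k; this row
does not state that consequence.) -/
theorem result (k A : Type u) [Field k]
    [CommRing A] [Algebra k A] [Algebra.FiniteType k A] (n r : ℕ) [Algebra (MvPolynomial (Fin n) k) A]
    [IsScalarTower k (MvPolynomial (Fin n) k) A] (p : Ideal A) [p.IsPrime]
    (hn : FlatMor.localDim (PrimeSpectrum A) ⟨p, inferInstance⟩ = (n : WithBot ℕ∞))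
    (hr : ringKrullDim (Localization.AtPrime p) = (r : WithBot ℕ∞))
    (hg : ∀ i : Fin n, (i : ℕ) < r → algebraMap (MvPolynomial (Fin n) k) A (MvPolynomial.X i) ∈ p) :
    Algebra.IsEtaleAt (MvPolynomial (Fin n) k) p ↔
      Ideal.span ((fun i : Fin n =>
          algebraMap A (Localization.AtPrime p) (algebraMap (MvPolynomial (Fin n) k) A (MvPolynomial.X i))) ''
            {i : Fin n | (i : ℕ) < r}) = IsLocalRing.maximalIdeal (Localization.AtPrime p) ∧
        Submodule.span p.ResidueField ((fun i : Fin n =>
          KaehlerDifferential.D k p.ResidueField
            (IsLocalRing.residue (Localization.AtPrime p)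
              (algebraMap A (Localization.AtPrime p) (algebraMap (MvPolynomial (Fin n) k) A (MvPolynomial.X i))))) ''
            {i : Fin n | r ≤ (i : ℕ)}) = ⊤ := by
  classical
  haveI : Algebra.EssFiniteType A (Localization.AtPrime p) :=
    Algebra.EssFiniteType.of_isLocalization (Localization.AtPrime p) p.primeCompl
  haveI : Algebra.EssFiniteType k (Localization.AtPrime p) := Algebra.EssFiniteType.comp k A _
  simp only [← IsScalarTower.algebraMap_apply (MvPolynomial (Fin n) k) A (Localization.AtPrime p)]
  have hc : {i : Fin n | r ≤ (i : ℕ)} = {i : Fin n | (i : ℕ) < r}ᶜ := by ext i; simp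
  rw [hc]
  constructor
  · intro h
    refine ⟨EtFieldCrit.span_eq_maximalIdeal_of_isEtaleAt k A n r p hn hr hg h, ?_⟩
    refine EtFieldCrit.span_residue_of_span_dX k n (Localization.AtPrime p) _
      ((EtFieldCrit.isEtaleAt_iff_span k A n p hn).1 h) fun i hi => ?_
    rw [IsScalarTower.algebraMap_apply (MvPolynomial (Fin n) k) A (Localization.AtPrime p)]
    exact (IsLocalization.AtPrime.to_map_mem_maximal_iff _ p _).2 (hg i hi)
  · rintro ⟨h1, h2⟩
    exact (EtFieldCrit.isEtaleAt_iff_span k A n p hn).2
      (EtFieldCrit.span_dX_eq_top_of_param k n (Localization.AtPrime p) {i : Fin n | (i : ℕ) < r} h1 h2)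

end Groth.Agent.S5026
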