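import Groth.Statements.S5027
import Groth.Agent.EtFieldCrit.RegSep
-- import your own Groth.Agent.* helpers here

set_option autoImplicit false
universe u
open Unram17

namespace Groth.Agent.S5027

/-- Let A be an algebra of finite type over a field k, p a prime of A such that Spec A has local
dimension n at p, and r the Krull dimension of the local ring A_p. Then A_p is regular and the
residue field κ(p) is a separable extension of k (geometrically reduced over k) if and only if there
exist n elements of the local ring A_p (germs at p in place of sections over an open neighbourhood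
of p, which is equivalent) of which those with index < r generate the maximal ideal and the residue
classes of the remaining ones have differentials generating the module of differentials of κ(p) over
k. -/
theorem result (k A : Type u) [Field k]
    [CommRing A] [Algebra k A] [Algebra.FiniteType k A] (n r : ℕ) (p : Ideal A) [p.IsPrime]
    (hn : FlatMor.localDim (PrimeSpectrum A) ⟨p, inferInstance⟩ = (n : WithBot ℕ∞))
    (hr : ringKrullDim (Localization.AtPrime p) = (r : WithBot ℕ∞)) :
    (IsRegularLocalRing (Localization.AtPrime p) ∧ Algebra.IsGeometricallyReduced k p.ResidueField) ↔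
      ∃ g : Fin n → Localization.AtPrime p,
        Ideal.span (g '' {i : Fin n | (i : ℕ) < r}) = IsLocalRing.maximalIdeal (Localization.AtPrime p) ∧
          Submodule.span p.ResidueField ((fun i : Fin n =>
            KaehlerDifferential.D k p.ResidueField (IsLocalRing.residue (Localization.AtPrime p) (g i))) ''
              {i : Fin n | r ≤ (i : ℕ)}) = ⊤ := by
  classical
  haveI : IsNoetherianRing A := Algebra.FiniteType.isNoetherianRing k A
  haveI : IsNoetherianRing (Localization.AtPrime p) := IsLocalization.isNoetherianRing p.primeCompl _ inferInstance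
  obtain ⟨t, hnt, ht⟩ := EtFieldCrit.exists_trdeg k A p n r hn hr
  constructor
  · rintro ⟨hreg, hsep⟩
    obtain ⟨y, hy⟩ := EtFieldCrit.exists_residue_basis k A p t ht
    obtain ⟨s, hs, hspan⟩ := Submodule.FG.exists_span_finset_card_eq_spanFinrank
      (IsNoetherian.noetherian (IsLocalRing.maximalIdeal (Localization.AtPrime p)))
    have hsr : s.card = r := by
      have := (isRegularLocalRing_iff _).1 hreg
      rw [hr, ← hs] at this
      exact_mod_cast this
    let e : Fin r ≃ s := (s.equivFinOfCardEq hsr).symm
    choose y' hy' using fun i => IsLocalRing.residue_surjective (R := Localization.AtPrime p) (y i)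
    let g : Fin n → Localization.AtPrime p := fun i =>
      if h : (i : ℕ) < r then (e ⟨i, h⟩ : Localization.AtPrime p) else y' ⟨(i : ℕ) - r, by omega⟩
    refine ⟨g, ?_, ?_⟩
    · rw [← hspan]
      refine congrArg Ideal.span (Set.ext fun x => ⟨?_, fun hx => ?_⟩)
      · rintro ⟨i, hi, rfl⟩
        simp only [g, dif_pos (show (i : ℕ) < r from hi)]
        exact (e ⟨i, hi⟩).2
      · refine ⟨⟨(e.symm ⟨x, hx⟩ : Fin r), by omega⟩, (e.symm ⟨x, hx⟩).2, ?_⟩
        simp only [g, dif_pos (e.symm ⟨x, hx⟩).2, Fin.eta, Equiv.apply_symm_apply]
    · refine eq_top_iff.2 (hy.ge.trans (Submodule.span_mono ?_))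
      rintro _ ⟨j, rfl⟩
      refine ⟨⟨r + j, by omega⟩, Nat.le_add_right r j, ?_⟩
      have : g ⟨r + j, by omega⟩ = y' j := by
        simp only [g, dif_neg (show ¬ r + (j : ℕ) < r by omega)]
        congr 1
        exact Fin.ext (by simp)
      simp only [this, hy']
  · rintro ⟨g, hm, hspan⟩
    refine ⟨IsRegularLocalRing.of_spanFinrank_maximalIdeal_le _ ?_,
      EtFieldCrit.isGeometricallyReduced_of_span k A p n r t hnt ht
        (fun i => IsLocalRing.residue (Localization.AtPrime p) (g i)) hspan⟩
    rw [hr, ← hm]
    have hfin : (g '' {i : Fin n | (i : ℕ) < r}).Finite := Set.toFinite _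
    have h1 := Submodule.spanFinrank_span_le_ncard_of_finite (R := Localization.AtPrime p) hfin
    have h2 : (g '' {i : Fin n | (i : ℕ) < r}).ncard ≤ r := by
      refine (Set.ncard_image_le (Set.toFinite _)).trans ?_
      refine (Set.ncard_le_ncard_of_injOn (fun i : Fin n => (i : ℕ)) (fun i hi => Finset.mem_coe.2 (Finset.mem_range.2 hi))
        (fun a _ b _ h => Fin.ext h) (Finset.range r).finite_toSet).trans ?_
      rw [Set.ncard_coe_finset, Finset.card_range]
    exact_mod_cast h1.trans h2

end Groth.Agent.S5027
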