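import Groth.Statements.S5037
import Groth.Agent.IdemSchemeLib.Basic

set_option autoImplicit false
set_option backward.isDefEq.respectTransparency false
set_option backward.isDefEq.respectTransparency.types false
open CategoryTheory CategoryTheory.Limits AlgebraicGeometry
universe u
open Hensel

namespace Groth.Agent.S5037

/-- b) implies a'): let i : S₀ ⟶ S be a closed immersion. Suppose that for every étale separated
morphism g : S' ⟶ S and every section u₀ of S' ×_S S₀ ⟶ S₀ there is exactly one section u of g with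
i ≫ u = u₀ followed by the first projection. Then for every finite locally free morphism g : S' ⟶ S
(finite, flat and locally of finite presentation), every open-closed subset of S' ×_S S₀ is the
inverse image under the first projection of exactly one open-closed subset of S'. -/
theorem result {S S₀ : Scheme.{u}} (i : S₀ ⟶ S) [IsClosedImmersion i]
    (hb : ∀ (S' : Scheme.{u}) (g : S' ⟶ S), Etale g → IsSeparated g →
      ∀ u₀ : S₀ ⟶ pullback g i, u₀ ≫ pullback.snd g i = 𝟙 S₀ →
        ∃! u : S ⟶ S', u ≫ g = 𝟙 S ∧ i ≫ u = u₀ ≫ pullback.fst g i)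
    {S' : Scheme.{u}} (g : S' ⟶ S) [IsFinite g] [Flat g] [LocallyOfFinitePresentation g]
    (V : Set ↥(pullback g i)) (hV : IsClopen V) :
    ∃! U : Set ↥S', IsClopen U ∧ (pullback.fst g i).base ⁻¹' U = V := by
  obtain ⟨W, hWa, hWe, ⟨r⟩⟩ := IdemSchemeLib.exists_representable g
  let F := Flatn.morS g (IdemSchemeLib.fold S)
  let T₀ : Over S := Over.mk i
  let T : Over S := Over.mk (𝟙 S)
  let ι : T₀ ⟶ T := Over.homMk i (Category.comp_id i)
  let σ := pullbackSymmetry i g
  let q : pullback (𝟙 S) g ⟶ S' := pullback.snd (𝟙 S) g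
  have hk : (IdemSchemeLib.bm g ι).left ≫ q = σ.hom ≫ pullback.fst g i := by
    simp [IdemSchemeLib.bm, q, σ, T, T₀, ι]
  have hσ : Function.Surjective σ.hom.base := (Scheme.homeoOfIso σ).surjective
  haveI : IsIso q := inferInstanceAs (IsIso (pullback.snd (𝟙 S) g))
  have hq : Function.Surjective q.base := (Scheme.homeoOfIso (asIso q)).surjective
  have hpre : ∀ U : Set S', (pullback.fst g i).base ⁻¹' U = V ↔
      (IdemSchemeLib.bm g ι).left.base ⁻¹' (q.base ⁻¹' U) = σ.hom.base ⁻¹' V := by
    intro U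
    have h1 : (IdemSchemeLib.bm g ι).left.base ⁻¹' (q.base ⁻¹' U) = σ.hom.base ⁻¹' ((pullback.fst g i).base ⁻¹' U) := by
      ext z
      have h := congrArg (fun k : pullback i g ⟶ S' => k.base z) hk
      simp only [Set.mem_preimage] at h ⊢
      exact iff_of_eq (congrArg (· ∈ U) (((Scheme.Hom.comp_apply _ _ z).symm.trans h).trans (Scheme.Hom.comp_apply _ _ z)))
    rw [h1]
    exact hσ.preimage_injective.eq_iff.symm
  obtain ⟨x₀, hx₀⟩ := IdemSchemeLib.exists_clo_eq (Y := (Over.map g).obj ((Over.pullback g).obj T₀))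
    (U := σ.hom.base ⁻¹' V) (hV.preimage σ.hom.continuous)
  let a₀ : T₀ ⟶ W := r.homEquiv.symm x₀
  haveI := hWa
  obtain ⟨u, ⟨hu1, hu2⟩, huu⟩ := hb W.left W.hom hWe inferInstance
    (pullback.lift a₀.left (𝟙 S₀) (by rw [Category.id_comp]; exact Over.w a₀)) (pullback.lift_snd _ _ _)
  rw [pullback.lift_fst] at hu2
  have hmap : ∀ a : T ⟶ W, i ≫ a.left = a₀.left ↔
      (IdemSchemeLib.bm g ι).left.base ⁻¹'
        IdemSchemeLib.clo (r.homEquiv a : (Over.map g).obj ((Over.pullback g).obj T) ⟶ Over.mk (IdemSchemeLib.fold S)) =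
          σ.hom.base ⁻¹' V := by
    intro a
    have h1 : i ≫ a.left = a₀.left ↔ r.homEquiv (ι ≫ a) = x₀ := by
      rw [← Equiv.eq_symm_apply]
      exact ⟨fun h => Over.OverMorphism.ext h, fun h => congrArg CommaMorphism.left h⟩
    rw [h1, r.homEquiv_comp, ← IdemSchemeLib.clo_injective.eq_iff, hx₀]
    rfl
  let a : T ⟶ W := Over.homMk u hu1
  let c := IdemSchemeLib.clo (r.homEquiv a : (Over.map g).obj ((Over.pullback g).obj T) ⟶ Over.mk (IdemSchemeLib.fold S))
  have hc : q.base ⁻¹' ((inv q).base ⁻¹' c) = c := by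
    ext z
    have h := congrArg (fun k : pullback (𝟙 S) g ⟶ pullback (𝟙 S) g => k.base z) (IsIso.hom_inv_id q)
    simp only [Scheme.Hom.comp_apply] at h
    exact iff_of_eq (congrArg (· ∈ c) h)
  refine ⟨(inv q).base ⁻¹' c, ⟨(IdemSchemeLib.isClopen_clo _).preimage (inv q).continuous, ?_⟩, fun U hU => ?_⟩
  · rw [hpre, hc]
    exact (hmap a).1 hu2
  obtain ⟨x, hx⟩ := IdemSchemeLib.exists_clo_eq (Y := (Over.map g).obj ((Over.pullback g).obj T))
    (U := q.base ⁻¹' U) (hU.1.preimage q.continuous)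
  let a' : T ⟶ W := r.homEquiv.symm x
  have ha' : r.homEquiv a' = x := r.homEquiv.apply_symm_apply x
  have hu' : i ≫ a'.left = a₀.left := by
    refine (hmap a').2 ?_
    have h3 : IdemSchemeLib.clo (r.homEquiv a' : (Over.map g).obj ((Over.pullback g).obj T) ⟶ Over.mk (IdemSchemeLib.fold S)) = q.base ⁻¹' U :=
      (congrArg IdemSchemeLib.clo ha').trans hx
    exact (congrArg _ h3).trans ((hpre U).1 hU.2)
  have he : a' = a := Over.OverMorphism.ext
    (huu a'.left ⟨Over.w a', by rw [pullback.lift_fst]; exact hu'⟩)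
  apply hq.preimage_injective
  rw [hc]
  exact hx.symm.trans (congrArg IdemSchemeLib.clo (ha'.symm.trans (congrArg r.homEquiv he)))

end Groth.Agent.S5037
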