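import Mathlib
import Groth.Agent.AdicFS.HenselG
import Groth.Agent.GRingCompleteLib.Excellent
import Groth.Agent.S0511
import Groth.Agent.S0509
import Groth.Agent.S12236
import Groth.Agent.S2773
import Groth.Statements.S5042

set_option autoImplicit false
universe u
open Hensel

namespace Groth.Agent.S5042

/-- The henselization S of an excellent local ring R is excellent. -/
theorem result (R S : Type u) [CommRing R] [IsLocalRing R]
    [CommRing S] [IsLocalRing S] [Algebra R S] [IsLocalHom (algebraMap R S)] [Hensel.IsHenselization R S]
    (h : EGA4.IsExcellent R) : EGA4.IsExcellent S := by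
  haveI := h.1
  haveI : IsNoetherianRing S := (S0511.result R S).1 inferInstance
  haveI := S0509.result R S
  have hst := AdicFS.hasEtaleStages_of_isIndEtale (S12236.result R S)
  have hG : CAlg.IsGRing S := AdicFS.isGRing_of_stages h.2.2.1 hst
  refine ⟨inferInstance, S2773.result R S h.2.1, hG, GRingCompleteLib.isJ2_of_isRegularHom_completion S ?_⟩
  refine (AdicFS.completion_regular_iff_of_stages hst).2 ?_
  let e : R ≃+* Localization.AtPrime (IsLocalRing.maximalIdeal R) :=
    (IsLocalization.atUnits R (IsLocalRing.maximalIdeal R).primeCompl
      (fun x hx => IsLocalRing.notMem_maximalIdeal.1 hx)).toRingEquiv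
  exact ExcLib.isRegularHom_completion_of_ringEquiv e.symm (h.2.2.1.2 (IsLocalRing.maximalIdeal R))

end Groth.Agent.S5042
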