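import Groth.Statements.S5044
import Groth.Agent.Henselization.Fibre

set_option autoImplicit false
universe u
open Hensel

namespace Groth.Agent.S5044

/-- Let R be a Noetherian local ring with strict henselization S. A prime ideal P of S is an associated
prime of S if and only if its inverse image in R is an associated prime of R. -/
theorem result (R S : Type u) [CommRing R] [IsLocalRing R] [IsNoetherianRing R]
    [CommRing S] [IsLocalRing S] [Algebra R S] [IsLocalHom (algebraMap R S)] [Hensel.IsStrictHenselization R S]
    (P : Ideal S) [P.IsPrime] :
    P ∈ associatedPrimes S S ↔ P.comap (algebraMap R S) ∈ associatedPrimes R R := by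
  obtain ⟨e⟩ := Groth.Agent.Henselization.exists_algEquiv_of_isStrictHenselization R S
  have hS := Groth.Agent.Henselization.fineFibres_of_equiv e
  have := hS.flat
  have hm := Groth.Agent.Henselization.map_maximalIdeal_of_equiv e
  have : IsNoetherianRing S := (Groth.Agent.Henselization.isNoetherianRing_of_equiv e).2 inferInstance
  have : Module.FaithfullyFlat R S := Module.FaithfullyFlat.of_flat_of_isLocalHom
  have : P.LiesOver (P.comap (algebraMap R S)) := ⟨rfl⟩
  rw [Groth.Agent.Depth.mem_associatedPrimes_iff_depth_eq_zero, Groth.Agent.Depth.mem_associatedPrimes_iff_depth_eq_zero,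
    hS.depth_atPrime P (P.comap (algebraMap R S))]

end Groth.Agent.S5044
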