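import Groth.Statements.S5047
import Groth.Agent.UnramDimLib.Main

set_option autoImplicit false
open CategoryTheory AlgebraicGeometry
universe u
open Unram

namespace Groth.Agent.S5047

/-- Consider morphisms g : Y ⟶ S and h : X ⟶ S, both locally of finite presentation, where h is flat and
every local ring of every fibre of g is a normal domain (this holds, e.g., when g is smooth). Given
an S-morphism f : X ⟶ Y, the morphism f is an open immersion exactly when it is a monomorphism and,
at each point x of X, the local dimension at x of the h-fibre containing x coincides with the local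
dimension at f x of the g-fibre containing f x. -/
theorem result {X Y S : Scheme.{u}} (g : Y ⟶ S) (h : X ⟶ S)
    [LocallyOfFinitePresentation g] [LocallyOfFinitePresentation h] [Flat h]
    (hnorm : ∀ y : Y, IsDomain ((g.fiber (g.base y)).presheaf.stalk (g.asFiber y)) ∧
      IsIntegrallyClosed ((g.fiber (g.base y)).presheaf.stalk (g.asFiber y)))
    (f : X ⟶ Y) (w : f ≫ g = h) :
    IsOpenImmersion f ↔ (Mono f ∧ ∀ x : X, FlatMor.fibreDimAt h x = FlatMor.fibreDimAt g (f.base x)) := by
  subst w
  constructor
  · intro hf
    refine ⟨inferInstance, fun x => UnramDimLib.fibreDimAt_eq_of_etale_nhd g (f ≫ g) f rfl x ⊤ trivial⟩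
  · rintro ⟨hmono, hdim⟩
    haveI := hmono
    haveI : IsOpenImmersion (CategoryTheory.Limits.pullback.diagonal f) :=
      haveI := (CategoryTheory.Limits.pullback.isIso_diagonal_iff f).mpr hmono
      inferInstance
    haveI : LocallyOfFiniteType f := locallyOfFiniteType_of_comp f g
    haveI : FormallyUnramified f := inferInstance
    haveI : LocallyOfFinitePresentation f := FlatLocus.locallyOfFinitePresentation_of_comp f g
    haveI : Flat f := Flat.of_stalkMap f fun x => by
      obtain ⟨U, hx, hU⟩ := (UnramDimLib.etale_nhd_iff g (f ≫ g) f rfl x (Flat.stalkMap (f ≫ g) x) (hnorm (f x)).1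
        (hnorm (f x)).2).2 ⟨⟨⊤, trivial, inferInstance⟩, hdim x⟩
      haveI := hU
      exact (FlatLocus.stalkMap_ι_comp_iff f RingHom.Flat.respectsIso U ⟨x, hx⟩).mp
        (Flat.stalkMap (U.ι ≫ f) ⟨x, hx⟩)
    exact IsOpenImmersion.of_flat_of_mono f

end Groth.Agent.S5047
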