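import Groth.Statements.S5048
import Mathlib
-- import your own Groth.Agent.* helpers here

set_option autoImplicit false
open CategoryTheory AlgebraicGeometry
universe u
open Unram

namespace Groth.Agent.S5048

/-- Let Y be an irreducible scheme with generic point η and f : X ⟶ Y flat, locally of finite type and
locally quasi-finite. Then a point x of X maps to η if and only if its closure is an irreducible
component of X; thus the irreducible components of X are in canonical bijection with the fibre over
η. -/
theorem result {X Y : Scheme.{u}} [IrreducibleSpace ↥Y] (f : X ⟶ Y)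
    [Flat f] [LocallyOfFiniteType f] [LocallyQuasiFinite f] (x : X) :
    f.base x = genericPoint Y ↔ closure ({x} : Set ↥X) ∈ irreducibleComponents ↥X := by
  have hmax : ∀ {Z : Type u} [TopologicalSpace Z] [QuasiSober Z] [T0Space Z] (z : Z),
      closure ({z} : Set Z) ∈ irreducibleComponents Z ↔ ∀ w, w ⤳ z → w = z := by
    intro Z _ _ _ z
    constructor
    · intro hz w hw
      have hle : closure ({z} : Set Z) ⊆ closure {w} := hw.closure_subset
      have := hz.le_of_ge isIrreducible_singleton.closure hle
      exact (hw.antisymm (specializes_iff_mem_closure.2 (this (subset_closure rfl)))).eq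
    · intro h
      obtain ⟨T, hT, hsub⟩ := exists_mem_irreducibleComponents_subset_of_isIrreducible {z} isIrreducible_singleton
      obtain ⟨w, hw⟩ := QuasiSober.sober hT.1 (isClosed_of_mem_irreducibleComponents T hT)
      have : w = z := h w (hw.specializes (hsub rfl))
      subst this
      rwa [hw.def]
  have hη : ∀ y, genericPoint Y ⤳ y := genericPoint_specializes
  have hfib : ∀ a b : X, f.base a = f.base b → a ⤳ b → a = b := by
    intro a b hab hs
    have hd : DiscreteTopology (f.base ⁻¹' {f.base b} : Set X) :=
      isDiscrete_iff_discreteTopology.1 (Scheme.Hom.isDiscrete_preimage_singleton f _)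
    have h2 : (⟨a, hab⟩ : (f.base ⁻¹' {f.base b} : Set X)) ⤳ ⟨b, rfl⟩ := (subtype_specializes_iff _ _).2 hs
    exact congrArg Subtype.val h2.eq
  rw [hmax]
  constructor
  · intro hx w hw
    refine hfib w x ?_ hw
    have : f.base w ⤳ genericPoint Y := hx ▸ hw.map f.base.hom.continuous
    rw [(this.antisymm (hη _)).eq, hx]
  · intro h
    obtain ⟨w, hw, hwx⟩ := Flat.generalizingMap f (hη (f.base x))
    rw [← h w hw]
    exact hwx

end Groth.Agent.S5048
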