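import Groth.Statements.S5049
import Mathlib
-- import your own Groth.Agent.* helpers here

set_option autoImplicit false
open CategoryTheory AlgebraicGeometry
universe u
open Unram

namespace Groth.Agent.S5049

/-- Let f : X ⟶ Y be flat, locally of finite type and locally quasi-finite. If the irreducible
components of Y form a locally finite family of subsets, then so do the irreducible components of X. -/
theorem result {X Y : Scheme.{u}} (f : X ⟶ Y)
    [Flat f] [LocallyOfFiniteType f] [LocallyQuasiFinite f]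
    (hY : LocallyFinite (fun Z : ↥(irreducibleComponents ↥Y) => (Z : Set ↥Y))) :
    LocallyFinite (fun Z : ↥(irreducibleComponents ↥X) => (Z : Set ↥X)) := by
  classical
  intro x
  obtain ⟨N, hN, hfin⟩ := hY (f x)
  obtain ⟨W₀, hWN₀, hWo₀, hxW₀⟩ := mem_nhds_iff.mp hN
  obtain ⟨Wa, hWa, hxWa, hWa₀⟩ := exists_isAffineOpen_mem_and_subset (X := Y) (x := f x) (U := ⟨W₀, hWo₀⟩) hxW₀
  let W : Set Y := Wa
  have hWN : W ⊆ N := fun y hy => hWN₀ (hWa₀ hy)
  have hxW : f x ∈ W := hxWa
  let O : X.Opens := f ⁻¹ᵁ Wa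
  obtain ⟨V, hV, hxV, hVO⟩ := exists_isAffineOpen_mem_and_subset (X := X) (x := x) (U := O) hxW
  refine ⟨V, V.2.mem_nhds hxV, ?_⟩
  haveI : CompactSpace (V : Scheme.{u}) := isCompact_iff_compactSpace.mp hV.isCompact
  -- generic points of components meeting V
  let T : Set X := {ξ | ξ ∈ V ∧ closure {ξ} ∈ irreducibleComponents ↥X}
  suffices hT : T.Finite by
    refine Set.Finite.of_finite_image (f := fun Z : ↥(irreducibleComponents ↥X) => (Z : Set ↥X))
      ((hT.image fun ξ => closure {ξ}).subset ?_) Subtype.val_injective.injOn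
    rintro _ ⟨Z, ⟨z, hzZ, hzV⟩, rfl⟩
    obtain ⟨ξ, hξ⟩ := QuasiSober.sober Z.2.1 (isClosed_of_mem_irreducibleComponents _ Z.2)
    exact ⟨ξ, ⟨(hξ.specializes hzZ).mem_open V.2 hzV, by rw [hξ.def]; exact Z.2⟩, hξ.def⟩
  -- their images are generic points of components meeting W
  let S : Set Y := {η | η ∈ W ∧ closure {η} ∈ irreducibleComponents ↥Y}
  have hS : S.Finite := by
    refine Set.Finite.of_finite_image (f := fun η => closure ({η} : Set ↥Y)) ((hfin.image fun Z : ↥(irreducibleComponents ↥Y) => (Z : Set ↥Y)).subset ?_)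
      fun a _ b _ h => ((isGenericPoint_closure (x := a)).eq (show IsGenericPoint b (closure {a}) from Eq.symm h))
    rintro _ ⟨η, ⟨hηW, hη⟩, rfl⟩
    exact ⟨⟨_, hη⟩, ⟨η, subset_closure rfl, hWN hηW⟩, rfl⟩
  have hmap : ∀ ξ ∈ T, f ξ ∈ S := by
    rintro ξ ⟨hξV, hξ⟩
    refine ⟨hVO hξV, ?_⟩
    have hg := irreducibleComponent_mem_irreducibleComponents (f ξ)
    obtain ⟨η, hη⟩ := QuasiSober.sober hg.1 (isClosed_of_mem_irreducibleComponents _ hg)
    obtain ⟨ξ', hξ', hfξ⟩ := Flat.generalizingMap f (hη.specializes mem_irreducibleComponent)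
    have hle : closure ({ξ} : Set ↥X) ≤ closure {ξ'} := hξ'.closure_subset
    have heq : ξ' = ξ := by
      have h2 := le_antisymm (hξ.2 isIrreducible_singleton.closure hle) hle
      exact (isGenericPoint_closure (x := ξ')).eq (h2 ▸ isGenericPoint_closure (x := ξ))
    rw [heq] at hfξ
    rw [hfξ, hη.def]; exact hg
  haveI : IsAffine (V : Scheme.{u}) := hV
  haveI : IsAffine (Wa : Scheme.{u}) := hWa
  let g : (V : Scheme.{u}) ⟶ (Wa : Scheme.{u}) := f.resLE Wa V hVO
  have hg : g ≫ Wa.ι = V.ι ≫ f := Scheme.Hom.resLE_comp_ι f hVO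
  haveI : LocallyQuasiFinite (g ≫ Wa.ι) := by rw [hg]; infer_instance
  haveI : LocallyQuasiFinite g := LocallyQuasiFinite.of_comp g Wa.ι
  have hfib : ∀ η : Y, ((V : Set X) ∩ f ⁻¹' {η}).Finite := fun η => by
    by_cases hη : η ∈ Wa
    · refine ((g.finite_preimage_singleton ⟨η, hη⟩).image V.ι).subset ?_
      rintro z ⟨hzV, hz⟩
      refine ⟨⟨z, hzV⟩, ?_, rfl⟩
      refine Wa.ι.isOpenEmbedding.injective ?_
      show (g ≫ Wa.ι) ⟨z, hzV⟩ = η
      rw [hg]; exact hz
    · refine Set.finite_empty.subset ?_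
      rintro z ⟨hzV, hz⟩
      exact hη (hz ▸ hVO hzV)
  refine ((hS.biUnion fun η _ => hfib η)).subset fun ξ hξ => ?_
  exact Set.mem_biUnion (hmap ξ hξ) ⟨hξ.1, rfl⟩

end Groth.Agent.S5049
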