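import Groth.Statements.S5050
import Mathlib

set_option autoImplicit false
universe u v
open CInt

namespace Groth.Agent.S5050

/-- Let A be a Noetherian ring, N a finitely generated A-module, E and F submodules of N and Q an ideal
of A. For every natural number k there is h > 0 with E ⊓ (F ⊔ Q^h N) ≤ (E ⊓ F) ⊔ Q^k N. -/
theorem result {A : Type u} [CommRing A] [IsNoetherianRing A] {N : Type v} [AddCommGroup N]
    [Module A N] [Module.Finite A N] (E F : Submodule A N) (Q : Ideal A) (k : ℕ) :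
    ∃ h : ℕ, 0 < h ∧ E ⊓ (F ⊔ Q ^ h • (⊤ : Submodule A N)) ≤ (E ⊓ F) ⊔ Q ^ k • (⊤ : Submodule A N) := by
  obtain ⟨c, hc⟩ := Ideal.exists_pow_inf_eq_pow_smul Q (E.map F.mkQ)
  refine ⟨k + c + 1, by omega, fun x ⟨hxE, hx⟩ => ?_⟩
  have hle : k + c + 1 - c = k + 1 := by omega
  have h1 : F.mkQ x ∈ Q ^ (k + c + 1) • (⊤ : Submodule A (N ⧸ F)) ⊓ E.map F.mkQ := by
    refine ⟨?_, Submodule.mem_map_of_mem hxE⟩
    obtain ⟨f, hf, y, hy, rfl⟩ := Submodule.mem_sup.1 hx
    rw [map_add, show F.mkQ f = 0 from (Submodule.Quotient.mk_eq_zero F).2 hf, zero_add]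
    exact Submodule.smul_mono le_rfl le_top
      ((Submodule.map_smul'' (Q ^ (k + c + 1)) ⊤ F.mkQ).le (Submodule.mem_map_of_mem hy))
  rw [hc (k + c + 1) (by omega), hle] at h1
  have h2 := (Submodule.smul_mono le_rfl inf_le_right : Q ^ (k + 1) • _ ≤ Q ^ (k + 1) • E.map F.mkQ) h1
  rw [← Submodule.map_smul''] at h2
  obtain ⟨y, hy, hyx⟩ := h2
  have hyE : y ∈ E := Submodule.smul_le_right hy
  have hxy : x - y ∈ E ⊓ F := ⟨E.sub_mem hxE hyE, (Submodule.Quotient.eq F).1 hyx.symm⟩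
  rw [show x = (x - y) + y by abel]
  exact Submodule.add_mem_sup hxy (Submodule.smul_mono (Ideal.pow_le_pow_right (Nat.le_succ k)) le_top hy)

end Groth.Agent.S5050
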