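import Groth.Statements.S5051
import Groth.Agent.EtFibCard.Basic
import Mathlib
-- import your own Groth.Agent.* helpers here

set_option autoImplicit false
open CategoryTheory AlgebraicGeometry
universe u
open Unram

namespace Groth.Agent.S5051

/-- Let f : X ⟶ Y be étale, separated and of finite type. Then y ↦ (number of points of the geometric
fibre of f at y) is lower semicontinuous on Y. -/
theorem result {X Y : Scheme.{u}} (f : X ⟶ Y) [Etale f] [IsSeparated f]
    [LocallyOfFiniteType f] [QuasiCompact f] :
    LowerSemicontinuous (fun y : Y => ENat.card ↥(MoreMor.geomFiber f y)) := by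
  haveI := Groth.Agent.EtFibCard.locallyQuasiFinite_of_etale f
  intro y a ha
  simp only [Groth.Agent.EtFibCard.card_geomFiber] at ha ⊢
  obtain ⟨n, rfl⟩ : ∃ n : ℕ, a = n := ⟨a.toNat, (ENat.coe_toNat ha.ne_top).symm⟩
  have hopen := (Groth.Agent.EtaleSplit.isClosed_fdeg_le f (Groth.Agent.EtFibCard.finFib f) (n + 1)).isOpen_compl
  have hn : n < Groth.Agent.EtaleSplit.fdeg f y := by exact_mod_cast ha
  filter_upwards [hopen.mem_nhds (show y ∈ _ by simpa using hn)] with z hz
  simp only [Set.mem_compl_iff, Set.mem_setOf_eq, not_lt] at hz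
  exact_mod_cast hz

end Groth.Agent.S5051
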