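import Groth.Statements.S5052
import Groth.Agent.EtFibCard.Basic
import Mathlib
-- import your own Groth.Agent.* helpers here

set_option autoImplicit false
open CategoryTheory AlgebraicGeometry
universe u
open Unram

namespace Groth.Agent.S5052

/-- Let f : X ⟶ Y be étale, separated and of finite type, and y a point of Y. The number of points of
the geometric fibre is constant on a neighbourhood of y if and only if the restriction of f over
some open neighbourhood of y is a finite morphism. -/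
theorem result {X Y : Scheme.{u}} (f : X ⟶ Y) [Etale f] [IsSeparated f]
    [LocallyOfFiniteType f] [QuasiCompact f] (y : Y) :
    (∃ U : Y.Opens, y ∈ U ∧ ∀ y' : Y, y' ∈ U → ENat.card ↥(MoreMor.geomFiber f y') = ENat.card ↥(MoreMor.geomFiber f y)) ↔
      ∃ U : Y.Opens, y ∈ U ∧ IsFinite (f ∣_ U) := by
  haveI := Groth.Agent.EtFibCard.locallyQuasiFinite_of_etale f
  simp only [Groth.Agent.EtFibCard.card_geomFiber, Nat.cast_inj]
  constructor
  · rintro ⟨U, hy, hU⟩
    refine ⟨U, hy, ?_⟩
    haveI := Groth.Agent.EtFibCard.locallyQuasiFinite_of_etale (f ∣_ U)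
    obtain ⟨hfin, hd⟩ := Groth.Agent.EtaleSplit.finFib_baseChange (Groth.Agent.EtFibCard.finFib f)
      (isPullback_morphismRestrict f U).flip
    refine Groth.Agent.EtaleSplit.isFinite_of_fdeg_eq (f ∣_ U) hfin (Groth.Agent.EtaleSplit.fdeg f y) fun u => ?_
    rw [hd]
    exact hU _ u.2
  · rintro ⟨U, hy, hU⟩
    obtain ⟨hfin, hd⟩ := Groth.Agent.EtaleSplit.finFib_baseChange (Groth.Agent.EtFibCard.finFib f)
      (isPullback_morphismRestrict f U).flip
    have hlc := Scheme.Hom.isLocallyConstant_finrank (f := f ∣_ U)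
    obtain ⟨O, hO, hyO, hOc⟩ := hlc.exists_open ⟨y, hy⟩
    refine ⟨U.ι ''ᵁ ⟨O, hO⟩, ⟨⟨y, hy⟩, hyO, rfl⟩, ?_⟩
    rintro _ ⟨u, hu, rfl⟩
    have h := hOc u hu
    rw [← Groth.Agent.EtaleSplit.fdeg_eq_finrank, ← Groth.Agent.EtaleSplit.fdeg_eq_finrank, hd, hd] at h
    exact h

end Groth.Agent.S5052
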