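import Groth.Statements.S5053
import Groth.Agent.EtFibCard.Basic
import Mathlib
-- import your own Groth.Agent.* helpers here

set_option autoImplicit false
open CategoryTheory AlgebraicGeometry
universe u
open Unram

namespace Groth.Agent.S5053

/-- Let Y be a connected scheme and f : X ⟶ Y étale, separated and of finite type. Then f is finite if
and only if all geometric fibres of f have the same number of points. -/
theorem result {X Y : Scheme.{u}} [ConnectedSpace ↥Y] (f : X ⟶ Y)
    [Etale f] [IsSeparated f] [LocallyOfFiniteType f] [QuasiCompact f] :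
    IsFinite f ↔ ∃ n : ℕ∞, ∀ y : Y, ENat.card ↥(MoreMor.geomFiber f y) = n := by
  haveI := Groth.Agent.EtFibCard.locallyQuasiFinite_of_etale f
  simp only [Groth.Agent.EtFibCard.card_geomFiber]
  constructor
  · intro h
    obtain ⟨y₀⟩ := (inferInstance : Nonempty Y)
    refine ⟨Groth.Agent.EtaleSplit.fdeg f y₀, fun y => ?_⟩
    rw [Groth.Agent.EtaleSplit.fdeg_eq_finrank, Groth.Agent.EtaleSplit.fdeg_eq_finrank,
      (Scheme.Hom.isLocallyConstant_finrank (f := f)).apply_eq_of_preconnectedSpace y y₀]
  · rintro ⟨n, hn⟩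
    obtain ⟨y₀⟩ := (inferInstance : Nonempty Y)
    exact Groth.Agent.EtaleSplit.isFinite_of_fdeg_eq f (Groth.Agent.EtFibCard.finFib f)
      (Groth.Agent.EtaleSplit.fdeg f y₀) fun y => by exact_mod_cast (hn y).trans (hn y₀).symm

end Groth.Agent.S5053
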