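import Groth.Statements.S5056
import Groth.Agent.NormalTensor.Henselian
-- import your own Groth.Agent.* helpers here

set_option autoImplicit false
universe u
open Hensel

namespace Groth.Agent.S5056
open TensorProduct

theorem finrank_eq_one_of_isDomain (K E : Type u) [Field K] [Field E] [Algebra K E] [Module.Finite K E]
    (hd : IsDomain (E ⊗[K] E)) : Module.finrank K E = 1 := by
  haveI := hd
  haveI : IsArtinianRing (E ⊗[K] E) := IsArtinianRing.of_finite K _
  let m : E ⊗[K] E →ₐ[K] E := Algebra.TensorProduct.lift (AlgHom.id K E) (AlgHom.id K E) fun _ _ => Commute.all _ _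
  have hmi : Function.Injective m := by
    show Function.Injective m.toRingHom
    haveI : (⊥ : Ideal (E ⊗[K] E)).IsPrime := Ideal.isPrime_bot
    rw [RingHom.injective_iff_ker_eq_bot]
    exact ((IsArtinianRing.isMaximal_of_isPrime (⊥ : Ideal (E ⊗[K] E))).eq_of_le
      (RingHom.ker_ne_top _) bot_le).symm
  have hm := LinearMap.finrank_le_finrank_of_injective (f := m.toLinearMap) hmi
  rw [Module.finrank_tensorProduct] at hm
  have h1 : Module.finrank K E = 1 := by
    have h2 : 0 < Module.finrank K E := Module.finrank_pos
    nlinarith
  exact h1

/-- Let A be a Noetherian henselian local domain whose formal fibres are geometrically normal, Â its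
completion (an integral domain), K and L fraction fields of A and Â with L a K-algebra compatibly.
Then L is geometrically reduced over K (a separable extension) and every element of L algebraic over
K lies in K. -/
theorem result (A : Type u) [CommRing A] [IsNoetherianRing A]
    [HenselianLocalRing A] [IsDomain A] (h : EGA4.HasGeomNormalFormalFibres A) [IsDomain (EGA4.Cpl A)]
    (K L : Type u) [Field K] [Field L] [Algebra A K] [IsFractionRing A K]
    [Algebra (EGA4.Cpl A) L] [IsFractionRing (EGA4.Cpl A) L] [Algebra K L] [Algebra A L]
    [IsScalarTower A K L] [IsScalarTower A (EGA4.Cpl A) L] :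
    Algebra.IsGeometricallyReduced K L ∧ ∀ x : L, IsAlgebraic K x → x ∈ Set.range (algebraMap K L) := by
  let C := EGA4.Cpl A
  haveI := Groth.Agent.RegLocal.faithfullyFlat_completion A _ (IsLocalRing.maximalIdeal.isMaximal A).ne_top
  have hFN := Groth.Agent.NormalTensor.fieldNormal_completion A h
  -- base changes to extensions of `K`
  have hbc : ∀ (E : Type u) [Field E] [Algebra A E] [Algebra K E] [IsScalarTower A K E],
      Function.Injective (algebraMap A E) ∧
      (IsReduced (EGA4.Cpl A ⊗[A] E) → IsReduced (E ⊗[K] L)) ∧
      (IsDomain (EGA4.Cpl A ⊗[A] E) → IsDomain (E ⊗[K] L)) := by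
    intro E _ _ _ _
    have hAE : Function.Injective (algebraMap A E) := by
      rw [IsScalarTower.algebraMap_eq A K E]
      exact (algebraMap K E).injective.comp (IsFractionRing.injective A K)
    haveI : Module.Flat A K := IsLocalization.flat K (nonZeroDivisors A)
    haveI : Module.Flat A E := Module.Flat.trans A K E
    letI := (Algebra.TensorProduct.map (AlgHom.id A E) (IsScalarTower.toAlgHom A C L)).toRingHom.toAlgebra
    haveI := Groth.Agent.NormalTensor.isLocalization_tensor A E C L (nonZeroDivisors C)
    let e : E ⊗[A] L ≃+* E ⊗[K] L :=
      (IsLocalization.algebraTensorEquiv (nonZeroDivisors A) (R := A) (A := K) (B := E) (C := L)).toRingEquiv.symm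
    let c : C ⊗[A] E ≃+* E ⊗[A] C := (Algebra.TensorProduct.comm A C E).toRingEquiv
    refine ⟨hAE, fun hr => ?_, fun hd => ?_⟩
    · haveI := hr
      haveI : IsReduced (E ⊗[A] C) := isReduced_of_injective c.symm c.symm.injective
      haveI : IsReduced (E ⊗[A] L) := isReduced_localizationPreserves
        ((nonZeroDivisors C).map (Algebra.TensorProduct.includeRight (R := A) (A := E))) (E ⊗[A] L) inferInstance
      exact isReduced_of_injective e.symm e.symm.injective
    · haveI := hd
      haveI : IsDomain (E ⊗[A] C) := c.symm.injective.isDomain
      haveI : IsDomain (E ⊗[A] L) := IsLocalization.isDomain_of_le_nonZeroDivisors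
        (M := (nonZeroDivisors C).map (Algebra.TensorProduct.includeRight (R := A) (A := E))) (E ⊗[A] L) (by
          rintro _ ⟨c', hc', rfl⟩
          exact mem_nonZeroDivisors_of_ne_zero ((map_ne_zero_iff _
            (Algebra.TensorProduct.includeRight_injective hAE)).mpr (nonZeroDivisors.ne_zero hc')))
      exact e.symm.injective.isDomain
  refine ⟨?_, fun x hx => ?_⟩
  · let E := AlgebraicClosure K
    rw [Algebra.isGeometricallyReduced_field_iff]
    exact (hbc E).2.1 (Groth.Agent.NormalTensor.isReduced_of_isNormalRing (hFN E))
  · let E := IntermediateField.adjoin K ({x} : Set L)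
    haveI : FiniteDimensional K E := IntermediateField.adjoin.finiteDimensional hx.isIntegral
    obtain ⟨hAE, -, hdE⟩ := hbc E
    let p : Ideal A := ⊥
    haveI : p.IsPrime := Ideal.isPrime_bot
    letI : Algebra p.ResidueField E := (Ideal.ResidueField.lift p (algebraMap A E) bot_le (fun a ha => by
      refine isUnit_iff_ne_zero.mpr fun h0 => ha ?_
      have : a = 0 := hAE (h0.trans (map_zero _).symm)
      exact this ▸ p.zero_mem)).toAlgebra
    haveI : IsScalarTower A p.ResidueField E := IsScalarTower.of_algebraMap_eq fun a => by
      rw [RingHom.algebraMap_toAlgebra, Ideal.ResidueField.lift_algebraMap]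
    have hAκ : Function.Injective (algebraMap A p.ResidueField) := by
      rw [RingHom.injective_iff_ker_eq_bot, Ideal.ker_algebraMap_residueField]
    let φ : K →+* p.ResidueField := IsFractionRing.lift hAκ
    letI : Algebra K p.ResidueField := φ.toAlgebra
    haveI : IsScalarTower K p.ResidueField E := IsScalarTower.of_algebraMap_eq' (
      IsLocalization.ringHom_ext (nonZeroDivisors A) (RingHom.ext fun a => by
        show algebraMap K E (algebraMap A K a) = algebraMap p.ResidueField E (φ (algebraMap A K a))
        rw [← IsScalarTower.algebraMap_apply, IsFractionRing.lift_algebraMap, ← IsScalarTower.algebraMap_apply]))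
    haveI : FiniteDimensional p.ResidueField E := Module.Finite.of_restrictScalars_finite K p.ResidueField E
    haveI := hdE (Groth.Agent.NormalTensor.isDomain_completion_tensor_finite h p E)
    let g : E ⊗[K] E →ₐ[K] E ⊗[K] L := Algebra.TensorProduct.map (AlgHom.id K E) E.val
    have hg : Function.Injective g :=
      Module.Flat.lTensor_preserves_injective_linearMap E.val.toLinearMap E.val.injective
    have h1 : Module.finrank K E = 1 := finrank_eq_one_of_isDomain K E (hg.isDomain g.toRingHom)
    have hbot : E = ⊥ := IntermediateField.finrank_eq_one_iff.mp h1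
    have hxE : x ∈ E := IntermediateField.mem_adjoin_simple_self K x
    rw [hbot, IntermediateField.mem_bot] at hxE
    exact hxE

end Groth.Agent.S5056
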