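import Groth.Statements.S5057
import Mathlib.AlgebraicGeometry.Morphisms.Finite
import Mathlib.AlgebraicGeometry.IdealSheaf.Functorial

set_option autoImplicit false
open CategoryTheory CategoryTheory.Limits AlgebraicGeometry
universe u
open Hensel

namespace Groth.Agent.S5057

/-- Let i : S₀ ⟶ S be a closed immersion such that for every finite morphism g : S' ⟶ S every
open-closed subset of S' ×_S S₀ is the inverse image under the first projection of exactly one
open-closed subset of S'. Then for every finite morphism g : S' ⟶ S, every open subset of S'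
containing the image of S' ×_S S₀ is all of S'. -/
theorem result {S S₀ : Scheme.{u}} (i : S₀ ⟶ S) [IsClosedImmersion i]
    (ha : ∀ (S' : Scheme.{u}) (g : S' ⟶ S), IsFinite g →
      ∀ V : Set ↥(pullback g i), IsClopen V → ∃! U : Set ↥S', IsClopen U ∧ (pullback.fst g i).base ⁻¹' U = V)
    {S' : Scheme.{u}} (g : S' ⟶ S) [IsFinite g] (U : Set ↥S') (hU : IsOpen U)
    (hU₀ : Set.range (pullback.fst g i).base ⊆ U) : U = Set.univ := by
  by_contra hne
  let Z : TopologicalSpace.Closeds ↥S' := ⟨Uᶜ, hU.isClosed_compl⟩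
  let J := Scheme.IdealSheafData.vanishingIdeal Z
  have hrange : Set.range J.subschemeι.base = Uᶜ := by
    rw [Scheme.IdealSheafData.range_subschemeι]
    exact Scheme.IdealSheafData.coe_support_vanishingIdeal Z
  have hempty : IsEmpty ↥(pullback (J.subschemeι ≫ g) i) := by
    refine ⟨fun w => ?_⟩
    let a := (pullback.fst (J.subschemeι ≫ g) i).base w
    have hmem : J.subschemeι.base a ∈ Set.range (pullback.fst g i).base := by
      rw [Scheme.Pullback.range_fst]
      refine ⟨(pullback.snd (J.subschemeι ≫ g) i).base w, ?_⟩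
      show ((pullback.snd (J.subschemeι ≫ g) i) ≫ i).base w = _
      rw [← pullback.condition]
      rfl
    exact (hrange.le ⟨a, rfl⟩ : J.subschemeι.base a ∈ Uᶜ) (hU₀ hmem)
  obtain ⟨W, -, huniq⟩ := ha J.subscheme (J.subschemeι ≫ g) inferInstance ∅ isClopen_empty
  have h1 := huniq Set.univ ⟨isClopen_univ, Set.eq_empty_of_isEmpty _⟩
  have h2 := huniq ∅ ⟨isClopen_empty, Set.preimage_empty⟩
  obtain ⟨z, hz⟩ := (Set.ne_univ_iff_exists_notMem _).1 hne
  obtain ⟨a, -⟩ := hrange.ge hz
  exact Set.eq_empty_iff_forall_notMem.1 (h1.trans h2.symm) a trivial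

end Groth.Agent.S5057
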