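import Groth.Statements.S5058
import Mathlib
import Groth.Agent.FPModelLib.ZModel
import Groth.Agent.FPModelLib.Model2
import Groth.Agent.Henselization.Basic
import Groth.Agent.Henselization.Transfer
-- import your own Groth.Agent.* helpers here

set_option autoImplicit false
open CategoryTheory CategoryTheory.Limits AlgebraicGeometry
universe u
open Hensel

namespace Groth.Agent.S5058

set_option backward.isDefEq.respectTransparency false
set_option backward.isDefEq.respectTransparency.types false


/-- A finitely presented morphism to `Spec A` comes from a finitely generated subring. -/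
theorem exists_subring_model_lfp (A : CommRingCat.{u}) {X : Scheme.{u}} (f : X ⟶ Spec A)
    [LocallyOfFinitePresentation f] [QuasiCompact f] [QuasiSeparated f] :
    ∃ A₀ : Subalgebra ℤ A, A₀.FG ∧
      ∃ (X₀ : Scheme.{u}) (f₀ : X₀ ⟶ Spec (CommRingCat.of A₀)) (g : X ⟶ X₀),
        LocallyOfFinitePresentation f₀ ∧ QuasiCompact f₀ ∧
          IsPullback g f f₀ (Spec.map (CommRingCat.ofHom (algebraMap A₀ A))) := by
  haveI : ∀ i, CompactSpace ((FPModelLib.zSys A).obj i) := fun i => inferInstance
  haveI : CompactSpace X := QuasiCompact.compactSpace_of_compactSpace f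
  haveI : QuasiSeparatedSpace X := quasiSeparatedSpace_of_quasiSeparated f
  obtain ⟨i, G, g, q, hm⟩ := Groth.Agent.FPModelLib.Gen.exists_model (FPModelLib.zSys A) (FPModelLib.zCone A)
    (FPModelLib.isLimitZCone A) f
  haveI := hm.compact
  haveI : QuasiCompact g := quasiCompact_of_compactSpace g
  exact ⟨i.unop.1, i.unop.2, G, g, q, hm.lfp, inferInstanceAs (QuasiCompact g), hm.isPullback⟩

/-- Let A be a henselian local ring and f : X ⟶ Spec A a morphism of finite presentation. Then there
exist a Noetherian henselian local ring A₀, a local ring homomorphism φ : A₀ → A, a morphism of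
finite type f₀ : X₀ ⟶ Spec A₀ and a cartesian square exhibiting X as the base change of X₀ along
Spec φ. -/
theorem result (A : Type u) [CommRing A] [HenselianLocalRing A]
    {X : Scheme.{u}} (f : X ⟶ Spec (CommRingCat.of A)) [LocallyOfFinitePresentation f] [QuasiCompact f] [QuasiSeparated f] :
    ∃ (A₀ : Type u) (_ : CommRing A₀) (_ : HenselianLocalRing A₀) (_ : IsNoetherianRing A₀) (φ : A₀ →+* A) (_ : IsLocalHom φ)
      (X₀ : Scheme.{u}) (f₀ : X₀ ⟶ Spec (CommRingCat.of A₀)) (g : X ⟶ X₀),
      LocallyOfFiniteType f₀ ∧ QuasiCompact f₀ ∧ IsPullback g f f₀ (Spec.map (CommRingCat.ofHom φ)) := by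
  obtain ⟨B, hB, G, g, q, hlfp, hqc, hq⟩ := exists_subring_model_lfp (CommRingCat.of A) f
  haveI : Algebra.FiniteType ℤ B := B.fg_iff_finiteType.mp hB
  haveI : IsNoetherianRing B := Algebra.FiniteType.isNoetherianRing ℤ B
  let p : Ideal B := (IsLocalRing.maximalIdeal A).comap (algebraMap B A)
  let R := Localization.AtPrime p
  let l : R →+* A := IsLocalization.lift (M := p.primeCompl) (g := algebraMap B A) fun y => by
    have := y.2
    by_contra h
    exact this ((IsLocalRing.mem_maximalIdeal _).2 h)
  have hl : l.comp (algebraMap B R) = algebraMap B A := IsLocalization.lift_comp _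
  haveI hll : IsLocalHom l := ⟨fun r hr => by
    obtain ⟨b, s, rfl⟩ := IsLocalization.exists_mk'_eq p.primeCompl r
    rw [IsLocalization.AtPrime.isUnit_mk'_iff R p]
    intro hb
    have hb' : algebraMap B A b ∈ IsLocalRing.maximalIdeal A := hb
    rw [IsLocalRing.mem_maximalIdeal] at hb'
    refine hb' ?_
    rw [show algebraMap B A b = l (algebraMap B R b) from (RingHom.congr_fun hl b).symm,
      ← IsLocalization.mk'_spec R b s, map_mul]
    refine hr.mul ?_
    exact (IsLocalization.map_units R s).map l⟩
  let S := Henselization.HenselizationRing R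
  obtain ⟨φ, hφ, -⟩ := Hensel.IsHenselization.universal (R := R) (S := S) A l hll
  have hφ' : φ.comp ((algebraMap R S).comp (algebraMap B R)) = algebraMap B A := by
    rw [← RingHom.comp_assoc, hφ, hl]
  haveI : IsLocalHom φ := by
    refine ((IsLocalRing.local_hom_TFAE φ).out 0 2 rfl rfl).mpr ?_
    rw [← Henselization.map_maximalIdeal_of_equiv (AlgEquiv.refl (R := R) (A₁ := S)), Ideal.map_map, hφ]
    exact ((IsLocalRing.local_hom_TFAE l).out 0 2 rfl rfl).mp hll
  haveI : IsNoetherianRing S :=
    (Henselization.isNoetherianRing_of_equiv (AlgEquiv.refl (R := R) (A₁ := S))).2 inferInstance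
  let β := Spec.map (CommRingCat.ofHom ((algebraMap R S).comp (algebraMap B R)))
  have hβ : Spec.map (CommRingCat.ofHom φ) ≫ β = Spec.map (CommRingCat.ofHom (algebraMap B A)) := by
    rw [← Spec.map_comp, ← CommRingCat.ofHom_comp, hφ']
  let s : X ⟶ pullback g β := pullback.lift q (f ≫ Spec.map (CommRingCat.ofHom φ))
    (by rw [Category.assoc, hβ]; exact hq.w)
  refine ⟨S, inferInstance, inferInstance, inferInstance, φ, inferInstance, pullback g β, pullback.snd g β, s,
    inferInstance, inferInstance, ?_⟩
  exact IsPullback.of_right (by rw [pullback.lift_fst, hβ]; exact hq) (pullback.lift_snd _ _ _)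
    (IsPullback.of_hasPullback g β)

end Groth.Agent.S5058
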