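import Groth.Statements.S5065
import Groth.Agent.EtNormalLib.Basic
-- import your own Groth.Agent.* helpers here

set_option autoImplicit false
universe u
open Unram

namespace Groth.Agent.S5065

/-- Let A ⊆ A' be integrally closed domains, L a field algebraic over the fraction field of A in which A
embeds and whose integral closure C over A is an étale A-algebra, and L₁ a field in which A' and L
both embed, compatibly over A, and which is generated as a field by the images of A' and L (a
compositum of L with the fraction field of A'; the map A' → L₁ is injective, so that the fraction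
field of A' is a subfield of L₁). Then the integral closure of A' in L₁ is an étale A'-algebra and
coincides with the A'-subalgebra generated by the image of C. -/
theorem result (A A' L L₁ : Type u) [CommRing A] [IsDomain A]
    [IsIntegrallyClosed A] [CommRing A'] [IsDomain A'] [IsIntegrallyClosed A'] [Algebra A A']
    [Field L] [Algebra A L] [Algebra.IsAlgebraic A L] (hinj : Function.Injective (algebraMap A L))
    [Algebra.Etale A ↥(integralClosure A L)]
    [Field L₁] [Algebra A' L₁] [Algebra L L₁] [Algebra A L₁] [IsScalarTower A A' L₁] [IsScalarTower A L L₁]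
    (hinj' : Function.Injective (algebraMap A' L₁))
    (hgen : Subfield.closure (Set.range (algebraMap A' L₁) ∪ Set.range (algebraMap L L₁)) = ⊤) :
    Algebra.Etale A' ↥(integralClosure A' L₁) ∧
      integralClosure A' L₁ = Algebra.adjoin A' ((algebraMap L L₁) '' {x : L | IsIntegral A x}) := by
  open scoped TensorProduct in
  classical
  haveI : Algebra.IsIntegral A ↥(integralClosure A L) := inferInstance
  haveI : Module.Finite A ↥(integralClosure A L) := Algebra.IsIntegral.finite
  let g : ↥(integralClosure A L) →ₐ[A] L₁ :=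
    (IsScalarTower.toAlgHom A L L₁).comp (integralClosure A L).val
  let φ : A' ⊗[A] ↥(integralClosure A L) →ₐ[A'] L₁ :=
    Algebra.TensorProduct.lift (Algebra.ofId A' L₁) g (fun _ _ => Commute.all _ _)
  have hrange : φ.range = Algebra.adjoin A' ((algebraMap L L₁) '' {x : L | IsIntegral A x}) := by
    refine le_antisymm ?_ (Algebra.adjoin_le ?_)
    · rintro _ ⟨b, rfl⟩
      induction b using TensorProduct.induction_on with
      | zero => simp
      | tmul a c =>
        show φ (a ⊗ₜ[A] c) ∈ _
        rw [show φ (a ⊗ₜ[A] c) = algebraMap A' L₁ a * algebraMap L L₁ (c : L) by simp [φ, g]]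
        exact mul_mem (Subalgebra.algebraMap_mem _ a) (Algebra.subset_adjoin ⟨c, c.2, rfl⟩)
      | add x y hx hy => rw [map_add]; exact add_mem hx hy
    · rintro _ ⟨x, hx, rfl⟩
      exact ⟨(1 : A') ⊗ₜ[A] (⟨x, hx⟩ : ↥(integralClosure A L)), by simp [φ, g]⟩
  let F : Subfield L₁ :=
    { carrier := {x | ∃ u v, φ v ≠ 0 ∧ x * φ v = φ u}
      mul_mem' := by
        rintro a b ⟨u, v, hv, h⟩ ⟨u', v', hv', h'⟩
        exact ⟨u * u', v * v', by rw [map_mul]; exact mul_ne_zero hv hv', by rw [map_mul, map_mul, ← h, ← h']; ring⟩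
      one_mem' := ⟨1, 1, by simp, by simp⟩
      add_mem' := by
        rintro a b ⟨u, v, hv, h⟩ ⟨u', v', hv', h'⟩
        exact ⟨u * v' + u' * v, v * v', by rw [map_mul]; exact mul_ne_zero hv hv',
          by rw [map_add, map_mul, map_mul, map_mul, ← h, ← h']; ring⟩
      zero_mem' := ⟨0, 1, by simp, by simp⟩
      neg_mem' := by
        rintro a ⟨u, v, hv, h⟩
        exact ⟨-u, v, hv, by rw [map_neg, ← h]; ring⟩
      inv_mem' := by
        rintro a ⟨u, v, hv, h⟩
        rcases eq_or_ne a 0 with ha | ha
        · exact ⟨0, 1, by simp, by simp [ha]⟩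
        · exact ⟨v, u, by rw [← h]; exact mul_ne_zero ha hv, by rw [← h, inv_mul_cancel_left₀ ha]⟩ }
  have hF : ∀ x, ∃ u v, φ v ≠ 0 ∧ x * φ v = φ u := by
    intro x
    have hle : Subfield.closure (Set.range (algebraMap A' L₁) ∪ Set.range (algebraMap L L₁)) ≤ F := by
      refine Subfield.closure_le.2 ?_
      rintro _ (⟨a, rfl⟩ | ⟨l, rfl⟩)
      · exact ⟨algebraMap A' _ a, 1, by simp, by rw [map_one, mul_one, AlgHom.commutes]⟩
      · obtain ⟨a, ha, hal⟩ := (Algebra.IsAlgebraic.isAlgebraic (R := A) l).exists_integral_multiple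
        refine ⟨(1 : A') ⊗ₜ[A] (⟨a • l, hal⟩ : ↥(integralClosure A L)),
          (1 : A') ⊗ₜ[A] algebraMap A ↥(integralClosure A L) a, ?_, ?_⟩
        · rw [show φ ((1 : A') ⊗ₜ[A] algebraMap A ↥(integralClosure A L) a) = algebraMap L L₁ (algebraMap A L a) by simp [φ, g, IsScalarTower.algebraMap_apply A L L₁]]
          exact (map_ne_zero _).2 ((map_ne_zero_iff _ hinj).2 ha)
        · rw [show φ ((1 : A') ⊗ₜ[A] algebraMap A ↥(integralClosure A L) a) = algebraMap L L₁ (algebraMap A L a) by simp [φ, g, IsScalarTower.algebraMap_apply A L L₁],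
            show φ ((1 : A') ⊗ₜ[A] (⟨a • l, hal⟩ : ↥(integralClosure A L))) = algebraMap L L₁ (a • l) by simp [φ, g],
            ← map_mul, Algebra.smul_def, mul_comm]
    exact hle (hgen ▸ Subfield.mem_top x)
  have heq : integralClosure A' L₁ = φ.range := by
    refine le_antisymm (fun x hx => EtNormalLib.mem_range_of_isIntegral hinj' φ x hx (hF x)) ?_
    rintro _ ⟨b, rfl⟩
    exact (Algebra.IsIntegral.isIntegral b).map φ
  refine ⟨?_, heq.trans hrange⟩
  haveI := EtNormalLib.etale_range hinj' φ
  exact Algebra.Etale.of_equiv (Subalgebra.equivOfEq _ _ heq).symm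

end Groth.Agent.S5065
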