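import Groth.Statements.S5066
import Groth.Agent.Hensel.Lift

set_option autoImplicit false
universe u
open Hensel

namespace Groth.Agent.S5066

/-- Case of a local ring, affine étale schemes: a local ring A with maximal ideal m is henselian if and
only if, for every finite A-algebra C and every étale A-algebra E, composing with the projection C →
C/mC is a bijection from the set of A-algebra homomorphisms E → C onto the set of A-algebra
homomorphisms E → C/mC. -/
theorem result (A : Type u) [CommRing A] [IsLocalRing A] :
    HenselianLocalRing A ↔
      ∀ (C : Type u) [CommRing C] [Algebra A C] [Module.Finite A C] (E : Type u) [CommRing E] [Algebra A E] [Algebra.Etale A E],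
        Function.Bijective (fun φ : E →ₐ[A] C =>
          (Ideal.Quotient.mkₐ A (Ideal.map (algebraMap A C) (IsLocalRing.maximalIdeal A))).comp φ) := by
  constructor
  · intro _ C _ _ _ E _ _ _
    haveI := Groth.Agent.Hensel.of_isIntegral (I := IsLocalRing.maximalIdeal A) C
    exact Groth.Agent.Hensel.bijective_comp_mk
  · intro h
    rw [← Groth.Agent.Hensel.henselianRing_maximalIdeal_iff]
    refine Groth.Agent.Hensel.of_exists_lift fun E _ _ _ σ => ?_
    have h1 := (h A E).2
    rw [Algebra.algebraMap_self, Ideal.map_id] at h1
    exact h1 σ

end Groth.Agent.S5066
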