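import Groth.Statements.S5067
import Groth.Agent.S3694
import Groth.Agent.Unibranch.Components
import Mathlib.AlgebraicGeometry.Morphisms.QuasiFinite
import Mathlib.AlgebraicGeometry.Morphisms.UniversallyOpen
import Mathlib.AlgebraicGeometry.PullbackCarrier
import Mathlib.AlgebraicGeometry.Morphisms.Separated

set_option autoImplicit false
open CategoryTheory AlgebraicGeometry
universe u
open Unram

namespace Groth.Agent.S5067

set_option backward.isDefEq.respectTransparency false
set_option backward.isDefEq.respectTransparency.types false

open CategoryTheory Limits AlgebraicGeometry in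
theorem eq_of_triplet {X Y : Scheme.{u}} (f : X ⟶ Y) (η : X)
    (hbir : Function.Bijective (f.residueFieldMap η).hom) (z w : ↑(pullback f f))
    (hz₁ : pullback.fst f f z = η) (hz₂ : pullback.snd f f z = η)
    (hw₁ : pullback.fst f f w = η) (hw₂ : pullback.snd f f w = η) : z = w := by
  let T : Scheme.Pullback.Triplet f f := Scheme.Pullback.Triplet.ofPoint z
  have e : T = Scheme.Pullback.Triplet.ofPoint w := by
    ext <;> simp [T, hz₁, hz₂, hw₁, hw₂]
  haveI : IsIso (f.residueFieldMap T.y) := by
    rw [show T.y = η from hz₂, ConcreteCategory.isIso_iff_bijective]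
    exact hbir
  haveI : IsIso T.tensorInl := pushout_inl_iso_of_right_iso _ _
  haveI : Subsingleton (Spec T.tensor) := by
    haveI : Subsingleton (Spec (X.residueField T.x)) := inferInstanceAs (Subsingleton (PrimeSpectrum _))
    exact (Spec.map T.tensorInl).homeomorph.symm.toEquiv.symm.subsingleton
  refine Scheme.Pullback.carrierEquiv.injective (Scheme.Pullback.carrierEquiv_eq_iff.mpr ⟨e, ?_⟩)
  haveI : Subsingleton (Spec (Scheme.Pullback.carrierEquiv w).fst.tensor) :=
    (show Subsingleton (Spec (Scheme.Pullback.Triplet.ofPoint w).tensor) from e ▸ ‹Subsingleton (Spec T.tensor)›)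
  exact Subsingleton.elim _ _

open CategoryTheory Limits AlgebraicGeometry in
theorem birational {X Y : Scheme.{u}} [IsIntegral X] [IsIntegral Y]
    (f : X ⟶ Y) [Etale f] [IsSeparated f] (hgen : f.base (genericPoint X) = genericPoint Y)
    (hbir : Function.Bijective (f.residueFieldMap (genericPoint X)).hom) : IsOpenImmersion f := by
  haveI : LocallyQuasiFinite f := Groth.Agent.Unibranch.locallyQuasiFinite_of_unramified f
  haveI : Surjective (pullback.diagonal f) := by
    refine ⟨fun z => ?_⟩
    obtain ⟨z', hz', hz'₁⟩ := Flat.generalizingMap (pullback.fst f f)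
      (genericPoint_specializes (pullback.fst f f z))
    have hspec : pullback.fst f f z' = genericPoint X := hz'₁
    have h2 : f (pullback.snd f f z') = genericPoint Y := by
      rw [← Scheme.Hom.comp_apply, ← pullback.condition, Scheme.Hom.comp_apply, hspec]
      exact hgen
    have h3 : pullback.snd f f z' = genericPoint X := by
      exact (Groth.Agent.Unibranch.max_of_map_eq_genericPoint f _ h2 _ (genericPoint_specializes _)).symm
    have e : z' = pullback.diagonal f (genericPoint X) := eq_of_triplet f (genericPoint X) hbir _ _ hspec h3
      (by rw [← Scheme.Hom.comp_apply, pullback.diagonal_fst]; rfl)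
      (by rw [← Scheme.Hom.comp_apply, pullback.diagonal_snd]; rfl)
    exact (hz'.mem_closed (pullback.diagonal f).isClosedEmbedding.isClosed_range (e ▸ Set.mem_range_self _))
  haveI : UniversallyInjective f := (UniversallyInjective.iff_diagonal f).mpr ‹_›
  exact Groth.Agent.S3694.result f

/-- Let f : X ⟶ Y be an étale separated morphism of integral schemes which maps the generic point of X
to the generic point of Y and induces a bijection between the residue fields of the generic points
(f is birational). Then f is an open immersion. -/
theorem result {X Y : Scheme.{u}} [IsIntegral X] [IsIntegral Y]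
    (f : X ⟶ Y) [Etale f] [IsSeparated f] (hgen : f.base (genericPoint X) = genericPoint Y)
    (hbir : Function.Bijective (f.residueFieldMap (genericPoint X)).hom) : IsOpenImmersion f := by
  exact birational f hgen hbir

end Groth.Agent.S5067
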