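import Mathlib
import Groth.Agent.S5774
import Groth.Statements.S5775

set_option autoImplicit false
universe u
open EGA41

namespace Groth.Agent.S5775

/-- Let A → B be a local homomorphism of Noetherian local rings, m the maximal ideal of A, M a finitely
generated B-module flat over A and R a B-submodule of M such that M/R is flat over A. Let f_1, ...,
f_n be elements of the maximal ideal of B such that (i) f_i M ⊆ R for all i, (ii) the images of the
f_i form an (M/mM)-regular sequence, and (iii) the submodule f_1 (M/mM) + ... + f_n (M/mM) is the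
image of R in M/mM. Then (f_i) is an M-regular sequence and R = f_1 M + ... + f_n M. -/
theorem result (A B : Type u) [CommRing A] [CommRing B] [IsLocalRing A]
    [IsLocalRing B] [IsNoetherianRing A] [IsNoetherianRing B] [Algebra A B] [IsLocalHom (algebraMap A B)]
    (M : Type u) [AddCommGroup M] [Module B M] [Module A M] [IsScalarTower A B M] [Module.Finite B M]
    [Module.Flat A M] (R : Submodule B M) (hR : Module.Flat A (M ⧸ R)) (fs : List B)
    (hfs : ∀ f ∈ fs, f ∈ IsLocalRing.maximalIdeal B) (h1 : Ideal.ofList fs • (⊤ : Submodule B M) ≤ R)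
    (h2 : RingTheory.Sequence.IsWeaklyRegular
      (M ⧸ ((IsLocalRing.maximalIdeal A).map (algebraMap A B) • (⊤ : Submodule B M))) fs)
    (h3 : Ideal.ofList fs • (⊤ : Submodule B
        (M ⧸ ((IsLocalRing.maximalIdeal A).map (algebraMap A B) • (⊤ : Submodule B M)))) =
      R.map ((IsLocalRing.maximalIdeal A).map (algebraMap A B) • (⊤ : Submodule B M)).mkQ) :
    RingTheory.Sequence.IsWeaklyRegular M fs ∧ R = Ideal.ofList fs • (⊤ : Submodule B M) := by
  obtain ⟨hw, hfl⟩ := Groth.Agent.S5774.result A B M fs h2
  refine ⟨hw, le_antisymm ?_ h1⟩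
  haveI hN := hfl fs.length le_rfl
  rw [List.take_length] at hN
  set S := (Ideal.ofList fs • ⊤ : Submodule B M) with hS
  set mB := (IsLocalRing.maximalIdeal A).map (algebraMap A B) with hmB
  let K : Submodule B (M ⧸ S) := R.map S.mkQ
  haveI : Module.Flat A ((M ⧸ S) ⧸ K.restrictScalars A) := by
    haveI := hR
    exact Module.Flat.of_linearEquiv (M := M ⧸ R)
      ((((Submodule.quotientQuotientEquivQuotient S R h1).restrictScalars A).symm.trans
        (Submodule.Quotient.restrictScalarsEquiv A K).symm).symm)
  have hKm : K ≤ mB • K := by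
    intro y hy
    obtain ⟨x, hx, rfl⟩ := Submodule.mem_map.1 hy
    have hx' : (mB • ⊤ : Submodule B M).mkQ x ∈ R.map (mB • ⊤ : Submodule B M).mkQ :=
      Submodule.mem_map_of_mem hx
    rw [← h3] at hx'
    have hx'' : x ∈ S ⊔ mB • ⊤ := by
      have := Submodule.mem_comap.2 hx'
      rwa [Submodule.comap_smul_top_of_surjective (Ideal.ofList fs) _ (Submodule.mkQ_surjective _),
        Submodule.ker_mkQ] at this
    obtain ⟨s, hs, t, ht, rfl⟩ := Submodule.mem_sup.1 hx''
    have hsK : S.mkQ s = 0 := (Submodule.Quotient.mk_eq_zero _).2 hs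
    rw [map_add, hsK, zero_add] at hy ⊢
    have ht' : S.mkQ t ∈ (IsLocalRing.maximalIdeal A • ⊤ : Submodule A (M ⧸ S)) := by
      rw [LocFlat.mem_smul_top_iff (S := B)]
      have := Submodule.mem_map_of_mem (f := S.mkQ) ht
      rw [Submodule.map_smul''] at this
      exact Submodule.smul_mono le_rfl le_top this
    have := Groth.Agent.FlatSeqLib.inf_smul_le_of_flat_quotient (K.restrictScalars A)
      (IsLocalRing.maximalIdeal A) ⟨hy, ht'⟩
    have hle : IsLocalRing.maximalIdeal A • K.restrictScalars A ≤ (mB • K).restrictScalars A :=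
      Submodule.smul_le.2 fun a ha k hk => by
        show a • k ∈ mB • K
        rw [← algebraMap_smul B a k]
        exact Submodule.smul_mem_smul (Ideal.mem_map_of_mem _ ha) hk
    exact hle this
  have hK : K = ⊥ := Submodule.eq_bot_of_le_smul_of_le_jacobson_bot mB K (IsNoetherian.noetherian _) hKm
    LocFlat.map_le_jacobson
  intro x hx
  exact (Submodule.Quotient.mk_eq_zero _).1
    ((Submodule.mem_bot B).1 (hK ▸ Submodule.mem_map_of_mem (f := S.mkQ) hx))

end Groth.Agent.S5775
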