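import Groth.Statements.S5068
import Groth.Agent.CILib.CompleteIntersection
import Groth.Agent.S5775
-- import your own Groth.Agent.* helpers here

set_option backward.isDefEq.respectTransparency false
set_option linter.style.haveILetI false

set_option autoImplicit false
universe u
open CInt

namespace Groth.Agent.S5068

open RingTheory.Sequence IsLocalRing

/-- A transversally regular sequence stays regular in the closed fibre. -/
theorem isWeaklyRegular_fibre {A C : Type u} [CommRing A] [IsLocalRing A] [CommRing C] [Algebra A C]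
    (rs : List C) (h : RegImm.IsTransRegularSeq A C rs) :
    IsWeaklyRegular (EGA4.FibRing A C) (rs.map (Ideal.Quotient.mk (EGA4.mB A C))) := by
  rw [isWeaklyRegular_iff_Fin]
  intro i
  have hi : (i : ℕ) < rs.length := by simpa using i.2
  rw [isSMulRegular_quotient_iff_mem_of_smul_mem]
  intro ybar hy
  obtain ⟨y, rfl⟩ := Ideal.Quotient.mk_surjective ybar
  set J := Ideal.ofList (rs.take i) with hJ
  have hmapJ : Ideal.ofList ((rs.map (Ideal.Quotient.mk (EGA4.mB A C))).take i) = J.map (Ideal.Quotient.mk (EGA4.mB A C)) := by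
    rw [← List.map_take, hJ, Ideal.map_ofList]
  rw [smul_eq_mul, smul_eq_mul, Ideal.mul_top, hmapJ] at hy
  simp only [Fin.getElem_fin, List.getElem_map, ← map_mul] at hy
  rw [smul_eq_mul, Ideal.mul_top, hmapJ]
  have hin : rs[(i : ℕ)] * y ∈ J ⊔ EGA4.mB A C := by
    have := Ideal.mem_comap.2 hy
    rwa [Ideal.comap_map_of_surjective' _ Ideal.Quotient.mk_surjective, Ideal.mk_ker] at this
  suffices y ∈ J ⊔ EGA4.mB A C by
    have h2 := Ideal.mem_map_of_mem (Ideal.Quotient.mk (EGA4.mB A C)) this
    rwa [Ideal.map_sup, Ideal.map_quotient_self, sup_bot_eq] at h2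
  -- work in the partial quotient
  let q := Ideal.Quotient.mk J
  let r := rs[(i : ℕ)]
  let K : Submodule A (C ⧸ J) := ((Ideal.span {q r}).restrictScalars A)
  have hJ1 : Ideal.ofList (rs.take (i + 1)) = J ⊔ Ideal.span {r} := by
    rw [← List.take_concat_get' rs i hi, Ideal.ofList_append, hJ, Ideal.ofList_singleton]
  haveI : Module.Flat A ((C ⧸ J) ⧸ K) := by
    have h1 := h.2 (i + 1) hi
    rw [hJ1] at h1
    have hs : (Ideal.span {q r}) = (J ⊔ Ideal.span {r}).map q := by
      rw [Ideal.map_sup, Ideal.map_quotient_self, bot_sup_eq, Ideal.map_span, Set.image_singleton]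
    refine Module.Flat.of_linearEquiv (M := C ⧸ (J ⊔ Ideal.span {r})) ?_
    exact (Submodule.Quotient.restrictScalarsEquiv A (Ideal.span {q r})).trans
      ((Ideal.quotientEquivAlgOfEq A hs).trans
        ((DoubleQuot.quotQuotEquivQuotSupₐ A J (J ⊔ Ideal.span {r})).trans
          (Ideal.quotientEquivAlgOfEq A (by rw [← sup_assoc, sup_idem])))).toLinearEquiv
  have hqm : q (r * y) ∈ (maximalIdeal A • ⊤ : Submodule A (C ⧸ J)) := by
    rw [LocFlat.mem_smul_top_iff (S := C)]
    obtain ⟨a, ha, b, hb, hab⟩ := Submodule.mem_sup.1 hin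
    rw [← hab, map_add, Ideal.Quotient.eq_zero_iff_mem.2 ha, zero_add]
    have : q b = b • (1 : C ⧸ J) := by rw [Algebra.smul_def, mul_one]; rfl
    rw [this]
    exact Submodule.smul_mem_smul hb trivial
  have hqK : q (r * y) ∈ K := by
    show q (r * y) ∈ Ideal.span {q r}
    rw [map_mul]
    exact Ideal.mul_mem_right _ _ (Ideal.mem_span_singleton_self _)
  have h3 := Groth.Agent.FlatSeqLib.inf_smul_le_of_flat_quotient K (maximalIdeal A) ⟨hqK, hqm⟩
  obtain ⟨z, hz, hzy⟩ : ∃ z ∈ EGA4.mB A C, q (r * y) = q (r * z) := by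
    refine Submodule.smul_induction_on h3 (fun a ha k hk => ?_) (fun u v hu hv => ?_)
    · obtain ⟨w, hw⟩ := Ideal.mem_span_singleton'.1 hk
      obtain ⟨w, rfl⟩ := Ideal.Quotient.mk_surjective w
      refine ⟨algebraMap A C a * w, Ideal.mul_mem_right _ _ (Ideal.mem_map_of_mem _ ha), ?_⟩
      rw [← hw, Algebra.smul_def, map_mul q r, map_mul q (algebraMap A C a)]
      show algebraMap A (C ⧸ J) a * (q w * q r) = q r * (algebraMap A (C ⧸ J) a * q w)
      ring
    · obtain ⟨z, hz, hzu⟩ := hu
      obtain ⟨z', hz', hzv⟩ := hv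
      exact ⟨z + z', add_mem hz hz', by rw [hzu, hzv, mul_add, map_add q]⟩
  have h4 := (isSMulRegular_quotient_iff_mem_of_smul_mem _ _).1 (h.1.regular_mod_prev i hi) (y - z)
  rw [smul_eq_mul, smul_eq_mul, Ideal.mul_top] at h4
  have h5 : y - z ∈ J := h4 (by
    rw [← Ideal.Quotient.eq_zero_iff_mem, mul_sub, map_sub, sub_eq_zero]
    exact hzy)
  rw [← sub_add_cancel y z]
  exact Submodule.add_mem_sup h5 hz

/-- Suppose A and C are Noetherian local rings joined by a flat local homomorphism A → C whose closed
fibre C/m_A C is a regular local ring, and consider a local ring B obtained as a quotient of C by an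
ideal J (encoded as a surjective C-algebra B, with J taken to be the kernel). The ideal J admits a
generating sequence that is transversally regular relative to A (each term a non-zero-divisor modulo
the previous ones, and every partial quotient C/(f_1, …, f_j) A-flat) exactly when two things hold:
B is A-flat, and B/m_A B is a complete intersection (meaning its completion is a regular local ring
divided by a regular sequence). -/
theorem result (A C B : Type u) [CommRing A] [IsLocalRing A]
    [IsNoetherianRing A] [CommRing C] [IsLocalRing C] [IsNoetherianRing C] [Algebra A C] [IsLocalHom (algebraMap A C)]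
    [Module.Flat A C] (hreg : IsRegularLocalRing (EGA4.FibRing A C))
    [CommRing B] [IsLocalRing B] [Algebra C B] [Algebra A B] [IsScalarTower A C B] [IsLocalHom (algebraMap A B)]
    (hsurj : Function.Surjective (algebraMap C B)) :
    (∃ rs : List C, Ideal.ofList rs = RingHom.ker (algebraMap C B) ∧ RegImm.IsTransRegularSeq A C rs) ↔
      (Module.Flat A B ∧ Pi1.IsCompleteIntersection (EGA4.FibRing A B)) := by
  haveI := hreg
  set J := RingHom.ker (algebraMap C B) with hJdef
  let mk := Ideal.Quotient.mk (EGA4.mB A C)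
  let e0 : (C ⧸ J) ≃+* B := RingHom.quotientKerEquivOfSurjective hsurj
  let eA : (C ⧸ J) ≃ₗ[A] B := (AlgEquiv.ofRingEquiv (f := e0) (fun a => by
    show algebraMap C B (algebraMap A C a) = _
    rw [← IsScalarTower.algebraMap_apply])).toLinearEquiv
  have hmB : EGA4.mB A B = (EGA4.mB A C).map (algebraMap C B) := by
    show (IsLocalRing.maximalIdeal A).map _ = ((IsLocalRing.maximalIdeal A).map _).map _
    rw [Ideal.map_map, ← IsScalarTower.algebraMap_eq]
  haveI : Nontrivial (EGA4.FibRing A B) := Ideal.Quotient.nontrivial_iff.2 fun h =>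
    (maximalIdeal.isMaximal B).ne_top (top_le_iff.1 (h.ge.trans (IsLocalRing.map_maximalIdeal_le _)))
  haveI : IsLocalRing (EGA4.FibRing A B) := IsLocalRing.of_surjective' _ Ideal.Quotient.mk_surjective
  let π : EGA4.FibRing A C →+* EGA4.FibRing A B :=
    Ideal.quotientMap (EGA4.mB A B) (algebraMap C B) (Ideal.map_le_iff_le_comap.1 hmB.ge)
  have hπ : Function.Surjective π := Ideal.quotientMap_surjective hsurj
  have hkπ : RingHom.ker π = J.map mk := by
    ext z
    obtain ⟨c, rfl⟩ := Ideal.Quotient.mk_surjective z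
    rw [RingHom.mem_ker, show π (mk c) = Ideal.Quotient.mk (EGA4.mB A B) (algebraMap C B c) from rfl,
      Ideal.Quotient.eq_zero_iff_mem, hmB, ← Ideal.mem_comap, Ideal.comap_map_of_surjective' _ hsurj]
    constructor
    · intro h
      have h2 := Ideal.mem_map_of_mem mk h
      rwa [Ideal.map_sup, Ideal.map_quotient_self, bot_sup_eq] at h2
    · intro h
      have h2 := Ideal.mem_comap.2 h
      rwa [Ideal.comap_map_of_surjective' _ Ideal.Quotient.mk_surjective, Ideal.mk_ker, sup_comm] at h2
  rw [Groth.Agent.CILib.isCompleteIntersection_iff_cutBy π hπ]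
  constructor
  · rintro ⟨rs, hrs, htr⟩
    refine ⟨?_, ?_⟩
    · have h1 := htr.2 rs.length le_rfl
      rw [List.take_length, hrs] at h1
      exact Module.Flat.of_linearEquiv eA.symm
    · refine Groth.Agent.CILib.cutBy_of_isRegular π hπ (rs.map mk) ⟨isWeaklyRegular_fibre rs htr, fun h => ?_⟩ ?_
      · refine RingHom.ker_ne_top π ?_
        rw [smul_eq_mul, Ideal.mul_top] at h
        rw [hkπ, ← hrs, Ideal.map_ofList]
        exact h.symm
      · rw [hkπ, ← hrs, Ideal.map_ofList]
  · rintro ⟨hfl, hcut⟩
    obtain ⟨rsb, hreg0, hk⟩ := Groth.Agent.CILib.isRegular_of_cutBy π hπ hcut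
    have hlift : ∀ z ∈ rsb, ∃ c ∈ J, mk c = z := fun z hz => by
      have : z ∈ J.map mk := hkπ ▸ (hk ▸ Ideal.subset_span hz : z ∈ RingHom.ker π)
      exact (Ideal.mem_map_iff_of_surjective _ Ideal.Quotient.mk_surjective).1 this
    choose! lift hliftJ hliftmk using hlift
    let fs := rsb.map lift
    have hfsmk : fs.map mk = rsb := by
      rw [List.map_map]
      exact (List.map_congr_left fun z hz => hliftmk z hz).trans (List.map_id rsb)
    have hfsJ : ∀ f ∈ fs, f ∈ J := fun f hf => by
      obtain ⟨z, hz, rfl⟩ := List.mem_map.1 hf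
      exact hliftJ z hz
    have hJm : J ≤ maximalIdeal C := IsLocalRing.le_maximalIdeal (RingHom.ker_ne_top _)
    have hsm : ((IsLocalRing.maximalIdeal A).map (algebraMap A C) • (⊤ : Submodule C C)) = EGA4.mB A C := by
      rw [smul_eq_mul, Ideal.mul_top]
    let E : (C ⧸ ((IsLocalRing.maximalIdeal A).map (algebraMap A C) • (⊤ : Submodule C C))) ≃ₗ[C] EGA4.FibRing A C :=
      Submodule.quotEquivOfEq _ _ hsm
    have hwr : IsWeaklyRegular (C ⧸ ((IsLocalRing.maximalIdeal A).map (algebraMap A C) • (⊤ : Submodule C C))) fs := by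
      rw [E.isWeaklyRegular_congr fs, ← isWeaklyRegular_map_algebraMap_iff (EGA4.FibRing A C) _ fs]
      show IsWeaklyRegular _ (fs.map mk)
      rw [hfsmk]
      exact hreg0.toIsWeaklyRegular
    have hflJ : Module.Flat A (C ⧸ J) := by
      haveI := hfl
      exact Module.Flat.of_linearEquiv eA
    have hsup : EGA4.mB A C ⊔ Ideal.ofList fs = EGA4.mB A C ⊔ J := by
      have h1 : (Ideal.ofList fs).map mk = J.map mk := by rw [Ideal.map_ofList, hfsmk, ← hk, hkπ]
      have h2 := congrArg (Ideal.comap mk) h1
      rwa [Ideal.comap_map_of_surjective' _ Ideal.Quotient.mk_surjective,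
        Ideal.comap_map_of_surjective' _ Ideal.Quotient.mk_surjective, Ideal.mk_ker,
        sup_comm, sup_comm J] at h2
    have h3 : Ideal.ofList fs • (⊤ : Submodule C
        (C ⧸ ((IsLocalRing.maximalIdeal A).map (algebraMap A C) • (⊤ : Submodule C C)))) =
        Submodule.map ((IsLocalRing.maximalIdeal A).map (algebraMap A C) • (⊤ : Submodule C C)).mkQ J := by
      set N := ((IsLocalRing.maximalIdeal A).map (algebraMap A C) • (⊤ : Submodule C C)) with hN
      have htop : (⊤ : Submodule C (C ⧸ N)) = Submodule.map N.mkQ ⊤ := by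
        rw [Submodule.map_top, Submodule.range_mkQ]
      rw [htop, ← Submodule.map_smul'', smul_eq_mul, Ideal.mul_top]
      refine Submodule.comap_injective_of_surjective N.mkQ_surjective ?_
      rw [Submodule.comap_map_mkQ, Submodule.comap_map_mkQ, hsm]
      exact hsup
    obtain ⟨hwC, hRC⟩ := Groth.Agent.S5775.result A C C J hflJ fs (fun f hf => hJm (hfsJ f hf))
      (by rw [smul_eq_mul, Ideal.mul_top]; exact Ideal.span_le.2 fun f hf => hfsJ f hf) hwr h3
    · rw [smul_eq_mul, Ideal.mul_top] at hRC
      refine ⟨fs, hRC.symm, hwC, fun j hj => ?_⟩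
      have h1 := (Groth.Agent.S5774.result A C C fs hwr).2 j hj
      rwa [smul_eq_mul, Ideal.mul_top] at h1

end Groth.Agent.S5068
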