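import Groth.Statements.S5069
import Mathlib

set_option autoImplicit false
universe u v
open Hensel

namespace Groth.Agent.S5069

/-- First assertion, phrased for the images of the inductive system: let B be a Noetherian commutative
ring and (C_i) a family of Artinian subrings of B, directed under inclusion, whose union is B. Then
B is an Artinian ring. -/
theorem result (B : Type u) [CommRing B] [IsNoetherianRing B]
    {ι : Type v} [Nonempty ι] (C : ι → Subring B) (hdir : Directed (fun a b => a ≤ b) C)
    (hart : ∀ i, IsArtinianRing ↥(C i)) (hcov : ∀ b : B, ∃ i, b ∈ C i) : IsArtinianRing B := by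
  refine isArtinianRing_iff_isNoetherianRing_krullDimLE_zero.2 ⟨inferInstance,
    Ring.KrullDimLE.mk₀ fun P hP => ?_⟩
  have hne := hP.ne_top
  refine Ideal.Quotient.maximal_of_isField P ?_
  refine ⟨exists_pair_ne _, mul_comm, fun {x} hx => ?_⟩
  obtain ⟨b, rfl⟩ := Ideal.Quotient.mk_surjective x
  obtain ⟨i, hi⟩ := hcov b
  have := hart i
  have hmax : (P.comap (C i).subtype).IsMaximal := IsArtinianRing.isMaximal_of_isPrime _
  have hb : (⟨b, hi⟩ : C i) ∉ P.comap (C i).subtype := fun h =>
    hx (Ideal.Quotient.eq_zero_iff_mem.2 h)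
  obtain ⟨c, m, hm, hc⟩ := hmax.exists_inv hb
  refine ⟨Ideal.Quotient.mk P c, ?_⟩
  rw [← map_mul, ← map_one (Ideal.Quotient.mk P), Ideal.Quotient.eq]
  have h1 := congrArg (C i).subtype hc
  simp only [map_add, map_mul, map_one, Subring.subtype_apply] at h1
  rw [show b * (c : B) - 1 = -(m : B) by linear_combination h1]
  exact neg_mem hm

end Groth.Agent.S5069
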