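import Groth.Statements.S5070
import Groth.Agent.NFHilbLib.Spread
import Groth.Agent.FlatLocus.ModInjFlat
import Groth.Agent.IdealStalkLib.Cartier
import Groth.Agent.QCohLib.FiniteType
-- import your own Groth.Agent.* helpers here

set_option autoImplicit false
open CategoryTheory AlgebraicGeometry
universe u
open CInt

namespace Groth.Agent.S5070


section

open IsLocalRing NFHilbLib

variable {X : Scheme.{u}} [IsLocallyNoetherian X]

theorem stalk_data (F : X.Modules) (hF : Coh.IsCoh F) (x : X) :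
    IsNoetherianRing (X.presheaf.stalk x) ∧ Module.Finite (X.presheaf.stalk x) (F.presheaf.stalk x) := by
  obtain ⟨_, ⟨W : X.Opens, hW, rfl⟩, hx, -⟩ := X.isBasis_affineOpens.exists_subset_of_mem_open (Set.mem_univ x) isOpen_univ
  haveI : Coh.IsQCoh F := hF.1
  haveI : IsNoetherianRing Γ(X, W) := Groth.Agent.QCohLib.isNoetherianRing_section hW
  haveI := Groth.Agent.QCohLib.finite_sections F hF.2 hW
  letI : Algebra Γ(X, W) (X.presheaf.stalk x) := TopCat.Presheaf.algebra_section_stalk X.presheaf ⟨x, hx⟩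
  haveI := hW.isLocalization_stalk ⟨x, hx⟩
  letI := Module.compHom (F.presheaf.stalk x) (X.presheaf.germ W x hx).hom
  haveI := Groth.Agent.FlatLocus.isLocalizedModule_germL F hW x hx
  haveI : IsScalarTower Γ(X, W) (X.presheaf.stalk x) (F.presheaf.stalk x) := .of_algebraMap_smul fun _ _ => rfl
  exact ⟨IsLocalization.isNoetherianRing (hW.primeIdealOf ⟨x, hx⟩).asIdeal.primeCompl _ inferInstance,
    Module.Finite.of_isLocalizedModule (hW.primeIdealOf ⟨x, hx⟩).asIdeal.primeCompl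
      (Groth.Agent.FlatLocus.germL F W x hx)⟩

set_option backward.isDefEq.respectTransparency false in
theorem mem_basic {W : X.Opens} (hW : IsAffineOpen W) {x : X} (hx : x ∈ W) (c : Γ(X, W)) :
    c ∉ (hW.primeIdealOf ⟨x, hx⟩).asIdeal ↔ x ∈ X.basicOpen c := by
  have h := SetLike.ext_iff.mp (hW.fromSpec_preimage_basicOpen c) (hW.primeIdealOf ⟨x, hx⟩)
  rw [Scheme.Hom.mem_preimage, hW.fromSpec_primeIdealOf] at h
  exact h.symm

theorem exists_mu_locallyConstant (𝓘 : X.IdealSheafData) (F : X.Modules) (hF : Coh.IsCoh F)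
    (hnf : ∀ y : ↥𝓘.subscheme, EGA4.IsNormallyFlat (RingHom.ker (𝓘.subschemeι.stalkMap y).hom) ↑(F.presheaf.stalk (𝓘.subschemeι y))) :
    ∃ μ : ℕ → ↥𝓘.subscheme → ℕ, (∀ r, IsLocallyConstant (μ r)) ∧
      ∀ (y : ↥𝓘.subscheme) (g : Gens (RingHom.ker (𝓘.subschemeι.stalkMap y).hom)
        ↑(F.presheaf.stalk (𝓘.subschemeι y))), g.Ind ∧ ∀ r, g.μ r = μ r y := by
  classical
  haveI := fun x => (stalk_data F hF x).1
  haveI := fun x => (stalk_data F hF x).2
  haveI : Coh.IsQCoh F := hF.1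
  have hK : ∀ y : ↥𝓘.subscheme, RingHom.ker (𝓘.subschemeι.stalkMap y).hom ≤ maximalIdeal _ := fun y =>
    le_maximalIdeal (RingHom.ker_ne_top _)
  let g₀ := fun y : ↥𝓘.subscheme => Classical.choice (exists_gens (RingHom.ker (𝓘.subschemeι.stalkMap y).hom)
    (M := ↑(F.presheaf.stalk (𝓘.subschemeι y))))
  refine ⟨fun r y => (g₀ y).μ r, fun r => ?_, fun y g => ⟨(flat_iff_ind g (hK y)).1 (hnf y),
    fun r => mu_unique (hK y) g (g₀ y) r⟩⟩
  rw [IsLocallyConstant.iff_eventually_eq]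
  intro y
  obtain ⟨_, ⟨W : X.Opens, hW, rfl⟩, hx, -⟩ :=
    X.isBasis_affineOpens.exists_subset_of_mem_open (Set.mem_univ (𝓘.subschemeι y)) isOpen_univ
  haveI : IsNoetherianRing Γ(X, W) := Groth.Agent.QCohLib.isNoetherianRing_section hW
  haveI := Groth.Agent.QCohLib.finite_sections F hF.2 hW
  have hker : ∀ (z : ↥𝓘.subscheme) (hz : 𝓘.subschemeι z ∈ W), RingHom.ker (𝓘.subschemeι.stalkMap z).hom =
      (𝓘.ideal ⟨W, hW⟩).map (X.presheaf.germ W (𝓘.subschemeι z) hz).hom := fun z hz =>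
    (Groth.Agent.IdealStalkLib.ker_stalkMap_subschemeι 𝓘 z).trans
      (Groth.Agent.IdealStalkLib.stalkIdeal_eq 𝓘 ⟨W, hW⟩ _ hz)
  obtain ⟨c, hc, hcq⟩ : ∃ c, c ∉ (hW.primeIdealOf ⟨_, hx⟩).asIdeal ∧
      ∀ (z : ↥𝓘.subscheme) (hz : 𝓘.subschemeι z ∈ W), c ∉ (hW.primeIdealOf ⟨_, hz⟩).asIdeal →
        (g₀ z).μ r = (g₀ y).μ r := by
    letI : Algebra Γ(X, W) (X.presheaf.stalk (𝓘.subschemeι y)) := TopCat.Presheaf.algebra_section_stalk X.presheaf ⟨_, hx⟩
    haveI := hW.isLocalization_stalk ⟨_, hx⟩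
    letI := Module.compHom (F.presheaf.stalk (𝓘.subschemeι y)) (X.presheaf.germ W _ hx).hom
    haveI := Groth.Agent.FlatLocus.isLocalizedModule_germL F hW _ hx
    haveI : IsScalarTower Γ(X, W) (X.presheaf.stalk (𝓘.subschemeι y)) (F.presheaf.stalk (𝓘.subschemeι y)) :=
      .of_algebraMap_smul fun _ _ => rfl
    obtain ⟨g⟩ := exists_gens ((𝓘.ideal ⟨W, hW⟩).map (algebraMap Γ(X, W) (X.presheaf.stalk (𝓘.subschemeι y))))
      (M := ↑(F.presheaf.stalk (𝓘.subschemeι y)))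
    have hKy : (𝓘.ideal ⟨W, hW⟩).map (algebraMap Γ(X, W) (X.presheaf.stalk (𝓘.subschemeι y))) ≤ maximalIdeal _ :=
      (hker y hx).ge.trans (hK y)
    have hind : g.Ind := (flat_iff_ind g hKy).1 ((hker y hx) ▸ hnf y)
    have huniq : ∀ {K K' : Ideal (X.presheaf.stalk (𝓘.subschemeι y))}, K = K' → K ≤ maximalIdeal _ →
        ∀ (a : Gens K ↑(F.presheaf.stalk (𝓘.subschemeι y))) (b : Gens K' ↑(F.presheaf.stalk (𝓘.subschemeι y))),
          a.μ r = b.μ r := by
      rintro K _ rfl h a b; exact mu_unique h a b r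
    obtain ⟨c, hc, hcq⟩ := exists_spread (𝓘.ideal ⟨W, hW⟩) (hW.primeIdealOf ⟨_, hx⟩).asIdeal
      (Groth.Agent.FlatLocus.germL F W _ hx) g hind r
    refine ⟨c, hc, fun z hz hcz => ?_⟩
    rw [huniq (hker y hx) (hK y) (g₀ y) g]
    letI : Algebra Γ(X, W) (X.presheaf.stalk (𝓘.subschemeι z)) := TopCat.Presheaf.algebra_section_stalk X.presheaf ⟨_, hz⟩
    haveI := hW.isLocalization_stalk ⟨_, hz⟩
    letI := Module.compHom (F.presheaf.stalk (𝓘.subschemeι z)) (X.presheaf.germ W _ hz).hom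
    haveI := Groth.Agent.FlatLocus.isLocalizedModule_germL F hW _ hz
    haveI : IsScalarTower Γ(X, W) (X.presheaf.stalk (𝓘.subschemeι z)) (F.presheaf.stalk (𝓘.subschemeι z)) :=
      .of_algebraMap_smul fun _ _ => rfl
    obtain ⟨g'⟩ := exists_gens ((𝓘.ideal ⟨W, hW⟩).map (algebraMap Γ(X, W) (X.presheaf.stalk (𝓘.subschemeι z))))
      (M := ↑(F.presheaf.stalk (𝓘.subschemeι z)))
    have hKz : (𝓘.ideal ⟨W, hW⟩).map (algebraMap Γ(X, W) (X.presheaf.stalk (𝓘.subschemeι z))) ≤ maximalIdeal _ :=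
      (hker z hz).ge.trans (hK z)
    rw [← hcq (hW.primeIdealOf ⟨_, hz⟩).asIdeal _ _ (Groth.Agent.FlatLocus.germL F W _ hz) hcz hKz g']
    have huniq' : ∀ {K K' : Ideal (X.presheaf.stalk (𝓘.subschemeι z))}, K = K' → K ≤ maximalIdeal _ →
        ∀ (a : Gens K ↑(F.presheaf.stalk (𝓘.subschemeι z))) (b : Gens K' ↑(F.presheaf.stalk (𝓘.subschemeι z))),
          a.μ r = b.μ r := by
      rintro K _ rfl h a b; exact mu_unique h a b r
    exact huniq' (hker z hz) (hK z) (g₀ z) g'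
  filter_upwards [(𝓘.subschemeι ⁻¹ᵁ X.basicOpen c).isOpen.mem_nhds ((mem_basic hW hx c).1 hc)] with z hz
  exact hcq z (X.basicOpen_le c hz) ((mem_basic hW (X.basicOpen_le c hz) c).2 hz)

end

/-- Let X be a locally Noetherian scheme, Y the closed subscheme defined by an ideal sheaf, assumed
regular and connected, and F a coherent O_X-module which is normally flat along Y (at every point y
of Y, every I_y^h F_y / I_y^(h+1) F_y is flat over O_{Y,y}). Then there is a single sequence of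
natural numbers R such that for every y in Y, if n is the dimension of O_{Y,y}, then for all h the
length of m^h F_y / m^(h+1) F_y over the residue field (m the maximal ideal of O_{X,y}) equals the
sum over r ≤ h of C(r+n-1, r) R(h-r): the Poincaré series of gr_m(F_y) is R(T)(1-T)^(-n). -/
theorem result {X : Scheme.{u}} [IsLocallyNoetherian X]
    (𝓘 : X.IdealSheafData) [ConnectedSpace ↥𝓘.subscheme]
    (hreg : ∀ y : ↥𝓘.subscheme, IsRegularLocalRing ↑(𝓘.subscheme.presheaf.stalk y))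
    (F : X.Modules) (hF : Coh.IsCoh F)
    (hnf : ∀ y : ↥𝓘.subscheme, EGA4.IsNormallyFlat (RingHom.ker (𝓘.subschemeι.stalkMap y).hom) ↑(F.presheaf.stalk (𝓘.subschemeι y))) :
    ∃ R : ℕ → ℕ, ∀ (y : ↥𝓘.subscheme) (n : ℕ), ringKrullDim ↑(𝓘.subscheme.presheaf.stalk y) = n →
      ∀ h : ℕ, Module.finrank (↑(X.presheaf.stalk (𝓘.subschemeι y)) ⧸ IsLocalRing.maximalIdeal ↑(X.presheaf.stalk (𝓘.subschemeι y)))
          (↥(IsLocalRing.maximalIdeal ↑(X.presheaf.stalk (𝓘.subschemeι y)) ^ h • (⊤ : Submodule ↑(X.presheaf.stalk (𝓘.subschemeι y)) ↑(F.presheaf.stalk (𝓘.subschemeι y)))) ⧸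
            (IsLocalRing.maximalIdeal ↑(X.presheaf.stalk (𝓘.subschemeι y)) • (⊤ : Submodule ↑(X.presheaf.stalk (𝓘.subschemeι y)) ↥(IsLocalRing.maximalIdeal ↑(X.presheaf.stalk (𝓘.subschemeι y)) ^ h • (⊤ : Submodule ↑(X.presheaf.stalk (𝓘.subschemeι y)) ↑(F.presheaf.stalk (𝓘.subschemeι y))))))) =
        ∑ r ∈ Finset.range (h + 1), Nat.choose (r + n - 1) r * R (h - r) := by
  classical
  haveI := fun x => (stalk_data F hF x).1
  haveI := fun x => (stalk_data F hF x).2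
  obtain ⟨μ, hμ, hμg⟩ := exists_mu_locallyConstant 𝓘 F hF hnf
  obtain ⟨y₀⟩ := (inferInstance : Nonempty ↥𝓘.subscheme)
  refine ⟨fun r => μ r y₀, fun y n hn h => ?_⟩
  let φ := (𝓘.subschemeι.stalkMap y).hom
  let e := RingHom.quotientKerEquivOfSurjective (f := φ) (𝓘.subschemeι.stalkMap_surjective y)
  haveI := hreg y
  haveI : IsRegularLocalRing (↑(X.presheaf.stalk (𝓘.subschemeι y)) ⧸ RingHom.ker φ) := IsRegularLocalRing.of_ringEquiv e.symm
  obtain ⟨p⟩ := NFHilbLib.exists_param (RingHom.ker φ) (n := n) ((ringKrullDim_eq_of_ringEquiv e).trans hn)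
  obtain ⟨g⟩ := NFHilbLib.exists_gens (RingHom.ker φ) (M := ↑(F.presheaf.stalk (𝓘.subschemeι y)))
  obtain ⟨hind, hgμ⟩ := hμg y g
  have hh := (NFHilbLib.hilbert p g).2 hind h
  rw [← NFHilbLib.finrank_hilbert, Nat.cast_inj] at hh
  rw [hh]
  exact Finset.sum_congr rfl fun r _ => by simp only [hgμ]; rw [(hμ (h - r)).apply_eq_of_preconnectedSpace y₀ y]

end Groth.Agent.S5070
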