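import Groth.Statements.S5072
import Groth.Agent.SHTensor.Local
import Mathlib.RingTheory.TensorProduct.Finite
import Mathlib.RingTheory.LocalRing.ResidueField.Instances
-- import your own Groth.Agent.* helpers here

set_option autoImplicit false
open scoped TensorProduct
universe u
open Hensel

namespace Groth.Agent.S5072

/-- Case of a local ring A and a local finite A-algebra B: let S be a strict henselization of A and T a
strict henselization of B. Then there is a maximal ideal q of B ⊗_A S such that T is isomorphic, as
a B-algebra, to the local ring (B ⊗_A S)_q. -/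
theorem result (A B S T : Type u) [CommRing A] [IsLocalRing A]
    [CommRing B] [IsLocalRing B] [Algebra A B] [Module.Finite A B]
    [CommRing S] [IsLocalRing S] [Algebra A S] [IsLocalHom (algebraMap A S)] [Hensel.IsStrictHenselization A S]
    [CommRing T] [IsLocalRing T] [Algebra B T] [IsLocalHom (algebraMap B T)] [Hensel.IsStrictHenselization B T] :
    ∃ (q : Ideal (B ⊗[A] S)) (_ : q.IsMaximal), Nonempty (Localization.AtPrime q ≃ₐ[B] T) := by
  have hS : _root_.Hensel.IsStrictHenselization A S := inferInstance
  have hT : _root_.Hensel.IsStrictHenselization B T := inferInstance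
  haveI := hT.henselian
  haveI : HenselianLocalRing S := hS.henselian
  haveI : IsSepClosed (IsLocalRing.ResidueField S) := hS.isSepClosure.sep_closed
  haveI : IsSepClosed (IsLocalRing.ResidueField T) := hT.isSepClosure.sep_closed
  haveI : Algebra.IsSeparable (IsLocalRing.ResidueField A) (IsLocalRing.ResidueField S) := hS.isSepClosure.separable
  haveI := SHTensor.isLocalHom_of_isIntegral A B
  letI : Algebra A T := ((algebraMap B T).comp (algebraMap A B)).toAlgebra
  haveI : IsScalarTower A B T := IsScalarTower.of_algebraMap_eq fun _ => rfl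
  haveI : IsLocalHom (algebraMap A T) := RingHom.isLocalHom_comp (algebraMap B T) (algebraMap A B)
  let τ : IsLocalRing.ResidueField S →ₐ[IsLocalRing.ResidueField A] IsLocalRing.ResidueField T := IsSepClosed.lift
  obtain ⟨g, ⟨hg, -⟩, -⟩ := hS.universal T (algebraMap A T) τ.toRingHom (RingHom.ext fun x => τ.commutes x)
  letI : Algebra S T := g.toAlgebra
  haveI : IsScalarTower A S T := IsScalarTower.of_algebraMap_eq fun a => (RingHom.congr_fun hg a).symm
  haveI : IsLocalization.AtPrime A (IsLocalRing.maximalIdeal A) :=
    IsLocalization.at_units fun x hx => not_not.1 fun h => hx ((IsLocalRing.mem_maximalIdeal _).2 h)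
  haveI : IsLocalization.AtPrime B (IsLocalRing.maximalIdeal B) :=
    IsLocalization.at_units fun x hx => not_not.1 fun h => hx ((IsLocalRing.mem_maximalIdeal _).2 h)
  haveI : (IsLocalRing.maximalIdeal B).LiesOver (IsLocalRing.maximalIdeal A) :=
    ⟨(((IsLocalRing.local_hom_TFAE (algebraMap A B)).out 0 4 rfl rfl).mp inferInstance).symm⟩
  haveI : IsLocalHom (algebraMap S T) :=
    SHTensor.isLocalHom_of_strict A B (IsLocalRing.maximalIdeal A) (IsLocalRing.maximalIdeal B) A B S T
  haveI := Hensel.finite_localization (R := S) (SHTensor.Q A B S T) (SHTensor.comap_Q A B S T)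
  have hb := SHTensor.bijective_ψ_of_isIntegral A B (IsLocalRing.maximalIdeal A) (IsLocalRing.maximalIdeal B) A B S T
  have hQ : (SHTensor.Q A B S T).IsMaximal :=
    Ideal.isMaximal_of_isIntegral_of_isMaximal_comap (R := S) _
      (SHTensor.comap_Q A B S T ▸ IsLocalRing.maximalIdeal.isMaximal S)
  let c : B ⊗[A] S →ₐ[A] S ⊗[A] B := (Algebra.TensorProduct.comm A B S).toAlgHom
  let q : Ideal (B ⊗[A] S) := (SHTensor.Q A B S T).comap c.toRingHom
  haveI hq : q.IsMaximal := Ideal.comap_isMaximal_of_surjective _ (Algebra.TensorProduct.comm A B S).surjective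
  let e : Localization.AtPrime q →+* Localization.AtPrime (SHTensor.Q A B S T) :=
    Localization.localRingHom q (SHTensor.Q A B S T) c.toRingHom rfl
  have he : Function.Bijective e := by
    let c' : S ⊗[A] B →+* B ⊗[A] S := (Algebra.TensorProduct.comm A S B).toAlgHom.toRingHom
    have hcc : c.toRingHom.comp c' = RingHom.id _ := RingHom.ext fun x =>
      (Algebra.TensorProduct.comm A B S).apply_symm_apply x
    have hcc' : c'.comp c.toRingHom = RingHom.id _ := RingHom.ext fun x =>
      (Algebra.TensorProduct.comm A B S).symm_apply_apply x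
    have hq' : SHTensor.Q A B S T = q.comap c' := by
      show _ = ((SHTensor.Q A B S T).comap c.toRingHom).comap c'
      rw [Ideal.comap_comap, hcc, Ideal.comap_id]
    refine Function.bijective_iff_has_inverse.2
      ⟨Localization.localRingHom (SHTensor.Q A B S T) q c' hq', fun z => ?_, fun z => ?_⟩
    · refine RingHom.congr_fun (f := (Localization.localRingHom (SHTensor.Q A B S T) q c' hq').comp e) (g := RingHom.id _) ?_ z
      refine IsLocalization.ringHom_ext q.primeCompl (RingHom.ext fun x => ?_)
      simp only [RingHom.comp_apply, e, Localization.localRingHom_to_map, RingHom.id_apply]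
      exact congrArg (algebraMap _ _) (RingHom.congr_fun hcc' x)
    · refine RingHom.congr_fun (f := e.comp (Localization.localRingHom (SHTensor.Q A B S T) q c' hq')) (g := RingHom.id _) ?_ z
      refine IsLocalization.ringHom_ext (SHTensor.Q A B S T).primeCompl (RingHom.ext fun x => ?_)
      simp only [RingHom.comp_apply, e, Localization.localRingHom_to_map, RingHom.id_apply]
      exact congrArg (algebraMap _ _) (RingHom.congr_fun hcc x)
  have hcomm : ∀ b : B, ((SHTensor.ψ A B S T).comp e) (algebraMap B (Localization.AtPrime q) b) = algebraMap B T b := by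
    intro b
    rw [IsScalarTower.algebraMap_apply B (B ⊗[A] S) (Localization.AtPrime q), RingHom.comp_apply,
      Localization.localRingHom_to_map, SHTensor.ψ_algebraMap]
    simp [c]
  exact ⟨q, hq, ⟨AlgEquiv.ofBijective
    ({ (SHTensor.ψ A B S T).comp e with commutes' := hcomm } : Localization.AtPrime q →ₐ[B] T)
    (hb.comp he)⟩⟩

end Groth.Agent.S5072
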