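import Groth.Statements.S5073
import Mathlib
-- import your own Groth.Agent.* helpers here

set_option autoImplicit false
universe u
open EGA418

namespace Groth.Agent.S5073

/-- Let A be a Noetherian local ring, p a prime ideal and x an element of A. Then there is an element x'
of A whose image in A_p equals that of x and which belongs to no minimal prime ideal of A not
contained in p. -/
theorem result (A : Type u) [CommRing A] [IsNoetherianRing A] [IsLocalRing A]
    (p : Ideal A) [p.IsPrime] (x : A) :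
    ∃ x' : A, algebraMap A (Localization.AtPrime p) x' = algebraMap A (Localization.AtPrime p) x ∧
      ∀ q ∈ minimalPrimes A, ¬ q ≤ p → x' ∉ q := by
  classical
  let K := RingHom.ker (algebraMap A (Localization.AtPrime p))
  haveI := (minimalPrimes.finite_of_isNoetherianRing A).fintype
  have hK : ∀ q ∈ minimalPrimes A, ¬ q ≤ p → ¬ K ≤ q := by
    intro q hq hqp hle
    haveI := hq.1.1
    let T := (minimalPrimes A).toFinset.filter fun r => ¬ r ≤ p
    let T' := (minimalPrimes A).toFinset.filter fun r => r ≤ p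
    have hp' : ¬ ∏ r ∈ T, r ≤ p := fun h => by
      obtain ⟨r, hr, hrp⟩ := (Ideal.IsPrime.prod_le ‹p.IsPrime›).1 h
      exact (Finset.mem_filter.1 hr).2 hrp
    obtain ⟨s, hs, hsp⟩ := SetLike.not_le_iff_exists.1 hp'
    have hq' : ¬ ∏ r ∈ T', r ≤ q := fun h => by
      obtain ⟨r, hr, hrq⟩ := (Ideal.IsPrime.prod_le ‹q.IsPrime›).1 h
      obtain ⟨hr1, hr2⟩ := Finset.mem_filter.1 hr
      exact hqp ((hq.2 (Set.mem_toFinset.1 hr1).1 hrq).trans hr2)
    obtain ⟨t, ht, htq⟩ := SetLike.not_le_iff_exists.1 hq'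
    have hnil : IsNilpotent (s * t) := by
      rw [← mem_nilradical, nilradical, ← Ideal.sInf_minimalPrimes, Submodule.mem_sInf]
      intro r hr
      have hrm : r ∈ (minimalPrimes A).toFinset := Set.mem_toFinset.2 hr
      by_cases h : r ≤ p
      · exact Ideal.mul_mem_left _ _ (Ideal.le_of_dvd
          (Finset.dvd_prod_of_mem id (Finset.mem_filter.2 ⟨hrm, h⟩)) ht)
      · exact Ideal.mul_mem_right _ _ (Ideal.le_of_dvd
          (Finset.dvd_prod_of_mem id (Finset.mem_filter.2 ⟨hrm, h⟩)) hs)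
    obtain ⟨n, hn⟩ := hnil
    have hmem : t ^ n ∈ K := by
      rw [RingHom.mem_ker, IsLocalization.map_eq_zero_iff p.primeCompl]
      exact ⟨⟨s ^ n, fun h => hsp (‹p.IsPrime›.mem_of_pow_mem n h)⟩, by rw [← mul_pow]; exact hn⟩
    exact htq (‹q.IsPrime›.mem_of_pow_mem n (hle hmem))
  let S1 := (minimalPrimes A).toFinset.filter fun r => ¬ r ≤ p ∧ x ∈ r
  let S2 := (minimalPrimes A).toFinset.filter fun r => ¬ r ≤ p ∧ x ∉ r
  let J := K * ∏ r ∈ S2, r
  have hJ : ¬ ((J : Set A) ⊆ ⋃ r ∈ (↑S1 : Set (Ideal A)), (r : Set A)) := by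
    intro h
    obtain ⟨r, hr, hJr⟩ := (Ideal.subset_union_prime (s := S1) (f := id) ⊥ ⊥
      (fun r hr _ _ => (Set.mem_toFinset.1 (Finset.mem_filter.1 hr).1).1.1)).1 h
    obtain ⟨hr1, hr2, hr3⟩ := Finset.mem_filter.1 hr
    have hrm := Set.mem_toFinset.1 hr1
    haveI := hrm.1.1
    rcases (Ideal.IsPrime.mul_le ‹r.IsPrime›).1 hJr with h | h
    · exact hK r hrm hr2 h
    · obtain ⟨r', hr', hle⟩ := (Ideal.IsPrime.prod_le ‹r.IsPrime›).1 h
      obtain ⟨hr'1, -, hr'3⟩ := Finset.mem_filter.1 hr'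
      exact hr'3 (hrm.2 (Set.mem_toFinset.1 hr'1).1 hle hr3)
  obtain ⟨y, hyJ, hy⟩ := Set.not_subset.1 hJ
  refine ⟨x + y, ?_, fun q hq hqp hmem => ?_⟩
  · rw [map_add, RingHom.mem_ker.1 (Ideal.mul_le_left (I := K) hyJ : y ∈ K), add_zero]
  · have hqm := Set.mem_toFinset.2 hq
    by_cases hx : x ∈ q
    · exact hy (Set.mem_biUnion (x := q) (Finset.mem_coe.2 (Finset.mem_filter.2 ⟨hqm, hqp, hx⟩))
        ((add_mem_cancel_left hx).1 hmem))
    · have hyq : y ∈ q := Ideal.le_of_dvd (Finset.dvd_prod_of_mem id (Finset.mem_filter.2 ⟨hqm, hqp, hx⟩))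
        (Ideal.mul_le_right hyJ)
      exact hx ((add_mem_cancel_right hyq).1 hmem)

end Groth.Agent.S5073
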