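import Groth.Statements.S5076
import Mathlib
-- import your own Groth.Agent.* helpers here

set_option autoImplicit false
universe u
open Unram

namespace Groth.Agent.S5076

/-- Let A be a local ring with maximal ideal m, C a finite A-algebra, r a maximal ideal of C, and u an
element of C which lies in every maximal ideal of C other than r, does not lie in r, and whose image
generates C_r modulo m C_r as an A-algebra. Let B = A[u] be the A-subalgebra of C generated by u and
n the inverse image of r in B. Then the canonical homomorphism B_n → C_r is bijective. -/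
theorem result (A C : Type u) [CommRing A] [IsLocalRing A]
    [CommRing C] [Algebra A C] [Module.Finite A C] (r : Ideal C) [r.IsMaximal] (u : C)
    (hu₁ : ∀ r' : Ideal C, r'.IsMaximal → r' ≠ r → u ∈ r') (hu₂ : u ∉ r)
    (hu₃ : Subalgebra.toSubmodule (Algebra.adjoin A {algebraMap C (Localization.AtPrime r) u}) ⊔
        Submodule.restrictScalars A (Ideal.map (algebraMap A (Localization.AtPrime r)) (IsLocalRing.maximalIdeal A)) = ⊤) :
    Function.Bijective (Localization.localRingHom (Ideal.comap (Algebra.adjoin A ({u} : Set C)).val.toRingHom r) r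
      (Algebra.adjoin A ({u} : Set C)).val.toRingHom rfl) := by
  classical
  let B := Algebra.adjoin A ({u} : Set C)
  let ι : B →+* C := B.val.toRingHom
  let r' := Ideal.comap ι r
  let Bl := Localization.AtPrime r'
  let Cl := Localization.AtPrime r
  let φ : Bl →+* Cl := Localization.localRingHom r' r ι rfl
  have huB : u ∈ B := Algebra.subset_adjoin rfl
  have key : ∀ s : C, s ∉ r → ∃ (c : C) (b : B), b ∉ r' ∧ c * s = ι b := by
    haveI : Algebra.IsIntegral B C := Algebra.IsIntegral.tower_top A
    intro s hs
    have hnle : ¬ (Ideal.span {s}).comap ι ≤ r' := fun hle => by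
      obtain ⟨Q, hQ, hQp, hQc⟩ := Ideal.exists_ideal_over_prime_of_isIntegral r' (Ideal.span {s}) hle
      haveI := hQp
      have hr'max : r'.IsMaximal := Ideal.isMaximal_comap_of_isIntegral_of_isMaximal (R := B) r
      have hQmax : Q.IsMaximal :=
        Ideal.isMaximal_of_isIntegral_of_isMaximal_comap Q (hQc.symm ▸ hr'max)
      rcases eq_or_ne Q r with rfl | hne
      · exact hs (hQ (Ideal.mem_span_singleton_self s))
      · exact hu₂ (show (⟨u, huB⟩ : B) ∈ r' from hQc ▸ hu₁ Q hQmax hne)
    obtain ⟨b, hb, hbr⟩ := SetLike.not_le_iff_exists.1 hnle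
    obtain ⟨c, hc⟩ := Ideal.mem_span_singleton'.1 hb
    exact ⟨c, b, hbr, hc⟩
  refine ⟨(injective_iff_map_eq_zero φ).2 fun z hz => ?_, ?_⟩
  · obtain ⟨x, t, rfl⟩ := IsLocalization.exists_mk'_eq r'.primeCompl z
    rw [Localization.localRingHom_mk', IsLocalization.mk'_eq_zero_iff] at hz
    obtain ⟨⟨s, hs⟩, hsx⟩ := hz
    obtain ⟨c, b, hb, hcb⟩ := key s hs
    refine IsLocalization.mk'_eq_zero_iff _ _ |>.2 ⟨⟨b, hb⟩, Subtype.val_injective ?_⟩
    show ι (b * x) = ι 0
    rw [map_mul, map_zero, ← hcb, mul_assoc, hsx, mul_zero]
  · -- Nakayama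
    letI : Algebra Bl Cl := φ.toAlgebra
    letI : Algebra A Bl := inferInstance
    have hφA : ∀ a, φ (algebraMap A Bl a) = algebraMap A Cl a := fun a => by
      rw [IsScalarTower.algebraMap_apply A B Bl, Localization.localRingHom_to_map,
        IsScalarTower.algebraMap_apply A C Cl]
      rfl
    haveI : IsScalarTower A Bl Cl := IsScalarTower.of_algebraMap_eq fun a => (hφA a).symm
    have hfin : Module.Finite Bl Cl := by
      obtain ⟨T, hT⟩ := (Module.finite_def.1 (inferInstance : Module.Finite A C))
      refine ⟨⟨T.image (algebraMap C Cl), ?_⟩⟩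
      rw [Finset.coe_image, eq_top_iff]
      rintro z -
      obtain ⟨x, ⟨s, hs⟩, rfl⟩ := IsLocalization.exists_mk'_eq r.primeCompl z
      obtain ⟨c, b, hb, hcb⟩ := key s hs
      have h1 : IsLocalization.mk' Cl x (⟨s, hs⟩ : r.primeCompl) =
          IsLocalization.mk' Bl 1 (⟨b, hb⟩ : r'.primeCompl) • algebraMap C Cl (x * c) := by
        rw [Algebra.smul_def, RingHom.algebraMap_toAlgebra]
        show _ = φ _ * _
        erw [Localization.localRingHom_mk']
        simp only [map_one]
        rw [mul_comm, ← IsLocalization.mk'_eq_mul_mk'_one]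
        rw [IsLocalization.mk'_eq_iff_eq]
        congr 1
        show ι b * x = s * (x * c)
        rw [← hcb]
        ring
      rw [h1]
      refine Submodule.smul_mem _ _ ?_
      have h2 : x * c ∈ Submodule.span A (T : Set C) := hT ▸ trivial
      generalize x * c = xc at h2
      induction h2 using Submodule.span_induction with
      | mem y hy => exact Submodule.subset_span ⟨y, hy, rfl⟩
      | zero => rw [map_zero]; exact zero_mem _
      | add y w _ _ hy hw => rw [map_add]; exact add_mem hy hw
      | smul a y _ hy =>
        rw [Algebra.smul_def, map_mul, ← IsScalarTower.algebraMap_apply A C Cl, ← Algebra.smul_def,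
          ← IsScalarTower.algebraMap_smul Bl a]
        exact Submodule.smul_mem _ _ hy
    let N : Submodule Bl Cl := LinearMap.range (Algebra.linearMap Bl Cl)
    have hN : (⊤ : Submodule Bl Cl) ≤ N := by
      refine Submodule.le_of_le_smul_of_le_jacobson_bot (I := IsLocalRing.maximalIdeal Bl) hfin.fg_top
        (IsLocalRing.maximalIdeal_le_jacobson _) fun z _ => ?_
      have hz : z ∈ Subalgebra.toSubmodule (Algebra.adjoin A {algebraMap C Cl u}) ⊔
          Submodule.restrictScalars A (Ideal.map (algebraMap A Cl) (IsLocalRing.maximalIdeal A)) :=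
        hu₃ ▸ trivial
      obtain ⟨y, hy, w, hw, rfl⟩ := Submodule.mem_sup.1 hz
      refine add_mem (Submodule.mem_sup_left ?_) (Submodule.mem_sup_right ?_)
      · have : Algebra.adjoin A {algebraMap C Cl u} ≤ (IsScalarTower.toAlgHom A Bl Cl).range := by
          rw [Algebra.adjoin_le_iff, Set.singleton_subset_iff]
          exact ⟨algebraMap B Bl ⟨u, huB⟩, Localization.localRingHom_to_map r' r ι rfl _⟩
        exact this hy
      · rw [Submodule.restrictScalars_mem, IsScalarTower.algebraMap_eq A Bl Cl, ← Ideal.map_map] at hw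
        rw [Ideal.smul_top_eq_map, Submodule.restrictScalars_mem]
        refine Ideal.map_mono ?_ hw
        rw [Ideal.map_le_iff_le_comap]
        intro a ha
        rw [Ideal.mem_comap, IsLocalRing.mem_maximalIdeal, mem_nonunits_iff]
        intro hu'
        have h2 : IsUnit (algebraMap C Cl (algebraMap A C a)) := by
          rw [← IsScalarTower.algebraMap_apply A C Cl, ← hφA]
          exact hu'.map φ
        rw [IsLocalization.AtPrime.isUnit_to_map_iff Cl r] at h2
        exact h2 (show a ∈ r.comap (algebraMap A C) by
          rwa [IsLocalRing.eq_maximalIdeal (Ideal.isMaximal_comap_of_isIntegral_of_isMaximal (R := A) r)])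
    exact fun z => hN trivial

end Groth.Agent.S5076
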