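import Groth.Statements.S5077
import Mathlib
-- import your own Groth.Agent.* helpers here

set_option autoImplicit false
universe u
open Unram

namespace Groth.Agent.S5077

/-- Let A be a local ring and B a finite A-algebra generated by a single element u. Then there is a
monic polynomial F with coefficients in A such that F(u) = 0 and F'(u) does not belong to any
maximal ideal n of B at which B is unramified over A. -/
theorem result (A B : Type u) [CommRing A] [IsLocalRing A]
    [CommRing B] [Algebra A B] [Module.Finite A B] (u : B) (hu : Algebra.adjoin A ({u} : Set B) = ⊤) :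
    ∃ F : Polynomial A, F.Monic ∧ Polynomial.aeval u F = 0 ∧
      ∀ (n : Ideal B) [n.IsMaximal], Algebra.IsUnramifiedAt A n → Polynomial.aeval u (Polynomial.derivative F) ∉ n := by
  set m := IsLocalRing.maximalIdeal A
  let π : B →+* B ⧸ m.map (algebraMap A B) := Ideal.Quotient.mk _
  let k := IsLocalRing.ResidueField A
  have hP : Function.Surjective (Polynomial.aeval u : Polynomial A →ₐ[A] B) := by
    rw [← AlgHom.range_eq_top, ← Algebra.adjoin_singleton_eq_range_aeval]; exact hu
  set I := RingHom.ker (Polynomial.aeval u : Polynomial A →ₐ[A] B)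
  set J := I.map (Polynomial.mapRingHom (IsLocalRing.residue A))
  obtain ⟨P, hPm, hP0⟩ := (Algebra.IsIntegral.isIntegral (R := A) u)
  obtain ⟨g, hg⟩ := (IsPrincipalIdealRing.principal J).principal
  have hsurj : Function.Surjective (Polynomial.mapRingHom (IsLocalRing.residue A)) :=
    Polynomial.map_surjective _ IsLocalRing.residue_surjective
  have hPJ : P.map (IsLocalRing.residue A) ∈ J := Ideal.mem_map_of_mem _ hP0
  have hg0 : g ≠ 0 := fun h => (hPm.map (IsLocalRing.residue A)).ne_zero (by
    have := hPJ; rw [hg, h] at this; simpa using this)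
  set g₁ := g * Polynomial.C g.leadingCoeff⁻¹ with hg₁
  have hg₁m : g₁.Monic := Polynomial.monic_mul_leadingCoeff_inv hg0
  have hJ : ∀ q, q ∈ J ↔ g₁ ∣ q := fun q => by
    rw [hg, hg₁]
    exact Ideal.mem_span_singleton.trans
      ((Polynomial.isUnit_C.2 (isUnit_iff_ne_zero.2 (inv_ne_zero (Polynomial.leadingCoeff_ne_zero.2 hg0)))).mul_right_dvd).symm
  obtain ⟨f₀, hf₀m, hf₀d, hf₀⟩ := Polynomial.lifts_and_degree_eq_and_monic
    ((Polynomial.mem_lifts _).2 (hsurj g₁)) hg₁m |>.imp fun f hf => (⟨hf.2.2, hf.2.1, hf.1⟩ :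
      f.Monic ∧ f.degree = g₁.degree ∧ f.map (IsLocalRing.residue A) = g₁)
  set d := g₁.natDegree
  set N := Submodule.span A (Set.range fun i : Fin d => u ^ (i : ℕ))
  have hcover : (⊤ : Submodule A B) ≤ N ⊔ m • ⊤ := by
    rintro b -
    obtain ⟨q, rfl⟩ := hP b
    have h1 : Polynomial.aeval u (q %ₘ f₀) ∈ N := by
      rw [Polynomial.aeval_eq_sum_range]
      refine Submodule.sum_mem _ fun i _ => ?_
      by_cases hi : (q %ₘ f₀).coeff i = 0
      · rw [hi, zero_smul]; exact zero_mem _
      · refine Submodule.smul_mem _ _ (Submodule.subset_span ⟨⟨i, ?_⟩, rfl⟩)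
        have h2 : (i : WithBot ℕ) ≤ (q %ₘ f₀).degree := Polynomial.le_degree_of_ne_zero hi
        have h3 := h2.trans_lt (Polynomial.degree_modByMonic_lt q hf₀m)
        rw [hf₀d, Polynomial.degree_eq_natDegree hg₁m.ne_zero] at h3
        exact_mod_cast h3
    have h2 : Polynomial.aeval u f₀ ∈ (m.map (algebraMap A B) : Ideal B) := by
      obtain ⟨F₁, hF₁, hF₁'⟩ := (Ideal.mem_map_iff_of_surjective _ hsurj).1 ((hJ g₁).2 dvd_rfl)
      have h3 : Polynomial.aeval u f₀ = Polynomial.aeval u (f₀ - F₁) := by
        rw [map_sub, show Polynomial.aeval u F₁ = 0 from hF₁, sub_zero]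
      rw [h3, Polynomial.aeval_eq_sum_range]
      refine sum_mem fun i _ => ?_
      rw [Algebra.smul_def]
      refine Ideal.mul_mem_right _ _ (Ideal.mem_map_of_mem _ (Ideal.Quotient.eq_zero_iff_mem.1 ?_))
      show IsLocalRing.residue A _ = 0
      have h4 : (f₀ - F₁).map (IsLocalRing.residue A) = 0 := by
        rw [Polynomial.map_sub, hf₀, sub_eq_zero]; exact hF₁'.symm
      rw [← Polynomial.coeff_map, h4, Polynomial.coeff_zero]
    rw [← Polynomial.modByMonic_add_div q f₀, map_add, map_mul, Ideal.smul_top_eq_map]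
    exact Submodule.add_mem_sup h1 ((m.map (algebraMap A B)).mul_mem_right _ h2)
  have hN : N = ⊤ := top_le_iff.1 (Submodule.le_of_le_smul_of_le_jacobson_bot Module.Finite.fg_top
    (IsLocalRing.maximalIdeal_le_jacobson ⊥) hcover)
  obtain ⟨c, hc⟩ := (Submodule.mem_span_range_iff_exists_fun A).1 (hN ▸ Submodule.mem_top : u ^ d ∈ N)
  let F : Polynomial A := Polynomial.X ^ d - ∑ i : Fin d, Polynomial.C (c i) * Polynomial.X ^ (i : ℕ)
  have hdeg : (∑ i : Fin d, Polynomial.C (c i) * Polynomial.X ^ (i : ℕ)).degree < (d : WithBot ℕ) :=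
    Polynomial.degree_sum_fin_lt c
  have hFm : F.Monic := Polynomial.monic_X_pow_sub hdeg
  have hF0 : Polynomial.aeval u F = 0 := by
    simp [F, ← hc, Algebra.smul_def]
  refine ⟨F, hFm, hF0, fun n _ hunr hmem => ?_⟩
  have hFg : F.map (IsLocalRing.residue A) = g₁ := by
    refine (Polynomial.eq_of_monic_of_dvd_of_natDegree_le hg₁m (hFm.map _) ((hJ _).1 (Ideal.mem_map_of_mem _ hF0)) ?_)
    rw [hFm.natDegree_map]
    exact (Polynomial.natDegree_sub_le _ _).trans (max_le (Polynomial.natDegree_X_pow d).le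
      (Polynomial.natDegree_le_of_degree_le hdeg.le))
  have hmn : ∀ a ∈ m, algebraMap A B a ∈ n := fun a ha => by
    haveI := Ideal.isMaximal_comap_of_isIntegral_of_isMaximal (R := A) n
    have := IsLocalRing.eq_maximalIdeal (I := n.comap (algebraMap A B)) this
    exact (this ▸ ha : a ∈ n.comap (algebraMap A B))
  have hcl : ∀ q r : Polynomial A, q.map (IsLocalRing.residue A) = r.map (IsLocalRing.residue A) →
      Ideal.Quotient.mk n (Polynomial.aeval u q) = Ideal.Quotient.mk n (Polynomial.aeval u r) := fun q r h => by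
    rw [Ideal.Quotient.eq, ← map_sub, Polynomial.aeval_eq_sum_range]
    refine sum_mem fun i _ => ?_
    rw [Algebra.smul_def]
    refine n.mul_mem_right _ (hmn _ (Ideal.Quotient.eq_zero_iff_mem.1 ?_))
    show IsLocalRing.residue A _ = 0
    rw [← Polynomial.coeff_map, Polynomial.map_sub, h, sub_self, Polynomial.coeff_zero]
  let δ : Polynomial A →ₗ[A] B ⧸ n :=
    ((Ideal.Quotient.mkₐ A n).toLinearMap.comp (Polynomial.aeval u).toLinearMap).comp Polynomial.derivative
  have hδ : ∀ q, Polynomial.aeval u q = 0 → δ q = 0 := fun q hq => by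
    obtain ⟨h₁, hh₁⟩ := (hJ _).1 (Ideal.mem_map_of_mem (Polynomial.mapRingHom (IsLocalRing.residue A)) hq)
    obtain ⟨h₀, rfl⟩ := hsurj h₁
    have hh₁' : q.map (IsLocalRing.residue A) = (F * h₀).map (IsLocalRing.residue A) := by
      rw [Polynomial.map_mul, hFg]; exact hh₁
    show Ideal.Quotient.mk n (Polynomial.aeval u (Polynomial.derivative q)) = 0
    rw [hcl _ (Polynomial.derivative (F * h₀)) (by rw [← Polynomial.derivative_map, ← Polynomial.derivative_map, hh₁']),
      Polynomial.derivative_mul, map_add, map_mul, map_mul, hF0, zero_mul, add_zero, map_mul,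
      Ideal.Quotient.eq_zero_iff_mem.2 hmem, zero_mul]
  choose ρ hρ using hP
  have hwd : ∀ q b, Polynomial.aeval u q = b → δ (ρ b) = δ q := fun q b h => by
    rw [← sub_eq_zero, ← map_sub]; exact hδ _ (by rw [map_sub, hρ, h, sub_self])
  let D : Derivation A B (B ⧸ n) := Derivation.mk'
    { toFun := fun b => δ (ρ b)
      map_add' := fun a b => by rw [hwd (ρ a + ρ b) _ (by rw [map_add, hρ, hρ]), map_add]
      map_smul' := fun r b => by rw [hwd (r • ρ b) _ (by rw [map_smul, hρ]), map_smul]; rfl }
    (fun a b => by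
      show δ (ρ (a * b)) = a • δ (ρ b) + b • δ (ρ a)
      rw [hwd (ρ a * ρ b) _ (by rw [map_mul, hρ, hρ])]
      show Ideal.Quotient.mk n (Polynomial.aeval u (Polynomial.derivative (ρ a * ρ b))) = _
      rw [Polynomial.derivative_mul, map_add, map_mul, map_mul, map_add, map_mul, map_mul, hρ, hρ,
        Algebra.smul_def, Algebra.smul_def]
      show _ = Ideal.Quotient.mk n a * Ideal.Quotient.mk n (Polynomial.aeval u (Polynomial.derivative (ρ b))) +
        Ideal.Quotient.mk n b * Ideal.Quotient.mk n (Polynomial.aeval u (Polynomial.derivative (ρ a)))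
      ring)
  have hDu : D u = 1 := by
    show δ (ρ u) = 1
    rw [hwd Polynomial.X u (Polynomial.aeval_X u)]
    show Ideal.Quotient.mk n (Polynomial.aeval u (Polynomial.derivative (Polynomial.X : Polynomial A))) = 1
    simp
  haveI : Algebra.FormallyUnramified A (Localization.AtPrime n) := hunr
  have h0 : IsLocalizedModule.mk' (KaehlerDifferential.map A A B (Localization.AtPrime n))
      (KaehlerDifferential.D A B u) (1 : n.primeCompl) = 0 := Subsingleton.elim _ _
  obtain ⟨s, hs⟩ := (IsLocalizedModule.mk'_eq_zero' _ _).1 h0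
  have h1 := congrArg D.liftKaehlerDifferential hs
  rw [Submonoid.smul_def, map_smul, Derivation.liftKaehlerDifferential_comp_D, hDu, map_zero, Algebra.smul_def, mul_one] at h1
  exact s.2 (Ideal.Quotient.eq_zero_iff_mem.1 h1)

end Groth.Agent.S5077
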