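import Mathlib
import Groth.Agent.AdicEasyLib.Basic
import Groth.Statements.S5078

set_option autoImplicit false
universe u v
open Hensel

namespace Groth.Agent.S5078

/-- Let A be a ring, I an ideal such that A is I-adically separated and complete, and M a finitely
generated projective A-module. Then M is I-adically separated and complete. -/
theorem result {A : Type u} [CommRing A] (I : Ideal A) [IsAdicComplete I A]
    (M : Type v) [AddCommGroup M] [Module A M] [Module.Finite A M] [Module.Projective A M] :
    IsAdicComplete I M := by
  obtain ⟨n, q, hq⟩ := Module.Finite.exists_fin' A M
  obtain ⟨s, hs⟩ := Module.projective_lifting_property q LinearMap.id hq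
  haveI := AdicEasyLib.isHausdorff_pi I (Fin n)
  haveI := AdicEasyLib.isPrecomplete_of_finite I M
  haveI : IsHausdorff I M := AdicEasyLib.isHausdorff_of_injective I s
    (Function.LeftInverse.injective (g := q) fun x => LinearMap.congr_fun hs x)
  constructor

end Groth.Agent.S5078
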