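import Groth.Statements.S5081
import Mathlib
-- import your own Groth.Agent.* helpers here

set_option autoImplicit false
universe u
open Unram

namespace Groth.Agent.S5081

/-- Let B be a finite A-algebra generated by a single element u and F a polynomial with coefficients in
A such that F(u) = 0. Then the ideal generated by F'(u) is contained in the annihilator of the
module of differentials of B over A, and equals it when the kernel of the surjection A[T] → B
sending T to u is generated by F. -/
theorem result (A B : Type u) [CommRing A] [CommRing B] [Algebra A B]
    [Module.Finite A B] (u : B) (hu : Algebra.adjoin A ({u} : Set B) = ⊤) (F : Polynomial A) (hF : Polynomial.aeval u F = 0) :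
    Ideal.span {Polynomial.aeval u (Polynomial.derivative F)} ≤ Module.annihilator B (KaehlerDifferential A B) ∧
      (RingHom.ker (Polynomial.aeval u : Polynomial A →ₐ[A] B) = Ideal.span {F} →
        Module.annihilator B (KaehlerDifferential A B) = Ideal.span {Polynomial.aeval u (Polynomial.derivative F)}) := by
  classical
  have hgen : ∀ b : B, ∃ P : Polynomial A, Polynomial.aeval u P = b := fun b => by
    have : b ∈ Algebra.adjoin A ({u} : Set B) := hu ▸ Algebra.mem_top
    rw [Algebra.adjoin_singleton_eq_range_aeval] at this
    exact this
  choose P hP using hgen
  have hD : ∀ Q : Polynomial A, KaehlerDifferential.D A B (Polynomial.aeval u Q) =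
      Polynomial.aeval u (Polynomial.derivative Q) • KaehlerDifferential.D A B u := fun Q =>
    Derivation.map_aeval _ _ _
  have h0 : Polynomial.aeval u (Polynomial.derivative F) • KaehlerDifferential.D A B u = 0 := by
    rw [← hD, hF, map_zero]
  constructor
  · rw [Ideal.span_le, Set.singleton_subset_iff]
    refine Module.mem_annihilator.2 fun w => ?_
    have hw : w ∈ Submodule.span B (Set.range (KaehlerDifferential.D A B)) :=
      (KaehlerDifferential.span_range_derivation A B).ge trivial
    induction hw using Submodule.span_induction with
    | mem y hy =>
      obtain ⟨b, rfl⟩ := hy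
      rw [← hP b, hD, smul_smul, mul_comm, ← smul_smul, h0, smul_zero]
    | zero => rw [smul_zero]
    | add y z _ _ hy hz => rw [smul_add, hy, hz, add_zero]
    | smul r y _ hy => rw [smul_comm, hy, smul_zero]
  · intro hker
    let I : Ideal B := Ideal.span {Polynomial.aeval u (Polynomial.derivative F)}
    let N := B ⧸ I
    have hwd : ∀ Q R : Polynomial A, Polynomial.aeval u Q = Polynomial.aeval u R →
        Ideal.Quotient.mk I (Polynomial.aeval u (Polynomial.derivative Q)) =
          Ideal.Quotient.mk I (Polynomial.aeval u (Polynomial.derivative R)) := fun Q R h => by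
      have h1 : Q - R ∈ RingHom.ker (Polynomial.aeval u : Polynomial A →ₐ[A] B) := by
        rw [RingHom.mem_ker, map_sub, h, sub_self]
      rw [hker, Ideal.mem_span_singleton'] at h1
      obtain ⟨G, hG⟩ := h1
      rw [Ideal.Quotient.eq, ← map_sub, ← map_sub, ← hG, Polynomial.derivative_mul, map_add, map_mul,
        map_mul, hF, mul_zero, zero_add]
      exact I.mul_mem_left _ (Ideal.mem_span_singleton_self _)
    let d : Derivation A B N := Derivation.mk'
      { toFun := fun b => Ideal.Quotient.mk I (Polynomial.aeval u (Polynomial.derivative (P b)))
        map_add' := fun b c => by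
          rw [← map_add (Ideal.Quotient.mk I), ← map_add, ← map_add]
          exact hwd _ _ (by rw [map_add, hP, hP, hP])
        map_smul' := fun a b => by
          rw [RingHom.id_apply]
          show Ideal.Quotient.mk I _ = Ideal.Quotient.mk I (a • _)
          rw [← map_smul (Polynomial.aeval u), ← Polynomial.derivative_smul]
          exact hwd _ _ (by rw [map_smul, hP, hP]) }
      fun b c => by
        show Ideal.Quotient.mk I _ = b • Ideal.Quotient.mk I _ + c • Ideal.Quotient.mk I _
        rw [hwd (P (b * c)) (P b * P c) (by rw [map_mul, hP, hP, hP]), Polynomial.derivative_mul, map_add,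
          map_mul, map_mul, hP, hP]
        show Ideal.Quotient.mk I _ = Ideal.Quotient.mk I (b * _) + Ideal.Quotient.mk I (c * _)
        rw [← map_add]
        congr 1
        ring
    refine le_antisymm (fun b hb => ?_) ?_
    · have h1 := congrArg d.liftKaehlerDifferential (Module.mem_annihilator.1 hb (KaehlerDifferential.D A B u))
      rw [map_smul, map_zero, Derivation.liftKaehlerDifferential_comp_D] at h1
      have hdu : d u = Ideal.Quotient.mk I 1 := by
        show Ideal.Quotient.mk I _ = _
        rw [hwd (P u) Polynomial.X (by rw [hP, Polynomial.aeval_X]), Polynomial.derivative_X, map_one]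
      rw [hdu] at h1
      have h2 : Ideal.Quotient.mk I (b * 1) = 0 := h1
      rwa [mul_one, Ideal.Quotient.eq_zero_iff_mem] at h2
    · rw [Ideal.span_le, Set.singleton_subset_iff]
      refine Module.mem_annihilator.2 fun w => ?_
      have hw : w ∈ Submodule.span B (Set.range (KaehlerDifferential.D A B)) :=
        (KaehlerDifferential.span_range_derivation A B).ge trivial
      induction hw using Submodule.span_induction with
      | mem y hy =>
        obtain ⟨b, rfl⟩ := hy
        rw [← hP b, hD, smul_smul, mul_comm, ← smul_smul, h0, smul_zero]
      | zero => rw [smul_zero]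
      | add y z _ _ hy hz => rw [smul_add, hy, hz, add_zero]
      | smul r y _ hy => rw [smul_comm, hy, smul_zero]

end Groth.Agent.S5081
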