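import Groth.Statements.S5082
import Mathlib
import Groth.Agent.Depth.FlatLocal
import Groth.Agent.MeroLib.ZeroDiv

set_option autoImplicit false
universe u
open CategoryTheory CategoryTheory.Limits AlgebraicGeometry TopologicalSpace
open Mero

namespace Groth.Agent.S5082

open CategoryTheory CategoryTheory.Limits AlgebraicGeometry

open TopologicalSpace Groth.Agent.MeroLib IsLocalRing

lemma depth_iff {A : Type u} [CommRing A] [IsNoetherianRing A] [IsLocalRing A] :
    LocCoh.depth A A = 0 ↔ ∀ a ∈ maximalIdeal A, a ∉ nonZeroDivisors A := by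
  rw [Depth.depth_self_eq_zero_iff]
  have hu : ∀ a : A, a ∈ (⋃ p ∈ associatedPrimes A A, (p : Set A)) ↔ a ∉ nonZeroDivisors A := fun a => by
    rw [biUnion_associatedPrimes_eq_compl_nonZeroDivisors]
    rfl
  refine ⟨fun h a ha => (hu a).1 (Set.mem_biUnion h ha), fun h => ?_⟩
  have hsub : (maximalIdeal A : Set A) ⊆ ⋃ p ∈ associatedPrimes A A, (p : Set A) := fun a ha => (hu a).2 (h a ha)
  obtain ⟨p, hp, hle⟩ := (Ideal.subset_union_prime_finite (associatedPrimes.finite A A) ⊤ ⊤
    (fun i hi _ _ => IsAssociatedPrime.isPrime hi)).1 hsub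
  rwa [(maximalIdeal.isMaximal A).eq_of_le (IsAssociatedPrime.isPrime hp).ne_top hle]

variable {A : Type u} [CommRing A]

/-- An element of `A` as a global function. -/
noncomputable def glob (a : A) : Γ(Spec (CommRingCat.of A), ⊤) := (Scheme.ΓSpecIso (CommRingCat.of A)).inv a

lemma germ_glob (a : A) (y : Spec (CommRingCat.of A)) :
    letI := StructureSheaf.stalkAlgebra A y
    (Spec (CommRingCat.of A)).presheaf.germ ⊤ y trivial (glob a) =
      algebraMap A ((Spec.structureSheaf A).presheaf.stalk y) a := rfl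
/-- Let A be a Noetherian local ring. Then the group of divisors of Spec A is trivial (every divisor
equals the unit divisor, divisors being written multiplicatively) if and only if A has depth 0, that
is, if and only if every element of the maximal ideal of A is a zero-divisor. -/
theorem result (A : Type u) [CommRing A] [IsNoetherianRing A] [IsLocalRing A] :
    (∀ D : Mero.Divisor (Spec (CommRingCat.of A)), D = 1) ↔ LocCoh.depth A A = 0 := by
  let P := Spec (CommRingCat.of A)
  let s₀ : P := closedPoint A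
  have htop : ∀ (V : P.Opens), s₀ ∈ V → V = ⊤ := fun V h => (IsLocalRing.closedPoint_mem_iff V).1 h
  have hloc : ∀ y : P, IsLocalization.AtPrime ((Spec.structureSheaf A).presheaf.stalk y) y.asIdeal := fun y =>
    StructureSheaf.IsLocalization.to_stalk A y
  have hunit : ∀ a : A, IsUnit (P.presheaf.germ ⊤ s₀ trivial (glob a)) → a ∉ maximalIdeal A := fun a h => by
    haveI : IsLocalization.AtPrime ((Spec.structureSheaf A).presheaf.stalk s₀) (maximalIdeal A) := hloc s₀
    exact (IsLocalization.AtPrime.isUnit_to_map_iff ((Spec.structureSheaf A).presheaf.stalk s₀)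
      (maximalIdeal A) a).1 h
  rw [depth_iff]
  constructor
  · intro hD a ha hna
    have hreg : glob a ∈ Mero.regSub P ⊤ := fun y => by
      haveI := hloc y.1
      exact IsLocalization.map_nonZeroDivisors_le (R := A) y.1.asIdeal.primeCompl
        ((Spec.structureSheaf A).presheaf.stalk y.1)
        (Submonoid.mem_map_of_mem (algebraMap A ((Spec.structureSheaf A).presheaf.stalk y.1)) hna)
    let D : Mero.Divisor P := Mero.div (regUnit (glob a) hreg)
    have h1 : D.1 s₀ = 1 := by rw [hD D]; rfl
    obtain ⟨v, hv⟩ := (QuotientGroup.eq_one_iff _).1 h1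
    have h2 : (v : P.presheaf.stalk s₀) = P.presheaf.germ ⊤ s₀ trivial (glob a) :=
      Mero.algebraMap_KStalk_injective (X := P) s₀
        ((congrArg Units.val hv).trans (evalK_regUnit (glob a) hreg ⟨s₀, trivial⟩))
    exact hunit a (h2 ▸ v.isUnit) ha
  · intro h D
    have hu : ∀ (f : Γ(P, ⊤)), f ∈ Mero.regSub P ⊤ → IsUnit f := fun f hf => by
      obtain ⟨a, rfl⟩ : ∃ a, glob a = f := ⟨(Scheme.ΓSpecIso (CommRingCat.of A)).hom f,
        ConcreteCategory.congr_hom (Scheme.ΓSpecIso (CommRingCat.of A)).hom_inv_id f⟩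
      have ha : a ∉ maximalIdeal A := fun ha => by
        refine h a ha ?_
        haveI : IsLocalization (maximalIdeal A).primeCompl ((Spec.structureSheaf A).presheaf.stalk s₀) := hloc s₀
        have hf' := hf ⟨s₀, trivial⟩
        rw [mem_nonZeroDivisors_iff_right] at hf' ⊢
        intro x hx
        refine IsLocalization.injective ((Spec.structureSheaf A).presheaf.stalk s₀)
          (show (maximalIdeal A).primeCompl ≤ nonZeroDivisors A from fun z hz =>
            (IsLocalRing.notMem_maximalIdeal.1 hz).mem_nonZeroDivisors) ?_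
        rw [map_zero]
        exact hf' _ ((map_mul _ _ _).symm.trans ((congrArg _ hx).trans (map_zero _)))
      exact (IsLocalRing.notMem_maximalIdeal.1 ha).map (Scheme.ΓSpecIso (CommRingCat.of A)).inv.hom
    have hK : ∀ t : Γ(Mero.kmod P, ⊤), ∃ r : Γ(P, ⊤), t = Mero.toK P ⊤ r := fun t => by
      obtain ⟨T, hT, i, m, b, hmb⟩ := t.2 ⟨s₀, trivial⟩
      obtain rfl := htop T hT
      obtain ⟨v, hv⟩ := hu b.1 b.2
      refine ⟨m * (↑(v⁻¹) : Γ(P, ⊤)), Subtype.ext (funext fun y => ?_)⟩
      refine (hmb y).trans ?_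
      refine LocalizedModule.mk_eq.2 ⟨1, ?_⟩
      simp only [one_smul, Submonoid.smul_def, smul_eq_mul]
      show P.presheaf.germ ⊤ y.1 y.2 m = P.presheaf.germ ⊤ y.1 y.2 b.1 * P.presheaf.germ ⊤ y.1 y.2 (m * _)
      rw [← map_mul, ← hv, mul_left_comm, Units.mul_inv, mul_one]
    obtain ⟨W, hW, g, hg⟩ := D.2 s₀
    obtain rfl := htop W hW
    obtain ⟨r, hr⟩ := hK g.val
    obtain ⟨r', hr'⟩ := hK (g⁻¹).val
    refine Subtype.ext (funext fun y => ?_)
    rw [hg ⟨y, trivial⟩]
    refine (QuotientGroup.eq_one_iff _).2 ?_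
    have hy : P.presheaf.germ ⊤ y trivial r * P.presheaf.germ ⊤ y trivial r' = 1 := by
      apply Mero.algebraMap_KStalk_injective (X := P) y
      have h1 : ∀ s : Γ(P, ⊤), Mero.evalK P ⊤ ⟨y, trivial⟩ (Mero.toK P ⊤ s) =
          algebraMap _ (Mero.KStalk P y) (P.presheaf.germ ⊤ y trivial s) := fun s =>
        (Localization.mk_eq_mk'_apply (M := Mero.regStalk P y) _ _).trans (IsLocalization.mk'_one _ _)
      rw [map_mul, map_one, ← h1, ← h1, ← hr, ← hr', ← map_mul, Units.mul_inv, map_one]
    refine ⟨⟨_, _, hy, (mul_comm _ _).trans hy⟩, Units.ext ?_⟩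
    show algebraMap _ (Mero.KStalk P y) (P.presheaf.germ ⊤ y trivial r) = Mero.evalK P ⊤ ⟨y, trivial⟩ g.val
    rw [hr]
    exact ((Localization.mk_eq_mk'_apply (M := Mero.regStalk P y) _ _).trans (IsLocalization.mk'_one _ _)).symm


end Groth.Agent.S5082
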