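import Groth.Statements.S5083
import Mathlib

set_option autoImplicit false
universe u
open CategoryTheory CategoryTheory.Limits AlgebraicGeometry TopologicalSpace
open Mero

namespace Groth.Agent.S5083

open CategoryTheory CategoryTheory.Limits AlgebraicGeometry

set_option maxHeartbeats 1000000

/-- multiplication by a global unit of `K_X` carries `O_X(D' * div f)` to `O_X(D')`. -/
noncomputable def mulUnitHom (X : Scheme.{u}) (D D' : Mero.Divisor X) (f : (Γ(Mero.kmod X, ⊤))ˣ)
    (hf : D = D' * Mero.div f) : Mero.divMod D ⟶ Mero.divMod D' :=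
  ⟨PresheafOfModules.homMk (M₁ := (Mero.divMod D).val) (M₂ := (Mero.divMod D').val)
    { app := fun U => AddCommGrpCat.ofHom
        { toFun := fun (t : Γ(Mero.divMod D, U.unop)) => (⟨fun x => t.1 x * f.val.1 ⟨x.1, Opens.mem_top x.1⟩,
            Mero.kLoc_mul X U.unop _ (fun x => f.val.1 ⟨x.1, Opens.mem_top x.1⟩) t.2.1
              ((Mero.kLoc X).res (homOfLE le_top) f.val.1 f.val.2), by
              intro x g' hg'
              have hD : D.1 x.1 = QuotientGroup.mk
                  (g' * Units.map (Mero.evalK X ⊤ ⟨x.1, Opens.mem_top x.1⟩).toMonoidHom f) := by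
                rw [QuotientGroup.mk_mul, ← hg', hf]
                rfl
              have h2 := t.2.2 x _ hD
              rw [Units.val_mul] at h2
              change t.1 x * f.val.1 ⟨x.1, _⟩ * (g' : Mero.KStalk X x.1) ∈ _
              rw [mul_assoc, mul_comm (f.val.1 ⟨x.1, _⟩)]
              exact h2⟩ : Γ(Mero.divMod D', U.unop))
          map_zero' := Subtype.ext <| funext fun x => zero_mul _
          map_add' := fun a b => Subtype.ext <| funext fun x => add_mul _ _ _ }
      naturality := by intros; rfl }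
    (fun U r t => Subtype.ext <| funext fun x => smul_mul_assoc _ _ _)⟩

theorem mulUnitHom_comp (X : Scheme.{u}) (D D' : Mero.Divisor X) (f g : (Γ(Mero.kmod X, ⊤))ˣ)
    (hf : D = D' * Mero.div f) (hg : D' = D * Mero.div g) (hfg : f * g = 1) :
    mulUnitHom X D D' f hf ≫ mulUnitHom X D' D g hg = 𝟙 _ := by
  apply Scheme.Modules.hom_ext
  intro U
  ext t
  refine Subtype.ext (funext fun x => ?_)
  change t.1 x * f.val.1 ⟨x.1, _⟩ * g.val.1 ⟨x.1, _⟩ = t.1 x
  rw [mul_assoc]
  have h : f.val.1 ⟨x.1, trivial⟩ * g.val.1 ⟨x.1, trivial⟩ = (1 : Mero.KStalk X x.1) :=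
    congrArg (fun u : (Γ(Mero.kmod X, ⊤))ˣ => u.val.1 ⟨x.1, trivial⟩) hfg
  exact (congrArg (t.1 x * ·) h).trans (mul_one _)
/-- Let X be a scheme and D, D' divisors on X (global sections of the sheaf of units of K_X modulo units
of O_X, written multiplicatively). If D and D' are linearly equivalent, i.e. D · D'⁻¹ is the divisor
of a unit of the ring of global sections of K_X, then the O_X-modules O_X(D) and O_X(D') are
isomorphic. (The published statement is an equivalence: O_X(D) and O_X(D') are isomorphic if and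
only if D and D' are linearly equivalent; this row states only that linearly equivalent divisors
have isomorphic modules.) -/
theorem result (X : Scheme.{u}) (D D' : Mero.Divisor X) (h : Mero.LinEquiv D D') :
    Nonempty (Mero.divMod D ≅ Mero.divMod D') := by
  obtain ⟨f, hf⟩ := h
  have hf1 : D = D' * Mero.div f := by rw [← hf, mul_comm D', inv_mul_cancel_right]
  have hinv : Mero.div f⁻¹ = (Mero.div f)⁻¹ := Subtype.ext (funext fun x => by
    change (QuotientGroup.mk (Units.map _ f⁻¹) : Mero.Germ X x) = (QuotientGroup.mk (Units.map _ f) : Mero.Germ X x)⁻¹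
    rw [map_inv, QuotientGroup.mk_inv])
  have hf2 : D' = D * Mero.div f⁻¹ := by rw [hinv, hf1, mul_inv_cancel_right]
  exact ⟨⟨mulUnitHom X D D' f hf1, mulUnitHom X D' D f⁻¹ hf2,
    mulUnitHom_comp X D D' f f⁻¹ hf1 hf2 (mul_inv_cancel f),
    mulUnitHom_comp X D' D f⁻¹ f hf2 hf1 (inv_mul_cancel f)⟩⟩

end Groth.Agent.S5083
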