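import Groth.Statements.S5084
import Mathlib
import Groth.Agent.AssLib.Morph
import Groth.Agent.S8863

set_option autoImplicit false
universe u
open CategoryTheory CategoryTheory.Limits AlgebraicGeometry TopologicalSpace
open Mero

namespace Groth.Agent.S5084

/-- Let X be a locally Noetherian scheme and F a quasi-coherent O_X-module. Then F is torsion-free — the
canonical map from F to its sheaf of meromorphic sections K_X(F), m ↦ m/1, is a monomorphism, i.e.
at every point no germ of a regular function kills a nonzero element of the stalk of F — if and only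
if every associated point of F is an associated point of the structure sheaf (a point x such that
the maximal ideal of O_{X,x} is an associated prime of O_{X,x}). -/
theorem result (X : Scheme.{u}) [IsLocallyNoetherian X]
    (F : X.Modules) (hF : Coh.IsQCoh F) :
    Mono (Mero.toMer F) ↔
      ∀ x : ↥X, Curv2.IsAssPoint F x →
        IsAssociatedPrime (IsLocalRing.maximalIdeal ↑(X.presheaf.stalk x)) ↑(X.presheaf.stalk x) := by
  classical
  have hzero : ∀ {V : X.Opens} (m : Γ(F, V)) (b : Γ(X, V)), b ∈ Mero.regSub X V → b • m = 0 →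
      (Mero.toMer F).app V m = 0 := by
    intro V m b hb h0
    refine Subtype.ext (funext fun y => ?_)
    show LocalizedModule.mk (F.presheaf.germ V y.1 y.2 m) 1 = 0
    rw [← LocalizedModule.zero_mk (1 : Mero.regStalk X y.1), LocalizedModule.mk_eq]
    refine ⟨Mero.regGerm y ⟨b, hb⟩, ?_⟩
    simp only [one_smul, smul_zero, Submonoid.smul_def]
    rw [← Mero.germ_smul, h0, map_zero]
  have hres : ∀ {V : X.Opens} {x : X} (hx : x ∈ V) (m : Γ(F, V)), F.presheaf.germ V x hx m = 0 →
      ∃ (V' : X.Opens) (_ : x ∈ V') (h : V' ≤ V), F.presheaf.map (homOfLE h).op m = 0 := by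
    intro V x hx m hm
    obtain ⟨V', hxV', i₁, i₂, he⟩ := TopCat.Presheaf.germ_eq (F := F.presheaf) x hx hx m 0 (by rw [hm, map_zero])
    exact ⟨V', hxV', leOfHom i₁, he.trans (map_zero _)⟩
  constructor
  · intro hmono x ⟨hP, z, hz⟩
    have hinj : ∀ V : X.Opens, Function.Injective ((Mero.toMer F).app V) := fun V => by
      haveI : Mono ((Scheme.Modules.toPresheaf X).map (Mero.toMer F)) := inferInstance
      exact (AddCommGrpCat.mono_iff_injective _).mp
        (inferInstanceAs (Mono (((Scheme.Modules.toPresheaf X).map (Mero.toMer F)).app (Opposite.op V))))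
    haveI : IsNoetherianRing (X.presheaf.stalk x) := inferInstance
    by_contra hna
    obtain ⟨a, ha, hareg⟩ : ∃ a ∈ IsLocalRing.maximalIdeal (X.presheaf.stalk x), a ∈ nonZeroDivisors (X.presheaf.stalk x) := by
      by_contra hcon
      push Not at hcon
      have hsub : (IsLocalRing.maximalIdeal (X.presheaf.stalk x) : Set _) ⊆
          ⋃ p ∈ associatedPrimes (X.presheaf.stalk x) (X.presheaf.stalk x), (p : Set (X.presheaf.stalk x)) := by
        rw [biUnion_associatedPrimes_eq_compl_nonZeroDivisors]
        exact fun a ha => hcon a ha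
      obtain ⟨p, hp, hmp⟩ := (Ideal.subset_union_prime_finite (associatedPrimes.finite _ _) ⊥ ⊥
        fun p hp _ _ => IsAssociatedPrime.isPrime hp).1 hsub
      exact hna ((IsLocalRing.maximalIdeal.isMaximal _).eq_of_le (IsAssociatedPrime.isPrime hp).ne_top hmp ▸ hp)
    rw [hz] at ha
    obtain ⟨n, hn⟩ := ha
    rw [Submodule.mem_colon_singleton, Submodule.mem_bot] at hn
    obtain ⟨U, hxU, b, hb, hb'⟩ := (S8863.result X x).symm ▸ pow_mem hareg n
    obtain ⟨V, hxV, m, rfl⟩ := TopCat.Presheaf.germ_exist F.presheaf z
    have hb2 : X.presheaf.map (homOfLE (inf_le_left : U ⊓ V ≤ U)).op b ∈ Mero.regSub X (U ⊓ V) := Mero.regSub_res _ hb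
    have hg : F.presheaf.germ (U ⊓ V) x ⟨hxU, hxV⟩ (X.presheaf.map (homOfLE (inf_le_left : U ⊓ V ≤ U)).op b •
        F.presheaf.map (homOfLE (inf_le_right : U ⊓ V ≤ V)).op m) = 0 := by
      rw [Mero.germ_smul, TopCat.Presheaf.germ_res_apply, TopCat.Presheaf.germ_res_apply, hb']
      exact hn
    obtain ⟨V', hxV', hle, h0⟩ := hres _ _ hg
    rw [Scheme.Modules.map_smul] at h0
    have hm0 : F.presheaf.map (homOfLE hle).op (F.presheaf.map (homOfLE (inf_le_right : U ⊓ V ≤ V)).op m) = 0 :=
      hinj V' ((hzero _ _ (Mero.regSub_res _ hb2) h0).trans (map_zero _).symm)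
    refine hP.ne_top ?_
    rw [hz, eq_top_iff]
    refine fun r _ => Ideal.le_radical ?_
    rw [Submodule.mem_colon_singleton, Submodule.mem_bot,
      ← TopCat.Presheaf.germ_res_apply F.presheaf (homOfLE (inf_le_right : U ⊓ V ≤ V)) x ⟨hxU, hxV⟩ m,
      ← TopCat.Presheaf.germ_res_apply F.presheaf (homOfLE hle) x hxV']
    rw [hm0, map_zero, smul_zero]
  · intro h
    haveI := hF
    have hinj : ∀ V : X.Opens, Function.Injective ((Mero.toMer F).app V) :=
      AssLib.app_injective_of _ fun x => by
        by_cases hx : Curv2.IsWeakAssPoint F x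
        · left
          have hass := h x ((AssLib.isWeakAssPoint_iff_isAssPoint F x).1 hx)
          refine (injective_iff_map_eq_zero _).2 fun z hz => ?_
          obtain ⟨V, hxV, m, rfl⟩ := TopCat.Presheaf.germ_exist F.presheaf z
          rw [PullbackMod.stalkLin_germ] at hz
          obtain ⟨V', hxV', i₁, i₂, he⟩ := TopCat.Presheaf.germ_eq (F := (Mero.merMod F).presheaf) x hxV hxV _ 0
            (hz.trans (map_zero _).symm)
          have he' : (LocalizedModule.mk (F.presheaf.germ V x hxV m) 1 : Mero.MStalk F x) = 0 :=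
            congrArg (fun t : Γ(Mero.merMod F, V') => t.1 ⟨x, hxV'⟩) (he.trans (map_zero _))
          rw [← LocalizedModule.zero_mk (1 : Mero.regStalk X x), LocalizedModule.mk_eq] at he'
          obtain ⟨s, hs⟩ := he'
          simp only [one_smul, smul_zero, Submonoid.smul_def] at hs
          obtain ⟨hP, y, hy⟩ := hass
          have hu : IsUnit (s : X.presheaf.stalk x) := by
            by_contra hns
            have hm : (s : X.presheaf.stalk x) ∈ IsLocalRing.maximalIdeal (X.presheaf.stalk x) := hns
            rw [hy] at hm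
            obtain ⟨n, hn⟩ := hm
            rw [Submodule.mem_colon_singleton, Submodule.mem_bot, smul_eq_mul] at hn
            have hy0 : y = 0 := (mul_left_mem_nonZeroDivisors_eq_zero_iff
              (pow_mem (Mero.regStalk_le_nonZeroDivisors x s.2) n)).1 hn
            refine hP.ne_top ?_
            rw [hy, hy0, eq_top_iff]
            exact fun r _ => Ideal.le_radical (by simp)
          exact hu.smul_eq_zero.1 hs
        · exact Or.inr hx
    haveI : Mono ((Scheme.Modules.toPresheaf X).map (Mero.toMer F)) := by
      haveI : ∀ U, Mono (((Scheme.Modules.toPresheaf X).map (Mero.toMer F)).app U) := fun U =>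
        (AddCommGrpCat.mono_iff_injective _).mpr (hinj U.unop)
      exact NatTrans.mono_of_mono_app _
    exact (Scheme.Modules.toPresheaf X).mono_of_mono_map inferInstance


end Groth.Agent.S5084
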