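import Groth.Statements.S5085
import Mathlib

set_option autoImplicit false
universe u
open CategoryTheory CategoryTheory.Limits AlgebraicGeometry TopologicalSpace
open Mero

namespace Groth.Agent.S5085

open CategoryTheory CategoryTheory.Limits AlgebraicGeometry

theorem num_eq_zero {X : Scheme.{u}} {y : X} (a : X.presheaf.stalk y) (b : Mero.regStalk X y)
    (h : (LocalizedModule.mk a b : Mero.KStalk X y) = 0) : a = 0 := by
  rw [← LocalizedModule.zero_mk b, LocalizedModule.mk_eq] at h
  obtain ⟨c, hc⟩ := h
  simp only [smul_zero, Submonoid.smul_def, smul_eq_mul] at hc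
  exact (Mero.regStalk_le_nonZeroDivisors y (c * b).2).1 a (by rw [Submonoid.coe_mul, mul_assoc]; exact hc)
/-- Let X be a scheme, U an open subset and V an open subset of U which is schematically dense in U (for
every open W ⊆ U, restriction of functions from W to W ∩ V is injective). Then restriction of
sections of the sheaf of meromorphic functions K_X from U to V is injective: the canonical map from
meromorphic functions to pseudo-functions is injective. -/
theorem result (X : Scheme.{u}) (U V : X.Opens) (hVU : V ≤ U)
    (hV : ∀ W : X.Opens, W ≤ U →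
      Function.Injective ⇑(X.presheaf.map (homOfLE (inf_le_left : W ⊓ V ≤ W)).op)) :
    Function.Injective ⇑((Mero.kmod X).presheaf.map (homOfLE hVU).op) := by
  intro t t' htt
  refine sub_eq_zero.mp ?_
  have h0 : ∀ y : V, (t - t').1 ⟨y.1, hVU y.2⟩ = 0 := fun y => by
    have := congrArg (fun s : Γ(Mero.kmod X, V) => s.1 y) htt
    exact sub_eq_zero.mpr this
  refine Subtype.ext (funext fun x => ?_)
  obtain ⟨W, hxW, i, a, b, hab⟩ := (t - t').2 x
  have ha : a = 0 := by
    refine hV W (leOfHom i) ?_
    rw [map_zero]
    refine TopCat.Presheaf.section_ext X.sheaf _ _ _ fun y hy => ?_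
    refine ((X.presheaf.germ_res_apply _ y hy a).trans ?_).trans (map_zero _).symm
    apply num_eq_zero
    refine (hab ⟨y, hy.1⟩).symm.trans ?_
    exact h0 ⟨y, hy.2⟩
  have h1 := hab ⟨x.1, hxW⟩
  dsimp only at h1
  rw [ha, map_zero, LocalizedModule.zero_mk] at h1
  exact h1

end Groth.Agent.S5085
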