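import Groth.Statements.S5086
import Mathlib
import Groth.Agent.MeroLib.Extend

set_option autoImplicit false
universe u
open CategoryTheory CategoryTheory.Limits AlgebraicGeometry TopologicalSpace
open Mero

namespace Groth.Agent.S5086

open CategoryTheory CategoryTheory.Limits AlgebraicGeometry

open TopologicalSpace Groth.Agent.MeroLib

variable {X : Scheme.{u}}

lemma regDense_noetherian [IsLocallyNoetherian X] {U V : X.Opens}
    (hV : ∀ W : X.Opens, W ≤ U → Function.Injective (X.presheaf.map (homOfLE (inf_le_left : W ⊓ V ≤ W)).op)) :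
    RegDense U V := fun x hx => ⟨⊤, trivial, fun W hW _ hWU => by
  haveI : IsNoetherianRing Γ(X, W) := IsLocallyNoetherian.component_noetherian ⟨W, hW⟩
  refine exists_nonZeroDivisor_basicOpen_le hW (associatedPrimes.finite Γ(X, W) Γ(X, W))
    (fun p hp => IsAssociatedPrime.isPrime hp) (fun a ha => ?_) (fun p hp => ?_)
  · by_contra hn
    have : a ∈ ⋃ p ∈ associatedPrimes Γ(X, W) Γ(X, W), (p : Set Γ(X, W)) := by
      rw [biUnion_associatedPrimes_eq_compl_nonZeroDivisors]
      exact hn
    obtain ⟨p, hp, hap⟩ := Set.mem_iUnion₂.1 this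
    exact ha p hp hap
  · obtain ⟨hpp, z, hz⟩ := isAssociatedPrime_iff.1 hp
    refine mem_of_schematicallyDense hW (hV W hWU) ⟨p, _⟩ z (fun h0 => hpp.ne_top ?_) fun a ha => ?_
    · rw [hz, h0, eq_top_iff]
      exact fun r _ => by simp
    · change a ∈ p at ha
      rw [hz, Submodule.mem_colon_singleton, Submodule.mem_bot, smul_eq_mul] at ha
      exact ha⟩

lemma regDense_reduced [IsReduced X] (hX : ∀ x : X, ∃ W : X.Opens, x ∈ W ∧
      {Z : Set X | Z ∈ irreducibleComponents X ∧ (Z ∩ (W : Set X)).Nonempty}.Finite) {U V : X.Opens}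
    (hV : ∀ W : X.Opens, W ≤ U → Function.Injective (X.presheaf.map (homOfLE (inf_le_left : W ⊓ V ≤ W)).op)) :
    RegDense U V := fun x hx => by
  classical
  obtain ⟨N, hxN, hN⟩ := hX x
  refine ⟨N, hxN, fun W hW hWN hWU => ?_⟩
  have hfin := finite_minimalPrimes hN hW hWN
  refine exists_nonZeroDivisor_basicOpen_le hW hfin (fun p hp => hp.1.1)
    (fun a ha => mem_nonZeroDivisors_of_minimal ha) (fun p hp => ?_)
  obtain ⟨m, b, hmb⟩ := exists_fraction hfin.toFinset (fun q hq => ((Set.Finite.mem_toFinset _).1 hq).1.1)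
    (fun q hq q' hq' hle => le_antisymm hle
      (((Set.Finite.mem_toFinset _).1 hq').2 ((Set.Finite.mem_toFinset _).1 hq).1 hle))
    (fun q => if q = p then (1 : Γ(X, W)) else 0) (fun _ => 1)
    (fun q hq => ((Set.Finite.mem_toFinset _).1 hq).1.1.one_notMem)
  have hmem : ∀ q ∈ minimalPrimes Γ(X, W), q ≠ p → m ∈ q := fun q hq hne => by
    simpa [hne] using (hmb q ((Set.Finite.mem_toFinset _).2 hq)).2
  have hm : m ∉ p := fun hm => by
    have h := hmb p ((Set.Finite.mem_toFinset _).2 hp)
    simp only [if_pos, mul_one, one_mul] at h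
    exact h.1 (by simpa using p.sub_mem hm h.2)
  refine mem_of_schematicallyDense hW (hV W hWU) ⟨p, _⟩ m (fun h0 => hm (h0 ▸ p.zero_mem)) fun a ha => ?_
  refine IsReduced.eq_zero _ (mem_nilradical.1 ?_)
  rw [nilradical, ← Ideal.sInf_minimalPrimes, Ideal.mem_sInf]
  intro q hq
  by_cases h : q = p
  · exact h ▸ p.mul_mem_right m ha
  · exact q.mul_mem_left a (hmem q hq h)
/-- Let X be a scheme which is either locally Noetherian, or reduced with locally finite set of
irreducible components (every point has an open neighbourhood meeting only finitely many irreducible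
components). Let U be an open subset, V an open subset of U schematically dense in U (restriction of
functions from every open W ⊆ U to W ∩ V is injective) and g a function on V. Then there is a
section of the sheaf of meromorphic functions K_X over U whose restriction to V is g/1; with part
(i), meromorphic functions over U are exactly the pseudo-functions on U. -/
theorem result (X : Scheme.{u})
    (hX : IsLocallyNoetherian X ∨ (IsReduced X ∧ ∀ x : ↥X, ∃ W : X.Opens, x ∈ W ∧
      {Z : Set ↥X | Z ∈ irreducibleComponents ↥X ∧ (Z ∩ (W : Set ↥X)).Nonempty}.Finite))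
    (U V : X.Opens) (hVU : V ≤ U)
    (hV : ∀ W : X.Opens, W ≤ U →
      Function.Injective ⇑(X.presheaf.map (homOfLE (inf_le_left : W ⊓ V ≤ W)).op))
    (g : Γ(X, V)) :
    ∃ s : Γ(Mero.kmod X, U), (Mero.kmod X).presheaf.map (homOfLE hVU).op s = Mero.toK X V g := by
  have hd : RegDense U V := by
    rcases hX with h | ⟨h, h'⟩
    · exact regDense_noetherian hV
    · exact regDense_reduced h' hV
  obtain ⟨s, hs⟩ := exists_extend hd g
  exact ⟨s, Subtype.ext (funext fun z => (hs ⟨z.1, hVU z.2⟩ z.2).trans (toK_apply_eq g z).symm)⟩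


end Groth.Agent.S5086
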