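import Groth.Statements.S5087
import Mathlib
import Groth.Agent.MeroLib.Frame

set_option autoImplicit false
universe u
open CategoryTheory CategoryTheory.Limits AlgebraicGeometry TopologicalSpace
open Mero

namespace Groth.Agent.S5087

open CategoryTheory CategoryTheory.Limits AlgebraicGeometry

open TopologicalSpace Groth.Agent.ParaFLib Groth.Agent.MeroLib

variable {X : Scheme.{u}}

lemma aux' {K : Type*} [CommRing K] (a a' b b' t : K) (e1 : a' * a = 1) (e2 : b' * b = 1)
    (h2 : t * b' = a') : a * t = b := by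
  linear_combination (b * a) * h2 + b * e1 - (a * t) * e2

/-- A regular meromorphic section is locally a unit times a generator. -/
lemma exists_frame {L : X.Modules} (hL : PicF.IsInvertible L) (σ : Γ(Mero.merMod L, ⊤))
    (hσ : Mero.IsRegularMero L σ) (x : X) :
    ∃ d : Frame L x, ∀ z : d.W, σ.1 ⟨z.1, trivial⟩ =
      Mero.evalK X d.W z d.g.val • (LocalizedModule.mk (L.presheaf.germ d.W z.1 z.2 d.e) 1 : Mero.MStalk L z.1) := by
  obtain ⟨W₀, e₀, hx₀, he₀⟩ := exists_gen_nhd hL x
  obtain ⟨T, hT, i, m, b, hmb⟩ := σ.2 ⟨x, trivial⟩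
  let W := W₀ ⊓ T
  have h0 : W ≤ W₀ := inf_le_left
  have h1 : W ≤ T := inf_le_right
  let e := L.presheaf.map (homOfLE h0).op e₀
  obtain ⟨a, ha⟩ := (he₀ W h0).2 (L.presheaf.map (homOfLE h1).op m)
  dsimp only at ha
  let bW := X.presheaf.map (homOfLE h1).op b.1
  have hbW : bW ∈ Mero.regSub X W := Mero.regSub_res _ b.2
  have hval : ∀ z : W, σ.1 ⟨z.1, trivial⟩ =
      LocalizedModule.mk (X.presheaf.germ W z.1 z.2 a • L.presheaf.germ W z.1 z.2 e) (Mero.regGerm z ⟨bW, hbW⟩) := by
    intro z
    have h2 := hmb ⟨z.1, h1 z.2⟩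
    dsimp only at h2
    refine h2.trans (Mero.mk_congr ?_ ?_)
    · rw [← ParaFLib.germ_smul', ha, TopCat.Presheaf.germ_res_apply]
    · exact (TopCat.Presheaf.germ_res_apply X.presheaf (homOfLE h1) z.1 z.2 b.1).symm
  have haW : a ∈ Mero.regSub X W := fun z => by
    rw [mem_nonZeroDivisors_iff_right]
    intro r hr
    apply Mero.algebraMap_KStalk_injective (X := X) z.1
    rw [map_zero]
    refine hσ z.1 _ ?_
    rw [algebraMap_smul, hval z, LocalizedModule.smul'_mk, smul_smul, hr, zero_smul, LocalizedModule.zero_mk]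
  refine ⟨⟨W, ⟨hx₀, hT⟩, e, he₀.res h0, regUnit a haW * (regUnit bW hbW)⁻¹⟩, fun z => (hval z).trans ?_⟩
  show _ = Mero.evalK X W z ((regUnit a haW).val * ((regUnit bW hbW)⁻¹).val) • _
  rw [map_mul, evalK_regUnit]
  show _ = (algebraMap _ (Mero.KStalk X z.1) (X.presheaf.germ W z.1 z.2 a) *
    LocalizedModule.mk (X.presheaf.germ W z.1 z.2 1) (Mero.regGerm z ⟨bW, hbW⟩)) • _
  rw [← Algebra.smul_def, LocalizedModule.smul'_mk, smul_eq_mul, map_one, mul_one]
  refine Eq.trans ?_ (LocalizedModule.mk_smul_mk _ _ _ _).symm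
  exact Mero.mk_congr rfl (congrArg _ (mul_one _).symm)

/-- For a locally Noetherian scheme X (so that at every point the germs of regular functions are all the
non-zero-divisors of the local ring, and a regular meromorphic section of an invertible module is
locally a unit of K_X times a generator): an invertible O_X-module L is isomorphic to O_X(D) for
some divisor D on X if and only if L has a regular meromorphic section. (The published statement is
for an arbitrary scheme, with regular meromorphic sections defined through local trivialisations;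
this row assumes X locally Noetherian, where that notion agrees with the stalkwise one used here.) -/
theorem result (X : Scheme.{u}) [IsLocallyNoetherian X] (L : X.Modules)
    (hL : PicF.IsInvertible L) :
    (∃ D : Mero.Divisor X, Nonempty (L ≅ Mero.divMod D)) ↔ Mero.HasRegularMero L := by
  constructor
  · rintro ⟨D, ⟨i⟩⟩
    have hg : ∀ x : X, ∃ (W : X.Opens) (_ : x ∈ W) (g : (Γ(Mero.kmod X, W))ˣ) (e : Γ(L, W)), Gen W e ∧
        (∀ y : W, D.1 y.1 = Mero.germOf g y) ∧ ∀ (O : X.Opens) (hO : O ≤ W) (r : Γ(X, O)) (y : O),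
          (i.hom.app O (r • L.presheaf.map (homOfLE hO).op e)).1 y =
            algebraMap _ (Mero.KStalk X y.1) (X.presheaf.germ O y.1 y.2 r) *
              Mero.evalK X W ⟨y.1, hO y.2⟩ (g⁻¹).val := by
      intro x
      obtain ⟨W, hx, g, hg⟩ := D.2 x
      let t₀ := invSec g hg
      let e : Γ(L, W) := i.inv.app W t₀
      have hres : ∀ (O : X.Opens) (hO : O ≤ W), L.presheaf.map (homOfLE hO).op e =
          i.inv.app O ((Mero.divMod D).presheaf.map (homOfLE hO).op t₀) := fun O hO =>
        (ConcreteCategory.congr_hom (i.inv.mapPresheaf.naturality (homOfLE hO).op) t₀).symm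
      have hh : ∀ (O : X.Opens) (t : Γ(Mero.divMod D, O)), i.hom.app O (i.inv.app O t) = t := fun O t =>
        ConcreteCategory.congr_hom (congrArg (fun φ => Scheme.Modules.Hom.app φ O) i.inv_hom_id) t
      have hi : ∀ (O : X.Opens) (t : Γ(L, O)), i.inv.app O (i.hom.app O t) = t := fun O t =>
        ConcreteCategory.congr_hom (congrArg (fun φ => Scheme.Modules.Hom.app φ O) i.hom_inv_id) t
      refine ⟨W, hx, g, e, fun O hO => ?_, hg, fun O hO r y => ?_⟩
      · have : (fun r : Γ(X, O) => r • L.presheaf.map (homOfLE hO).op e) =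
            (fun t => i.inv.app O t) ∘ fun r : Γ(X, O) => r • (Mero.divMod D).presheaf.map (homOfLE hO).op t₀ :=
          funext fun r => by
            show _ = i.inv.app O (r • _)
            rw [Scheme.Modules.Hom.app_smul, hres O hO]
        rw [this]
        exact (Function.bijective_iff_has_inverse.2 ⟨fun t => i.hom.app O t, hh O, hi O⟩).comp (gen_invSec g hg O hO)
      · rw [Scheme.Modules.Hom.app_smul, hres O hO, hh]
        exact Algebra.smul_def _ _
    choose W hxW g e he hgD hcomp using hg
    let v : ∀ x : X, Mero.MStalk L x := fun x =>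
      Mero.evalK X (W x) ⟨x, hxW x⟩ (g x).val •
        LocalizedModule.mk (L.presheaf.germ (W x) x (hxW x) (e x)) 1
    have hv : ∀ (x : X) (z : W x), v z.1 = Mero.evalK X (W x) z (g x).val •
        LocalizedModule.mk (L.presheaf.germ (W x) z.1 z.2 (e x)) 1 := fun x z => by
      let O := W z.1 ⊓ W x
      have hzO : z.1 ∈ O := ⟨hxW z.1, z.2⟩
      obtain ⟨t, ht⟩ := (he x O inf_le_right).2 (L.presheaf.map (homOfLE (inf_le_left : O ≤ W z.1)).op (e z.1))
      dsimp only at ht
      have h1 := hcomp x O inf_le_right t ⟨z.1, hzO⟩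
      have h2 := hcomp z.1 O inf_le_left 1 ⟨z.1, hzO⟩
      rw [ht] at h1
      rw [one_smul, map_one, map_one, one_mul] at h2
      rw [h1] at h2
      have ht' : L.presheaf.germ (W z.1) z.1 (hxW z.1) (e z.1) =
          X.presheaf.germ O z.1 hzO t • L.presheaf.germ (W x) z.1 z.2 (e x) := by
        rw [← TopCat.Presheaf.germ_res_apply L.presheaf (homOfLE (inf_le_left : O ≤ W z.1)) z.1 hzO (e z.1), ← ht,
          ParaFLib.germ_smul', TopCat.Presheaf.germ_res_apply]
      show Mero.evalK X (W z.1) ⟨z.1, hxW z.1⟩ (g z.1).val • LocalizedModule.mk _ 1 = _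
      rw [ht', ← LocalizedModule.smul'_mk]
      refine (congrArg (_ • ·) (algebraMap_smul (Mero.KStalk X z.1) _ _).symm).trans ?_
      refine (smul_smul _ _ _).trans (congrArg (· • _) ?_)
      have e1 : Mero.evalK X (W z.1) ⟨z.1, hxW z.1⟩ ((g z.1)⁻¹).val * Mero.evalK X (W z.1) ⟨z.1, hxW z.1⟩ (g z.1).val = 1 := by
        rw [← map_mul, Units.inv_mul, map_one]
      have e2 : Mero.evalK X (W x) z ((g x)⁻¹).val * Mero.evalK X (W x) z (g x).val = 1 := by
        rw [← map_mul, Units.inv_mul, map_one]
      exact aux' _ _ _ _ _ e1 e2 h2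
    refine ⟨⟨fun x => v x.1, fun x => ?_⟩, fun x q hq => ?_⟩
    · obtain ⟨T, hT, i', m, b, hmb⟩ := (g x.1).val.2 ⟨x.1, hxW x.1⟩
      refine ⟨T, hT, homOfLE le_top, m • L.presheaf.map i'.op (e x.1), b, fun z => ?_⟩
      have h2 := hmb z
      dsimp only at h2
      refine (hv x.1 ⟨z.1, leOfHom i' z.2⟩).trans ?_
      refine (congrArg (· • _) h2).trans ?_
      refine (LocalizedModule.mk_smul_mk _ _ _ _).trans (Mero.mk_congr ?_ (congrArg _ (mul_one _)))
      rw [ParaFLib.germ_smul', TopCat.Presheaf.germ_res_apply]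
    · change q • (Mero.evalK X (W x) ⟨x, hxW x⟩ (g x).val • _) = 0 at hq
      rw [smul_smul] at hq
      have hu : IsUnit (Mero.evalK X (W x) ⟨x, hxW x⟩ (g x).val) := (g x).isUnit.map _
      refine hu.mul_left_eq_zero.1 ?_
      generalize q * Mero.evalK X (W x) ⟨x, hxW x⟩ (g x).val = p at hq ⊢
      induction p using LocalizedModule.induction_on with
      | _ a s =>
        have hq' := (LocalizedModule.mk_smul_mk a (L.presheaf.germ (W x) x (hxW x) (e x)) s 1).symm.trans hq
        rw [mul_one, ← LocalizedModule.zero_mk s, LocalizedModule.mk_eq] at hq'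
        obtain ⟨u, hu⟩ := hq'
        simp only [smul_zero, Submonoid.smul_def, smul_smul] at hu
        have h3 := ((he x).bijective_germ x (hxW x)).1 (show _ • _ = (0 : X.presheaf.stalk x) • _ from
          hu.trans (zero_smul _ _).symm)
        have h4 := (Mero.regStalk_le_nonZeroDivisors x (u * s).2)
        rw [Submonoid.coe_mul] at h4
        rw [(mul_right_mem_nonZeroDivisors_eq_zero_iff h4).1
          (show a * ((u : X.presheaf.stalk x) * (s : X.presheaf.stalk x)) = 0 by rw [← h3]; ring), LocalizedModule.zero_mk]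
  · rintro ⟨σ, hσ⟩
    choose d hd using exists_frame hL σ hσ
    exact ⟨Frame.divisor d (Frame.compat_of_section d σ hσ hd),
      Frame.nonempty_iso d (Frame.compat_of_section d σ hσ hd)⟩


end Groth.Agent.S5087
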