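import Groth.Statements.S5089
import Mathlib
import Groth.Agent.MeroLib.Total
import Groth.Agent.MeroLib.Frame

set_option autoImplicit false
universe u
open CategoryTheory CategoryTheory.Limits AlgebraicGeometry TopologicalSpace
open Mero

namespace Groth.Agent.S5089

open CategoryTheory CategoryTheory.Limits AlgebraicGeometry

open TopologicalSpace Groth.Agent.MeroLib Groth.Agent.ParaFLib
/-- Case b): let X be a reduced scheme whose set of irreducible components is locally finite (every
point has an open neighbourhood meeting only finitely many irreducible components). Then every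
invertible O_X-module is isomorphic to O_X(D) for some divisor D on X; in other words the canonical
homomorphism Div(X) → Pic(X) is surjective. -/
theorem result (X : Scheme.{u}) [IsReduced X]
    (hX : ∀ x : ↥X, ∃ W : X.Opens, x ∈ W ∧
      {Z : Set ↥X | Z ∈ irreducibleComponents ↥X ∧ (Z ∩ (W : Set ↥X)).Nonempty}.Finite)
    (L : X.Modules) (hL : PicF.IsInvertible L) :
    ∃ D : Mero.Divisor X, Nonempty (L ≅ Mero.divMod D) := by
  classical
  choose W₀ hxW₀ hfin using hX
  choose W₁ e₁ hx₁ he₁ using fun x => exists_gen_nhd hL x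
  -- a generator of each stalk
  let w : ∀ z : X, L.presheaf.stalk z := fun z => L.presheaf.germ (W₁ z) z (hx₁ z) (e₁ z)
  have hw : ∀ z, Function.Bijective fun r : X.presheaf.stalk z => r • w z := fun z =>
    (he₁ z).bijective_germ z (hx₁ z)
  choose T hT hxT hle using fun x =>
    exists_isAffineOpen_mem_and_subset (X := X) (x := x) (U := W₁ x ⊓ W₀ x) ⟨hx₁ x, hxW₀ x⟩
  have hT1 : ∀ x, T x ≤ W₁ x := fun x z hz => (hle x hz).1
  -- the coefficient of the chosen generators
  let c : ∀ x z : X, Mero.KStalk X z := fun x z =>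
    if hz : z ∈ W₁ x then algebraMap _ (Mero.KStalk X z)
      (((he₁ x).bijective_germ z hz).2 (w z)).choose else 1
  let c' : ∀ x z : X, Mero.KStalk X z := fun x z =>
    if hz : z ∈ W₁ x then algebraMap _ (Mero.KStalk X z)
      ((hw z).2 (L.presheaf.germ (W₁ x) z hz (e₁ x))).choose else 1
  choose g hg using fun x => exists_local_section (c x) (hfin x) (hT x) (fun z hz => (hle x hz).2)
  choose g' hg' using fun x => exists_local_section (c' x) (hfin x) (hT x) (fun z hz => (hle x hz).2)
  have hgg : ∀ x, g x * g' x = 1 := fun x => ext_maxPt _ _ fun z hz => by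
    show (g x).1 z * (g' x).1 z = 1
    rw [hg x z hz, hg' x z hz]
    simp only [c, c', dif_pos (hT1 x z.2)]
    rw [← map_mul, ← map_one (algebraMap (X.presheaf.stalk z.1) (Mero.KStalk X z.1))]
    refine congrArg _ (((he₁ x).bijective_germ z.1 (hT1 x z.2)).1 ?_)
    show (_ * _) • _ = (1 : X.presheaf.stalk z.1) • _
    have h1 := (((he₁ x).bijective_germ z.1 (hT1 x z.2)).2 (w z.1)).choose_spec
    have h2 := ((hw z.1).2 (L.presheaf.germ (W₁ x) z.1 (hT1 x z.2) (e₁ x))).choose_spec
    rw [mul_comm]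
    exact (mul_smul _ _ _).trans ((congrArg (_ • ·) h1).trans (h2.trans (one_smul _ _).symm))
  let d : ∀ x : X, Frame L x := fun x => ⟨T x, hxT x, L.presheaf.map (homOfLE (hT1 x)).op (e₁ x),
    (he₁ x).res (hT1 x), ⟨g x, g' x, hgg x, (mul_comm _ _).trans (hgg x)⟩⟩
  have hd : Frame.Compat d := by
    intro x x' z hz hz' r r' h
    obtain ⟨V, hzV, a, rfl⟩ := TopCat.Presheaf.exists_germ_eq X.presheaf r
    obtain ⟨V', hzV', a', rfl⟩ := TopCat.Presheaf.exists_germ_eq X.presheaf r'
    let O₀ := V ⊓ V' ⊓ (T x ⊓ T x')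
    have hzO : z ∈ O₀ := ⟨⟨hzV, hzV'⟩, hz, hz'⟩
    have o1 : O₀ ≤ V := fun y hy => hy.1.1
    have o2 : O₀ ≤ V' := fun y hy => hy.1.2
    have o3 : O₀ ≤ T x := fun y hy => hy.2.1
    have o4 : O₀ ≤ T x' := fun y hy => hy.2.2
    let A := X.presheaf.map (homOfLE o1).op a
    let A' := X.presheaf.map (homOfLE o2).op a'
    let E := L.presheaf.map (homOfLE o3).op (d x).e
    let E' := L.presheaf.map (homOfLE o4).op (d x').e
    have h' : L.presheaf.germ O₀ z hzO (A • E) = L.presheaf.germ O₀ z hzO (A' • E') := by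
      rw [ParaFLib.germ_smul', ParaFLib.germ_smul']
      exact (congrArg₂ (· • ·) (TopCat.Presheaf.germ_res_apply _ _ _ _ a)
        (TopCat.Presheaf.germ_res_apply _ _ _ _ (d x).e)).trans (h.trans
        (congrArg₂ (· • ·) (TopCat.Presheaf.germ_res_apply _ _ _ _ a')
          (TopCat.Presheaf.germ_res_apply _ _ _ _ (d x').e)).symm)
    obtain ⟨O, hzO', i1, i2, heq⟩ := TopCat.Presheaf.germ_eq L.presheaf z hzO hzO _ _ h'
    have hO : O ≤ O₀ := leOfHom i1
    let K : Γ(Mero.kmod X, O) := Mero.toK X O (X.presheaf.map (homOfLE hO).op A) *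
      (Mero.kmod X).presheaf.map (homOfLE (hO.trans o3)).op (g' x)
    let K' : Γ(Mero.kmod X, O) := Mero.toK X O (X.presheaf.map (homOfLE hO).op A') *
      (Mero.kmod X).presheaf.map (homOfLE (hO.trans o4)).op (g' x')
    have hK : K = K' := ext_maxPt _ _ fun y hy => by
      have e := congrArg (L.presheaf.germ O y.1 y.2) heq
      rw [TopCat.Presheaf.germ_res_apply, TopCat.Presheaf.germ_res_apply, ParaFLib.germ_smul',
        ParaFLib.germ_smul', TopCat.Presheaf.germ_res_apply, TopCat.Presheaf.germ_res_apply,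
        TopCat.Presheaf.germ_res_apply, TopCat.Presheaf.germ_res_apply] at e
      erw [TopCat.Presheaf.germ_res_apply, TopCat.Presheaf.germ_res_apply] at e
      have hmk : ∀ r : Γ(X, O), (Mero.toK X O r).1 y =
          algebraMap _ (Mero.KStalk X y.1) (X.presheaf.germ O y.1 y.2 r) := fun r =>
        (Localization.mk_eq_mk'_apply (M := Mero.regStalk X y.1) _ _).trans (IsLocalization.mk'_one _ _)
      show (Mero.toK X O _).1 y * (g' x).1 ⟨y.1, _⟩ = (Mero.toK X O _).1 y * (g' x').1 ⟨y.1, _⟩
      rw [hg' x _ hy, hg' x' _ hy, hmk, hmk]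
      simp only [c', dif_pos (hT1 x (o3 (hO y.2))), dif_pos (hT1 x' (o4 (hO y.2)))]
      have h1 := ((hw y.1).2 (L.presheaf.germ (W₁ x) y.1 (hT1 x (o3 (hO y.2))) (e₁ x))).choose_spec
      have h2 := ((hw y.1).2 (L.presheaf.germ (W₁ x') y.1 (hT1 x' (o4 (hO y.2))) (e₁ x'))).choose_spec
      refine (map_mul (algebraMap (X.presheaf.stalk y.1) (Mero.KStalk X y.1)) _ _).symm.trans
        (Eq.trans (congrArg _ ((hw y.1).1 ?_)) (map_mul (algebraMap (X.presheaf.stalk y.1) (Mero.KStalk X y.1)) _ _))
      have eA : X.presheaf.germ O y.1 y.2 (X.presheaf.map (homOfLE hO).op A) =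
          X.presheaf.germ V y.1 (o1 (hO y.2)) a :=
        (TopCat.Presheaf.germ_res_apply _ _ _ _ A).trans (TopCat.Presheaf.germ_res_apply _ _ _ _ a)
      have eA' : X.presheaf.germ O y.1 y.2 (X.presheaf.map (homOfLE hO).op A') =
          X.presheaf.germ V' y.1 (o2 (hO y.2)) a' :=
        (TopCat.Presheaf.germ_res_apply _ _ _ _ A').trans (TopCat.Presheaf.germ_res_apply _ _ _ _ a')
      show (_ * _) • w y.1 = (_ * _) • w y.1
      exact (mul_smul _ _ _).trans ((congrArg₂ (· • ·) eA h1).trans (e.trans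
        ((congrArg₂ (· • ·) eA' h2).symm.trans (mul_smul _ _ _).symm)))
    have hz2 := congrArg (fun t : Γ(Mero.kmod X, O) => t.1 ⟨z, hzO'⟩) hK
    have hval : ∀ {B : Γ(X, O₀)} {b : X.presheaf.stalk z}, X.presheaf.germ O₀ z hzO B = b →
        (Mero.toK X O (X.presheaf.map (homOfLE hO).op B)).1 ⟨z, hzO'⟩ = algebraMap _ (Mero.KStalk X z) b := by
      intro B b hb
      rw [← hb, ← TopCat.Presheaf.germ_res_apply X.presheaf (homOfLE hO) z hzO' B]
      exact (Localization.mk_eq_mk'_apply (M := Mero.regStalk X z) _ _).trans (IsLocalization.mk'_one _ _)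
    exact ((congrArg (· * _) (hval (TopCat.Presheaf.germ_res_apply _ _ _ _ a))).symm.trans hz2).trans
      (congrArg (· * _) (hval (TopCat.Presheaf.germ_res_apply _ _ _ _ a')))
  exact ⟨Frame.divisor d hd, Frame.nonempty_iso d hd⟩


end Groth.Agent.S5089
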