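import Groth.Statements.S5097
import Mathlib

set_option autoImplicit false
universe u
open CategoryTheory CategoryTheory.Limits AlgebraicGeometry TopologicalSpace
open Mero

namespace Groth.Agent.S5097

open CategoryTheory CategoryTheory.Limits AlgebraicGeometry

/-- Under the inclusion `O(D) ≤ O(D')` near `x` the germ `D'_x / D_x` is a germ of a function. -/
lemma exists_mul (X : Scheme.{u}) (D D' : Mero.Divisor X)
    (h : ∀ (U : X.Opens) (t : Γ(Mero.kmod X, U)),
      (∀ x : ↥U, Mero.DivCond D x.1 (t.1 x)) → (∀ x : ↥U, Mero.DivCond D' x.1 (t.1 x))) (x : X)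
    (g g' : (Mero.KStalk X x)ˣ) (hg : D.1 x = QuotientGroup.mk g) (hg' : D'.1 x = QuotientGroup.mk g') :
    ∃ a : X.presheaf.stalk x, algebraMap _ (Mero.KStalk X x) a = ((g⁻¹ * g' : (Mero.KStalk X x)ˣ) : Mero.KStalk X x) := by
  obtain ⟨W, hx, G, hG⟩ := D.2 x
  have key : ∀ y : W, Mero.DivCond D y.1 (((G⁻¹ : (Γ(Mero.kmod X, W))ˣ) : Γ(Mero.kmod X, W)).1 y) := by
    intro y G' hG'
    rw [hG y] at hG'
    obtain ⟨v, hv⟩ : (Units.map (Mero.evalK X W y).toMonoidHom G)⁻¹ * G' ∈ Mero.stalkUnits X y.1 :=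
      QuotientGroup.eq.mp hG'
    refine ⟨(v : X.presheaf.stalk y.1), ?_⟩
    have := congrArg Units.val hv
    rw [Units.val_mul] at this
    exact this
  obtain ⟨a, ha⟩ := h W _ key ⟨x, hx⟩ g' hg'
  rw [hG ⟨x, hx⟩] at hg
  obtain ⟨v, hv⟩ : (Units.map (Mero.evalK X W ⟨x, hx⟩).toMonoidHom G)⁻¹ * g ∈ Mero.stalkUnits X x :=
    QuotientGroup.eq.mp hg
  refine ⟨(↑(v⁻¹) : X.presheaf.stalk x) * a, ?_⟩
  rw [show g⁻¹ = (Units.map (algebraMap (X.presheaf.stalk x) (Mero.KStalk X x)).toMonoidHom v⁻¹) *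
    (Units.map (Mero.evalK X W ⟨x, hx⟩).toMonoidHom G)⁻¹ from by rw [map_inv, hv]; group]
  rw [map_mul, ha, Units.val_mul, Units.val_mul, mul_assoc, map_inv]
  rfl
/-- Injectivity of the canonical homomorphism from divisors to invertible fractional ideals: let X be a
scheme and D, D' two divisors on X such that, over every open subset U, a section t of the sheaf of
meromorphic functions lies in O_X(D) (t_x · g ∈ O_{X,x} for a representative g of the germ of D at
x, for all x in U) if and only if it lies in O_X(D'). Then D = D'. -/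
theorem result (X : Scheme.{u}) (D D' : Mero.Divisor X)
    (h : ∀ (U : X.Opens) (t : Γ(Mero.kmod X, U)),
      (∀ x : ↥U, Mero.DivCond D x.1 (t.1 x)) ↔ (∀ x : ↥U, Mero.DivCond D' x.1 (t.1 x))) :
    D = D' := by
  refine Subtype.ext (funext fun x => ?_)
  obtain ⟨g, hg⟩ := QuotientGroup.mk_surjective (D.1 x)
  obtain ⟨g', hg'⟩ := QuotientGroup.mk_surjective (D'.1 x)
  obtain ⟨a, ha⟩ := exists_mul X D D' (fun U t => (h U t).1) x g g' hg.symm hg'.symm
  obtain ⟨b, hb⟩ := exists_mul X D' D (fun U t => (h U t).2) x g' g hg'.symm hg.symm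
  rw [← hg, ← hg']
  have hab : a * b = 1 := by
    apply Mero.algebraMap_KStalk_injective (X := X) x
    rw [map_mul, ha, hb, ← Units.val_mul, map_one]
    simp
  exact QuotientGroup.eq.mpr ⟨⟨a, b, hab, by rw [mul_comm, hab]⟩, Units.ext ha⟩


end Groth.Agent.S5097
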