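import Groth.Statements.S5098
import Mathlib
import Groth.Agent.MeroLib.Depth1

set_option autoImplicit false
universe u
open CategoryTheory CategoryTheory.Limits AlgebraicGeometry TopologicalSpace
open Mero

namespace Groth.Agent.S5098

/-- General form, for divisors on a scheme that need not be integral: let X be a locally Noetherian
scheme and D a divisor on X. If the germ of D is effective (resp. trivial) at every point x whose
local ring O_{X,x} has depth 1, then D is effective (resp. D is the unit divisor, in the
multiplicative notation used here). -/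
theorem result (X : Scheme.{u}) [IsLocallyNoetherian X] (D : Mero.Divisor X) :
    ((∀ x : ↥X, LocCoh.depth ↑(X.presheaf.stalk x) ↑(X.presheaf.stalk x) = 1 → Mero.IsEffectiveAt D x) →
        Mero.IsEffective D) ∧
      ((∀ x : ↥X, LocCoh.depth ↑(X.presheaf.stalk x) ↑(X.presheaf.stalk x) = 1 → D.1 x = 1) → D = 1) := by
  refine ⟨fun h x => ?_, fun h => ?_⟩
  · by_contra hx
    obtain ⟨z, -, hz, hz'⟩ := MeroLib.exists_depth_one D x hx
    exact hz' (h z hz)
  · apply Subtype.ext
    funext x
    show D.1 x = 1
    refine MeroLib.eq_one_of_isEffectiveAt D x ?_ ?_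
    · by_contra hx
      obtain ⟨z, -, hz, hz'⟩ := MeroLib.exists_depth_one D x hx
      exact hz' ⟨1, by rw [h z hz, eq_comm, QuotientGroup.eq_one_iff]; exact ⟨1, Units.ext (by simp)⟩⟩
    · by_contra hx
      obtain ⟨z, -, hz, hz'⟩ := MeroLib.exists_depth_one D⁻¹ x hx
      refine hz' ⟨1, ?_⟩
      show (D.1 z)⁻¹ = _
      rw [h z hz, inv_one, eq_comm, QuotientGroup.eq_one_iff]
      exact ⟨1, Units.ext (by simp)⟩


end Groth.Agent.S5098
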