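import Groth.Statements.S5099
import Mathlib
import Groth.Agent.MeroLib.Depth1

set_option autoImplicit false
universe u
open CategoryTheory CategoryTheory.Limits AlgebraicGeometry TopologicalSpace
open Mero

namespace Groth.Agent.S5099

/-- General form, for divisors on a scheme that need not be integral: let X be a locally Noetherian
scheme, D a divisor on X and x a maximal point of the support of D (a point at which the germ of D
is not trivial and none of whose proper generizations has that property). Then the local ring of X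
at x has depth 1. -/
theorem result (X : Scheme.{u}) [IsLocallyNoetherian X] (D : Mero.Divisor X)
    (x : ↥X) (hx : x ∈ Mero.supp D) (hmax : ∀ z : ↥X, z ∈ Mero.supp D → z ⤳ x → z = x) :
    LocCoh.depth ↑(X.presheaf.stalk x) ↑(X.presheaf.stalk x) = 1 := by
  have hnot : ¬ (Mero.IsEffectiveAt D x ∧ Mero.IsEffectiveAt D⁻¹ x) := fun h =>
    hx (MeroLib.eq_one_of_isEffectiveAt D x h.1 h.2)
  rcases not_and_or.1 hnot with h | h
  · obtain ⟨z, hzx, hz, hz'⟩ := MeroLib.exists_depth_one D x h
    obtain rfl := hmax z (fun hz1 => hz' ⟨1, by rw [hz1, eq_comm, QuotientGroup.eq_one_iff]; exact ⟨1, Units.ext (by simp)⟩⟩) hzx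
    exact hz
  · obtain ⟨z, hzx, hz, hz'⟩ := MeroLib.exists_depth_one D⁻¹ x h
    obtain rfl := hmax z (fun hz1 => hz' ⟨1, by show (D.1 z)⁻¹ = _; rw [hz1, inv_one, eq_comm, QuotientGroup.eq_one_iff]; exact ⟨1, Units.ext (by simp)⟩⟩) hzx
    exact hz


end Groth.Agent.S5099
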