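import Groth.Statements.S5102
import Mathlib
import Groth.Agent.S10866
import Groth.Agent.AmpleLib.Tensor

set_option autoImplicit false
universe u
open CategoryTheory CategoryTheory.Limits AlgebraicGeometry TopologicalSpace
open Mero

namespace Groth.Agent.S5102

open CategoryTheory CategoryTheory.Limits AlgebraicGeometry

open TopologicalSpace Groth.Agent.ParaFLib

variable {X : Scheme.{u}}

lemma smul_eq_toK {U : X.Opens} (r : Γ(X, U)) (t : Γ(Mero.kmod X, U)) : r • t = Mero.toK X U r * t := by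
  refine Subtype.ext (funext fun y => ?_)
  show X.presheaf.germ U y.1 y.2 r • t.1 y = LocalizedModule.mk (X.presheaf.germ U y.1 y.2 r) 1 * t.1 y
  rw [Algebra.smul_def]
  exact congrArg (· * _) ((Localization.mk_eq_mk'_apply (M := Mero.regStalk X y.1) _ _).trans
    (IsLocalization.mk'_one _ _)).symm

lemma toK_injective {U : X.Opens} : Function.Injective (Mero.toK X U) := fun r r' h => by
  refine TopCat.Presheaf.section_ext X.sheaf U r r' fun y hy => ?_
  have := congrArg (fun t : Γ(Mero.kmod X, U) => t.1 ⟨y, hy⟩) h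
  apply Mero.algebraMap_KStalk_injective (X := X) y
  refine Eq.trans ?_ (this.trans ((Localization.mk_eq_mk'_apply (M := Mero.regStalk X y) _ _).trans
    (IsLocalization.mk'_one _ _)))
  exact ((Localization.mk_eq_mk'_apply (M := Mero.regStalk X y) _ _).trans (IsLocalization.mk'_one _ _)).symm

lemma isUnit_of_gen {J : X.Modules} (ι : J ⟶ Mero.kmod X) [Mono ι] {W : X.Opens} {e : Γ(J, W)}
    (he : Gen W e) : ∃ f : (Γ(Mero.kmod X, W))ˣ, f.val = ι.app W e := by
  let f₀ : Γ(Mero.kmod X, W) := ι.app W e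
  have hloc : ∀ y : W, ∃ (T : X.Opens) (hT : y.1 ∈ T) (hTW : T ≤ W) (m : Γ(X, T)) (b : Mero.regSub X T)
      (hm : m ∈ Mero.regSub X T), ∀ z : T, f₀.1 ⟨z.1, hTW z.2⟩ *
        LocalizedModule.mk (X.presheaf.germ T z.1 z.2 b.1) (Mero.regGerm z ⟨m, hm⟩) = 1 := by
    intro y
    obtain ⟨T, hT, i, m, b, hmb⟩ := f₀.2 y
    have hm : m ∈ Mero.regSub X T := by
      intro z
      rw [mem_nonZeroDivisors_iff_right]
      intro r hr
      obtain ⟨O₁, hz₁, r₁, rfl⟩ := TopCat.Presheaf.exists_germ_eq X.presheaf r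
      have hz2 : z.1 ∈ O₁ ⊓ T := ⟨hz₁, z.2⟩
      rw [← X.presheaf.germ_res_apply (homOfLE (inf_le_left : O₁ ⊓ T ≤ O₁)) z.1 hz2,
        ← X.presheaf.germ_res_apply (homOfLE (inf_le_right : O₁ ⊓ T ≤ T)) z.1 hz2 m, ← map_mul,
        ← map_zero (X.presheaf.germ (O₁ ⊓ T) z.1 hz2).hom] at hr
      obtain ⟨O, hzO, i1, i2, h0⟩ := TopCat.Presheaf.germ_eq X.presheaf z.1 hz2 hz2 _ _ hr
      rw [map_zero] at h0
      have hO1 : O ≤ O₁ := (leOfHom i1).trans inf_le_left
      have hOT : O ≤ T := (leOfHom i1).trans inf_le_right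
      have hOW : O ≤ W := hOT.trans (leOfHom i)
      let s : Γ(X, O) := X.presheaf.map (homOfLE hO1).op r₁
      have h1 : s • J.presheaf.map (homOfLE hOW).op e = 0 := by
        refine S10866.injective_app ι O ?_
        rw [Scheme.Modules.Hom.app_smul, map_zero]
        refine Subtype.ext (funext fun w => ?_)
        show X.presheaf.germ O w.1 w.2 s • (ι.app O (J.presheaf.map (homOfLE hOW).op e)).1 w = 0
        have hn : ι.app O (J.presheaf.map (homOfLE hOW).op e) =
            (Mero.kmod X).presheaf.map (homOfLE hOW).op f₀ :=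
          ConcreteCategory.congr_hom (ι.mapPresheaf.naturality (homOfLE hOW).op) e
        rw [hn]
        show X.presheaf.germ O w.1 w.2 s • f₀.1 ⟨w.1, hOW w.2⟩ = 0
        have h2 := hmb ⟨w.1, hOT w.2⟩
        dsimp only at h2
        refine (congrArg (_ • ·) h2).trans ?_
        rw [LocalizedModule.smul'_mk]
        refine (Mero.mk_congr ?_ rfl).trans (LocalizedModule.zero_mk _)
        have h3 := congrArg (X.presheaf.germ O w.1 w.2) h0
        simp only [map_mul, map_zero, TopCat.Presheaf.germ_res_apply] at h3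
        rw [smul_eq_mul, show X.presheaf.germ O w.1 w.2 s = X.presheaf.germ O₁ w.1 (hO1 w.2) r₁ from
          TopCat.Presheaf.germ_res_apply _ _ _ _ r₁]
        exact h3
      have h4 : s = 0 := (he O hOW).1 (h1.trans (zero_smul _ _).symm)
      rw [← X.presheaf.germ_res_apply (homOfLE hO1) z.1 hzO r₁]
      exact (congrArg _ h4).trans (map_zero _)
    refine ⟨T, hT, leOfHom i, m, b, hm, fun z => ?_⟩
    have h2 := hmb z
    dsimp only at h2
    refine (congrArg (· * _) h2).trans ?_
    refine LocalizedModule.mk_mul_mk.trans ?_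
    rw [show Mero.regGerm z b * Mero.regGerm z ⟨m, hm⟩ = Mero.regGerm z (b * ⟨m, hm⟩) from
      Subtype.ext (map_mul _ _ _).symm]
    refine (Mero.mk_congr ?_ rfl).trans (Mero.mk_self_eq_one _)
    show _ = X.presheaf.germ T z.1 z.2 (b.1 * m)
    rw [map_mul, mul_comm]
  have hu : ∀ y : W, IsUnit (f₀.1 y) := fun y => by
    obtain ⟨T, hT, hTW, m, b, hm, h⟩ := hloc y
    exact IsUnit.of_mul_eq_one _ (h ⟨y.1, hT⟩)
  let g : Γ(Mero.kmod X, W) := ⟨fun y => Ring.inverse (f₀.1 y), fun y => by
    obtain ⟨T, hT, hTW, m, b, hm, h⟩ := hloc y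
    refine ⟨T, hT, homOfLE hTW, b.1, ⟨m, hm⟩, fun z => ?_⟩
    exact left_inv_eq_right_inv (Ring.inverse_mul_cancel _ (hu ⟨z.1, hTW z.2⟩)) (h z)⟩
  exact ⟨⟨f₀, g, Subtype.ext (funext fun y => Ring.mul_inverse_cancel _ (hu y)),
    Subtype.ext (funext fun y => Ring.inverse_mul_cancel _ (hu y))⟩, rfl⟩
/-- Let X be a scheme and J a fractional ideal, i.e. a sub-O_X-module of the sheaf of meromorphic
functions K_X (given by a monomorphism J → K_X). Then J is an invertible O_X-module if and only if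
every point of X has an open neighbourhood U together with a unit f of the ring Γ(U, K_X) such that
J|_U = O_U · f: over every open subset V of U, the sections of J are exactly the r · f|_V with r a
function on V. -/
theorem result (X : Scheme.{u}) (J : X.Modules)
    (ι : J ⟶ Mero.kmod X) [Mono ι] :
    PicF.IsInvertible J ↔ ∀ x : ↥X, ∃ (U : X.Opens) (_ : x ∈ U) (f : (Γ(Mero.kmod X, U))ˣ),
      ∀ (V : X.Opens) (hV : V ≤ U),
        Set.range ⇑(ι.val.app (Opposite.op V)) =
          {t : Γ(Mero.kmod X, V) | ∃ r : Γ(X, V),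
            t = Mero.toK X V r * (Mero.kmod X).presheaf.map (homOfLE hV).op (f : Γ(Mero.kmod X, U))} := by
  constructor
  · intro hJ x
    obtain ⟨W, e, hx, he⟩ := exists_gen_nhd hJ x
    obtain ⟨f, hf⟩ := isUnit_of_gen ι he
    refine ⟨W, hx, f, fun V hV => Set.ext fun t => ?_⟩
    have hn : ι.app V (J.presheaf.map (homOfLE hV).op e) = (Mero.kmod X).presheaf.map (homOfLE hV).op f.val := by
      rw [hf]
      exact ConcreteCategory.congr_hom (ι.mapPresheaf.naturality (homOfLE hV).op) e
    constructor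
    · rintro ⟨j, rfl⟩
      obtain ⟨r, rfl⟩ := (he V hV).2 j
      refine ⟨r, ?_⟩
      show ι.app V (r • J.presheaf.map (homOfLE hV).op e) = _
      rw [Scheme.Modules.Hom.app_smul, hn, smul_eq_toK]
    · rintro ⟨r, rfl⟩
      refine ⟨r • J.presheaf.map (homOfLE hV).op e, ?_⟩
      show ι.app V (r • J.presheaf.map (homOfLE hV).op e) = _
      rw [Scheme.Modules.Hom.app_smul, hn, smul_eq_toK]
  · intro h
    refine Groth.Agent.AmpleLib.isInvertible_of_gen fun x => ?_
    obtain ⟨U, hx, f, hf⟩ := h x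
    obtain ⟨e, he⟩ : f.val ∈ Set.range (ι.val.app (Opposite.op U)) := by
      rw [hf U le_rfl]
      refine ⟨1, ?_⟩
      rw [map_one, one_mul]
      exact (res_self le_rfl _).symm
    refine ⟨U, e, hx, fun O hO => ?_⟩
    have hn : ι.app O (J.presheaf.map (homOfLE hO).op e) = (Mero.kmod X).presheaf.map (homOfLE hO).op f.val := by
      rw [← he]
      exact ConcreteCategory.congr_hom (ι.mapPresheaf.naturality (homOfLE hO).op) e
    have hfu : IsUnit ((Mero.kmod X).presheaf.map (homOfLE hO).op f.val : Γ(Mero.kmod X, O)) :=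
      ⟨Units.map ((Mero.kring X).obj.map (homOfLE hO).op).hom.toMonoidHom f, rfl⟩
    have key : ∀ r : Γ(X, O), ι.app O (r • J.presheaf.map (homOfLE hO).op e) =
        Mero.toK X O r * (Mero.kmod X).presheaf.map (homOfLE hO).op f.val := fun r => by
      rw [Scheme.Modules.Hom.app_smul, hn, smul_eq_toK]
    refine ⟨fun r r' hr => toK_injective (hfu.mul_left_injective ?_), fun j => ?_⟩
    · exact (key r).symm.trans ((congrArg (fun v => ι.app O v) hr).trans (key r'))
    · obtain ⟨r, hr⟩ : ι.app O j ∈ {t : Γ(Mero.kmod X, O) | ∃ r : Γ(X, O),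
          t = Mero.toK X O r * (Mero.kmod X).presheaf.map (homOfLE hO).op (f : Γ(Mero.kmod X, U))} := by
        rw [← hf O hO]
        exact ⟨j, rfl⟩
      exact ⟨r, S10866.injective_app ι O ((key r).trans hr.symm)⟩


end Groth.Agent.S5102
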