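import Groth.Statements.S5104
import Groth.Agent.RatDense.Stalk

set_option autoImplicit false
universe u
open CategoryTheory CategoryTheory.Limits AlgebraicGeometry TopologicalSpace
open Rat20

namespace Groth.Agent.S5104

/-- Let X be an S-scheme which is locally Noetherian, or reduced with locally finite set of irreducible
components; let Y be separated and locally of finite presentation over S, U a schematically dense
open subset of X, h : U → Y an S-morphism (a pseudo-S-morphism ω of X into Y) and x a point of X.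
Then ω is defined at x — some S-morphism from an open neighbourhood V of x to Y agrees with h on U ∩
V — if and only if the restriction of ω to Spec O_{X,x} is everywhere defined — some S-morphism Spec
O_{X,x} → Y agrees with h after pulling back to Spec O_{X,x} ×_X U. (The published statement does
not assume Y separated over S and compares morphisms only on some schematically dense open; this row
assumes Y separated over S, where the two readings agree.) -/
theorem result {X Y S : Scheme.{u}} (pX : X ⟶ S) (pY : Y ⟶ S)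
    [IsSeparated pY] [LocallyOfFinitePresentation pY]
    (hX : IsLocallyNoetherian X ∨ (IsReduced X ∧ ∀ x : ↥X, ∃ W : X.Opens, x ∈ W ∧
      {Z : Set ↥X | Z ∈ irreducibleComponents ↥X ∧ (Z ∩ (W : Set ↥X)).Nonempty}.Finite))
    (U : X.Opens) (hU : CInt.IsSchematicallyDense U) (h : (U : Scheme.{u}) ⟶ Y) (hh : h ≫ pY = U.ι ≫ pX)
    (x : ↥X) :
    (∃ (V : X.Opens) (v : (V : Scheme.{u}) ⟶ Y), x ∈ V ∧ v ≫ pY = V.ι ≫ pX ∧
        X.homOfLE (inf_le_right : U ⊓ V ≤ V) ≫ v = X.homOfLE (inf_le_left : U ⊓ V ≤ U) ≫ h) ↔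
      ∃ w : Spec (X.presheaf.stalk x) ⟶ Y, w ≫ pY = X.fromSpecStalk x ≫ pX ∧
        pullback.fst (X.fromSpecStalk x) U.ι ≫ w = pullback.snd (X.fromSpecStalk x) U.ι ≫ h := by
  refine ⟨fun ⟨V, v, hxV, hv, he⟩ => ?_, fun ⟨w, hw, he⟩ =>
    Groth.Agent.RatDense.extends_of_extends_stalk pX pY hX U h hh x w hw he⟩
  refine ⟨V.fromSpecStalkOfMem x hxV ≫ v, by
    rw [Category.assoc, hv, Scheme.Opens.fromSpecStalkOfMem_ι_assoc], ?_⟩
  let l := IsOpenImmersion.lift (U ⊓ V).ι (pullback.snd (X.fromSpecStalk x) U.ι ≫ U.ι) (by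
    rintro _ ⟨q, rfl⟩
    rw [Scheme.Opens.range_ι]
    refine ⟨?_, ?_⟩
    · rw [Scheme.Hom.comp_apply]; exact (pullback.snd (X.fromSpecStalk x) U.ι q).2
    · rw [← pullback.condition, Scheme.Hom.comp_apply]
      exact (((IsLocalRing.specializes_closedPoint _).map (X.fromSpecStalk x).continuous).trans
        (specializes_of_eq X.fromSpecStalk_closedPoint)).mem_open V.2 hxV)
  have hl : l ≫ (U ⊓ V).ι = _ := IsOpenImmersion.lift_fac _ _ _
  have e₁ : l ≫ X.homOfLE (inf_le_right : U ⊓ V ≤ V) =
      pullback.fst (X.fromSpecStalk x) U.ι ≫ V.fromSpecStalkOfMem x hxV := by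
    rw [← cancel_mono V.ι, Category.assoc, Category.assoc, Scheme.homOfLE_ι,
      Scheme.Opens.fromSpecStalkOfMem_ι, hl, pullback.condition]
  have e₂ : l ≫ X.homOfLE (inf_le_left : U ⊓ V ≤ U) = pullback.snd (X.fromSpecStalk x) U.ι := by
    rw [← cancel_mono U.ι, Category.assoc, Scheme.homOfLE_ι, hl]
  rw [← reassoc_of% e₁, he, reassoc_of% e₂]

end Groth.Agent.S5104
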