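import Groth.Statements.S5105
import Groth.Agent.RefOne.WeilPrincipal
import Groth.Agent.S16087
import Groth.Agent.CurveLib.Inv


set_option autoImplicit false
universe u
open CategoryTheory CategoryTheory.Limits AlgebraicGeometry TopologicalSpace
open Div21

namespace Groth.Agent.S5105

open CategoryTheory CategoryTheory.Limits AlgebraicGeometry

open Groth.Agent.RefOne Groth.Agent.PullbackMod IsLocalRing


/-- For an integral scheme (X is locally factorial exactly when the canonical map Pic(X) → Cl(X) is a
bijection; in the presence of (i), being bijective means that each codimension-1 cycle arises as the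
Weil divisor of some rational section of an invertible module): suppose X is an integral scheme that
is normal and locally Noetherian. Then these two conditions are equivalent: (1) whenever Z is a
function from the points of X to the integers that is zero away from the points of codimension 1
(coheight 1) and whose support is locally finite, one can find an invertible O_X-module L together
with a nonzero rational section s of L (a nonzero element of the generic fibre of L) such that, at
each point of codimension 1, the order of s equals the value Z takes there; (2) each local ring of X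
is a unique factorisation domain. -/
theorem result (X : Scheme.{u}) [IsIntegral X]
    [IsLocallyNoetherian X] (hX : Pi1.IsNormalScheme X) :
    (∀ Z : ↥X → ℤ, (∀ x : ↥X, Order.coheight x ≠ 1 → Z x = 0) →
        (∀ x : ↥X, ∃ W : X.Opens, x ∈ W ∧ {z : ↥X | z ∈ W ∧ Z z ≠ 0}.Finite) →
        ∃ (L : X.Modules) (_ : PicF.IsInvertible L) (s : Cyc.secFibre L (genericPoint ↥X)), s ≠ 0 ∧
          ∀ x : ↥X, Order.coheight x = 1 →
            Cyc.secOrdAt L (genericPoint ↥X) x (genericPoint_specializes x) s = Z x) ↔
      ∀ x : ↥X, UniqueFactorizationMonoid ↑(X.presheaf.stalk x) := by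
  classical
  constructor
  · intro h
    refine ufd_of_divisors hX fun ζ hζ1 x => ?_
    let Z : X → ℤ := fun z => if z = ζ then 1 else 0
    obtain ⟨L, hL, s, hs0, hs⟩ := h Z (fun z hz => if_neg fun e => hz (by rw [e]; exact hζ1))
      (fun z => ⟨⊤, trivial, (Set.finite_singleton ζ).subset fun w hw => by_contra fun hne => hw.2 (if_neg hne)⟩)
    obtain ⟨σ, rfl⟩ := Submodule.Quotient.mk_surjective _ s
    haveI := (CurveLib.isCoh_of_isInvertible hL).1
    obtain ⟨f, hf, hfe⟩ := exists_ord_eq_of_invertible hL x (σ := σ) fun e => hs0 (by rw [e]; rfl)
    exact ⟨f, hf, fun y hy hy1 => (hfe y hy hy1).symm.trans (hs y hy1)⟩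
  · intro h Z hZ hfin
    let D : AlgebraicCycle X ℤ :=
      { toFun := Z
        supportWithinDomain' := fun _ _ => trivial
        supportLocallyFiniteWithinDomain' := fun z _ => by
          obtain ⟨W, hzW, hW⟩ := hfin z
          exact ⟨W, W.2.mem_nhds hzW, hW.subset fun w hw => ⟨hw.1, hw.2⟩⟩ }
    obtain ⟨F, hF, s, hs0, hs⟩ := (S16087.result X hX).2 D hZ
    obtain ⟨σ, rfl⟩ := Submodule.Quotient.mk_surjective _ s
    refine ⟨F, isInvertible_of_free hF.1 fun x => ?_, _, hs0, fun x hx => (hs x hx).symm⟩
    haveI := h x
    obtain ⟨f, hf, hfe⟩ := principal_of_ufd hX x Z (hfin x)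
    exact exists_gen_of_principal hX hF (σ := σ) (fun e => hs0 (by rw [e]; rfl)) hf fun y hy hy1 =>
      (hs y hy1).symm.trans (hfe y hy hy1).symm

end Groth.Agent.S5105
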