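import Groth.Statements.S5107
import Groth.Agent.SchDenseLim.Basic
-- import your own Groth.Agent.* helpers here

set_option autoImplicit false
set_option backward.isDefEq.respectTransparency false
set_option backward.defeqAttrib.useBackward true
universe u
open CategoryTheory CategoryTheory.Limits AlgebraicGeometry TopologicalSpace
open Lim8

namespace Groth.Agent.S5107

/-- Let (X_i) be a cofiltered system of Noetherian schemes with affine and flat transition morphisms, X
its limit, assumed Noetherian as well, and U₀ an open subset of X_{i₀}, with inverse images U_i in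
X_i (for i over i₀) and U in X. Then U is schematically dense in X if and only if there is an index
i over i₀ such that U_i is schematically dense in X_i (and then, the transition morphisms being
flat, U_j is schematically dense in X_j for every j over i). -/
theorem result {I : Type u} [SmallCategory I]
    [IsCofiltered I] (D : I ⥤ Scheme.{u}) (c : Limits.Cone D) (hc : Limits.IsLimit c)
    [∀ (i j : I) (g : i ⟶ j), IsAffineHom (D.map g)] [∀ (i j : I) (g : i ⟶ j), Flat (D.map g)]
    [∀ i : I, IsNoetherian (D.obj i)] [IsNoetherian c.pt] (i₀ : I) (U₀ : (D.obj i₀).Opens) :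
    CInt.IsSchematicallyDense ((c.π.app i₀) ⁻¹ᵁ U₀) ↔
      ∃ (i : I) (g : i ⟶ i₀), CInt.IsSchematicallyDense ((D.map g) ⁻¹ᵁ U₀) := by
  classical
  haveI hD : ∀ {i j : I} (f : i ⟶ j), IsAffineHom (D.map f) := fun f => inferInstance
  refine ⟨fun hU => ?_, ?_⟩
  · let 𝒲 := {W : (D.obj i₀).Opens // IsAffineOpen W}
    obtain ⟨T, hT⟩ := (isCompact_univ (X := D.obj i₀)).elim_finite_subcover
      (fun W : 𝒲 => (W.1 : Set (D.obj i₀))) (fun W => W.1.2) (fun x _ => by
        obtain ⟨_, ⟨W : (D.obj i₀).Opens, hW, rfl⟩, hxW, -⟩ :=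
          (D.obj i₀).isBasis_affineOpens.exists_subset_of_mem_open (Set.mem_univ x) isOpen_univ
        exact Set.mem_iUnion.2 ⟨⟨W, hW⟩, hxW⟩)
    let K : ∀ W : 𝒲, Ideal Γ(D.obj i₀, W.1) := fun W =>
      RingHom.ker (RatDense.res (inf_le_left : W.1 ⊓ U₀ ≤ W.1)).hom
    have hK : ∀ W : 𝒲, (K W).FG := fun W => by
      haveI : IsNoetherianRing Γ(D.obj i₀, W.1) :=
        IsLocallyNoetherian.component_noetherian ⟨W.1, W.2⟩
      exact IsNoetherian.noetherian _
    choose G hG using hK
    let S : Finset (Σ W : 𝒲, Γ(D.obj i₀, W.1)) := T.sigma G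
    obtain ⟨j, φ, hj⟩ := SchDenseLim.exists_stage_zero D c hc i₀ S (fun k => k.1.1)
      (fun k => k.1.2.isCompact) (fun k => k.2) (fun k hk => by
        have h1 : RatDense.res (inf_le_left : k.1.1 ⊓ U₀ ≤ k.1.1) k.2 = 0 := by
          have : k.2 ∈ K k.1 := hG k.1 ▸ Ideal.subset_span (Finset.mem_sigma.mp hk).2
          exact this
        refine RatDense.eq_zero_of_res hU _ ?_
        have h2 := congrArg ((c.π.app i₀).app (k.1.1 ⊓ U₀)) h1
        rw [map_zero] at h2
        have h3 := NatTrans.naturality_apply (c.π.app i₀).c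
          (homOfLE (inf_le_left : k.1.1 ⊓ U₀ ≤ k.1.1)).op k.2
        exact h3.symm.trans h2)
    refine ⟨j, φ, SchDenseLim.preimage_of_flat_of_kernel (D.map φ) U₀ fun y => ?_⟩
    obtain ⟨W, hWT, hyW⟩ := Set.mem_iUnion₂.1 (hT (Set.mem_univ (D.map φ y)))
    refine ⟨W.1, W.2, hyW, fun s hs => ?_⟩
    have hle : K W ≤ RingHom.ker ((D.map φ).app W.1).hom := by
      rw [← hG W, Ideal.span_le]
      exact fun g hg => hj ⟨W, g⟩ (Finset.mem_sigma.mpr ⟨hWT, hg⟩)
    exact hle (show s ∈ K W from hs)
  · rintro ⟨i, g, h⟩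
    haveI : Flat (c.π.app i) := AffLim.flat_π D c hc fun _ _ => inferInstance
    have e : (c.π.app i₀) ⁻¹ᵁ U₀ = (c.π.app i) ⁻¹ᵁ ((D.map g) ⁻¹ᵁ U₀) := by
      rw [← Scheme.Hom.comp_preimage, c.w]
    rw [e]
    exact RatDense.preimage_of_flat _ h fun W _ => NoetherianSpace.isCompact _

end Groth.Agent.S5107
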