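import Groth.Statements.S5108
import Groth.Agent.PurityLib.ConditionW

set_option autoImplicit false
universe u
open CategoryTheory CategoryTheory.Limits AlgebraicGeometry TopologicalSpace
open Pur21

namespace Groth.Agent.S5108

theorem isPullback_comp_mono {𝒞 : Type*} [Category 𝒞] {P A B S T : 𝒞} {a : P ⟶ A} {b : P ⟶ B} {f : A ⟶ S}
    {g : B ⟶ S} (h : IsPullback a b f g) (m : S ⟶ T) [Mono m] : IsPullback a b (f ≫ m) (g ≫ m) :=
  ⟨⟨by rw [reassoc_of% h.w]⟩, ⟨PullbackCone.isLimitOfCompMono f g m _ h.isLimit⟩⟩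

/-- Let X and Y be locally Noetherian schemes, g : X → Y a morphism, y a closed point of Y and Y' = Y −
{y}; suppose that the restriction g⁻¹(Y') → Y' of g is an open immersion and that the local ring
O_{Y,y} satisfies condition (W): every open subset U of the punctured spectrum of O_{Y,y} which
contains no irreducible component of the punctured spectrum and whose inclusion into the punctured
spectrum is an affine morphism is itself affine. Then for every irreducible component Z of the fibre
g⁻¹(y), with generic point z (a point over y with no proper generization over y), either Z has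
codimension ≤ 1 in X (dim O_{X,z} ≤ 1) or z is isolated in Z (some open neighbourhood of z contains
no other point of Z). The morphism g is not assumed locally of finite type. (The published statement
adds that, when the component is locally of finite type over the residue field of y, the second
alternative forces it to be a single point; this row omits that clause.) -/
theorem result {X Y : Scheme.{u}}
    [IsLocallyNoetherian X] [IsLocallyNoetherian Y] (g : X ⟶ Y) (y : ↥Y) (Y' : Y.Opens)
    (hY' : (Y' : Set ↥Y) = {y}ᶜ) [IsOpenImmersion (g ∣_ Y')]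
    (hW : (∀ U : (Spec (Y.presheaf.stalk y)).Opens, ∀ hU : U ≤ FEt.puncturedSpec ↑(Y.presheaf.stalk y),
        (∀ T ∈ irreducibleComponents ↥(FEt.puncturedSpec ↑(Y.presheaf.stalk y)), ¬ Subtype.val '' T ⊆ (U : Set _)) →
        IsAffineHom ((Spec (Y.presheaf.stalk y)).homOfLE hU) → IsAffineOpen U))
    (z : ↥X) (hz : g z = y) (hmax : ∀ z' : ↥X, g z' = y → z' ⤳ z → z' = z) :
    ringKrullDim ↑(X.presheaf.stalk z) ≤ 1 ∨
      ∃ O : X.Opens, z ∈ O ∧ ∀ z' : ↥X, z' ∈ O → g z' = y → z ⤳ z' → z' = z := by
  obtain ⟨U, hU, hyU, -⟩ := exists_isAffineOpen_mem_and_subset (x := y) (U := ⊤) trivial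
  obtain ⟨V, hV, hzV, hVU⟩ := exists_isAffineOpen_mem_and_subset (x := z) (U := g ⁻¹ᵁ U) (by show g z ∈ U; rw [hz]; exact hyU)
  let R := Γ(Y, U)
  let C₀ := Γ(X, V)
  have : IsNoetherianRing C₀ := IsLocallyNoetherian.component_noetherian ⟨V, hV⟩
  let z₀ : PrimeSpectrum C₀ := hV.primeIdealOf ⟨z, hzV⟩
  have := z₀.isPrime
  -- shrink `V` so that all components pass through `z`
  have hfin : {q | q ∈ minimalPrimes C₀ ∧ ¬ q ≤ z₀.asIdeal}.Finite :=
    (minimalPrimes.finite_of_isNoetherianRing C₀).subset fun q hq => hq.1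
  have hnle : ¬ hfin.toFinset.inf id ≤ z₀.asIdeal := by
    intro h
    obtain ⟨q, hq, hle⟩ := (Ideal.IsPrime.inf_le' z₀.isPrime).mp h
    exact (hfin.mem_toFinset.mp hq).2 hle
  obtain ⟨s, hs, hsz⟩ := SetLike.not_le_iff_exists.mp hnle
  let C := Localization.Away s
  let j : Spec (CommRingCat.of C) ⟶ X := Spec.map (CommRingCat.ofHom (algebraMap C₀ C)) ≫ hV.fromSpec
  have hfac : IsOpenImmersion (Spec.map (CommRingCat.ofHom (algebraMap C₀ C))) := IsOpenImmersion.of_isLocalization s
  let φR : R →+* C := (algebraMap C₀ C).comp (g.appLE U V hVU).hom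
  let h : Spec (CommRingCat.of C) ⟶ Y := Spec.map (CommRingCat.ofHom φR) ≫ hU.fromSpec
  have hh : h = j ≫ g := by
    show Spec.map (g.appLE U V hVU ≫ CommRingCat.ofHom (algebraMap C₀ C)) ≫ hU.fromSpec = _
    rw [Spec.map_comp, Category.assoc, IsAffineOpen.SpecMap_appLE_fromSpec g hU hV hVU, Category.assoc]
  have : IsOpenImmersion j := inferInstanceAs (IsOpenImmersion (Spec.map _ ≫ hV.fromSpec))
  have : IsOpenImmersion (j ∣_ g ⁻¹ᵁ Y') :=
    MorphismProperty.of_isPullback (P := @IsOpenImmersion) (isPullback_morphismRestrict j (g ⁻¹ᵁ Y')).flip inferInstance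
  have hopen : IsOpenImmersion (h ∣_ Y') := by
    rw [hh, morphismRestrict_comp]
    exact MorphismProperty.comp_mem @IsOpenImmersion (j ∣_ g ⁻¹ᵁ Y') (g ∣_ Y') inferInstance ‹_›
  -- localise at `y`
  let p : PrimeSpectrum R := hU.primeIdealOf ⟨y, hyU⟩
  have := p.isPrime
  letI : Algebra R (Y.presheaf.stalk y) := TopCat.Presheaf.algebra_section_stalk Y.presheaf ⟨y, hyU⟩
  have : IsLocalization.AtPrime (Y.presheaf.stalk y) p.asIdeal := hU.isLocalization_stalk ⟨y, hyU⟩
  let M : Submonoid C := p.asIdeal.primeCompl.map φR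
  let C' := Localization M
  let φA : Y.presheaf.stalk y →+* C' := IsLocalization.map C' φR (p.asIdeal.primeCompl.le_comap_map)
  let φ : Y.presheaf.stalk y ⟶ CommRingCat.of C' := CommRingCat.ofHom φA
  have H : φA.comp (algebraMap R (Y.presheaf.stalk y)) = (algebraMap C C').comp φR := IsLocalization.map_comp _
  have hpo : IsPushout (CommRingCat.ofHom φR) (CommRingCat.ofHom (algebraMap R (Y.presheaf.stalk y)))
      (CommRingCat.ofHom (algebraMap C C')) φ :=
    CommRingCat.isPushout_of_isLocalization φR φA H p.asIdeal.primeCompl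
  have hsq0 := AlgebraicGeometry.isPullback_SpecMap_of_isPushout _ _ _ _ hpo
  have hfs : Spec.map (CommRingCat.ofHom (algebraMap R (Y.presheaf.stalk y))) ≫ hU.fromSpec = Y.fromSpecStalk y :=
    hU.fromSpecStalk_eq_fromSpecStalk hyU
  have hsq : IsPullback (Spec.map (CommRingCat.ofHom (algebraMap C C'))) (Spec.map φ) h (Y.fromSpecStalk y) := by
    rw [← hfs]; exact isPullback_comp_mono hsq0 hU.fromSpec
  let P : (Spec (Y.presheaf.stalk y)).Opens := FEt.puncturedSpec ↑(Y.presheaf.stalk y)
  have hrange : Set.range (P.ι ≫ Y.fromSpecStalk y) ⊆ (Y'.ι.opensRange : Set Y) := by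
    rintro _ ⟨x, rfl⟩
    rw [Y'.opensRange_ι, hY']
    intro e
    apply x.2
    exact (Y.fromSpecStalk y).isEmbedding.injective (e.trans Scheme.fromSpecStalk_closedPoint.symm)
  let k := IsOpenImmersion.lift Y'.ι (P.ι ≫ Y.fromSpecStalk y) hrange
  have hk : k ≫ Y'.ι = P.ι ≫ Y.fromSpecStalk y := IsOpenImmersion.lift_fac _ _ _
  have hres : IsOpenImmersion (Spec.map φ ∣_ P) := by
    have h1 := (isPullback_morphismRestrict (Spec.map φ) P).flip.paste_horiz hsq
    rw [← hk] at h1
    have h2 := isPullback_morphismRestrict h Y'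
    exact MorphismProperty.of_isPullback (P := @IsOpenImmersion)
      (IsPullback.of_right (h₁₁ := h2.flip.lift _ _ (by rw [h1.w, Category.assoc])) (by
        rw [IsPullback.lift_fst]; exact h1) (IsPullback.lift_snd _ _ _ _) h2.flip) hopen
  -- the point `z`
  have hspecz : hV.fromSpec z₀ = z := hV.fromSpec_primeIdealOf ⟨z, hzV⟩
  let zC : Ideal C := z₀.asIdeal.map (algebraMap C₀ C)
  have hdisj : Disjoint ((Submonoid.powers s : Submonoid C₀) : Set C₀) z₀.asIdeal := by
    rw [Set.disjoint_left]
    rintro _ ⟨n, rfl⟩ hn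
    exact hsz (z₀.isPrime.mem_of_pow_mem n hn)
  have : zC.IsPrime := IsLocalization.isPrime_of_isPrime_disjoint (Submonoid.powers s) C _ z₀.isPrime hdisj
  have hzC : zC.comap (algebraMap C₀ C) = z₀.asIdeal :=
    IsLocalization.under_map_of_isPrime_disjoint (Submonoid.powers s) C z₀.isPrime hdisj
  have hgz : ∀ w : Ideal C, ∀ hw : w.IsPrime, g (j ⟨w, hw⟩) = y ↔ w.comap φR = p.asIdeal := by
    intro w hw
    have e1 : g (j ⟨w, hw⟩) = hU.fromSpec ⟨w.comap φR, hw.comap _⟩ := by
      have := congrArg (fun q => q (⟨w, hw⟩ : PrimeSpectrum C)) hh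
      exact this.symm.trans rfl
    rw [e1, ← show hU.fromSpec p = y from hU.fromSpec_primeIdealOf ⟨y, hyU⟩]
    constructor
    · intro e; exact congrArg PrimeSpectrum.asIdeal (hU.fromSpec.isOpenEmbedding.injective e)
    · intro e; exact congrArg _ (PrimeSpectrum.ext e)
  have hjz : j ⟨zC, inferInstance⟩ = z := by
    show hV.fromSpec ⟨zC.comap (algebraMap C₀ C), _⟩ = z
    rw [← hspecz]; exact congrArg _ (PrimeSpectrum.ext hzC)
  have hzp : zC.comap φR = p.asIdeal := (hgz zC inferInstance).mp (by rw [hjz, hz])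
  have hdisjM : ∀ w : Ideal C, w.comap φR ≤ p.asIdeal → Disjoint (M : Set C) w := by
    intro w hw
    rw [Set.disjoint_left]
    rintro _ ⟨r, hr, rfl⟩ hm
    exact hr (hw hm)
  let z' : Ideal C' := zC.map (algebraMap C C')
  have : z'.IsPrime := IsLocalization.isPrime_of_isPrime_disjoint M C' _ inferInstance (hdisjM zC hzp.le)
  have hz' : z'.comap (algebraMap C C') = zC :=
    IsLocalization.under_map_of_isPrime_disjoint M C' inferInstance (hdisjM zC hzp.le)
  have hover : ∀ w : Ideal C', w.IsPrime →
      (w.comap φ.hom = IsLocalRing.maximalIdeal _ ↔ (w.comap (algebraMap C C')).comap φR = p.asIdeal) := by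
    intro w hw
    rw [Ideal.comap_comap, ← H, ← Ideal.comap_comap]
    constructor
    · intro e
      show (w.comap φA).comap _ = _
      rw [show w.comap φA = _ from e]
      exact IsLocalization.AtPrime.under_maximalIdeal _ p.asIdeal
    · intro e
      refine le_antisymm (IsLocalRing.le_maximalIdeal (hw.comap _).ne_top) ?_
      rw [← IsLocalization.AtPrime.map_eq_maximalIdeal p.asIdeal (Y.presheaf.stalk y), Ideal.map_le_iff_le_comap]
      exact e.ge
  have : IsNoetherianRing C := IsLocalization.isNoetherianRing (Submonoid.powers s) C inferInstance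
  have : IsNoetherianRing C' := IsLocalization.isNoetherianRing M C' inferInstance
  have hmax' : ∀ w : Ideal C', w.IsPrime → w ≤ z' → w.comap φ.hom = IsLocalRing.maximalIdeal _ → w = z' := by
    intro w hw hle hwm
    have hw1 := (hgz _ (hw.comap (algebraMap C C'))).mpr ((hover w hw).mp hwm)
    have hspec : j ⟨w.comap (algebraMap C C'), hw.comap _⟩ ⤳ j ⟨zC, inferInstance⟩ :=
      ((PrimeSpectrum.le_iff_specializes (⟨w.comap (algebraMap C C'), hw.comap _⟩ : PrimeSpectrum C)
        ⟨zC, inferInstance⟩).mp (show w.comap (algebraMap C C') ≤ zC by rw [← hz']; exact Ideal.comap_mono hle)).map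
          j.continuous
    rw [hjz] at hspec
    have h2 := hmax _ hw1 hspec
    rw [← hjz] at h2
    have h3 : w.comap (algebraMap C C') = zC := congrArg PrimeSpectrum.asIdeal (j.isOpenEmbedding.injective h2)
    rw [← IsLocalization.map_under M C' w]
    exact congrArg (Ideal.map (algebraMap C C')) h3
  have hgen : ∀ q : Ideal C', q ∈ minimalPrimes C' → q ≤ z' := by
    intro q hq
    have := hq.1.1
    let w := (q.comap (algebraMap C C')).comap (algebraMap C₀ C)
    have : w.IsPrime := inferInstance
    obtain ⟨q0, hq0, hle⟩ := Ideal.exists_minimalPrimes_le (I := (⊥ : Ideal C₀)) (J := w) bot_le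
    have := hq0.1.1
    have hsq : s ∉ w := by
      intro hsw
      apply Ideal.IsPrime.ne_top (I := q) inferInstance
      exact Ideal.eq_top_of_isUnit_mem _ hsw ((IsLocalization.Away.algebraMap_isUnit (S := C) s).map (algebraMap C C'))
    have hq0z : q0 ≤ z₀.asIdeal := by
      by_contra hn
      exact hsq (hle ((Finset.inf_le (hfin.mem_toFinset.mpr ⟨hq0, hn⟩) : _ ≤ id q0) hs))
    have hd0 : Disjoint ((Submonoid.powers s : Submonoid C₀) : Set C₀) q0 :=
      Set.disjoint_of_subset_right hq0z hdisj
    have hp1 : (q0.map (algebraMap C₀ C)).IsPrime :=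
      IsLocalization.isPrime_of_isPrime_disjoint (Submonoid.powers s) C _ inferInstance hd0
    have hle1 : q0.map (algebraMap C₀ C) ≤ q.comap (algebraMap C C') := Ideal.map_le_iff_le_comap.mpr hle
    have hd1 : Disjoint (M : Set C) (q0.map (algebraMap C₀ C)) :=
      hdisjM _ ((Ideal.comap_mono (Ideal.map_mono hq0z)).trans hzp.le)
    have hp2 : ((q0.map (algebraMap C₀ C)).map (algebraMap C C')).IsPrime :=
      IsLocalization.isPrime_of_isPrime_disjoint M C' _ inferInstance hd1
    refine (hq.2 ⟨hp2, bot_le⟩ (Ideal.map_le_iff_le_comap.mpr hle1)).trans ?_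
    exact Ideal.map_mono (Ideal.map_mono hq0z)
  rcases Groth.Agent.PurityLib.dim_le_one_or_isolated φ hW z' ((hover z' inferInstance).mpr (by rw [hz', hzp]))
      hmax' hgen with hd | hd
  · left
    let x₀ : PrimeSpectrum C := ⟨zC, inferInstance⟩
    letI : Algebra C₀ (X.presheaf.stalk z) := TopCat.Presheaf.algebra_section_stalk X.presheaf ⟨z, hzV⟩
    have : IsLocalization.AtPrime (X.presheaf.stalk z) z₀.asIdeal := hV.isLocalization_stalk ⟨z, hzV⟩
    rw [IsLocalization.AtPrime.ringKrullDim_eq_height z₀.asIdeal (X.presheaf.stalk z)]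
    rw [IsLocalization.AtPrime.ringKrullDim_eq_height z' (Localization.AtPrime z')] at hd
    have e1 : z₀.asIdeal.height = zC.height := by
      rw [← hzC]; exact IsLocalization.height_under (Submonoid.powers s) zC
    have e2 : zC.height = z'.height := by
      have := IsLocalization.height_under M z'
      rwa [show z'.under C = zC from hz'] at this
    rw [e1, e2]; exact hd
  · right
    refine ⟨j.opensRange, ⟨⟨zC, inferInstance⟩, hjz⟩, ?_⟩
    rintro _ ⟨w, rfl⟩ hwy hspec
    let w' : PrimeSpectrum C := w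
    have hwp : w'.asIdeal.comap φR = p.asIdeal := (hgz _ w'.isPrime).mp hwy
    rw [← hjz] at hspec
    have hle : zC ≤ w'.asIdeal := (PrimeSpectrum.le_iff_specializes (⟨zC, inferInstance⟩ : PrimeSpectrum C) w').mpr
      (j.isOpenEmbedding.isInducing.specializes_iff.mp hspec)
    have hwP : (w'.asIdeal.map (algebraMap C C')).IsPrime :=
      IsLocalization.isPrime_of_isPrime_disjoint M C' _ w'.isPrime (hdisjM _ hwp.le)
    have hback : (w'.asIdeal.map (algebraMap C C')).comap (algebraMap C C') = w'.asIdeal :=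
      IsLocalization.under_map_of_isPrime_disjoint M C' w'.isPrime (hdisjM _ hwp.le)
    have h2 := hd _ hwP ((hover _ hwP).mpr (by rw [hback, hwp])) (Ideal.map_mono hle)
    have h3 : w'.asIdeal = zC := by rw [← hback, h2, hz']
    rw [← hjz]
    exact congrArg j (PrimeSpectrum.ext h3)

end Groth.Agent.S5108
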