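import Groth.Statements.S5109
import Groth.Agent.S5108
import Groth.Agent.S13710
import Groth.Agent.IntImage.Spread

set_option autoImplicit false
universe u
open CategoryTheory CategoryTheory.Limits AlgebraicGeometry TopologicalSpace
open Pur21

namespace Groth.Agent.S5109

set_option maxHeartbeats 1000000 in
/-- Let X and Y be locally Noetherian schemes with X irreducible, g : X → Y a morphism locally of finite
type, and V the largest open subset of X on which g is a local isomorphism. Suppose that for every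
point y of Y the local ring O_{Y,y} satisfies the following condition (W): every open subset of its
punctured spectrum which contains no irreducible component of the punctured spectrum and whose
inclusion is affine is itself affine. Then every irreducible component of T = X − V either has
codimension ≤ 1 in X or has its generic point z isolated in the fibre g⁻¹(g(z)): for every point z
with no open neighbourhood on which g is a local isomorphism, and maximal with this property under
generization, either dim O_{X,z} ≤ 1 or some open neighbourhood of z meets the fibre through z only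
in z. -/
theorem result {X Y : Scheme.{u}}
    [IsLocallyNoetherian X] [IsLocallyNoetherian Y] [IrreducibleSpace ↥X] (g : X ⟶ Y) [LocallyOfFiniteType g]
    (hW : ∀ y : ↥Y, (∀ U : (Spec (Y.presheaf.stalk y)).Opens, ∀ hU : U ≤ FEt.puncturedSpec ↑(Y.presheaf.stalk y),
        (∀ T ∈ irreducibleComponents ↥(FEt.puncturedSpec ↑(Y.presheaf.stalk y)), ¬ Subtype.val '' T ⊆ (U : Set _)) →
        IsAffineHom ((Spec (Y.presheaf.stalk y)).homOfLE hU) → IsAffineOpen U))
    (z : ↥X) (hz : ¬ ∃ W : X.Opens, z ∈ W ∧ IsLocalIso (W.ι ≫ g))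
    (hmax : ∀ z' : ↥X, (¬ ∃ W : X.Opens, z' ∈ W ∧ IsLocalIso (W.ι ≫ g)) → z' ⤳ z → z' = z) :
    ringKrullDim ↑(X.presheaf.stalk z) ≤ 1 ∨
      ∃ O : X.Opens, z ∈ O ∧ ∀ z' : ↥X, z' ∈ O → g z' = g z → z' = z := by
  let y := g z
  have hTclosed : IsClosed {x : X | ¬ SchLoc.IsLocalIsoAt g x} := by
    rw [← isOpen_compl_iff]
    refine isOpen_iff_forall_mem_open.mpr fun x hx => ?_
    obtain ⟨W, hxW, hW'⟩ := not_not.mp hx
    exact ⟨W, fun x' hx' h => h ⟨W, hx', hW'⟩, W.2, hxW⟩
  have hiff : ∀ x : X, (¬ ∃ W : X.Opens, x ∈ W ∧ IsLocalIso (W.ι ≫ g)) ↔ ¬ SchLoc.IsLocalIsoAt g x := by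
    intro x
    refine not_congr ⟨?_, fun ⟨W, hxW, hW'⟩ => ⟨W, hxW, ⟨fun w => ⟨⊤, trivial, inferInstance⟩⟩⟩⟩
    rintro ⟨W, hxW, hW'⟩
    obtain ⟨O, hO, hO'⟩ := hW'.exists_isOpenImmersion ⟨x, hxW⟩
    refine ⟨W.ι ''ᵁ O, ⟨⟨x, hxW⟩, hO, rfl⟩, ?_⟩
    have : (W.ι.isoImage O).hom ≫ (W.ι ''ᵁ O).ι = O.ι ≫ W.ι := Scheme.Hom.isoImage_hom_ι _ _
    have e : (W.ι ''ᵁ O).ι ≫ g = (W.ι.isoImage O).inv ≫ O.ι ≫ W.ι ≫ g := by
      rw [← reassoc_of% this, Iso.inv_hom_id_assoc]
    rw [e]; infer_instance
  have hzT : ¬ SchLoc.IsLocalIsoAt g z := (hiff z).mp hz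
  have hclosedFibre : ∀ x x' : X, SchLoc.IsLocalIsoAt g x → g x' = g x → x ⤳ x' → x' = x := by
    intro x x' hx hx' hsp
    have := Groth.Agent.LocImm.isIso_stalkMap_of_isLocalIsoAt g x hx
    have hqf : g.QuasiFiniteAt x := RingHom.QuasiFinite.of_finite
      (RingHom.Finite.of_surjective _ (ConcreteCategory.bijective_of_isIso (g.stalkMap x)).2)
    have hcl := hqf.isClopen_singleton_asFiber.1
    obtain ⟨w, hw⟩ : x' ∈ Set.range (g.fiberι (g x)) := by rw [g.range_fiberι]; exact hx'
    have hs : g.fiberι (g x) (g.asFiber x) ⤳ g.fiberι (g x) w := by rwa [g.fiberι_asFiber, hw]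
    have := hcl.stableUnderSpecialization ((g.fiberι (g x)).isEmbedding.isInducing.specializes_iff.mp hs) rfl
    rw [← hw, Set.mem_singleton_iff.mp this, g.fiberι_asFiber]
  obtain ⟨U, hU, hyU, -⟩ := exists_isAffineOpen_mem_and_subset (x := g z) (U := ⊤) trivial
  obtain ⟨V, hV, hzV, hVU⟩ := exists_isAffineOpen_mem_and_subset (x := z) (U := g ⁻¹ᵁ U) (by show g z ∈ U; exact hyU)
  let R := Γ(Y, U)
  let C₀ := Γ(X, V)
  have : IsNoetherianRing C₀ := IsLocallyNoetherian.component_noetherian ⟨V, hV⟩
  let z₀ : PrimeSpectrum C₀ := hV.primeIdealOf ⟨z, hzV⟩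
  have := z₀.isPrime
  -- shrink `V` so that the bad points are specializations of `z`
  have hclV : IsClosed (hV.fromSpec ⁻¹' {x : X | ¬ SchLoc.IsLocalIsoAt g x}) :=
    hTclosed.preimage hV.fromSpec.continuous
  obtain ⟨I, hI⟩ := (PrimeSpectrum.isClosed_iff_zeroLocus_ideal _).mp hclV
  have hfin : {q | q ∈ I.minimalPrimes ∧ ¬ q ≤ z₀.asIdeal}.Finite :=
    (I.finite_minimalPrimes_of_isNoetherianRing).subset fun q hq => hq.1
  have hnle : ¬ hfin.toFinset.inf id ≤ z₀.asIdeal := by
    intro h
    obtain ⟨q, hq, hle⟩ := (Ideal.IsPrime.inf_le' z₀.isPrime).mp h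
    exact (hfin.mem_toFinset.mp hq).2 hle
  obtain ⟨s, hs, hsz⟩ := SetLike.not_le_iff_exists.mp hnle
  let C := Localization.Away s
  let j : Spec (CommRingCat.of C) ⟶ X := Spec.map (CommRingCat.ofHom (algebraMap C₀ C)) ≫ hV.fromSpec
  have hfac : IsOpenImmersion (Spec.map (CommRingCat.ofHom (algebraMap C₀ C))) := IsOpenImmersion.of_isLocalization s
  let φR : R →+* C := (algebraMap C₀ C).comp (g.appLE U V hVU).hom
  let h : Spec (CommRingCat.of C) ⟶ Y := Spec.map (CommRingCat.ofHom φR) ≫ hU.fromSpec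
  have hh : h = j ≫ g := by
    show Spec.map (g.appLE U V hVU ≫ CommRingCat.ofHom (algebraMap C₀ C)) ≫ hU.fromSpec = _
    rw [Spec.map_comp, Category.assoc, IsAffineOpen.SpecMap_appLE_fromSpec g hU hV hVU, Category.assoc]
  have : IsOpenImmersion j := inferInstanceAs (IsOpenImmersion (Spec.map _ ≫ hV.fromSpec))
  -- localise at `y`
  let p : PrimeSpectrum R := hU.primeIdealOf ⟨y, hyU⟩
  have := p.isPrime
  letI : Algebra R (Y.presheaf.stalk y) := TopCat.Presheaf.algebra_section_stalk Y.presheaf ⟨y, hyU⟩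
  have : IsLocalization.AtPrime (Y.presheaf.stalk y) p.asIdeal := hU.isLocalization_stalk ⟨y, hyU⟩
  let M : Submonoid C := p.asIdeal.primeCompl.map φR
  let C' := Localization M
  let φA : Y.presheaf.stalk y →+* C' := IsLocalization.map C' φR (p.asIdeal.primeCompl.le_comap_map)
  let φ : Y.presheaf.stalk y ⟶ CommRingCat.of C' := CommRingCat.ofHom φA
  have H : φA.comp (algebraMap R (Y.presheaf.stalk y)) = (algebraMap C C').comp φR := IsLocalization.map_comp _
  have hpo : IsPushout (CommRingCat.ofHom φR) (CommRingCat.ofHom (algebraMap R (Y.presheaf.stalk y)))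
      (CommRingCat.ofHom (algebraMap C C')) φ :=
    CommRingCat.isPushout_of_isLocalization φR φA H p.asIdeal.primeCompl
  have hsq0 := AlgebraicGeometry.isPullback_SpecMap_of_isPushout _ _ _ _ hpo
  have hfs : Spec.map (CommRingCat.ofHom (algebraMap R (Y.presheaf.stalk y))) ≫ hU.fromSpec = Y.fromSpecStalk y :=
    hU.fromSpecStalk_eq_fromSpecStalk hyU
  have hsq : IsPullback (Spec.map (CommRingCat.ofHom (algebraMap C C'))) (Spec.map φ) h (Y.fromSpecStalk y) := by
    rw [← hfs]; exact Groth.Agent.S5108.isPullback_comp_mono hsq0 hU.fromSpec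
  -- the point `z`
  have hspecz : hV.fromSpec z₀ = z := hV.fromSpec_primeIdealOf ⟨z, hzV⟩
  let zC : Ideal C := z₀.asIdeal.map (algebraMap C₀ C)
  have hdisj : Disjoint ((Submonoid.powers s : Submonoid C₀) : Set C₀) z₀.asIdeal := by
    rw [Set.disjoint_left]
    rintro _ ⟨n, rfl⟩ hn
    exact hsz (z₀.isPrime.mem_of_pow_mem n hn)
  have : zC.IsPrime := IsLocalization.isPrime_of_isPrime_disjoint (Submonoid.powers s) C _ z₀.isPrime hdisj
  have hzC : zC.comap (algebraMap C₀ C) = z₀.asIdeal :=
    IsLocalization.under_map_of_isPrime_disjoint (Submonoid.powers s) C z₀.isPrime hdisj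
  have hgz : ∀ w : Ideal C, ∀ hw : w.IsPrime, g (j ⟨w, hw⟩) = y ↔ w.comap φR = p.asIdeal := by
    intro w hw
    have e1 : g (j ⟨w, hw⟩) = hU.fromSpec ⟨w.comap φR, hw.comap _⟩ := by
      have := congrArg (fun q => q (⟨w, hw⟩ : PrimeSpectrum C)) hh
      exact this.symm.trans rfl
    rw [e1, ← show hU.fromSpec p = y from hU.fromSpec_primeIdealOf ⟨y, hyU⟩]
    constructor
    · intro e; exact congrArg PrimeSpectrum.asIdeal (hU.fromSpec.isOpenEmbedding.injective e)
    · intro e; exact congrArg _ (PrimeSpectrum.ext e)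
  have hjz : j ⟨zC, inferInstance⟩ = z := by
    show hV.fromSpec ⟨zC.comap (algebraMap C₀ C), _⟩ = z
    rw [← hspecz]; exact congrArg _ (PrimeSpectrum.ext hzC)
  have hzp : zC.comap φR = p.asIdeal := (hgz zC inferInstance).mp (by rw [hjz])
  have hdisjM : ∀ w : Ideal C, w.comap φR ≤ p.asIdeal → Disjoint (M : Set C) w := by
    intro w hw
    rw [Set.disjoint_left]
    rintro _ ⟨r, hr, rfl⟩ hm
    exact hr (hw hm)
  let z' : Ideal C' := zC.map (algebraMap C C')
  have : z'.IsPrime := IsLocalization.isPrime_of_isPrime_disjoint M C' _ inferInstance (hdisjM zC hzp.le)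
  have hz' : z'.comap (algebraMap C C') = zC :=
    IsLocalization.under_map_of_isPrime_disjoint M C' inferInstance (hdisjM zC hzp.le)
  have hover : ∀ w : Ideal C', w.IsPrime →
      (w.comap φ.hom = IsLocalRing.maximalIdeal _ ↔ (w.comap (algebraMap C C')).comap φR = p.asIdeal) := by
    intro w hw
    rw [Ideal.comap_comap, ← H, ← Ideal.comap_comap]
    constructor
    · intro e
      show (w.comap φA).comap _ = _
      rw [show w.comap φA = _ from e]
      exact IsLocalization.AtPrime.under_maximalIdeal _ p.asIdeal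
    · intro e
      refine le_antisymm (IsLocalRing.le_maximalIdeal (hw.comap _).ne_top) ?_
      rw [← IsLocalization.AtPrime.map_eq_maximalIdeal p.asIdeal (Y.presheaf.stalk y), Ideal.map_le_iff_le_comap]
      exact e.ge
  have : IsNoetherianRing C := IsLocalization.isNoetherianRing (Submonoid.powers s) C inferInstance
  have : IsNoetherianRing C' := IsLocalization.isNoetherianRing M C' inferInstance
  have hspecT : ∀ w : PrimeSpectrum C, ¬ SchLoc.IsLocalIsoAt g (j w) → zC ≤ w.asIdeal := by
    intro w hw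
    let u : PrimeSpectrum C₀ := ⟨w.asIdeal.comap (algebraMap C₀ C), w.isPrime.comap _⟩
    have hu : u ∈ hV.fromSpec ⁻¹' {x : X | ¬ SchLoc.IsLocalIsoAt g x} := hw
    rw [hI] at hu
    obtain ⟨q, hq, hqu⟩ := Ideal.exists_minimalPrimes_le (I := I) (J := u.asIdeal) hu
    have := hq.1.1
    have hsu : s ∉ u.asIdeal := fun h => w.isPrime.ne_top
      (Ideal.eq_top_of_isUnit_mem _ h (IsLocalization.Away.algebraMap_isUnit s))
    have hqz : q ≤ z₀.asIdeal := by
      by_contra hn
      exact hsu (hqu ((Finset.inf_le (hfin.mem_toFinset.mpr ⟨hq, hn⟩) : _ ≤ id q) hs))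
    -- the generic point of this component is `z`
    let qp : PrimeSpectrum C₀ := ⟨q, inferInstance⟩
    have h1 : qp ∈ hV.fromSpec ⁻¹' {x : X | ¬ SchLoc.IsLocalIsoAt g x} := by rw [hI]; exact hq.1.2
    have h2 : hV.fromSpec qp = z := hmax _ ((hiff _).mpr h1)
      (hspecz ▸ (((PrimeSpectrum.le_iff_specializes qp z₀).mp hqz).map hV.fromSpec.continuous))
    have h3 : qp = z₀ := hV.fromSpec.isOpenEmbedding.injective (h2.trans hspecz.symm)
    show Ideal.map (algebraMap C₀ C) z₀.asIdeal ≤ w.asIdeal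
    rw [Ideal.map_le_iff_le_comap, ← h3]
    exact hqu
  have hTup : ∀ a b : X, a ⤳ b → ¬ SchLoc.IsLocalIsoAt g a → ¬ SchLoc.IsLocalIsoAt g b :=
    fun a b hab ha => hTclosed.stableUnderSpecialization hab ha
  have hmax' : ∀ w : Ideal C', w.IsPrime → w ≤ z' → w.comap φ.hom = IsLocalRing.maximalIdeal _ → w = z' := by
    intro w hw hle hwm
    have hw1 := (hgz _ (hw.comap (algebraMap C C'))).mpr ((hover w hw).mp hwm)
    have hspec : j ⟨w.comap (algebraMap C C'), hw.comap _⟩ ⤳ j ⟨zC, inferInstance⟩ :=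
      ((PrimeSpectrum.le_iff_specializes (⟨w.comap (algebraMap C C'), hw.comap _⟩ : PrimeSpectrum C)
        ⟨zC, inferInstance⟩).mp (show w.comap (algebraMap C C') ≤ zC by rw [← hz']; exact Ideal.comap_mono hle)).map
          j.continuous
    rw [hjz] at hspec
    have h2 : j ⟨w.comap (algebraMap C C'), hw.comap _⟩ = z := by
      by_cases hl : SchLoc.IsLocalIsoAt g (j ⟨w.comap (algebraMap C C'), hw.comap _⟩)
      · exact (hclosedFibre _ z hl hw1.symm hspec).symm
      · exact hmax _ ((hiff _).mpr hl) hspec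
    rw [← hjz] at h2
    have h3 : w.comap (algebraMap C C') = zC := congrArg PrimeSpectrum.asIdeal (j.isOpenEmbedding.injective h2)
    rw [← IsLocalization.map_under M C' w]
    exact congrArg (Ideal.map (algebraMap C C')) h3
  -- irreducibility
  have hgenz : genericPoint X ⤳ z := (genericPoint_spec X).specializes trivial
  let η₀ : PrimeSpectrum C₀ := hV.primeIdealOf ⟨genericPoint X, hgenz.mem_open V.2 hzV⟩
  have hη₀ : ∀ w : PrimeSpectrum C₀, η₀.asIdeal ≤ w.asIdeal := by
    intro w
    refine (PrimeSpectrum.le_iff_specializes η₀ w).mpr (hV.fromSpec.isOpenEmbedding.isInducing.specializes_iff.mp ?_)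
    rw [show hV.fromSpec η₀ = genericPoint X from hV.fromSpec_primeIdealOf _]
    exact (genericPoint_spec X).specializes trivial
  have hcomp : ∀ q : Ideal C', q ∈ minimalPrimes C' → (q.comap (algebraMap C C')).comap (algebraMap C₀ C) = η₀.asIdeal ∧ q ≤ z' := by
    intro q hq
    have := hq.1.1
    have := η₀.isPrime
    let w := (q.comap (algebraMap C C')).comap (algebraMap C₀ C)
    have hle : η₀.asIdeal ≤ w := hη₀ ⟨w, inferInstance⟩
    have hq0z := hη₀ z₀
    have hd0 : Disjoint ((Submonoid.powers s : Submonoid C₀) : Set C₀) η₀.asIdeal :=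
      Set.disjoint_of_subset_right hq0z hdisj
    have hp1 : (η₀.asIdeal.map (algebraMap C₀ C)).IsPrime :=
      IsLocalization.isPrime_of_isPrime_disjoint (Submonoid.powers s) C _ inferInstance hd0
    have hle1 : η₀.asIdeal.map (algebraMap C₀ C) ≤ q.comap (algebraMap C C') := Ideal.map_le_iff_le_comap.mpr hle
    have hd1 : Disjoint (M : Set C) (η₀.asIdeal.map (algebraMap C₀ C)) :=
      hdisjM _ ((Ideal.comap_mono (Ideal.map_mono hq0z)).trans hzp.le)
    have hp2 : ((η₀.asIdeal.map (algebraMap C₀ C)).map (algebraMap C C')).IsPrime :=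
      IsLocalization.isPrime_of_isPrime_disjoint M C' _ inferInstance hd1
    have heq : q = (η₀.asIdeal.map (algebraMap C₀ C)).map (algebraMap C C') :=
      le_antisymm (hq.2 ⟨hp2, bot_le⟩ (Ideal.map_le_iff_le_comap.mpr hle1)) (Ideal.map_le_iff_le_comap.mpr hle1)
    refine ⟨?_, heq.le.trans (Ideal.map_mono (Ideal.map_mono hq0z))⟩
    rw [heq]
    show (((η₀.asIdeal.map (algebraMap C₀ C)).map (algebraMap C C')).under C).under C₀ = _
    rw [IsLocalization.under_map_of_isPrime_disjoint M C' hp1 hd1,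
      IsLocalization.under_map_of_isPrime_disjoint (Submonoid.powers s) C η₀.isPrime hd0]
  have hirr : IrreducibleSpace (Spec (CommRingCat.of C')) := by
    obtain ⟨⟨q0, hq0⟩⟩ := Ideal.nonempty_minimalPrimes (I := (⊥ : Ideal C')) (fun e => (inferInstance : z'.IsPrime).ne_top (top_le_iff.mp (e ▸ bot_le)))
    have := hq0.1.1
    let q0' : PrimeSpectrum C' := ⟨q0, this⟩
    have hall : ∀ w : PrimeSpectrum C', q0' ⤳ w := by
      intro w
      obtain ⟨q, hq, hle⟩ := Ideal.exists_minimalPrimes_le (I := (⊥ : Ideal C')) (J := w.asIdeal) bot_le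
      refine (PrimeSpectrum.le_iff_specializes q0' w).mp (show q0 ≤ w.asIdeal from le_trans ?_ hle)
      show q0 ≤ q
      rw [← IsLocalization.map_under M C' q0, ← IsLocalization.map_under M C' q,
        ← IsLocalization.map_under (Submonoid.powers s) C (q0.under C),
        ← IsLocalization.map_under (Submonoid.powers s) C (q.under C)]
      exact le_of_eq (congrArg _ (congrArg _ ((hcomp q0 hq0).1.trans (hcomp q hq).1.symm)))
    have hu : (Set.univ : Set (PrimeSpectrum C')) = closure {q0'} :=
      (Set.eq_univ_of_forall fun w => (hall w).mem_closure).symm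
    have : IrreducibleSpace (PrimeSpectrum C') :=
      (irreducibleSpace_def _).mpr (show IsIrreducible (Set.univ : Set (PrimeSpectrum C')) by rw [hu]; exact isIrreducible_singleton.closure)
    exact this
  let P : (Spec (Y.presheaf.stalk y)).Opens := FEt.puncturedSpec ↑(Y.presheaf.stalk y)
  have : LocallyOfFiniteType h := by rw [hh]; infer_instance
  have : LocallyOfFiniteType (Spec.map φ) := MorphismProperty.of_isPullback (P := @LocallyOfFiniteType) hsq inferInstance
  have : IsNoetherianRing (Y.presheaf.stalk y) := inferInstance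
  have hli : SchLoc.IsLocalIso (Spec.map φ ∣_ P) := by
    intro x
    let fst := Spec.map (CommRingCat.ofHom (algebraMap C C'))
    let xC : PrimeSpectrum C := fst x.1
    have hnot : SchLoc.IsLocalIsoAt g (j xC) := by
      by_contra hT
      have hle := hspecT xC hT
      apply x.2
      refine PrimeSpectrum.ext ?_
      have hxp : (x.1 : PrimeSpectrum C').asIdeal.IsPrime := PrimeSpectrum.isPrime _
      refine le_antisymm (IsLocalRing.le_maximalIdeal (hxp.comap φA).ne_top) ?_
      have h1 : p.asIdeal ≤ ((x.1 : PrimeSpectrum C').asIdeal.comap (algebraMap C C')).comap φR :=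
        hzp ▸ Ideal.comap_mono hle
      rw [Ideal.comap_comap, ← H, ← Ideal.comap_comap] at h1
      show IsLocalRing.maximalIdeal _ ≤ (x.1 : PrimeSpectrum C').asIdeal.comap φA
      rw [← IsLocalization.AtPrime.map_eq_maximalIdeal p.asIdeal (Y.presheaf.stalk y), Ideal.map_le_iff_le_comap]
      exact h1
    have := Groth.Agent.LocImm.isIso_stalkMap_of_isLocalIsoAt g _ hnot
    have := Groth.Agent.IntImage.flat_fromSpecStalk y
    have hfl : Flat fst := MorphismProperty.of_isPullback (P := @Flat) hsq.flip this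
    have hpre : IsPreimmersion fst := IsPreimmersion.of_isLocalization M
    have hi1 : IsIso (fst.stalkMap x.1) := Groth.Agent.S13710.stalkMap_isIso _ _
    have hi2 : IsIso ((fst ≫ j ≫ g).stalkMap x.1) := by
      rw [Scheme.Hom.stalkMap_comp, Scheme.Hom.stalkMap_comp]
      have hi3 : IsIso (j.stalkMap (fst x.1)) := inferInstance
      exact @IsIso.comp_isIso _ _ _ _ _ _ _ (@IsIso.comp_isIso _ _ _ _ _ _ _ ‹_› hi3) hi1
    have hi4 : ∀ r, r = fst ≫ j ≫ g → IsIso (r.stalkMap x.1) := by rintro r rfl; exact hi2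
    have hi5 := hi4 (Spec.map φ ≫ Y.fromSpecStalk y) (by rw [← hsq.w, hh])
    rw [Scheme.Hom.stalkMap_comp] at hi5
    have hi6 : IsIso ((Y.fromSpecStalk y).stalkMap (Spec.map φ x.1)) := Groth.Agent.S13710.stalkMap_isIso _ _
    have hi7 : IsIso ((Spec.map φ).stalkMap x.1) :=
      @IsIso.of_isIso_comp_left _ _ _ _ _ _ ((Spec.map φ).stalkMap x.1) hi6 hi5
    have : IsIso ((Spec.map φ ∣_ P).stalkMap x) :=
      ((MorphismProperty.isomorphisms CommRingCat.{u}).arrow_mk_iso_iff
        (morphismRestrictStalkMap (Spec.map φ) P x)).mpr hi7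
    exact Groth.Agent.LocImm.isLocalIsoAt_of_isIso_stalkMap _ x
  have hres : IsOpenImmersion (Spec.map φ ∣_ P) := by
    rcases isEmpty_or_nonempty (Spec.map φ ⁻¹ᵁ P).toScheme with he | hne
    · infer_instance
    · have : IrreducibleSpace (Spec.map φ ⁻¹ᵁ P).toScheme :=
        { toPreirreducibleSpace := (Spec.map φ ⁻¹ᵁ P).ι.isOpenEmbedding.preirreducibleSpace
          toNonempty := hne }
      have : IsAffineHom (Spec.map φ ∣_ P) :=
        MorphismProperty.of_isPullback (P := @IsAffineHom) (isPullback_morphismRestrict (Spec.map φ) P).flip inferInstance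
      exact Groth.Agent.LocImm.isOpenImmersion_of_isLocalIso _ hli
  rcases Groth.Agent.PurityLib.dim_le_one_or_isolated φ (hW y) z' ((hover z' inferInstance).mpr (by rw [hz', hzp]))
      hmax' (fun q hq => (hcomp q hq).2) with hd | hd
  · left
    let x₀ : PrimeSpectrum C := ⟨zC, inferInstance⟩
    letI : Algebra C₀ (X.presheaf.stalk z) := TopCat.Presheaf.algebra_section_stalk X.presheaf ⟨z, hzV⟩
    have : IsLocalization.AtPrime (X.presheaf.stalk z) z₀.asIdeal := hV.isLocalization_stalk ⟨z, hzV⟩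
    rw [IsLocalization.AtPrime.ringKrullDim_eq_height z₀.asIdeal (X.presheaf.stalk z)]
    rw [IsLocalization.AtPrime.ringKrullDim_eq_height z' (Localization.AtPrime z')] at hd
    have e1 : z₀.asIdeal.height = zC.height := by
      rw [← hzC]; exact IsLocalization.height_under (Submonoid.powers s) zC
    have e2 : zC.height = z'.height := by
      have := IsLocalization.height_under M z'
      rwa [show z'.under C = zC from hz'] at this
    rw [e1, e2]; exact hd
  · right
    -- remove the finitely many isolated points off the bad locus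
    let J : Ideal C' := (IsLocalRing.maximalIdeal (Y.presheaf.stalk y)).map φ.hom
    have hiso : ∀ w : PrimeSpectrum C, SchLoc.IsLocalIsoAt g (j w) → g (j w) = y →
        ∃ q : PrimeSpectrum C', q.asIdeal ∈ J.minimalPrimes ∧ Spec.map (CommRingCat.ofHom (algebraMap C C')) q = w := by
      intro w hw hwy
      have hwp : w.asIdeal.comap φR = p.asIdeal := (hgz _ w.isPrime).mp hwy
      have hwP : (w.asIdeal.map (algebraMap C C')).IsPrime :=
        IsLocalization.isPrime_of_isPrime_disjoint M C' _ w.isPrime (hdisjM _ hwp.le)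
      have hback : (w.asIdeal.map (algebraMap C C')).comap (algebraMap C C') = w.asIdeal :=
        IsLocalization.under_map_of_isPrime_disjoint M C' w.isPrime (hdisjM _ hwp.le)
      refine ⟨⟨_, hwP⟩, ⟨⟨hwP, ?_⟩, fun v hv hle => ?_⟩, PrimeSpectrum.ext hback⟩
      · exact Ideal.map_le_iff_le_comap.mpr ((hover _ hwP).mpr (by rw [hback, hwp])).ge
      · have := hv.1
        have hvm : v.comap φ.hom = IsLocalRing.maximalIdeal _ :=
          le_antisymm (IsLocalRing.le_maximalIdeal (Ideal.IsPrime.ne_top inferInstance)) (Ideal.map_le_iff_le_comap.mp hv.2)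
        let v' : PrimeSpectrum C := ⟨v.comap (algebraMap C C'), inferInstance⟩
        have hvy : g (j v') = y := (hgz _ v'.isPrime).mpr ((hover v hv.1).mp hvm)
        have hsp : j v' ⤳ j w := ((PrimeSpectrum.le_iff_specializes v' w).mp
          (by show v.comap (algebraMap C C') ≤ w.asIdeal; rw [← hback]; exact Ideal.comap_mono hle)).map j.continuous
        have hv' : SchLoc.IsLocalIsoAt g (j v') := by
          by_contra hn; exact hTup _ _ hsp hn hw
        have h3 : j w = j v' := hclosedFibre _ _ hv' (hwy.trans hvy.symm) hsp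
        have h4 : w = v' := j.isOpenEmbedding.injective h3
        rw [Ideal.map_le_iff_le_comap, h4]
    let F : Set X := (fun q : PrimeSpectrum C' => j (Spec.map (CommRingCat.ofHom (algebraMap C C')) q)) ''
      {q : PrimeSpectrum C' | q.asIdeal ∈ J.minimalPrimes}
    have hF : {x | x ∈ F ∧ ¬ x ⤳ z}.Finite :=
      (((J.finite_minimalPrimes_of_isNoetherianRing).preimage
        (f := PrimeSpectrum.asIdeal) (fun a _ b _ h => PrimeSpectrum.ext h)).image _).subset fun x hx => hx.1
    let K : Set X := ⋃ x ∈ hF.toFinset, closure {x}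
    have hK : IsClosed K := hF.toFinset.finite_toSet.isClosed_biUnion fun x _ => isClosed_closure
    refine ⟨j.opensRange ⊓ ⟨Kᶜ, hK.isOpen_compl⟩, ⟨⟨⟨zC, inferInstance⟩, hjz⟩, ?_⟩, ?_⟩
    · intro h
      obtain ⟨x, hx, hzx⟩ := Set.mem_iUnion₂.mp h
      exact (hF.mem_toFinset.mp hx).2 (specializes_iff_mem_closure.mpr hzx)
    · rintro _ ⟨⟨w, rfl⟩, hwK⟩ hwy
      let w' : PrimeSpectrum C := w
      by_cases hl : SchLoc.IsLocalIsoAt g (j w)
      · exfalso
        obtain ⟨q, hq, hqw⟩ := hiso w' hl hwy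
        apply hwK
        refine Set.mem_iUnion₂.mpr ⟨j w, hF.mem_toFinset.mpr ⟨⟨q, hq, ?_⟩, ?_⟩, subset_closure rfl⟩
        · exact congrArg j hqw
        · intro hsp
          exact hzT (hclosedFibre _ _ hl hwy.symm hsp ▸ hl)
      · have hle : zC ≤ w'.asIdeal := hspecT w' hl
        have hwp : w'.asIdeal.comap φR = p.asIdeal := (hgz _ w'.isPrime).mp hwy
        have hwP : (w'.asIdeal.map (algebraMap C C')).IsPrime :=
          IsLocalization.isPrime_of_isPrime_disjoint M C' _ w'.isPrime (hdisjM _ hwp.le)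
        have hback : (w'.asIdeal.map (algebraMap C C')).comap (algebraMap C C') = w'.asIdeal :=
          IsLocalization.under_map_of_isPrime_disjoint M C' w'.isPrime (hdisjM _ hwp.le)
        have h2 := hd _ hwP ((hover _ hwP).mpr (by rw [hback, hwp])) (Ideal.map_mono hle)
        have h3 : w'.asIdeal = zC := by rw [← hback, h2, hz']
        rw [← hjz]
        exact congrArg j (PrimeSpectrum.ext h3)

end Groth.Agent.S5109
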