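import Groth.Statements.S5112
import Groth.Agent.RefOne.Principal
import Groth.Agent.ParaFLib.Stalkwise
import Groth.Agent.ParaFLib.Local
import Groth.Agent.S16087
import Groth.Agent.InvExt.Cartier


set_option autoImplicit false
universe u
open CategoryTheory CategoryTheory.Limits AlgebraicGeometry TopologicalSpace
open Div21

namespace Groth.Agent.S5112

open CategoryTheory CategoryTheory.Limits AlgebraicGeometry

open Groth.Agent.RefOne Groth.Agent.PullbackMod TopologicalSpace IsLocalRing
open Groth.Agent.ParaFLib (Gen LocGen)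

theorem picTrivial_punctured_of_ringEquiv {L L' : CommRingCat.{u}} [IsLocalRing L] [IsLocalRing L'] (e : L ≅ L')
    (h : ParaF.PicTrivial (FEt.puncturedSpec L' : Scheme.{u})) :
    ParaF.PicTrivial (FEt.puncturedSpec L : Scheme.{u}) := by
  let g : Spec L ⟶ Spec L' := Spec.map e.inv
  have hc : g (IsLocalRing.closedPoint L) = IsLocalRing.closedPoint L' := IsLocalRing.comap_closedPoint e.inv.hom
  have heq : g ⁻¹ᵁ (FEt.puncturedSpec L' : (Spec L').Opens) = (FEt.puncturedSpec L : (Spec L).Opens) := by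
    refine Opens.ext (Set.ext fun z => ?_)
    show g z ≠ IsLocalRing.closedPoint L' ↔ z ≠ IsLocalRing.closedPoint L
    rw [← hc]
    exact g.isOpenEmbedding.injective.ne_iff
  exact ParaFLib.picTrivial_of_iso ((Spec L).isoOfEq heq.symm ≪≫ asIso (g ∣_ _)) h

theorem exists_free_locus {X : Scheme.{u}} [IsIntegral X] [IsLocallyNoetherian X] {F : X.Modules} (hF : Coh.IsCoh F) :
    ∃ W : X.Opens, LocGen F W ∧
      ∀ x : X, (∃ t : F.presheaf.stalk x, Function.Bijective fun r : X.presheaf.stalk x => r • t) → x ∈ W := by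
  haveI := hF.1
  refine ⟨⨆ (V : X.Opens) (_ : ∃ s : Γ(F, V), Gen V s), V, fun x hx => ?_, fun x ⟨t, ht⟩ => ?_⟩
  · simp only [Opens.mem_iSup] at hx
    obtain ⟨V, ⟨s, hs⟩, hxV⟩ := hx
    exact ⟨V, s, hxV, hs⟩
  · let E : F.presheaf.stalk x ≃ₗ[X.presheaf.stalk x] (Fin 1 → X.presheaf.stalk x) :=
      (LinearEquiv.ofBijective (LinearMap.toSpanSingleton (X.presheaf.stalk x) (F.presheaf.stalk x) t) ht).symm.trans
        (LinearEquiv.funUnique (Fin 1) (X.presheaf.stalk x) (X.presheaf.stalk x)).symm
    obtain ⟨U, hU, ⟨i⟩⟩ := exists_nhd_freeAt F (QCohLib.isFP_of_isCoh F hF) (x := x) (n := 1) ⟨E⟩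
    simp only [Opens.mem_iSup]
    exact ⟨U, ParaFLib.exists_gen_of_eq U.ι_image_top (ParaFLib.exists_gen_of_iso (i ≪≫ BCLib.freeModOneIso (U : Scheme.{u}))), hU⟩

theorem exists_gen_of_parafactorial {X : Scheme.{u}} [IsIntegral X] [IsLocallyNoetherian X] (hX : Pi1.IsNormalScheme X)
    {F : X.Modules} (hF : RefHull.IsRef1 F) (x : X) (hdim : 2 ≤ Order.coheight x)
    (hpara : ParaF.IsParafactorialLocalRing (X.presheaf.stalk x))
    (hlt : ∀ z : X, z ⤳ x → z ≠ x → ∃ t : F.presheaf.stalk z, Function.Bijective fun r : X.presheaf.stalk z => r • t) :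
    ∃ t : F.presheaf.stalk x, Function.Bijective fun r : X.presheaf.stalk x => r • t := by
  classical
  haveI := hF.1.1
  obtain ⟨W, hWgen, hW⟩ := exists_free_locus hF.1
  obtain ⟨_, ⟨U : X.Opens, hU, rfl⟩, hxU, -⟩ := X.isBasis_affineOpens.exists_subset_of_mem_open (Set.mem_univ x) isOpen_univ
  haveI : IsNoetherianRing Γ(X, U) := IsLocallyNoetherian.component_noetherian ⟨U, hU⟩
  let y₀ : PrimeSpectrum Γ(X, U) := hU.primeIdealOf ⟨x, hxU⟩
  let j := hU.fromSpec
  have hjy : j y₀ = x := hU.fromSpec_primeIdealOf ⟨x, hxU⟩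
  let C : Set (PrimeSpectrum Γ(X, U)) := {z | j z ∉ W}
  obtain ⟨I, hI⟩ : ∃ I : Ideal Γ(X, U), C = PrimeSpectrum.zeroLocus (I : Set Γ(X, U)) :=
    ⟨_, ((PrimeSpectrum.isClosed_iff_zeroLocus_radical_ideal C).1 (j ⁻¹ᵁ W).2.isClosed_compl).choose_spec.2⟩
  have hfin := I.finite_minimalPrimes_of_isNoetherianRing Γ(X, U)
  have hchoice : ∀ P ∈ I.minimalPrimes, ¬ y₀.asIdeal ≤ P → ∃ a ∈ P, a ∉ y₀.asIdeal := by
    intro P hP hnle
    by_contra hcon
    push Not at hcon
    haveI := hP.1.1
    let z : PrimeSpectrum Γ(X, U) := ⟨P, hP.1.1⟩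
    have hzW : j z ∉ W := by
      have : z ∈ C := by
        rw [hI]; exact hP.1.2
      exact this
    have hzx : j z ⤳ x := hjy ▸ ((PrimeSpectrum.le_iff_specializes z y₀).1 hcon).map j.continuous
    refine hzW (hW _ (hlt _ hzx fun heq => hnle ?_))
    rw [show y₀ = z from j.isOpenEmbedding.injective (hjy.trans heq.symm)]
  choose! a haP hay using hchoice
  let h₀ : Γ(X, U) := ∏ P ∈ hfin.toFinset.filter (fun P => ¬ y₀.asIdeal ≤ P), a P
  have hh₀ : h₀ ∉ y₀.asIdeal := ParaFLib.prod_notMem y₀ _ _ fun P hP => by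
    obtain ⟨hPm, hPn⟩ := Finset.mem_filter.1 hP
    exact hay P (hfin.mem_toFinset.1 hPm) hPn
  have hsub : ∀ z : PrimeSpectrum Γ(X, U), h₀ ∉ z.asIdeal → ¬ y₀.asIdeal ≤ z.asIdeal → j z ∈ W := by
    intro z hz hnle
    by_contra hzW
    have hzI : I ≤ z.asIdeal := by
      have : z ∈ C := hzW
      rwa [hI] at this
    obtain ⟨P, hP, hPz⟩ := Ideal.exists_minimalPrimes_le hzI
    by_cases hyP : y₀.asIdeal ≤ P
    · exact hnle (hyP.trans hPz)
    · obtain ⟨c, hc⟩ := Finset.dvd_prod_of_mem a (show P ∈ hfin.toFinset.filter (fun P => ¬ y₀.asIdeal ≤ P) from Finset.mem_filter.2 ⟨hfin.mem_toFinset.2 hP, hyP⟩)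
      exact hz (by show h₀ ∈ _; rw [show h₀ = a P * c from hc]; exact z.asIdeal.mul_mem_right _ (hPz (haP P hP hyP)))
  let M : (Spec Γ(X, U)).Modules := F.restrict j
  have hLG : LocGen M (PrimeSpectrum.basicOpen h₀ ⊓ ParaFLib.nonV y₀.asIdeal) := fun z hz => by
    obtain ⟨V, e, hzV, he⟩ := hWgen _ (hsub z hz.1 (ParaFLib.mem_nonV.1 hz.2))
    exact ⟨j ⁻¹ᵁ V, F.presheaf.map (homOfLE (j.image_preimage_le V)).op e, hzV,
      (ParaFLib.gen_restrict_iff j _).2 (he.res (j.image_preimage_le V))⟩
  haveI : IsNoetherianRing (ParaFLib.locR y₀) := IsLocalization.isNoetherianRing y₀.asIdeal.primeCompl (ParaFLib.locR y₀) inferInstance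
  letI : Algebra Γ(X, U) (X.presheaf.stalk x) := TopCat.Presheaf.algebra_section_stalk X.presheaf ⟨x, hxU⟩
  haveI := hU.isLocalization_stalk ⟨x, hxU⟩
  let E : (ParaFLib.locR y₀ : CommRingCat.{u}) ≃+* X.presheaf.stalk x :=
    (IsLocalization.algEquiv y₀.asIdeal.primeCompl (ParaFLib.locR y₀) (X.presheaf.stalk x)).toRingEquiv
  have hpic := picTrivial_punctured_of_ringEquiv E.toCommRingCatIso ((ParaFLib.isParafactorialLocalRing_iff (X.presheaf.stalk x)).1 hpara).2
  obtain ⟨h, hh, -, s, hs⟩ := ParaFLib.exists_gen_near y₀ hpic hh₀ hLG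
  have hs' := (ParaFLib.gen_restrict_iff j s).1 hs
  have hmemO : ∀ y : X, y ⤳ x → y ≠ x → y ∈ j ''ᵁ (PrimeSpectrum.basicOpen h ⊓ ParaFLib.nonV y₀.asIdeal) := by
    intro y hy hne
    obtain ⟨w, rfl⟩ : ∃ w, j w = y := ⟨_, hU.fromSpec_primeIdealOf ⟨y, hy.mem_open U.2 hxU⟩⟩
    have hw : w.asIdeal ≤ y₀.asIdeal :=
      (PrimeSpectrum.le_iff_specializes w y₀).2 (j.isOpenEmbedding.isInducing.specializes_iff.1 (hjy.symm ▸ hy))
    refine ⟨w, ⟨fun hm => hh (hw hm), ParaFLib.mem_nonV.2 fun hle => hne ?_⟩, rfl⟩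
    rw [← hjy, PrimeSpectrum.ext (le_antisymm hw hle)]
  have hηx : genericPoint X ≠ x := fun e => by
    have h0 : Order.coheight x = 0 := Order.coheight_eq_zero.2 fun z _ => e ▸ spec_gen z
    rw [h0] at hdim
    exact absurd hdim (by norm_num)
  have hη := hmemO _ (spec_gen x) hηx
  set O := j ''ᵁ (PrimeSpectrum.basicOpen h ⊓ ParaFLib.nonV y₀.asIdeal)
  let sX : Γ(F, O) := s
  have hv : F.presheaf.germ O (genericPoint X) hη sX ≠ 0 := fun h0 => by
    have h1 := toGen_ne_zero (hs'.bijective_germ (genericPoint X) hη)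
    rw [toGen_germ] at h1
    exact h1 h0
  obtain ⟨t, ht, -⟩ := exists_gen_of_ord_zero hX hF (x := x) hv fun y hy hy1 => by
    have hne : y ≠ x := fun e => by
      rw [e] at hy1
      rw [hy1] at hdim
      exact absurd hdim (by norm_num)
    have hyO := hmemO y hy hne
    rw [secOrdAt_eq hy1 (F.presheaf.germ O (genericPoint X) hη sX) (t := F.presheaf.germ O y hyO sX)
      (span_of_bijective (hs'.bijective_germ y hyO)) (toGen_ne_zero (hs'.bijective_germ y hyO))
      (φ := 1) (by rw [toGen_germ, one_smul])]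
    exact scheme_ord_one y
  exact ⟨t, ht⟩

/-- The implication from (b) to (a), for an integral scheme (a normal locally Noetherian scheme is the
disjoint union of its integral components): let X be a normal locally Noetherian integral scheme and
S a subset of X. A codimension-1 cycle Z (an integer-valued function on points, zero off the points
of codimension 1, i.e. of coheight 1, with locally finite support) is principal at a point x when
there is a nonzero rational function whose order at every codimension-1 point generizing x is the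
value of Z there (the trace of Z on Spec O_{X,x} is a principal divisor). Suppose (b): for every
point x of X which is not a generization of a point of S (the closure of x does not meet S) and
whose local ring has dimension at least 2, the local ring O_{X,x} is parafactorial. Then (a): every
codimension-1 cycle which is principal at all points of S is principal at every point of X (it is
locally principal). (The published statement asserts that (a) and (b) are equivalent. The
implication from (a) to (b) fails: on the quotient of the real 2-sphere x² + y² + z² = 1 by (x, y,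
z) ↦ (−x, −y, z), a normal Noetherian integral surface with exactly two singular points and divisor
class group of order 2, take S to be one singular point; every cycle principal there is principal
everywhere, while the local ring at the other singular point has dimension 2 and is not
parafactorial. This row states the implication from (b) to (a), which the published argument does
prove.) -/
theorem result (X : Scheme.{u}) [IsIntegral X]
    [IsLocallyNoetherian X] (hX : Pi1.IsNormalScheme X) (S : Set ↥X)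
    (hpar : ∀ x : ↥X, closure {x} ∩ S = ∅ → (2 : WithBot ℕ∞) ≤ ringKrullDim ↑(X.presheaf.stalk x) →
        ParaF.IsParafactorialLocalRing ↑(X.presheaf.stalk x))
    (Z : ↥X → ℤ) (hZ : ∀ x : ↥X, Order.coheight x ≠ 1 → Z x = 0)
    (hZfin : ∀ x : ↥X, ∃ W : X.Opens, x ∈ W ∧ {z : ↥X | z ∈ W ∧ Z z ≠ 0}.Finite)
    (hS : ∀ s : ↥X, s ∈ S →
        ∃ f : ↑X.functionField, f ≠ 0 ∧ ∀ x' : ↥X, Order.coheight x' = 1 → x' ⤳ s → Z x' = Scheme.ord f x')
    (x : ↥X) :
    ∃ f : ↑X.functionField, f ≠ 0 ∧ ∀ x' : ↥X, Order.coheight x' = 1 → x' ⤳ x → Z x' = Scheme.ord f x' := by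
  classical
  let D : AlgebraicCycle X ℤ :=
    { toFun := Z
      supportWithinDomain' := fun _ _ => trivial
      supportLocallyFiniteWithinDomain' := fun z _ => by
        obtain ⟨W, hzW, hfin⟩ := hZfin z
        exact ⟨W, W.2.mem_nhds hzW, hfin.subset fun w hw => ⟨hw.1, hw.2⟩⟩ }
  obtain ⟨F, hF, σ', hσ'0, hσ⟩ := (S16087.result X hX).2 D hZ
  obtain ⟨σ, rfl⟩ := Submodule.Quotient.mk_surjective _ σ'
  have hσ0 : σ ≠ 0 := fun h => hσ'0 (by rw [h]; rfl)
  haveI := hF.1.1
  have hfree : ∀ (n : ℕ∞) (z : X), Order.coheight z = n →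
      ∃ t : F.presheaf.stalk z, Function.Bijective fun r : X.presheaf.stalk z => r • t := by
    intro n
    induction n using WellFoundedLT.induction with
    | ind n ih =>
      intro z hz
      by_cases hcl : closure {z} ∩ S = ∅
      · rcases le_or_gt (2 : ℕ∞) (Order.coheight z) with h2 | h2
        · refine exists_gen_of_parafactorial hX hF z h2 (hpar z hcl (by
            rw [ringKrullDim_stalk_eq_coheight]; exact WithBot.coe_le_coe.2 h2)) fun w hw hne => ih _ ?_ w rfl
          rw [← hz]
          have hfin : Order.coheight w < ⊤ := by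
            have h4 : ringKrullDim (X.presheaf.stalk w) < ⊤ := ringKrullDim_lt_top
            rw [ringKrullDim_stalk_eq_coheight] at h4
            exact WithBot.coe_lt_coe.1 h4
          exact Order.coheight_strictAnti
            (lt_of_le_not_ge hw fun h3 => hne (Inseparable.eq (Specializes.antisymm hw h3))) hfin
        · rcases (Order.le_of_lt_succ (by simpa [← one_add_one_eq_two] using h2) : Order.coheight z ≤ 1).lt_or_eq with h0 | h1
          · have hzη : z = genericPoint X :=
              (Specializes.antisymm ((Order.coheight_eq_zero.1 (Order.lt_one_iff.1 h0)) (spec_gen z)) (spec_gen z)).eq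
            subst hzη
            exact exists_gen_generic hF.2.2
          · obtain ⟨t, ht, ht0⟩ := exists_gen_codim_one hX hF h1
            exact ⟨t, bijective_of_span ht ht0⟩
      · obtain ⟨s, hzs, hsS⟩ := Set.nonempty_iff_ne_empty.2 hcl
        obtain ⟨f, hf, hfZ⟩ := hS s hsS
        exact exists_gen_of_principal hX hF hσ0 hf fun y hy hy1 =>
          (hσ y hy1).symm.trans (hfZ y hy1 (hy.trans (specializes_iff_mem_closure.2 hzs)))
  have hinv : PicF.IsInvertible F := isInvertible_of_free hF.1 fun z => hfree _ z rfl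
  obtain ⟨f, hf, hfe⟩ := exists_ord_eq_of_invertible hinv x hσ0
  exact ⟨f, hf, fun y hy1 hy => (hσ y hy1).trans (hfe y hy hy1)⟩

end Groth.Agent.S5112
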