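import Groth.Statements.S5114
import Groth.Agent.QFinEtDesc.Main
-- import your own Groth.Agent.* helpers here

set_option autoImplicit false
universe u
open SGA1

open Groth.Agent CategoryTheory.Limits
set_option backward.isDefEq.respectTransparency false
namespace Groth.Agent.S5114

open AlgebraicGeometry CategoryTheory CategoryTheory.Limits in
/-- Let A be a complete Noetherian local ring, S = Spec A, and g : S' ⟶ S a surjective morphism of
finite type whose fibre over the closed point s is finite. If every point of S' specialises to some
point of the fibre over s (equivalently: the disjoint union of the spectra of the local rings of S'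
at the points over s maps onto S'), then g is universally submersive. (The published statement
asserts an equivalence and does not mention surjectivity of g; the converse fails: for A a complete
discrete valuation ring with fraction field K, S' = S ⊔ Spec K ⟶ S has a section, hence is
universally submersive, while the isolated point Spec K specialises to no point over s. This row
states the implication the published proof establishes, with the surjectivity it uses.) -/
theorem result (A : Type u) [CommRing A]
    [IsNoetherianRing A] [IsLocalRing A] [IsAdicComplete (IsLocalRing.maximalIdeal A) A]
    {S' : Scheme.{u}} (g : S' ⟶ Spec (CommRingCat.of A)) [LocallyOfFiniteType g] [QuasiCompact g]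
    [Surjective g]
    (hfin : (g.base ⁻¹' {IsLocalRing.closedPoint A}).Finite)
    (hsp : ∀ t : S', ∃ s' : S', g.base s' = IsLocalRing.closedPoint A ∧ t ⤳ s') :
    SGA1.UnivSubmersive g := by
  haveI : HenselianLocalRing A := CAlgDVRExtLib.henselianLocalRing_of_complete A
  obtain ⟨T, h, hf, hc⟩ := QFinEtDesc.exists_finite_cover_closedFibre g hfin
  haveI := hf
  haveI : AlgebraicGeometry.Surjective (CategoryTheory.CategoryStruct.comp h g) := ⟨fun t => by
    obtain ⟨t', rfl⟩ := g.surjective t
    obtain ⟨s', hs', ht⟩ := hsp t'
    obtain ⟨z, hz⟩ := hc s' hs' t' ht
    exact ⟨z, by rw [AlgebraicGeometry.Scheme.Hom.comp_apply, hz]⟩⟩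
  exact QFinEtDesc.univSubmersive_of_comp h g (QFinEtDesc.univSubmersive_of_closed _)

end Groth.Agent.S5114
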