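import Groth.Statements.S5120
import Mathlib.RingTheory.AdjoinRoot
import Mathlib.RingTheory.PowerBasis
-- import your own Groth.Agent.* helpers here

set_option autoImplicit false
set_option backward.isDefEq.respectTransparency false
universe u
open SGA1t

namespace Groth.Agent.S5120

open Polynomial in
/-- The computation behind the exactness of the Artin-Schreier sequence 0 → Z/p → G_a → G_a → 0 in
characteristic p, i.e. faithful flatness of ℘ = id − F: Let p be a prime and A a ring of
characteristic p. Then A[t] is free of rank p over itself via the endomorphism t ↦ t − t^p, with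
basis 1, t, …, t^{p−1}: every polynomial q can be written in exactly one way as Σ_{i<p} c_i(t − t^p)
t^i. -/
theorem result (p : ℕ) [Fact p.Prime] (A : Type u) [CommRing A] [CharP A p]
    (q : A[X]) :
    ∃! c : Fin p → A[X], q = ∑ i : Fin p, aeval (X - X ^ p : A[X]) (c i) * X ^ (i : ℕ) := by
  classical
  rcases subsingleton_or_nontrivial A with h | h
  · exact ⟨0, Subsingleton.elim _ _, fun c _ => Subsingleton.elim _ _⟩
  have hp : 1 < p := (Fact.out : p.Prime).one_lt
  let P : Polynomial A[X] := X ^ p - (X - C (X : A[X]))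
  have hdeg : P.natDegree = p := by
    refine natDegree_sub_eq_left_of_natDegree_lt ?_ |>.trans (natDegree_X_pow p)
    rw [natDegree_X_sub_C, natDegree_X_pow]; exact hp
  have hP : P.Monic := monic_X_pow_sub (by rw [degree_X_sub_C]; exact_mod_cast hp)
  let y : A[X] := X - X ^ p
  let φ : A[X] →+* A[X] := (aeval y : A[X] →ₐ[A] A[X]).toRingHom
  have hroot : P.eval₂ φ X = 0 := by
    simp only [P, eval₂_sub, eval₂_pow, eval₂_X, eval₂_C, φ, AlgHom.toRingHom_eq_coe, RingHom.coe_coe, aeval_X, y]
    ring
  let ψ : AdjoinRoot P →+* A[X] := AdjoinRoot.lift φ X hroot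
  let χ : A[X] →+* AdjoinRoot P := eval₂RingHom ((AdjoinRoot.of P).comp C) (AdjoinRoot.root P)
  have hrel : AdjoinRoot.root P - AdjoinRoot.root P ^ p = AdjoinRoot.of P X := by
    have h0 : P.eval₂ (AdjoinRoot.of P) (AdjoinRoot.root P) = 0 := AdjoinRoot.eval₂_root P
    simp only [P, eval₂_sub, eval₂_pow, eval₂_X, eval₂_C] at h0
    linear_combination -h0
  have hψχ : ψ.comp χ = RingHom.id _ := by
    refine Polynomial.ringHom_ext (fun a => ?_) ?_
    · simp [χ, ψ, φ]
    · simp [χ, ψ]
  have hχψ : χ.comp ψ = RingHom.id _ := by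
    have h1 : (χ.comp ψ).comp (AdjoinRoot.of P) = AdjoinRoot.of P := by
      refine Polynomial.ringHom_ext (fun a => ?_) ?_
      · simp [χ, ψ, φ]
      · simp [χ, ψ, φ, y, hrel]
    refine RingHom.ext fun z => ?_
    induction z using AdjoinRoot.induction_on with
    | _ f =>
      show (χ.comp ψ) (AdjoinRoot.mk P f) = AdjoinRoot.mk P f
      induction f using Polynomial.induction_on' with
      | add f g hf hg => rw [map_add, map_add, hf, hg]
      | monomial n r =>
        rw [← C_mul_X_pow_eq_monomial, map_mul, map_mul, map_pow, map_pow, AdjoinRoot.mk_C, AdjoinRoot.mk_X,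
          show (χ.comp ψ) (AdjoinRoot.of P r) = AdjoinRoot.of P r from RingHom.congr_fun h1 r]
        simp [χ, ψ]
  let pb := (AdjoinRoot.powerBasis' hP).basis.reindex (finCongr (show (AdjoinRoot.powerBasis' hP).dim = p from hdeg))
  have hpb : ∀ i : Fin p, pb i = AdjoinRoot.root P ^ (i : ℕ) := fun i => by
    simp [pb, PowerBasis.basis_eq_pow]
  have hsum : ∀ c : Fin p → A[X], ψ (∑ i, c i • pb i) = ∑ i : Fin p, aeval y (c i) * X ^ (i : ℕ) := fun c => by
    rw [map_sum]
    refine Finset.sum_congr rfl fun i _ => ?_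
    rw [Algebra.smul_def, map_mul, hpb, map_pow]
    simp [ψ, φ]
  refine ⟨fun i => pb.repr (χ q) i, ?_, fun c hc => ?_⟩
  · show q = _
    rw [← hsum, pb.sum_repr]
    exact (RingHom.congr_fun hψχ q).symm
  · have h2 : χ q = ∑ i, c i • pb i := by
      rw [show q = ψ (∑ i, c i • pb i) from hc.trans (hsum c).symm]
      exact RingHom.congr_fun hχψ _
    funext i
    rw [h2, pb.repr_sum_self]

end Groth.Agent.S5120
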