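import Groth.Statements.S5128
import Groth.Agent.S3694
import Groth.Agent.UnramSecLib.Basic
import Mathlib.AlgebraicGeometry.Morphisms.UniversallyInjective
-- import your own Groth.Agent.* helpers here

set_option autoImplicit false
set_option backward.isDefEq.respectTransparency false
universe u
open SGA1

namespace Groth.Agent.S5128

open AlgebraicGeometry CategoryTheory CategoryTheory.Limits in
/-- Let X and Y be S-schemes with Y etale over S. The map f ↦ Γ_f sending an S-morphism f : X ⟶ Y to the
subset of X ×_S Y underlying its graph is a bijection from Hom_S(X, Y) onto the set of open subsets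
Γ of X ×_S Y for which the restriction Γ → X of the first projection is radicial (universally
injective) and surjective. Stated as: the graph of every S-morphism is an open immersion, and every
such open Γ is the image of the graph of exactly one S-morphism. -/
theorem result {S X Y : Scheme.{u}} (p : X ⟶ S)
    (q : Y ⟶ S) [Etale q] :
    (∀ f : {f : X ⟶ Y // f ≫ q = p},
      IsOpenImmersion (pullback.lift (𝟙 X) f.1 ((Category.id_comp p).trans f.2.symm) : X ⟶ pullback p q)) ∧
    ∀ Γ : (pullback p q).Opens, UniversallyInjective (Γ.ι ≫ pullback.fst p q) → Surjective (Γ.ι ≫ pullback.fst p q) →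
      ∃! f : {f : X ⟶ Y // f ≫ q = p},
        Set.range (pullback.lift (𝟙 X) f.1 ((Category.id_comp p).trans f.2.symm) : X ⟶ pullback p q).base =
          (Γ : Set ↥(pullback p q)) := by
  have hopen : ∀ f : {f : X ⟶ Y // f ≫ q = p},
      IsOpenImmersion (pullback.lift (𝟙 X) f.1 ((Category.id_comp p).trans f.2.symm) : X ⟶ pullback p q) := by
    intro f
    let γ : X ⟶ pullback p q := pullback.lift (𝟙 X) f.1 ((Category.id_comp p).trans f.2.symm)
    have hγ : γ ≫ pullback.fst p q = 𝟙 X := pullback.lift_fst _ _ _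
    haveI : Etale (γ ≫ pullback.fst p q) := by rw [hγ]; infer_instance
    haveI : Etale γ := Etale.of_comp γ (pullback.fst p q)
    haveI : Mono (γ ≫ pullback.fst p q) := by rw [hγ]; infer_instance
    haveI : Mono γ := mono_of_mono γ (pullback.fst p q)
    exact IsOpenImmersion.of_flat_of_mono γ
  refine ⟨hopen, fun Γ hΓ1 hΓ2 => ?_⟩
  haveI := hΓ1
  haveI := hΓ2
  haveI : IsOpenImmersion (Γ.ι ≫ pullback.fst p q) := Groth.Agent.S3694.result _
  haveI : Epi (Γ.ι ≫ pullback.fst p q).base := (TopCat.epi_iff_surjective _).mpr (Γ.ι ≫ pullback.fst p q).surjective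
  haveI : IsIso (Γ.ι ≫ pullback.fst p q) := IsOpenImmersion.isIso _
  let σ : X ⟶ Γ.toScheme := inv (Γ.ι ≫ pullback.fst p q)
  have hσ : σ ≫ Γ.ι ≫ pullback.fst p q = 𝟙 X := IsIso.inv_hom_id _
  let f₀ : {f : X ⟶ Y // f ≫ q = p} := ⟨σ ≫ Γ.ι ≫ pullback.snd p q, by
    simp only [Category.assoc, ← pullback.condition]
    rw [← Category.assoc Γ.ι, ← Category.assoc σ, hσ, Category.id_comp]⟩
  have hlift : (pullback.lift (𝟙 X) f₀.1 ((Category.id_comp p).trans f₀.2.symm) : X ⟶ pullback p q) = σ ≫ Γ.ι := by
    refine pullback.hom_ext ?_ ?_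
    · rw [pullback.lift_fst, Category.assoc, hσ]
    · rw [pullback.lift_snd, Category.assoc]
  refine ⟨f₀, ?_, fun f hf => ?_⟩
  · show Set.range _ = _
    rw [hlift, Scheme.Hom.comp_base, TopCat.coe_comp, Set.range_comp, Set.range_eq_univ.mpr σ.surjective, Set.image_univ]
    exact Γ.range_ι
  · haveI := hopen f
    have hr : Set.range (pullback.lift (𝟙 X) f.1 ((Category.id_comp p).trans f.2.symm) : X ⟶ pullback p q).base ⊆
        Set.range Γ.ι.base := by rw [hf, Scheme.Opens.range_ι]
    have hfac := IsOpenImmersion.lift_fac Γ.ι _ hr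
    have h1 := hfac =≫ pullback.fst p q
    rw [pullback.lift_fst, Category.assoc] at h1
    have hσ' : IsOpenImmersion.lift Γ.ι _ hr = σ := (cancel_mono (Γ.ι ≫ pullback.fst p q)).mp (h1.trans hσ.symm)
    refine Subtype.ext ?_
    have h2 := hfac =≫ pullback.snd p q
    rw [pullback.lift_snd, Category.assoc, hσ'] at h2
    exact h2.symm

end Groth.Agent.S5128
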