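import Groth.Statements.S5132
import Mathlib.AlgebraicGeometry.Morphisms.QuasiCompact

set_option autoImplicit false
open CategoryTheory AlgebraicGeometry
universe u
open SGA1 CategoryTheory.Limits

namespace Groth.Agent.S5132

/-- Quasi-compactness of a morphism descends along a surjective and quasi-compact base change; flatness
of the base change is not needed for this property. -/
theorem result :
    MorphismProperty.DescendsAlong @QuasiCompact (@Surjective ⊓ @QuasiCompact : MorphismProperty Scheme.{u}) := by
  haveI : MorphismProperty.RespectsIso @QuasiCompact.{u} := MorphismProperty.IsStableUnderBaseChange.respectsIso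
  apply MorphismProperty.DescendsAlong.mk'
  intro X Y Z f g _ hf hg
  obtain ⟨hs, hq⟩ := hf
  rw [quasiCompact_iff_isSpectralMap] at hg ⊢
  refine ⟨g.continuous, fun U hU hUc => ?_⟩
  have h1 : IsCompact (f.base ⁻¹' U) := (Scheme.Hom.isSpectralMap f).isCompact_preimage_of_isOpen hU hUc
  have h2 := hg.isCompact_preimage_of_isOpen (hU.preimage f.continuous) h1
  have h3 := h2.image (pullback.snd f g).continuous
  convert h3
  ext y
  constructor
  · intro hy
    obtain ⟨x, hx⟩ := hs.surj (g.base y)
    obtain ⟨p, h₁, h₂⟩ := Scheme.Pullback.exists_preimage_pullback x y hx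
    exact ⟨p, by simpa [h₁, hx] using hy, h₂⟩
  · rintro ⟨p, hp, rfl⟩
    simp only [Set.mem_preimage] at hp ⊢
    rwa [← Scheme.Hom.comp_apply, pullback.condition] at hp

end Groth.Agent.S5132
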