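import Groth.Statements.S5133
import Groth.Agent.FlatLocus.ImageClosure
import Mathlib.AlgebraicGeometry.PullbackCarrier
import Mathlib.AlgebraicGeometry.Morphisms.UniversallyOpen
-- import your own Groth.Agent.* helpers here

set_option autoImplicit false
set_option backward.isDefEq.respectTransparency false
open CategoryTheory CategoryTheory.Limits AlgebraicGeometry
universe u
open SGA1

namespace Groth.Agent.S5133

/-- For a quasi-compact morphism f : X ⟶ Y and a flat surjective base change g : Y' ⟶ Y, with no
quasi-compactness asked of g, if the base change of f along g is a homeomorphism onto its image then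
f is a homeomorphism onto its image. -/
theorem result {X Y Y' : Scheme.{u}} (f : X ⟶ Y)
    (g : Y' ⟶ Y) [QuasiCompact f] [Flat g] [Surjective g]
    (h : Topology.IsEmbedding (pullback.snd f g).base) : Topology.IsEmbedding f.base := by
  set f' := pullback.snd f g
  set p := pullback.fst f g
  have hsq : ∀ w, f (p w) = g (f' w) := fun w => by
    rw [← Scheme.Hom.comp_apply, ← Scheme.Hom.comp_apply, pullback.condition]
  have hinj : Function.Injective f.base := fun a b hab => by
    obtain ⟨y', hy'⟩ := g.surjective (f a)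
    obtain ⟨u, hu₁, hu₂⟩ := Scheme.Pullback.exists_preimage_pullback (f := f) (g := g) a y' hy'.symm
    obtain ⟨v, hv₁, hv₂⟩ := Scheme.Pullback.exists_preimage_pullback (f := f) (g := g) b y' (hab.symm.trans hy'.symm)
    rw [← hu₁, ← hv₁, h.injective (hu₂.trans hv₂.symm)]
  refine ⟨⟨le_antisymm f.continuous.le_induced ?_⟩, hinj⟩
  intro U hU
  let Z : Set X := Uᶜ
  have hZ : IsClosed Z := isClosed_compl_iff.mpr hU
  refine isOpen_induced_iff.mpr ⟨(closure (f '' Z))ᶜ, isClosed_closure.isOpen_compl, ?_⟩
  refine compl_injective (Eq.trans (compl_compl _) ?_ : _)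
  refine Set.Subset.antisymm (fun x hx => ?_) (fun x hx => subset_closure ⟨x, hx, rfl⟩)
  obtain ⟨z, hz, hzx⟩ := Groth.Agent.FlatLocus.exists_specializes_of_mem_closure_image f hZ hx
  obtain ⟨y', hy'⟩ := g.surjective (f x)
  obtain ⟨y₁, hy₁, hy₁z⟩ := Flat.generalizingMap (f := g) (show f z ⤳ g y' from hy'.symm ▸ hzx)
  obtain ⟨w, hw₁, hw₂⟩ := Scheme.Pullback.exists_preimage_pullback (f := f) (g := g) z y₁ hy₁z.symm
  obtain ⟨v, hv₁, hv₂⟩ := Scheme.Pullback.exists_preimage_pullback (f := f) (g := g) x y' hy'.symm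
  have hsp : w ⤳ v := h.isInducing.specializes_iff.mp (by rw [hw₂, hv₂]; exact hy₁)
  exact hv₁ ▸ (hsp.map p.continuous).mem_closed hZ (hw₁.symm ▸ hz)

end Groth.Agent.S5133
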