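import Groth.Statements.S5135
import Mathlib.LinearAlgebra.TensorProduct.Submodule
-- import your own Groth.Agent.* helpers here

set_option autoImplicit false
universe u
open scoped TensorProduct
open SGA1

namespace Groth.Agent.S5135

/-- The affine case, in submodule form (descent of submodules, equivalently of quotient modules): for A
⟶ A' faithfully flat, M an A-module and N' an A'-submodule of A' ⊗ M whose two extensions to (A' ⊗
A') ⊗ M, along a ↦ a ⊗ 1 and a ↦ 1 ⊗ a, generate the same submodule, N' is the base change of the
submodule of M formed by the elements m with 1 ⊗ m in N'. -/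
theorem result (A A' : Type u) [CommRing A] [CommRing A'] [Algebra A A']
    [Module.FaithfullyFlat A A'] (M : Type u) [AddCommGroup M] [Module A M] (N' : Submodule A' (A' ⊗[A] M))
    (h : Submodule.span (A' ⊗[A] A')
          ((N'.restrictScalars A).map
            ((Algebra.TensorProduct.includeLeft : A' →ₐ[A] A' ⊗[A] A').toLinearMap.rTensor M) : Set ((A' ⊗[A] A') ⊗[A] M)) =
        Submodule.span (A' ⊗[A] A')
          ((N'.restrictScalars A).map
            ((Algebra.TensorProduct.includeRight : A' →ₐ[A] A' ⊗[A] A').toLinearMap.rTensor M) : Set ((A' ⊗[A] A') ⊗[A] M))) :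
    ((N'.restrictScalars A).comap (TensorProduct.mk A A' M 1)).baseChange A' = N' := by
  open TensorProduct in
  let N₀ : Submodule A M := (N'.restrictScalars A).comap (TensorProduct.mk A A' M 1)
  refine le_antisymm ?_ ?_
  · rw [Submodule.baseChange_eq_span, Submodule.span_le]
    rintro _ ⟨m, hm, rfl⟩
    exact hm
  · let P := (A' ⊗[A] M) ⧸ N'.restrictScalars A
    let q : A' ⊗[A] M →ₗ[A] P := (N'.restrictScalars A).mkQ
    let Ψ : (A' ⊗[A] A') ⊗[A] M →ₗ[A] A' ⊗[A] P := q.lTensor A' ∘ₗ (TensorProduct.assoc A A' A' M).toLinearMap
    let ι₁ := (Algebra.TensorProduct.includeLeft : A' →ₐ[A] A' ⊗[A] A').toLinearMap.rTensor M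
    let ι₂ := (Algebra.TensorProduct.includeRight : A' →ₐ[A] A' ⊗[A] A').toLinearMap.rTensor M
    have hgen : ∀ c : A' ⊗[A] A', ∀ n ∈ N', Ψ (c • ι₂ n) = 0 := by
      intro c
      induction c using TensorProduct.induction_on with
      | zero => intro n _; rw [zero_smul, map_zero]
      | add x y hx hy => intro n hn; rw [add_smul, map_add, hx n hn, hy n hn, add_zero]
      | tmul a b =>
        intro n hn
        have e : ∀ z : A' ⊗[A] M, TensorProduct.assoc A A' A' M ((a ⊗ₜ[A] b) • ι₂ z) = a ⊗ₜ[A] (b • z) := by
          intro z
          induction z using TensorProduct.induction_on with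
          | zero => simp
          | add x y hx hy => simp [smul_add, hx, hy, tmul_add]
          | tmul u m => simp [ι₂, smul_tmul']
        show q.lTensor A' (TensorProduct.assoc A A' A' M _) = 0
        rw [e, LinearMap.lTensor_tmul, show q (b • n) = 0 from (Submodule.Quotient.mk_eq_zero _).mpr (N'.smul_mem b hn),
          tmul_zero]
    have hkill : ∀ x ∈ N', Ψ (ι₁ x) = 0 := by
      intro x hx
      have hmem : ι₁ x ∈ Submodule.span (A' ⊗[A] A')
          ((N'.restrictScalars A).map ι₂ : Set ((A' ⊗[A] A') ⊗[A] M)) :=
        h ▸ Submodule.subset_span ⟨x, hx, rfl⟩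
      suffices ∀ z ∈ Submodule.span (A' ⊗[A] A') ((N'.restrictScalars A).map ι₂ : Set ((A' ⊗[A] A') ⊗[A] M)),
          ∀ c : A' ⊗[A] A', Ψ (c • z) = 0 by simpa using this _ hmem 1
      intro z hz
      induction hz using Submodule.span_induction with
      | mem z hz =>
        obtain ⟨n, hn, rfl⟩ := hz
        exact fun c => hgen c n hn
      | zero => intro c; rw [smul_zero, map_zero]
      | add x y _ _ hx hy => intro c; rw [smul_add, map_add, hx c, hy c, add_zero]
      | smul d x _ hx => intro c; rw [smul_smul]; exact hx _
    let f : M →ₗ[A] P := q ∘ₗ TensorProduct.mk A A' M 1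
    have hex : Function.Exact N₀.subtype f := by
      rw [LinearMap.exact_iff, Submodule.range_subtype]
      show LinearMap.ker (q ∘ₗ TensorProduct.mk A A' M 1) = _
      rw [LinearMap.ker_comp, Submodule.ker_mkQ]
    intro x hx
    have hfx : f.lTensor A' x = 0 := by
      have e : f.lTensor A' x = Ψ (ι₁ x) := by
        clear hx
        induction x using TensorProduct.induction_on with
        | zero => simp
        | add x y hx hy => simp only [map_add, hx, hy]
        | tmul u m => rfl
      rw [e]; exact hkill x hx
    obtain ⟨y, rfl⟩ := (Module.Flat.lTensor_exact A' hex x).mp hfx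
    clear hfx hx
    induction y using TensorProduct.induction_on with
    | zero => simp
    | add x y hx hy => rw [map_add]; exact add_mem hx hy
    | tmul u m => exact Submodule.tmul_mem_baseChange_of_mem u m.2

end Groth.Agent.S5135
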