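import Groth.Statements.S5138
import Groth.Agent.EtDescent.Scheme
-- import your own Groth.Agent.* helpers here

set_option autoImplicit false
open CategoryTheory AlgebraicGeometry
set_option backward.isDefEq.respectTransparency false
universe u
open SGA1

namespace Groth.Agent.S5138

/-- For X ⟶ X' ⟶ Y locally of finite type over a locally Noetherian Y and a point x of X, if X ⟶ X' and
the composite X ⟶ Y are both etale near x then X' ⟶ Y is etale near the image of x; 'etale near a
point' is membership in the etale locus, the union of the opens on which the morphism is etale. (The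
published statement takes the morphisms of finite type; quasi-compactness plays no role in this
assertion about single points, so only local finiteness is assumed.) -/
theorem result {X X' Y : Scheme.{u}} (f : X ⟶ X') (g : X' ⟶ Y)
    [IsLocallyNoetherian Y] [LocallyOfFiniteType f] [LocallyOfFiniteType g] (x : X)
    (hf : x ∈ Pi1X.etaleLocus f) (hfg : x ∈ Pi1X.etaleLocus (f ≫ g)) : f.base x ∈ Pi1X.etaleLocus g := by
  obtain ⟨(U : X.Opens), hU, hxU⟩ := TopologicalSpace.Opens.mem_sSup.mp hf
  obtain ⟨(W : X.Opens), hW, hxW⟩ := TopologicalSpace.Opens.mem_sSup.mp hfg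
  haveI : Etale (U.ι ≫ f) := hU
  haveI : Etale (W.ι ≫ f ≫ g) := hW
  let p : (U ⊓ W : X.Opens).toScheme ⟶ X' := (U ⊓ W).ι ≫ f
  haveI : Etale p := by
    have : p = X.homOfLE inf_le_left ≫ U.ι ≫ f := by simp [p, ← Category.assoc]
    rw [this]; infer_instance
  haveI : Etale (p ≫ g) := by
    have : p ≫ g = X.homOfLE inf_le_right ≫ W.ι ≫ f ≫ g := by simp [p, ← Category.assoc]
    rw [this]; infer_instance
  let O : X'.Opens := ⟨Set.range p, p.isOpenMap.isOpen_range⟩
  let q : (U ⊓ W : X.Opens).toScheme ⟶ O := IsOpenImmersion.lift O.ι p (by rw [Scheme.Opens.range_ι]; rfl)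
  have hq : q ≫ O.ι = p := IsOpenImmersion.lift_fac _ _ _
  haveI : Etale (q ≫ O.ι) := by rw [hq]; infer_instance
  haveI : Etale q := Etale.of_comp q O.ι
  haveI : Surjective q := ⟨fun ⟨y, z, hz⟩ => ⟨z, Subtype.ext ((congrArg (fun m : _ ⟶ X' => m z) hq).trans hz)⟩⟩
  haveI : Etale (q ≫ O.ι ≫ g) := by rw [← Category.assoc, hq]; infer_instance
  have hO : Etale (O.ι ≫ g) := Groth.Agent.EtDescent.etale_of_precomp q (O.ι ≫ g)
  exact TopologicalSpace.Opens.mem_sSup.mpr ⟨O, hO, ⟨⟨x, hxU, hxW⟩, rfl⟩⟩

end Groth.Agent.S5138
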