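import Groth.Statements.S5140
import Groth.Agent.ASt.Fib

set_option autoImplicit false
open CategoryTheory
universe u v u₂ v₂
open FibCat

namespace Groth.Agent.S5140

set_option backward.isDefEq.respectTransparency false
set_option backward.isDefEq.respectTransparency.types false
open Groth.Agent.ASt

/-- If the structure functor of 𝒳 is transportable (isomorphisms of C lift to isomorphisms of 𝒳 with any
prescribed source over their source), then a functor 𝒳 ⟶ 𝒴 over C whose underlying functor is an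
equivalence of categories is an equivalence over C. -/
theorem result {C : Type u} [Category.{v} C]
    {𝒳 𝒴 : BasedCategory.{v₂, u₂} C}
    (h𝒳 : ∀ ⦃T S : C⦄ (α : T ≅ S) (ξ : 𝒳.obj), 𝒳.p.obj ξ = T →
      ∃ (ξ' : 𝒳.obj) (e : ξ ≅ ξ'), 𝒳.p.IsHomLift α.hom e.hom)
    (F : 𝒳 ⥤ᵇ 𝒴) [F.toFunctor.IsEquivalence] : FibCat.IsEquivOver F := by
  refine isEquivOver_of_vert F fun η => ?_
  let ξ₀ := F.toFunctor.objPreimage η
  let e₀ : F.obj ξ₀ ≅ η := F.toFunctor.objObjPreimageIso η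
  let α : 𝒳.p.obj ξ₀ ≅ 𝒴.p.obj η := eqToIso (F.w_obj ξ₀).symm ≪≫ 𝒴.p.mapIso e₀
  obtain ⟨ξ', e', he⟩ := h𝒳 α ξ₀ rfl
  have hx : 𝒳.p.obj ξ' = 𝒴.p.obj η := IsHomLift.codomain_eq 𝒳.p α.hom e'.hom
  refine ⟨ξ', hx, (F.toFunctor.mapIso e').symm ≪≫ e₀, ?_⟩
  have hm : 𝒳.p.map e'.hom = α.hom ≫ eqToHom hx.symm := by
    simpa using IsHomLift.fac' 𝒳.p α.hom e'.hom
  have hF : 𝒴.p.map (F.map e'.hom) = 𝒴.p.map e₀.hom ≫ eqToHom ((F.w_obj ξ').trans hx).symm := by
    rw [map_w, hm]; simp [α]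
  rw [← cancel_epi (𝒴.p.map (F.map e'.hom))]
  conv_rhs => rw [hF]
  simp [← Functor.map_comp]

end Groth.Agent.S5140
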