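import Groth.Statements.S5141
import Groth.Agent.ASt.Fib

set_option autoImplicit false
open CategoryTheory
universe u v u₂ v₂
open FibCat

namespace Groth.Agent.S5141

set_option backward.isDefEq.respectTransparency false
set_option backward.isDefEq.respectTransparency.types false
open Groth.Agent.ASt

/-- In the sharper form given by its proof: for an equivalence F : 𝒳 ⟶ 𝒴 over C, a morphism φ of 𝒳 is
cartesian (over its image in C) if and only if F φ is; in particular an equivalence over C is a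
cartesian functor. -/
theorem result {C : Type u} [Category.{v} C]
    {𝒳 𝒴 : BasedCategory.{v₂, u₂} C} (F : 𝒳 ⥤ᵇ 𝒴) (hF : FibCat.IsEquivOver F) {a b : 𝒳.obj} (φ : a ⟶ b) :
    𝒴.p.IsCartesian (𝒳.p.map φ) (F.toFunctor.map φ) ↔ 𝒳.p.IsCartesian (𝒳.p.map φ) φ := by
  obtain ⟨h₁, h₂, h₃⟩ := vert_of_isEquivOver hF
  constructor
  · intro h
    refine @Functor.IsCartesian.mk _ _ _ _ 𝒳.p _ _ _ _ (𝒳.p.map φ) φ inferInstance fun {a'} φ' _ => ?_
    obtain ⟨χ, ⟨hχ, e⟩, hu⟩ := h.universal_property (F.map φ')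
    refine ⟨F.toFunctor.preimage χ, ⟨?_, F.toFunctor.map_injective (by simpa using e)⟩, fun τ hτ => ?_⟩
    · exact (BasedFunctor.isHomLift_iff F _ _).1 (by rw [Functor.map_preimage]; exact hχ)
    · refine F.toFunctor.map_injective ?_
      rw [Functor.map_preimage]
      have := hτ.1
      exact hu _ ⟨inferInstance, by rw [← Functor.map_comp, hτ.2]⟩
  · intro h
    refine @Functor.IsCartesian.mk _ _ _ _ 𝒴.p _ _ _ _ (𝒳.p.map φ) (F.map φ) inferInstance fun {y} φ' _ => ?_
    obtain ⟨x, hx, e, he⟩ := h₃ y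
    have hy : 𝒴.p.obj y = 𝒳.p.obj a := IsHomLift.domain_eq 𝒴.p (𝒳.p.map φ) φ'
    have : 𝒴.p.IsHomLift (𝟙 (𝒳.p.obj a)) e.hom :=
      isHomLift_id_of_map e.hom ((F.w_obj x).trans (hx.trans hy)) he
    let ψ := F.toFunctor.preimage (e.hom ≫ φ')
    have : 𝒳.p.IsHomLift (𝒳.p.map φ) ψ :=
      (BasedFunctor.isHomLift_iff F _ _).1 (by rw [Functor.map_preimage]; infer_instance)
    obtain ⟨τ, ⟨hτ, eτ⟩, hu⟩ := h.universal_property ψ
    refine ⟨e.inv ≫ F.map τ, ⟨inferInstance, ?_⟩, fun χ hχ => ?_⟩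
    · rw [Category.assoc, ← Functor.map_comp, eτ, Functor.map_preimage, Iso.inv_hom_id_assoc]
    · have := hχ.1
      have hσ : F.toFunctor.preimage (e.hom ≫ χ) = τ := hu _
        ⟨(BasedFunctor.isHomLift_iff F _ _).1 (by rw [Functor.map_preimage]; infer_instance),
          F.toFunctor.map_injective (by simp [ψ, hχ.2])⟩
      rw [← hσ, Functor.map_preimage, Iso.inv_hom_id_assoc]

end Groth.Agent.S5141
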