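import Groth.Statements.S5144
import Mathlib.CategoryTheory.FiberedCategory.Fibered

set_option autoImplicit false
open CategoryTheory
universe u v u₂ v₂
open FibCat

namespace Groth.Agent.S5144

set_option backward.isDefEq.respectTransparency false
set_option backward.isDefEq.respectTransparency.types false
open Functor Opposite

section
variable {C : Type u} [Category.{v} C] {𝒳 : Type u₂} [Category.{v₂} 𝒳] (p : 𝒳 ⥤ C)

theorem lift_op {a b : 𝒳} (φ : a ⟶ b) {R S : C} (f : R ⟶ S) [p.IsHomLift f φ] :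
    p.op.IsHomLift f.op φ.op := by
  subst_hom_lift p f φ
  exact IsHomLift.map p.op φ.op

theorem lift_unop {a b : 𝒳ᵒᵖ} (φ : a ⟶ b) {R S : Cᵒᵖ} (f : R ⟶ S) [p.op.IsHomLift f φ] :
    p.IsHomLift f.unop φ.unop := by
  subst_hom_lift p.op f φ
  exact IsHomLift.map p φ.unop

theorem op_isFibered [p.IsFibered] [p.op.IsPreFibered] : p.op.IsFibered := by
  refine IsFibered.of_exists_isStronglyCartesian fun x R f => ?_
  obtain ⟨y, φ, hφ⟩ := IsPreFibered.exists_isCartesian' (p := p.op) f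
  refine ⟨y, φ, ⟨fun {z} g ψ _ => ?_⟩⟩
  have hψ : p.IsHomLift (f.unop ≫ g.unop) ψ.unop := lift_unop p ψ (g ≫ f)
  let θ := IsPreFibered.pullbackMap (p := p) (a := z.unop) rfl g.unop
  let σ := IsStronglyCartesian.map p g.unop θ (rfl : f.unop ≫ g.unop = f.unop ≫ g.unop) ψ.unop
  have hσ : p.IsHomLift f.unop σ := inferInstance
  have : p.op.IsHomLift f σ.op := lift_op p σ f.unop
  obtain ⟨τ, ⟨hτ, eτ⟩, huτ⟩ := hφ.universal_property σ.op
  have : p.op.IsHomLift g θ.op := lift_op p θ g.unop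
  have hθσ : σ ≫ θ = ψ.unop := IsStronglyCartesian.fac p g.unop θ _ _
  refine ⟨θ.op ≫ τ, ⟨?_, ?_⟩, fun χ hχ => ?_⟩
  · simpa using (inferInstance : p.op.IsHomLift (g ≫ 𝟙 R) (θ.op ≫ τ))
  · rw [Category.assoc, eτ, ← op_comp, hθσ, Quiver.Hom.op_unop]
  · have := hχ.1
    have hχ' : p.IsHomLift g.unop χ.unop := lift_unop p χ g
    let τ' := IsCartesian.map p g.unop θ χ.unop
    have := lift_op p τ' (𝟙 R.unop)
    have hφ' : p.IsHomLift f.unop φ.unop := lift_unop p φ f
    have hl : p.IsHomLift f.unop (φ.unop ≫ τ') := inferInstance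
    have eσ : φ.unop ≫ τ' = σ := by
      refine IsStronglyCartesian.map_uniq p g.unop θ rfl ψ.unop _ ?_
      rw [Category.assoc, IsCartesian.fac, ← hχ.2]
      rfl
    have e : τ'.op = τ := huτ _ ⟨lift_op p τ' (𝟙 R.unop), by rw [← eσ]; rfl⟩
    rw [← e, ← op_comp, IsCartesian.fac, Quiver.Hom.op_unop]

theorem isFibered_of_op [p.op.IsFibered] [p.IsPreFibered] : p.IsFibered := by
  refine IsFibered.of_exists_isStronglyCartesian fun x R f => ?_
  obtain ⟨y, φ, hφ⟩ := IsPreFibered.exists_isCartesian' (p := p) f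
  refine ⟨y, φ, ⟨fun {z} g ψ _ => ?_⟩⟩
  have hψ : p.op.IsHomLift (f.op ≫ g.op) ψ.op := lift_op p ψ (g ≫ f)
  let θ := IsPreFibered.pullbackMap (p := p.op) (a := op z) rfl g.op
  let σ := IsStronglyCartesian.map p.op g.op θ (rfl : f.op ≫ g.op = f.op ≫ g.op) ψ.op
  have : p.IsHomLift f σ.unop := lift_unop p σ f.op
  obtain ⟨τ, ⟨hτ, eτ⟩, huτ⟩ := hφ.universal_property σ.unop
  have : p.IsHomLift g θ.unop := lift_unop p θ g.op
  have hθσ : σ ≫ θ = ψ.op := IsStronglyCartesian.fac p.op g.op θ _ _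
  refine ⟨θ.unop ≫ τ, ⟨?_, ?_⟩, fun χ hχ => ?_⟩
  · simpa using (inferInstance : p.IsHomLift (g ≫ 𝟙 R) (θ.unop ≫ τ))
  · rw [Category.assoc, eτ, ← unop_comp, hθσ, Quiver.Hom.unop_op]
  · have := hχ.1
    have hχ' : p.op.IsHomLift g.op χ.op := lift_op p χ g
    let τ' := IsCartesian.map p.op g.op θ χ.op
    have hφ' : p.op.IsHomLift f.op φ.op := lift_op p φ f
    have hl : p.op.IsHomLift f.op (φ.op ≫ τ') := inferInstance
    have eσ : φ.op ≫ τ' = σ := by
      refine IsStronglyCartesian.map_uniq p.op g.op θ rfl ψ.op _ ?_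
      rw [Category.assoc, IsCartesian.fac, ← hχ.2]
      rfl
    have e : τ'.unop = τ := huτ _ ⟨lift_unop p τ' (𝟙 (op R)), by rw [← eσ]; rfl⟩
    rw [← e, ← unop_comp, IsCartesian.fac, Quiver.Hom.unop_op]

end

/-- If p : 𝒳 ⥤ C is both prefibred and co-prefibred (its opposite functor is prefibred), then p is
fibred if and only if it is co-fibred (its opposite functor is fibred). Prefibred and fibred are
Mathlib's notions, which are the source's. -/
theorem result {C : Type u} [Category.{v} C] {𝒳 : Type u₂} [Category.{v₂} 𝒳]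
    (p : 𝒳 ⥤ C) [p.IsPreFibered] [p.op.IsPreFibered] : p.IsFibered ↔ p.op.IsFibered := by
  exact ⟨fun _ => op_isFibered p, fun _ => isFibered_of_op p⟩

end Groth.Agent.S5144
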