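import Groth.Statements.S5151
import Groth.Agent.Depth.Basic

set_option autoImplicit false
universe u
open LocCoh

namespace Groth.Agent.S5151

open CategoryTheory CategoryTheory.Limits AlgebraicGeometry

open RingTheory.Sequence in
theorem isMaxSeq_of_maximal {A : Type u} [CommRing A] [IsNoetherianRing A] {I : Ideal A} {M : Type u} [AddCommGroup M]
    [Module A M] [Module.Finite A M] (hIM : I • (⊤ : Submodule A M) ≠ ⊤) {rs : List A} (hw : IsWeaklyRegular M rs)
    (hm : ∀ r ∈ rs, r ∈ I) (hmax : ∀ r ∈ I, ¬ IsWeaklyRegular M (rs ++ [r])) : Depth.IsMaxSeq I M rs := by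
  refine ⟨hw, hm, ?_⟩
  have hQ := Depth.smul_top_quot_ne_top (M := M) (Ideal.span_le.2 hm : Ideal.ofList rs ≤ I) hIM
  have h0 : LocCoh.idealDepth I (M ⧸ (Ideal.ofList rs • ⊤ : Submodule A M)) = 0 := by
    by_contra h
    obtain ⟨s, hs, hsI, hsw⟩ := (Depth.le_idealDepth_iff hQ 1).1 (by rw [Nat.cast_one]; exact Order.one_le_iff_pos.2 (pos_iff_ne_zero.2 h))
    obtain ⟨r, rfl⟩ := List.length_eq_one_iff.1 hs
    exact hmax r (hsI r (by simp)) ((isWeaklyRegular_append_iff M rs [r]).2 ⟨hw, hsw⟩)
  obtain ⟨x, hx, hx'⟩ := (Depth.idealDepth_eq_zero_iff hQ).1 h0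
  obtain ⟨x, rfl⟩ := Submodule.Quotient.mk_surjective _ x
  exact ⟨x, fun h => hx ((Submodule.Quotient.mk_eq_zero _).2 h), fun r hr =>
    (Submodule.Quotient.mk_eq_zero _).1 ((Submodule.Quotient.mk_smul _ r x).trans (hx' r hr))⟩


/-- Let A be a Noetherian ring, I an ideal and M a finite A-module with IM ≠ M. Every weakly M-regular
sequence of elements of I can be extended to a maximal one (one after which no element of I is
M-regular on the quotient), and any maximal weakly M-regular sequence of elements of I has length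
equal to the I-depth of M. (The published statement does not assume IM ≠ M; without it the first
assertion fails: over ℤ with I = (2) and M = ℤ/3 the element 2 is M-regular with M/2M = 0, after
which every element of I is regular on the zero module, so no weakly M-regular sequence of elements
of I is maximal, while the I-depth is infinite. With IM ≠ M every weakly M-regular sequence in I is
M-regular and the I-depth is finite.) -/
theorem result (A : Type u) [CommRing A] [IsNoetherianRing A] (I : Ideal A) (M : Type u) [AddCommGroup M] [Module A M] [Module.Finite A M] (hIM : I • (⊤ : Submodule A M) ≠ ⊤) : (∀ rs : List A, RingTheory.Sequence.IsWeaklyRegular M rs → (∀ r ∈ rs, r ∈ I) → ∃ rs' : List A, rs <+: rs' ∧ RingTheory.Sequence.IsWeaklyRegular M rs' ∧ (∀ r ∈ rs', r ∈ I) ∧ ∀ r ∈ I, ¬ RingTheory.Sequence.IsWeaklyRegular M (rs' ++ [r])) ∧ (∀ rs : List A, RingTheory.Sequence.IsWeaklyRegular M rs → (∀ r ∈ rs, r ∈ I) → (∀ r ∈ I, ¬ RingTheory.Sequence.IsWeaklyRegular M (rs ++ [r])) → (rs.length :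 ℕ∞) = LocCoh.idealDepth I M) := by
  refine ⟨fun rs hw hm => ?_, fun rs hw hm hmax => (Depth.idealDepth_eq_length hIM (isMaxSeq_of_maximal hIM hw hm hmax)).symm⟩
  obtain ⟨ms, hms⟩ := Depth.exists_isMaxSeq (M := M) hIM
  suffices H : ∀ (d : ℕ) (rs : List A), RingTheory.Sequence.IsWeaklyRegular M rs → (∀ r ∈ rs, r ∈ I) →
      ms.length - rs.length ≤ d → ∃ rs' : List A, rs <+: rs' ∧ RingTheory.Sequence.IsWeaklyRegular M rs' ∧
        (∀ r ∈ rs', r ∈ I) ∧ ∀ r ∈ I, ¬ RingTheory.Sequence.IsWeaklyRegular M (rs' ++ [r]) from H _ rs hw hm le_rfl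
  intro d
  induction d with
  | zero =>
    intro rs hw hm hd
    refine ⟨rs, List.prefix_rfl, hw, hm, fun r hr h => ?_⟩
    have := Depth.length_le_of_isMaxSeq hIM hms h (fun x hx => (List.mem_append.1 hx).elim (hm x) fun hx => (List.mem_singleton.1 hx) ▸ hr)
    rw [List.length_append, List.length_singleton] at this
    omega
  | succ d ih =>
    intro rs hw hm hd
    by_cases hmax : ∀ r ∈ I, ¬ RingTheory.Sequence.IsWeaklyRegular M (rs ++ [r])
    · exact ⟨rs, List.prefix_rfl, hw, hm, hmax⟩
    push Not at hmax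
    obtain ⟨r, hr, hwr⟩ := hmax
    obtain ⟨rs', hp, h1, h2, h3⟩ := ih (rs ++ [r]) hwr
      (fun x hx => (List.mem_append.1 hx).elim (hm x) fun hx => (List.mem_singleton.1 hx) ▸ hr) (by simp; omega)
    exact ⟨rs', (List.prefix_append rs [r]).trans hp, h1, h2, h3⟩

end Groth.Agent.S5151
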