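import Groth.Statements.S5154
import Groth.Agent.EGA4Dim.Hartshorne
import Groth.Agent.CatLib.Basic

set_option autoImplicit false
universe u
open LocCoh

namespace Groth.Agent.S5154

/-- Let A be a Noetherian local ring which is catenary and such that depth A_p ≥ 2 for every prime p
with dim A_p ≥ 2. Then all irreducible components of Spec A have dimension dim A: for every minimal
prime p, dim A/p = dim A. -/
theorem result (A : Type u) [CommRing A] [IsLocalRing A] [IsNoetherianRing A] (hc : CAlg.IsCatenary A) (h : ∀ p : PrimeSpectrum A, (2 : ℕ∞) ≤ p.asIdeal.height → (2 : ℕ∞) ≤ LocCoh.depth (Localization.AtPrime p.asIdeal) (Localization.AtPrime p.asIdeal)) (p : Ideal A) (hp : p ∈ minimalPrimes A) : ringKrullDim (A ⧸ p) = ringKrullDim A := by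
  haveI : ConnectedSpace (PrimeSpectrum A) := connectedSpace_iff_clopen.2 ⟨⟨⟨p, hp.1.1⟩⟩, fun s hs => by
    by_cases hm : IsLocalRing.closedPoint A ∈ s
    · exact Or.inr (Set.eq_univ_of_forall fun x => Specializes.mem_open
        ((PrimeSpectrum.le_iff_specializes x _).1 (IsLocalRing.le_maximalIdeal x.2.ne_top)) hs.2 hm)
    · refine Or.inl (Set.eq_empty_iff_forall_notMem.2 fun x hx => hm ?_)
      exact Specializes.mem_closed ((PrimeSpectrum.le_iff_specializes x _).1 (IsLocalRing.le_maximalIdeal x.2.ne_top)) hs.1 hx⟩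
  have hcat := CatLib.isCatenary_iff_coheight.1 hc
  have heq : ∀ a b : minimalPrimes A, Order.coheight (⟨a.1, a.2.1.1⟩ : PrimeSpectrum A) =
      Order.coheight (⟨b.1, b.2.1.1⟩ : PrimeSpectrum A) := by
    intro a b
    have hchain := EGA4Dim.reflTransGen_minLink 2 (fun p hp hh => h ⟨p, hp⟩ hh) a b
    induction hchain with
    | refl => rfl
    | @tail x y _ hxy ih =>
      refine ih.trans ?_
      obtain ⟨q, hq, hxq, hyq, hht⟩ := hxy
      by_cases hxy : x = y
      · rw [hxy]
      let Q : PrimeSpectrum A := ⟨q, hq⟩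
      have hne : ∀ z : minimalPrimes A, z.1 ≤ q → z.1 ≠ q := by
        rintro z hz rfl
        apply hxy
        have h1 := le_antisymm hxq (z.2.2 x.2.1 hxq)
        have h2 := le_antisymm hyq (z.2.2 y.2.1 hyq)
        exact Subtype.ext (h1.trans h2.symm)
      have hcov : ∀ z : minimalPrimes A, z.1 ≤ q → (⟨z.1, z.2.1.1⟩ : PrimeSpectrum A) ⋖ Q := by
        intro z hz
        refine ⟨lt_of_le_of_ne hz (fun he => hne z hz (congrArg PrimeSpectrum.asIdeal he)), fun r h1 h2 => ?_⟩
        haveI := z.2.1.1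
        have h1' : z.1 < r.asIdeal := h1
        have h2' : r.asIdeal < q := h2
        have e1 := Ideal.height_add_one_le_of_lt_of_isPrime h1'
        have e2 := Ideal.height_add_one_le_of_lt_of_isPrime h2'
        have e3 : (1 : ℕ∞) + 1 + 1 ≤ (2 : ℕ) :=
          (add_le_add ((add_le_add (le_trans le_add_self e1) le_rfl).trans e2) le_rfl).trans hht
        exact absurd e3 (by norm_num)
      rw [hcat _ Q (hcov x hxq), hcat _ Q (hcov y hyq)]
  haveI : Nonempty (PrimeSpectrum A) := ⟨⟨p, hp.1.1⟩⟩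
  rw [CatLib.ringKrullDim_quotient_eq_coheight ⟨p, hp.1.1⟩, ringKrullDim,
    Order.krullDim_eq_iSup_coheight_of_nonempty]
  refine WithBot.coe_inj.2 (le_antisymm (le_iSup (fun q : PrimeSpectrum A => Order.coheight q) _) (iSup_le fun q => ?_))
  obtain ⟨P, hP, hle⟩ := Ideal.exists_minimalPrimes_le (bot_le : (⊥ : Ideal A) ≤ q.asIdeal)
  rw [heq ⟨p, hp⟩ ⟨P, hP⟩]
  exact Order.coheight_anti (show (⟨P, hP.1.1⟩ : PrimeSpectrum A) ≤ q from hle)

end Groth.Agent.S5154
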