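import Groth.Statements.S5156
import Mathlib
import Groth.Agent.MatlisLib.Change

set_option autoImplicit false
universe u
open Matlis

namespace Groth.Agent.S5156

/-- Let A and B be Noetherian local rings with B a finite A-algebra, and E an injective hull of the
residue field of A (a dualizing module for A). Then Hom_A(B, E), as a B-module through the action on
the source, is an injective hull of the residue field of B (a dualizing module for B). -/
theorem result (A B : Type u) [CommRing A] [IsLocalRing A] [IsNoetherianRing A] [CommRing B] [IsLocalRing B] [IsNoetherianRing B] [Algebra A B] [Module.Finite A B] (E : Type u) [AddCommGroup E] [Module A E] (f : IsLocalRing.ResidueField A →ₗ[A] E) (hf : InjHull.IsInjectiveHull f) : ∃ g : IsLocalRing.ResidueField B →ₗ[B] (ModuleCat.coextendScalars (algebraMap A B)).obj (ModuleCat.of A E), InjHull.IsInjectiveHull g := by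
  let W := (ModuleCat.coextendScalars (algebraMap A B)).obj (ModuleCat.of A E)
  let toL : W → (B →ₗ[A] E) := fun w =>
    { toFun := fun b => ModuleCat.CoextendScalars.equiv (algebraMap A B) _ w b
      map_add' := fun b b' => map_add _ b b'
      map_smul' := fun a b => by
        rw [Algebra.smul_def]
        exact (ModuleCat.CoextendScalars.equiv (algebraMap A B) (ModuleCat.of A E) w).map_smul a b }
  let ev : W →+ E :=
    { toFun := fun w => toL w 1, map_zero' := rfl, map_add' := fun _ _ => rfl }
  have hev : ∀ (b : B) (w : W), ev (b • w) = toL w b := fun b w => congrArg (toL w) (one_mul b)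
  refine Groth.Agent.MatlisLib.exists_hull_coinduced hf W ev (fun a w => ?_) (fun φ => ?_) fun w h => ?_
  · rw [hev, Algebra.algebraMap_eq_smul_one, map_smul]; rfl
  · exact ⟨(ModuleCat.CoextendScalars.equiv (algebraMap A B) (ModuleCat.of A E)).symm
      { toFun := φ, map_add' := map_add φ, map_smul' := fun a (b : B) => (congrArg φ (Algebra.smul_def a b).symm).trans (φ.map_smul a b) },
      fun b => hev b _⟩
  · exact ModuleCat.CoextendScalars.ext (LinearMap.ext fun b => (hev b w).symm.trans (h b))

end Groth.Agent.S5156
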