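import Groth.Statements.S5159
import Groth.Agent.DualCxLib.Shift
import Groth.Agent.LocCohLib.ExtComp
-- Template for statement S5159 (row 5158; see the milestone table for weights).
-- Copy to Groth/Agent/S5159.lean and replace the sorry. The statement below is byte-identical to the frozen
-- statement Dual.GrothFrozen.S5159 (Groth/Statements/S5159.lean; the theorem Dual.ext_regular_local_vanishing_and_length);
-- the grader kernel-checks Groth.Agent.S5159.result against that frozen type. Keep the theorem IN THIS FILE
-- (a `result` declared elsewhere and merely imported here is not credited); helpers may live anywhere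
-- under Groth/Agent/.
-- helpers: DualCxLib

set_option autoImplicit false
universe u
open CategoryTheory Opposite
open Dual Groth.Agent.DualCxLib

namespace Groth.Agent.S5159

/-- Let A be a regular local ring of dimension n and M an A-module of finite length. Then Ext^i_A(M, A)
= 0 for i ≠ n and length Ext^n_A(M, A) = length M (the functor Ext^n_A(−, A) is dualizing). -/
theorem result (A : Type u) [CommRing A] [IsRegularLocalRing A] (n : ℕ) (hn : ringKrullDim A = n) (M : Type u) [AddCommGroup M] [Module A M] (hM : IsFiniteLength A M) : (∀ i : ℕ, i ≠ n → Subsingleton (((Ext A (ModuleCat.{u} A) i).obj (op (ModuleCat.of A M))).obj (ModuleCat.of A A))) ∧ Module.length A (((Ext A (ModuleCat.{u} A) n).obj (op (ModuleCat.of A M))).obj (ModuleCat.of A A)) = Module.length A M := by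
  have hω := isDualizing_self_shift (A := A) n
  have hnn := isNormalized_self_shift (A := A) n hn
  obtain ⟨hfin, htor⟩ := torsion_of_isFiniteLength hM
  refine ⟨fun i hi => ?_, ?_⟩
  · haveI := subsingleton_HK_of_torsion hω hnn htor (show (i : ℤ) - n ≠ 0 by omega)
    haveI h1 : Subsingleton (HK (Dual.inD A A) (i : ℤ) M) := by
      have h2 := (hkShift (Dual.inD A A) (n : ℤ) ((i : ℤ) - n) M).symm.injective.subsingleton
      rwa [show (n : ℤ) + ((i : ℤ) - n) = i by ring] at h2
    haveI := (subsingleton_HK_inD_iff M A i).1 h1
    exact (Groth.Agent.LocCohLib.extComp (ModuleCat.of A M) (ModuleCat.of A A) i).injective.subsingleton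
  · let S := model hω
    obtain ⟨s, hs⟩ := S.exists_hull_E0 hω hnn
    rw [← Groth.Agent.InjHullLib.length_dual hs hM, ← (S.equivE0 hω hnn htor).length_eq]
    exact ((extEquiv n 0 (Nat.zero_le n) M).trans
      (Groth.Agent.LocCohLib.extComp (ModuleCat.of A M) (ModuleCat.of A A) (n - 0)).symm).length_eq.symm

end Groth.Agent.S5159
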