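import Groth.Statements.S5160
import Groth.Agent.DualCxLib.Shift
import Groth.Agent.LocCohLib.ExtComp
-- Template for statement S5160 (row 5159; see the milestone table for weights).
-- Copy to Groth/Agent/S5160.lean and replace the sorry. The statement below is byte-identical to the frozen
-- statement Dual.GrothFrozen.S5160 (Groth/Statements/S5160.lean; the theorem Dual.exists_isInjectiveHull_localCohomology_top_of_regular);
-- the grader kernel-checks Groth.Agent.S5160.result against that frozen type. Keep the theorem IN THIS FILE
-- (a `result` declared elsewhere and merely imported here is not credited); helpers may live anywhere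
-- under Groth/Agent/.
-- helpers: DualCxLib

set_option autoImplicit false
universe u
open Dual Groth.Agent.DualCxLib

namespace Groth.Agent.S5160

/-- Let A be a regular local ring of dimension n with maximal ideal m. Then the local cohomology module
H^n_m(A), the direct limit of the Ext^n_A(A/m^r, A), is an injective hull of the residue field (it
is the dualizing module of A). -/
theorem result (A : Type u) [CommRing A] [IsRegularLocalRing A] (n : ℕ) (hn : ringKrullDim A = n) : ∃ f : IsLocalRing.ResidueField A →ₗ[A] LocCoh.H (IsLocalRing.maximalIdeal A) n A, InjHull.IsInjectiveHull f := by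
  have hω := isDualizing_self_shift (A := A) n
  have hnn := isNormalized_self_shift (A := A) n hn
  let S := model hω
  obtain ⟨s, hs⟩ := S.exists_hull_E0 hω hnn
  let φ := LinearEquiv.ofBijective _
    (S.bijective_phi hω hnn (LinearEquiv.refl A _) hs n A (-(n : ℤ)) (neg_add_cancel _))
  have h0 : Nonempty (HK ((Dual.inD A A)⟦(n : ℤ)⟧) (-(n : ℤ)) A ≃ₗ[A]
      CategoryTheory.Abelian.Ext.{u} (ModuleCat.of A A) (ModuleCat.of A A) 0) := by
    have h := extEquiv (A := A) n n le_rfl A
    rw [Nat.sub_self] at h
    exact ⟨h⟩
  obtain ⟨t⟩ := h0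
  let Φ : LocCoh.H (IsLocalRing.maximalIdeal A) n A ≃ₗ[A] S.E0 :=
    φ.trans ((((t.trans CategoryTheory.Abelian.Ext.linearEquiv₀).trans ModuleCat.homLinearEquiv).trans
      (LinearMap.ringLmapEquivSelf A A A)).congrLeft S.E0 A |>.trans (LinearMap.ringLmapEquivSelf A A S.E0))
  refine ⟨Φ.symm.toLinearMap ∘ₗ s,
    { injective := Φ.symm.injective.comp hs.injective
      essential := fun N hN h => hs.essential (N.map Φ.toLinearMap) ?_ ?_
      isInjective := ?_ }⟩
  · rw [ne_eq, Submodule.map_eq_bot_iff] at *
    intro hb
    exact hN hb
  · rw [eq_bot_iff]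
    rintro x ⟨⟨y, hy, rfl⟩, z, hz⟩
    have : y ∈ N ⊓ LinearMap.range (Φ.symm.toLinearMap ∘ₗ s) :=
      ⟨hy, z, (congrArg Φ.symm hz).trans (Φ.symm_apply_apply y)⟩
    rw [h] at this
    rw [(Submodule.mem_bot A).1 this, map_zero]
    exact zero_mem _
  · haveI := hs.isInjective
    exact Groth.Agent.InjHullLib.injective_of_retract Φ.toLinearMap Φ.symm.toLinearMap
      (LinearMap.ext Φ.symm_apply_apply)

end Groth.Agent.S5160
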