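import Groth.Statements.S5162
import Mathlib
import Groth.Agent.LocCohLib.TopExt


set_option autoImplicit false
universe u
open CategoryTheory
open LocCoh

namespace Groth.Agent.S5162

open CategoryTheory CategoryTheory.Limits AlgebraicGeometry

open CategoryTheory in
lemma ext_of_H {A : Type u} [CommRing A] [IsNoetherianRing A] {J : Ideal A} (G : ModuleCat.{u} A) (n : ℕ)
    (h : ∀ i : ℕ, i < n → Subsingleton ((localCohomology J i).obj G : Type u)) :
    ∀ i : ℕ, i < n → ∀ (F : Type u) [AddCommGroup F] [Module A F], Module.Finite A F → (∃ k, LocCohLib.KilledBy J k F) →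
      Subsingleton (Abelian.Ext.{u} (ModuleCat.of A F) G i) := by
  intro i
  induction i with
  | zero =>
    intro hi F _ _ hfin hk
    haveI := hfin
    obtain ⟨k, hk⟩ := hk
    have hV : LocCohLib.Van J G 0 := fun _ _ _ _ _ j hj => absurd hj (Nat.succ_ne_zero j)
    obtain ⟨e⟩ := LocCohLib.nonempty_ext_equiv_hom hV hk
    haveI := h 0 hi
    exact e.toEquiv.subsingleton
  | succ i ih =>
    intro hi F _ _ hfin hk
    haveI := hfin
    obtain ⟨k, hk⟩ := hk
    have hV : LocCohLib.Van J G (i + 1) := fun F' _ _ hf hk' j hj => by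
      obtain rfl : j = i := by omega
      exact ih (by omega) F' hf hk'
    obtain ⟨e⟩ := LocCohLib.nonempty_ext_equiv_hom hV hk
    haveI := h (i + 1) hi
    exact e.toEquiv.subsingleton

open CategoryTheory in
lemma H_of_ext {A : Type u} [CommRing A] [IsNoetherianRing A] {J : Ideal A} (G : ModuleCat.{u} A) (n : ℕ)
    (F : Type u) [AddCommGroup F] [Module A F] [Module.Finite A F]
    (hF : Module.support A F = PrimeSpectrum.zeroLocus (J : Set A))
    (h : ∀ i : ℕ, i < n → Subsingleton (Abelian.Ext.{u} (ModuleCat.of A F) G i)) :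
    ∀ i : ℕ, i < n → Subsingleton ((localCohomology J i).obj G : Type u) := by
  intro i
  induction i using Nat.strong_induction_on with
  | _ i ih =>
    intro hi
    have hV : LocCohLib.Van J G i := fun F' _ _ hf hk' j hj =>
      ext_of_H G i (fun a ha => ih a ha (by omega)) j (by omega) F' hf hk'
    obtain ⟨k, hk⟩ := LocCohLib.exists_killedBy F hF.le
    obtain ⟨e⟩ := LocCohLib.nonempty_ext_equiv_hom hV hk
    haveI := h i hi
    exact LocCohLib.subsingleton_of_hom F _ hF.ge (LocCohLib.isPowerTorsion_H J i G) e.symm.toEquiv.subsingleton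

lemma support_quot {A : Type u} [CommRing A] (J : Ideal A) :
    Module.support A (A ⧸ J) = PrimeSpectrum.zeroLocus (J : Set A) := by
  rw [Module.support_eq_zeroLocus, Ideal.annihilator_quotient]


/-- The affine case. Let A be a Noetherian ring, J an ideal, G any A-module and n ≥ 0. Then: H^i_J(G) =
0 for all i < n iff Ext^i_A(F, G) = 0 for all i < n and all finite A-modules F with Supp F ⊆ V(J),
iff Ext^i_A(F, G) = 0 for all i < n for one finite F with Supp F = V(J). (G is not assumed finitely
generated.) -/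
theorem result (A : Type u) [CommRing A] [IsNoetherianRing A] (J : Ideal A) (G : Type u) [AddCommGroup G] [Module A G] (n : ℕ) : ((∀ i : ℕ, i < n → Subsingleton (LocCoh.H J i G)) ↔ ∀ (F : Type u) [AddCommGroup F] [Module A F], Module.Finite A F → Module.support A F ⊆ PrimeSpectrum.zeroLocus (J : Set A) → ∀ i : ℕ, i < n → Subsingleton (Abelian.Ext (ModuleCat.of A F) (ModuleCat.of A G) i)) ∧ ((∀ i : ℕ, i < n → Subsingleton (LocCoh.H J i G)) ↔ ∃ (F : Type u) (_ : AddCommGroup F) (_ : Module A F), Module.Finite A F ∧ Module.support A F = PrimeSpectrum.zeroLocus (J : Set A) ∧ ∀ i : ℕ, i < n → Subsingleton (Abelian.Ext (ModuleCat.of A F) (ModuleCat.of A G) i)) := by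
  have fwd : (∀ i : ℕ, i < n → Subsingleton (LocCoh.H J i G)) →
      ∀ (F : Type u) [AddCommGroup F] [Module A F], Module.Finite A F →
        Module.support A F ⊆ PrimeSpectrum.zeroLocus (J : Set A) →
        ∀ i : ℕ, i < n → Subsingleton (Abelian.Ext (ModuleCat.of A F) (ModuleCat.of A G) i) :=
    fun h F _ _ hfin hF i hi => by
      haveI := hfin
      exact ext_of_H (ModuleCat.of A G) n h i hi F hfin (LocCohLib.exists_killedBy F hF)
  refine ⟨⟨fwd, fun h => H_of_ext (ModuleCat.of A G) n (A ⧸ J) (support_quot J)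
      (h (A ⧸ J) inferInstance (support_quot J).le)⟩,
    ⟨fun h => ⟨A ⧸ J, inferInstance, inferInstance, inferInstance, support_quot J,
      fwd h (A ⧸ J) inferInstance (support_quot J).le⟩, ?_⟩⟩
  rintro ⟨F, _, _, hfin, hF, hF'⟩
  haveI := hfin
  exact H_of_ext (ModuleCat.of A G) n F hF hF'

end Groth.Agent.S5162
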