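import Groth.Statements.S5163
import Mathlib


set_option autoImplicit false
universe u
open LocCoh

namespace Groth.Agent.S5163

/-- For modules over a Noetherian ring. Let P be a finite A-module and H any A-module with Supp H ⊆ Supp
P. If Hom_A(P, H) = 0 then H = 0. (The published lemma is stated over an arbitrary prescheme; its
proof uses that a nonzero module has an associated prime, so the ring is taken Noetherian here.) -/
theorem result (A : Type u) [CommRing A] [IsNoetherianRing A] (P H : Type u) [AddCommGroup P] [Module A P] [Module.Finite A P] [AddCommGroup H] [Module A H] (hsupp : Module.support A H ⊆ Module.support A P) (hhom : Subsingleton (P →ₗ[A] H)) : Subsingleton H := by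
  classical
  by_contra hns
  haveI : Nontrivial H := not_subsingleton_iff_nontrivial.1 hns
  obtain ⟨p, hp⟩ := associatedPrimes.nonempty A H
  obtain ⟨hpp, h, hh⟩ := isAssociatedPrime_iff.1 hp
  haveI := hpp
  haveI : Module.IsTorsionBySet A (P ⧸ (p • ⊤ : Submodule A P)) p := Module.isTorsionBySet_quotient_ideal_smul P p
  let Q := P ⧸ (p • ⊤ : Submodule A P)
  have hann : ∀ a : A, a • h = 0 ↔ a ∈ p := fun a => by rw [hh]; simp [Submodule.mem_colon_singleton]
  have hps : (⟨p, hpp⟩ : PrimeSpectrum A) ∈ Module.support A P := hsupp (Module.mem_support_iff'.2 ⟨h, fun r hr h0 => hr ((hann r).1 h0)⟩)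
  have hq : (⟨p, hpp⟩ : PrimeSpectrum A) ∈ Module.support A Q := by
    rw [Module.support_quotient]
    exact ⟨hps, fun x hx => hx⟩
  obtain ⟨q, hq⟩ := Module.mem_support_iff'.1 hq
  let D := A ⧸ p
  let S := nonZeroDivisors D
  let K := Localization S
  let V := LocalizedModule S Q
  haveI : Field K := (inferInstance : Field (FractionRing D))
  let ι : Q →ₗ[D] V := LocalizedModule.mkLinearMap S Q
  have hne : ι q ≠ 0 := by
    intro h0
    obtain ⟨⟨c, hc⟩, hc0⟩ := (IsLocalizedModule.eq_zero_iff S ι).1 h0
    obtain ⟨c, rfl⟩ := Ideal.Quotient.mk_surjective c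
    exact hq c (fun hcp => nonZeroDivisors.ne_zero hc (Ideal.Quotient.eq_zero_iff_mem.2 hcp)) hc0
  obtain ⟨ψ, hψ⟩ := Module.Projective.exists_dual_ne_zero K hne
  let θ : Q →ₗ[D] K := (ψ.restrictScalars D).comp ι
  haveI : Module.Finite D Q := Module.Finite.of_restrictScalars_finite A D Q
  obtain ⟨s, hs⟩ := (inferInstance : Module.Finite D Q).fg_top
  obtain ⟨c, hc⟩ := IsLocalization.exist_integer_multiples_of_finset S (s.image θ)
  let L : Q →ₗ[D] LinearMap.range (Algebra.linearMap D K) := ((c : D) • θ).codRestrict _ fun x => by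
    have hx : x ∈ Submodule.span D (s : Set Q) := hs ▸ Submodule.mem_top
    induction hx using Submodule.span_induction with
    | mem y hy =>
      obtain ⟨d, hd⟩ := hc (θ y) (Finset.mem_image_of_mem θ hy)
      exact ⟨d, hd⟩
    | zero => rw [map_zero]; exact zero_mem _
    | add y z _ _ hy hz => rw [map_add]; exact add_mem hy hz
    | smul r y _ hy => rw [map_smul]; exact Submodule.smul_mem _ r hy
  let e := LinearEquiv.ofInjective (Algebra.linearMap D K) (IsFractionRing.injective D K)
  let φ : P →ₗ[A] D := ((e.symm.toLinearMap.comp L).restrictScalars A).comp (Submodule.mkQ _)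
  let ιH : D →ₗ[A] H := Submodule.liftQ p (LinearMap.toSpanSingleton A H h) fun a ha => (hann a).2 ha
  obtain ⟨q', rfl⟩ := Submodule.Quotient.mk_surjective _ q
  have h1 : ιH (φ q') = 0 := LinearMap.congr_fun (Subsingleton.elim (ιH.comp φ) 0) q'
  obtain ⟨d, hd⟩ := Ideal.Quotient.mk_surjective (φ q')
  have hd0 : φ q' = 0 := by
    rw [← hd] at h1 ⊢
    exact Ideal.Quotient.eq_zero_iff_mem.2 ((hann d).1 h1)
  have h2 : L (Submodule.Quotient.mk q') = 0 := e.symm.injective (hd0.trans (map_zero _).symm)
  have h3 : (c : D) • θ (Submodule.Quotient.mk q') = 0 := congrArg Subtype.val h2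
  rw [Algebra.smul_def, mul_eq_zero] at h3
  exact h3.elim (fun h0 => nonZeroDivisors.ne_zero c.2 (IsFractionRing.injective D K (h0.trans (map_zero _).symm))) hψ

end Groth.Agent.S5163
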