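import Groth.Statements.S5169
import Groth.Agent.KoszulCech.StableH

set_option autoImplicit false
universe u
open LocCoh

namespace Groth.Agent.S5169

/-- Which holds over a Noetherian ring by Lemmes 8 and 11. Let A be a Noetherian ring, f = (f_1, …, f_r)
elements of A and M an injective A-module. Then colim_n H^i(f^n, M) = 0 for every i > 0, where
H^i(f^n, M) is Koszul cohomology and the colimit is taken along the maps induced between the Koszul
complexes of the powers. -/
theorem result (A : Type u) [CommRing A] [IsNoetherianRing A] (fs : List A) (M : Type u) [AddCommGroup M] [Module A M] (hM : Module.Injective A M) (i : ℕ) (hi : 0 < i) : Subsingleton (CohIII.koszulHLim fs (ModuleCat.of A M) i) := by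
  haveI := hM
  obtain ⟨e⟩ := Groth.Agent.KoszulCech.nonempty_koszulHLim_St_equiv (ModuleCat.of A M) fs i
  haveI : Module.Injective A (ModuleCat.of A M) := hM
  haveI := Groth.Agent.KoszulCech.subsingleton_homology_of_injective (ModuleCat.of A M) fs
    ((i : ℤ) - fs.length) (by omega)
  exact e.toEquiv.subsingleton


end Groth.Agent.S5169
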