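import Groth.Statements.S5171
import Groth.Agent.GrKunnethLib.CM
import Groth.Agent.CAlgBasics.Depth

set_option autoImplicit false
universe u
open LocCoh

namespace Groth.Agent.S5171

open CategoryTheory CategoryTheory.Limits AlgebraicGeometry

open RingTheory.Sequence in
theorem vanish_of_smul_top_eq {A : Type u} [CommRing A] [IsNoetherianRing A] {J : Ideal A} {G : Type u} [AddCommGroup G]
    [Module A G] [Module.Finite A G] (h : J • (⊤ : Submodule A G) = ⊤) (i : ℕ) : Subsingleton (LocCoh.H J i G) := by
  obtain ⟨r, hr, hr0⟩ := Submodule.exists_sub_one_mem_and_smul_eq_zero_of_fg_of_le_smul J (⊤ : Submodule A G)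
    Module.Finite.fg_top h.ge
  have ha : 1 - r ∈ J := by rw [← neg_sub]; exact neg_mem hr
  have hact : ∀ x : G, (1 - r) • x = x := fun x => by rw [sub_smul, one_smul, hr0 x trivial, sub_zero]
  refine LocCohLib.subsingleton_of_isWeaklyRegular J (ModuleCat.of A G) (List.replicate (i + 1) (1 - r)) ?_
    (fun x hx => (List.eq_of_mem_replicate hx) ▸ ha) i (by simp)
  show IsWeaklyRegular G _
  rw [List.replicate_succ, isWeaklyRegular_cons_iff]
  refine ⟨fun x y hxy => by simpa only [hact] using hxy, ?_⟩
  haveI : Subsingleton (QuotSMulTop (1 - r) G) := Submodule.Quotient.subsingleton_iff.2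
    (eq_top_iff.2 fun x _ => (hact x) ▸ Submodule.smul_mem_pointwise_smul x _ _ trivial)
  induction i with
  | zero => exact IsWeaklyRegular.nil _ _
  | succ k ih =>
    rw [List.replicate_succ, isWeaklyRegular_cons_iff]
    refine ⟨fun x y _ => Subsingleton.elim x y, ?_⟩
    exact (isWeaklyRegular_iff _ _).2 fun j hj x y _ => Subsingleton.elim x y


/-- Let A be a Noetherian ring, J an ideal, n ≥ 0 and G a finite Cohen–Macaulay A-module (each
localization G_p is zero or Cohen–Macaulay). Then H^i_J(G) = 0 for i < n if and only if codim(V(J) ∩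
Supp G, Supp G) ≥ n, i.e. dim Supp(G_p) ≥ n for every p ∈ V(J) ∩ Supp G. -/
theorem result (A : Type u) [CommRing A] [IsNoetherianRing A] (J : Ideal A) (G : Type u) [AddCommGroup G] [Module A G] [Module.Finite A G] (hCM : ∀ p : PrimeSpectrum A, Subsingleton (LocalizedModule p.asIdeal.primeCompl G) ∨ LocCoh.IsCohenMacaulayModule (Localization.AtPrime p.asIdeal) (LocalizedModule p.asIdeal.primeCompl G)) (n : ℕ) : (∀ i : ℕ, i < n → Subsingleton (LocCoh.H J i G)) ↔ ∀ p : PrimeSpectrum A, J ≤ p.asIdeal → p ∈ Module.support A G → (n : WithBot ℕ∞) ≤ Module.supportDim (Localization.AtPrime p.asIdeal) (LocalizedModule p.asIdeal.primeCompl G) := by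
  classical
  have key : (∀ i : ℕ, i < n → Subsingleton (LocCoh.H J i G)) ↔ (n : ℕ∞) ≤ LocCoh.idealDepth J G := by
    by_cases hJ : J • (⊤ : Submodule A G) = ⊤
    · rw [LocCoh.idealDepth, if_pos hJ]
      exact iff_of_true (fun i _ => vanish_of_smul_top_eq hJ i) le_top
    · exact (GrKunnethLib.natCast_le_idealDepth_iff_H hJ n).symm
  rw [key, QGorLib.le_idealDepth_iff_forall]
  refine forall_congr' fun p => forall_congr' fun hp => ?_
  rcases hCM p with hsub | hcm
  · haveI := hsub
    refine iff_of_true (by rw [CAlgBasics.depth_eq_top]; exact le_top) fun hs => ?_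
    exact absurd hsub (not_subsingleton_iff_nontrivial.2 (Module.mem_support_iff.1 hs))
  · unfold LocCoh.IsCohenMacaulayModule at hcm
    refine ⟨fun h _ => by rw [hcm]; exact_mod_cast h, fun h => ?_⟩
    rcases subsingleton_or_nontrivial (LocalizedModule p.asIdeal.primeCompl G) with hs | hs
    · haveI := hs
      rw [CAlgBasics.depth_eq_top]; exact le_top
    · have h' := h (Module.mem_support_iff.2 hs)
      rw [hcm] at h'
      exact_mod_cast h' 

end Groth.Agent.S5171
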