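import Groth.Statements.S5175
import Mathlib
import Groth.Agent.InjHullLib.Matlis

set_option autoImplicit false
universe u
open Matlis

namespace Groth.Agent.S5175

open CategoryTheory in
/-- Vector spaces are injective modules. -/
lemma injective_self (k₀ : Type u) [Field k₀] : CategoryTheory.Injective (ModuleCat.of k₀ k₀) := by
  have : Module.Injective k₀ k₀ := Module.Baer.injective fun I g => by
    rcases Ideal.eq_bot_or_top I with rfl | rfl
    · exact ⟨0, fun a ha => by
        rw [LinearMap.zero_apply, show (⟨a, ha⟩ : (⊥ : Ideal k₀)) = 0 from Subtype.ext ((Submodule.mem_bot k₀).1 ha),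
          map_zero]⟩
    · exact ⟨g ∘ₗ LinearMap.codRestrict ⊤ LinearMap.id fun _ => Submodule.mem_top, fun a ha => rfl⟩
  exact Module.injective_object_of_injective_module k₀ k₀


/-- Let k₀ be a field and A a Noetherian local k₀-algebra with [k : k₀] finite, k the residue field.
Then the topological dual A' = colim_n Hom_{k₀}(A/m^n, k₀), i.e. the submodule of Hom_{k₀}(A, k₀) of
forms killing some power of m (A acting through the source), is an injective hull of k (it is the
dualizing module of A). -/
theorem result (k₀ : Type u) [Field k₀] (A : Type u) [CommRing A] [IsLocalRing A] [IsNoetherianRing A] [Algebra k₀ A] [Module.Finite k₀ (A ⧸ IsLocalRing.maximalIdeal A)] : ∃ f : IsLocalRing.ResidueField A →ₗ[A] ↥(⨆ n : ℕ, Submodule.torsionBySet A ((ModuleCat.coextendScalars (algebraMap k₀ A)).obj (ModuleCat.of k₀ k₀)) ((IsLocalRing.maximalIdeal A ^ n : Ideal A) : Set A)), InjHull.IsInjectiveHull f := by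
  classical
  let m := IsLocalRing.maximalIdeal A
  let C := (ModuleCat.coextendScalars (algebraMap k₀ A)).obj (ModuleCat.of k₀ k₀)
  have hC : Module.Injective A C := by
    have := (ModuleCat.restrictCoextendScalarsAdj.{u} (algebraMap k₀ A)).map_injective _ (injective_self k₀)
    have : CategoryTheory.Injective (ModuleCat.of A C) := this
    exact Module.injective_module_of_injective_object A C
  let T : Submodule A C := ⨆ n : ℕ, Submodule.torsionBySet A C ((m ^ n : Ideal A) : Set A)
  have hT : Module.Injective A T := Groth.Agent.InjHullLib.injective_torsion C m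
  have htor : LocCoh.IsPowerTorsion m T := fun x => by
    obtain ⟨n, hn⟩ := (Groth.Agent.InjHullLib.mem_iSup_torsion m _).1 x.2
    exact ⟨n, fun a ha => Subtype.ext (hn a ha)⟩
  let : Field (A ⧸ m) := Ideal.Quotient.field m
  obtain ⟨lam, hlam⟩ := Module.Projective.exists_dual_eq_one k₀ (one_ne_zero (α := A ⧸ m))
  -- the form `a ↦ λ (a c)`
  let L : (A ⧸ m) → (A →ₗ[k₀] k₀) := fun c =>
    lam ∘ₗ LinearMap.mulRight k₀ c ∘ₗ (Ideal.Quotient.mkₐ k₀ m).toLinearMap
  let φ : (A ⧸ m) → C := fun c => (ModuleCat.CoextendScalars.equiv (algebraMap k₀ A) (ModuleCat.of k₀ k₀)).symm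
    { toFun := L c
      map_add' := (L c).map_add
      map_smul' := fun r (a : A) => by
        change L c (algebraMap k₀ A r * a) = r • L c a
        rw [← Algebra.smul_def, map_smul] }
  have hval : ∀ c (a : A), φ c a = lam (Ideal.Quotient.mk m a * c) := fun c a => rfl
  have hext : ∀ g g' : C, (∀ a : A, g a = g' a) → g = g' := fun g g' h =>
    ModuleCat.CoextendScalars.ext (LinearMap.ext h)
  have hsmul : ∀ (r : A) (g : C) (a : A), (r • g) a = g (a * r) := fun r g a => rfl
  have hmem : ∀ c, φ c ∈ T := fun c => (Groth.Agent.InjHullLib.mem_iSup_torsion m _).2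
    ⟨1, fun r hr => hext _ _ fun a => by
      have hr' : a * r ∈ m := m.mul_mem_left a (by rwa [pow_one] at hr)
      change φ c (a * r) = (0 : k₀)
      rw [hval, Ideal.Quotient.eq_zero_iff_mem.2 hr', zero_mul, map_zero]⟩
  let s : IsLocalRing.ResidueField A →ₗ[A] T :=
    { toFun := fun c : A ⧸ m => ⟨φ c, hmem c⟩
      map_add' := fun c d : A ⧸ m => Subtype.ext (hext _ _ fun a => by
        change φ (c + d) a = φ c a + φ d a
        simp only [hval, mul_add, map_add])
      map_smul' := fun r (c : A ⧸ m) => Subtype.ext (hext _ _ fun a => by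
        change φ (r • c) a = (r • φ c) a
        rw [hsmul, hval, hval, Algebra.smul_def, Ideal.Quotient.algebraMap_eq, (Ideal.Quotient.mk m).map_mul, mul_assoc]) }
  have hinj : Function.Injective s := (injective_iff_map_eq_zero s).2 fun c hc => by
    have hc' : φ (show A ⧸ m from c) = 0 := congrArg Subtype.val hc
    change (show A ⧸ m from c) = 0
    generalize (show A ⧸ m from c) = d at hc'
    by_contra hne
    obtain ⟨a, ha⟩ := Ideal.Quotient.mk_surjective d⁻¹
    have h1 : φ d a = 1 := by rw [hval, ha, inv_mul_cancel₀ hne, hlam]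
    rw [hc'] at h1
    exact zero_ne_one h1
  refine ⟨s, { toIsEssentialInj := Groth.Agent.InjHullLib.isEssentialInj_of_socle htor hinj fun x hx => ?_
               isInjective := hT }⟩
  have hker : ∀ a ∈ m, (x : C) a = (0 : k₀) := fun a ha => by
    have := congrArg (fun y : T => (y : C) (1 : A)) (hx a ha)
    rwa [Submodule.coe_smul, hsmul, one_mul] at this
  let μ : Module.Dual k₀ (A ⧸ m) := Submodule.liftQ (m.restrictScalars k₀)
    ({ toFun := fun a => (x : C) a
       map_add' := fun a b => (ModuleCat.CoextendScalars.equiv (algebraMap k₀ A) (ModuleCat.of k₀ k₀) x.1).map_add a b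
       map_smul' := fun r a => by
        rw [Algebra.smul_def]
        exact (ModuleCat.CoextendScalars.equiv (algebraMap k₀ A) (ModuleCat.of k₀ k₀) x.1).map_smul r a } :
      A →ₗ[k₀] k₀) hker
  let Ψ : (A ⧸ m) →ₗ[k₀] Module.Dual k₀ (A ⧸ m) := (LinearMap.llcomp k₀ (A ⧸ m) (A ⧸ m) k₀ lam) ∘ₗ LinearMap.mul k₀ (A ⧸ m)
  have hΨ : ∀ c y, Ψ c y = lam (c * y) := fun c y => rfl
  have hΨinj : Function.Injective Ψ := (injective_iff_map_eq_zero Ψ).2 fun c hc => by
    by_contra hne
    have := LinearMap.congr_fun hc c⁻¹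
    rw [hΨ, mul_inv_cancel₀ hne, hlam, LinearMap.zero_apply] at this
    exact one_ne_zero this
  obtain ⟨c, hc⟩ := (LinearMap.injective_iff_surjective_of_finrank_eq_finrank Subspace.dual_finrank_eq.symm).1 hΨinj μ
  refine ⟨c, Subtype.ext (hext _ _ fun a => ?_)⟩
  change φ c a = (x : C) a
  rw [hval, mul_comm, ← hΨ, hc]
  rfl

end Groth.Agent.S5175
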