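import Groth.Statements.S5178
import Groth.Agent.CIDevLib.Edim
import Groth.Agent.DeformLib.FlatLift
import Groth.Agent.GorLib.Heights


set_option autoImplicit false
universe u
open CInt

namespace Groth.Agent.S5178

open CategoryTheory CategoryTheory.Limits AlgebraicGeometry

theorem le_dim {B : Type u} [CommRing B] [IsRegularLocalRing B] (I : Ideal B) (hI : I ≠ ⊤) {d e : ℕ}
    (hd : ringKrullDim (B ⧸ I) = (d : WithBot ℕ∞)) (he : ringKrullDim B = (e : WithBot ℕ∞)) :
    e ≤ d + I.spanFinrank := by
  have h := ringKrullDim_le_ringKrullDim_quotient_add_spanFinrank I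
    ((IsLocalRing.le_maximalIdeal hI).trans (IsLocalRing.ringJacobson_eq_maximalIdeal (R := B)).ge)
  rw [hd, he] at h
  exact_mod_cast h


/-- Let A be a Noetherian local ring of dimension d, and let the completion of A be presented as B/I
with B a regular local ring of dimension e and I an ideal whose minimal number of generators is q,
so that e − q is the geometric depth of A (this number does not depend on the presentation). Then e
− q ≤ d, and equality holds if and only if A is a complete intersection, i.e. its completion is a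
regular local ring modulo an ideal generated by a regular sequence. -/
theorem result (A : Type u) [CommRing A] [IsLocalRing A] [IsNoetherianRing A] (B : Type u) [CommRing B] [IsRegularLocalRing B] (I : Ideal B) (hpres : Nonempty (AdicCompletion (IsLocalRing.maximalIdeal A) A ≃+* B ⧸ I)) (d e : ℕ) (hd : ringKrullDim A = (d : WithBot ℕ∞)) (he : ringKrullDim B = (e : WithBot ℕ∞)) : (e : ℤ) - (I.spanFinrank : ℤ) ≤ (d : ℤ) ∧ ((e : ℤ) - (I.spanFinrank : ℤ) = (d : ℤ) ↔ Pi1.IsCompleteIntersection A) := by
  obtain ⟨φ⟩ := hpres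
  have hm : IsLocalRing.maximalIdeal A ≠ ⊤ := (IsLocalRing.maximalIdeal.isMaximal A).ne_top
  haveI := RegLocal.isLocalRing_completion A _ hm
  haveI : Nontrivial (B ⧸ I) := φ.symm.toEquiv.nontrivial
  have hI : I ≠ ⊤ := Ideal.Quotient.nontrivial_iff.1 inferInstance
  have hdI : ringKrullDim (B ⧸ I) = (d : WithBot ℕ∞) := by
    rw [← ringKrullDim_eq_of_ringEquiv φ, ← hd]
    exact RegLocal.ringKrullDim_completion A _ hm
  have hle := le_dim I hI hdI he
  refine ⟨by omega, fun h => ?_, ?_⟩
  · haveI : LocCoh.IsCohenMacaulayLocalRing B := GorLib.isCohenMacaulay B (GorLib.gorensteinLocal_of_regular B)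
    obtain ⟨s, hs, hsp⟩ := Submodule.FG.exists_span_finset_card_eq_spanFinrank I.fg_of_isNoetherianRing
    have hof : Ideal.ofList s.toList = I := by
      rw [Ideal.ofList]
      simp only [Finset.mem_toList]
      exact hsp
    have hmem : ∀ r ∈ s.toList, r ∈ IsLocalRing.maximalIdeal B := fun r hr =>
      IsLocalRing.le_maximalIdeal hI (hof ▸ Ideal.subset_span hr)
    have hw := DeformLib.isWeaklyRegular_of_ringKrullDim s.toList hmem (by
      rw [hof, hdI, he, Finset.length_toList, hs]
      exact_mod_cast (by omega : d + I.spanFinrank = e))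
    refine ⟨B, inferInstance, inferInstance, s.toList, hmem, ⟨hw, ?_⟩, ⟨φ.trans (Ideal.quotEquivOfEq hof.symm)⟩⟩
    rw [hof, smul_eq_mul, Ideal.mul_top]
    exact hI.symm
  · rintro ⟨B', _, _, rs, hmem, hreg, ⟨ψ⟩⟩
    let J : Ideal B' := Ideal.span {r | r ∈ rs}
    have hJ : J ≠ ⊤ := fun h => (IsLocalRing.maximalIdeal.isMaximal B').ne_top
      (top_le_iff.1 (h ▸ Ideal.span_le.2 hmem))
    obtain ⟨e', he'⟩ := RegLocal.exists_nat_ringKrullDim B'
    obtain ⟨x, hx⟩ := Groth.Agent.RegLocal.exists_generators (R := A)
    have h1 := CIDevLib.sub_spanFinrank_of_completion x hx rfl B I ⟨φ⟩ e he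
    have h2 := CIDevLib.sub_spanFinrank_of_completion x hx rfl B' J ⟨ψ⟩ e' he'
    have hdJ : ringKrullDim (B' ⧸ J) = (d : WithBot ℕ∞) := by
      rw [← ringKrullDim_eq_of_ringEquiv ψ, ← hd]
      exact RegLocal.ringKrullDim_completion A _ hm
    have hlen : d + rs.length = e' := by
      have h := ringKrullDim_add_length_eq_ringKrullDim_of_isRegular rs hreg
      rw [show Ideal.ofList rs = J from rfl, hdJ, he'] at h
      exact_mod_cast h
    have hq : J.spanFinrank ≤ rs.length := by
      classical
      refine (Submodule.spanFinrank_span_le_ncard_of_finite (s := {r : B' | r ∈ rs}) rs.finite_toSet).trans ?_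
      rw [show {r : B' | r ∈ rs} = (rs.toFinset : Set B') from by ext r; simp, Set.ncard_coe_finset]
      exact rs.toFinset_card_le
    have hle' := le_dim J hJ hdJ he'
    omega


end Groth.Agent.S5178
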