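import Groth.Statements.S5181
import Groth.Agent.FEtDepthLib.Converse
import Groth.Agent.EtH1Lib.Torsor

set_option autoImplicit false
universe u
open CategoryTheory CategoryTheory.Limits AlgebraicGeometry Opposite
open EtDepth

namespace Groth.Agent.S5181

/-- Last assertion, in the cases of depth ≥ 1 and depth ≥ 2. Let X be a scheme and j : U → X an open
immersion with closed complement Y; for X' étale over X write U' = X' ×_X U. Then (a) the Y-étale
depth of X is ≥ 1, i.e. the local cohomology sheaf H^0_Y(Z/ℓ) vanishes for every prime ℓ, if and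
only if for every scheme X' étale over X the restriction functor from finite étale covers of X' to
finite étale covers of U' is faithful; and (b) the Y-étale depth of X is ≥ 2, i.e. H^0_Y(Z/ℓ) and
H^1_Y(Z/ℓ) vanish for every prime ℓ, if and only if for every scheme X' étale over X that
restriction functor is full and faithful. (The case of depth ≥ 3 versus equivalences is the
prelude's definition of homotopic depth ≥ 3.) -/
theorem result {X U : Scheme.{u}} (j : U ⟶ X) [IsOpenImmersion j] [EtCoh.BCCont j] : ((∀ ℓ : ℕ, ℓ.Prime → EtDepth.DepthGE j (EtCoh.const X (ZMod ℓ)) 1) ↔ ∀ (X' : Scheme.{u}) (g : X' ⟶ X) [Etale g], (FEt.restrict (pullback.snd j g)).Faithful) ∧ ((∀ ℓ : ℕ, ℓ.Prime → EtDepth.DepthGE j (EtCoh.const X (ZMod ℓ)) 2) ↔ ∀ (X' : Scheme.{u}) (g : X' ⟶ X) [Etale g], (FEt.restrict (pullback.snd j g)).Full ∧ (FEt.restrict (pullback.snd j g)).Faithful) := by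
  have flc : ∀ ℓ : ℕ, ℓ.Prime → EtCoh.IsFiniteLocallyConstant (EtCoh.const X (ZMod ℓ)) := fun ℓ hℓ => by
    haveI : NeZero ℓ := ⟨hℓ.ne_zero⟩
    exact Groth.Agent.EtH1Lib.isFiniteLocallyConstant_const (ZMod ℓ)
  refine ⟨⟨fun h X' g hg => ?_, fun h ℓ hℓ => ?_⟩, ⟨fun h X' g hg => ?_, fun h ℓ hℓ => ?_⟩⟩
  · exact Groth.Agent.FEtDepthLib.faithful_of_meets j (Groth.Agent.FEtDepthLib.meets_of_mono j
      (((Groth.Agent.EtDepthLib.depthGE_iff j _ 1).1 (h 2 Nat.prime_two)).1 le_rfl)) X' g
  · refine (Groth.Agent.EtDepthLib.depthGE_iff j _ 1).2 ⟨fun _ => ?_, fun h2 => absurd h2 (by norm_num), fun q hq hqn => ?_⟩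
    · exact Groth.Agent.FEtDepthLib.mono_unit_of_meets j (Groth.Agent.FEtDepthLib.meets_of_faithful j h) (flc ℓ hℓ)
    · exfalso; omega
  · obtain ⟨h1, h2, -⟩ := (Groth.Agent.EtDepthLib.depthGE_iff j _ 2).1 (h 2 Nat.prime_two)
    have hm := Groth.Agent.FEtDepthLib.meets_of_mono j (h1 (by norm_num))
    exact ⟨Groth.Agent.FEtDepthLib.full_of_descends j hm
      (Groth.Agent.FEtDepthLib.descends_of_iso j (h2 le_rfl)) X' g,
      Groth.Agent.FEtDepthLib.faithful_of_meets j hm X' g⟩
  · have hm := Groth.Agent.FEtDepthLib.meets_of_faithful j fun X' g _ => (h X' g).2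
    refine (Groth.Agent.EtDepthLib.depthGE_iff j _ 2).2 ⟨fun _ => Groth.Agent.FEtDepthLib.mono_unit_of_meets j hm (flc ℓ hℓ),
      fun _ => Groth.Agent.FEtDepthLib.isIso_unit_of_descends j hm
        (Groth.Agent.FEtDepthLib.descends_of_full j fun X' g _ => (h X' g).1) (flc ℓ hℓ), fun q hq hqn => ?_⟩
    exfalso; omega

end Groth.Agent.S5181
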