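import Groth.Statements.S5182
import Mathlib

set_option autoImplicit false
universe u
open CInt

namespace Groth.Agent.S5182

open CategoryTheory CategoryTheory.Limits AlgebraicGeometry


open RingTheory.Sequence Pointwise

variable {A : Type u} [CommRing A] (J : Ideal A) {M : Type u} [AddCommGroup M] [Module A M]

/-- The `j`-th graded piece. -/
abbrev Gr (M : Type u) [AddCommGroup M] [Module A M] (j : ℕ) : Type u :=
  ↥(J ^ j • ⊤ : Submodule A M) ⧸ (J • (⊤ : Submodule A ↥(J ^ j • ⊤ : Submodule A M)))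

lemma map_smul_top (j : ℕ) :
    Submodule.map (J ^ j • ⊤ : Submodule A M).subtype (J • ⊤) = J ^ (j + 1) • ⊤ := by
  rw [Submodule.map_smul'', Submodule.map_top, Submodule.range_subtype, ← Submodule.mul_smul, ← pow_succ']

lemma mk_eq_zero_iff (j : ℕ) (x : ↥(J ^ j • ⊤ : Submodule A M)) :
    (Submodule.Quotient.mk x : Gr J M j) = 0 ↔ (x : M) ∈ (J ^ (j + 1) • ⊤ : Submodule A M) := by
  rw [Submodule.Quotient.mk_eq_zero, ← map_smul_top]
  exact ⟨fun h => ⟨x, h, rfl⟩, fun ⟨y, hy, e⟩ => Subtype.ext (a1 := y) (a2 := x) e ▸ hy⟩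

lemma mem_of_smul_mem {f : A} (hf : ∀ j, IsSMulRegular (Gr J M j) f) {z : M} :
    ∀ i : ℕ, f • z ∈ (J ^ i • ⊤ : Submodule A M) → z ∈ (J ^ i • ⊤ : Submodule A M) := by
  intro i
  induction i with
  | zero => intro; rw [pow_zero, Ideal.one_eq_top, Submodule.top_smul]; trivial
  | succ i ih =>
    intro h
    have hz : z ∈ (J ^ i • ⊤ : Submodule A M) :=
      ih (Submodule.smul_mono_left (Ideal.pow_le_pow_right i.le_succ) h)
    refine (mk_eq_zero_iff J i ⟨z, hz⟩).mp (hf i ?_)
    show f • (Submodule.Quotient.mk ⟨z, hz⟩ : Gr J M i) = f • 0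
    rw [smul_zero, ← Submodule.Quotient.mk_smul, mk_eq_zero_iff]
    exact h

/-- The map on graded pieces to the quotient by `f`. -/
noncomputable def grMap (f : A) (j : ℕ) : Gr J M j →ₗ[A] Gr J (QuotSMulTop f M) j :=
  Submodule.mapQ _ _ ((Submodule.mkQ (f • ⊤ : Submodule A M)).restrict fun x hx => by
      have h2 : (Submodule.mkQ (f • ⊤ : Submodule A M)) x ∈
          Submodule.map (Submodule.mkQ (f • ⊤ : Submodule A M)) (J ^ j • ⊤) := ⟨x, hx, rfl⟩
      rwa [Submodule.map_smul'', Submodule.map_top, Submodule.range_mkQ] at h2) (by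
    intro x hx
    rw [Submodule.mem_comap, ← Submodule.Quotient.mk_eq_zero, mk_eq_zero_iff]
    have h1 : (x : M) ∈ (J ^ (j + 1) • ⊤ : Submodule A M) :=
      (mk_eq_zero_iff J j x).mp ((Submodule.Quotient.mk_eq_zero _).mpr hx)
    have h2 : (Submodule.mkQ (f • ⊤ : Submodule A M)) x ∈
        Submodule.map (Submodule.mkQ (f • ⊤ : Submodule A M)) (J ^ (j + 1) • ⊤) := ⟨x, h1, rfl⟩
    rw [Submodule.map_smul'', Submodule.map_top, Submodule.range_mkQ] at h2
    exact h2)

lemma grMap_surjective (f : A) (j : ℕ) : Function.Surjective (grMap J (M := M) f j) := by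
  intro y
  obtain ⟨⟨y, hy⟩, rfl⟩ := Submodule.Quotient.mk_surjective _ y
  rw [← Submodule.range_mkQ (f • ⊤ : Submodule A M), ← Submodule.map_top, ← Submodule.map_smul''] at hy
  obtain ⟨x, hx, rfl⟩ := hy
  exact ⟨Submodule.Quotient.mk ⟨x, hx⟩, rfl⟩

lemma ker_grMap {f : A} (hf : ∀ j, IsSMulRegular (Gr J M j) f) (j : ℕ) :
    LinearMap.ker (grMap J (M := M) f j) = f • ⊤ := by
  refine le_antisymm ?_ ?_
  · intro y hy
    obtain ⟨⟨x, hx⟩, rfl⟩ := Submodule.Quotient.mk_surjective _ y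
    have h : Submodule.mkQ (f • ⊤ : Submodule A M) x ∈
        (J ^ (j + 1) • ⊤ : Submodule A (QuotSMulTop f M)) := (mk_eq_zero_iff J j _).mp (LinearMap.mem_ker.mp hy)
    rw [← Submodule.range_mkQ (f • ⊤ : Submodule A M), ← Submodule.map_top, ← Submodule.map_smul''] at h
    obtain ⟨y, hy, hyx⟩ := h
    obtain ⟨z, -, hz⟩ := (Submodule.mem_smul_pointwise_iff_exists _ _ _).mp
      ((Submodule.Quotient.eq _).mp hyx)
    have hzj : z ∈ (J ^ j • ⊤ : Submodule A M) := mem_of_smul_mem J hf j (hz ▸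
      sub_mem (Submodule.smul_mono_left (Ideal.pow_le_pow_right j.le_succ) hy) hx)
    refine (Submodule.mem_smul_pointwise_iff_exists _ _ _).mpr
      ⟨-Submodule.Quotient.mk ⟨z, hzj⟩, trivial, ?_⟩
    rw [smul_neg, neg_eq_iff_add_eq_zero, ← Submodule.Quotient.mk_smul, ← Submodule.Quotient.mk_add,
      mk_eq_zero_iff]
    show f • z + x ∈ _
    rw [hz, sub_add_cancel]
    exact hy
  · intro y hy
    obtain ⟨w, -, rfl⟩ := (Submodule.mem_smul_pointwise_iff_exists _ _ _).mp hy
    obtain ⟨⟨x, hx⟩, rfl⟩ := Submodule.Quotient.mk_surjective _ w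
    rw [LinearMap.mem_ker, ← Submodule.Quotient.mk_smul]
    refine (mk_eq_zero_iff J j _).mpr ?_
    show (Submodule.Quotient.mk (f • x) : QuotSMulTop f M) ∈ _
    rw [(Submodule.Quotient.mk_eq_zero _).mpr (Submodule.smul_mem_pointwise_smul x f (⊤ : Submodule A M) Submodule.mem_top)]
    exact zero_mem _

theorem isWeaklyRegular_of_gr [IsNoetherianRing A] [IsLocalRing A] (hJ : J ≠ ⊤) (fs : List A) :
    ∀ (M : Type u) [AddCommGroup M] [Module A M] [Module.Finite A M],
      (∀ j, IsWeaklyRegular (Gr J M j) fs) → IsWeaklyRegular M fs := by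
  induction fs with
  | nil => intro M _ _ _ _; exact IsWeaklyRegular.nil A M
  | cons f fs ih =>
    intro M _ _ _ h
    have hf : ∀ j, IsSMulRegular (Gr J M j) f := fun j => ((isWeaklyRegular_cons_iff _ f fs).mp (h j)).1
    refine (isWeaklyRegular_cons_iff M f fs).mpr ⟨?_, ih _ fun j => ?_⟩
    · refine isSMulRegular_iff_right_eq_zero_of_smul.mpr fun x hx => ?_
      rw [← Submodule.mem_bot A, ← Ideal.iInf_pow_smul_eq_bot_of_le_jacobson J (M := M)
        ((IsLocalRing.le_maximalIdeal hJ).trans (IsLocalRing.maximalIdeal_le_jacobson _)),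
        Submodule.mem_iInf]
      exact fun i => mem_of_smul_mem J hf i (hx ▸ zero_mem _)
    · let e : QuotSMulTop f (Gr J M j) ≃ₗ[A] Gr J (QuotSMulTop f M) j :=
        Submodule.quotEquivOfEq _ _ (ker_grMap J hf j).symm ≪≫ₗ
          (grMap J f j).quotKerEquivOfSurjective (grMap_surjective J f j)
      exact (e.isWeaklyRegular_congr fs).mp ((isWeaklyRegular_cons_iff _ f fs).mp (h j)).2

lemma of_flat_quot {G : Type u} [AddCommGroup G] [Module A G] [Module (A ⧸ J) G]
    [IsScalarTower A (A ⧸ J) G] [Module.Flat (A ⧸ J) G] (fs : List A)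
    (h : IsWeaklyRegular (A ⧸ J) fs) : IsWeaklyRegular G fs := by
  have h' : IsWeaklyRegular (A ⧸ J) (fs.map (algebraMap A (A ⧸ J))) :=
    (isWeaklyRegular_map_algebraMap_iff (A ⧸ J) (A ⧸ J) fs).mpr h
  exact (isWeaklyRegular_map_algebraMap_iff (A ⧸ J) G fs).mp
    (((TensorProduct.rid (A ⧸ J) G).isWeaklyRegular_congr _).mp (h'.isWeaklyRegular_lTensor (M₂ := G)))

/-- Identification of the graded pieces of `J^k`. -/
noncomputable def pieceEquiv (k j : ℕ) : (↥(J ^ j • ⊤ : Submodule A ↥(J ^ k))) ≃ₗ[A] ↥(J ^ (k + j)) :=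
  Submodule.equivMapOfInjective (J ^ k).subtype Subtype.val_injective _ ≪≫ₗ
    LinearEquiv.ofEq _ _ (by
      rw [Submodule.map_smul'', Submodule.map_top, Submodule.range_subtype, smul_eq_mul, ← pow_add,
        add_comm])

noncomputable def grPieceEquiv (k j : ℕ) :
    Gr J (↥(J ^ k)) j ≃ₗ[A] (↥(J ^ (k + j)) ⧸ (J • (⊤ : Submodule A ↥(J ^ (k + j))))) :=
  Submodule.Quotient.equiv _ _ (pieceEquiv J k j) (by
    rw [Submodule.map_smul'', Submodule.map_top, LinearEquiv.range])

/-- In the local algebraic form to which its proof reduces. Let A be a Noetherian local ring, J a proper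
ideal such that A is normally flat along J, i.e. every J^k/J^{k+1} is a flat (equivalently free)
A/J-module, and f_1, …, f_r elements of A whose images form a weakly regular sequence on A/J (each
f_i a non-zero-divisor on A/J modulo the preceding ones). Then for every k ≥ 0 the f_i form a weakly
regular sequence on the A-module J^k and on the A-module J^k/J^{k+1}; in particular (k = 0) on A
itself, so that they are regular on the Rees algebra ⊕ J^k and on the associated graded ring ⊕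
J^k/J^{k+1}. -/
theorem result (A : Type u) [CommRing A] [IsLocalRing A] [IsNoetherianRing A] (J : Ideal A) (hJ : J ≠ ⊤) (hflat : ∀ k : ℕ, Module.Flat (A ⧸ J) (↥(J ^ k) ⧸ (J • (⊤ : Submodule A ↥(J ^ k))))) (fs : List A) (hreg : RingTheory.Sequence.IsWeaklyRegular (A ⧸ J) fs) (k : ℕ) : RingTheory.Sequence.IsWeaklyRegular (↥(J ^ k)) fs ∧ RingTheory.Sequence.IsWeaklyRegular (↥(J ^ k) ⧸ (J • (⊤ : Submodule A ↥(J ^ k)))) fs := by
  have hq : ∀ m : ℕ, RingTheory.Sequence.IsWeaklyRegular
      (↥(J ^ m) ⧸ (J • (⊤ : Submodule A ↥(J ^ m)))) fs := fun m =>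
    haveI := hflat m
    of_flat_quot J fs hreg
  refine ⟨isWeaklyRegular_of_gr J hJ fs _ fun j => ?_, hq k⟩
  exact ((grPieceEquiv J k j).isWeaklyRegular_congr fs).mpr (hq (k + j))


end Groth.Agent.S5182
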