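import Groth.Statements.S5183
import Groth.Agent.HyperAlg.PurePair

set_option autoImplicit false
universe u
open CategoryTheory CategoryTheory.Limits AlgebraicGeometry
open Pi1

namespace Groth.Agent.S5183

open CategoryTheory CategoryTheory.Limits AlgebraicGeometry MorphismProperty

/-- Let A be a Noetherian local ring which is a quotient of a regular local ring, t an A-regular element
of the maximal ideal such that A is separated and complete for the (t)-adic topology, and assume
depth A_p ≥ 2 for every prime ideal p with dim A/p = 1. If B = A/tA is pure, i.e. the pair (Spec B,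
closed point) is pure: for every open V of Spec B restriction of finite étale covers from V to V
minus the closed point is an equivalence of categories, then A is pure. -/
theorem result (A : Type u) [CommRing A] [IsLocalRing A] [IsNoetherianRing A] (hq : ∃ (B : Type u) (_ : CommRing B) (_ : IsRegularLocalRing B) (φ : B →+* A), Function.Surjective φ) (t : A) (ht : t ∈ IsLocalRing.maximalIdeal A) (hreg : IsSMulRegular A t) [IsAdicComplete (Ideal.span {t}) A] (hdepth : ∀ p : Ideal A, ∀ _ : p.IsPrime, ringKrullDim (A ⧸ p) = 1 → (2 : ℕ∞) ≤ LocCoh.depth (Localization.AtPrime p) (Localization.AtPrime p)) [IsLocalRing (A ⧸ Ideal.span {t})] (hB : SGA2.IsPurePair (Spec (CommRingCat.of (A ⧸ Ideal.span {t}))) (FEt.puncturedSpec (A ⧸ Ideal.span {t}))) : SGA2.IsPurePair (Spec (CommRingCat.of A)) (FEt.puncturedSpec A) := by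
  haveI : HenselianRing A (Ideal.span {t}) := inferInstance
  have hd := Groth.Agent.HyperAlg.exists_dualizing_of_quotient_regular A hq
  have htor := Groth.Agent.HyperFEt.torsion_of_dualizing A t ht hd (Or.inr fun p _ htp =>
    Groth.Agent.HyperAlg.depth_add_dim_gt_two A t ht hdepth p htp)
  obtain ⟨hF, hT⟩ := Groth.Agent.HyperFEt.fullyFaithful_complete A t ht (htor 1 one_le_two) (htor 2 le_rfl)
  refine Groth.Agent.HyperAlg.isPurePair_punctured A
    (Groth.Agent.HyperAlg.isEquivalence_of_hypersurface A t ?_)
  let X := Spec (CommRingCat.of (A ⧸ Ideal.span {t}))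
  let U := FEt.puncturedSpec (A ⧸ Ideal.span {t})
  let j := X.homOfLE (inf_le_left : (⊤ : X.Opens) ⊓ U ≤ ⊤)
  let e : ((⊤ : X.Opens) ⊓ U : X.Opens).toScheme ≅ U.toScheme := X.isoOfEq (top_inf_eq U)
  haveI : (FEt.restrict j).IsEquivalence := hB ⊤
  haveI : IsIso (⊤ : X.Opens).ι := by rw [← Scheme.topIso_hom]; infer_instance
  haveI := Groth.Agent.PurePairDesc.isEquivalence_restrict_of_isIso e.inv
  haveI := Groth.Agent.PurePairDesc.isEquivalence_restrict_of_isIso (⊤ : X.Opens).ι
  refine Functor.isEquivalence_of_iso
    (F := FEt.restrict (⊤ : X.Opens).ι ⋙ FEt.restrict j ⋙ FEt.restrict e.inv) ?_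
  exact Functor.isoWhiskerLeft _ (MorphismProperty.Over.pullbackComp e.inv j).symm ≪≫
    (MorphismProperty.Over.pullbackComp (e.inv ≫ j) (⊤ : X.Opens).ι).symm ≪≫
    eqToIso (congrArg FEt.restrict (by rw [Category.assoc, Scheme.homOfLE_ι, Scheme.isoOfEq_inv_ι]))

end Groth.Agent.S5183
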