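import Groth.Statements.S5184
import Groth.Agent.LeffEtLib.Nhd
-- import your own Groth.Agent.* helpers here

set_option autoImplicit false
universe u
open CategoryTheory CategoryTheory.Limits AlgebraicGeometry
open LefX

namespace Groth.Agent.S5184

/-- Let X be a locally Noetherian scheme, 𝓘 a quasi-coherent ideal sheaf with Y = V(𝓘) the closed
subscheme it defines, and suppose the effective Lefschetz condition Leff(X, Y) holds. Then for every
finite étale cover R of Y there are an open neighbourhood U of Y and a finite étale cover R' of U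
whose restriction to Y is isomorphic to R; here restriction is taken along the inclusion i : Y → U,
the unique morphism with i followed by U → X equal to Y → X (the statement quantifies over all such
i). -/
theorem result (X : Scheme.{u}) [IsLocallyNoetherian X] (𝓘 : X.IdealSheafData) (h : LefX.LeffCond X 𝓘) (R : FEt.Cat 𝓘.subscheme) : ∃ (U : X.Opens) (R' : FEt.Cat (U : Scheme.{u})), (𝓘.support : Set X) ⊆ (U : Set X) ∧ ∀ i : 𝓘.subscheme ⟶ (U : Scheme.{u}), i ≫ U.ι = 𝓘.subschemeι → Nonempty ((FEt.restrict i).obj R' ≅ R) := by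
  obtain ⟨Rn, j, b, hj, hb⟩ := LeffEtLib.exists_tower 𝓘 R
  obtain ⟨U, E, hU, hE, ⟨Φ⟩⟩ := h.2 _ (LeffEtLib.levelwiseFinLocFree_towerSys Rn j hj)
  have hF : FlatMod.IsFinLocFree ((Scheme.Modules.pullback U.ι).obj ((Scheme.Modules.pushforward U.ι).obj E)) :=
    DCohLib.isFinLocFree_iso (((Scheme.Modules.restrictFunctorAdjCounitIso U.ι).app E).symm ≪≫
      (Scheme.Modules.restrictFunctorIsoPullback U.ι).app _) hE
  obtain ⟨W, p, hp, hc⟩ := LeffEtLib.exists_finLocFree_extension 𝓘 R Rn j hj b hb U hU Φ hF (h.1 U hU)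
  obtain ⟨U', R', -, hU', hi⟩ := LeffEtLib.exists_nhd_extension_of_locFree 𝓘 R U hU p hp hc
  exact ⟨U', R', hU', hi⟩

end Groth.Agent.S5184
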