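import Groth.Statements.S5185
import Groth.Agent.LeffEtLib.Equiv
import Groth.Agent.HyperAlg.HtpDepth
-- import your own Groth.Agent.* helpers here

set_option autoImplicit false
set_option linter.style.haveILetI false
universe u
open CategoryTheory CategoryTheory.Limits AlgebraicGeometry
open LefX

namespace Groth.Agent.S5185

/-- Let X be a locally Noetherian scheme and 𝓘 a quasi-coherent ideal sheaf with Y = V(𝓘), such that the
effective Lefschetz condition Leff(X, Y) holds, and such that for every open neighbourhood U of Y
and every point x of X outside U the local ring O_{X,x} is either regular of dimension ≥ 2 or an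
(absolute) complete intersection of dimension ≥ 3, i.e. a regular local ring modulo a regular
sequence. Then restriction of finite étale covers from X to Y is an equivalence of categories;
equivalently π_0(Y) → π_0(X) is bijective and, for X connected, π_1(Y) → π_1(X) is an isomorphism. -/
theorem result (X : Scheme.{u}) [IsLocallyNoetherian X] (𝓘 : X.IdealSheafData) (h : LefX.LeffCond X 𝓘) (hpur : ∀ U : X.Opens, (𝓘.support : Set X) ⊆ (U : Set X) → ∀ x : X, x ∉ U → (IsRegularLocalRing (X.presheaf.stalk x) ∧ (2 : WithBot ℕ∞) ≤ ringKrullDim (X.presheaf.stalk x)) ∨ (SGA2.IsAbsCompleteIntersection (X.presheaf.stalk x) ∧ (3 : WithBot ℕ∞) ≤ ringKrullDim (X.presheaf.stalk x))) : (FEt.restrict 𝓘.subschemeι).IsEquivalence := by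
  refine LeffEtLib.isEquivalence_restrict_of_leff 𝓘 h fun U hU => ?_
  haveI : (FEt.restrict U.ι).IsEquivalence := HyperAlg.isEquivalence_restrict_of_purity U
    (fun x hx => ?_) (fun x hx => ?_)
  · infer_instance
  · rcases hpur U hU x hx with ⟨hr, hd⟩ | ⟨hc, hd⟩
    · haveI := hr
      rw [← WithBot.coe_le_coe, HyperAlg.depth_regular]
      exact hd
    · exact le_trans (by norm_num) (HyperAlg.three_le_depth_of_isCI _ (HyperAlg.isCI_of_isAbs _ hc) hd)
  · rcases hpur U hU x hx with ⟨hr, hd⟩ | ⟨hc, hd⟩
    · haveI := hr
      exact S0247.result _ hd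
    · exact S0272.result _ (HyperAlg.isCI_of_isAbs _ hc) hd

end Groth.Agent.S5185
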