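import Groth.Statements.S5186
import Groth.Agent.SpSeqLib.Grothendieck
import Groth.Agent.RpushLib.Finite
import Groth.Agent.CohSerreLib.Basic
import Groth.Agent.CohSerreLib.Range

set_option autoImplicit false
set_option linter.style.haveILetI false
set_option backward.isDefEq.respectTransparency false
-- import your own Groth.Agent.* helpers here

set_option autoImplicit false
universe u
open CategoryTheory AlgebraicGeometry
open Coherent ZeroObject CategoryTheory.Limits

namespace Groth.Agent.S5186

/-- Let f : X → S be a proper morphism of schemes with S locally Noetherian, U an open subset of X with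
inclusion g : U → X, h = f ∘ g : U → S, F an O_U-module and n ≥ 0. If the higher direct images R^i
g_*(F) are coherent O_X-modules for all i ≤ n, then the higher direct images R^i h_*(F) are coherent
O_S-modules for all i ≤ n. (The existence of injective resolutions in the module categories is
carried as instance arguments.) -/
theorem result {X S : Scheme.{u}} (f : X ⟶ S) [IsProper f] [IsLocallyNoetherian S] (U : X.Opens) [HasInjectiveResolutions (U : Scheme.{u}).Modules] [HasInjectiveResolutions X.Modules] (F : (U : Scheme.{u}).Modules) (n : ℕ) (hg : ∀ i : ℕ, i ≤ n → Coh.IsCoh ((Coh.Rpush U.ι i).obj F)) (i : ℕ) (hi : i ≤ n) : Coh.IsCoh ((Coh.Rpush (U.ι ≫ f) i).obj F) := by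
  let T := Scheme.Modules.pushforward U.ι
  let G := Scheme.Modules.pushforward f
  haveI : EnoughInjectives X.Modules := SpSeqLib.enoughInjectives_of_hasInjectiveResolutions
  haveI : T.PreservesInjectiveObjects :=
    Functor.preservesInjectiveObjects_of_adjunction_of_preservesMonomorphisms (Scheme.Modules.restrictAdjunction U.ι)
  haveI : G.IsRightAdjoint := (Scheme.Modules.pullbackPushforwardAdjunction f).isRightAdjoint
  haveI : PreservesFiniteLimits G := inferInstance
  obtain ⟨E, a, ha, -, h2⟩ := SpSeqLib.exists_grothendieck T G
    (fun I hI => haveI := hI; SpSeqLib.isAcyclicFor_of_injective G _) F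
    (H := fun m : ℤ => if 0 ≤ m then ((T ⋙ G).rightDerived m.toNat).obj F else (0 : S.Modules))
    (P := fun p q : ℤ => if 0 ≤ p ∧ 0 ≤ q then (G.rightDerived p.toNat).obj ((T.rightDerived q.toNat).obj F)
      else (0 : S.Modules))
    (fun m => ⟨eqToIso (Eq.symm (if_pos (Int.natCast_nonneg m)))⟩)
    (fun m hm => by rw [if_neg (by omega)]; exact isZero_zero _)
    (fun p q => ⟨eqToIso (Eq.symm (if_pos ⟨Int.natCast_nonneg p, Int.natCast_nonneg q⟩))⟩)
    (fun p q h => by rw [if_neg (by omega)]; exact isZero_zero _)
  have hS := CohSerreLib.isWeakSerre_isCoh S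
  have h := CohSerreLib.abutment_range hS a (n : ℤ)
    (fun p q hp => IsZero.of_iso (by rw [if_neg (by omega)]; exact isZero_zero _) (h2 p q).some)
    (fun p q hq => hS.iso (h2 p q).some.symm (by
      by_cases hpq : 0 ≤ p ∧ 0 ≤ q
      · simp only [hpq, and_self, if_true]
        have hc := hg q.toNat (by omega)
        haveI := hc.1
        exact RpushLib.isCoh_rpush (f := f) hc _
      · simp only [hpq, if_false]
        exact hS.zero (isZero_zero _)))
    (i : ℤ) (by omega) (ha _)
  exact hS.iso (eqToIso (if_pos (Int.natCast_nonneg i)) ≪≫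
    (SpSeqLib.rightDerivedCongr (Scheme.Modules.pushforwardComp U.ι f) i).app F) h

end Groth.Agent.S5186
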