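import Groth.Statements.S5189
import Groth.Agent.SuppCoh.Edge

set_option autoImplicit false
set_option backward.isDefEq.respectTransparency false
universe u
open CategoryTheory CategoryTheory.Limits AlgebraicGeometry Opposite
open EtDepth

namespace Groth.Agent.S5189

/-- For an abelian sheaf. Let X be a scheme, j : U → X an open immersion with closed complement Y, F an
abelian sheaf on the small étale site of X and n ≥ 0, and suppose the Y-étale depth of F is ≥ n (the
local cohomology sheaves H^p_Y(F) vanish for p < n). Then the edge homomorphism H^n_Y(X, F) → H^0(X,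
H^n_Y(F)) of the spectral sequence of the composite functor Γ(X, −) ∘ Γ_Y, from the n-th local
cohomology group to the group of global sections of the n-th local cohomology sheaf, is an
isomorphism. -/
theorem result {X U : Scheme.{u}} (j : U ⟶ X) [IsOpenImmersion j] [EtCoh.BCCont j] (F : EtCoh.Ab X) (n : ℕ) (h : EtDepth.DepthGE j F n) : IsIso (RDer.edgeOut (EtDual.secSupp j) (sheafToPresheaf X.smallEtaleTopology AddCommGrpCat.{u+1} ⋙ (evaluation X.Etaleᵒᵖ AddCommGrpCat.{u+1}).obj (op (EtCoh.top X))) n F) := by
  let R := injectiveResolution F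
  haveI : ∀ i, Injective ((((EtDual.secSupp j).mapHomologicalComplex (ComplexShape.up ℕ)).obj R.cocomplex).X i) :=
    fun i => Groth.Agent.SuppCoh.injective_secSupp j (R.cocomplex.X i)
  have hc := Groth.Agent.SuppCoh.isIso_homologyComparison _ n
    (fun p hp => (h p hp).of_iso (R.isoRightDerivedObj (EtDual.secSupp j) p).symm)
    (sheafToPresheaf X.smallEtaleTopology AddCommGrpCat.{u+1} ⋙
      (evaluation X.Etaleᵒᵖ AddCommGrpCat.{u+1}).obj (op (EtCoh.top X)))
  unfold RDer.edgeOut
  refine @IsIso.comp_isIso _ _ _ _ _ _ _ inferInstance ?_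
  exact @IsIso.comp_isIso _ _ _ _ _ _ _ hc inferInstance

end Groth.Agent.S5189
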