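import Groth.Statements.S5190
import Groth.Agent.S3372
import Groth.Agent.HTLib.PuncFinite
-- import your own Groth.Agent.* helpers here

set_option autoImplicit false
universe u
open CategoryTheory CategoryTheory.Limits AlgebraicGeometry
open Formal

set_option linter.style.haveILetI false
set_option backward.isDefEq.respectTransparency false

namespace Groth.Agent.S5190

open TopologicalSpace Opposite CategoryTheory CategoryTheory.Limits AlgebraicGeometry Groth.Agent.PuncSecLib

theorem iSup_basicOpen_eq {A : Type u} [CommRing A] (I : Ideal A) :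
    (⨆ f : ↥I, (Spec (CommRingCat.of A)).basicOpen ((Scheme.ΓSpecIso (CommRingCat.of A)).inv f.1)) =
      LocCoh.puncturedOpen A I := by
  refine Opens.ext (Set.ext fun p => ?_)
  rw [Opens.coe_iSup, Set.mem_iUnion]
  have hb : ∀ f : A, p ∈ (Spec (CommRingCat.of A)).basicOpen ((Scheme.ΓSpecIso (CommRingCat.of A)).inv f) ↔
      f ∉ (p : PrimeSpectrum A).asIdeal := fun f => by
    rw [basicOpen_eq_of_affine]
    exact Iff.rfl
  show _ ↔ ¬ (I : Set A) ⊆ (p : PrimeSpectrum A).asIdeal
  rw [Set.not_subset]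
  exact ⟨fun ⟨f, hf⟩ => ⟨f.1, f.2, (hb f.1).1 hf⟩, fun ⟨a, ha, h⟩ => ⟨⟨a, ha⟩, (hb a).2 h⟩⟩

theorem relCodim_eq_one {A : Type u} [CommRing A] {I : Ideal A} {p q : PrimeSpectrum A} (hp : ¬ I ≤ p.asIdeal)
    (hq : I ≤ q.asIdeal) (h : p ⋖ q) : SGA2.relCodim I p = 1 := by
  rw [SGA2.relCodim]
  refine le_antisymm ((iInf_le _ ⟨q, h.le, hq⟩).trans ((Order.height_le_coe_iff (n := 1)).2 fun y hy => ?_)) ?_
  · have e : y.1 = p := (eq_or_lt_of_le (show p ≤ y.1 from y.2)).elim Eq.symm fun hlt => absurd hy (h.2 hlt)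
    rw [Order.height_eq_zero.2 fun z _ => show y.1 ≤ z.1 from e.trans_le z.2]
    exact zero_lt_one
  · refine le_iInf fun r => Order.one_le_iff_pos.2 (Order.height_pos.2 fun hmin => ?_)
    have h1 : r.1 ≤ p := hmin (b := (⟨p, le_refl p⟩ : Set.Ici p)) r.2.1
    exact hp (r.2.2.trans h1)

theorem key {A : Type u} [CommRing A] [IsNoetherianRing A] (R : Type u) [CommRing R] [IsRegularRing R]
    (π : R →+* A) (hπ : Function.Surjective π) (t : A) [IsAdicComplete (Ideal.span {t}) A] (I : Ideal A)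
    (U : (Spec (CommRingCat.of A)).Opens) (hU : U = LocCoh.puncturedOpen A I)
    (F : (U : Scheme.{u}).Modules) (hF : Coh.IsCoh F) (hreg : Mono (Formal.smulMod A F t)) (n : ℕ)
    (hdepth : ∀ x : (U : Scheme.{u}), SGA2.relCodim I (U.ι.base x) = 1 →
      ((n + 1 : ℕ) : ℕ∞) ≤ LocCoh.depth ((U : Scheme.{u}).presheaf.stalk x) (F.presheaf.stalk x)) (i : ℕ) :
    (i < n → Function.Bijective (Formal.toHHlim (Ideal.span {t}) F i)) ∧
      (i = n → Function.Injective (Formal.toHHlim (Ideal.span {t}) F i)) := by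
  subst hU
  let U := LocCoh.puncturedOpen A I
  obtain ⟨M, _, _, hM, hr, ⟨φ⟩⟩ := S3372.exists_module I t F hF hreg
  haveI := hM
  have hfin := (Groth.Agent.S2930.result R A π hπ I M (n + 1)).2 fun p q hp hq hcov => by
    let x : (U : Scheme.{u}) := ⟨p, hp⟩
    rw [← S3372.depth_stalk_tR U M φ x p rfl]
    exact hdepth x (relCodim_eq_one hp hq hcov)
  have hfinH : ∀ j, j ≤ n → Module.Finite A (Coh.HH (U : Scheme.{u}) ((tR U).obj (ModuleCat.of A M)) j) :=
    fun j hj => HTLib.finite_HH_tR I M j (hfin (j + 1) (by omega))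
  obtain ⟨e, θ, h1, h2⟩ := HTLib.exists_equiv_toHHlim' U (Ideal.span {t}) M φ i
  have hinj : i ≤ n → Function.Injective (Formal.toHHlim (Ideal.span {t}) F i) := fun hi =>
    haveI := hfinH i hi
    (injective_iff_map_eq_zero _).2 fun z hz => by
      obtain ⟨x, rfl⟩ := e.surjective z
      have hx : x = 0 := (HTLib.compl_of_finite (𝔞 := I) (t := t) (M := M) i).1 x fun m => by
        have h0 : hm (Formal2.quotPowπ A (Ideal.span {t}) M m) i U x = 0 := (θ m).injective (by
          rw [h1, map_zero]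
          exact congrFun (congrArg Subtype.val hz) m)
        exact exists_of_hm_eq_zero (show Function.Injective (LinearMap.lsmul A M (t ^ (m + 1))) from hr.pow (m + 1))
          (π_surjective t M m) (range_lsmul t M m) i U x h0
      rw [hx, map_zero]
  refine ⟨fun hi => ⟨hinj hi.le, ?_⟩, fun hi => hinj hi.le⟩
  rintro ⟨y, hy⟩
  haveI := hfinH i hi.le
  obtain ⟨k, hk⟩ : ∃ k : ℕ, ∀ (m : ℕ) (x : H M (i + 1) U),
      sc (t ^ m) (i + 1) U x = 0 → sc (t ^ k) (i + 1) U x = 0 :=
    haveI := hfinH (i + 1) hi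
    HTLib.exists_stable_sc (𝔞 := I) (t := t) (M := M) (i + 1)
  obtain ⟨x, hx⟩ := HTLib.exists_formal_lift hr hk (HTLib.compl_of_finite i)
    (fun m => (θ m).symm (y m)) fun m => (θ m).injective (by
      rw [h2, AddEquiv.apply_symm_apply, AddEquiv.apply_symm_apply]
      exact hy m)
  refine ⟨e x, Subtype.ext (funext fun m => ?_)⟩
  show Formal.toHHmodPow (Ideal.span {t}) F i m (e x) = y m
  rw [← h1, hx, AddEquiv.apply_symm_apply]

end Groth.Agent.S5190

namespace Groth.Agent.S5190

/-- For a general closed subset T of Spec A. Let A be a Noetherian ring which is a quotient of a regular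
ring, t an element of A such that A is separated and complete for the t-adic topology, I an ideal
with T = V(I), X = Spec A − T (the union of the basic opens D(f), f ∈ I), and F a coherent
O_X-module on which multiplication by t is injective. Assume that for every point x of X such that
codim(cl(x) ∩ T, cl(x)) = 1, closures taken in Spec A, the stalk F_x has depth ≥ n + 1 over O_{X,x}.
Then the canonical map H^i(X, F) → lim_k H^i(X, F/t^(k+1)F) is bijective for i < n and injective for
i = n. -/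
theorem result (R : Type u) [CommRing R] [IsRegularRing R] (A : Type u) [CommRing A] [IsNoetherianRing A] (π : R →+* A) (hπ : Function.Surjective π) (t : A) [IsAdicComplete (Ideal.span {t}) A] (I : Ideal A) (F : (↑(⨆ f : ↥I, (Spec (CommRingCat.of A)).basicOpen ((Scheme.ΓSpecIso (CommRingCat.of A)).inv f.1)) : Scheme.{u}).Modules) (hF : Coh.IsCoh F) (hreg : Mono (Formal.smulMod A F t)) (n : ℕ) (hdepth : ∀ x : (↑(⨆ f : ↥I, (Spec (CommRingCat.of A)).basicOpen ((Scheme.ΓSpecIso (CommRingCat.of A)).inv f.1)) : Scheme.{u}), SGA2.relCodim I ((⨆ f : ↥I, (Spec (CommRingCat.of A)).basicOpen ((Scheme.ΓSpecIso (CommRingCat.of A)).inv f.1)).ι.base x) = 1 → ((n + 1 : ℕ) : ℕ∞) ≤ LocCoh.depth ((↑(⨆ f : ↥I, (Spec (CommRingCat.of A)).basicOpen ((Scheme.ΓSpecIso (CommRingCat.of A)).inv f.1)) : Scheme.{u}).presheaf.stalk x) (F.presheaf.stalk x)) (i : ℕ) : (i < n → Function.Bijective (Formal.toHHlim (Ideal.span {t}) F i)) ∧ (i = n → Function.Injective (Formal.toHHlim (Ideal.span {t}) F i)) := by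
  exact key R π hπ t I _ (iSup_basicOpen_eq I) F hF hreg n hdepth i

end Groth.Agent.S5190
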