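import Groth.Statements.S5193
import Groth.Agent.ParaFlatLib.Scheme
import Groth.Agent.FibVanLib.Lef
import Groth.Agent.LeffCoreLib.Field
import Groth.Agent.S3356
import Groth.Agent.S3361
-- import your own Groth.Agent.* helpers here

set_option autoImplicit false
set_option backward.isDefEq.respectTransparency false
set_option linter.style.haveILetI false
universe u
open CategoryTheory CategoryTheory.Limits AlgebraicGeometry
open LefX

namespace Groth.Agent.S5193

/-- Over an affine base. Let A be a Noetherian ring, X a proper flat A-scheme, 𝓘 a quasi-coherent ideal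
whose ideal module is invertible with ample inverse L, such that X_0 = V(𝓘) is also flat over A (so
X is projective over A and 𝓘 is cut out by a section t of L regular on every fibre); write X_m =
V(𝓘^(m+1)) for the m-th thickening of X_0. Assume that every fibre X_s has depth ≥ 3 at each of its
closed points, and that at every point x outside X_0 which is closed in its fibre the local ring of
the fibre at x is parafactorial. Let m ≥ 0 be such that H^i(X, 𝓘^n/𝓘^(n+1)) = H^i(X_0, O_{X_0}(−n))
vanishes for i = 1, 2 and every n > m (over an affine base this is the vanishing of the higher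
direct images R^i f_{0*}). Then pull-back of invertible modules Pic(X) → Pic(X_m) is bijective:
trivial kernel and surjective on isomorphism classes. -/
theorem result (A : Type u) [CommRing A] [IsNoetherianRing A] (X : Scheme.{u}) [X.Over (Spec (CommRingCat.of A))] [IsProper (X ↘ Spec (CommRingCat.of A))] [Flat (X ↘ Spec (CommRingCat.of A))] (𝓘 : X.IdealSheafData) (L : X.Modules) (hL : ClSub.IsInverseOf L (ClSub.idealMod 𝓘)) (hamp : CohB1.IsAmple L) [Flat (𝓘.subschemeι ≫ (X ↘ Spec (CommRingCat.of A)))] (hdepth : ∀ x : X, IsClosed ({((X ↘ Spec (CommRingCat.of A))).asFiber x} : Set ↥(((X ↘ Spec (CommRingCat.of A))).fiber (((X ↘ Spec (CommRingCat.of A))).base x))) → (3 : ℕ∞) ≤ LocCoh.depth ↑(CInt.fiberStalk (X ↘ Spec (CommRingCat.of A)) x) ↑(CInt.fiberStalk (X ↘ Spec (CommRingCat.of A)) x)) (hpf : ∀ x : X, IsClosed ({((X ↘ Spec (CommRingCat.of A))).asFiber x} : Set ↥(((X ↘ Spec (CommRingCat.of A))).fiber (((X ↘ Spec (CommRingCat.of A))).base x))) → x ∉ (𝓘.support : Set X) → ParaF.IsParafactorialLocalRing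 ↑(CInt.fiberStalk (X ↘ Spec (CommRingCat.of A)) x)) (m : ℕ) (hH : ∀ n : ℕ, m < n → ∀ i : ℕ, (i = 1 ∨ i = 2) → Subsingleton (Coh.HH X ((DCoh.tensorBi.obj (CohB1.tensorPow (ClSub.idealMod 𝓘) n)).obj (ClSub.quotMod 𝓘)) i)) : Formal2.PicPullbackInjective (𝓘 ^ (m + 1)).subschemeι ∧ Formal2.PicPullbackSurjective (𝓘 ^ (m + 1)).subschemeι := by
  let f := X ↘ Spec (CommRingCat.of A)
  haveI : IsNoetherian X := Groth.Agent.FibVanLib.isNoetherian_over f
  haveI : IsLocallyNoetherian 𝓘.subscheme := LocallyOfFiniteType.isLocallyNoetherian 𝓘.subschemeι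
  have hI := (Groth.Agent.LeffCore.isInvertible_pair hL).2
  have hLeff : LefX.LeffCond X 𝓘 := Groth.Agent.S3361.result A X 𝓘 L hL hamp
    (fun y hy => Groth.Agent.ParaFlatLib.le_depth_fiberStalk_divisor f hI y 2
      (hdepth (𝓘.subschemeι y) (Groth.Agent.ParaFlatLib.isClosed_asFiber_comp f 𝓘.subschemeι y hy)))
    (fun x hx => le_trans (by norm_num) (hdepth x hx))
  have hk : ∀ n : ℕ, m ≤ n → ∀ i : ℕ, (i = 1 ∨ i = 2) →
      Subsingleton (Coh.HH X (kernel (Lef.quotMap (Lef.pow_succ_le 𝓘 n))) i) := fun n hn i hi => by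
    obtain ⟨e⟩ := Groth.Agent.LeffCore.nonempty_kernel_quotMap hL n
    haveI : Subsingleton (Coh.HH X (CohB1.tensorMod (CohB1.tensorPow (ClSub.idealMod 𝓘) (n + 1))
      (ClSub.quotMod 𝓘)) i) := hH (n + 1) (Nat.lt_succ_of_le hn) i hi
    exact Groth.Agent.ProjCoh.subsingleton_of_iso e i
  have hpar : ∀ U : X.Opens, (𝓘.support : Set X) ⊆ (U : Set X) → ∀ x : X, x ∉ U →
      ParaF.IsParafactorialLocalRing (X.presheaf.stalk x) := fun U hU x hx => by
    have hcl := Groth.Agent.FibVanLib.isClosed_asFiber_of_notMem f hL hamp U hU hx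
    exact Groth.Agent.ParaFlatLib.isParafactorialLocalRing_stalk f x (hdepth x hcl)
      (hpf x hcl fun h => hx (hU h))
  exact (Groth.Agent.S3356.result X 𝓘 m hLeff hk hpar m le_rfl ⊤ (Set.subset_univ _)).2

end Groth.Agent.S5193
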