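import Groth.Statements.S5194
import Groth.Agent.LeffEtLib.Equiv
import Groth.Agent.HyperAlg.HtpDepth
import Groth.Agent.ParaFlatLib.Scheme
import Groth.Agent.FibVanLib.Lef
import Groth.Agent.S3361
import Groth.Agent.S5195
import Groth.Agent.S2950
-- import your own Groth.Agent.* helpers here

set_option autoImplicit false
set_option backward.isDefEq.respectTransparency false
set_option linter.style.haveILetI false
universe u
open CategoryTheory CategoryTheory.Limits AlgebraicGeometry
open LefX

namespace Groth.Agent.S5194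

/-- Purity of the pair with the closed point gives purity. -/
theorem purityHolds_of_isPurePair (B : Type u) [CommRing B] [IsLocalRing B]
    (h : SGA2.IsPurePair (Spec (CommRingCat.of B)) (FEt.puncturedSpec B)) : FEt.PurityHolds B := by
  haveI := h ⊤
  haveI : IsIso (⊤ : (Spec (CommRingCat.of B)).Opens).ι := (Spec (CommRingCat.of B)).topIso.isIso_hom
  haveI := S0289.result (⊤ : (Spec (CommRingCat.of B)).Opens).ι
  have h' : (FEt.restrict (⊤ ⊓ FEt.puncturedSpec B).ι).IsEquivalence :=
    Functor.isEquivalence_of_iso ((PropPi1.restrictCompIso _ _).symm ≪≫ eqToIso (by rw [Scheme.homOfLE_ι]) :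
      FEt.restrict (⊤ : (Spec (CommRingCat.of B)).Opens).ι ⋙
        FEt.restrict ((Spec (CommRingCat.of B)).homOfLE (inf_le_left : ⊤ ⊓ FEt.puncturedSpec B ≤ ⊤)) ≅
          FEt.restrict (⊤ ⊓ FEt.puncturedSpec B).ι)
  rw [top_inf_eq] at h'
  exact h'.essSurj

/-- Purity of a stalk from purity of the stalk of the fibre. -/
theorem purityHolds_stalk {X S : Scheme.{u}} [IsLocallyNoetherian X] [IsLocallyNoetherian S] (f : X ⟶ S) [Flat f]
    (x : X) (hd : (3 : ℕ∞) ≤ LocCoh.depth (CInt.fiberStalk f x) (CInt.fiberStalk f x))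
    (hC : FEt.PurityHolds (CInt.fiberStalk f x)) : FEt.PurityHolds (X.presheaf.stalk x) := by
  obtain ⟨e⟩ := CILib.nonempty_fiberStalk_quot_equiv f x
  haveI := ParaFlatLib.isNoetherianRing_fiberStalk f x
  letI : Algebra (S.presheaf.stalk (f x)) (X.presheaf.stalk x) := (f.stalkMap x).hom.toAlgebra
  haveI : IsLocalHom (algebraMap (S.presheaf.stalk (f x)) (X.presheaf.stalk x)) :=
    inferInstanceAs (IsLocalHom (f.stalkMap x).hom)
  haveI : Module.Flat (S.presheaf.stalk (f x)) (X.presheaf.stalk x) := Flat.stalkMap f x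
  haveI : IsLocalRing (X.presheaf.stalk x ⧸
      (IsLocalRing.maximalIdeal (S.presheaf.stalk (f x))).map (algebraMap _ (X.presheaf.stalk x))) :=
    e.symm.isLocalRing
  exact S2950.result (S.presheaf.stalk (f x)) (X.presheaf.stalk x) (FSParaLib.depth_congr_ring e ▸ hd)
    (HyperAlg.purityHolds_of_ringEquiv e.symm hC)

/-- Over an affine base. Let A be a Noetherian ring, X a proper flat A-scheme, 𝓘 a quasi-coherent ideal
whose ideal module is invertible with ample inverse L, such that X_0 = V(𝓘) is also flat over A (X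
projective over A, 𝓘 cut out by a section of L regular on every fibre). Assume that every fibre X_s
has depth ≥ 3 at each of its closed points, and that at every point x outside X_0 which is closed in
its fibre the local ring of the fibre X_s at x is pure: for every open V of its spectrum,
restriction of finite étale covers from V to V minus the closed point is an equivalence (for
instance a complete intersection, of dimension ≥ 3 here). Then restriction of finite étale covers
from X to X_0 is an equivalence of categories; in particular π_1(X_0) → π_1(X) is an isomorphism for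
a geometric base point on X_0. -/
theorem result (A : Type u) [CommRing A] [IsNoetherianRing A] (X : Scheme.{u}) [X.Over (Spec (CommRingCat.of A))] [IsProper (X ↘ Spec (CommRingCat.of A))] [Flat (X ↘ Spec (CommRingCat.of A))] (𝓘 : X.IdealSheafData) (L : X.Modules) (hL : ClSub.IsInverseOf L (ClSub.idealMod 𝓘)) (hamp : CohB1.IsAmple L) [Flat (𝓘.subschemeι ≫ (X ↘ Spec (CommRingCat.of A)))] (hdepth : ∀ x : X, IsClosed ({((X ↘ Spec (CommRingCat.of A))).asFiber x} : Set ↥(((X ↘ Spec (CommRingCat.of A))).fiber (((X ↘ Spec (CommRingCat.of A))).base x))) → (3 : ℕ∞) ≤ LocCoh.depth ↑(CInt.fiberStalk (X ↘ Spec (CommRingCat.of A)) x) ↑(CInt.fiberStalk (X ↘ Spec (CommRingCat.of A)) x)) (hpure : ∀ x : X, IsClosed ({((X ↘ Spec (CommRingCat.of A))).asFiber x} : Set ↥(((X ↘ Spec (CommRingCat.of A))).fiber (((X ↘ Spec (CommRingCat.of A))).base x))) → x ∉ (𝓘.support : Set X) → SGA2.IsPurePair (Spec (CommRingCat.of ↑(CInt.fiberStalk (X ↘ Spec (CommRingCat.of A)) x))) (FEt.puncturedSpec ↑(CInt.fiberStalk (X ↘ Spec (CommRingCat.of A)) x))) : (FEt.restrict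 𝓘.subschemeι).IsEquivalence := by
  let f := X ↘ Spec (CommRingCat.of A)
  haveI : IsNoetherian X := FibVanLib.isNoetherian_over f
  haveI : IsLocallyNoetherian 𝓘.subscheme := LocallyOfFiniteType.isLocallyNoetherian 𝓘.subschemeι
  have hI := (LeffCore.isInvertible_pair hL).2
  have hLeff : LefX.LeffCond X 𝓘 := S3361.result A X 𝓘 L hL hamp
    (fun y hy => ParaFlatLib.le_depth_fiberStalk_divisor f hI y 2
      (hdepth (𝓘.subschemeι y) (ParaFlatLib.isClosed_asFiber_comp f 𝓘.subschemeι y hy)))
    (fun x hx => le_trans (by norm_num) (hdepth x hx))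
  refine LeffEtLib.isEquivalence_restrict_of_leff 𝓘 hLeff fun U hU => ?_
  have hcl : ∀ x : X, x ∉ U → _ := fun x hx => FibVanLib.isClosed_asFiber_of_notMem f hL hamp U hU hx
  haveI : (FEt.restrict U.ι).IsEquivalence := HyperAlg.isEquivalence_restrict_of_purity U
    (fun x hx => (S5195.result A X 𝓘 L hL hamp ((U : Set X)ᶜ) U.isOpen.isClosed_compl
      (Set.disjoint_compl_left_iff_subset.mpr hU) 2).2 inferInstance
      (fun z hz => le_trans (by norm_num) (hdepth z hz)) x hx)
    (fun x hx => purityHolds_stalk f x (hdepth x (hcl x hx))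
      (purityHolds_of_isPurePair _ (hpure x (hcl x hx) fun h => hx (hU h))))
  infer_instance

end Groth.Agent.S5194
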