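import Groth.Statements.S5196
import Groth.Agent.ResTrdegBCLib.Basic
import Groth.Agent.RatliffLib.Equidim
import Mathlib.RingTheory.Ideal.GoingDown

set_option autoImplicit false
universe u
open CategoryTheory CategoryTheory.Limits AlgebraicGeometry Opposite
open EtDepth

namespace Groth.Agent.S5196

/-- Let A → A' be a faithfully flat homomorphism of Noetherian local rings whose fibre over the closed
point of Spec A is the single closed point of Spec A' (the only prime of A' over m_A is m_{A'}), f :
X → Spec A a morphism locally of finite type, X' = X ×_A A' with projections h : X' → X and f' : X'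
→ Spec A'. For a point x' of X' put x = h(x'), s = f(x), s' = f'(x'). Then trdeg(κ(x')/κ(s')) ≤
trdeg(κ(x)/κ(s)) and dim A'/p_{s'} ≤ dim A/p_s, so that δ(x') ≤ δ(x) for δ(x) = trdeg(κ(x)/κ(s)) +
dim cl(s), with equality exactly when both inequalities are equalities; and for every point x of X
there is a point x' of X' over x for which both are equalities. -/
theorem result (A A' : Type u) [CommRing A] [CommRing A'] [IsLocalRing A] [IsLocalRing A'] [IsNoetherianRing A] [IsNoetherianRing A'] [Algebra A A'] [Module.FaithfullyFlat A A'] (hfib : ∀ q : Ideal A', ∀ _ : q.IsPrime, q.comap (algebraMap A A') = IsLocalRing.maximalIdeal A → q = IsLocalRing.maximalIdeal A') (X : Scheme.{u}) (f : X ⟶ (Spec (CommRingCat.of A))) [LocallyOfFiniteType f] : (∀ x' : ↥(pullback f (Spec.map (CommRingCat.ofHom (algebraMap A A')))), @Algebra.trdeg ↑((Spec (CommRingCat.of A')).residueField ((pullback.snd f (Spec.map (CommRingCat.ofHom (algebraMap A A')))).base x')) ↑((pullback f (Spec.map (CommRingCat.ofHom (algebraMap A A')))).residueField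 x') _ _ ((pullback.snd f (Spec.map (CommRingCat.ofHom (algebraMap A A')))).residueFieldMap x').hom.toAlgebra ≤ @Algebra.trdeg ↑((Spec (CommRingCat.of A)).residueField (f.base ((pullback.fst f (Spec.map (CommRingCat.ofHom (algebraMap A A')))).base x'))) ↑(X.residueField ((pullback.fst f (Spec.map (CommRingCat.ofHom (algebraMap A A')))).base x')) _ _ (f.residueFieldMap ((pullback.fst f (Spec.map (CommRingCat.ofHom (algebraMap A A')))).base x')).hom.toAlgebra ∧ ringKrullDim (A' ⧸ ((pullback.snd f (Spec.map (CommRingCat.ofHom (algebraMap A A')))).base x').asIdeal) ≤ ringKrullDim (A ⧸ (f.base ((pullback.fst f (Spec.map (CommRingCat.ofHom (algebraMap A A')))).base x')).asIdeal)) ∧ (∀ x : X, ∃ x' : ↥(pullback f (Spec.map (CommRingCat.ofHom (algebraMap A A')))), (pullback.fst f (Spec.map (CommRingCat.ofHom (algebraMap A A')))).base x' = x ∧ @Algebra.trdeg ↑((Spec (CommRingCat.of A')).residueField ((pullback.snd f (Spec.map (CommRingCat.ofHom (algebraMap A A')))).base x')) ↑((pullback f (Spec.map (CommRingCat.ofHom (algebraMap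 A A')))).residueField x') _ _ ((pullback.snd f (Spec.map (CommRingCat.ofHom (algebraMap A A')))).residueFieldMap x').hom.toAlgebra = @Algebra.trdeg ↑((Spec (CommRingCat.of A)).residueField (f.base ((pullback.fst f (Spec.map (CommRingCat.ofHom (algebraMap A A')))).base x'))) ↑(X.residueField ((pullback.fst f (Spec.map (CommRingCat.ofHom (algebraMap A A')))).base x')) _ _ (f.residueFieldMap ((pullback.fst f (Spec.map (CommRingCat.ofHom (algebraMap A A')))).base x')).hom.toAlgebra ∧ ringKrullDim (A' ⧸ ((pullback.snd f (Spec.map (CommRingCat.ofHom (algebraMap A A')))).base x').asIdeal) = ringKrullDim (A ⧸ (f.base ((pullback.fst f (Spec.map (CommRingCat.ofHom (algebraMap A A')))).base x')).asIdeal)) := by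
  classical
  let g := Spec.map (CommRingCat.ofHom (algebraMap A A'))
  have hne : (IsLocalRing.maximalIdeal A).map (algebraMap A A') ≠ ⊤ := fun h => by
    have h1 := Ideal.comap_map_eq_self_of_faithfullyFlat (B := A') (IsLocalRing.maximalIdeal A)
    rw [h, Ideal.comap_top] at h1
    exact (IsLocalRing.maximalIdeal.isMaximal A).ne_top h1.symm
  haveI : IsLocalHom (algebraMap A A') :=
    ((IsLocalRing.local_hom_TFAE (algebraMap A A')).out 0 2).mpr (IsLocalRing.le_maximalIdeal hne)
  -- the closed fibre is a point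
  have hzero : ringKrullDim (A' ⧸ (IsLocalRing.maximalIdeal A).map (algebraMap A A')) = 0 := by
    haveI : Nontrivial (A' ⧸ (IsLocalRing.maximalIdeal A).map (algebraMap A A')) := Ideal.Quotient.nontrivial_iff.2 hne
    refine le_antisymm ?_ ringKrullDim_nonneg_of_nontrivial
    rw [ringKrullDim_quotient]
    have hsub : ∀ q : PrimeSpectrum.zeroLocus (R := A') (((IsLocalRing.maximalIdeal A).map (algebraMap A A') : Ideal A') : Set A'),
        q.1.asIdeal = IsLocalRing.maximalIdeal A' := fun q => hfib _ q.1.isPrime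
      (((IsLocalRing.maximalIdeal.isMaximal A).eq_of_le (Ideal.comap_ne_top _ q.1.isPrime.ne_top)
        (Ideal.map_le_iff_le_comap.1 q.2)).symm)
    haveI : Subsingleton (PrimeSpectrum.zeroLocus (R := A') (((IsLocalRing.maximalIdeal A).map (algebraMap A A') : Ideal A') : Set A')) :=
      ⟨fun a b => Subtype.ext (PrimeSpectrum.ext ((hsub a).trans (hsub b).symm))⟩
    exact Order.krullDim_nonpos_of_subsingleton
  have hdim : ∀ (a : Ideal A), a ≠ ⊤ → ringKrullDim (A' ⧸ a.map (algebraMap A A')) = ringKrullDim (A ⧸ a) := by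
    intro a ha
    let J := a.map (algebraMap A A')
    haveI : Nontrivial (A' ⧸ J) := Ideal.Quotient.nontrivial_iff.2
      fun h => (IsLocalRing.maximalIdeal.isMaximal A').ne_top (top_le_iff.1 (h ▸ Groth.Agent.RatliffLib.map_le_maximal _ ha))
    haveI : IsLocalRing (A' ⧸ J) := IsLocalRing.of_surjective' _ Ideal.Quotient.mk_surjective
    haveI : Nontrivial (A ⧸ a) := Ideal.Quotient.nontrivial_iff.2 ha
    haveI : IsLocalRing (A ⧸ a) := IsLocalRing.of_surjective' _ Ideal.Quotient.mk_surjective
    haveI := Groth.Agent.RatliffLib.flat_quot (B := A') a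
    haveI : IsLocalHom (Ideal.Quotient.mk a) := Ideal.Quotient.mk_surjective.isLocalHom _
    haveI : IsLocalHom (Ideal.Quotient.mk J) := Ideal.Quotient.mk_surjective.isLocalHom _
    haveI : IsLocalHom (algebraMap (A ⧸ a) (A' ⧸ J)) := by
      refine ⟨fun x hx => ?_⟩
      obtain ⟨a', rfl⟩ := Ideal.Quotient.mk_surjective x
      have h1 : IsUnit (Ideal.Quotient.mk J (algebraMap A A' a')) := hx
      exact (isUnit_of_map_unit (algebraMap A A') a' (isUnit_of_map_unit _ _ h1)).map _
    have hmap : (IsLocalRing.maximalIdeal (A ⧸ a)).map (algebraMap (A ⧸ a) (A' ⧸ J)) =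
        ((IsLocalRing.maximalIdeal A).map (algebraMap A A')).map (Ideal.Quotient.mk J) := by
      rw [← IsLocalRing.map_maximalIdeal_of_surjective (Ideal.Quotient.mk a) Ideal.Quotient.mk_surjective,
        Ideal.map_map, Ideal.map_map]
      rfl
    rw [Groth.Agent.RatliffLib.dim_flat_local (A := A ⧸ a) (A' := A' ⧸ J),
      ringKrullDim_eq_of_ringEquiv ((Ideal.quotEquivOfEq hmap).trans
        (DoubleQuot.quotQuotEquivQuotOfLE (Ideal.map_mono (IsLocalRing.le_maximalIdeal ha)))), hzero, add_zero]
  have hle : ∀ q : PrimeSpectrum A', ringKrullDim (A' ⧸ q.asIdeal) ≤ ringKrullDim (A ⧸ q.asIdeal.comap (algebraMap A A')) := by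
    intro q
    rw [← hdim _ (Ideal.comap_ne_top _ q.isPrime.ne_top)]
    exact ringKrullDim_le_of_surjective (Ideal.Quotient.factor Ideal.map_comap_le) (Ideal.Quotient.factor_surjective _)
  have hpt : ∀ t : ↥(pullback f g), (f.base ((pullback.fst f g).base t)).asIdeal =
      ((pullback.snd f g).base t).asIdeal.comap (algebraMap A A') := fun t => by
    rw [← Scheme.Hom.comp_apply (pullback.fst f g) f, pullback.condition]
    rfl
  refine ⟨fun t => ⟨Groth.Agent.ResTrdegBCLib.trdeg_le f g t, ?_⟩, fun x => ?_⟩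
  · rw [hpt]; exact hle _
  -- a prime over `p` of maximal dimension
  have hex : ∃ q : PrimeSpectrum A', q.asIdeal.comap (algebraMap A A') = (f.base x).asIdeal ∧
      ringKrullDim (A ⧸ (f.base x).asIdeal) ≤ ringKrullDim (A' ⧸ q.asIdeal) := by
    let p := (f.base x).asIdeal
    have hp : p.IsPrime := (f.base x).isPrime
    let J := p.map (algebraMap A A')
    have hJ : J ≠ ⊤ := fun h => (IsLocalRing.maximalIdeal.isMaximal A').ne_top
      (top_le_iff.1 (h ▸ Groth.Agent.RatliffLib.map_le_maximal _ hp.ne_top))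
    haveI : Nontrivial (A' ⧸ J) := Ideal.Quotient.nontrivial_iff.2 hJ
    haveI : IsLocalRing (A' ⧸ J) := IsLocalRing.of_surjective' _ Ideal.Quotient.mk_surjective
    haveI : FiniteDimensionalOrder (PrimeSpectrum (A' ⧸ J)) := inferInstanceAs (FiniteRingKrullDim (A' ⧸ J))
    let c := LTSeries.longestOf (PrimeSpectrum (A' ⧸ J))
    have hc : ringKrullDim (A' ⧸ J) = c.length := Order.krullDim_eq_length_of_finiteDimensionalOrder
    let Q₀ : PrimeSpectrum A' := PrimeSpectrum.comap (Ideal.Quotient.mk J) c.head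
    have hJQ : J ≤ Q₀.asIdeal := fun z hz => by
      show Ideal.Quotient.mk J z ∈ c.head.asIdeal
      rw [Ideal.Quotient.eq_zero_iff_mem.2 hz]
      exact zero_mem _
    haveI := hp
    haveI := Q₀.isPrime
    haveI : Q₀.asIdeal.LiesOver (Q₀.asIdeal.comap (algebraMap A A')) := ⟨rfl⟩
    haveI : (Q₀.asIdeal.comap (algebraMap A A')).IsPrime := Ideal.IsPrime.comap _
    obtain ⟨Q, hQle, hQ, hQp⟩ := Ideal.exists_ideal_le_liesOver_of_le (p := p) (q := Q₀.asIdeal.comap (algebraMap A A'))
      Q₀.asIdeal (Ideal.map_le_iff_le_comap.1 hJQ)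
    refine ⟨⟨Q, hQ⟩, hQp.over.symm, ?_⟩
    rw [← hdim p hp.ne_top, hc, ringKrullDim_quotient]
    let e : PrimeSpectrum (A' ⧸ J) → PrimeSpectrum A' := PrimeSpectrum.comap (Ideal.Quotient.mk J)
    have hmem : ∀ i, e (c i) ∈ PrimeSpectrum.zeroLocus (R := A') (Q : Set A') := fun i =>
      hQle.trans (Ideal.comap_mono (c.monotone (Fin.zero_le i)))
    have hstep : ∀ i : Fin c.length, e (c i.castSucc) < e (c i.succ) := fun i =>
      lt_of_le_of_ne (Ideal.comap_mono (c.step i).le) fun h =>
        (c.step i).ne (PrimeSpectrum.comap_injective_of_surjective _ Ideal.Quotient.mk_surjective h)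
    exact Order.LTSeries.length_le_krullDim
      (⟨c.length, fun i => ⟨e (c i), hmem i⟩, fun i => hstep i⟩ : LTSeries (PrimeSpectrum.zeroLocus (R := A') (Q : Set A')))
  obtain ⟨q, hq, hqd⟩ := hex
  obtain ⟨t, htx, hty, htr⟩ := Groth.Agent.ResTrdegBCLib.exists_point f g x q (PrimeSpectrum.ext hq.symm)
  refine ⟨t, htx, ?_, le_antisymm ?_ ?_⟩
  · subst htx
    exact le_antisymm (Groth.Agent.ResTrdegBCLib.trdeg_le f g t) htr
  · rw [hpt]; exact hle _
  · rw [show (pullback.snd f g).base t = q from hty, show (pullback.fst f g).base t = x from htx]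
    exact hqd

end Groth.Agent.S5196
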