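import Groth.Statements.S5199
import Groth.Agent.S2945
import Groth.Agent.LefAmpleLib.Leff
import Groth.Agent.AcycLib.Basic
-- import your own Groth.Agent.* helpers here

set_option autoImplicit false
universe u
open CategoryTheory CategoryTheory.Limits AlgebraicGeometry
open LefX

set_option linter.style.haveILetI false
set_option backward.isDefEq.respectTransparency false

namespace Groth.Agent.S5199

theorem finite_H_quot (B : Type u) [CommRing B] [IsRegularRing B] (A : Type u) [CommRing A] [IsLocalRing A]
    [IsNoetherianRing A] (φ : B →+* A) (hφ : Function.Surjective φ) (t : A) (ht : t ∈ IsLocalRing.maximalIdeal A)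
    (hreg : IsSMulRegular A t)
    (h3 : ∀ p : Ideal A, ∀ _ : p.IsPrime, t ∈ p → ringKrullDim (A ⧸ p) = 1 →
      (3 : ℕ∞) ≤ LocCoh.depth (Localization.AtPrime p) (Localization.AtPrime p)) :
    ∀ i : ℕ, i ≤ 2 → Module.Finite A (LocCoh.H (IsLocalRing.maximalIdeal A) i (A ⧸ Ideal.span {t})) := by
  refine (Groth.Agent.S2930.result B A φ hφ _ (A ⧸ Ideal.span {t}) 2).2 fun p q hp hq hcov => ?_
  let P := p.asIdeal
  let S := P.primeCompl
  let L := Localization.AtPrime P
  by_cases htp : t ∈ P
  · have hdim : ringKrullDim (A ⧸ P) = 1 := by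
      obtain ⟨s, hs, hsp⟩ := Set.not_subset.1 hp
      refine LefAmpleLib.ringKrullDim_quotient_eq_one P s hs hsp fun r hr hle hsr => ?_
      have hq' : q.asIdeal = IsLocalRing.maximalIdeal A :=
        le_antisymm (IsLocalRing.le_maximalIdeal q.2.ne_top) hq
      have hrq : (⟨r, hr⟩ : PrimeSpectrum A) ≤ q :=
        show r ≤ q.asIdeal from hq' ▸ IsLocalRing.le_maximalIdeal hr.ne_top
      have hle' : p ≤ ⟨r, hr⟩ := hle
      rcases hle'.eq_or_lt with he | hlt
      · exact absurd (show s ∈ P by rw [show P = r from congrArg PrimeSpectrum.asIdeal he]; exact hsr) hsp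
      · rcases hrq.eq_or_lt with he' | hlt'
        · exact (congrArg PrimeSpectrum.asIdeal he').trans hq'
        · exact absurd hlt' (hcov.2 hlt)
    have h := h3 P p.2 htp hdim
    haveI : Module.Finite L (LocalizedModule S (A ⧸ Ideal.span {t})) :=
      Module.Finite.of_isLocalizedModule S (LocalizedModule.mkLinearMap S _)
    let m : A →ₗ[A] A := LinearMap.lsmul A A t
    let q' : A →ₗ[A] A ⧸ Ideal.span {t} := (Ideal.span {t}).mkQ
    have he : Function.Exact m q' := fun x => by
      rw [Submodule.mkQ_apply, Submodule.Quotient.mk_eq_zero, Ideal.mem_span_singleton']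
      exact ⟨fun ⟨c, hc⟩ => ⟨c, (mul_comm t c).trans hc⟩, fun ⟨c, hc⟩ => ⟨c, (mul_comm c t).trans hc⟩⟩
    have hd : (3 : ℕ∞) ≤ LocCoh.depth L (LocalizedModule S A) := h
    exact AcycLib.le_depth_quot (LocalizedModule.map S m) (LocalizedModule.map S q')
      (LocalizedModule.map_injective S m hreg) (LocalizedModule.map_surjective S q' (Submodule.mkQ_surjective _))
      (LocalizedModule.map_exact S m q' he) 2 (le_trans (by norm_num) hd) (by simpa using hd)
  · haveI : Subsingleton (LocalizedModule S (A ⧸ Ideal.span {t})) := LocalizedModule.subsingleton_iff.2 fun x =>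
      ⟨t, htp, by
        obtain ⟨y, rfl⟩ := Submodule.Quotient.mk_surjective _ x
        rw [← Submodule.Quotient.mk_smul, Submodule.Quotient.mk_eq_zero]
        exact Ideal.mul_mem_right y _ (Ideal.mem_span_singleton_self t)⟩
    rw [CAlgBasics.depth_eq_top]
    exact le_top

/-- Let A be a Noetherian local ring which is a quotient of a regular local ring, t an A-regular element
of the maximal ideal such that A is separated and complete for the (t)-adic topology, X the
punctured spectrum of A and Y = V(t) ∩ X, the closed subscheme of X defined by t. Assume that depth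
A_p ≥ 2 for every prime ideal p with dim A/p = 1 (the closed points of X), and that depth A_p ≥ 3
for every such p containing t (the closed points of Y). Then the effective Lefschetz condition
Leff(X, Y) holds: for every open U ⊇ Y of X and every finite locally free O_U-module D, Hom(D, O_U)
→ lim_n Hom(D, O_U/t^(n+1)O_U) is bijective, and every levelwise finite locally free system of
modules on the completion of X along Y is the completion of a finite locally free module on some
open neighbourhood of Y. -/
theorem result (A : Type u) [CommRing A] [IsLocalRing A] [IsNoetherianRing A] (hq : ∃ (B : Type u) (_ : CommRing B) (_ : IsRegularLocalRing B) (φ : B →+* A), Function.Surjective φ) (t : A) (ht : t ∈ IsLocalRing.maximalIdeal A) (hreg : IsSMulRegular A t) [IsAdicComplete (Ideal.span {t}) A] (h2 : ∀ p : Ideal A, ∀ _ : p.IsPrime, ringKrullDim (A ⧸ p) = 1 → (2 : ℕ∞) ≤ LocCoh.depth (Localization.AtPrime p) (Localization.AtPrime p)) (h3 : ∀ p : Ideal A, ∀ _ : p.IsPrime, t ∈ p → ringKrullDim (A ⧸ p) = 1 → (3 : ℕ∞) ≤ LocCoh.depth (Localization.AtPrime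 p) (Localization.AtPrime p)) : LefX.LeffCond (↑(FEt.puncturedSpec A) : Scheme.{u}) ((Spec.map (CommRingCat.ofHom (Ideal.Quotient.mk (Ideal.span {t})))).ker.comap (FEt.puncturedSpec A).ι) := by
  obtain ⟨B, _, _, φ, hφ⟩ := hq
  haveI : IsRegularRing B :=
    { isRegularLocalRing_localization := fun q _ => RegLocal.isRegularLocalRing_localization B q }
  have hfin := finite_H_quot B A φ hφ t ht hreg h3
  refine ⟨S2945.result B A φ hφ t ht hreg fun p hp => h2 p.asIdeal p.2 hp, ?_⟩
  have hnzd : t ∈ nonZeroDivisors A := mem_nonZeroDivisors_iff_right.2 fun x hx =>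
    hreg (show t • x = t • 0 by rw [smul_zero, smul_eq_mul, mul_comm]; exact hx)
  rw [S3372.puncturedSpec_eq]
  exact fun 𝔐 h => LefAmpleLib.exists_locFree_algebraization _ t hnzd (hfin 1 one_le_two) (hfin 2 le_rfl) 𝔐 h

end Groth.Agent.S5199
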