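import Groth.Statements.S5204
-- import your own Groth.Agent.* helpers here

set_option autoImplicit false
open CategoryTheory CategoryTheory.Limits
universe w v₁ u₁
open DescCat

namespace Groth.Agent.S5204

/-- In a category with pullbacks: if `u` and `v` are effective epimorphisms and `v` is a universal
epimorphism (all its base changes are epimorphisms), then the composite `v ≫ u` is an effective
epimorphism. -/
theorem result {C : Type u₁} [Category.{v₁} C] [HasPullbacks C]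
    {U T S : C} (v : U ⟶ T) (u : T ⟶ S) [EffectiveEpi u] [EffectiveEpi v]
    (hv : MorphismProperty.universally (MorphismProperty.epimorphisms C) v) :
    EffectiveEpi (v ≫ u) := by
  classical
  have hv' : ∀ {Z : C} (a : Z ⟶ T), Epi (pullback.fst a v) := fun a =>
    hv _ _ _ (IsPullback.of_hasPullback a v)
  have key : ∀ {W : C} (w : U ⟶ W),
      (∀ {Z : C} (g₁ g₂ : Z ⟶ U), g₁ ≫ v ≫ u = g₂ ≫ v ≫ u → g₁ ≫ w = g₂ ≫ w) →
      ∃! d : S ⟶ W, (v ≫ u) ≫ d = w := by
    intro W w h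
    have h1 : ∀ {Z : C} (g₁ g₂ : Z ⟶ U), g₁ ≫ v = g₂ ≫ v → g₁ ≫ w = g₂ ≫ w := fun g₁ g₂ hg =>
      h g₁ g₂ (by rw [reassoc_of% hg])
    let w' : T ⟶ W := EffectiveEpi.desc v w h1
    have hw' : v ≫ w' = w := EffectiveEpi.fac v w h1
    have h2 : ∀ {Z : C} (a b : Z ⟶ T), a ≫ u = b ≫ u → a ≫ w' = b ≫ w' := by
      intro Z a b hab
      let p₁ := pullback.fst a v
      let p₂ := pullback.fst (p₁ ≫ b) v
      haveI : Epi p₁ := hv' a
      haveI : Epi p₂ := hv' _
      rw [← cancel_epi p₁, ← cancel_epi p₂]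
      have e1 : p₁ ≫ a = pullback.snd a v ≫ v := pullback.condition
      have e2 : p₂ ≫ p₁ ≫ b = pullback.snd (p₁ ≫ b) v ≫ v := pullback.condition
      have h3 : (p₂ ≫ pullback.snd a v) ≫ v ≫ u = pullback.snd (p₁ ≫ b) v ≫ v ≫ u := by
        rw [Category.assoc, ← reassoc_of% e1, hab, reassoc_of% e2]
      have h4 := h _ _ h3
      calc p₂ ≫ p₁ ≫ a ≫ w' = (p₂ ≫ pullback.snd a v) ≫ w := by
            rw [reassoc_of% e1, hw', Category.assoc]
        _ = pullback.snd (p₁ ≫ b) v ≫ w := h4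
        _ = p₂ ≫ p₁ ≫ b ≫ w' := by rw [reassoc_of% e2, hw']
    refine ⟨EffectiveEpi.desc u w' h2, ?_, fun d hd => ?_⟩
    · show (v ≫ u) ≫ _ = w
      rw [Category.assoc, EffectiveEpi.fac, hw']
    · refine EffectiveEpi.uniq u w' h2 d ?_
      rw [← cancel_epi v, ← Category.assoc, hd, hw']
  exact ⟨⟨{ desc := fun w h => (key w fun g₁ g₂ hg => h g₁ g₂ hg).choose
            fac := fun w h => (key w fun g₁ g₂ hg => h g₁ g₂ hg).choose_spec.1
            uniq := fun w h m hm => (key w fun g₁ g₂ hg => h g₁ g₂ hg).choose_spec.2 m hm }⟩⟩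

end Groth.Agent.S5204
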