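import Mathlib.CategoryTheory.EffectiveEpi.Basic
import Mathlib.CategoryTheory.MorphismProperty.Limits
import Mathlib.CategoryTheory.Limits.Shapes.Pullback.IsPullback.Basic
import Mathlib.CategoryTheory.Limits.Shapes.BinaryProducts
import Mathlib.CategoryTheory.Comma.Over.Pullback

/-! Universal effective epimorphisms in a category with pullbacks. -/

set_option autoImplicit false
set_option backward.isDefEq.respectTransparency false
set_option backward.isDefEq.respectTransparency.types false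
set_option linter.unusedVariables false
open CategoryTheory CategoryTheory.Limits
universe v u

namespace Groth.Agent.UEELib

variable {C : Type u} [Category.{v} C]

/-- Universal effective epimorphisms. -/
abbrev UEE : MorphismProperty C :=
  MorphismProperty.universally (fun (A B : C) (p : A ⟶ B) => EffectiveEpi p)

theorem UEE.effectiveEpi {X Y : C} {f : X ⟶ Y} (h : UEE f) : EffectiveEpi f :=
  h (𝟙 X) (𝟙 Y) f (IsPullback.of_vert_isIso ⟨by simp⟩)

theorem UEE.epi {X Y : C} {f : X ⟶ Y} (h : UEE f) : Epi f :=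
  have := h.effectiveEpi; inferInstance

theorem UEE.of_isPullback {P X Y Z : C} {fst : P ⟶ X} {snd : P ⟶ Y} {f : X ⟶ Z} {g : Y ⟶ Z}
    (h : IsPullback fst snd f g) (hg : UEE g) : UEE fst :=
  fun X' Y' i₁ i₂ f' h' => hg _ _ _ (h'.paste_vert h)

theorem UEE.of_isIso {X Y : C} (f : X ⟶ Y) [IsIso f] : UEE f := fun X' Y' i₁ i₂ f' h => by
  have := h.isIso_fst_of_isIso
  infer_instance

variable [HasPullbacks C]

theorem UEE.fst {X Y Z : C} (f : X ⟶ Z) {g : Y ⟶ Z} (hg : UEE g) : UEE (pullback.fst f g) :=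
  UEE.of_isPullback (IsPullback.of_hasPullback f g) hg

theorem UEE.snd {X Y Z : C} {f : X ⟶ Z} (g : Y ⟶ Z) (hf : UEE f) : UEE (pullback.snd f g) :=
  UEE.of_isPullback (IsPullback.of_hasPullback f g).flip hf

/-- A pair of maps can be lifted simultaneously through a universal effective epimorphism. -/
theorem UEE.lift_pair {U T Z : C} {v : U ⟶ T} (hv : UEE v) (a b : Z ⟶ T) :
    ∃ (Z' : C) (q : Z' ⟶ Z) (a' b' : Z' ⟶ U), Epi q ∧ a' ≫ v = q ≫ a ∧ b' ≫ v = q ≫ b := by
  let p₁ := pullback.fst a v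
  let p₂ := pullback.fst (p₁ ≫ b) v
  have := (UEE.fst a hv).epi
  have := (UEE.fst (p₁ ≫ b) hv).epi
  refine ⟨_, p₂ ≫ p₁, p₂ ≫ pullback.snd a v, pullback.snd (p₁ ≫ b) v, epi_comp _ _, ?_, ?_⟩
  · simp [p₁, p₂, pullback.condition]
  · simp [p₁, p₂, pullback.condition]

theorem effectiveEpi_comp {U T S : C} {v : U ⟶ T} {u : T ⟶ S} (hu : EffectiveEpi u) (hv : UEE v) :
    EffectiveEpi (v ≫ u) := by
  have := hv.effectiveEpi
  have hv' : ∀ {W : C} (e : U ⟶ W), (∀ {Z : C} (g₁ g₂ : Z ⟶ U), g₁ ≫ v ≫ u = g₂ ≫ v ≫ u → g₁ ≫ e = g₂ ≫ e) →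
      ∀ {Z : C} (g₁ g₂ : Z ⟶ U), g₁ ≫ v = g₂ ≫ v → g₁ ≫ e = g₂ ≫ e :=
    fun e he _ g₁ g₂ w => he g₁ g₂ (by rw [← Category.assoc, w, Category.assoc])
  have hu' : ∀ {W : C} (e : U ⟶ W)
      (he : ∀ {Z : C} (g₁ g₂ : Z ⟶ U), g₁ ≫ v ≫ u = g₂ ≫ v ≫ u → g₁ ≫ e = g₂ ≫ e),
      ∀ {Z : C} (g₁ g₂ : Z ⟶ T), g₁ ≫ u = g₂ ≫ u →
        g₁ ≫ EffectiveEpi.desc v e (hv' e he) = g₂ ≫ EffectiveEpi.desc v e (hv' e he) := by
    intro W e he Z g₁ g₂ w
    obtain ⟨Z', q, a, b, hq, ha, hb⟩ := hv.lift_pair g₁ g₂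
    have := he a b (by rw [reassoc_of% ha, reassoc_of% hb, w])
    rw [← EffectiveEpi.fac v e (hv' e he), reassoc_of% ha, reassoc_of% hb] at this
    exact (cancel_epi q).1 this
  exact ⟨⟨{
    desc := fun e he => EffectiveEpi.desc u (EffectiveEpi.desc v e (hv' e he)) (hu' e he)
    fac := fun e he => by simp [Category.assoc]
    uniq := fun e he m hm => by
      refine EffectiveEpi.uniq u _ _ m ?_
      exact EffectiveEpi.uniq v _ _ (u ≫ m) (by rw [← Category.assoc]; exact hm) }⟩⟩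

theorem UEE.comp {U T S : C} {v : U ⟶ T} {u : T ⟶ S} (hv : UEE v) (hu : UEE u) : UEE (v ≫ u) := by
  intro A B i₁ i₂ p h
  have hQ : IsPullback (pullback.snd u i₂) (pullback.fst u i₂) i₂ u := (IsPullback.of_hasPullback u i₂).flip
  have e : pullback.lift (i₁ ≫ v) p (by simp [h.w]) ≫ pullback.snd u i₂ = p := pullback.lift_snd _ _ _
  have e' : pullback.lift (i₁ ≫ v) p (by simp [h.w]) ≫ pullback.fst u i₂ = i₁ ≫ v := pullback.lift_fst _ _ _
  have h' : IsPullback (pullback.lift (i₁ ≫ v) p (by simp [h.w])) i₁ (pullback.fst u i₂) v :=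
    IsPullback.of_right (e.symm ▸ h) e' hQ
  rw [← e]
  exact effectiveEpi_comp (hu _ _ _ hQ) (UEE.of_isPullback h' hv)

theorem effectiveEpi_of_comp {U T S : C} {v : U ⟶ T} {u : T ⟶ S} (h : UEE (v ≫ u)) :
    EffectiveEpi u := by
  have := h.effectiveEpi
  have hc : ∀ {W : C} (e : T ⟶ W), (∀ {Z : C} (g₁ g₂ : Z ⟶ T), g₁ ≫ u = g₂ ≫ u → g₁ ≫ e = g₂ ≫ e) →
      ∀ {Z : C} (g₁ g₂ : Z ⟶ U), g₁ ≫ v ≫ u = g₂ ≫ v ≫ u → g₁ ≫ (v ≫ e) = g₂ ≫ (v ≫ e) :=
    fun e he _ g₁ g₂ w => by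
      simpa using he (g₁ ≫ v) (g₂ ≫ v) (by simpa using w)
  exact ⟨⟨{
    desc := fun e he => EffectiveEpi.desc (v ≫ u) (v ≫ e) (hc e he)
    fac := fun e he => by
      have := (UEE.fst u h).epi
      refine (cancel_epi (pullback.fst u (v ≫ u))).1 ?_
      rw [pullback.condition_assoc, EffectiveEpi.fac, ← Category.assoc]
      exact (he _ _ (by rw [pullback.condition, Category.assoc])).symm
    uniq := fun e he m hm => EffectiveEpi.uniq (v ≫ u) _ _ m (by simp [hm]) }⟩⟩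

theorem UEE.of_comp {U T S : C} {v : U ⟶ T} {u : T ⟶ S} (h : UEE (v ≫ u)) : UEE u := by
  intro A B i₁ i₂ p hp
  exact effectiveEpi_of_comp (v := pullback.fst i₁ v)
    (UEE.of_isPullback ((IsPullback.of_hasPullback i₁ v).paste_horiz hp) h)

/-- A map which becomes a monomorphism after a universal effective base change is one. -/
theorem mono_of_isPullback {X' X Y' Y : C} {p : X' ⟶ X} {g' : X' ⟶ Y'} {g : X ⟶ Y} {q : Y' ⟶ Y}
    (h : IsPullback p g' g q) (hq : UEE q) [Mono g'] : Mono g := by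
  constructor
  intro Z a b w
  have := (UEE.fst (a ≫ g) hq).epi
  refine (cancel_epi (pullback.fst (a ≫ g) q)).1 ?_
  let a' := h.lift (pullback.fst (a ≫ g) q ≫ a) (pullback.snd (a ≫ g) q) (by simp [pullback.condition])
  let b' := h.lift (pullback.fst (a ≫ g) q ≫ b) (pullback.snd (a ≫ g) q) (by simp [← w, pullback.condition])
  have : a' = b' := (cancel_mono g').1 (by simp [a', b'])
  simpa [a', b'] using congrArg (· ≫ p) this

theorem isIso_of_isPullback {X' X Y' Y : C} {p : X' ⟶ X} {g' : X' ⟶ Y'} {g : X ⟶ Y} {q : Y' ⟶ Y}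
    (h : IsPullback p g' g q) (hq : UEE q) [IsIso g'] : IsIso g := by
  have := mono_of_isPullback h hq
  have hg : UEE g := UEE.of_comp (v := p) (by rw [h.w]; exact (UEE.of_isIso g').comp hq)
  have := hg.effectiveEpi
  let ψ := EffectiveEpi.desc g (𝟙 X) (fun a b w => by simpa using (cancel_mono g).1 w)
  have hψ : g ≫ ψ = 𝟙 X := EffectiveEpi.fac g _ _
  exact ⟨ψ, hψ, (cancel_epi g).1 (by rw [reassoc_of% hψ, Category.comp_id])⟩

omit [HasPullbacks C] in
/-- Factorisations through a monomorphism descend along an effective epimorphism. -/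
theorem exists_lift_of_effectiveEpi {X' X Y S : C} (p : X' ⟶ X) [EffectiveEpi p] (x : X ⟶ S)
    (y : Y ⟶ S) [Mono y] (a : X' ⟶ Y) (h : a ≫ y = p ≫ x) : ∃ b : X ⟶ Y, b ≫ y = x := by
  refine ⟨EffectiveEpi.desc p a (fun g₁ g₂ w => (cancel_mono y).1 ?_), ?_⟩
  · simp only [Category.assoc, h]
    rw [reassoc_of% w]
  · exact (cancel_epi p).1 (by rw [← Category.assoc, EffectiveEpi.fac, h])

theorem UEE.prodMap [HasBinaryProducts C] {X Y X' Y' : C} {u : X ⟶ Y} {u' : X' ⟶ Y'}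
    (hu : UEE u) (hu' : UEE u') : UEE (prod.map u u') := by
  have h₁ : IsPullback (prod.map u (𝟙 X')) prod.fst prod.fst u :=
    IsPullback.of_isLimit' ⟨by simp⟩ (PullbackCone.IsLimit.mk _
      (fun s => prod.lift s.snd (s.fst ≫ prod.snd))
      (fun s => by ext <;> simp [s.condition, prod.lift_fst, prod.lift_snd])
      (fun s => by simp)
      (fun s m h1 h2 => by
        ext
        · simpa using h2
        · simpa using congrArg (· ≫ prod.snd) h1))
  have h₂ : IsPullback (prod.map (𝟙 Y) u') prod.snd prod.snd u' :=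
    IsPullback.of_isLimit' ⟨by simp⟩ (PullbackCone.IsLimit.mk _
      (fun s => prod.lift (s.fst ≫ prod.fst) s.snd)
      (fun s => by ext <;> simp [s.condition, prod.lift_fst, prod.lift_snd])
      (fun s => by simp)
      (fun s m h1 h2 => by
        ext
        · simpa using congrArg (· ≫ prod.fst) h1
        · simpa using h2))
  simpa using (UEE.of_isPullback h₁ hu).comp (UEE.of_isPullback h₂ hu')

end Groth.Agent.UEELib
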