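import Groth.Statements.S5209
import Groth.Agent.UEELib

set_option autoImplicit false
open CategoryTheory CategoryTheory.Limits
universe w v₁ u₁
open DescCat

namespace Groth.Agent.S5209

open Groth.Agent.UEELib
set_option backward.isDefEq.respectTransparency false
set_option backward.isDefEq.respectTransparency.types false

/-- In a category with pullbacks, let `f : S' ⟶ S` be a universal effective epimorphism, that is, a
morphism all of whose base changes are effective epimorphisms. Then a morphism `g` over `S` is an
isomorphism (resp. a monomorphism) if and only if its base change along `f` is. -/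
theorem result {C : Type u₁} [Category.{v₁} C] [HasPullbacks C]
    {S' S : C} (f : S' ⟶ S) (hf : (MorphismProperty.universally (fun (A B : C) (p : A ⟶ B) => EffectiveEpi p)) f) {X Y : Over S} (g : X ⟶ Y) :
    (IsIso g ↔ IsIso ((Over.pullback f).map g)) ∧ (Mono g ↔ Mono ((Over.pullback f).map g)) := by
  have hq := IsPullback.of_hasPullback Y.hom f
  have h : IsPullback (pullback.fst X.hom f) ((Over.pullback f).map g).left g.left (pullback.fst Y.hom f) := by
    refine IsPullback.of_bot ?_ (by simp) hq
    have := IsPullback.of_hasPullback X.hom f
    simpa using this
  have hu : UEE (pullback.fst Y.hom f) := UEE.fst Y.hom hf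
  refine ⟨⟨fun _ => inferInstance, fun _ => ?_⟩, ⟨fun _ => inferInstance, fun _ => ?_⟩⟩
  · have : IsIso ((Over.pullback f).map g).left := inferInstanceAs (IsIso ((Over.forget S').map ((Over.pullback f).map g)))
    have : IsIso ((Over.forget S).map g) := isIso_of_isPullback h hu
    exact isIso_of_reflects_iso g (Over.forget S)
  · have : Mono ((Over.pullback f).map g).left := Over.mono_left_of_mono _
    have : Mono ((Over.forget S).map g) := mono_of_isPullback h hu
    exact (Over.forget S).mono_of_mono_map this

end Groth.Agent.S5209
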