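import Groth.Statements.S5210
import Groth.Agent.UEELib

set_option autoImplicit false
open CategoryTheory CategoryTheory.Limits
universe w v₁ u₁
open DescCat

namespace Groth.Agent.S5210

open Groth.Agent.UEELib
set_option backward.isDefEq.respectTransparency false
set_option backward.isDefEq.respectTransparency.types false

/-- In a category with pullbacks, let `f : S' ⟶ S` be a universal effective epimorphism (all of its base
changes are effective epimorphisms) and `Y ⟶ S` a monomorphism. Then an object `X` over `S` admits a
morphism to `Y` over `S` if and only if it does so after base change along `f`. -/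
theorem result {C : Type u₁} [Category.{v₁} C] [HasPullbacks C]
    {S' S : C} (f : S' ⟶ S) (hf : (MorphismProperty.universally (fun (A B : C) (p : A ⟶ B) => EffectiveEpi p)) f) (X Y : Over S) [Mono Y.hom] :
    Nonempty (X ⟶ Y) ↔ Nonempty ((Over.pullback f).obj X ⟶ (Over.pullback f).obj Y) := by
  refine ⟨fun ⟨φ⟩ => ⟨(Over.pullback f).map φ⟩, fun ⟨φ⟩ => ?_⟩
  have := (UEE.fst X.hom hf).effectiveEpi
  obtain ⟨b, hb⟩ := exists_lift_of_effectiveEpi (pullback.fst X.hom f) X.hom Y.hom (φ.left ≫ pullback.fst Y.hom f)
    (by
      rw [Category.assoc, pullback.condition, pullback.condition]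
      exact congrArg (· ≫ f) (Over.w φ) |> (Category.assoc _ _ _).symm.trans)
  exact ⟨Over.homMk b hb⟩

end Groth.Agent.S5210
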