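import Groth.Statements.S5211
import Groth.Agent.UEELib

set_option autoImplicit false
open CategoryTheory CategoryTheory.Limits
universe w v₁ u₁
open DescCat

namespace Groth.Agent.S5211

open Groth.Agent.UEELib
set_option backward.isDefEq.respectTransparency false
set_option backward.isDefEq.respectTransparency.types false

/-- In a category with pullbacks: if `f : S' ⟶ S` is a universal effective epimorphism and the canonical
map `S' ×_S S' ⟶ S' ×_T S'` induced by `g : S ⟶ T` is an isomorphism, then `g` is a monomorphism. -/
theorem result {C : Type u₁} [Category.{v₁} C] [HasPullbacks C]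
    {S' S T : C} (f : S' ⟶ S) (hf : (MorphismProperty.universally (fun (A B : C) (p : A ⟶ B) => EffectiveEpi p)) f) (g : S ⟶ T)
    [IsIso (pullback.mapDesc f f g)] : Mono g := by
  constructor
  intro Z a b w
  obtain ⟨Z', q, a', b', hq, ha, hb⟩ := UEE.lift_pair hf a b
  have e : a' ≫ f ≫ g = b' ≫ f ≫ g := by rw [reassoc_of% ha, reassoc_of% hb, w]
  let t := pullback.lift a' b' e ≫ inv (pullback.mapDesc f f g)
  have m₁ : pullback.mapDesc f f g ≫ pullback.fst _ _ = pullback.fst f f := by simp [pullback.mapDesc]
  have m₂ : pullback.mapDesc f f g ≫ pullback.snd _ _ = pullback.snd f f := by simp [pullback.mapDesc]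
  have ht : t ≫ pullback.mapDesc f f g = pullback.lift a' b' e := by
    rw [Category.assoc, IsIso.inv_hom_id, Category.comp_id]
  have h₁ : t ≫ pullback.fst f f = a' := by rw [← m₁, ← Category.assoc, ht, pullback.lift_fst]
  have h₂ : t ≫ pullback.snd f f = b' := by rw [← m₂, ← Category.assoc, ht, pullback.lift_snd]
  exact (cancel_epi q).1 (ha.symm.trans (((congrArg (· ≫ f) h₁).symm.trans
    (by simp only [Category.assoc]; rw [pullback.condition])).trans ((congrArg (· ≫ f) h₂).trans hb)))

end Groth.Agent.S5211
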