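import Groth.Statements.S5212
import Mathlib

set_option autoImplicit false
universe u
open GrpQ

namespace Groth.Agent.S5212

open Polynomial TensorProduct

/-- For `A'` finite and free as an `A`-module, a prime `p` of `A` and `a ∈ A'`, the element `a` belongs
to some prime of `A'` lying over `p` if and only if its norm belongs to `p`. (The published
statement allows `A'` projective of constant rank over `A`; this row takes `A'` free, where the norm
is the determinant of multiplication.) -/
theorem result {A A' : Type u} [CommRing A] [CommRing A'] [Algebra A A']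
    [Module.Free A A'] [Module.Finite A A'] (p : Ideal A) [p.IsPrime] (a : A') :
    (∃ q : Ideal A', q.IsPrime ∧ q.LiesOver p ∧ a ∈ q) ↔ Algebra.norm A a ∈ p := by
  classical
  let b := Module.Free.chooseBasis A A'
  constructor
  · rintro ⟨q, hq, hqp, ha⟩
    rw [hqp.over, Ideal.mem_comap]
    obtain ⟨c, hc⟩ : a ∣ algebraMap A A' (Algebra.norm A a) := by
      have h1 := (Algebra.leftMulMatrix b a).aeval_self_charpoly
      rw [Polynomial.aeval_algHom_apply, map_eq_zero_iff _ (Algebra.leftMulMatrix_injective b),
        ← Polynomial.X_mul_divX_add (Algebra.leftMulMatrix b a).charpoly, map_add, map_mul,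
        Polynomial.aeval_X, Polynomial.aeval_C, add_eq_zero_iff_eq_neg'] at h1
      rw [Algebra.norm_eq_matrix_det b, Matrix.det_eq_sign_charpoly_coeff, map_mul, h1]
      exact dvd_mul_of_dvd_right (dvd_mul_right _ _).neg_right _
    rw [hc]; exact Ideal.mul_mem_right _ _ ha
  · intro hn
    by_contra hno
    push Not at hno
    have hd : ¬ Disjoint ((Ideal.span {a} ⊔ p.map (algebraMap A A') : Ideal A') : Set A')
        (Algebra.algebraMapSubmonoid A' p.primeCompl : Set A') := by
      intro hd
      obtain ⟨q, hq, hle, hdq⟩ := Ideal.exists_le_prime_disjoint _ _ hd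
      refine hno q hq ?_ (hle (Ideal.mem_sup_left (Ideal.mem_span_singleton_self a)))
      refine ⟨le_antisymm (Ideal.map_le_iff_le_comap.1 (le_sup_right.trans hle)) fun x hx => ?_⟩
      by_contra hxp
      exact Set.disjoint_left.1 hdq hx ⟨x, hxp, rfl⟩
    obtain ⟨_, hx, s, hs, rfl⟩ := Set.not_disjoint_iff.1 hd
    obtain ⟨u', hu, m, hm, hum⟩ := Submodule.mem_sup.1 hx
    obtain ⟨c, rfl⟩ := Ideal.mem_span_singleton.1 hu
    have hcoord : ∀ z ∈ p.map (algebraMap A A'), ∀ i j,
        Algebra.leftMulMatrix b z i j ∈ p := by
      intro z hz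
      have hz' : z ∈ p • (⊤ : Submodule A A') := by rwa [Ideal.smul_top_eq_map, Submodule.restrictScalars_mem]
      refine Submodule.smul_induction_on hz' ?_ ?_
      · intro r hr w _ i j
        rw [map_smul, Matrix.smul_apply, smul_eq_mul]; exact Ideal.mul_mem_right _ _ hr
      · intro x y hx hy i j
        rw [map_add, Matrix.add_apply]; exact add_mem (hx i j) (hy i j)
    have h1 : Algebra.norm A (a * c) ∈ p := by rw [map_mul]; exact Ideal.mul_mem_right _ _ hn
    rw [eq_sub_of_add_eq hum, Algebra.norm_eq_matrix_det b, ← Ideal.Quotient.eq_zero_iff_mem,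
      RingHom.map_det, map_sub, map_sub] at h1
    have h0 : (Ideal.Quotient.mk p).mapMatrix (Algebra.leftMulMatrix b m) = 0 := by
      ext i j; exact Ideal.Quotient.eq_zero_iff_mem.2 (hcoord m hm i j)
    rw [h0, sub_zero, AlgHom.commutes, Matrix.algebraMap_eq_diagonal, RingHom.mapMatrix_apply,
      Matrix.diagonal_map (map_zero _), Matrix.det_diagonal] at h1
    simp only [Function.comp_apply, Pi.algebraMap_apply, Algebra.algebraMap_self, RingHom.id_apply, Finset.prod_const] at h1
    exact hs (Ideal.Quotient.eq_zero_iff_mem.1 (pow_eq_zero_iff'.1 h1).1)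

end Groth.Agent.S5212
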