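import Groth.Statements.S5213
import Mathlib
-- import your own Groth.Agent.* helpers here

set_option autoImplicit false
set_option backward.isDefEq.respectTransparency false
universe u
open GrpQ

namespace Groth.Agent.S5213

theorem exists_avoid {B M ι : Type*} [CommRing B] [IsLocalRing B] [Infinite (IsLocalRing.ResidueField B)]
    [AddCommGroup M] [Module B M] (N : Submodule B M) (P : ι → Submodule B M) (s : Finset ι)
    (h : ∀ i ∈ s, ¬ N ≤ P i) : ∃ v ∈ N, ∀ i ∈ s, v ∉ P i := by
  classical
  induction s using Finset.induction_on with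
  | empty => exact ⟨0, N.zero_mem, by simp⟩
  | @insert a s ha ih =>
    obtain ⟨v, hv, hvs⟩ := ih fun i hi => h i (Finset.mem_insert_of_mem hi)
    obtain ⟨w, hw, hwa⟩ := SetLike.not_le_iff_exists.1 (h a (Finset.mem_insert_self a s))
    by_contra hn
    push Not at hn
    choose t ht using IsLocalRing.residue_surjective (R := B)
    have hbad : ∀ c : IsLocalRing.ResidueField B, ∃ i : (insert a s : Finset ι), v + t c • w ∈ P i := fun c => by
      obtain ⟨i, hi, hvi⟩ := hn (v + t c • w) (N.add_mem hv (N.smul_mem _ hw))
      exact ⟨⟨i, hi⟩, hvi⟩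
    choose g hg using hbad
    obtain ⟨c, c', hne, hgg⟩ := Finite.exists_ne_map_eq_of_infinite g
    have hu : IsUnit (t c - t c') := by
      by_contra hu
      exact hne (sub_eq_zero.1 (by
        rw [← ht c, ← ht c', ← map_sub]
        exact (IsLocalRing.residue_eq_zero_iff _).2 hu))
    have h1 : (t c - t c') • w ∈ P (g c) := by
      have := (P (g c)).sub_mem (hg c) (hgg ▸ hg c')
      rwa [add_sub_add_left_eq_sub, ← sub_smul] at this
    have hwP : w ∈ P (g c) := ((P (g c)).smul_mem_iff_of_isUnit hu).1 h1
    rcases Finset.mem_insert.1 (g c).2 with h2 | h2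
    · exact hwa (h2 ▸ hwP)
    · refine hvs _ h2 ?_
      have := (P (g c)).sub_mem (hg c) ((P (g c)).smul_mem (t c) hwP)
      rwa [add_sub_cancel_right] at this

/-- Let `B` be a local ring with infinite residue field, `A` a semi-local ring, `B → A` a ring map
carrying the maximal ideal of `B` into the Jacobson radical of `A`, `M` a finite free `A`-module and
`N` a `B`-submodule of `M` generating `M` as an `A`-module. Then `N` contains a basis of `M` over
`A`. -/
theorem result {B A M : Type u} [CommRing B] [CommRing A]
    [IsLocalRing B] [Infinite (IsLocalRing.ResidueField B)] [Algebra B A]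
    [Finite (MaximalSpectrum A)]
    (hBA : (IsLocalRing.maximalIdeal B).map (algebraMap B A) ≤ (⊥ : Ideal A).jacobson)
    [AddCommGroup M] [Module A M] [Module B M] [IsScalarTower B A M]
    [Module.Free A M] [Module.Finite A M]
    (N : Submodule B M) (hN : Submodule.span A (N : Set M) = ⊤) :
    ∃ b : Module.Basis (Fin (Module.finrank A M)) A M, ∀ i, b i ∈ N := by
  classical
  let d := Module.finrank A M
  haveI : Nontrivial A ∨ Subsingleton A := (subsingleton_or_nontrivial A).symm
  rcases (subsingleton_or_nontrivial A) with hA | hA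
  · haveI : Subsingleton M := Module.subsingleton A M
    let e : M ≃ₗ[A] (Fin (Module.finrank A M) →₀ A) :=
      { toFun := fun _ => 0
        invFun := fun _ => 0
        map_add' := fun _ _ => Subsingleton.elim _ _
        map_smul' := fun _ _ => Subsingleton.elim _ _
        left_inv := fun _ => Subsingleton.elim _ _
        right_inv := fun _ => Subsingleton.elim _ _ }
    refine ⟨Module.Basis.ofRepr e, fun i => ?_⟩
    have h0 : (Module.Basis.ofRepr e) i = 0 := Subsingleton.elim _ _
    rw [h0]
    exact N.zero_mem
  let b := Module.finBasis A M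
  let k := fun m : MaximalSpectrum A => A ⧸ m.asIdeal
  letI : ∀ m, Field (k m) := fun m => Ideal.Quotient.field m.asIdeal
  let π : ∀ m : MaximalSpectrum A, M →ₗ[A] (Fin d → k m) := fun m =>
    (LinearMap.compLeft (Submodule.mkQ m.asIdeal) (Fin d)).comp b.equivFun.toLinearMap
  have hπ : ∀ m, Function.Surjective (π m) := fun m y => by
    choose a ha using fun i => Ideal.Quotient.mk_surjective (y i)
    refine ⟨b.equivFun.symm a, funext fun i => ?_⟩
    change Submodule.mkQ m.asIdeal (b.equivFun (b.equivFun.symm a) i) = y i
    rw [LinearEquiv.apply_symm_apply]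
    exact ha i
  have step : ∀ i : ℕ, ∃ v : Fin i → M, (∀ j, v j ∈ N) ∧ ∀ m, Submodule.span (k m) (Set.range fun j => π m (v j)) = ⊤ ∨
      i ≤ Module.finrank (k m) (Submodule.span (k m) (Set.range fun j => π m (v j))) := by
    intro i
    induction i with
    | zero => exact ⟨Fin.elim0, fun j => j.elim0, fun m => Or.inr (Nat.zero_le _)⟩
    | succ i ih =>
      obtain ⟨v, hv, hvm⟩ := ih
      let S := fun m => Submodule.span (k m) (Set.range fun j => π m (v j))
      let P := fun m => (Submodule.comap (π m) ((S m).restrictScalars A)).restrictScalars B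
      haveI := Fintype.ofFinite (MaximalSpectrum A)
      obtain ⟨w, hw, hwP⟩ := exists_avoid N P (Finset.univ.filter fun m => S m ≠ ⊤) fun m hm hle => by
        refine (Finset.mem_filter.1 hm).2 ?_
        have h1 : (⊤ : Submodule A M) ≤ Submodule.comap (π m) ((S m).restrictScalars A) := by
          rw [← hN, Submodule.span_le]; exact hle
        rw [eq_top_iff]
        intro y _
        obtain ⟨x, rfl⟩ := hπ m y
        exact h1 trivial
      refine ⟨Fin.snoc v w, fun j => ?_, fun m => ?_⟩
      · induction j using Fin.lastCases with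
        | last => simpa using hw
        | cast j => simpa using hv j
      have hle : S m ≤ Submodule.span (k m) (Set.range fun j => π m (Fin.snoc (α := fun _ => M) v w j)) :=
        Submodule.span_mono (by rintro _ ⟨j, rfl⟩; exact ⟨j.castSucc, by simp⟩)
      by_cases hm : S m = ⊤
      · left; rw [eq_top_iff, ← hm]; exact hle
      · right
        have hi := (hvm m).resolve_left hm
        have hlt : S m < Submodule.span (k m) (Set.range fun j => π m (Fin.snoc (α := fun _ => M) v w j)) := by
          refine lt_of_le_of_ne hle fun e => hwP m (Finset.mem_filter.2 ⟨Finset.mem_univ _, hm⟩) ?_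
          change π m w ∈ S m
          rw [e]
          exact Submodule.subset_span ⟨Fin.last i, by simp⟩
        have := Submodule.finrank_lt_finrank_of_lt hlt
        exact Nat.succ_le_of_lt (lt_of_le_of_lt hi this)
  obtain ⟨v, hv, hvm⟩ := step d
  have htop : ∀ m, Submodule.span (k m) (Set.range fun j => π m (v j)) = ⊤ := fun m => by
    refine (hvm m).elim id fun h => Submodule.eq_top_of_finrank_eq (le_antisymm ?_ ?_)
    · exact Submodule.finrank_le _
    · simpa using h
  let Q := Submodule.span A (Set.range v)
  have hQ : Q = ⊤ := by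
    by_contra hne
    have hann : Module.annihilator A (M ⧸ Q) ≠ ⊤ := fun h => by
      apply hne
      rw [eq_top_iff]
      intro x _
      have h1 : (1 : A) • Q.mkQ x = 0 := Module.mem_annihilator.1 (h ▸ Submodule.mem_top) _
      rwa [one_smul, Submodule.mkQ_apply, Submodule.Quotient.mk_eq_zero] at h1
    obtain ⟨m, hm, hle⟩ := Ideal.exists_le_maximal _ hann
    have hsub : (⊤ : Submodule A (M ⧸ Q)) ≤ m • ⊤ := fun y _ => by
      obtain ⟨x, rfl⟩ := Q.mkQ_surjective y
      obtain ⟨c, hc⟩ := (Submodule.mem_span_range_iff_exists_fun _).1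
        ((htop ⟨m, hm⟩).ge (Submodule.mem_top : π ⟨m, hm⟩ x ∈ (⊤ : Submodule (k ⟨m, hm⟩) _)))
      choose a ha using fun j => Ideal.Quotient.mk_surjective (c j)
      let z := x - ∑ j, a j • v j
      have hz : ∀ i, b.repr z i ∈ m := fun i => by
        have h0 : π ⟨m, hm⟩ z = 0 := by
          simp only [z, map_sub, map_sum, map_smul, ← hc, sub_eq_zero]
          refine Finset.sum_congr rfl fun j _ => funext fun l => ?_
          simp only [Pi.smul_apply, ← ha j]
          rfl
        exact Ideal.Quotient.eq_zero_iff_mem.1 (congrFun h0 i)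
      have hxz : Q.mkQ x = Q.mkQ z := by
        simp only [z, map_sub, map_sum, map_smul]
        rw [Finset.sum_eq_zero fun j _ => by
          rw [Submodule.mkQ_apply, (Submodule.Quotient.mk_eq_zero Q).2 (Submodule.subset_span ⟨j, rfl⟩), smul_zero], sub_zero]
      rw [hxz, ← b.sum_repr z, map_sum]
      exact Submodule.sum_mem _ fun i _ => by
        rw [map_smul]; exact Submodule.smul_mem_smul (hz i) Submodule.mem_top
    obtain ⟨r, hr1, hr⟩ := Submodule.exists_sub_one_mem_and_smul_eq_zero_of_fg_of_le_smul m ⊤ Module.Finite.fg_top hsub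
    have hrm : r ∈ m := hle (Module.mem_annihilator.2 fun y => hr y Submodule.mem_top)
    exact hm.ne_top ((Ideal.eq_top_iff_one _).2 (by simpa using m.sub_mem hrm hr1))
  let f : M →ₗ[A] M := b.constr A v
  have hf : Function.Surjective f := by
    rw [← LinearMap.range_eq_top, Module.Basis.constr_range]; exact hQ
  refine ⟨b.map (LinearEquiv.ofBijective f ⟨OrzechProperty.injective_of_surjective_endomorphism f hf, hf⟩), fun i => ?_⟩
  simpa [f] using hv i

end Groth.Agent.S5213
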