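import Groth.Statements.S5215
-- import your own Groth.Agent.* helpers here

set_option autoImplicit false
open CategoryTheory CategoryTheory.Limits
universe w v₁ u₁
open DescCat

namespace Groth.Agent.S5215

/-- In a category with pullbacks: for a universally effective equivalence relation `p₁, p₂ : R ⇉ X` with
quotient map `π : X ⟶ X/R` and a morphism `g` out of the quotient, `g` is a monomorphism if and only
if `R` is the kernel pair of `π ≫ g`. -/
theorem result {C : Type u₁} [Category.{v₁} C] [HasPullbacks C]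
    {R X Z : C} {p₁ p₂ : R ⟶ X} (e : UniversallyEffectiveEquivalenceRelation p₁ p₂)
    (f : X ⟶ Z) (g : e.B ⟶ Z) (hg : e.π ≫ g = f) :
    Mono g ↔ IsKernelPair f p₁ p₂ := by
  subst hg
  constructor
  · intro hm
    exact e.isKernelPair.comp_of_mono
  · intro hk
    refine ⟨fun {T} a b hab => ?_⟩
    let q₁ := pullback.fst a e.π
    let q₂ := pullback.fst (q₁ ≫ b) e.π
    haveI : EffectiveEpi q₁ := e.universally_effectiveEpi_π _ _ _ (IsPullback.of_hasPullback a e.π)
    haveI : EffectiveEpi q₂ := e.universally_effectiveEpi_π _ _ _ (IsPullback.of_hasPullback (q₁ ≫ b) e.π)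
    rw [← cancel_epi q₁, ← cancel_epi q₂]
    have e1 : q₁ ≫ a = pullback.snd a e.π ≫ e.π := pullback.condition
    have e2 : q₂ ≫ q₁ ≫ b = pullback.snd (q₁ ≫ b) e.π ≫ e.π := pullback.condition
    have h3 : (q₂ ≫ pullback.snd a e.π) ≫ e.π ≫ g = pullback.snd (q₁ ≫ b) e.π ≫ e.π ≫ g := by
      rw [Category.assoc, ← reassoc_of% e1, hab, reassoc_of% e2]
    have h4 := hk.lift (q₂ ≫ pullback.snd a e.π) (pullback.snd (q₁ ≫ b) e.π) h3
    rw [e1, e2, ← Category.assoc, ← hk.lift_fst (q₂ ≫ pullback.snd a e.π) _ h3, Category.assoc,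
      e.isPushout.w, ← Category.assoc, hk.lift_snd]

end Groth.Agent.S5215
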