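import Groth.Statements.S5216
import Groth.Agent.UEELib
import Mathlib.CategoryTheory.EquivalenceRelation
import Mathlib.CategoryTheory.Limits.Preserves.Shapes.BinaryProducts
import Mathlib.CategoryTheory.Limits.Types.Pullbacks
import Mathlib.CategoryTheory.Limits.FunctorCategory.EpiMono

set_option autoImplicit false
open CategoryTheory CategoryTheory.Limits
universe w v₁ u₁
open ShfCat

namespace Groth.Agent.S5216

set_option backward.isDefEq.respectTransparency false
set_option backward.isDefEq.respectTransparency.types false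
open Opposite

theorem effectiveEpi_of_surj {C : Type u₁} [Category.{v₁} C] {A B : Cᵒᵖ ⥤ Type w} (p : A ⟶ B)
    (hp : ∀ U, Function.Surjective (p.app U)) : EffectiveEpi p := by
  classical
  have key : ∀ {W : Cᵒᵖ ⥤ Type w} (e : A ⟶ W),
      (∀ {Z : Cᵒᵖ ⥤ Type w} (g₁ g₂ : Z ⟶ A), g₁ ≫ p = g₂ ≫ p → g₁ ≫ e = g₂ ≫ e) →
      ∀ U (a a' : A.obj U), p.app U a = p.app U a' → e.app U a = e.app U a' := by
    intro W e he U a a' h
    have hE := (IsPullback.of_hasPullback p p).map ((evaluation Cᵒᵖ (Type w)).obj U)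
    let c := (PullbackCone.IsLimit.equivPullbackObj hE.isLimit).symm ⟨(a, a'), h⟩
    have := congrArg (fun k => k.app U c) (he (pullback.fst p p) (pullback.snd p p) pullback.condition)
    exact ((congrArg (e.app U) (PullbackCone.IsLimit.equivPullbackObj_symm_apply_fst hE.isLimit _)).symm.trans this).trans
      (congrArg (e.app U) (PullbackCone.IsLimit.equivPullbackObj_symm_apply_snd hE.isLimit _))
  refine ⟨⟨{
    desc := fun {W} e he =>
      { app := fun U => TypeCat.ofHom fun b => e.app U (hp U b).choose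
        naturality := fun U V g => ConcreteCategory.hom_ext _ _ fun b =>
          (key e he V (hp V (B.map g b)).choose (A.map g (hp U b).choose) ((hp V (B.map g b)).choose_spec.trans
            ((congrArg (B.map g) (hp U b).choose_spec.symm).trans (NatTrans.naturality_apply p g _).symm))).trans
          (NatTrans.naturality_apply e g _) }
    fac := fun {W} e he => NatTrans.ext (funext fun U => ConcreteCategory.hom_ext _ _ fun a =>
      key e he U _ a (hp U (p.app U a)).choose_spec)
    uniq := fun {W} e he m hm => NatTrans.ext (funext fun U => ConcreteCategory.hom_ext _ _ fun b =>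
      ((congrArg (m.app U) (hp U b).choose_spec).symm).trans (congrArg (fun k => k.app U (hp U b).choose) hm)) }⟩⟩

theorem universally_of_surj {C : Type u₁} [Category.{v₁} C] {A B : Cᵒᵖ ⥤ Type w} (p : A ⟶ B)
    (hp : ∀ U, Function.Surjective (p.app U)) :
    (MorphismProperty.universally (fun (A B : Cᵒᵖ ⥤ Type w) (p : A ⟶ B) => EffectiveEpi p)) p := by
  intro A' B' i₁ i₂ p' h
  refine effectiveEpi_of_surj p' fun U b => ?_
  obtain ⟨a, ha⟩ := hp U (i₂.app U b)
  have hE := h.map ((evaluation Cᵒᵖ (Type w)).obj U)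
  exact ⟨(PullbackCone.IsLimit.equivPullbackObj hE.isLimit).symm ⟨(b, a), ha.symm⟩,
    PullbackCone.IsLimit.equivPullbackObj_symm_apply_fst hE.isLimit _⟩

section
variable {C : Type u₁} [Category.{v₁} C] {R X : Cᵒᵖ ⥤ Type w} {p₁ p₂ : R ⟶ X} (e : EquivalenceRelation p₁ p₂)

include e in
theorem app_ext (U : Cᵒᵖ) {r r' : R.obj U} (h₁ : p₁.app U r = p₁.app U r')
    (h₂ : p₂.app U r = p₂.app U r') : r = r' := by
  let F := (evaluation Cᵒᵖ (Type w)).obj U
  have : Mono (prod.lift p₁ p₂) := ⟨fun a b w => e.right_cancellation a b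
    (by simpa using congrArg (fun z => z ≫ (prod.fst : X ⨯ X ⟶ _)) w)
    (by simpa using congrArg (fun z => z ≫ (prod.snd : X ⨯ X ⟶ _)) w)⟩
  have hinj := (mono_iff_injective (F.map (prod.lift p₁ p₂))).1 inferInstance
  refine hinj ?_
  have hl := mapIsLimitOfPreservesOfIsLimit F (prod.fst : X ⨯ X ⟶ X) prod.snd (prodIsProd X X)
  have key : ∀ {a b : F.obj (X ⨯ X)}, F.map prod.fst a = F.map prod.fst b → F.map prod.snd a = F.map prod.snd b → a = b := by
    intro a b ha hb
    have := BinaryFan.IsLimit.hom_ext hl (f := TypeCat.ofHom fun _ : PUnit => a) (g := TypeCat.ofHom fun _ : PUnit => b)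
      (by ext; exact ha) (by ext; exact hb)
    exact congrArg (fun k => k PUnit.unit) this
  refine key ?_ ?_
  · rw [← Functor.map_comp_apply, ← Functor.map_comp_apply, prod.lift_fst]; exact h₁
  · rw [← Functor.map_comp_apply, ← Functor.map_comp_apply, prod.lift_snd]; exact h₂

def secRel (p₁ p₂ : R ⟶ X) (U : Cᵒᵖ) (x y : X.obj U) : Prop :=
  ∃ r, p₁.app U r = x ∧ p₂.app U r = y

include e in
theorem secRel_equivalence (U : Cᵒᵖ) : _root_.Equivalence (secRel p₁ p₂ U) where
  refl x := ⟨e.r.app U x, congrArg (fun k => k.app U x) e.reflexivity₁,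
    congrArg (fun k => k.app U x) e.reflexivity₂⟩
  symm := fun ⟨r, h₁, h₂⟩ => ⟨e.s.app U r, (congrArg (fun k => k.app U r) e.symmetry₁).trans h₂,
    (congrArg (fun k => k.app U r) e.symmetry₂).trans h₁⟩
  trans := fun ⟨r, h₁, h₂⟩ ⟨r', h₁', h₂'⟩ => by
    have hE := (IsPullback.of_isLimit e.isLimit).map ((evaluation Cᵒᵖ (Type w)).obj U)
    let c := (PullbackCone.IsLimit.equivPullbackObj hE.isLimit).symm ⟨(r, r'), h₂.trans h₁'.symm⟩
    refine ⟨e.t.app U c, (congrArg (fun k => k.app U c) e.transitivity₁).trans ?_,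
      (congrArg (fun k => k.app U c) e.transitivity₂).trans ?_⟩
    · exact (congrArg (p₁.app U) (PullbackCone.IsLimit.equivPullbackObj_symm_apply_fst hE.isLimit _)).trans h₁
    · exact (congrArg (p₂.app U) (PullbackCone.IsLimit.equivPullbackObj_symm_apply_snd hE.isLimit _)).trans h₂'

def quotPresheaf (p₁ p₂ : R ⟶ X) : Cᵒᵖ ⥤ Type w where
  obj U := Quot (secRel p₁ p₂ U)
  map {U V} f := TypeCat.ofHom (Quot.map (X.map f) fun x y ⟨r, h₁, h₂⟩ => ⟨R.map f r,
    (NatTrans.naturality_apply p₁ f r).trans (congrArg (X.map f) h₁),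
    (NatTrans.naturality_apply p₂ f r).trans (congrArg (X.map f) h₂)⟩)
  map_id U := by
    refine ConcreteCategory.hom_ext _ _ fun q => ?_
    obtain ⟨x, rfl⟩ := Quot.exists_rep q
    exact congrArg (Quot.mk _) (by simp)
  map_comp f g := by
    refine ConcreteCategory.hom_ext _ _ fun q => ?_
    obtain ⟨x, rfl⟩ := Quot.exists_rep q
    exact congrArg (Quot.mk _) (by simp)

def quotMap (p₁ p₂ : R ⟶ X) : X ⟶ quotPresheaf p₁ p₂ where
  app U := TypeCat.ofHom (Quot.mk _)
  naturality _ _ _ := rfl

theorem quotMap_w (p₁ p₂ : R ⟶ X) : p₁ ≫ quotMap p₁ p₂ = p₂ ≫ quotMap p₁ p₂ := by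
  ext U r
  exact Quot.sound ⟨r, rfl, rfl⟩

include e in
theorem quot_isPullback : IsPullback p₁ p₂ (quotMap p₁ p₂) (quotMap p₁ p₂) := by
  have hq : ∀ (U) (x y : X.obj U), (quotMap p₁ p₂).app U x = (quotMap p₁ p₂).app U y → secRel p₁ p₂ U x y :=
    fun U x y h => (secRel_equivalence e U).eqvGen_iff.1 (Quot.eqvGen_exact h)
  refine ⟨⟨quotMap_w p₁ p₂⟩, ⟨PullbackCone.IsLimit.mk _ (fun s =>
    { app := fun U => TypeCat.ofHom (fun w => (hq U (s.fst.app U w) (s.snd.app U w)
        (congrArg (fun k => k.app U w) s.condition)).choose), naturality := fun U V f => ?_ })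
    (fun s => ?_) (fun s => ?_) (fun s m h1 h2 => ?_)⟩⟩
  · ext w
    have hU := (hq U (s.fst.app U w) (s.snd.app U w) (congrArg (fun k => k.app U w) s.condition)).choose_spec
    have hV := (hq V (s.fst.app V (s.pt.map f w)) (s.snd.app V (s.pt.map f w))
      (congrArg (fun k => k.app V (s.pt.map f w)) s.condition)).choose_spec
    refine app_ext e V ?_ ?_
    · exact hV.1.trans ((NatTrans.naturality_apply s.fst f w).trans
        ((congrArg (X.map f) hU.1).symm.trans (NatTrans.naturality_apply p₁ f _).symm))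
    · exact hV.2.trans ((NatTrans.naturality_apply s.snd f w).trans
        ((congrArg (X.map f) hU.2).symm.trans (NatTrans.naturality_apply p₂ f _).symm))
  · ext U w
    exact (hq U (s.fst.app U w) (s.snd.app U w) (congrArg (fun k => k.app U w) s.condition)).choose_spec.1
  · ext U w
    exact (hq U (s.fst.app U w) (s.snd.app U w) (congrArg (fun k => k.app U w) s.condition)).choose_spec.2
  · ext U w
    have hU := (hq U (s.fst.app U w) (s.snd.app U w) (congrArg (fun k => k.app U w) s.condition)).choose_spec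
    exact app_ext e U ((congrArg (fun k => k.app U w) h1).trans hU.1.symm) ((congrArg (fun k => k.app U w) h2).trans hU.2.symm)

def quotDesc {G : Cᵒᵖ ⥤ Type w} (f : X ⟶ G) (w : p₁ ≫ f = p₂ ≫ f) : quotPresheaf p₁ p₂ ⟶ G where
  app U := TypeCat.ofHom (Quot.lift (f.app U) fun x y ⟨r, h₁, h₂⟩ => by
    rw [← h₁, ← h₂]
    exact congrArg (fun k => k.app U r) w)
  naturality U V g := by
    refine ConcreteCategory.hom_ext _ _ fun q => ?_
    obtain ⟨x, rfl⟩ := Quot.exists_rep q
    exact NatTrans.naturality_apply f g x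

include e in
theorem quot_isPushout : IsPushout p₁ p₂ (quotMap p₁ p₂) (quotMap p₁ p₂) := by
  have key : ∀ (s : PushoutCocone p₁ p₂), s.inl = s.inr := fun s => by
    have := congrArg (fun k => e.r ≫ k) s.condition
    simpa using this
  refine ⟨⟨quotMap_w p₁ p₂⟩, ⟨PushoutCocone.IsColimit.mk _
    (fun s => quotDesc s.inl (s.condition.trans (congrArg (p₂ ≫ ·) (key s).symm)))
    (fun s => rfl) (fun s => (key s)) (fun s m h₁ _ => ?_)⟩⟩
  ext U q
  obtain ⟨x, rfl⟩ := Quot.exists_rep q
  exact congrArg (fun k => k.app U x) h₁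

end

/-- The case of the chaotic topology, i.e. for presheaves of sets on an arbitrary category: every
equivalence relation is universally effective (its quotient exists, the relation is the kernel pair
of the quotient map, and that map is a universal effective epimorphism). -/
theorem result (C : Type u₁) [Category.{v₁} C]
    {R X : Cᵒᵖ ⥤ Type w} (p₁ p₂ : R ⟶ X) [IsEquivalenceRelation p₁ p₂] :
    IsUniversallyEffectiveEquivalenceRelation p₁ p₂ := by
  obtain ⟨⟨e⟩⟩ := ‹IsEquivalenceRelation p₁ p₂›
  exact ⟨⟨{ toEffectiveEquivalenceRelation :=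
      { toEquivalenceRelation := e, B := _, π := quotMap p₁ p₂, isKernelPair := quot_isPullback e
        isPushout := quot_isPushout e }
            universally_effectiveEpi_π := universally_of_surj _ fun U => Quot.mk_surjective }⟩⟩

end Groth.Agent.S5216
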