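import Groth.Statements.S5218
import Mathlib.CategoryTheory.Sites.RegularEpi
import Mathlib.CategoryTheory.Sites.LocallySurjective
import Mathlib.CategoryTheory.Sites.Limits
import Mathlib.CategoryTheory.MorphismProperty.Limits
import Mathlib.CategoryTheory.Limits.Types.Pullbacks

set_option autoImplicit false
open CategoryTheory CategoryTheory.Limits
universe w v₁ u₁
open ShfCat

namespace Groth.Agent.S5218

set_option backward.isDefEq.respectTransparency false
set_option backward.isDefEq.respectTransparency.types false
open Opposite

/-- In a category of sheaves of sets base changes of epimorphisms are epimorphisms. -/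
theorem epi_of_isPullback {C : Type u₁} [Category.{v₁} C] {J : GrothendieckTopology C} [HasSheafify J (Type w)]
    {A B X Y : Sheaf J (Type w)} {i₁ : A ⟶ X} {i₂ : B ⟶ Y} {p : A ⟶ B} {f : X ⟶ Y}
    (h : IsPullback i₁ p f i₂) [Epi f] : Epi p := by
  have hf : Presheaf.IsLocallySurjective J f.hom := (Sheaf.isLocallySurjective_iff_epi f).2 inferInstance
  refine (Sheaf.isLocallySurjective_iff_epi p).1 ⟨fun {U} b => ?_⟩
  refine J.superset_covering (fun V g hg => ?_) (Presheaf.imageSieve_mem J f.hom (i₂.hom.app (op U) b))
  obtain ⟨x, hx⟩ := hg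
  have hE := h.map (sheafToPresheaf J (Type w) ⋙ (evaluation Cᵒᵖ (Type w)).obj (op V))
  have e : f.hom.app (op V) x = i₂.hom.app (op V) (B.obj.map g.op b) :=
    hx.trans (NatTrans.naturality_apply i₂.hom g.op b).symm
  let a := (PullbackCone.IsLimit.equivPullbackObj hE.isLimit).symm ⟨(x, B.obj.map g.op b), e⟩
  exact ⟨a, PullbackCone.IsLimit.equivPullbackObj_symm_apply_snd hE.isLimit _⟩

theorem universally_effectiveEpi {C : Type u₁} [Category.{v₁} C] {J : GrothendieckTopology C} [HasSheafify J (Type w)]
    {X Y : Sheaf J (Type w)} (f : X ⟶ Y) [Epi f] :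
    (MorphismProperty.universally (fun (A B : Sheaf J (Type w)) (p : A ⟶ B) => EffectiveEpi p)) f :=
  fun A B i₁ i₂ p h => by
    have := epi_of_isPullback h.flip
    have := IsRegularEpiCategory.regularEpiOfEpi p
    infer_instance

/-- (i) ⇒ (ii), for a single morphism: in the category of sheaves of sets on a site (with
sheafification), every epimorphism is a universal effective epimorphism. -/
theorem result {C : Type u₁} [Category.{v₁} C]
    (J : GrothendieckTopology C) [HasSheafify J (Type w)]
    {X Y : Sheaf J (Type w)} (f : X ⟶ Y) [Epi f] :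
    (MorphismProperty.universally (fun (A B : Sheaf J (Type w)) (p : A ⟶ B) => EffectiveEpi p)) f := by
  exact universally_effectiveEpi f

end Groth.Agent.S5218
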