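import Groth.Statements.S5217
import Groth.Agent.S5218
import Mathlib.CategoryTheory.EquivalenceRelation
import Mathlib.CategoryTheory.Limits.Preserves.Shapes.Equalizers

set_option autoImplicit false
open CategoryTheory CategoryTheory.Limits
universe w v₁ u₁
open ShfCat

namespace Groth.Agent.S5217

set_option backward.isDefEq.respectTransparency false
set_option backward.isDefEq.respectTransparency.types false
open Opposite

section
variable {C : Type u₁} [Category.{v₁} C] {J : GrothendieckTopology C} [HasSheafify J (Type w)]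
  {R X : Sheaf J (Type w)} {p₁ p₂ : R ⟶ X} (e : EquivalenceRelation p₁ p₂)

include e in
theorem app_ext (U : Cᵒᵖ) {r r' : R.obj.obj U} (h₁ : p₁.hom.app U r = p₁.hom.app U r')
    (h₂ : p₂.hom.app U r = p₂.hom.app U r') : r = r' := by
  let F := sheafToPresheaf J (Type w) ⋙ (evaluation Cᵒᵖ (Type w)).obj U
  have : Mono (prod.lift p₁ p₂) := ⟨fun a b w => e.right_cancellation a b
    (by simpa using congrArg (fun z => z ≫ (prod.fst : X ⨯ X ⟶ _)) w)
    (by simpa using congrArg (fun z => z ≫ (prod.snd : X ⨯ X ⟶ _)) w)⟩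
  have hinj := (mono_iff_injective (F.map (prod.lift p₁ p₂))).1 inferInstance
  refine hinj ?_
  have hl := mapIsLimitOfPreservesOfIsLimit F (prod.fst : X ⨯ X ⟶ X) prod.snd (prodIsProd X X)
  have key : ∀ {a b : F.obj (X ⨯ X)}, F.map prod.fst a = F.map prod.fst b → F.map prod.snd a = F.map prod.snd b → a = b := by
    intro a b ha hb
    have := BinaryFan.IsLimit.hom_ext hl (f := TypeCat.ofHom fun _ : PUnit => a) (g := TypeCat.ofHom fun _ : PUnit => b)
      (by ext; exact ha) (by ext; exact hb)
    exact congrArg (fun k => k PUnit.unit) this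
  refine key ?_ ?_
  · rw [← Functor.map_comp_apply, ← Functor.map_comp_apply, prod.lift_fst]; exact h₁
  · rw [← Functor.map_comp_apply, ← Functor.map_comp_apply, prod.lift_snd]; exact h₂

/-- The relation on sections. -/
def secRel (p₁ p₂ : R ⟶ X) (U : Cᵒᵖ) (x y : X.obj.obj U) : Prop :=
  ∃ r, p₁.hom.app U r = x ∧ p₂.hom.app U r = y

include e in
theorem secRel_equivalence (U : Cᵒᵖ) : _root_.Equivalence (secRel p₁ p₂ U) where
  refl x := ⟨e.r.hom.app U x, congrArg (fun k => k.hom.app U x) e.reflexivity₁,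
    congrArg (fun k => k.hom.app U x) e.reflexivity₂⟩
  symm := fun ⟨r, h₁, h₂⟩ => ⟨e.s.hom.app U r, (congrArg (fun k => k.hom.app U r) e.symmetry₁).trans h₂,
    (congrArg (fun k => k.hom.app U r) e.symmetry₂).trans h₁⟩
  trans := fun ⟨r, h₁, h₂⟩ ⟨r', h₁', h₂'⟩ => by
    have hE := (IsPullback.of_isLimit e.isLimit).map (sheafToPresheaf J (Type w) ⋙ (evaluation Cᵒᵖ (Type w)).obj U)
    let c := (PullbackCone.IsLimit.equivPullbackObj hE.isLimit).symm ⟨(r, r'), h₂.trans h₁'.symm⟩
    refine ⟨e.t.hom.app U c, (congrArg (fun k => k.hom.app U c) e.transitivity₁).trans ?_,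
      (congrArg (fun k => k.hom.app U c) e.transitivity₂).trans ?_⟩
    · exact (congrArg (p₁.hom.app U) (PullbackCone.IsLimit.equivPullbackObj_symm_apply_fst hE.isLimit _)).trans h₁
    · exact (congrArg (p₂.hom.app U) (PullbackCone.IsLimit.equivPullbackObj_symm_apply_snd hE.isLimit _)).trans h₂'

/-- The quotient presheaf. -/
def quotPresheaf (p₁ p₂ : R ⟶ X) : Cᵒᵖ ⥤ Type w where
  obj U := Quot (secRel p₁ p₂ U)
  map {U V} f := TypeCat.ofHom (Quot.map (X.obj.map f) fun x y ⟨r, h₁, h₂⟩ => ⟨R.obj.map f r,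
    (NatTrans.naturality_apply p₁.hom f r).trans (congrArg (X.obj.map f) h₁),
    (NatTrans.naturality_apply p₂.hom f r).trans (congrArg (X.obj.map f) h₂)⟩)
  map_id U := by
    refine ConcreteCategory.hom_ext _ _ fun q => ?_
    obtain ⟨x, rfl⟩ := Quot.exists_rep q
    exact congrArg (Quot.mk _) (by simp)
  map_comp f g := by
    refine ConcreteCategory.hom_ext _ _ fun q => ?_
    obtain ⟨x, rfl⟩ := Quot.exists_rep q
    exact congrArg (Quot.mk _) (by simp)

def quotMap (p₁ p₂ : R ⟶ X) : X.obj ⟶ quotPresheaf p₁ p₂ where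
  app U := TypeCat.ofHom (Quot.mk _)
  naturality _ _ _ := rfl

theorem quotMap_w (p₁ p₂ : R ⟶ X) : p₁.hom ≫ quotMap p₁ p₂ = p₂.hom ≫ quotMap p₁ p₂ := by
  ext U r
  exact Quot.sound ⟨r, rfl, rfl⟩

include e in
theorem quot_isPullback : IsPullback p₁.hom p₂.hom (quotMap p₁ p₂) (quotMap p₁ p₂) := by
  have hq : ∀ (U) (x y : X.obj.obj U), (quotMap p₁ p₂).app U x = (quotMap p₁ p₂).app U y → secRel p₁ p₂ U x y :=
    fun U x y h => (secRel_equivalence e U).eqvGen_iff.1 (Quot.eqvGen_exact h)
  refine ⟨⟨quotMap_w p₁ p₂⟩, ⟨PullbackCone.IsLimit.mk _ (fun s =>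
    { app := fun U => TypeCat.ofHom (fun w => (hq U (s.fst.app U w) (s.snd.app U w)
        (congrArg (fun k => k.app U w) s.condition)).choose), naturality := fun U V f => ?_ })
    (fun s => ?_) (fun s => ?_) (fun s m h1 h2 => ?_)⟩⟩
  · ext w
    have hU := (hq U (s.fst.app U w) (s.snd.app U w) (congrArg (fun k => k.app U w) s.condition)).choose_spec
    have hV := (hq V (s.fst.app V (s.pt.map f w)) (s.snd.app V (s.pt.map f w))
      (congrArg (fun k => k.app V (s.pt.map f w)) s.condition)).choose_spec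
    refine app_ext e V ?_ ?_
    · exact hV.1.trans ((NatTrans.naturality_apply s.fst f w).trans
        ((congrArg (X.obj.map f) hU.1).symm.trans (NatTrans.naturality_apply p₁.hom f _).symm))
    · exact hV.2.trans ((NatTrans.naturality_apply s.snd f w).trans
        ((congrArg (X.obj.map f) hU.2).symm.trans (NatTrans.naturality_apply p₂.hom f _).symm))
  · ext U w
    exact (hq U (s.fst.app U w) (s.snd.app U w) (congrArg (fun k => k.app U w) s.condition)).choose_spec.1
  · ext U w
    exact (hq U (s.fst.app U w) (s.snd.app U w) (congrArg (fun k => k.app U w) s.condition)).choose_spec.2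
  · ext U w
    have hU := (hq U (s.fst.app U w) (s.snd.app U w) (congrArg (fun k => k.app U w) s.condition)).choose_spec
    exact app_ext e U ((congrArg (fun k => k.app U w) h1).trans hU.1.symm) ((congrArg (fun k => k.app U w) h2).trans hU.2.symm)

def quotDesc {G : Cᵒᵖ ⥤ Type w} (f : X.obj ⟶ G) (w : p₁.hom ≫ f = p₂.hom ≫ f) : quotPresheaf p₁ p₂ ⟶ G where
  app U := TypeCat.ofHom (Quot.lift (f.app U) fun x y ⟨r, h₁, h₂⟩ => by
    rw [← h₁, ← h₂]
    exact congrArg (fun k => k.app U r) w)
  naturality U V g := by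
    refine ConcreteCategory.hom_ext _ _ fun q => ?_
    obtain ⟨x, rfl⟩ := Quot.exists_rep q
    exact NatTrans.naturality_apply f g x

noncomputable def quot_isColimit : IsColimit (Cofork.ofπ (quotMap p₁ p₂) (quotMap_w p₁ p₂)) :=
  Cofork.IsColimit.mk _ (fun s => quotDesc s.π s.condition) (fun s => rfl) fun s m hm => by
    ext U q
    obtain ⟨x, rfl⟩ := Quot.exists_rep q
    exact congrArg (fun k => k.app U x) hm

end

/-- In the category of sheaves of sets on a site, every equivalence relation is universally effective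
(its quotient sheaf exists, the relation is the kernel pair of the quotient map, and that map is a
universal effective epimorphism). Stated for sheaves valued in `Type w` whenever sheafification
exists. -/
theorem result {C : Type u₁} [Category.{v₁} C]
    (J : GrothendieckTopology C) [HasSheafify J (Type w)]
    {R X : Sheaf J (Type w)} (p₁ p₂ : R ⟶ X) [IsEquivalenceRelation p₁ p₂] :
    IsUniversallyEffectiveEquivalenceRelation p₁ p₂ := by
  obtain ⟨⟨e⟩⟩ := ‹IsEquivalenceRelation p₁ p₂›
  let a := presheafToSheaf J (Type w)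
  let adj := sheafificationAdjunction J (Type w)
  let εR := asIso (adj.counit.app R)
  let εX := asIso (adj.counit.app X)
  let π : X ⟶ a.obj (quotPresheaf p₁ p₂) := εX.inv ≫ a.map (quotMap p₁ p₂)
  have n₁ : a.map p₁.hom ≫ εX.hom = εR.hom ≫ p₁ := adj.counit.naturality p₁
  have n₂ : a.map p₂.hom ≫ εX.hom = εR.hom ≫ p₂ := adj.counit.naturality p₂
  have hk : IsKernelPair π p₁ p₂ := ((quot_isPullback e).map a).of_iso εR εX εX (Iso.refl _) n₁ n₂
    (by simp [π]) (by simp [π])
  have hc := isColimitCoforkMapOfIsColimit a _ (quot_isColimit (p₁ := p₁) (p₂ := p₂))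
  have key : ∀ (s : PushoutCocone p₁ p₂), s.inl = s.inr := fun s => by
    have := congrArg (fun k => e.r ≫ k) s.condition
    simpa using this
  have key' : ∀ (s : PushoutCocone p₁ p₂), a.map p₁.hom ≫ εX.hom ≫ s.inl = a.map p₂.hom ≫ εX.hom ≫ s.inl := fun s => by
    rw [reassoc_of% n₁, reassoc_of% n₂, s.condition, key s]
  have hp : IsPushout p₁ p₂ π π := by
    refine ⟨⟨hk.w⟩, ⟨PushoutCocone.IsColimit.mk _ (fun s => Cofork.IsColimit.desc hc (εX.hom ≫ s.inl) (key' s))
      (fun s => ?_) (fun s => ?_) (fun s m h₁ _ => ?_)⟩⟩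
    · exact (Category.assoc _ _ _).trans ((congrArg (εX.inv ≫ ·) (Cofork.IsColimit.π_desc' hc _ (key' s))).trans (by simp))
    · rw [← key s]
      exact (Category.assoc _ _ _).trans ((congrArg (εX.inv ≫ ·) (Cofork.IsColimit.π_desc' hc _ (key' s))).trans (by simp))
    · refine Cofork.IsColimit.hom_ext hc ((?_ : _ = εX.hom ≫ s.inl).trans (Cofork.IsColimit.π_desc' hc _ (key' s)).symm)
      rw [← h₁]
      simp [π]
  have : Epi (a.map (quotMap p₁ p₂)) := epi_of_isColimit_cofork hc
  have : Epi π := epi_comp _ _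
  exact ⟨⟨{ toEffectiveEquivalenceRelation :=
      { toEquivalenceRelation := e, B := _, π := π, isKernelPair := hk, isPushout := hp }
            universally_effectiveEpi_π := Groth.Agent.S5218.universally_effectiveEpi π }⟩⟩

end Groth.Agent.S5217
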