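import Groth.Statements.S5223
import Groth.Agent.FpqcDesc.Stalk
import Groth.Agent.LocImmersion.BaseChange
import Groth.Agent.LocImmersion.ExtendProp
set_option backward.isDefEq.respectTransparency false
set_option backward.isDefEq.respectTransparency.types false

set_option autoImplicit false
open CategoryTheory CategoryTheory.Limits AlgebraicGeometry
universe u
open GrpQ

namespace Groth.Agent.S5223

/-- In a cartesian square of schemes `F₂ = F₁ ×_{X₀} X₁` whose bottom map `u : X₁ ⟶ X₀` is flat, the
base-changed map `d' : F₂ ⟶ X₁` is flat at a point `x` if and only if `d : F₁ ⟶ X₀` is flat at the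
image of `x` in `F₁`. -/
theorem result {F₂ F₁ X₁ X₀ : Scheme.{u}}
    {v : F₂ ⟶ F₁} {d' : F₂ ⟶ X₁} {d : F₁ ⟶ X₀} {u : X₁ ⟶ X₀}
    (h : IsPullback v d' d u) [Flat u] (x : F₂) :
    (d'.stalkMap x).hom.Flat ↔ (d.stalkMap (v.base x)).hom.Flat := by
  haveI : Flat v := MorphismProperty.of_isPullback (P := @Flat) h.flip ‹_›
  constructor
  · intro hx
    refine (Groth.Agent.FlatDescStalk.flat_stalkMap_comp_iff v d x (Flat.stalkMap v x)).mp ?_
    rw [show v ≫ d = d' ≫ u from h.w, Scheme.Hom.stalkMap_comp, CommRingCat.hom_comp]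
    exact RingHom.Flat.comp (Flat.stalkMap u (d'.base x)) hx
  · intro hx
    let s := F₁.fromSpecStalk (v.base x)
    haveI : Flat (s ≫ d) := by
      rw [← Scheme.SpecMap_stalkMap_fromSpecStalk]
      haveI : Flat (Spec.map (d.stalkMap (v.base x))) := by
        rw [HasRingHomProperty.Spec_iff (P := @Flat)]; exact hx
      haveI := Groth.Agent.LocImmersion.flat (Groth.Agent.LocImmersion.isLocImmersion_fromSpecStalk (X := X₀) (d.base (v.base x))).1
      infer_instance
    let q := pullback.snd s v
    have hP : IsPullback (pullback.fst s v) (q ≫ d') (s ≫ d) u :=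
      IsPullback.paste_vert (IsPullback.of_hasPullback s v) h
    haveI : Flat (q ≫ d') := MorphismProperty.of_isPullback (P := @Flat) hP ‹_›
    have hq : LocImm.IsLocalizing q := Groth.Agent.LocImmersion.isLocalizing_of_isPullback
      (IsPullback.of_hasPullback s v) (Groth.Agent.LocImmersion.isLocImmersion_fromSpecStalk (X := F₁) (v.base x)).1
    obtain ⟨z, hz⟩ : x ∈ Set.range q := by
      rw [Scheme.Pullback.range_snd, Set.mem_preimage, Scheme.range_fromSpecStalk]
      exact specializes_rfl
    haveI := Groth.Agent.LocImmersion.flat hq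
    have cast : ∀ y, y = x → (d'.stalkMap y).hom.Flat → (d'.stalkMap x).hom.Flat := fun y e => e ▸ id
    refine cast (q z) hz ?_
    exact (Groth.Agent.FlatDescStalk.flat_stalkMap_comp_iff q d' z (Flat.stalkMap q z)).mp (Flat.stalkMap (q ≫ d') z)

end Groth.Agent.S5223
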