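import Groth.Statements.S5224
import Groth.Agent.GrpQuotLib.Sheaf
set_option backward.isDefEq.respectTransparency false
set_option backward.isDefEq.respectTransparency.types false

set_option autoImplicit false
open CategoryTheory CategoryTheory.Limits AlgebraicGeometry
universe u
open GrpQ

namespace Groth.Agent.S5224

/-- For the fppf topology: let `s, t : R ⇉ U` be an equivalence relation of schemes over `S` with `s`
faithfully flat and locally of finite presentation. A morphism `q : U ⟶ Y` over `S` is a faithfully
flat, locally finitely presented quotient with kernel pair `R` if and only if `q` identifies `h_Y`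
with the fppf quotient sheaf `U/R`. -/
theorem result {S : Scheme.{u}} {R U Y : Over S} (s t : R ⟶ U)
    [IsEquivalenceRelation s t]
    [Flat s.left] [Surjective s.left] [LocallyOfFinitePresentation s.left]
    (q : U ⟶ Y) :
    (IsKernelPair q s t ∧ Flat q.left ∧ Surjective q.left ∧ LocallyOfFinitePresentation q.left) ↔
      QuotSh.IsQuotient Scheme.fppfPrecoverage s t q := by
  haveI : (@Flat ⊓ @LocallyOfFinitePresentation : MorphismProperty Scheme.{u}).IsMultiplicative :=
    { id_mem := fun X => ⟨(inferInstance : Flat (𝟙 X)), (inferInstance : LocallyOfFinitePresentation (𝟙 X))⟩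
      comp_mem := fun f g ⟨hf, hf'⟩ ⟨hg, hg'⟩ => by
        haveI : Flat f := hf
        haveI : LocallyOfFinitePresentation f := hf'
        haveI : Flat g := hg
        haveI : LocallyOfFinitePresentation g := hg'
        exact ⟨(inferInstance : Flat (f ≫ g)), (inferInstance : LocallyOfFinitePresentation (f ≫ g))⟩ }
  haveI : (QuotSh.J (Scheme.precoverage (@Flat ⊓ @LocallyOfFinitePresentation : MorphismProperty Scheme.{u})) S).Subcanonical :=
    inferInstanceAs ((Scheme.fppfTopology.{u}.over S).Subcanonical)
  have h := Groth.Agent.GrpQuotLib.isKernelPair_cover_iff_isQuotient (S := S)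
    (P := (@Flat ⊓ @LocallyOfFinitePresentation : MorphismProperty Scheme.{u})) le_rfl s t ⟨‹_›, ‹_›⟩ q
  exact ⟨fun ⟨a, b, c, d⟩ => h.1 ⟨a, ⟨b, d⟩, c⟩, fun hq => ⟨(h.2 hq).1, (h.2 hq).2.1.1, (h.2 hq).2.2, (h.2 hq).2.1.2⟩⟩

end Groth.Agent.S5224
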