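import Groth.Statements.S5225
import Groth.Agent.GrpQuotLib.Sheaf
set_option backward.isDefEq.respectTransparency false
set_option backward.isDefEq.respectTransparency.types false

set_option autoImplicit false
open CategoryTheory CategoryTheory.Limits AlgebraicGeometry
universe u
open GrpQ

namespace Groth.Agent.S5225

/-- For the étale topology: let `s, t : R ⇉ U` be an equivalence relation of schemes over `S` with `s`
étale and surjective. A morphism `q : U ⟶ Y` over `S` is an étale surjective quotient with kernel
pair `R` if and only if `q` identifies `h_Y` with the étale quotient sheaf `U/R`. -/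
theorem result {S : Scheme.{u}} {R U Y : Over S} (s t : R ⟶ U)
    [IsEquivalenceRelation s t] [Etale s.left] [Surjective s.left]
    (q : U ⟶ Y) :
    (IsKernelPair q s t ∧ Etale q.left ∧ Surjective q.left) ↔
      QuotSh.IsQuotient Scheme.etalePrecoverage s t q := by
  have hle : (@Etale : MorphismProperty Scheme.{u}) ≤ (@Flat ⊓ @LocallyOfFinitePresentation : MorphismProperty Scheme.{u}) :=
    fun X Y f (hf : Etale f) => ⟨inferInstance, inferInstance⟩
  haveI : Scheme.etaleTopology.{u}.Subcanonical :=
    GrothendieckTopology.Subcanonical.of_le (Precoverage.toGrothendieck_mono (Scheme.precoverage_mono hle) : _ ≤ Scheme.fppfTopology.{u})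
  haveI : (Scheme.precoverage.{u} @Etale).toGrothendieck.Subcanonical := ‹_›
  haveI : (QuotSh.J (Scheme.precoverage @Etale) S).Subcanonical := inferInstanceAs (((Scheme.precoverage @Etale).toGrothendieck.over S).Subcanonical)
  exact Groth.Agent.GrpQuotLib.isKernelPair_cover_iff_isQuotient (P := @Etale) hle s t ‹Etale s.left› q

end Groth.Agent.S5225
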