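import Groth.Statements.S5226
import Groth.Agent.UEELib
import Groth.Agent.S5218

set_option autoImplicit false
open CategoryTheory CategoryTheory.Limits
universe w v₁ u₁
open ShfCat

namespace Groth.Agent.S5226

open Groth.Agent.UEELib
set_option backward.isDefEq.respectTransparency false
set_option backward.isDefEq.respectTransparency.types false

/-- For sheaves of sets on a site with sheafification: if `R ⇉ X` is an equivalence relation with
(universally effective) quotient `X/R` and `Y ⊆ X` is a subsheaf with induced relation `R_Y`, then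
the canonical map `Y/R_Y ⟶ X/R` is a monomorphism. Here `R_Y` is built as the iterated pullback of
`R` along `Y ⟶ X` on both sides. -/
theorem result {C : Type u₁} [Category.{v₁} C]
    (J : GrothendieckTopology C) [HasSheafify J (Type w)]
    {R X Y : Sheaf J (Type w)} {p₁ p₂ : R ⟶ X} (e : UniversallyEffectiveEquivalenceRelation p₁ p₂)
    (ι : Y ⟶ X) [Mono ι]
    [HasCoequalizer (pullback.fst (pullback.fst p₁ ι ≫ p₂) ι ≫ pullback.snd p₁ ι)
      (pullback.snd (pullback.fst p₁ ι ≫ p₂) ι)]
    (g : coequalizer (pullback.fst (pullback.fst p₁ ι ≫ p₂) ι ≫ pullback.snd p₁ ι)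
      (pullback.snd (pullback.fst p₁ ι ≫ p₂) ι) ⟶ e.B)
    (hg : coequalizer.π _ _ ≫ g = ι ≫ e.π) :
    Mono g := by
  constructor
  intro Z a b w
  obtain ⟨Z', q, a', b', hq, ha, hb⟩ := UEE.lift_pair
    (Groth.Agent.S5218.universally_effectiveEpi (coequalizer.π (pullback.fst (pullback.fst p₁ ι ≫ p₂) ι ≫ pullback.snd p₁ ι)
      (pullback.snd (pullback.fst p₁ ι ≫ p₂) ι))) a b
  have h : (a' ≫ ι) ≫ e.π = (b' ≫ ι) ≫ e.π := by
    simp only [Category.assoc, ← hg, reassoc_of% ha, reassoc_of% hb, w]
  let r := e.isKernelPair.lift (a' ≫ ι) (b' ≫ ι) h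
  have hr₁ : r ≫ p₁ = a' ≫ ι := e.isKernelPair.lift_fst _ _ h
  have hr₂ : r ≫ p₂ = b' ≫ ι := e.isKernelPair.lift_snd _ _ h
  let t := pullback.lift (f := pullback.fst p₁ ι ≫ p₂) (g := ι) (pullback.lift r a' hr₁) b'
    (by rw [pullback.lift_fst_assoc, hr₂])
  have := congrArg (t ≫ ·) (coequalizer.condition (pullback.fst (pullback.fst p₁ ι ≫ p₂) ι ≫ pullback.snd p₁ ι)
      (pullback.snd (pullback.fst p₁ ι ≫ p₂) ι))
  simp only [t, Category.assoc, pullback.lift_fst_assoc, pullback.lift_snd_assoc] at this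
  exact (cancel_epi q).1 (ha.symm.trans (this.trans hb))

end Groth.Agent.S5226
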