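import Groth.Statements.S5227
import Groth.Agent.UEELib
import Groth.Agent.S5218
import Mathlib.CategoryTheory.Subobject.Lattice
import Mathlib.CategoryTheory.Sites.Subsheaf

set_option autoImplicit false
open CategoryTheory CategoryTheory.Limits
universe w v₁ u₁
open ShfCat

namespace Groth.Agent.S5227

open Groth.Agent.UEELib
set_option backward.isDefEq.respectTransparency false
set_option backward.isDefEq.respectTransparency.types false

theorem subobject_le_of_pullback_le {C : Type u₁} [Category.{v₁} C] [HasPullbacks C] {X B : C} {π : X ⟶ B}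
    (hπ : UEE π) {A A' : Subobject B} (h : (Subobject.pullback π).obj A ≤ (Subobject.pullback π).obj A') :
    A ≤ A' := by
  have s := (Subobject.isPullback π A).flip
  have := (UEE.of_isPullback (IsPullback.flip (Subobject.isPullback π A).flip) hπ).effectiveEpi
  obtain ⟨b, hb⟩ := exists_lift_of_effectiveEpi (Subobject.pullbackπ π A) A.arrow A'.arrow
    (Subobject.ofLE _ _ h ≫ Subobject.pullbackπ π A')
    (by
      rw [Category.assoc, (Subobject.isPullback π A').w, (Subobject.isPullback π A).w]
      exact Subobject.ofLE_arrow_assoc h _)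
  exact Subobject.le_of_comm b hb

theorem factors_pullback_iff {C : Type u₁} [Category.{v₁} C] [HasPullbacks C] {X B Z : C} (π : X ⟶ B)
    (A : Subobject B) (u : Z ⟶ X) :
    ((Subobject.pullback π).obj A).Factors u ↔ A.Factors (u ≫ π) := by
  rw [Subobject.factors_iff, Subobject.factors_iff]
  refine ⟨fun ⟨v, hv⟩ => ⟨v ≫ Subobject.pullbackπ π A, ?_⟩, fun ⟨v, hv⟩ => ⟨(Subobject.isPullback π A).lift v u hv, ?_⟩⟩
  · rw [← hv, Category.assoc, Category.assoc]
    exact congrArg (v ≫ ·) (Subobject.isPullback π A).w
  · exact (Subobject.isPullback π A).lift_snd _ _ _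

theorem le_iff_factors {C : Type u₁} [Category.{v₁} C] {B : C} {A A' : Subobject B} :
    A ≤ A' ↔ A'.Factors A.arrow :=
  ⟨fun h => (Subobject.factors_iff _ _).2 ⟨Subobject.ofLE _ _ h, Subobject.ofLE_arrow h⟩,
    fun h => Subobject.le_of_comm (A'.factorThru A.arrow h) (Subobject.factorThru_arrow _ _ h)⟩

/-- For sheaves of sets on a site with sheafification: for an equivalence relation `R ⇉ X` with
(universally effective) quotient `π : X ⟶ X/R`, inverse image along `π` is a bijection from the
subsheaves of `X/R` onto the subsheaves of `X` stable under `R` (those whose two inverse images in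
`R` agree). -/
theorem result {C : Type u₁} [Category.{v₁} C]
    (J : GrothendieckTopology C) [HasSheafify J (Type w)]
    {R X : Sheaf J (Type w)} {p₁ p₂ : R ⟶ X} (e : UniversallyEffectiveEquivalenceRelation p₁ p₂) :
    Function.Injective (Subobject.pullback e.π).obj ∧
      Set.range (Subobject.pullback e.π).obj =
        {Y : Subobject X | (Subobject.pullback p₁).obj Y = (Subobject.pullback p₂).obj Y} := by
  have := e.isKernelPair
  have : Epi e.π := e.universally_effectiveEpi_π |> UEE.epi
  refine ⟨fun A A' h => le_antisymm (subobject_le_of_pullback_le e.universally_effectiveEpi_π h.le)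
    (subobject_le_of_pullback_le e.universally_effectiveEpi_π h.ge), Set.ext fun Y => ⟨?_, fun hY => ?_⟩⟩
  · rintro ⟨A, rfl⟩
    show _ = _
    rw [← Subobject.pullback_comp, ← Subobject.pullback_comp, e.isKernelPair.w]
  · have hY' : (Subobject.pullback p₁).obj Y = (Subobject.pullback p₂).obj Y := hY
    let m := Sheaf.imageι (Y.arrow ≫ e.π)
    have hm : Sheaf.toImage (Y.arrow ≫ e.π) ≫ m = Y.arrow ≫ e.π := by
      apply Sheaf.hom_ext; ext U x; rfl
    let ε := Sheaf.toImage (Y.arrow ≫ e.π) ≫ (Subobject.underlyingIso m).inv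
    have hε : ε ≫ (Subobject.mk m).arrow = Y.arrow ≫ e.π := by
      rw [Category.assoc, Subobject.underlyingIso_arrow, hm]
    refine ⟨Subobject.mk m, le_antisymm ?_ ?_⟩
    · let A := Subobject.mk m
      let P := (Subobject.pullback e.π).obj A
      have : Epi ε := epi_comp (Sheaf.toImage (Y.arrow ≫ e.π)) (Subobject.underlyingIso m).inv
      have hs := Subobject.isPullback e.π A
      let q := pullback.fst (Subobject.pullbackπ e.π A) ε
      let y := pullback.snd (Subobject.pullbackπ e.π A) ε
      have : EffectiveEpi q := (UEE.fst _ (Groth.Agent.S5218.universally_effectiveEpi ε)).effectiveEpi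
      have hy : (y ≫ Y.arrow) ≫ e.π = (q ≫ P.arrow) ≫ e.π := by
        refine (Category.assoc _ _ _).trans ((congrArg (y ≫ ·) hε.symm).trans ?_)
        refine (Category.assoc _ _ _).symm.trans ?_
        refine (congrArg (· ≫ A.arrow) pullback.condition.symm).trans ?_
        refine (Category.assoc _ _ _).trans ((congrArg (q ≫ ·) hs.w).trans ?_)
        exact (Category.assoc _ _ _).symm
      let r := e.isKernelPair.lift (y ≫ Y.arrow) (q ≫ P.arrow) hy
      have hr₁ : r ≫ p₁ = y ≫ Y.arrow := e.isKernelPair.lift_fst _ _ hy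
      have hr₂ : r ≫ p₂ = q ≫ P.arrow := e.isKernelPair.lift_snd _ _ hy
      have hf : ((Subobject.pullback p₁).obj Y).Factors r :=
        (factors_pullback_iff p₁ Y r).2 (hr₁ ▸ Subobject.factors_comp_arrow y)
      have hf' : Y.Factors (q ≫ P.arrow) := hr₂ ▸ (factors_pullback_iff p₂ Y r).1 (hY' ▸ hf)
      obtain ⟨b, hb⟩ := exists_lift_of_effectiveEpi q P.arrow Y.arrow (Y.factorThru _ hf')
        (Subobject.factorThru_arrow _ _ hf')
      exact Subobject.le_of_comm b hb
    · refine le_iff_factors.2 ((factors_pullback_iff e.π _ _).2 ?_)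
      exact (Subobject.factors_iff _ _).2 ⟨_, hε⟩

end Groth.Agent.S5227
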