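import Groth.Statements.S5229


set_option autoImplicit false
open CategoryTheory CategoryTheory.Limits
universe v₁ u₁
open DescCat

namespace Groth.Agent.S5229

set_option backward.isDefEq.respectTransparency false
set_option backward.isDefEq.respectTransparency.types false

/-- For universal effective epimorphisms, in a category with pullbacks and binary products: for two
universally effective equivalence relations `R ⇉ X` and `R' ⇉ X'` with quotient maps `π` and `π'`,
the product relation `R × R' ⇉ X × X'` is the kernel pair of `π × π'`. (Together with the fact that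
a product of two universal effective epimorphisms is again one, this says that `(X × X')/(R × R')`
is `(X/R) × (X'/R')`; only the kernel-pair assertion is stated here.) -/
theorem result {C : Type u₁} [Category.{v₁} C]
    [HasPullbacks C] [HasBinaryProducts C]
    {R X R' X' : C} {p₁ p₂ : R ⟶ X} {p₁' p₂' : R' ⟶ X'}
    (e : UniversallyEffectiveEquivalenceRelation p₁ p₂)
    (e' : UniversallyEffectiveEquivalenceRelation p₁' p₂') :
    IsKernelPair (prod.map e.π e'.π) (prod.map p₁ p₁') (prod.map p₂ p₂') := by
  have h := e.isKernelPair
  have h' := e'.isKernelPair
  refine IsPullback.of_isLimit' ⟨by ext <;> simp [h.w, h'.w]⟩ (PullbackCone.IsLimit.mk _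
    (fun s => prod.lift
      (h.lift (s.fst ≫ prod.fst) (s.snd ≫ prod.fst) (by simpa using congrArg (· ≫ prod.fst) s.condition))
      (h'.lift (s.fst ≫ prod.snd) (s.snd ≫ prod.snd) (by simpa using congrArg (· ≫ prod.snd) s.condition)))
    (fun s => by ext <;> simp) (fun s => by ext <;> simp) (fun s m h1 h2 => ?_))
  ext
  · exact h.hom_ext (by simpa using congrArg (· ≫ prod.fst) h1) (by simpa using congrArg (· ≫ prod.fst) h2)
  · exact h'.hom_ext (by simpa using congrArg (· ≫ prod.snd) h1) (by simpa using congrArg (· ≫ prod.snd) h2)

end Groth.Agent.S5229
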