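import Groth.Statements.S5231
import Mathlib.CategoryTheory.Sites.Over
import Mathlib.CategoryTheory.Sites.Limits
import Mathlib.CategoryTheory.Limits.FunctorCategory.EpiMono

set_option autoImplicit false
open CategoryTheory
universe w v₁ u₁
open ShfCat

namespace Groth.Agent.S5231

set_option backward.isDefEq.respectTransparency false
set_option backward.isDefEq.respectTransparency.types false
open Opposite

/-- (iii) ⇒ (i): a morphism `f` of sheaves of sets on a site is a monomorphism (resp. an epimorphism) as
soon as, for every object `S`, the morphisms `T ⟶ S` over which the restriction of `f` to the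
induced site `C/T` is a monomorphism (resp. an epimorphism) form a covering sieve. No sheafification
is assumed. (The published statement also treats isomorphisms in the same way; that case is left out
here.) -/
theorem result {C : Type u₁} [Category.{v₁} C]
    (J : GrothendieckTopology C) {F G : Sheaf J (Type w)} (f : F ⟶ G) :
    ((∀ S : C, ∃ R : Sieve S, R ∈ J S ∧ ∀ ⦃T : C⦄ (g : T ⟶ S), R g →
        Mono ((J.overPullback (Type w) T).map f)) → Mono f) ∧
    ((∀ S : C, ∃ R : Sieve S, R ∈ J S ∧ ∀ ⦃T : C⦄ (g : T ⟶ S), R g →
        Epi ((J.overPullback (Type w) T).map f)) → Epi f) := by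
  refine ⟨fun h => ?_, fun h => ⟨fun {H} a b w => ?_⟩⟩
  · have hinj : ∀ U, Function.Injective (f.hom.app U) := by
      intro U x y hxy
      obtain ⟨R, hR, hm⟩ := h U.unop
      refine ((isSheaf_iff_isSheaf_of_type J F.obj).1 F.property R hR).isSeparatedFor.ext fun T g hg => ?_
      have := hm g hg
      have : Mono ((J.overPullback (Type w) T).map f).hom :=
        inferInstanceAs (Mono ((sheafToPresheaf (J.over T) (Type w)).map ((J.overPullback (Type w) T).map f)))
      refine (mono_iff_injective (((J.overPullback (Type w) T).map f).hom.app (op (Over.mk (𝟙 T))))).1 inferInstance ?_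
      exact (NatTrans.naturality_apply f.hom g.op x).trans
        ((congrArg (G.obj.map g.op) hxy).trans (NatTrans.naturality_apply f.hom g.op y).symm)
    have : ∀ U, Mono (f.hom.app U) := fun U => (mono_iff_injective _).2 (hinj U)
    have : Mono ((sheafToPresheaf J (Type w)).map f) := NatTrans.mono_of_mono_app f.hom
    exact (sheafToPresheaf J (Type w)).mono_of_mono_map this
  · apply Sheaf.hom_ext
    refine NatTrans.ext (funext fun U => ConcreteCategory.hom_ext _ _ fun x => ?_)
    obtain ⟨R, hR, hm⟩ := h U.unop
    refine ((isSheaf_iff_isSheaf_of_type J H.obj).1 H.property R hR).isSeparatedFor.ext fun T g hg => ?_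
    have := hm g hg
    have e : (J.overPullback (Type w) T).map a = (J.overPullback (Type w) T).map b :=
      (cancel_epi ((J.overPullback (Type w) T).map f)).1 (by rw [← Functor.map_comp, w, Functor.map_comp])
    have e' := congrArg (fun k => k.hom.app (op (Over.mk (𝟙 T))) (G.obj.map g.op x)) e
    exact (NatTrans.naturality_apply a.hom g.op x).symm.trans (e'.trans (NatTrans.naturality_apply b.hom g.op x))

end Groth.Agent.S5231
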