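import Groth.Statements.S5232
import Groth.Agent.AffDescShf.Basic
-- import your own Groth.Agent.* helpers here

set_option autoImplicit false
set_option backward.isDefEq.respectTransparency false
set_option backward.isDefEq.respectTransparency.types false
open CategoryTheory CategoryTheory.Limits AlgebraicGeometry
universe u
open GrpQ

namespace Groth.Agent.S5232

/-- On the big fppf site of a scheme `S`, in the case where the local representing objects are affine
over the cover (so that the canonical descent datum is effective): if `Z` is an fppf sheaf over `S`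
and, for an fppf cover `S' ⟶ S`, the sheaf `Z ×_S S'` is represented over `S'` by a scheme affine
over `S'`, then `Z` is represented by a scheme affine over `S`. -/
theorem result {S S' : Scheme.{u}} (f : S' ⟶ S)
    [Flat f] [Surjective f] [LocallyOfFinitePresentation f]
    (Z : QuotSh.Sh Scheme.fppfPrecoverage S)
    (T' : Over S) (a : T' ⟶ Over.mk f) [IsAffineHom a.left]
    (φ : QuotSh.rep Scheme.fppfPrecoverage T' ≅ Z ⨯ QuotSh.rep Scheme.fppfPrecoverage (Over.mk f))
    (hφ : φ.hom ≫ prod.snd = QuotSh.repMap Scheme.fppfPrecoverage a) :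
    ∃ T : Over S, IsAffineHom T.hom ∧ Nonempty (QuotSh.rep Scheme.fppfPrecoverage T ≅ Z) := by
  let K := Scheme.fppfPrecoverage.{u}
  let e : ∀ V : Over S, QuotSh.rep K V ≅ (AlgSp.yon S).obj V := fun V => QuotSh.repIsoUliftYoneda K V
  have hnat : ∀ {V W : Over S} (g : V ⟶ W),
      QuotSh.repMap K g ≫ (e W).hom = (e V).hom ≫ (AlgSp.yon S).map g := fun {V W} g => by
    simp only [e, QuotSh.repIsoUliftYoneda, Iso.symm_hom]
    rw [Iso.eq_inv_comp, ← Category.assoc, Iso.comp_inv_eq]
    exact (sheafificationNatIso (AlgSp.J S) (Type (u + 1))).hom.naturality ((AlgSp.yon S).map g) |>.symm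
  let z : (AlgSp.yon S).obj T' ⟶ Z := (e T').inv ≫ φ.hom ≫ prod.fst
  have hsnd : ∀ {W : Over S} (v : W ⟶ T'), ((AlgSp.yon S).map v ≫ (e T').inv ≫ φ.hom) ≫ prod.snd =
      (AlgSp.yon S).map (v ≫ a) ≫ (e (Over.mk f)).inv := fun {W} v => by
    rw [Category.assoc, Category.assoc, hφ, Functor.map_comp, Category.assoc, ← cancel_mono (e (Over.mk f)).hom]
    simp only [Category.assoc, Iso.inv_hom_id, Category.comp_id]
    rw [show QuotSh.repMap Scheme.fppfPrecoverage a ≫ (e (Over.mk f)).hom = (e T').hom ≫ (AlgSp.yon S).map a from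
      hnat a, Iso.inv_hom_id_assoc]
  obtain ⟨T, hT, ⟨i⟩⟩ := Groth.Agent.AffDescShf.exists_affine_of_cover a z fun W ζ x => by
    obtain ⟨v, hv⟩ := (AlgSp.yon S).map_surjective
      (prod.lift ζ ((AlgSp.yon S).map x ≫ (e (Over.mk f)).inv) ≫ φ.inv ≫ (e T').hom)
    refine ⟨v, ⟨?_, ?_⟩, fun w hw => ?_⟩
    · simp [z, hv]
      exact prod.lift_fst _ _
    · apply (AlgSp.yon S).map_injective
      have h := hsnd v
      rw [hv] at h
      simp at h
      have h2 : (AlgSp.yon S).map v ≫ (AlgSp.yon S).map a ≫ (e (Over.mk f)).inv =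
          (AlgSp.yon S).map x ≫ (e (Over.mk f)).inv := h.symm.trans (prod.lift_snd _ _)
      rw [← cancel_mono (e (Over.mk f)).inv, Functor.map_comp, Category.assoc]
      exact h2
    · apply (AlgSp.yon S).map_injective
      rw [hv, ← cancel_mono ((e T').inv ≫ φ.hom)]
      apply prod.hom_ext
      · simp only [Category.assoc, Iso.hom_inv_id_assoc, Iso.inv_hom_id_assoc]
        exact hw.1.trans (prod.lift_fst _ _).symm
      · rw [hsnd, hw.2]
        simp only [Category.assoc, Iso.hom_inv_id_assoc, Iso.inv_hom_id_assoc]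
        exact (prod.lift_snd _ _).symm
  exact ⟨T, hT, ⟨e T ≪≫ i⟩⟩

end Groth.Agent.S5232
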