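import Groth.Statements.S5233
import Groth.Agent.H9SubDescent
import Groth.Agent.HilbDescLib.IdealDescent
import Mathlib

set_option autoImplicit false
open CategoryTheory CategoryTheory.Limits AlgebraicGeometry
universe u
open GrpQ

namespace Groth.Agent.S5233

/-- For schemes, with (M) the faithfully flat quasi-compact morphisms and (N) the closed immersions: if
`π : X ⟶ X'` is flat, surjective and quasi-compact (so `X' = X/R` for its kernel pair `R ⇉ X`), then
`Y' ↦ π⁻¹(Y')` is a bijection from closed subschemes of `X'` onto the closed subschemes of `X`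
stable under `R`. -/
theorem result {X X' : Scheme.{u}} (π : X ⟶ X')
    [Flat π] [Surjective π] [QuasiCompact π] :
    Set.BijOn (Subobject.pullback π).obj
      {Y' : Subobject X' | IsClosedImmersion Y'.arrow}
      {Y : Subobject X | IsClosedImmersion Y.arrow ∧
        (Subobject.pullback (pullback.fst π π)).obj Y = (Subobject.pullback (pullback.snd π π)).obj Y} := by
  open CategoryTheory CategoryTheory.Limits Groth.Agent.H9SubDescent in
  refine ⟨?_, fun P _ Q _ h => injective_pullback π h, ?_⟩
  · intro P hP
    haveI : IsClosedImmersion P.arrow := hP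
    rw [pullback_closed]
    haveI := isClosedImmersion_arrow_mk (P.arrow.ker.comap π).subschemeι
    refine ⟨inferInstance, ?_⟩
    rw [← pullback_closed π P, ← Functor.comp_obj, ← Functor.comp_obj]
    have hc : ∀ {W : Scheme.{u}} (g : W ⟶ X), (Subobject.pullback g).obj ((Subobject.pullback π).obj P) =
        (Subobject.pullback (g ≫ π)).obj P := fun g => by
      rw [Subobject.pullback_comp]
    rw [Functor.comp_obj, Functor.comp_obj, hc, hc, pullback.condition]
  · rintro P ⟨hP, hst⟩
    haveI : IsClosedImmersion P.arrow := hP
    have h1 : P.arrow.ker.comap (pullback.fst π π) = P.arrow.ker.comap (pullback.snd π π) := by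
      rw [pullback_closed, pullback_closed] at hst
      have hk : ∀ I J : (pullback π π).IdealSheafData, Subobject.mk I.subschemeι = Subobject.mk J.subschemeι →
          I = J := fun I J h => by
        have he : (Subobject.isoOfMkEqMk _ _ h).hom ≫ J.subschemeι = I.subschemeι := by simp
        rw [← I.ker_subschemeι, ← J.ker_subschemeι, ← he, Scheme.Hom.ker_comp_of_isIso]
      exact hk _ _ hst
    let J := P.arrow.ker.map π
    haveI := isClosedImmersion_arrow_mk J.subschemeι
    refine ⟨Subobject.mk J.subschemeι, this, ?_⟩
    rw [pullback_closed]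
    have hJ : (Subobject.mk J.subschemeι).arrow.ker = J := by
      rw [← Subobject.underlyingIso_hom_comp_eq_mk, Scheme.Hom.ker_comp_of_isIso, J.ker_subschemeι]
    rw [hJ, Groth.Agent.HilbDescLib.comap_map_eq_of_descent π _ h1, ← eq_mk_of_ker P]

end Groth.Agent.S5233
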