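import Groth.Statements.S5234
import Groth.Agent.GrpEasyLib.Quot
-- import your own Groth.Agent.* helpers here

set_option autoImplicit false
open CategoryTheory CategoryTheory.Limits AlgebraicGeometry MonoidalCategory
set_option backward.isDefEq.respectTransparency false
universe u
open RedSub

namespace Groth.Agent.S5234

open CartesianMonoidalCategory SemiCartesianMonoidalCategory in
/-- (ii) ⇔ (iii), for schemes with the fppf topology: let `G` be an `S`-group scheme which is faithfully
flat and locally of finite presentation over `S`, acting on `X` so that `X` is formally principal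
homogeneous. Then `X` is a torsor (its structure map is faithfully flat and locally of finite
presentation) if and only if `X` has a point over some faithfully flat, locally finitely presented
`S' ⟶ S`. -/
theorem result {S : Scheme.{u}} {G X : Over S} [GrpObj G]
    (a : AlgGrp.Action G X)
    [Flat G.hom] [Surjective G.hom] [LocallyOfFinitePresentation G.hom]
    (hX : IsIso (lift a.act (snd G X))) :
    RedSub.IsTorsor a ↔
      ∃ S' : Over S, Surjective S'.hom ∧ Flat S'.hom ∧ LocallyOfFinitePresentation S'.hom ∧
        Nonempty (S' ⟶ X) := by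
  constructor
  · rintro ⟨hs, hf, hp, -⟩
    exact ⟨X, hs, hf, hp, ⟨𝟙 X⟩⟩
  · rintro ⟨S', hs, hf, hp, ⟨x₀⟩⟩
    have hQ : (@Surjective ⊓ @Flat ⊓ @LocallyOfFinitePresentation : MorphismProperty Scheme.{u}) S'.hom :=
      ⟨⟨hs, hf⟩, hp⟩
    exact ⟨Groth.Agent.GrpEasyLib.prop_of_point a hX @Surjective _ x₀ hQ inferInstance,
      Groth.Agent.GrpEasyLib.prop_of_point a hX @Flat _ x₀ hQ inferInstance,
      Groth.Agent.GrpEasyLib.prop_of_point a hX @LocallyOfFinitePresentation _ x₀ hQ inferInstance, hX⟩

end Groth.Agent.S5234
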