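import Groth.Statements.S5235
import Groth.Agent.H9SubDescent
import Mathlib

set_option autoImplicit false
open CategoryTheory CategoryTheory.Limits AlgebraicGeometry
universe u
open GrpQ

namespace Groth.Agent.S5235

/-- For schemes, with (M) the faithfully flat quasi-compact morphisms and (N) the open immersions: if `π
: X ⟶ X'` is flat, surjective and quasi-compact, then `Y' ↦ π⁻¹(Y')` is a bijection from open
subschemes of `X'` onto the open subschemes of `X` stable under the kernel pair of `π`. -/
theorem result {X X' : Scheme.{u}} (π : X ⟶ X')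
    [Flat π] [Surjective π] [QuasiCompact π] :
    Set.BijOn (Subobject.pullback π).obj
      {Y' : Subobject X' | IsOpenImmersion Y'.arrow}
      {Y : Subobject X | IsOpenImmersion Y.arrow ∧
        (Subobject.pullback (pullback.fst π π)).obj Y = (Subobject.pullback (pullback.snd π π)).obj Y} := by
  open CategoryTheory CategoryTheory.Limits Groth.Agent.H9SubDescent in
  refine ⟨?_, fun P _ Q _ h => injective_pullback π h, ?_⟩
  · intro P hP
    haveI : IsOpenImmersion P.arrow := hP
    let U : X'.Opens := P.arrow.opensRange
    rw [eq_mk_of_range P U rfl, pullback_open]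
    refine ⟨isOpenImmersion_arrow_mk _, ?_⟩
    rw [pullback_open, pullback_open, ← Scheme.Hom.comp_preimage, ← Scheme.Hom.comp_preimage, pullback.condition]
  · rintro P ⟨hP, hst⟩
    haveI : IsOpenImmersion P.arrow := hP
    let S : X.Opens := P.arrow.opensRange
    have hPS : P = Subobject.mk S.ι := eq_mk_of_range P S rfl
    have h1 : pullback.fst π π ⁻¹' (S : Set X) = pullback.snd π π ⁻¹' (S : Set X) := by
      have := congrArg (fun Q : Subobject (pullback π π) => Set.range Q.arrow) hst
      rw [range_pullback, range_pullback] at this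
      exact this
    have hsat : π ⁻¹' (π '' (S : Set X)) = S := by
      refine Set.Subset.antisymm ?_ (Set.subset_preimage_image _ _)
      rintro b ⟨a, ha, hab⟩
      obtain ⟨c, hc₁, hc₂⟩ := Scheme.Pullback.exists_preimage_pullback a b hab
      have h2 : c ∈ pullback.snd π π ⁻¹' (S : Set X) := h1 ▸ (show pullback.fst π π c ∈ (S : Set X) from hc₁.symm ▸ ha)
      exact hc₂ ▸ h2
    have hop : IsOpen (π '' (S : Set X)) :=
      (Flat.isQuotientMap_of_surjective π).isOpen_preimage.1 (by rw [hsat]; exact S.isOpen)
    let U : X'.Opens := ⟨π '' (S : Set X), hop⟩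
    refine ⟨Subobject.mk U.ι, isOpenImmersion_arrow_mk _, ?_⟩
    rw [hPS, pullback_open, show π ⁻¹ᵁ U = S from TopologicalSpace.Opens.ext hsat]

end Groth.Agent.S5235
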