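import Groth.Statements.S5237
import Groth.Agent.GrpEasyLib.Quot
-- import your own Groth.Agent.* helpers here

set_option autoImplicit false
open CategoryTheory CategoryTheory.Limits AlgebraicGeometry MonoidalCategory
set_option backward.isDefEq.respectTransparency false
universe u
open RedSub

namespace Groth.Agent.S5237

open MonObj GrpObj CartesianMonoidalCategory in
/-- For group schemes and the fppf topology: if `q : G ⟶ Q = G/H` is the fppf quotient of `G` by a
normal subgroup `H`, with its group structure, then a homomorphism `G ⟶ K` that kills `H` factors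
uniquely through `q`, and the factorisation is a homomorphism. -/
theorem result {S : Scheme.{u}} {H G Q K : Over S}
    [GrpObj H] [GrpObj G] [GrpObj Q] [GrpObj K]
    (i : H ⟶ G) [IsMonHom i] [Mono i] (hn : AlgGrp.IsNormalHom i)
    (q : G ⟶ Q) [IsMonHom q] (hq : RedSub.IsQuotient i q)
    (f : G ⟶ K) [IsMonHom f] (hf : i ≫ f = 1) :
    ∃! g : Q ⟶ K, q ≫ g = f ∧ IsMonHom g := by
  obtain ⟨hs, hfl, hlfp, hpb⟩ := hq
  haveI := hs; haveI := hfl; haveI := hlfp
  obtain ⟨g, hg⟩ := Groth.Agent.GrpEasyLib.exists_desc q f fun T a b hab => by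
    let c := hpb.lift a b hab
    have h1 : c ≫ fst G H = a := hpb.lift_fst _ _ _
    have h2 : c ≫ ((G ◁ i) ≫ μ[G]) = b := hpb.lift_snd _ _ _
    have e : (G ◁ i) ≫ μ[G] = fst G H * (snd G H ≫ i) := by
      rw [Hom.mul_def]
      congr 1
    rw [e, MonObj.comp_mul, h1] at h2
    rw [← h2, MonObj.mul_comp, Category.assoc, Category.assoc, hf, MonObj.comp_one, MonObj.comp_one, _root_.mul_one]
  haveI : Surjective (q ▷ G).left := Groth.Agent.GrpEasyLib.surjective_whiskerRight q hs
  haveI : Flat (q ▷ G).left := MorphismProperty.of_isPullback (Groth.Agent.GrpEasyLib.isPullback_whiskerRight q).flip hfl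
  haveI : LocallyOfFinitePresentation (q ▷ G).left := MorphismProperty.of_isPullback (Groth.Agent.GrpEasyLib.isPullback_whiskerRight q).flip hlfp
  haveI : Surjective (Q ◁ q).left := Groth.Agent.GrpEasyLib.surjective_whiskerLeft q hs
  haveI : Flat (Q ◁ q).left := MorphismProperty.of_isPullback (Groth.Agent.GrpEasyLib.isPullback_whiskerLeft q).flip hfl
  haveI : LocallyOfFinitePresentation (Q ◁ q).left := MorphismProperty.of_isPullback (Groth.Agent.GrpEasyLib.isPullback_whiskerLeft q).flip hlfp
  refine ⟨g, ⟨hg, Groth.Agent.GrpEasyLib.isMonHom_of_fac q f g hg⟩, fun g' hg' => ?_⟩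
  haveI : Epi q := Groth.Agent.GrpEasyLib.epi_of_left q
  rw [← cancel_epi q, hg, hg'.1]

end Groth.Agent.S5237
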