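import Groth.Statements.S5238
import Groth.Agent.CMSliceLib.Section
import Mathlib.AlgebraicGeometry.Sites.SheafQuasiCompact
import Mathlib.AlgebraicGeometry.Sites.Fpqc

set_option autoImplicit false
open CategoryTheory AlgebraicGeometry
universe w u
open GrpQ

namespace Groth.Agent.S5238

/-- A presheaf of sets on schemes is a sheaf for the fppf topology (the topology generated by jointly
surjective families of flat morphisms locally of finite presentation) if and only if it is a Zariski
sheaf and satisfies the sheaf condition for every single morphism of affine schemes `T ⟶ S` which is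
flat, surjective, locally of finite presentation and locally quasi-finite. (Between affine schemes
such a morphism is faithfully flat, of finite presentation and quasi-finite; that these quasi-finite
covers suffice rests on the existence of quasi-finite flat quasi-sections of flat surjective
morphisms locally of finite presentation.) -/
theorem result (F : Scheme.{u}ᵒᵖ ⥤ Type w) :
    Presheaf.IsSheaf Scheme.fppfTopology F ↔
      Presheaf.IsSheaf Scheme.zariskiTopology F ∧
        ∀ (T S : Scheme.{u}) [IsAffine T] [IsAffine S] (f : T ⟶ S)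
          [Flat f] [Surjective f] [LocallyOfFinitePresentation f] [LocallyQuasiFinite f],
          Presieve.IsSheafFor F (Presieve.singleton f) := by
  let P : MorphismProperty Scheme.{u} := @Flat ⊓ @LocallyOfFinitePresentation ⊓ @LocallyQuasiFinite
  haveI : P.IsStableUnderBaseChange := inferInstanceAs ((@Flat ⊓ @LocallyOfFinitePresentation ⊓ @LocallyQuasiFinite : MorphismProperty Scheme.{u})).IsStableUnderBaseChange
  haveI : P.IsMultiplicative :=
    { id_mem := fun X => ⟨⟨inferInstance, inferInstance⟩, inferInstance⟩
      comp_mem := fun f g hf hg => by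
        haveI := hf.1.1; haveI := hf.1.2; haveI := hf.2
        haveI := hg.1.1; haveI := hg.1.2; haveI := hg.2
        exact ⟨⟨inferInstance, inferInstance⟩, inferInstance⟩ }
  haveI : IsZariskiLocalAtSource P := inferInstanceAs (IsZariskiLocalAtSource (@Flat ⊓ @LocallyOfFinitePresentation ⊓ @LocallyQuasiFinite : MorphismProperty Scheme.{u}))
  have htop : Scheme.fppfTopology = Scheme.propQCTopology P := by
    refine le_antisymm ?_ (Precoverage.toGrothendieck_mono
      (le_trans inf_le_right (Scheme.precoverage_mono fun _ _ _ h => h.1)))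
    rw [Precoverage.toGrothendieck_le_iff_le_toPrecoverage]
    intro S R hR
    rw [GrothendieckTopology.mem_toPrecoverage_iff]
    obtain ⟨ι, X, g, rfl⟩ := R.exists_eq_ofArrows
    obtain ⟨hex, hP⟩ := (Scheme.ofArrows_mem_precoverage_iff _).1 hR
    choose j hj using hex
    have key : ∀ s : S, ∃ (Z : Scheme.{u}) (r : Z ⟶ X (j s)), IsAffine Z ∧ Flat (r ≫ g (j s)) ∧
        LocallyOfFinitePresentation (r ≫ g (j s)) ∧ LocallyQuasiFinite (r ≫ g (j s)) ∧ s ∈ Set.range (r ≫ g (j s)) := fun s => by
      haveI : Flat (g (j s)) := (hP (j s)).1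
      haveI : LocallyOfFinitePresentation (g (j s)) := (hP (j s)).2
      exact Groth.Agent.CMSliceLib.exists_qf_section (g (j s)) s (hj s)
    choose Z r hZ h1 h2 h3 h4 using key
    have hmem : Presieve.ofArrows Z (fun s => r s ≫ g (j s)) ∈ Scheme.precoverage P S :=
      (Scheme.ofArrows_mem_precoverage_iff _).2 ⟨fun s => ⟨s, h4 s⟩, fun s => ⟨⟨h1 s, h2 s⟩, h3 s⟩⟩
    refine GrothendieckTopology.superset_covering _ ?_ (Precoverage.generate_mem_toGrothendieck
      (J := Scheme.propQCPrecoverage P) ⟨Scheme.precoverage_le_qcPrecoverage_of_isOpenMap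
        (fun _ _ f hf => (haveI : Flat f := hf.1.1; haveI : LocallyOfFinitePresentation f := hf.1.2; f.isOpenMap)) _ hmem, hmem⟩)
    rw [Sieve.generate_le_iff]
    rintro _ _ ⟨s⟩
    exact ⟨_, r s, g (j s), ⟨j s⟩, rfl⟩
  rw [isSheaf_iff_isSheaf_of_type, isSheaf_iff_isSheaf_of_type, htop, isSheaf_type_propQCTopology_iff]
  constructor
  · rintro ⟨h1, h2⟩
    refine ⟨h1, fun T S _ _ f _ _ _ _ => ?_⟩
    have hf : Presieve.IsSheaf Scheme.fppfTopology F := htop ▸ (isSheaf_type_propQCTopology_iff F).2 ⟨h1, h2⟩
    exact hf.isSheafFor_of_mem_precoverage f.singleton_mem_fppfPrecoverage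
  · rintro ⟨h1, h2⟩
    refine ⟨h1, fun {R S} φ hφ hs => ?_⟩
    haveI := hφ.1.1; haveI := hφ.1.2; haveI := hφ.2
    exact h2 _ _ (Spec.map φ)

end Groth.Agent.S5238
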