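import Groth.Statements.S5243
import Groth.Agent.MultType.Torsion

set_option autoImplicit false
universe u
open TensorProduct SGA3b
open SGA3b

namespace Groth.Agent.S5243

/-- Let G = Spec A be an R-group of multiplicative type, H = Spec C an affine R-group and u : G ⟶ H a
homomorphism of R-groups, given by the bialgebra map φ : C → A, which is a monomorphism: for every
R-algebra T the induced map on T-valued points G(T) → H(T) is injective. Then u is a closed
immersion, i.e. φ is surjective. (The published statement also asserts that the quotient of H by G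
exists and is affine over the base, and that H is a torsor over it; this row states only that u is a
closed immersion.) (Affine group schemes over an affine base are taken in Hopf-algebra form; base
change is the tensor product; a homomorphism of groups Spec A ⟶ Spec C is a bialgebra map C → A.) -/
theorem result (R : Type u) [CommRing R] (A : Type u) [CommRing A] [HopfAlgebra R A]
    (h : IsMultType R A) (C : Type u) [CommRing C] [HopfAlgebra R C] (φ : C →ₐc[R] A)
    (hmono : ∀ (T : Type u) [CommRing T] [Algebra R T],
      Function.Injective (fun x : A →ₐ[R] T => x.comp (φ : C →ₐ[R] A))) :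
    Function.Surjective φ := by
  classical
  have key : ∀ (c : MultType.Chart R A),
      Submodule.span c.R' (Set.range fun x : C => MultType.emb c.e (φ x)) = ⊤ := by
    intro c
    set V := Submodule.span c.R' (Set.range fun x : C => MultType.emb c.e (φ x)) with hV
    have hVmul : ∀ a ∈ V, ∀ b ∈ V, a * b ∈ V := by
      intro a ha b hb
      have : a * b ∈ V * V := Submodule.mul_mem_mul ha hb
      rw [hV, Submodule.span_mul_span] at this
      refine Submodule.span_le.2 ?_ this
      rintro _ ⟨_, ⟨x, rfl⟩, _, ⟨y, rfl⟩, rfl⟩
      exact Submodule.subset_span ⟨x * y, by simp⟩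
    -- homogeneous components
    have hcomp : ∀ (x : C) (m : c.M), MonoidAlgebra.single m (c.coef m (φ x)) ∈ V := by
      intro x m
      let r := Coalgebra.Repr.arbitrary R (φ x)
      let r' := Coalgebra.Repr.arbitrary R x
      have : MonoidAlgebra.single m (c.coef m (φ x)) =
          ∑ i ∈ r'.index, c.coef m (φ (r'.right i)) • MultType.emb c.e (φ (r'.left i)) := by
        ext n
        have h1 : ∑ i ∈ r'.index, c.coef n (φ (r'.left i)) * c.coef m (φ (r'.right i)) =
            (if n = m then c.coef m (φ x) else 0) := by
          have h2 := (r'.induced (φ : C →ₗc[R] A)).convMul_apply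
            (WithConv.toConv (c.coef n)) (WithConv.toConv (c.coef m))
          split_ifs with hnm
          · subst hnm
            rw [MultType.coef_convMul_self] at h2
            exact h2.symm
          · rw [MultType.coef_convMul_ne c.e hnm] at h2
            exact h2.symm
        simp only [MonoidAlgebra.coeff_sum, Finsupp.coe_finsetSum, Finset.sum_apply,
          MonoidAlgebra.coeff_smul, Finsupp.smul_apply, smul_eq_mul, ← MultType.coef_def]
        rw [Finset.sum_congr rfl fun i _ => mul_comm _ _, h1, MonoidAlgebra.coeff_single,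
          Finsupp.single_apply]
        exact if_congr eq_comm rfl rfl
      rw [this]
      exact Submodule.sum_mem _ fun i _ => Submodule.smul_mem _ _ (Submodule.subset_span ⟨_, rfl⟩)
    have hinv : ∀ a ∈ V, MultType.inv' a ∈ V := by
      intro a ha
      have hle : V ≤ V.comap (MultType.inv' (R' := c.R') (M := c.M)).toLinearMap :=
        Submodule.span_le.2 (by
          rintro _ ⟨x, rfl⟩
          exact Submodule.subset_span ⟨HopfAlgebra.antipode R x, MultType.emb_comp_antipode c.e φ x⟩)
      exact hle ha
    rw [eq_top_iff]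
    intro z _
    induction z using MonoidAlgebra.induction_linear with
    | zero => exact Submodule.zero_mem _
    | add a b ha hb => exact Submodule.add_mem _ (ha trivial) (hb trivial)
    | single m r =>
      rw [show (MonoidAlgebra.single m r : MonoidAlgebra c.R' c.M) = r • MonoidAlgebra.single m 1 by simp]
      refine Submodule.smul_mem _ _ ?_
      by_contra hm
      let J : c.M → Ideal c.R' := fun k =>
        V.comap (MonoidAlgebra.lsingle (R := c.R') (S := c.R') k)
      have hJ1 : J m ≠ ⊤ := fun e => hm ((Ideal.eq_top_iff_one _).1 e)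
      obtain ⟨p, hp, hle⟩ := Ideal.exists_le_maximal (J m) hJ1
      let H : Subgroup c.M :=
        { carrier := {k | ¬ J k ≤ p}
          one_mem' := fun h1 => hp.ne_top (p.eq_top_iff_one.2 (h1 (by
            show MonoidAlgebra.single 1 1 ∈ V
            exact Submodule.subset_span ⟨1, by simp [MonoidAlgebra.one_def]⟩)))
          mul_mem' := by
            intro a b ha hb hab
            obtain ⟨x, hx, hxp⟩ := SetLike.not_le_iff_exists.1 ha
            obtain ⟨y, hy, hyp⟩ := SetLike.not_le_iff_exists.1 hb
            refine (hp.isPrime.mem_or_mem (hab (show x * y ∈ J (a * b) from ?_))).elim hxp hyp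
            show MonoidAlgebra.single (a * b) (x * y) ∈ V
            rw [← MonoidAlgebra.single_mul_single]
            exact hVmul _ hx _ hy
          inv_mem' := by
            intro a ha ha'
            refine ha fun x hx => ha' ?_
            show MonoidAlgebra.single a⁻¹ x ∈ V
            simpa using hinv _ hx }
      have hmH : m ∉ H := fun h' => h' hle
      let T := MonoidAlgebra (c.R' ⧸ p) (c.M ⧸ H)
      let x : MonoidAlgebra c.R' c.M →ₐ[c.R'] T :=
        MonoidAlgebra.lift c.R' T c.M ((MonoidAlgebra.of (c.R' ⧸ p) (c.M ⧸ H)).comp (QuotientGroup.mk' H))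
      let y : MonoidAlgebra c.R' c.M →ₐ[c.R'] T :=
        MonoidAlgebra.lift c.R' T c.M 1
      have hxy : ∀ a, x (MultType.emb c.e (φ a)) = y (MultType.emb c.e (φ a)) := by
        intro a
        rw [← MonoidAlgebra.sum_single (MultType.emb c.e (φ a)), Finsupp.sum, map_sum, map_sum]
        refine Finset.sum_congr rfl fun k _ => ?_
        rw [← MultType.coef_def]
        by_cases hk : c.coef k (φ a) ∈ p
        · have h0 : algebraMap c.R' T (c.coef k (φ a)) = 0 := by
            rw [IsScalarTower.algebraMap_apply c.R' (c.R' ⧸ p) T, Ideal.Quotient.algebraMap_eq,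
              Ideal.Quotient.eq_zero_iff_mem.2 hk, map_zero]
          simp [x, y, Algebra.smul_def, h0]
        · have hkH : (k : c.M ⧸ H) = 1 :=
            (QuotientGroup.eq_one_iff _).2 fun hle' => hk (hle' (hcomp a k))
          simp [x, y, hkH, ← MonoidAlgebra.one_def]
      have heq := hmono T (a₁ := (x.restrictScalars R).comp (MultType.emb c.e))
        (a₂ := (y.restrictScalars R).comp (MultType.emb c.e)) (AlgHom.ext hxy)
      have hxy' : x = y := MultType.algHom_ext_emb c.e fun a => DFunLike.congr_fun heq a
      have h2 := congr($hxy' (MonoidAlgebra.single m 1))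
      haveI : Nontrivial (c.R' ⧸ p) := Ideal.Quotient.nontrivial_iff.2 hp.ne_top
      refine hmH ((QuotientGroup.eq_one_iff _).1 ?_)
      refine MonoidAlgebra.single_left_injective (one_ne_zero (α := c.R' ⧸ p)) ?_
      simpa [x, y, T, MonoidAlgebra.one_def] using h2
  intro a
  obtain ⟨x, hx⟩ : a ∈ LinearMap.range (φ : C →ₐ[R] A).toLinearMap := by
    set N := LinearMap.range (φ : C →ₐ[R] A).toLinearMap with hN
    rw [← Submodule.Quotient.mk_eq_zero]
    refine MultType.eq_zero_of_forall_chart h fun c => ?_
    let L : c.R' ⊗[R] A →ₗ[c.R'] c.R' ⊗[R] (A ⧸ N) :=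
      TensorProduct.AlgebraTensorModule.map LinearMap.id N.mkQ
    show L (1 ⊗ₜ a) = 0
    have hle : (⊤ : Submodule c.R' (MonoidAlgebra c.R' c.M)) ≤
        LinearMap.ker (L ∘ₗ (c.e : (c.R' ⊗[R] A) ≃ₐ[c.R'] MonoidAlgebra c.R' c.M).symm.toLinearMap) := by
      rw [← key c, Submodule.span_le]
      rintro _ ⟨x, rfl⟩
      show L (c.e.symm (c.e (1 ⊗ₜ φ x))) = 0
      have h1 : c.e.symm (c.e ((1 : c.R') ⊗ₜ[R] φ x)) = (1 : c.R') ⊗ₜ[R] φ x := c.e.symm_apply_apply _
      rw [h1]
      show (1 : c.R') ⊗ₜ[R] (Submodule.Quotient.mk (φ x) : A ⧸ N) = 0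
      have h4 : (Submodule.Quotient.mk (φ x) : A ⧸ N) = 0 := (Submodule.Quotient.mk_eq_zero N).2 ⟨x, rfl⟩
      rw [h4, TensorProduct.tmul_zero]
    have h2 : L (c.e.symm (c.e ((1 : c.R') ⊗ₜ[R] a))) = 0 := hle (x := c.e (1 ⊗ₜ a)) trivial
    have h3 : c.e.symm (c.e ((1 : c.R') ⊗ₜ[R] a)) = (1 : c.R') ⊗ₜ[R] a := c.e.symm_apply_apply _
    rwa [h3] at h2
  exact ⟨x, hx⟩

end Groth.Agent.S5243
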