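import Groth.Statements.S5244
import Groth.Agent.MultType.Torsion

set_option autoImplicit false
universe u
open TensorProduct SGA3b
open SGA3b

namespace Groth.Agent.S5244

/-- Case of a group of multiplicative type, assertion on the subgroup; G is taken of finite type, the
case the printed proof treats in full before a limit argument: Let k be a field, G = Spec A a
k-group of multiplicative type and of finite type, and H = Spec (A/J) a closed subgroup scheme of G
(J a Hopf ideal). Then H is of multiplicative type. (Affine group schemes over an affine base are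
taken in Hopf-algebra form; base change is the tensor product; a homomorphism of groups Spec A ⟶
Spec C is a bialgebra map C → A.) -/
theorem result (k : Type u) [Field k] (A : Type u) [CommRing A] [HopfAlgebra k A]
    (hft : Algebra.FiniteType k A) (h : IsMultType k A) (J : Ideal A) [J.IsHopfIdeal k] :
    IsMultType k (A ⧸ J) := by
  obtain ⟨c, hu⟩ := MultType.exists_ff_chart h
  haveI := c.faithfullyFlat hu
  haveI : Nontrivial c.R' := nontrivial_of_ne (1 : c.R') 0 fun h1 => by
    haveI : Subsingleton c.R' := subsingleton_of_zero_eq_one h1.symm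
    haveI : Subsingleton (c.R' ⊗[k] k) := Module.subsingleton c.R' _
    exact one_ne_zero (α := k) (c.eq_zero_of_isUnit hu (N := k) (x := 1) (Subsingleton.elim _ _))
  obtain ⟨P, hP⟩ := Ideal.exists_maximal c.R'
  let K := c.R' ⧸ P
  letI : Field K := Ideal.Quotient.field P
  haveI : Module.FaithfullyFlat k K := inferInstance
  refine MultType.isMultType_of_ff K ?_
  let e' : K ⊗[c.R'] (c.R' ⊗[k] A) ≃ₐc[K] K ⊗[k] A := MultType.cbc (R := k) (A := A) c.R' K
  let π : K ⊗[k] A →ₐc[K] K ⊗[k] (A ⧸ J) :=
    Bialgebra.TensorProduct.map (BialgHom.id K K) (Bialgebra.Quotient.mkBialgHom J)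
  let G : K ⊗[c.R'] MonoidAlgebra c.R' c.M →ₐc[K] K ⊗[k] (A ⧸ J) :=
    (π.comp (e' : K ⊗[c.R'] (c.R' ⊗[k] A) →ₐc[K] K ⊗[k] A)).comp
      (Bialgebra.TensorProduct.map (BialgHom.id K K)
        (c.e.symm : MonoidAlgebra c.R' c.M →ₐc[c.R'] c.R' ⊗[k] A))
  let θ : c.M →* K ⊗[k] (A ⧸ J) :=
    { toFun := fun m => G (1 ⊗ₜ MonoidAlgebra.single m 1)
      map_one' := by rw [← MonoidAlgebra.one_def, ← Algebra.TensorProduct.one_def, map_one]
      map_mul' := fun a b => by
        rw [← map_mul, Algebra.TensorProduct.tmul_mul_tmul, MonoidAlgebra.single_mul_single]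
        simp }
  have hgl : ∀ m, IsGroupLikeElem K (θ m) := fun m =>
    IsGroupLikeElem.map G ⟨by simp, by simp [Algebra.TensorProduct.one_def]⟩
  refine MultType.isDiag_of_hom θ hgl (eq_top_iff.2 fun z _ => ?_)
    (linearIndepOn_isGroupLikeElem.mono (by rintro _ ⟨m, rfl⟩; exact hgl m))
  have key : ∀ y, G (1 ⊗ₜ y) ∈ Submodule.span K (Set.range θ) := by
    intro y
    induction y using MonoidAlgebra.induction_linear with
    | zero => simp
    | add a b ha hb => rw [TensorProduct.tmul_add, map_add]; exact Submodule.add_mem _ ha hb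
    | single m r =>
      have : (1 : K) ⊗ₜ[c.R'] (MonoidAlgebra.single m r : MonoidAlgebra c.R' c.M) =
          (algebraMap c.R' K r) • ((1 : K) ⊗ₜ[c.R'] MonoidAlgebra.single m 1) := by
        rw [show (MonoidAlgebra.single m r : MonoidAlgebra c.R' c.M) = r • MonoidAlgebra.single m 1 by simp,
          TensorProduct.tmul_smul, algebraMap_smul]
      rw [this, map_smul]
      exact Submodule.smul_mem _ _ (Submodule.subset_span ⟨m, rfl⟩)
  induction z using TensorProduct.induction_on with
  | zero => exact Submodule.zero_mem _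
  | add a b ha hb => exact Submodule.add_mem _ (ha trivial) (hb trivial)
  | tmul x a =>
    obtain ⟨a, rfl⟩ := Ideal.Quotient.mk_surjective a
    have h1 : G (1 ⊗ₜ c.e (1 ⊗ₜ a)) = (1 : K) ⊗ₜ[k] Ideal.Quotient.mk J a := by
      have h2 : c.e.symm (c.e ((1 : c.R') ⊗ₜ[k] a)) = (1 : c.R') ⊗ₜ[k] a := c.e.symm_apply_apply _
      show π (e' ((1 : K) ⊗ₜ c.e.symm (c.e ((1 : c.R') ⊗ₜ[k] a)))) = _
      rw [h2]
      simp [e', π, MultType.cbc]
    rw [show x ⊗ₜ[k] Ideal.Quotient.mk J a = x • ((1 : K) ⊗ₜ[k] Ideal.Quotient.mk J a) by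
      simp [TensorProduct.smul_tmul'], ← h1]
    exact Submodule.smul_mem _ _ (key _)

end Groth.Agent.S5244
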