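import Groth.Statements.S5249
import Groth.Agent.FixedSmooth.CentralInNormalizer

set_option autoImplicit false
set_option backward.isDefEq.respectTransparency false
set_option backward.isDefEq.respectTransparency.types false
open CategoryTheory MonoidalCategory CartesianMonoidalCategory MonObj GrpObj AlgebraicGeometry
universe u
open SGA3x

namespace Groth.Agent.S5249

/-- Let G be an S-group smooth and affine over S, i : H ⟶ G a subgroup scheme of multiplicative type (H
of multiplicative type and of finite type), j : Z ⟶ G the centralizer and k : N ⟶ G the normalizer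
of H in G. Then Z ⟶ G factors through N by a morphism which is an open and closed immersion: the
centralizer is an open and closed subgroup scheme of the normalizer. -/
theorem result {S : Scheme.{u}} (H G Z N : Over S) [GrpObj H] [GrpObj G] [GrpObj Z] [GrpObj N]
    (hH : SGA3x.IsMultTypeFT H) (hG : Smooth G.hom) (hGa : IsAffineHom G.hom) (i : H ⟶ G) [IsMonHom i] [Mono i]
    (j : Z ⟶ G) (k : N ⟶ G) (hj : Red.IsCentralizerOf i j) (hk : Red.IsNormalizerOf i k) :
    ∃ f : Z ⟶ N, f ≫ k = j ∧ IsOpenImmersion f.left ∧ IsClosedImmersion f.left := by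
  haveI := hG; haveI := hGa
  haveI : Mono j := hj.2.1
  haveI : Mono k := hk.2.1
  obtain ⟨Z', _, j', hj', hjc, hZs⟩ := FixedSmooth.exists_smooth_centralizer (.of_isMultTypeFT hH) i
  obtain ⟨N', _, k', hk', hkc, hNs⟩ := FixedSmooth.exists_smooth_normalizer (.of_isMultTypeFT hH)
    (FixedSmooth.locallyOfFinitePresentation_of_isMultTypeFT hH) i
  haveI : Mono j' := hj'.2.1
  haveI : Mono k' := hk'.2.1
  obtain ⟨a, ha⟩ := (hj'.2.2 Z j).2 ((hj.2.2 Z j).1 ⟨𝟙 Z, Category.id_comp _⟩)
  obtain ⟨b, hb⟩ := (hj.2.2 Z' j').2 ((hj'.2.2 Z' j').1 ⟨𝟙 Z', Category.id_comp _⟩)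
  obtain ⟨c, hc⟩ := (hk'.2.2 N k).2 ((hk.2.2 N k).1 ⟨𝟙 N, Category.id_comp _⟩)
  obtain ⟨d, hd⟩ := (hk.2.2 N' k').2 ((hk'.2.2 N' k').1 ⟨𝟙 N', Category.id_comp _⟩)
  haveI : IsIso a := ⟨b, by rw [← cancel_mono j, Category.assoc, hb, ha, Category.id_comp],
    by rw [← cancel_mono j', Category.assoc, ha, hb, Category.id_comp]⟩
  haveI : IsIso c := ⟨d, by rw [← cancel_mono k, Category.assoc, hd, hc, Category.id_comp],
    by rw [← cancel_mono k', Category.assoc, hc, hd, Category.id_comp]⟩
  haveI : IsIso a.left := (Over.forget _).map_isIso a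
  haveI : IsIso c.left := (Over.forget _).map_isIso c
  haveI : IsClosedImmersion j.left := by rw [← ha, Over.comp_left]; infer_instance
  haveI : IsClosedImmersion k.left := by rw [← hc, Over.comp_left]; infer_instance
  haveI : Smooth Z.hom := by rw [← Over.w a]; infer_instance
  haveI : Smooth N.hom := by rw [← Over.w c]; infer_instance
  obtain ⟨f, hf⟩ := (hk.2.2 Z j).2 fun X' x h => by
    have e := (hj.2.2 Z j).1 ⟨𝟙 Z, Category.id_comp _⟩ X' x h
    refine ⟨⟨h, mul_inv_eq_iff_eq_mul.2 e⟩, ⟨h, ?_⟩⟩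
    rw [_root_.mul_assoc, ← e, inv_mul_cancel_left]
  haveI : LocallyOfFinitePresentation f.left := by
    haveI : LocallyOfFinitePresentation (f.left ≫ N.hom) := by rw [Over.w]; infer_instance
    exact FlatLocus.locallyOfFinitePresentation_of_comp f.left N.hom
  haveI : Smooth f.left := FixedSmooth.smooth_centralizer_to_normalizer (.of_isMultTypeFT hH) i j k f hf hj.2.2
    (fun X g hg X' s h => ((hk.2.2 X g).1 hg X' s h).1)
  haveI : IsClosedImmersion (f.left ≫ k.left) := by rw [← Over.comp_left, hf]; infer_instance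
  haveI : IsClosedImmersion f.left := IsClosedImmersion.of_comp f.left k.left
  exact ⟨f, hf, IsOpenImmersion.of_flat_of_mono f.left, inferInstance⟩

end Groth.Agent.S5249
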