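import Groth.Statements.S5250
import Groth.Agent.MultType.Cover
import Groth.Agent.S5271
-- import your own Groth.Agent.* helpers here

set_option autoImplicit false
universe u
open TensorProduct SGA3b
open SGA3b

namespace Groth.Agent.S5250

open MultType


set_option maxHeartbeats 400000 in
lemma flat_quot_of_flat_at {A : Type u} [CommRing A] (I : Ideal A) {C : Type u} [CommRing C] [Algebra A C]
    (hfl : ∀ (q : Ideal C) [q.IsPrime], Ideal.map (algebraMap A C) I ≤ q → Module.Flat A (Localization.AtPrime q))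
    (n : ℕ) : Module.Flat (A ⧸ I ^ n) ((A ⧸ I ^ n) ⊗[A] C) := by
  classical
  set IC := Ideal.map (algebraMap A C) I
  let S : Submonoid C :=
    { carrier := {x | x - 1 ∈ IC}
      one_mem' := by simp
      mul_mem' := fun {a b} ha hb => by
        show a * b - 1 ∈ IC
        rw [show a * b - 1 = a * (b - 1) + (a - 1) by ring]
        exact IC.add_mem (IC.mul_mem_left _ hb) ha }
  let C' := Localization S
  haveI : Module.Flat A C' := by
    refine Module.flat_of_isLocalized_maximal (R := A) C' C' (fun P _ => Localization.AtPrime P)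
      (fun P _ => Algebra.linearMap C' _) fun P hP => ?_
    have hle : IC ≤ P.comap (algebraMap C C') := by
      intro i hi
      by_contra hiP
      obtain ⟨y, p, hp, hy⟩ := hP.exists_inv (show algebraMap C C' i ∉ P from hiP)
      obtain ⟨⟨a, s⟩, hs⟩ := IsLocalization.surj S y
      simp only at hs
      have hps : p * algebraMap C C' s = algebraMap C C' ((s : C) - a * i) := by
        rw [map_sub, map_mul, ← hs]; linear_combination (algebraMap C C' s) * hy
      have hu : IsUnit (algebraMap C C' ((s : C) - a * i)) := IsLocalization.map_units C' (⟨_, by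
        show (s : C) - a * i - 1 ∈ IC
        rw [show (s : C) - a * i - 1 = ((s : C) - 1) - a * i by ring]
        exact IC.sub_mem s.2 (IC.mul_mem_left _ hi)⟩ : S)
      exact hP.ne_top (Ideal.eq_top_of_isUnit_mem _ (P.mul_mem_right _ hp) (hps ▸ hu))
    haveI := hfl (P.comap (algebraMap C C')) hle
    haveI := IsLocalization.isLocalization_isLocalization_atPrime_isLocalization S (Localization.AtPrime P) P
    let e : Localization.AtPrime (P.comap (algebraMap C C')) ≃ₐ[C] Localization.AtPrime P :=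
      IsLocalization.algEquiv (P.comap (algebraMap C C')).primeCompl _ _
    exact Module.Flat.of_linearEquiv (e.restrictScalars A).toLinearEquiv.symm
  let Q := (A ⧸ I ^ n) ⊗[A] C
  let ir : C →ₐ[A] Q := Algebra.TensorProduct.includeRight
  have hnil : (IC.map ir) ^ n = ⊥ := by
    show (IC.map ir.toRingHom) ^ n = ⊥
    rw [Ideal.map_map, show ir.toRingHom.comp (algebraMap A C) = (algebraMap (A ⧸ I ^ n) Q).comp (Ideal.Quotient.mk _)
      from RingHom.ext fun a => (ir.commutes a).trans (IsScalarTower.algebraMap_apply A (A ⧸ I ^ n) Q a),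
      ← Ideal.map_map, ← Ideal.map_pow, ← Ideal.map_pow, Ideal.map_quotient_self, Ideal.map_bot]
  have hu : ∀ s : S, IsUnit (ir s) := fun s => by
    have : IsNilpotent (ir s - 1) := ⟨n, by
      have h := Ideal.pow_mem_pow (Ideal.mem_map_of_mem ir (show (s : C) - 1 ∈ IC from s.2)) n
      rw [hnil] at h
      simpa using h⟩
    simpa using this.isUnit_add_one
  let g : C' →ₐ[A] Q := IsLocalization.liftAlgHom (M := S) hu
  let f₁ : Q →ₐ[A ⧸ I ^ n] (A ⧸ I ^ n) ⊗[A] C' :=
    Algebra.TensorProduct.map (AlgHom.id _ _) (IsScalarTower.toAlgHom A C C')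
  let f₂ : (A ⧸ I ^ n) ⊗[A] C' →ₐ[A ⧸ I ^ n] Q :=
    Algebra.TensorProduct.lift (Algebra.ofId _ _) g fun _ _ => Commute.all _ _
  have hg : ∀ c, g (algebraMap C C' c) = ir c := fun c => IsLocalization.lift_eq _ c
  have h1 : ∀ c : C, f₂ (f₁ (1 ⊗ₜ c)) = 1 ⊗ₜ c := fun c => by
    show f₂ ((1 : A ⧸ I ^ n) ⊗ₜ[A] algebraMap C C' c) = _
    refine (Algebra.TensorProduct.lift_tmul _ _ _ _ _).trans ?_
    rw [map_one, _root_.one_mul, hg]
    rfl
  have h21 : f₂.comp f₁ = AlgHom.id _ _ := Algebra.TensorProduct.ext (by ext) (AlgHom.ext fun c => h1 c)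
  have h12 : f₁.comp f₂ = AlgHom.id _ _ := by
    refine Algebra.TensorProduct.ext (by ext) ?_
    refine IsLocalization.algHom_ext S (AlgHom.ext fun c => ?_)
    show f₁ (f₂ (1 ⊗ₜ algebraMap C C' c)) = 1 ⊗ₜ algebraMap C C' c
    rw [show f₂ (1 ⊗ₜ algebraMap C C' c) = (1 : A ⧸ I ^ n) ⊗ₜ[A] c from h1 c]
    rfl
  exact Module.Flat.of_linearEquiv (AlgEquiv.ofAlgHom f₁ f₂ h12 h21).toLinearEquiv

/-- Transport of quasi-isotriviality along an equivalence of coefficient rings. -/
lemma isQuasiIsotrivial_equiv {R : Type u} [CommRing R] {H : Type u} [CommRing H] [HopfAlgebra R H]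
    {S S' T : Type u} [CommRing S] [Algebra R S] [CommRing S'] [Algebra R S'] [CommRing T] [Algebra R T]
    [Algebra S' T] [IsScalarTower R S' T] (e : S ≃ₐ[R] T) (h : IsQuasiIsotrivial S (S ⊗[R] H)) :
    IsQuasiIsotrivial T (T ⊗[S'] (S' ⊗[R] H)) := by
  obtain ⟨s, hs, h⟩ := h
  refine ⟨e '' s, ?_, ?_⟩
  · have := congrArg (Ideal.map (e : S ≃+* T)) hs
    rwa [Ideal.map_span, Ideal.map_top] at this
  rintro _ ⟨f, hf, rfl⟩
  obtain ⟨R₀, _, _, _, _, hd⟩ := h f hf
  let L := Localization.Away f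
  let L' := Localization.Away (e f)
  let eL : L ≃+* L' := IsLocalization.ringEquivOfRingEquiv L L' (e : S ≃+* T)
    (show Submonoid.map (e : S ≃+* T).toMonoidHom (Submonoid.powers f) = Submonoid.powers (e f) from
      Submonoid.map_powers _ _)
  letI : Algebra L' L := eL.symm.toRingHom.toAlgebra
  letI : Algebra L' R₀ := ((algebraMap L R₀).comp eL.symm.toRingHom).toAlgebra
  haveI : IsScalarTower L' L R₀ := IsScalarTower.of_algebraMap_eq' rfl
  letI : Algebra R R₀ := ((algebraMap L R₀).comp (algebraMap R L)).toAlgebra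
  haveI : IsScalarTower R L R₀ := IsScalarTower.of_algebraMap_eq' rfl
  letI : Algebra S' R₀ :=
    ((algebraMap L' R₀).comp ((algebraMap T L').comp (algebraMap S' T))).toAlgebra
  letI : Algebra T R₀ := ((algebraMap L' R₀).comp (algebraMap T L')).toAlgebra
  haveI : IsScalarTower T L' R₀ := IsScalarTower.of_algebraMap_eq' rfl
  haveI : IsScalarTower S' T R₀ := IsScalarTower.of_algebraMap_eq' rfl
  haveI : IsScalarTower R S' R₀ := IsScalarTower.of_algebraMap_eq fun r => by
    show algebraMap L R₀ (algebraMap R L r) =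
      algebraMap L R₀ (eL.symm (algebraMap T L' (algebraMap S' T (algebraMap R S' r))))
    rw [← IsScalarTower.algebraMap_apply R S' T, ← e.commutes r]
    congr 1
    rw [RingEquiv.eq_symm_apply]
    rw [IsScalarTower.algebraMap_apply R S L]
    exact IsLocalization.ringEquivOfRingEquiv_eq _ _
  haveI : Algebra.Etale L' R₀ := by
    haveI : Algebra.Etale L' L := Algebra.Etale.of_equiv (AlgEquiv.ofRingEquiv (f := eL.symm) (fun _ => rfl))
    exact Algebra.Etale.comp L' L R₀
  haveI : Module.FaithfullyFlat L' R₀ := by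
    haveI : Module.FaithfullyFlat L' L := Module.FaithfullyFlat.of_linearEquiv L' L'
      (AlgEquiv.ofRingEquiv (f := eL.symm) (fun _ => rfl) : L' ≃ₐ[L'] L).toLinearEquiv.symm
    exact Module.FaithfullyFlat.trans L' L R₀
  refine ⟨R₀, inferInstance, inferInstance, inferInstance, inferInstance, isDiag_congr ?_ hd⟩
  letI : Algebra S R₀ := ((algebraMap L R₀).comp (algebraMap S L)).toAlgebra
  haveI : IsScalarTower S L R₀ := IsScalarTower.of_algebraMap_eq' rfl
  haveI : IsScalarTower R S R₀ := IsScalarTower.of_algebraMap_eq fun r => by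
    show algebraMap L R₀ (algebraMap R L r) = algebraMap L R₀ (algebraMap S L (algebraMap R S r))
    rw [IsScalarTower.algebraMap_apply R S L]
  exact ((cbc (R := S) (A := S ⊗[R] H) L R₀).trans (cbc (R := R) (A := H) S R₀)).trans
    (((cbc (R := T) (A := T ⊗[S'] (S' ⊗[R] H)) L' R₀).trans (cbc (R := S') (A := S' ⊗[R] H) T R₀)).trans
      (cbc (R := R) (A := H) S' R₀)).symm

lemma compat_bialgHom {A : Type u} [CommRing A] {B : Type u} [CommRing B] [HopfAlgebra A B]
    {C : Type u} [CommRing C] [HopfAlgebra A C] {S : Type u} [CommRing S] [Algebra A S]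
    (G : S ⊗[A] C →ₐc[S] S ⊗[A] B) :
    Compat (((G : S ⊗[A] C →ₐ[S] S ⊗[A] B).restrictScalars A).comp Algebra.TensorProduct.includeRight) := by
  intro c
  have h := CoalgHomClass.map_comp_comul_apply G ((1 : S) ⊗ₜ[A] c)
  have h' := congr(kap (R := A) (A := B) S $h)
  rw [kap_comul, TensorProduct.comul_tmul, CommSemiring.comul_apply, ← (Coalgebra.Repr.arbitrary A c).eq] at h'
  simp only [TensorProduct.tmul_sum, map_sum, TensorProduct.AlgebraTensorModule.tensorTensorTensorComm_tmul,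
    TensorProduct.map_tmul] at h'
  refine Eq.trans ?_ h'
  rw [← (Coalgebra.Repr.arbitrary A c).eq, map_sum]
  exact Finset.sum_congr rfl fun i _ => by
    rw [Algebra.TensorProduct.lift_tmul]
    exact (kap_tmul _ _ _).symm

set_option maxHeartbeats 1000000 in
lemma exists_level {A : Type u} [CommRing A] (I : Ideal A)
    {B : Type u} [CommRing B] [HopfAlgebra A B] (hG : IsIsotrivial A B)
    {C : Type u} [CommRing C] [HopfAlgebra A C]
    (hfl : ∀ (q : Ideal C) [q.IsPrime], Ideal.map (algebraMap A C) I ≤ q → Module.Flat A (Localization.AtPrime q))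
    (h0 : IsQuasiIsotrivial (A ⧸ I) ((A ⧸ I) ⊗[A] C)) (k : ℕ) :
    ∃ (U : Cover (A ⧸ I ^ (k + 1))) (_ : ∀ i, Algebra A (U.T i))
      (_ : ∀ i, IsScalarTower A (A ⧸ I ^ (k + 1)) (U.T i)),
      (∀ i, IsDiag (U.T i) (U.T i ⊗[A] B)) ∧ ∀ i, IsDiag (U.T i) (U.T i ⊗[A] C) := by
  obtain ⟨R', _, _, _, _, _, hd⟩ := hG
  let S := A ⧸ I ^ (k + 1)
  haveI : Module.Flat S (S ⊗[A] C) := flat_quot_of_flat_at I hfl (k + 1)
  let J : Ideal S := I.map (Ideal.Quotient.mk (I ^ (k + 1)))
  have hJ : IsNilpotent J := ⟨k + 1, by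
    rw [← Ideal.map_pow, Ideal.map_quotient_self]; rfl⟩
  have hle : I ^ (k + 1) ≤ I := Ideal.pow_le_self k.succ_ne_zero
  let e : (A ⧸ I) ≃ₐ[A] S ⧸ J :=
    ((DoubleQuot.quotQuotEquivQuotOfLEₐ A hle).symm)
  have hC : IsMultType S (S ⊗[A] C) := by
    obtain ⟨s, hs, h⟩ := isQuasiIsotrivial_of_nilpotent J hJ (isQuasiIsotrivial_equiv (R := A) (H := C) (S := A ⧸ I) (S' := S) (T := S ⧸ J) e h0)
    exact ⟨s, hs, fun f hf => by
      obtain ⟨R₁, i₁, i₂, -, hff, hd₁⟩ := h f hf
      exact ⟨R₁, i₁, i₂, hff, hd₁⟩⟩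
  let P := S ⊗[A] R'
  have hB : IsMultType S (S ⊗[A] B) := by
    refine isMultType_of_ff P (isDiag_congr (cbc (R := A) (A := B) S P).symm ?_)
    exact isDiag_of_algHom (Algebra.TensorProduct.includeRight : R' →ₐ[A] P) hd
  obtain ⟨U, hU⟩ := exists_cover hB
  obtain ⟨V, hV⟩ := exists_cover hC
  letI : ∀ i, Algebra A (U.T i) := fun i => ((algebraMap S (U.T i)).comp (algebraMap A S)).toAlgebra
  haveI : ∀ i, IsScalarTower A S (U.T i) := fun i => IsScalarTower.of_algebraMap_eq' rfl
  letI : ∀ i, Algebra A (V.T i) := fun i => ((algebraMap S (V.T i)).comp (algebraMap A S)).toAlgebra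
  haveI : ∀ i, IsScalarTower A S (V.T i) := fun i => IsScalarTower.of_algebraMap_eq' rfl
  letI : ∀ p, Algebra A ((U.prod V).T p) := fun p =>
    ((algebraMap S ((U.prod V).T p)).comp (algebraMap A S)).toAlgebra
  haveI : ∀ p, IsScalarTower A S ((U.prod V).T p) := fun p => IsScalarTower.of_algebraMap_eq' rfl
  refine ⟨U.prod V, inferInstance, inferInstance, fun p => ?_, fun p => ?_⟩
  · let f : U.T p.1 →ₐ[S] (U.prod V).T p := Algebra.TensorProduct.includeLeft
    exact isDiag_of_algHom (f.restrictScalars A)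
      (isDiag_congr (cbc (R := A) (A := B) S (U.T p.1)) (hU p.1))
  · let f : V.T p.2 →ₐ[S] (U.prod V).T p := Algebra.TensorProduct.includeRight
    exact isDiag_of_algHom (f.restrictScalars A)
      (isDiag_congr (cbc (R := A) (A := C) S (V.T p.2)) (hV p.2))

/-- The reduction of a homomorphism is compatible. -/
lemma compat_bialgHom_incl {A : Type u} [CommRing A] {B : Type u} [CommRing B] [HopfAlgebra A B]
    {C : Type u} [CommRing C] [HopfAlgebra A C] {S : Type u} [CommRing S] [Algebra A S] (χ : C →ₐc[A] B) :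
    Compat ((Algebra.TensorProduct.includeRight : B →ₐ[A] S ⊗[A] B).comp (χ : C →ₐ[A] B)) := by
  intro c
  have h := CoalgHomClass.map_comp_comul_apply χ c
  rw [← (Coalgebra.Repr.arbitrary A c).eq] at h ⊢
  simp only [map_sum, TensorProduct.map_tmul] at h
  show _ = Algebra.TensorProduct.map (AlgHom.id S S) (Bialgebra.comulAlgHom A B) ((1 : S) ⊗ₜ[A] χ c)
  rw [Algebra.TensorProduct.map_tmul, map_sum]
  refine Eq.trans ?_ (congrArg (fun z => (1 : S) ⊗ₜ[A] z) h)
  rw [TensorProduct.tmul_sum]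
  exact Finset.sum_congr rfl fun i _ => by
    rw [Algebra.TensorProduct.lift_tmul]
    simp [j₁, j₂]

lemma projective_of_split {A : Type u} [CommRing A] {B : Type u} [CommRing B] [HopfAlgebra A B]
    {R' : Type u} [CommRing R'] [Algebra A R'] [Module.Finite A R'] [Module.Projective A R']
    [Module.FaithfullyFlat A R'] {M : Type u} [CommGroup M] (e : (R' ⊗[A] B) ≃ₐc[R'] MonoidAlgebra R' M) :
    Module.Projective A B := by
  classical
  obtain ⟨ρ, hρ⟩ := Groth.Agent.S5271.exists_unit_retraction (A := A) R'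
  haveI : Module.Projective A (R' ⊗[A] B) := Module.Projective.of_equiv'
    (((TensorProduct.finsuppScalarRight A A R' M).trans
      ((MonoidAlgebra.coeffLinearEquiv A).symm)).trans
      ((e : (R' ⊗[A] B) ≃ₐ[R'] MonoidAlgebra R' M).symm.toLinearEquiv.restrictScalars A))
  exact Module.Projective.of_split (TensorProduct.mk A R' B 1)
    ((TensorProduct.lid A B).toLinearMap ∘ₗ ρ.rTensor B) (LinearMap.ext fun b => by simp [hρ])



/-- Let A be a Noetherian ring, separated and complete for the I-adic topology, G = Spec B an isotrivial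
A-group of multiplicative type, and H = Spec C an affine A-group which is flat over A at the points
of H₀ = Spec ((A/I) ⊗ C) (C localised at any prime containing IC is flat over A) and such that H₀ is
a quasi-isotrivial (A/I)-group of multiplicative type. Then reduction modulo I is a bijection from
homomorphisms of A-groups G ⟶ H (bialgebra maps C → B) to homomorphisms of (A/I)-groups G₀ ⟶ H₀: two
bialgebra maps C → B with the same reduction are equal, and every bialgebra map C₀ → B₀ over A/I is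
a reduction. (Affine group schemes over an affine base are taken in Hopf-algebra form; base change
is the tensor product; a homomorphism of groups Spec A ⟶ Spec C is a bialgebra map C → A.) -/
theorem result (A : Type u) [CommRing A] [IsNoetherianRing A] (I : Ideal A) [IsAdicComplete I A]
    (B : Type u) [CommRing B] [HopfAlgebra A B] (hG : IsIsotrivial A B)
    (C : Type u) [CommRing C] [HopfAlgebra A C]
    (hfl : ∀ (q : Ideal C) [q.IsPrime], Ideal.map (algebraMap A C) I ≤ q → Module.Flat A (Localization.AtPrime q))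
    (h0 : IsQuasiIsotrivial (A ⧸ I) ((A ⧸ I) ⊗[A] C)) :
    (∀ φ ψ : C →ₐc[A] B, (∀ c : C, (1 : A ⧸ I) ⊗ₜ[A] (φ c) = (1 : A ⧸ I) ⊗ₜ[A] (ψ c)) → φ = ψ) ∧
    (∀ φ₀ : ((A ⧸ I) ⊗[A] C) →ₐc[A ⧸ I] ((A ⧸ I) ⊗[A] B),
      ∃ φ : C →ₐc[A] B, ∀ c : C, φ₀ ((1 : A ⧸ I) ⊗ₜ[A] c) = (1 : A ⧸ I) ⊗ₜ[A] (φ c)) := by

  classical
  obtain ⟨R', _, _, _, _, _, M, _, ⟨e⟩⟩ := id hG
  haveI : Module.FinitePresentation A R' := Module.finitePresentation_of_finite A R'
  haveI : Module.Projective A R' := Module.Flat.projective_of_finitePresentation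
  constructor
  · intro φ ψ h
    haveI : Module.Projective A B := projective_of_split e
    refine BialgHom.ext fun c => sub_eq_zero.1 (Groth.Agent.S5271.sep_of_projective I B _ fun k => ?_)
    match k with
    | 0 => rw [pow_zero, Ideal.one_eq_top, Submodule.top_smul]; trivial
    | k + 1 =>
    obtain ⟨U, _, _, hUB, hUC⟩ := exists_level I hG hfl h0 k
    rw [← Groth.Agent.S5271.tmul_eq_iff]
    let S := A ⧸ I ^ (k + 1)
    let bc : (C →ₐc[A] B) → (C →ₐ[A] S ⊗[A] B) := fun χ =>
      (Algebra.TensorProduct.includeRight : B →ₐ[A] S ⊗[A] B).comp (χ : C →ₐ[A] B)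
    have hbc : ∀ χ, Compat (bc χ) := fun χ => compat_bialgHom_incl χ
    have heq := compat_eq_of_cover U hUB hUC (I.map (algebraMap A S))
      (Ideal.map_le_iff_le_comap.2 fun a ha => mem_nilradical.2 ⟨k + 1, by
        rw [Ideal.Quotient.algebraMap_eq, ← map_pow, Ideal.Quotient.eq_zero_iff_mem]
        exact Ideal.pow_mem_pow ha _⟩)
      (hbc φ) (hbc ψ) fun x => by
        show (1 : S) ⊗ₜ[A] φ x - (1 : S) ⊗ₜ[A] ψ x ∈ _
        rw [← TensorProduct.tmul_sub]
        refine Submodule.smul_induction_on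
          (p := fun z => (1 : S) ⊗ₜ[A] z ∈ Ideal.map (algebraMap S (S ⊗[A] B)) (I.map (algebraMap A S)))
          (Groth.Agent.S5271.tmul_eq_iff.1 (h x)) (fun r hr b _ => ?_) (fun a b ha hb => ?_)
        · rw [show (1 : S) ⊗ₜ[A] (r • b) = algebraMap S (S ⊗[A] B) (algebraMap A S r) * ((1 : S) ⊗ₜ[A] b) by
            rw [TensorProduct.tmul_smul, TensorProduct.smul_tmul']; simp [Algebra.smul_def]]
          exact Ideal.mul_mem_right _ _ (Ideal.mem_map_of_mem _ (Ideal.mem_map_of_mem _ hr))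
        · rw [TensorProduct.tmul_add]
          exact Ideal.add_mem _ ha hb
    exact congr($heq c)
  · intro φ₀
    let π : ∀ k : ℕ, (A ⧸ I ^ (k + 2)) →ₐ[A] A ⧸ I ^ (k + 1) := fun k =>
      Ideal.Quotient.factorₐ A (Ideal.pow_le_pow_right (Nat.le_succ (k + 1)))
    have hπ : ∀ k, Function.Surjective (π k) := fun k => Ideal.Quotient.factor_surjective (Ideal.pow_le_pow_right (Nat.le_succ (k + 1)))
    have hπn : ∀ k, IsNilpotent (RingHom.ker (π k)) := fun k => by
      refine ⟨k + 2, ?_⟩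
      have hle : RingHom.ker (π k) ≤ Ideal.map (Ideal.Quotient.mk (I ^ (k + 2))) I := by
        intro x hx
        obtain ⟨a, rfl⟩ := Ideal.Quotient.mk_surjective x
        have ha : a ∈ I ^ (k + 1) := Ideal.Quotient.eq_zero_iff_mem.1 hx
        exact Ideal.mem_map_of_mem _ (Ideal.pow_le_self (Nat.succ_ne_zero k) ha)
      refine le_bot_iff.1 ((Ideal.pow_right_mono hle _).trans ?_)
      rw [← Ideal.map_pow, Ideal.map_quotient_self]
    let ι : (A ⧸ I) →ₐ[A] A ⧸ I ^ (0 + 1) := Ideal.Quotient.factorₐ A (pow_one I).ge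
    let g₀ : C →ₐ[A] (A ⧸ I) ⊗[A] B :=
      ((φ₀ : ((A ⧸ I) ⊗[A] C) →ₐ[A ⧸ I] ((A ⧸ I) ⊗[A] B)).restrictScalars A).comp
        Algebra.TensorProduct.includeRight
    have hg₀ : Compat g₀ := compat_bialgHom φ₀
    let g₁ : C →ₐ[A] (A ⧸ I ^ (0 + 1)) ⊗[A] B := (Algebra.TensorProduct.map ι (AlgHom.id A B)).comp g₀
    have hg₁ : Compat g₁ := hg₀.map ι
    have hnext : ∀ (k : ℕ) (g : {g : C →ₐ[A] (A ⧸ I ^ (k + 1)) ⊗[A] B // Compat g}),
        ∃ g' : C →ₐ[A] (A ⧸ I ^ (k + 2)) ⊗[A] B, Compat g' ∧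
          (Algebra.TensorProduct.map (π k) (AlgHom.id A B)).comp g' = g.1 := fun k g => by
      obtain ⟨U, _, _, hUB, hUC⟩ := exists_level I hG hfl h0 (k + 1)
      exact exists_compat_lift_cover (π k) (hπ k) (hπn k) U hUB hUC g.1 g.2
    choose next hnextC hnextπ using hnext
    let G : ∀ k : ℕ, {g : C →ₐ[A] (A ⧸ I ^ (k + 1)) ⊗[A] B // Compat g} :=
      fun k => Nat.rec ⟨g₁, hg₁⟩ (fun k g => ⟨next k g, hnextC k g⟩) k
    choose f hf using fun (k : ℕ) (c : C) => Groth.Agent.S5271.exists_tmul (I ^ (k + 1)) ((G k).1 c)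
    have hdown : ∀ {k : ℕ} {N : Type u} [AddCommGroup N] [Module A N] {z : N},
        z ∈ I ^ (k + 1) • (⊤ : Submodule A N) → z ∈ I ^ k • (⊤ : Submodule A N) :=
      fun h => Submodule.smul_mono (Ideal.pow_le_pow_right (Nat.le_succ _)) le_rfl h
    have hcompat : ∀ k c, f (k + 1) c - f k c ∈ I ^ (k + 1) • (⊤ : Submodule A B) := fun k c => by
      rw [← Groth.Agent.S5271.tmul_eq_iff, hf k c]
      have h := congr($(hnextπ k (G k)) c)
      refine Eq.trans ?_ h
      show _ = Algebra.TensorProduct.map (π k) (AlgHom.id A B) ((G (k + 1)).1 c)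
      rw [← hf (k + 1) c]
      simp
    obtain ⟨φ, hφ⟩ := Groth.Agent.S5271.exists_limit I e (C := C) f
      (fun k x y => hdown (Groth.Agent.S5271.tmul_eq_iff.1 (by rw [TensorProduct.tmul_add, hf, hf, hf, map_add])))
      (fun k x y => hdown (Groth.Agent.S5271.tmul_eq_iff.1 (by
        rw [show ((1 : A ⧸ I ^ (k + 1)) ⊗ₜ[A] (f k x * f k y)) = ((1 : A ⧸ I ^ (k + 1)) ⊗ₜ[A] f k x) *
          ((1 : A ⧸ I ^ (k + 1)) ⊗ₜ[A] f k y) by simp, hf, hf, hf, map_mul])))
      (fun k r => hdown (Groth.Agent.S5271.tmul_eq_iff.1 (by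
        rw [hf, AlgHom.commutes]
        exact ((Algebra.TensorProduct.includeRight : B →ₐ[A] (A ⧸ I ^ (k + 1)) ⊗[A] B).commutes r).symm)))
      (fun k c => hdown (hcompat k c))
      (fun k c => hdown (Groth.Agent.S5271.tmul_eq_iff.1 (by
        have h := (G k).2 c
        rw [← hf k c, jΔ, Algebra.TensorProduct.map_tmul, ← (Coalgebra.Repr.arbitrary A c).eq, map_sum] at h
        refine Eq.trans ?_ h
        rw [TensorProduct.tmul_sum]
        refine Finset.sum_congr rfl fun i _ => ?_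
        rw [Algebra.TensorProduct.lift_tmul]
        simp only [AlgHom.comp_apply, AlgHom.restrictScalars_apply, ← hf]
        simp [j₁, j₂])))
    refine ⟨φ, fun c => ?_⟩
    show g₀ c = _
    obtain ⟨x, hx⟩ := Groth.Agent.S5271.exists_tmul I (g₀ c)
    rw [← hx, Groth.Agent.S5271.tmul_eq_iff]
    have e0 : (1 : A ⧸ I ^ (0 + 1)) ⊗ₜ[A] x = (1 : A ⧸ I ^ (0 + 1)) ⊗ₜ[A] f 0 c := by
      rw [hf 0 c]
      show _ = g₁ c
      rw [show g₁ c = Algebra.TensorProduct.map ι (AlgHom.id A B) (g₀ c) from rfl, ← hx]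
      simp
    have a1 := Groth.Agent.S5271.tmul_eq_iff.1 e0
    have a2 := hcompat 0 c
    have a3 := hφ 1 c
    rw [zero_add, pow_one] at a1 a2
    rw [pow_one] at a3
    have := Submodule.sub_mem _ a1 (Submodule.add_mem _ a2 a3)
    rwa [show x - f 0 c - (f (0 + 1) c - f 0 c + (φ c - f 1 c)) = x - φ c by abel] at this

end Groth.Agent.S5250
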