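import Groth.Statements.S5252
import Groth.Agent.MultType.Field
import Groth.Agent.MultType.DeformQI

set_option autoImplicit false
universe u
open TensorProduct SGA3b
open SGA3b

namespace Groth.Agent.S5252

/-- Let A be an Artinian local ring with residue field k and H = Spec C an affine A-group with C flat
and of finite type over A, whose closed fibre Spec (k ⊗ C) is a k-group of multiplicative type. Then
H is of multiplicative type and isotrivial. (Affine group schemes over an affine base are taken in
Hopf-algebra form; base change is the tensor product; a homomorphism of groups Spec A ⟶ Spec C is a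
bialgebra map C → A.) -/
theorem result (A : Type u) [CommRing A] [IsArtinianRing A] [IsLocalRing A]
    (C : Type u) [CommRing C] [HopfAlgebra A C] [Module.Flat A C] (hft : Algebra.FiniteType A C)
    (h0 : IsMultType (IsLocalRing.ResidueField A) (IsLocalRing.ResidueField A ⊗[A] C)) :
    IsMultType A C ∧ IsIsotrivial A C := by
  have hn : IsNilpotent (IsLocalRing.maximalIdeal A) := by
    rw [← IsLocalRing.jacobson_eq_maximalIdeal (⊥ : Ideal A) bot_ne_top]
    exact IsArtinianRing.isNilpotent_jacobson_bot
  have hft₀ : Algebra.FiniteType (IsLocalRing.ResidueField A) (IsLocalRing.ResidueField A ⊗[A] C) := inferInstance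
  obtain ⟨k', _, _, _, _, hd⟩ := MultType.exists_separable_split hft₀ h0
  obtain ⟨M, _, -, he⟩ := hd
  haveI : Algebra.Etale (IsLocalRing.ResidueField A) k' :=
    { finitePresentation := Algebra.FinitePresentation.of_finiteType.1 inferInstance
      formallyEtale := Algebra.FormallyEtale.of_isSeparable _ k' }
  letI : Algebra A k' :=
    ((algebraMap (IsLocalRing.ResidueField A) k').comp (algebraMap A (IsLocalRing.ResidueField A))).toAlgebra
  haveI : IsScalarTower A (IsLocalRing.ResidueField A) k' := IsScalarTower.of_algebraMap_eq' rfl
  have hd' : IsDiag k' (k' ⊗[A] C) :=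
    MultType.isDiag_congr (MultType.cbc (R := A) (A := C) (IsLocalRing.ResidueField A) k') ⟨M, inferInstance, he⟩
  letI : Algebra (A ⧸ IsLocalRing.maximalIdeal A) k' := ‹Algebra (IsLocalRing.ResidueField A) k'›
  haveI : IsScalarTower A (A ⧸ IsLocalRing.maximalIdeal A) k' :=
    ‹IsScalarTower A (IsLocalRing.ResidueField A) k'›
  haveI : Algebra.Etale (A ⧸ IsLocalRing.maximalIdeal A) k' := ‹Algebra.Etale (IsLocalRing.ResidueField A) k'›
  haveI : Module.FaithfullyFlat (A ⧸ IsLocalRing.maximalIdeal A) k' :=
    (inferInstance : Module.FaithfullyFlat (IsLocalRing.ResidueField A) k')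
  have hfin₀ : Module.Finite (A ⧸ IsLocalRing.maximalIdeal A) k' :=
    ‹Module.Finite (IsLocalRing.ResidueField A) k'›
  obtain ⟨R', _, _, het, hff, hdR, hfin⟩ :=
    MultType.exists_splitting_lift (IsLocalRing.maximalIdeal A) hn C k' hd'
  exact ⟨MultType.isMultType_of_ff R' hdR, R', inferInstance, inferInstance, het, hfin hfin₀, hff, hdR⟩

end Groth.Agent.S5252
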