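import Groth.Statements.S5254
import Groth.Agent.MultType.Fibre

set_option autoImplicit false
universe u
open TensorProduct SGA3b
open SGA3b

namespace Groth.Agent.S5254

/-- Over a local base, where an open neighbourhood of the closed point is the whole base: Let R be a
local ring with maximal ideal 𝔪, H = Spec A an R-group of multiplicative type and of finite type,
and K = Spec (A/J) a closed subgroup scheme of H (J a Hopf ideal) with A/J of finite presentation
over R. If the closed fibre of K is the unit group, i.e. J + 𝔪A = Ker ε + 𝔪A with ε the counit, then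
K is the unit group: J = Ker ε. (Affine group schemes over an affine base are taken in Hopf-algebra
form; base change is the tensor product; a homomorphism of groups Spec A ⟶ Spec C is a bialgebra map
C → A.) -/
theorem result (R : Type u) [CommRing R] [IsLocalRing R]
    (A : Type u) [CommRing A] [HopfAlgebra R A] (hft : Algebra.FiniteType R A) (hH : IsMultType R A)
    (J : Ideal A) [J.IsHopfIdeal R] (hK : Algebra.FinitePresentation R (A ⧸ J))
    (hs : J ⊔ Ideal.map (algebraMap R A) (IsLocalRing.maximalIdeal R) =
      RingHom.ker (Bialgebra.counitAlgHom R A) ⊔ Ideal.map (algebraMap R A) (IsLocalRing.maximalIdeal R)) :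
    J = RingHom.ker (Bialgebra.counitAlgHom R A) := by
  classical
  set Q := A ⧸ J with hQ
  have hJle : J ≤ RingHom.ker (Bialgebra.counitAlgHom R A) := fun x hx => by
    have := (inferInstance : (J.restrictScalars R).IsCoideal)
    exact Submodule.IsCoideal.counit_eq_zero (R := R) (I := J.restrictScalars R) hx
  refine le_antisymm hJle ?_
  let ε : Q →ₐ[R] R := Bialgebra.counitAlgHom R Q
  let red : Q →ₗ[R] Q := LinearMap.id - Algebra.linearMap R Q ∘ₗ ε.toLinearMap
  have hred : ∀ q, ε q = 0 → red q = q := fun q hq => by simp [red, hq]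
  have hεred : ∀ q, ε (red q) = 0 := fun q => by simp [red]
  let I : Submodule R Q := LinearMap.ker ε.toLinearMap
  have hmemI : ∀ q, red q ∈ I := fun q => hεred q
  set 𝔪 := IsLocalRing.maximalIdeal R with h𝔪
  -- the augmentation module is `𝔪` times itself
  have hImI : I ≤ 𝔪 • I := by
    intro x hx
    obtain ⟨a, rfl⟩ := Ideal.Quotient.mk_surjective x
    have ha : a ∈ J ⊔ Ideal.map (algebraMap R A) 𝔪 := by
      rw [hs]
      exact Ideal.mem_sup_left (show Bialgebra.counitAlgHom R A a = 0 from hx)
    obtain ⟨j, hj, y, hy, rfl⟩ := Submodule.mem_sup.1 ha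
    have hmk : Ideal.Quotient.mk J (j + y) = Ideal.Quotient.mk J y :=
      Ideal.Quotient.eq.2 (by simpa using hj)
    rw [hmk] at hx ⊢
    have hy' : y ∈ 𝔪 • (⊤ : Submodule R A) := by rw [Ideal.smul_top_eq_map]; exact hy
    have h1 : red (Ideal.Quotient.mk J y) ∈ 𝔪 • I := by
      refine Submodule.smul_induction_on hy' (fun r hr z _ => ?_) (fun u v hu hv => ?_)
      · rw [← Ideal.Quotient.mkₐ_eq_mk R, map_smul, map_smul]
        exact Submodule.smul_mem_smul hr (hmemI _)
      · rw [map_add, map_add]; exact Submodule.add_mem _ hu hv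
    rwa [hred _ (LinearMap.mem_ker.1 hx)] at h1
  have hm_le : 𝔪 ≤ Ideal.jacobson ⊥ := IsLocalRing.maximalIdeal_le_jacobson _
  -- finite quotients
  have hker : ∀ n, 0 < n → RingHom.ker (Bialgebra.counitAlgHom R A) ≤ J ⊔ torsionIdeal R A n := by
    intro n hn
    haveI := MultType.finite_quot_torsionIdeal hH hft n hn
    set L := J ⊔ torsionIdeal R A n with hL
    have hTle : torsionIdeal R A n ≤ RingHom.ker (Bialgebra.counitAlgHom R A) := by
      rw [MultType.torsionIdeal_le_iff]
      intro a
      obtain ⟨c, -⟩ := MultType.exists_ff_chart hH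
      show Bialgebra.counitAlgHom R A _ = 0
      rw [map_sub, AlgHom.commutes]
      have h1 := MultType.map_powConv (Bialgebra.counitBialgHom R A) n a
      have h2 : ∀ r : R, powConv R R n r = r := fun r => (powConv R R n).commutes r
      rw [h2] at h1
      simp only [Bialgebra.counitBialgHom_apply] at h1
      simp [h1]
    have hLle : L ≤ RingHom.ker (Bialgebra.counitAlgHom R A) := sup_le hJle hTle
    haveI : Module.Finite R (A ⧸ L) := Module.Finite.of_surjective
      (Ideal.Quotient.factorₐ R (le_sup_right : torsionIdeal R A n ≤ L)).toLinearMap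
      (Ideal.Quotient.factor_surjective le_sup_right)
    let p : Q →ₗ[R] A ⧸ L := (Ideal.Quotient.factorₐ R (le_sup_left : J ≤ L)).toLinearMap
    let N : Submodule R (A ⧸ L) := Submodule.map p I
    let εL : (A ⧸ L) →ₐ[R] R := Ideal.Quotient.liftₐ L (Bialgebra.counitAlgHom R A) hLle
    let redL : (A ⧸ L) →ₗ[R] A ⧸ L := LinearMap.id - Algebra.linearMap R (A ⧸ L) ∘ₗ εL.toLinearMap
    have hεp : ∀ q, εL (p q) = ε q := fun q => by
      obtain ⟨q, rfl⟩ := Ideal.Quotient.mk_surjective q
      rfl
    have hN : N = LinearMap.range redL := by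
      refine le_antisymm ?_ ?_
      · rintro _ ⟨q, hq, rfl⟩
        refine ⟨p q, ?_⟩
        simp [redL, hεp, show ε q = 0 from hq]
      · rintro _ ⟨z, rfl⟩
        obtain ⟨a, rfl⟩ := Ideal.Quotient.mk_surjective z
        refine ⟨red (Ideal.Quotient.mk J a), hmemI _, ?_⟩
        simp [red, redL, p, εL, ε]
        rfl
    have hfg : N.FG := by
      rw [hN, LinearMap.range_eq_map]
      exact Module.Finite.fg_top.map _
    have h0 : N = ⊥ := Submodule.eq_bot_of_le_smul_of_le_jacobson_bot 𝔪 N hfg
      (le_trans (Submodule.map_mono hImI) (by rw [Submodule.map_smul''])) hm_le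
    intro a ha
    have h1 : p (Ideal.Quotient.mk J a) ∈ N := ⟨_, show ε (Ideal.Quotient.mk J a) = 0 from ha, rfl⟩
    rw [h0, Submodule.mem_bot] at h1
    exact Ideal.Quotient.eq_zero_iff_mem.1 h1
  -- the augmentation ideal of the quotient is idempotent
  let IQ : Ideal Q := RingHom.ker ε
  haveI hQft : Algebra.FiniteType R Q := hft.trans (inferInstance)
  obtain ⟨G, hG⟩ := hQft.1
  have hfgI : IQ = Ideal.span ((G.image red : Finset Q) : Set Q) := by
    refine le_antisymm (fun q hq => ?_) (Ideal.span_le.2 fun x hx => ?_)
    · have h : ∀ q : Q, red q ∈ Ideal.span ((G.image red : Finset Q) : Set Q) := by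
        intro q
        induction (show q ∈ Algebra.adjoin R (G : Set Q) by rw [hG]; trivial)
          using Algebra.adjoin_induction with
        | mem x hx => exact Ideal.subset_span (Finset.mem_image.2 ⟨x, hx, rfl⟩)
        | algebraMap r => simp [red]
        | add x y _ _ hx hy => rw [map_add]; exact Ideal.add_mem _ hx hy
        | mul x y _ _ hx hy =>
          have : red (x * y) = red x * y + algebraMap R Q (ε x) * red y := by
            simp [red]; ring
          rw [this]
          exact Ideal.add_mem _ (Ideal.mul_mem_right _ _ hx) (Ideal.mul_mem_left _ _ hy)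
      exact hred q hq ▸ h q
    · obtain ⟨y, -, rfl⟩ := Finset.mem_image.1 hx
      exact hεred y
  have hIQfg : IQ.FG := ⟨_, hfgI.symm⟩
  have hidem : IsIdempotentElem IQ := by
    refine le_antisymm Ideal.mul_le_left ?_
    let S : Submodule R Q := Submodule.span R ((G.image red : Finset Q) : Set Q)
    let I2 : Submodule R Q := (IQ * IQ).restrictScalars R
    have hS : I ≤ S ⊔ I2 := by
      intro x hx
      have hx' : x ∈ Ideal.span ((G.image red : Finset Q) : Set Q) := hfgI ▸ (show x ∈ IQ from hx)
      induction hx' using Submodule.span_induction with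
      | mem y hy => exact Submodule.mem_sup_left (Submodule.subset_span hy)
      | zero => exact Submodule.zero_mem _
      | add a b ha hb iha ihb =>
        exact Submodule.add_mem _ (iha (show ε a = 0 from hfgI.ge ha)) (ihb (show ε b = 0 from hfgI.ge hb))
      | smul r y hy ihy =>
        have hyI : y ∈ IQ := hfgI.ge hy
        have : r • y = red r * y + ε r • y := by simp [red, Algebra.smul_def]; ring
        rw [this]
        exact Submodule.add_mem _ (Submodule.mem_sup_right (show red r * y ∈ IQ * IQ from
          Ideal.mul_mem_mul (hεred r) hyI)) (Submodule.smul_mem _ _ (ihy hyI))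
    have hSI : S ≤ I := Submodule.span_le.2 fun x hx => show x ∈ IQ from hfgI ▸ Ideal.subset_span hx
    have h2 : S ≤ I2 := by
      refine Submodule.le_of_le_smul_of_le_jacobson_bot ⟨_, rfl⟩ hm_le ?_
      calc S ≤ 𝔪 • I := hSI.trans hImI
        _ ≤ 𝔪 • (S ⊔ I2) := Submodule.smul_mono le_rfl hS
        _ ≤ I2 ⊔ 𝔪 • S := by
          rw [Submodule.smul_sup]
          exact sup_le le_sup_right (Submodule.smul_le_right.trans le_sup_left)
    intro x hx
    exact sup_le h2 le_rfl (hS hx)
  obtain ⟨e, he, hIe⟩ := (Ideal.isIdempotentElem_iff_of_fg IQ hIQfg).1 hidem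
  intro a ha
  rw [← Ideal.Quotient.eq_zero_iff_mem]
  suffices e = 0 by
    have h1 : Ideal.Quotient.mk J a ∈ IQ := ha
    rw [hIe, this, Ideal.submodule_span_eq, Ideal.span_singleton_zero, Ideal.mem_bot] at h1
    exact h1
  by_contra hne
  obtain ⟨q, hq, hqe⟩ : ∃ q : Ideal Q, q.IsPrime ∧ e ∉ q := by
    by_contra! hall
    obtain ⟨k, hk⟩ : IsNilpotent e := nilpotent_iff_mem_prime.2 hall
    rcases k with _ | k
    · rw [pow_zero] at hk
      exact hne (eq_zero_of_zero_eq_one hk.symm e)
    · exact hne (by rwa [he.pow_succ_eq] at hk)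
  obtain ⟨c, hu⟩ := MultType.exists_ff_chart hH
  haveI := c.faithfullyFlat hu
  obtain ⟨P, hP⟩ := PrimeSpectrum.comap_surjective_of_faithfullyFlat
    (A := Q) (B := Q ⊗[R] c.R') ⟨q, hq⟩
  let K := P.asIdeal.ResidueField
  let iR' : c.R' →+* K := (algebraMap (Q ⊗[R] c.R') K).comp
    (Algebra.TensorProduct.includeRight : c.R' →ₐ[R] Q ⊗[R] c.R').toRingHom
  letI : Algebra c.R' K := iR'.toAlgebra
  haveI : IsScalarTower R c.R' K := IsScalarTower.of_algebraMap_eq fun r => by
    show _ = algebraMap (Q ⊗[R] c.R') K
      ((Algebra.TensorProduct.includeRight : c.R' →ₐ[R] Q ⊗[R] c.R') (algebraMap R c.R' r))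
    rw [AlgHom.commutes, ← IsScalarTower.algebraMap_apply]
  let x : Q →ₐ[R] K :=
    (IsScalarTower.toAlgHom R (Q ⊗[R] c.R') K).comp Algebra.TensorProduct.includeLeft
  have hxe : x e ≠ 0 := by
    intro h0
    refine hqe ?_
    have : (algebraMap Q (Q ⊗[R] c.R')) e ∈ P.asIdeal := Ideal.algebraMap_residueField_eq_zero.1 h0
    have hcomap : P.asIdeal.comap (algebraMap Q (Q ⊗[R] c.R')) = q := congrArg PrimeSpectrum.asIdeal hP
    exact hcomap ▸ this
  obtain ⟨N, _, ⟨eN⟩⟩ := MultType.isDiag_baseChange_quot c K J
  haveI := MultType.fg_of_finiteType hQft eN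
  have hN : Finite N := by
    refine MultType.finite_of_hom_eq_zero K fun θ => ?_
    let d : MonoidAlgebra K N →ₗ[K] K :=
      (MonoidAlgebra.basis N K).constr K fun n => (θ n).toAdd
    have hdmul : ∀ u v, d (u * v) = d u * Coalgebra.counit (R := K) v + Coalgebra.counit (R := K) u * d v := by
      intro u v
      induction u using MonoidAlgebra.induction_linear with
      | zero => simp
      | add a b ha hb => rw [add_mul, map_add, ha, hb, map_add, map_add]; ring
      | single n r =>
        induction v using MonoidAlgebra.induction_linear with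
        | zero => simp
        | add a b ha hb => rw [mul_add, map_add, ha, hb, map_add, map_add]; ring
        | single m r' =>
          have hd : ∀ (k : N) (t : K), d (MonoidAlgebra.single k t) = t * (θ k).toAdd := fun k t => by
            rw [show (MonoidAlgebra.single k t : MonoidAlgebra K N) = t • MonoidAlgebra.basis N K k by simp,
              map_smul, Module.Basis.constr_basis, smul_eq_mul]
          rw [MonoidAlgebra.single_mul_single, hd, hd, hd, MonoidAlgebra.counit_single,
            MonoidAlgebra.counit_single, map_mul, toAdd_mul]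
          simp; ring
    let F : Q →+* MonoidAlgebra K N := (MultType.emb eN).toRingHom
    have hcounit : ∀ q' ∈ IQ, Coalgebra.counit (R := K) (F q') = 0 := fun q' hq' => by
      show Coalgebra.counit (R := K) (MultType.emb eN q') = 0
      rw [MultType.counit_emb, show Coalgebra.counit (R := R) q' = 0 from hq', map_zero]
    have hdI : ∀ q' : Q, d (F (red q')) = 0 := fun q' => by
      have hq' : red q' ∈ IQ := hεred q'
      rw [← hidem.eq] at hq'
      refine Submodule.mul_induction_on hq' (fun u hu v hv => ?_) (fun u v hu hv => ?_)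
      · rw [map_mul, hdmul, hcounit u hu, hcounit v hv]; simp
      · rw [map_add, map_add, hu, hv, add_zero]
    refine MonoidHom.ext fun n => ?_
    have hd1 : d 1 = 0 := by
      have : (1 : MonoidAlgebra K N) = MonoidAlgebra.basis N K 1 := by simp [MonoidAlgebra.one_def]
      rw [this, Module.Basis.constr_basis, map_one, toAdd_one]
    have hall : ∀ z : MonoidAlgebra K N, d z = 0 := by
      intro z
      obtain ⟨w, rfl⟩ := (EquivLike.surjective eN) z
      induction w using TensorProduct.induction_on with
      | zero => simp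
      | add a b ha hb => rw [map_add, map_add, ha, hb, add_zero]
      | tmul t q' =>
        rw [show t ⊗ₜ[R] q' = t • ((1 : K) ⊗ₜ[R] q') by simp [TensorProduct.smul_tmul'], map_smul, map_smul]
        have hq' : q' = red q' + algebraMap R Q (ε q') := by simp [red]
        show t • d (MultType.emb eN q') = 0
        rw [hq', map_add, map_add, AlgHom.commutes, IsScalarTower.algebraMap_apply R K (MonoidAlgebra K N),
          Algebra.algebraMap_eq_smul_one (algebraMap R K (ε q')), map_smul, hd1, smul_zero, add_zero,
          show d (MultType.emb eN (red q')) = 0 from hdI q', smul_zero]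
    have := hall (MonoidAlgebra.basis N K n)
    rw [Module.Basis.constr_basis] at this
    exact Multiplicative.toAdd.injective (by simpa using this)
  -- the point is killed by the order of `N`
  let n := Nat.card N
  have hn : 0 < n := Nat.card_pos
  let xK : K ⊗[R] Q →ₐ[K] K := Algebra.TensorProduct.lift (Algebra.ofId K K) x fun _ _ => Commute.all _ _
  have hpow : ∀ a : A, x (Ideal.Quotient.mk J (powConv R A n a - algebraMap R A (Coalgebra.counit a))) = 0 := by
    intro a
    have h0 := MultType.map_powConv (Bialgebra.Quotient.mkBialgHom (R := R) J) n a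
    have h1 : MultType.emb eN (powConv R Q n (Ideal.Quotient.mk J a)) =
        MultType.emb eN (algebraMap R Q (Coalgebra.counit a)) := by
      rw [MultType.emb_powConv, AlgHom.commutes]
      have hpw : (MultType.pw n : MonoidAlgebra K N →ₐ[K] _) =
          (Algebra.ofId K _).comp (Bialgebra.counitAlgHom K _) :=
        MonoidAlgebra.algHom_ext' (MonoidHom.ext fun k => by
          show MultType.pw n (MonoidAlgebra.single k 1) =
            algebraMap K _ (Bialgebra.counitAlgHom K _ (MonoidAlgebra.single k 1))
          rw [MultType.pw_single, pow_card_eq_one']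
          simp [MonoidAlgebra.one_def]) (by ext)
      rw [hpw]
      show algebraMap K _ (Coalgebra.counit (R := K) (MultType.emb eN _)) = _
      rw [MultType.counit_emb, ← IsScalarTower.algebraMap_apply]
      rfl
    have h2' : (1 : K) ⊗ₜ[R] powConv R Q n (Ideal.Quotient.mk J a) =
        (1 : K) ⊗ₜ[R] algebraMap R Q (Coalgebra.counit a) := EquivLike.injective eN h1
    have h2 := congrArg (fun z => xK z) h2'
    simp only [xK, Algebra.TensorProduct.lift_tmul, map_one, one_mul] at h2
    rw [map_sub, map_sub, ← Bialgebra.Quotient.mkBialgHom_apply (R := R) J (powConv R A n a), h0,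
      Bialgebra.Quotient.mkBialgHom_apply, h2, Ideal.Quotient.mk_algebraMap, sub_self]
  obtain ⟨a', rfl⟩ := Ideal.Quotient.mk_surjective e
  refine hxe ?_
  let y : A →ₐ[R] K := x.comp (Ideal.Quotient.mkₐ R J)
  have hLker : J ⊔ torsionIdeal R A n ≤ RingHom.ker y := sup_le
    (fun j hj => by
      show x (Ideal.Quotient.mk J j) = 0
      rw [Ideal.Quotient.eq_zero_iff_mem.2 hj, map_zero])
    (MultType.torsionIdeal_le_iff.2 hpow)
  have ha' : Ideal.Quotient.mk J a' ∈ IQ := by rw [hIe]; exact Submodule.mem_span_singleton_self _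
  exact hLker (hker n hn ha')

end Groth.Agent.S5254
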