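import Groth.Statements.S5262
import Groth.Agent.MultType.HomLift
import Groth.Agent.MultType.Formal
import Groth.Agent.MultType.HenselLift
import Groth.Agent.MultType.Cocomm
import Groth.Agent.S2974
-- import your own Groth.Agent.* helpers here

set_option autoImplicit false
universe u
open TensorProduct SGA3b
open SGA3b

namespace Groth.Agent.S5262

open MultType

variable {A : Type u} [CommRing A]

lemma idem_lift [HenselianLocalRing A] (S : Type u) [CommRing S] [Algebra A S] [Module.Finite A S]
    {T₀ : Type u} [CommRing T₀] [Algebra A T₀] (π : S →ₐ[A] T₀) (hπ : Function.Surjective π)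
    (hker : RingHom.ker π = (IsLocalRing.maximalIdeal A).map (algebraMap A S)) (b : T₀)
    (hb : IsIdempotentElem b) : ∃ e : S, IsIdempotentElem e ∧ π e = b := by
  haveI : HenselianRing A (IsLocalRing.maximalIdeal A) := inferInstance
  obtain ⟨s, rfl⟩ := hπ b
  obtain ⟨e, he, hes⟩ := Hensel.exists_idempotent_of_finite (A := A) (I := IsLocalRing.maximalIdeal A)
    HenselianRing.jac Hensel.gabberRoot (B := S) (b := s) (by
      rw [← hker, RingHom.mem_ker, map_sub, map_mul, hb.eq, sub_self])
  rw [← hker, RingHom.mem_ker, map_sub, sub_eq_zero] at hes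
  exact ⟨e, he, hes⟩


lemma map_map {B : Type u} [CommRing B] [Algebra A B] {T U V : Type u} [CommRing T] [Algebra A T]
    [CommRing U] [Algebra A U] [CommRing V] [Algebra A V] (p : U →ₐ[A] V) (l : T →ₐ[A] U) (z : T ⊗[A] B) :
    Algebra.TensorProduct.map p (AlgHom.id A B) (Algebra.TensorProduct.map l (AlgHom.id A B) z) =
      Algebra.TensorProduct.map (p.comp l) (AlgHom.id A B) z := by
  induction z using TensorProduct.induction_on with
  | zero => simp
  | tmul a b => simp
  | add a b ha hb => simp only [map_add, ha, hb]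

/-- Two pullbacks of an element defined over the residue ring agree modulo the maximal ideal. -/
lemma map_sub_map_mem {B : Type u} [CommRing B] [Algebra A B] [IsLocalRing A] {S T : Type u} [CommRing S]
    [Algebra A S] [CommRing T] [Algebra A T]
    (σ : IsLocalRing.ResidueField A →ₐ[A] S ⧸ (IsLocalRing.maximalIdeal A).map (algebraMap A S))
    (f₁ f₂ : S →ₐ[A] T) (z : S ⊗[A] B) (z₀ : IsLocalRing.ResidueField A ⊗[A] B)
    (hz : Algebra.TensorProduct.map (Ideal.Quotient.mkₐ A ((IsLocalRing.maximalIdeal A).map (algebraMap A S)))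
      (AlgHom.id A B) z = Algebra.TensorProduct.map σ (AlgHom.id A B) z₀) :
    Algebra.TensorProduct.map f₁ (AlgHom.id A B) z - Algebra.TensorProduct.map f₂ (AlgHom.id A B) z ∈
      Ideal.map (algebraMap T (T ⊗[A] B)) ((IsLocalRing.maximalIdeal A).map (algebraMap A T)) := by
  let IS := (IsLocalRing.maximalIdeal A).map (algebraMap A S)
  let IT := (IsLocalRing.maximalIdeal A).map (algebraMap A T)
  let p : T →ₐ[A] T ⧸ IT := Ideal.Quotient.mkₐ A IT
  let q : ∀ f : S →ₐ[A] T, S ⧸ IS →ₐ[A] T ⧸ IT := fun f =>
    Ideal.Quotient.liftₐ IS (p.comp f) (fun s hs => by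
      have : IS ≤ RingHom.ker (p.comp f) := Ideal.map_le_iff_le_comap.2 fun a ha => by
        show p.comp f (algebraMap A S a) = 0
        rw [AlgHom.commutes]
        exact Ideal.Quotient.eq_zero_iff_mem.2 (Ideal.mem_map_of_mem _ ha)
      exact this hs)
  have hq : (q f₁).comp σ = (q f₂).comp σ := by
    refine AlgHom.ext fun w => ?_
    obtain ⟨a, rfl⟩ := IsLocalRing.residue_surjective w
    exact ((q f₁).comp σ).commutes a |>.trans (((q f₂).comp σ).commutes a).symm
  have e : ∀ f : S →ₐ[A] T, Algebra.TensorProduct.map p (AlgHom.id A B)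
      (Algebra.TensorProduct.map f (AlgHom.id A B) z) =
      Algebra.TensorProduct.map ((q f).comp σ) (AlgHom.id A B) z₀ := fun f => by
    rw [← map_map (q f) σ, ← hz, map_map, map_map]
    rfl
  have h := mem_map_ker p (Ideal.Quotient.mkₐ_surjective A IT)
    (Algebra.TensorProduct.map f₁ (AlgHom.id A B) z - Algebra.TensorProduct.map f₂ (AlgHom.id A B) z)
    (by rw [map_sub, e, e, hq, sub_self])
  rw [show RingHom.ker p = IT from Ideal.Quotient.mkₐ_ker A IT] at h
  exact h

/-- Full faithfulness of the reduction functor. Let A be a henselian local ring with residue field k,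
and G = Spec B, H = Spec C two A-groups of multiplicative type with B and C finite over A. Then
reduction to the closed fibre is a bijection from homomorphisms of A-groups G ⟶ H (bialgebra maps C
→ B) to homomorphisms of k-groups G₀ ⟶ H₀: two bialgebra maps C → B with the same reduction are
equal, and every bialgebra map k ⊗ C → k ⊗ B over k is a reduction. (The published statement is an
equivalence of categories between groups of multiplicative type finite over A and over k; this row
states only full faithfulness, i.e. that reduction is bijective on homomorphisms.) (Affine group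
schemes over an affine base are taken in Hopf-algebra form; base change is the tensor product; a
homomorphism of groups Spec A ⟶ Spec C is a bialgebra map C → A.) -/
theorem result (A : Type u) [CommRing A] [HenselianLocalRing A]
    (B : Type u) [CommRing B] [HopfAlgebra A B] [Module.Finite A B] (hG : IsMultType A B)
    (C : Type u) [CommRing C] [HopfAlgebra A C] [Module.Finite A C] (hH : IsMultType A C) :
    (∀ φ ψ : C →ₐc[A] B, (∀ c : C, (1 : IsLocalRing.ResidueField A) ⊗ₜ[A] (φ c) =
        (1 : IsLocalRing.ResidueField A) ⊗ₜ[A] (ψ c)) → φ = ψ) ∧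
    (∀ φ₀ : (IsLocalRing.ResidueField A ⊗[A] C) →ₐc[IsLocalRing.ResidueField A] (IsLocalRing.ResidueField A ⊗[A] B),
      ∃ φ : C →ₐc[A] B, ∀ c : C, φ₀ ((1 : IsLocalRing.ResidueField A) ⊗ₜ[A] c) =
        (1 : IsLocalRing.ResidueField A) ⊗ₜ[A] (φ c)) := by
  classical
  haveI : HenselianRing A (IsLocalRing.maximalIdeal A) := inferInstance
  obtain ⟨R₁, _, _, _, _, hff₁, hd₁⟩ := Groth.Agent.S2974.result A B inferInstance hG
  obtain ⟨R₂, _, _, _, _, hff₂, hd₂⟩ := Groth.Agent.S2974.result A C inferInstance hH
  let S := R₁ ⊗[A] R₂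
  haveI : Module.FaithfullyFlat A S := Module.FaithfullyFlat.trans A R₁ S
  have hB : IsDiag S (S ⊗[A] B) := isDiag_of_algHom Algebra.TensorProduct.includeLeft hd₁
  have hC : IsDiag S (S ⊗[A] C) := isDiag_of_algHom Algebra.TensorProduct.includeRight hd₂
  have hjac : ∀ (T : Type u) [CommRing T] [Algebra A T] [Module.Finite A T],
      (IsLocalRing.maximalIdeal A).map (algebraMap A T) ≤ Ideal.jacobson ⊥ := fun T _ _ _ =>
    Hensel.map_le_jacobson_of_isIntegral HenselianRing.jac
  let k := IsLocalRing.ResidueField A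
  let π₀ : A →ₐ[A] k := Algebra.ofId A k
  -- congruent homomorphisms agree after a finite base change splitting both groups
  have huniq : ∀ (T : Type u) [CommRing T] [Algebra A T] [Module.Finite A T] (hTB : IsDiag T (T ⊗[A] B))
      (hTC : IsDiag T (T ⊗[A] C)) (g g' : C →ₐ[A] T ⊗[A] B) (hg : Compat g) (hg' : Compat g'),
      (∀ c, g c - g' c ∈ Ideal.map (algebraMap T (T ⊗[A] B)) ((IsLocalRing.maximalIdeal A).map (algebraMap A T))) →
      g = g' := fun T _ _ _ hTB hTC g g' hg hg' h => compat_eq_of_jacobson hTB hTC hg hg' _ (hjac T) h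
  have hinj : Function.Injective (fun b : B => (1 : S) ⊗ₜ[A] b) :=
    Module.FaithfullyFlat.tensorProduct_mk_injective (A := A) (B := S) B
  refine ⟨fun φ ψ h => ?_, fun φ₀ => ?_⟩
  · let f : B →ₐ[A] S ⊗[A] B := Algebra.TensorProduct.includeRight
    have hc : ∀ φ : C →ₐc[A] B, Compat (f.comp (φ : C →ₐ[A] B)) := by
      intro φ c
      show _ = jΔ S ((1 : S) ⊗ₜ[A] φ c)
      rw [jΔ, Algebra.TensorProduct.map_tmul, Bialgebra.comulAlgHom_apply, ← CoalgHomClass.map_comp_comul_apply φ,
        ← (Coalgebra.Repr.arbitrary A c).eq]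
      simp [j₁, j₂, f, TensorProduct.tmul_sum]
    have he := huniq S hB hC _ _ (hc φ) (hc ψ) fun c => by
      show (1 : S) ⊗ₜ[A] φ c - (1 : S) ⊗ₜ[A] ψ c ∈ _
      rw [← TensorProduct.tmul_sub]
      have h2 : φ c - ψ c ∈ Ideal.map (algebraMap A B) (IsLocalRing.maximalIdeal A) := by
        have h3 := congrArg (TensorProduct.quotTensorEquivQuotSMul B (IsLocalRing.maximalIdeal A)) (h c)
        erw [TensorProduct.quotTensorEquivQuotSMul_mk_one_tmul,
          TensorProduct.quotTensorEquivQuotSMul_mk_one_tmul] at h3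
        rw [Submodule.Quotient.eq, Ideal.smul_top_eq_map] at h3
        exact h3
      have h4 := Ideal.mem_map_of_mem f h2
      rw [Ideal.map_map, show (algebraMap S (S ⊗[A] B)).comp (algebraMap A S) = f.toRingHom.comp (algebraMap A B)
        from RingHom.ext fun a => (f.commutes a).symm, ← Ideal.map_map]
      exact h4
    refine BialgHom.ext ?_
    refine funext_iff.1 ?_
    exact funext fun c => hinj congr($he c)
  · let g₀ : C →ₐ[A] k ⊗[A] B :=
      ((φ₀ : k ⊗[A] C →ₐ[k] k ⊗[A] B).restrictScalars A).comp Algebra.TensorProduct.includeRight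
    have hg₀ : Compat g₀ := compat_of_bialgHom φ₀
    let IS := (IsLocalRing.maximalIdeal A).map (algebraMap A S)
    let π : S →ₐ[A] S ⧸ IS := Ideal.Quotient.mkₐ A IS
    let σ : k →ₐ[A] S ⧸ IS := Ideal.Quotient.liftₐ (IsLocalRing.maximalIdeal A) (Algebra.ofId A (S ⧸ IS))
      (fun a ha => Ideal.Quotient.eq_zero_iff_mem.2 (Ideal.mem_map_of_mem _ ha))
    have hker : RingHom.ker π = IS := Ideal.Quotient.mkₐ_ker A IS
    obtain ⟨g, hg, hgπ⟩ := exists_compat_lift_idem π (Ideal.Quotient.mkₐ_surjective A IS)
      (hker.le.trans (hjac S)) (idem_lift S π (Ideal.Quotient.mkₐ_surjective A IS) hker) hB hC _ (hg₀.map σ)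
    let f₁ : S →ₐ[A] S ⊗[A] S := Algebra.TensorProduct.includeLeft
    let f₂ : S →ₐ[A] S ⊗[A] S := Algebra.TensorProduct.includeRight
    haveI : Module.Finite A (S ⊗[A] S) := inferInstance
    have heq : (Algebra.TensorProduct.map f₁ (AlgHom.id A B)).comp g =
        (Algebra.TensorProduct.map f₂ (AlgHom.id A B)).comp g :=
      huniq _ (isDiag_of_algHom f₁ hB) (isDiag_of_algHom f₁ hC) _ _ (hg.map f₁) (hg.map f₂)
        fun c => map_sub_map_mem σ f₁ f₂ (g c) (g₀ c) congr($hgπ c)
    choose φ hφ using fun c : C => exists_tmul_eq (g c) congr($heq c)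
    let φa : C →ₐ[A] B :=
      { toFun := φ
        map_one' := hinj (by simp only [hφ, map_one, Algebra.TensorProduct.one_def])
        map_mul' := fun a b => hinj (by
          simp only [hφ, map_mul]
          rw [← hφ, ← hφ, Algebra.TensorProduct.tmul_mul_tmul, _root_.one_mul])
        map_zero' := hinj (by simp only [hφ, map_zero, TensorProduct.tmul_zero])
        map_add' := fun a b => hinj (by simp only [hφ, map_add, TensorProduct.tmul_add])
        commutes' := fun a => hinj (by
          simp only [hφ, AlgHom.commutes]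
          exact ((Algebra.TensorProduct.includeRight : B →ₐ[A] S ⊗[A] B).commutes a).symm) }
    have hinj2 : Function.Injective (fun b : B ⊗[A] B => (1 : S) ⊗ₜ[A] b) :=
      Module.FaithfullyFlat.tensorProduct_mk_injective (A := A) (B := S) (B ⊗[A] B)
    have hdef : DefectLE (⊥ : Ideal A) φa := fun c => by
      suffices h : Algebra.TensorProduct.map φa φa (Coalgebra.comul c) = Coalgebra.comul (φa c) by
        rw [h, sub_self]; exact Submodule.zero_mem _
      apply hinj2
      have h := hg c
      rw [← hφ c] at h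
      simp only [jΔ, Algebra.TensorProduct.map_tmul, Bialgebra.comulAlgHom_apply] at h
      refine Eq.trans ?_ h
      rw [← (Coalgebra.Repr.arbitrary A c).eq]
      simp only [map_sum, TensorProduct.tmul_sum, Algebra.TensorProduct.map_tmul, Algebra.TensorProduct.lift_tmul]
      refine Finset.sum_congr rfl fun i _ => ?_
      simp [← hφ, j₁, j₂, φa]
    obtain ⟨Φ, hΦ⟩ := exists_bialgHom_of_defect hdef
    refine ⟨Φ, fun c => ?_⟩
    haveI : Nontrivial (S ⧸ IS) := Ideal.Quotient.nontrivial_iff.2 fun h =>
      Module.FaithfullyFlat.submodule_ne_top (M := S) (IsLocalRing.maximalIdeal.isMaximal A)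
        (by rw [Ideal.smul_top_eq_map, show (IsLocalRing.maximalIdeal A).map (algebraMap A S) = ⊤ from h]; rfl)
    haveI := flat_of_isMultType hG
    have hσinj : Function.Injective (Algebra.TensorProduct.map σ (AlgHom.id A B)) :=
      Module.Flat.rTensor_preserves_injective_linearMap (M := B) σ.toLinearMap
        (RingHom.injective (σ : k →+* S ⧸ IS))
    apply hσinj
    have h := congr($hgπ c)
    refine h.symm.trans ?_
    show Algebra.TensorProduct.map π (AlgHom.id A B) (g c) = _
    rw [← hφ c, Algebra.TensorProduct.map_tmul, hΦ, Algebra.TensorProduct.map_tmul, map_one, map_one]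
    rfl

end Groth.Agent.S5262
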