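import Groth.Statements.S5268
import Groth.Agent.TwConst.Unibranch
import Groth.Agent.S5266
-- import your own Groth.Agent.* helpers here

set_option autoImplicit false
open CategoryTheory MonoidalCategory CartesianMonoidalCategory MonObj GrpObj AlgebraicGeometry
universe u
open SGA3x

namespace Groth.Agent.S5268

/-- Let S be a locally Noetherian scheme all of whose local rings are geometrically unibranch, and P a
quasi-isotrivial twisted constant S-scheme (etale-locally on S isomorphic to a constant scheme).
Then every connected component of P is open, and as an open subscheme of P it is finite over S. -/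
theorem result {S : Scheme.{u}} [IsLocallyNoetherian S]
    (hS : ∀ s : S, CAlg2.IsGeomUnibranch (S.presheaf.stalk s))
    (P : Over S) (hP : TwC.IsTwConst TwC.Topology.etale P) (x : P.left) :
    ∃ U : P.left.Opens, (U : Set P.left) = connectedComponent x ∧ IsFinite (U.ι ≫ P.hom) := by
  obtain ⟨hopen, t, hfin, hxt⟩ := TwConst.connectedComponent_open_fibre_finite hS P hP x
  let U : P.left.Opens := ⟨connectedComponent x, hopen⟩
  haveI : IsClosedImmersion U.ι := .of_isPreimmersion _ (by rw [Scheme.Opens.range_ι]; exact isClosed_connectedComponent)
  refine ⟨U, rfl, ?_⟩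
  haveI : QuasiCompact (U.ι ≫ P.hom) := by
    refine TwConst.quasiCompact_of_fibres_finite P hP U.ι fun s => ?_
    by_cases hs : s ∈ connectedComponent t
    · refine (TwConst.isClopen_setOf_finite P hP U.ι).connectedComponent_subset (x := t) ?_ hs
      refine Set.Finite.of_finite_image (f := U.ι) (hfin.subset ?_) U.ι.isOpenEmbedding.injective.injOn
      rintro _ ⟨a, ha, rfl⟩
      exact ⟨a.2, ha⟩
    · refine Set.finite_empty.subset ?_
      rintro a rfl
      refine hs ?_
      rw [connectedComponent_eq hxt]
      exact (isConnected_connectedComponent.image _ P.hom.continuous.continuousOn).subset_connectedComponent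
        ⟨x, mem_connectedComponent, rfl⟩ ⟨a.1, a.2, rfl⟩
  exact Groth.Agent.S5266.result P (TwConst.isTwConst_fpqc_of_etale hP) U.ι

end Groth.Agent.S5268
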