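import Groth.Statements.S5270
import Groth.Agent.MultType.Content

set_option autoImplicit false
universe u
open TensorProduct SGA3b
open SGA3b

namespace Groth.Agent.S5270

/-- Injectivity of the map to formal homomorphisms. Let A be a Noetherian ring, separated and complete
for the I-adic topology, H = Spec B an isotrivial A-group of multiplicative type and G = Spec C an
affine A-group. If two homomorphisms H ⟶ G, given by bialgebra maps φ, ψ : C → B, have the same
reduction modulo I^(n+1) for every n ≥ 0, then φ = ψ. (Affine group schemes over an affine base are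
taken in Hopf-algebra form; base change is the tensor product; a homomorphism of groups Spec A ⟶
Spec C is a bialgebra map C → A.) -/
theorem result (A : Type u) [CommRing A] [IsNoetherianRing A] (I : Ideal A) [IsAdicComplete I A]
    (B : Type u) [CommRing B] [HopfAlgebra A B] (hH : IsIsotrivial A B)
    (C : Type u) [CommRing C] [HopfAlgebra A C] (φ ψ : C →ₐc[A] B)
    (h : ∀ (n : ℕ) (c : C), (1 : A ⧸ I ^ (n + 1)) ⊗ₜ[A] (φ c) = (1 : A ⧸ I ^ (n + 1)) ⊗ₜ[A] (ψ c)) :
    φ = ψ := by
  obtain ⟨R', _, _, _, _, _, M, _, ⟨e⟩⟩ := hH
  refine BialgHom.ext fun c => ?_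
  rw [← sub_eq_zero]
  apply Module.FaithfullyFlat.tensorProduct_mk_injective (A := A) (B := R') B
  rw [map_zero]
  refine MultType.tmul_eq_zero e fun m => ?_
  rw [← Submodule.mem_bot A, ← Ideal.iInf_pow_smul_eq_bot_of_le_jacobson (R := A) (M := R') I
    (IsAdicComplete.le_jacobson_bot I), Submodule.mem_iInf]
  intro n
  rw [Ideal.smul_top_eq_map]
  exact MultType.coef_mem_map e (Ideal.map_mono (Ideal.pow_le_pow_right n.le_succ)
    (MultType.mem_map_of_tmul_eq (h n c))) m

end Groth.Agent.S5270
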