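import Groth.Statements.S5277
import Groth.Agent.MultType.Connected

set_option autoImplicit false
universe u
open TensorProduct SGA3b
open SGA3b

namespace Groth.Agent.S5277

/-- Let A be a Noetherian ring, separated and complete for the I-adic topology, and H = Spec C an affine
A-group with C flat and of finite type over A, all of whose fibres Spec (κ(p) ⊗ C) are connected. If
the reduction H₀ = Spec ((A/I) ⊗ C) is an isotrivial torus over A/I, then H is an isotrivial torus
over A. (Affine group schemes over an affine base are taken in Hopf-algebra form; base change is the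
tensor product; a homomorphism of groups Spec A ⟶ Spec C is a bialgebra map C → A.) -/
theorem result (A : Type u) [CommRing A] [IsNoetherianRing A] (I : Ideal A) [IsAdicComplete I A]
    (C : Type u) [CommRing C] [HopfAlgebra A C] [Module.Flat A C] (hft : Algebra.FiniteType A C)
    (hconn : ∀ (p : Ideal A) [p.IsPrime], ConnectedSpace (PrimeSpectrum (p.ResidueField ⊗[A] C)))
    (h0 : IsIsotrivial (A ⧸ I) ((A ⧸ I) ⊗[A] C) ∧ IsTorus (A ⧸ I) ((A ⧸ I) ⊗[A] C)) :
    IsIsotrivial A C ∧ IsTorus A C := by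
  obtain ⟨S, _, _, M, _, h1, h2, h3, ⟨ε⟩⟩ := Groth.Agent.MultType.exists_iso_of_connected (I := I) hft hconn h0.1
  refine ⟨⟨S, inferInstance, inferInstance, h1, h2, h3, M, inferInstance, ⟨ε⟩⟩, ?_⟩
  haveI := h3
  obtain ⟨n, ⟨ν⟩⟩ : ∃ n : ℕ, Nonempty (MonoidAlgebra S M ≃ₐc[S] MonoidAlgebra S (Multiplicative (Fin n → ℤ))) := by
    rcases subsingleton_or_nontrivial S with hS | hS
    · haveI : Subsingleton (MonoidAlgebra S M) := Module.subsingleton S _
      haveI : Subsingleton (MonoidAlgebra S (Multiplicative (Fin 0 → ℤ))) := Module.subsingleton S _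
      exact ⟨0, ⟨BialgEquiv.ofBijective (MonoidAlgebra.mapDomainBialgHom S 1)
        ⟨fun _ _ _ => Subsingleton.elim _ _, fun z => ⟨0, Subsingleton.elim _ _⟩⟩⟩⟩
    obtain ⟨m, hm⟩ := Ideal.exists_maximal S
    letI : Field (S ⧸ m) := Ideal.Quotient.field m
    let K₀ := S ⧸ m
    have hI0 : ∀ a ∈ I, algebraMap A K₀ a = 0 := fun a ha => by
      rw [IsScalarTower.algebraMap_apply A S K₀, Ideal.Quotient.algebraMap_eq, Ideal.Quotient.eq_zero_iff_mem]
      exact (Groth.Agent.Hensel.map_le_jacobson_of_isIntegral (IsAdicComplete.le_jacobson_bot I) (B := S)).trans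
        (sInf_le ⟨bot_le, hm⟩) (Ideal.mem_map_of_mem _ ha)
    let π : (A ⧸ I) →ₐ[A] K₀ := Ideal.Quotient.liftₐ I (Algebra.ofId A K₀) hI0
    obtain ⟨s, hs, hT⟩ := h0.2
    obtain ⟨f, hf, hfπ⟩ : ∃ f ∈ s, π f ≠ 0 := by
      by_contra! hn
      have : Ideal.span s ≤ RingHom.ker π := Ideal.span_le.2 hn
      rw [hs] at this
      exact one_ne_zero (α := K₀) ((map_one π).symm.trans (this (Submodule.mem_top (x := (1 : A ⧸ I)))))
    obtain ⟨R'', _, _, hff, n, ⟨η⟩⟩ := hT f hf
    let Lf := Localization.Away f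
    letI : Algebra (A ⧸ I) K₀ := π.toRingHom.toAlgebra
    letI : Algebra Lf K₀ := (IsLocalization.Away.lift (S := Lf) f (g := π.toRingHom) (isUnit_iff_ne_zero.2 hfπ)).toAlgebra
    haveI : IsScalarTower A (A ⧸ I) K₀ := IsScalarTower.of_algebraMap_eq fun a => (π.commutes a).symm
    haveI : IsScalarTower (A ⧸ I) Lf K₀ :=
      IsScalarTower.of_algebraMap_eq fun a => (IsLocalization.Away.lift_eq f _ a).symm
    haveI : IsScalarTower A Lf K₀ := IsScalarTower.of_algebraMap_eq fun a => by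
      rw [IsScalarTower.algebraMap_apply A (A ⧸ I) K₀, IsScalarTower.algebraMap_apply A (A ⧸ I) Lf,
        ← IsScalarTower.algebraMap_apply (A ⧸ I) Lf K₀]
    haveI : Nontrivial (R'' ⊗[Lf] K₀) :=
      (Module.FaithfullyFlat.tensorProduct_mk_injective (A := Lf) (B := R'') K₀).nontrivial
    haveI : Nontrivial (K₀ ⊗[Lf] R'') := (TensorProduct.comm Lf R'' K₀).injective.nontrivial
    obtain ⟨W, hW⟩ := Ideal.exists_maximal (K₀ ⊗[Lf] R'')
    letI : Field ((K₀ ⊗[Lf] R'') ⧸ W) := Ideal.Quotient.field W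
    let K := (K₀ ⊗[Lf] R'') ⧸ W
    let g₂ : K₀ →ₐ[A] K := (Ideal.Quotient.mkₐ A W).comp
      ((Algebra.TensorProduct.includeLeft : K₀ →ₐ[Lf] K₀ ⊗[Lf] R'').restrictScalars A)
    let g₁ : R'' →ₐ[Lf] K := (Ideal.Quotient.mkₐ Lf W).comp Algebra.TensorProduct.includeRight
    letI : Algebra R'' K := g₁.toRingHom.toAlgebra
    haveI : IsScalarTower Lf R'' K := IsScalarTower.of_algebraMap_eq fun a => (g₁.commutes a).symm
    refine ⟨n, ?_⟩
    have e1 : (K ⊗[A] C) ≃ₐc[K] MonoidAlgebra K M :=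
      (Groth.Agent.MultType.cbc (R := A) (A := C) S K).symm.trans (Groth.Agent.MultType.scalarEquiv K ε)
    have e2 : (K ⊗[A] C) ≃ₐc[K] MonoidAlgebra K (Multiplicative (Fin n → ℤ)) :=
      (Groth.Agent.MultType.cbc (R := A) (A := C) (A ⧸ I) K).symm.trans
        ((Groth.Agent.MultType.cbc (R := A ⧸ I) (A := (A ⧸ I) ⊗[A] C) Lf K).symm.trans
          ((Groth.Agent.MultType.cbc (R := Lf) (A := Lf ⊗[A ⧸ I] ((A ⧸ I) ⊗[A] C)) R'' K).symm.trans
            (Groth.Agent.MultType.scalarEquiv K η)))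
    obtain ⟨θ⟩ := Groth.Agent.MultType.nonempty_mulEquiv (e1.symm.trans e2)
    exact ⟨BialgEquiv.ofBijective (MonoidAlgebra.mapDomainBialgHom S θ.toMonoidHom)
      (MonoidAlgebra.mapDomain_injective θ.injective |> fun hi => ⟨hi, fun z => by
        induction z using MonoidAlgebra.induction_linear with
        | zero => exact ⟨0, map_zero _⟩
        | add p q hp hq =>
          obtain ⟨p, rfl⟩ := hp
          obtain ⟨q, rfl⟩ := hq
          exact ⟨p + q, map_add _ _ _⟩
        | single k r => exact ⟨MonoidAlgebra.single (θ.symm k) r, by simp⟩⟩)⟩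
  refine ⟨{1}, Ideal.span_singleton_one, fun f hf => ?_⟩
  obtain rfl : f = 1 := hf
  let L := Localization.Away (1 : A)
  refine ⟨L ⊗[A] S, inferInstance, inferInstance, inferInstance, n, ⟨?_⟩⟩
  exact (Groth.Agent.MultType.cbc (R := A) (A := C) L (L ⊗[A] S)).trans
    (letI : Algebra S (L ⊗[A] S) := (Algebra.TensorProduct.includeRight : S →ₐ[A] L ⊗[A] S).toRingHom.toAlgebra
     haveI : IsScalarTower A S (L ⊗[A] S) := IsScalarTower.of_algebraMap_eq fun a =>
       ((Algebra.TensorProduct.includeRight : S →ₐ[A] L ⊗[A] S).commutes a).symm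
     (Groth.Agent.MultType.cbc (R := A) (A := C) S (L ⊗[A] S)).symm.trans
       (Groth.Agent.MultType.scalarEquiv (L ⊗[A] S) (ε.trans ν)))

end Groth.Agent.S5277
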