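import Groth.Statements.S5278
import Mathlib
-- import your own Groth.Agent.* helpers here

set_option autoImplicit false
open CategoryTheory AlgebraicGeometry
set_option backward.isDefEq.respectTransparency false
universe u
open SGA3x

namespace Groth.Agent.S5278

/-- Let X be a connected scheme, f : X' ⟶ X a finite etale morphism and x a point of X. Then every
connected component of X' meets the fibre of f over x; equivalently the map from the connected
components of the fibre (or of the geometric fibre) to those of X' is surjective. -/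
theorem result {X X' : Scheme.{u}} [ConnectedSpace X] (f : X' ⟶ X)
    [IsFinite f] [Etale f] (x : X) (c : X') :
    ∃ x' : X', f.base x' = x ∧ x' ∈ connectedComponent c := by
  classical
  have hfin : (f.base ⁻¹' {x}).Finite := IsFinite.finite_preimage_singleton f x
  have hsurj : ∀ U : Set X', IsClopen U → U.Nonempty → (f.base ⁻¹' {x} ∩ U).Nonempty := by
    intro U hU hne
    have h1 : IsClopen (f.base '' U) := ⟨f.isClosedMap _ hU.1, f.isOpenMap _ hU.2⟩
    have h2 := (IsClopen.eq_univ h1 (hne.image _))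
    obtain ⟨u, hu, hux⟩ : x ∈ f.base '' U := h2 ▸ Set.mem_univ x
    exact ⟨u, hux, hu⟩
  let p : ℕ → Prop := fun n => ∃ U : Set X', IsClopen U ∧ c ∈ U ∧ (f.base ⁻¹' {x} ∩ U).ncard = n
  have hp : ∃ n, p n := ⟨_, Set.univ, isClopen_univ, Set.mem_univ c, rfl⟩
  obtain ⟨U, hU, hcU, hcard⟩ := Nat.find_spec hp
  have hpre : _root_.IsPreconnected U := by
    refine isPreconnected_iff_subset_of_disjoint.mpr fun s t hs ht hsub hdisj => ?_
    have key : ∀ s t : Set X', IsOpen s → IsOpen t → U ⊆ s ∪ t → U ∩ (s ∩ t) = ∅ → c ∈ s → U ⊆ s := by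
      intro s t hs ht hsub hdisj hcs
      have heq : U ∩ s = U \ t := by
        ext z
        refine ⟨fun hz => ⟨hz.1, fun hzt => ?_⟩, fun hz => ⟨hz.1, (hsub hz.1).resolve_right hz.2⟩⟩
        have : z ∈ (∅ : Set X') := hdisj ▸ ⟨hz.1, hz.2, hzt⟩
        exact this
      have hcl : IsClopen (U ∩ s) := ⟨heq ▸ hU.1.sdiff ht, hU.2.inter hs⟩
      by_contra hns
      have hne : (U \ (U ∩ s)).Nonempty := by
        obtain ⟨z, hz, hzs⟩ := Set.not_subset.mp hns
        exact ⟨z, hz, fun h => hzs h.2⟩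
      obtain ⟨z, hzF, hz⟩ := hsurj _ (hU.diff hcl) hne
      have hlt : (f.base ⁻¹' {x} ∩ (U ∩ s)).ncard < (f.base ⁻¹' {x} ∩ U).ncard :=
        Set.ncard_lt_ncard ⟨fun w hw => ⟨hw.1, hw.2.1⟩, fun h => hz.2 (h ⟨hzF, hz.1⟩).2⟩ (hfin.inter_of_left _)
      exact Nat.find_min hp (hcard ▸ hlt) ⟨_, hcl, ⟨hcU, hcs⟩, rfl⟩
    rcases hsub hcU with hcs | hct
    · exact Or.inl (key s t hs ht hsub hdisj hcs)
    · exact Or.inr (key t s ht hs (by rwa [Set.union_comm]) (by rwa [Set.inter_comm t s]) hct)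
  obtain ⟨x', hx', hx'U⟩ := hsurj U hU ⟨c, hcU⟩
  exact ⟨x', hx', hpre.subset_connectedComponent hcU hx'U⟩

end Groth.Agent.S5278
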