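import Groth.Statements.S5281
import Groth.Agent.SmoothHomLift.Main
import Groth.Agent.SmoothHomLift.Immersion
import Groth.Agent.SmoothHomLift.Bridge
import Groth.Agent.S2973
import Groth.Agent.S2979

set_option autoImplicit false
set_option backward.isDefEq.respectTransparency false
set_option backward.isDefEq.respectTransparency.types false
set_option maxHeartbeats 800000
open CategoryTheory MonoidalCategory CartesianMonoidalCategory MonObj GrpObj AlgebraicGeometry
universe u
open SGA3x

namespace Groth.Agent.S5281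

open scoped TensorProduct

/-- Let S = Spec R be affine, J a nilpotent ideal of R, S₀ = Spec (R/J), G an S-group which is smooth
over S, and j₀ : H₀ ⟶ G₀ = G ×_S S₀ a sub-group-scheme (a homomorphism which is an immersion) of
multiplicative type (H₀ fpqc-locally on S₀ isomorphic, as a group, to diagonalisable groups D(M), M
allowed to vary and taken in Type 0). Then there is a subgroup scheme j : H ⟶ G (a homomorphism
which is an immersion), with H flat over S, whose base change to S₀ coincides with H₀ as a subgroup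
of G₀: there is an isomorphism H ×_S S₀ ≅ H₀ over S₀ compatible with the two maps to G₀. -/
theorem result {R : Type u} [CommRing R] (J : Ideal R) (hJ : IsNilpotent J)
    (G : Over (Spec (CommRingCat.of R))) [GrpObj G] (hG : Smooth G.hom)
    (H₀ : Over (Spec (CommRingCat.of (R ⧸ J)))) [GrpObj H₀]
    (hH₀ : TwC.Locally (Spec (CommRingCat.of (R ⧸ J))) TwC.Topology.fpqc (fun S' f => ∃ (M : Type) (_ : AddCommGroup M), Nonempty (Grp.mk (Red.bc f H₀) ≅ Grp.mk (Red.DS S' M))))
    (j₀ : H₀ ⟶ Red.bc (Spec.map (CommRingCat.ofHom (Ideal.Quotient.mk J))) G) [IsMonHom j₀] [IsImmersion j₀.left] :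
    ∃ (H : Over (Spec (CommRingCat.of R))) (_ : GrpObj H) (j : H ⟶ G), IsMonHom j ∧ IsImmersion j.left ∧ Flat H.hom ∧
      ∃ φ : Red.bc (Spec.map (CommRingCat.ofHom (Ideal.Quotient.mk J))) H ≅ H₀, φ.hom ≫ j₀ = (Over.pullback (Spec.map (CommRingCat.ofHom (Ideal.Quotient.mk J)))).map j := by
  let R₀ := R ⧸ J
  haveI : Smooth G.hom := hG
  let q : Spec (CommRingCat.of R₀) ⟶ Spec (CommRingCat.of R) := SmoothHomLift.bq R R₀
  haveI : IsClosedImmersion q := IsClosedImmersion.spec_of_surjective _ Ideal.Quotient.mk_surjective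
  haveI : LocallyOfFiniteType (Red.bc q G).hom := inferInstanceAs (LocallyOfFiniteType (Limits.pullback.snd G.hom q))
  haveI : LocallyOfFiniteType H₀.hom := by
    rw [← Over.w j₀]; infer_instance
  have hFT : SGA3x.IsMultTypeFT H₀ := SmoothHomLift.isMultTypeFT_of_loc hH₀
  haveI : IsAffineHom H₀.hom := FixedSmooth.isAffineHom_of_isMultTypeLoc (.of_isMultTypeFT hFT)
  obtain ⟨A₀, _, _, ⟨e₀⟩⟩ := MultBridge.exists_hopf R₀ H₀
  obtain ⟨hft, hA₀⟩ := SmoothHomLift.isMultType_of_FT hFT e₀
  obtain ⟨A, _, _, hA, ⟨e⟩⟩ := S2979.result R J (fun x hx => by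
    obtain ⟨n, hn⟩ := hJ
    exact ⟨n, (Ideal.mem_bot).1 (hn.le (Ideal.pow_mem_pow hx n))⟩) A₀ (S2973.result R₀ A₀ hft hA₀)
  have hM := SmoothHomLift.isMultType_of_qi hA
  haveI := MultType.flat_of_isMultType hM
  let H := (Spec (CommRingCat.of A)).asOver (Spec (CommRingCat.of R))
  let φg : Grp.mk (Red.bc q H) ≅ Grp.mk H₀ :=
    TorusField.bcSpecIso R R₀ A ≪≫ (TorusField.specIso e).symm ≪≫ e₀
  haveI : IsMonHom φg.hom.hom.hom := φg.hom.hom.isMonHom_hom
  let g₀ : Red.bc q H ⟶ Red.bc q G := φg.hom.hom.hom ≫ j₀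
  obtain ⟨f, hf, hfg⟩ := SmoothHomLift.exists_hom_lift hM J hJ g₀
  refine ⟨H, inferInstance, f, hf, ?_, ?_, (Grp.forget _).mapIso φg, hfg.symm⟩
  · refine SmoothHomLift.isImmersion_of_mod J hJ f ?_
    haveI : IsIso φg.hom.hom.hom.left := ((Grp.forget _ ⋙ Over.forget _).mapIso φg).isIso_hom
    haveI : IsImmersion g₀.left := by
      show IsImmersion (φg.hom.hom.hom.left ≫ j₀.left)
      infer_instance
    haveI : IsClosedImmersion (Limits.pullback.fst G.hom q) := inferInstance
    let k := SmoothHomLift.pe (R := R) (S₀ := R₀) A H (SmoothHomLift.incl (R := R) (A := A) (S₀ := R₀))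
    haveI : IsIso k := SmoothHomLift.isIso_pe_incl
    haveI : IsIso k.left := (Over.forget _).map_isIso k
    have hk : k.left ≫ Limits.pullback.fst H.hom q =
        Spec.map (CommRingCat.ofHom (Algebra.TensorProduct.includeRight : A →ₐ[R] R₀ ⊗[R] A).toRingHom) := by
      have hc : ((Over.mapPullbackAdj q).homEquiv _ H).symm k =
          (SmoothHomLift.ptIso (R := R) (S₀ := R₀) A).hom ≫ SmoothHomLift.incl (R := R) (A := A) (S₀ := R₀) :=
        Equiv.symm_apply_apply _ _
      rw [Adjunction.homEquiv_counit] at hc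
      exact (congrArg CommaMorphism.left hc).trans (Category.id_comp _)
    have hsq : Limits.pullback.fst H.hom q ≫ f.left = g₀.left ≫ Limits.pullback.fst G.hom q := by
      rw [← hfg]
      exact (FixedSmooth.isPullback_bc q f).w
    rw [← hk, Category.assoc, hsq]
    infer_instance
  · show Flat (Spec.map (CommRingCat.ofHom (algebraMap R A)))
    rw [HasRingHomProperty.Spec_iff (P := @Flat)]
    exact RingHom.flat_algebraMap_iff.2 inferInstance

end Groth.Agent.S5281
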