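import Groth.Statements.S5288
import Groth.Agent.HenselAlg.Main
-- import your own Groth.Agent.* helpers here

set_option autoImplicit false
set_option backward.isDefEq.respectTransparency false
universe u
open TensorProduct SGA3b
open SGA3b

namespace Groth.Agent.S5288

/-- Let A be a henselian Noetherian local ring with maximal ideal 𝔪, residue field k and completion A';
let G = Spec B be an A-group of multiplicative type and of finite type, and H = Spec C an affine
A-group with C of finite type over A, flat over A at the points of the closed fibre (C localised at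
any prime containing 𝔪C is flat over A), whose closed fibre Spec (k ⊗ C) is a k-group of
multiplicative type. Then base change to A' is a bijection from homomorphisms of A-groups G ⟶ H
(bialgebra maps C → B) to homomorphisms of A'-groups G' ⟶ H': two bialgebra maps C → B with the same
base change are equal, and every bialgebra map A' ⊗ C → A' ⊗ B over A' is a base change. (The
published statement allows H locally of finite type and separated over A, not necessarily affine;
this row takes H affine.) (Affine group schemes over an affine base are taken in Hopf-algebra form;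
base change is the tensor product; a homomorphism of groups Spec A ⟶ Spec C is a bialgebra map C →
A.) -/
theorem result (A : Type u) [CommRing A] [IsNoetherianRing A] [HenselianLocalRing A]
    (B : Type u) [CommRing B] [HopfAlgebra A B] (hGft : Algebra.FiniteType A B) (hG : IsMultType A B)
    (C : Type u) [CommRing C] [HopfAlgebra A C] (hHft : Algebra.FiniteType A C)
    (hfl : ∀ (q : Ideal C) [q.IsPrime], Ideal.map (algebraMap A C) (IsLocalRing.maximalIdeal A) ≤ q → Module.Flat A (Localization.AtPrime q))
    (hs : IsMultType (IsLocalRing.ResidueField A) (IsLocalRing.ResidueField A ⊗[A] C)) :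
    (∀ φ ψ : C →ₐc[A] B, (∀ c : C, (1 : AdicCompletion (IsLocalRing.maximalIdeal A) A) ⊗ₜ[A] (φ c) = (1 : AdicCompletion (IsLocalRing.maximalIdeal A) A) ⊗ₜ[A] (ψ c)) → φ = ψ) ∧
    (∀ φ' : (AdicCompletion (IsLocalRing.maximalIdeal A) A ⊗[A] C) →ₐc[AdicCompletion (IsLocalRing.maximalIdeal A) A] (AdicCompletion (IsLocalRing.maximalIdeal A) A ⊗[A] B),
      ∃ φ : C →ₐc[A] B, ∀ c : C, φ' ((1 : AdicCompletion (IsLocalRing.maximalIdeal A) A) ⊗ₜ[A] c) = (1 : AdicCompletion (IsLocalRing.maximalIdeal A) A) ⊗ₜ[A] (φ c)) := by
  classical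
  haveI := hHft
  have hne : IsLocalRing.maximalIdeal A ≠ ⊤ := (IsLocalRing.maximalIdeal.isMaximal A).ne_top
  haveI := RegLocal.faithfullyFlat_completion A (IsLocalRing.maximalIdeal A) hne
  haveI := AdicCompletion.isAdicComplete_self (IsLocalRing.maximalIdeal A)
    (IsLocalRing.maximalIdeal A).fg_of_isNoetherianRing
  let A' := AdicCompletion (IsLocalRing.maximalIdeal A) A
  have hinj : Function.Injective fun b : B => (1 : A') ⊗ₜ[A] b :=
    Module.FaithfullyFlat.tensorProduct_mk_injective (A := A) (B := A') B
  have hinj2 : Function.Injective fun b : B ⊗[A] B => (1 : A') ⊗ₜ[A] b :=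
    Module.FaithfullyFlat.tensorProduct_mk_injective (A := A) (B := A') (B ⊗[A] B)
  refine ⟨fun φ ψ h => DFunLike.ext φ ψ fun c => hinj (h c), fun φ' => ?_⟩
  have hmem := HenselAlg.mem_range_baseChange hGft hG hs (IsAdicComplete.le_jacobson_bot _)
    (HenselAlg.exists_sub_algebraMap_mem A) φ'
  let incB : B →ₐ[A] A' ⊗[A] B := Algebra.TensorProduct.includeRight
  let g : C →ₐ[A] A' ⊗[A] B :=
    ((φ' : A' ⊗[A] C →ₐ[A'] A' ⊗[A] B).restrictScalars A).comp Algebra.TensorProduct.includeRight
  let φ₀ : C →ₐ[A] B := ((AlgEquiv.ofInjective incB hinj).symm.toAlgHom).comp (g.codRestrict _ fun c => hmem c)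
  have hφ₀ : ∀ c, (1 : A') ⊗ₜ[A] φ₀ c = g c := fun c =>
    congrArg Subtype.val ((AlgEquiv.ofInjective incB hinj).apply_symm_apply ⟨g c, hmem c⟩)
  have hg : MultType.Compat g := MultType.compat_of_bialgHom φ'
  have hdef : MultType.DefectLE (⊥ : Ideal A) φ₀ := by
    intro c
    suffices h : Algebra.TensorProduct.map φ₀ φ₀ (Coalgebra.comul (R := A) c) =
        Coalgebra.comul (R := A) (φ₀ c) by
      rw [h, sub_self]; exact Submodule.zero_mem _
    apply hinj2
    have h := hg c
    rw [← hφ₀ c] at h
    refine Eq.trans ?_ h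
    rw [← (Coalgebra.Repr.arbitrary A c).eq]
    simp only [map_sum, TensorProduct.tmul_sum, Algebra.TensorProduct.lift_tmul, Algebra.TensorProduct.map_tmul]
    refine Finset.sum_congr rfl fun i _ => ?_
    simp [← hφ₀, MultType.j₁, MultType.j₂, Algebra.TensorProduct.tmul_mul_tmul]
  obtain ⟨φ, hφ⟩ := MultType.exists_bialgHom_of_defect hdef
  exact ⟨φ, fun c => by rw [hφ, hφ₀]; rfl⟩

end Groth.Agent.S5288
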