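import Groth.Statements.S5296
import Groth.Agent.S5315
import Groth.Agent.MultType.QuasiFiniteKill
import Groth.Agent.MultType.Fibre
import Groth.Agent.MuGLLib.Pts

set_option autoImplicit false
set_option backward.isDefEq.respectTransparency false
set_option backward.isDefEq.respectTransparency.types false
universe u
open TensorProduct SGA3b
open SGA3b

namespace Groth.Agent.S5296

open CategoryTheory CategoryTheory.Limits MonoidalCategory CartesianMonoidalCategory MonObj AlgebraicGeometry in
/-- A group of finite type over a local ring with finite closed fibre is quasi-finite. -/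
theorem quasiFinite_of_closed_fibre {R : Type u} [CommRing R] [IsLocalRing R] {C : Type u} [CommRing C]
    [HopfAlgebra R C] [Algebra.FiniteType R C]
    (hs : Module.Finite (IsLocalRing.ResidueField R) (IsLocalRing.ResidueField R ⊗[R] C)) :
    Algebra.QuasiFinite R C := by
  let S := Spec (CommRingCat.of R)
  let G := MuGLLib.W R C
  let u : G ⟶ 𝟙_ (Over S) := toUnit G
  haveI hG : LocallyOfFiniteType G.hom := by
    show LocallyOfFiniteType (Spec.map (CommRingCat.ofHom (algebraMap R C)))
    rw [HasRingHomProperty.Spec_iff (P := @LocallyOfFiniteType)]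
    exact RingHom.finiteType_algebraMap.2 inferInstance
  haveI : LocallyOfFiniteType u.left := by
    have h : LocallyOfFiniteType (u.left ≫ (𝟙_ (Over S)).hom) := by rw [Over.w]; exact hG
    simpa using h
  obtain ⟨hopen, hset⟩ := Groth.Agent.S5315.result S G (𝟙_ (Over S)) u
    (fun s => MorphismProperty.pullback_snd _ _ hG)
  set U := {s : S | LocallyQuasiFinite ((Over.pullback (S.fromSpecResidueField s)).map u).left} with hU
  let s₀ : S := IsLocalRing.closedPoint R
  have h₀ : s₀ ∈ U := by
    obtain ⟨σ, hσ⟩ := Spec.map_surjective (S.fromSpecResidueField s₀)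
    let K : CommRingCat := S.residueField s₀
    letI : Algebra R K := σ.hom.toAlgebra
    have hker : ∀ r ∈ IsLocalRing.maximalIdeal R, algebraMap R K r = 0 := by
      intro r hr
      have hpt := Scheme.fromSpecResidueField_apply s₀ (IsLocalRing.closedPoint K)
      rw [← hσ] at hpt
      by_contra hne
      have h1 : r ∈ (Spec.map σ (IsLocalRing.closedPoint K) : PrimeSpectrum R).asIdeal := by
        rw [hpt]; exact hr
      have h2 : algebraMap R K r ∈ IsLocalRing.maximalIdeal K := h1
      rw [IsLocalRing.maximalIdeal_eq_bot, Ideal.mem_bot] at h2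
      exact hne h2
    letI : Algebra (IsLocalRing.ResidueField R) K := (Ideal.Quotient.lift _ (algebraMap R K) hker).toAlgebra
    haveI : IsScalarTower R (IsLocalRing.ResidueField R) K := IsScalarTower.of_algebraMap_eq fun r => rfl
    haveI : Module.Finite K (K ⊗[R] C) := Module.Finite.equiv
      (Algebra.TensorProduct.cancelBaseChange R (IsLocalRing.ResidueField R) K K C).toLinearEquiv
    have hfin : IsFinite (Spec.map (CommRingCat.ofHom
        (Algebra.TensorProduct.includeRight (R := R) (A := C) (B := K)).toRingHom)) := by
      rw [IsFinite.SpecMap_iff]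
      exact RingHom.Finite.comp
        (RingHom.Finite.of_surjective (Algebra.TensorProduct.comm R K C).toAlgHom.toRingHom
          (Algebra.TensorProduct.comm R K C).surjective)
        (RingHom.finite_algebraMap.2 (inferInstance : Module.Finite K (K ⊗[R] C)))
    have hsnd : IsFinite (pullback.snd G.hom (S.fromSpecResidueField s₀)) := by
      rw [← hσ]
      show IsFinite (pullback.snd (Spec.map (CommRingCat.ofHom (algebraMap R C)))
        (Spec.map (CommRingCat.ofHom (algebraMap R K))))
      rw [← MorphismProperty.cancel_left_of_respectsIso @IsFinite (pullbackSpecIso R C K).inv,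
        pullbackSpecIso_inv_snd]
      exact hfin
    let w := ((Over.pullback (S.fromSpecResidueField s₀)).map u).left
    have hw : w ≫ pullback.snd (𝟙_ (Over S)).hom (S.fromSpecResidueField s₀) =
        pullback.snd G.hom (S.fromSpecResidueField s₀) := pullback.lift_snd _ _ _
    haveI : IsIso (pullback.snd (𝟙_ (Over S)).hom (S.fromSpecResidueField s₀)) :=
      inferInstanceAs (IsIso (pullback.snd (𝟙 S) _))
    show LocallyQuasiFinite w
    rw [← MorphismProperty.cancel_right_of_respectsIso @LocallyQuasiFinite _
      (pullback.snd (𝟙_ (Over S)).hom (S.fromSpecResidueField s₀)), hw]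
    infer_instance
  have huniv : ∀ s, s ∈ U := fun s => (IsLocalRing.specializes_closedPoint (s : PrimeSpectrum R)).mem_open hopen h₀
  haveI : LocallyQuasiFinite u.left := by
    have hcov : ∀ x : G.left, ∃ W : G.left.Opens, x ∈ W ∧ LocallyQuasiFinite (W.ι ≫ u.left) := fun x =>
      (Set.ext_iff.1 hset x).2 (huniv _)
    choose W hW hqf using hcov
    refine IsZariskiLocalAtSource.of_iSup_eq_top W (top_le_iff.1 fun x _ => ?_) hqf
    exact TopologicalSpace.Opens.mem_iSup.2 ⟨x, hW x⟩
  have hq : LocallyQuasiFinite (Spec.map (CommRingCat.ofHom (algebraMap R C))) := by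
    show LocallyQuasiFinite G.hom
    rw [← Over.w u]
    exact (Category.comp_id u.left).symm ▸ ‹LocallyQuasiFinite u.left›
  rw [HasRingHomProperty.Spec_iff (P := @LocallyQuasiFinite)] at hq
  exact RingHom.quasiFinite_algebraMap.1 hq

/-- Over a local base, where an open neighbourhood of the closed point is the whole base: Let R be a
local ring with maximal ideal 𝔪 and residue field k, H = Spec A an R-group of multiplicative type
and of finite type, and K = Spec (A/J) a closed subgroup scheme of H (J a Hopf ideal) with A/J of
finite presentation over R, whose closed fibre Spec (k ⊗ A/J) is finite over k. Then K ⊆ ₙH for some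
integer n > 0: the ideal of the kernel of the n-th power map (generated by the image of the
augmentation ideal under the n-th power endomorphism) is contained in J. (K is then finite over R,
ₙH being finite; this row states only the containment.) (Affine group schemes over an affine base
are taken in Hopf-algebra form; base change is the tensor product; a homomorphism of groups Spec A ⟶
Spec C is a bialgebra map C → A.) -/
theorem result (R : Type u) [CommRing R] [IsLocalRing R]
    (A : Type u) [CommRing A] [HopfAlgebra R A] (hft : Algebra.FiniteType R A) (hH : IsMultType R A)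
    (J : Ideal A) [J.IsHopfIdeal R] (hK : Algebra.FinitePresentation R (A ⧸ J))
    (hs : Module.Finite (IsLocalRing.ResidueField R) (IsLocalRing.ResidueField R ⊗[R] (A ⧸ J))) :
    ∃ n : ℕ, 0 < n ∧ torsionIdeal R A n ≤ J := by
  haveI : Algebra.QuasiFinite R (A ⧸ J) := quasiFinite_of_closed_fibre hs
  obtain ⟨n, hn, h⟩ := Groth.Agent.MultType.exists_powConv_eq_trivial (R := R) (C := A ⧸ J)
  refine ⟨n, hn, Groth.Agent.MultType.torsionIdeal_le_iff.2 fun a => ?_⟩
  rw [← Ideal.Quotient.eq_zero_iff_mem, map_sub]
  let π : A →ₐc[R] A ⧸ J := Bialgebra.Quotient.mkBialgHom (R := R) J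
  show π (SGA3b.powConv R A n a) - π (algebraMap R A (Coalgebra.counit a)) = 0
  rw [Groth.Agent.MultType.map_powConv, h, CoalgHomClass.counit_comp_apply, AlgHomClass.commutes, sub_self]

end Groth.Agent.S5296
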