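import Groth.Statements.S5300
import Groth.Agent.MultType.TorsionPoints
import Groth.Agent.MultType.TorsionDense
import Groth.Agent.MultType.Field
import Groth.Agent.MultType.Cover
import Groth.Agent.MultType.QuasiFiniteKill
import Groth.Agent.MultType.Torsion
import Groth.Agent.VerschLib.Basic
import Mathlib.LinearAlgebra.TensorProduct.RightExactness
import Mathlib.RingTheory.Jacobson.Ring
-- import your own Groth.Agent.* helpers here

set_option autoImplicit false
universe u
open TensorProduct SGA3b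
open SGA3b

namespace Groth.Agent.S5300

open MultType WithConv

attribute [local instance] MultType.convPoints

variable {k : Type u} [Field k] {C : Type u} [CommRing C] [HopfAlgebra k C]

theorem comp_mul {U V : Type u} [CommRing U] [Algebra k U] [CommRing V] [Algebra k V] (g : U →ₐ[k] V)
    (a b : WithConv (C →ₐ[k] U)) : toConv (g.comp (a * b).ofConv) = toConv (g.comp a.ofConv) * toConv (g.comp b.ofConv) :=
  WithConv.ext (AlgHom.comp_convMul_distrib g a b)

theorem comp_one {U V : Type u} [CommRing U] [Algebra k U] [CommRing V] [Algebra k V] (g : U →ₐ[k] V) :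
    toConv (g.comp (1 : WithConv (C →ₐ[k] U)).ofConv) = 1 :=
  WithConv.ext (AlgHom.ext fun c => g.commutes _)

theorem comp_pow {U V : Type u} [CommRing U] [Algebra k U] [CommRing V] [Algebra k V] (g : U →ₐ[k] V)
    (a : WithConv (C →ₐ[k] U)) : ∀ n : ℕ, toConv (g.comp (a ^ n).ofConv) = toConv (g.comp a.ofConv) ^ n
  | 0 => by rw [pow_zero, pow_zero, comp_one]
  | n + 1 => by rw [pow_succ, pow_succ, ← comp_pow g a n, comp_mul]

/-- Points of a diagonalisable subgroup have roots after a bounded power. -/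
theorem exists_roots [Coalgebra.IsCocomm k C] (hft : Algebra.FiniteType k C) (e : C)
    [(Ideal.span {e}).IsHopfIdeal k] (hG : IsMultType k (C ⧸ Ideal.span {e}))
    (K : Type u) [Field K] [Algebra k K] [IsAlgClosed K] :
    IsDiag K (K ⊗[k] (C ⧸ Ideal.span {e})) ∧ ∃ N, 0 < N ∧ ∀ z ∈ pointsKilling (A := k) (e := e) K, ∀ i, 0 < i →
      ∃ w ∈ pointsKilling (A := k) (e := e) K, w ^ (i * N) = z ^ N := by
  haveI := hft
  let B := C ⧸ Ideal.span {e}
  let q : C →ₐc[k] B := Bialgebra.Quotient.mkBialgHom (R := k) (Ideal.span {e})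
  haveI hBft : Algebra.FiniteType k B :=
    Algebra.FiniteType.of_surjective (q : C →ₐ[k] B) Ideal.Quotient.mk_surjective
  obtain ⟨k', _, _, _, _, M, _, hM, ⟨ψ⟩⟩ := exists_separable_split hBft hG
  let j : k' →ₐ[k] K := IsAlgClosed.lift
  refine ⟨isDiag_of_algHom j ⟨M, inferInstance, ⟨ψ⟩⟩, ?_⟩
  haveI := hM
  obtain ⟨N, hN, hroot⟩ := exists_char_root (K := K) (M := M)
  refine ⟨N, hN, fun z hz i hi => ?_⟩
  let T := k' ⊗[k] B
  letI : Algebra k' K := j.toRingHom.toAlgebra
  haveI : IsScalarTower k k' K := IsScalarTower.of_algebraMap_eq fun a => (j.commutes a).symm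
  let incl : B →ₐ[k] T := Algebra.TensorProduct.includeRight
  -- characters give points
  let pt : (M →* Kˣ) → WithConv (C →ₐ[k] K) := fun θ =>
    toConv (((((MonoidAlgebra.lift k' K M ((Units.coeHom K).comp θ)).comp (ψ : T →ₐ[k'] MonoidAlgebra k' M)).restrictScalars k).comp
      incl).comp (q : C →ₐ[k] B))
  have hpt : ∀ θ, pt θ ∈ pointsKilling (A := k) (e := e) K := fun θ => by
    show MonoidAlgebra.lift k' K M ((Units.coeHom K).comp θ) (ψ ((1 : k') ⊗ₜ[k] Ideal.Quotient.mk _ e)) = 0
    rw [Ideal.Quotient.eq_zero_iff_mem.2 (Ideal.mem_span_singleton_self e), TensorProduct.tmul_zero, map_zero,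
      map_zero]
  have hmul : ∀ θ θ', pt (θ * θ') = pt θ * pt θ' := fun θ θ' => by
    have key : ∀ f g : WithConv (B →ₐ[k] K), toConv ((f * g).ofConv.comp (q : C →ₐ[k] B)) =
        toConv (f.ofConv.comp (q : C →ₐ[k] B)) * toConv (g.ofConv.comp (q : C →ₐ[k] B)) := fun f g =>
      WithConv.ext (AlgHom.convMul_comp_bialgHom_distrib f g q)
    refine Eq.trans ?_ (key _ _)
    refine WithConv.ext (AlgHom.ext fun c => ?_)
    show MonoidAlgebra.lift k' K M ((Units.coeHom K).comp (θ * θ')) (ψ ((1 : k') ⊗ₜ[k] q c)) = _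
    let L : (M →* Kˣ) → MonoidAlgebra k' M →ₐ[k'] K := fun θ => MonoidAlgebra.lift k' K M ((Units.coeHom K).comp θ)
    let E : MonoidAlgebra k' M ⊗[k'] MonoidAlgebra k' M →ₐ[k'] K :=
      Algebra.TensorProduct.lift (L θ) (L θ') fun _ _ => Commute.all _ _
    have hE : ∀ v, E (Coalgebra.comul v) = L (θ * θ') v := fun v => by
      induction v using MonoidAlgebra.induction_linear with
      | zero => simp
      | add a b ha hb => simp only [map_add, ha, hb]
      | single m s =>
        rw [MonoidAlgebra.comul_single]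
        simp [E, L, Algebra.smul_def]
        ring
    change L (θ * θ') (ψ ((1 : k') ⊗ₜ[k] q c)) = _
    rw [← hE, ← CoalgHomClass.map_comp_comul_apply ψ, TensorProduct.comul_tmul, CommSemiring.comul_apply]
    change _ = (_ * _ : WithConv (B →ₐ[k] K)).ofConv (q c)
    rw [AlgHom.convMul_apply]
    generalize Coalgebra.comul (R := k) (q c) = X
    induction X using TensorProduct.induction_on with
    | zero => simp
    | add x y hx hy => simp only [TensorProduct.tmul_add, map_add, hx, hy]
    | tmul x y => simp [E, L, incl, TensorProduct.AlgebraTensorModule.tensorTensorTensorComm_tmul]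
  have hsurj : ∀ g ∈ pointsKilling (A := k) (e := e) K, ∃ θ, pt θ = g := by
    intro g hg
    let g' : B →ₐ[k] K := Ideal.Quotient.liftₐ _ g.ofConv (fun x hx => by
      obtain ⟨t, rfl⟩ := Ideal.mem_span_singleton'.1 hx
      rw [map_mul, show g.ofConv e = 0 from hg, mul_zero])
    let G : T →ₐ[k'] K := Algebra.TensorProduct.lift (Algebra.ofId k' K) g' fun _ _ => Commute.all _ _
    let χ : M →* K := ((G.comp (ψ.symm : MonoidAlgebra k' M →ₐ[k'] T)).toMonoidHom).comp (MonoidAlgebra.of k' M)
    refine ⟨χ.toHomUnits, WithConv.ext (AlgHom.ext fun c => ?_)⟩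
    have hall : MonoidAlgebra.lift k' K M ((Units.coeHom K).comp χ.toHomUnits) =
        G.comp (ψ.symm : MonoidAlgebra k' M →ₐ[k'] T) := by
      ext m
      simp [χ]
    show MonoidAlgebra.lift k' K M ((Units.coeHom K).comp χ.toHomUnits) (ψ ((1 : k') ⊗ₜ[k] q c)) = g.ofConv c
    rw [hall]
    show G (ψ.symm (ψ ((1 : k') ⊗ₜ[k] q c))) = g.ofConv c
    rw [show ψ.symm (ψ ((1 : k') ⊗ₜ[k] q c)) = (1 : k') ⊗ₜ[k] q c from ψ.symm_apply_apply _]
    refine (Algebra.TensorProduct.lift_tmul _ _ _ _ _).trans ?_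
    rw [map_one, one_mul]
    show g' (Ideal.Quotient.mk (Ideal.span {e}) c) = g.ofConv c
    exact Ideal.Quotient.lift_mk (Ideal.span {e}) _ _
  let P : (M →* Kˣ) →* WithConv (C →ₐ[k] K) := MonoidHom.mk' pt hmul
  obtain ⟨θ, rfl⟩ := hsurj z hz
  obtain ⟨θ', hθ'⟩ := hroot θ i hi
  refine ⟨pt θ', hpt θ', ?_⟩
  show P θ' ^ (i * N) = P θ ^ N
  rw [← map_pow, hθ']
  exact map_pow P θ N

/-- Elements killed by all torsion points vanish. -/
theorem density [Coalgebra.IsCocomm k C] (hft : Algebra.FiniteType k C) (e : C) (he : IsIdempotentElem e)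
    [(Ideal.span {e}).IsHopfIdeal k] (hG : IsMultType k (C ⧸ Ideal.span {e})) (a b : C)
    (h : ∀ n : ℕ, 0 < n → ∃ N, a ^ N * b ∈ torsionIdeal k C n) : ∃ N, a ^ N * b = 0 := by
  classical
  haveI := hft
  let K := AlgebraicClosure k
  let B := C ⧸ Ideal.span {e}
  let q : C →ₐc[k] B := Bialgebra.Quotient.mkBialgHom (R := k) (Ideal.span {e})
  haveI hBft : Algebra.FiniteType k B :=
    Algebra.FiniteType.of_surjective (q : C →ₐ[k] B) Ideal.Quotient.mk_surjective
  obtain ⟨hdiag, N₀, hN₀, hroots⟩ := exists_roots hft e hG K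
  let CK := K ⊗[k] C
  let BK := K ⊗[k] B
  haveI : Algebra.FiniteType K BK := inferInstance
  have hBK : IsMultType K BK := by
    obtain ⟨M, _, ⟨ψ⟩⟩ := hdiag
    exact isMultType_of_ff K (isDiag_tensor K ⟨M, inferInstance, ⟨ψ⟩⟩)
  let ιK : K →ₐ[k] CK := Algebra.TensorProduct.includeLeft
  let zu : WithConv (C →ₐ[k] CK) := toConv Algebra.TensorProduct.includeRight
  let π : CK →ₐ[K] BK := Algebra.TensorProduct.map (AlgHom.id K K) (q : C →ₐ[k] B)
  have hker : ∀ w, π w = 0 → w * ((1 : K) ⊗ₜ[k] (1 - e)) = 0 := fun w hw => by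
    have hex : Function.Exact (LinearMap.lTensor K ((Ideal.span {e}).restrictScalars k).subtype)
        (LinearMap.lTensor K (q : C →ₐ[k] B).toLinearMap) :=
      lTensor_exact K (fun x => by
        simp only [Set.mem_range, Submodule.coe_subtype, AlgHom.toLinearMap_apply]
        exact (Ideal.Quotient.eq_zero_iff_mem.trans ⟨fun hx => ⟨⟨x, hx⟩, rfl⟩, fun ⟨y, hy⟩ => hy ▸ y.2⟩))
        Ideal.Quotient.mk_surjective
    have hπ : ∀ w, π w = LinearMap.lTensor K (q : C →ₐ[k] B).toLinearMap w := fun w => by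
      induction w using TensorProduct.induction_on with
      | zero => simp
      | add x y hx hy => simp only [map_add, hx, hy]
      | tmul s c => rfl
    obtain ⟨v, rfl⟩ := (hex w).1 ((hπ w).symm.trans hw)
    induction v using TensorProduct.induction_on with
    | zero => simp
    | add x y hx hy =>
      have h0 : ∀ x, π (LinearMap.lTensor K ((Ideal.span {e}).restrictScalars k).subtype x) = 0 := fun x =>
        (hπ _).trans ((hex _).2 ⟨x, rfl⟩)
      rw [map_add, add_mul, hx (h0 x), hy (h0 y), add_zero]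
    | tmul s c =>
      obtain ⟨t, ht⟩ := Ideal.mem_span_singleton'.1 c.2
      rw [LinearMap.lTensor_tmul, Submodule.subtype_apply, Algebra.TensorProduct.tmul_mul_tmul, ← ht, mul_assoc,
        mul_sub, mul_one, mul_one, he.eq, sub_self, mul_zero, TensorProduct.tmul_zero]
  -- the ideal of multipliers
  let aK : CK := (1 : K) ⊗ₜ a
  let bK : CK := (1 : K) ⊗ₜ b
  let Z : Ideal CK :=
    { carrier := {r | ∃ N, aK ^ N * bK * r = 0}
      zero_mem' := ⟨0, mul_zero _⟩
      add_mem' := fun {r r'} ⟨N, hN⟩ ⟨N', hN'⟩ => ⟨N + N', by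
        rw [mul_add, show aK ^ (N + N') * bK * r = aK ^ N' * (aK ^ N * bK * r) by ring,
          show aK ^ (N + N') * bK * r' = aK ^ N * (aK ^ N' * bK * r') by ring, hN, hN', mul_zero, mul_zero, add_zero]⟩
      smul_mem' := fun c r ⟨N, hN⟩ => ⟨N, by
        rw [smul_eq_mul, show aK ^ N * bK * (c * r) = c * (aK ^ N * bK * r) by ring, hN, mul_zero]⟩ }
  suffices hZ : Z = ⊤ by
    obtain ⟨N, hN⟩ := (Ideal.eq_top_iff_one Z).1 hZ
    refine ⟨N, Algebra.TensorProduct.includeRight_injective (R := k) (A := K) (B := C)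
      (algebraMap k K).injective ?_⟩
    rw [map_zero]
    rw [mul_one] at hN
    rw [← hN, map_mul, map_pow]
    rfl
  -- every torsion translate
  have htrans : ∀ (y : WithConv (C →ₐ[k] K)) (m : ℕ), 0 < m → y ^ m = 1 →
      (zu * toConv (ιK.comp (y⁻¹).ofConv)).ofConv (1 - e) ∈ Z := by
    intro y m hm hy
    let T : WithConv (C →ₐ[k] CK) := zu * toConv (ιK.comp y.ofConv)
    let πk : CK →ₐ[k] BK := π.restrictScalars k
    let hy' : C →ₐ[k] BK := πk.comp T.ofConv
    have hpow : ∀ l, toConv hy' ^ (m * l) = toConv (πk.comp zu.ofConv) ^ (m * l) := fun l => by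
      rw [show toConv hy' = toConv (πk.comp zu.ofConv) * toConv (πk.comp (ιK.comp y.ofConv)) from comp_mul πk _ _,
        ]
      refine (Commute.mul_pow (M := WithConv (C →ₐ[k] BK)) (a := toConv (πk.comp zu.ofConv))
        (b := toConv (πk.comp (ιK.comp y.ofConv))) (@mul_comm (WithConv (C →ₐ[k] BK)) _ _ _) (m * l)).trans ?_
      rw [show toConv (πk.comp (ιK.comp y.ofConv)) = toConv ((πk.comp ιK).comp y.ofConv) from rfl,
        ← comp_pow (πk.comp ιK) y, show y ^ (m * l) = 1 by rw [pow_mul, hy, one_pow], comp_one]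
      exact _root_.mul_one (toConv (πk.comp zu.ofConv) ^ (m * l))
    have hmem : ∀ l, 0 < l → ∀ c ∈ torsionIdeal k C (m * l), hy' c ∈ torsionIdeal K BK (m * l) := fun l _ c hc => by
      refine ((torsionIdeal_le_iff (K := (torsionIdeal K BK (m * l)).comap hy')).2 fun c => ?_) hc
      rw [Ideal.mem_comap, map_sub, AlgHom.commutes]
      have h1 : hy' (powConv k C (m * l) c) = (1 : K) ⊗ₜ[k] powConv k B (m * l) (q c) := by
        have h2 := congrArg (fun w : WithConv (C →ₐ[k] BK) => w.ofConv c)
          ((toConv_comp_powConv hy' (m * l)).trans (hpow l) |>.trans (toConv_comp_powConv (πk.comp zu.ofConv) (m * l)).symm)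
        refine h2.trans ?_
        show (1 : K) ⊗ₜ[k] q (powConv k C (m * l) c) = _
        rw [map_powConv q]
      rw [h1, ← VerschLib.powConv_baseChange (R := k) (T := K) (A := B)]
      have h3 := powConv_sub_mem (R := K) (A := BK) (m * l) ((1 : K) ⊗ₜ[k] q c)
      have hc : algebraMap K BK (Coalgebra.counit (R := K) ((1 : K) ⊗ₜ[k] q c)) =
          algebraMap k BK (Coalgebra.counit c) := by
        rw [IsScalarTower.algebraMap_apply k K BK]
        congr 1
        rw [TensorProduct.counit_tmul, CommSemiring.counit_apply, CoalgHomClass.counit_comp_apply,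
          ← Algebra.algebraMap_eq_smul_one]
      rw [hc] at h3
      exact h3
    have hzero : algebraMap BK (Localization.Away (hy' a)) (hy' b) = 0 := by
      have h5 := iInf_torsionIdeal_away (R := K) (A := BK) inferInstance hBK (hy' a)
      have h6 : algebraMap BK (Localization.Away (hy' a)) (hy' b) ∈
          (⊥ : Ideal (Localization.Away (hy' a))) := by
        rw [← h5, Ideal.mem_iInf]
        intro ⟨n, hn⟩
        obtain ⟨N, hN⟩ := h (m * n) (Nat.mul_pos hm hn)
        have h7 := hmem n hn _ hN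
        have h8 : torsionIdeal K BK (m * n) ≤ torsionIdeal K BK n := by
          rw [torsionIdeal_le_iff]
          intro c
          have h9 := powConv_sub_mem (R := K) (A := BK) n (powConv K BK m c)
          rw [MultType.powConv_powConv, MultType.counit_powConv] at h9
          rwa [mul_comm m n]
        refine (IsLocalization.algebraMap_mem_map_algebraMap_iff (Submonoid.powers (hy' a)) _ _ _).2
          ⟨hy' a ^ N, ⟨N, rfl⟩, ?_⟩
        rw [← map_pow, ← map_mul]
        exact h8 h7
      simpa using h6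
    obtain ⟨⟨_, N, rfl⟩, hN⟩ := (IsLocalization.map_eq_zero_iff (Submonoid.powers (hy' a)) _ _).1 hzero
    refine ⟨N, ?_⟩
    have h10 : T.ofConv (a ^ N * b) * ((1 : K) ⊗ₜ[k] (1 - e)) = 0 := hker _ (by
      show hy' (a ^ N * b) = 0
      rw [map_mul, map_pow]; exact hN)
    let S : CK →ₐ[K] CK := Algebra.TensorProduct.lift (Algebra.ofId K CK)
      (zu * toConv (ιK.comp (y⁻¹).ofConv)).ofConv fun _ _ => Commute.all _ _
    have hS : toConv ((S.restrictScalars k).comp T.ofConv) = zu := by
      rw [comp_mul,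
        show toConv ((S.restrictScalars k).comp zu.ofConv) = zu * toConv (ιK.comp (y⁻¹).ofConv) from
          WithConv.ext (AlgHom.ext fun c => by
            show S ((1 : K) ⊗ₜ[k] c) = _
            refine (Algebra.TensorProduct.lift_tmul _ _ _ _ _).trans ?_
            rw [map_one, one_mul]),
        show toConv ((S.restrictScalars k).comp (ιK.comp y.ofConv)) = toConv (ιK.comp y.ofConv) from
          WithConv.ext (AlgHom.ext fun c => by
            show S (y.ofConv c ⊗ₜ[k] (1 : C)) = _
            refine (Algebra.TensorProduct.lift_tmul _ _ _ _ _).trans ?_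
            rw [map_one, mul_one]; rfl),
        mul_assoc, ← comp_mul, inv_mul_cancel, comp_one, mul_one]
    have h11 := congrArg S h10
    rw [map_zero, map_mul, show S (T.ofConv (a ^ N * b)) = (1 : K) ⊗ₜ[k] (a ^ N * b) from
      congrArg (fun w : WithConv (C →ₐ[k] CK) => w.ofConv (a ^ N * b)) hS,
      show S ((1 : K) ⊗ₜ[k] (1 - e)) = (zu * toConv (ιK.comp (y⁻¹).ofConv)).ofConv (1 - e) from by
        refine (Algebra.TensorProduct.lift_tmul _ _ _ _ _).trans ?_
        rw [map_one, one_mul]] at h11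
    have h14 : aK ^ N * bK = (1 : K) ⊗ₜ[k] (a ^ N * b) :=
      (by rw [map_mul, map_pow]; rfl : aK ^ N * bK = Algebra.TensorProduct.includeRight (a ^ N * b))
    show aK ^ N * bK * _ = 0
    rw [h14]
    exact h11
  by_contra hZ
  obtain ⟨P, hP, hle⟩ := Ideal.exists_le_maximal Z hZ
  letI : Field (CK ⧸ P) := Ideal.Quotient.field P
  haveI : Algebra.FiniteType K (CK ⧸ P) :=
    Algebra.FiniteType.of_surjective (Ideal.Quotient.mkₐ K P) Ideal.Quotient.mk_surjective
  haveI : Module.Finite K (CK ⧸ P) := finite_of_finite_type_of_isJacobsonRing K (CK ⧸ P)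
  have hb := IsAlgClosed.algebraMap_bijective_of_isIntegral (k := K) (K := CK ⧸ P)
  let w : CK →ₐ[K] K := ((AlgEquiv.ofBijective (Algebra.ofId K (CK ⧸ P)) hb).symm.toAlgHom).comp (Ideal.Quotient.mkₐ K P)
  let x : WithConv (C →ₐ[k] K) := toConv ((w.restrictScalars k).comp zu.ofConv)
  obtain ⟨i, hi, hxi⟩ := exists_pow_mem he x
  obtain ⟨v, hv, hvi⟩ := hroots _ hxi i hi
  let y : WithConv (C →ₐ[k] K) := x * v⁻¹
  have hy : y ^ (i * N₀) = 1 := by
    show (x * v⁻¹) ^ (i * N₀) = 1
    rw [(show Commute x v⁻¹ from @mul_comm (WithConv (C →ₐ[k] K)) _ _ _).mul_pow, inv_pow, hvi, ← pow_mul, mul_inv_cancel]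
  have hεZ := htrans y (i * N₀) (Nat.mul_pos hi hN₀) hy
  have h12 : w ((zu * toConv (ιK.comp (y⁻¹).ofConv)).ofConv (1 - e)) = (x * y⁻¹).ofConv (1 - e) := by
    have := congrArg (fun z : WithConv (C →ₐ[k] K) => z.ofConv (1 - e))
      (comp_mul (w.restrictScalars k) zu (toConv (ιK.comp (y⁻¹).ofConv)))
    refine this.trans ?_
    rw [show toConv ((w.restrictScalars k).comp (ιK.comp (y⁻¹).ofConv)) = y⁻¹ from
      WithConv.ext (AlgHom.ext fun c => w.commutes (y⁻¹.ofConv c))]
  have h13 : w ((zu * toConv (ιK.comp (y⁻¹).ofConv)).ofConv (1 - e)) = 0 := by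
    show (AlgEquiv.ofBijective (Algebra.ofId K (CK ⧸ P)) hb).symm (Ideal.Quotient.mk P _) = 0
    rw [Ideal.Quotient.eq_zero_iff_mem.2 (hle hεZ), map_zero]
  rw [h12, show x * y⁻¹ = v by rw [show y⁻¹ = v * x⁻¹ from by rw [mul_inv_rev, inv_inv], mul_left_comm,
    mul_inv_cancel, mul_one], map_sub, map_one, show v.ofConv e = 0 from hv, sub_zero] at h13
  exact one_ne_zero h13

/-- The affine form of schematic density. Let k be a field and H = Spec C a commutative k-group of
finite type (C cocommutative, of finite type over k) which has an open subgroup G of multiplicative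
type: an idempotent e of C such that the ideal (e) is a Hopf ideal and G = Spec (C/(e)) is of
multiplicative type. Then the family of kernels ₙH, n > 0, of the n-th power maps is schematically
dense in H: for every a ∈ C, the intersection over n > 0 of the extensions to C[1/a] of the ideals
Jₙ of the ₙH is zero. (Affine group schemes over an affine base are taken in Hopf-algebra form; base
change is the tensor product; a homomorphism of groups Spec A ⟶ Spec C is a bialgebra map C → A.) -/
theorem result (k : Type u) [Field k] (C : Type u) [CommRing C] [HopfAlgebra k C]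
    [Coalgebra.IsCocomm k C] (hft : Algebra.FiniteType k C)
    (e : C) (he : IsIdempotentElem e) [(Ideal.span {e}).IsHopfIdeal k] (hG : IsMultType k (C ⧸ Ideal.span {e})) :
    ∀ a : C, ⨅ n : {n : ℕ // 0 < n}, Ideal.map (algebraMap C (Localization.Away a)) (torsionIdeal k C n.1) = ⊥ := by
  intro a
  rw [eq_bot_iff]
  intro x hx
  rw [Submodule.mem_bot]
  obtain ⟨⟨b, s⟩, hb⟩ := IsLocalization.surj (Submonoid.powers a) x
  have hu : IsUnit (algebraMap C (Localization.Away a) s) := IsLocalization.map_units _ s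
  rw [← hu.mul_left_eq_zero, hb]
  obtain ⟨N, hN⟩ := density hft e he hG a b fun n hn => by
    have h1 : algebraMap C (Localization.Away a) b ∈
        Ideal.map (algebraMap C (Localization.Away a)) (torsionIdeal k C n) := by
      rw [← hb]
      exact Ideal.mul_mem_right _ _ ((Ideal.mem_iInf).1 hx ⟨n, hn⟩)
    obtain ⟨_, ⟨N, rfl⟩, hN⟩ :=
      (IsLocalization.algebraMap_mem_map_algebraMap_iff (Submonoid.powers a) _ _ _).1 h1
    exact ⟨N, hN⟩
  exact (IsLocalization.map_eq_zero_iff (Submonoid.powers a) _ _).2 ⟨⟨_, N, rfl⟩, hN⟩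

end Groth.Agent.S5300
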