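import Groth.Statements.S5312
import Groth.Agent.FlatLocus.FibreCrit
import Groth.Agent.MonoFibre.FlatOrbit
import Groth.Agent.FpqcDesc.Stalk
-- import your own Groth.Agent.* helpers here

set_option autoImplicit false
universe u
open CategoryTheory CategoryTheory.Limits MonoidalCategory CartesianMonoidalCategory MonObj GrpObj AlgebraicGeometry
open SGA3

namespace Groth.Agent.S5312

/-- The fibrewise criterion, phrased with a pullback. -/
theorem crit {X Y S : Scheme.{u}} (f : X ⟶ Y) (g : Y ⟶ S) (h : X ⟶ S) (e : f ≫ g = h) [Flat h]
    [LocallyOfFinitePresentation h] [LocallyOfFiniteType g] (s : S) (z : ↥(pullback h (S.fromSpecResidueField s)))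
    (x : X) (hx : pullback.fst h (S.fromSpecResidueField s) z = x) :
    (f.stalkMap x).hom.Flat ↔ ((pullback.lift (f := g) (g := S.fromSpecResidueField s)
      (pullback.fst h (S.fromSpecResidueField s) ≫ f) (pullback.snd h (S.fromSpecResidueField s))
      (by rw [Category.assoc, e, pullback.condition])).stalkMap z).hom.Flat := by
  subst e
  have hc := FlatLocus.fibre_criterion f g s z x hx
  exact ⟨fun h => (hc.mpr ⟨(FlatDescStalk.flat_stalkMap_comp_iff f g x h).mp (Flat.stalkMap (f ≫ g) x), h⟩).2,
    fun h => (hc.mp ⟨Flat.stalkMap (f ≫ g) x, h⟩).2⟩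

/-- Let u : G → H be a homomorphism of S-group schemes, with G flat and locally of finite presentation
over S and H locally of finite type over S. Then the set U of points s of S such that the fibre u_s
: G_s → H_s over κ(s) is flat is open in S, and the set of points of G at which u is flat (the local
ring of G is flat over that of H) is the inverse image of U in G. (The published statement assumes
the finiteness and flatness conditions only at the points of the unit sections for the openness of
U; this row assumes them on all of G and H, the case in which the second assertion is stated.) -/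
theorem result (S : Scheme.{u}) (G H : Over S) [GrpObj G] [GrpObj H] (u : G ⟶ H) [IsMonHom u]
    [Flat G.hom] [LocallyOfFinitePresentation G.hom] [LocallyOfFiniteType H.hom] :
    IsOpen {s : S | Flat ((Over.pullback (S.fromSpecResidueField s)).map u).left} ∧
    {x : G.left | (u.left.stalkMap x).hom.Flat} = G.hom.base ⁻¹' {s : S | Flat ((Over.pullback (S.fromSpecResidueField s)).map u).left} := by
  haveI : LocallyOfFinitePresentation (u.left ≫ H.hom) := by rw [Over.w u]; infer_instance
  haveI : LocallyOfFinitePresentation u.left := FlatLocus.locallyOfFinitePresentation_of_comp u.left H.hom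
  haveI : Flat (u.left ≫ H.hom) := by rw [Over.w u]; infer_instance
  let A : Set G.left := {x | (u.left.stalkMap x).hom.Flat}
  let U : Set S := {s : S | Flat ((Over.pullback (S.fromSpecResidueField s)).map u).left}
  have hA : A = {x : G.left | (H.hom.stalkMap (u.left x)).hom.Flat ∧ (u.left.stalkMap x).hom.Flat} :=
    Set.ext fun x => ⟨fun h => ⟨(FlatDescStalk.flat_stalkMap_comp_iff u.left H.hom x h).mp
      (Flat.stalkMap (u.left ≫ H.hom) x), h⟩, fun h => h.2⟩
  have hopen : IsOpen A := by
    rw [hA]
    exact FlatLocus.isOpen_fibre_flat u.left H.hom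
  have hAU : A = G.hom.base ⁻¹' U := by
    ext x
    let s : S := G.hom x
    let ι₀ := S.fromSpecResidueField s
    letI : GrpObj ((Over.pullback ι₀).obj G) := Functor.grpObjObj
    letI : GrpObj ((Over.pullback ι₀).obj H) := Functor.grpObjObj
    let F := (Over.pullback ι₀).map u
    haveI : Flat ((Over.pullback ι₀).obj G).hom := inferInstanceAs (Flat (pullback.snd G.hom ι₀))
    have hs : x ∈ A ↔ ∃ z : ↥(pullback G.hom ι₀), pullback.fst G.hom ι₀ z = x ∧ (F.left.stalkMap z).hom.Flat := by
      obtain ⟨z, hz, -⟩ := Scheme.Pullback.exists_preimage_pullback (f := G.hom) (g := ι₀) x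
        (IsLocalRing.closedPoint (S.residueField s)) (S.fromSpecResidueField_apply s _).symm
      have h1 := fun z' hz' => crit u.left H.hom G.hom (Over.w u) s z' x hz'
      constructor
      · exact fun h => ⟨z, hz, (h1 z hz).mp h⟩
      · rintro ⟨z', hz', h⟩
        exact (h1 z' hz').mpr h
    rw [hs]
    constructor
    · rintro ⟨z, -, hz⟩
      exact MonoFibre.flat_hom_of_flat_at F ⟨z, hz⟩
    · intro h
      haveI : Flat F.left := h
      obtain ⟨z, hz, -⟩ := Scheme.Pullback.exists_preimage_pullback (f := G.hom) (g := ι₀) x
        (IsLocalRing.closedPoint (S.residueField s)) (S.fromSpecResidueField_apply s _).symm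
      exact ⟨z, hz, Flat.stalkMap F.left z⟩
  refine ⟨?_, hAU⟩
  show IsOpen U
  have hsurj : Function.Surjective G.hom.base := fun s =>
    ⟨η[G].left s, by rw [← Scheme.Hom.comp_apply, Over.w]; rfl⟩
  rw [← Set.image_preimage_eq U hsurj, ← hAU]
  exact G.hom.isOpenMap _ hopen

end Groth.Agent.S5312
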