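import Groth.Statements.S5317
import Groth.Agent.MonoFibre.HomLocus
import Groth.Agent.S5314
import Groth.Agent.S3694
-- import your own Groth.Agent.* helpers here

set_option autoImplicit false
universe u
open CategoryTheory CategoryTheory.Limits MonoidalCategory CartesianMonoidalCategory MonObj GrpObj AlgebraicGeometry
open SGA3

namespace Groth.Agent.S5317

/-- Let u : G → H be a homomorphism of S-group schemes which is universally injective (for instance a
monomorphism), with G flat and locally of finite presentation over S and H locally of finite type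
over S. Then the set U of points s of S such that u_s : G_s → H_s is an open immersion is open in S,
and the restriction of u over every open of S contained in U is an open immersion. -/
theorem result (S : Scheme.{u}) (G H : Over S) [GrpObj G] [GrpObj H]
    (u : G ⟶ H) [IsMonHom u] [UniversallyInjective u.left]
    [Flat G.hom] [LocallyOfFinitePresentation G.hom] [LocallyOfFiniteType H.hom] :
    IsOpen {s : S | IsOpenImmersion ((Over.pullback (S.fromSpecResidueField s)).map u).left} ∧
    ∀ W : S.Opens, (W : Set S) ⊆ {s : S | IsOpenImmersion ((Over.pullback (S.fromSpecResidueField s)).map u).left} → IsOpenImmersion ((G.hom ⁻¹ᵁ W).ι ≫ u.left) := by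
  obtain ⟨hopen, heq⟩ := Groth.Agent.S5314.result S G H u
  have hiff : ∀ s : S, IsOpenImmersion ((Over.pullback (S.fromSpecResidueField s)).map u).left ↔
      Etale ((Over.pullback (S.fromSpecResidueField s)).map u).left := fun s => by
    refine ⟨fun h => by infer_instance, fun h => ?_⟩
    haveI : UniversallyInjective ((Over.pullback (S.fromSpecResidueField s)).map u).left := by
      refine MorphismProperty.of_isPullback (P := @UniversallyInjective)
        (show IsPullback (pullback.fst G.hom (S.fromSpecResidueField s)) ((Over.pullback (S.fromSpecResidueField s)).map u).left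
          u.left (pullback.fst H.hom (S.fromSpecResidueField s)) from ?_) ‹_›
      refine IsPullback.of_bot (v₂₁ := pullback.snd H.hom _) (v₂₂ := H.hom) (h₃₁ := S.fromSpecResidueField s) ?_ ?_
        (IsPullback.of_hasPullback H.hom (S.fromSpecResidueField s))
      · rw [show ((Over.pullback (S.fromSpecResidueField s)).map u).left ≫ pullback.snd H.hom (S.fromSpecResidueField s) =
          pullback.snd G.hom (S.fromSpecResidueField s) from pullback.lift_snd _ _ _, Over.w u]
        exact IsPullback.of_hasPullback G.hom (S.fromSpecResidueField s)
      · exact (pullback.lift_fst _ _ _).symm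
    exact Groth.Agent.S3694.result _
  refine ⟨?_, fun W hW => ?_⟩
  · simp_rw [hiff]
    exact hopen
  haveI : Etale ((G.hom ⁻¹ᵁ W).ι ≫ u.left) := by
    have h : ∀ x : (G.hom ⁻¹ᵁ W : G.left.Opens), ∃ O : G.left.Opens, (G.hom ⁻¹ᵁ W).ι x ∈ O ∧ Etale (O.ι ≫ u.left) :=
      fun x => (Set.ext_iff.mp heq _).mpr ((hiff _).mp (hW x.2))
    choose O hxO hO using h
    refine IsZariskiLocalAtSource.of_iSup_eq_top (P := @Etale) (fun x => (G.hom ⁻¹ᵁ W).ι ⁻¹ᵁ O x)
      (top_unique fun x _ => TopologicalSpace.Opens.mem_iSup.2 ⟨x, hxO x⟩) fun x => ?_
    rw [← morphismRestrict_ι_assoc]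
    exact MorphismProperty.comp_mem _ _ _ inferInstance (hO x)
  haveI : UniversallyInjective ((G.hom ⁻¹ᵁ W).ι ≫ u.left) :=
    MorphismProperty.comp_mem _ _ _ inferInstance ‹UniversallyInjective u.left›
  exact Groth.Agent.S3694.result _

end Groth.Agent.S5317
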