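import Groth.Statements.S5321
import Mathlib
import Groth.Agent.UnramSecLib.Basic
import Groth.Agent.EtLocalLib.SchemeLocal
import Groth.Agent.PointBC.Basic
set_option backward.isDefEq.respectTransparency false
open CategoryTheory CategoryTheory.Limits
-- import your own Groth.Agent.* helpers here

set_option autoImplicit false
universe u
open CategoryTheory CategoryTheory.Limits MonoidalCategory CartesianMonoidalCategory MonObj GrpObj AlgebraicGeometry
open SGA3

namespace Groth.Agent.S5321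

/-- Consider a morphism π : X → S admitting a section ε, and assume the map of underlying spaces of π is
closed. Fix a point s of S, and suppose that on some open neighbourhood of ε(s) the morphism π is
locally of finite presentation, and that the fibre X_s → Spec κ(s) is an isomorphism. Under these
assumptions one can find an open subset U of S containing s such that π restricts to an isomorphism
π⁻¹(U) → U (consequently ε restricted to U is an isomorphism onto π⁻¹(U)). -/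
theorem result (X S : Scheme.{u}) (π : X ⟶ S) (ε : S ⟶ X) (hε : ε ≫ π = 𝟙 S)
    (hcl : IsClosedMap π.base) (s : S)
    (hfp : ∃ W : X.Opens, ε.base s ∈ W ∧ LocallyOfFinitePresentation (W.ι ≫ π))
    (hs : IsIso (π.fiberToSpecResidueField s)) :
    ∃ U : S.Opens, s ∈ U ∧ IsIso (π ∣_ U) := by
  classical
  obtain ⟨W, hεW, hW⟩ := hfp
  haveI := hW
  haveI := hs
  let g := W.ι ≫ π
  have hgw : g (⟨ε s, hεW⟩ : (W : Scheme.{u})) = s := by
    rw [Scheme.Hom.comp_apply]
    show π (ε s) = s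
    rw [← Scheme.Hom.comp_apply, hε]
    rfl
  -- the fibre of `π|W` over `s` is an open piece of the point
  let m : g.fiber s ⟶ π.fiber s := pullback.map g (S.fromSpecResidueField s) π (S.fromSpecResidueField s) W.ι (𝟙 _) (𝟙 S)
    (by simp [g]) (by simp)
  have hm : m ≫ π.fiberι s = g.fiberι s ≫ W.ι := pullback.lift_fst _ _ _
  have hm' : m ≫ π.fiberToSpecResidueField s = g.fiberToSpecResidueField s :=
    (pullback.lift_snd _ _ _).trans (Category.comp_id _)
  have hsq : IsPullback (g.fiberι s) m W.ι (π.fiberι s) := by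
    refine IsPullback.of_bot (v₂₁ := π.fiberToSpecResidueField s) (v₂₂ := π) (h₃₁ := S.fromSpecResidueField s)
      ?_ hm.symm (IsPullback.of_hasPullback _ _)
    rw [hm']
    exact IsPullback.of_hasPullback g (S.fromSpecResidueField s)
  haveI : IsOpenImmersion m := MorphismProperty.of_isPullback hsq inferInstance
  haveI : IsOpenImmersion (g.fiberToSpecResidueField s) := by rw [← hm']; infer_instance
  -- `π` is unramified near `ε s`
  let z : g.fiber s := hgw ▸ g.asFiber ⟨ε s, hεW⟩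
  have hz : g.fiberι s z = ⟨ε s, hεW⟩ := by
    have : ∀ (t : S) (ht : g ⟨ε s, hεW⟩ = t),
        g.fiberι t (ht ▸ g.asFiber ⟨ε s, hεW⟩ : g.fiber t) = ⟨ε s, hεW⟩ := by
      rintro t rfl
      exact g.fiberι_asFiber _
    exact this s hgw
  have H : (g.stalkMap ⟨ε s, hεW⟩).hom.FormallyUnramified := by
    rw [← hz, Groth.Agent.PointBC.formallyUnramified_iff_fibre]
    have hgen : ∀ {A B : Scheme.{u}} (f : A ⟶ B) [IsOpenImmersion f] (x : A), (f.stalkMap x).hom.FormallyUnramified :=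
      fun {A B} f _ x => by
        haveI : IsIso (f.stalkMap x) := inferInstance
        exact RingHom.FormallyUnramified.of_surjective (ConcreteCategory.bijective_of_isIso (f.stalkMap x)).2
    exact hgen (g.fiberToSpecResidueField s) z
  obtain ⟨W₁, hwW₁, hW₁⟩ := Groth.Agent.EtLocalLib.exists_formallyUnramified_nhd g ⟨ε s, hεW⟩ H
  haveI := hW₁
  let V₁ : X.Opens := W.ι ''ᵁ W₁
  have hεV₁ : ε s ∈ V₁ := ⟨⟨ε s, hεW⟩, hwW₁, rfl⟩
  let U₁ : S.Opens := ε ⁻¹ᵁ V₁
  have hrange : Set.range (U₁.ι ≫ ε) ⊆ Set.range (W₁.ι ≫ W.ι) := by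
    rintro _ ⟨t, rfl⟩
    obtain ⟨w, hw, hwt⟩ := t.2
    exact ⟨⟨w, hw⟩, hwt⟩
  let u := IsOpenImmersion.lift (W₁.ι ≫ W.ι) (U₁.ι ≫ ε) hrange
  have hu : u ≫ W₁.ι ≫ g = U₁.ι := by
    rw [show u ≫ W₁.ι ≫ g = (u ≫ W₁.ι ≫ W.ι) ≫ π by simp [g], IsOpenImmersion.lift_fac, Category.assoc, hε,
      Category.comp_id]
  haveI := Groth.Agent.UnramSecLib.isOpenImmersion_of_section (W₁.ι ≫ g) u hu
  haveI : IsOpenImmersion (U₁.ι ≫ ε) := by rw [← IsOpenImmersion.lift_fac (W₁.ι ≫ W.ι) (U₁.ι ≫ ε) hrange]; infer_instance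
  -- shrink
  let V : X.Opens := (U₁.ι ≫ ε).opensRange
  have hεV : ε s ∈ V := ⟨⟨s, hεV₁⟩, rfl⟩
  have hfib : ∀ x : X, π x = s → x = ε s := by
    intro x hx
    have h1 : x ∈ Set.range (π.fiberι s) := by rw [π.range_fiberι]; exact hx
    have h2 : ε s ∈ Set.range (π.fiberι s) := by
      rw [π.range_fiberι]
      show π (ε s) = s
      rw [← Scheme.Hom.comp_apply, hε]
      rfl
    obtain ⟨a, rfl⟩ := h1
    obtain ⟨b, hb⟩ := h2
    rw [← hb]
    exact congrArg (π.fiberι s) ((π.fiberToSpecResidueField s).isOpenEmbedding.injective (Subsingleton.elim _ _))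
  let U : S.Opens := ⟨(π '' (V : Set X)ᶜ)ᶜ ∩ U₁, (hcl _ V.2.isClosed_compl).isOpen_compl.inter U₁.2⟩
  have hsU : s ∈ U := ⟨fun ⟨x, hx, hxs⟩ => hx (hfib x hxs ▸ hεV), hεV₁⟩
  refine ⟨U, hsU, ?_⟩
  have hUle : U ≤ U₁ := fun t ht => ht.2
  have hεU : U ≤ ε ⁻¹ᵁ (π ⁻¹ᵁ U) := fun t ht => by
    show π (ε t) ∈ U
    rw [← Scheme.Hom.comp_apply, hε]
    exact ht
  let e : (U : Scheme.{u}) ⟶ ((π ⁻¹ᵁ U : X.Opens) : Scheme.{u}) := ε.resLE (π ⁻¹ᵁ U) U hεU
  have he : e ≫ (π ⁻¹ᵁ U).ι = U.ι ≫ ε := Scheme.Hom.resLE_comp_ι _ _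
  haveI : IsOpenImmersion (U.ι ≫ ε) := by
    rw [← Scheme.homOfLE_ι (X := S) hUle, Category.assoc]
    infer_instance
  haveI : IsOpenImmersion (e ≫ (π ⁻¹ᵁ U).ι) := by rw [he]; infer_instance
  haveI : IsOpenImmersion e := IsOpenImmersion.of_comp e (π ⁻¹ᵁ U).ι
  haveI : Surjective e := by
    refine ⟨fun x => ?_⟩
    have hxV : x.1 ∈ V := by
      by_contra hxV
      exact x.2.1 ⟨x.1, hxV, rfl⟩
    obtain ⟨t, ht⟩ := hxV
    have htx : U₁.ι t = π x.1 := by
      rw [← ht, ← Scheme.Hom.comp_apply, Category.assoc, hε, Category.comp_id]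
    have htU : U₁.ι t ∈ U := htx ▸ x.2
    refine ⟨⟨U₁.ι t, htU⟩, Subtype.ext ?_⟩
    show ((π ⁻¹ᵁ U).ι (e ⟨U₁.ι t, htU⟩)) = x.1
    rw [← Scheme.Hom.comp_apply, he]
    exact ht
  haveI : Epi e.base := (TopCat.epi_iff_surjective _).2 e.surjective
  haveI : IsIso e := IsOpenImmersion.isIso e
  have h1 : e ≫ (π ∣_ U) = 𝟙 _ := by
    rw [← cancel_mono U.ι, Category.assoc, morphismRestrict_ι, reassoc_of% he, hε, Category.comp_id, Category.id_comp]
  exact ⟨⟨e, by rw [← cancel_epi e, reassoc_of% h1, Category.comp_id], h1⟩⟩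

end Groth.Agent.S5321
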