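import Groth.Statements.S5323
import Groth.Agent.Neutral.Open
-- import your own Groth.Agent.* helpers here

set_option autoImplicit false
universe u
open CategoryTheory CategoryTheory.Limits MonoidalCategory CartesianMonoidalCategory MonObj GrpObj AlgebraicGeometry
open SGA3

namespace Groth.Agent.S5323

/-- Let S be a quasi-compact quasi-separated scheme and G an S-group scheme whose fibres G_s are locally
of finite type over κ(s). Then there is a quasi-compact open subset of G containing the union of the
neutral components of the fibres G_s. -/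
theorem result (S : Scheme.{u}) [CompactSpace S] [QuasiSeparatedSpace S]
    (G : Over S) [GrpObj G] (hG : ∀ s : S, LocallyOfFiniteType (G.hom.fiberToSpecResidueField s)) :
    ∃ U : G.left.Opens, IsCompact (U : Set G.left) ∧ SGA3x.neutralSet G ⊆ U := by
  obtain ⟨Q, hQc, -, heQ⟩ := Neutral.exists_compact_nhd G ⊤ (V := ⊤) isCompact_univ (fun _ _ => trivial)
  haveI : QuasiSeparatedSpace ((⊤ : S.Opens) : Scheme) := S.topIso.hom.isOpenEmbedding.quasiSeparatedSpace
  have hc := (Neutral.isCompact_prodSet G Q hQc ⊤ (fun _ _ => trivial)).image μ[G].left.continuous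
  choose A hA hxA _h using fun x : G.left => exists_isAffineOpen_mem_and_subset (U := ⊤) (x := x) trivial
  obtain ⟨σ, hσ⟩ := hc.elim_finite_subcover (fun x => (A x : Set G.left)) (fun x => (A x).2)
    fun x _ => Set.mem_iUnion.2 ⟨x, hxA x⟩
  refine ⟨⨆ x ∈ σ, A x, ?_, ?_⟩
  · simp only [TopologicalSpace.Opens.coe_iSup]
    exact σ.isCompact_biUnion fun x _ => (hA x).isCompact
  · simp only [TopologicalSpace.Opens.coe_iSup]
    exact (Neutral.subset_image_mul (Q : Set G.left) Q.2 (Set.range_subset_iff.2 fun t => heQ t trivial)).trans hσ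

end Groth.Agent.S5323
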