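import Groth.Statements.S5324
import Groth.Agent.Neutral.Open


set_option autoImplicit false
universe u
open CategoryTheory CategoryTheory.Limits MonoidalCategory CartesianMonoidalCategory MonObj GrpObj AlgebraicGeometry
open SGA3

namespace Groth.Agent.S5324

open CategoryTheory CategoryTheory.Limits AlgebraicGeometry

open Groth.Agent MonoidalCategory CartesianMonoidalCategory MonObj GrpObj
set_option backward.isDefEq.respectTransparency false

/-- Let G be an S-group scheme whose fibres G_s are locally of finite type over κ(s) and connected. Then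
G is quasi-compact over S. -/
theorem result (S : Scheme.{u}) (G : Over S) [GrpObj G]
    (hG : ∀ s : S, LocallyOfFiniteType (G.hom.fiberToSpecResidueField s))
    (hconn : ∀ s : S, _root_.IsConnected (G.hom.base ⁻¹' {s})) : QuasiCompact G.hom := by
  refine quasiCompact_iff_forall_isAffineOpen.mpr fun V hV => ?_
  haveI : IsAffine (V : Scheme) := hV
  have hN : ∀ x : G.left, x ∈ SGA3x.neutralSet G := fun x => by
    rw [Neutral.neutralSet_eq]
    show x ∈ connectedComponentIn (G.hom.base ⁻¹' {G.hom.base x}) (η[G].left (G.hom.base x))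
    exact (hconn (G.hom.base x)).isPreconnected.subset_connectedComponentIn
      (Neutral.hom_unit G (G.hom.base x)) subset_rfl rfl
  obtain ⟨Q, hQc, hQV, heQ⟩ := Neutral.exists_compact_nhd G ⊤ (V := V) hV.isCompact (fun _ _ => trivial)
  have hQV' : Q ≤ G.hom ⁻¹ᵁ V := hQV.trans inf_le_right
  have h := (Neutral.isCompact_prodSet G Q hQc V hQV').image μ[G].left.continuous
  convert h using 1
  refine Set.Subset.antisymm (fun x hx => Neutral.mem_image_of_isOpen x (hN x) _ Q.2 (heQ _ hx)) ?_
  rintro _ ⟨w, hw, rfl⟩
  show G.hom (μ[G].left w) ∈ V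
  rw [Neutral.hom_mul]
  exact hQV' hw.1


end Groth.Agent.S5324
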