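import Groth.Statements.S5325
import Groth.Agent.Neutral.Open
import Groth.Agent.S1326
-- import your own Groth.Agent.* helpers here

set_option autoImplicit false
set_option backward.isDefEq.respectTransparency false
universe u
open CategoryTheory CategoryTheory.Limits MonoidalCategory CartesianMonoidalCategory MonObj GrpObj AlgebraicGeometry
open SGA3

namespace Groth.Agent.S5325

/-- Let G be an S-group scheme locally of finite presentation over S, and let G⁰ denote the union of the
neutral components of the fibres G_s. Then (i) G⁰ is ind-constructible in G; (ii) if G is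
quasi-separated over S and S is quasi-compact and quasi-separated, G⁰ is constructible in G; (iii)
if G is quasi-separated over S, G⁰ is locally constructible in G. -/
theorem result (S : Scheme.{u}) (G : Over S) [GrpObj G] [LocallyOfFinitePresentation G.hom] :
    ProCons.IsIndConstructible (SGA3x.neutralSet G) ∧
    (QuasiSeparated G.hom → CompactSpace S → QuasiSeparatedSpace S → Topology.IsConstructible (SGA3x.neutralSet G)) ∧
    (QuasiSeparated G.hom → Topology.IsLocallyConstructible (SGA3x.neutralSet G)) := by
  have key : ∀ (T : Scheme.{u}) (H : Over T) [GrpObj H] [LocallyOfFinitePresentation H.hom], QuasiSeparated H.hom →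
      CompactSpace T → QuasiSeparatedSpace T → Topology.IsConstructible (SGA3x.neutralSet H) := by
    intro T H _ _ hqs _ _
    obtain ⟨Q₀, hQ₀c, -, heQ₀⟩ := Neutral.exists_compact_nhd H ⊤ (V := ⊤) isCompact_univ (fun _ _ => trivial)
    haveI : QuasiSeparatedSpace ((⊤ : T.Opens) : Scheme) := T.topIso.hom.isOpenEmbedding.quasiSeparatedSpace
    have hc := (Neutral.isCompact_prodSet H Q₀ hQ₀c ⊤ (fun _ _ => trivial)).image μ[H].left.continuous
    choose A hA hxA _h using fun x : H.left => exists_isAffineOpen_mem_and_subset (U := ⊤) (x := x) trivial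
    obtain ⟨σ, hσ⟩ := hc.elim_finite_subcover (fun x => (A x : Set H.left)) (fun x => (A x).2)
      fun x _ => Set.mem_iUnion.2 ⟨x, hxA x⟩
    let Q : H.left.Opens := ⨆ x ∈ σ, A x
    have hQc : IsCompact (Q : Set H.left) := by
      simp only [Q, TopologicalSpace.Opens.coe_iSup]
      exact σ.isCompact_biUnion fun x _ => (hA x).isCompact
    have hQ : SGA3x.neutralSet H ⊆ Q := by
      simp only [Q, TopologicalSpace.Opens.coe_iSup]
      exact (Neutral.subset_image_mul (Q₀ : Set H.left) Q₀.2 (Set.range_subset_iff.2 fun t => heQ₀ t trivial)).trans hσ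
    haveI : CompactSpace (Q : Scheme) := isCompact_iff_compactSpace.mp hQc
    haveI : QuasiSeparatedSpace H.left := quasiSeparatedSpace_of_quasiSeparated H.hom
    haveI : QuasiSeparatedSpace (Q : Scheme) := Q.ι.isOpenEmbedding.quasiSeparatedSpace
    let f : (Q : Scheme) ⟶ T := Q.ι ≫ H.hom
    haveI : QuasiCompact f := quasiCompact_of_compactSpace f
    haveI : QuasiSeparated f := inferInstance
    have heQ : Set.range (η[H].left : T ⟶ H.left) ⊆ Set.range Q.ι := by
      rw [Scheme.Opens.range_ι]
      rintro _ ⟨t, rfl⟩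
      exact hQ (Neutral.unit_mem t)
    let s : T ⟶ (Q : Scheme) := IsOpenImmersion.lift Q.ι (η[H].left : T ⟶ H.left) heQ
    have hs : s ≫ f = 𝟙 T := by
      rw [show s ≫ f = (s ≫ Q.ι) ≫ H.hom from (Category.assoc _ _ _).symm, IsOpenImmersion.lift_fac]
      exact Over.w η[H]
    have hse : ∀ t, Q.ι (s t) = η[H].left t := fun t =>
      (congrArg (fun m => m t) (IsOpenImmersion.lift_fac Q.ι (η[H].left : T ⟶ H.left) heQ) :)
    have heq : MoreMor.sectionComponents f s = Q.ι ⁻¹' SGA3x.neutralSet H := by
      rw [Neutral.neutralSet_eq]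
      ext y
      show y ∈ connectedComponentIn (f ⁻¹' {f y}) (s (f y)) ↔
        Q.ι y ∈ connectedComponentIn (H.hom ⁻¹' {f y}) (η[H].left (f y))
      rw [← hse]
      have hin : s (f y) ∈ f ⁻¹' {f y} := (congrArg (fun m : T ⟶ T => m (f y)) hs :)
      constructor
      · intro hy
        refine connectedComponentIn_mono _ ?_ (Q.ι.continuous.image_connectedComponentIn_subset hin ⟨y, hy, rfl⟩)
        rintro _ ⟨b, hb, rfl⟩
        exact hb
      · intro hy
        let C := connectedComponentIn (H.hom ⁻¹' {f y}) (Q.ι (s (f y)))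
        have hCr : C ⊆ Set.range Q.ι := fun z hz => by
          rw [Scheme.Opens.range_ι]
          refine hQ ?_
          have hzt : H.hom z = f y := (connectedComponentIn_subset _ _ hz : z ∈ H.hom ⁻¹' {_})
          rw [Neutral.neutralSet_eq]
          show z ∈ connectedComponentIn (H.hom ⁻¹' {H.hom z}) (η[H].left (H.hom z))
          rw [hzt, ← hse]
          exact hz
        have hC : _root_.IsPreconnected (Q.ι ⁻¹' C) :=
          (isPreconnected_connectedComponentIn : _root_.IsPreconnected C).preimage_of_isOpenMap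
            Q.ι.isOpenEmbedding.injective Q.ι.isOpenEmbedding.isOpenMap hCr
        refine hC.subset_connectedComponentIn ?_ ?_ hy
        · exact mem_connectedComponentIn (show H.hom (Q.ι (s (f y))) = f y by rw [hse]; exact Neutral.hom_unit H _)
        · intro b hb
          exact (connectedComponentIn_subset _ _ hb : Q.ι b ∈ H.hom ⁻¹' {_})
    have h1 := S1326.result f s hs
    rw [heq] at h1
    have hretro : IsRetrocompact (Set.range Q.ι) := by
      rw [Scheme.Opens.range_ι]
      exact fun U hUc hUo => QuasiSeparatedSpace.inter_isCompact _ _ Q.2 hQc hUo hUc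
    have h2 := h1.isConstructible.image_of_isOpenEmbedding Q.ι.isOpenEmbedding hretro
    rwa [Set.image_preimage_eq_inter_range, Scheme.Opens.range_ι, Set.inter_eq_left.2 hQ] at h2
  refine ⟨Neutral.isIndConstructible_neutralSet G, key S G, fun hqs x => ?_⟩
  obtain ⟨V, hV, hxV, -⟩ := exists_isAffineOpen_mem_and_subset (U := ⊤) (x := G.hom x) trivial
  haveI : IsAffine (V : Scheme) := hV
  haveI : LocallyOfFinitePresentation (Red.bc V.ι G).hom :=
    MorphismProperty.pullback_snd (P := @LocallyOfFinitePresentation) _ _ ‹_›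
  have h := key (V : Scheme) (Red.bc V.ι G) (MorphismProperty.pullback_snd (P := @QuasiSeparated) _ _ hqs)
    inferInstance inferInstance
  rw [Neutral.neutralSet_bc] at h
  let e := pullback.fst G.hom V.ι
  have hr : Set.range e = G.hom ⁻¹' (V : Set S) := by
    rw [Scheme.Pullback.range_fst, Scheme.Opens.range_ι]
  refine ⟨Set.range e, e.isOpenEmbedding.isOpen_range.mem_nhds (hr ▸ hxV), e.isOpenEmbedding.isOpen_range, ?_⟩
  let φ := e.isOpenEmbedding.isEmbedding.toHomeomorph
  have heq : (Subtype.val ⁻¹' SGA3x.neutralSet G : Set (Set.range e)) =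
      φ.symm ⁻¹' (e ⁻¹' SGA3x.neutralSet G) := by
    ext ⟨z, w, rfl⟩
    show e w ∈ SGA3x.neutralSet G ↔ e (φ.symm ⟨e w, ⟨w, rfl⟩⟩) ∈ SGA3x.neutralSet G
    rw [show φ.symm ⟨e w, ⟨w, rfl⟩⟩ = w from φ.symm_apply_apply w]
  rw [heq]
  exact h.preimage_of_isOpenEmbedding φ.symm.isOpenEmbedding

end Groth.Agent.S5325
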