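import Groth.Statements.S5326
import Groth.Agent.Neutral.Open
import Groth.Agent.S4787
import Groth.Agent.S1489
import Groth.Agent.S3694
import Groth.Agent.AffLim.Presentation
-- import your own Groth.Agent.* helpers here

set_option autoImplicit false
set_option backward.isDefEq.respectTransparency false
universe u
open CategoryTheory CategoryTheory.Limits MonoidalCategory CartesianMonoidalCategory MonObj GrpObj AlgebraicGeometry
open SGA3

namespace Groth.Agent.S5326

/-- Let G be an S-group scheme locally of finite presentation over S, and suppose the neutral component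
subfunctor of G is representable: there is a monomorphism i : G⁰ → G of S-schemes such that a point
g : T → G factors through i exactly when the image of the underlying map of g lies in the union of
the neutral components of the fibres G_s. Then i is an open immersion and G⁰ is quasi-compact over
S. -/
theorem result (S : Scheme.{u}) (G : Over S) [GrpObj G]
    [LocallyOfFinitePresentation G.hom] (G0 : Over S) (i : G0 ⟶ G) [Mono i]
    (hrep : ∀ (T : Over S) (g : T ⟶ G), (∃ z : T ⟶ G0, z ≫ i = g) ↔ Set.range g.left.base ⊆ SGA3x.neutralSet G) :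
    IsOpenImmersion i.left ∧ QuasiCompact G0.hom := by
  haveI : Mono i.left := inferInstance
  have hsub : Set.range i.left ⊆ SGA3x.neutralSet G := (hrep G0 i).1 ⟨𝟙 _, Category.id_comp _⟩
  have hr : Set.range i.left = SGA3x.neutralSet G := by
    refine Set.Subset.antisymm hsub fun x hx => ?_
    obtain ⟨z, hz⟩ := (hrep (Over.mk (G.left.fromSpecResidueField x ≫ G.hom))
      (Over.homMk (G.left.fromSpecResidueField x))).2 (by
        rintro _ ⟨p, rfl⟩
        show G.left.fromSpecResidueField x p ∈ SGA3x.neutralSet G
        rwa [Scheme.fromSpecResidueField_apply])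
    refine ⟨z.left (IsLocalRing.closedPoint (G.left.residueField x)), ?_⟩
    show (z ≫ i).left _ = x
    rw [hz]
    exact Scheme.fromSpecResidueField_apply x _
  have hfe : MoreMor.IsFormallyEtaleHom i.left := by
    intro A _ I hI a b hab
    obtain ⟨z, hz⟩ := (hrep (Over.mk (b ≫ G.hom)) (Over.homMk b)).2 (by
      rintro _ ⟨p, rfl⟩
      have hp : ∀ x ∈ I, x ∈ p.asIdeal := fun x hx => p.2.mem_of_pow_mem 2 (by
        have : x ^ 2 ∈ I ^ 2 := Ideal.pow_mem_pow hx 2
        rw [hI, Ideal.mem_bot] at this
        rw [this]; exact p.asIdeal.zero_mem)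
      obtain ⟨q, hq⟩ : p ∈ Set.range (PrimeSpectrum.comap (Ideal.Quotient.mk I)) := by
        rw [_root_.range_comap_of_surjective _ _ Ideal.Quotient.mk_surjective, Ideal.mk_ker]
        exact hp
      show b p ∈ SGA3x.neutralSet G
      rw [← hq]
      show (Spec.map (CommRingCat.ofHom (Ideal.Quotient.mk I)) ≫ b) q ∈ SGA3x.neutralSet G
      rw [hab]
      exact hsub ⟨a q, rfl⟩)
    have hzl : z.left ≫ i.left = b := congrArg CommaMorphism.left hz
    refine ⟨z.left, ⟨?_, hzl⟩, fun l hl => ?_⟩
    · rw [← cancel_mono i.left, Category.assoc, hzl, hab]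
    · rw [← cancel_mono i.left, hl.2, hzl]
  have hlfp : LocallyOfFinitePresentation i.left := by
    refine AffLim.locallyOfFinitePresentation_of_factor i.left fun U hU J _ _ _ F α c hc g hg => ?_
    let D : Jᵒᵖ ⥤ Scheme.{u} := F.op ⋙ Scheme.Spec
    let c' : Cone D := Scheme.Spec.mapCone c.op
    have hc' : IsLimit c' := isLimitOfPreserves Scheme.Spec hc.op
    haveI : ∀ (a b : Jᵒᵖ) (φ : a ⟶ b), IsAffineHom (D.map φ) := fun a b φ =>
      inferInstanceAs (IsAffineHom (Spec.map _))
    obtain ⟨j₀⟩ := ‹Nonempty J›
    haveI : CompactSpace (D.obj (Opposite.op j₀)) := inferInstanceAs (CompactSpace (Spec _))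
    let u : ∀ k : Jᵒᵖ, D.obj k ⟶ G.left := fun k => Spec.map (α.app k.unop) ≫ hU.fromSpec
    obtain ⟨k, -, hk⟩ := (S4787.result D c' hc' (Opposite.op j₀) (fun _ => Set.univ)
      (fun k => (u k).base ⁻¹' SGA3x.neutralSet G)
      (fun k => ProConsLib.isProConstructible_iff_compl.2 (ProConsLib.isIndConstructible_iff _ |>.2 fun U hU => by
        rw [Set.compl_univ, Set.preimage_empty]; exact @isOpen_empty _ (constructibleTopology _)))
      (fun k => ProConsLib.isIndConstructible_preimage _ (Neutral.isIndConstructible_neutralSet G))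
      (fun a b φ => by simp)
      (fun a b φ x hx => by
        show (u a) x ∈ SGA3x.neutralSet G
        have h : D.map φ ≫ u b = u a := by
          show Spec.map (F.map φ.unop) ≫ Spec.map (α.app b.unop) ≫ hU.fromSpec = _
          rw [← Spec.map_comp_assoc, ← α.naturality φ.unop]
          simp [u]
        rw [← h]; exact hx)).1 (by
      intro x _
      refine Set.mem_iUnion.2 ⟨Opposite.op j₀, ?_⟩
      show (c'.π.app (Opposite.op j₀) ≫ u (Opposite.op j₀)) x ∈ SGA3x.neutralSet G
      rw [show c'.π.app (Opposite.op j₀) ≫ u (Opposite.op j₀) = g ≫ i.left from by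
        rw [hg j₀, Spec.map_comp, Category.assoc]; rfl]
      exact hsub ⟨g x, rfl⟩)
    obtain ⟨z, hz⟩ := (hrep (Over.mk (u k ≫ G.hom)) (Over.homMk (u k))).2 (by
      rintro _ ⟨x, rfl⟩
      exact hk k (𝟙 k) (Set.mem_univ x))
    have hzl : z.left ≫ i.left = u k := congrArg CommaMorphism.left hz
    refine ⟨k.unop, z.left, hzl, ?_⟩
    rw [← cancel_mono i.left, Category.assoc, hzl, hg k.unop, Spec.map_comp, Category.assoc]
  haveI : Etale i.left := (S1489.result i.left).2 ⟨hlfp, hfe⟩
  haveI : UniversallyInjective i.left := inferInstance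
  haveI hoi : IsOpenImmersion i.left := S3694.result i.left
  exact ⟨hoi, Neutral.quasiCompact_of_range G i hr i.left.opensRange hsub fun t =>
    (hr.ge (Neutral.unit_mem t))⟩

end Groth.Agent.S5326
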