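import Groth.Statements.S5327
import Groth.Agent.Neutral.Open
-- import your own Groth.Agent.* helpers here

set_option autoImplicit false
universe u
open CategoryTheory CategoryTheory.Limits MonoidalCategory CartesianMonoidalCategory MonObj GrpObj AlgebraicGeometry
open SGA3

namespace Groth.Agent.S5327

/-- Let G be an S-group scheme whose fibres are locally of finite type over κ(s), and let i : H → G be a
homomorphism of S-group schemes which is an open immersion (an open subgroup scheme). Then the union
G⁰ of the neutral components of the fibres of G is contained in the image of i, and G⁰ is the image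
under i of the union H⁰ of the neutral components of the fibres of H. -/
theorem result (S : Scheme.{u}) (G H : Over S) [GrpObj G] [GrpObj H]
    (hG : ∀ s : S, LocallyOfFiniteType (G.hom.fiberToSpecResidueField s)) (i : H ⟶ G) [IsMonHom i]
    [IsOpenImmersion i.left] :
    SGA3x.neutralSet G ⊆ Set.range i.left.base ∧ i.left.base '' SGA3x.neutralSet H = SGA3x.neutralSet G := by
  have hop := i.left.isOpenEmbedding.isOpen_range
  have he : ∀ t : S, i.left (η[H].left t) = η[G].left t := fun t =>
    congrArg (fun m : 𝟙_ (Over S) ⟶ G => m.left t) (IsMonHom.one_hom i)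
  have hsub : SGA3x.neutralSet G ⊆ Set.range i.left := by
    refine (Neutral.subset_image_mul _ hop ?_).trans ?_
    · rintro _ ⟨t, rfl⟩
      exact ⟨_, he t⟩
    · rintro _ ⟨w, ⟨h₁, h₂⟩, rfl⟩
      have hw : w ∈ Set.range (pullback.map H.hom H.hom G.hom G.hom i.left i.left (𝟙 S)
          (by simp) (by simp)) := by
        rw [Scheme.Pullback.range_map]
        exact ⟨h₁, h₂⟩
      obtain ⟨v, hv⟩ := hw
      refine ⟨μ[H].left v, ?_⟩
      have h := congrArg (fun m : H ⊗ H ⟶ G => m.left v) (IsMonHom.mul_hom i)
      refine h.trans ?_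
      show μ[G].left ((i ⊗ₘ i).left v) = μ[G].left w
      rw [← hv]
      rfl
  refine ⟨hsub, ?_⟩
  have hi : ∀ y, G.hom (i.left y) = H.hom y := fun y => (congrArg (fun m => m y) (Over.w i) :)
  rw [Neutral.neutralSet_eq, Neutral.neutralSet_eq]
  rw [Neutral.neutralSet_eq] at hsub
  apply Set.Subset.antisymm
  · rintro _ ⟨y, hy, rfl⟩
    show i.left y ∈ connectedComponentIn (G.hom ⁻¹' {G.hom (i.left y)}) (η[G].left (G.hom (i.left y)))
    have hm : η[H].left (H.hom y) ∈ H.hom ⁻¹' {H.hom y} := Neutral.hom_unit H (H.hom y)
    have := i.left.continuous.image_connectedComponentIn_subset hm ⟨y, hy, rfl⟩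
    rw [he] at this
    rw [hi]
    refine connectedComponentIn_mono _ ?_ this
    rintro _ ⟨b, hb, rfl⟩
    exact (hi b).trans hb
  · intro x hx
    obtain ⟨y, rfl⟩ := hsub hx
    refine ⟨y, ?_, rfl⟩
    let C := connectedComponentIn (G.hom ⁻¹' {G.hom (i.left y)}) (η[G].left (G.hom (i.left y)))
    have hCr : C ⊆ Set.range i.left := fun z hz => by
      refine hsub ?_
      have hzt : G.hom z = G.hom (i.left y) := (connectedComponentIn_subset _ _ hz : z ∈ G.hom ⁻¹' {_})
      show z ∈ connectedComponentIn (G.hom ⁻¹' {G.hom z}) (η[G].left (G.hom z))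
      rw [hzt]
      exact hz
    have hC : _root_.IsPreconnected (i.left ⁻¹' C) :=
      (isPreconnected_connectedComponentIn : _root_.IsPreconnected C).preimage_of_isOpenMap
        i.left.isOpenEmbedding.injective i.left.isOpenEmbedding.isOpenMap hCr
    show y ∈ connectedComponentIn (H.hom ⁻¹' {H.hom y}) (η[H].left (H.hom y))
    refine hC.subset_connectedComponentIn ?_ ?_ hx
    · show i.left _ ∈ C
      rw [he, ← hi]
      exact mem_connectedComponentIn (Neutral.hom_unit G _)
    · intro b hb
      show H.hom b = H.hom y
      rw [← hi, ← hi]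
      exact (connectedComponentIn_subset _ _ hb : i.left b ∈ G.hom ⁻¹' {_})

end Groth.Agent.S5327
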