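import Groth.Statements.S5329
import Groth.Agent.S5341
import Groth.Agent.S9355
import Groth.Agent.S0402
import Groth.Agent.CMFlatLib.Groupoid
import Groth.Agent.ASp.FibreDimSp
import Groth.Prelude.Def_Red
import Mathlib

set_option autoImplicit false
universe u
open CategoryTheory CategoryTheory.Limits MonoidalCategory CartesianMonoidalCategory MonObj GrpObj AlgebraicGeometry
open SGA3

set_option backward.isDefEq.respectTransparency false
set_option backward.isDefEq.respectTransparency.types false
set_option maxHeartbeats 800000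

namespace Groth.Agent.S5329

/-- The dimension of the fibre of a group scheme is the local fibre dimension at the unit. -/
theorem dim_fibre_eq (S : Scheme.{u}) (G : Over S) [GrpObj G] [LocallyOfFiniteType G.hom] (s : S) :
    topologicalKrullDim ↥(G.hom.base ⁻¹' {s}) = FlatMor.fibreDimAt G.hom (η[G].left s) := by
  have hs : G.hom (η[G].left s) = s := congrArg (fun m : S ⟶ S => m s) (Over.w η[G])
  have key : ∀ (y : S) (p : G.hom.fiber y), FlatMor.localDim (G.hom.fiber y) p =
      topologicalKrullDim ↥(G.hom.base ⁻¹' {y}) := fun y p => by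
    haveI : LocallyOfFiniteType (Red.bc (S.fromSpecResidueField y) G).hom :=
      inferInstanceAs (LocallyOfFiniteType (CategoryTheory.Limits.pullback.snd G.hom _))
    rw [← IsHomeomorph.topologicalKrullDim_eq _ (G.hom.fiberHomeo y).isHomeomorph]
    exact (S5341.result _ (Red.bc (S.fromSpecResidueField y) G)).2 p
  show _ = FlatMor.localDim (G.hom.fiber (G.hom (η[G].left s))) (G.hom.asFiber (η[G].left s))
  rw [key, hs]

/-- Let G be an S-group scheme locally of finite type over S. Then (i) s ↦ dim G_s is upper
semicontinuous on S; (ii) if G is locally of finite presentation over S, this function is locally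
constructible: every point of S has an open neighbourhood V on which it takes finitely many values
and on which each of its level sets is constructible. (The published statement is for an S-scheme
locally of finite type with a section ε such that dim G_s = dim_{ε(s)} G_s for all s; this row takes
the case of a group scheme, where that condition holds.) -/
theorem result (S : Scheme.{u}) (G : Over S) [GrpObj G] [LocallyOfFiniteType G.hom] :
    UpperSemicontinuous (fun s : S => topologicalKrullDim ↥(G.hom.base ⁻¹' {s})) ∧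
    (LocallyOfFinitePresentation G.hom → ∀ s : S, ∃ V : S.Opens, s ∈ V ∧
      ((fun t : S => topologicalKrullDim ↥(G.hom.base ⁻¹' {t})) '' (V : Set S)).Finite ∧
      ∀ d : WithBot ℕ∞, Topology.IsConstructible {t : V | topologicalKrullDim ↥(G.hom.base ⁻¹' {(t : S)}) = d}) := by
  simp only [dim_fibre_eq S G]
  let d : S → WithBot ℕ∞ := fun s => FlatMor.fibreDimAt G.hom (η[G].left s)
  have hnat : ∀ s, ∃ n : ℕ, d s = (n : WithBot ℕ∞) := fun s => CMFlatLib.exists_nat_fibreDimAt G.hom _
  refine ⟨fun s y hy => ?_, fun h s₀ => ?_⟩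
  · obtain ⟨n, hn⟩ := hnat s
    have ho : IsOpen {t : S | d t ≤ (n : WithBot ℕ∞)} := (S0402.result G.hom n).preimage η[G].left.continuous
    filter_upwards [ho.mem_nhds (show d s ≤ _ from hn.le)] with t ht
    exact lt_of_le_of_lt (le_trans ht hn.ge) hy
  · haveI := h
    obtain ⟨W, hW, hxW, -⟩ := exists_isAffineOpen_mem_and_subset (x := η[G].left s₀) (U := (⊤ : G.left.Opens)) trivial
    obtain ⟨V, hV, hsV, hVW⟩ := exists_isAffineOpen_mem_and_subset (x := s₀) (U := η[G].left ⁻¹ᵁ W) hxW
    haveI : IsAffine (W : Scheme.{u}) := hW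
    haveI : IsAffine (V : Scheme.{u}) := hV
    let m : (V : Scheme.{u}) ⟶ (W : Scheme.{u}) := η[G].left.resLE W V hVW
    have hm : ∀ t : (V : Scheme.{u}), W.ι (m t) = η[G].left (V.ι t) := fun t => by
      rw [← Scheme.Hom.comp_apply, Scheme.Hom.resLE_comp_ι, Scheme.Hom.comp_apply]
      rfl
    haveI : LocallyOfFiniteType (W.ι ≫ G.hom) := inferInstance
    haveI : CompactSpace ↥(W : Scheme.{u}) := inferInstance
    have hcov : (Set.univ : Set ↥(W : Scheme.{u})) ⊆
        ⋃ n : ℕ, W.ι ⁻¹' {x | FlatMor.fibreDimAt G.hom x ≤ (n : WithBot ℕ∞)} := fun x _ => by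
      obtain ⟨n, hn⟩ := CMFlatLib.exists_nat_fibreDimAt G.hom (W.ι x)
      exact Set.mem_iUnion.2 ⟨n, hn.le⟩
    obtain ⟨F, hF⟩ := isCompact_univ.elim_finite_subcover _
      (fun n => (S0402.result G.hom n).preimage W.ι.continuous) hcov
    have hbd : ∀ t ∈ V, d t ≤ ((F.sup id : ℕ) : WithBot ℕ∞) := fun t ht => by
      obtain ⟨n, hn, hu⟩ := Set.mem_iUnion₂.1 (hF (Set.mem_univ (m ⟨t, ht⟩)))
      have hu' : FlatMor.fibreDimAt G.hom (W.ι (m ⟨t, ht⟩)) ≤ (n : WithBot ℕ∞) := hu
      rw [hm] at hu'
      exact le_trans hu' (Nat.cast_le.2 (Finset.le_sup (f := id) hn))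
    have hle : ∀ n : ℕ, Topology.IsConstructible {t : V | d (t : S) ≤ (n : WithBot ℕ∞)} := fun n => by
      let U : Set ↥(W : Scheme.{u}) := W.ι ⁻¹' {x | FlatMor.fibreDimAt G.hom x ≤ (n : WithBot ℕ∞)}
      have hUo : IsOpen U := (S0402.result G.hom n).preimage W.ι.continuous
      have hUc : IsCompact U := by
        rw [W.ι.isOpenEmbedding.isInducing.isCompact_iff, Set.image_preimage_eq_inter_range,
          Scheme.Opens.range_ι]
        exact S9355.result G.hom n hW.isCompact W.2
      have e : {t : V | d (t : S) ≤ (n : WithBot ℕ∞)} = m ⁻¹' U := Set.ext fun t => by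
        show _ ↔ FlatMor.fibreDimAt G.hom (W.ι (m t)) ≤ _
        rw [hm]
        rfl
      rw [e]
      exact (m.isCompact_preimage (U := ⟨U, hUo⟩) hUc).isConstructible (hUo.preimage m.continuous)
    refine ⟨V, hsV, ?_, fun c => ?_⟩
    · refine ((Set.finite_Iic (F.sup id)).image (fun n : ℕ => (n : WithBot ℕ∞))).subset ?_
      rintro _ ⟨t, ht, rfl⟩
      obtain ⟨n, hn⟩ := hnat t
      have := hbd t ht
      rw [hn, Nat.cast_le] at this
      exact ⟨n, this, hn.symm⟩
    · by_cases hc : ∃ n : ℕ, c = (n : WithBot ℕ∞)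
      · obtain ⟨n, rfl⟩ := hc
        cases n with
        | zero =>
          convert hle 0 using 1
          ext t
          obtain ⟨k, hk⟩ := hnat t
          show d (t : S) = _ ↔ d (t : S) ≤ _
          rw [hk, Nat.cast_inj, Nat.cast_le, Nat.le_zero]
        | succ n =>
          convert (hle (n + 1)).sdiff (hle n) using 1
          ext t
          obtain ⟨k, hk⟩ := hnat t
          show d (t : S) = _ ↔ d (t : S) ≤ _ ∧ ¬ d (t : S) ≤ _
          rw [hk, Nat.cast_inj, Nat.cast_le, Nat.cast_le]
          omega
      · convert Topology.IsConstructible.empty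
        exact Set.eq_empty_of_forall_notMem fun t ht => hc ⟨(hnat t).choose, ht.symm.trans (hnat t).choose_spec⟩

end Groth.Agent.S5329
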