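import Groth.Statements.S5331
import Groth.Agent.GrpSchLib.Component
import Groth.Prelude.Def_Red

set_option autoImplicit false
universe u
open CategoryTheory CategoryTheory.Limits MonoidalCategory CartesianMonoidalCategory MonObj GrpObj AlgebraicGeometry
open SGA3

namespace Groth.Agent.S5331

/-- Let S be a scheme whose underlying topological space is discrete. Then every S-group scheme is
separated over S. -/
theorem result (S : Scheme.{u}) [DiscreteTopology S] (G : Over S) [GrpObj G] :
    IsSeparated G.hom := by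
  rw [isSeparated_iff]
  haveI : IsImmersion (Limits.pullback.diagonal G.hom) := inferInstance
  refine IsClosedImmersion.of_isPreimmersion _ (isClosed_of_closure_subset fun (z : (G ⊗ G).left) hz => ?_)
  let s : S := (G ⊗ G).hom z
  let j : Spec (CommRingCat.of (S.residueField s)) ⟶ S := S.fromSpecResidueField s
  let F := Over.pullback j
  let e : (Red.bc j (G ⊗ G)).left ⟶ (G ⊗ G).left := (G ⊗ G).hom.fiberι s
  haveI : IsSeparated (Red.bc j G).hom := Groth.Agent.GrpSchLib.isSeparated_hom
  -- the diagonal of the fibre is closed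
  let Δs := (Over.pullback j).map (lift (𝟙 G) (𝟙 G))
  have hs : IsClosed (Set.range Δs.left) := by
    have h : Δs = lift (𝟙 (Red.bc j G)) (𝟙 (Red.bc j G)) ≫ Functor.LaxMonoidal.μ F G G := by
      rw [← cancel_mono (Functor.OplaxMonoidal.δ F G G), Category.assoc, Functor.Monoidal.μ_δ]
      refine Eq.trans ?_ (Category.comp_id _).symm
      apply hom_ext <;> simp [Δs, F, ← Functor.map_comp]
    haveI : IsIso (Functor.LaxMonoidal.μ F G G).left :=
      inferInstanceAs (IsIso ((Over.forget _).map (Functor.LaxMonoidal.μ F G G)))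
    rw [h, Over.comp_left, Scheme.Hom.comp_base, TopCat.coe_comp, Set.range_comp]
    refine (Scheme.Hom.homeomorph (Functor.LaxMonoidal.μ F G G).left).isClosedMap _ ?_
    exact ((Limits.pullback.diagonal (Red.bc j G).hom).isClosedEmbedding).isClosed_range
  have hpre : e ⁻¹' Set.range (Limits.pullback.diagonal G.hom) = Set.range Δs.left := by
    have h : Δs.left = Limits.pullback.map G.hom j (G ⊗ G).hom j (lift (𝟙 G) (𝟙 G)).left (𝟙 _) (𝟙 _)
        (by rw [Category.comp_id]; exact (Over.w (lift (𝟙 G) (𝟙 G))).symm) (by simp) := by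
      apply Limits.pullback.hom_ext <;> simp [Δs, Limits.pullback.map]
    rw [h, Scheme.Pullback.range_map]
    ext w
    exact ⟨fun hw => ⟨hw, ⟨_, rfl⟩⟩, fun hw => hw.1⟩
  have hopen : IsOpen ((G ⊗ G).hom ⁻¹' {s}) := (isOpen_discrete _).preimage (Scheme.Hom.continuous _)
  have hz' : z ∈ closure ((G ⊗ G).hom ⁻¹' {s} ∩ Set.range (Limits.pullback.diagonal G.hom)) :=
    hopen.inter_closure ⟨rfl, hz⟩
  obtain ⟨z', hz''⟩ : z ∈ Set.range e := ((G ⊗ G).hom.range_fiberι s).ge rfl
  rw [← hz''] at hz' ⊢
  have h1 : z' ∈ closure (e ⁻¹' Set.range (Limits.pullback.diagonal G.hom)) := by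
    have he : Topology.IsEmbedding e := ((G ⊗ G).hom.fiberι s).isEmbedding
    rw [he.closure_eq_preimage_closure_image]
    show e z' ∈ closure _
    refine closure_mono ?_ hz'
    rintro v ⟨hv, hvD⟩
    obtain ⟨v', rfl⟩ := ((G ⊗ G).hom.range_fiberι s).ge hv
    exact ⟨v', hvD, rfl⟩
  rw [hpre, hs.closure_eq, ← hpre] at h1
  exact h1

end Groth.Agent.S5331
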