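import Groth.Statements.S5332
import Groth.Agent.MonoFibre.Homogeneous2

set_option autoImplicit false
universe u
open CategoryTheory CategoryTheory.Limits MonoidalCategory CartesianMonoidalCategory MonObj GrpObj AlgebraicGeometry
open SGA3

namespace Groth.Agent.S5332

/-- Let G be an S-group scheme locally of finite presentation over S and universally open over S on some
open containing the unit section, acting on an S-scheme X so that the morphism G ×_S X → X ×_S X,
(g, x) ↦ (gx, x), is surjective. Suppose that for every point s of S the fibre X_s is locally of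
finite type over κ(s) and there is an open subscheme U of X, separated over S, whose fibre U_s is
dense in X_s. Then X is separated over S. -/
theorem result (S : Scheme.{u}) (G X : Over S) [GrpObj G] [LocallyOfFinitePresentation G.hom]
    (hGo : ∃ W : G.left.Opens, (∀ p : ↥(𝟙_ (Over S)).left, η[G].left.base p ∈ W) ∧ UniversallyOpen (W.ι ≫ G.hom))
    (a : AlgGrp.Action G X) (hΦ : Surjective (lift a.act (snd G X)).left)
    (hft : ∀ s : S, LocallyOfFiniteType (X.hom.fiberToSpecResidueField s))
    (hU : ∀ s : S, ∃ U : X.left.Opens, IsSeparated (U.ι ≫ X.hom) ∧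
      X.hom.base ⁻¹' {s} ⊆ closure ((U : Set X.left) ∩ X.hom.base ⁻¹' {s})) :
    IsSeparated X.hom := by
  obtain ⟨W, hW, hWo⟩ := hGo
  refine Groth.Agent.MonoFibre.isSeparated_of_maxPts a W hW hΦ fun s => ?_
  obtain ⟨U, hUsep, hUdense⟩ := hU s
  refine ⟨U, hUsep, fun ξ hξ => ?_⟩
  haveI := hft s
  haveI : IsLocallyNoetherian (X.hom.fiber s) :=
    LocallyOfFiniteType.isLocallyNoetherian (X.hom.fiberToSpecResidueField s)
  let iF := X.hom.fiberι s
  have hd : Dense (iF ⁻¹' (U : Set X.left)) := fun y => by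
    rw [iF.isEmbedding.closure_eq_preimage_closure_image]
    have hy : iF y ∈ X.hom.base ⁻¹' {s} := (X.hom.range_fiberι s).le ⟨y, rfl⟩
    refine closure_mono ?_ (hUdense hy)
    rintro v ⟨hvU, hv⟩
    obtain ⟨w, rfl⟩ := (X.hom.range_fiberι s).ge hv
    exact ⟨w, hvU, rfl⟩
  obtain ⟨A, hA, hξA, -⟩ :=
    exists_isAffineOpen_mem_and_subset (X := X.hom.fiber s) (x := ξ) (U := ⊤) trivial
  haveI : IsAffine (A : Scheme.{u}) := hA
  haveI : IsNoetherian (A : Scheme.{u}) := {}
  let V : Set A := A.ι ⁻¹' (iF ⁻¹' (U : Set X.left))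
  have hV : Dense V := (hd.preimage A.ι.isOpenEmbedding.isOpenMap)
  obtain ⟨T, hTf, hT⟩ : ∃ T : Set A, T.Finite ∧ T ⊆ V ∧ V ⊆ closure T := by
    haveI : TopologicalSpace.NoetherianSpace A := inferInstanceAs (TopologicalSpace.NoetherianSpace ↥(A : Scheme.{u}))
    haveI : QuasiSober V := by
      have hVo : IsOpen V := ((U.2.preimage iF.continuous).preimage A.ι.continuous)
      exact hVo.isOpenEmbedding_subtypeVal.quasiSober
    have hfin := TopologicalSpace.NoetherianSpace.finite_irreducibleComponents (α := V)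
    have hgen : ∀ Z : irreducibleComponents ↥V, ∃ g : V, IsGenericPoint g (Z : Set V) := fun Z =>
      QuasiSober.sober Z.2.1 (isClosed_of_mem_irreducibleComponents _ Z.2)
    choose g hg using hgen
    haveI := hfin.to_subtype
    refine ⟨Set.range fun Z => (g Z).1, Set.finite_range _, ?_, fun v hv => ?_⟩
    · rintro _ ⟨Z, rfl⟩; exact (g Z).2
    · obtain ⟨Z, hZ, hvZ⟩ : ∃ Z ∈ irreducibleComponents ↥V, (⟨v, hv⟩ : V) ∈ Z :=
        ⟨_, irreducibleComponent_mem_irreducibleComponents _, mem_irreducibleComponent⟩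
      have h := ((hg ⟨Z, hZ⟩).specializes hvZ).map continuous_subtype_val
      exact closure_mono (Set.singleton_subset_iff.mpr (Set.mem_range_self (⟨Z, hZ⟩ : irreducibleComponents ↥V)))
        h.mem_closure
  have hξT : (⟨ξ, hξA⟩ : A) ∈ closure T :=
    closure_minimal hT.2 isClosed_closure (hV _)
  rw [← Set.biUnion_of_singleton T, hTf.closure_biUnion] at hξT
  obtain ⟨v, hv, hvξ⟩ := Set.mem_iUnion₂.mp hξT
  have hsp : A.ι v ⤳ ξ := (specializes_iff_mem_closure.mpr hvξ).map A.ι.continuous
  have := hT.1 hv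
  show iF ξ ∈ U
  rw [← hξ _ hsp]
  exact this

end Groth.Agent.S5332
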