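import Groth.Statements.S5333
import Groth.Agent.DVRCrit.Local

set_option autoImplicit false
universe u
open CategoryTheory CategoryTheory.Limits MonoidalCategory CartesianMonoidalCategory MonObj GrpObj AlgebraicGeometry
open SGA3

namespace Groth.Agent.S5333

/-- (i) ⟺ (iii) ⟺ (iv'): let f : X → S be a morphism of schemes. Then X is separated over S if and only
if for every reduced scheme T and every two morphisms T → X with the same composite to S which agree
on a dense open subscheme of T are equal; and X is separated over S if and only if every two points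
of X in the same fibre over S lie in a common open subscheme of X which is separated over S. -/
theorem result (X S : Scheme.{u}) (f : X ⟶ S) :
    (IsSeparated f ↔ ∀ (T : Scheme.{u}) [IsReduced T] (g₁ g₂ : T ⟶ X) (U : T.Opens), g₁ ≫ f = g₂ ≫ f →
      Dense (U : Set T) → U.ι ≫ g₁ = U.ι ≫ g₂ → g₁ = g₂) ∧
    (IsSeparated f ↔ ∀ x₁ x₂ : X, f.base x₁ = f.base x₂ →
      ∃ V : X.Opens, x₁ ∈ V ∧ x₂ ∈ V ∧ IsSeparated (V.ι ≫ f)) := by
  refine ⟨⟨fun _ T _ g₁ g₂ U h hU he => ?_, fun h => ?_⟩, ⟨fun hf x₁ x₂ _ => ?_, fun h => ?_⟩⟩
  · haveI : IsDominant U.ι := ⟨by show Dense (Set.range U.ι); rw [Scheme.Opens.range_ι]; exact hU⟩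
    exact ext_of_isDominant_of_isSeparated f h U.ι he
  · rw [isSeparated_iff]
    let Δ := pullback.diagonal f
    let A := Set.range Δ
    refine IsClosedImmersion.of_isPreimmersion _ (isClosed_of_closure_subset ?_)
    let C : TopologicalSpace.Closeds ↥(pullback f f) := ⟨closure A, isClosed_closure⟩
    let jC := (Scheme.IdealSheafData.vanishingIdeal C).subschemeι
    haveI : IsReduced (Scheme.IdealSheafData.vanishingIdeal C).subscheme := DVRCrit.isReduced_vanishingIdeal C
    have hι : Set.range jC = closure A := by
      show Set.range jC = _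
      rw [Scheme.IdealSheafData.range_subschemeι, Scheme.IdealSheafData.coe_support_vanishingIdeal]; rfl
    have hA : IsLocallyClosed A := Δ.isLocallyClosed_range
    have hpre : jC ⁻¹' A = jC ⁻¹' coborder A := by
      ext w
      refine ⟨fun hw => subset_coborder hw, fun hw => ?_⟩
      have : jC w ∈ coborder A ∩ closure A := ⟨hw, hι.le ⟨w, rfl⟩⟩
      rwa [coborder_inter_closure] at this
    let W : (Scheme.IdealSheafData.vanishingIdeal C).subscheme.Opens :=
      ⟨jC ⁻¹' A, hpre ▸ hA.isOpen_coborder.preimage jC.continuous⟩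
    have hW : Dense (W : Set (Scheme.IdealSheafData.vanishingIdeal C).subscheme) := fun w => by
      rw [jC.isEmbedding.closure_eq_preimage_closure_image]
      show jC w ∈ closure (jC '' (jC ⁻¹' A))
      rw [Set.image_preimage_eq_inter_range, Set.inter_eq_left.mpr (hι ▸ subset_closure)]
      exact hι.le ⟨w, rfl⟩
    have hagree : W.ι ≫ jC ≫ pullback.fst f f = W.ι ≫ jC ≫ pullback.snd f f := by
      let q := W.ι ≫ jC
      haveI : Surjective (pullback.fst q Δ) := ⟨fun w => by
        obtain ⟨y, hy⟩ := (w.2 : jC w.1 ∈ A)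
        obtain ⟨r, hr, -⟩ := Scheme.Pullback.exists_preimage_pullback (f := q) (g := Δ) w y hy.symm
        exact ⟨r, hr⟩⟩
      haveI : IsImmersion (pullback.fst q Δ) :=
        MorphismProperty.of_isPullback (P := @IsImmersion) (IsPullback.of_hasPullback q Δ).flip inferInstance
      haveI : IsClosedImmersion (pullback.fst q Δ) := IsClosedImmersion.of_isPreimmersion _
        (by rw [(pullback.fst q Δ).surjective.range_eq]; exact isClosed_univ)
      haveI := isIso_of_isClosedImmersion_of_surjective (pullback.fst q Δ)
      rw [← cancel_epi (pullback.fst q Δ)]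
      have hc : pullback.fst q Δ ≫ W.ι ≫ jC = pullback.snd q Δ ≫ Δ := pullback.condition
      rw [reassoc_of% hc, reassoc_of% hc, pullback.diagonal_fst, pullback.diagonal_snd]
    have he := h _ (jC ≫ pullback.fst f f) (jC ≫ pullback.snd f f) W
      (by rw [Category.assoc, Category.assoc, pullback.condition]) hW hagree
    have hfac : (jC ≫ pullback.fst f f) ≫ Δ = jC := by
      apply pullback.hom_ext
      · simp [Δ]
      · simp only [Category.assoc, Δ, pullback.diagonal_snd, Category.comp_id]; exact he
    intro z hz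
    obtain ⟨w, rfl⟩ := hι.ge hz
    exact ⟨(jC ≫ pullback.fst f f) w, by rw [← Scheme.Hom.comp_apply, hfac]⟩
  · exact ⟨⊤, trivial, trivial, inferInstance⟩
  · rw [isSeparated_iff]
    refine IsClosedImmersion.of_isPreimmersion _ (isClosed_of_closure_subset fun z hz => ?_)
    obtain ⟨V, h1, h2, hV⟩ := h (pullback.fst f f z) (pullback.snd f f z) (by
      show f _ = f _
      rw [← Scheme.Hom.comp_apply, ← Scheme.Hom.comp_apply, pullback.condition])
    let m : pullback (V.ι ≫ f) (V.ι ≫ f) ⟶ pullback f f :=
      pullback.map _ _ _ _ V.ι V.ι (𝟙 _) (by simp) (by simp)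
    obtain ⟨w, rfl⟩ : z ∈ Set.range m := by
      rw [Scheme.Pullback.range_map, Scheme.Opens.range_ι]
      exact ⟨h1, h2⟩
    have hm : pullback.diagonal (V.ι ≫ f) ≫ m = V.ι ≫ pullback.diagonal f := by
      apply pullback.hom_ext
      · rw [Category.assoc, Category.assoc, pullback.diagonal_fst, Category.comp_id]
        erw [pullback.lift_fst, ← Category.assoc, pullback.diagonal_fst, Category.id_comp]
      · rw [Category.assoc, Category.assoc, pullback.diagonal_snd, Category.comp_id]
        erw [pullback.lift_snd, ← Category.assoc, pullback.diagonal_snd, Category.id_comp]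
    have hw : w ∈ closure (Set.range (pullback.diagonal (V.ι ≫ f))) := by
      have h3 : w ∈ closure (m ⁻¹' Set.range (pullback.diagonal f)) := by
        rw [← m.isOpenEmbedding.isOpenMap.preimage_closure_eq_closure_preimage m.continuous]
        exact hz
      refine closure_mono ?_ h3
      rintro w' ⟨y, hy⟩
      have hyV : y ∈ V := by
        have : w' ∈ m ⁻¹' Set.range m := ⟨w', rfl⟩
        have h4 : pullback.fst f f (m w') ∈ (V : Set X) := by
          have := (Scheme.Pullback.range_map (f := V.ι ≫ f) (g := V.ι ≫ f) (f' := f) (g' := f) V.ι V.ι (𝟙 _) (by simp) (by simp)).le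
            ⟨w', rfl⟩
          rw [Scheme.Opens.range_ι] at this
          exact this.1
        rw [← hy, ← Scheme.Hom.comp_apply, pullback.diagonal_fst] at h4
        exact h4
      obtain ⟨v, hv⟩ : y ∈ Set.range V.ι := by rw [Scheme.Opens.range_ι]; exact hyV
      refine ⟨v, m.isOpenEmbedding.injective ?_⟩
      rw [← Scheme.Hom.comp_apply, hm, Scheme.Hom.comp_apply, hv]
      exact hy
    rw [(pullback.diagonal (V.ι ≫ f)).isClosedEmbedding.isClosed_range.closure_eq] at hw
    obtain ⟨v, rfl⟩ := hw
    exact ⟨V.ι v, by rw [← Scheme.Hom.comp_apply, ← hm, Scheme.Hom.comp_apply]⟩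

end Groth.Agent.S5333
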