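import Groth.Statements.S5338
set_option maxHeartbeats 1000000
-- import your own Groth.Agent.* helpers here

set_option autoImplicit false
universe u
open CategoryTheory CategoryTheory.Limits MonoidalCategory CartesianMonoidalCategory MonObj GrpObj AlgebraicGeometry
open SGA3

namespace Groth.Agent.S5338

/-- Let A → B → C be homomorphisms of commutative rings and n a nilpotent ideal of A; write nB and nC
for the extended ideals. (i) If C/nC is a (B/nB)-algebra of finite type, then C is a B-algebra of
finite type. (ii) If moreover C is flat over A and C/nC is a (B/nB)-algebra of finite presentation,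
then C is a B-algebra of finite presentation. -/
theorem result (A B C : Type u) [CommRing A] [CommRing B] [CommRing C]
    [Algebra A B] [Algebra B C] [Algebra A C] [IsScalarTower A B C] (n : Ideal A) (hn : IsNilpotent n) :
    (Algebra.FiniteType (B ⧸ n.map (algebraMap A B)) (C ⧸ (n.map (algebraMap A B)).map (algebraMap B C)) →
      Algebra.FiniteType B C) ∧
    (Module.Flat A C →
      Algebra.FinitePresentation (B ⧸ n.map (algebraMap A B)) (C ⧸ (n.map (algebraMap A B)).map (algebraMap B C)) →
      Algebra.FinitePresentation B C) := by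
  classical
  have nak : ∀ {R M : Type u} [CommRing R] [AddCommGroup M] [Module R M] (I : Ideal R) (N L : Submodule R M),
      IsNilpotent I → L ≤ N ⊔ I • L → L ≤ N := by
    intro R M _ _ _ I N L hI hle
    obtain ⟨k, hk⟩ := hI
    have : ∀ j : ℕ, L ≤ N ⊔ I ^ j • L := by
      intro j
      induction j with
      | zero => rw [pow_zero, Ideal.one_eq_top, Submodule.top_smul]; exact le_sup_right
      | succ j ih =>
        refine ih.trans (sup_le le_sup_left ?_)
        calc I ^ j • L ≤ I ^ j • (N ⊔ I • L) := Submodule.smul_mono le_rfl hle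
          _ = I ^ j • N ⊔ I ^ (j + 1) • L := by rw [Submodule.smul_sup, ← Submodule.mul_smul, pow_succ]
          _ ≤ N ⊔ I ^ (j + 1) • L := sup_le_sup_right Submodule.smul_le_right _
    have h := this k
    rw [hk] at h
    simpa using h
  let I := n.map (algebraMap A B)
  let IC := I.map (algebraMap B C)
  have hI : IsNilpotent I := by
    obtain ⟨k, hk⟩ := hn
    exact ⟨k, by rw [show I ^ k = (n ^ k).map (algebraMap A B) from (Ideal.map_pow _ _ _).symm, hk]; exact Ideal.map_bot⟩
  have hFT : Algebra.FiniteType (B ⧸ I) (C ⧸ IC) → Algebra.FiniteType B C := by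
    intro h
    haveI : Algebra.FiniteType B (B ⧸ I) := inferInstance
    haveI : Algebra.FiniteType B (C ⧸ IC) := Algebra.FiniteType.trans ‹Algebra.FiniteType B (B ⧸ I)› h
    obtain ⟨s, hs⟩ := (Algebra.FiniteType.out : (⊤ : Subalgebra B (C ⧸ IC)).FG)
    choose σ hσ using fun x : C ⧸ IC => Ideal.Quotient.mk_surjective x
    let S := Algebra.adjoin B (σ '' (s : Set (C ⧸ IC)))
    have hS : S.map (Ideal.Quotient.mkₐ B IC) = ⊤ := by
      rw [AlgHom.map_adjoin, Set.image_image, ← hs]
      congr 1
      simp [hσ]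
    have htop : (⊤ : Submodule B C) ≤ Subalgebra.toSubmodule S := by
      refine nak I _ ⊤ hI fun c _ => ?_
      have hc : Ideal.Quotient.mk IC c ∈ S.map (Ideal.Quotient.mkₐ B IC) := hS ▸ Algebra.mem_top
      obtain ⟨d, hd, hdc⟩ := hc
      have h1 : c - d ∈ I • (⊤ : Submodule B C) := by
        rw [Ideal.smul_top_eq_map, Submodule.restrictScalars_mem]
        exact (Ideal.Quotient.eq).1 hdc.symm
      exact Submodule.mem_sup.2 ⟨d, hd, c - d, h1, by abel⟩
    exact ⟨(Subalgebra.fg_def).2 ⟨σ '' (s : Set (C ⧸ IC)), s.finite_toSet.image _,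
      eq_top_iff.2 fun c _ => htop Submodule.mem_top⟩⟩
  refine ⟨hFT, fun hflat hfp => ?_⟩
  haveI := hflat
  haveI := hFT (Algebra.FiniteType.of_finitePresentation)
  obtain ⟨m, π, hπ⟩ := Algebra.FiniteType.iff_quotient_mvPolynomial''.1 ‹Algebra.FiniteType B C›
  let P := MvPolynomial (Fin m) B
  let P' := MvPolynomial (Fin m) (B ⧸ I)
  let mq : P →+* P' := MvPolynomial.map (Ideal.Quotient.mk I)
  let g : P' →ₐ[B ⧸ I] C ⧸ IC := MvPolynomial.aeval fun i => Ideal.Quotient.mk IC (π (MvPolynomial.X i))
  have hgmq : ∀ p, g (mq p) = Ideal.Quotient.mk IC (π p) := fun p => by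
    induction p using MvPolynomial.induction_on with
    | C b =>
      rw [show π (MvPolynomial.C b) = algebraMap B C b from π.commutes b,
        show mq (MvPolynomial.C b) = MvPolynomial.C (Ideal.Quotient.mk I b) from MvPolynomial.map_C _ _,
        show g (MvPolynomial.C (Ideal.Quotient.mk I b)) = algebraMap (B ⧸ I) (C ⧸ IC) (Ideal.Quotient.mk I b) from g.commutes _]
      rfl
    | add p q hp hq => simp only [map_add, hp, hq]
    | mul_X p i hp =>
      simp only [map_mul, hp]
      rw [show mq (MvPolynomial.X i) = MvPolynomial.X i from MvPolynomial.map_X _ _,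
        show g (MvPolynomial.X i) = Ideal.Quotient.mk IC (π (MvPolynomial.X i)) from MvPolynomial.aeval_X _ _]
  have hmq : Function.Surjective mq := MvPolynomial.map_surjective _ Ideal.Quotient.mk_surjective
  have hg : Function.Surjective g := fun z => by
    obtain ⟨c, rfl⟩ := Ideal.Quotient.mk_surjective z
    obtain ⟨p, rfl⟩ := hπ c
    exact ⟨mq p, hgmq p⟩
  haveI : Algebra.FinitePresentation (B ⧸ I) (C ⧸ IC) := hfp
  obtain ⟨t, ht⟩ := Algebra.FinitePresentation.ker_fG_of_surjective g hg
  -- lift the relations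
  have hlift : ∀ z ∈ RingHom.ker g.toRingHom, ∃ p ∈ RingHom.ker π.toRingHom, mq p = z := by
    intro z hz
    obtain ⟨p, rfl⟩ := hmq z
    have h1 : π p ∈ IC := Ideal.Quotient.eq_zero_iff_mem.1 ((hgmq p).symm.trans hz)
    have h2 : IC ≤ (I.map (algebraMap B P)).map π.toRingHom := by
      rw [Ideal.map_map, show π.toRingHom.comp (algebraMap B P) = algebraMap B C from π.comp_algebraMap]
    obtain ⟨q, hq, hqp⟩ := (Ideal.mem_map_iff_of_surjective π.toRingHom hπ).1 (h2 h1)
    refine ⟨p - q, by rw [RingHom.mem_ker, map_sub, hqp]; exact sub_self _, ?_⟩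
    have h3 : I.map (algebraMap B P) ≤ RingHom.ker mq := Ideal.map_le_iff_le_comap.2 fun b hb => by
      show mq (MvPolynomial.C b) = 0
      rw [show mq (MvPolynomial.C b) = MvPolynomial.C (Ideal.Quotient.mk I b) from MvPolynomial.map_C _ _,
        Ideal.Quotient.eq_zero_iff_mem.2 hb, map_zero]
    rw [map_sub, (RingHom.mem_ker).1 (h3 hq), sub_zero]
  choose! τ hτ hτ' using hlift
  let J₀ : Ideal P := Ideal.span (τ '' (t : Set P'))
  have hJ₀le : J₀ ≤ RingHom.ker π.toRingHom := by
    refine Ideal.span_le.2 ?_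
    rintro _ ⟨z, hz, rfl⟩
    exact hτ z (ht ▸ Ideal.subset_span hz)
  have hkmq : RingHom.ker mq ≤ n.map (algebraMap A P) := by
    rw [show mq = MvPolynomial.map (Ideal.Quotient.mk I) from rfl, MvPolynomial.ker_map, Ideal.mk_ker,
      show I = n.map (algebraMap A B) from rfl, Ideal.map_map]
    rfl
  let J : Ideal P := RingHom.ker π.toRingHom
  let nP := n.map (algebraMap A P)
  have hmain : J ≤ J₀ ⊔ nP • J := by
    intro x hx
    have h1 : mq x ∈ J₀.map mq := by
      have h2 : mq x ∈ RingHom.ker g.toRingHom :=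
        (hgmq x).trans (by rw [show π x = 0 from hx, map_zero])
      have h3 : RingHom.ker g.toRingHom ≤ J₀.map mq := by
        rw [← ht, Ideal.map_span]
        refine Ideal.span_le.2 fun z hz => Ideal.subset_span ⟨τ z, ⟨z, hz, rfl⟩, ?_⟩
        exact hτ' z (ht ▸ Ideal.subset_span hz)
      exact h3 h2
    obtain ⟨y, hy, hyx⟩ := (Ideal.mem_map_iff_of_surjective mq hmq).1 h1
    have h4 : x - y ∈ nP := hkmq (by rw [RingHom.mem_ker, map_sub, hyx, sub_self])
    have h5 : x - y ∈ (n • (⊤ : Submodule A P)) := by rw [Ideal.smul_top_eq_map]; exact h4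
    obtain ⟨k, a, p, ha, hap⟩ : ∃ (k : ℕ) (a : Fin k → A) (p : Fin k → P), (∀ i, a i ∈ n) ∧ ∑ i, a i • p i = x - y := by
      refine Submodule.smul_induction_on h5 (fun a ha p _ => ?_) (fun u v hu hv => ?_)
      · exact ⟨1, fun _ => a, fun _ => p, fun _ => ha, by simp⟩
      ·
        obtain ⟨k, a, p, ha, hu⟩ := hu
        obtain ⟨l, b, q, hb, hv⟩ := hv
        refine ⟨k + l, Fin.append a b, Fin.append p q, fun i => ?_, ?_⟩
        · refine Fin.addCases (fun i => ?_) (fun i => ?_) i <;> simp [ha, hb]
        · simp [Fin.sum_univ_add, hu, hv]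
    let πA : P →ₗ[A] C := π.toLinearMap.restrictScalars A
    have hrel : ∑ i, a i • πA (p i) = 0 := by
      simp only [← map_smul, ← map_sum, hap]
      show π (x - y) = 0
      rw [map_sub, show π x = 0 from hx, show π y = 0 from hJ₀le hy, sub_self]
    obtain ⟨l, c, w, hw, hc⟩ := Module.Flat.isTrivialRelation_of_sum_smul_eq_zero hrel
    choose q hq using fun j => hπ (w j)
    have h6 : x - y = ∑ i, a i • (p i - ∑ j, c i j • q j) := by
      have h7 : ∑ i, a i • ∑ j, c i j • q j = 0 := by
        simp only [Finset.smul_sum, smul_smul]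
        rw [Finset.sum_comm]
        simp [← Finset.sum_smul, hc]
      simp only [smul_sub, Finset.sum_sub_distrib, hap, h7, sub_zero]
    refine Submodule.mem_sup.2 ⟨y, hy, x - y, ?_, by abel⟩
    rw [h6]
    refine Submodule.sum_mem _ fun i _ => ?_
    rw [← algebraMap_smul P (a i)]
    refine Submodule.smul_mem_smul (Ideal.mem_map_of_mem _ (ha i)) ?_
    show πA (p i - ∑ j, c i j • q j) = 0
    simp only [map_sub, map_sum, map_smul, sub_eq_zero, hw i]
    exact Finset.sum_congr rfl fun j _ => by rw [show πA (q j) = w j from hq j]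
  have hnP : IsNilpotent nP := by
    obtain ⟨k, hk⟩ := hn
    exact ⟨k, by rw [show nP ^ k = (n ^ k).map (algebraMap A P) from (Ideal.map_pow _ _ _).symm, hk]; exact Ideal.map_bot⟩
  have hJ : J = J₀ := le_antisymm (nak nP J₀ J hnP hmain) hJ₀le
  refine Algebra.FinitePresentation.of_surjective (f := π) hπ ?_
  show J.FG
  rw [hJ]
  exact ⟨t.image τ, by simp [J₀]⟩

end Groth.Agent.S5338
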