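import Groth.Statements.S5343
import Mathlib.RingTheory.Ideal.IdempotentFG
import Mathlib.RingTheory.Spectrum.Prime.Topology
import Mathlib.RingTheory.LocalRing.ResidueField.Fiber
-- import your own Groth.Agent.* helpers here

set_option autoImplicit false
set_option backward.isDefEq.respectTransparency false
universe u
open CategoryTheory CategoryTheory.Limits MonoidalCategory CartesianMonoidalCategory MonObj GrpObj AlgebraicGeometry
open SGA3

namespace Groth.Agent.S5343

/-- Let R be a commutative ring and B a commutative R-algebra which is projective as an R-module. Then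
the image of Spec B → Spec R is an open and closed subset of Spec R. (The published statement
concerns a quasi-coherent algebra on any scheme which is a direct summand of a free module; this row
is the affine case.) -/
theorem result (R B : Type u) [CommRing R] [CommRing B] [Algebra R B] [Module.Projective R B] :
    IsClopen (Set.range (PrimeSpectrum.comap (algebraMap R B))) := by
  classical
  obtain ⟨s, hs⟩ := Module.Projective.out (R := R) (P := B)
  let c : B → (B →ₗ[R] R) := fun e => Finsupp.lapply e ∘ₗ s
  have hexp : ∀ b : B, ∑ e ∈ (s b).support, c e b • e = b := fun b => by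
    conv_rhs => rw [← hs b, Finsupp.linearCombination_apply]
    rfl
  let I : Ideal R := Ideal.span (Set.range fun φ : B →ₗ[R] R => φ 1)
  have hfin : I = Ideal.span (((Finset.image (fun e => c e 1) (s 1).support : Finset R)) : Set R) := by
    refine le_antisymm (Ideal.span_le.mpr ?_) (Ideal.span_mono ?_)
    · rintro _ ⟨φ, rfl⟩
      show φ 1 ∈ Ideal.span ((Finset.image (fun e => c e 1) (s 1).support : Finset R) : Set R)
      rw [← show φ (∑ e ∈ (s 1).support, c e 1 • e) = φ 1 from congrArg φ (hexp 1), map_sum]
      refine sum_mem fun e he => ?_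
      rw [map_smul, smul_eq_mul]
      exact Ideal.mul_mem_right _ _ (Ideal.subset_span (Finset.mem_coe.mpr (Finset.mem_image_of_mem _ he)))
    · intro x hx
      obtain ⟨e, -, rfl⟩ := Finset.mem_image.mp (Finset.mem_coe.mp hx)
      exact ⟨c e, rfl⟩
  have hidem : IsIdempotentElem I := by
    refine le_antisymm Ideal.mul_le_left (Ideal.span_le.mpr ?_)
    rintro _ ⟨φ, rfl⟩
    show φ 1 ∈ I * I
    rw [← hexp 1, map_sum]
    refine Ideal.sum_mem _ fun e _ => ?_
    rw [map_smul, smul_eq_mul]
    refine Ideal.mul_mem_mul (Ideal.subset_span ⟨c e, rfl⟩) (Ideal.subset_span ⟨φ ∘ₗ LinearMap.mulLeft R e, ?_⟩)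
    simp
  obtain ⟨e, he, hIe⟩ := (Ideal.isIdempotentElem_iff_of_fg I (hfin ▸ ⟨_, rfl⟩)).mp hidem
  have hrange : Set.range (PrimeSpectrum.comap (algebraMap R B)) = (PrimeSpectrum.zeroLocus (I : Set R))ᶜ := by
    ext q
    rw [PrimeSpectrum.mem_range_comap_iff, Set.mem_compl_iff, PrimeSpectrum.mem_zeroLocus, SetLike.coe_subset_coe]
    constructor
    · intro h hle
      have h1 : (1 : B) ∈ q.asIdeal.map (algebraMap R B) := by
        rw [← hexp 1]
        refine Ideal.sum_mem _ fun e _ => ?_
        rw [Algebra.smul_def]
        exact Ideal.mul_mem_right _ _ (Ideal.mem_map_of_mem _ (hle (Ideal.subset_span ⟨c e, rfl⟩)))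
      rw [Ideal.eq_top_of_isUnit_mem _ h1 isUnit_one, Ideal.comap_top] at h
      exact q.isPrime.ne_top h.symm
    · intro hle
      refine le_antisymm (fun x hx => ?_) Ideal.le_comap_map
      obtain ⟨i, hi, hiq⟩ := SetLike.not_le_iff_exists.mp hle
      obtain ⟨φ, hφ⟩ : ∃ φ : B →ₗ[R] R, φ 1 ∉ q.asIdeal := by
        by_contra hc
        push Not at hc
        have hle' : I ≤ q.asIdeal := Ideal.span_le.mpr (by rintro _ ⟨φ, rfl⟩; exact hc φ)
        exact hiq (hle' hi)
      have hmap : ∀ y ∈ q.asIdeal.map (algebraMap R B), φ y ∈ q.asIdeal := fun y hy => by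
        rw [← Submodule.restrictScalars_mem R, ← Ideal.smul_top_eq_map] at hy
        refine Submodule.smul_induction_on hy (fun r hr n _ => ?_) fun a b ha hb => by rw [map_add]; exact add_mem ha hb
        rw [map_smul, smul_eq_mul]; exact Ideal.mul_mem_right _ _ hr
      have := hmap _ hx
      rw [Algebra.algebraMap_eq_smul_one, map_smul, smul_eq_mul] at this
      exact (q.isPrime.mem_or_mem this).resolve_right hφ
  rw [hrange, hIe, show (R ∙ e : Submodule R R) = Ideal.span {e} from rfl, PrimeSpectrum.zeroLocus_span,
    ← PrimeSpectrum.basicOpen_eq_zeroLocus_compl]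
  exact PrimeSpectrum.isClopen_basicOpen_of_mul_add e (1 - e) (by rw [mul_sub, _root_.mul_one, he.eq, sub_self]) (add_sub_cancel _ _)

end Groth.Agent.S5343
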