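import Groth.Statements.S5344
import Groth.Agent.ArtGrpLib.Component

set_option autoImplicit false
set_option backward.isDefEq.respectTransparency false
set_option backward.isDefEq.respectTransparency.types false
set_option linter.style.haveILetI false
universe u
open CategoryTheory CategoryTheory.Limits MonoidalCategory CartesianMonoidalCategory MonObj GrpObj AlgebraicGeometry
open SGA3

namespace Groth.Agent.S5344

open GrpSchLib (idObj idIncl idComp unitPt ptObj ptHom) in
/-- A conjugate of a point of the unit component lies in it. -/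
theorem conj_mem {K : Type u} [Field K] {G : Over (Spec (CommRingCat.of K))} [GrpObj G]
    {T : Over (Spec (CommRingCat.of K))} (g n : T ⟶ G) (t : T.left) (ht : n.left t ∈ connectedComponent (unitPt G)) :
    (g * n * g⁻¹).left t ∈ connectedComponent (unitPt G) := by
  rw [GrpSchLib.connectedComponent_eq] at ht ⊢
  let y := g.left t
  haveI := GrpSchLib.irreducibleSpace_idObj_tensor (G := G) (ptObj y)
  let Ψ : idObj G ⊗ ptObj y ⟶ G := (snd _ _ ≫ ptHom y) * (fst _ _ ≫ idIncl G) * (snd _ _ ≫ ptHom y)⁻¹
  have hz : (lift n g).left t ∈ Set.range (idIncl G ⊗ₘ ptHom y).left := by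
    have hr : (lift n g).left t ∈ Set.range (pullback.map (idObj G).hom (ptObj y).hom G.hom G.hom
        (idIncl G).left (G.left.fromSpecResidueField y) (𝟙 _) (by simp) (by simp)) := by
      rw [Scheme.Pullback.range_map, GrpSchLib.range_idIncl]
      refine ⟨?_, ?_⟩
      · show (lift n g ≫ fst G G).left t ∈ idComp G
        rw [lift_fst]
        exact ht
      · show (lift n g ≫ snd G G).left t ∈ Set.range (G.left.fromSpecResidueField y)
        rw [lift_snd]
        exact (G.left.range_fromSpecResidueField y).ge rfl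
    convert! hr using 3
  obtain ⟨w, hw⟩ := hz
  have e : (g * n * g⁻¹) = lift n g ≫ (snd G G * fst G G * (snd G G)⁻¹) := by
    rw [MonObj.comp_mul, MonObj.comp_mul, GrpObj.comp_inv, lift_fst, lift_snd]
  have e' : (idIncl G ⊗ₘ ptHom y) ≫ (snd G G * fst G G * (snd G G)⁻¹) = Ψ := by
    rw [MonObj.comp_mul, MonObj.comp_mul, GrpObj.comp_inv, tensorHom_fst, tensorHom_snd]
  have hmem : (g * n * g⁻¹).left t ∈ Set.range Ψ.left := by
    refine ⟨w, ?_⟩
    rw [← e', e, Over.comp_left, Over.comp_left, Scheme.Hom.comp_apply, Scheme.Hom.comp_apply, hw]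
  refine GrpSchLib.subset_irreducibleComponent (S := Set.range Ψ.left) ?_ ?_ hmem
  · rw [← Set.image_univ]
    exact (IrreducibleSpace.isIrreducible_univ _).image _ Ψ.left.continuous.continuousOn
  · obtain ⟨z0, hz0⟩ := GrpSchLib.exists_idObj_point (G := G)
    obtain ⟨p⟩ : Nonempty (ptObj y).left := inferInstance
    obtain ⟨v, hv, -⟩ := Scheme.Pullback.exists_preimage_pullback (f := (idObj G).hom) (g := (ptObj y).hom) z0 p
      (Subsingleton.elim _ _)
    obtain ⟨T', a, t', -, ha⟩ := GrpSchLib.exists_eq_one (fst (idObj G) (ptObj y) ≫ idIncl G) v (by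
      show (idIncl G).left ((fst (idObj G) (ptObj y)).left v) = _
      rw [show (fst (idObj G) (ptObj y)).left v = z0 from hv, hz0])
    refine ⟨a.left t', ?_⟩
    have h1 : a ≫ Ψ = 1 := by
      rw [MonObj.comp_mul, MonObj.comp_mul, GrpObj.comp_inv, ha, _root_.mul_one, mul_inv_cancel]
    exact (congrArg (fun m : T' ⟶ G => m.left t') h1).trans (GrpSchLib.one_apply _ t')

/-- Let A be a local artinian ring and G an A-group scheme locally of finite type, and let G⁰ be the
connected component of the unit point. Then G⁰ is open in G; it is stable under the group law: for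
every A-scheme T and all points g, h : T → G whose images lie in G⁰, the image of g h⁻¹ lies in G⁰
(so G⁰ carries an open subgroup scheme, the neutral component); and it is normal: for every A-scheme
T, every point g : T → G and every point n : T → G whose image lies in G⁰, the image of g n g⁻¹ lies
in G⁰. -/
theorem result (A : Type u) [CommRing A] [IsArtinianRing A] [IsLocalRing A] (G : Over (Spec (CommRingCat.of A))) [GrpObj G] [LocallyOfFiniteType G.hom]
    (pt : ↥(𝟙_ (Over (Spec (CommRingCat.of A)))).left) :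
    IsOpen (connectedComponent (η[G].left.base pt)) ∧
    (∀ (T : Over (Spec (CommRingCat.of A))) (g h : T ⟶ G), Set.range g.left.base ⊆ connectedComponent (η[G].left.base pt) →
      Set.range h.left.base ⊆ connectedComponent (η[G].left.base pt) →
      Set.range (g * h⁻¹).left.base ⊆ connectedComponent (η[G].left.base pt)) ∧
    ∀ (T : Over (Spec (CommRingCat.of A))) (g n : T ⟶ G), Set.range n.left.base ⊆ connectedComponent (η[G].left.base pt) →
      Set.range (g * n * g⁻¹).left.base ⊆ connectedComponent (η[G].left.base pt) := by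
  have hpt : η[G].left.base pt = ArtGrpLib.onePt G :=
    congrArg η[G].left (Subsingleton.elim (α := PrimeSpectrum A) _ _)
  rw [hpt]
  have hinv : ∀ (T : Over (Spec (CommRingCat.of A))) (h : T ⟶ G) (t : T.left),
      h.left t ∈ connectedComponent (ArtGrpLib.onePt G) → h⁻¹.left t ∈ connectedComponent (ArtGrpLib.onePt G) := by
    intro T h t ht
    have e : h⁻¹ = h ≫ (𝟙 G)⁻¹ := by rw [GrpObj.comp_inv, Category.comp_id]
    have e1 : ((𝟙 G)⁻¹ : G ⟶ G).left (ArtGrpLib.onePt G) = ArtGrpLib.onePt G := by
      have h1 : (1 : 𝟙_ (Over (Spec (CommRingCat.of A))) ⟶ G) ≫ (𝟙 G)⁻¹ = 1 := by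
        rw [GrpObj.comp_inv, Category.comp_id, inv_one]
      have h2 := congrArg (fun m : 𝟙_ (Over (Spec (CommRingCat.of A))) ⟶ G => m.left pt) h1
      exact ((congrArg ((𝟙 G)⁻¹ : G ⟶ G).left (ArtGrpLib.one_apply G pt)).symm.trans h2).trans (ArtGrpLib.one_apply G pt)
    rw [e, Over.comp_left, Scheme.Hom.comp_apply]
    have := ((𝟙 G)⁻¹ : G ⟶ G).left.continuous.image_connectedComponent_subset _ ⟨_, ht, rfl⟩
    rwa [e1] at this
  refine ⟨ArtGrpLib.isOpen_component G _, fun T g h hg hh => ?_, fun T g n hn => ?_⟩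
  · rintro _ ⟨t, rfl⟩
    have e : (g * h⁻¹).left t = (μ[G] : G ⊗ G ⟶ G).left ((lift g h⁻¹).left t) := by
      rw [Hom.mul_def, Over.comp_left, Scheme.Hom.comp_apply]
    have h2 := ArtGrpLib.mul_mem G ((lift g h⁻¹).left t) (by
      show (lift g h⁻¹ ≫ snd G G).left t ∈ _
      rw [lift_snd]
      exact hinv T h t (hh ⟨t, rfl⟩))
    rw [show (fst G G).left ((lift g h⁻¹).left t) = g.left t from
      congrArg (fun m : T ⟶ G => m.left t) (lift_fst g h⁻¹), ← e, connectedComponent_eq (hg ⟨t, rfl⟩) |>.symm] at h2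
    exact h2
  · rintro _ ⟨t, rfl⟩
    obtain ⟨t, rfl⟩ := (ArtGrpLib.redPr T).surjective t
    let P := Over.pullback (ArtGrpLib.jRed A)
    show ((g * n * g⁻¹).left (ArtGrpLib.redPr T t)) ∈ _
    rw [← ArtGrpLib.redPr_map, ← ArtGrpLib.redPr_unitPt, ← ArtGrpLib.image_connectedComponent_redPr]
    refine ⟨_, ?_, rfl⟩
    have hn' : (P.map n).left t ∈ connectedComponent (GrpSchLib.unitPt (ArtGrpLib.red G)) := by
      have h1 : n.left (ArtGrpLib.redPr T t) ∈ connectedComponent (ArtGrpLib.onePt G) := hn ⟨_, rfl⟩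
      rw [← ArtGrpLib.redPr_map, ← ArtGrpLib.redPr_unitPt, ← ArtGrpLib.image_connectedComponent_redPr] at h1
      obtain ⟨y, hy, hye⟩ := h1
      rwa [← (ArtGrpLib.redPr G).isEmbedding.injective hye]
    have h3 := conj_mem (P.map g) (P.map n) t hn'
    rwa [show (P.map g)⁻¹ = P.map g⁻¹ from (map_inv (Functor.homMonoidHom P) g).symm, ← Functor.map_mul, ← Functor.map_mul] at h3

end Groth.Agent.S5344
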