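import Groth.Statements.S5346
import Groth.Agent.H6ArtThick

set_option autoImplicit false
universe u
open CategoryTheory CategoryTheory.Limits MonoidalCategory CartesianMonoidalCategory MonObj GrpObj AlgebraicGeometry
open SGA3

namespace Groth.Agent.S5346

open CategoryTheory CategoryTheory.Limits AlgebraicGeometry

open Groth.Agent
set_option backward.isDefEq.respectTransparency false

/-- Let A be a local artinian ring with residue field k and i : Spec k → Spec A the closed point. (i) If
X is an A-scheme whose base change X ⊗_A k is locally of finite type (resp. of finite type) over k,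
then X is locally of finite type (resp. of finite type) over A. (ii) If u : X → Y is a morphism of
A-schemes whose base change u ⊗_A k is an immersion (resp. a closed immersion), then u is an
immersion (resp. a closed immersion). -/
theorem result (A : Type u) [CommRing A] [IsArtinianRing A] [IsLocalRing A] (X Y : Over (Spec (CommRingCat.of A))) (u : X ⟶ Y) :
    letI i : Spec (CommRingCat.of (IsLocalRing.ResidueField A)) ⟶ (Spec (CommRingCat.of A)) := Spec.map (CommRingCat.ofHom (IsLocalRing.residue A))
    (LocallyOfFiniteType (pullback.snd X.hom i) → LocallyOfFiniteType X.hom) ∧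
    (LocallyOfFiniteType (pullback.snd X.hom i) → QuasiCompact (pullback.snd X.hom i) → QuasiCompact X.hom) ∧
    (IsImmersion ((Over.pullback i).map u).left → IsImmersion u.left) ∧
    (IsClosedImmersion ((Over.pullback i).map u).left → IsClosedImmersion u.left) := by
  let i : Spec (CommRingCat.of (IsLocalRing.ResidueField A)) ⟶ (Spec (CommRingCat.of A)) := Spec.map (CommRingCat.ofHom (IsLocalRing.residue A))
  exact ⟨fun h => H6ArtThick.lft_of_fibre i (H6ArtThick.isNilpotent_ker_residue A) X.hom h,
    fun _ h => H6ArtThick.quasiCompact_of_fibre i X.hom h,
    fun h => H6ArtThick.isImmersion_of_fibre i (H6ArtThick.isNilpotent_ker_residue A) Y.hom u.left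
      (H6ArtThick.property_map_left i u @IsImmersion h),
    fun h => H6ArtThick.isClosedImmersion_of_fibre i (H6ArtThick.isNilpotent_ker_residue A) Y.hom u.left
      (H6ArtThick.property_map_left i u @IsClosedImmersion h)⟩


end Groth.Agent.S5346
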