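import Groth.Statements.S5351
import Groth.Agent.ArtGrpLib.SubQuot
import Groth.Agent.ArtGrpLib.QuotComp

set_option autoImplicit false
set_option backward.isDefEq.respectTransparency false
set_option backward.isDefEq.respectTransparency.types false
set_option linter.style.haveILetI false
universe u
open CategoryTheory CategoryTheory.Limits MonoidalCategory CartesianMonoidalCategory MonObj GrpObj AlgebraicGeometry
open SGA3

namespace Groth.Agent.S5351

/-- Let A be a local artinian ring, G an A-group scheme locally of finite type, and u : F → G a
homomorphism which is a closed immersion, with F flat and quasi-compact (hence of finite type) over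
A (G is not assumed flat). Then there are an A-scheme X and a morphism p : G → X over A (the
quotient of G by F acting by left translations) such that: X is separated and locally of finite type
over A; p is surjective, flat and locally of finite presentation; the square formed by (f, g) ↦
u(f)·g, the second projection F ×_A G → G and p (twice) is cartesian; X is flat (resp.
quasi-compact, resp. smooth) over A when G is; and every connected component of X is irreducible and
quasi-compact, of dimension d with d + dim F = dim G. (The published statement asks only that F be a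
closed subgroup scheme flat over A, hence locally of finite type; this row also assumes F
quasi-compact over A, the case in which the second projection F ×_A G → G is of finite presentation,
as the reduction to the residue field used in the proof requires. The published statement also
asserts exactness of F ×_A G ⇉ G → X in the category of all ringed spaces and a right action of G on
X; these are not part of this row.) -/
theorem result (A : Type u) [CommRing A] [IsArtinianRing A] [IsLocalRing A] (F G : Over (Spec (CommRingCat.of A))) [GrpObj F] [GrpObj G]
    [LocallyOfFiniteType G.hom] [Flat F.hom] [QuasiCompact F.hom] (u : F ⟶ G) [IsMonHom u] [IsClosedImmersion u.left] :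
    ∃ (X : Over (Spec (CommRingCat.of A))) (p : G ⟶ X),
      IsSeparated X.hom ∧ LocallyOfFiniteType X.hom ∧
      Surjective p.left ∧ Flat p.left ∧ LocallyOfFinitePresentation p.left ∧
      IsPullback ((u ▷ G) ≫ μ[G]) (snd F G) p p ∧
      (Flat G.hom → Flat X.hom) ∧ (QuasiCompact G.hom → QuasiCompact X.hom) ∧ (Smooth G.hom → Smooth X.hom) ∧
      ∀ x : X.left, IsIrreducible (connectedComponent x) ∧ IsCompact (connectedComponent x) ∧
        topologicalKrullDim ↥(connectedComponent x) + topologicalKrullDim ↥F.left = topologicalKrullDim ↥G.left := by
  obtain ⟨X, p, hsep, hlft, hs, hf, hp, hsq, hfl, hqc, hsm⟩ := ArtGrpLib.exists_quotient_sub u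
  haveI := hlft
  haveI : LocallyOfFiniteType F.hom := by rw [← Over.w u]; infer_instance
  refine ⟨X, p, hsep, hlft, hs, hf, hp, hsq, hfl, hqc, hsm, fun x => ?_⟩
  let P := Over.pullback (ArtGrpLib.jRed A)
  haveI := hs
  haveI := hf
  haveI := hp
  haveI : Surjective (P.map p).left :=
    MorphismProperty.of_isPullback (P := @Surjective) (ArtGrpLib.isPullback_redPr p) hs
  haveI : Flat (P.map p).left :=
    MorphismProperty.of_isPullback (P := @Flat) (ArtGrpLib.isPullback_redPr p) hf
  haveI : LocallyOfFinitePresentation (P.map p).left :=
    MorphismProperty.of_isPullback (P := @LocallyOfFinitePresentation) (ArtGrpLib.isPullback_redPr p) hp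
  haveI : LocallyOfFiniteType (ArtGrpLib.red X).hom := inferInstanceAs (LocallyOfFiniteType (pullback.snd X.hom _))
  haveI : LocallyOfFiniteType (ArtGrpLib.red F).hom := inferInstanceAs (LocallyOfFiniteType (pullback.snd F.hom _))
  haveI : IsClosedImmersion (P.map u).left :=
    MorphismProperty.of_isPullback (P := @IsClosedImmersion) (ArtGrpLib.isPullback_redPr u) ‹_›
  have hsq₀ : IsPullback (ArtGrpLib.cosetT (P.map u)) (snd (P.obj F) (P.obj G)) (P.map p) (P.map p) := by
    let e := Functor.Monoidal.μIso P F G
    refine IsPullback.of_iso (hsq.map P) e.symm (Iso.refl _) (Iso.refl _) (Iso.refl _) ?_ ?_ (by simp) (by simp)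
    · simp only [Iso.refl_hom, Category.comp_id, Iso.symm_hom]
      rw [Iso.eq_inv_comp]
      have e1 : (u ▷ G) ≫ μ[G] = (fst F G ≫ u) * snd F G := by
        rw [← ArtGrpLib.lift_cosetT, lift_fst_snd, Category.id_comp]
      have e2 : ArtGrpLib.cosetT (P.map u) = (fst (P.obj F) (P.obj G) ≫ P.map u) * snd (P.obj F) (P.obj G) := by
        rw [← ArtGrpLib.lift_cosetT, lift_fst_snd, Category.id_comp]
      rw [e1, e2, Functor.map_mul, MonObj.comp_mul, Functor.map_comp]
      simp [e]
    · simp only [Iso.refl_hom, Category.comp_id, Iso.symm_hom]
      rw [Iso.eq_inv_comp]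
      simp [e]
  obtain ⟨y, rfl⟩ := (ArtGrpLib.redPr X).surjective x
  obtain ⟨g, rfl⟩ := (P.map p).left.surjective y
  obtain ⟨-, -, hirr, hcpt⟩ := ArtGrpLib.image_component (P.map u) (P.map p) hsq₀ g
  have hdim := ArtGrpLib.component_dim (P.map u) (P.map p) hsq₀ g
  rw [← ArtGrpLib.image_connectedComponent_redPr]
  refine ⟨hirr.image _ (ArtGrpLib.redPr X).continuous.continuousOn, hcpt.image (ArtGrpLib.redPr X).continuous, ?_⟩
  rw [← IsHomeomorph.topologicalKrullDim_eq _ (ArtGrpLib.redHomeo F).isHomeomorph,
    ← IsHomeomorph.topologicalKrullDim_eq _ (ArtGrpLib.redHomeo G).isHomeomorph,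
    show (ArtGrpLib.redPr X) '' connectedComponent ((P.map p).left g) =
      ArtGrpLib.redHomeo X '' connectedComponent ((P.map p).left g) from rfl,
    ← IsHomeomorph.topologicalKrullDim_eq _ ((ArtGrpLib.redHomeo X).image (connectedComponent _)).isHomeomorph]
  exact hdim

end Groth.Agent.S5351
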