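import Groth.Statements.S5352
import Groth.Agent.CommGrpAbLib.Basic
import Groth.Agent.S3278
import Groth.Agent.S5378
import Groth.Agent.S3036
import Groth.Agent.GrpSchLib.Separated
-- import your own Groth.Agent.* helpers here

set_option autoImplicit false
universe u
open CategoryTheory CategoryTheory.Limits MonoidalCategory CartesianMonoidalCategory MonObj GrpObj AlgebraicGeometry
open SGA3

namespace Groth.Agent.S5352

/-- Let k be a field. The category of commutative affine algebraic k-groups (commutative group objects
in k-schemes whose underlying scheme is affine and of finite type over k, as a full subcategory of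
commutative group objects over Spec k) is an abelian category. -/
theorem result (k : Type u) [Field k] :
    Nonempty (Abelian (ObjectProperty.FullSubcategory
      (fun G : CommGrp (Over (Spec (CommRingCat.of k))) => LocallyOfFiniteType G.X.hom ∧ QuasiCompact G.X.hom ∧ IsAffine G.X.left))) := by
  let P : CommGrp (Over (Spec (CommRingCat.of k))) → Prop :=
    fun G => LocallyOfFiniteType G.X.hom ∧ QuasiCompact G.X.hom ∧ IsAffine G.X.left
  change Nonempty (Abelian (ObjectProperty.FullSubcategory P))
  have himm : ∀ (Y : CommGrpAbLib.Cat P), IsClosedImmersion η[Y.obj.X].left := fun Y => by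
    haveI := Y.property.1
    exact GrpSchLib.isClosedImmersion_unit
  refine CommGrpAbLib.nonempty_abelian (P := P) ⟨?_, fun A B => ?_, fun A B f K a ha hk => ?_, fun A B f => ?_, fun A B i hi => ?_⟩
  · exact ⟨inferInstanceAs (LocallyOfFiniteType (𝟙 (Spec (CommRingCat.of k)))),
      inferInstanceAs (QuasiCompact (𝟙 (Spec (CommRingCat.of k)))), inferInstanceAs (IsAffine (Spec (CommRingCat.of k)))⟩
  · haveI := A.property.1
    haveI := A.property.2.1
    haveI := A.property.2.2
    haveI := B.property.1
    haveI := B.property.2.1
    haveI := B.property.2.2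
    exact ⟨inferInstanceAs (LocallyOfFiniteType (pullback.fst A.obj.X.hom B.obj.X.hom ≫ A.obj.X.hom)),
      inferInstanceAs (QuasiCompact (pullback.fst A.obj.X.hom B.obj.X.hom ≫ A.obj.X.hom)),
      inferInstanceAs (IsAffine (pullback A.obj.X.hom B.obj.X.hom))⟩
  · haveI := A.property.1
    haveI := A.property.2.1
    haveI := A.property.2.2
    haveI := himm B
    haveI : IsClosedImmersion a.left := MorphismProperty.of_isPullback (GrpQuotLib.isPullback_left hk).flip
      ‹IsClosedImmersion η[B.obj.X].left›
    exact ⟨by rw [← Over.w a]; infer_instance, by rw [← Over.w a]; infer_instance, isAffine_of_isAffineHom a.left⟩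
  · haveI := A.property.1
    haveI := A.property.2.1
    haveI := A.property.2.2
    haveI := B.property.1
    haveI := B.property.2.2
    obtain ⟨C, hC, p, m, hp, hm, hpm, hps, hpf, hmc, hCa, -⟩ := S5378.result k A.obj.X B.obj.X (CommGrpAbLib.und f)
    haveI := hp
    haveI := hm
    haveI := hps
    haveI := hpf
    haveI := hmc
    haveI := hCa
    haveI : LocallyOfFiniteType C.hom := by rw [← Over.w m]; infer_instance
    haveI : Mono m.left := inferInstance
    haveI : Mono m := Over.mono_of_mono_left m
    haveI := CommGrpAbLib.isComm_of_mono m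
    haveI : QuasiCompact C.hom := inferInstance
    haveI : QuasiCompact p.left := by
      haveI : QuasiCompact (p.left ≫ C.hom) := by rw [Over.w p]; infer_instance
      exact QuasiCompact.of_comp p.left C.hom
    exact ⟨⟨{ X := C }, ⟨inferInstance, inferInstance, hCa⟩⟩, @CommGrpAbLib.mkHom _ _ A ⟨{ X := C }, _⟩ p hp,
      @CommGrpAbLib.mkHom _ _ ⟨{ X := C }, _⟩ B m hm,
      CommGrpAbLib.hom_ext hpm, SchDesc.IsFpqc.of_quasiCompact p.left, (inferInstance : Mono m)⟩
  · haveI := A.property.1
    haveI := A.property.2.1
    haveI := A.property.2.2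
    haveI := B.property.1
    haveI := B.property.2.1
    haveI := B.property.2.2
    haveI := hi
    haveI : Mono (CommGrpAbLib.und i).left := inferInstance
    haveI : QuasiCompact (CommGrpAbLib.und i).left := by
      haveI : IsSeparated B.obj.X.hom := inferInstance
      haveI : QuasiCompact ((CommGrpAbLib.und i).left ≫ B.obj.X.hom) := by rw [Over.w (CommGrpAbLib.und i)]; infer_instance
      exact QuasiCompact.of_comp (CommGrpAbLib.und i).left B.obj.X.hom
    haveI : IsClosedImmersion (CommGrpAbLib.und i).left := S3036.result k A.obj.X B.obj.X (CommGrpAbLib.und i)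
    have hN : AlgGrp.IsNormalHom (CommGrpAbLib.und i) := fun T g n => ⟨n, by rw [mul_comm g, mul_inv_cancel_right]⟩
    obtain ⟨Q, hQ, q, hq, hQa, hQl, hqf, hqs, hk⟩ := S3278.result k B.obj.X A.obj.X (CommGrpAbLib.und i) hN
    haveI := hq
    haveI := hQa
    haveI := hQl
    haveI := hqf
    haveI := hqs
    haveI : QuasiCompact q.left := by
      haveI : QuasiCompact (q.left ≫ Q.hom) := by rw [Over.w q]; infer_instance
      exact QuasiCompact.of_comp q.left Q.hom
    haveI : SchDesc.IsFpqc q.left := SchDesc.IsFpqc.of_quasiCompact q.left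
    haveI := CommGrpAbLib.isComm_of_fpqc q
    exact ⟨⟨{ X := Q }, ⟨hQl, inferInstance, hQa⟩⟩, @CommGrpAbLib.mkHom _ _ B ⟨{ X := Q }, _⟩ q hq,
      (inferInstance : SchDesc.IsFpqc q.left), hk⟩

end Groth.Agent.S5352
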