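import Groth.Statements.S5354
import Mathlib
set_option backward.isDefEq.respectTransparency false
open CategoryTheory CategoryTheory.Limits CategoryTheory.MonoidalCategory CategoryTheory.CartesianMonoidalCategory CategoryTheory.MonObj
-- import your own Groth.Agent.* helpers here

set_option autoImplicit false
universe u
open CategoryTheory CategoryTheory.Limits MonoidalCategory CartesianMonoidalCategory MonObj GrpObj AlgebraicGeometry
open SGA3

namespace Groth.Agent.S5354

/-- Let G be a group scheme over a field k (not assumed of finite type). For every point x of G there is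
a point z of G ×_k G with product x whose two projections are maximal points of G (generic points of
irreducible components). -/
theorem result (k : Type u) [Field k] (G : Over (Spec (CommRingCat.of k))) [GrpObj G] (x : G.left) :
    ∃ z : ↥(G ⊗ G).left, μ[G].left.base z = x ∧
      closure {(fst G G).left.base z} ∈ irreducibleComponents ↥G.left ∧
      closure {(snd G G).left.base z} ∈ irreducibleComponents ↥G.left := by
  classical
  -- maximal points map to maximal points under flat maps
  have hmax : ∀ {A B : Scheme.{u}} (f : A ⟶ B) [Flat f] (ξ : A), closure ({ξ} : Set A) ∈ irreducibleComponents A →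
      closure ({f ξ} : Set B) ∈ irreducibleComponents B := by
    intro A B f _ ξ hξ
    obtain ⟨Z, hZ, hle⟩ := exists_mem_irreducibleComponents_subset_of_isIrreducible (closure {f ξ})
      isIrreducible_singleton.closure
    have hη : closure {hZ.1.genericPoint} = Z := by
      rw [hZ.1.closure_genericPoint (isClosed_of_mem_irreducibleComponents Z hZ)]
    have hsp : hZ.1.genericPoint ⤳ f ξ := specializes_iff_mem_closure.2 (by rw [hη]; exact hle (subset_closure rfl))
    obtain ⟨ξ', hξ', he⟩ := Flat.generalizingMap f hsp
    have h1 := hξ.2 isIrreducible_singleton.closure (closure_minimal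
      (Set.singleton_subset_iff.2 (specializes_iff_mem_closure.1 hξ')) isClosed_closure : closure {ξ} ⊆ closure {ξ'})
    have h2 : ξ ⤳ ξ' := specializes_iff_mem_closure.2 (h1 (subset_closure rfl))
    obtain rfl : ξ' = ξ := (hξ'.antisymm h2).eq
    rwa [he, hη]
  -- shearing
  let e : G ⊗ G ≅ G ⊗ G :=
    { hom := lift μ[G] (snd G G)
      inv := lift (fst G G * (snd G G)⁻¹) (snd G G)
      hom_inv_id := by
        ext1
        · simp only [Category.assoc, lift_fst, MonObj.comp_mul, GrpObj.comp_inv, lift_snd, Category.id_comp]
          rw [MonObj.mul_eq_mul, mul_inv_cancel_right]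
        · simp
      inv_hom_id := by
        ext1
        · simp only [Category.assoc, lift_fst, Category.id_comp]
          rw [MonObj.mul_eq_mul, MonObj.comp_mul, lift_fst, lift_snd, inv_mul_cancel_right]
        · simp }
  let e' : G ⊗ G ≅ G ⊗ G :=
    { hom := lift μ[G] (fst G G)
      inv := lift (snd G G) ((snd G G)⁻¹ * fst G G)
      hom_inv_id := by
        ext1
        · simp
        · simp only [Category.assoc, lift_snd, MonObj.comp_mul, GrpObj.comp_inv, lift_fst, Category.id_comp]
          rw [MonObj.mul_eq_mul, inv_mul_cancel_left]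
      inv_hom_id := by
        ext1
        · simp only [Category.assoc, lift_fst, Category.id_comp]
          rw [MonObj.mul_eq_mul, MonObj.comp_mul, lift_fst, lift_snd, mul_inv_cancel_left]
        · simp }
  have sq0 : IsPullback (fst G G).left (snd G G).left G.hom G.hom := IsPullback.of_hasPullback _ _
  have h1 : e.inv ≫ μ[G] = fst G G := by
    rw [show μ[G] = e.hom ≫ fst G G from (lift_fst _ _).symm, e.inv_hom_id_assoc]
  have h2 : e.inv ≫ snd G G = snd G G := lift_snd _ _
  have h1' : e'.inv ≫ μ[G] = fst G G := by
    rw [show μ[G] = e'.hom ≫ fst G G from (lift_fst _ _).symm, e'.inv_hom_id_assoc]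
  have h2' : e'.inv ≫ fst G G = snd G G := lift_fst _ _
  have sq : IsPullback μ[G].left (snd G G).left G.hom G.hom :=
    sq0.of_iso ((Over.forget _).mapIso e).symm (Iso.refl _) (Iso.refl _) (Iso.refl _)
      ((Category.comp_id _).trans (congrArg CommaMorphism.left h1).symm)
      ((Category.comp_id _).trans (congrArg CommaMorphism.left h2).symm) (by simp) (by simp)
  have sq' : IsPullback μ[G].left (fst G G).left G.hom G.hom :=
    sq0.of_iso ((Over.forget _).mapIso e').symm (Iso.refl _) (Iso.refl _) (Iso.refl _)
      ((Category.comp_id _).trans (congrArg CommaMorphism.left h1').symm)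
      ((Category.comp_id _).trans (congrArg CommaMorphism.left h2').symm) (by simp) (by simp)
  let m := μ[G].left
  haveI : Flat (G.left.fromSpecResidueField x ≫ G.hom) := inferInstance
  have hfl : ∀ (p : (G ⊗ G).left ⟶ G.left), IsPullback m p G.hom G.hom → Flat (m.fiberι x ≫ p) := fun p hp =>
    MorphismProperty.of_isPullback (P := @Flat)
      ((IsPullback.of_hasPullback m (G.left.fromSpecResidueField x)).paste_horiz hp.flip).flip inferInstance
  haveI := hfl _ sq
  haveI := hfl _ sq'
  haveI : Nonempty ↥(m.fiber x) := by
    haveI : Surjective m := by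
      refine ⟨fun y => ⟨(lift (𝟙 G) (1 : G ⟶ G)).left y, ?_⟩⟩
      rw [← Scheme.Hom.comp_apply, ← Over.comp_left, ← Hom.mul_def, _root_.mul_one]
      rfl
    obtain ⟨p, hp⟩ := m.surjective x
    exact ⟨(hp ▸ m.asFiber p : ↥(m.fiber x))⟩
  obtain ⟨Z, hZ, -⟩ := exists_mem_irreducibleComponents_subset_of_isIrreducible _
    (isIrreducible_singleton (x := Classical.arbitrary ↥(m.fiber x)))
  have hξ : closure ({hZ.1.genericPoint} : Set ↥(m.fiber x)) ∈ irreducibleComponents ↥(m.fiber x) := by
    rwa [hZ.1.closure_genericPoint (isClosed_of_mem_irreducibleComponents Z hZ)]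
  refine ⟨m.fiberι x hZ.1.genericPoint, ?_, ?_, ?_⟩
  · have : m.fiberι x hZ.1.genericPoint ∈ Set.range (m.fiberι x) := ⟨_, rfl⟩
    rw [m.range_fiberι] at this
    exact this
  · exact hmax (m.fiberι x ≫ (fst G G).left) _ hξ
  · exact hmax (m.fiberι x ≫ (snd G G).left) _ hξ

end Groth.Agent.S5354
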