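import Groth.Statements.S5355
import Groth.Agent.MonoFibre.HomFlat

set_option autoImplicit false
universe u
open CategoryTheory CategoryTheory.Limits MonoidalCategory CartesianMonoidalCategory MonObj GrpObj AlgebraicGeometry
open SGA3

namespace Groth.Agent.S5355

/-- Let f : G → H be a homomorphism of group schemes over a field k (not assumed of finite type) which
is quasi-compact and dominant. Then (i) f is surjective; (ii) if H is reduced, f is flat (hence
faithfully flat). -/
theorem result (k : Type u) [Field k] (G H : Over (Spec (CommRingCat.of k))) [GrpObj G] [GrpObj H]
    (f : G ⟶ H) [IsMonHom f] [QuasiCompact f.left] (hf : DenseRange f.left.base) :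
    Surjective f.left ∧ (IsReduced H.left → Flat f.left) := by
  exact ⟨MonoFibre.surjective_of_denseRange f hf, fun _ => MonoFibre.flat_of_denseRange f hf⟩

end Groth.Agent.S5355
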