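import Groth.Statements.S5359
import Groth.Agent.MonoEndoLib.Main


set_option autoImplicit false
universe u
open CategoryTheory CategoryTheory.Limits MonoidalCategory CartesianMonoidalCategory MonObj GrpObj AlgebraicGeometry
open SGA3

namespace Groth.Agent.S5359

open CategoryTheory CategoryTheory.Limits AlgebraicGeometry

open Groth.Agent CategoryTheory AlgebraicGeometry MonoidalCategory CartesianMonoidalCategory MonObj
set_option backward.isDefEq.respectTransparency false

/-- Let G be an S-group scheme and u : X → G a monomorphism of S-schemes with X of finite presentation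
over S. If a point g : T → G is such that, for every T' → T and every point x of X with values in
T', the conjugate g x g⁻¹ is again a point of X, then the same holds for g⁻¹: the transporter of X
into X coincides with the strict transporter (the normalizer of X). -/
theorem result (S : Scheme.{u}) (G X : Over S) [GrpObj G] (u : X ⟶ G) [Mono u]
    [LocallyOfFinitePresentation X.hom] [QuasiCompact X.hom] [QuasiSeparated X.hom]
    (T : Over S) (g : T ⟶ G)
    (hg : ∀ (T' : Over S) (t : T' ⟶ T) (x : T' ⟶ X), ∃ x' : T' ⟶ X, (t ≫ g) * (x ≫ u) * (t ≫ g)⁻¹ = x' ≫ u) :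
    ∀ (T' : Over S) (t : T' ⟶ T) (x : T' ⟶ X), ∃ x' : T' ⟶ X, (t ≫ g)⁻¹ * (x ≫ u) * (t ≫ g) = x' ≫ u := by
  obtain ⟨x₁, hx₁⟩ := hg (T ⊗ X) (fst T X) (snd T X)
  let φ : T ⊗ X ⟶ T ⊗ X := lift (fst T X) x₁
  have key : ∀ {W : Over S} (z : W ⟶ T ⊗ X),
      (z ≫ fst T X ≫ g) * (z ≫ snd T X ≫ u) * (z ≫ fst T X ≫ g)⁻¹ = z ≫ x₁ ≫ u := fun {W} z => by
    rw [← hx₁, MonObj.comp_mul, MonObj.comp_mul, GrpObj.comp_inv]
  haveI : Mono φ := ⟨fun {W} a b h => by
    have h1 : a ≫ fst T X = b ≫ fst T X := by
      simpa [φ] using congrArg (· ≫ fst T X) h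
    have h2 : a ≫ x₁ = b ≫ x₁ := by
      simpa [φ] using congrArg (· ≫ snd T X) h
    have h1' : a ≫ fst T X ≫ g = b ≫ fst T X ≫ g := by rw [← Category.assoc, h1, Category.assoc]
    have h3 : a ≫ x₁ ≫ u = b ≫ x₁ ≫ u := by rw [← Category.assoc, h2, Category.assoc]
    rw [← key a, ← key b, h1'] at h3
    refine CartesianMonoidalCategory.hom_ext _ _ h1 ((cancel_mono u).1 ?_)
    rw [Category.assoc, Category.assoc]
    exact mul_left_cancel (mul_right_cancel h3)⟩
  haveI : LocallyOfFinitePresentation (fst T X).left :=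
    MorphismProperty.pullback_fst T.hom X.hom inferInstance
  haveI : QuasiCompact (fst T X).left := MorphismProperty.pullback_fst T.hom X.hom inferInstance
  haveI : QuasiSeparated (fst T X).left := MorphismProperty.pullback_fst T.hom X.hom inferInstance
  haveI : IsIso φ.left := MonoEndoLib.isIso_of_mono (fst T X).left φ.left (by
    rw [← Over.comp_left]
    simp [φ])
  haveI : IsIso φ := by
    haveI : IsIso ((Over.forget S).map φ) := inferInstanceAs (IsIso φ.left)
    exact isIso_of_reflects_iso φ (Over.forget S)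
  intro T' t x
  let z : T' ⟶ T ⊗ X := lift t x ≫ inv φ
  have hz : z ≫ φ = lift t x := by simp [z]
  have h1 : z ≫ fst T X = t := by simpa [φ] using congrArg (· ≫ fst T X) hz
  have h2 : z ≫ x₁ = x := by simpa [φ] using congrArg (· ≫ snd T X) hz
  refine ⟨z ≫ snd T X, ?_⟩
  have h := key z
  rw [← Category.assoc z (fst T X), h1, ← Category.assoc z x₁, h2] at h
  rw [← h, show (z ≫ snd T X) ≫ u = z ≫ snd T X ≫ u from Category.assoc _ _ _]
  group


end Groth.Agent.S5359
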