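import Groth.Statements.S5360
import Groth.Agent.NilpGroupLib
import Groth.Agent.MonoEndoLib.Main

set_option autoImplicit false
set_option backward.isDefEq.respectTransparency false
set_option backward.isDefEq.respectTransparency.types false
universe u
open CategoryTheory CategoryTheory.Limits MonoidalCategory CartesianMonoidalCategory MonObj GrpObj AlgebraicGeometry
open SGA3

namespace Groth.Agent.S5360

/-- Let G be an S-scheme of finite presentation over S with an associative composition law m : G ×_S G →
G such that for every S-scheme S' and every point g of G with values in S' the left and right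
translations by g are injective on G(S'), and such that G has an S-point. Then G is an S-group
scheme: there is a group object structure on G over S whose multiplication is m. -/
theorem result (S : Scheme.{u}) (G : Over S)
    [LocallyOfFinitePresentation G.hom] [QuasiCompact G.hom] [QuasiSeparated G.hom]
    (m : G ⊗ G ⟶ G) (hassoc : (m ▷ G) ≫ m = (α_ G G G).hom ≫ (G ◁ m) ≫ m)
    (hl : ∀ (T : Over S) (g : T ⟶ G), Function.Injective (fun x : T ⟶ G => lift g x ≫ m))
    (hr : ∀ (T : Over S) (g : T ⟶ G), Function.Injective (fun x : T ⟶ G => lift x g ≫ m))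
    (e : 𝟙_ (Over S) ⟶ G) :
    ∃ inst : GrpObj G, inst.mul = m := by
  haveI : LocallyOfFinitePresentation (G ⊗ G).hom :=
    (inferInstance : LocallyOfFinitePresentation (Limits.pullback.fst G.hom G.hom ≫ G.hom))
  haveI : QuasiCompact (G ⊗ G).hom :=
    (inferInstance : QuasiCompact (Limits.pullback.fst G.hom G.hom ≫ G.hom))
  haveI : QuasiSeparated (G ⊗ G).hom :=
    (inferInstance : QuasiSeparated (Limits.pullback.fst G.hom G.hom ≫ G.hom))
  haveI : Mono (NilpGroup.shearL m) := by
    refine ⟨fun {T} a b h => ?_⟩
    have h1 : a ≫ fst G G = b ≫ fst G G := by simpa using congrArg (· ≫ fst G G) h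
    refine CartesianMonoidalCategory.hom_ext _ _ h1 (hl T (a ≫ fst G G) ?_)
    have h2 := congrArg (· ≫ snd G G) h
    simp only [Category.assoc, lift_snd] at h2
    show lift (a ≫ fst G G) (a ≫ snd G G) ≫ m = lift (a ≫ fst G G) (b ≫ snd G G) ≫ m
    conv_rhs => rw [h1]
    rw [← comp_lift, ← comp_lift, lift_fst_snd]
    simpa using h2
  haveI : Mono (NilpGroup.shearR m) := by
    refine ⟨fun {T} a b h => ?_⟩
    have h1 : a ≫ snd G G = b ≫ snd G G := by simpa using congrArg (· ≫ snd G G) h
    refine CartesianMonoidalCategory.hom_ext _ _ (hr T (a ≫ snd G G) ?_) h1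
    have h2 := congrArg (· ≫ fst G G) h
    simp only [Category.assoc, lift_fst] at h2
    show lift (a ≫ fst G G) (a ≫ snd G G) ≫ m = lift (b ≫ fst G G) (a ≫ snd G G) ≫ m
    conv_rhs => rw [h1]
    rw [← comp_lift, ← comp_lift, lift_fst_snd]
    simpa using h2
  haveI : IsIso (NilpGroup.shearL m) := by
    haveI : IsIso ((Over.forget S).map (NilpGroup.shearL m)) :=
      MonoEndoLib.isIso_of_mono (G ⊗ G).hom (NilpGroup.shearL m).left (Over.w _)
    exact isIso_of_reflects_iso _ (Over.forget S)
  haveI : IsIso (NilpGroup.shearR m) := by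
    haveI : IsIso ((Over.forget S).map (NilpGroup.shearR m)) :=
      MonoEndoLib.isIso_of_mono (G ⊗ G).hom (NilpGroup.shearR m).left (Over.w _)
    exact isIso_of_reflects_iso _ (Over.forget S)
  obtain ⟨inst, h⟩ := NilpGroup.exists_grpObj hassoc (NilpGroup.unitAt (P := m) e) (by
    rw [NilpGroup.unitAt_unique hassoc (P := m) (𝟙 G) (toUnit G ≫ e)]
    refine ((NilpGroup.existsUnique_shearL (P := m) (toUnit G ≫ e) (toUnit G ≫ e)).unique ?_
      (NilpGroup.mul_unitAt _))
    rw [← comp_lift_assoc, NilpGroup.mul_unitAt])
  exact ⟨inst, h⟩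

end Groth.Agent.S5360
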