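import Groth.Statements.S5363
import Groth.Agent.GrpSchLib.Component
import Groth.Agent.GrpSchLib.ClosedRestriction
import Groth.Agent.S6050

set_option autoImplicit false
universe u
open CategoryTheory CategoryTheory.Limits MonoidalCategory CartesianMonoidalCategory MonObj GrpObj AlgebraicGeometry
open SGA3

namespace Groth.Agent.S5363

open CategoryTheory CategoryTheory.Limits AlgebraicGeometry

open Groth.Agent
set_option backward.isDefEq.respectTransparency false

/-- Let G be a group scheme over a field k and g a k-rational point of G. Then the smallest closed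
subgroup scheme Γ of G through which g factors (the closed subgroup generated by g) is commutative. -/
theorem result (k : Type u) [Field k] (G : Over (Spec (CommRingCat.of k))) [GrpObj G]
    (g : 𝟙_ (Over (Spec (CommRingCat.of k))) ⟶ G) (Γ : Over (Spec (CommRingCat.of k))) [GrpObj Γ] (i : Γ ⟶ G) [IsMonHom i] [IsClosedImmersion i.left]
    (hf : ∃ f' : 𝟙_ (Over (Spec (CommRingCat.of k))) ⟶ Γ, f' ≫ i = g)
    (hmin : ∀ (Γ' : Over (Spec (CommRingCat.of k))) (_ : GrpObj Γ') (i' : Γ' ⟶ G), IsMonHom i' → IsClosedImmersion i'.left →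
        (∃ f'' : 𝟙_ (Over (Spec (CommRingCat.of k))) ⟶ Γ', f'' ≫ i' = g) → ∃ j : Γ ⟶ Γ', j ≫ i' = i) :
    IsCommMonObj Γ := by
  haveI : IsClosedImmersion η[Γ].left := by
    haveI : Subsingleton ↥(Spec (CommRingCat.of k)) := inferInstanceAs (Subsingleton (PrimeSpectrum k))
    exact isClosedImmersion_of_comp_eq_id Γ.hom η[Γ].left (Over.w η[Γ])
  haveI : IsSeparated Γ.hom := by
    rw [isSeparated_iff]
    exact (GrpSchLib.diagonal_iff_unit @IsClosedImmersion).mpr inferInstance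
  haveI : Mono i := Over.mono_of_mono_left i
  obtain ⟨g', hg'⟩ := hf
  -- a closed subgroup of `Γ` through which `g'` factors is everything
  have hgen : ∀ {Z : Over (Spec (CommRingCat.of k))} (e : Z ⟶ Γ), IsClosedImmersion e.left →
      (∃ z : 𝟙_ _ ⟶ Z, z ≫ e = 1) →
      (∀ (W : Over (Spec (CommRingCat.of k))) (a b : W ⟶ Z), ∃ c : W ⟶ Z, c ≫ e = (a ≫ e) * (b ≫ e)) →
      (∀ (W : Over (Spec (CommRingCat.of k))) (a : W ⟶ Z), ∃ c : W ⟶ Z, c ≫ e = (a ≫ e)⁻¹) →
      (∃ z : 𝟙_ _ ⟶ Z, z ≫ e = g') → ∀ {T : Over (Spec (CommRingCat.of k))} (x : T ⟶ Γ), ∃ z : T ⟶ Z, z ≫ e = x := by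
    intro Z e hci h1 hm hinv ⟨z, hz⟩ T x
    haveI := hci
    haveI : Mono e := Over.mono_of_mono_left e
    obtain ⟨str, hstr⟩ := S6050.S6050Aux.exists_grpObj_of_closed e (by
      obtain ⟨z₁, hz₁⟩ := h1
      exact ⟨z₁, by rw [hz₁, Hom.one_def, toUnit_unique (toUnit _) (𝟙 _), Category.id_comp]⟩) hm hinv
    letI := str
    haveI := hstr
    haveI : IsClosedImmersion (e ≫ i).left := by rw [Over.comp_left]; infer_instance
    obtain ⟨j, hj⟩ := hmin Z str (e ≫ i) inferInstance inferInstance ⟨z, by rw [← Category.assoc, hz, hg']⟩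
    refine ⟨x ≫ j, ?_⟩
    rw [← cancel_mono i, Category.assoc, Category.assoc, hj]
  -- everything commutes with `g'`
  have hgcomm : ∀ {T : Over (Spec (CommRingCat.of k))} (x : T ⟶ Γ), x * (toUnit T ≫ g') = (toUnit T ≫ g') * x := by
    intro T x
    let φ : Γ ⟶ Γ := 𝟙 Γ * (toUnit Γ ≫ g')
    let ψ : Γ ⟶ Γ := (toUnit Γ ≫ g') * 𝟙 Γ
    have hiff : ∀ {W : Over (Spec (CommRingCat.of k))} (a : W ⟶ Γ),
        (∃ c : W ⟶ equalizer φ ψ, c ≫ equalizer.ι φ ψ = a) ↔ Commute a (toUnit W ≫ g') := by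
      intro W a
      have e1 : a ≫ φ = a * (toUnit W ≫ g') := by
        simp only [φ, MonObj.comp_mul, Category.comp_id, ← Category.assoc, toUnit_unique (a ≫ toUnit Γ) (toUnit W)]
      have e2 : a ≫ ψ = (toUnit W ≫ g') * a := by
        simp only [ψ, MonObj.comp_mul, Category.comp_id, ← Category.assoc, toUnit_unique (a ≫ toUnit Γ) (toUnit W)]
      refine ⟨?_, fun h => ⟨equalizer.lift a (e1.trans (h.eq.trans e2.symm)), equalizer.lift_ι _ _⟩⟩
      rintro ⟨c, rfl⟩
      refine (e1.symm.trans ?_).trans e2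
      rw [Category.assoc, Category.assoc, equalizer.condition]
    refine ((hiff x).1 (hgen (equalizer.ι φ ψ) inferInstance ((hiff 1).2 (Commute.one_left _))
      (fun W a b => (hiff _).2 (((hiff (a ≫ _)).1 ⟨a, rfl⟩).mul_left ((hiff (b ≫ _)).1 ⟨b, rfl⟩)))
      (fun W a => (hiff _).2 ((hiff (a ≫ _)).1 ⟨a, rfl⟩).inv_left)
      ((hiff g').2 ?_) x)).eq
    rw [toUnit_unique (toUnit _) (𝟙 _), Category.id_comp]
  -- the centre
  let m₁ : Γ ⊗ Γ ⟶ Γ := μ
  let m₂ : Γ ⊗ Γ ⟶ Γ := lift (snd Γ Γ) (fst Γ Γ) ≫ μ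
  let ie := equalizer.ι m₁ m₂
  haveI : IsClosedImmersion ie.left := inferInstance
  haveI : IsClosedImmersion (ie.left : _ ⟶ pullback Γ.hom Γ.hom) := ‹IsClosedImmersion ie.left›
  obtain ⟨Z₀, i₀, hi₀, hZ⟩ := GrpSchLib.ClosedRestriction.exists_restriction Γ.hom Γ.hom
    (ie.left : (equalizer m₁ m₂).left ⟶ pullback Γ.hom Γ.hom)
  have hswap : ∀ {T' : Over (Spec (CommRingCat.of k))} (a b : T' ⟶ Γ), lift a b ≫ m₂ = b * a := fun a b => by
    rw [Hom.mul_def, ← Category.assoc]
    congr 1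
    ext <;> simp
  let ez : Over.mk (i₀ ≫ Γ.hom) ⟶ Γ := Over.homMk i₀ rfl
  have hcent : ∀ {T : Over (Spec (CommRingCat.of k))} (a : T ⟶ Γ), (∃ z : T ⟶ Over.mk (i₀ ≫ Γ.hom), z ≫ ez = a) ↔
      ∀ (T' : Over (Spec (CommRingCat.of k))) (h : T' ⟶ T) (b : T' ⟶ Γ), Commute (h ≫ a) b := by
    intro T a
    have hG : (∃ z : T ⟶ Over.mk (i₀ ≫ Γ.hom), z ≫ ez = a) ↔
        GrpSchLib.ClosedRestriction.Good Γ.hom Γ.hom (ie.left : (equalizer m₁ m₂).left ⟶ pullback Γ.hom Γ.hom) a.left := by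
      refine Iff.trans ⟨?_, ?_⟩ (hZ a.left)
      · rintro ⟨z, rfl⟩
        exact ⟨z.left, rfl⟩
      · rintro ⟨z, hz⟩
        exact ⟨Over.homMk z (show z ≫ i₀ ≫ Γ.hom = T.hom by rw [← Category.assoc, hz, Over.w a]),
          Over.OverMorphism.ext hz⟩
    rw [hG]
    constructor
    · rintro ⟨e, he⟩ T' h b
      let P := lift (h ≫ a) b
      let l : T'.left ⟶ pullback (a.left ≫ Γ.hom) Γ.hom := pullback.lift h.left b.left (by
        rw [Over.w a, Over.w b, Over.w h])
      have hP : P.left = (l ≫ e) ≫ ie.left := by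
        refine Eq.trans ?_ ((congrArg (l ≫ ·) he).symm.trans (Category.assoc _ _ _).symm)
        apply pullback.hom_ext
        · exact (show P.left ≫ pullback.fst Γ.hom Γ.hom = (h ≫ a).left from pullback.lift_fst (h ≫ a).left b.left (by rw [Over.w, Over.w])).trans
            (((Category.assoc _ _ _).trans (congrArg (l ≫ ·) (GrpSchLib.ClosedRestriction.prodMap_fst _ _ a.left))).trans
              (pullback.lift_fst_assoc _ _ _ _)).symm
        · exact (show P.left ≫ pullback.snd Γ.hom Γ.hom = b.left from pullback.lift_snd (h ≫ a).left b.left (by rw [Over.w, Over.w])).trans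
            (((Category.assoc _ _ _).trans (congrArg (l ≫ ·) (GrpSchLib.ClosedRestriction.prodMap_snd _ _ a.left))).trans
              (pullback.lift_snd _ _ _)).symm
      show (h ≫ a) * b = b * (h ≫ a)
      rw [← hswap (h ≫ a) b, Hom.mul_def]
      apply Over.OverMorphism.ext
      rw [Over.comp_left, Over.comp_left, hP, Category.assoc _ ie.left m₂.left]
      refine (Category.assoc _ _ _).trans (congrArg ((l ≫ e) ≫ ·) ?_)
      exact congrArg (·.left) (equalizer.condition m₁ m₂)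
    · intro hc
      let T' : Over (Spec (CommRingCat.of k)) := Over.mk (pullback.fst (a.left ≫ Γ.hom) Γ.hom ≫ T.hom)
      let h : T' ⟶ T := Over.homMk (pullback.fst _ _) rfl
      let b : T' ⟶ Γ := Over.homMk (pullback.snd (a.left ≫ Γ.hom) Γ.hom)
        (show pullback.snd _ _ ≫ Γ.hom = pullback.fst _ _ ≫ T.hom by rw [← pullback.condition, Over.w a])
      have hh : lift (h ≫ a) b ≫ m₁ = lift (h ≫ a) b ≫ m₂ := by
        rw [hswap, ← (hc T' h b).eq, Hom.mul_def]
      refine ⟨(equalizer.lift _ hh).left, ?_⟩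
      refine (congrArg (·.left) (equalizer.lift_ι _ hh)).trans ?_
      apply pullback.hom_ext
      · exact (show (lift (h ≫ a) b).left ≫ pullback.fst Γ.hom Γ.hom = (h ≫ a).left from pullback.lift_fst (h ≫ a).left b.left (by rw [Over.w, Over.w])).trans
          (GrpSchLib.ClosedRestriction.prodMap_fst Γ.hom Γ.hom a.left).symm
      · exact (show (lift (h ≫ a) b).left ≫ pullback.snd Γ.hom Γ.hom = b.left from pullback.lift_snd (h ≫ a).left b.left (by rw [Over.w, Over.w])).trans
          (GrpSchLib.ClosedRestriction.prodMap_snd Γ.hom Γ.hom a.left).symm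
  have hall : ∀ {T : Over (Spec (CommRingCat.of k))} (a : T ⟶ Γ) (b : T ⟶ Γ), a * b = b * a := by
    intro T a b
    have hz := hgen ez hi₀
      ((hcent 1).2 fun T' h c => by rw [MonObj.comp_one]; exact Commute.one_left _)
      (fun W p q => (hcent _).2 fun T' h c => by
        rw [MonObj.comp_mul]
        exact ((hcent (p ≫ ez)).1 ⟨p, rfl⟩ T' h c).mul_left ((hcent (q ≫ ez)).1 ⟨q, rfl⟩ T' h c))
      (fun W p => (hcent _).2 fun T' h c => by
        rw [GrpObj.comp_inv]
        exact ((hcent (p ≫ ez)).1 ⟨p, rfl⟩ T' h c).inv_left)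
      ((hcent g').2 fun T' h c => by
        rw [toUnit_unique h (toUnit T')]
        exact (hgcomm c).symm) a
    have := (hcent a).1 hz T (𝟙 T) b
    rw [Category.id_comp] at this
    exact this
  constructor
  have hb : (β_ Γ Γ).hom ≫ μ = snd Γ Γ * fst Γ Γ := by
    rw [Hom.mul_def]
    congr 1
  rw [hb, hall, Hom.mul_def, CartesianMonoidalCategory.lift_fst_snd, Category.id_comp]


end Groth.Agent.S5363
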