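import Groth.Statements.S5369
import Groth.Agent.GrpQuotLib.QuotProp
-- import your own Groth.Agent.* helpers here

set_option autoImplicit false
universe u
open CategoryTheory CategoryTheory.Limits MonoidalCategory CartesianMonoidalCategory MonObj GrpObj AlgebraicGeometry
open SGA3

namespace Groth.Agent.S5369

/-- Let u : G' → G be a monomorphism of S-group schemes and p : G → G'' a morphism of S-schemes which is
covering for the fpqc topology (some Z → G'' which is flat, surjective, with every affine open of
G'' the image of a quasi-compact open of Z, factors through p) and such that the square (g, h) ↦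
g·u(h), first projection G ×_S G' → G, p, p is cartesian, so that G'' represents the fpqc quotient
sheaf G/G'. Let ε'' be the composite of the unit section of G with p. Then the square formed by u,
the structure morphism G' → S, p and ε'' is cartesian; u is an immersion; and G'' is separated over
S if and only if u is a closed immersion, if and only if ε'' is a closed immersion. -/
theorem result (S : Scheme.{u}) (G G' G'' : Over S) [GrpObj G] [GrpObj G']
    (u : G' ⟶ G) [IsMonHom u] [Mono u] (p : G ⟶ G'')
    (hcov : (∃ (Z : Scheme.{u}) (q : Z ⟶ G''.left) (r : Z ⟶ G.left), r ≫ p.left = q ∧ Surjective q ∧ Flat q ∧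
        ∀ V : G''.left.Opens, IsAffineOpen V → ∃ W : Z.Opens, IsCompact (W : Set Z) ∧ q.base '' (W : Set Z) = (V : Set G''.left)))
    (hsq : IsPullback ((G ◁ u) ≫ μ[G]) (fst G G') p p) :
    IsPullback u (toUnit G') p (η[G] ≫ p) ∧ IsImmersion u.left ∧
    (IsSeparated G''.hom ↔ IsClosedImmersion u.left) ∧ (IsClosedImmersion u.left ↔ IsClosedImmersion (η[G] ≫ p).left) := by
  obtain ⟨Z, r, hr⟩ := GrpQuotLib.exists_isFpqc_factor p hcov
  haveI := hr
  have h0 := GrpQuotLib.isPullback_unit hsq
  have h1 := (h0.map (Over.forget S)).flip
  obtain ⟨he, hesep⟩ := GrpQuotLib.section_props (S := S) (η[G] ≫ p)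
  have hcl : IsClosedImmersion u.left → IsSeparated G''.hom := fun h => by
    haveI := h
    exact GrpQuotLib.isSeparated_of_isClosedImmersion hsq r
  refine ⟨h0, MorphismProperty.of_isPullback (P := @IsImmersion) h1 he, ⟨fun h =>
    MorphismProperty.of_isPullback (P := @IsClosedImmersion) h1 (hesep h), hcl⟩, ⟨fun h => hesep (hcl h), fun h => ?_⟩⟩
  exact MorphismProperty.of_isPullback (P := @IsClosedImmersion) h1 h

end Groth.Agent.S5369
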