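import Groth.Statements.S5370
import Groth.Agent.GrpQuotLib.QuotProp
import Groth.Agent.FpqcDesc.Stalk
-- import your own Groth.Agent.* helpers here

set_option autoImplicit false
universe u
open CategoryTheory CategoryTheory.Limits MonoidalCategory CartesianMonoidalCategory MonObj GrpObj AlgebraicGeometry
open SGA3

namespace Groth.Agent.S5370

/-- Let u : G' → G be a monomorphism of S-group schemes and p : G → G'' a morphism of S-schemes which is
covering for the fpqc topology (some Z → G'' which is flat, surjective, with every affine open of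
G'' the image of a quasi-compact open of Z, factors through p) and such that the square (g, h) ↦
g·u(h), first projection G ×_S G' → G, p, p is cartesian, so that G'' represents the fpqc quotient
sheaf G/G'. Then: (ix) if G is reduced, G'' is reduced; (xi) G' is flat over S if and only if p is
flat, and in that case G'' is flat over S if and only if G is flat over S. -/
theorem result (S : Scheme.{u}) (G G' G'' : Over S) [GrpObj G] [GrpObj G']
    (u : G' ⟶ G) [IsMonHom u] [Mono u] (p : G ⟶ G'')
    (hcov : (∃ (Z : Scheme.{u}) (q : Z ⟶ G''.left) (r : Z ⟶ G.left), r ≫ p.left = q ∧ Surjective q ∧ Flat q ∧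
        ∀ V : G''.left.Opens, IsAffineOpen V → ∃ W : Z.Opens, IsCompact (W : Set Z) ∧ q.base '' (W : Set Z) = (V : Set G''.left)))
    (hsq : IsPullback ((G ◁ u) ≫ μ[G]) (fst G G') p p) :
    (IsReduced G.left → IsReduced G''.left) ∧
    (Flat G'.hom ↔ Flat p.left) ∧ (Flat p.left → (Flat G''.hom ↔ Flat G.hom)) := by
  obtain ⟨Z, r, hr⟩ := GrpQuotLib.exists_isFpqc_factor p hcov
  haveI := hr
  haveI hq : SchDesc.IsFpqc (r.left ≫ p.left) := by rw [← Over.comp_left]; exact hr
  haveI : Surjective p.left := Surjective.of_comp r.left p.left
  haveI : IsZariskiLocalAtTarget (@Flat : MorphismProperty Scheme.{u}) :=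
    HasRingHomProperty.instIsZariskiLocalAtTarget _
  refine ⟨fun h => ?_, ⟨fun h => GrpQuotLib.prop_quotMap hsq (@Flat : MorphismProperty Scheme.{u}) inferInstance r h,
    fun h => ?_⟩, fun h => ⟨fun h' => ?_, fun h' => ?_⟩⟩
  · haveI := h
    haveI : ∀ y : G''.left, _root_.IsReduced (G''.left.presheaf.stalk y) := fun y => by
      obtain ⟨z, rfl⟩ := (r.left ≫ p.left).surjective y
      have hz := Groth.Agent.FlatDescStalk.stalkMap_injective (r.left ≫ p.left) z (Flat.stalkMap (r.left ≫ p.left) z)
      rw [Scheme.Hom.stalkMap_comp] at hz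
      have hz' : Function.Injective ((r.left.stalkMap z).hom ∘ (p.left.stalkMap (r.left z)).hom) := hz
      exact isReduced_of_injective (p.left.stalkMap (r.left z)).hom hz'.of_comp
    exact isReduced_of_isReduced_stalk _
  · exact MorphismProperty.of_isPullback (P := @Flat) ((GrpQuotLib.isPullback_unit hsq).map (Over.forget S)) h
  · rw [← Over.w p]
    haveI := h
    haveI := h'
    infer_instance
  · haveI := h
    haveI : Flat (p.left ≫ G''.hom) := by rw [Over.w p]; exact h'
    exact FlatDescStalk.flat_of_comp p.left G''.hom

end Groth.Agent.S5370
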