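import Groth.Statements.S5371
import Groth.Agent.GrpQuotLib.QuotProp
import Groth.Agent.FppfSrc.Scheme
import Groth.Agent.FppfSrc.Etale
-- import your own Groth.Agent.* helpers here

set_option autoImplicit false
universe u
open CategoryTheory CategoryTheory.Limits MonoidalCategory CartesianMonoidalCategory MonObj GrpObj AlgebraicGeometry
open SGA3

open scoped TensorProduct

namespace Groth.Agent.S5371

set_option maxHeartbeats 2000000

/-- The image of a discrete fibre under an open surjection is discrete. -/
theorem isDiscrete_of_isOpenMap {X Y : Type*} [TopologicalSpace X] [TopologicalSpace Y] (f : X → Y) (hc : Continuous f)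
    (ho : IsOpenMap f) (hs : Function.Surjective f) {t : Set Y} (h : IsDiscrete (f ⁻¹' t)) : IsDiscrete t := by
  rw [isDiscrete_iff_forall_exists_isOpen] at h ⊢
  intro y hy
  obtain ⟨x, rfl⟩ := hs y
  obtain ⟨O, hO, he⟩ := h x hy
  refine ⟨f '' O, ho O hO, ?_⟩
  ext z
  constructor
  · rintro ⟨⟨a, ha, rfl⟩, hz⟩
    have : a ∈ ({x} : Set X) := he ▸ ⟨ha, hz⟩
    rw [Set.mem_singleton_iff.mp this]
    rfl
  · rintro rfl
    have : x ∈ O ∩ f ⁻¹' t := he.symm ▸ rfl
    exact ⟨⟨x, this.1, rfl⟩, hy⟩

theorem quasiCompact_of_surjective_comp {X Y Z : Scheme.{u}} (f : X ⟶ Y) (g : Y ⟶ Z) [Surjective f]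
    (h : QuasiCompact (f ≫ g)) : QuasiCompact g := by
  refine ⟨fun U hU hc => ?_⟩
  have h1 : g ⁻¹' U = f '' ((f ≫ g) ⁻¹' U) := by
    rw [Scheme.Hom.comp_base, TopCat.coe_comp, Set.preimage_comp, Set.image_preimage_eq _ f.surjective]
  rw [h1]
  exact (QuasiCompact.isCompact_preimage U hU hc).image f.continuous

theorem quasiSeparated_of_surjective {S : Scheme.{u}} {G Q : Over S} (p : G ⟶ Q) [Surjective p.left]
    [QuasiCompact p.left] [QuasiSeparated G.hom] : QuasiSeparated Q.hom := by
  refine ⟨quasiCompact_of_surjective_comp p.left (pullback.diagonal Q.hom) ?_⟩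
  have e : p.left ≫ pullback.diagonal Q.hom = pullback.diagonal G.hom ≫
      pullback.map G.hom G.hom Q.hom Q.hom p.left p.left (CategoryStruct.id S)
        (by rw [Over.w p, Category.comp_id]) (by rw [Over.w p, Category.comp_id]) := by
    apply pullback.hom_ext
    · simp [pullback.map]
      erw [pullback.lift_fst]
      simp
    · simp [pullback.map]
      erw [pullback.lift_snd]
      simp
  haveI : QuasiCompact (pullback.map G.hom G.hom Q.hom Q.hom p.left p.left (CategoryStruct.id S)
        (by rw [Over.w p, Category.comp_id]) (by rw [Over.w p, Category.comp_id])) :=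
    MorphismProperty.pullbackMap (P := @QuasiCompact) ‹QuasiCompact p.left› ‹QuasiCompact p.left› (Over.w p).symm (Over.w p).symm
  rw [e]
  infer_instance

lemma descendsFppfSource_formallyUnramified :
    FppfSrc.DescendsFppfSource.{u} fun f => f.FormallyUnramified ∧ f.FiniteType := by
  intro A B C _ _ _ f g hg hff h
  have hfin := FppfSrc.descendsFppfSource_finiteType f g hg hff h.2
  refine ⟨?_, hfin⟩
  have h1 := h.1
  have h2 := h.2
  algebraize [f, g, g.comp f]
  haveI : Algebra.FiniteType A B := hfin
  rw [← RingHom.algebraMap_toAlgebra f, RingHom.formallyUnramified_algebraMap]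
  refine FppfSrc.formallyUnramified_of_fibre A B fun p _ => ?_
  let k := p.ResidueField
  let B' := p.Fiber B
  letI : Algebra B B' := Algebra.TensorProduct.rightAlgebra
  haveI : IsScalarTower A B B' := .of_algebraMap_eq fun r => by
    show algebraMap A (k ⊗[A] B) r = (1 : k) ⊗ₜ[A] algebraMap A B r
    rw [Algebra.TensorProduct.algebraMap_apply, Algebra.algebraMap_eq_smul_one,
      Algebra.algebraMap_eq_smul_one, TensorProduct.smul_tmul]
  let C' := B' ⊗[B] C
  let e : C' ≃ₐ[k] k ⊗[A] C := Algebra.IsPushout.cancelBaseChangeAlg A k B B' C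
  haveI : Algebra.FormallyUnramified k C' := Algebra.FormallyUnramified.of_equiv e.symm
  haveI : Algebra.FiniteType k C' := Algebra.FiniteType.equiv inferInstance e.symm
  exact FppfSrc.formallyUnramified_of_faithfullyFlat_field k B' C'

/-- Let u : G' → G be a monomorphism of S-group schemes and p : G → G'' a morphism of S-schemes which is
covering for the fpqc topology (some Z → G'' which is flat, surjective, with every affine open of
G'' the image of a quasi-compact open of Z, factors through p) and such that the square (g, h) ↦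
g·u(h), first projection G ×_S G' → G, p, p is cartesian, so that G'' represents the fpqc quotient
sheaf G/G'. (xii) G' is flat and locally of finite presentation over S if and only if p is
surjective, flat and locally of finite presentation; in that case, if G is locally of finite
presentation (resp. locally of finite type, of finite type, smooth, etale, unramified, locally
quasi-finite) over S, so is G''. (xiii) If G' is flat and of finite presentation over S then p is of
finite presentation, and G is of finite presentation over S if and only if G'' is. -/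
theorem result (S : Scheme.{u}) (G G' G'' : Over S) [GrpObj G] [GrpObj G']
    (u : G' ⟶ G) [IsMonHom u] [Mono u] (p : G ⟶ G'')
    (hcov : (∃ (Z : Scheme.{u}) (q : Z ⟶ G''.left) (r : Z ⟶ G.left), r ≫ p.left = q ∧ Surjective q ∧ Flat q ∧
        ∀ V : G''.left.Opens, IsAffineOpen V → ∃ W : Z.Opens, IsCompact (W : Set Z) ∧ q.base '' (W : Set Z) = (V : Set G''.left)))
    (hsq : IsPullback ((G ◁ u) ≫ μ[G]) (fst G G') p p) :
    ((Flat G'.hom ∧ LocallyOfFinitePresentation G'.hom) ↔
      (Surjective p.left ∧ Flat p.left ∧ LocallyOfFinitePresentation p.left)) ∧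
    (Flat p.left → LocallyOfFinitePresentation p.left →
      (LocallyOfFinitePresentation G.hom → LocallyOfFinitePresentation G''.hom) ∧
      (LocallyOfFiniteType G.hom → LocallyOfFiniteType G''.hom) ∧
      (LocallyOfFiniteType G.hom → QuasiCompact G.hom → QuasiCompact G''.hom) ∧
      (Smooth G.hom → Smooth G''.hom) ∧ (Etale G.hom → Etale G''.hom) ∧
      (FormallyUnramified G.hom → LocallyOfFinitePresentation G.hom → FormallyUnramified G''.hom) ∧
      (LocallyQuasiFinite G.hom → LocallyOfFiniteType G.hom → LocallyQuasiFinite G''.hom)) ∧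
    (Flat G'.hom → LocallyOfFinitePresentation G'.hom → QuasiCompact G'.hom → QuasiSeparated G'.hom →
      QuasiCompact p.left ∧ QuasiSeparated p.left ∧ LocallyOfFinitePresentation p.left ∧
      ((LocallyOfFinitePresentation G.hom ∧ QuasiCompact G.hom ∧ QuasiSeparated G.hom) ↔
        (LocallyOfFinitePresentation G''.hom ∧ QuasiCompact G''.hom ∧ QuasiSeparated G''.hom))) := by
  obtain ⟨Z, r, hr⟩ := GrpQuotLib.exists_isFpqc_factor p hcov
  haveI := hr
  haveI hq : SchDesc.IsFpqc (r.left ≫ p.left) := by rw [← Over.comp_left]; exact hr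
  haveI hps : Surjective p.left := Surjective.of_comp r.left p.left
  haveI : IsZariskiLocalAtTarget (@Flat : MorphismProperty Scheme.{u}) :=
    HasRingHomProperty.instIsZariskiLocalAtTarget _
  haveI : IsZariskiLocalAtTarget (@LocallyOfFinitePresentation : MorphismProperty Scheme.{u}) :=
    HasRingHomProperty.instIsZariskiLocalAtTarget _
  have h0 := (GrpQuotLib.isPullback_unit hsq).map (Over.forget S)
  have hF : Flat G'.hom → Flat p.left :=
    fun h => GrpQuotLib.prop_quotMap hsq (@Flat : MorphismProperty Scheme.{u}) inferInstance r h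
  have hP : LocallyOfFinitePresentation G'.hom → LocallyOfFinitePresentation p.left :=
    fun h => GrpQuotLib.prop_quotMap hsq (@LocallyOfFinitePresentation : MorphismProperty Scheme.{u}) inferInstance r h
  refine ⟨⟨fun h => ⟨hps, hF h.1, hP h.2⟩, fun h =>
    ⟨MorphismProperty.of_isPullback (P := @Flat) h0 h.2.1,
      MorphismProperty.of_isPullback (P := @LocallyOfFinitePresentation) h0 h.2.2⟩⟩,
    fun hf hp => ?_, fun h1 h2 h3 h4 => ?_⟩
  · haveI := hf
    haveI := hp
    have hw := Over.w p
    refine ⟨fun h => ?_, fun h => ?_, fun _ h => ?_, fun h => ?_, fun h => ?_, fun h h' => ?_, fun h h' => ?_⟩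
    · haveI : LocallyOfFinitePresentation (p.left ≫ G''.hom) := by rw [hw]; exact h
      exact FppfSrc.locallyOfFinitePresentation_of_precomp_fppf p.left G''.hom
    · haveI : LocallyOfFiniteType (p.left ≫ G''.hom) := by rw [hw]; exact h
      exact FppfSrc.locallyOfFiniteType_of_precomp_fppf p.left G''.hom
    · exact quasiCompact_of_surjective_comp p.left G''.hom (by rw [hw]; exact h)
    · haveI : Smooth (p.left ≫ G''.hom) := by rw [hw]; exact h
      exact FppfSrc.smooth_of_precomp_fppf p.left G''.hom
    · exact FppfSrc.of_precomp_fppf (P := @Etale) FppfSrc.descendsFppfSource_etale p.left G''.hom (by rw [hw]; exact h)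
    · haveI := HasRingHomProperty.inf (P := (@FormallyUnramified : MorphismProperty Scheme.{u}))
        (P' := (@LocallyOfFiniteType : MorphismProperty Scheme.{u}))
      exact (FppfSrc.of_precomp_fppf
        (P := (@FormallyUnramified : MorphismProperty Scheme.{u}) ⊓ @LocallyOfFiniteType)
        descendsFppfSource_formallyUnramified p.left G''.hom
        (by rw [hw]; haveI := h'; exact ⟨h, inferInstance⟩)).1
    · haveI : LocallyOfFiniteType (p.left ≫ G''.hom) := by rw [hw]; exact h'
      haveI := FppfSrc.locallyOfFiniteType_of_precomp_fppf p.left G''.hom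
      haveI := h
      refine locallyQuasiFinite_iff_isDiscrete_preimage_singleton.mpr fun s => ?_
      refine isDiscrete_of_isOpenMap p.left p.left.continuous p.left.isOpenMap p.left.surjective ?_
      rw [← Set.preimage_comp, show ⇑G''.hom ∘ ⇑p.left = ⇑G.hom by rw [← hw, Scheme.Hom.comp_base]; rfl]
      exact G.hom.isDiscrete_preimage_singleton s
  · haveI := hF h1
    haveI := hP h2
    haveI hqc : QuasiCompact p.left := GrpQuotLib.prop_quotMap hsq (@QuasiCompact : MorphismProperty Scheme.{u}) FpqcDesc.quasiCompact_descends r h3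
    haveI hqs : QuasiSeparated p.left := GrpQuotLib.prop_quotMap hsq (@QuasiSeparated : MorphismProperty Scheme.{u}) FpqcDesc.quasiSeparated_descends r h4
    refine ⟨hqc, hqs, hP h2, fun h => ?_, fun h => ?_⟩
    · obtain ⟨a1, a2, a3⟩ := h
      haveI := a1
      haveI := a2
      haveI := a3
      haveI : LocallyOfFinitePresentation (p.left ≫ G''.hom) := by rw [Over.w p]; exact a1
      exact ⟨FppfSrc.locallyOfFinitePresentation_of_precomp_fppf p.left G''.hom,
        quasiCompact_of_surjective_comp p.left G''.hom (by rw [Over.w p]; exact a2),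
        quasiSeparated_of_surjective p⟩
    · obtain ⟨a1, a2, a3⟩ := h
      haveI := a1
      haveI := a2
      haveI := a3
      rw [← Over.w p]
      exact ⟨inferInstance, inferInstance, inferInstance⟩

end Groth.Agent.S5371
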