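import Groth.Statements.S5372
import Groth.Agent.GrpQuotLib.Descend
-- import your own Groth.Agent.* helpers here

set_option autoImplicit false
universe u
open CategoryTheory CategoryTheory.Limits MonoidalCategory CartesianMonoidalCategory MonObj GrpObj AlgebraicGeometry
open SGA3

namespace Groth.Agent.S5372

/-- Let u : G' → G be a monomorphism of S-group schemes which is normal, and p : G → G'' a morphism of
S-schemes which is covering for the fpqc topology (some Z → G'' which is flat, surjective, with
every affine open of G'' the image of a quasi-compact open of Z, factors through p) and such that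
the square (g, h) ↦ g·u(h), first projection G ×_S G' → G, p, p is cartesian, so that G'' represents
the fpqc quotient sheaf G/G'. Then there is a structure of S-group scheme on G'' for which p is a
homomorphism, and it is unique: any morphism m : G'' ×_S G'' → G'' with (p × p) followed by m equal
to the multiplication of G followed by p is its multiplication. -/
theorem result (S : Scheme.{u}) (G G' G'' : Over S) [GrpObj G] [GrpObj G']
    (u : G' ⟶ G) [IsMonHom u] [Mono u] (p : G ⟶ G'')
    (hcov : (∃ (Z : Scheme.{u}) (q : Z ⟶ G''.left) (r : Z ⟶ G.left), r ≫ p.left = q ∧ Surjective q ∧ Flat q ∧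
        ∀ V : G''.left.Opens, IsAffineOpen V → ∃ W : Z.Opens, IsCompact (W : Set Z) ∧ q.base '' (W : Set Z) = (V : Set G''.left)))
    (hsq : IsPullback ((G ◁ u) ≫ μ[G]) (fst G G') p p) (hN : AlgGrp.IsNormalHom u) :
    ∃ _ : GrpObj G'', IsMonHom p ∧ ∀ m : G'' ⊗ G'' ⟶ G'', (p ⊗ₘ p) ≫ m = μ[G] ≫ p → m = μ[G''] := by
  obtain ⟨Z, q, r, hrq, hqs, hqf, hW⟩ := hcov
  let Z' : Over S := Over.mk (q ≫ G''.hom)
  let r' : Z' ⟶ G := Over.homMk r (show r ≫ G.hom = q ≫ G''.hom by rw [← hrq, Category.assoc, Over.w p])
  have hqc : QuasiCompactCover (PreZeroHypercover.singleton.{0} q) := ⟨fun {U} hU => by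
    obtain ⟨W, hWc, hWU⟩ := hW U hU
    exact .of_finite (κ := Unit) (fun _ => ⟨⟩) (fun _ => W) (fun _ => hWc) ((Set.iUnion_const _).trans hWU)⟩
  haveI : SchDesc.IsFpqc (r' ≫ p).left := by
    rw [Over.comp_left, show r'.left ≫ p.left = q from hrq]
    exact ⟨hqf, hqs, hqc⟩
  obtain ⟨s, hhom, hm, -⟩ := GrpQuotLib.existsUnique_grpObj u p r' hsq hN
  exact ⟨s, hhom, hm⟩

end Groth.Agent.S5372
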