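import Groth.Statements.S5373
import Mathlib.AlgebraicGeometry.Morphisms.Flat
import Mathlib.AlgebraicGeometry.Morphisms.Immersion
import Mathlib.AlgebraicGeometry.Morphisms.Separated

set_option autoImplicit false
universe u
open CategoryTheory CategoryTheory.Limits MonoidalCategory CartesianMonoidalCategory MonObj GrpObj AlgebraicGeometry
open SGA3

namespace Groth.Agent.S5373

theorem diag_square {A B C : Scheme.{u}} (a : A ⟶ B) (b : B ⟶ C) (c : A ⟶ C) (hc : a ≫ b = c) :
    IsPullback (pullback.fst a a ≫ a)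
      (pullback.lift (pullback.fst a a) (pullback.snd a a) (by rw [← hc, pullback.condition_assoc]) : pullback a a ⟶ pullback c c)
      (pullback.diagonal b) (pullback.map c c b b a a (𝟙 _) (by simp [hc]) (by simp [hc])) := by
  subst hc
  convert pullback_map_diagonal_isPullback a a b using 1 <;> first | rfl | (ext <;> simp)

theorem isClosed_of_fpqc {Z Y S : Scheme.{u}} (q : Z ⟶ Y) [Flat q] (b : Y ⟶ S) (z : Z ⟶ S) (hz : q ≫ b = z)
    (hcov : ∀ V : Y.Opens, IsAffineOpen V → ∃ W : Z.Opens, IsCompact (W : Set Z) ∧ q.base '' (W : Set Z) = (V : Set Y))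
    (C : Set ↥(pullback b b))
    (hC : IsClosed ((pullback.map z z b b q q (𝟙 _) (by simp [hz]) (by simp [hz])).base ⁻¹' C)) : IsClosed C := by
  rw [← isOpen_compl_iff, isOpen_iff_forall_mem_open]
  intro x hx
  obtain ⟨V, hV, hxV, -⟩ := exists_isAffineOpen_mem_and_subset (x := (pullback.fst b b) x) (U := ⊤) trivial
  obtain ⟨V', hV', hxV', -⟩ := exists_isAffineOpen_mem_and_subset (x := (pullback.snd b b) x) (U := ⊤) trivial
  obtain ⟨W, hW, hWV⟩ := hcov V hV
  obtain ⟨W', hW', hWV'⟩ := hcov V' hV'
  have hle : W ≤ q ⁻¹ᵁ V := fun w hw => (hWV.subset ⟨w, hw, rfl⟩ :)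
  have hle' : W' ≤ q ⁻¹ᵁ V' := fun w hw => (hWV'.subset ⟨w, hw, rfl⟩ :)
  have piece : ∀ (V : Y.Opens) (W : Z.Opens) (h : W ≤ q ⁻¹ᵁ V), IsAffineOpen V → IsCompact (W : Set Z) →
      q.base '' (W : Set Z) = (V : Set Y) →
      QuasiCompact (q.resLE V W h) ∧ Surjective (q.resLE V W h) := by
    intro V W h hV hW hWV
    haveI : IsAffine (V : Scheme.{u}) := hV
    haveI : CompactSpace ↥(W : Scheme.{u}) := isCompact_iff_compactSpace.1 hW
    refine ⟨HasAffineProperty.iff_of_isAffine.2 ‹_›, ⟨fun v => ?_⟩⟩
    obtain ⟨w, hw, hwv⟩ := hWV.ge v.2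
    refine ⟨⟨w, hw⟩, V.ι.isOpenEmbedding.injective ?_⟩
    rw [← Scheme.Hom.comp_apply, Scheme.Hom.resLE_comp_ι]
    exact hwv
  obtain ⟨hq1, hs1⟩ := piece V W hle hV hW hWV
  obtain ⟨hq2, hs2⟩ := piece V' W' hle' hV' hW' hWV'
  let g := pullback.map (W.ι ≫ z) (W'.ι ≫ z) (V.ι ≫ b) (V'.ι ≫ b) (q.resLE V W hle) (q.resLE V' W' hle') (𝟙 _)
    (by rw [Category.comp_id, Scheme.Hom.resLE_comp_ι_assoc, hz]) (by rw [Category.comp_id, Scheme.Hom.resLE_comp_ι_assoc, hz])
  let o := pullback.map (V.ι ≫ b) (V'.ι ≫ b) b b V.ι V'.ι (𝟙 _) (by simp) (by simp)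
  let o' := pullback.map (W.ι ≫ z) (W'.ι ≫ z) z z W.ι W'.ι (𝟙 _) (by simp) (by simp)
  have e1 : V.ι ≫ b = V.ι ≫ b := rfl
  have stab : ∀ (P : MorphismProperty Scheme.{u}) [P.IsStableUnderBaseChange] [P.IsStableUnderComposition],
      P (q.resLE V W hle) → P (q.resLE V' W' hle') → P g := by
    intro P _ _ h1 h2
    exact MorphismProperty.pullbackMap h1 h2 (by rw [Scheme.Hom.resLE_comp_ι_assoc, hz]) (by rw [Scheme.Hom.resLE_comp_ι_assoc, hz])
  haveI : Flat g := stab @Flat inferInstance inferInstance
  haveI : QuasiCompact g := stab @QuasiCompact hq1 hq2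
  haveI : Surjective g := stab @Surjective hs1 hs2
  have hcomp : g ≫ o = o' ≫ pullback.map z z b b q q (𝟙 _) (by simp [hz]) (by simp [hz]) := by
    apply pullback.hom_ext
    · simp only [g, o, o', pullback.map, Category.assoc]
      erw [pullback.lift_fst, pullback.lift_fst, pullback.lift_fst_assoc, pullback.lift_fst_assoc]
      rw [Category.assoc, Category.assoc, Scheme.Hom.resLE_comp_ι]
    · simp only [g, o, o', pullback.map, Category.assoc]
      erw [pullback.lift_snd, pullback.lift_snd, pullback.lift_snd_assoc, pullback.lift_snd_assoc]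
      rw [Category.assoc, Category.assoc, Scheme.Hom.resLE_comp_ι]
  have hclosed : IsClosed (o.base ⁻¹' C) := by
    rw [← (Flat.isQuotientMap_of_surjective g).isClosed_preimage, ← Set.preimage_comp]
    have : (o.base ∘ g.base : _ → _) = (pullback.map z z b b q q (𝟙 _) (by simp [hz]) (by simp [hz])).base ∘ o'.base := by
      funext t
      exact (congrArg (fun φ => φ.base t) hcomp :)
    rw [this, Set.preimage_comp]
    exact hC.preimage o'.continuous
  have ho : o = (pullback.map (V.ι ≫ b) (V'.ι ≫ b) b b V.ι V'.ι (𝟙 _) (by simp) (by simp)) := rfl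
  haveI : IsOpenImmersion o := inferInstanceAs (IsOpenImmersion (pullback.map _ _ _ _ V.ι V'.ι (𝟙 _) _ _))
  refine ⟨o.base '' (o.base ⁻¹' C)ᶜ, ?_, o.isOpenEmbedding.isOpenMap _ hclosed.isOpen_compl, ?_⟩
  · rintro _ ⟨t, ht, rfl⟩; exact ht
  · have hxr : x ∈ Set.range o.base := by
      rw [Scheme.Pullback.range_map]
      exact ⟨⟨⟨_, hxV⟩, rfl⟩, ⟨⟨_, hxV'⟩, rfl⟩⟩
    obtain ⟨t, rfl⟩ := hxr
    exact ⟨t, hx, rfl⟩

/-- Let p : X → Y be a morphism of S-schemes and v : X ×_Y X → X ×_S X the canonical monomorphism (the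
graph of the effective equivalence relation defined by p). Then (i) v is an immersion, and a closed
immersion if Y is separated over S; (ii) if p is covering for the fpqc topology (some Z → Y which is
flat, surjective, with every affine open of Y the image of a quasi-compact open of Z, factors
through p), so that Y represents the quotient sheaf of X by this equivalence relation, and v is a
closed immersion, then Y is separated over S. -/
theorem result (S : Scheme.{u}) (X Y : Over S) (p : X ⟶ Y) :
    letI v : (pullback p p) ⟶ X ⊗ X := lift (pullback.fst p p) (pullback.snd p p)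
    IsImmersion v.left ∧ (IsSeparated Y.hom → IsClosedImmersion v.left) ∧
    ((∃ (Z : Scheme.{u}) (q : Z ⟶ Y.left) (r : Z ⟶ X.left), r ≫ p.left = q ∧ Surjective q ∧ Flat q ∧
        ∀ V : Y.left.Opens, IsAffineOpen V → ∃ W : Z.Opens, IsCompact (W : Set Z) ∧ q.base '' (W : Set Z) = (V : Set Y.left)) →
      IsClosedImmersion v.left → IsSeparated Y.hom) := by
  let v : (pullback p p) ⟶ X ⊗ X := lift (pullback.fst p p) (pullback.snd p p)
  show IsImmersion v.left ∧ (IsSeparated Y.hom → IsClosedImmersion v.left) ∧ (_ → IsClosedImmersion v.left → IsSeparated Y.hom)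
  let e : (pullback p p).left ≅ pullback p.left p.left := ((IsPullback.of_hasPullback p p).map (Over.forget S)).isoPullback
  have he1 : e.hom ≫ pullback.fst p.left p.left = (pullback.fst p p).left :=
    ((IsPullback.of_hasPullback p p).map (Over.forget S)).isoPullback_hom_fst
  have he2 : e.hom ≫ pullback.snd p.left p.left = (pullback.snd p p).left :=
    ((IsPullback.of_hasPullback p p).map (Over.forget S)).isoPullback_hom_snd
  let m : pullback p.left p.left ⟶ pullback X.hom X.hom :=
    pullback.lift (pullback.fst p.left p.left) (pullback.snd p.left p.left) (by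
      rw [← Over.w p, pullback.condition_assoc])
  have hv : v.left = e.hom ≫ m := by
    apply pullback.hom_ext
    · rw [Category.assoc, pullback.lift_fst, he1]
      exact congrArg CommaMorphism.left (lift_fst (pullback.fst p p) (pullback.snd p p))
    · rw [Category.assoc, pullback.lift_snd, he2]
      exact congrArg CommaMorphism.left (lift_snd (pullback.fst p p) (pullback.snd p p))
  have sq : IsPullback (pullback.fst p.left p.left ≫ p.left) m (pullback.diagonal Y.hom)
      (pullback.map X.hom X.hom Y.hom Y.hom p.left p.left (𝟙 _) (by simp) (by simp)) :=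
    diag_square p.left Y.hom X.hom (Over.w p)
  refine ⟨?_, fun hsep => ?_, ?_⟩
  · rw [hv, MorphismProperty.cancel_left_of_respectsIso (P := @IsImmersion)]
    exact MorphismProperty.of_isPullback sq inferInstance
  · haveI := hsep
    rw [hv, MorphismProperty.cancel_left_of_respectsIso (P := @IsClosedImmersion)]
    exact MorphismProperty.of_isPullback sq inferInstance
  · rintro ⟨Z, q, r, hrq, hqs, hqf, hcov⟩ hcl
    rw [hv, MorphismProperty.cancel_left_of_respectsIso (P := @IsClosedImmersion)] at hcl
    refine ⟨IsClosedImmersion.of_isPreimmersion _ ?_⟩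
    refine isClosed_of_fpqc q Y.hom (q ≫ Y.hom) rfl hcov _ ?_
    have hz : r ≫ X.hom = q ≫ Y.hom := by rw [← hrq, Category.assoc, Over.w p]
    let rr := pullback.map (q ≫ Y.hom) (q ≫ Y.hom) X.hom X.hom r r (𝟙 _) (by simp [hz]) (by simp [hz])
    have hfac : pullback.map (q ≫ Y.hom) (q ≫ Y.hom) Y.hom Y.hom q q (𝟙 _) (by simp) (by simp) =
        rr ≫ pullback.map X.hom X.hom Y.hom Y.hom p.left p.left (𝟙 _) (by simp) (by simp) := by
      apply pullback.hom_ext
      · simp only [rr, pullback.map, Category.assoc]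
        erw [pullback.lift_fst, pullback.lift_fst, pullback.lift_fst_assoc]
        rw [Category.assoc, hrq]
      · simp only [rr, pullback.map, Category.assoc]
        erw [pullback.lift_snd, pullback.lift_snd, pullback.lift_snd_assoc]
        rw [Category.assoc, hrq]
    rw [hfac, Scheme.Hom.comp_base, TopCat.coe_comp, Set.preimage_comp]
    refine IsClosed.preimage rr.continuous ?_
    have hrange : (pullback.map X.hom X.hom Y.hom Y.hom p.left p.left (𝟙 _) (by simp) (by simp)).base ⁻¹'
        Set.range (pullback.diagonal Y.hom).base = Set.range m.base := by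
      let ψ := pullback.map X.hom X.hom Y.hom Y.hom p.left p.left (𝟙 _) (by simp) (by simp)
      refine (Scheme.Pullback.range_fst ψ (pullback.diagonal Y.hom)).symm.trans ?_
      rw [← show sq.flip.isoPullback.hom ≫ pullback.fst ψ (pullback.diagonal Y.hom) = m from sq.flip.isoPullback_hom_fst]
      have hu : Set.range sq.flip.isoPullback.hom.base = Set.univ := Set.range_eq_univ.2 (Scheme.Hom.surjective _)
      rw [Scheme.Hom.comp_base, TopCat.coe_comp, Set.range_comp]
      exact (Set.image_univ.symm.trans (congrArg _ hu.symm) :)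
    rw [hrange]
    exact hcl.base_closed.isClosed_range

end Groth.Agent.S5373
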