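import Groth.Agent.RegDual

/-! Matrix corepresentations capturing finitely many functions on a flat affine group scheme. -/

set_option autoImplicit false
universe u

open TensorProduct

noncomputable section

namespace Groth.Agent.SubHopfRep

variable {R : Type u} [CommRing R] {A : Type u} [CommRing A] [HopfAlgebra R A]

/-- A finite submodule stable under the comultiplication, containing a given finite set. -/
theorem exists_stable [IsNoetherianRing R] [Module.Flat R A] (F : Finset A) :
    ∃ W : Submodule R A, Module.Finite R W ∧ (↑F : Set A) ⊆ W ∧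
      ∀ w ∈ W, Coalgebra.comul (R := R) w ∈ LinearMap.range (W.subtype.rTensor A) := by
  classical
  choose S hS using fun v : A => TensorProduct.exists_finset (Coalgebra.comul (R := R) v)
  let M : Submodule R A := Submodule.span R ↑((F.biUnion S).image Prod.fst)
  let h : A →ₗ[R] (A ⧸ M) ⊗[R] A := M.mkQ.rTensor A ∘ₗ Coalgebra.comul (R := R)
  have hM : M.FG := ⟨_, rfl⟩
  have hle : LinearMap.ker h ≤ M := by
    intro w hw
    have hw' : M.mkQ.rTensor A (Coalgebra.comul (R := R) w) = 0 := hw
    have key : ∀ z : A ⊗[R] A, TensorProduct.rid R (A ⧸ M)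
        ((Coalgebra.counit (R := R)).lTensor (A ⧸ M) (M.mkQ.rTensor A z)) =
        M.mkQ (TensorProduct.rid R A ((Coalgebra.counit (R := R)).lTensor A z)) := by
      intro z
      induction z using TensorProduct.induction_on with
      | zero => simp
      | add a b ha hb => simp only [map_add, ha, hb]
      | tmul a b => simp
    have e := key (Coalgebra.comul (R := R) w)
    rw [hw', map_zero, map_zero, Coalgebra.lTensor_counit_comul, TensorProduct.rid_tmul, one_smul] at e
    exact (Submodule.Quotient.mk_eq_zero M).1 e.symm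
  refine ⟨LinearMap.ker h, ?_, ?_, ?_⟩
  · haveI : Module.Finite R M := Module.Finite.iff_fg.2 hM
    exact Module.Finite.of_injective (Submodule.inclusion hle) (Submodule.inclusion_injective hle)
  · intro v hv
    change M.mkQ.rTensor A (Coalgebra.comul (R := R) v) = 0
    rw [hS v, map_sum]
    refine Finset.sum_eq_zero fun i hi => ?_
    rw [LinearMap.rTensor_tmul, Submodule.mkQ_apply, (Submodule.Quotient.mk_eq_zero M).2
      (Submodule.subset_span (Finset.mem_coe.2 (Finset.mem_image_of_mem _ (Finset.mem_biUnion.2 ⟨v, hv, hi⟩)))),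
      TensorProduct.zero_tmul]
  · intro w hw
    refine (Module.Flat.rTensor_exact A h.exact_subtype_ker_map _).1 ?_
    have key : ∀ z : A ⊗[R] A, TensorProduct.assoc R (A ⧸ M) A A (h.rTensor A z) =
        M.mkQ.rTensor (A ⊗[R] A) (TensorProduct.assoc R A A A ((Coalgebra.comul (R := R)).rTensor A z)) := by
      intro z
      induction z using TensorProduct.induction_on with
      | zero => simp
      | add a b ha hb => simp only [map_add, ha, hb]
      | tmul a b =>
        simp only [h, LinearMap.rTensor_tmul, LinearMap.comp_apply]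
        generalize Coalgebra.comul (R := R) a = X
        induction X using TensorProduct.induction_on with
        | zero => simp
        | add p q hp hq => simp only [map_add, TensorProduct.add_tmul, hp, hq]
        | tmul p q => simp
    apply (TensorProduct.assoc R (A ⧸ M) A A).injective
    rw [key, map_zero, Coalgebra.coassoc_apply]
    have e : ∀ z : A ⊗[R] A, M.mkQ.rTensor (A ⊗[R] A) ((Coalgebra.comul (R := R)).lTensor A z) =
        (Coalgebra.comul (R := R)).lTensor (A ⧸ M) (M.mkQ.rTensor A z) := by
      intro z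
      induction z using TensorProduct.induction_on with
      | zero => simp
      | add a b ha hb => simp only [map_add, ha, hb]
      | tmul a b => simp
    rw [e, show M.mkQ.rTensor A (Coalgebra.comul (R := R) w) = 0 from hw, map_zero]

section Nat

variable {M N : Type u} [AddCommGroup M] [Module R M] [AddCommGroup N] [Module R N]

theorem assoc_rTensor_rTensor (f : M →ₗ[R] N) (z : (M ⊗[R] A) ⊗[R] A) :
    TensorProduct.assoc R N A A ((f.rTensor A).rTensor A z) =
      f.rTensor (A ⊗[R] A) (TensorProduct.assoc R M A A z) := by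
  induction z using TensorProduct.induction_on with
  | zero => simp
  | add a b ha hb => simp only [map_add, ha, hb]
  | tmul x c =>
    induction x using TensorProduct.induction_on with
    | zero => simp
    | add a b ha hb => simp only [TensorProduct.add_tmul, map_add, ha, hb]
    | tmul a b => simp

theorem lTensor_rTensor' {B C : Type u} [AddCommGroup B] [Module R B] [AddCommGroup C] [Module R C]
    (f : M →ₗ[R] N) (g : B →ₗ[R] C) (z : M ⊗[R] B) :
    g.lTensor N (f.rTensor B z) = f.rTensor C (g.lTensor M z) := by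
  induction z using TensorProduct.induction_on with
  | zero => simp
  | add a b ha hb => simp only [map_add, ha, hb]
  | tmul a b => simp

end Nat

/-- Existence of a matrix corepresentation capturing `F`. -/
theorem exists_matrix [IsRegularRing R] [IsNoetherianRing R] (hdim : ringKrullDim R ≤ 2) [Module.Flat R A]
    (F : Finset A) :
    ∃ (d : ℕ) (a : Matrix (Fin d) (Fin d) A),
      (∀ i j, CoalgebraStruct.comul (R := R) (a i j) = ∑ l, a i l ⊗ₜ[R] a l j) ∧
      (∀ i j, CoalgebraStruct.counit (R := R) (a i j) = if i = j then 1 else 0) ∧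
      ∀ v ∈ F, v ∈ Submodule.span R (Set.range fun q : Fin d × Fin d => a q.1 q.2) := by
  classical
  obtain ⟨W, hWfin, hFW, hWst⟩ := exists_stable (R := R) F
  let i := W.subtype
  have hinj : ∀ (B : Type u) [AddCommGroup B] [Module R B] [Module.Flat R B], Function.Injective (i.rTensor B) :=
    fun B _ _ _ => Module.Flat.rTensor_preserves_injective_linearMap _ W.injective_subtype
  -- the coaction on `W`
  choose c hc using fun w : W => hWst w w.2
  let ρW : W →ₗ[R] W ⊗[R] A :=
    { toFun := c
      map_add' := fun x y => hinj A (by rw [map_add, hc, hc, hc, Submodule.coe_add, map_add])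
      map_smul' := fun r x => hinj A (by rw [map_smul, RingHom.id_apply, hc, hc, Submodule.coe_smul, map_smul]) }
  have hρW : ∀ w, i.rTensor A (ρW w) = Coalgebra.comul (R := R) (w : A) := hc
  have hWassoc : ∀ w, TensorProduct.assoc R W A A (ρW.rTensor A (ρW w)) =
      (Coalgebra.comul (R := R)).lTensor W (ρW w) := by
    intro w
    refine hinj (A ⊗[R] A) ?_
    rw [← assoc_rTensor_rTensor, ← lTensor_rTensor', hρW, ← LinearMap.rTensor_comp_apply,
      show (i.rTensor A) ∘ₗ ρW = Coalgebra.comul (R := R) ∘ₗ i from LinearMap.ext hρW,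
      LinearMap.rTensor_comp_apply, hρW, Coalgebra.coassoc_apply]
  have hWcounit : ∀ w, (Coalgebra.counit (R := R)).lTensor W (ρW w) = w ⊗ₜ 1 := by
    intro w
    refine hinj R ?_
    rw [← lTensor_rTensor', hρW, Coalgebra.lTensor_counit_comul]
    rfl
  -- pass to the double dual
  haveI := Groth.Agent.RegDual.projective_dual hdim W
  haveI : Module.Finite R (Module.Dual R W) := inferInstance
  let D := Module.Dual R (Module.Dual R W)
  let η : W →ₗ[R] D := Module.Dual.eval R W
  have hext : ∀ (N : Type u) [AddCommGroup N] [Module R N] [Module.Flat R N] (g : W →ₗ[R] N),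
      ∃! G : D →ₗ[R] N, G ∘ₗ η = g := fun N _ _ _ g => Groth.Agent.RegDual.existsUnique_extend W N g
  obtain ⟨ρD, hρD, -⟩ := hext (D ⊗[R] A) (η.rTensor A ∘ₗ ρW)
  obtain ⟨ι, hι, -⟩ := hext A i
  have hρD' : ∀ w, ρD (η w) = η.rTensor A (ρW w) := fun w => LinearMap.congr_fun hρD w
  have hDassoc : (TensorProduct.assoc R D A A).toLinearMap ∘ₗ ρD.rTensor A ∘ₗ ρD =
      (Coalgebra.comul (R := R)).lTensor D ∘ₗ ρD := by
    refine (hext (D ⊗[R] (A ⊗[R] A)) _).unique rfl (LinearMap.ext fun w => ?_)
    simp only [LinearMap.comp_apply, LinearEquiv.coe_coe, hρD']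
    rw [← LinearMap.rTensor_comp_apply, hρD, LinearMap.rTensor_comp_apply, assoc_rTensor_rTensor, hWassoc,
      lTensor_rTensor']
  have hDcounit : (Coalgebra.counit (R := R)).lTensor D ∘ₗ ρD = (TensorProduct.mk R D R).flip 1 := by
    refine (hext (D ⊗[R] R) _).unique rfl (LinearMap.ext fun w => ?_)
    simp only [LinearMap.comp_apply, hρD']
    rw [lTensor_rTensor', hWcounit]
    rfl
  have hequiv : Coalgebra.comul (R := R) ∘ₗ ι = ι.rTensor A ∘ₗ ρD := by
    refine (hext (A ⊗[R] A) _).unique rfl (LinearMap.ext fun w => ?_)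
    simp only [LinearMap.comp_apply, hρD']
    rw [← LinearMap.rTensor_comp_apply, hι, hρW, show ι (η w) = i w from LinearMap.congr_fun hι w]
    rfl
  -- a free comodule
  obtain ⟨d, r, hr⟩ := Module.Finite.exists_fin' R D
  obtain ⟨s, hs⟩ := Module.projective_lifting_property r LinearMap.id hr
  let P := Fin d → R
  have hrs : ∀ x, r (s x) = x := fun x => LinearMap.congr_fun hs x
  let T : P →ₗ[R] P ⊗[R] A := (TensorProduct.mk R P A).flip 1 ∘ₗ (LinearMap.id - s ∘ₗ r)
  let ρP : P →ₗ[R] P ⊗[R] A := s.rTensor A ∘ₗ ρD ∘ₗ r + T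
  have hT : ∀ v, T v = (v - s (r v)) ⊗ₜ 1 := fun v => rfl
  have hρP : ∀ v, ρP v = s.rTensor A (ρD (r v)) + (v - s (r v)) ⊗ₜ 1 := fun v => rfl
  have hρs : ρP ∘ₗ s = s.rTensor A ∘ₗ ρD := LinearMap.ext fun x => by
    simp only [LinearMap.comp_apply, hρP, hrs, sub_self, TensorProduct.zero_tmul, add_zero]
  have hPassoc : ∀ v, TensorProduct.assoc R P A A (ρP.rTensor A (ρP v)) =
      (Coalgebra.comul (R := R)).lTensor P (ρP v) := by
    intro v
    have h0 : ρP (v - s (r v)) = (v - s (r v)) ⊗ₜ 1 := by
      rw [hρP, map_sub, hrs, sub_self, map_zero, map_zero, map_zero, zero_add, sub_zero]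
    rw [hρP v, map_add, map_add, map_add, ← LinearMap.rTensor_comp_apply, hρs, LinearMap.rTensor_comp_apply,
      assoc_rTensor_rTensor, lTensor_rTensor']
    rw [show TensorProduct.assoc R D A A (ρD.rTensor A (ρD (r v))) = (Coalgebra.comul (R := R)).lTensor D (ρD (r v))
      from LinearMap.congr_fun hDassoc (r v)]
    rw [LinearMap.rTensor_tmul, h0, TensorProduct.assoc_tmul, LinearMap.lTensor_tmul, Bialgebra.comul_one,
      Algebra.TensorProduct.one_def]
  have hPcounit : ∀ v, (Coalgebra.counit (R := R)).lTensor P (ρP v) = v ⊗ₜ 1 := by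
    intro v
    rw [hρP, map_add, lTensor_rTensor', show (Coalgebra.counit (R := R)).lTensor D (ρD (r v)) = r v ⊗ₜ 1 from
      LinearMap.congr_fun hDcounit (r v), LinearMap.rTensor_tmul, LinearMap.lTensor_tmul, Bialgebra.counit_one,
      ← TensorProduct.add_tmul, add_sub_cancel]
  have hPequiv : ∀ v, Coalgebra.comul (R := R) (ι (r v)) = (ι ∘ₗ r).rTensor A (ρP v) := by
    intro v
    rw [hρP, map_add, ← LinearMap.rTensor_comp_apply, LinearMap.comp_assoc, hs, LinearMap.comp_id,
      show Coalgebra.comul (R := R) (ι (r v)) = ι.rTensor A (ρD (r v)) from LinearMap.congr_fun hequiv (r v),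
      LinearMap.rTensor_tmul, LinearMap.comp_apply, map_sub, hrs, sub_self, map_zero, TensorProduct.zero_tmul,
      add_zero]
  -- the matrix
  let e : Fin d → P := fun j => Pi.single j 1
  let π : Fin d → (P ⊗[R] A →ₗ[R] A) := fun l =>
    (TensorProduct.lid R A).toLinearMap ∘ₗ (LinearMap.proj l : P →ₗ[R] R).rTensor A
  have hπ : ∀ l (x : P) (b : A), π l (x ⊗ₜ b) = x l • b := fun _ _ _ => rfl
  have hdec : ∀ z : P ⊗[R] A, ∑ l, e l ⊗ₜ π l z = z := by
    intro z
    induction z using TensorProduct.induction_on with
    | zero => simp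
    | add a b ha hb => simp only [map_add, TensorProduct.tmul_add, Finset.sum_add_distrib, ha, hb]
    | tmul x b =>
      conv_rhs => rw [pi_eq_sum_univ' x, TensorProduct.sum_tmul]
      refine Finset.sum_congr rfl fun l _ => ?_
      rw [hπ, TensorProduct.tmul_smul, TensorProduct.smul_tmul']
  let a : Matrix (Fin d) (Fin d) A := fun l j => π l (ρP (e j))
  refine ⟨d, a, fun l j => ?_, fun l j => ?_, fun v hv => ?_⟩
  · have h1 := congrArg (fun z => TensorProduct.lid R (A ⊗[R] A)
      ((LinearMap.proj l : P →ₗ[R] R).rTensor (A ⊗[R] A) z)) (hPassoc (e j))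
    have e1 : ∀ z : P ⊗[R] A, TensorProduct.lid R (A ⊗[R] A) ((LinearMap.proj l : P →ₗ[R] R).rTensor (A ⊗[R] A)
        ((Coalgebra.comul (R := R)).lTensor P z)) = Coalgebra.comul (R := R) (π l z) := by
      intro z
      induction z using TensorProduct.induction_on with
      | zero => simp
      | add p q hp hq => simp only [map_add, hp, hq]
      | tmul p q => simp [hπ]
    have e2 : ∀ z : P ⊗[R] A, TensorProduct.lid R (A ⊗[R] A) ((LinearMap.proj l : P →ₗ[R] R).rTensor (A ⊗[R] A)
        (TensorProduct.assoc R P A A (ρP.rTensor A z))) = (π l ∘ₗ ρP).rTensor A z := by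
      intro z
      induction z using TensorProduct.induction_on with
      | zero => simp
      | add p q hp hq => simp only [map_add, hp, hq]
      | tmul p q =>
        simp only [LinearMap.rTensor_tmul, LinearMap.comp_apply]
        generalize ρP p = X
        induction X using TensorProduct.induction_on with
        | zero => simp
        | add x y hx hy => simp only [TensorProduct.add_tmul, map_add, hx, hy]
        | tmul x y => simp [hπ, TensorProduct.smul_tmul']
    rw [e1, e2] at h1
    refine h1.symm.trans ?_
    conv_lhs => rw [← hdec (ρP (e j))]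
    simp only [map_sum, LinearMap.rTensor_tmul, LinearMap.comp_apply]
    rfl
  · have e1 : ∀ z : P ⊗[R] A, TensorProduct.lid R R ((LinearMap.proj l : P →ₗ[R] R).rTensor R
        ((Coalgebra.counit (R := R)).lTensor P z)) = Coalgebra.counit (R := R) (π l z) := by
      intro z
      induction z using TensorProduct.induction_on with
      | zero => simp
      | add p q hp hq => simp only [map_add, hp, hq]
      | tmul p q => simp [hπ]
    have h1 := e1 (ρP (e j))
    rw [hPcounit] at h1
    refine h1.symm.trans ?_
    simp [e, Pi.single_apply]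
  · have hv' : v = ι (r (s (η ⟨v, hFW hv⟩))) := by
      rw [hrs]
      exact (LinearMap.congr_fun hι ⟨v, hFW hv⟩).symm
    rw [hv']
    generalize s (η ⟨v, hFW hv⟩) = x
    rw [pi_eq_sum_univ' x, map_sum, map_sum]
    refine Submodule.sum_mem _ fun j _ => ?_
    rw [map_smul, map_smul]
    refine Submodule.smul_mem _ _ ?_
    have h1 := hPequiv (e j)
    conv_rhs at h1 => rw [← hdec (ρP (e j))]
    have h2 := congrArg (fun z => TensorProduct.lid R A ((Coalgebra.counit (R := R)).rTensor A z)) h1
    simp only [Coalgebra.rTensor_counit_comul, TensorProduct.lid_tmul, one_smul, map_sum, LinearMap.rTensor_tmul,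
      LinearMap.comp_apply] at h2
    rw [h2]
    exact Submodule.sum_mem _ fun l _ => Submodule.smul_mem _ _ (Submodule.subset_span ⟨(l, j), rfl⟩)

/-- The determinant of a matrix corepresentation is invertible. -/
theorem exists_inv_det {d : ℕ} (a : Matrix (Fin d) (Fin d) A)
    (h1 : ∀ i j, CoalgebraStruct.comul (R := R) (a i j) = ∑ l, a i l ⊗ₜ[R] a l j)
    (h2 : ∀ i j, CoalgebraStruct.counit (R := R) (a i j) = if i = j then 1 else 0) :
    ∃ u : A, u * a.det = 1 := by
  let il : A →ₐ[R] A ⊗[R] A := Algebra.TensorProduct.includeLeft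
  let ir : A →ₐ[R] A ⊗[R] A := Algebra.TensorProduct.includeRight
  have hcomul : Coalgebra.comul (R := R) a.det = a.det ⊗ₜ[R] a.det := by
    change Bialgebra.comulAlgHom R A a.det = _
    rw [AlgHom.map_det]
    have e : (Bialgebra.comulAlgHom R A).mapMatrix a = il.mapMatrix a * ir.mapMatrix a := by
      ext i j
      rw [Matrix.mul_apply]
      simp only [AlgHom.mapMatrix_apply, Matrix.map_apply, Bialgebra.comulAlgHom_apply, h1, il, ir,
        Algebra.TensorProduct.includeLeft_apply, Algebra.TensorProduct.includeRight_apply,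
        Algebra.TensorProduct.tmul_mul_tmul, mul_one, one_mul]
    rw [e, Matrix.det_mul, ← AlgHom.map_det, ← AlgHom.map_det]
    simp [il, ir]
  have hcounit : Coalgebra.counit (R := R) a.det = 1 := by
    change Bialgebra.counitAlgHom R A a.det = _
    rw [AlgHom.map_det]
    have e : (Bialgebra.counitAlgHom R A).mapMatrix a = 1 := by
      ext i j
      simp [h2, Matrix.one_apply]
    rw [e, Matrix.det_one]
  refine ⟨HopfAlgebra.antipode R a.det, ?_⟩
  have h := HopfAlgebra.mul_antipode_rTensor_comul_apply (R := R) a.det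
  rw [hcomul, hcounit, LinearMap.rTensor_tmul, LinearMap.mul'_apply, map_one] at h
  exact h

end Groth.Agent.SubHopfRep
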