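import Groth.Statements.S5375
import Groth.Agent.SubHopfRep

set_option autoImplicit false
universe u
open CategoryTheory CategoryTheory.Limits MonoidalCategory CartesianMonoidalCategory MonObj GrpObj AlgebraicGeometry
open SGA3

namespace Groth.Agent.S5375

section
open scoped TensorProduct
variable {k : Type u} [CommRing k] {A : Type u} [CommRing A] [HopfAlgebra k A]

theorem isHopfSubalgebra_adjoin {d : ℕ} (a : Matrix (Fin d) (Fin d) A)
    (h1 : ∀ i j, CoalgebraStruct.comul (R := k) (a i j) = ∑ l, a i l ⊗ₜ[k] a l j)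
    (h2 : ∀ i j, CoalgebraStruct.counit (R := k) (a i j) = if i = j then 1 else 0) :
    SGA3.IsHopfSubalgebra k A (Algebra.adjoin k
      (Set.range (fun q : Fin d × Fin d => a q.1 q.2) ∪
        Set.range fun q : Fin d × Fin d => HopfAlgebra.antipode k (a q.1 q.2))) := by
  let il : A →ₐ[k] A ⊗[k] A := Algebra.TensorProduct.includeLeft
  let ir : A →ₐ[k] A ⊗[k] A := Algebra.TensorProduct.includeRight
  let S : A →ₐ[k] A := HopfAlgebra.antipodeAlgHom k A
  let Δ : A →ₐ[k] A ⊗[k] A := Bialgebra.comulAlgHom k A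
  have hS : ∀ x, S x = HopfAlgebra.antipode k x := fun x => rfl
  let b := S.mapMatrix a
  have hba : b * a = 1 := by
    ext i j
    have h := HopfAlgebra.mul_antipode_rTensor_comul_apply (R := k) (a i j)
    rw [h1, h2, map_sum, map_sum] at h
    simp only [LinearMap.rTensor_tmul, LinearMap.mul'_apply] at h
    rw [Matrix.mul_apply, Matrix.one_apply]
    simp only [b, AlgHom.mapMatrix_apply, Matrix.map_apply, hS, h]
    split_ifs <;> simp
  have hab : a * b = 1 := mul_eq_one_comm.1 hba
  have hΔa : Δ.mapMatrix a = il.mapMatrix a * ir.mapMatrix a := by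
    ext i j
    rw [Matrix.mul_apply]
    simp only [AlgHom.mapMatrix_apply, Matrix.map_apply, Δ, Bialgebra.comulAlgHom_apply, h1, il, ir,
      Algebra.TensorProduct.includeLeft_apply, Algebra.TensorProduct.includeRight_apply,
      Algebra.TensorProduct.tmul_mul_tmul, _root_.mul_one, _root_.one_mul]
  have hΔb : Δ.mapMatrix b = ir.mapMatrix b * il.mapMatrix b := by
    have e1 : Δ.mapMatrix b * Δ.mapMatrix a = 1 := by rw [← map_mul, hba, map_one]
    have e2 : Δ.mapMatrix a * (ir.mapMatrix b * il.mapMatrix b) = 1 := by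
      rw [hΔa, Matrix.mul_assoc, ← Matrix.mul_assoc (ir.mapMatrix a), ← map_mul ir.mapMatrix, hab, map_one,
        Matrix.one_mul, ← map_mul, hab, map_one]
    exact left_inv_eq_right_inv e1 e2
  have hSb : S.mapMatrix b = a := by
    have e1 : S.mapMatrix b * S.mapMatrix a = 1 := by rw [← map_mul, hba, map_one]
    exact left_inv_eq_right_inv e1 hba
  set B := Algebra.adjoin k
      (Set.range (fun q : Fin d × Fin d => a q.1 q.2) ∪
        Set.range fun q : Fin d × Fin d => HopfAlgebra.antipode k (a q.1 q.2))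
  have ha : ∀ i j, a i j ∈ B := fun i j => Algebra.subset_adjoin (Or.inl ⟨(i, j), rfl⟩)
  have hb : ∀ i j, b i j ∈ B := fun i j => Algebra.subset_adjoin (Or.inr ⟨(i, j), rfl⟩)
  let m := Algebra.TensorProduct.map B.val B.val
  have hle : B ≤ m.range.comap Δ ⊓ B.comap S := by
    refine Algebra.adjoin_le ?_
    rintro _ (⟨⟨i, j⟩, rfl⟩ | ⟨⟨i, j⟩, rfl⟩)
    · refine ⟨?_, hb i j⟩
      show Δ (a i j) ∈ m.range
      rw [show Δ (a i j) = ∑ l, a i l ⊗ₜ[k] a l j from h1 i j]
      exact sum_mem fun l _ => ⟨⟨a i l, ha i l⟩ ⊗ₜ ⟨a l j, ha l j⟩, rfl⟩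
    · refine ⟨?_, ?_⟩
      · show Δ (b i j) ∈ m.range
        rw [show Δ (b i j) = (ir.mapMatrix b * il.mapMatrix b) i j from congrFun (congrFun hΔb i) j, Matrix.mul_apply]
        refine sum_mem fun l _ => ⟨⟨b l j, hb l j⟩ ⊗ₜ ⟨b i l, hb i l⟩, ?_⟩
        simp [m, il, ir]
      · show S (b i j) ∈ B
        rw [show S (b i j) = a i j from congrFun (congrFun hSb i) j]
        exact ha i j
  exact ⟨fun x hx => (hle hx).1, fun x hx => (hle hx).2⟩

end

/-- Let A be a commutative Hopf algebra over a field k (an affine k-group, not necessarily of finite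
type) and x an element of A. Then there is a subalgebra B of A of finite type over k containing x
which is a sub-Hopf-algebra: the comultiplication sends B into B ⊗ B and the antipode preserves B. -/
theorem result (k : Type u) [Field k] (A : Type u) [CommRing A] [HopfAlgebra k A] (x : A) :
    ∃ B : Subalgebra k A, x ∈ B ∧ B.FG ∧ SGA3.IsHopfSubalgebra k A B := by
  obtain ⟨d, a, h1, h2, hx⟩ := Groth.Agent.SubHopfRep.exists_matrix (R := k)
    (by rw [ringKrullDim_eq_zero_of_field]; norm_num) {x}
  refine ⟨_, ?_, Subalgebra.fg_def.2 ⟨_, (Set.finite_range _).union (Set.finite_range _), rfl⟩,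
    isHopfSubalgebra_adjoin a h1 h2⟩
  have h3 : Submodule.span k (Set.range fun q : Fin d × Fin d => a q.1 q.2) ≤ Subalgebra.toSubmodule
      (Algebra.adjoin k (Set.range (fun q : Fin d × Fin d => a q.1 q.2) ∪
        Set.range fun q : Fin d × Fin d => HopfAlgebra.antipode k (a q.1 q.2))) :=
    Submodule.span_le.2 fun y hy => Algebra.subset_adjoin (Or.inl hy)
  exact h3 (hx x (Finset.mem_singleton_self x))

end Groth.Agent.S5375
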