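import Groth.Statements.S5376
import Mathlib.RingTheory.Jacobson.Ring
import Mathlib.FieldTheory.IsAlgClosed.Basic
import Mathlib.LinearAlgebra.TensorProduct.RightExactness
import Mathlib.LinearAlgebra.TensorProduct.Basis

set_option autoImplicit false
universe u
open CategoryTheory CategoryTheory.Limits MonoidalCategory CartesianMonoidalCategory MonObj GrpObj AlgebraicGeometry
open SGA3

namespace Groth.Agent.S5376


open TensorProduct in
lemma eq_zero_of_forall_algHom {k : Type u} [Field k] [IsAlgClosed k] {A : Type u} [CommRing A]
    [Algebra k A] [Algebra.FiniteType k A] [IsReduced A] (a : A) (h : ∀ g : A →ₐ[k] k, g a = 0) :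
    a = 0 := by
  haveI : IsJacobsonRing A := isJacobsonRing_of_finiteType (A := k)
  have h1 : a ∈ Ideal.jacobson (⊥ : Ideal A) := by
    refine Submodule.mem_sInf.2 fun (m : Ideal A) hm => ?_
    obtain ⟨-, hm⟩ := hm
    haveI : m.IsMaximal := hm
    letI : Field (A ⧸ m) := Ideal.Quotient.field m
    haveI : Module.Finite k (A ⧸ m) := finite_of_finite_type_of_isJacobsonRing k (A ⧸ m)
    haveI : Algebra.IsIntegral k (A ⧸ m) := Algebra.IsIntegral.of_finite k _
    let e : k ≃ₐ[k] A ⧸ m :=
      AlgEquiv.ofBijective (Algebra.ofId k _) IsAlgClosed.algebraMap_bijective_of_isIntegral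
    have := h (e.symm.toAlgHom.comp (Ideal.Quotient.mkₐ k m))
    exact Ideal.Quotient.eq_zero_iff_mem.1
      (e.symm.injective (this.trans (map_zero e.symm).symm))
  rw [← Ideal.radical_eq_jacobson] at h1
  exact IsReduced.eq_zero a (mem_nilradical.1 h1)

open TensorProduct in
lemma act_act {k : Type u} [Field k] {A : Type u} [CommRing A] [Bialgebra k A] {V : Type u}
    [AddCommGroup V] [Module k V] [HopfRep.Comod k A V] (g h : A →ₐ[k] k) (v : V) :
    HopfRep.Comod.act k A V g (HopfRep.Comod.act k A V h v) = HopfRep.Comod.act k A V
      ((Algebra.TensorProduct.lift g h (fun _ _ => Commute.all _ _)).comp (Bialgebra.comulAlgHom k A)) v := by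
  let L : A ⊗[k] A →ₐ[k] k := Algebra.TensorProduct.lift g h (fun _ _ => Commute.all _ _)
  have key : ∀ z : V ⊗[k] A, TensorProduct.rid k V (L.toLinearMap.lTensor V (TensorProduct.assoc k V A A
      ((HopfRep.Comod.coact (k := k) (A := A)).rTensor A z))) =
      HopfRep.Comod.act k A V g (TensorProduct.rid k V (h.toLinearMap.lTensor V z)) := by
    intro z
    induction z using TensorProduct.induction_on with
    | zero => simp
    | add a b ha hb => simp only [map_add, ha, hb]
    | tmul w a =>
      simp only [LinearMap.rTensor_tmul, LinearMap.lTensor_tmul, TensorProduct.rid_tmul, map_smul,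
        HopfRep.Comod.act, LinearMap.comp_apply, LinearEquiv.coe_coe]
      induction HopfRep.Comod.coact (k := k) (A := A) w using TensorProduct.induction_on with
      | zero => simp
      | add p q hp hq => simp only [TensorProduct.add_tmul, map_add, hp, hq, smul_add]
      | tmul p q => simp [L, smul_smul, mul_comm]
  have hc := DFunLike.congr_fun (HopfRep.Comod.coassoc (k := k) (A := A) (V := V)) v
  simp only [LinearMap.comp_apply, LinearEquiv.coe_coe] at hc
  simp only [HopfRep.Comod.act, LinearMap.comp_apply, LinearEquiv.coe_coe] at key ⊢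
  rw [AlgHom.comp_toLinearMap, LinearMap.lTensor_comp_apply]
  rw [← key]
  erw [← hc]

open TensorProduct in
/-- Let k be an algebraically closed field, A a finitely generated commutative Hopf algebra over k which
is reduced (a reduced affine algebraic k-group G), V a finite-dimensional A-comodule and v a vector
of V. Let E be the k-subspace of V spanned by the vectors g·v for g running over the k-points of G
(algebra maps A → k). Then E is a subcomodule of V containing v, and it is the smallest one. -/
theorem result (k : Type u) [Field k] [IsAlgClosed k] (A : Type u) [CommRing A] [HopfAlgebra k A]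
    [Algebra.FiniteType k A] [IsReduced A] (V : Type u) [AddCommGroup V] [Module k V] [HopfRep.Comod k A V]
    [Module.Finite k V] (v : V) :
    letI E : Submodule k V := Submodule.span k (Set.range fun g : A →ₐ[k] k => HopfRep.Comod.act k A V g v)
    HopfRep.IsSubcomod (k := k) (A := A) E ∧ v ∈ E ∧
      ∀ W : Submodule k V, HopfRep.IsSubcomod (k := k) (A := A) W → v ∈ W → E ≤ W := by
  let E : Submodule k V := Submodule.span k (Set.range fun g : A →ₐ[k] k => HopfRep.Comod.act k A V g v)
  show HopfRep.IsSubcomod (k := k) (A := A) E ∧ v ∈ E ∧ ∀ W : Submodule k V, HopfRep.IsSubcomod (k := k) (A := A) W → v ∈ W → E ≤ W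
  have hE : ∀ g : A →ₐ[k] k, ∀ w ∈ E, HopfRep.Comod.act k A V g w ∈ E := by
    intro g w hw
    induction hw using Submodule.span_induction with
    | mem x hx =>
      obtain ⟨h, rfl⟩ := hx
      rw [act_act]
      exact Submodule.subset_span ⟨_, rfl⟩
    | zero => simp
    | add x y _ _ hx hy => rw [map_add]; exact E.add_mem hx hy
    | smul c x _ hx => rw [map_smul]; exact E.smul_mem c hx
  refine ⟨fun w hw => ?_, Submodule.subset_span ⟨Bialgebra.counitAlgHom k A, ?_⟩, ?_⟩
  · refine (rTensor_exact A (LinearMap.exact_subtype_mkQ E) E.mkQ_surjective _).1 ?_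
    let b := Module.Free.chooseBasis k (V ⧸ E)
    apply (TensorProduct.equivFinsuppOfBasisLeft b).injective
    rw [map_zero]
    refine Finsupp.ext fun i => eq_zero_of_forall_algHom (k := k) _ fun g => ?_
    have key : ∀ z : V ⊗[k] A, g (TensorProduct.equivFinsuppOfBasisLeft b (E.mkQ.rTensor A z) i) =
        b.repr (E.mkQ (TensorProduct.rid k V (g.toLinearMap.lTensor V z))) i := by
      intro z
      induction z using TensorProduct.induction_on with
      | zero => simp
      | add a b ha hb => simp only [map_add, Finsupp.add_apply, ha, hb]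
      | tmul p q => simp [Algebra.smul_def, mul_comm]
    rw [key]
    have := (Submodule.Quotient.mk_eq_zero E).2 (hE g w hw)
    simp only [HopfRep.Comod.act, LinearMap.comp_apply, LinearEquiv.coe_coe] at this
    rw [Submodule.mkQ_apply, this, map_zero, Finsupp.zero_apply]
  · have hc := DFunLike.congr_fun (HopfRep.Comod.counit_comp (k := k) (A := A) (V := V)) v
    simp only [LinearMap.comp_apply] at hc
    simp only [HopfRep.Comod.act, LinearMap.comp_apply, LinearEquiv.coe_coe, Bialgebra.toLinearMap_counitAlgHom]
    rw [hc]
    simp
  · intro W hW hv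
    refine Submodule.span_le.2 ?_
    rintro _ ⟨g, rfl⟩
    obtain ⟨z, hz⟩ := hW v hv
    simp only [HopfRep.Comod.act, LinearMap.comp_apply, LinearEquiv.coe_coe, SetLike.mem_coe]
    rw [← hz]
    clear hz
    induction z using TensorProduct.induction_on with
    | zero => simp
    | add a b ha hb => rw [map_add, map_add, map_add]; exact W.add_mem ha hb
    | tmul p q => simpa using W.smul_mem _ p.2

end Groth.Agent.S5376
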