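import Groth.Statements.S5377
-- import your own Groth.Agent.* helpers here

set_option autoImplicit false
universe u
open CategoryTheory CategoryTheory.Limits MonoidalCategory CartesianMonoidalCategory MonObj GrpObj AlgebraicGeometry
open SGA3

namespace Groth.Agent.S5377

section
variable {J : Type u} [SmallCategory J] [IsFiltered J]

theorem exists_lift (C : J ⥤ CommRingCat.{u}) {n : ℕ} (x : Fin n → (colimit C : CommRingCat.{u})) :
    ∃ (j : J) (y : Fin n → C.obj j), ∀ i, (colimit.ι C j).hom (y i) = x i := by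
  classical
  choose a b hb using fun i => Concrete.colimit_exists_rep C (x i)
  obtain ⟨j, hj⟩ := IsFiltered.sup_objs_exists (Finset.univ.image a)
  have hm : ∀ i, Nonempty (a i ⟶ j) := fun i => hj (Finset.mem_image_of_mem a (Finset.mem_univ i))
  refine ⟨j, fun i => (C.map (hm i).some).hom (b i), fun i => ?_⟩
  rw [← CommRingCat.comp_apply, colimit.w, ← hb i]

theorem map_ι (C : J ⥤ CommRingCat.{u}) {i j : J} (f : i ⟶ j) (x : C.obj i) :
    (colimit.ι C j).hom ((C.map f).hom x) = (colimit.ι C i).hom x := by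
  rw [← CommRingCat.comp_apply, colimit.w]

variable {C A : J ⥤ CommRingCat.{u}} (φ : C ⟶ A)

theorem map_app {i j : J} (f : i ⟶ j) (x : C.obj i) :
    (A.map f).hom ((φ.app i).hom x) = (φ.app j).hom ((C.map f).hom x) := by
  rw [← CommRingCat.comp_apply, ← CommRingCat.comp_apply, φ.naturality]

theorem colimMap_ι_apply (j : J) (x : C.obj j) :
    (colimMap φ).hom ((colimit.ι C j).hom x) = (colimit.ι A j).hom ((φ.app j).hom x) := by
  rw [← CommRingCat.comp_apply, ← CommRingCat.comp_apply, ι_colimMap]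

/-- Simultaneous lift of coefficients and elements. -/
theorem exists_lift_pair {n : ℕ} (c : Fin n → (colimit C : CommRingCat.{u}))
    (x : Fin n → (colimit A : CommRingCat.{u})) (t : (colimit A : CommRingCat.{u}))
    (h : ∑ i, (colimMap φ).hom (c i) * x i = t) :
    ∀ (j₀ : J) (t₀ : A.obj j₀), (colimit.ι A j₀).hom t₀ = t →
    ∃ (j : J) (f : j₀ ⟶ j) (c' : Fin n → C.obj j) (x' : Fin n → A.obj j),
      (∀ i, (colimit.ι C j).hom (c' i) = c i) ∧ (∀ i, (colimit.ι A j).hom (x' i) = x i) ∧
      ∑ i, (φ.app j).hom (c' i) * x' i = (A.map f).hom t₀ := by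
  intro j₀ t₀ ht
  obtain ⟨a, c', hc⟩ := exists_lift C c
  obtain ⟨b, x', hx⟩ := exists_lift A x
  let m := IsFiltered.max₃ a b j₀
  let fa : a ⟶ m := IsFiltered.firstToMax₃ a b j₀
  let fb : b ⟶ m := IsFiltered.secondToMax₃ a b j₀
  let f0 : j₀ ⟶ m := IsFiltered.thirdToMax₃ a b j₀
  have : (colimit.ι A m).hom (∑ i, (φ.app m).hom ((C.map fa).hom (c' i)) * (A.map fb).hom (x' i)) =
      (colimit.ι A m).hom ((A.map f0).hom t₀) := by
    simp only [map_sum, map_mul, map_ι, ← colimMap_ι_apply, hc, hx, h, ht]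
  obtain ⟨j, g, g', hg⟩ := Concrete.colimit_exists_of_rep_eq A _ _ this
  obtain ⟨k, e, he⟩ : ∃ (k : J) (e : j ⟶ k), g ≫ e = g' ≫ e :=
    ⟨_, IsFiltered.coeqHom g g', IsFiltered.coeq_condition g g'⟩
  refine ⟨k, f0 ≫ g ≫ e, fun i => (C.map (fa ≫ g ≫ e)).hom (c' i), fun i => (A.map (fb ≫ g ≫ e)).hom (x' i),
    fun i => by rw [map_ι, hc], fun i => by rw [map_ι, hx], ?_⟩
  have h2 : (A.map (g ≫ e)).hom (∑ i, (φ.app m).hom ((C.map fa).hom (c' i)) * (A.map fb).hom (x' i)) =
      (A.map (g ≫ e)).hom ((A.map f0).hom t₀) := by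
    conv_rhs => rw [he]
    simp only [Functor.map_comp, CommRingCat.comp_apply]
    rw [hg]
  simpa only [map_sum, map_mul, map_app, Functor.map_comp, CommRingCat.comp_apply] using h2

theorem flat (h : ∀ j : J, (φ.app j).hom.Flat) : (colimMap φ).hom.Flat := by
  algebraize [(colimMap φ).hom]
  refine Module.Flat.of_forall_isTrivialRelation fun {l} {c} {x} hrel => ?_
  obtain ⟨j₀⟩ := IsFiltered.nonempty (C := J)
  obtain ⟨j, f, c', x', hc, hx, hrel'⟩ := exists_lift_pair φ c x 0
    (by simpa only [Algebra.smul_def, RingHom.algebraMap_toAlgebra] using hrel) j₀ 0 (map_zero _)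
  rw [map_zero] at hrel'
  algebraize [(φ.app j).hom]
  haveI : Module.Flat (C.obj j) (A.obj j) := h j
  obtain ⟨k, a, y, hxy, ha⟩ := Module.Flat.isTrivialRelation_of_sum_smul_eq_zero (R := C.obj j)
    (f := c') (x := x') (by simpa only [Algebra.smul_def, RingHom.algebraMap_toAlgebra] using hrel')
  refine ⟨k, fun i q => (colimit.ι C j).hom (a i q), fun q => (colimit.ι A j).hom (y q), fun i => ?_, fun q => ?_⟩
  · rw [← hx i, hxy i, map_sum]
    refine Finset.sum_congr rfl fun q _ => ?_
    rw [Algebra.smul_def, Algebra.smul_def, map_mul]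
    exact congrArg (· * _) (colimMap_ι_apply φ j _).symm
  · simp only [← hc, ← map_mul, ← map_sum, ha q, map_zero]

theorem faithfullyFlat (h : ∀ j : J, (φ.app j).hom.FaithfullyFlat) : (colimMap φ).hom.FaithfullyFlat := by
  have hfl := flat φ fun j => by
    have := h j
    algebraize [(φ.app j).hom]
    exact (inferInstance : Module.Flat (C.obj j) (A.obj j))
  algebraize [(colimMap φ).hom]
  haveI : Module.Flat (colimit C : CommRingCat.{u}) (colimit A : CommRingCat.{u}) := hfl
  refine ⟨fun m hm htop => hm.ne_top ((Ideal.eq_top_iff_one m).2 ?_)⟩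
  have h1 : (1 : (colimit A : CommRingCat.{u})) ∈ m.map (colimMap φ).hom := by
    have h2 := Ideal.smul_top_eq_map (R := (colimit C : CommRingCat.{u})) (S := (colimit A : CommRingCat.{u})) m
    have h3 : (1 : (colimit A : CommRingCat.{u})) ∈ m • (⊤ : Submodule (colimit C : CommRingCat.{u}) _) := by
      rw [htop]; trivial
    rw [h2] at h3
    exact h3
  rw [Ideal.map, Ideal.span, Submodule.mem_span_set'] at h1
  obtain ⟨n, r, g, hg⟩ := h1
  choose c hcm hc using fun i => (g i).2
  obtain ⟨j₀⟩ := IsFiltered.nonempty (C := J)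
  obtain ⟨j, f, c', x', hc', -, hsum⟩ := exists_lift_pair φ c r 1
    (by rw [← hg]; exact Finset.sum_congr rfl fun i _ => by rw [hc i]; exact mul_comm _ _) j₀ 1 (map_one _)
  rw [map_one] at hsum
  algebraize [(φ.app j).hom]
  have := h j
  haveI : Module.FaithfullyFlat (C.obj j) (A.obj j) := this
  have hI : (1 : C.obj j) ∈ m.comap (colimit.ι C j).hom := by
    by_contra hne
    obtain ⟨M, hM, hle⟩ := Ideal.exists_le_maximal _ ((Ideal.ne_top_iff_one _).2 hne)
    refine Module.FaithfullyFlat.submodule_ne_top (R := C.obj j) (M := A.obj j) hM (eq_top_iff.2 fun z _ => ?_)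
    rw [← mul_one z, ← hsum, Finset.mul_sum]
    refine sum_mem fun i _ => ?_
    rw [mul_left_comm, ← RingHom.algebraMap_toAlgebra (φ.app j).hom, ← Algebra.smul_def]
    exact Submodule.smul_mem_smul (hle (by rw [Ideal.mem_comap, hc' i]; exact hcm i)) trivial
  rw [Ideal.mem_comap, map_one] at hI
  exact hI

end

/-- Let (C_i → A_i)_i be a filtered direct system of homomorphisms of commutative rings, each of which
is faithfully flat. Then the induced homomorphism colim C_i → colim A_i is faithfully flat. -/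
theorem result (J : Type u) [SmallCategory J] [IsFiltered J]
    (C A : J ⥤ CommRingCat.{u}) (φ : C ⟶ A) (h : ∀ j : J, (φ.app j).hom.FaithfullyFlat) :
    (colimMap φ).hom.FaithfullyFlat := by
  exact faithfullyFlat φ h

end Groth.Agent.S5377
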