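import Groth.Statements.S5380
-- import your own Groth.Agent.* helpers here

set_option autoImplicit false
universe u
open CategoryTheory CategoryTheory.Limits MonoidalCategory CartesianMonoidalCategory MonObj GrpObj AlgebraicGeometry
open SGA3

namespace Groth.Agent.S5380

section
open scoped TensorProduct
variable {A : Type u} [CommRing A] (a : A) {M : Type u} [AddCommGroup M] [Module A M]

theorem smul_regular_tensor (hM : IsSMulRegular M a) (F : Type u) [AddCommGroup F] [Module A F]
    [Module.Flat A F] : IsSMulRegular (F ⊗[A] M) a := by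
  have h := Module.Flat.lTensor_preserves_injective_linearMap (M := F) (a • (LinearMap.id : M →ₗ[A] M)) hM
  rw [LinearMap.lTensor_smul, LinearMap.lTensor_id] at h
  exact h

theorem flat_quot [hf : Module.Flat (A ⧸ Ideal.span {a}) (M ⧸ (Ideal.span {a} • (⊤ : Submodule A M)))] :
    Module.Flat (A ⧸ Ideal.span {a}) ((A ⧸ Ideal.span {a}) ⊗[A] M) :=
  Module.Flat.of_linearEquiv ((TensorProduct.quotTensorEquivQuotSMul M (Ideal.span {a})).extendScalarsOfSurjective
    Ideal.Quotient.mk_surjective)

/-- Tensoring with `M` preserves the inclusion of a submodule containing `a • F`, `F` flat. -/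
theorem injective_rTensor_of_smul_le [hf : Module.Flat (A ⧸ Ideal.span {a}) (M ⧸ (Ideal.span {a} • (⊤ : Submodule A M)))]
    (hM : IsSMulRegular M a) (F : Type u) [AddCommGroup F] [Module A F] [Module.Flat A F]
    (L : Submodule A F) (hL : ∀ x : F, a • x ∈ L) : Function.Injective (L.subtype.rTensor M) := by
  let I := Ideal.span {a}
  haveI := flat_quot a (M := M)
  let P : Submodule A F := I • ⊤
  have hP : ∀ x : F, x ∈ P ↔ ∃ y, a • y = x := fun x => by
    show x ∈ Ideal.span {a} • (⊤ : Submodule A F) ↔ _
    rw [Submodule.ideal_span_singleton_smul, Submodule.mem_smul_pointwise_iff_exists]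
    simp
  let Q : Submodule (A ⧸ I) (F ⧸ P) :=
    { (L.map P.mkQ).toAddSubmonoid with
      smul_mem' := fun c x hx => by
        obtain ⟨c, rfl⟩ := Ideal.Quotient.mk_surjective c
        exact (L.map P.mkQ).smul_mem c hx }
  let p : L →ₗ[A] Q :=
    { toFun := fun x => ⟨P.mkQ x, Submodule.mem_map_of_mem x.2⟩
      map_add' := fun x y => rfl
      map_smul' := fun c x => rfl }
  have hp : Function.Surjective p := by
    rintro ⟨_, y, hy, rfl⟩
    exact ⟨⟨y, hy⟩, rfl⟩
  let sa : F →ₗ[A] L := LinearMap.codRestrict L (a • LinearMap.id) hL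
  have hex : Function.Exact sa p := fun x => by
    constructor
    · intro hx
      obtain ⟨y, hy⟩ := (hP (x : F)).1 ((Submodule.Quotient.mk_eq_zero P).1 (congrArg Subtype.val hx))
      exact ⟨y, Subtype.ext hy⟩
    · rintro ⟨y, rfl⟩
      exact Subtype.ext ((Submodule.Quotient.mk_eq_zero P).2 ((hP _).2 ⟨y, rfl⟩))
  rw [injective_iff_map_eq_zero]
  intro z hz
  let eQ := TensorProduct.AlgebraTensorModule.cancelBaseChange A (A ⧸ I) (A ⧸ I) Q M
  let eF := TensorProduct.AlgebraTensorModule.cancelBaseChange A (A ⧸ I) (A ⧸ I) (F ⧸ P) M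
  have hnat : ∀ w, eF.symm ((Q.subtype.restrictScalars A).rTensor M w) =
      Q.subtype.rTensor _ (eQ.symm w) := fun w => by
    induction w using TensorProduct.induction_on with
    | zero => simp
    | add x y hx hy => simp only [map_add, hx, hy]
    | tmul x m => rfl
  have hinj : Function.Injective ((Q.subtype.restrictScalars A).rTensor M) := fun u v huv =>
    eQ.symm.injective (Module.Flat.rTensor_preserves_injective_linearMap _ Q.injective_subtype
      (by rw [← hnat, ← hnat, huv]))
  have hpz : p.rTensor M z = 0 := hinj (by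
    rw [map_zero, ← LinearMap.rTensor_comp_apply,
      show (Q.subtype.restrictScalars A) ∘ₗ p = P.mkQ ∘ₗ L.subtype from rfl,
      LinearMap.rTensor_comp_apply, hz, map_zero])
  obtain ⟨w, rfl⟩ := (rTensor_exact M hex hp z).1 hpz
  rw [← LinearMap.rTensor_comp_apply, show L.subtype ∘ₗ sa = a • LinearMap.id from rfl,
    LinearMap.rTensor_smul, LinearMap.rTensor_id] at hz
  have : w = 0 := smul_regular_tensor a hM F (by simpa using hz)
  rw [this, map_zero]

theorem smul_regular_ideal_tensor [hf : Module.Flat (A ⧸ Ideal.span {a}) (M ⧸ (Ideal.span {a} • (⊤ : Submodule A M)))]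
    (hA : IsSMulRegular A a) (hM : IsSMulRegular M a) (I : Ideal A) : IsSMulRegular (I ⊗[A] M) a := by
  suffices key : ∀ z : I ⊗[A] M, a • z = 0 → z = 0 from
    fun x y h => sub_eq_zero.1 (key _ (by rw [smul_sub, sub_eq_zero]; exact h))
  intro z hz
  let q : (I →₀ A) →ₗ[A] I := Finsupp.linearCombination A id
  have hq : Function.Surjective q := fun i => ⟨Finsupp.single i 1, by simp [q]⟩
  obtain ⟨w, rfl⟩ := LinearMap.rTensor_surjective M hq z
  rw [← map_smul] at hz
  let K : Submodule A (I →₀ A) := LinearMap.ker q
  have hexq : Function.Exact K.subtype q := fun y =>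
    ⟨fun hy => ⟨⟨y, hy⟩, rfl⟩, fun ⟨x, hx⟩ => hx ▸ x.2⟩
  obtain ⟨v, hv⟩ := (rTensor_exact (R := A) (M := K) (N := I →₀ A) (P := I) (f := K.subtype) (g := q) M hexq hq (a • w)).1 hz
  let L : Submodule A (I →₀ A) := Submodule.comap q ((⊤ : Submodule A I).map (a • LinearMap.id))
  have hL : ∀ x, a • x ∈ L := fun x => ⟨q x, trivial, (map_smul q a x).symm⟩
  have hker : K ≤ L := fun x hx => by
    show q x ∈ (⊤ : Submodule A I).map (a • LinearMap.id)
    rw [LinearMap.mem_ker.1 hx]
    exact zero_mem _
  have hI : Function.Injective (a • (LinearMap.id : I →ₗ[A] I)) := fun x y hxy =>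
    Subtype.ext (hA (congrArg Subtype.val hxy))
  let e : I ≃ₗ[A] LinearMap.range (a • (LinearMap.id : I →ₗ[A] I)) := LinearEquiv.ofInjective _ hI
  let φ : L →ₗ[A] I := e.symm.toLinearMap ∘ₗ LinearMap.codRestrict _ (q ∘ₗ L.subtype) (fun x => by
    rw [← Submodule.map_top]; exact x.2)
  let sa : (I →₀ A) →ₗ[A] L := LinearMap.codRestrict L (a • LinearMap.id) hL
  have hφ1 : φ ∘ₗ sa = q := LinearMap.ext fun x => by
    refine e.injective ?_
    show e (e.symm _) = _
    rw [LinearEquiv.apply_symm_apply]
    exact Subtype.ext (map_smul q a x)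
  have hφ2 : φ ∘ₗ Submodule.inclusion hker = 0 := LinearMap.ext fun x => by
    refine e.injective ?_
    show e (e.symm _) = e 0
    rw [LinearEquiv.apply_symm_apply, map_zero]
    exact Subtype.ext (LinearMap.mem_ker.1 x.2)
  have heq : sa.rTensor M w = (Submodule.inclusion hker).rTensor M v := by
    refine injective_rTensor_of_smul_le a hM _ L hL ?_
    rw [← LinearMap.rTensor_comp_apply, ← LinearMap.rTensor_comp_apply, Submodule.subtype_comp_inclusion, hv,
      show L.subtype ∘ₗ sa = a • LinearMap.id from rfl, LinearMap.rTensor_smul, LinearMap.rTensor_id]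
    rfl
  rw [← hφ1, LinearMap.rTensor_comp_apply, heq, ← LinearMap.rTensor_comp_apply, hφ2, LinearMap.rTensor_zero,
    LinearMap.zero_apply]

theorem flat_of_flat_quot_of_flat_away [hf : Module.Flat (A ⧸ Ideal.span {a}) (M ⧸ (Ideal.span {a} • (⊤ : Submodule A M)))]
    [hl : Module.Flat (Localization.Away a) (LocalizedModule (Submonoid.powers a) M)]
    (hA : IsSMulRegular A a) (hM : IsSMulRegular M a) : Module.Flat A M := by
  haveI : Module.Flat A (LocalizedModule (Submonoid.powers a) M) :=
    Module.Flat.trans A (Localization.Away a) _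
  rw [Module.Flat.iff_rTensor_injective']
  intro I
  rw [injective_iff_map_eq_zero]
  intro z hz
  let g := LocalizedModule.mkLinearMap (Submonoid.powers a) M
  haveI : IsLocalizedModule (Submonoid.powers a) (g.lTensor I) := by
    haveI := IsLocalizedModule.rTensor (R := A) (S := Submonoid.powers a) (N := I) (g := g)
    have : g.lTensor I = (TensorProduct.comm A _ _).toLinearMap ∘ₗ
        (TensorProduct.AlgebraTensorModule.rTensor A I g) ∘ₗ (TensorProduct.comm A _ _).toLinearMap :=
      TensorProduct.ext' fun i m => rfl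
    rw [this]
    infer_instance
  have h0 : g.lTensor I z = 0 := by
    refine Module.Flat.rTensor_preserves_injective_linearMap I.subtype I.injective_subtype ?_
    rw [map_zero, ← LinearMap.comp_apply, LinearMap.rTensor_comp_lTensor, ← LinearMap.lTensor_comp_rTensor,
      LinearMap.comp_apply, hz, map_zero]
  obtain ⟨⟨c, n, rfl⟩, hc⟩ := (IsLocalizedModule.eq_zero_iff (Submonoid.powers a) (g.lTensor I)).1 h0
  exact (smul_regular_ideal_tensor a hA hM I).pow n (hc.trans (smul_zero _).symm)

end

/-- Let R be a discrete valuation ring with uniformizer π, A a flat commutative R-algebra and M an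
A-module which is flat over R. Suppose that M/πM is a flat module over A/πA and that M ⊗_R K is a
flat module over A ⊗_R K, K the fraction field of R (equivalently, M[1/π] is flat over A[1/π], the
form used here). Then M is a flat A-module. -/
theorem result (R : Type u) [CommRing R] [IsDomain R] [IsDiscreteValuationRing R]
    (π : R) (hπ : Irreducible π) (A : Type u) [CommRing A] [Algebra R A] [Module.Flat R A]
    (M : Type u) [AddCommGroup M] [Module A M] [Module R M] [IsScalarTower R A M] [Module.Flat R M]
    (h1 : Module.Flat (A ⧸ Ideal.span {algebraMap R A π}) (M ⧸ (Ideal.span {algebraMap R A π} • (⊤ : Submodule A M))))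
    (h2 : Module.Flat (Localization.Away (algebraMap R A π)) (LocalizedModule (Submonoid.powers (algebraMap R A π)) M)) :
    Module.Flat A M := by
  have hA : IsSMulRegular A (algebraMap R A π) := fun x y hxy =>
    Module.Flat.isSMulRegular_of_isRegular (M := A) (isRegular_iff_ne_zero.2 hπ.ne_zero)
      (by simpa [Algebra.smul_def] using hxy)
  have hM : IsSMulRegular M (algebraMap R A π) := fun x y hxy =>
    Module.Flat.isSMulRegular_of_isRegular (M := M) (isRegular_iff_ne_zero.2 hπ.ne_zero)
      (by simpa only [algebraMap_smul] using hxy)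
  exact flat_of_flat_quot_of_flat_away (hf := h1) (hl := h2) _ hA hM

end Groth.Agent.S5380
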