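import Groth.Statements.S5381
import Mathlib
-- import your own Groth.Agent.* helpers here

set_option autoImplicit false
set_option backward.isDefEq.respectTransparency false
universe u
open CategoryTheory CategoryTheory.Limits MonoidalCategory CartesianMonoidalCategory MonObj GrpObj AlgebraicGeometry
open SGA3

namespace Groth.Agent.S5381

/-- For S the spectrum of a Dedekind domain R: let X be a scheme which is flat, quasi-compact and
quasi-separated over R. Then the ring of global sections Γ(X, O_X) is a flat R-module. (The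
published remark takes S locally noetherian and regular of dimension 1 and also observes, when S is
local with closed point s and uniformizer π, that Γ(X, O_X)/πΓ(X, O_X) → Γ(X_s, O_{X_s}) is
injective; this row takes S the spectrum of a Dedekind domain and omits the injectivity.) -/
theorem result (R : Type u) [CommRing R] [IsDedekindDomain R]
    (X : Scheme.{u}) (f : X ⟶ Spec (CommRingCat.of R)) [Flat f] [QuasiCompact f] [QuasiSeparated f] :
    letI := ((Scheme.ΓSpecIso (CommRingCat.of R)).inv ≫ f.appTop).hom.toAlgebra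
    Module.Flat R Γ(X, ⊤) := by
  letI := ((Scheme.ΓSpecIso (CommRingCat.of R)).inv ≫ f.appTop).hom.toAlgebra
  rw [IsDedekindDomain.flat_iff_torsion_eq_bot, eq_bot_iff]
  intro s hs
  obtain ⟨⟨r, hr⟩, hrs⟩ := (Submodule.mem_torsion_iff s).1 hs
  rw [Submodule.mem_bot]
  have hr0 : r ≠ 0 := nonZeroDivisors.ne_zero hr
  refine TopCat.Presheaf.section_ext X.sheaf _ _ _ fun x hx => ?_
  obtain ⟨V, hV, hxV, -⟩ := exists_isAffineOpen_mem_and_subset (X := X) (x := x) (U := ⊤) trivial
  have hVU : V ≤ f ⁻¹ᵁ ⊤ := by simp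
  have hflat := HasRingHomProperty.appLE (P := @Flat) f inferInstance ⟨⊤, isAffineOpen_top _⟩ ⟨V, hV⟩ hVU
  let φ : R →+* Γ(X, V) := (f.appLE ⊤ V hVU).hom.comp (Scheme.ΓSpecIso (CommRingCat.of R)).inv.hom
  have hφ : φ.Flat := (RingHom.Flat.of_bijective (Scheme.ΓSpecIso (CommRingCat.of R)).commRingCatIsoToRingEquiv.symm.bijective).comp hflat
  let res := (X.presheaf.map (homOfLE (le_top : V ≤ ⊤)).op).hom
  have hφres : φ r = res (((Scheme.ΓSpecIso (CommRingCat.of R)).inv ≫ f.appTop).hom r) := rfl
  have h1 : φ r * res s = 0 := by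
    rw [hφres, ← map_mul]
    have : ((Scheme.ΓSpecIso (CommRingCat.of R)).inv ≫ f.appTop).hom r * s = 0 := hrs
    rw [this, map_zero]
  have h2 : res s = 0 := by
    letI := φ.toAlgebra
    haveI : Module.Flat R Γ(X, V) := hφ
    exact (mem_nonZeroDivisors_iff_right.1 hr) |> fun _ =>
      (smul_eq_zero_iff_right hr0).1 (show r • res s = 0 from h1)
  show X.presheaf.germ ⊤ x hx s = X.presheaf.germ ⊤ x hx 0
  rw [← TopCat.Presheaf.germ_res_apply X.presheaf (homOfLE (le_top : V ≤ ⊤)) x hxV,
    ← TopCat.Presheaf.germ_res_apply X.presheaf (homOfLE (le_top : V ≤ ⊤)) x hxV]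
  rw [map_zero (X.presheaf.map _).hom]
  exact congrArg _ h2

end Groth.Agent.S5381
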