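import Groth.Statements.S5383
import Groth.Agent.UnibOpenLib.Basic
-- import your own Groth.Agent.* helpers here

set_option autoImplicit false
universe u
open CategoryTheory CategoryTheory.Limits MonoidalCategory CartesianMonoidalCategory MonObj GrpObj AlgebraicGeometry
open SGA3

namespace Groth.Agent.S5383

theorem isUnibranch_of_ringEquiv {R R' : Type u} [CommRing R] [IsLocalRing R] [CommRing R'] [IsLocalRing R']
    (e : R ≃+* R') (h : CAlg2.IsUnibranch R) : CAlg2.IsUnibranch R' := by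
  haveI := h.1
  let π : R →+* CAlg2.red R := Ideal.Quotient.mk (nilradical R)
  have hπ' : RingHom.ker (π.comp e.symm.toRingHom) = nilradical R' := by
    ext a
    rw [RingHom.mem_ker, RingHom.comp_apply, Ideal.Quotient.eq_zero_iff_mem, mem_nilradical, mem_nilradical]
    exact IsNilpotent.map_iff e.symm.injective
  obtain ⟨e₁, -⟩ := NormalTensor.exists_normRed_equiv (B := R) (C := CAlg2.red R)
    (C' := integralClosure (CAlg2.red R) (FractionRing (CAlg2.red R))) (Q := FractionRing (CAlg2.red R))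
    π Ideal.Quotient.mk_surjective Ideal.mk_ker
  obtain ⟨e₂, -⟩ := NormalTensor.exists_normRed_equiv (B := R') (C := CAlg2.red R)
    (C' := integralClosure (CAlg2.red R) (FractionRing (CAlg2.red R))) (Q := FractionRing (CAlg2.red R))
    (π.comp e.symm.toRingHom) (Ideal.Quotient.mk_surjective.comp e.symm.surjective) hπ'
  haveI := h.2
  refine ⟨?_, (e₁.trans e₂.symm).isLocalRing⟩
  exact ((Ideal.quotEquivOfEq hπ'.symm).trans
    (RingHom.quotientKerEquivOfSurjective (f := π.comp e.symm.toRingHom)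
      (Ideal.Quotient.mk_surjective.comp e.symm.surjective))).toMulEquiv.isDomain _

theorem isOpenAt_of_quasiFiniteAt {X Y : Scheme.{u}} (f : X ⟶ Y) [IrreducibleSpace X] [LocallyOfFiniteType f]
    (hf : DenseRange f.base) (x : X) (hx : f.QuasiFiniteAt x)
    (hp : CAlg2.IsUnibranch (Y.presheaf.stalk (f.base x))) : EGA43.IsOpenAt f.base x := by
  classical
  obtain ⟨W, hW, hxW, -⟩ := exists_isAffineOpen_mem_and_subset (show f.base x ∈ (⊤ : Y.Opens) from trivial)
  obtain ⟨U, hU, hxU, hUW'⟩ := exists_isAffineOpen_mem_and_subset (show x ∈ f ⁻¹ᵁ W from hxW)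
  have hUW : U ≤ f ⁻¹ᵁ W := hUW'
  let φ : Γ(Y, W) →+* Γ(X, U) := (f.appLE W U hUW).hom
  have hcompat : ∀ t : PrimeSpectrum Γ(X, U),
      hW.fromSpec.base (PrimeSpectrum.comap φ t) = f.base (hU.fromSpec.base t) := fun t =>
    congrArg (fun g : Spec Γ(X, U) ⟶ Y => g.base t) (hW.SpecMap_appLE_fromSpec f hU hUW)
  letI : Algebra Γ(Y, W) Γ(X, U) := φ.toAlgebra
  haveI : Algebra.FiniteType Γ(Y, W) Γ(X, U) := f.finiteType_appLE hW hU hUW
  let q : PrimeSpectrum Γ(X, U) := hU.primeIdealOf ⟨x, hxU⟩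
  haveI hqf : Algebra.QuasiFiniteAt Γ(Y, W) q.asIdeal := hx.quasiFiniteAt hU hW hUW hxU
  have hq : hU.fromSpec.base q = x := hU.fromSpec_primeIdealOf ⟨x, hxU⟩
  -- irreducibility
  have hmeet : ∀ O₁ O₂ : Set X, IsOpen O₁ → IsOpen O₂ → O₁.Nonempty → O₂.Nonempty → (O₁ ∩ O₂).Nonempty :=
    fun O₁ O₂ h₁ h₂ h₃ h₄ => nonempty_preirreducible_inter h₁ h₂ h₃ h₄
  haveI : IrreducibleSpace (PrimeSpectrum Γ(X, U)) :=
    { toNonempty := ⟨q⟩
      isPreirreducible_univ := by
        intro O₁ O₂ h₁ h₂ h₃ h₄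
        rw [Set.univ_inter] at h₃ h₄
        obtain ⟨_, ⟨a, ha, rfl⟩, ⟨b, hb, hba⟩⟩ := hmeet _ _ (hU.fromSpec.isOpenEmbedding.isOpenMap _ h₁)
          (hU.fromSpec.isOpenEmbedding.isOpenMap _ h₂) (h₃.image _) (h₄.image _)
        obtain rfl := hU.fromSpec.isOpenEmbedding.injective hba
        exact ⟨_, trivial, ha, hb⟩ }
  let I := nilradical Γ(X, U)
  haveI : I.IsPrime := PrimeSpectrum.irreducibleSpace_iff_isPrime_nilradical.mp inferInstance
  let π : Γ(X, U) →ₐ[Γ(Y, W)] Γ(X, U) ⧸ I := Ideal.Quotient.mkₐ _ I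
  let q₀ : PrimeSpectrum (Γ(X, U) ⧸ I) := ⟨q.asIdeal.map π.toRingHom,
    Ideal.map_isPrime_of_surjective Ideal.Quotient.mk_surjective (by
      refine (Ideal.mk_ker (I := I)).le.trans ?_
      exact nilradical_le_prime q.asIdeal)⟩
  haveI hq₀p : q₀.asIdeal.IsPrime := q₀.isPrime
  have hq₀ : q₀.asIdeal.comap π.toRingHom = q.asIdeal := by
    show (q.asIdeal.map (Ideal.Quotient.mk I)).comap (Ideal.Quotient.mk I) = q.asIdeal
    rw [Ideal.comap_map_of_surjective' _ Ideal.Quotient.mk_surjective, sup_eq_left, Ideal.mk_ker]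
    exact nilradical_le_prime q.asIdeal
  haveI : Algebra.QuasiFiniteAt Γ(Y, W) q₀.asIdeal :=
    Algebra.QuasiFiniteAt.of_surjectiveOnStalks q.asIdeal π
      (RingHom.surjectiveOnStalks_of_surjective Ideal.Quotient.mk_surjective) _ hq₀.symm
  have hker : RingHom.ker (algebraMap Γ(Y, W) (Γ(X, U) ⧸ I)) = nilradical Γ(Y, W) := by
    refine le_antisymm ?_ fun a ha => ((mem_nilradical.mp ha).map (algebraMap Γ(Y, W) (Γ(X, U) ⧸ I))).eq_zero
    have hdense : DenseRange (PrimeSpectrum.comap φ) := by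
      refine dense_iff_inter_open.2 fun O hO hne => ?_
      obtain ⟨y, hy, z, rfl⟩ := dense_iff_inter_open.1 hf _ (hW.fromSpec.isOpenEmbedding.isOpenMap O hO) (hne.image _)
      obtain ⟨a, ha₁, t, rfl⟩ := hmeet _ (Set.range hU.fromSpec.base)
        ((hW.fromSpec.isOpenEmbedding.isOpenMap O hO).preimage f.continuous)
        hU.fromSpec.isOpenEmbedding.isOpen_range ⟨z, hy⟩ ⟨_, q, rfl⟩
      obtain ⟨s, hs, hst⟩ := ha₁
      refine ⟨_, ?_, t, rfl⟩
      rwa [← hW.fromSpec.isOpenEmbedding.injective (hst.trans (hcompat t).symm)]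
    intro a ha
    rw [RingHom.mem_ker, IsScalarTower.algebraMap_apply Γ(Y, W) Γ(X, U) (Γ(X, U) ⧸ I)] at ha
    obtain ⟨n, hn⟩ := mem_nilradical.mp (Ideal.Quotient.eq_zero_iff_mem.mp ha)
    rw [← map_pow] at hn
    obtain ⟨m, hm⟩ := mem_nilradical.mp ((PrimeSpectrum.denseRange_comap_iff_ker_le_nilRadical φ).mp hdense hn)
    exact mem_nilradical.mpr ⟨n * m, by rw [pow_mul]; exact hm⟩
  let p : PrimeSpectrum Γ(Y, W) := PrimeSpectrum.comap φ q
  have hp' : hW.fromSpec.base p = f.base x := (hcompat q).trans (congrArg f.base hq)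
  have hpu : CAlg2.IsUnibranch (Localization.AtPrime p.asIdeal) := by
    have hmem : hW.fromSpec.base p ∈ W := hp'.symm ▸ hxW
    rw [← hp'] at hp
    letI := TopCat.Presheaf.algebra_section_stalk Y.presheaf (⟨hW.fromSpec.base p, hmem⟩ : W)
    haveI : IsLocalization.AtPrime (Y.presheaf.stalk (hW.fromSpec.base p)) p.asIdeal :=
      hW.isLocalization_stalk' p hmem
    exact isUnibranch_of_ringEquiv (IsLocalization.algEquiv p.asIdeal.primeCompl
      (Y.presheaf.stalk (hW.fromSpec.base p)) (Localization.AtPrime p.asIdeal)).toRingEquiv hp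
  have hcomap : PrimeSpectrum.comap (algebraMap Γ(Y, W) (Γ(X, U) ⧸ I)) q₀ = p := by
    refine PrimeSpectrum.ext ?_
    show q₀.asIdeal.comap (π.toRingHom.comp φ) = q.asIdeal.comap φ
    rw [← Ideal.comap_comap, hq₀]
  have hgen : ∀ P : PrimeSpectrum Γ(Y, W), P = p → CAlg2.IsUnibranch (Localization.AtPrime P.asIdeal) := by
    rintro P rfl
    exact hpu
  have hopen := UnibOpenLib.isOpenAt_comap_of_zmp hker q₀
    (Algebra.ZariskisMainProperty.of_finiteType q₀.asIdeal) (hgen _ hcomap)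
  intro V hV
  have hcont : Continuous fun t : PrimeSpectrum (Γ(X, U) ⧸ I) => hU.fromSpec.base (PrimeSpectrum.comap π.toRingHom t) :=
    hU.fromSpec.continuous.comp (PrimeSpectrum.continuous_comap _)
  have hq' : PrimeSpectrum.comap π.toRingHom q₀ = q := PrimeSpectrum.ext hq₀
  have h1 := hopen _ (hcont.continuousAt.preimage_mem_nhds (t := V) (by
    show V ∈ nhds (hU.fromSpec.base (PrimeSpectrum.comap π.toRingHom q₀))
    rw [hq', hq]
    exact hV))
  rw [hcomap] at h1
  have h2 := hW.fromSpec.isOpenEmbedding.isOpenMap.image_mem_nhds h1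
  rw [hp'] at h2
  refine Filter.mem_of_superset h2 ?_
  rintro _ ⟨_, ⟨t, ht, rfl⟩, rfl⟩
  exact ⟨_, ht, (hcompat (PrimeSpectrum.comap π.toRingHom t)).symm⟩

/-- (i) let A ⊆ B be domains with B integral over A, and q a prime of B such that the local ring of A at
p = q ∩ A is unibranch; then Spec B → Spec A is open at q (it maps neighbourhoods of q to
neighbourhoods of p). (ii) Let f : X → Y be a dominant morphism of irreducible schemes which is
locally of finite type, x a point of X isolated in its fibre (f quasi-finite at x) such that the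
local ring of Y at f(x) is unibranch; then f is open at x. -/
theorem result :
    (∀ (A B : Type u) [CommRing A] [IsDomain A] [CommRing B] [IsDomain B] [Algebra A B],
      Function.Injective (algebraMap A B) → Algebra.IsIntegral A B →
      ∀ q : PrimeSpectrum B, CAlg2.IsUnibranch (Localization.AtPrime (q.asIdeal.comap (algebraMap A B))) →
        EGA43.IsOpenAt (PrimeSpectrum.comap (algebraMap A B)) q) ∧
    (∀ (X Y : Scheme.{u}) (f : X ⟶ Y) [IrreducibleSpace X] [IrreducibleSpace Y] [LocallyOfFiniteType f],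
      DenseRange f.base → ∀ x : X, (nhdsWithin x (f.base ⁻¹' {f.base x})) = pure x →
        CAlg2.IsUnibranch (Y.presheaf.stalk (f.base x)) → EGA43.IsOpenAt f.base x) := by
  refine ⟨fun A B _ _ _ _ _ hinj hint q hp => ?_, fun X Y f _ _ _ hf x hx hp => ?_⟩
  · haveI := hint
    exact UnibOpenLib.isOpenAt_comap_integral hinj q hp
  · refine isOpenAt_of_quasiFiniteAt f hf x ?_ hp
    rw [Scheme.Hom.quasiFiniteAt_iff_isOpen_singleton_asFiber]
    obtain ⟨O, hO, hxO, hOx⟩ := mem_nhdsWithin.1 (hx.symm ▸ (Filter.mem_pure.mpr rfl) :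
      ({x} : Set X) ∈ nhdsWithin x (f.base ⁻¹' {f.base x}))
    rw [← (f.fiberHomeo (f x)).isOpen_image]
    simp only [Set.image_singleton, Scheme.Hom.asFiber, Homeomorph.apply_symm_apply]
    convert hO.preimage (continuous_subtype_val (p := fun z => z ∈ f.base ⁻¹' {f.base x})) using 1
    ext ⟨z, hz⟩
    exact ⟨fun h => show z ∈ O from (show z = x from congrArg Subtype.val h).symm ▸ hxO, fun h => Subtype.ext (hOx ⟨h, hz⟩)⟩

end Groth.Agent.S5383
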