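import Groth.Statements.S5384
import Groth.Agent.GrpSchLib.Immersion
import Groth.Prelude.Def_Red

set_option autoImplicit false
universe u
open CategoryTheory CategoryTheory.Limits MonoidalCategory CartesianMonoidalCategory MonObj GrpObj AlgebraicGeometry
open SGA3

namespace Groth.Agent.S5384

/-- Let A be a local artinian ring, G an A-group scheme and u : H → G a homomorphism of A-group schemes
which is an immersion (a subgroup scheme; no finiteness is assumed). Then u is a closed immersion. -/
theorem result (A : Type u) [CommRing A] [IsArtinianRing A] [IsLocalRing A] (G H : Over (Spec (CommRingCat.of A))) [GrpObj G] [GrpObj H]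
    (u : H ⟶ G) [IsMonHom u] [IsImmersion u.left] : IsClosedImmersion u.left := by
  let j : Spec (CommRingCat.of (IsLocalRing.ResidueField A)) ⟶ Spec (CommRingCat.of A) :=
    Spec.map (CommRingCat.ofHom (IsLocalRing.residue A))
  haveI : IsClosedImmersion j := IsClosedImmersion.spec_of_surjective _ Ideal.Quotient.mk_surjective
  haveI : Surjective j := ⟨fun p => ⟨IsLocalRing.closedPoint (IsLocalRing.ResidueField A), Subsingleton.elim (α := PrimeSpectrum A) _ _⟩⟩
  let u' : Red.bc j H ⟶ Red.bc j G := (CategoryTheory.Over.pullback j).map u
  have sq : IsPullback u'.left (pullback.fst H.hom j) (pullback.fst G.hom j) u.left := by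
    refine IsPullback.of_right (h₁₂ := pullback.snd G.hom j) (v₁₃ := j) (h₂₂ := G.hom) ?_ ?_
      (IsPullback.of_hasPullback G.hom j).flip
    · rw [Over.w u, show u'.left ≫ pullback.snd G.hom j = pullback.snd H.hom j from Over.w u']
      exact (IsPullback.of_hasPullback H.hom j).flip
    · simp [u']; exact pullback.lift_fst _ _ _
  haveI : IsImmersion u'.left := MorphismProperty.of_isPullback (P := @IsImmersion) sq.flip inferInstance
  haveI : IsMonHom u' := inferInstanceAs (IsMonHom ((CategoryTheory.Over.pullback j).map u))
  haveI : IsClosedImmersion (pullback.fst G.hom j) :=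
    MorphismProperty.of_isPullback (P := @IsClosedImmersion) (IsPullback.of_hasPullback G.hom j).flip inferInstance
  haveI : Surjective (pullback.fst H.hom j) :=
    MorphismProperty.of_isPullback (P := @Surjective) (IsPullback.of_hasPullback H.hom j).flip inferInstance
  refine IsClosedImmersion.of_isPreimmersion _ ?_
  have h : Set.range u.left = pullback.fst G.hom j '' Set.range u'.left := by
    rw [← Set.range_comp, ← TopCat.coe_comp, ← Scheme.Hom.comp_base, sq.w, Scheme.Hom.comp_base, TopCat.coe_comp,
      (pullback.fst H.hom j).surjective.range_comp]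
  rw [h]
  exact (pullback.fst G.hom j).isClosedEmbedding.isClosedMap _ (GrpSchLib.isClosed_range_of_isImmersion u')

end Groth.Agent.S5384
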