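import Groth.Statements.S5385
import Groth.Agent.S0372
import Groth.Agent.S0376
import Groth.Agent.DualCxLib.Exist
import Groth.Agent.CMCat.Polynomial
open CategoryTheory CategoryTheory.Limits AlgebraicGeometry TopologicalSpace
-- import your own Groth.Agent.* helpers here

set_option autoImplicit false
universe u
open CategoryTheory CategoryTheory.Limits MonoidalCategory CartesianMonoidalCategory MonObj GrpObj AlgebraicGeometry
open SGA3

namespace Groth.Agent.S5385

/-- Let A be an artinian ring and X a nonempty scheme locally of finite type over A. Then X has a closed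
point whose local ring is Cohen–Macaulay. -/
theorem result (A : Type u) [CommRing A] [IsArtinianRing A] (X : Scheme.{u})
    (f : X ⟶ Spec (CommRingCat.of A)) [LocallyOfFiniteType f] [Nonempty X] :
    ∃ x : X, IsClosed ({x} : Set X) ∧ LocCoh.IsCohenMacaulayLocalRing (X.presheaf.stalk x) := by
  haveI : JacobsonSpace X := LocallyOfFiniteType.jacobsonSpace f
  obtain ⟨x₀⟩ := ‹Nonempty X›
  let m := (f x₀).asIdeal
  let Am := Localization.AtPrime m
  haveI : IsLocalRing Am := inferInstance
  haveI : IsArtinianRing Am := inferInstance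
  haveI : IsAdicComplete (IsLocalRing.maximalIdeal Am) Am := by
    obtain ⟨n, hn⟩ := IsArtinianRing.isNilpotent_jacobson_bot (R := Am)
    rw [IsLocalRing.jacobson_eq_maximalIdeal ⊥ bot_ne_top] at hn
    refine { haus' := fun x hx => ?_, prec' := fun g hg => ⟨g n, fun k => ?_⟩ }
    · have := hx n
      rw [hn] at this; simpa [SModEq.sub_mem] using this
    · rcases le_total k n with h | h
      · exact hg h
      · have := hg h
        rw [hn] at this
        rw [SModEq.sub_mem] at this ⊢
        have e : g n - g k = 0 := by simpa using this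
        rw [sub_eq_zero] at e; rw [e, sub_self]; exact zero_mem _
  obtain ⟨ω, hω⟩ := Groth.Agent.S0376.result Am
  have hop : IsOpen ({f x₀} : Set ↥(Spec (CommRingCat.of A))) := isOpen_discrete _
  obtain ⟨_, ⟨U, (hU : IsAffineOpen U), rfl⟩, hxU, hUV⟩ :=
    X.isBasis_affineOpens.exists_subset_of_mem_open (a := x₀) (show x₀ ∈ f ⁻¹' {f x₀} from rfl)
      (hop.preimage f.continuous)
  let B := Γ(X, U)
  letI : Algebra A B := ((Scheme.ΓSpecIso (CommRingCat.of A)).inv ≫ f.appLE ⊤ U le_top).hom.toAlgebra
  haveI : Algebra.FiniteType A B := by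
    have h := f.finiteType_appLE (isAffineOpen_top _) hU (le_top : U ≤ f ⁻¹ᵁ ⊤)
    exact RingHom.finiteType_algebraMap.1
      (h.comp (RingHom.FiniteType.of_surjective _ (Scheme.ΓSpecIso (CommRingCat.of A)).symm.commRingCatIsoToRingEquiv.surjective))
  have hfs : ∀ p : PrimeSpectrum B, Spec.map ((Scheme.ΓSpecIso (CommRingCat.of A)).inv ≫ f.appLE ⊤ U le_top) p =
      f (hU.fromSpec p) := fun p => by
    rw [← Scheme.Hom.comp_apply hU.fromSpec f]
    refine congrArg (fun φ : Spec Γ(X, U) ⟶ Spec (CommRingCat.of A) => φ p) ?_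
    rw [← IsAffineOpen.SpecMap_appLE_fromSpec f (isAffineOpen_top _) hU le_top, IsAffineOpen.fromSpec_top,
      Scheme.isoSpec_Spec_inv, Spec.map_comp]
  have hu : ∀ s : m.primeCompl, IsUnit (algebraMap A B s) := fun s => by
    by_contra hns
    obtain ⟨M, hM, hs⟩ := exists_max_ideal_of_mem_nonunits hns
    let p : PrimeSpectrum B := ⟨M, hM.isPrime⟩
    have hp : f (hU.fromSpec p) = f x₀ := hUV (by
      have : hU.fromSpec p ∈ Set.range hU.fromSpec := ⟨p, rfl⟩
      rwa [hU.range_fromSpec] at this)
    rw [← hfs] at hp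
    refine s.2 ?_
    show (s : A) ∈ (f x₀).asIdeal
    exact (congrArg (fun z : PrimeSpectrum A => (s : A) ∈ z.asIdeal) hp).mp hs
  letI : Algebra Am B := (IsLocalization.lift (M := m.primeCompl) hu).toAlgebra
  haveI : IsScalarTower A Am B := .of_algebraMap_eq fun a => (IsLocalization.lift_eq hu a).symm
  haveI : Algebra.FiniteType Am B := Algebra.FiniteType.of_restrictScalars_finiteType A Am B
  haveI : IsNoetherianRing B := Algebra.FiniteType.isNoetherianRing Am B
  obtain ⟨ω', hω'⟩ := Groth.Agent.DualCxLib.exists_dualizing_of_finiteType B hω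
  obtain ⟨hopen, hdense⟩ := Groth.Agent.S0372.result B ω' hω'
  let C := {p : PrimeSpectrum B | LocCoh.IsCohenMacaulayLocalRing (Localization.AtPrime p.asIdeal)}
  have hne : (hU.fromSpec '' C).Nonempty := by
    haveI : Nonempty (PrimeSpectrum B) := ⟨hU.primeIdealOf ⟨x₀, hxU⟩⟩
    exact (hdense.nonempty).image _
  have hopen' : IsOpen (hU.fromSpec '' C) := hU.fromSpec.isOpenEmbedding.isOpenMap _ hopen
  obtain ⟨x, hx, hxc⟩ := nonempty_inter_closedPoints hne hopen'.isLocallyClosed
  obtain ⟨p, hp, rfl⟩ := hx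
  refine ⟨_, hxc, ?_⟩
  have hmem : hU.fromSpec p ∈ U := by
    have : hU.fromSpec p ∈ Set.range hU.fromSpec := ⟨p, rfl⟩
    rwa [hU.range_fromSpec] at this
  letI : Algebra B (X.presheaf.stalk (hU.fromSpec p)) := TopCat.Presheaf.algebra_section_stalk X.presheaf ⟨_, hmem⟩
  haveI : IsLocalization.AtPrime (X.presheaf.stalk (hU.fromSpec p)) p.asIdeal := hU.isLocalization_stalk' p hmem
  haveI := (hp : LocCoh.IsCohenMacaulayLocalRing (Localization.AtPrime p.asIdeal))
  exact @Groth.Agent.CMCat.isCohenMacaulayLocalRing_of_ringEquiv _ _ _ _ this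
    (IsLocalization.algEquiv p.asIdeal.primeCompl (Localization.AtPrime p.asIdeal) _).toRingEquiv

end Groth.Agent.S5385
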