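import Groth.Statements.S5386
import Groth.Agent.StrictRatLib.Alg
import Groth.Agent.S1349
import Groth.Agent.S3029

set_option backward.isDefEq.respectTransparency false
set_option backward.isDefEq.respectTransparency.types false
set_option maxHeartbeats 800000
set_option synthInstance.maxHeartbeats 400000
set_option linter.style.haveILetI false

set_option autoImplicit false
universe u
open CategoryTheory CategoryTheory.Limits MonoidalCategory CartesianMonoidalCategory MonObj GrpObj AlgebraicGeometry
open SGA3

namespace Groth.Agent.S5386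

/-- Let A be a local artinian ring, G an A-group scheme which is flat and locally of finite type over A,
and x a closed point of G. Then there is a local A-algebra A', finite and free as an A-module, such
that every point of G ⊗_A A' lying over x is strictly rational over A': it is the image of the
closed point under some section Spec A' → G ⊗_A A' of the projection. -/
theorem result (A : Type u) [CommRing A] [IsArtinianRing A] [IsLocalRing A] (G : Over (Spec (CommRingCat.of A))) [GrpObj G] [Flat G.hom]
    [LocallyOfFiniteType G.hom] (x : G.left) (hx : IsClosed ({x} : Set G.left)) :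
    ∃ (A' : Type u) (_ : CommRing A') (_ : IsLocalRing A') (_ : Algebra A A') (_ : Module.Finite A A') (_ : Module.Free A A'),
      ∀ x' : ↥(pullback G.hom (Spec.map (CommRingCat.ofHom (algebraMap A A')))),
        (pullback.fst G.hom (Spec.map (CommRingCat.ofHom (algebraMap A A')))).base x' = x →
        ∃ s : Spec (CommRingCat.of A') ⟶ pullback G.hom (Spec.map (CommRingCat.ofHom (algebraMap A A'))),
          s ≫ pullback.snd G.hom (Spec.map (CommRingCat.ofHom (algebraMap A A'))) = 𝟙 _ ∧ x' ∈ Set.range s.base := by
  haveI : IsNoetherianRing (CommRingCat.of A) := inferInstanceAs (IsNoetherianRing A)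
  haveI : LocallyOfFinitePresentation G.hom := LocallyOfFinitePresentation.iff_locallyOfFiniteType.mpr inferInstance
  let S := Spec (CommRingCat.of A)
  have hsub : Subsingleton S := by
    refine ⟨fun p q => PrimeSpectrum.ext ?_⟩
    exact (IsLocalRing.eq_maximalIdeal (IsArtinianRing.isMaximal_of_isPrime p.asIdeal)).trans
      (IsLocalRing.eq_maximalIdeal (IsArtinianRing.isMaximal_of_isPrime q.asIdeal)).symm
  -- the slice
  have hcm : MoreMor.IsCMAt G.hom x := by
    refine ⟨Flat.stalkMap G.hom x, ?_⟩
    let f := S.fromSpecResidueField (G.hom x)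
    let GF : Over (Spec (CommRingCat.of (S.residueField (G.hom x)))) := Red.bc f G
    haveI : LocallyOfFiniteType GF.hom := inferInstanceAs (LocallyOfFiniteType (pullback.snd G.hom f))
    exact S3029.result (S.residueField (G.hom x)) GF (G.hom.asFiber x)
  have hcl : IsClosed ({G.hom.asFiber x} : Set ↑(G.hom.fiber (G.hom x))) := by
    have e : ({G.hom.asFiber x} : Set ↑(G.hom.fiber (G.hom x))) = G.hom.fiberι (G.hom x) ⁻¹' {x} := by
      ext p
      simp only [Set.mem_singleton_iff, Set.mem_preimage]
      exact ⟨fun h => h ▸ G.hom.fiberι_asFiber x, fun h => (G.hom.fiberι _).isEmbedding.injective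
        (h.trans (G.hom.fiberι_asFiber x).symm)⟩
    rw [e]
    exact hx.preimage (G.hom.fiberι _).continuous
  obtain ⟨V, Z, i, hi, ⟨z₀, hz₀⟩, hfl, hfp, hqf, huniq⟩ := S1349.result G.hom x hcm hcl
  haveI : IsClosedImmersion i := hi.1
  haveI : Subsingleton Z := ⟨fun a b => (i ≫ V.ι).isEmbedding.injective
    ((huniq a (@Subsingleton.elim _ hsub _ _)).trans (huniq b (@Subsingleton.elim _ hsub _ _)).symm)⟩
  haveI : IsAffine Z := by
    obtain ⟨W, hW, hzW, -⟩ := exists_isAffineOpen_mem_and_subset (x := z₀) (U := ⊤) trivial
    have e : W = ⊤ := eq_top_iff.2 fun a _ => (Subsingleton.elim z₀ a) ▸ hzW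
    rw [e] at hW
    haveI : IsAffine (⊤ : Z.Opens).toScheme := hW
    exact IsAffine.of_isIso Z.topIso.inv
  let B := Γ(Z, ⊤)
  let j : Spec B ⟶ G.left := Z.isoSpec.inv ≫ i ≫ V.ι
  letI : Algebra A B := (Spec.preimage (j ≫ G.hom)).hom.toAlgebra
  have hB : Spec.map (CommRingCat.ofHom (algebraMap A B)) = j ≫ G.hom := Spec.map_preimage _
  haveI : Module.Flat A B := by
    haveI := hfl
    have h : Flat (Spec.map (CommRingCat.ofHom (algebraMap A B))) := by
      rw [hB]
      show Flat ((Z.isoSpec.inv ≫ i ≫ V.ι) ≫ G.hom)
      simp only [Category.assoc]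
      infer_instance
    rw [HasRingHomProperty.Spec_iff (P := @Flat)] at h
    exact RingHom.flat_algebraMap_iff.1 h
  haveI : Algebra.QuasiFinite A B := by
    haveI := hqf
    have h : LocallyQuasiFinite (Spec.map (CommRingCat.ofHom (algebraMap A B))) := by
      rw [hB]
      show LocallyQuasiFinite ((Z.isoSpec.inv ≫ i ≫ V.ι) ≫ G.hom)
      simp only [Category.assoc]
      infer_instance
    rw [HasRingHomProperty.Spec_iff (P := @LocallyQuasiFinite)] at h
    exact RingHom.quasiFinite_algebraMap.1 h
  haveI : Module.Finite A B := Module.Finite.of_quasiFinite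
  haveI : Module.Free A B := Module.free_of_flat_of_isLocalRing
  obtain ⟨A', _, _, _, _, _, hA'⟩ := StrictRatLib.exists_splitting_algebra (A := A) B
  refine ⟨A', inferInstance, inferInstance, inferInstance, inferInstance, inferInstance, fun x' hx' => ?_⟩
  let q := Spec.map (CommRingCat.ofHom (algebraMap A A'))
  obtain ⟨w, hw⟩ : x' ∈ Set.range (pullback.snd j (pullback.fst G.hom q)) := by
    rw [Scheme.Pullback.range_snd]
    refine ⟨Z.isoSpec.hom z₀, ?_⟩
    rw [hx', ← Scheme.Hom.comp_apply, Iso.hom_inv_id_assoc]
    exact hz₀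
  let P := pullback j (pullback.fst G.hom q)
  let Ω : Type u := AlgebraicClosure (P.residueField w)
  let pt : Spec (CommRingCat.of Ω) ⟶ P :=
    Spec.map (CommRingCat.ofHom (algebraMap (P.residueField w) Ω)) ≫ P.fromSpecResidueField w
  let a : Spec (CommRingCat.of Ω) ⟶ Spec B := pt ≫ pullback.fst _ _
  let b : Spec (CommRingCat.of Ω) ⟶ Spec (CommRingCat.of A') := pt ≫ pullback.snd _ _ ≫ pullback.snd _ _
  letI : Algebra A Ω := ((Spec.preimage b).hom.comp (algebraMap A A')).toAlgebra
  have hab : CommRingCat.ofHom (algebraMap A B) ≫ Spec.preimage a =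
      CommRingCat.ofHom (algebraMap A A') ≫ Spec.preimage b := Spec.map_injective (by
    rw [Spec.map_comp, Spec.map_comp, Spec.map_preimage, Spec.map_preimage, hB]
    simp only [a, b, Category.assoc]
    rw [pullback.condition_assoc, pullback.condition])
  let β : A' →ₐ[A] Ω := { (Spec.preimage b).hom with commutes' := fun _ => rfl }
  let α : B →ₐ[A] Ω := { (Spec.preimage a).hom with commutes' := fun r => congrArg (fun m => m.hom r) hab }
  obtain ⟨g, hg⟩ := hA' Ω α β
  let gs : Spec (CommRingCat.of A') ⟶ Spec B := Spec.map (CommRingCat.ofHom g.toRingHom)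
  have hgs : b ≫ gs = a := by
    rw [← Spec.map_preimage b, ← Spec.map_preimage a, ← Spec.map_comp]
    congr 1
    exact CommRingCat.hom_ext (RingHom.ext fun r => congr($hg r))
  have hs : (gs ≫ j) ≫ G.hom = 𝟙 _ ≫ q := by
    rw [Category.assoc, ← hB, ← Spec.map_comp, Category.id_comp, ← CommRingCat.ofHom_comp]
    show Spec.map _ = Spec.map _
    congr 2
    exact g.comp_algebraMap
  refine ⟨pullback.lift (gs ≫ j) (𝟙 _) hs, pullback.lift_snd _ _ _, b (IsLocalRing.closedPoint Ω), ?_⟩
  rw [← hw]
  have hpt : b ≫ pullback.lift (gs ≫ j) (𝟙 _) hs = pt ≫ pullback.snd j (pullback.fst G.hom q) := by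
    apply pullback.hom_ext
    · rw [Category.assoc, pullback.lift_fst, reassoc_of% hgs, Category.assoc]
      simp only [Category.assoc]
      rw [pullback.condition]
    · rw [Category.assoc, pullback.lift_snd, Category.comp_id, Category.assoc]
  have hp : pt (IsLocalRing.closedPoint Ω) = w := P.fromSpecResidueField_apply w _
  have h := congrArg (fun f : _ ⟶ pullback G.hom q => f (IsLocalRing.closedPoint Ω)) hpt
  exact h.trans (congrArg (fun p => pullback.snd j (pullback.fst G.hom q) p) hp)

end Groth.Agent.S5386
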