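import Groth.Statements.S5387
import Mathlib
-- import your own Groth.Agent.* helpers here

set_option autoImplicit false
set_option backward.isDefEq.respectTransparency false
universe u
open CategoryTheory CategoryTheory.Limits MonoidalCategory CartesianMonoidalCategory MonObj GrpObj AlgebraicGeometry
open SGA3

namespace Groth.Agent.S5387

/-- Let k be an algebraically closed field, G a group scheme locally of finite type over k and x a
closed point of G. Then the local ring of G at x is isomorphic to the local ring of G at the unit
point (an isomorphism is induced by a translation; this row asserts the existence of an isomorphism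
of rings). -/
theorem result (k : Type u) [Field k] [IsAlgClosed k] (G : Over (Spec (CommRingCat.of k))) [GrpObj G]
    [LocallyOfFiniteType G.hom] (pt : ↥(𝟙_ (Over (Spec (CommRingCat.of k)))).left) (x : G.left) (hx : IsClosed ({x} : Set G.left)) :
    Nonempty (G.left.presheaf.stalk (η[G].left.base pt) ≅ G.left.presheaf.stalk x) := by
  let B' := Spec (CommRingCat.of k)
  let t : 𝟙_ (Over B') ⟶ G := Over.homMk _ ((pointEquivClosedPoint G.hom).symm ⟨x, hx⟩).2
  have ht : t.left pt = x := by
    rw [Subsingleton.elim (α := PrimeSpectrum k) pt (IsLocalRing.closedPoint k)]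
    exact congrArg Subtype.val ((pointEquivClosedPoint G.hom).apply_symm_apply ⟨x, hx⟩)
  let L : G ⟶ G := (toUnit G ≫ t) * 𝟙 G
  have hLe : η[G] ≫ L = t := by
    rw [MonObj.comp_mul, Category.comp_id, ← Category.assoc, toUnit_unique (η[G] ≫ toUnit G) (𝟙 _), Category.id_comp,
      MonObj.one_eq_one, _root_.mul_one]
  haveI : IsIso L := by
    refine ⟨(toUnit G ≫ t)⁻¹ * 𝟙 G, ?_, ?_⟩
    · rw [MonObj.comp_mul, GrpObj.comp_inv, ← Category.assoc, toUnit_unique (L ≫ toUnit G) (toUnit G),
        Category.comp_id]
      exact inv_mul_cancel_left _ _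
    · rw [MonObj.comp_mul, ← Category.assoc,
        toUnit_unique (((toUnit G ≫ t)⁻¹ * 𝟙 G) ≫ toUnit G) (toUnit G), Category.comp_id]
      exact mul_inv_cancel_left _ _
  haveI : IsIso L.left := ((Over.forget B').mapIso (asIso L)).isIso_hom
  have hpt : L.left (η[G].left pt) = x := by
    rw [← ht, ← hLe]; rfl
  exact ⟨(G.left.presheaf.stalkCongr (.of_eq hpt.symm) ≪≫ asIso (L.left.stalkMap (η[G].left pt))).symm⟩

end Groth.Agent.S5387
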