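import Groth.Statements.S5388
import Groth.Agent.PerfRedLib.Main
import Groth.Agent.S14588
-- import your own Groth.Agent.* helpers here

set_option autoImplicit false
set_option backward.isDefEq.respectTransparency false
set_option backward.isDefEq.respectTransparency.types false
universe u
open CategoryTheory CategoryTheory.Limits MonoidalCategory CartesianMonoidalCategory MonObj GrpObj AlgebraicGeometry
open SGA3

namespace Groth.Agent.S5388

/-- Let G be a group scheme locally of finite type over a field k, e its unit point and K a perfect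
extension field of k. If K ⊗_k O_{G,e} is a reduced ring, then G is smooth over k. (The published
statement is for a group flat and locally of finite type over a local artinian ring, with K the
perfect closure of the residue field; this row is the case of a base field, with K any perfect
extension.) -/
theorem result (k : Type u) [Field k] (G : Over (Spec (CommRingCat.of k))) [GrpObj G]
    [LocallyOfFiniteType G.hom] (pt : ↥(𝟙_ (Over (Spec (CommRingCat.of k)))).left) (K : Type u) [Field K] [Algebra k K] [PerfectField K] :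
    letI := ((Scheme.ΓSpecIso (CommRingCat.of k)).inv ≫ G.hom.appTop ≫ G.left.presheaf.germ ⊤ (η[G].left.base pt) trivial).hom.toAlgebra
    IsReduced (TensorProduct k K (G.left.presheaf.stalk (η[G].left.base pt))) → Smooth G.hom := by
  intro hred
  let e₀ : G.left := η[G].left.base pt
  let O := G.left.presheaf.stalk e₀
  obtain ⟨V, hV, heV, -⟩ := exists_isAffineOpen_mem_and_subset (X := G.left) (x := e₀) (U := ⊤) trivial
  letI algO : Algebra k O :=
    ((Scheme.ΓSpecIso (CommRingCat.of k)).inv ≫ G.hom.appTop ≫ G.left.presheaf.germ ⊤ e₀ trivial).hom.toAlgebra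
  letI algA : Algebra k Γ(G.left, V) :=
    ((Scheme.ΓSpecIso (CommRingCat.of k)).inv ≫ G.hom.appLE ⊤ V le_top).hom.toAlgebra
  letI algAO : Algebra Γ(G.left, V) O := (G.left.presheaf.germ V e₀ heV).hom.toAlgebra
  haveI : IsScalarTower k Γ(G.left, V) O := .of_algebraMap_eq fun r => by
    show ((Scheme.ΓSpecIso (CommRingCat.of k)).inv ≫ G.hom.appTop ≫ G.left.presheaf.germ ⊤ e₀ trivial) r =
      ((Scheme.ΓSpecIso (CommRingCat.of k)).inv ≫ G.hom.appLE ⊤ V le_top ≫ G.left.presheaf.germ V e₀ heV) r
    have key : G.hom.appTop ≫ G.left.presheaf.germ ⊤ e₀ trivial =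
        G.hom.appLE ⊤ V le_top ≫ G.left.presheaf.germ V e₀ heV := by
      rw [Scheme.Hom.appLE, Category.assoc, G.left.presheaf.germ_res]
      rfl
    rw [key]
  haveI hloc := hV.isLocalization_stalk ⟨e₀, heV⟩
  haveI : Algebra.FiniteType k Γ(G.left, V) := by
    have h1 : (G.hom.appLE ⊤ V le_top).hom.FiniteType :=
      Scheme.Hom.finiteType_appLE G.hom (isAffineOpen_top _) hV le_top
    exact RingHom.finiteType_algebraMap.1 (h1.comp (RingHom.FiniteType.of_surjective
      (Scheme.ΓSpecIso (CommRingCat.of k)).inv.hom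
      (Scheme.ΓSpecIso (CommRingCat.of k)).symm.commRingCatIsoToRingEquiv.surjective))
  haveI : Algebra.IsGeometricallyReduced k O :=
    PerfRedLib.isGeometricallyReduced_of_perfect_ext k K O hred
  obtain ⟨f, hf, hgr⟩ := PerfRedLib.exists_away k Γ(G.left, V) (hV.primeIdealOf ⟨e₀, heV⟩).asIdeal O
  haveI := hgr
  let Af := Localization.Away f
  let W : G.left.Opens := G.left.basicOpen f
  have heW : e₀ ∈ W := by
    rw [show W = G.left.basicOpen f from rfl, Scheme.mem_basicOpen _ _ e₀ heV]
    exact IsLocalization.map_units (M := (hV.primeIdealOf ⟨e₀, heV⟩).asIdeal.primeCompl) O ⟨f, hf⟩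
  let j : Spec (CommRingCat.of Af) ⟶ G.left :=
    Spec.map (CommRingCat.ofHom (algebraMap Γ(G.left, V) Af)) ≫ hV.fromSpec
  have hj : j ≫ G.hom = Spec.map (CommRingCat.ofHom (algebraMap k Af)) := by
    show (_ ≫ hV.fromSpec) ≫ G.hom = _
    rw [Category.assoc, ← IsAffineOpen.SpecMap_appLE_fromSpec G.hom (isAffineOpen_top _) hV le_top,
      IsAffineOpen.fromSpec_top, Scheme.isoSpec_Spec_inv, ← Spec.map_comp, ← Spec.map_comp]
    congr 1
  let g := Spec.map (CommRingCat.ofHom (algebraMap k (AlgebraicClosure k)))
  let q := Limits.pullback.map (Spec.map (CommRingCat.ofHom (algebraMap k Af))) g G.hom g j (𝟙 _) (𝟙 _)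
    (by rw [Category.comp_id, hj]) (by rw [Category.comp_id, Category.id_comp])
  haveI : IsOpenImmersion j := by
    haveI : IsOpenImmersion (Spec.map (CommRingCat.ofHom (algebraMap Γ(G.left, V) Af))) :=
      IsOpenImmersion.of_isLocalization f
    infer_instance
  haveI hqo : IsOpenImmersion q := inferInstanceAs (IsOpenImmersion (Limits.pullback.map _ _ _ _ _ _ _ _ _))
  haveI : IsReduced (TensorProduct k (AlgebraicClosure k) Af) := inferInstance
  haveI : AlgebraicGeometry.IsReduced
      (Limits.pullback (Spec.map (CommRingCat.ofHom (algebraMap k Af))) g) := by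
    haveI : _root_.IsReduced (TensorProduct k Af (AlgebraicClosure k)) :=
      isReduced_of_injective (Algebra.TensorProduct.comm k _ _) (AlgEquiv.injective _)
    exact isReduced_of_isOpenImmersion (pullbackSpecIso k Af (AlgebraicClosure k)).hom
  refine Groth.Agent.S14588.result k G (IsLocalRing.closedPoint (AlgebraicClosure k)) ?_
  let t := (η[Red.bc g G]).left (IsLocalRing.closedPoint (AlgebraicClosure k))
  have ht : Limits.pullback.fst G.hom g t ∈ Set.range j := by
    have h1 : ((η[Red.bc g G]).left ≫ Limits.pullback.fst G.hom g) = g ≫ η[G].left := by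
      simp
    have h2 : Limits.pullback.fst G.hom g t = e₀ := by
      show ((η[Red.bc g G]).left ≫ Limits.pullback.fst G.hom g) _ = _
      rw [h1, Scheme.Hom.comp_apply]
      exact congrArg _ (Subsingleton.elim (α := PrimeSpectrum k) _ _)
    rw [h2]
    show e₀ ∈ Set.range (Spec.map (CommRingCat.ofHom (algebraMap Γ(G.left, V) Af)) ≫ hV.fromSpec)
    have hb : hV.fromSpec (hV.primeIdealOf ⟨e₀, heV⟩) = e₀ := hV.fromSpec_primeIdealOf ⟨e₀, heV⟩
    have hmem : hV.primeIdealOf ⟨e₀, heV⟩ ∈ Set.range (Spec.map (CommRingCat.ofHom (algebraMap Γ(G.left, V) Af))) :=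
      (PrimeSpectrum.localization_away_comap_range Af f).ge hf
    obtain ⟨w, hw⟩ := hmem
    exact ⟨w, (Scheme.Hom.comp_apply _ _ w).trans ((congrArg (fun q => hV.fromSpec q) hw).trans hb)⟩
  obtain ⟨z, hz⟩ : t ∈ Set.range q := by
    rw [Scheme.Pullback.range_map]
    exact ⟨ht, ⟨Limits.pullback.snd G.hom g t, rfl⟩⟩
  show _root_.IsReduced ((Red.bc g G).left.presheaf.stalk t)
  rw [← hz]
  exact isReduced_of_injective (q.stalkMap z).hom (ConcreteCategory.bijective_of_isIso (q.stalkMap z)).1

end Groth.Agent.S5388
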