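import Groth.Statements.S5392
import Groth.Agent.SmoothGrp.MonoRep
-- import your own Groth.Agent.* helpers here

set_option autoImplicit false
universe u
open CategoryTheory CategoryTheory.Limits MonoidalCategory CartesianMonoidalCategory MonObj GrpObj AlgebraicGeometry
open SGA3

namespace Groth.Agent.S5392

/-- Let X be an S-group scheme which is smooth and of finite presentation over S with connected fibres,
Y an S-group scheme of finite presentation over S and i : Y → X a homomorphism which is a
monomorphism. Then there is a closed immersion t : T → S, locally of finite presentation, such that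
a morphism g : S' → S factors through t exactly when the base change of i along g is an isomorphism. -/
theorem result (S : Scheme.{u}) (X Y : Over S) [GrpObj X] [GrpObj Y]
    [Smooth X.hom] [QuasiCompact X.hom] [QuasiSeparated X.hom]
    (hconn : ∀ s : S, _root_.IsConnected (X.hom.base ⁻¹' {s}))
    [LocallyOfFinitePresentation Y.hom] [QuasiCompact Y.hom] [QuasiSeparated Y.hom]
    (i : Y ⟶ X) [IsMonHom i] [Mono i] :
    ∃ (T : Scheme.{u}) (t : T ⟶ S), IsClosedImmersion t ∧ LocallyOfFinitePresentation t ∧
      ∀ (S' : Scheme.{u}) (g : S' ⟶ S),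
        (∃ g' : S' ⟶ T, g' ≫ t = g) ↔ IsIso ((Over.pullback g).map i) := by
  haveI := SmoothGrp.geometricallyIrreducible_of_connected_fibres (X := X) fun s => by
    haveI := isConnected_iff_connectedSpace.1 (hconn s)
    exact (X.hom.fiberHomeo s).symm.surjective.connectedSpace (X.hom.fiberHomeo s).symm.continuous
  obtain ⟨T, t, ht, hfp, hT⟩ := SmoothGrp.exists_closed_iso i
  refine ⟨T, t, ht, hfp, fun S' g => (hT S' g).trans ⟨fun h => ?_, fun hi => ?_⟩⟩
  · obtain ⟨l, hl⟩ := h (Limits.pullback.fst X.hom g) (Limits.pullback.snd X.hom g) Limits.pullback.condition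
    let s : (Over.pullback g).obj X ⟶ (Over.pullback g).obj Y := Over.homMk (Limits.pullback.lift l (Limits.pullback.snd X.hom g)
      (by rw [← Over.w i, reassoc_of% hl, Limits.pullback.condition])) (Limits.pullback.lift_snd _ _ _)
    have hs : s ≫ (Over.pullback g).map i = 𝟙 _ := by
      apply Over.OverMorphism.ext
      apply Limits.pullback.hom_ext
      · simp [s]; rw [Limits.pullback.lift_fst, Limits.pullback.lift_fst_assoc, hl]
      · simp [s]; rw [Limits.pullback.lift_snd, Limits.pullback.lift_snd]
    haveI : IsSplitEpi ((Over.pullback g).map i) := ⟨⟨⟨s, hs⟩⟩⟩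
    exact isIso_of_mono_of_isSplitEpi _
  · intro W a b w
    refine ⟨Limits.pullback.lift a b w ≫ (inv ((Over.pullback g).map i)).left ≫ Limits.pullback.fst Y.hom g, ?_⟩
    have h1 := congrArg (fun z => z.left ≫ Limits.pullback.fst X.hom g) (IsIso.inv_hom_id ((Over.pullback g).map i))
    have h2 : ((Over.pullback g).map i).left ≫ Limits.pullback.fst X.hom g = Limits.pullback.fst Y.hom g ≫ i.left :=
      Limits.pullback.lift_fst _ _ _
    simp only [Over.comp_left, Category.assoc, Over.id_left, h2, Category.id_comp] at h1
    simp only [Category.assoc]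
    erw [h1, Limits.pullback.lift_fst]

end Groth.Agent.S5392
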