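import Groth.Statements.S5393
import Groth.Agent.OpenSubgrp.Fibres
-- import your own Groth.Agent.* helpers here

set_option autoImplicit false
universe u
open CategoryTheory CategoryTheory.Limits MonoidalCategory CartesianMonoidalCategory MonObj GrpObj AlgebraicGeometry
open SGA3

namespace Groth.Agent.S5393

/-- Let G be an S-group scheme locally of finite presentation and quasi-separated over S, H an S-group
scheme smooth and of finite presentation over S with connected fibres, u : H → G a homomorphism
which is a monomorphism, n : N → G the normalizer of H in G (a closed subgroup scheme) and j : H → N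
the homomorphism with j n = u. The following are equivalent: (i) j is an open immersion; (ii) H
represents the neutral component of N: a point g : T → N factors through j exactly when the image of
its underlying map lies in the union of the neutral components of the fibres of N; (iii) for every s
in S, the fibre j_s : H_s → N_s is an open immersion whose image is the neutral component of N_s.
(The published statement asks H only to be smooth over S with connected fibres; this row also asks H
quasi-compact and quasi-separated over S, the hypotheses under which the normalizer is shown to be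
representable.) -/
theorem result (S : Scheme.{u}) (G H N : Over S) [GrpObj G] [GrpObj H] [GrpObj N]
    [LocallyOfFinitePresentation G.hom] [QuasiSeparated G.hom] [Smooth H.hom] [QuasiCompact H.hom] [QuasiSeparated H.hom]
    (hconn : ∀ s : S, _root_.IsConnected (H.hom.base ⁻¹' {s})) (u : H ⟶ G) [IsMonHom u] [Mono u]
    (n : N ⟶ G) [IsClosedImmersion n.left] (hN : Red.IsNormalizerOf u n) (j : H ⟶ N) [IsMonHom j] (hj : j ≫ n = u) :
    (IsOpenImmersion j.left ↔
      ∀ (T : Over S) (g : T ⟶ N), (∃ h : T ⟶ H, h ≫ j = g) ↔ Set.range g.left.base ⊆ SGA3x.neutralSet N) ∧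
    (IsOpenImmersion j.left ↔
      ∀ s : S, IsOpenImmersion ((Over.pullback (S.fromSpecResidueField s)).map j).left ∧
        j.left.base '' (H.hom.base ⁻¹' {s}) = SGA3x.neutralSet N ∩ N.hom.base ⁻¹' {s}) := by
  haveI : LocallyOfFiniteType N.hom := by rw [← Over.w n]; infer_instance
  haveI : Mono (j ≫ n) := by rw [hj]; infer_instance
  haveI : Mono j := mono_of_mono j n
  have hfwd : IsOpenImmersion j.left → ∀ s : S, IsOpenImmersion (OpenSubgrp.fib s j).left := fun _ s =>
    MorphismProperty.of_isPullback (P := @IsOpenImmersion) (OpenSubgrp.isPullback_fib s j) ‹_›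
  refine ⟨⟨fun h T g => ?_, fun h => OpenSubgrp.isOpenImmersion_of_fib j (OpenSubgrp.fib_of_functor j hconn h)⟩,
    ⟨fun h s => ?_, fun h => OpenSubgrp.isOpenImmersion_of_fib j fun s => (h s).1⟩⟩
  · have hr := OpenSubgrp.range_eq_neutralSet j hconn (hfwd h)
    constructor
    · rintro ⟨l, rfl⟩ _ ⟨x, rfl⟩
      rw [← hr]
      exact ⟨l.left x, rfl⟩
    · intro hg
      haveI := h
      let l := IsOpenImmersion.lift j.left g.left (hg.trans hr.ge)
      have hl : l ≫ j.left = g.left := IsOpenImmersion.lift_fac _ _ _
      refine ⟨Over.homMk l ?_, Over.OverMorphism.ext hl⟩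
      rw [← Over.w j, reassoc_of% hl, Over.w]
  · haveI := hfwd h s
    exact ⟨hfwd h s, OpenSubgrp.image_fibre j hconn s⟩

end Groth.Agent.S5393
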