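import Groth.Statements.S5395
import Mathlib.Topology.Constructible
import Mathlib.AlgebraicGeometry.Morphisms.FiniteType

set_option autoImplicit false
universe u
open CategoryTheory CategoryTheory.Limits MonoidalCategory CartesianMonoidalCategory MonObj GrpObj AlgebraicGeometry
open SGA3

namespace Groth.Agent.S5395

open Topology

theorem exists_lc_of_constructible {X : Type*} [TopologicalSpace X] {s : Set X} (hs : IsConstructible s) :
    (∀ x ∈ s, ∃ Z, IsLocallyClosed Z ∧ x ∈ Z ∧ Z ⊆ s) ∧ (∀ x ∈ sᶜ, ∃ Z, IsLocallyClosed Z ∧ x ∈ Z ∧ Z ⊆ sᶜ) := by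
  induction hs using IsConstructible.empty_union_induction with
  | open_retrocompact U hU _ =>
    exact ⟨fun x hx => ⟨U, hU.isLocallyClosed, hx, le_rfl⟩,
      fun x hx => ⟨Uᶜ, hU.isClosed_compl.isLocallyClosed, hx, le_rfl⟩⟩
  | union a _ b _ ha hb =>
    refine ⟨fun x hx => ?_, fun x hx => ?_⟩
    · rcases hx with h | h
      · obtain ⟨Z, hZ, hxZ, hZs⟩ := ha.1 x h
        exact ⟨Z, hZ, hxZ, hZs.trans Set.subset_union_left⟩
      · obtain ⟨Z, hZ, hxZ, hZs⟩ := hb.1 x h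
        exact ⟨Z, hZ, hxZ, hZs.trans Set.subset_union_right⟩
    · rw [Set.compl_union] at hx ⊢
      obtain ⟨Z, hZ, hxZ, hZs⟩ := ha.2 x hx.1
      obtain ⟨Z', hZ', hxZ', hZs'⟩ := hb.2 x hx.2
      exact ⟨Z ∩ Z', hZ.inter hZ', ⟨hxZ, hxZ'⟩, Set.inter_subset_inter hZs hZs'⟩
  | compl a _ ha => exact ⟨ha.2, by rw [compl_compl]; exact ha.1⟩

theorem exists_lc_of_indConstructible {X : Type*} [TopologicalSpace X] {E : Set X} (hE : ProCons.IsIndConstructible E)
    {x : X} (hx : x ∈ E) : ∃ Z, IsLocallyClosed Z ∧ x ∈ Z ∧ Z ⊆ E := by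
  obtain ⟨U, hU, hxU, S, hS, hSe⟩ := hE x
  obtain ⟨T, hTS, hxT⟩ : ∃ T ∈ S, (⟨x, hxU⟩ : ↥U) ∈ T := by
    have : (⟨x, hxU⟩ : ↥U) ∈ ⋃₀ S := hSe ▸ hx
    exact this
  obtain ⟨V, hVn, hV, hVc⟩ := hS T hTS ⟨x, hxU⟩
  obtain ⟨Z, hZ, hxZ, hZs⟩ := (exists_lc_of_constructible hVc).1 ⟨⟨x, hxU⟩, mem_of_mem_nhds hVn⟩ hxT
  have hVe : IsOpenEmbedding (fun v : ↥V => (v.1.1 : X)) :=
    hU.isOpenEmbedding_subtypeVal.comp hV.isOpenEmbedding_subtypeVal
  refine ⟨(fun v : ↥V => (v.1.1 : X)) '' Z, hZ.image hVe.isEmbedding.toIsInducing hVe.isOpen_range.isLocallyClosed, ⟨_, hxZ, rfl⟩, ?_⟩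
  rintro _ ⟨v, hv, rfl⟩
  have : v.1 ∈ ⋃₀ S := ⟨T, hTS, hZs hv⟩
  rw [← hSe] at this
  exact this

/-- Let k be an algebraically closed field, G a group scheme locally of finite type over k, and A, B two
ind-constructible subsets of G. Let A·B be the image under the multiplication of the set of points
of G ×_k G whose two projections lie in A and B. Then every closed point z of G lying in A·B is the
product of a closed point of G ×_k G whose two projections lie in A and B (and are then closed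
points): the rational points of A·B are the products of rational points of A and of B. -/
theorem result (k : Type u) [Field k] [IsAlgClosed k] (G : Over (Spec (CommRingCat.of k))) [GrpObj G]
    [LocallyOfFiniteType G.hom] (A B : Set G.left) (hA : ProCons.IsIndConstructible A) (hB : ProCons.IsIndConstructible B)
    (z : G.left) (hz : IsClosed ({z} : Set G.left))
    (hzAB : z ∈ μ[G].left.base '' {w : ↥(G ⊗ G).left | (fst G G).left.base w ∈ A ∧ (snd G G).left.base w ∈ B}) :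
    ∃ w : ↥(G ⊗ G).left, IsClosed ({w} : Set ↥(G ⊗ G).left) ∧ (fst G G).left.base w ∈ A ∧ (snd G G).left.base w ∈ B ∧
      μ[G].left.base w = z := by
  classical
  obtain ⟨w, ⟨hwA, hwB⟩, hwz⟩ := hzAB
  obtain ⟨ZA, hZA, hwZA, hZAs⟩ := exists_lc_of_indConstructible hA hwA
  obtain ⟨ZB, hZB, hwZB, hZBs⟩ := exists_lc_of_indConstructible hB hwB
  let T : Set ↥(G ⊗ G).left := (fst G G).left.base ⁻¹' ZA ∩ (snd G G).left.base ⁻¹' ZB ∩ μ[G].left.base ⁻¹' {z}
  have hT : IsLocallyClosed T :=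
    ((hZA.preimage (fst G G).left.continuous).inter (hZB.preimage (snd G G).left.continuous)).inter
      (hz.preimage μ[G].left.continuous).isLocallyClosed
  haveI : LocallyOfFiniteType (G ⊗ G).hom := by
    show LocallyOfFiniteType (pullback.fst G.hom G.hom ≫ G.hom)
    infer_instance
  haveI : JacobsonSpace ↥(G ⊗ G).left := LocallyOfFiniteType.jacobsonSpace (G ⊗ G).hom
  obtain ⟨w', ⟨⟨h1, h2⟩, h3⟩, hw'⟩ := nonempty_inter_closedPoints (Z := T) (show T.Nonempty from ⟨w, ⟨hwZA, hwZB⟩, hwz⟩) hT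
  exact ⟨w', hw', hZAs h1, hZBs h2, h3⟩

end Groth.Agent.S5395
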