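import Groth.Statements.S5396
import Mathlib.RingTheory.Finiteness.Descent
import Mathlib.RingTheory.Flat.FaithfullyFlat.Algebra
import Mathlib.LinearAlgebra.DirectSum.Finsupp

set_option autoImplicit false
universe u
open CategoryTheory CategoryTheory.Limits MonoidalCategory CartesianMonoidalCategory MonObj GrpObj AlgebraicGeometry
open SGA3

namespace Groth.Agent.S5396

open TensorProduct

section
variable {A : Type u} [CommRing A] {C : Type u} [AddCommGroup C] [Module A C]
variable {V : Type u} [AddCommGroup V] [Module A V] {A' : Type u} [CommRing A'] [Algebra A A']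

noncomputable def contr (ψ : C →ₗ[A] A') : V ⊗[A] C →ₗ[A] A' ⊗[A] V :=
  (TensorProduct.comm A V A').toLinearMap ∘ₗ ψ.lTensor V

omit [AddCommGroup V] in
theorem contr_tmul [AddCommGroup V] [Module A V] (ψ : C →ₗ[A] A') (v : V) (c : C) :
    contr ψ (v ⊗ₜ[A] c) = ψ c ⊗ₜ[A] v := by simp [contr]

noncomputable def atOne (φ : A' ⊗[A] C →ₗ[A'] A') : C →ₗ[A] A' :=
  φ.restrictScalars A ∘ₗ TensorProduct.mk A A' C 1

theorem contr_mem_baseChange (ψ : C →ₗ[A] A') (W : Submodule A V) (y : ↥W ⊗[A] C) :
    contr ψ (W.subtype.rTensor C y) ∈ W.baseChange A' := by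
  induction y using TensorProduct.induction_on with
  | zero => simp
  | tmul w c => rw [LinearMap.rTensor_tmul, contr_tmul]; exact Submodule.tmul_mem_baseChange_of_mem _ w.2
  | add a b ha hb => rw [map_add, map_add]; exact add_mem ha hb

theorem mem_of_one_tmul_mem [Module.FaithfullyFlat A A'] (W : Submodule A V) (v : V)
    (h : (1 : A') ⊗ₜ[A] v ∈ W.baseChange A') : v ∈ W := by
  obtain ⟨y, hy⟩ := h
  have h2 : (1 : A') ⊗ₜ[A] (W.mkQ v) = 0 := by
    have := congrArg (W.mkQ.baseChange A') hy
    rw [← LinearMap.comp_apply, ← LinearMap.baseChange_comp, LinearMap.baseChange_tmul] at this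
    rw [← this]
    have hz : W.mkQ ∘ₗ W.subtype = 0 := by ext w; simp
    rw [hz, LinearMap.baseChange_zero, LinearMap.zero_apply]
  have h3 : W.mkQ v = 0 := Module.FaithfullyFlat.tensorProduct_mk_injective (A := A) (B := A') (V ⧸ W) (h2.trans (TensorProduct.tmul_zero _ _).symm)
  exact (Submodule.Quotient.mk_eq_zero W).1 h3

theorem eq_zero_of_contr [Module.Projective A' (A' ⊗[A] C)] {Q : Type u} [AddCommGroup Q] [Module A Q]
    [Module A' Q] [IsScalarTower A A' Q] (z : Q ⊗[A] C)
    (h : ∀ (ψ : C →ₗ[A] A') (ev : Q ⊗[A] C →ₗ[A] Q), (∀ q c, ev (q ⊗ₜ c) = ψ c • q) → ev z = 0) : z = 0 := by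
  classical
  obtain ⟨s, hs⟩ := Module.Projective.out (R := A') (P := A' ⊗[A] C)
  let e := AlgebraTensorModule.cancelBaseChange A A' A' Q C
  let L := TensorProduct.finsuppScalarRight A' A' Q (A' ⊗[A] C)
  have h1 : L (s.lTensor Q (e.symm z)) = 0 := by
    refine Finsupp.ext fun i => ?_
    let φ : A' ⊗[A] C →ₗ[A'] A' := Finsupp.lapply i ∘ₗ s
    let ev : Q ⊗[A] C →ₗ[A] Q := ((Finsupp.lapply i ∘ₗ L.toLinearMap ∘ₗ s.lTensor Q ∘ₗ e.symm.toLinearMap).restrictScalars A :)
    exact h (atOne φ) ev (fun q c => by simp [ev, L, e, φ, atOne])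
  have h2 : s.lTensor Q (e.symm z) = 0 := L.injective (by rw [h1, map_zero])
  have h3 : e.symm z = 0 := by
    have := congrArg ((Finsupp.linearCombination A' id).lTensor Q) h2
    rw [map_zero, ← LinearMap.comp_apply, ← LinearMap.lTensor_comp] at this
    rwa [show (Finsupp.linearCombination A' id) ∘ₗ s = LinearMap.id from LinearMap.ext hs, LinearMap.lTensor_id, LinearMap.id_apply] at this
  exact e.symm.injective (h3.trans (map_zero _).symm)

theorem contr_finite [Module.Projective A' (A' ⊗[A] C)] (s : A' ⊗[A] C →ₗ[A'] (A' ⊗[A] C →₀ A'))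
    (hs : Function.LeftInverse (Finsupp.linearCombination A' id) s) (x : V ⊗[A] C) :
    ∃ I : Finset (A' ⊗[A] C), ∀ J, I ⊆ J → ∀ φ : A' ⊗[A] C →ₗ[A'] A',
      contr (atOne φ) x = ∑ i ∈ J, φ i • contr (atOne (Finsupp.lapply i ∘ₗ s)) x := by
  classical
  induction x using TensorProduct.induction_on with
  | zero => exact ⟨∅, fun J _ φ => by simp⟩
  | tmul v c =>
    refine ⟨(s (1 ⊗ₜ c)).support, fun J hJ φ => ?_⟩
    have : φ (1 ⊗ₜ[A] c) = ∑ i ∈ J, φ i * s (1 ⊗ₜ c) i := by
      conv_lhs => rw [← hs (1 ⊗ₜ[A] c), Finsupp.linearCombination_apply, map_finsuppSum,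
        Finsupp.sum_of_support_subset _ hJ _ (by simp)]
      simp [mul_comm]
    simp only [contr_tmul, atOne, LinearMap.comp_apply, LinearMap.restrictScalars_apply, TensorProduct.mk_apply,
      Finsupp.lapply_apply]
    rw [this, TensorProduct.sum_tmul]
    simp [TensorProduct.smul_tmul']
  | add a b ha hb =>
    obtain ⟨I, hI⟩ := ha
    obtain ⟨I', hI'⟩ := hb
    refine ⟨I ∪ I', fun J hJ φ => ?_⟩
    rw [map_add, hI J (Finset.union_subset_left hJ) φ, hI' J (Finset.union_subset_right hJ) φ, ← Finset.sum_add_distrib]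
    exact Finset.sum_congr rfl fun i _ => by rw [map_add, smul_add]

theorem atOne_surjective (ψ : C →ₗ[A] A') : atOne (ψ.liftBaseChange A') = ψ := by
  ext c; simp [atOne]

end

theorem contr_comp {A : Type u} [CommRing A] {C : Type u} [AddCommGroup C] [Module A C] [Coalgebra A C]
    {V : Type u} [AddCommGroup V] [Module A V] [HopfRep.Comod A C V] {A' : Type u} [CommRing A'] [Algebra A A']
    (ψ φ : C →ₗ[A] A') (v : V) :
    ∃ χ : C →ₗ[A] A', (contr ψ ∘ₗ HopfRep.Comod.coact (k := A) (A := C)).liftBaseChange A' (contr φ (HopfRep.Comod.coact (k := A) (A := C) v)) =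
      contr χ (HopfRep.Comod.coact (k := A) (A := C) v) := by
  let ρ : V →ₗ[A] V ⊗[A] C := HopfRep.Comod.coact (k := A) (A := C)
  let χ0 : C ⊗[A] C →ₗ[A] A' := LinearMap.mul' A A' ∘ₗ TensorProduct.map ψ φ
  refine ⟨χ0 ∘ₗ CoalgebraStruct.comul, ?_⟩
  have h1 : ((contr ψ ∘ₗ ρ).liftBaseChange A').restrictScalars A ∘ₗ contr φ =
      (TensorProduct.comm A V A').toLinearMap ∘ₗ χ0.lTensor V ∘ₗ (TensorProduct.assoc A V C C).toLinearMap ∘ₗ ρ.rTensor C := by
    refine TensorProduct.ext' fun w c => ?_
    simp only [LinearMap.comp_apply, LinearMap.restrictScalars_apply, contr_tmul, LinearMap.liftBaseChange_tmul,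
      LinearMap.rTensor_tmul, LinearEquiv.coe_coe]
    induction ρ w using TensorProduct.induction_on with
    | zero => simp
    | tmul a b => simp [χ0, contr_tmul, TensorProduct.smul_tmul', mul_comm]
    | add a b ha hb => simp only [map_add, TensorProduct.add_tmul, smul_add, ha, hb]
  have h2 := LinearMap.congr_fun h1 (ρ v)
  have h3 := LinearMap.congr_fun (HopfRep.Comod.coassoc (k := A) (A := C) (V := V)) v
  simp only [LinearMap.comp_apply, LinearEquiv.coe_coe, LinearMap.restrictScalars_apply] at h2 h3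
  rw [h2]
  rw [h3]
  simp [χ0, contr, LinearMap.lTensor_comp]

/-- Let A be a commutative ring, C an A-coalgebra, V a C-comodule, M an A-submodule of V, and A' a
faithfully flat commutative A-algebra such that A' ⊗_A C is a projective A'-module. Then there is a
smallest subcomodule of V containing M, and it is finitely generated over A when M is. (The
published statement also asserts that the formation of this subcomodule commutes with base change;
this row omits it.) -/
theorem result (A : Type u) [CommRing A] (C : Type u) [AddCommGroup C] [Module A C]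
    [Coalgebra A C] (V : Type u) [AddCommGroup V] [Module A V] [HopfRep.Comod A C V] (M : Submodule A V)
    (A' : Type u) [CommRing A'] [Algebra A A'] [Module.FaithfullyFlat A A'] [Module.Projective A' (TensorProduct A A' C)] :
    ∃ W : Submodule A V, HopfRep.IsSubcomod (k := A) (A := C) W ∧ M ≤ W ∧
      (∀ W' : Submodule A V, HopfRep.IsSubcomod (k := A) (A := C) W' → M ≤ W' → W ≤ W') ∧
      (M.FG → W.FG) := by
  classical
  let ρ : V →ₗ[A] TensorProduct A V C := HopfRep.Comod.coact (k := A) (A := C)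
  let U : Submodule A' (TensorProduct A A' V) := Submodule.span A' {y | ∃ m ∈ M, ∃ ψ : C →ₗ[A] A', contr ψ (ρ m) = y}
  let W : Submodule A V := (U.restrictScalars A).comap (TensorProduct.mk A A' V 1)
  haveI : Module.Flat A C := Module.Flat.of_flat_tensorProduct A C A'
  have hrange : ∀ x, (∀ ψ : C →ₗ[A] A', contr ψ x ∈ U) → x ∈ LinearMap.range (W.subtype.rTensor C) := by
    intro x hx
    let κ : V →ₗ[A] TensorProduct A A' V ⧸ U := U.mkQ.restrictScalars A ∘ₗ TensorProduct.mk A A' V 1
    have hex : Function.Exact W.subtype κ := by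
      intro v
      simp only [κ, LinearMap.comp_apply, LinearMap.restrictScalars_apply, Submodule.mkQ_apply, Submodule.Quotient.mk_eq_zero,
        Submodule.coe_subtype, Subtype.range_coe_subtype, Set.mem_ofPred_eq]
      rfl
    refine (Module.Flat.rTensor_exact C hex x).1 (eq_zero_of_contr (A' := A') (Q := TensorProduct A A' V ⧸ U) _ fun ψ ev hev => ?_)
    have : ev ∘ₗ κ.rTensor C = U.mkQ.restrictScalars A ∘ₗ contr ψ := by
      refine TensorProduct.ext' fun v c => ?_
      simp [κ, hev, contr_tmul, ← Submodule.Quotient.mk_smul, TensorProduct.smul_tmul']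
    rw [← LinearMap.comp_apply, this]
    exact (Submodule.Quotient.mk_eq_zero U).2 (hx ψ)
  have hU : ∀ m ∈ M, ∀ ψ : C →ₗ[A] A', contr ψ (ρ m) ∈ U := fun m hm ψ => Submodule.subset_span ⟨m, hm, ψ, rfl⟩
  refine ⟨W, fun w hw => hrange _ fun ψ => ?_, fun m hm => ?_, fun W' hW' hMW' w hw => ?_, fun hfg => ?_⟩
  · let Θ := (contr ψ ∘ₗ ρ).liftBaseChange A'
    have hle : U ≤ U.comap Θ := by
      refine Submodule.span_le.2 ?_
      rintro y ⟨m, hm, φ, rfl⟩
      obtain ⟨χ, hχ⟩ := contr_comp (V := V) ψ φ m
      show Θ (contr φ (ρ m)) ∈ U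
      rw [show Θ (contr φ (ρ m)) = contr χ (ρ m) from hχ]
      exact hU m hm χ
    have := hle (show (1 : A') ⊗ₜ[A] w ∈ U from hw)
    simpa [Θ] using this
  · have h := hU m hm (Algebra.linearMap A A' ∘ₗ CoalgebraStruct.counit)
    have h3 := LinearMap.congr_fun (HopfRep.Comod.counit_comp (k := A) (A := C) (V := V)) m
    simp only [LinearMap.comp_apply, LinearMap.flip_apply, TensorProduct.mk_apply] at h3
    rw [contr, LinearMap.comp_apply, LinearMap.lTensor_comp_apply, h3] at h
    simpa [W] using h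
  · refine mem_of_one_tmul_mem (A' := A') W' w ((Submodule.span_le.2 ?_) (show (1 : A') ⊗ₜ[A] w ∈ U from hw))
    rintro y ⟨m, hm, ψ, rfl⟩
    obtain ⟨z, hz⟩ := hW' m (hMW' hm)
    show contr ψ (HopfRep.Comod.coact (k := A) (A := C) m) ∈ W'.baseChange A'
    rw [← hz]
    exact contr_mem_baseChange ψ W' z
  · have hUW : U = W.baseChange A' := by
      refine le_antisymm (Submodule.span_le.2 ?_) ?_
      · rintro y ⟨m, hm, ψ, rfl⟩
        obtain ⟨z, hz⟩ := hrange (ρ m) (hU m hm)
        rw [← hz]
        exact contr_mem_baseChange ψ W z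
      · rw [Submodule.baseChange_eq_span, Submodule.span_le]
        rintro y ⟨w, hw, rfl⟩
        exact hw
    have hUfg : U.FG := by
      obtain ⟨S, hS⟩ := hfg
      obtain ⟨s, hs⟩ := Module.Projective.out (R := A') (P := TensorProduct A A' C)
      choose I hI using fun m : V => contr_finite s hs (ρ m)
      let T : Finset (TensorProduct A A' V) := S.biUnion fun m => (I m).image fun i => contr (atOne (Finsupp.lapply i ∘ₗ s)) (ρ m)
      refine ⟨T, le_antisymm (Submodule.span_le.2 ?_) (Submodule.span_le.2 ?_)⟩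
      · intro y hy
        obtain ⟨m, hm, hy⟩ := Finset.mem_biUnion.1 hy
        obtain ⟨i, -, rfl⟩ := Finset.mem_image.1 hy
        exact hU m (hS ▸ Submodule.subset_span hm) _
      · rintro y ⟨m, hm, ψ, rfl⟩
        rw [← hS] at hm
        induction hm using Submodule.span_induction with
        | mem m hm =>
          rw [← atOne_surjective ψ, hI m _ subset_rfl]
          refine sum_mem fun i hi => Submodule.smul_mem _ _ (Submodule.subset_span ?_)
          exact Finset.mem_biUnion.2 ⟨m, hm, Finset.mem_image.2 ⟨i, hi, rfl⟩⟩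
        | zero => simp
        | add a b _ _ ha hb => rw [map_add, map_add]; exact add_mem ha hb
        | smul r a _ ha => rw [map_smul, map_smul]; exact Submodule.smul_of_tower_mem _ r ha
    haveI : Module.Finite A' ↥(W.baseChange A') := Module.Finite.iff_fg.2 (hUW ▸ hUfg)
    have hinj : Function.Injective (W.subtype.baseChange A') := by
      rw [LinearMap.baseChange_eq_ltensor]
      exact Module.Flat.lTensor_preserves_injective_linearMap _ W.injective_subtype
    haveI : Module.Finite A' ↥(LinearMap.range (W.subtype.baseChange A')) := ‹Module.Finite A' ↥(W.baseChange A')›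
    haveI : Module.Finite A' (TensorProduct A A' ↥W) := Module.Finite.equiv (LinearEquiv.ofInjective _ hinj).symm
    exact Module.Finite.iff_fg.1 (Module.Finite.of_finite_tensorProduct_of_faithfullyFlat A')

end Groth.Agent.S5396
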