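import Groth.Statements.S5399

set_option autoImplicit false
universe u
open CategoryTheory CategoryTheory.Limits MonoidalCategory CartesianMonoidalCategory MonObj GrpObj AlgebraicGeometry
open scoped TensorProduct
open SGA3

set_option linter.style.haveILetI false

namespace Groth.Agent.S5399


/-- a purely transcendental extension stays a domain after tensoring with any field -/
theorem isDomain_ratFunc (k F : Type u) [Field k] [Field F] [Algebra k F] (T : Type u) :
    IsDomain (FractionRing (MvPolynomial T k) ⊗[k] F) := by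
  let P := MvPolynomial T k
  let Q := FractionRing P
  let φ : P ⊗[k] F →ₐ[k] Q ⊗[k] F := Algebra.TensorProduct.map (IsScalarTower.toAlgHom k P Q) (AlgHom.id k F)
  have hφ : Function.Injective φ := by
    refine Module.Flat.rTensor_preserves_injective_linearMap (M := F) (IsScalarTower.toAlgHom k P Q).toLinearMap ?_
    exact IsFractionRing.injective P Q
  haveI : IsDomain (P ⊗[k] F) :=
    ((Algebra.TensorProduct.comm k P F).trans
      ((MvPolynomial.algebraTensorAlgEquiv k F).restrictScalars k)).toRingEquiv.toMulEquiv.isDomain _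
  have key : ∀ x : Q ⊗[k] F, ∃ (s : P) (a : P ⊗[k] F), s ≠ 0 ∧ (algebraMap P Q s ⊗ₜ[k] 1) * x = φ a := by
    intro x
    induction x using TensorProduct.induction_on with
    | zero => exact ⟨1, 0, one_ne_zero, by simp⟩
    | tmul q c =>
      obtain ⟨⟨a, s⟩, hs⟩ := IsLocalization.surj (nonZeroDivisors P) q
      refine ⟨s.1, a ⊗ₜ c, nonZeroDivisors.ne_zero s.2, ?_⟩
      simp [φ, ← hs, mul_comm]
    | add x y hx hy =>
      obtain ⟨s, a, hs0, hs⟩ := hx
      obtain ⟨t, b, ht0, ht⟩ := hy
      refine ⟨s * t, (t ⊗ₜ 1) * a + (s ⊗ₜ 1) * b, mul_ne_zero hs0 ht0, ?_⟩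
      simp only [map_add, map_mul, ← hs, ← ht]
      simp only [φ, Algebra.TensorProduct.map_tmul, IsScalarTower.coe_toAlgHom', map_one, map_mul, mul_add]
      rw [show (algebraMap P Q s * algebraMap P Q t) ⊗ₜ[k] (1 : F) =
        (algebraMap P Q s ⊗ₜ 1) * (algebraMap P Q t ⊗ₜ 1) by simp]
      ring
  haveI : Nontrivial (Q ⊗[k] F) := hφ.nontrivial
  haveI : NoZeroDivisors (Q ⊗[k] F) := ⟨fun {x y} hxy => by
    obtain ⟨s, a, hs0, hs⟩ := key x
    obtain ⟨t, b, ht0, ht⟩ := key y
    have h0 : φ (a * b) = 0 := by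
      rw [map_mul, ← hs, ← ht]
      linear_combination (algebraMap P Q s ⊗ₜ[k] (1 : F)) * (algebraMap P Q t ⊗ₜ[k] (1 : F)) * hxy
    have hu : ∀ r : P, r ≠ 0 → IsUnit (algebraMap P Q r ⊗ₜ[k] (1 : F)) := fun r hr =>
      (IsUnit.mk0 _ (by simpa using (IsFractionRing.injective P Q).ne hr)).map
        (Algebra.TensorProduct.includeLeft : Q →ₐ[k] Q ⊗[k] F)
    rcases mul_eq_zero.1 (hφ (h0.trans (map_zero φ).symm)) with ha | hb
    · exact Or.inl ((hu s hs0).mul_right_eq_zero.1 (by rw [hs, ha, map_zero]))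
    · exact Or.inr ((hu t ht0).mul_right_eq_zero.1 (by rw [ht, hb, map_zero]))⟩
  exact NoZeroDivisors.to_isDomain _

/-- `K` is algebraic over a subfield `L` with `L ⊗ F` a domain for all fields `F`. -/
theorem exists_primary_subfield (k K : Type u) [Field k] [Field K] [Algebra k K] :
    ∃ L : IntermediateField k K, Algebra.IsAlgebraic L K ∧
      ∀ (F : Type u) [Field F] [Algebra k F], IsDomain (L ⊗[k] F) := by
  obtain ⟨s, hs⟩ := exists_isTranscendenceBasis k K
  refine ⟨_, hs.isAlgebraic_field, fun F _ _ => ?_⟩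
  haveI := isDomain_ratFunc k F (↥s)
  exact ((Algebra.TensorProduct.congr hs.1.aevalEquivField (AlgEquiv.refl (R := k) (A₁ := F))).symm).toRingEquiv.toMulEquiv.isDomain _

/-- The points `p` all of whose fibre's minimal points lie in an open set form an open set. -/
theorem isOpen_of_section {R B A : Type u} [CommRing R] [CommRing B] [CommRing A]
    [Algebra R B] [Algebra B A] [Algebra.IsIntegral B A]
    [Algebra.HasGoingDown B A] (s : PrimeSpectrum R → PrimeSpectrum B) (hsc : Continuous s)
    (hs : ∀ p, PrimeSpectrum.comap (algebraMap R B) (s p) = p)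
    (hmin : ∀ b, s (PrimeSpectrum.comap (algebraMap R B) b) ≤ b)
    {W : Set (PrimeSpectrum A)} (hW : IsOpen W) :
    IsOpen {p : PrimeSpectrum R | ∀ q : PrimeSpectrum A, PrimeSpectrum.comap ((algebraMap B A).comp (algebraMap R B)) q = p →
      (∀ q', PrimeSpectrum.comap ((algebraMap B A).comp (algebraMap R B)) q' = p → q' ≤ q → q' = q) → q ∈ W} := by
  have hc : ∀ q, PrimeSpectrum.comap ((algebraMap B A).comp (algebraMap R B)) q =
      PrimeSpectrum.comap (algebraMap R B) (PrimeSpectrum.comap (algebraMap B A) q) := fun q => by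
    rw [← PrimeSpectrum.comap_comp_apply]
  suffices h : {p : PrimeSpectrum R | ∀ q : PrimeSpectrum A, PrimeSpectrum.comap ((algebraMap B A).comp (algebraMap R B)) q = p →
      (∀ q', PrimeSpectrum.comap ((algebraMap B A).comp (algebraMap R B)) q' = p → q' ≤ q → q' = q) → q ∈ W} =
      s ⁻¹' (PrimeSpectrum.comap (algebraMap B A) '' Wᶜ)ᶜ by
    rw [h]
    exact (PrimeSpectrum.isClosedMap_comap_of_isIntegral (algebraMap B A) (algebraMap_isIntegral_iff.2 ‹_›) _
      hW.isClosed_compl).isOpen_compl.preimage hsc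
  ext p
  simp only [Set.mem_setOf_eq, Set.mem_preimage, Set.mem_compl_iff, Set.mem_image, not_exists, not_and]
  constructor
  · intro h q hq hqs
    refine hq (h q (by rw [hc, hqs, hs]) fun q' hq' hle => ?_)
    have h1 : PrimeSpectrum.comap (algebraMap B A) q' = PrimeSpectrum.comap (algebraMap B A) q := by
      refine le_antisymm (Ideal.comap_mono hle) ?_
      have := hmin (PrimeSpectrum.comap (algebraMap B A) q')
      rwa [← hc, hq', ← hqs] at this
    refine PrimeSpectrum.ext (le_antisymm hle fun x hx => by_contra fun hx' => ?_)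
    exact (Ideal.comap_lt_comap_of_integral_mem_sdiff hle ⟨hx, hx'⟩ (Algebra.IsIntegral.isIntegral (R := B) x)).ne
      (congrArg PrimeSpectrum.asIdeal h1)
  · intro h q hq hm
    have hle : s p ≤ PrimeSpectrum.comap (algebraMap B A) q := by
      have := hmin (PrimeSpectrum.comap (algebraMap B A) q)
      rwa [← hc, hq] at this
    haveI : q.asIdeal.LiesOver (PrimeSpectrum.comap (algebraMap B A) q).asIdeal := ⟨rfl⟩
    obtain ⟨P, hPle, hP, hPo⟩ := Ideal.exists_ideal_le_liesOver_of_le q.asIdeal
      (q := (PrimeSpectrum.comap (algebraMap B A) q).asIdeal) (p := (s p).asIdeal) hle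
    have h1 : PrimeSpectrum.comap (algebraMap B A) ⟨P, hP⟩ = s p := PrimeSpectrum.ext hPo.over.symm
    have h2 := hm ⟨P, hP⟩ (by rw [hc, h1, hs]) hPle
    by_contra hqW
    exact h q hqW (by rw [← h2, h1])


open TensorProduct in
/-- the algebraic form on one affine chart -/
theorem isOpen_tensor_aux (k K L : Type u) [Field k] [Field K] [Algebra k K] [Field L] [Algebra k L] [Algebra L K]
    [IsScalarTower k L K] [Algebra.IsAlgebraic L K]
    (hdom : ∀ (F : Type u) [Field F] [Algebra k F], IsDomain (L ⊗[k] F)) (R : Type u) [CommRing R] [Algebra k R]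
    {W : Set (PrimeSpectrum (R ⊗[k] K))} (hW : IsOpen W) :
    IsOpen {p : PrimeSpectrum R | ∀ q : PrimeSpectrum (R ⊗[k] K),
      PrimeSpectrum.comap (algebraMap R (R ⊗[k] K)) q = p →
      (∀ q', PrimeSpectrum.comap (algebraMap R (R ⊗[k] K)) q' = p → q' ≤ q → q' = q) → q ∈ W} := by
  classical
  let B := L ⊗[k] R
  let A := B ⊗[L] K
  let ρ : R →+* B := (Algebra.TensorProduct.includeRight : R →ₐ[k] B).toRingHom
  letI : Algebra R B := ρ.toAlgebra
  let α : R →+* A := (algebraMap B A).comp (algebraMap R B)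
  let σ : A ≃+* R ⊗[k] K :=
    (Algebra.TensorProduct.comm L B K).toRingEquiv.trans
      ((Algebra.TensorProduct.cancelBaseChange k L K K R).toRingEquiv.trans
        (Algebra.TensorProduct.comm k K R).toRingEquiv)
  have hσ : ∀ r, σ (α r) = algebraMap R (R ⊗[k] K) r := by
    intro r
    simp [α, σ, ρ, RingHom.algebraMap_toAlgebra, Algebra.TensorProduct.algebraMap_apply]
    show (Algebra.TensorProduct.comm k K R)
      ((Algebra.TensorProduct.cancelBaseChange k L K K R) ((1 : K) ⊗ₜ[L] ((1 : L) ⊗ₜ[k] r))) = _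
    rw [Algebra.TensorProduct.cancelBaseChange_tmul, one_smul]
    rfl
  have hp : ∀ p : PrimeSpectrum R, IsDomain (L ⊗[k] (R ⧸ p.asIdeal)) := fun p => by
    haveI := hdom p.asIdeal.ResidueField
    exact Function.Injective.isDomain
      (Algebra.TensorProduct.map (AlgHom.id L L) (IsScalarTower.toAlgHom k (R ⧸ p.asIdeal) p.asIdeal.ResidueField)).toRingHom
      (Module.Flat.lTensor_preserves_injective_linearMap (M := L)
        (IsScalarTower.toAlgHom k (R ⧸ p.asIdeal) p.asIdeal.ResidueField).toLinearMap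
        (Ideal.injective_algebraMap_quotient_residueField p.asIdeal))
  let m : ∀ p : PrimeSpectrum R, B →ₐ[k] L ⊗[k] (R ⧸ p.asIdeal) := fun p =>
    Algebra.TensorProduct.map (AlgHom.id k L) (Ideal.Quotient.mkₐ k p.asIdeal)
  let s : PrimeSpectrum R → PrimeSpectrum B := fun p =>
    haveI := hp p
    ⟨RingHom.ker (m p).toRingHom, RingHom.ker_isPrime _⟩
  let bs := Module.Basis.ofVectorSpace k L
  have hco : ∀ (p : PrimeSpectrum R) (x : B) i,
      TensorProduct.equivFinsuppOfBasisLeft bs (m p x) i =
        Ideal.Quotient.mk p.asIdeal (TensorProduct.equivFinsuppOfBasisLeft bs x i) := by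
    intro p x i
    induction x using TensorProduct.induction_on with
    | zero => simp
    | tmul a b =>
      rw [show m p (a ⊗ₜ[k] b) = a ⊗ₜ[k] Ideal.Quotient.mk p.asIdeal b from rfl]
      simp [Algebra.smul_def, map_mul]
    | add a b ha hb => simp [map_add, ha, hb]
  have hmem : ∀ (p : PrimeSpectrum R) (x : B),
      x ∈ (s p).asIdeal ↔ ∀ i, TensorProduct.equivFinsuppOfBasisLeft bs x i ∈ p.asIdeal := by
    intro p x
    show m p x = 0 ↔ _
    rw [← (TensorProduct.equivFinsuppOfBasisLeft bs).map_eq_zero_iff, Finsupp.ext_iff]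
    simp only [hco, Finsupp.coe_zero, Pi.zero_apply, Ideal.Quotient.eq_zero_iff_mem]
  have hsc : Continuous s := by
    rw [PrimeSpectrum.isTopologicalBasis_basic_opens.continuous_iff]
    rintro _ ⟨x, rfl⟩
    rw [show s ⁻¹' (PrimeSpectrum.basicOpen x : Set (PrimeSpectrum B)) =
        ⋃ i, (PrimeSpectrum.basicOpen (TensorProduct.equivFinsuppOfBasisLeft bs x i) : Set (PrimeSpectrum R)) by
      ext p
      simp [hmem]]
    exact isOpen_iUnion fun i => (PrimeSpectrum.basicOpen _).isOpen
  have hs : ∀ p, PrimeSpectrum.comap (algebraMap R B) (s p) = p := fun p => by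
    ext r
    have : (m p) (algebraMap R B r) = 0 ↔ r ∈ p.asIdeal := by
      rw [show m p (algebraMap R B r) = (Algebra.TensorProduct.includeRight : R ⧸ p.asIdeal →ₐ[k] _)
          (Ideal.Quotient.mk p.asIdeal r) from rfl,
        map_eq_zero_iff _ (Algebra.TensorProduct.includeRight_injective (algebraMap k L).injective),
        Ideal.Quotient.eq_zero_iff_mem]
    exact this
  have hmin : ∀ b, s (PrimeSpectrum.comap (algebraMap R B) b) ≤ b := by
    intro b
    show RingHom.ker (m _) ≤ b.asIdeal
    simp only [m]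
    rw [Algebra.TensorProduct.lTensor_ker _ (Ideal.Quotient.mkₐ_surjective k _)]
    refine Ideal.map_le_iff_le_comap.2 fun r hr => ?_
    exact Ideal.Quotient.eq_zero_iff_mem.1 hr
  haveI : Algebra.IsIntegral B A := inferInstance
  have h := isOpen_of_section (A := A) s hsc hs hmin
    (hW.preimage (PrimeSpectrum.continuous_comap σ.symm.toRingHom))
  let f := PrimeSpectrum.comap σ.toRingHom
  let g := PrimeSpectrum.comap σ.symm.toRingHom
  have hfg : ∀ q, g (f q) = q := fun q => by
    simp only [f, g]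
    rw [← PrimeSpectrum.comap_comp_apply, show σ.toRingHom.comp σ.symm.toRingHom = RingHom.id _ from RingHom.ext σ.apply_symm_apply]
    exact PrimeSpectrum.ext (Ideal.comap_id _)
  have hgf : ∀ q, f (g q) = q := fun q => by
    simp only [f, g]
    rw [← PrimeSpectrum.comap_comp_apply, show σ.symm.toRingHom.comp σ.toRingHom = RingHom.id _ from RingHom.ext σ.symm_apply_apply]
    exact PrimeSpectrum.ext (Ideal.comap_id _)
  have hcomp : ∀ q, PrimeSpectrum.comap α (f q) =
      PrimeSpectrum.comap (algebraMap R (R ⊗[k] K)) q := fun q => by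
    ext r
    show σ (α r) ∈ q.asIdeal ↔ algebraMap R (R ⊗[k] K) r ∈ q.asIdeal
    rw [hσ]
  convert h using 1
  ext p
  refine ⟨fun H q hq hm => H (g q) ?_ fun q' hq' hle => ?_, fun H q hq hm => ?_⟩
  · rw [← hcomp, hgf, hq]
  · rw [← hfg q', hm (f q') (by rw [hcomp, hq']) (by rw [← hgf q]; exact Ideal.comap_mono hle)]
  · have h1 : g (f q) ∈ W := H (f q) (by rw [hcomp, hq]) fun q' hq' hle => by
      rw [← hgf q', hm (g q') (by rw [← hcomp, hgf, hq']) (by rw [← hfg q]; exact Ideal.comap_mono hle)]
    rwa [hfg] at h1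

theorem isOpen_tensor (k K : Type u) [Field k] [Field K] [Algebra k K] (R : Type u) [CommRing R] [Algebra k R]
    {W : Set (PrimeSpectrum (R ⊗[k] K))} (hW : IsOpen W) :
    IsOpen {p : PrimeSpectrum R | ∀ q : PrimeSpectrum (R ⊗[k] K),
      PrimeSpectrum.comap (algebraMap R (R ⊗[k] K)) q = p →
      (∀ q', PrimeSpectrum.comap (algebraMap R (R ⊗[k] K)) q' = p → q' ≤ q → q' = q) → q ∈ W} := by
  obtain ⟨L, hL, hdom⟩ := exists_primary_subfield k K
  exact isOpen_tensor_aux k K L hdom R hW

/-- a point whose closure is a component, in terms of generalizations -/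
theorem mem_components_iff {X : Type u} [TopologicalSpace X] [QuasiSober X] (z : X) :
    closure {z} ∈ irreducibleComponents X ↔ ∀ y : X, y ⤳ z → z ⤳ y := by
  refine ⟨fun h y hy => ?_, fun h => ⟨isIrreducible_singleton.closure, fun C hC hle => ?_⟩⟩
  · have h1 : closure {z} ⊆ closure {y} := specializes_iff_closure_subset.1 hy
    exact specializes_iff_closure_subset.2 (h.2 isIrreducible_singleton.closure h1)
  · obtain ⟨w, hw⟩ := QuasiSober.sober hC.closure isClosed_closure
    have hwz : w ⤳ z := by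
      rw [specializes_iff_mem_closure, hw.def]
      exact subset_closure (hle (subset_closure rfl))
    have h1 : closure {w} ⊆ closure {z} := specializes_iff_closure_subset.1 (h w hwz)
    exact subset_closure.trans (hw.def ▸ h1)

theorem mem_components_fibre_iff {X Y : Scheme.{u}} (q : X ⟶ Y) {g : Y} (z : ↥(q.base ⁻¹' {g})) :
    closure {z} ∈ irreducibleComponents ↥(q.base ⁻¹' {g}) ↔
      ∀ y : X, q.base y = g → y ⤳ z.1 → z.1 ⤳ y := by
  haveI : QuasiSober ↥(q.base ⁻¹' {g}) := (q.fiberHomeo g).symm.isClosedEmbedding.quasiSober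
  rw [mem_components_iff]
  exact ⟨fun h y hy hs => subtype_specializes_iff _ _ |>.1 (h ⟨y, hy⟩ (subtype_specializes_iff _ _ |>.2 hs)),
    fun h y hs => subtype_specializes_iff _ _ |>.2 (h y.1 y.2 (subtype_specializes_iff _ _ |>.1 hs))⟩

theorem chart_isOpen (k : Type u) [Field k] (K : Type u) [Field K] [Algebra k K]
    (G : Scheme.{u}) (f : G ⟶ Spec (CommRingCat.of k))
    (W : (pullback f (Spec.map (CommRingCat.ofHom (algebraMap k K)))).Opens)
    (R : CommRingCat.{u}) (c : Spec R ⟶ G) [IsOpenImmersion c] :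
    IsOpen {p : Spec R | ∀ z : ↥(pullback f (Spec.map (CommRingCat.ofHom (algebraMap k K)))),
      (pullback.fst f _).base z = c.base p →
      (∀ y, (pullback.fst f (Spec.map (CommRingCat.ofHom (algebraMap k K)))).base y = c.base p → y ⤳ z → z ⤳ y) →
        z ∈ W} := by
  obtain ⟨φ, hφ⟩ : ∃ φ : CommRingCat.of k ⟶ R, Spec.map φ = c ≫ f := ⟨Spec.preimage _, Spec.map_preimage _⟩
  letI : Algebra k R := φ.hom.toAlgebra
  let sK := Spec.map (CommRingCat.ofHom (algebraMap k K))
  let π := pullback.fst f sK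
  let e : Spec (CommRingCat.of (R ⊗[k] K)) ≅ pullback c π :=
    (pullbackSpecIso k R K).symm ≪≫ pullback.congrHom (f₂ := c ≫ f) (g₂ := sK) hφ rfl ≪≫
      (pullbackRightPullbackFstIso f sK c).symm
  let j : Spec (CommRingCat.of (R ⊗[k] K)) ⟶ pullback f sK := e.hom ≫ pullback.snd c π
  haveI : IsOpenImmersion j := inferInstanceAs (IsOpenImmersion (e.hom ≫ pullback.snd c π))
  have hj : j ≫ π = Spec.map (CommRingCat.ofHom (algebraMap R (R ⊗[k] K))) ≫ c := by
    simp only [j, Category.assoc, ← pullback.condition]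
    simp only [e, Iso.trans_hom, Iso.symm_hom, Category.assoc, pullback.congrHom_hom,
      pullbackRightPullbackFstIso_inv_fst_assoc, pullback.map, pullback.lift_fst_assoc, Category.comp_id,
      Category.id_comp]
    simp only [π, sK]
    rw [pullbackRightPullbackFstIso_inv_fst_assoc, pullback.lift_fst_assoc]
    exact congrArg (· ≫ c) (pullbackSpecIso_inv_fst k R K)
  have hjb : ∀ q, π.base (j.base q) = c.base (PrimeSpectrum.comap (algebraMap R (R ⊗[k] K)) q) := fun q => by
    rw [← Scheme.Hom.comp_apply, hj]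
    rfl
  have hinj : ∀ {q p}, π.base (j.base q) = c.base p → PrimeSpectrum.comap (algebraMap R (R ⊗[k] K)) q = p :=
    fun h => c.isOpenEmbedding.injective (by rw [← hjb]; exact h)
  have hsurj : ∀ {z p}, π.base z = c.base p → ∃ q, j.base q = z := by
    intro z p hz
    have hr : z ∈ Set.range (pullback.snd c π).base := by
      rw [IsOpenImmersion.range_pullbackSnd]
      exact ⟨p, hz.symm⟩
    obtain ⟨w, rfl⟩ := hr
    refine ⟨e.inv.base w, ?_⟩
    rw [← Scheme.Hom.comp_apply]
    simp [j]
  have hspec : ∀ {q q' : Spec (CommRingCat.of (R ⊗[k] K))}, j.base q' ⤳ j.base q ↔ q' ⤳ q :=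
    fun {q q'} => j.isOpenEmbedding.toIsInducing.specializes_iff
  refine (Eq.subst (motive := fun s => IsOpen s) ?_ (isOpen_tensor k K R (W.isOpen.preimage j.continuous)))
  refine Set.ext fun p => ⟨fun h z hz hm => ?_, fun h q hq hm => h _ ((hjb q).trans (congrArg c.base hq)) fun y hy hys => ?_⟩
  · obtain ⟨q, rfl⟩ := hsurj hz
    refine h q (hinj hz) fun q' hq' hle => ?_
    refine le_antisymm hle ((PrimeSpectrum.le_iff_specializes _ _).2 (hspec.1 (hm _ ((hjb q').trans (congrArg c.base hq')) ?_)))
    exact hspec.2 ((PrimeSpectrum.le_iff_specializes _ _).1 hle)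
  · obtain ⟨q', rfl⟩ := hsurj hy
    rw [hm q' (hinj hy) ((PrimeSpectrum.le_iff_specializes _ _).2 (hspec.1 hys))]

/-- Let G be a nonempty scheme of finite type over a field k, K a field extension of k, π : G ⊗_k K → G
the projection and W a dense open subset of G ⊗_k K. Then the set U of points g of G such that W
contains every maximal point of the fibre π⁻¹(g) (every point whose closure in π⁻¹(g) is an
irreducible component of π⁻¹(g)) is open and dense in G. -/
theorem result (k : Type u) [Field k] (K : Type u) [Field K] [Algebra k K]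
    (G : Scheme.{u}) (f : G ⟶ Spec (CommRingCat.of k)) [LocallyOfFiniteType f] [QuasiCompact f] [Nonempty G]
    (W : (pullback f (Spec.map (CommRingCat.ofHom (algebraMap k K)))).Opens)
    (hW : Dense (W : Set ↥(pullback f (Spec.map (CommRingCat.ofHom (algebraMap k K)))))) :
    letI π := (pullback.fst f (Spec.map (CommRingCat.ofHom (algebraMap k K)))).base
    letI U : Set G := {g : G | ∀ z : ↥(π ⁻¹' {g}), closure {z} ∈ irreducibleComponents ↥(π ⁻¹' {g}) → z.1 ∈ W}
    IsOpen U ∧ Dense U := by
  let sK := Spec.map (CommRingCat.ofHom (algebraMap k K))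
  let π := pullback.fst f sK
  have hU : ∀ g : G, (∀ z : ↥(π.base ⁻¹' {g}), closure {z} ∈ irreducibleComponents ↥(π.base ⁻¹' {g}) → z.1 ∈ W) ↔
      ∀ z, π.base z = g → (∀ y, π.base y = g → y ⤳ z → z ⤳ y) → z ∈ W := fun g =>
    ⟨fun h z hz hm => h ⟨z, hz⟩ ((mem_components_fibre_iff π ⟨z, hz⟩).2 hm),
      fun h z hz => h z.1 z.2 ((mem_components_fibre_iff π z).1 hz)⟩
  refine ⟨isOpen_iff_mem_nhds.2 fun g hg => ?_, fun g => ?_⟩
  · obtain ⟨i, p, hp⟩ := G.affineOpenCover.openCover.exists_eq g
    haveI : IsOpenImmersion (G.affineOpenCover.f i) := G.affineOpenCover.openCover.map_prop i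
    have ho := (G.affineOpenCover.f i).isOpenEmbedding.isOpenMap _ (chart_isOpen k K G f W _ (G.affineOpenCover.f i))
    refine Filter.mem_of_superset (ho.mem_nhds ⟨p, ?_, hp⟩) ?_
    · intro z hz hm
      exact (hU g).1 hg z (hz.trans hp) fun y hy => hm y (hy.trans hp.symm)
    · rintro _ ⟨p', hp', rfl⟩
      exact (hU _).2 hp'
  · obtain ⟨w, hw⟩ := QuasiSober.sober (isIrreducible_irreducibleComponent (x := g)) isClosed_irreducibleComponent
    refine closure_mono (s := {w}) (Set.singleton_subset_iff.2 ?_) (hw.def.symm ▸ mem_irreducibleComponent)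
    refine (hU w).2 fun z hz hm => ?_
    have hmax : closure {z} ∈ irreducibleComponents ↑(pullback f sK) := (mem_components_iff z).2 fun y hy => by
      refine hm y ?_ hy
      have h1 : π.base y ⤳ w := hz ▸ hy.map π.continuous
      have h2 : w ⤳ π.base y := by
        refine (mem_components_iff w).1 ?_ _ h1
        rw [hw.def]
        exact irreducibleComponent_mem_irreducibleComponents g
      exact (h2.antisymm h1).symm.eq
    haveI : IsLocallyNoetherian (pullback f sK) :=
      LocallyOfFiniteType.isLocallyNoetherian (pullback.snd f sK)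
    haveI : CompactSpace ↑(pullback f sK) := QuasiCompact.compactSpace_of_compactSpace (pullback.snd f sK)
    haveI : IsNoetherian (pullback f sK) := {}
    obtain ⟨o, ho, hne, hoC⟩ := TopologicalSpace.NoetherianSpace.exists_isOpen_nonempty_subset_irreducibleComponent _ hmax
    obtain ⟨x, hxo, hxW⟩ := hW.inter_open_nonempty o ho hne
    exact (specializes_iff_mem_closure.2 (hoC hxo)).mem_open W.isOpen hxW

end Groth.Agent.S5399
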