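import Groth.Statements.S5400
import Groth.Agent.S5326
import Groth.Agent.S5325
import Groth.Agent.AffLim.Constructible
import Groth.Agent.AffLim.Points
-- import your own Groth.Agent.* helpers here

set_option autoImplicit false
set_option backward.isDefEq.respectTransparency false
set_option linter.style.haveILetI false
universe u
open CategoryTheory CategoryTheory.Limits MonoidalCategory CartesianMonoidalCategory MonObj GrpObj AlgebraicGeometry
open SGA3

namespace Groth.Agent.S5400

/-- Let S be the limit of a cofiltered system (S_i) of quasi-compact quasi-separated schemes with affine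
transition morphisms, j an index and G_j an S_j-group scheme of finite presentation; put G = G_j
×_{S_j} S. Then the neutral component subfunctor of G is representable (there is a monomorphism G⁰ →
G through which a point factors exactly when its image lies in the union of the neutral components
of the fibres) if and only if there is an index i over j such that the neutral component of G_j
×_{S_j} S_i is representable. -/
theorem result {I : Type u} [SmallCategory I] [IsCofiltered I]
    (D : I ⥤ Scheme.{u}) (c : Limits.Cone D) (hc : Limits.IsLimit c)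
    [∀ (i i' : I) (f : i ⟶ i'), IsAffineHom (D.map f)] [∀ i, CompactSpace (D.obj i)] [∀ i, QuasiSeparatedSpace (D.obj i)]
    (j : I) (Gj : Over (D.obj j)) [GrpObj Gj]
    [LocallyOfFinitePresentation Gj.hom] [QuasiCompact Gj.hom] [QuasiSeparated Gj.hom] :
    (∃ (G0 : Over c.pt) (i0 : G0 ⟶ Red.bc (c.π.app j) Gj), Mono i0 ∧
      ∀ (T : Over c.pt) (g : T ⟶ Red.bc (c.π.app j) Gj), (∃ z : T ⟶ G0, z ≫ i0 = g) ↔
        Set.range g.left.base ⊆ SGA3x.neutralSet (Red.bc (c.π.app j) Gj)) ↔
    ∃ (i : I) (f : i ⟶ j) (G0 : Over (D.obj i)) (i0 : G0 ⟶ Red.bc (D.map f) Gj), Mono i0 ∧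
      ∀ (T : Over (D.obj i)) (g : T ⟶ Red.bc (D.map f) Gj), (∃ z : T ⟶ G0, z ≫ i0 = g) ↔
        Set.range g.left.base ⊆ SGA3x.neutralSet (Red.bc (D.map f) Gj) := by
  have key : ∀ (T : Scheme.{u}) (H : Over T) [GrpObj H] [LocallyOfFinitePresentation H.hom],
      (∃ (G0 : Over T) (i0 : G0 ⟶ H), Mono i0 ∧
        ∀ (Z : Over T) (g : Z ⟶ H), (∃ z : Z ⟶ G0, z ≫ i0 = g) ↔ Set.range g.left.base ⊆ SGA3x.neutralSet H) ↔
      IsOpen (SGA3x.neutralSet H) := by
    intro T H _ _
    constructor
    · rintro ⟨G0, i0, hm, hrep⟩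
      haveI := hm
      obtain ⟨hoi, -⟩ := S5326.result T H G0 i0 hrep
      suffices h : Set.range i0.left = SGA3x.neutralSet H from h ▸ i0.left.isOpenEmbedding.isOpen_range
      refine Set.Subset.antisymm ((hrep G0 i0).1 ⟨𝟙 _, Category.id_comp _⟩) fun x hx => ?_
      obtain ⟨z, hz⟩ := (hrep (Over.mk (H.left.fromSpecResidueField x ≫ H.hom))
        (Over.homMk (H.left.fromSpecResidueField x))).2 (by
          rintro _ ⟨p, rfl⟩
          show H.left.fromSpecResidueField x p ∈ SGA3x.neutralSet H
          rwa [Scheme.fromSpecResidueField_apply])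
      refine ⟨z.left (IsLocalRing.closedPoint (H.left.residueField x)), ?_⟩
      show (z ≫ i0).left _ = x
      rw [hz]
      exact Scheme.fromSpecResidueField_apply x _
    · intro hop
      let W : H.left.Opens := ⟨_, hop⟩
      let i0 : Over.mk (W.ι ≫ H.hom) ⟶ H := Over.homMk W.ι rfl
      refine ⟨_, i0, (Over.forget T).mono_of_mono_map (inferInstanceAs (Mono W.ι)), fun Z g => ⟨?_, fun hg => ?_⟩⟩
      · rintro ⟨z, rfl⟩ _ ⟨p, rfl⟩
        exact (z.left p).2
      · have hr : Set.range g.left ⊆ Set.range W.ι := W.range_ι.symm ▸ hg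
        refine ⟨Over.homMk (IsOpenImmersion.lift W.ι g.left hr) ?_,
          Over.OverMorphism.ext (IsOpenImmersion.lift_fac _ _ _)⟩
        show _ ≫ W.ι ≫ H.hom = Z.hom
        rw [← Category.assoc, IsOpenImmersion.lift_fac]
        exact Over.w g
  haveI : ∀ {a b : I} (f : a ⟶ b), IsAffineHom (D.map f) := fun f => inferInstance
  haveI : ∀ {T : Scheme.{u}} (p : T ⟶ D.obj j), LocallyOfFinitePresentation (Red.bc p Gj).hom := fun p =>
    MorphismProperty.pullback_snd (P := @LocallyOfFinitePresentation) _ _ inferInstance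
  rw [key]
  simp only [key]
  haveI : CompactSpace Gj.left := QuasiCompact.compactSpace_of_compactSpace Gj.hom
  let E := AffLim.baseChange D j Gj.hom
  let cE := AffLim.baseChangeCone D c j Gj.hom
  have hfst : ∀ {a b : Over j} (φ : a ⟶ b), E.map φ ≫ pullback.fst Gj.hom (D.map b.hom) = pullback.fst Gj.hom (D.map a.hom) :=
    fun φ => (pullback.lift_fst _ _ _).trans (Category.comp_id _)
  constructor
  · intro hop
    let o : Over j := Over.mk (𝟙 j)
    haveI : CompactSpace (E.obj o) := inferInstance
    have hqs : QuasiSeparated (Red.bc (D.map o.hom) Gj).hom := MorphismProperty.pullback_snd (P := @QuasiSeparated) _ _ inferInstance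
    have hcons := (S5325.result _ (Red.bc (D.map o.hom) Gj)).2.1 hqs inferInstance inferInstance
    have hlim : cE.π.app o ⁻¹' SGA3x.neutralSet (Red.bc (D.map o.hom) Gj) = SGA3x.neutralSet (Red.bc (c.π.app j) Gj) := by
      rw [Neutral.neutralSet_bc, Neutral.neutralSet_bc, ← Set.preimage_comp]
      have h : cE.π.app o ≫ pullback.fst Gj.hom (D.map o.hom) = pullback.fst Gj.hom (c.π.app j) :=
        (pullback.lift_fst _ _ _).trans (Category.comp_id _)
      exact congrArg (fun m : (Red.bc (c.π.app j) Gj).left ⟶ Gj.left => m ⁻¹' SGA3x.neutralSet Gj) h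
    obtain ⟨k, φ, hk⟩ := AffLim.exists_isOpen_preimage E cE (AffLim.nonempty_isLimit_baseChangeCone D c hc j Gj.hom).some
      (i := o) hcons (hlim ▸ hop)
    refine ⟨k.left, k.hom, ?_⟩
    have h : E.map φ ⁻¹' SGA3x.neutralSet (Red.bc (D.map o.hom) Gj) = SGA3x.neutralSet (Red.bc (D.map k.hom) Gj) := by
      rw [Neutral.neutralSet_bc, Neutral.neutralSet_bc, ← Set.preimage_comp]
      exact congrArg (fun m : (Red.bc (D.map k.hom) Gj).left ⟶ Gj.left => m ⁻¹' SGA3x.neutralSet Gj) (hfst φ)
    exact h ▸ hk
  · rintro ⟨i, f, hop⟩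
    let k : Over j := Over.mk f
    have h : cE.π.app k ⁻¹' SGA3x.neutralSet (Red.bc (D.map f) Gj) = SGA3x.neutralSet (Red.bc (c.π.app j) Gj) := by
      rw [Neutral.neutralSet_bc, Neutral.neutralSet_bc, ← Set.preimage_comp]
      have h : cE.π.app k ≫ pullback.fst Gj.hom (D.map k.hom) = pullback.fst Gj.hom (c.π.app j) :=
        (pullback.lift_fst _ _ _).trans (Category.comp_id _)
      exact congrArg (fun m : (Red.bc (c.π.app j) Gj).left ⟶ Gj.left => m ⁻¹' SGA3x.neutralSet Gj) h
    exact h ▸ hop.preimage (cE.π.app k).continuous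

end Groth.Agent.S5400
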