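import Groth.Statements.S5401
import Groth.Agent.Neutral.Open
import Groth.Agent.S4787
-- import your own Groth.Agent.* helpers here

set_option autoImplicit false
set_option backward.isDefEq.respectTransparency false
universe u
open CategoryTheory CategoryTheory.Limits MonoidalCategory CartesianMonoidalCategory MonObj GrpObj AlgebraicGeometry
open SGA3

namespace Groth.Agent.S5401

/-- Let S₀ be a scheme, (S_i) a cofiltered system of quasi-compact quasi-separated S₀-schemes with
affine transition morphisms and S its limit, and G an S₀-group scheme locally of finite presentation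
over S₀. Write G⁰(T), for an S₀-scheme T, for the set of S₀-morphisms T → G whose image lies in the
union of the neutral components of the fibres of G. Then the canonical map colim G⁰(S_i) → G⁰(S) is
surjective: every element of G⁰(S) is the restriction of an element of G⁰(S_i) for some i. (The
published statement asserts that this map is bijective; its injectivity holds for S₀-morphisms to
any scheme locally of finite type over S₀ and is not stated here. The published setting takes S₀
quasi-compact and quasi-separated and the S_i affine over S₀; this row allows any cofiltered system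
of quasi-compact quasi-separated S₀-schemes with affine transition morphisms.) -/
theorem result {I : Type u} [SmallCategory I] [IsCofiltered I]
    (D : I ⥤ Scheme.{u}) (c : Limits.Cone D) (hc : Limits.IsLimit c)
    [∀ (i i' : I) (f : i ⟶ i'), IsAffineHom (D.map f)] [∀ i, CompactSpace (D.obj i)] [∀ i, QuasiSeparatedSpace (D.obj i)]
    (S₀ : Scheme.{u}) (q : ∀ i, D.obj i ⟶ S₀) (hq : ∀ (i i' : I) (f : i ⟶ i'), D.map f ≫ q i' = q i)
    (qlim : c.pt ⟶ S₀) (hqlim : ∀ i, c.π.app i ≫ q i = qlim)
    (G : Over S₀) [GrpObj G] [LocallyOfFinitePresentation G.hom] :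
    ∀ u : c.pt ⟶ G.left, u ≫ G.hom = qlim → Set.range u.base ⊆ SGA3x.neutralSet G →
      ∃ (i : I) (ui : D.obj i ⟶ G.left), ui ≫ G.hom = q i ∧ Set.range ui.base ⊆ SGA3x.neutralSet G ∧ c.π.app i ≫ ui = u := by
  intro u hu hur
  haveI : ∀ {a b : I} (f : a ⟶ b), IsAffineHom (D.map f) := fun f => inferInstance
  let t : D ⟶ (Functor.const I).obj S₀ := { app := q, naturality := fun a b f => by simp [hq] }
  obtain ⟨i, g, hg, hgt⟩ := Scheme.exists_π_app_comp_eq_of_locallyOfFinitePresentation D t G.hom c hc u
    (by
      ext a
      show c.π.app a ≫ q a = u ≫ G.hom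
      rw [hqlim, hu])
  let D' : Over i ⥤ Scheme.{u} := Over.forget i ⋙ D
  haveI : ∀ (a b : Over i) (f : a ⟶ b), IsAffineHom (D'.map f) := fun a b f =>
    inferInstanceAs (IsAffineHom (D.map f.left))
  haveI : CompactSpace (D'.obj (Over.mk (𝟙 i))) := inferInstanceAs (CompactSpace (D.obj i))
  have hN := Neutral.isIndConstructible_neutralSet G
  obtain ⟨k, -, hk⟩ := (S4787.result D' (c.whisker (Over.forget i))
    ((Functor.Initial.isLimitWhiskerEquiv (Over.forget i) c).symm hc) (Over.mk (𝟙 i)) (fun _ => Set.univ)
    (fun k => (D.map k.hom ≫ g).base ⁻¹' SGA3x.neutralSet G)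
    (fun k => ProConsLib.isProConstructible_iff_compl.2 (ProConsLib.isIndConstructible_iff _ |>.2 fun U hU => by
      rw [Set.compl_univ, Set.preimage_empty]; exact @isOpen_empty _ (constructibleTopology _)))
    (fun k => ProConsLib.isIndConstructible_preimage _ hN)
    (fun a b φ => by simp)
    (fun a b φ x hx => by
      show (D.map a.hom ≫ g) x ∈ SGA3x.neutralSet G
      rw [← Over.w φ, Functor.map_comp, Category.assoc]
      exact hx)).1 (by
    intro x _
    refine Set.mem_iUnion.2 ⟨Over.mk (𝟙 i), ?_⟩
    show (D.map (𝟙 i) ≫ g) (c.π.app i x) ∈ SGA3x.neutralSet G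
    rw [D.map_id, Category.id_comp]
    refine hur ⟨x, ?_⟩
    rw [← hg]; rfl)
  refine ⟨k.left, D.map k.hom ≫ g, ?_, ?_, ?_⟩
  · rw [Category.assoc, hgt]
    exact hq _ _ k.hom
  · rintro _ ⟨x, rfl⟩
    exact hk k (𝟙 k) (Set.mem_univ x)
  · rw [← Category.assoc, Cone.w c, hg]

end Groth.Agent.S5401
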