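import Groth.Statements.S5402
import Groth.Agent.QSecTransLib.Fibre
import Groth.Agent.QuasiSecLib.Section

set_option autoImplicit false
set_option backward.isDefEq.respectTransparency false
set_option backward.isDefEq.respectTransparency.types false
set_option maxHeartbeats 1600000
set_option synthInstance.maxHeartbeats 400000
set_option linter.style.haveILetI false
universe u
open CategoryTheory CategoryTheory.Limits MonoidalCategory CartesianMonoidalCategory MonObj GrpObj AlgebraicGeometry
open SGA3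
open Groth.Agent.MonoFibre Groth.Agent.QSecTransLib

namespace Groth.Agent.S5402

/-- Let G be an S-group scheme locally of finite presentation over S and universally open over S on some
open containing the unit section, acting on an S-scheme X so that G ×_S X → X ×_S X, (g, x) ↦ (gx,
x), is surjective. Let U be an open subset of X, s a point of S such that the fibre X_s is locally
of finite type over κ(s) and U ∩ X_s is dense in X_s, and A a finite set of points of X_s. Then
there are morphisms S'' → S' → S, the first finite and surjective and the second etale, with exactly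
one point of S'' lying over s, and an S-morphism h : S'' → G, such that for every point z of X ×_S
S'' whose image in X lies in A, the image in X of the translate h·z lies in U. -/
theorem result (S : Scheme.{u}) (G X : Over S) [GrpObj G]
    [LocallyOfFinitePresentation G.hom]
    (hGo : ∃ W : G.left.Opens, (∀ p : ↥(𝟙_ (Over S)).left, η[G].left.base p ∈ W) ∧ UniversallyOpen (W.ι ≫ G.hom))
    (a : AlgGrp.Action G X) (hΦ : Surjective (lift a.act (snd G X)).left)
    (U : X.left.Opens) (s : S) (hft : LocallyOfFiniteType (X.hom.fiberToSpecResidueField s))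
    (hdense : X.hom.base ⁻¹' {s} ⊆ closure ((U : Set X.left) ∩ X.hom.base ⁻¹' {s}))
    (A : Set X.left) (hA : A.Finite) (hAs : A ⊆ X.hom.base ⁻¹' {s}) :
    ∃ (S' S'' : Scheme.{u}) (w : S' ⟶ S) (π : S'' ⟶ S') (h : Over.mk (π ≫ w) ⟶ G),
      Etale w ∧ IsFinite π ∧ Surjective π ∧ (∃ s₀ : S'', (π ≫ w).base ⁻¹' {s} = {s₀}) ∧
      ∀ z : ↥(X ⊗ Over.mk (π ≫ w)).left, (fst X (Over.mk (π ≫ w))).left.base z ∈ A →
        (lift (snd X (Over.mk (π ≫ w)) ≫ h) (fst X (Over.mk (π ≫ w))) ≫ a.act).left.base z ∈ U := by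
  obtain ⟨W, hW, hWo⟩ := hGo
  haveI := hWo
  haveI := hft
  let j := geomPt s
  let pt : ↥(Spec (CommRingCat.of (clos s))) := IsLocalRing.closedPoint (clos s)
  let GK : Over (Spec (CommRingCat.of (clos s))) := Red.bc j G
  let XK : Over (Spec (CommRingCat.of (clos s))) := Red.bc j X
  haveI : LocallyOfFiniteType GK.hom := inferInstanceAs (LocallyOfFiniteType (pullback.snd G.hom j))
  haveI : LocallyOfFiniteType XK.hom :=
    MorphismProperty.of_isPullback (P := @LocallyOfFiniteType) (toFib_isPullback X.hom s) hft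
  haveI : IsLocallyNoetherian (X.hom.fiber s) :=
    LocallyOfFiniteType.isLocallyNoetherian (X.hom.fiberToSpecResidueField s)
  let actK : AlgGrp.Action GK XK := bcAction j a
  have hΦK : Surjective (lift actK.act (snd GK XK)).left := bcAction_surjective j a hΦ
  -- maximal points of the geometric fibre go into `U`
  have hUmax : ∀ v : XK.left, IsMaxPt v → pullback.fst X.hom j v ∈ U := by
    intro v hv
    have hd : Dense (X.hom.fiberι s ⁻¹' (U : Set X.left)) := fun y => by
      rw [(X.hom.fiberι s).isEmbedding.closure_eq_preimage_closure_image, Set.image_preimage_eq_inter_range,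
        Scheme.Hom.range_fiberι]
      refine hdense ?_
      show X.hom (X.hom.fiberι s y) ∈ ({s} : Set S)
      exact (X.hom.range_fiberι s).le ⟨y, rfl⟩
    have := isMaxPt_mem_of_dense (U.2.preimage (X.hom.fiberι s).continuous) hd
      (isMaxPt_flat (toFib X.hom s) hv)
    rw [← toFib_ι, Scheme.Hom.comp_apply]
    exact this
  -- closed geometric points below the given ones
  have hxA : ∀ z : A, ∃ x : 𝟙_ (Over (Spec (CommRingCat.of (clos s)))) ⟶ XK,
      (z : X.left) ⤳ pullback.fst X.hom j (x.left pt) := by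
    rintro ⟨z, hz⟩
    obtain ⟨y, hy⟩ : z ∈ Set.range (X.hom.fiberι s) := by rw [Scheme.Hom.range_fiberι]; exact hAs hz
    obtain ⟨w, hw⟩ := (toFib X.hom s).surjective y
    obtain ⟨x, hx⟩ := exists_rat (A := XK) (isClosed_closure (s := {w})) ⟨w, subset_closure rfl⟩
    refine ⟨x, ?_⟩
    show z ⤳ _
    rw [← hy, ← hw, ← Scheme.Hom.comp_apply, toFib_ι]
    exact (specializes_iff_mem_closure.2 hx).map (pullback.fst X.hom j).continuous
  choose xA hxA using hxA
  let C : A → Set GK.left := fun z => (actK.orbitMap (xA z)).left ⁻¹' (pullback.fst X.hom j ⁻¹' (U : Set X.left))ᶜ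
  have hCmax : ∀ z θ, IsMaxPt θ → θ ∉ C z := fun z θ hθ h => h (hUmax _ (orbit_isMaxPt actK hΦK (xA z) hθ))
  haveI := hA.to_subtype
  let B : Set (G.hom.fiber s) := ⋃ z, toFib G.hom s '' C z
  have hB : IsClosed B := isClosed_iUnion_of_finite fun z => (toFib G.hom s).isClosedMap _
    ((U.2.preimage (pullback.fst X.hom j).continuous).isClosed_compl.preimage
      (actK.orbitMap (xA z)).left.continuous)
  -- a good closed point of the fibre of the group
  let GF : Over (Spec (CommRingCat.of (S.residueField s))) := Red.bc (S.fromSpecResidueField s) G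
  haveI : LocallyOfFiniteType GF.hom :=
    inferInstanceAs (LocallyOfFiniteType (pullback.snd G.hom (S.fromSpecResidueField s)))
  obtain ⟨ξ₀, hξ₀, hξ₀max⟩ := exists_isMaxPt (GrpSchLib.unitPt GF)
  have hξ₀W : G.hom.fiberι s ξ₀ ∈ W := by
    refine (hξ₀.map (G.hom.fiberι s).continuous).mem_open W.2 ?_
    have e : η[GF].left ≫ pullback.fst G.hom (S.fromSpecResidueField s) = _ :=
      (left_comp_fst (S.fromSpecResidueField s) (A := G) η[GF]).trans
        (congrArg (fun m => m.left) (one_counit (G := G) (S.fromSpecResidueField s)))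
    show (η[GF].left ≫ pullback.fst G.hom (S.fromSpecResidueField s)) (IsLocalRing.closedPoint _) ∈ W
    rw [e, Hom.one_def, Over.comp_left, Scheme.Hom.comp_apply]
    exact hW _
  have hξ₀B : ξ₀ ∉ B := by
    simp only [B, Set.mem_iUnion, not_exists]
    exact fun z => notMem_image_of_isMaxPt (toFib G.hom s) (hCmax z) hξ₀max
  haveI : JacobsonSpace GF.left := LocallyOfFiniteType.jacobsonSpace GF.hom
  obtain ⟨g, ⟨hgW, hgB⟩, hgcl⟩ := nonempty_inter_closedPoints (X := GF.left)
    (Z := (G.hom.fiberι s ⁻¹' (W : Set G.left)) ∩ Bᶜ) ⟨ξ₀, hξ₀W, hξ₀B⟩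
    ((W.2.preimage (G.hom.fiberι s).continuous).inter hB.isOpen_compl).isLocallyClosed
  obtain ⟨ξ, hξg, hξmax⟩ := exists_isMaxPt (T := GF.left) g
  -- the quasi-section through it
  let e := G.hom.fiberHomeo s
  haveI : QuasiSober ↥(G.hom.base ⁻¹' {s}) := e.symm.isClosedEmbedding.quasiSober
  have hee : ∀ y, (e y).1 = G.hom.fiberι s y := fun y => rfl
  have hgs : G.hom (G.hom.fiberι s g) = s := (e g).2
  obtain ⟨S', S'', -, w, π, h, hw, hπ, hπs, -, hh, s₀, hs₀, hhs, -⟩ :=
    QuasiSecLib.exists_quasiSection G.hom s (G.hom.fiberι s g) hgs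
      (by
        have : (Subtype.val : ↥(G.hom.base ⁻¹' {s}) → G.left) ⁻¹' {G.hom.fiberι s g} = e '' {g} := by
          rw [Set.image_singleton]; ext y
          exact ⟨fun h => Subtype.ext h, fun h => congrArg Subtype.val h⟩
        rw [this]
        exact e.isClosedMap _ (mem_closedPoints_iff.1 hgcl))
      (e '' closure {ξ}) (e.isClosedMap _ isClosed_closure) ⟨e g, ⟨g, hξg.mem_closure, rfl⟩, rfl⟩
      (G.hom.fiberι s ξ)
      ⟨⟨e ξ, ⟨ξ, subset_closure rfl, rfl⟩, rfl⟩, by
        rintro _ ⟨_, ⟨y, hy, rfl⟩, rfl⟩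
        exact ((specializes_iff_mem_closure.2 hy).map (G.hom.fiberι s).continuous).mem_closure⟩
      (isUnivOpenAt_of_opens G.hom W ((hξg.map (G.hom.fiberι s).continuous).mem_open W.2 hgW))
      (by
        have h1 : FlatMor.localDim ↥(G.hom.fiber s) g = FlatMor.localDim ↥(G.hom.base ⁻¹' {s}) (e g) :=
          FibreDimEt.localDim_eq_of_isGenLift (FibreDimEt.isGenLift_of_isOpenEmbedding e.isOpenEmbedding) e.isOpenMap g
        refine h1.symm.trans ((localDim_eq_component (G := GF) hξmax hξg).trans ?_)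
        exact IsHomeomorph.topologicalKrullDim_eq _ (e.image (closure {ξ})).isHomeomorph)
  refine ⟨S', S'', w, π, Over.homMk h hh, hw, hπ, hπs, ⟨s₀, hs₀⟩, fun z hz => ?_⟩
  let T : Over S := Over.mk (π ≫ w)
  let hT : T ⟶ G := Over.homMk h hh
  let p : ↥(G ⊗ X).left := (lift (snd X T ≫ hT) (fst X T)).left z
  have hpt : (fst G X).left p = G.hom.fiberι s g := by
    have hsnd : (snd X T).left z = s₀ := by
      refine hs₀.le ?_
      show (π ≫ w) ((snd X T).left z) = s
      exact (congrArg (fun m : _ ⟶ S => m z) ((Over.w (snd X T)).trans (Over.w (fst X T)).symm)).trans (hAs hz)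
    rw [← Scheme.Hom.comp_apply, ← Over.comp_left, lift_fst, Over.comp_left, Scheme.Hom.comp_apply, hsnd]
    exact hhs
  have hps : (snd G X).left p = (fst X T).left z := by
    rw [← Scheme.Hom.comp_apply, ← Over.comp_left, lift_snd]
  show (lift (snd X T ≫ hT) (fst X T) ≫ a.act).left z ∈ U
  rw [Over.comp_left, Scheme.Hom.comp_apply]
  show a.act.left p ∈ U
  let x := xA ⟨_, hz⟩
  have hax : (snd G X).left p ⤳ pullback.fst X.hom j (x.left pt) := hps ▸ hxA ⟨_, hz⟩
  -- a geometric point over `g`
  obtain ⟨gK, hgK⟩ := exists_rat (A := GK) (Z := toFib G.hom s ⁻¹' {g})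
    ((mem_closedPoints_iff.1 hgcl).preimage (toFib G.hom s).continuous) (by
      obtain ⟨c, hc⟩ := (toFib G.hom s).surjective g
      exact ⟨c, hc⟩)
  let ιg : Spec (CommRingCat.of (clos s)) ⟶ G.left := gK.left ≫ pullback.fst G.hom j
  have hιg : ιg ≫ G.hom = j := by
    show (gK.left ≫ pullback.fst G.hom j) ≫ G.hom = j
    rw [Category.assoc, pullback.condition, ← Category.assoc]
    exact (congrArg (· ≫ j) (Over.w gK)).trans (Category.id_comp j)
  have hιgpt : ∀ v, ιg v = G.hom.fiberι s g := fun v => by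
    obtain rfl : v = pt := Subsingleton.elim (α := PrimeSpectrum (clos s)) _ _
    rw [Scheme.Hom.comp_apply, ← toFib_ι, Scheme.Hom.comp_apply]
    exact congrArg _ hgK
  let M : pullback X.hom j ⟶ (G ⊗ X).left :=
    (pullbackSymmetry _ _).hom ≫ pullback.map j X.hom G.hom X.hom ιg (𝟙 _) (𝟙 _)
      (by rw [Category.comp_id, hιg]) (by simp)
  have hM1 : M ≫ (fst G X).left = pullback.snd X.hom j ≫ ιg := by
    show ((pullbackSymmetry _ _).hom ≫ pullback.map j X.hom G.hom X.hom ιg (𝟙 _) (𝟙 _) _ _) ≫ pullback.fst G.hom X.hom = _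
    simp [pullback.map]
  have hM2 : M ≫ (snd G X).left = pullback.fst X.hom j := by
    show ((pullbackSymmetry _ _).hom ≫ pullback.map j X.hom G.hom X.hom ιg (𝟙 _) (𝟙 _) _ _) ≫ pullback.snd G.hom X.hom = _
    simp [pullback.map]
  obtain ⟨r₁, hr₁⟩ : p ∈ Set.range M := by
    obtain ⟨c, hc⟩ : p ∈ Set.range (pullback.map j X.hom G.hom X.hom ιg (𝟙 _) (𝟙 _)
        (by rw [Category.comp_id, hιg]) (by simp)) := by
      rw [Scheme.Pullback.range_map]
      refine ⟨⟨pt, ?_⟩, ⟨_, rfl⟩⟩
      exact (hιgpt pt).trans hpt.symm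
    refine ⟨(pullbackSymmetry X.hom j).inv c, ?_⟩
    rw [← Scheme.Hom.comp_apply]
    simp only [M, Iso.inv_hom_id_assoc]
    exact hc
  -- go down to the chosen closed point
  obtain ⟨r₂, hr₂, hr₂e⟩ := (toFib X.hom s).isClosedMap.specializingMap
    (show toFib X.hom s r₁ ⤳ toFib X.hom s (x.left pt) by
      rw [← (X.hom.fiberι s).isEmbedding.isInducing.specializes_iff, ← Scheme.Hom.comp_apply, ← Scheme.Hom.comp_apply,
        toFib_ι, ← hM2, Scheme.Hom.comp_apply, hr₁]
      rw [← Scheme.Hom.comp_apply, hM2]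
      exact hax)
  refine ((hr₁ ▸ hr₂.map M.continuous).map a.act.left.continuous).mem_open U.2 ?_
  let ιa : Spec (CommRingCat.of (clos s)) ⟶ X.left := x.left ≫ pullback.fst X.hom j
  have hιa : ιa ≫ X.hom = j := by
    show (x.left ≫ pullback.fst X.hom j) ≫ X.hom = j
    rw [Category.assoc, pullback.condition, ← Category.assoc]
    exact (congrArg (· ≫ j) (Over.w x)).trans (Category.id_comp j)
  let N : pullback G.hom j ⟶ (G ⊗ X).left := pullback.map G.hom j G.hom X.hom (𝟙 _) ιa (𝟙 _)
    (by simp) (by rw [Category.comp_id, hιa])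
  have hr₂a : (snd G X).left (M r₂) = ιa pt := by
    rw [← Scheme.Hom.comp_apply, hM2, ← toFib_ι, Scheme.Hom.comp_apply, hr₂e, ← Scheme.Hom.comp_apply, toFib_ι,
      Scheme.Hom.comp_apply]
    rfl
  obtain ⟨c, hc⟩ : M r₂ ∈ Set.range N := by
    simp only [N]
    erw [Scheme.Pullback.range_map]
    exact ⟨⟨_, rfl⟩, pt, hr₂a.symm⟩
  have hcg : toFib G.hom s c = g := by
    apply (G.hom.fiberι s).isEmbedding.injective
    have h1 : pullback.fst G.hom j c = (fst G X).left (M r₂) := by
      rw [← hc, ← Scheme.Hom.comp_apply, show N ≫ (fst G X).left = pullback.fst G.hom j from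
        (pullback.lift_fst _ _ _).trans (Category.comp_id _)]
    rw [← Scheme.Hom.comp_apply, toFib_ι, h1, ← Scheme.Hom.comp_apply, hM1, Scheme.Hom.comp_apply]
    exact hιgpt _
  have horb : pullback.fst X.hom j ((actK.orbitMap x).left c) ∈ U := by
    by_contra hcon
    exact hgB (Set.mem_iUnion.2 ⟨⟨_, hz⟩, c, hcon, hcg⟩)
  let x₀ : (Over.map j).obj GK ⟶ X :=
    Over.homMk (GK.hom ≫ ιa) (by rw [Category.assoc, hιa]; rfl)
  have hx₀ : (Over.map j).map (toUnit GK ≫ x) ≫ (Over.mapPullbackAdj j).counit.app X = x₀ :=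
    Over.OverMorphism.ext (by
      show (GK.hom ≫ x.left) ≫ pullback.fst X.hom j = GK.hom ≫ ιa
      rw [Category.assoc])
  have hl : (lift ((Over.mapPullbackAdj j).counit.app G) x₀).left = N := by
    refine pullback.hom_ext ?_ ?_
    · exact (congrArg (fun m => m.left) (lift_fst ((Over.mapPullbackAdj j).counit.app G) x₀)).trans
        (show N ≫ pullback.fst G.hom X.hom = pullback.fst G.hom j by simp [N, pullback.map]).symm
    · exact (congrArg (fun m => m.left) (lift_snd ((Over.mapPullbackAdj j).counit.app G) x₀)).trans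
        (show N ≫ pullback.snd G.hom X.hom = GK.hom ≫ ιa by
          simp [N, pullback.map]; rfl).symm
  have key : (actK.orbitMap x).left ≫ pullback.fst X.hom j = N ≫ a.act.left := by
    rw [← hl]
    exact (left_comp_fst j (actK.orbitMap x)).trans (congrArg (fun m => m.left) (map_orbitMap_counit a j x x₀ hx₀))
  rw [← hc, ← Scheme.Hom.comp_apply, ← key, Scheme.Hom.comp_apply]
  exact horb

end Groth.Agent.S5402
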