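import Groth.Statements.S5415
import Groth.Agent.FpqcDesc.Basic

set_option backward.isDefEq.respectTransparency false
set_option backward.isDefEq.respectTransparency.types false
-- import your own Groth.Agent.* helpers here

set_option autoImplicit false
universe u
open CategoryTheory MonoidalCategory CartesianMonoidalCategory MonObj GrpObj AlgebraicGeometry CategoryTheory.Limits
open SGA3x

namespace Groth.Agent.S5415

theorem isPullback_whisker {S : Scheme.{u}} {A B : Over S} (W : Over S) (g : A ⟶ B) :
    CategoryTheory.IsPullback (W ◁ g).left (snd W A).left (snd W B).left g.left := by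
  refine CategoryTheory.IsPullback.of_right (h₁₂ := (fst W B).left) (h₂₂ := B.hom) (v₁₃ := W.hom) ?_ ?_ ?_
  · rw [← Over.comp_left, Over.w, whiskerLeft_fst]
    exact CategoryTheory.IsPullback.of_hasPullback W.hom A.hom
  · rw [← Over.comp_left, ← Over.comp_left, whiskerLeft_snd]
  · exact CategoryTheory.IsPullback.of_hasPullback W.hom B.hom

theorem isProper_of_kernel {S : Scheme.{u}} {G G' G'' H : Over S} [GrpObj G] [GrpObj G'] [GrpObj G''] [GrpObj H]
    [QuasiCompact G.hom] [IsProper G''.hom] (p : G ⟶ G'') [IsMonHom p] [Surjective p.left] [Flat p.left]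
    (i : G' ⟶ G) (hker : AlgGrp.IsKernel i p) (u : G ⟶ H) [IsMonHom u] (hu : IsProper (i ≫ u).left) :
    IsProper u.left := by
  haveI : QuasiCompact p.left := by
    haveI : QuasiCompact (p.left ≫ G''.hom) := by rw [Over.w]; infer_instance
    exact QuasiCompact.of_comp p.left G''.hom
  have hi : i ≫ p = 1 := by rw [hker.w, Hom.one_def]
  haveI : Mono η[G''] := SplitMono.mono ⟨toUnit G'', toUnit_unique _ _⟩
  haveI : Mono i := ⟨fun a b hab => hker.hom_ext hab (toUnit_unique _ _)⟩
  let w : G ⟶ H ⊗ G'' := lift u p
  let π : G ⊗ G' ⟶ G := fst G G' * (snd G G' ≫ i)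
  let ψ : G ⊗ G' ⟶ H ⊗ G := lift ((fst G G' * (snd G G' ≫ i)) ≫ u) (fst G G')
  have hw : π ≫ w = ψ ≫ (H ◁ p) := by
    apply CartesianMonoidalCategory.hom_ext
    · simp [π, ψ, w]
    · simp only [π, ψ, w, Category.assoc, lift_snd, whiskerLeft_snd, lift_snd_assoc]
      rw [MonObj.mul_comp, Category.assoc, hi, MonObj.comp_one, _root_.mul_one]
  have key : ∀ s : Limits.PullbackCone w (H ◁ p),
      ∃ n : s.pt ⟶ G', n ≫ i = (s.snd ≫ snd H G)⁻¹ * s.fst := fun s => by
    refine ⟨hker.lift _ (toUnit _) ?_, hker.lift_fst _ _ _⟩
    have h2 := congrArg (· ≫ snd H G'') s.condition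
    simp only [w, Category.assoc, lift_snd, whiskerLeft_snd] at h2
    rw [MonObj.mul_comp, GrpObj.inv_comp, Category.assoc, h2, inv_mul_cancel, Hom.one_def]
  choose n hn using key
  have hpb : CategoryTheory.IsPullback π ψ w (H ◁ p) := by
    refine ⟨⟨hw⟩, ⟨Limits.PullbackCone.IsLimit.mk hw (fun s => lift (s.snd ≫ snd H G) (n s)) (fun s => ?_)
      (fun s => ?_) fun s m h₁ h₂ => ?_⟩⟩
    · simp only [π, MonObj.comp_mul, lift_fst, lift_snd_assoc, hn, mul_inv_cancel_left]
    · apply CartesianMonoidalCategory.hom_ext
      · have h1 := congrArg (· ≫ fst H G'') s.condition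
        simp only [w, Category.assoc, lift_fst, whiskerLeft_fst] at h1
        simp only [ψ, Category.assoc, lift_fst]
        rw [← Category.assoc, MonObj.comp_mul, lift_fst, lift_snd_assoc, hn, mul_inv_cancel_left]
        exact h1
      · simp [ψ]
    · have e2 : m ≫ fst G G' = s.snd ≫ snd H G := by
        rw [← h₂]; simp [ψ]
      apply CartesianMonoidalCategory.hom_ext
      · rw [lift_fst, e2]
      · rw [lift_snd, ← cancel_mono i, hn, Category.assoc, ← h₁, ← e2]
        simp only [π, MonObj.comp_mul, inv_mul_cancel_left]
  let θ : G ⊗ H ≅ H ⊗ G :=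
    { hom := lift ((fst G H ≫ u) * snd G H) (fst G H)
      inv := lift (snd H G) ((snd H G ≫ u)⁻¹ * fst H G)
      hom_inv_id := by
        apply CartesianMonoidalCategory.hom_ext
        · simp
        · simp only [Category.assoc, lift_snd, MonObj.comp_mul, GrpObj.comp_inv, lift_fst, lift_snd_assoc,
            inv_mul_cancel_left, Category.id_comp]
      inv_hom_id := by
        apply CartesianMonoidalCategory.hom_ext
        · simp only [Category.assoc, lift_fst, MonObj.comp_mul, lift_fst_assoc, lift_snd, mul_inv_cancel_left,
            Category.id_comp]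
        · simp }
  have hψ : ψ = (G ◁ (i ≫ u)) ≫ θ.hom := by
    apply CartesianMonoidalCategory.hom_ext
    · simp [ψ, θ, MonObj.mul_comp, MonObj.comp_mul]
    · simp [ψ, θ]
  haveI : IsProper ψ.left := by
    rw [hψ, Over.comp_left]
    haveI : IsIso θ.hom.left := ((Over.forget S).mapIso θ).isIso_hom
    haveI : IsProper (G ◁ (i ≫ u)).left :=
      MorphismProperty.of_isPullback (P := @IsProper) (isPullback_whisker G (i ≫ u)).flip hu
    infer_instance
  haveI := FpqcDesc.isProper_descends.{u}
  have hflip : CategoryTheory.IsPullback ψ.left π.left (H ◁ p).left w.left := (hpb.map (Over.forget S)).flip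
  have hf : (@Surjective ⊓ @Flat ⊓ @QuasiCompact : MorphismProperty Scheme.{u}) (H ◁ p).left :=
    ⟨⟨MorphismProperty.of_isPullback (P := @Surjective) (isPullback_whisker H p).flip inferInstance,
      MorphismProperty.of_isPullback (P := @Flat) (isPullback_whisker H p).flip inferInstance⟩,
      MorphismProperty.of_isPullback (P := @QuasiCompact) (isPullback_whisker H p).flip inferInstance⟩
  haveI : IsProper w.left :=
    MorphismProperty.of_isPullback_of_descendsAlong (P := @IsProper) (Q := @Surjective ⊓ @Flat ⊓ @QuasiCompact)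
      (hpb.map (Over.forget S)).flip hf ‹IsProper ψ.left›
  haveI : IsProper (fst H G'').left :=
    MorphismProperty.of_isPullback (P := @IsProper) (CategoryTheory.IsPullback.of_hasPullback H.hom G''.hom).flip
      ‹IsProper G''.hom›
  rw [show u = w ≫ fst H G'' from (lift_fst _ _).symm, Over.comp_left]
  infer_instance

/-- Let G be an S-group scheme of finite presentation over S, p : G → G'' a homomorphism which is
surjective, flat and locally of finite presentation onto an S-group scheme G'' proper and of finite
presentation over S, and i : G' → G its kernel, with G' flat and of finite presentation over S. Let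
H be an S-group scheme which is of finite presentation over S, or locally of finite presentation
over a locally Noetherian S, and u : G → H a homomorphism. If the restriction u ∘ i of u to G' is
proper, then u is proper. -/
theorem result (S : Scheme.{u}) (G G' G'' : Over S) [GrpObj G] [GrpObj G'] [GrpObj G'']
    [QuasiCompact G.hom] [QuasiSeparated G.hom] [LocallyOfFinitePresentation G.hom]
    [IsProper G''.hom] [LocallyOfFinitePresentation G''.hom]
    [Flat G'.hom] [QuasiCompact G'.hom] [QuasiSeparated G'.hom] [LocallyOfFinitePresentation G'.hom]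
    (p : G ⟶ G'') [IsMonHom p] [Surjective p.left] [Flat p.left] [LocallyOfFinitePresentation p.left]
    (i : G' ⟶ G) [IsMonHom i] (hker : AlgGrp.IsKernel i p)
    (H : Over S) [GrpObj H] [LocallyOfFinitePresentation H.hom]
    (hH : (QuasiCompact H.hom ∧ QuasiSeparated H.hom) ∨ IsLocallyNoetherian S)
    (u : G ⟶ H) [IsMonHom u] (hu : IsProper (i ≫ u).left) : IsProper u.left := by
  exact isProper_of_kernel p i hker u hu

end Groth.Agent.S5415
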