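import Groth.Statements.S5420
import Groth.Agent.CenConnLib.Apps

set_option autoImplicit false
set_option backward.isDefEq.respectTransparency false
set_option backward.isDefEq.respectTransparency.types false
universe u
open CategoryTheory MonoidalCategory CartesianMonoidalCategory MonObj GrpObj AlgebraicGeometry CategoryTheory.Limits
open Red

namespace Groth.Agent.S5420

/-- Let S be a scheme, Q an S-torus acting on an S-group scheme H by group automorphisms (on points, q ·
(h h') = (q · h)(q · h')), with H separated and smooth over S. (i) The functor of invariants H^Q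
(points of H fixed by all points of Q after any base change) is representable by a closed subscheme
F of H which is smooth over S. (ii) If moreover H is affine over S with connected fibres, then F is
affine over S with connected fibres. -/
theorem result (S : Scheme.{u}) (Q H : Over S) [GrpObj Q] [GrpObj H] (hQ : Red.IsTorus Q)
    [IsSeparated H.hom] [Smooth H.hom] (a : AlgGrp.Action Q H)
    (hmul : ∀ (X : Over S) (q : X ⟶ Q) (h h' : X ⟶ H),
      lift q (h * h') ≫ a.act = (lift q h ≫ a.act) * (lift q h' ≫ a.act)) :
    ∃ (F : Over S) (f : F ⟶ H), IsClosedImmersion f.left ∧ Smooth F.hom ∧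
      (∀ (X : Over S) (h : X ⟶ H), (∃ x : X ⟶ F, x ≫ f = h) ↔
        ∀ (X' : Over S) (g : X' ⟶ X) (q : X' ⟶ Q), lift q (g ≫ h) ≫ a.act = g ≫ h) ∧
      (IsAffineHom H.hom → (∀ s : S, _root_.IsConnected (H.hom.base ⁻¹' {s})) →
        IsAffineHom F.hom ∧ ∀ s : S, _root_.IsConnected (F.hom.base ⁻¹' {s})) := by
  obtain ⟨F, f, hf, hs, hF⟩ := FixedSmooth.exists_smooth_fixed (CenConn.isMultTypeLoc_of_isTorus hQ) a.act
    (FixedSmooth.action_assoc a)
  haveI := hf
  haveI : Mono f := ⟨fun p q e => Over.OverMorphism.ext ((cancel_mono f.left).1 (congrArg CommaMorphism.left e))⟩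
  refine ⟨F, f, hf, hs, hF, fun haff hconn => ?_⟩
  haveI := haff
  refine ⟨by rw [← Over.w f]; infer_instance, fun s => ?_⟩
  exact CenConn.isConnected_preimage_fixed hQ a hmul f hF s (hconn s)

end Groth.Agent.S5420
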