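import Groth.Statements.S5421
import Groth.Agent.RankOneCellLib.CharFibre

set_option autoImplicit false
universe u
open CategoryTheory MonoidalCategory CartesianMonoidalCategory MonObj GrpObj AlgebraicGeometry CategoryTheory.Limits
open Red

set_option backward.isDefEq.respectTransparency false
set_option backward.isDefEq.respectTransparency.types false
set_option linter.style.haveILetI false
open Groth.Agent.RankOneCellLib

namespace Groth.Agent.S5421

/-- Let T be an S-torus and α : T → G_{m,S} a character. The following are equivalent: (i) for every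
point s of S the character induced on the geometric fibre at s is not the trivial character; (ii)
for every morphism S' → S with S' non-empty the base change of α is not the trivial character; (iii)
α is faithfully flat (flat and surjective). -/
theorem result (S : Scheme.{u}) (T : Over S) [GrpObj T] (hT : Red.IsTorus T) (α : T ⟶ Red.Gm S) [IsMonHom α] :
    ((∀ s : S, (Over.pullback (Red.geomPt s)).map α ≠ 1) ↔
      (∀ (S' : Scheme.{u}) (g : S' ⟶ S), Nonempty ↥S' → (Over.pullback g).map α ≠ 1)) ∧
    ((∀ s : S, (Over.pullback (Red.geomPt s)).map α ≠ 1) ↔ (Flat α.left ∧ Surjective α.left)) := by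
  have h13 := flatSurj_of_geomFibre_ne_one hT α
  have h32 : FS α.left → ∀ (S' : Scheme.{u}) (g : S' ⟶ S), Nonempty ↥S' → (Over.pullback g).map α ≠ 1 := by
    rintro h S' g ⟨x⟩ h1
    let k := S'.fromSpecResidueField x
    have hb : FS ((Over.pullback (k ≫ g)).map α).left :=
      MorphismProperty.of_isPullback (FixedSmooth.isPullback_bc (k ≫ g) α) h
    exact (flatSurj_iff_ne_one' hT α (k ≫ g)).1 hb (pullback_map_eq_one_of_base α g k _ rfl h1)
  refine ⟨⟨fun h => h32 (h13 h), fun h s => h _ _ ⟨IsLocalRing.closedPoint _⟩⟩,
    ⟨h13, fun h s => h32 h _ _ ⟨IsLocalRing.closedPoint _⟩⟩⟩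

end Groth.Agent.S5421
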