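import Groth.Statements.S5425
import Groth.Agent.UnipMuLib.Conn
import Groth.Agent.MultFib.Core
import Groth.Agent.SchFinLib.Connected

set_option autoImplicit false
set_option backward.isDefEq.respectTransparency false
set_option backward.isDefEq.respectTransparency.types false
universe u
open TensorProduct
open SGA3t2b

namespace Groth.Agent.S5425

open Groth.Agent.UnipMu WithConv

theorem convPow_eq {k : Type u} [Field k] {A : Type u} [CommRing A] [HopfAlgebra k A] (f : A →ₗ[k] k) (n : ℕ) :
    LieHopf.convPow f n = (toConv f ^ n).ofConv := by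
  induction n with
  | zero => ext a; simp [LieHopf.convPow, LinearMap.convOne_def]
  | succ n ih => rw [pow_succ, LieHopf.convPow, ih]; rfl

/-- (i) ⟺ (iv) ⟺ (v): let k be a field of characteristic p > 0 with algebraic closure k̄, and A a
finitely generated commutative Hopf algebra over k with no idempotents other than 0 and 1 (a
connected affine algebraic group G). Then the following are equivalent: (i) G is unipotent
(fixed-vector form); (iv) G_{k̄} contains no closed subgroup isomorphic to μ_p; (v) the Lie algebra
of G is a unipotent p-Lie algebra: for every ε-derivation D : A → k some p^n-fold convolution power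
of D (n > 0) vanishes. -/
theorem result (k : Type u) [Field k] (p : ℕ) [Fact p.Prime] [CharP k p] (A : Type u) [CommRing A] [HopfAlgebra k A]
    [Algebra.FiniteType k A] (hconn : ∀ e : A, IsIdempotentElem e → e = 0 ∨ e = 1) :
    (HopfRep.IsUnipotent k A ↔
      ¬ ∃ φ : (AlgebraicClosure k ⊗[k] A) →ₐc[AlgebraicClosure k]
        MonoidAlgebra (AlgebraicClosure k) (Multiplicative (ZMod p)), Function.Surjective φ) ∧
    (HopfRep.IsUnipotent k A ↔
      ∀ D : LieHopf.Lie k A, ∃ n : ℕ, 0 < n ∧
        LieHopf.convPow (D.toLinearMap.restrictScalars k ∘ₗ LinearMap.id) (p ^ n) = 0) := by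
  let K := AlgebraicClosure k
  haveI : CharP K p := charP_of_injective_algebraMap (algebraMap k K).injective p
  haveI := UnipMu.nontrivial_hopf (k := k) A
  haveI : ConnectedSpace (PrimeSpectrum A) := SchFinLib.connectedSpace_of_idem hconn
  haveI : ConnectedSpace (PrimeSpectrum (K ⊗[k] A)) := MultFib.connectedSpace_baseChange K
  have hK : ∀ e : K ⊗[k] A, IsIdempotentElem e → e = 0 ∨ e = 1 := fun e he => SchFinLib.eq_zero_or_one_of_idem he
  have hp1 : 1 < p := (Fact.out : p.Prime).one_lt
  refine ⟨⟨fun hU => not_exists_mu ((Comodule.unipotent_baseChange_iff (K := K)).1 hU) p hp1, fun hμ => ?_⟩,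
    ⟨fun hU D => S2968.result p hU D, fun hL => ?_⟩⟩
  · exact (Comodule.unipotent_baseChange_iff (K := K)).2
      (isUnipotent_of_der p hK fun f hf => isNilpotent_der_of_no_mu_p p hμ hf)
  · refine (Comodule.unipotent_baseChange_iff (K := K)).2
      (isUnipotent_of_der p hK fun f hf => isNilpotent_der_baseChange p K (fun g hg => ?_) f hf)
    let D : LieHopf.Lie k A := Derivation.mk' (g.ofConv : A →ₗ[k] LieHopf.K k A) fun a b => by
      show g.ofConv (a * b) = (Bialgebra.counitAlgHom k A a : k) • g.ofConv b +
        (Bialgebra.counitAlgHom k A b : k) • g.ofConv a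
      rw [hg a b, smul_eq_mul, smul_eq_mul, mul_comm (g.ofConv a)]
      rfl
    obtain ⟨n, -, hn⟩ := hL D
    refine ⟨p ^ n, WithConv.ofConv_injective ?_⟩
    rw [convPow_eq] at hn
    exact hn

end Groth.Agent.S5425
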