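import Groth.Statements.S5427
import Groth.Agent.DSMapLib.Main
-- import your own Groth.Agent.* helpers here

set_option autoImplicit false
universe u
open CategoryTheory MonoidalCategory CartesianMonoidalCategory MonObj GrpObj AlgebraicGeometry CategoryTheory.Limits
open Red

namespace Groth.Agent.S5427

/-- Let S be a scheme and G = D_S(M) a diagonalizable S-group of finite type, M a non-trivial finitely
generated commutative group. Then there are a prime number r and a closed subgroup of G isomorphic
to (μ_r)_S: a homomorphism of S-groups D_S(ℤ/r) → D_S(M) which is a closed immersion. -/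
theorem result (S : Scheme.{u}) (M : Type) [AddCommGroup M] [AddGroup.FG M] [Nontrivial M] :
    ∃ (r : ℕ) (_ : r.Prime) (j : Red.DS S (ZMod r) ⟶ Red.DS S M), IsMonHom j ∧ IsClosedImmersion j.left := by
  haveI : Module.Finite ℤ M := Module.Finite.iff_addGroup_fg.2 inferInstance
  obtain ⟨W, hW⟩ := IsCoatomic.exists_coatom (α := Submodule ℤ M)
  haveI : IsSimpleModule ℤ (M ⧸ W) := isSimpleModule_iff_isCoatom.2 hW
  obtain ⟨I, hI, ⟨e⟩⟩ := isSimpleModule_iff_quot_maximal.1 (inferInstance : IsSimpleModule ℤ (M ⧸ W))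
  obtain ⟨r, rfl⟩ : ∃ r : ℤ, I = Ideal.span {r} := ⟨_, (Ideal.span_singleton_generator I).symm⟩
  have hr0 : r ≠ 0 := by
    rintro rfl
    simp only [Ideal.span_singleton_zero] at hI
    have h2 := hI.eq_of_le (J := Ideal.span {(2 : ℤ)}) (by
      rw [Ne, Ideal.span_singleton_eq_top]
      intro h
      rcases Int.isUnit_iff.1 h with h | h <;> omega) bot_le
    have : (2 : ℤ) ∈ (⊥ : Ideal ℤ) := h2 ▸ Ideal.mem_span_singleton_self 2
    simp at this
  have hp : Prime r := (Ideal.span_singleton_prime hr0).1 hI.isPrime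
  let f : M →+ ZMod r.natAbs :=
    ((Int.quotientSpanEquivZMod r).toAddMonoidHom.comp e.toAddEquiv.toAddMonoidHom).comp W.mkQ.toAddMonoidHom
  refine ⟨r.natAbs, Int.prime_iff_natAbs_prime.1 hp, Red.DSmap S f, Groth.Agent.DSMapLib.isMonHom_DSmap S f,
    Groth.Agent.DSMapLib.isClosedImmersion_DSmap S f ?_⟩
  exact ((Int.quotientSpanEquivZMod r).surjective.comp e.surjective).comp W.mkQ_surjective

end Groth.Agent.S5427
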