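import Groth.Statements.S5432
import Groth.Agent.UnipH7.Basic
import Groth.Agent.UnipH7.ConnBC
import Groth.Agent.S9407
import Groth.Agent.Comodule.ConnDomain
-- import your own Groth.Agent.* helpers here

set_option autoImplicit false
universe u
open TensorProduct
open SGA3t2b

namespace Groth.Agent.S5432

/-- Let k be a field, C a finitely generated commutative Hopf algebra which is formally smooth with no
idempotents other than 0 and 1 and unipotent in the fixed-vector sense (a smooth connected unipotent
algebraic group U), and B a commutative Hopf algebra of multiplicative type (isomorphic to a group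
algebra after a faithfully flat extension of k; the group H, not assumed of finite type). Then every
morphism of k-schemes U → H is constant: every k-algebra map f : B → C satisfies f(b) = ε_C(f(b)) ·
1. -/
theorem result (k : Type u) [Field k] (C B : Type u) [CommRing C] [HopfAlgebra k C] [Algebra.FiniteType k C]
    [Algebra.FormallySmooth k C] (hconn : ∀ e : C, IsIdempotentElem e → e = 0 ∨ e = 1)
    (hU : HopfRep.IsUnipotent k C) [CommRing B] [HopfAlgebra k B]
    (hB : SGA3b.IsMultTypeConst k B) (f : B →ₐ[k] C) :
    ∀ b : B, f b = algebraMap k C (Bialgebra.counitAlgHom k C (f b)) := by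
  classical
  obtain ⟨R', _, _, hff, M, _, ⟨e⟩⟩ := hB
  haveI : Nontrivial R' := by
    haveI := hff
    haveI : Nontrivial (TensorProduct k R' k) := inferInstance
    exact (TensorProduct.rid k R').symm.toEquiv.nontrivial
  obtain ⟨m, hm⟩ := Ideal.exists_maximal R'
  haveI := hm
  letI : Field (R' ⧸ m) := Ideal.Quotient.field m
  let L := AlgebraicClosure (R' ⧸ m)
  let π : R' →ₐ[k] L := (IsScalarTower.toAlgHom k (R' ⧸ m) L).comp (Ideal.Quotient.mkₐ k m)
  haveI : IsNoetherianRing C := Algebra.FiniteType.isNoetherianRing k C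
  haveI : Algebra.FinitePresentation k C := Algebra.FinitePresentation.of_finiteType.1 inferInstance
  haveI : Algebra.Smooth L (L ⊗[k] C) := ⟨inferInstance, inferInstance⟩
  haveI : IsReduced (L ⊗[k] C) := Groth.Agent.S9407.result L (L ⊗[k] C)
  haveI := Groth.Agent.Comodule.ConnDomain.isDomain_of_connected L (A := L ⊗[k] C)
    (fun x hx => Groth.Agent.UnipH7.connected_baseChange hconn (Bialgebra.counitAlgHom k C) L x hx)
  have hfil := Groth.Agent.Comodule.isUnipotent_iff_fil.mp
    ((Groth.Agent.Comodule.unipotent_baseChange_iff (K := L)).mp hU)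
  let g : L ⊗[k] B →ₐ[L] L ⊗[k] C := Algebra.TensorProduct.map (AlgHom.id L L) f
  have hunit : ∀ u : L ⊗[k] B, IsUnit u →
      g u = algebraMap L (L ⊗[k] C) (Coalgebra.counit (R := L) (g u)) := by
    intro u hu
    obtain ⟨w, hw⟩ := hu.map g
    have hc0 : Coalgebra.counit (R := L) (w : L ⊗[k] C) ≠ 0 :=
      ((w.isUnit.map (Bialgebra.counitAlgHom L (L ⊗[k] C))).ne_zero)
    let c : Lˣ := Units.mk0 _ hc0
    let u' : (L ⊗[k] C)ˣ := w * (Units.map (algebraMap L (L ⊗[k] C)).toMonoidHom c)⁻¹
    have hu' : Coalgebra.counit (R := L) (u' : L ⊗[k] C) = 1 := by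
      have h1 : Coalgebra.counit (R := L) (((Units.map (algebraMap L (L ⊗[k] C)).toMonoidHom c)⁻¹ : (L ⊗[k] C)ˣ) : L ⊗[k] C)
          = ((c⁻¹ : Lˣ) : L) := by
        rw [← map_inv]
        exact (Bialgebra.counitAlgHom L (L ⊗[k] C)).commutes _
      rw [Units.val_mul, Bialgebra.counit_mul, h1]
      exact mul_inv_cancel₀ hc0
    have h2 : (u' : L ⊗[k] C) = 1 := Groth.Agent.UnipH7.groupLike_eq_one hfil
      ⟨hu', Groth.Agent.Comodule.ConnDomain.comul_unit (k := L) u' hu'⟩
    have h3 : w = Units.map (algebraMap L (L ⊗[k] C)).toMonoidHom c := mul_inv_eq_one.mp (Units.ext h2)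
    rw [← hw]
    conv_lhs => rw [h3]
    rfl
  let P : R' ⊗[k] B →ₐ[k] L ⊗[k] B := Algebra.TensorProduct.map π (AlgHom.id k B)
  let S : Submodule L (L ⊗[k] B) :=
    LinearMap.eqLocus g.toLinearMap (Algebra.linearMap L (L ⊗[k] C) ∘ₗ Coalgebra.counit ∘ₗ g.toLinearMap)
  have hP : ∀ z : R' ⊗[k] B, P z ∈ S := by
    intro z
    obtain ⟨y, rfl⟩ := e.toAlgEquiv.symm.surjective z
    induction y using MonoidAlgebra.induction_linear with
    | zero => rw [map_zero, map_zero]; exact S.zero_mem
    | add a b ha hb => rw [map_add, map_add]; exact S.add_mem ha hb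
    | single a r =>
      rw [show MonoidAlgebra.single a r = r • MonoidAlgebra.single a (1 : R') by simp, map_smul]
      have h1 : ∀ (r : R') (z : R' ⊗[k] B), P (r • z) = π r • P z := by
        intro r z
        induction z using TensorProduct.induction_on with
        | zero => simp
        | add p q hp hq => simp only [smul_add, map_add, hp, hq]
        | tmul p q => simp [P, TensorProduct.smul_tmul']
      rw [h1]
      refine S.smul_mem _ (hunit _ ((IsUnit.map e.toAlgEquiv.symm ?_).map P))
      exact ((Group.isUnit a).map (MonoidAlgebra.of R' M))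
  intro b
  have h := hP ((1 : R') ⊗ₜ[k] b)
  apply Algebra.TensorProduct.includeRight_injective (A := L) (algebraMap k L).injective
  simp only [S, LinearMap.mem_eqLocus, LinearMap.comp_apply, P, g, AlgHom.toLinearMap_apply,
    Algebra.TensorProduct.map_tmul, map_one, AlgHom.id_apply, Algebra.linearMap_apply] at h
  simp only [Algebra.TensorProduct.includeRight_apply]
  rw [h]
  simp [TensorProduct.counit_tmul, Algebra.algebraMap_eq_smul_one, TensorProduct.smul_tmul, Algebra.TensorProduct.one_def]

end Groth.Agent.S5432
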