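import Groth.Statements.S5434
import Groth.Agent.RatDense.Basic

set_option autoImplicit false
universe u
open CategoryTheory MonoidalCategory CartesianMonoidalCategory MonObj GrpObj AlgebraicGeometry CategoryTheory.Limits
open SGA3x

namespace Groth.Agent.S5434

/-- Let X be an S-scheme and U an open subscheme of X which is schematically dense in X relative to S:
for every S′ → S the preimage of U in X ×_S S′ is schematically dense (restriction of functions to
it is injective on every open). Let Y be an S-scheme whose fibres Y_s are separated (over κ(s)). If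
two S-morphisms f, g : X → Y agree on U, then f = g. -/
theorem result (S : Scheme.{u}) (X Y : Over S) (U : X.left.Opens) (hU : (∀ (S' : Scheme.{u}) (g : S' ⟶ S), CInt.IsSchematicallyDense ((pullback.fst X.hom g) ⁻¹ᵁ U)))
    (hY : ∀ s : S, IsSeparated (pullback.snd Y.hom (S.fromSpecResidueField s)))
    (f g : X ⟶ Y) (h : U.ι ≫ f.left = U.ι ≫ g.left) : f = g := by
  have hpt : ∀ x : X.left, f.left x = g.left x := fun x => by
    let s : S := X.hom x
    haveI := hY s
    obtain ⟨z, hz⟩ : x ∈ Set.range (pullback.fst X.hom (S.fromSpecResidueField s)) := by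
      rw [Scheme.Pullback.range_fst, Scheme.range_fromSpecResidueField]
      rfl
    let q := pullback.fst X.hom (S.fromSpecResidueField s)
    let lf : pullback X.hom (S.fromSpecResidueField s) ⟶ pullback Y.hom (S.fromSpecResidueField s) :=
      pullback.lift (q ≫ f.left) (pullback.snd _ _) (by rw [Category.assoc, Over.w]; exact pullback.condition)
    let lg : pullback X.hom (S.fromSpecResidueField s) ⟶ pullback Y.hom (S.fromSpecResidueField s) :=
      pullback.lift (q ≫ g.left) (pullback.snd _ _) (by rw [Category.assoc, Over.w]; exact pullback.condition)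
    have hl : lf = lg := by
      refine Groth.Agent.RatDense.eq_of_isSchematicallyDense (pullback.snd Y.hom (S.fromSpecResidueField s))
        (hU _ (S.fromSpecResidueField s)) lf lg (by rw [pullback.lift_snd, pullback.lift_snd]) ?_
      apply pullback.hom_ext
      · rw [Category.assoc, pullback.lift_fst, Category.assoc, pullback.lift_fst,
          ← morphismRestrict_ι_assoc, ← morphismRestrict_ι_assoc, h]
      · rw [Category.assoc, pullback.lift_snd, Category.assoc, pullback.lift_snd]
    have := congrArg (fun t => (t ≫ pullback.fst Y.hom (S.fromSpecResidueField s)) z) hl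
    simp only [lf, lg, pullback.lift_fst, Scheme.Hom.comp_apply] at this
    rwa [show q z = x from hz] at this
  have hU1 : CInt.IsSchematicallyDense U := by
    have h1 := hU S (𝟙 S)
    intro V a b hab
    haveI : IsIso (pullback.fst X.hom (𝟙 S)) := inferInstance
    let p := pullback.fst X.hom (𝟙 S)
    refine (ConcreteCategory.bijective_of_isIso (p.app V)).1 (h1 (p ⁻¹ᵁ V) ?_)
    have hnat := fun c => (ConcreteCategory.congr_hom (p.naturality (homOfLE (inf_le_left : V ⊓ U ≤ V)).op) c).symm
    exact (hnat a).trans ((congrArg (p.app (V ⊓ U)) hab).trans (hnat b).symm)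
  apply Over.OverMorphism.ext
  refine Scheme.Cover.hom_ext (X.left.openCoverOfIsOpenCover (fun V : Y.left.affineOpens => f.left ⁻¹ᵁ V.1)
    (TopologicalSpace.IsOpenCover.mk (by
      rw [← Scheme.Hom.preimage_iSup, iSup_affineOpens_eq_top, Scheme.Hom.preimage_top]))) _ _ fun V => ?_
  haveI : IsAffine (V.1 : Scheme.{u}) := V.2
  let W : X.left.Opens := f.left ⁻¹ᵁ V.1
  have hWg : ∀ w : W, g.left (W.ι w) ∈ V.1 := fun w => by rw [← hpt]; exact w.2
  let a := f.left ∣_ V.1
  let b : (W : Scheme.{u}) ⟶ V.1 := IsOpenImmersion.lift V.1.ι (W.ι ≫ g.left) (by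
    rw [Scheme.Opens.range_ι]; rintro _ ⟨w, rfl⟩; exact hWg w)
  have ha : a ≫ V.1.ι = W.ι ≫ f.left := morphismRestrict_ι _ _
  have hb : b ≫ V.1.ι = W.ι ≫ g.left := IsOpenImmersion.lift_fac _ _ _
  have hd : CInt.IsSchematicallyDense (W.ι ⁻¹ᵁ U) := fun O a b hab => by
    refine hU1 (W.ι ''ᵁ O) ?_
    have hle : (W.ι ''ᵁ O) ⊓ U ≤ W.ι ''ᵁ (O ⊓ W.ι ⁻¹ᵁ U) := by
      rintro _ ⟨⟨z, hz, rfl⟩, hzU⟩
      exact ⟨z, ⟨hz, hzU⟩, rfl⟩
    have := congrArg (X.left.presheaf.map (homOfLE hle).op) hab
    simp only [Scheme.Opens.toScheme_presheaf_map] at this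
    exact (Groth.Agent.RatDense.res_res (W.ι.image_mono inf_le_left) hle a).symm.trans
      (this.trans (Groth.Agent.RatDense.res_res (W.ι.image_mono inf_le_left) hle b))
  have hab : a = b := Groth.Agent.RatDense.eq_of_isSchematicallyDense (terminal.from _) hd a b
    (Subsingleton.elim _ _) (by
      rw [← cancel_mono V.1.ι, Category.assoc, Category.assoc, ha, hb, ← morphismRestrict_ι_assoc,
        ← morphismRestrict_ι_assoc, h])
  show W.ι ≫ f.left = W.ι ≫ g.left
  rw [← ha, ← hb, hab]

end Groth.Agent.S5434
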