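import Groth.Statements.S5435
import Groth.Agent.S3015
import Groth.Agent.RatDense.Basic

set_option autoImplicit false
universe u
open CategoryTheory MonoidalCategory CartesianMonoidalCategory MonObj GrpObj AlgebraicGeometry CategoryTheory.Limits
open SGA3x

namespace Groth.Agent.S5435

/-- Let G be an S-group scheme, flat and locally of finite presentation over S, U an open subscheme of G
schematically dense in G relative to S (after every base change), and H an S-group scheme. Then a
homomorphism G → H is determined by its restriction to U: two homomorphisms f, g : G → H with the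
same restriction to U are equal. (No separatedness of H is needed. The published statement allows H
to be any sheaf of groups for the fppf topology; this row takes H a group scheme.) -/
theorem result (S : Scheme.{u}) (G H : Over S) [GrpObj G] [GrpObj H] [Flat G.hom] [LocallyOfFinitePresentation G.hom]
    (U : G.left.Opens) (hU : (∀ (S' : Scheme.{u}) (g : S' ⟶ S), CInt.IsSchematicallyDense ((pullback.fst G.hom g) ⁻¹ᵁ U)))
    (f g : G ⟶ H) [IsMonHom f] [IsMonHom g] (h : U.ι ≫ f.left = U.ι ≫ g.left) : f = g := by
  let Uo : Over S := CategoryTheory.Over.mk (U.ι ≫ G.hom)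
  let i : Uo ⟶ G := CategoryTheory.Over.homMk U.ι
  let ν : Uo ⊗ Uo ⟶ G := (i ⊗ₘ i) ≫ μ[G]
  haveI : Flat (μ[G]).left := by
    have h := GrpSchLib.flat_mulMap (𝟙 G) ‹Flat G.hom›
    rwa [id_whiskerRight, Category.id_comp] at h
  have hli : (i ⊗ₘ i).left = pullback.map Uo.hom Uo.hom G.hom G.hom U.ι U.ι (𝟙 S) (by simp [Uo]) (by simp [Uo]) := by
    apply pullback.hom_ext
    · refine Eq.trans ?_ (pullback.lift_fst _ _ _).symm
      exact congrArg (fun m => m.left) (tensorHom_fst i i)
    · refine Eq.trans ?_ (pullback.lift_snd _ _ _).symm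
      exact congrArg (fun m => m.left) (tensorHom_snd i i)
  haveI : IsOpenImmersion (i ⊗ₘ i).left := by rw [hli]; infer_instance
  haveI : Flat ν.left := by rw [CategoryTheory.Over.comp_left]; infer_instance
  haveI : Surjective ν.left := by
    refine ⟨fun x => ?_⟩
    let s : S := G.hom x
    let j := S.fromSpecResidueField s
    let F := CategoryTheory.Over.pullback j
    let p := pullback.fst G.hom j
    obtain ⟨x', hx⟩ : x ∈ Set.range p := (G.hom.range_fiberι s).ge rfl
    have hd : Dense (p ⁻¹' (U : Set G.left)) := RatDense.dense_of_isSchematicallyDense (U := p ⁻¹ᵁ U) (hU _ j)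
    obtain ⟨z, hz1, hz2, hz3⟩ := S3015.mul_dense (K := S.residueField s) (Red.bc j G) (p ⁻¹' (U : Set G.left))
      (p ⁻¹' (U : Set G.left)) (U.2.preimage p.continuous) (U.2.preimage p.continuous) hd hd x'
    let w : (Red.bc j G ⊗ Red.bc j G).left ⟶ (G ⊗ G).left :=
      (Functor.LaxMonoidal.μ F G G).left ≫ pullback.fst (G ⊗ G).hom j
    have hw : ∀ (h : G ⊗ G ⟶ G), w ≫ h.left = (Functor.LaxMonoidal.μ F G G ≫ F.map h).left ≫ p := fun h => by
      rw [CategoryTheory.Over.comp_left, Category.assoc, Category.assoc,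
        show (F.map h).left ≫ p = pullback.fst (G ⊗ G).hom j ≫ h.left from pullback.lift_fst _ _ _]
    have h1 : (w ≫ (fst G G).left) z ∈ U := by
      rw [hw, show Functor.LaxMonoidal.μ F G G ≫ F.map (fst G G) = fst (F.obj G) (F.obj G) by simp]
      exact hz1
    have h2 : (w ≫ (snd G G).left) z ∈ U := by
      rw [hw, show Functor.LaxMonoidal.μ F G G ≫ F.map (snd G G) = snd (F.obj G) (F.obj G) by simp]
      exact hz2
    obtain ⟨v, hv⟩ : w z ∈ Set.range (i ⊗ₘ i).left := by
      rw [hli, Scheme.Pullback.range_map, Scheme.Opens.range_ι]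
      exact ⟨h1, h2⟩
    refine ⟨v, ?_⟩
    rw [CategoryTheory.Over.comp_left, Scheme.Hom.comp_apply, hv, ← Scheme.Hom.comp_apply, hw, Scheme.Hom.comp_apply]
    exact (congrArg p hz3).trans hx
  haveI : Epi ν.left := Flat.epi_of_flat_of_surjective _
  have hi : i ≫ f = i ≫ g := CategoryTheory.Over.OverMorphism.ext h
  apply CategoryTheory.Over.OverMorphism.ext
  rw [← cancel_epi ν.left, ← CategoryTheory.Over.comp_left, ← CategoryTheory.Over.comp_left]
  congr 1
  show ((i ⊗ₘ i) ≫ μ[G]) ≫ f = ((i ⊗ₘ i) ≫ μ[G]) ≫ g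
  rw [Category.assoc, Category.assoc, IsMonHom.mul_hom, IsMonHom.mul_hom, ← Category.assoc, ← Category.assoc,
    tensorHom_comp_tensorHom, tensorHom_comp_tensorHom, hi]

end Groth.Agent.S5435
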