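import Groth.Statements.S5442
import Groth.Agent.FixedSmooth.SmoothFixed
-- import your own Groth.Agent.* helpers here

set_option autoImplicit false
set_option backward.isDefEq.respectTransparency false
set_option backward.isDefEq.respectTransparency.types false
universe u
open CategoryTheory MonoidalCategory CartesianMonoidalCategory MonObj GrpObj AlgebraicGeometry CategoryTheory.Limits
open SGA3x

namespace Groth.Agent.S5442

/-- Let S be a scheme, G an S-group scheme separated and smooth over S, and H an S-group of
multiplicative type and of finite type acting on G by group automorphisms (on points, h · (g g′) =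
(h · g)(h · g′)). Then the functor Z = G^H of invariants (points of G fixed by all points of H after
any base change) is representable by a closed subgroup scheme of G which is smooth over S: there are
an S-group Z and a homomorphism Z → G which is a closed immersion, with Z smooth over S, whose
points are exactly the invariant points. (The published statement allows any S-group of
multiplicative type; this row assumes it moreover of finite type.) -/
theorem result (S : Scheme.{u}) (H G : Over S) [GrpObj H] [GrpObj G] (hH : SGA3x.IsMultTypeFT H)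
    [IsSeparated G.hom] [Smooth G.hom] (a : AlgGrp.Action H G)
    (hmul : ∀ (X : Over S) (h : X ⟶ H) (g g' : X ⟶ G),
      lift h (g * g') ≫ a.act = (lift h g ≫ a.act) * (lift h g' ≫ a.act)) :
    ∃ (Z : Over S) (_ : GrpObj Z) (z : Z ⟶ G) (_ : IsMonHom z), IsClosedImmersion z.left ∧ Smooth Z.hom ∧
      ∀ (X : Over S) (g : X ⟶ G), (∃ x : X ⟶ Z, x ≫ z = g) ↔
        ∀ (X' : Over S) (f : X' ⟶ X) (h : X' ⟶ H), lift h (f ≫ g) ≫ a.act = f ≫ g := by
  obtain ⟨Z, j, hj, hs, hrep⟩ := FixedSmooth.exists_smooth_fixed (.of_isMultTypeFT hH) a.act (FixedSmooth.action_assoc a)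
  haveI : Mono j := ⟨fun p q e => Over.OverMorphism.ext ((cancel_mono j.left).1 (congrArg CommaMorphism.left e))⟩
  have hone : ∀ (X : Over S) (h : X ⟶ H), lift h (1 : X ⟶ G) ≫ a.act = 1 := fun X h => by
    have := hmul X h 1 1
    rw [_root_.mul_one] at this
    exact left_eq_mul.1 this
  obtain ⟨str, hmon⟩ := WeilClosedLib.exists_grpObj_of_closed j
    ((hrep _ η[G]).2 fun X' x h => by
      have e : x ≫ η[G] = 1 := by rw [Hom.one_def, toUnit_unique x (toUnit _)]
      rw [e]; exact hone _ h)
    (fun W p q => (hrep W ((p ≫ j) * (q ≫ j))).2 fun X' x h => by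
      have qa := (hrep W (p ≫ j)).1 ⟨p, rfl⟩ X' x h
      have qb := (hrep W (q ≫ j)).1 ⟨q, rfl⟩ X' x h
      rw [MonObj.comp_mul, hmul, qa, qb])
    (fun W p => (hrep W (p ≫ j)⁻¹).2 fun X' x h => by
      have qa := (hrep W (p ≫ j)).1 ⟨p, rfl⟩ X' x h
      have := hmul X' h (x ≫ p ≫ j) (x ≫ p ≫ j)⁻¹
      rw [mul_inv_cancel, hone, qa] at this
      rw [GrpObj.comp_inv]
      exact eq_inv_of_mul_eq_one_right this.symm)
  exact ⟨Z, str, j, hmon, hj, hs, hrep⟩

end Groth.Agent.S5442
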