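import Groth.Statements.S5444
import Groth.Agent.SecClosureLib.Basic

set_option autoImplicit false
set_option backward.isDefEq.respectTransparency false
set_option backward.isDefEq.respectTransparency.types false
universe u
open CategoryTheory AlgebraicGeometry Topology
open SGA3x

namespace Groth.Agent.S5444

/-- Let f : Y → S be a morphism of finite presentation, (a_i)_{i ∈ I} a family of sections of f, and s₀,
s₁ two points of S with s₀ a specialization of s₁. For j = 0, 1 let C_j be the closure in the fibre
Y_{s_j} (with its subspace topology) of the set of points a_i(s_j). Then dim C₁ ≥ dim C₀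
(topological Krull dimensions). -/
theorem result (S Y : Scheme.{u}) (f : Y ⟶ S) [QuasiCompact f] [QuasiSeparated f] [LocallyOfFinitePresentation f]
    (ι : Type u) (a : ι → (S ⟶ Y)) (ha : ∀ i, a i ≫ f = 𝟙 S) (s₀ s₁ : S) (h : s₁ ⤳ s₀) :
    topologicalKrullDim ↥(f.base ⁻¹' {s₀} ∩ closure (Set.range fun i => (a i).base s₀)) ≤
      topologicalKrullDim ↥(f.base ⁻¹' {s₁} ∩ closure (Set.range fun i => (a i).base s₁)) := by
  obtain ⟨V, _, _, _, l, hl1, hl0⟩ := SubtrVal.exists_valuationRing h
  let f' : Limits.pullback f l ⟶ Spec (CommRingCat.of V) := Limits.pullback.snd f l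
  let e : Limits.pullback f l ⟶ Y := Limits.pullback.fst f l
  have sq : IsPullback e f' f l := IsPullback.of_hasPullback f l
  let a' : ι → (Spec (CommRingCat.of V) ⟶ Limits.pullback f l) := fun i =>
    Limits.pullback.lift (l ≫ a i) (𝟙 _) (by rw [Category.assoc, ha i, Category.comp_id, Category.id_comp])
  have ha' : ∀ i, a' i ≫ f' = 𝟙 _ := fun i => Limits.pullback.lift_snd _ _ _
  have hae : ∀ i, a' i ≫ e = l ≫ a i := fun i => Limits.pullback.lift_fst _ _ _
  have hfa' : ∀ i (t : Spec (CommRingCat.of V)), f' (a' i t) = t := fun i t => by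
    rw [← Scheme.Hom.comp_apply, ha' i]; rfl
  have hea' : ∀ i (t : Spec (CommRingCat.of V)), e (a' i t) = a i (l t) := fun i t => by
    rw [← Scheme.Hom.comp_apply, hae i, Scheme.Hom.comp_apply]
  let η : ↥(Spec (CommRingCat.of V)) := (⊥ : PrimeSpectrum V)
  let c : ↥(Spec (CommRingCat.of V)) := IsLocalRing.closedPoint V
  have hlow := SecClosureLib.dim_inter_baseChange sq ⟨closure (Set.range fun i => (a i).base (l c)), isClosed_closure⟩ c
  have hhigh := SecClosureLib.dim_inter_baseChange sq ⟨closure (Set.range fun i => (a i).base (l η)), isClosed_closure⟩ η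
  simp only [TopologicalSpace.Closeds.coe_mk] at hlow hhigh
  let W := closure (Set.range fun i => (a' i).base η)
  have hmono : ∀ {A B : Set ↥(Limits.pullback f l)}, A ⊆ B → topologicalKrullDim A ≤ topologicalKrullDim B :=
    fun hAB => (Topology.IsEmbedding.inclusion hAB).isInducing.topologicalKrullDim_le
  have h1 : f'.base ⁻¹' {c} ∩ e.base ⁻¹' closure (Set.range fun i => (a i).base (l c)) ⊆ f'.base ⁻¹' {c} ∩ W := by
    refine fun v hv => ⟨hv.1, closure_minimal ?_ isClosed_closure
      (SecClosureLib.preimage_closure_subset sq a ha a' ha' hae c hv)⟩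
    rintro _ ⟨i, rfl⟩
    exact ((((PrimeSpectrum.le_iff_specializes (⊥ : PrimeSpectrum V) _).1 bot_le).map (a' i).continuous).mem_closed
      isClosed_closure (subset_closure ⟨i, rfl⟩))
  have h2 : f'.base ⁻¹' {η} ∩ W ⊆ f'.base ⁻¹' {η} ∩ e.base ⁻¹' closure (Set.range fun i => (a i).base (l η)) := by
    refine fun v hv => ⟨hv.1, closure_minimal ?_ (isClosed_closure.preimage e.continuous) hv.2⟩
    rintro _ ⟨i, rfl⟩
    show e (a' i η) ∈ closure _
    rw [hea']
    exact subset_closure ⟨i, rfl⟩
  have hmain := ((hmono h1).trans (SecClosureLib.dim_closure_le f' _ (by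
    rintro _ ⟨i, rfl⟩
    exact hfa' i η))).trans (hmono h2)
  rw [hlow, hhigh, show l c = s₀ from hl0, show l η = s₁ from hl1] at hmain
  exact hmain

end Groth.Agent.S5444
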