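import Groth.Statements.S5446
import Groth.Agent.RootDLib.Sub2
-- import your own Groth.Agent.* helpers here

set_option autoImplicit false
open RootD

namespace Groth.Agent.S5446

/-- If the roots indexed by Δ are indivisible and linearly independent and every root is, up to sign, a
non-negative rational combination of them (some positive multiple is a non-negative integer
combination), then Δ is a system of simple roots: every root is, up to sign, a non-negative integer
combination of Δ. -/
theorem result {ι M N : Type*} [AddCommGroup M] [AddCommGroup N]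
    (P : RootPairing ι ℤ M N) [Finite ι] (Δ : Set ι)
    (hind : ∀ i ∈ Δ, RootD.IsIndiv P i) (hli : LinearIndepOn ℤ P.root Δ)
    (hcone : ∀ k : ι, ∃ n : ℕ, 0 < n ∧
      (n • P.root k ∈ RootD.natSpan P Δ ∨ n • (-P.root k) ∈ RootD.natSpan P Δ)) :
    RootD.IsSimpleSys P Δ := by
  classical
  have huniq : ∀ {c d : ι →₀ ℤ}, ↑c.support ⊆ Δ → ↑d.support ⊆ Δ → Groth.Agent.RootDLib.comb P c = Groth.Agent.RootDLib.comb P d → c = d :=
    fun {c d} hc hd e => linearIndepOn_iffₛ.1 hli c (by simpa [Finsupp.mem_supported] using hc) d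
      (by simpa [Finsupp.mem_supported] using hd) e
  let S : Set ι := {k | ∃ n : ℕ, 0 < n ∧ n • P.root k ∈ RootD.natSpan P Δ}
  have hS : RootD.IsPosSys P S := by
    refine Groth.Agent.RootDLib.isPosSys_of_closed P (fun i hi hi' => ?_) (fun i => ?_) fun i j k hi hj e => ?_
    · obtain ⟨n, hn, hm⟩ := hi
      obtain ⟨m, hm0, hm'⟩ := (show ∃ m : ℕ, 0 < m ∧ m • P.root (Groth.Agent.RootDLib.ng P i) ∈ _ from hi')
      rw [Groth.Agent.RootDLib.root_ng, smul_neg] at hm'
      obtain ⟨c, hc, hc0, ec⟩ := (Groth.Agent.RootDLib.mem_natSpan_iff P).1 hm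
      obtain ⟨d, hd, hd0, ed⟩ := (Groth.Agent.RootDLib.mem_natSpan_iff P).1 hm'
      have h0 : (m : ℤ) • c + (n : ℤ) • d = 0 := huniq ((Finset.coe_subset.2 Finsupp.support_add).trans (by
          rw [Finset.coe_union]
          exact Set.union_subset ((Finset.coe_subset.2 Finsupp.support_smul).trans hc)
            ((Finset.coe_subset.2 Finsupp.support_smul).trans hd))) (by simp)
        (by rw [map_add, LinearMap.map_smul, LinearMap.map_smul, ec, ed, map_zero, natCast_zsmul, natCast_zsmul,
          smul_neg, ← mul_smul, ← mul_smul, mul_comm, add_neg_cancel])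
      refine P.ne_zero i (Groth.Agent.RootDLib.zsmul_eq_zero P (n := (n : ℤ)) (by exact_mod_cast hn.ne') ?_)
      rw [natCast_zsmul, ← ec, show c = 0 from Finsupp.ext fun a => ?_, map_zero]
      have := DFunLike.congr_fun h0 a
      simp only [Finsupp.add_apply, Finsupp.smul_apply, smul_eq_mul, Finsupp.zero_apply] at this ⊢
      have h1 := hc0 a
      have h2 := mul_nonneg (show (0 : ℤ) ≤ n by omega) (hd0 a)
      exact le_antisymm (by nlinarith) h1
    · obtain ⟨n, hn, h | h⟩ := hcone i
      · exact .inl ⟨n, hn, h⟩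
      · exact .inr ⟨n, hn, by rw [show P.reflectionPerm i i = Groth.Agent.RootDLib.ng P i from rfl, Groth.Agent.RootDLib.root_ng]; exact h⟩
    · obtain ⟨n, hn, hm⟩ := hi
      obtain ⟨m, hm0, hm'⟩ := hj
      refine ⟨n * m, mul_pos hn hm0, ?_⟩
      rw [e, smul_add, mul_comm n m, mul_smul]
      refine add_mem (nsmul_mem hm _) ?_
      rw [mul_comm, mul_smul]
      exact nsmul_mem hm' _
  have hΔS : Δ ⊆ S := fun i hi => ⟨1, one_pos, by rw [one_nsmul]; exact Groth.Agent.RootDLib.root_mem_natSpan P hi⟩
  have hsub : Δ ⊆ Groth.Agent.RootDLib.simples P S := fun i hi => by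
    refine ⟨hΔS hi, ?_⟩
    rintro ⟨a, b, ⟨n, hn, hna⟩, ⟨m, hm, hmb⟩, e⟩
    obtain ⟨c, hc, hc0, ec⟩ := (Groth.Agent.RootDLib.mem_natSpan_iff P).1 hna
    obtain ⟨d, hd, hd0, ed⟩ := (Groth.Agent.RootDLib.mem_natSpan_iff P).1 hmb
    have h1 : (m : ℤ) • c + (n : ℤ) • d = Finsupp.single i ((n * m : ℕ) : ℤ) := huniq
      ((Finset.coe_subset.2 Finsupp.support_add).trans (by
          rw [Finset.coe_union]
          exact Set.union_subset ((Finset.coe_subset.2 Finsupp.support_smul).trans hc)
            ((Finset.coe_subset.2 Finsupp.support_smul).trans hd)))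
      ((Finset.coe_subset.2 Finsupp.support_single_subset).trans (by simpa using hi))
      (by rw [map_add, LinearMap.map_smul, LinearMap.map_smul, ec, ed, Groth.Agent.RootDLib.comb_single, natCast_zsmul, natCast_zsmul,
        natCast_zsmul, e, smul_add, ← mul_smul, ← mul_smul, mul_comm m n])
    have hz : ∀ y, y ≠ i → c y = 0 ∧ d y = 0 := fun y hy => by
      have := DFunLike.congr_fun h1 y
      simp only [Finsupp.add_apply, Finsupp.smul_apply, smul_eq_mul, Finsupp.single_eq_of_ne hy] at this
      have := hc0 y; have := hd0 y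
      constructor <;> nlinarith
    have hline : ∀ x (N : ℕ) (u : ι →₀ ℤ), 0 < N → Groth.Agent.RootDLib.comb P u = N • P.root x → (∀ y, y ≠ i → u y = 0) →
        0 ≤ u i → ∃ t : ℤ, 0 < t ∧ P.root x = t • P.root i := fun x N u hN eu hu hui => by
      have hu' : u = Finsupp.single i (u i) := Finsupp.ext fun y =>
        (em (y = i)).elim (fun hy => by simp [hy]) fun hy => by rw [Finsupp.single_eq_of_ne hy]; exact hu y hy
      rw [hu', Groth.Agent.RootDLib.comb_single, ← natCast_zsmul] at eu
      have hli : ¬ LinearIndependent ℤ ![P.root i, P.root x] := fun hh => by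
        have := (LinearIndependent.pair_iff.1 hh (u i) (-(N : ℤ)) (by rw [eu]; module)).2
        omega
      have h0 : ∀ {t : ℤ}, t • P.root i = 0 → t = 0 := fun {t} h =>
        by_contra fun ht => P.ne_zero i (Groth.Agent.RootDLib.zsmul_eq_zero P ht h)
      have hi' := (Groth.Agent.RootDLib.isIndiv_iff P).1 (hind i hi)
      rcases Groth.Agent.RootDLib.cases_of_not_linearIndependent P hli with q | q | q | q | q | q
      · exact ⟨1, one_pos, by rw [one_zsmul, q]⟩
      · rw [q] at eu; have := h0 (t := u i + N) (by linear_combination (norm := module) eu); omega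
      · exact ⟨2, two_pos, q⟩
      · rw [q] at eu; have := h0 (t := u i + 2 * N) (by linear_combination (norm := module) eu); omega
      · exact absurd q (hi' x)
      · exact absurd (show P.root i = (2 : ℤ) • P.root (Groth.Agent.RootDLib.ng P x) by rw [Groth.Agent.RootDLib.root_ng, smul_neg]; exact q) (hi' _)
    obtain ⟨t, ht, ht'⟩ := hline a n c hn ec (fun y hy => (hz y hy).1) (hc0 i)
    obtain ⟨s, hs, hs'⟩ := hline b m d hm ed (fun y hy => (hz y hy).2) (hd0 i)
    rw [ht', hs'] at e
    have : t + s = 1 := by_contra fun hh => P.ne_zero i (Groth.Agent.RootDLib.zsmul_eq_zero P (n := t + s - 1) (by omega)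
      (by linear_combination (norm := module) -e))
    omega
  have hΔ := Groth.Agent.RootDLib.isSimple_simples hS
  have heq : Groth.Agent.RootDLib.simples P S = Δ := by
    refine Set.Subset.antisymm (fun k hk => ?_) hsub
    obtain ⟨n, hn, hm⟩ := hk.1
    obtain ⟨c, hc, hc0, ec⟩ := (Groth.Agent.RootDLib.mem_natSpan_iff P).1 hm
    have : c = Finsupp.single k (n : ℤ) := hΔ.comb_inj (hc.trans hsub)
      ((Finset.coe_subset.2 Finsupp.support_single_subset).trans (by simpa using hk))
      (by rw [ec, Groth.Agent.RootDLib.comb_single, natCast_zsmul])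
    exact hc (Finsupp.mem_support_iff.2 (by rw [this]; simp; omega))
  exact (Groth.Agent.RootDLib.isSimple_iff P).1 (heq ▸ hΔ)

end Groth.Agent.S5446
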