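import Groth.Statements.S5447
import Groth.Agent.RootDLib.Sub
-- import your own Groth.Agent.* helpers here

set_option autoImplicit false
open RootD

namespace Groth.Agent.S5447

/-- If every root can be written in exactly one way as an integer combination of the roots indexed by Δ
with coefficients all of the same sign, then these roots are linearly independent (so Δ is a system
of simple roots) and indivisible. -/
theorem result {ι M N : Type*} [AddCommGroup M] [AddCommGroup N]
    (P : RootPairing ι ℤ M N) [Finite ι] (Δ : Set ι)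
    (h : ∀ k : ι, ∃! c : ι →₀ ℤ, (↑c.support ⊆ Δ ∧ ((∀ j, 0 ≤ c j) ∨ (∀ j, c j ≤ 0)) ∧
      Finsupp.linearCombination ℤ P.root c = P.root k)) :
    RootD.IsSimpleSys P Δ ∧ ∀ i ∈ Δ, RootD.IsIndiv P i := by
  classical
  choose c hc hu using h
  have heq : ∀ k c', ↑c'.support ⊆ Δ → ((∀ j, 0 ≤ c' j) ∨ (∀ j, c' j ≤ 0)) →
      Groth.Agent.RootDLib.comb P c' = P.root k → c' = c k := fun k c' h1 h2 h3 => hu k c' ⟨h1, h2, h3⟩
  have hne : ∀ k, c k ≠ 0 := fun k h0 => P.ne_zero k (by rw [← (hc k).2.2, h0, map_zero])
  have hng : ∀ k, c (Groth.Agent.RootDLib.ng P k) = -c k := fun k => (heq _ _ (by rw [Finsupp.support_neg]; exact (hc k).1)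
    ((hc k).2.1.symm.imp (fun h j => by simpa using h j) (fun h j => by simpa using h j))
    (by rw [map_neg, Groth.Agent.RootDLib.root_ng]; exact congrArg Neg.neg (hc k).2.2)).symm
  let S : Set ι := {k | ∀ j, 0 ≤ c k j}
  have hS : RootD.IsPosSys P S := by
    refine Groth.Agent.RootDLib.isPosSys_of_closed P (fun i hi hi' => ?_) (fun i => (hc i).2.1.imp id fun h j => ?_)
      fun i j k hi hj e => ?_
    · exact hne i (Finsupp.ext fun a => le_antisymm
        (by have := (show ∀ j, 0 ≤ c (Groth.Agent.RootDLib.ng P i) j from hi') a; rw [hng] at this; simpa using this) (hi a))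
    · show 0 ≤ c (Groth.Agent.RootDLib.ng P i) j
      rw [hng]; simpa using h j
    · intro a
      rw [← heq k (c i + c j) ((Finset.coe_subset.2 Finsupp.support_add).trans (by simpa using And.intro (hc i).1 (hc j).1))
        (.inl fun a => add_nonneg (hi a) (hj a))
        (by rw [map_add, e]; exact congrArg₂ (· + ·) (hc i).2.2 (hc j).2.2)]
      exact add_nonneg (hi a) (hj a)
  have hsingle : ∀ i ∈ Δ, c i = Finsupp.single i 1 := fun i hi => (heq i _
    ((Finset.coe_subset.2 Finsupp.support_single_subset).trans (by simpa using hi))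
    (.inl fun a => by rw [Finsupp.single_apply]; split <;> simp) (by simp)).symm
  have hsub : Δ ⊆ Groth.Agent.RootDLib.simples P S := fun i hi => by
    refine ⟨fun a => by rw [hsingle i hi, Finsupp.single_apply]; split <;> simp, ?_⟩
    rintro ⟨a, b, ha, hb, e⟩
    have h1 := heq i (c a + c b) ((Finset.coe_subset.2 Finsupp.support_add).trans (by simpa using And.intro (hc a).1 (hc b).1))
      (.inl fun x => add_nonneg (ha x) (hb x))
      (by rw [map_add, e]; exact congrArg₂ (· + ·) (hc a).2.2 (hc b).2.2)
    rw [hsingle i hi] at h1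
    have key : ∀ x, x ≠ i → c a x = 0 ∧ c b x = 0 := fun x hx => by
      have := DFunLike.congr_fun h1 x
      rw [Finsupp.add_apply, Finsupp.single_eq_of_ne hx] at this
      have := ha x; have := hb x; omega
    have hi1 := DFunLike.congr_fun h1 i
    rw [Finsupp.add_apply, Finsupp.single_eq_same] at hi1
    have := ha i; have := hb i
    rcases (show c a i = 0 ∨ c b i = 0 by omega) with h0 | h0
    · exact hne a (Finsupp.ext fun x => (em (x = i)).elim (fun hx => hx.symm ▸ h0) fun hx => (key x hx).1)
    · exact hne b (Finsupp.ext fun x => (em (x = i)).elim (fun hx => hx.symm ▸ h0) fun hx => (key x hx).2)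
  have hsimple : RootD.IsSimpleSys P Δ := by
    refine ⟨(Groth.Agent.RootDLib.linearIndepOn_simples hS).mono hsub, fun k => ?_⟩
    rcases (hc k).2.1 with h | h
    · exact .inl ((Groth.Agent.RootDLib.mem_natSpan_iff P).2 ⟨c k, (hc k).1, h, (hc k).2.2⟩)
    · exact .inr ((Groth.Agent.RootDLib.mem_natSpan_iff P).2 ⟨-c k, by rw [Finsupp.support_neg]; exact (hc k).1,
        fun j => by simpa using h j, by rw [map_neg]; exact congrArg Neg.neg (hc k).2.2⟩)
  exact ⟨hsimple, fun i hi => (Groth.Agent.RootDLib.isIndiv_iff P).2 (((Groth.Agent.RootDLib.isSimple_iff P).2 hsimple).indiv hi)⟩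

end Groth.Agent.S5447
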