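import Groth.Statements.S5451
import Groth.Agent.RootDLib.Sub
-- import your own Groth.Agent.* helpers here

set_option autoImplicit false
open RootD

namespace Groth.Agent.S5451

/-- If a root is a positive integer combination of roots α_i, then it can be reached from 0 by
successively adding roots taken among the α_i in such a way that every partial sum is a root. -/
theorem result {ι M N : Type*} [AddCommGroup M] [AddCommGroup N]
    (P : RootPairing ι ℤ M N) [Finite ι] {n : ℕ} (a : Fin n → ι) (m : Fin n → ℕ)
    (hm : ∀ i, 0 < m i) (k : ι) (hk : P.root k = ∑ i, m i • P.root (a i)) :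
    ∃ (l : ℕ) (b : Fin l → Fin n), 0 < l ∧
      (∀ p : Fin l, ∃ j : ι, P.root j = ∑ q ∈ Finset.univ.filter (fun q : Fin l => q.val ≤ p.val), P.root (a (b q))) ∧
      P.root k = ∑ q, P.root (a (b q)) := by
  classical
  haveI := Fintype.ofFinite ι
  clear hm
  generalize ht : ∑ i, m i = t
  induction t using Nat.strong_induction_on generalizing m k with
  | _ t ih =>
    obtain ⟨x, hx, -, hp⟩ := Groth.Agent.RootDLib.exists_pos_of_comb P (k := k) (n := 1) one_pos
      (c := ∑ l, Finsupp.single (a l) (m l : ℤ)) (fun i => by
        rw [Finsupp.finset_sum_apply]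
        exact Finset.sum_nonneg fun l _ => by rw [Finsupp.single_apply]; split <;> simp)
      (by simp only [map_sum, Groth.Agent.RootDLib.comb_single, natCast_zsmul, one_zsmul, hk])
    rw [Finsupp.finset_sum_apply] at hx
    obtain ⟨i, -, hi⟩ := Finset.exists_ne_zero_of_sum_ne_zero hx.ne'
    rw [Finsupp.single_apply] at hi
    split at hi
    swap
    · exact absurd rfl hi
    rename_i e
    subst e
    have hmi : 0 < m i := Nat.pos_of_ne_zero fun h => hi (by simp [h])
    by_cases hki : k = a i
    · exact ⟨1, fun _ => i, one_pos, fun p => ⟨k, by simp [hki, Subsingleton.elim p 0]⟩, by simp [hki]⟩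
    obtain ⟨j, hj⟩ := Groth.Agent.RootDLib.exists_root_sub P hp hki
    let m' := Function.update m i (m i - 1)
    have hsum : ∑ l, m' l + 1 = t := by
      rw [← ht, Finset.sum_update_of_mem (Finset.mem_univ i),
        ← Finset.sum_erase_add _ _ (Finset.mem_univ i), Finset.sdiff_singleton_eq_erase]
      omega
    have hk' : P.root j = ∑ l, m' l • P.root (a l) := by
      have h1 : ∀ l, m l • P.root (a l) = m' l • P.root (a l) + (if l = i then P.root (a i) else 0) := fun l => by
        by_cases h : l = i
        · subst h
          simp only [m', Function.update_self, if_true]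
          conv_lhs => rw [show m l = m l - 1 + 1 by omega, succ_nsmul]
        · simp [m', h]
      rw [hj, hk, Finset.sum_congr rfl fun l _ => h1 l, Finset.sum_add_distrib, Finset.sum_ite_eq' Finset.univ i]
      simp
    obtain ⟨l, b, hl, hpre, hb⟩ := ih _ (by omega) m' j hk' rfl
    refine ⟨l + 1, Fin.snoc b i, Nat.succ_pos _, fun p => ?_, ?_⟩
    · induction p using Fin.lastCases with
      | last =>
        refine ⟨k, ?_⟩
        rw [Finset.filter_true_of_mem fun q _ => Nat.le_of_lt_succ q.2, Fin.sum_univ_castSucc]
        simp only [Fin.snoc_castSucc, Fin.snoc_last]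
        rw [← hb, hj]; abel
      | cast p =>
        obtain ⟨r, hr⟩ := hpre p
        refine ⟨r, ?_⟩
        rw [hr, Finset.sum_filter, Finset.sum_filter, Fin.sum_univ_castSucc]
        simp [Fin.snoc_castSucc, Nat.not_le.2 p.2]
    · rw [Fin.sum_univ_castSucc]
      simp only [Fin.snoc_castSucc, Fin.snoc_last]
      rw [← hb, hj]; abel

end Groth.Agent.S5451
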