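import Groth.Statements.S5452
import Groth.Agent.RootDLib.Z
-- import your own Groth.Agent.* helpers here

set_option autoImplicit false
open RootPairing
open scoped Pointwise
open RootD

namespace Groth.Agent.S5452

/-- The Weyl group of a root datum acts faithfully on the set of roots. -/
theorem result {ι M N : Type*} [AddCommGroup M] [AddCommGroup N]
    (P : RootPairing ι ℤ M N) [Finite ι] :
    Function.Injective P.weylGroupToPerm := by
  rw [injective_iff_map_eq_one]
  intro g hg
  obtain ⟨S, hS⟩ := Groth.Agent.RootDLib.exists_isPosSys_int P
  exact Subtype.ext ((Groth.Agent.RootDLib.isSimple_simples hS).eq_one_of_fix g.2 fun i => _root_.Equiv.ext_iff.1 hg i)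

end Groth.Agent.S5452
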