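import Groth.Statements.S5456
import Groth.Agent.RootDLib.Z
-- import your own Groth.Agent.* helpers here

set_option autoImplicit false
open RootD

namespace Groth.Agent.S5456

/-- A set of roots is a system of positive roots if and only if it satisfies (P 1), (P 2) and is closed. -/
theorem result {ι M N : Type*} [AddCommGroup M] [AddCommGroup N]
    (P : RootPairing ι ℤ M N) [Finite ι] (S : Set ι) :
    RootD.IsPosSys P S ↔ ((∀ i ∈ S, P.reflectionPerm i i ∉ S) ∧ (∀ i : ι, i ∈ S ∨ P.reflectionPerm i i ∈ S) ∧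
      RootD.IsClosedSub P S) := by
  refine ⟨fun h => ⟨fun i hi => h.disjoint hi, h.cover, fun i j k hi hj e => Groth.Agent.RootDLib.mem_add h hi hj e⟩, ?_⟩
  rintro ⟨h1, h2, h3⟩
  obtain ⟨S₀, hS₀⟩ := Groth.Agent.RootDLib.exists_isPosSys_int P
  obtain ⟨g, -, hg⟩ := Groth.Agent.RootDLib.exists_weyl_image_subset P hS₀ h2 h3
  have e : (fun i : ι => g • i) '' S₀ = S := by
    refine Set.Subset.antisymm (by rintro _ ⟨k, hk, rfl⟩; exact hg k hk) fun k hk => ?_
    refine ⟨g⁻¹ • k, ?_, smul_inv_smul g k⟩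
    by_contra hn
    have h' : g • Groth.Agent.RootDLib.ng P (g⁻¹ • k) ∈ S := hg _ ((Groth.Agent.RootDLib.ng_mem_iff hS₀).2 hn)
    rw [Groth.Agent.RootDLib.smul_ng, smul_inv_smul] at h'
    exact h1 k hk h'
  exact e ▸ Groth.Agent.RootDLib.image_smul_isPosSys P hS₀ g

end Groth.Agent.S5456
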