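import Groth.Statements.S5458
import Groth.Agent.RootDLib.Sub
-- import your own Groth.Agent.* helpers here

set_option autoImplicit false
open RootD

namespace Groth.Agent.S5458

/-- Let S be a system of positive roots with simple system Δ ⊆ S and let P' ⊇ S be a closed set of
roots; with Δ' the set of simple roots whose opposite lies in P', the set P' is the union of S and
of the roots that are non-positive integer combinations of Δ'. -/
theorem result {ι M N : Type*} [AddCommGroup M] [AddCommGroup N]
    (P : RootPairing ι ℤ M N) [Finite ι] (S : Set ι) (hS : RootD.IsPosSys P S) (Δ : Set ι)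
    (hΔ : RootD.IsSimpleSys P Δ) (hΔS : Δ ⊆ S) (P' : Set ι) (hcl : RootD.IsClosedSub P P')
    (hSP : S ⊆ P') :
    P' = S ∪ {k : ι | -P.root k ∈ RootD.natSpan P {i : ι | i ∈ Δ ∧ P.reflectionPerm i i ∈ P'}} := by
  have h := (Groth.Agent.RootDLib.isSimple_iff P).2 hΔ
  obtain rfl := h.eq_posOf_of_subset hS hΔS
  set Δ₁ : Set ι := {i : ι | i ∈ Δ ∧ P.reflectionPerm i i ∈ P'}
  refine Set.Subset.antisymm (fun k hk => ?_) (Set.union_subset hSP fun k hk => ?_)
  · by_cases hkS : k ∈ RootD.posOf P Δ
    · exact .inl hkS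
    refine .inr ?_
    have hn : Groth.Agent.RootDLib.ng P k ∈ RootD.posOf P Δ := (Groth.Agent.RootDLib.ng_mem_iff h.isPosSys).2 hkS
    have main : ∀ q, q ∈ RootD.posOf P Δ → Groth.Agent.RootDLib.ng P q ∈ P' → P.root q ∈ RootD.natSpan P Δ₁ := fun q hq =>
      h.pos_induction (p := fun q => Groth.Agent.RootDLib.ng P q ∈ P' → P.root q ∈ RootD.natSpan P Δ₁) hq
        (fun i hi hi' => Groth.Agent.RootDLib.root_mem_natSpan P ⟨hi, hi'⟩)
        (fun q i l _ hi hl _ e _ ih hq' => by
          rw [e]
          refine add_mem (Groth.Agent.RootDLib.root_mem_natSpan P ⟨hi, ?_⟩) (ih ?_)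
          · exact hcl hq' (hSP hl) (show P.root (Groth.Agent.RootDLib.ng P i) = _ by rw [Groth.Agent.RootDLib.root_ng, Groth.Agent.RootDLib.root_ng, e]; abel)
          · exact hcl hq' (hSP (h.subset_posOf hi)) (by rw [Groth.Agent.RootDLib.root_ng, Groth.Agent.RootDLib.root_ng, e]; abel))
    show -P.root k ∈ RootD.natSpan P Δ₁
    rw [← Groth.Agent.RootDLib.root_ng]
    exact main _ hn ((Groth.Agent.RootDLib.ng_ng P k).symm ▸ hk)
  · refine Groth.Agent.RootDLib.mem_of_closed P hcl ?_
    have hx : ∀ x ∈ RootD.natSpan P Δ₁, -x ∈ RootD.natSpan P P' := fun x hx => by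
      induction hx using AddSubmonoid.closure_induction with
      | mem y hy =>
        obtain ⟨i, hi, rfl⟩ := hy
        rw [← Groth.Agent.RootDLib.root_ng]
        exact Groth.Agent.RootDLib.root_mem_natSpan P hi.2
      | zero => simp
      | add y z _ _ hy hz => rw [neg_add]; exact add_mem hy hz
    simpa using hx _ (show -P.root k ∈ RootD.natSpan P Δ₁ from hk)

end Groth.Agent.S5458
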