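import Groth.Statements.S5459
import Groth.Agent.RootDLib.Sub2
import Groth.Agent.S5458
-- import your own Groth.Agent.* helpers here

set_option autoImplicit false
open RootD

namespace Groth.Agent.S5459

/-- A closed set of roots containing each root or its opposite is, for a suitable system of simple roots
Δ and a subset Δ' ⊆ Δ, the set of roots lying in ℕΔ ∪ (-ℕΔ'). -/
theorem result {ι M N : Type*} [AddCommGroup M] [AddCommGroup N]
    (P : RootPairing ι ℤ M N) [Finite ι] (P' : Set ι)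
    (hP2 : ∀ i : ι, i ∈ P' ∨ P.reflectionPerm i i ∈ P') (hcl : RootD.IsClosedSub P P') :
    ∃ Δ Δ' : Set ι, RootD.IsSimpleSys P Δ ∧ Δ' ⊆ Δ ∧
      P' = RootD.posOf P Δ ∪ {k : ι | -P.root k ∈ RootD.natSpan P Δ'} := by
  obtain ⟨S₀, hS₀⟩ := Groth.Agent.RootDLib.exists_isPosSys_int P
  obtain ⟨g, -, hg⟩ := Groth.Agent.RootDLib.exists_weyl_image_subset P hS₀ hP2 hcl
  have hS := Groth.Agent.RootDLib.image_smul_isPosSys P hS₀ g
  have hΔ := Groth.Agent.RootDLib.isSimple_simples hS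
  have hsub : (g • ·) '' S₀ ⊆ P' := by rintro _ ⟨k, hk, rfl⟩; exact hg k hk
  have e := hΔ.eq_posOf_of_subset hS (Groth.Agent.RootDLib.simples_subset P _)
  exact ⟨_, _, (Groth.Agent.RootDLib.isSimple_iff P).1 hΔ, fun _ h => h.1,
    Groth.Agent.S5458.result P _ hΔ.isPosSys _ ((Groth.Agent.RootDLib.isSimple_iff P).1 hΔ) hΔ.subset_posOf P' hcl (e ▸ hsub)⟩

end Groth.Agent.S5459
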