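import Groth.Statements.S5460
import Groth.Agent.RootDLib.Sub2
-- import your own Groth.Agent.* helpers here

set_option autoImplicit false
open RootD

namespace Groth.Agent.S5460

/-- A set of roots R' is the trace on R of a vector subspace (every root with a positive multiple in the
span of R' lies in R') if and only if R' is the set of roots in the span of a subset Δ' of some
system of simple roots Δ. -/
theorem result {ι M N : Type*} [AddCommGroup M] [AddCommGroup N]
    (P : RootPairing ι ℤ M N) [Finite ι] (R' : Set ι) :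
    (∀ k : ι, (∃ n : ℕ, 0 < n ∧ n • P.root k ∈ Submodule.span ℤ (P.root '' R')) → k ∈ R') ↔
      ∃ Δ Δ' : Set ι, RootD.IsSimpleSys P Δ ∧ Δ' ⊆ Δ ∧ R' = RootD.inSpan P Δ' := by
  classical
  constructor
  · intro hsat
    obtain ⟨S₀, hS₀⟩ := Groth.Agent.RootDLib.exists_isPosSys_int P
    have hR : ∀ i ∈ R', Groth.Agent.RootDLib.ng P i ∈ R' := fun i hi => hsat _ ⟨1, one_pos, by
      rw [one_nsmul, Groth.Agent.RootDLib.root_ng]; exact neg_mem (Submodule.subset_span ⟨i, hi, rfl⟩)⟩
    obtain ⟨S, hS, -, hsupp⟩ := Groth.Agent.RootDLib.exists_isPosSys_extending P hsat (T := S₀ ∩ R') Set.inter_subset_right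
      (fun i hi hi' => hS₀.disjoint hi.1 hi'.1)
      (fun i hi => (hS₀.cover i).imp (fun h => ⟨h, hi⟩) fun h => ⟨h, hR i hi⟩)
      fun i j k hi hj e => ⟨Groth.Agent.RootDLib.mem_add hS₀ hi.1 hj.1 e, hsat k ⟨1, one_pos, by
        rw [one_nsmul, e]
        exact add_mem (Submodule.subset_span ⟨i, hi.2, rfl⟩) (Submodule.subset_span ⟨j, hj.2, rfl⟩)⟩⟩
    have hΔ := Groth.Agent.RootDLib.isSimple_simples hS
    refine ⟨_, Groth.Agent.RootDLib.simples P S ∩ R', (Groth.Agent.RootDLib.isSimple_iff P).1 hΔ, Set.inter_subset_left, Set.Subset.antisymm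
      (fun k hk => hΔ.mem_span_of_coef (Set.subset_inter (hΔ.coef_support k) (hsupp k hk))) fun k hk => ?_⟩
    exact hsat k ⟨1, one_pos, by rw [one_nsmul]; exact Submodule.span_mono (Set.image_mono Set.inter_subset_right) hk⟩
  · rintro ⟨Δ, Δ', hΔ, hsub, rfl⟩ k ⟨n, hn, hm⟩
    have h := (Groth.Agent.RootDLib.isSimple_iff P).2 hΔ
    have hm' : n • P.root k ∈ Submodule.span ℤ (P.root '' Δ') := (Submodule.span_le.2 (by
      rintro _ ⟨i, hi, rfl⟩; exact hi)) hm
    obtain ⟨c, hc, e⟩ := (Finsupp.mem_span_image_iff_linearCombination ℤ).1 hm'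
    rw [Finsupp.mem_supported] at hc
    have he : c = (n : ℤ) • h.coef k := h.comb_inj (hc.trans hsub)
      ((Finset.coe_subset.2 Finsupp.support_smul).trans (h.coef_support k))
      (by rw [LinearMap.map_smul, h.comb_coef, natCast_zsmul]; exact e)
    refine h.mem_span_of_coef fun a ha => hc (Finsupp.mem_support_iff.2 ?_)
    rw [he, Finsupp.smul_apply, smul_eq_mul]
    exact mul_ne_zero (by exact_mod_cast hn.ne') (Finsupp.mem_support_iff.1 ha)

end Groth.Agent.S5460
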