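import Groth.Statements.S5461
import Groth.Agent.RootDLib.Sub2
-- import your own Groth.Agent.* helpers here

set_option autoImplicit false
open RootD

namespace Groth.Agent.S5461

/-- If R' is the trace of a vector subspace on the roots, every system of simple roots Δ' of the root
datum with roots R' is contained in a system of simple roots Δ of the whole datum, and R' is the set
of roots in the span of Δ'. -/
theorem result {ι M N : Type*} [AddCommGroup M] [AddCommGroup N]
    (P : RootPairing ι ℤ M N) [Finite ι] (R' : Set ι)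
    (hsat : ∀ k : ι, (∃ n : ℕ, 0 < n ∧ n • P.root k ∈ Submodule.span ℤ (P.root '' R')) → k ∈ R')
    (Δ' : Set ι) (hΔ'R : Δ' ⊆ R') (hli : LinearIndepOn ℤ P.root Δ')
    (hgen : ∀ k ∈ R', P.root k ∈ RootD.natSpan P Δ' ∨ -P.root k ∈ RootD.natSpan P Δ') :
    ∃ Δ : Set ι, RootD.IsSimpleSys P Δ ∧ Δ' ⊆ Δ ∧ R' = RootD.inSpan P Δ' := by
  classical
  haveI := Fintype.ofFinite ι
  let T : Set ι := {k | k ∈ R' ∧ P.root k ∈ RootD.natSpan P Δ'}
  have huniq : ∀ {c d : ι →₀ ℤ}, ↑c.support ⊆ Δ' → ↑d.support ⊆ Δ' → Groth.Agent.RootDLib.comb P c = Groth.Agent.RootDLib.comb P d → c = d :=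
    fun {c d} hc hd e => linearIndepOn_iffₛ.1 hli c (by simpa [Finsupp.mem_supported] using hc) d
      (by simpa [Finsupp.mem_supported] using hd) e
  have hclT : RootD.IsClosedSub P T := fun i j k hi hj e => ⟨hsat k ⟨1, one_pos, by
      rw [one_nsmul, e]
      exact add_mem (Submodule.subset_span ⟨i, hi.1, rfl⟩) (Submodule.subset_span ⟨j, hj.1, rfl⟩)⟩,
    e ▸ add_mem hi.2 hj.2⟩
  obtain ⟨S, hS, hST, hsupp⟩ := Groth.Agent.RootDLib.exists_isPosSys_extending P hsat (T := T) (fun _ h => h.1)
    (fun i hi hi' => by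
      obtain ⟨c, hc, hc0, e⟩ := (Groth.Agent.RootDLib.mem_natSpan_iff P).1 hi.2
      obtain ⟨d, hd, hd0, e'⟩ := (Groth.Agent.RootDLib.mem_natSpan_iff P).1 hi'.2
      have h0 : c + d = 0 := huniq ((Finset.coe_subset.2 Finsupp.support_add).trans (by simpa using And.intro hc hd))
        (by simp) (by rw [map_add, e, e', Groth.Agent.RootDLib.root_ng, add_neg_cancel, map_zero])
      have : c = 0 := Finsupp.ext fun a => by
        have := DFunLike.congr_fun h0 a
        simp only [Finsupp.add_apply, Finsupp.zero_apply] at this ⊢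
        linarith [hc0 a, hd0 a]
      exact P.ne_zero i (by rw [← e, this, map_zero]))
    (fun i hi => by
      have hn : Groth.Agent.RootDLib.ng P i ∈ R' := hsat _ ⟨1, one_pos, by
        rw [one_nsmul, Groth.Agent.RootDLib.root_ng]; exact neg_mem (Submodule.subset_span ⟨i, hi, rfl⟩)⟩
      exact (hgen i hi).imp (fun h => ⟨hi, h⟩) fun h => ⟨hn, show P.root (Groth.Agent.RootDLib.ng P i) ∈ _ from
        (Groth.Agent.RootDLib.root_ng P i).symm ▸ h⟩) hclT
  have hΔ := Groth.Agent.RootDLib.isSimple_simples hS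
  have hpos := hΔ.eq_posOf_of_subset hS (Groth.Agent.RootDLib.simples_subset P S)
  have heq : Groth.Agent.RootDLib.simples P S ∩ R' = Δ' := by
    refine Set.Subset.antisymm (fun s ⟨hs, hsR⟩ => ?_) fun i hi => ⟨⟨(hST i (hΔ'R hi)).2 ⟨hΔ'R hi,
      Groth.Agent.RootDLib.root_mem_natSpan P hi⟩, ?_⟩, hΔ'R hi⟩
    · have hsT := (hST s hsR).1 hs.1
      obtain ⟨c, hc, hc0, e⟩ := (Groth.Agent.RootDLib.mem_natSpan_iff P).1 hsT.2
      obtain ⟨a, ha, -, hp⟩ := Groth.Agent.RootDLib.exists_pos_of_comb P one_pos hc0 (e.trans (one_zsmul _).symm)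
      have haD : a ∈ Δ' := hc (Finsupp.mem_support_iff.2 ha.ne')
      by_cases hsa : s = a
      · exact hsa ▸ haD
      obtain ⟨l, hl⟩ := Groth.Agent.RootDLib.exists_root_sub P hp hsa
      have hlS : l ∈ S := by
        refine (hST l (hsat l ⟨1, one_pos, ?_⟩)).2 ⟨hsat l ⟨1, one_pos, ?_⟩, ?_⟩
        · rw [one_nsmul, hl]; exact sub_mem (Submodule.subset_span ⟨s, hsR, rfl⟩) (Submodule.subset_span ⟨a, hΔ'R haD, rfl⟩)
        · rw [one_nsmul, hl]; exact sub_mem (Submodule.subset_span ⟨s, hsR, rfl⟩) (Submodule.subset_span ⟨a, hΔ'R haD, rfl⟩)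
        · refine (Groth.Agent.RootDLib.mem_natSpan_iff P).2 ⟨c - Finsupp.single a 1, fun b hb => ?_, fun b => ?_,
            by rw [map_sub, e, Groth.Agent.RootDLib.comb_single, one_zsmul, hl]⟩
          · by_cases hb' : b = a
            · exact hb' ▸ haD
            · exact hc (Finsupp.mem_support_iff.2 (by simpa [Finsupp.single_eq_of_ne hb'] using hb))
          · by_cases hb' : b = a
            · subst hb'; simp; omega
            · simp [Finsupp.single_eq_of_ne hb', hc0 b]
      exact absurd ⟨a, l, (hST a (hΔ'R haD)).2 ⟨hΔ'R haD, Groth.Agent.RootDLib.root_mem_natSpan P haD⟩, hlS, by rw [hl]; abel⟩ hs.2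
    · rintro ⟨a, b, ha, hb, e⟩
      have hc : hΔ.coef i = hΔ.coef a + hΔ.coef b := hΔ.coef_eq
        ((Finset.coe_subset.2 Finsupp.support_add).trans (by
          simpa using And.intro (hΔ.coef_support a) (hΔ.coef_support b)))
        (by rw [map_add, hΔ.comb_coef, hΔ.comb_coef, e])
      have hsi := hsupp i (hΔ'R hi)
      have key : ∀ x ∈ S, (∀ y, hΔ.coef x y ≤ hΔ.coef i y) → x ∈ T := fun x hx hle => by
        refine (hST x (hsat x ⟨1, one_pos, ?_⟩)).1 hx
        rw [one_nsmul]
        refine hΔ.mem_span_of_coef fun y hy => hsi (Finsupp.mem_support_iff.2 ?_)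
        have := hle y
        have := hΔ.mem_posOf_iff.1 (hpos ▸ hx) y
        have := Finsupp.mem_support_iff.1 hy
        omega
      have haT := key a ha fun y => by rw [hc]; simp [hΔ.mem_posOf_iff.1 (hpos ▸ hb) y]
      have hbT := key b hb fun y => by rw [hc]; simp [hΔ.mem_posOf_iff.1 (hpos ▸ ha) y]
      obtain ⟨c, hc', hc0, ec⟩ := (Groth.Agent.RootDLib.mem_natSpan_iff P).1 haT.2
      obtain ⟨d, hd', hd0, ed⟩ := (Groth.Agent.RootDLib.mem_natSpan_iff P).1 hbT.2
      have h1 : c + d = Finsupp.single i 1 := huniq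
        ((Finset.coe_subset.2 Finsupp.support_add).trans (by simpa using And.intro hc' hd'))
        ((Finset.coe_subset.2 Finsupp.support_single_subset).trans (by simpa using hi))
        (by rw [map_add, ec, ed, Groth.Agent.RootDLib.comb_single, one_zsmul, e])
      have hz : ∀ y, y ≠ i → c y = 0 ∧ d y = 0 := fun y hy => by
        have := DFunLike.congr_fun h1 y
        rw [Finsupp.add_apply, Finsupp.single_eq_of_ne hy] at this
        have := hc0 y; have := hd0 y; omega
      have hi1 := DFunLike.congr_fun h1 i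
      rw [Finsupp.add_apply, Finsupp.single_eq_same] at hi1
      have := hc0 i; have := hd0 i
      rcases (show c i = 0 ∨ d i = 0 by omega) with h0 | h0
      · exact P.ne_zero a (by rw [← ec, show c = 0 from Finsupp.ext fun y =>
          (em (y = i)).elim (fun hy => hy.symm ▸ h0) fun hy => (hz y hy).1, map_zero])
      · exact P.ne_zero b (by rw [← ed, show d = 0 from Finsupp.ext fun y =>
          (em (y = i)).elim (fun hy => hy.symm ▸ h0) fun hy => (hz y hy).2, map_zero])
  refine ⟨_, (Groth.Agent.RootDLib.isSimple_iff P).1 hΔ, heq ▸ Set.inter_subset_left, Set.Subset.antisymm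
    (fun k hk => ?_) fun k hk => ?_⟩
  · exact hΔ.mem_span_of_coef (heq ▸ Set.subset_inter (hΔ.coef_support k) (hsupp k hk))
  · exact hsat k ⟨1, one_pos, by rw [one_nsmul]; exact Submodule.span_mono (Set.image_mono hΔ'R) hk⟩

end Groth.Agent.S5461
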