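import Groth.Statements.S5462
import Groth.Agent.RootDLib.Sub
-- import your own Groth.Agent.* helpers here

set_option autoImplicit false
open RootPairing
open scoped Pointwise
open RootD

namespace Groth.Agent.S5462

/-- For Δ' contained in a system of simple roots Δ, the subgroup of the Weyl group generated by the
reflections in Δ' preserves the set of positive roots not lying in the span of Δ'. -/
theorem result {ι M N : Type*} [AddCommGroup M] [AddCommGroup N]
    (P : RootPairing ι ℤ M N) [Finite ι] (Δ Δ' : Set ι) (hΔ : RootD.IsSimpleSys P Δ) (hsub : Δ' ⊆ Δ)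
    (g : P.Aut) (hg : g ∈ Subgroup.closure ((fun i : ι => Equiv.reflection P i) '' Δ'))
    (k : ι) (hk : k ∈ RootD.posOf P Δ) (hk' : k ∉ RootD.inSpan P Δ') :
    g • k ∈ RootD.posOf P Δ ∧ g • k ∉ RootD.inSpan P Δ' := by
  have h := (Groth.Agent.RootDLib.isSimple_iff P).2 hΔ
  have hex : ∃ a, a ∉ Δ' ∧ h.coef k a ≠ 0 := by
    by_contra hh
    simp only [not_exists, not_and, not_not] at hh
    exact hk' (h.mem_span_of_coef fun a ha => by_contra fun hn => Finsupp.mem_support_iff.1 ha (hh a hn))
  obtain ⟨a, ha, hka⟩ := hex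
  have hg' := h.coef_weylSub hsub hg k a ha
  refine ⟨?_, fun hm => ?_⟩
  · rcases h.coef_sign (g • k) with hs | hs
    · exact h.mem_posOf_iff.2 hs
    · have h1 := hs a
      have h2 := h.mem_posOf_iff.1 hk a
      rw [hg'] at h1
      exact absurd (le_antisymm h1 h2) hka
  · exact ha (h.exists_coef_span hsub hm (Finsupp.mem_support_iff.2 (hg' ▸ hka)))

end Groth.Agent.S5462
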