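import Groth.Statements.S5463
import Groth.Agent.RootDLib.Sub
-- import your own Groth.Agent.* helpers here

set_option autoImplicit false
open RootPairing
open scoped Pointwise
open RootD

namespace Groth.Agent.S5463

/-- An element w of the Weyl group belongs to the subgroup generated by the reflections in Δ' ⊆ Δ (Δ a
system of simple roots) if and only if w(α) - α lies in the rational span of Δ' for every root α. -/
theorem result {ι M N : Type*} [AddCommGroup M] [AddCommGroup N]
    (P : RootPairing ι ℤ M N) [Finite ι] (Δ Δ' : Set ι) (hΔ : RootD.IsSimpleSys P Δ)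
    (hsub : Δ' ⊆ Δ) (g : P.Aut) (hg : g ∈ P.weylGroup) :
    g ∈ Subgroup.closure ((fun i : ι => Equiv.reflection P i) '' Δ') ↔
      ∀ k : ι, ∃ n : ℕ, 0 < n ∧ n • (P.root (g • k) - P.root k) ∈ Submodule.span ℤ (P.root '' Δ') := by
  classical
  have h := (Groth.Agent.RootDLib.isSimple_iff P).2 hΔ
  constructor
  · intro hg' k
    refine ⟨1, one_pos, ?_⟩
    rw [one_nsmul, ← h.comb_coef (g • k), ← h.comb_coef k, ← map_sub]
    refine (Finsupp.mem_span_image_iff_linearCombination ℤ).2 ⟨_, ?_, rfl⟩
    rw [Finsupp.mem_supported]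
    intro a ha
    by_contra hn
    exact Finsupp.mem_support_iff.1 ha (by rw [Finsupp.sub_apply, h.coef_weylSub hsub hg' k a hn, sub_self])
  · intro hh
    refine h.mem_weylSub_iff hsub hg fun k a ha => ?_
    obtain ⟨n, hn, hm⟩ := hh k
    obtain ⟨c, hc, e⟩ := (Finsupp.mem_span_image_iff_linearCombination ℤ).1 hm
    rw [Finsupp.mem_supported] at hc
    have he : c = (n : ℤ) • (h.coef (g • k) - h.coef k) := h.comb_inj (hc.trans hsub)
      ((Finset.coe_subset.2 (Finsupp.support_smul.trans Finsupp.support_sub)).trans (by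
        rw [Finset.coe_union]; exact Set.union_subset (h.coef_support _) (h.coef_support _)))
      (by rw [LinearMap.map_smul, map_sub, h.comb_coef, h.comb_coef, natCast_zsmul]; exact e)
    have h0 : c a = 0 := Finsupp.notMem_support_iff.1 fun hm => ha (hc hm)
    rw [he, Finsupp.smul_apply, smul_eq_mul, mul_eq_zero, Finsupp.sub_apply] at h0
    omega

end Groth.Agent.S5463
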