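import Groth.Statements.S5464
import Groth.Agent.RootDLib.Sub3
-- import your own Groth.Agent.* helpers here

set_option autoImplicit false
open RootD

namespace Groth.Agent.S5464

/-- Given an indivisible root α and a root γ not proportional to it, there is a system of simple roots
containing α and a simple root β of it with γ = aα + bβ, a, b ∈ ℕ. -/
theorem result {ι M N : Type*} [AddCommGroup M] [AddCommGroup N]
    (P : RootPairing ι ℤ M N) [Finite ι] (i k : ι) (hα : RootD.IsIndiv P i)
    (hli : LinearIndependent ℤ ![P.root i, P.root k]) :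
    ∃ Δ : Set ι, RootD.IsSimpleSys P Δ ∧ i ∈ Δ ∧
      ∃ j ∈ Δ, ∃ a b : ℕ, P.root k = a • P.root i + b • P.root j := by
  classical
  haveI := Fintype.ofFinite ι
  haveI := Groth.Agent.RootDLib.isTorsionFree P
  let V : Submodule ℤ M := Submodule.span ℤ {P.root i, P.root k}
  have hV : ∀ {x}, x ∈ V ↔ ∃ a b : ℤ, a • P.root i + b • P.root k = x := fun {x} => Submodule.mem_span_pair
  let R' : Set ι := {l | ∃ n : ℕ, 0 < n ∧ n • P.root l ∈ V}
  have hiR : i ∈ R' := ⟨1, one_pos, by rw [one_nsmul]; exact Submodule.subset_span (by simp)⟩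
  have hkR : k ∈ R' := ⟨1, one_pos, by rw [one_nsmul]; exact Submodule.subset_span (by simp)⟩
  have hbig : ∀ x ∈ Submodule.span ℤ (P.root '' R'), ∃ n : ℕ, 0 < n ∧ n • x ∈ V := fun x hx => by
    induction hx using Submodule.span_induction with
    | mem y hy => obtain ⟨l, hl, rfl⟩ := hy; exact hl
    | zero => exact ⟨1, one_pos, by simp⟩
    | add y z _ _ hy hz =>
      obtain ⟨n, hn, h1⟩ := hy
      obtain ⟨m, hm, h2⟩ := hz
      refine ⟨n * m, mul_pos hn hm, ?_⟩
      rw [smul_add]
      refine add_mem ?_ ?_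
      · rw [mul_comm, mul_smul]; exact nsmul_mem h1 _
      · rw [mul_smul]; exact nsmul_mem h2 _
    | smul t y _ hy =>
      obtain ⟨n, hn, h1⟩ := hy
      exact ⟨n, hn, by rw [smul_comm]; exact Submodule.smul_mem _ _ h1⟩
  have hsat : ∀ l : ι, (∃ n : ℕ, 0 < n ∧ n • P.root l ∈ Submodule.span ℤ (P.root '' R')) → l ∈ R' := by
    rintro l ⟨n, hn, h⟩
    obtain ⟨m, hm, h'⟩ := hbig _ h
    exact ⟨m * n, mul_pos hm hn, by rw [mul_smul]; exact h'⟩
  have huniq : ∀ {a b a' b' : ℤ}, a • P.root i + b • P.root k = a' • P.root i + b' • P.root k → a = a' ∧ b = b' :=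
    fun {a b a' b'} e => by
      have := LinearIndependent.pair_iff.1 hli (a - a') (b - b') (by linear_combination (norm := module) e)
      omega
  have h2 : ∀ {n : ℕ} {x : M}, 0 < n → n • x = 0 → x = 0 := fun {n x} hn h =>
    Groth.Agent.RootDLib.zsmul_eq_zero P (n := (n : ℤ)) (by exact_mod_cast hn.ne') (by rw [natCast_zsmul]; exact h)
  let T : Set ι := {l | ∃ (n : ℕ) (a b : ℤ), 0 < n ∧ n • P.root l = a • P.root i + b • P.root k ∧
    (0 < b ∨ b = 0 ∧ 0 < a)}
  have hTR : T ⊆ R' := fun l ⟨n, a, b, hn, e, _⟩ => ⟨n, hn, e ▸ hV.2 ⟨a, b, rfl⟩⟩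
  have hT1 : ∀ l ∈ T, Groth.Agent.RootDLib.ng P l ∉ T := by
    rintro l ⟨n, a, b, hn, e, hs⟩ ⟨m, a', b', hm, e', hs'⟩
    rw [Groth.Agent.RootDLib.root_ng, smul_neg, neg_eq_iff_eq_neg] at e'
    have : ((m : ℤ) * a) • P.root i + ((m : ℤ) * b) • P.root k =
        (-((n : ℤ) * a')) • P.root i + (-((n : ℤ) * b')) • P.root k := by
      have h1 : (m : ℤ) • (n • P.root l) = (n : ℤ) • (m • P.root l) := by
        rw [natCast_zsmul, natCast_zsmul, ← mul_smul, ← mul_smul, mul_comm]
      rw [e, e'] at h1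
      linear_combination (norm := module) h1
    obtain ⟨h3, h4⟩ := huniq this
    have hn' : (0 : ℤ) < n := by exact_mod_cast hn
    have hm' : (0 : ℤ) < m := by exact_mod_cast hm
    rcases hs with hs | ⟨rfl, hs⟩ <;> rcases hs' with hs' | ⟨rfl, hs'⟩
    · nlinarith
    · nlinarith
    · nlinarith
    · nlinarith
  have hT2 : ∀ l ∈ R', l ∈ T ∨ Groth.Agent.RootDLib.ng P l ∈ T := by
    rintro l ⟨n, hn, h⟩
    obtain ⟨a, b, e⟩ := hV.1 h
    rcases (show (0 < b ∨ b = 0 ∧ 0 < a) ∨ (0 < -b ∨ -b = 0 ∧ 0 < -a) ∨ (a = 0 ∧ b = 0) by omega) with h1 | h1 | ⟨rfl, rfl⟩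
    · exact .inl ⟨n, a, b, hn, e.symm, h1⟩
    · exact .inr ⟨n, -a, -b, hn, by rw [Groth.Agent.RootDLib.root_ng, smul_neg, ← e]; module, h1⟩
    · exact absurd (h2 hn (by simpa using e.symm)) (P.ne_zero l)
  have hT3 : RootD.IsClosedSub P T := by
    rintro p q l ⟨n, a, b, hn, e, hs⟩ ⟨m, a', b', hm, e', hs'⟩ hl
    refine ⟨n * m, (m : ℤ) * a + (n : ℤ) * a', (m : ℤ) * b + (n : ℤ) * b', mul_pos hn hm, ?_, ?_⟩
    · have h1 : (n * m) • P.root l = (m : ℤ) • (n • P.root p) + (n : ℤ) • (m • P.root q) := by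
        rw [hl, natCast_zsmul, natCast_zsmul, smul_add, ← mul_smul, ← mul_smul, mul_comm m n]
      rw [h1, e, e']; module
    · have hn' : (0 : ℤ) < n := by exact_mod_cast hn
      have hm' : (0 : ℤ) < m := by exact_mod_cast hm
      rcases hs with hs | ⟨rfl, hs⟩ <;> rcases hs' with hs' | ⟨rfl, hs'⟩
      · exact .inl (by positivity)
      · exact .inl (by simp; positivity)
      · exact .inl (by simp; positivity)
      · exact .inr ⟨by simp, by positivity⟩
  obtain ⟨S, hS, hST, hsupp⟩ := Groth.Agent.RootDLib.exists_isPosSys_extending P hsat hTR hT1 hT2 hT3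
  have hΔ := Groth.Agent.RootDLib.isSimple_simples hS
  have hpos := hΔ.eq_posOf_of_subset hS (Groth.Agent.RootDLib.simples_subset P S)
  have hiT : i ∈ T := ⟨1, 1, 0, one_pos, by simp, .inr ⟨rfl, one_pos⟩⟩
  have hkT : k ∈ T := ⟨1, 0, 1, one_pos, by simp, .inl one_pos⟩
  have hiS := (hST i hiR).2 hiT
  have hiΔ : i ∈ Groth.Agent.RootDLib.simples P S := by
    refine ⟨hiS, ?_⟩
    rintro ⟨p, q, hp, hq, e⟩
    have hc : hΔ.coef i = hΔ.coef p + hΔ.coef q := hΔ.coef_eq
      ((Finset.coe_subset.2 Finsupp.support_add).trans (by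
        simpa using And.intro (hΔ.coef_support p) (hΔ.coef_support q)))
      (by rw [map_add, hΔ.comb_coef, hΔ.comb_coef, e])
    have key : ∀ x ∈ S, (∀ y, hΔ.coef x y ≤ hΔ.coef i y) → x ∈ T := fun x hx hle => by
      refine (hST x (hsat x ⟨1, one_pos, ?_⟩)).1 hx
      rw [one_nsmul]
      refine hΔ.mem_span_of_coef fun y hy => hsupp i hiR (Finsupp.mem_support_iff.2 ?_)
      have := hle y
      have := hΔ.mem_posOf_iff.1 (hpos ▸ hx) y
      have := Finsupp.mem_support_iff.1 hy
      omega
    obtain ⟨n, a, b, hn, ea, hs⟩ := key p hp fun y => by rw [hc]; simp [hΔ.mem_posOf_iff.1 (hpos ▸ hq) y]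
    obtain ⟨m, a', b', hm, eb, hs'⟩ := key q hq fun y => by rw [hc]; simp [hΔ.mem_posOf_iff.1 (hpos ▸ hp) y]
    have h1 : ((n : ℤ) * m) • P.root i + (0 : ℤ) • P.root k =
        ((m : ℤ) * a + (n : ℤ) * a') • P.root i + ((m : ℤ) * b + (n : ℤ) * b') • P.root k := by
      have h0 : ((n : ℤ) * m) • P.root i = (m : ℤ) • (n • P.root p) + (n : ℤ) • (m • P.root q) := by
        rw [e, ← natCast_zsmul (P.root p), ← natCast_zsmul (P.root q)]; module
      rw [ea, eb] at h0
      linear_combination (norm := module) h0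
    obtain ⟨h3, h4⟩ := huniq h1
    have hn' : (0 : ℤ) < n := by exact_mod_cast hn
    have hm' : (0 : ℤ) < m := by exact_mod_cast hm
    obtain ⟨hb0, hb0'⟩ : b = 0 ∧ b' = 0 := by
      have hb : 0 ≤ b := by omega
      have hb' : 0 ≤ b' := by omega
      constructor <;> nlinarith
    subst hb0; subst hb0'
    simp only [lt_irrefl, false_or, true_and] at hs hs'
    have hi' := (Groth.Agent.RootDLib.isIndiv_iff P).1 hα
    have h0 : ∀ {t : ℤ}, t • P.root i = 0 → t = 0 := fun {t} h =>
      by_contra fun ht => P.ne_zero i (Groth.Agent.RootDLib.zsmul_eq_zero P ht h)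
    have hline : ∀ x (N : ℕ) (u : ℤ), 0 < N → 0 < u → N • P.root x = u • P.root i →
        ∃ t : ℤ, 0 < t ∧ P.root x = t • P.root i := fun x N u hN hu eu => by
      rw [← natCast_zsmul] at eu
      have hl : ¬ LinearIndependent ℤ ![P.root i, P.root x] := fun hh => by
        have := (LinearIndependent.pair_iff.1 hh u (-(N : ℤ)) (by rw [← eu]; module)).2
        omega
      rcases Groth.Agent.RootDLib.cases_of_not_linearIndependent P hl with c | c | c | c | c | c
      · exact ⟨1, one_pos, by rw [one_zsmul, c]⟩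
      · rw [c] at eu; have := h0 (t := u + N) (by linear_combination (norm := module) -eu); omega
      · exact ⟨2, two_pos, c⟩
      · rw [c] at eu; have := h0 (t := u + 2 * N) (by linear_combination (norm := module) -eu); omega
      · exact absurd c (hi' x)
      · exact absurd (show P.root i = (2 : ℤ) • P.root (Groth.Agent.RootDLib.ng P x) by rw [Groth.Agent.RootDLib.root_ng, smul_neg]; exact c) (hi' _)
    obtain ⟨t, ht, ht'⟩ := hline p n a hn hs (by simpa using ea)
    obtain ⟨s, hs2, hs2'⟩ := hline q m a' hm hs' (by simpa using eb)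
    rw [ht', hs2'] at e
    have := h0 (t := t + s - 1) (by linear_combination (norm := module) -e)
    omega
  let C : Finset ι := insert i (hΔ.coef k).support
  have hCΔ : (↑C : Set ι) ⊆ Groth.Agent.RootDLib.simples P S := by
    intro x hx
    rcases Finset.mem_insert.1 hx with rfl | hx
    · exact hiΔ
    · exact hΔ.coef_support k hx
  have hCR : ∀ x ∈ C, x ∈ R' := fun x hx => by
    rcases Finset.mem_insert.1 hx with rfl | hx
    · exact hiR
    · exact hsupp k hkR hx
  have hcard : C.card ≤ 2 := by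
    choose! N hN hNV using fun x (hx : x ∈ C) => hCR x hx
    haveI : Module.Finite ℤ V := Module.Finite.span_of_finite ℤ (by simp)
    have hli' : LinearIndependent ℤ fun x : C => (⟨N x • P.root x, hNV x x.2⟩ : V) := by
      refine LinearIndependent.of_comp V.subtype ?_
      rw [Fintype.linearIndependent_iff]
      intro g hg x
      have h0 : (∑ x : C, Finsupp.single (x : ι) (g x * N x)) = 0 := hΔ.comb_inj (fun y hy => by
          by_contra hn
          refine Finsupp.mem_support_iff.1 hy ?_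
          rw [Finsupp.finset_sum_apply]
          exact Finset.sum_eq_zero fun z _ => Finsupp.single_eq_of_ne fun e => hn (e ▸ hCΔ z.2))
        (by simp) (by
          rw [map_sum, map_zero, ← hg]
          exact Finset.sum_congr rfl fun z _ => by
            rw [Groth.Agent.RootDLib.comb_single, mul_smul, natCast_zsmul]; rfl)
      have := DFunLike.congr_fun h0 (x : ι)
      rw [Finsupp.finset_sum_apply, Finset.sum_eq_single x (fun b _ hb =>
        Finsupp.single_eq_of_ne fun e => hb (Subtype.ext e.symm)) (by simp), Finsupp.single_eq_same] at this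
      exact (mul_eq_zero.1 this).resolve_right (by exact_mod_cast (hN x x.2).ne')
    have := hli'.fintype_card_le_finrank
    rw [Fintype.card_coe] at this
    refine this.trans ((finrank_span_le_card _).trans ?_)
    simp only [Set.toFinset_insert, Set.toFinset_singleton]
    exact Finset.card_le_two
  obtain ⟨j, hj, hji⟩ : ∃ j ∈ (hΔ.coef k).support, j ≠ i := by
    by_contra hh
    simp only [not_exists, not_and, not_not] at hh
    have := LinearIndependent.pair_iff.1 hli (hΔ.coef k i) (-1) (by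
      have hc : hΔ.coef k = Finsupp.single i (hΔ.coef k i) := Finsupp.ext fun y => (em (y = i)).elim
        (fun h => by simp [h]) fun h => by
          rw [Finsupp.single_eq_of_ne h]; exact Finsupp.notMem_support_iff.1 fun hy => h (hh y hy)
      rw [← hΔ.comb_coef k]
      conv_lhs => arg 2; rw [hc, Groth.Agent.RootDLib.comb_single]
      module)
    simp at this
  have hCeq : ({i, j} : Finset ι) = C := Finset.eq_of_subset_of_card_le (by
      intro x hx
      rcases Finset.mem_insert.1 hx with rfl | hx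
      · exact Finset.mem_insert_self _ _
      · rw [Finset.mem_singleton] at hx; exact hx ▸ Finset.mem_insert_of_mem hj)
    (by rw [Finset.card_pair hji.symm]; exact hcard)
  have hkpos : k ∈ RootD.posOf P (Groth.Agent.RootDLib.simples P S) := hpos ▸ (hST k hkR).2 hkT
  have hnn := hΔ.mem_posOf_iff.1 hkpos
  refine ⟨_, (Groth.Agent.RootDLib.isSimple_iff P).1 hΔ, hiΔ, j, hΔ.coef_support k hj, (hΔ.coef k i).toNat, (hΔ.coef k j).toNat, ?_⟩
  rw [← natCast_zsmul, ← natCast_zsmul, Int.toNat_of_nonneg (hnn i), Int.toNat_of_nonneg (hnn j)]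
  conv_lhs => rw [← hΔ.comb_coef k]
  rw [Groth.Agent.RootDLib.comb, Finsupp.linearCombination_apply]
  refine (Finset.sum_subset (s₂ := {i, j}) (hCeq ▸ Finset.subset_insert _ _) fun x _ hx => ?_).trans
    (Finset.sum_pair hji.symm)
  rw [Finsupp.notMem_support_iff.1 hx]; exact zero_smul ℤ _

end Groth.Agent.S5464
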