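import Groth.Statements.S5465
import Groth.Agent.RootDLib.Sub3
-- import your own Groth.Agent.* helpers here

set_option autoImplicit false
open RootD

namespace Groth.Agent.S5465

/-- A map from the roots to an abelian group that is odd and additive on pairs of roots whose sum is a
root extends uniquely to a homomorphism on the lattice generated by the roots. -/
theorem result {ι M N : Type*} [AddCommGroup M] [AddCommGroup N]
    (P : RootPairing ι ℤ M N) [Finite ι] {G : Type*} [AddCommGroup G] (f : ι → G)
    (hneg : ∀ i : ι, f (P.reflectionPerm i i) = -f i)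
    (hadd : ∀ i j k : ι, P.root k = P.root i + P.root j → f k = f i + f j) :
    ∃! φ : Submodule.span ℤ (Set.range P.root) →+ G,
      ∀ i : ι, φ ⟨P.root i, Submodule.subset_span (Set.mem_range_self i)⟩ = f i := by
  classical
  obtain ⟨S, hS⟩ := Groth.Agent.RootDLib.exists_isPosSys_int P
  have h := Groth.Agent.RootDLib.isSimple_simples hS
  have hex : ∀ x : Submodule.span ℤ (Set.range P.root),
      ∃ c : ι →₀ ℤ, ↑c.support ⊆ Groth.Agent.RootDLib.simples P S ∧ Groth.Agent.RootDLib.comb P c = (x : M) := fun x => by
    have hx : (x : M) ∈ Submodule.span ℤ (P.root '' Groth.Agent.RootDLib.simples P S) := (Submodule.span_le.2 (by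
      rintro _ ⟨k, rfl⟩; exact h.mem_span_of_coef (h.coef_support k))) x.2
    obtain ⟨c, hc, e⟩ := (Finsupp.mem_span_image_iff_linearCombination ℤ).1 hx
    exact ⟨c, (Finsupp.mem_supported _ _).1 hc, e⟩
  choose C hC hCe using hex
  let F : (ι →₀ ℤ) →+ G := Finsupp.liftAddHom fun a => zmultiplesHom G (f a)
  have hFs : ∀ a, F (Finsupp.single a 1) = f a := fun a => by
    rw [Finsupp.liftAddHom_apply_single, zmultiplesHom_apply, one_zsmul]
  let φ : Submodule.span ℤ (Set.range P.root) →+ G := AddMonoidHom.mk' (fun x => F (C x)) fun x y => by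
    rw [← map_add]
    congr 1
    exact h.comb_inj (hC _) ((Finset.coe_subset.2 Finsupp.support_add).trans (by simpa using And.intro (hC x) (hC y)))
      (by rw [map_add, hCe, hCe, hCe]; rfl)
  have hφ : ∀ k, φ ⟨P.root k, Submodule.subset_span ⟨k, rfl⟩⟩ = F (h.coef k) := fun k =>
    congrArg F (h.coef_eq (hC _) (hCe _)).symm
  have hpos : ∀ k, k ∈ RootD.posOf P (Groth.Agent.RootDLib.simples P S) → F (h.coef k) = f k := fun k hk =>
    h.pos_induction (p := fun k => F (h.coef k) = f k) hk (fun i hi => by rw [h.coef_self hi, hFs])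
      fun k i l _ hi _ _ e he ih => by rw [he, map_add, hFs, ih, hadd i l k e]
  refine ⟨φ, fun k => ?_, fun ψ hψ => ?_⟩
  · rw [hφ]
    rcases h.isPosSys.cover k with hk | hk
    · exact hpos k hk
    · have := hpos (Groth.Agent.RootDLib.ng P k) hk
      rw [h.coef_ng, map_neg, show f (Groth.Agent.RootDLib.ng P k) = -f k from hneg k, neg_inj] at this
      exact this
  · ext ⟨x, hx⟩
    induction hx using Submodule.span_induction with
    | mem y hy =>
      obtain ⟨k, rfl⟩ := hy
      rw [hψ, hφ]
      rcases h.isPosSys.cover k with hk | hk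
      · exact (hpos k hk).symm
      · have := hpos (Groth.Agent.RootDLib.ng P k) hk
        rw [h.coef_ng, map_neg, show f (Groth.Agent.RootDLib.ng P k) = -f k from hneg k, neg_inj] at this
        exact this.symm
    | zero => exact (map_zero ψ).trans (map_zero φ).symm
    | add a b ha hb iha ihb =>
      rw [show (⟨a + b, _⟩ : Submodule.span ℤ (Set.range P.root)) = ⟨a, ha⟩ + ⟨b, hb⟩ from rfl, map_add, map_add, iha, ihb]
    | smul t a ha iha =>
      rw [show (⟨t • a, _⟩ : Submodule.span ℤ (Set.range P.root)) = t • ⟨a, ha⟩ from rfl, map_zsmul, map_zsmul, iha]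

end Groth.Agent.S5465
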