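import Groth.Statements.S5467
import Groth.Agent.RootDLib.Z
-- import your own Groth.Agent.* helpers here

set_option autoImplicit false
open RootD

namespace Groth.Agent.S5467

/-- For an indivisible positive non-simple root α there is a simple root β with (β^v, α) > 0 such that
s_β(α) is positive; its order relative to Δ is then smaller than that of α by (β^v, α). -/
theorem result {ι M N : Type*} [AddCommGroup M] [AddCommGroup N]
    (P : RootPairing ι ℤ M N) [Finite ι] (Δ : Set ι) (hΔ : RootD.IsSimpleSys P Δ)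
    (k : ι) (hk : k ∈ RootD.posOf P Δ) (hkΔ : k ∉ Δ) (hind : RootD.IsIndiv P k) :
    ∃ i ∈ Δ, 0 < P.pairing k i ∧ P.reflectionPerm i k ∈ RootD.posOf P Δ := by
  have h := (Groth.Agent.RootDLib.isSimple_iff P).2 hΔ
  obtain ⟨i, hi, hp⟩ := h.exists_pairing_pos hk
  exact ⟨i, hi, Groth.Agent.RootDLib.pairingIn_eq P k i ▸ hp,
    h.refl_mem_posOf hi hk (fun e => hkΔ (e ▸ hi)) ((Groth.Agent.RootDLib.isIndiv_iff P).1 hind i)⟩

end Groth.Agent.S5467
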