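import Groth.Statements.S5468
import Groth.Agent.RootDLib.Sub
-- import your own Groth.Agent.* helpers here

set_option autoImplicit false
open RootD

namespace Groth.Agent.S5468

/-- Two roots whose reflections are distinct and commute are orthogonal. -/
theorem result {ι M N : Type*} [AddCommGroup M] [AddCommGroup N]
    (P : RootPairing ι ℤ M N) [Finite ι] (i j : ι)
    (hne : P.reflection i ≠ P.reflection j) (hc : Commute (P.reflection i) (P.reflection j)) :
    P.IsOrthogonal i j := by
  by_cases hli : LinearIndependent ℤ ![P.root i, P.root j]
  · have h := LinearEquiv.congr_fun hc.eq (P.root j)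
    simp only [LinearEquiv.mul_apply, RootPairing.reflection_apply_self, map_neg,
      RootPairing.reflection_apply_root, map_sub, map_smul] at h
    have h2 := LinearIndependent.pair_iff.1 hli (P.pairing j i * P.pairing i j - P.pairing j i - P.pairing j i + P.pairing j i) (P.pairing j i * P.pairing i j)
    by_contra hno
    simp only [RootPairing.IsOrthogonal, not_and] at hno
    have := LinearIndependent.pair_iff.1 hli (2 * P.pairing j i) (-(P.pairing j i * P.pairing i j))
      (by linear_combination (norm := module) h)
    have := hno
    have h3 : P.pairing j i = 0 := by omega
    have h4 := LinearEquiv.congr_fun hc.eq (P.root i)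
    simp only [LinearEquiv.mul_apply, RootPairing.reflection_apply_self, map_neg,
      RootPairing.reflection_apply_root, map_sub, map_smul] at h4
    have := LinearIndependent.pair_iff.1 hli (P.pairing i j * P.pairing j i) (-(2 * P.pairing i j))
      (by linear_combination (norm := module) h4)
    exact hno (by omega) h3
  · refine absurd ?_ hne
    have := Groth.Agent.RootDLib.refl_eq_of_not_linearIndependent P hli
    exact LinearEquiv.ext fun x => congrArg (fun g : P.Aut => g • x) this

end Groth.Agent.S5468
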