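import Groth.Statements.S5469
import Groth.Agent.RootDLib.Sub2
-- import your own Groth.Agent.* helpers here

set_option autoImplicit false
open RootPairing
open scoped Pointwise
open RootD

namespace Groth.Agent.S5469

/-- Two non-orthogonal roots of equal length (for the canonical form ℓ(x) = Σ_{u ∈ R^v} (u, x)²) are
conjugate under the Weyl group. -/
theorem result {ι M N : Type*} [AddCommGroup M] [AddCommGroup N]
    (P : RootPairing ι ℤ M N) [Finite ι] [Fintype ι] (i j : ι) (hno : ¬ P.IsOrthogonal i j)
    (hl : P.RootForm (P.root i) (P.root i) = P.RootForm (P.root j) (P.root j)) :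
    ∃ g : P.Aut, g ∈ P.weylGroup ∧ g • i = j := by
  haveI := Groth.Agent.RootDLib.isTorsionFree P
  have hq : Groth.Agent.RootDLib.q P i i = Groth.Agent.RootDLib.q P j j := by
    have h1 := Groth.Agent.RootDLib.algebraMap_q P i i
    have h2 := Groth.Agent.RootDLib.algebraMap_q P j j
    simp only [Int.cast_id] at h1 h2
    rw [h1, h2, hl]
  by_cases hli : LinearIndependent ℤ ![P.root i, P.root j]
  · have hsym : P.pairingIn ℤ i j = P.pairingIn ℤ j i := by
      have a := Groth.Agent.RootDLib.two_mul_q P i j
      have b := Groth.Agent.RootDLib.two_mul_q P j i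
      rw [Groth.Agent.RootDLib.q_comm P j i, hq, a] at b
      exact mul_right_cancel₀ (Groth.Agent.RootDLib.q_self_pos P j).ne' b
    have hne : P.pairingIn ℤ i j ≠ 0 := fun h0 => hno
      ⟨(Groth.Agent.RootDLib.pairingIn_eq P i j).symm.trans h0, (Groth.Agent.RootDLib.pairingIn_eq P j i).symm.trans (hsym ▸ h0)⟩
    have hmem := P.coxeterWeightIn_mem_set_of_isCrystallographic i j
    have h4 := (RootPairing.linearIndependent_iff_coxeterWeightIn_ne_four P ℤ).1 hli
    simp only [RootPairing.coxeterWeightIn, ← hsym, Set.mem_insert_iff, Set.mem_singleton_iff] at hmem h4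
    have hp : P.pairingIn ℤ i j = 1 ∨ P.pairingIn ℤ i j = -1 := by
      rcases hmem with h | h | h | h | h
      · exact absurd (mul_self_eq_zero.1 h) hne
      · exact Int.eq_one_or_neg_one_of_mul_eq_one h
      · rcases (show P.pairingIn ℤ i j ≤ -2 ∨ P.pairingIn ℤ i j = -1 ∨ P.pairingIn ℤ i j = 0 ∨
          P.pairingIn ℤ i j = 1 ∨ 2 ≤ P.pairingIn ℤ i j by omega) with h' | h' | h' | h' | h' <;> nlinarith
      · rcases (show P.pairingIn ℤ i j ≤ -2 ∨ P.pairingIn ℤ i j = -1 ∨ P.pairingIn ℤ i j = 0 ∨
          P.pairingIn ℤ i j = 1 ∨ 2 ≤ P.pairingIn ℤ i j by omega) with h' | h' | h' | h' | h' <;> nlinarith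
      · exact absurd h h4
    rcases hp with hp | hp
    · refine ⟨Groth.Agent.RootDLib.refl P j * Groth.Agent.RootDLib.refl P i * Groth.Agent.RootDLib.refl P j, mul_mem (mul_mem (P.reflection_mem_weylGroup j)
        (P.reflection_mem_weylGroup i)) (P.reflection_mem_weylGroup j), P.root.injective ?_⟩
      have hji := hsym ▸ hp
      simp only [Groth.Agent.RootDLib.root_smul, mul_smul, RootPairing.Equiv.reflection_smul, RootPairing.reflection_apply_root,
        RootPairing.reflection_apply_self, map_sub, map_neg, map_smul, ← Groth.Agent.RootDLib.pairingIn_eq, hp, hji, RootPairing.pairingIn_same]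
      module
    · refine ⟨Groth.Agent.RootDLib.refl P i * Groth.Agent.RootDLib.refl P j, mul_mem (P.reflection_mem_weylGroup i)
        (P.reflection_mem_weylGroup j), P.root.injective ?_⟩
      have hji := hsym ▸ hp
      simp only [Groth.Agent.RootDLib.root_smul, mul_smul, RootPairing.Equiv.reflection_smul, RootPairing.reflection_apply_root,
        RootPairing.reflection_apply_self, map_sub, map_neg, map_smul, ← Groth.Agent.RootDLib.pairingIn_eq, hp, hji, RootPairing.pairingIn_same]
      module
  · have hpos := Groth.Agent.RootDLib.q_self_pos P i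
    have hsq : ∀ (a b : ι) (t : ℤ), P.root a = t • P.root b → Groth.Agent.RootDLib.q P a a = t * t * Groth.Agent.RootDLib.q P b b := fun a b t e => by
      have h1 := Groth.Agent.RootDLib.algebraMap_q P a a
      have h2 := Groth.Agent.RootDLib.algebraMap_q P b b
      simp only [Int.cast_id] at h1 h2
      rw [h1, h2, e]
      simp [map_smul, mul_assoc]
    rcases Groth.Agent.RootDLib.cases_of_not_linearIndependent P hli with c | c | c | c | c | c
    · exact ⟨1, one_mem _, by rw [one_smul, P.root.injective c]⟩
    · exact ⟨_, P.reflection_mem_weylGroup i, P.root.injective (by rw [c]; exact Groth.Agent.RootDLib.root_ng P i)⟩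
    · have := hsq j i 2 c; omega
    · have := hsq j i (-2) (by rw [neg_smul]; exact c); omega
    · have := hsq i j 2 c; omega
    · have := hsq i j (-2) (by rw [neg_smul]; exact c); omega

end Groth.Agent.S5469
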