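import Groth.Statements.S5471
import Groth.Agent.RootDLib.Irred
-- import your own Groth.Agent.* helpers here

set_option autoImplicit false
open RootPairing
open scoped Pointwise
open RootD

namespace Groth.Agent.S5471

/-- In a reduced irreducible root datum the ratios of squared root lengths to the minimal one form one
of the sets {1}, {1, 2}, {1, 3}. -/
theorem result {ι M N : Type*} [AddCommGroup M] [AddCommGroup N]
    (P : RootPairing ι ℤ M N) [Finite ι] [Fintype ι] [Nonempty ι] [P.IsReduced]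
    (hirr : ∀ R' : Set ι, RootD.IsClosedSub P R' → RootD.IsSymmSub P R' → RootD.IsClosedSub P R'ᶜ →
      RootD.IsSymmSub P R'ᶜ → R' = ∅ ∨ R' = Set.univ)
    (i₀ : ι) (hmin : ∀ i : ι, P.RootForm (P.root i₀) (P.root i₀) ≤ P.RootForm (P.root i) (P.root i)) :
    (∀ i : ι, P.RootForm (P.root i) (P.root i) = P.RootForm (P.root i₀) (P.root i₀) ∨
        P.RootForm (P.root i) (P.root i) = 2 * P.RootForm (P.root i₀) (P.root i₀) ∨
        P.RootForm (P.root i) (P.root i) = 3 * P.RootForm (P.root i₀) (P.root i₀)) ∧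
      ¬ ((∃ i : ι, P.RootForm (P.root i) (P.root i) = 2 * P.RootForm (P.root i₀) (P.root i₀)) ∧
          ∃ j : ι, P.RootForm (P.root j) (P.root j) = 3 * P.RootForm (P.root i₀) (P.root i₀)) := by
  classical
  have := Groth.Agent.RootDLib.isAddTorsionFree P
  have hI : Groth.Agent.RootDLib.Irred P := hirr
  simp only [Groth.Agent.RootDLib.rootForm_eq_q] at hmin ⊢
  have hred : ∀ j t : ι, P.root j ≠ (2 : ℤ) • P.root t := fun j t e =>
    P.nsmul_notMem_range_root (n := 2) (i := t) ⟨j, by rw [e, ← natCast_zsmul]; rfl⟩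
  have key : ∀ j, Groth.Agent.RootDLib.q P j j = Groth.Agent.RootDLib.q P i₀ i₀ ∨ Groth.Agent.RootDLib.q P j j = 2 * Groth.Agent.RootDLib.q P i₀ i₀ ∨ Groth.Agent.RootDLib.q P j j = 3 * Groth.Agent.RootDLib.q P i₀ i₀ := fun j => by
    obtain ⟨g, hg, h⟩ := hI.exists_smul_adj i₀ j
    rw [← Groth.Agent.RootDLib.q_smul P hg i₀]
    rcases Groth.Agent.RootDLib.q_ratio P h ((Groth.Agent.RootDLib.q_smul P hg i₀).trans_le (hmin j)) with e | ⟨e, -⟩ | ⟨e, -⟩ | ⟨-, t, e⟩
    exacts [.inl e, .inr (.inl e), .inr (.inr e), absurd e (hred j t)]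
  refine ⟨key, ?_⟩
  rintro ⟨⟨a, ha⟩, b, hb⟩
  obtain ⟨g, hg, h⟩ := hI.exists_smul_adj a b
  have hpos := Groth.Agent.RootDLib.q_self_pos P i₀
  have hga := Groth.Agent.RootDLib.q_smul P hg a
  rcases Groth.Agent.RootDLib.q_ratio P h (by omega) with e | ⟨e, -⟩ | ⟨e, -⟩ | ⟨e, -⟩ <;> omega

end Groth.Agent.S5471
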