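import Groth.Statements.S5472
import Groth.Agent.RootDLib.Irred
-- import your own Groth.Agent.* helpers here

set_option autoImplicit false
open RootPairing
open scoped Pointwise
open RootD

namespace Groth.Agent.S5472

theorem deletion' {ι M N : Type*} [AddCommGroup M] [AddCommGroup N] (P : RootPairing ι ℤ M N) [Finite ι]
    {Δ : Set ι} (hΔ : Groth.Agent.RootDLib.IsSimple P Δ) :
    ∀ (l : List ι), (∀ a ∈ l, a ∈ Δ) → ∀ i ∈ Δ, (l.map (Groth.Agent.RootDLib.refl P)).prod • i ∉ RootD.posOf P Δ →
    ∃ l' : List ι, (∀ a ∈ l', a ∈ l) ∧ l'.length + 1 = l.length ∧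
      (l'.map (Groth.Agent.RootDLib.refl P)).prod = (l.map (Groth.Agent.RootDLib.refl P)).prod * Groth.Agent.RootDLib.refl P i := by
  intro l
  induction l with
  | nil => intro _ i hi h; exact absurd (show i ∈ RootD.posOf P Δ from Groth.Agent.RootDLib.root_mem_natSpan P hi) (by simpa using h)
  | cons a t ih =>
    intro hl i hi h
    have ht : ∀ b ∈ t, b ∈ Δ := fun b hb => hl b (List.mem_cons_of_mem a hb)
    by_cases hq : (t.map (Groth.Agent.RootDLib.refl P)).prod • i ∈ RootD.posOf P Δ
    · refine ⟨t, fun b hb => List.mem_cons_of_mem a hb, rfl, ?_⟩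
      rw [List.map_cons, List.prod_cons, mul_smul] at h
      have e : (t.map (Groth.Agent.RootDLib.refl P)).prod • i = a := by
        by_contra hne
        exact h (hΔ.refl_mem_posOf (hl a List.mem_cons_self) hq hne (Groth.Agent.RootDLib.indiv_smul P (hΔ.indiv hi) _ a))
      rw [List.map_cons, List.prod_cons, ← e, ← Groth.Agent.RootDLib.conj_refl]
      simp only [inv_mul_cancel, mul_one, mul_assoc, Groth.Agent.RootDLib.refl_mul_self, inv_mul_cancel_left]
    · obtain ⟨l', hl', hlen, he⟩ := ih ht i hi hq
      refine ⟨a :: l', ?_, by simp [hlen], by simp [he, mul_assoc]⟩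
      intro b hb
      rcases List.mem_cons.1 hb with rfl | hb
      · exact List.mem_cons_self
      · exact List.mem_cons_of_mem a (hl' b hb)

/-- Let Δ be a system of simple roots (root-only sense), γ a positive root and α, β simple roots with
(γ, α^v) > 0 and (γ, β^v) ≥ 0 (equivalently: the order of s_α(γ) along Δ is smaller than that of γ,
and the order of s_β(γ) is at most that of γ). Then for every w in the group generated by s_α and
s_β the order of w(γ) along Δ is at most that of γ, and strictly smaller unless w ∈ {1, s_β}. The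
order is the sum of the coefficients along Δ; the conclusion is stated for the coefficient vector c
of γ - w(γ) along Δ: its coefficient sum is ≥ 0, and > 0 unless w = 1 or w = s_β. -/
theorem result {ι M N : Type*} [AddCommGroup M] [AddCommGroup N]
    (P : RootPairing ι ℤ M N) [Finite ι] (Δ : Set ι) (hΔ : RootD.IsSimpleSys P Δ)
    (k i j : ι) (hk : k ∈ RootD.posOf P Δ) (hi : i ∈ Δ) (hj : j ∈ Δ)
    (hα : 0 < P.pairing k i) (hβ : 0 ≤ P.pairing k j)
    (g : P.Aut) (hg : g ∈ Subgroup.closure {Equiv.reflection P i, Equiv.reflection P j})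
    (c : ι →₀ ℤ) (hc : ↑c.support ⊆ Δ)
    (hck : Finsupp.linearCombination ℤ P.root c = P.root k - P.root (g • k)) :
    0 ≤ c.sum (fun _ a => a) ∧ (g ≠ 1 → g ≠ Equiv.reflection P j → 0 < c.sum (fun _ a => a)) := by
  classical
  have hS := (Groth.Agent.RootDLib.isSimple_iff P).2 hΔ
  haveI := Groth.Agent.RootDLib.isAddTorsionFree P
  let σ : (ι →₀ ℤ) →ₗ[ℤ] ℤ := Finsupp.linearCombination ℤ (fun _ : ι => (1 : ℤ))
  have hσ : ∀ d : ι →₀ ℤ, σ d = d.sum fun _ a => a := fun d => by simp [σ, Finsupp.linearCombination_apply]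
  have hij : ∀ a ∈ ({i, j} : Set ι), a ∈ Δ := by rintro a (rfl | rfl) <;> assumption
  have hnn : ∀ a ∈ ({i, j} : Set ι), 0 ≤ P.pairing k a := by rintro a (rfl | rfl); exacts [hα.le, hβ]
  have hg' : g ∈ Groth.Agent.RootDLib.weylSub P {i, j} := by rwa [Groth.Agent.RootDLib.weylSub, Set.image_pair]
  have hex : ∃ n, ∃ l : List ι, (∀ a ∈ l, a ∈ ({i, j} : Set ι)) ∧ (l.map (Groth.Agent.RootDLib.refl P)).prod = g ∧ l.length = n := by
    obtain ⟨l, hl, e⟩ := Groth.Agent.RootDLib.exists_word P hg'
    exact ⟨_, l, hl, e, rfl⟩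
  obtain ⟨l, hl, e, hn⟩ := Nat.find_spec hex
  have key : ∀ l : List ι, (∀ a ∈ l, a ∈ ({i, j} : Set ι)) →
      (∀ l' : List ι, (∀ a ∈ l', a ∈ ({i, j} : Set ι)) → (l'.map (Groth.Agent.RootDLib.refl P)).prod = (l.map (Groth.Agent.RootDLib.refl P)).prod →
        l.length ≤ l'.length) →
      ∃ d : ι →₀ ℤ, ↑d.support ⊆ Δ ∧ Groth.Agent.RootDLib.comb P d = P.root k - P.root ((l.map (Groth.Agent.RootDLib.refl P)).prod • k) ∧
        0 ≤ σ d ∧ (i ∈ l → 0 < σ d) := by
    intro l
    induction l using List.reverseRecOn with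
    | nil => exact fun _ _ => ⟨0, by simp, by simp, by simp, by simp⟩
    | append_singleton t a ih =>
      intro hl hmin
      have ha : a ∈ ({i, j} : Set ι) := hl a (by simp)
      have ht : ∀ b ∈ t, b ∈ ({i, j} : Set ι) := fun b hb => hl b (List.mem_append_left _ hb)
      obtain ⟨d, hd, hdc, hd0, hdi⟩ := ih ht fun l' hl' e' => by
        have := hmin (l' ++ [a]) (by
          intro b hb
          rcases List.mem_append.1 hb with hb | hb
          · exact hl' b hb
          · exact List.mem_singleton.1 hb ▸ ha) (by simp [e'])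
        simp at this; omega
      have hpos : (t.map (Groth.Agent.RootDLib.refl P)).prod • a ∈ RootD.posOf P Δ := by
        by_contra hc
        obtain ⟨l', hl', hlen, he⟩ := deletion' P hS t (fun b hb => hij b (ht b hb)) a (hij a ha) hc
        have := hmin l' (fun b hb => ht b (hl' b hb)) (by simp [he])
        simp at this; omega
      refine ⟨d + P.pairing k a • hS.coef ((t.map (Groth.Agent.RootDLib.refl P)).prod • a), ?_, ?_, ?_, ?_⟩
      · exact (Finset.coe_subset.2 Finsupp.support_add).trans (by
          rw [Finset.coe_union]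
          exact Set.union_subset hd ((Finset.coe_subset.2 Finsupp.support_smul).trans (hS.coef_support _)))
      · rw [map_add, map_smul, hS.comb_coef, hdc, List.map_append, List.prod_append, List.map_singleton,
          List.prod_singleton, mul_smul, Groth.Agent.RootDLib.root_smul P (t.map (Groth.Agent.RootDLib.refl P)).prod (Groth.Agent.RootDLib.refl P a • k), Groth.Agent.RootDLib.root_refl,
          Groth.Agent.RootDLib.pairingIn_eq, smul_sub, smul_comm _ (P.pairing k a) (P.root a), ← Groth.Agent.RootDLib.root_smul, ← Groth.Agent.RootDLib.root_smul]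
        abel
      · rw [map_add, map_smul, smul_eq_mul]
        exact add_nonneg hd0 (mul_nonneg (hnn a ha) (by rw [hσ]; exact (hS.coef_sum_pos hpos).le))
      · intro hit
        rw [map_add, map_smul, smul_eq_mul]
        have hs := hS.coef_sum_pos hpos
        rw [← hσ] at hs
        rcases List.mem_append.1 hit with h | h
        · exact add_pos_of_pos_of_nonneg (hdi h) (mul_nonneg (hnn a ha) hs.le)
        · rw [← List.mem_singleton.1 h] at hs ⊢
          exact add_pos_of_nonneg_of_pos hd0 (mul_pos hα hs)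
  have hmin : ∀ l' : List ι, (∀ a ∈ l', a ∈ ({i, j} : Set ι)) → (l'.map (Groth.Agent.RootDLib.refl P)).prod = g →
      l.length ≤ l'.length := fun l' hl' e' => hn ▸ Nat.find_min' hex ⟨l', hl', e', rfl⟩
  obtain ⟨d, hd, hdc, hd0, hdi⟩ := key l hl fun l' hl' e' => hmin l' hl' (e'.trans e)
  rw [e] at hdc
  obtain rfl : c = d := hS.comb_inj hc hd (hck.trans hdc.symm)
  rw [← hσ]
  refine ⟨hd0, fun h1 h2 => hdi ?_⟩
  by_contra hi'
  have hj' : ∀ a ∈ l, a = j := fun a ha => (hl a ha).resolve_left fun h => hi' (h ▸ ha)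
  match l, hj', e, hmin with
  | [], _, e, _ => exact h1 (by simpa using e.symm)
  | [a], hj', e, _ => exact h2 (by rw [← e, hj' a (by simp)]; simp [Groth.Agent.RootDLib.refl])
  | a :: b :: r, hj', e, hmin =>
    have hr := hmin r (fun x hx => Or.inr (hj' x (by simp [hx]))) (by
      rw [← e, List.map_cons, List.map_cons, List.prod_cons, List.prod_cons, hj' a (by simp), hj' b (by simp),
        ← mul_assoc, Groth.Agent.RootDLib.refl_mul_self, one_mul])
    simp at hr

end Groth.Agent.S5472
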