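import Groth.Statements.S5473
import Groth.Agent.RootDLib.Sub3
-- import your own Groth.Agent.* helpers here

set_option autoImplicit false
open RootD

namespace Groth.Agent.S5473

/-- If a linear map f and its transpose g induce bijections from the roots of R' onto the roots of R and
from the coroots of R onto the coroots of R' respectively (a morphism of root data in the
two-bijection sense), then the two bijections correspond: the coroot of α' is g applied to the
coroot of f(α'). -/
theorem result {ι M N ι' M' N' : Type*} [AddCommGroup M] [AddCommGroup N] [AddCommGroup M'] [AddCommGroup N']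
    (P : RootPairing ι ℤ M N) (P' : RootPairing ι' ℤ M' N') [Finite ι] [Finite ι']
    (f : M' →ₗ[ℤ] M) (g : N →ₗ[ℤ] N') (hfg : ∀ (m' : M') (n : N), P.toLinearMap (f m') n = P'.toLinearMap m' (g n))
    (e : ι' ≃ ι) (he : ∀ i' : ι', f (P'.root i') = P.root (e i'))
    (e' : ι ≃ ι') (he' : ∀ i : ι, g (P.coroot i) = P'.coroot (e' i)) :
    ∀ i' : ι', g (P.coroot (e i')) = P'.coroot i' := by
  classical
  haveI := Fintype.ofFinite ι'
  haveI := Groth.Agent.RootDLib.isTorsionFree P'
  intro i'
  rw [he']
  set k := e' (e i') with hk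
  have hzero : ∀ d, d ∈ P'.rootSpan ℤ → f d = 0 → d = 0 := fun d hd hfd => by
    refine Groth.Agent.RootDLib.polarization_injOn P' hd ?_
    rw [RootPairing.Polarization_apply]
    refine Finset.sum_eq_zero fun a _ => ?_
    obtain ⟨b, rfl⟩ := e'.surjective a
    show P'.toLinearMap d (P'.coroot (e' b)) • _ = 0
    rw [← he', ← hfg, hfd, map_zero, LinearMap.zero_apply, zero_smul]
  have hroot : ∀ j', P'.pairing j' k = P.pairing (e j') (e i') := fun j' => by
    show P'.toLinearMap (P'.root j') (P'.coroot k) = P.toLinearMap (P.root (e j')) (P.coroot (e i'))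
    rw [hk, ← he', ← hfg, he]
  have hmaps : Set.MapsTo (Module.preReflection (P'.root i') (P'.coroot' k)) (Set.range P'.root) (Set.range P'.root) := by
    rintro _ ⟨j', rfl⟩
    refine ⟨e.symm (P.reflectionPerm (e i') (e j')), (sub_eq_zero.1 (hzero _ ?_ ?_))⟩
    · rw [Module.preReflection_apply]
      exact sub_mem (Submodule.subset_span ⟨_, rfl⟩) (sub_mem (Submodule.subset_span ⟨_, rfl⟩)
        (Submodule.smul_mem _ _ (Submodule.subset_span ⟨_, rfl⟩)))
    · rw [Module.preReflection_apply, map_sub, map_sub, map_smul, he, he, he, Equiv.apply_symm_apply,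
        RootPairing.root_reflectionPerm, RootPairing.reflection_apply_root, RootPairing.root_coroot'_eq_pairing, hroot,
        sub_self]
  have h2 : P'.coroot' k (P'.root i') = 2 := by
    rw [RootPairing.root_coroot'_eq_pairing, hroot, RootPairing.pairing_same]
  have heq := Module.Dual.eq_of_preReflection_mapsTo' (Set.finite_range P'.root)
    (Submodule.subset_span ⟨i', rfl⟩) h2 hmaps (P'.coroot_root_two i') (P'.mapsTo_reflection_root i')
  refine sub_eq_zero.1 (Groth.Agent.RootDLib.polarization_injOn P'.flip (x := P'.coroot k - P'.coroot i') ?_ ?_)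
  · exact sub_mem (Submodule.subset_span ⟨k, rfl⟩) (Submodule.subset_span ⟨i', rfl⟩)
  · rw [RootPairing.Polarization_apply]
    refine Finset.sum_eq_zero fun a _ => ?_
    have := LinearMap.congr_fun heq ⟨P'.root a, Submodule.subset_span ⟨a, rfl⟩⟩
    show P'.toLinearMap (P'.root a) (P'.coroot k - P'.coroot i') • _ = 0
    rw [map_sub, show P'.toLinearMap (P'.root a) (P'.coroot k) = P'.toLinearMap (P'.root a) (P'.coroot i') from this,
      sub_self, zero_smul]

end Groth.Agent.S5473
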