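import Groth.Statements.S5474
import Groth.Agent.RootDLib.Irred
-- import your own Groth.Agent.* helpers here

set_option autoImplicit false
open RootD

namespace Groth.Agent.S5474

/-- Every morphism between semisimple root data is an isogeny (injective on weight lattices with finite
cokernel). -/
theorem result {ι M N ι' M' N' : Type*} [AddCommGroup M] [AddCommGroup N] [AddCommGroup M'] [AddCommGroup N']
    (P : RootPairing ι ℤ M N) (P' : RootPairing ι' ℤ M' N') [Finite ι] [Finite ι']
    [Module.Finite ℤ M] [Module.Finite ℤ N] [Module.Finite ℤ M'] [Module.Finite ℤ N']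
    (hss : Module.finrank ℤ (Submodule.span ℤ (Set.range P.root)) = Module.finrank ℤ M)
    (hss' : Module.finrank ℤ (Submodule.span ℤ (Set.range P'.root)) = Module.finrank ℤ M')
    (f : RootPairing.Hom P' P) :
    Function.Injective f.weightMap ∧ Finite (M ⧸ LinearMap.range f.weightMap) := by
  classical
  haveI := Fintype.ofFinite ι'
  haveI := Groth.Agent.RootDLib.isTorsionFree P
  haveI := Groth.Agent.RootDLib.isTorsionFree P'
  haveI := Groth.Agent.RootDLib.isAddTorsionFree P'
  haveI : Finite (M ⧸ P.rootSpan ℤ) := Submodule.finiteQuotientOfFreeOfRankEq _ hss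
  haveI : Finite (M' ⧸ P'.rootSpan ℤ) := Submodule.finiteQuotientOfFreeOfRankEq _ hss'
  refine ⟨(injective_iff_map_eq_zero _).2 fun x hx => ?_, ?_⟩
  · have hk : ∀ a, P'.coroot' a x = 0 := fun a => by
      have h1 : P.toLinearMap (f.weightMap x) (P.coroot (f.indexEquiv a)) =
          P'.toLinearMap x (f.coweightMap (P.coroot (f.indexEquiv a))) :=
        LinearMap.congr_fun (RootPairing.Hom.weight_coweight_transpose_apply P' P (P.coroot (f.indexEquiv a)) f) x
      rw [hx, map_zero, LinearMap.zero_apply, RootPairing.Hom.coroot_coweightMap_apply,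
        _root_.Equiv.symm_apply_apply] at h1
      exact h1.symm
    have hn : Nat.card (M' ⧸ P'.rootSpan ℤ) • x ∈ P'.rootSpan ℤ := by
      rw [← Submodule.Quotient.mk_eq_zero]
      exact card_nsmul_eq_zero' (G := M' ⧸ P'.rootSpan ℤ) (x := Submodule.Quotient.mk x)
    have h0 := Groth.Agent.RootDLib.polarization_injOn P' hn (by
      rw [map_nsmul, RootPairing.Polarization_apply, Finset.sum_eq_zero fun a _ => by rw [hk, zero_smul], smul_zero])
    exact (smul_eq_zero.1 h0).resolve_left Nat.card_pos.ne'
  · have hle : P.rootSpan ℤ ≤ LinearMap.range f.weightMap := Submodule.span_le.2 (by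
      rintro _ ⟨a, rfl⟩
      exact ⟨P'.root (f.indexEquiv.symm a), by
        rw [RootPairing.Hom.root_weightMap_apply, _root_.Equiv.apply_symm_apply]⟩)
    exact Finite.of_surjective _ (Submodule.factor_surjective hle)

end Groth.Agent.S5474
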