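import Groth.Statements.S5475
import Groth.Agent.RootDLib.Sub
-- import your own Groth.Agent.* helpers here

set_option autoImplicit false
open RootD

namespace Groth.Agent.S5475

/-- In an adjoint root datum every indivisible root is an indivisible element of the weight lattice. -/
theorem result {ι M N : Type*} [AddCommGroup M] [AddCommGroup N]
    (P : RootPairing ι ℤ M N) [Finite ι] (had : Submodule.span ℤ (Set.range P.root) = ⊤)
    (i : ι) (hind : RootD.IsIndiv P i) (m : M) (n : ℤ) (h : n • m = P.root i) : n = 1 ∨ n = -1 := by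
  obtain ⟨S, hS⟩ := Groth.Agent.RootDLib.exists_isPosSys_int P
  obtain ⟨Δ, hΔ, hiΔ⟩ := (Groth.Agent.RootDLib.isSimple_simples hS).exists_smul_isSimple_mem ((Groth.Agent.RootDLib.isIndiv_iff P).1 hind)
  have hm : m ∈ Submodule.span ℤ (P.root '' Δ) := by
    have : Submodule.span ℤ (Set.range P.root) ≤ Submodule.span ℤ (P.root '' Δ) := by
      rw [Submodule.span_le]
      rintro _ ⟨k, rfl⟩
      exact hΔ.mem_span_of_coef (hΔ.coef_support k)
    exact this (had ▸ Submodule.mem_top)
  obtain ⟨c, hc, e⟩ := (Finsupp.mem_span_image_iff_linearCombination ℤ).1 hm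
  rw [Finsupp.mem_supported] at hc
  have h1 : hΔ.coef i = n • c := hΔ.coef_eq ((Finset.coe_subset.2 Finsupp.support_smul).trans hc)
    (by rw [map_smul, show Groth.Agent.RootDLib.comb P c = m from e, h])
  rw [hΔ.coef_self hiΔ] at h1
  have h2 := DFunLike.congr_fun h1 i
  simp only [Finsupp.single_eq_same, Finsupp.smul_apply, smul_eq_mul] at h2
  exact Int.eq_one_or_neg_one_of_mul_eq_one h2.symm

end Groth.Agent.S5475
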