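import Groth.Statements.S5476
import Groth.Agent.RootDLib.Sub3
-- import your own Groth.Agent.* helpers here

set_option autoImplicit false
open RootD

namespace Groth.Agent.S5476

theorem aux {ι A B : Type*} [AddCommGroup A] [AddCommGroup B] (Q : RootPairing ι ℤ A B) [Finite ι] [Fintype ι]
    [Module.Finite ℤ A] [Module.Finite ℤ B] :
    Module.finrank ℤ (⨅ i : ι, LinearMap.ker (Q.coroot' i) : Submodule ℤ A) +
      Module.finrank ℤ (Submodule.span ℤ (Set.range Q.root)) = Module.finrank ℤ A := by
  classical
  haveI := Groth.Agent.RootDLib.isTorsionFree Q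
  haveI := Groth.Agent.RootDLib.isTorsionFree Q.flip
  let φ : A →ₗ[ℤ] (ι → ℤ) := LinearMap.pi fun i => Q.coroot' i
  have hker : LinearMap.ker φ = ⨅ i : ι, LinearMap.ker (Q.coroot' i) := LinearMap.ker_pi _
  have h1 : Module.finrank ℤ (LinearMap.range φ) = Module.finrank ℤ (Submodule.span ℤ (Set.range Q.root)) := by
    refine le_antisymm ?_ ?_
    · haveI : Module.Free ℤ (Q.corootSpan ℤ) := Module.free_of_finite_type_torsion_free'
      let a : A →ₗ[ℤ] Module.Dual ℤ (Q.corootSpan ℤ) := (Q.corootSpan ℤ).subtype.dualMap ∘ₗ Q.toLinearMap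
      let b : Module.Dual ℤ (Q.corootSpan ℤ) →ₗ[ℤ] (ι → ℤ) :=
        LinearMap.pi fun i => LinearMap.applyₗ ⟨Q.coroot i, Submodule.subset_span ⟨i, rfl⟩⟩
      have hab : φ = b ∘ₗ a := by ext x i; rfl
      rw [hab]
      refine (Submodule.finrank_mono (LinearMap.range_comp_le_range a b)).trans ?_
      refine (LinearMap.finrank_range_le b).trans (le_of_eq ?_)
      show Module.finrank ℤ ((Q.corootSpan ℤ) →ₗ[ℤ] ℤ) = _
      rw [Module.finrank_linearMap, Module.finrank_self, mul_one]
      exact Q.finrank_corootSpan_eq'
    · have hinj : Function.Injective (φ.domRestrict (Submodule.span ℤ (Set.range Q.root))) := by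
        rw [injective_iff_map_eq_zero]
        rintro ⟨x, hx⟩ h0
        refine Subtype.ext (Groth.Agent.RootDLib.polarization_injOn Q hx ?_)
        rw [RootPairing.Polarization_apply]
        refine Finset.sum_eq_zero fun i _ => ?_
        rw [show Q.coroot' i x = 0 from congrFun h0 i, zero_smul]
      rw [← LinearMap.finrank_range_of_inj hinj]
      exact Submodule.finrank_mono (LinearMap.range_comp_le_range _ _)
  rw [← hker, ← h1, add_comm]
  have := Submodule.finrank_quotient_add_finrank (LinearMap.ker φ)
  rwa [φ.quotKerEquivRange.finrank_eq] at this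

/-- The lattice of the coradical (weights killed by every coroot) and the lattice of the radical
(coweights killed by every root) both have rank rgred - rgss, the rank of the weight lattice minus
the rank of the lattice generated by the roots; and the datum is semisimple (the roots span a
sublattice of full rank) if and only if the coradical lattice vanishes, if and only if the radical
lattice vanishes. -/
theorem result {ι M N : Type*} [AddCommGroup M] [AddCommGroup N]
    (P : RootPairing ι ℤ M N) [Finite ι] [Module.Finite ℤ M] [Module.Finite ℤ N] :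
    (Module.finrank ℤ (⨅ i : ι, LinearMap.ker (P.coroot' i) : Submodule ℤ M) +
        Module.finrank ℤ (Submodule.span ℤ (Set.range P.root)) = Module.finrank ℤ M) ∧
      (Module.finrank ℤ (⨅ i : ι, LinearMap.ker (P.root' i) : Submodule ℤ N) +
        Module.finrank ℤ (Submodule.span ℤ (Set.range P.root)) = Module.finrank ℤ M) ∧
      (Module.finrank ℤ (Submodule.span ℤ (Set.range P.root)) = Module.finrank ℤ M ↔
        (⨅ i : ι, LinearMap.ker (P.coroot' i) : Submodule ℤ M) = ⊥) ∧
      (Module.finrank ℤ (Submodule.span ℤ (Set.range P.root)) = Module.finrank ℤ M ↔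
        (⨅ i : ι, LinearMap.ker (P.root' i) : Submodule ℤ N) = ⊥) := by
  classical
  haveI := Fintype.ofFinite ι
  haveI := Groth.Agent.RootDLib.isTorsionFree P
  have hMN : Module.finrank ℤ N = Module.finrank ℤ M := by
    haveI : Module.Free ℤ M := Module.free_of_finite_type_torsion_free'
    rw [P.flip.toPerfPair.finrank_eq, Module.finrank_linearMap, Module.finrank_self, mul_one]
  have k1 := aux P
  have k2 := aux P.flip
  have hsp : Module.finrank ℤ (Submodule.span ℤ (Set.range P.flip.root)) =
      Module.finrank ℤ (Submodule.span ℤ (Set.range P.root)) := P.finrank_corootSpan_eq'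
  rw [hsp, hMN] at k2
  haveI := Groth.Agent.RootDLib.isTorsionFree P.flip
  refine ⟨k1, k2, ?_, ?_⟩
  · rw [show ∀ L : Submodule ℤ M, L = ⊥ ↔ Module.finrank ℤ L = 0 from fun L => Submodule.finrank_eq_zero.symm]; omega
  · rw [show ∀ L : Submodule ℤ N, L = ⊥ ↔ Module.finrank ℤ L = 0 from fun L => Submodule.finrank_eq_zero.symm]
    have : (⨅ i : ι, LinearMap.ker (P.root' i)) = ⨅ i : ι, LinearMap.ker (P.flip.coroot' i) := rfl
    rw [this]; omega

end Groth.Agent.S5476
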