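import Groth.Statements.S5478
import Groth.Agent.RootDLib.Sub2
import Groth.Agent.S5477
-- import your own Groth.Agent.* helpers here

set_option autoImplicit false
open RootPairing
open scoped Pointwise
open RootD

namespace Groth.Agent.S5478

/-- The group of automorphisms of a root datum that act trivially on the radical is finite. -/
theorem result {ι M N : Type*} [AddCommGroup M] [AddCommGroup N]
    (P : RootPairing ι ℤ M N) [Finite ι] :
    Set.Finite {u : P.Aut | ∀ m : M, ∃ n : ℕ, 0 < n ∧ n • (u • m - m) ∈ Submodule.span ℤ (Set.range P.root)} := by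
  refine Set.Finite.of_finite_image (f := fun u : P.Aut => fun i : ι => u • i) (Set.toFinite _) ?_
  intro u hu v hv e
  have hspan : ∀ (w : P.Aut) (x : M), x ∈ Submodule.span ℤ (Set.range P.root) →
      w • x ∈ Submodule.span ℤ (Set.range P.root) := fun w x hx => by
    induction hx using Submodule.span_induction with
    | mem y hy => obtain ⟨k, rfl⟩ := hy; rw [← Groth.Agent.RootDLib.root_smul]; exact Submodule.subset_span ⟨_, rfl⟩
    | zero => simp
    | add y z _ _ hy hz => rw [smul_add]; exact add_mem hy hz
    | smul t y _ hy => rw [smul_comm]; exact Submodule.smul_mem _ _ hy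
  have key : u⁻¹ * v = 1 := by
    refine Groth.Agent.S5477.result P _ (fun m => ?_) fun i => ?_
    · obtain ⟨a, ha, hma⟩ := hu m
      obtain ⟨b, hb, hmb⟩ := hv m
      refine ⟨a * b, mul_pos ha hb, ?_⟩
      have : (a * b) • ((u⁻¹ * v) • m - m) = u⁻¹ • (a • (b • (v • m - m)) - b • (a • (u • m - m))) := by
        rw [← mul_smul a b, ← mul_smul b a, mul_comm b a, ← smul_sub (a * b), smul_comm u⁻¹]
        simp only [smul_sub, mul_smul, inv_smul_smul]
        abel
      rw [this]
      exact hspan _ _ (sub_mem (nsmul_mem hmb _) (nsmul_mem hma _))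
    · rw [mul_smul, show v • i = u • i from (congrFun e i).symm, inv_smul_smul]
  exact (inv_mul_eq_one.1 key)

end Groth.Agent.S5478
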