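import Groth.Statements.S5479
import Groth.Agent.RootDLib.Z
-- import your own Groth.Agent.* helpers here

set_option autoImplicit false
open RootPairing
open scoped Pointwise
open RootD

namespace Groth.Agent.S5479

/-- Aut(R) is the semidirect product of the Weyl group by the stabiliser E_Δ of a system of simple
roots: every automorphism is uniquely w · e with w ∈ W and e(Δ) = Δ. -/
theorem result {ι M N : Type*} [AddCommGroup M] [AddCommGroup N]
    (P : RootPairing ι ℤ M N) [Finite ι] (Δ : Set ι) (hΔ : RootD.IsSimpleSys P Δ) (u : P.Aut) :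
    ∃! w : P.weylGroup, (fun i : ι => ((w : P.Aut)⁻¹ * u) • i) '' Δ = Δ := by
  have h := (Groth.Agent.RootDLib.isSimple_iff P).2 hΔ
  have hu : Groth.Agent.RootDLib.IsSimple P ((fun i : ι => u • i) '' Δ) := by
    have hS := Groth.Agent.RootDLib.image_smul_isPosSys P h.isPosSys u
    have := Groth.Agent.RootDLib.isSimple_simples hS
    rwa [← Groth.Agent.RootDLib.image_simples, h.simples_posOf] at this
  obtain ⟨w, hw, huniq⟩ := Groth.Agent.RootDLib.existsUnique_weyl_image P h hu
  refine ⟨w, ?_, fun v hv => huniq v ?_⟩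
  · show (fun i : ι => ((w : P.Aut)⁻¹ * u) • i) '' Δ = Δ
    simp only [mul_smul]
    rw [← Set.image_image (fun i : ι => (w : P.Aut)⁻¹ • i) (fun i : ι => u • i), ← hw, Set.image_image]
    simp
  · show (fun i : ι => (v : P.Aut) • i) '' Δ = _
    conv_lhs => rw [← (hv : (fun i : ι => ((v : P.Aut)⁻¹ * u) • i) '' Δ = Δ), Set.image_image]
    exact Set.image_congr' fun i => by rw [mul_smul, smul_inv_smul]

end Groth.Agent.S5479
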