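import Groth.Statements.S5480
import Groth.Agent.RootDLib.Irred
-- import your own Groth.Agent.* helpers here

set_option autoImplicit false
open RootD

namespace Groth.Agent.S5480

theorem pairing_rel {ι M N ι' M' N' : Type*} [AddCommGroup M] [AddCommGroup N] [AddCommGroup M'] [AddCommGroup N']
    (P : RootPairing ι ℤ M N) (P' : RootPairing ι' ℤ M' N') (f : M' →ₗ[ℤ] M) (g : N →ₗ[ℤ] N')
    (hfg : ∀ (m' : M') (n : N), P.toLinearMap (f m') n = P'.toLinearMap m' (g n)) (u : ι ≃ ι') (q : ι → ℕ)
    (hroot : ∀ i : ι, f (P'.root (u i)) = (q i : ℤ) • P.root i)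
    (hcoroot : ∀ i : ι, g (P.coroot i) = (q i : ℤ) • P'.coroot (u i)) (a b : ι) :
    (q b : ℤ) * P'.pairing (u a) (u b) = (q a : ℤ) * P.pairing a b := by
  have h := hfg (P'.root (u a)) (P.coroot b)
  rw [hroot, hcoroot, map_smul, LinearMap.smul_apply, map_smul, smul_eq_mul, smul_eq_mul] at h
  exact h.symm

theorem eq_zero_of_map {ι M N ι' M' N' : Type*} [AddCommGroup M] [AddCommGroup N] [AddCommGroup M'] [AddCommGroup N']
    (P : RootPairing ι ℤ M N) (P' : RootPairing ι' ℤ M' N') [Finite ι'] (f : M' →ₗ[ℤ] M) (g : N →ₗ[ℤ] N')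
    (hfg : ∀ (m' : M') (n : N), P.toLinearMap (f m') n = P'.toLinearMap m' (g n)) (u : ι ≃ ι') (q : ι → ℕ)
    (hq : ∀ i, q i ≠ 0) (hcoroot : ∀ i : ι, g (P.coroot i) = (q i : ℤ) • P'.coroot (u i))
    {d : M'} (hd : d ∈ P'.rootSpan ℤ) (h : f d = 0) : d = 0 := by
  haveI := Fintype.ofFinite ι'
  refine Groth.Agent.RootDLib.polarization_injOn P' hd ?_
  rw [RootPairing.Polarization_apply]
  refine Finset.sum_eq_zero fun a _ => ?_
  obtain ⟨b, rfl⟩ := u.surjective a
  have h0 := hfg d (P.coroot b)
  rw [h, map_zero, LinearMap.zero_apply, hcoroot, map_smul, smul_eq_mul] at h0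
  have h1 := (mul_eq_zero.1 h0.symm).resolve_left (by exact_mod_cast hq b)
  show P'.toLinearMap d (P'.coroot (u b)) • _ = 0
  rw [h1, zero_smul]

theorem pos_of_pow {ι : Type*} {p : ℕ} (hp : 0 < p) {q : ι → ℕ} (hq : ∀ i, ∃ e : ℕ, q i = p ^ e) (i : ι) :
    0 < q i := by
  obtain ⟨e, he⟩ := hq i
  rw [he]; exact pow_pos hp e

/-- For a p-morphism of reduced root data with root bijection u and radicial exponents q: (a) for all
roots α, β one has q(s_α(β)) = q(β) and u(s_α(β)) = s_{u(α)}(u(β)); (b) the exponents are invariant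
under the Weyl group, q(w(α)) = q(α); (c) there is an isomorphism ū from the Weyl group of the first
datum to that of the second with ū(s_α) = s_{u(α)} and u(w(α)) = ū(w)(u(α)) for every Weyl group
element w and every root α. -/
theorem result {ι M N ι' M' N' : Type*} [AddCommGroup M] [AddCommGroup N] [AddCommGroup M'] [AddCommGroup N']
    (P : RootPairing ι ℤ M N) (P' : RootPairing ι' ℤ M' N') [Finite ι] [Finite ι'] [P.IsReduced] [P'.IsReduced]
    (p : ℕ) (hp : 0 < p) (f : M' →ₗ[ℤ] M) (g : N →ₗ[ℤ] N')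
    (hfg : ∀ (m' : M') (n : N), P.toLinearMap (f m') n = P'.toLinearMap m' (g n))
    (u : ι ≃ ι') (q : ι → ℕ) (hq : ∀ i, ∃ e : ℕ, q i = p ^ e)
    (hroot : ∀ i : ι, f (P'.root (u i)) = (q i : ℤ) • P.root i)
    (hcoroot : ∀ i : ι, g (P.coroot i) = (q i : ℤ) • P'.coroot (u i)) :
    (∀ i j : ι, q (P.reflectionPerm i j) = q j ∧ u (P.reflectionPerm i j) = P'.reflectionPerm (u i) (u j)) ∧
      (∀ w ∈ P.weylGroup, ∀ i : ι, q (w • i) = q i) ∧
      ∃ ubar : P.weylGroup ≃* P'.weylGroup,
        (∀ i : ι, ubar (RootPairing.weylGroup.ofIdx P i) = RootPairing.weylGroup.ofIdx P' (u i)) ∧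
        ∀ (w : P.weylGroup) (i : ι), u ((w : P.Aut) • i) = ((ubar w : P'.weylGroup) : P'.Aut) • u i := by
  classical
  have hqp := pos_of_pow hp hq
  have hrel := pairing_rel P P' f g hfg u q hroot hcoroot
  have := Groth.Agent.RootDLib.isAddTorsionFree P
  have hA : ∀ i j : ι, q (P.reflectionPerm i j) = q j ∧
      u (P.reflectionPerm i j) = P'.reflectionPerm (u i) (u j) := fun i j => by
    obtain ⟨l, hl⟩ := u.surjective (P'.reflectionPerm (u i) (u j))
    have h1 : (q l : ℤ) • P.root l = (q j : ℤ) • P.root (P.reflectionPerm i j) := by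
      rw [← hroot l, hl, RootPairing.root_reflectionPerm, RootPairing.reflection_apply_root, map_sub, map_smul,
        hroot, hroot, RootPairing.root_reflectionPerm, RootPairing.reflection_apply_root, smul_sub, smul_smul,
        smul_smul, mul_comm _ (q i : ℤ), hrel j i]
    have hli : ¬ LinearIndependent ℤ ![P.root l, P.root (P.reflectionPerm i j)] := fun hh => by
      have := (LinearIndependent.pair_iff.1 hh (q l : ℤ) (-(q j : ℤ)) (by rw [h1]; module)).1
      have := hqp l; omega
    have h0 : ∀ {t : ℤ}, t • P.root l = 0 → t = 0 := fun {t} h =>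
      by_contra fun ht => P.ne_zero l (Groth.Agent.RootDLib.zsmul_eq_zero P ht h)
    have hred : ∀ a t : ι, P.root a ≠ (2 : ℤ) • P.root t := fun a t e =>
      P.nsmul_notMem_range_root (n := 2) (i := t) ⟨a, by rw [e, ← natCast_zsmul]; rfl⟩
    rcases Groth.Agent.RootDLib.cases_of_not_linearIndependent P hli with c | c | c | c | c | c
    · rw [c] at h1
      have hql := h0 (t := (q l : ℤ) - q j) (by rw [sub_smul, h1, sub_self])
      rw [P.root.injective c]
      exact ⟨by omega, hl⟩
    · rw [c] at h1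
      have := h0 (t := (q l : ℤ) + q j) (by rw [add_smul, h1, smul_neg, neg_add_cancel])
      have := hqp l; omega
    · exact absurd c (hred _ _)
    · exact absurd (show P.root (P.reflectionPerm i j) = (2 : ℤ) • P.root (Groth.Agent.RootDLib.ng P l) by rw [Groth.Agent.RootDLib.root_ng, smul_neg]; exact c) (hred _ _)
    · exact absurd c (hred _ _)
    · exact absurd (show P.root l = (2 : ℤ) • P.root (Groth.Agent.RootDLib.ng P (P.reflectionPerm i j)) by rw [Groth.Agent.RootDLib.root_ng, smul_neg]; exact c) (hred _ _)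
  refine ⟨hA, fun w hw => ?_, ?_⟩
  · induction hw using RootPairing.weylGroup.induction with
    | mem a => exact fun i => (hA a i).1
    | one => exact fun i => by rw [one_smul]
    | mul x y _ _ hx hy => exact fun i => by rw [mul_smul, hx, hy]
  obtain ⟨S, hS⟩ := Groth.Agent.RootDLib.exists_isPosSys_int P
  obtain ⟨S', hS'⟩ := Groth.Agent.RootDLib.exists_isPosSys_int P'
  have i1 : Function.Injective P.weylGroupToPerm := (injective_iff_map_eq_one _).2 fun x hx =>
    Subtype.ext ((Groth.Agent.RootDLib.isSimple_simples hS).eq_one_of_fix x.2 fun i => _root_.Equiv.ext_iff.1 hx i)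
  have i2 : Function.Injective P'.weylGroupToPerm := (injective_iff_map_eq_one _).2 fun x hx =>
    Subtype.ext ((Groth.Agent.RootDLib.isSimple_simples hS').eq_one_of_fix x.2 fun i => _root_.Equiv.ext_iff.1 hx i)
  have hgen : u.permCongr '' Set.range P.reflectionPerm = Set.range P'.reflectionPerm := by
    have e : ∀ i, u.permCongr (P.reflectionPerm i) = P'.reflectionPerm (u i) := fun i =>
      _root_.Equiv.ext fun x => by
        obtain ⟨y, rfl⟩ := u.surjective x
        simp [_root_.Equiv.permCongr_apply, (hA i y).2]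
    ext x
    constructor
    · rintro ⟨_, ⟨i, rfl⟩, rfl⟩; exact ⟨u i, (e i).symm⟩
    · rintro ⟨i', rfl⟩
      obtain ⟨i, rfl⟩ := u.surjective i'
      exact ⟨_, ⟨i, rfl⟩, e i⟩
  have hmap : P.weylGroupToPerm.range.map (u.permCongrHom : Equiv.Perm ι ≃* Equiv.Perm ι').toMonoidHom =
      P'.weylGroupToPerm.range := by
    rw [RootPairing.range_weylGroupToPerm, RootPairing.range_weylGroupToPerm, MonoidHom.map_closure]
    exact congrArg Subgroup.closure hgen
  let ubar : P.weylGroup ≃* P'.weylGroup :=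
    ((MonoidHom.ofInjective i1).trans ((u.permCongrHom.subgroupMap _).trans (MulEquiv.subgroupCongr hmap))).trans
      (MonoidHom.ofInjective i2).symm
  have hubar : ∀ w, P'.weylGroupToPerm (ubar w) = u.permCongr (P.weylGroupToPerm w) := fun w => by
    show (MonoidHom.ofInjective i2 ((MonoidHom.ofInjective i2).symm _) : Equiv.Perm ι') = _
    rw [MulEquiv.apply_symm_apply]
    rfl
  refine ⟨ubar, fun i => i2 ?_, fun w i => ?_⟩
  · rw [hubar]
    exact _root_.Equiv.ext fun x => by
      obtain ⟨y, rfl⟩ := u.surjective x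
      show u (P.reflectionPerm i (u.symm (u y))) = P'.reflectionPerm (u i) (u y)
      rw [_root_.Equiv.symm_apply_apply, (hA i y).2]
  · show _ = P'.weylGroupToPerm (ubar w) (u i)
    rw [hubar, _root_.Equiv.permCongr_apply, _root_.Equiv.symm_apply_apply]
    rfl

end Groth.Agent.S5480
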