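import Groth.Statements.S5481
import Groth.Agent.RootDLib.Irred
import Groth.Agent.S5480
import Groth.Agent.S5446
-- import your own Groth.Agent.* helpers here

set_option autoImplicit false
open RootD

namespace Groth.Agent.S5481

/-- The root bijection u of a p-morphism of reduced root data carries systems of simple roots onto
systems of simple roots and systems of positive roots onto systems of positive roots, bijectively. -/
theorem result {ι M N ι' M' N' : Type*} [AddCommGroup M] [AddCommGroup N] [AddCommGroup M'] [AddCommGroup N']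
    (P : RootPairing ι ℤ M N) (P' : RootPairing ι' ℤ M' N') [Finite ι] [Finite ι'] [P.IsReduced] [P'.IsReduced]
    (p : ℕ) (hp : 0 < p) (f : M' →ₗ[ℤ] M) (g : N →ₗ[ℤ] N')
    (hfg : ∀ (m' : M') (n : N), P.toLinearMap (f m') n = P'.toLinearMap m' (g n))
    (u : ι ≃ ι') (q : ι → ℕ) (hq : ∀ i, ∃ e : ℕ, q i = p ^ e)
    (hroot : ∀ i : ι, f (P'.root (u i)) = (q i : ℤ) • P.root i)
    (hcoroot : ∀ i : ι, g (P.coroot i) = (q i : ℤ) • P'.coroot (u i)) (Δ : Set ι) :
    (RootD.IsSimpleSys P Δ ↔ RootD.IsSimpleSys P' (u '' Δ)) ∧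
      (RootD.IsPosSys P Δ ↔ RootD.IsPosSys P' (u '' Δ)) := by
  classical
  haveI := Fintype.ofFinite ι
  have hqp := Groth.Agent.S5480.pos_of_pow hp hq
  have hA := (Groth.Agent.S5480.result P P' p hp f g hfg u q hq hroot hcoroot).1
  have hinj : ∀ {d : M'}, d ∈ P'.rootSpan ℤ → f d = 0 → d = 0 := fun {d} hd h =>
    Groth.Agent.S5480.eq_zero_of_map P P' f g hfg u q (fun i => (hqp i).ne') hcoroot hd h
  have hng : ∀ i, u (Groth.Agent.RootDLib.ng P i) = Groth.Agent.RootDLib.ng P' (u i) := fun i => (hA i i).2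
  let prd : ℕ := ∏ a, q a
  have hprd : 0 < prd := Finset.prod_pos fun a _ => hqp a
  have hdvd : ∀ a, q a * (prd / q a) = prd := fun a =>
    Nat.mul_div_cancel' (Finset.dvd_prod_of_mem q (Finset.mem_univ a))
  have hmem : ∀ {x : M'} {T : Set ι'}, x ∈ RootD.natSpan P' T → x ∈ P'.rootSpan ℤ := fun {x T} hx => by
    induction hx using AddSubmonoid.closure_induction with
    | mem y hy => obtain ⟨a, -, rfl⟩ := hy; exact Submodule.subset_span ⟨a, rfl⟩
    | zero => exact zero_mem _
    | add y z _ _ hy hz => exact add_mem hy hz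
  have fwd : ∀ {T : Set ι} {x : M'}, x ∈ RootD.natSpan P' (u '' T) → f x ∈ RootD.natSpan P T := fun {T x} hx => by
    induction hx using AddSubmonoid.closure_induction with
    | mem y hy =>
      obtain ⟨_, ⟨a, ha, rfl⟩, rfl⟩ := hy
      rw [hroot, natCast_zsmul]
      exact nsmul_mem (Groth.Agent.RootDLib.root_mem_natSpan P ha) _
    | zero => rw [map_zero]; exact zero_mem _
    | add y z _ _ hy hz => rw [map_add]; exact add_mem hy hz
  have bwd : ∀ {T : Set ι} {x : M}, x ∈ RootD.natSpan P T → ∃ y ∈ RootD.natSpan P' (u '' T), f y = prd • x :=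
    fun {T x} hx => by
    induction hx using AddSubmonoid.closure_induction with
    | mem z hz =>
      obtain ⟨a, ha, rfl⟩ := hz
      refine ⟨(prd / q a) • P'.root (u a), nsmul_mem (Groth.Agent.RootDLib.root_mem_natSpan P' (Set.mem_image_of_mem u ha)) _, ?_⟩
      rw [map_nsmul, hroot, natCast_zsmul, ← mul_smul, mul_comm, hdvd]
    | zero => exact ⟨0, zero_mem _, by simp⟩
    | add y z _ _ hy hz =>
      obtain ⟨y', h1, e1⟩ := hy
      obtain ⟨z', h2, e2⟩ := hz
      exact ⟨y' + z', add_mem h1 h2, by rw [map_add, e1, e2, smul_add]⟩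
  have mult : ∀ {T : Set ι} {k : ι} {n : ℕ}, 0 < n → n • P.root k ∈ RootD.natSpan P T →
      ∃ m : ℕ, 0 < m ∧ m • P'.root (u k) ∈ RootD.natSpan P' (u '' T) := fun {T k n} hn h => by
    obtain ⟨y, hy, e⟩ := bwd h
    refine ⟨prd * n, mul_pos hprd hn, ?_⟩
    have hy' : (prd * n) • P'.root (u k) = q k • y := by
      refine sub_eq_zero.1 (hinj (sub_mem (nsmul_mem (show P'.root (u k) ∈ P'.rootSpan ℤ from Submodule.subset_span ⟨u k, rfl⟩) _)
        (nsmul_mem (hmem hy) _)) ?_)
      rw [map_sub, map_nsmul, map_nsmul, e, hroot, natCast_zsmul, ← mul_smul, ← mul_smul, ← mul_smul,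
        show prd * n * q k = q k * (prd * n) by ring, mul_assoc, sub_self]
    rw [hy']
    exact nsmul_mem hy _
  have mult' : ∀ {T : Set ι} {k : ι} {n : ℕ}, 0 < n → n • P'.root (u k) ∈ RootD.natSpan P' (u '' T) →
      ∃ m : ℕ, 0 < m ∧ m • P.root k ∈ RootD.natSpan P T := fun {T k n} hn h =>
    ⟨n * q k, mul_pos hn (hqp k), by
      have := fwd h
      rwa [map_nsmul, hroot, natCast_zsmul, ← mul_smul] at this⟩
  have := Groth.Agent.RootDLib.isAddTorsionFree P
  have := Groth.Agent.RootDLib.isAddTorsionFree P'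
  refine ⟨⟨fun h => ?_, fun h => ?_⟩, ⟨fun h => ⟨?_, fun i' => ?_, fun k' n hn hk => ?_⟩,
    fun h => ⟨fun i hi hi' => ?_, fun i => ?_, fun k n hn hk => ?_⟩⟩⟩
  · refine Groth.Agent.S5446.result P' (u '' Δ) (fun i' _ j' e => P'.nsmul_notMem_range_root (n := 2) (i := j')
      ⟨i', by rw [← e, ← natCast_zsmul]; rfl⟩) ?_ fun k' => ?_
    · rw [linearIndepOn_iff]
      intro c hc h0
      rw [Finsupp.mem_supported] at hc
      let d : ι →₀ ℤ := Finsupp.equivFunOnFinite.symm fun a => c (u a) * q a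
      haveI := Fintype.ofFinite ι'
      have hd : Groth.Agent.RootDLib.comb P d = 0 := by
        have := congrArg f h0
        rw [map_zero, Finsupp.linearCombination_apply, Finsupp.sum_fintype _ _ (fun i => zero_smul ℤ (P'.root i)),
          map_sum] at this
        rw [Groth.Agent.RootDLib.comb, Finsupp.linearCombination_apply, Finsupp.sum_fintype _ _ (fun i => zero_smul ℤ (P.root i)), ← this]
        exact Fintype.sum_equiv u _ _ fun a => by rw [map_smul, hroot, smul_smul]; rfl
      have hd0 : d = 0 := (((Groth.Agent.RootDLib.isSimple_iff P).2 h)).comb_inj (fun a ha => by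
          have hca : c (u a) ≠ 0 := fun h0 => Finsupp.mem_support_iff.1 ha
            (show c (u a) * (q a : ℤ) = 0 by rw [h0, zero_mul])
          obtain ⟨b, hb, e⟩ := hc (Finsupp.mem_support_iff.2 hca)
          exact u.injective e ▸ hb) (by simp) (by rw [hd, map_zero])
      ext a'
      obtain ⟨a, rfl⟩ := u.surjective a'
      exact (mul_eq_zero.1 (DFunLike.congr_fun hd0 a : c (u a) * (q a : ℤ) = 0)).resolve_right
        (by exact_mod_cast (hqp a).ne')
    · obtain ⟨k, rfl⟩ := u.surjective k'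
      rcases h.mem_or_neg_mem k with hk | hk
      · obtain ⟨m, hm, h'⟩ := mult one_pos (by rwa [one_smul])
        exact ⟨m, hm, .inl h'⟩
      · obtain ⟨m, hm, h'⟩ := mult (k := Groth.Agent.RootDLib.ng P k) one_pos (by rwa [one_smul, Groth.Agent.RootDLib.root_ng])
        rw [hng, Groth.Agent.RootDLib.root_ng] at h'
        exact ⟨m, hm, .inr h'⟩
  · refine Groth.Agent.S5446.result P Δ (fun i _ j e => P.nsmul_notMem_range_root (n := 2) (i := j)
      ⟨i, by rw [← e, ← natCast_zsmul]; rfl⟩) ?_ fun k => ?_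
    · rw [linearIndepOn_iff]
      intro c hc h0
      rw [Finsupp.mem_supported] at hc
      haveI := Fintype.ofFinite ι'
      let d : ι' →₀ ℤ := Finsupp.equivFunOnFinite.symm fun a' => c (u.symm a') * (prd / q (u.symm a') : ℕ)
      have hd : Groth.Agent.RootDLib.comb P' d = 0 := by
        refine hinj ?_ ?_
        · rw [Groth.Agent.RootDLib.comb, Finsupp.linearCombination_apply]
          exact Submodule.sum_mem _ fun i _ => Submodule.smul_mem _ _ (Submodule.subset_span ⟨i, rfl⟩)
        · rw [Groth.Agent.RootDLib.comb, Finsupp.linearCombination_apply, Finsupp.sum_fintype _ _ (fun i => zero_smul ℤ (P'.root i)), map_sum]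
          have h1 := congrArg (fun z : M => (prd : ℤ) • z) h0
          simp only [smul_zero] at h1
          rw [← h1, Finsupp.linearCombination_apply, Finsupp.sum_fintype _ _ (fun i => zero_smul ℤ (P.root i)),
            Finset.smul_sum]
          refine (Fintype.sum_equiv u _ _ fun a => ?_).symm
          simp only [d, map_smul, Finsupp.equivFunOnFinite_symm_apply_apply, _root_.Equiv.symm_apply_apply, hroot,
            smul_smul]
          congr 1
          rw [mul_assoc, ← Nat.cast_mul, mul_comm (prd / q a), hdvd, mul_comm]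
      have hd0 : d = 0 := (((Groth.Agent.RootDLib.isSimple_iff P').2 h)).comb_inj (fun a' ha => by
          obtain ⟨a, rfl⟩ := u.surjective a'
          refine ⟨a, hc (Finsupp.mem_support_iff.2 fun h0 => Finsupp.mem_support_iff.1 ha ?_), rfl⟩
          show c (u.symm (u a)) * _ = 0
          rw [_root_.Equiv.symm_apply_apply, h0, zero_mul]) (by simp) (by rw [hd, map_zero])
      ext a
      have ha : c (u.symm (u a)) * ((prd / q (u.symm (u a)) : ℕ) : ℤ) = 0 := DFunLike.congr_fun hd0 (u a)
      rw [_root_.Equiv.symm_apply_apply] at ha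
      refine (mul_eq_zero.1 ha).resolve_right fun h0 => hprd.ne' ?_
      rw [← hdvd a, Int.natCast_eq_zero.1 h0, mul_zero]
    · rcases h.mem_or_neg_mem (u k) with hk | hk
      · obtain ⟨m, hm, h'⟩ := mult' one_pos (by rwa [one_smul])
        exact ⟨m, hm, .inl h'⟩
      · obtain ⟨m, hm, h'⟩ := mult' (k := Groth.Agent.RootDLib.ng P k) one_pos (by rwa [one_smul, hng, Groth.Agent.RootDLib.root_ng])
        rw [Groth.Agent.RootDLib.root_ng] at h'
        exact ⟨m, hm, .inr h'⟩
  · rintro _ ⟨i, hi, rfl⟩ ⟨j, hj, e⟩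
    exact h.disjoint hi (u.injective (e.trans (hA i i).2.symm) ▸ hj)
  · obtain ⟨i, rfl⟩ := u.surjective i'
    exact (h.cover i).imp (fun hi => ⟨i, hi, rfl⟩) fun hi => ⟨_, hi, (hA i i).2⟩
  · obtain ⟨k, rfl⟩ := u.surjective k'
    obtain ⟨m, hm, h'⟩ := mult' hn hk
    exact ⟨k, h.sat m hm h', rfl⟩
  · exact h.disjoint ⟨i, hi, rfl⟩ ⟨_, hi', (hA i i).2⟩
  · refine (h.cover (u i)).imp (fun ⟨a, ha, e⟩ => u.injective e ▸ ha) fun ⟨a, ha, e⟩ => ?_
    exact u.injective (e.trans (hA i i).2.symm) ▸ ha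
  · obtain ⟨m, hm, h'⟩ := mult hn hk
    obtain ⟨a, ha, e⟩ := h.sat m hm h'
    exact u.injective e ▸ ha

end Groth.Agent.S5481
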