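import Groth.Statements.S5482
import Groth.Agent.RootDLib.Sub2
-- import your own Groth.Agent.* helpers here

set_option autoImplicit false
open RootD

namespace Groth.Agent.S5482

/-- If the roots are partitioned into two closed symmetric subsets R', R'', then with Δ' = Δ ∩ R', Δ'' =
Δ ∩ R'' for a system of simple roots Δ one has R' = R_{Δ'}, R'' = R_{Δ''}, and Δ' is orthogonal to
Δ''. -/
theorem result {ι M N : Type*} [AddCommGroup M] [AddCommGroup N]
    (P : RootPairing ι ℤ M N) [Finite ι] (Δ : Set ι) (hΔ : RootD.IsSimpleSys P Δ) (R' : Set ι)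
    (hc : RootD.IsClosedSub P R') (hs : RootD.IsSymmSub P R') (hc' : RootD.IsClosedSub P R'ᶜ)
    (hs' : RootD.IsSymmSub P R'ᶜ) :
    R' = RootD.inSpan P (Δ ∩ R') ∧ R'ᶜ = RootD.inSpan P (Δ \ R') ∧
      ∀ i ∈ Δ ∩ R', ∀ j ∈ Δ \ R', P.IsOrthogonal i j := by
  have h := (Groth.Agent.RootDLib.isSimple_iff P).2 hΔ
  have horth : ∀ i ∈ Δ ∩ R', ∀ j ∈ Δ \ R', P.pairingIn ℤ j i = 0 ∧ P.pairingIn ℤ i j = 0 := fun i hi j hj => by
    refine ⟨?_, by_contra fun hp => hj.2 (Groth.Agent.RootDLib.same_side P hc hs hc' hs' hi.2 hp)⟩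
    by_contra hp
    exact (Groth.Agent.RootDLib.same_side P hc' (by simpa using hs') (by rwa [compl_compl]) (by rwa [compl_compl])
      (show j ∈ R'ᶜ from hj.2) hp) hi.2
  have horth' : ∀ i ∈ Δ ∩ R', ∀ j ∈ Δ \ (Δ ∩ R'), P.pairingIn ℤ j i = 0 ∧ P.pairingIn ℤ i j = 0 :=
    fun i hi j hj => horth i hi j ⟨hj.1, fun hjR => hj.2 ⟨hj.1, hjR⟩⟩
  have key : ∀ k, (↑(h.coef k).support ⊆ Δ ∩ R' ∧ k ∈ R') ∨ (↑(h.coef k).support ⊆ Δ \ R' ∧ k ∉ R') := by
    have main : ∀ k, k ∈ RootD.posOf P Δ →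
        (↑(h.coef k).support ⊆ Δ ∩ R' ∧ k ∈ R') ∨ (↑(h.coef k).support ⊆ Δ \ R' ∧ k ∉ R') := fun k hk => by
      rcases h.support_subset_or horth' hk with hsup | hsup
      · exact .inl ⟨hsup, Groth.Agent.RootDLib.mem_of_closed P hc ((Groth.Agent.RootDLib.mem_natSpan_iff P).2
          ⟨_, hsup.trans Set.inter_subset_right, h.mem_posOf_iff.1 hk, h.comb_coef k⟩)⟩
      · have hsup' : ↑(h.coef k).support ⊆ Δ \ R' := fun a ha => ⟨(hsup ha).1, fun har => (hsup ha).2 ⟨(hsup ha).1, har⟩⟩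
        exact .inr ⟨hsup', Groth.Agent.RootDLib.mem_of_closed P hc' ((Groth.Agent.RootDLib.mem_natSpan_iff P).2
          ⟨_, fun a ha => (hsup' ha).2, h.mem_posOf_iff.1 hk, h.comb_coef k⟩)⟩
    intro k
    rcases h.isPosSys.cover k with hk | hk
    · exact main k hk
    · have := main (Groth.Agent.RootDLib.ng P k) hk
      rw [h.coef_ng, Finsupp.support_neg] at this
      refine this.imp (fun h1 => ⟨h1.1, ?_⟩) fun h1 => ⟨h1.1, fun hkR => h1.2 (hs hkR)⟩
      have hh : Groth.Agent.RootDLib.ng P (Groth.Agent.RootDLib.ng P k) ∈ R' := hs h1.2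
      rwa [Groth.Agent.RootDLib.ng_ng] at hh
  have hne : ∀ k, ∃ a, a ∈ (h.coef k).support := fun k => Finsupp.support_nonempty_iff.2 (h.coef_ne_zero k)
  refine ⟨Set.ext fun k => ⟨fun hk => ?_, fun hk => ?_⟩, Set.ext fun k => ⟨fun hk => ?_, fun hk => ?_⟩,
    fun i hi j hj => ⟨(Groth.Agent.RootDLib.pairingIn_eq P i j).symm.trans (horth i hi j hj).2,
      (Groth.Agent.RootDLib.pairingIn_eq P j i).symm.trans (horth i hi j hj).1⟩⟩
  · exact h.mem_span_of_coef ((key k).resolve_right fun h1 => h1.2 hk).1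
  · rcases key k with h1 | h1
    · exact h1.2
    · obtain ⟨a, ha⟩ := hne k
      exact absurd (h.exists_coef_span Set.inter_subset_left hk ha).2 (h1.1 ha).2
  · exact h.mem_span_of_coef ((key k).resolve_left fun h1 => hk h1.2).1
  · rcases key k with h1 | h1
    · obtain ⟨a, ha⟩ := hne k
      exact absurd (h1.1 ha).2 (h.exists_coef_span Set.sdiff_subset hk ha).2
    · exact h1.2

end Groth.Agent.S5482
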