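import Groth.Statements.S5483
import Groth.Agent.RootDLib.Sub
-- import your own Groth.Agent.* helpers here

set_option autoImplicit false
open RootD

namespace Groth.Agent.S5483

/-- If a system of simple roots Δ is the disjoint union of two mutually orthogonal subsets Δ', Δ'', then
R_{Δ'} and R_{Δ''} partition the set of roots. -/
theorem result {ι M N : Type*} [AddCommGroup M] [AddCommGroup N]
    (P : RootPairing ι ℤ M N) [Finite ι] (Δ Δ' : Set ι) (hΔ : RootD.IsSimpleSys P Δ)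
    (hsub : Δ' ⊆ Δ) (horth : ∀ i ∈ Δ', ∀ j ∈ Δ \ Δ', P.IsOrthogonal i j) (k : ι) :
    (k ∈ RootD.inSpan P Δ' ∨ k ∈ RootD.inSpan P (Δ \ Δ')) ∧
      ¬ (k ∈ RootD.inSpan P Δ' ∧ k ∈ RootD.inSpan P (Δ \ Δ')) := by
  have h := (Groth.Agent.RootDLib.isSimple_iff P).2 hΔ
  have horth' : ∀ i ∈ Δ', ∀ j ∈ Δ \ Δ', P.pairingIn ℤ j i = 0 ∧ P.pairingIn ℤ i j = 0 := fun i hi j hj =>
    ⟨(Groth.Agent.RootDLib.pairingIn_eq P j i).trans (horth i hi j hj).2, (Groth.Agent.RootDLib.pairingIn_eq P i j).trans (horth i hi j hj).1⟩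
  refine ⟨?_, fun ⟨h1, h2⟩ => ?_⟩
  · rcases h.isPosSys.cover k with hk | hk
    · exact (h.support_subset_or horth' hk).imp h.mem_span_of_coef h.mem_span_of_coef
    · have hn : ↑(h.coef (Groth.Agent.RootDLib.ng P k)).support = (↑(h.coef k).support : Set ι) := by rw [h.coef_ng, Finsupp.support_neg]
      have := h.support_subset_or horth' (k := Groth.Agent.RootDLib.ng P k) hk
      rw [hn] at this
      exact this.imp h.mem_span_of_coef h.mem_span_of_coef
  · obtain ⟨a, ha⟩ := Finsupp.support_nonempty_iff.2 (h.coef_ne_zero k)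
    exact (h.exists_coef_span Set.sdiff_subset h2 ha).2 (h.exists_coef_span hsub h1 ha)

end Groth.Agent.S5483
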