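import Groth.Statements.S5484
import Groth.Agent.RootDLib.Sub3
-- import your own Groth.Agent.* helpers here

set_option autoImplicit false
open RootD

namespace Groth.Agent.S5484

open Classical in
/-- Every principal minor of the Cartan matrix (a_{α,β} = (α^v, β), α, β simple) is strictly positive. -/
theorem result {ι M N : Type*} [AddCommGroup M] [AddCommGroup N]
    (P : RootPairing ι ℤ M N) [Finite ι] (Δ : Finset ι) (hΔ : RootD.IsSimpleSys P (↑Δ : Set ι))
    (Δ' : Finset ι) (hsub : Δ' ⊆ Δ) :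
    0 < Matrix.det (Matrix.of fun (a b : ↥Δ') => P.pairing (b : ι) (a : ι)) := by
  classical
  haveI := Fintype.ofFinite ι
  have h := (Groth.Agent.RootDLib.isSimple_iff P).2 hΔ
  let B₀ : Matrix ↥Δ' ι ℤ := Matrix.of fun a k => P.pairingIn ℤ (a : ι) k
  let G : Matrix ↥Δ' ↥Δ' ℤ := B₀ * B₀.transpose
  have hG : ∀ a b : ↥Δ', G a b = Groth.Agent.RootDLib.q P (a : ι) b := fun a b => rfl
  have hne : G.det ≠ 0 := by
    rw [ne_eq, ← Matrix.exists_mulVec_eq_zero_iff]
    rintro ⟨x, hx, hx0⟩
    let c : ι →₀ ℤ := ∑ a : ↥Δ', Finsupp.single (a : ι) (x a)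
    have hca : ∀ a : ↥Δ', c a = x a := fun a => by
      rw [Finsupp.finset_sum_apply, Finset.sum_eq_single a (fun b _ hb =>
        Finsupp.single_eq_of_ne fun e => hb (Subtype.ext e.symm)) (by simp), Finsupp.single_eq_same]
    have hz : ∀ i, i ∉ Δ' → c i = 0 := fun i hi => by
      rw [Finsupp.finset_sum_apply]
      exact Finset.sum_eq_zero fun b _ => Finsupp.single_eq_of_ne fun e => hi (e ▸ b.2)
    have hc : ↑c.support ⊆ (↑Δ : Set ι) := fun a ha =>
      hsub (by_contra fun hn => Finsupp.mem_support_iff.1 ha (hz a hn))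
    have hs : ∑ i, ∑ j, c i * c j * Groth.Agent.RootDLib.q P i j = ∑ a, x a * Matrix.mulVec G x a := by
      rw [← Finset.sum_subset (Finset.subset_univ Δ') (fun i _ hi => by simp [hz i hi]), ← Finset.sum_coe_sort Δ']
      refine Finset.sum_congr rfl fun a _ => ?_
      simp only [Matrix.mulVec, dotProduct, Finset.mul_sum]
      rw [← Finset.sum_subset (Finset.subset_univ Δ') (fun i _ hi => by simp [hz i hi]), ← Finset.sum_coe_sort Δ']
      refine Finset.sum_congr rfl fun b _ => ?_
      rw [hca, hca, hG]; ring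
    have h0 : c = 0 := h.comb_inj hc (by simp) (by
      rw [Groth.Agent.RootDLib.comb_eq_zero_of_nonpos P c c rfl (by rw [hs]; simp [hx0]), map_zero])
    exact hx (funext fun a => by rw [← hca, h0]; rfl)
  have hpos : 0 < G.det := by
    refine lt_of_le_of_ne ?_ hne.symm
    have h1 : 0 ≤ (G.map (Int.cast : ℤ → ℝ)).det := by
      refine Matrix.PosSemidef.det_nonneg ?_
      rw [show G.map (Int.cast : ℤ → ℝ) = B₀.map (Int.cast : ℤ → ℝ) * (B₀.map (Int.cast : ℤ → ℝ)).conjTranspose by
        ext a b; simp [G, Matrix.mul_apply]]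
      exact Matrix.posSemidef_self_mul_conjTranspose _
    rw [← Int.cast_det] at h1
    exact_mod_cast h1
  have hA : Matrix.diagonal (fun a : ↥Δ' => Groth.Agent.RootDLib.q P (a : ι) a) *
      Matrix.of (fun (a b : ↥Δ') => P.pairing (b : ι) (a : ι)) = (2 : ℤ) • G := by
    ext a b
    rw [Matrix.diagonal_mul, Matrix.of_apply, Matrix.smul_apply, hG, smul_eq_mul, Groth.Agent.RootDLib.q_comm P (a : ι) b,
      Groth.Agent.RootDLib.two_mul_q, Groth.Agent.RootDLib.pairingIn_eq, mul_comm]
  have h2 := congrArg Matrix.det hA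
  rw [Matrix.det_mul, Matrix.det_diagonal, Matrix.det_smul] at h2
  have hp : 0 < ∏ a : ↥Δ', Groth.Agent.RootDLib.q P (a : ι) a := Finset.prod_pos fun a _ => Groth.Agent.RootDLib.q_self_pos P _
  refine (mul_pos_iff_of_pos_left hp).1 ?_
  rw [h2]; positivity

end Groth.Agent.S5484
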