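import Groth.Statements.S5485
import Groth.Agent.RootDLib.Sub3
-- import your own Groth.Agent.* helpers here

set_option autoImplicit false
open RootD

namespace Groth.Agent.S5485

/-- If Δ is a system of simple roots then ind(Δ^v), the set of coroots of Δ with each divisible coroot
replaced by its half, is a system of simple coroots (a system of simple roots of the dual datum). -/
theorem result {ι M N : Type*} [AddCommGroup M] [AddCommGroup N]
    (P : RootPairing ι ℤ M N) [Finite ι] (Δ : Set ι) (hΔ : RootD.IsSimpleSys P Δ) :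
    RootD.IsSimpleSys P.flip {j : ι | ∃ i ∈ Δ, (j = i ∧ RootD.IsIndiv P.flip i) ∨ (2 : ℤ) • P.coroot j = P.coroot i} := by
  classical
  haveI := Fintype.ofFinite ι
  have h := (Groth.Agent.RootDLib.isSimple_iff P).2 hΔ
  have hset : {j : ι | ∃ i ∈ Δ, (j = i ∧ RootD.IsIndiv P.flip i) ∨ (2 : ℤ) • P.coroot j = P.coroot i} = h.dual := by
    ext j
    simp only [RootD.IsIndiv, Groth.Agent.RootDLib.IsSimple.dual, Set.mem_ofPred_eq]
    refine exists_congr fun i => and_congr_right fun _ => or_congr (and_congr_right fun _ => ?_) Iff.rfl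
    exact forall_congr' fun l => ne_comm
  rw [hset]
  refine ⟨h.linearIndepOn_dual, fun k => ?_⟩
  obtain ⟨c, hc, hck⟩ := (Finsupp.mem_span_image_iff_linearCombination ℤ).1 (h.coroot_mem_span_dual k)
  rw [Finsupp.mem_supported] at hc
  choose! J T hJ hT hJT using fun a (ha : a ∈ Δ) => h.exists_dual_rep ha
  let d : ι →₀ ℤ := ∑ a ∈ (h.coef k).support, Finsupp.single (J a) (h.coef k a * Groth.Agent.RootDLib.q P a a * T a)
  have hd : ↑d.support ⊆ h.dual := fun b hb => by
    by_contra hn
    refine Finsupp.mem_support_iff.1 hb ?_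
    rw [Finsupp.finset_sum_apply]
    exact Finset.sum_eq_zero fun a ha => Finsupp.single_eq_of_ne fun e => hn (e ▸ hJ a (h.coef_support k ha))
  have hde : Finsupp.linearCombination ℤ P.coroot d = Groth.Agent.RootDLib.q P k k • P.coroot k := by
    rw [map_sum, h.smul_coroot_coef, ← Finset.sum_subset (Finset.subset_univ (h.coef k).support)
      (fun x _ hx => by rw [Finsupp.notMem_support_iff.1 hx, zero_mul, zero_smul])]
    refine Finset.sum_congr rfl fun a ha => ?_
    rw [Finsupp.linearCombination_single, hJT a (h.coef_support k ha), smul_smul]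
  have hcd : d = Groth.Agent.RootDLib.q P k k • c := linearIndepOn_iffₛ.1 h.linearIndepOn_dual d (by simpa [Finsupp.mem_supported] using hd)
    _ (Finsupp.mem_supported _ _ |>.2 ((Finset.coe_subset.2 Finsupp.support_smul).trans hc))
    (by rw [hde, LinearMap.map_smul, hck])
  have hTp : ∀ a ∈ Δ, 0 < T a := fun a ha => by rcases hT a ha with ⟨e, -⟩ | e <;> omega
  rcases h.coef_sign k with hs | hs
  · refine .inl ((Groth.Agent.RootDLib.mem_natSpan_iff P.flip).2 ⟨c, hc, fun b => ?_, hck⟩)
    refine (mul_nonneg_iff_of_pos_left (Groth.Agent.RootDLib.q_self_pos P k)).1 ?_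
    rw [← smul_eq_mul, ← Finsupp.smul_apply, ← hcd, Finsupp.finset_sum_apply]
    refine Finset.sum_nonneg fun a ha => ?_
    rw [Finsupp.single_apply]
    split
    · exact mul_nonneg (mul_nonneg (hs a) (Groth.Agent.RootDLib.q_self_pos P a).le) (hTp a (h.coef_support k ha)).le
    · rfl
  · refine .inr ((Groth.Agent.RootDLib.mem_natSpan_iff P.flip).2 ⟨-c, by rw [Finsupp.support_neg]; exact hc, fun b => ?_,
      by rw [map_neg]; exact congrArg Neg.neg hck⟩)
    rw [Finsupp.neg_apply, neg_nonneg]
    refine (mul_nonpos_iff_pos_imp_nonpos.1 (?_ : Groth.Agent.RootDLib.q P k k * c b ≤ 0)).1 (Groth.Agent.RootDLib.q_self_pos P k)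
    rw [← smul_eq_mul, ← Finsupp.smul_apply, ← hcd, Finsupp.finset_sum_apply]
    refine Finset.sum_nonpos fun a ha => ?_
    rw [Finsupp.single_apply]
    split
    · exact mul_nonpos_of_nonpos_of_nonneg (mul_nonpos_of_nonpos_of_nonneg (hs a) (Groth.Agent.RootDLib.q_self_pos P a).le)
        (hTp a (h.coef_support k ha)).le
    · rfl

end Groth.Agent.S5485
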