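import Groth.Statements.S5486
import Groth.Agent.RootDLib.Sub
-- import your own Groth.Agent.* helpers here

set_option autoImplicit false
open RootD

namespace Groth.Agent.S5486

/-- For orthogonal roots α, β, the sum α + β is a root if and only if the difference α - β is. -/
theorem result {ι M N : Type*} [AddCommGroup M] [AddCommGroup N]
    (P : RootPairing ι ℤ M N) [Finite ι] (i j : ι) (h : P.IsOrthogonal i j) :
    P.root i + P.root j ∈ Set.range P.root ↔ P.root i - P.root j ∈ Set.range P.root := by
  have key : ∀ x : M, x ∈ Set.range P.root → P.reflection j x ∈ Set.range P.root := by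
    rintro _ ⟨k, rfl⟩
    exact ⟨P.reflectionPerm j k, P.root_reflectionPerm j k⟩
  constructor <;> intro hx <;> have := key _ hx <;>
    simpa [map_add, map_sub, h.reflection_apply_left, sub_eq_add_neg] using this

end Groth.Agent.S5486
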