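import Groth.Statements.S5487
import Groth.Agent.RootDLib.Irred
-- import your own Groth.Agent.* helpers here

set_option autoImplicit false
open RootD

namespace Groth.Agent.S5487

/-- For non-orthogonal roots α, β one has ℓ(α) ℓ(α^v) = ℓ(β) ℓ(β^v), where ℓ is the canonical quadratic
form of the datum and of its dual. -/
theorem result {ι M N : Type*} [AddCommGroup M] [AddCommGroup N]
    (P : RootPairing ι ℤ M N) [Finite ι] [Fintype ι] (i j : ι) (h : ¬ P.IsOrthogonal i j) :
    P.RootForm (P.root i) (P.root i) * P.CorootForm (P.coroot i) (P.coroot i) =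
      P.RootForm (P.root j) (P.root j) * P.CorootForm (P.coroot j) (P.coroot j) := by
  haveI := Groth.Agent.RootDLib.isTorsionFree P
  haveI := Groth.Agent.RootDLib.isTorsionFree P.flip
  have hne : P.pairingIn ℤ i j ≠ 0 := fun h0 => h ⟨(Groth.Agent.RootDLib.pairingIn_eq P i j).symm.trans h0,
    RootPairing.pairing_eq_zero_iff.1 ((Groth.Agent.RootDLib.pairingIn_eq P i j).symm.trans h0)⟩
  have hc : ∀ a, P.CorootForm (P.coroot a) (P.coroot a) = Groth.Agent.RootDLib.q P.flip a a := fun a => Groth.Agent.RootDLib.rootForm_eq_q P.flip a a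
  rw [Groth.Agent.RootDLib.rootForm_eq_q, Groth.Agent.RootDLib.rootForm_eq_q, hc, hc]
  have h1 := Groth.Agent.RootDLib.q_mul_swap P i j
  have h2 := Groth.Agent.RootDLib.q_mul_swap P.flip i j
  have e1 : P.flip.pairingIn ℤ i j = P.pairingIn ℤ j i := by rw [Groth.Agent.RootDLib.pairingIn_eq, Groth.Agent.RootDLib.pairingIn_eq]; rfl
  have e2 : P.flip.pairingIn ℤ j i = P.pairingIn ℤ i j := by rw [Groth.Agent.RootDLib.pairingIn_eq, Groth.Agent.RootDLib.pairingIn_eq]; rfl
  rw [e1, e2] at h2
  refine mul_left_cancel₀ (mul_ne_zero hne (Groth.Agent.RootDLib.pairingIn_ne_zero_symm P hne)) ?_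
  linear_combination (P.pairingIn ℤ i j * Groth.Agent.RootDLib.q P.flip i i) * h1 + (P.pairingIn ℤ i j * Groth.Agent.RootDLib.q P j j) * h2

end Groth.Agent.S5487
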