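import Groth.Statements.S5489
import Groth.Agent.RootDLib.Sub
-- import your own Groth.Agent.* helpers here

set_option autoImplicit false
open RootD

namespace Groth.Agent.S5489

/-- If a root α, distinct from roots α_1, ..., α_n, is a non-negative rational combination of them, then
some α_l with non-zero coefficient has (α^v, α_l) > 0 and α - α_l a root. -/
theorem result {ι M N : Type*} [AddCommGroup M] [AddCommGroup N]
    (P : RootPairing ι ℤ M N) [Finite ι] {n : ℕ} (a : Fin n → ι) (m : Fin n → ℕ)
    (k : ι) (hne : ∀ l, a l ≠ k) (c : ℕ) (hc : 0 < c) (hk : c • P.root k = ∑ l, m l • P.root (a l)) :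
    ∃ l : Fin n, m l ≠ 0 ∧ 0 < P.pairing (a l) k ∧ P.root k - P.root (a l) ∈ Set.range P.root := by
  classical
  haveI := Fintype.ofFinite ι
  obtain ⟨b, hb, hp, hp'⟩ := Groth.Agent.RootDLib.exists_pos_of_comb P (k := k) (n := (c : ℤ)) (by exact_mod_cast hc)
    (c := ∑ l, Finsupp.single (a l) (m l : ℤ)) (fun i => by
      rw [Finsupp.finset_sum_apply]
      exact Finset.sum_nonneg fun l _ => by rw [Finsupp.single_apply]; split <;> simp)
    (by simp only [map_sum, Groth.Agent.RootDLib.comb_single, natCast_zsmul, hk])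
  rw [Finsupp.finset_sum_apply] at hb
  obtain ⟨l, -, hl⟩ := Finset.exists_ne_zero_of_sum_ne_zero hb.ne'
  rw [Finsupp.single_apply] at hl
  split at hl
  · rename_i e
    subst e
    refine ⟨l, by simpa using hl, Groth.Agent.RootDLib.pairingIn_eq P (a l) k ▸ hp, ?_⟩
    obtain ⟨j, hj⟩ := Groth.Agent.RootDLib.exists_root_sub P hp' (hne l).symm
    exact ⟨j, hj⟩
  · exact absurd rfl hl

end Groth.Agent.S5489
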