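import Groth.Statements.S5491
import Groth.Agent.RootDLib.Sub3
-- import your own Groth.Agent.* helpers here

set_option autoImplicit false
open RootD

namespace Groth.Agent.S5491

open Classical in
/-- With ρ^v the half-sum of the positive coroots, the order (height) of any root α relative to the
simple system equals (ρ^v, α); equivalently 2·height(α) = Σ_{β > 0} (β^v, α). -/
theorem result {ι M N : Type*} [AddCommGroup M] [AddCommGroup N]
    (P : RootPairing ι ℤ M N) [Finite ι] [Fintype ι] [P.IsReduced] (b : P.Base) (i : ι) :
    2 * b.height i = ∑ j, if b.IsPos j then P.pairing i j else 0 := by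
  classical
  have hΔ := Groth.Agent.RootDLib.isSimple_base P b
  let σ : M → ℤ := fun x => ∑ j ∈ Finset.univ.filter (· ∈ RootD.posOf P (b.support : Set ι)), P.coroot' j x
  have hσ : ∀ l, σ (P.root l) = ∑ j, if b.IsPos j then P.pairing l j else 0 := fun l => by
    rw [← Finset.sum_filter]
    exact Finset.sum_congr (Finset.filter_congr fun j _ => (Groth.Agent.RootDLib.isPos_iff_mem_posOf P b j).symm)
      fun j _ => P.root_coroot'_eq_pairing j l
  have hadd : ∀ x y, σ (x + y) = σ x + σ y := fun x y => by simp [σ, Finset.sum_add_distrib]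
  have hpos : ∀ l, b.IsPos l → 2 * b.height l = σ (P.root l) := fun l hl => by
    refine RootPairing.Base.IsPos.induction_on_add (p := fun l => 2 * b.height l = σ (P.root l)) hl (fun s hs => ?_)
      fun a c l e ha hc => ?_
    · rw [RootPairing.Base.height_one_of_mem_support hs, mul_one, ← Groth.Agent.RootDLib.sum_pairing_pos_eq_two P hΔ (Finset.mem_coe.2 hs)]
      exact Finset.sum_congr rfl fun j _ => (Groth.Agent.RootDLib.pairingIn_eq P s j).trans (P.root_coroot'_eq_pairing j s).symm
    · have hc2 : 2 * b.height c = σ (P.root c) := by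
        rw [RootPairing.Base.height_one_of_mem_support hc, mul_one, ← Groth.Agent.RootDLib.sum_pairing_pos_eq_two P hΔ (Finset.mem_coe.2 hc)]
        exact Finset.sum_congr rfl fun j _ => (Groth.Agent.RootDLib.pairingIn_eq P c j).trans (P.root_coroot'_eq_pairing j c).symm
      rw [b.height_add e, e, hadd, mul_add, ha, hc2]
  rw [← hσ]
  by_cases hi : b.IsPos i
  · exact hpos i hi
  · letI := P.indexNeg
    have h1 := hpos _ ((RootPairing.Base.IsPos.neg_iff_not b i).2 hi)
    rw [b.height_reflectionPerm_self] at h1
    have h2 : σ (P.root (-i)) = -σ (P.root i) := by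
      show σ (P.root (Groth.Agent.RootDLib.ng P i)) = _
      simp [σ, Groth.Agent.RootDLib.root_ng]
    omega

end Groth.Agent.S5491
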