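import Groth.Statements.S5493
-- import your own Groth.Agent.* helpers here

set_option autoImplicit false
open RootD

namespace Groth.Agent.S5493

section Aux

open RootPairing

variable {ι M N ι' M' N' : Type*} [AddCommGroup M] [AddCommGroup N] [AddCommGroup M'] [AddCommGroup N']
  {P : RootPairing ι ℤ M N} {P' : RootPairing ι' ℤ M' N'} [Finite ι] [P.IsReduced]
  (b : P.Base) {b' : P'.Base} (u : ↥b.support ≃ ↥b'.support)

/-- A linear map matching the simple roots matches all roots and their coroot functionals. -/
theorem exists_image (had : Submodule.span ℤ (Set.range P.root) = ⊤) (f : M →ₗ[ℤ] M')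
    (hf : ∀ i : ↥b.support, f (P.root i) = P'.root (u i : ι'))
    (hu : ∀ i j : ↥b.support, P.pairing (i : ι) (j : ι) = P'.pairing (u i : ι') (u j : ι')) (k : ι) :
    ∃ l : ι', P'.root l = f (P.root k) ∧ ∀ x, P'.coroot' l (f x) = P.coroot' k x := by
  have hsimple : ∀ j (hj : j ∈ b.support), ∀ x, P'.coroot' (u ⟨j, hj⟩ : ι') (f x) = P.coroot' j x := fun j hj => by
    have : (P'.coroot' (u ⟨j, hj⟩ : ι')).comp f = P.coroot' j := by
      refine LinearMap.ext_on (s := P.root '' b.support) (by rw [b.span_root_support]; exact had) ?_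
      rintro _ ⟨i, hi, rfl⟩
      show P'.coroot' _ (f (P.root i)) = _
      rw [hf ⟨i, hi⟩]
      exact (hu ⟨i, hi⟩ ⟨j, hj⟩).symm
    exact fun x => LinearMap.congr_fun this x
  induction k using b.induction_reflect with
  | h₀ i ih =>
    obtain ⟨l, h1, h2⟩ := ih
    refine ⟨P'.reflectionPerm l l, by rw [root_reflectionPerm, reflection_apply_self, h1, root_reflectionPerm, reflection_apply_self, map_neg], fun x => ?_⟩
    have e1 : P.coroot (P.reflectionPerm i i) = -P.coroot i := by simp
    have e2 : P'.coroot (P'.reflectionPerm l l) = -P'.coroot l := by simp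
    simp only [RootPairing.coroot', e1, e2, map_neg, LinearMap.neg_apply]
    exact congrArg Neg.neg (h2 x)
  | h₁ i hi => exact ⟨u ⟨i, hi⟩, (hf ⟨i, hi⟩).symm, hsimple i hi⟩
  | h₂ i j ih hj =>
    obtain ⟨l, h1, h2⟩ := ih
    have hrefl : ∀ x, f (P.reflection j x) = P'.reflection (u ⟨j, hj⟩ : ι') (f x) := fun x => by
      rw [reflection_apply, reflection_apply, map_sub, map_smul, hsimple j hj, hf ⟨j, hj⟩]
    refine ⟨P'.reflectionPerm (u ⟨j, hj⟩ : ι') l, ?_, fun x => ?_⟩
    · rw [root_reflectionPerm, h1, root_reflectionPerm, hrefl]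
    · rw [coroot'_reflectionPerm, coroot'_reflectionPerm, LinearMap.comp_apply, LinearMap.comp_apply,
        LinearEquiv.coe_coe, LinearEquiv.coe_coe, ← hrefl, h2]

end Aux

/-- Adjoint case; the simply connected case is dual: two reduced adjoint root data with systems of
simple roots Δ, Δ' and a bijection u : Δ → Δ' respecting the Cartan matrices are isomorphic through
a unique isomorphism inducing u on Δ. -/
theorem result {ι M N ι' M' N' : Type*} [AddCommGroup M] [AddCommGroup N] [AddCommGroup M'] [AddCommGroup N']
    (P : RootPairing ι ℤ M N) (P' : RootPairing ι' ℤ M' N') [Finite ι] [Finite ι'] [P.IsReduced] [P'.IsReduced]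
    (had : Submodule.span ℤ (Set.range P.root) = ⊤) (had' : Submodule.span ℤ (Set.range P'.root) = ⊤)
    (b : P.Base) (b' : P'.Base) (u : ↥b.support ≃ ↥b'.support)
    (hu : ∀ i j : ↥b.support, P.pairing (i : ι) (j : ι) = P'.pairing (u i : ι') (u j : ι')) :
    ∃! e : RootPairing.Equiv P P', ∀ i : ↥b.support, e.indexEquiv (i : ι) = (u i : ι') := by
  classical
  haveI : Module.IsReflexive ℤ M := .of_isPerfPair P.toLinearMap
  haveI : Module.IsReflexive ℤ M' := .of_isPerfPair P'.toLinearMap
  let B : Module.Basis ↥b.support ℤ M := Module.Basis.mk b.linearIndepOn_root (by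
    refine le_trans (b.span_root_support.trans had).ge (Submodule.span_mono ?_)
    rintro _ ⟨i, hi, rfl⟩
    exact ⟨⟨i, hi⟩, rfl⟩)
  let B' : Module.Basis ↥b'.support ℤ M' := Module.Basis.mk b'.linearIndepOn_root (by
    refine le_trans (b'.span_root_support.trans had').ge (Submodule.span_mono ?_)
    rintro _ ⟨i, hi, rfl⟩
    exact ⟨⟨i, hi⟩, rfl⟩)
  have hB : ∀ i, B i = P.root i := fun i => by simp [B]
  let F : M ≃ₗ[ℤ] M' := B.equiv B' u
  have hF : ∀ i : ↥b.support, F (P.root i) = P'.root (u i : ι') := fun i => by
    rw [← hB]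
    simp [F, B', Module.Basis.equiv_apply]
  have hF' : ∀ i : ↥b'.support, F.symm (P'.root i) = P.root (u.symm i : ι) := fun i => by
    rw [LinearEquiv.symm_apply_eq, hF, _root_.Equiv.apply_symm_apply]
  choose g hg1 hg2 using exists_image b u had F.toLinearMap hF hu
  choose g' hg1' hg2' using exists_image b' u.symm had' F.symm.toLinearMap hF' fun i j => by
    rw [hu, _root_.Equiv.apply_symm_apply, _root_.Equiv.apply_symm_apply]
  let e : ι ≃ ι' :=
    { toFun := g
      invFun := g'
      left_inv := fun k => P.root.injective (by rw [hg1', hg1]; simp)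
      right_inv := fun k => P'.root.injective (by rw [hg1, hg1']; simp) }
  let E : RootPairing.Equiv P P' :=
    { weightMap := F.toLinearMap
      coweightMap := (P'.flip.toPerfPair.trans (F.dualMap.trans P.flip.toPerfPair.symm)).toLinearMap
      indexEquiv := e
      weight_coweight_transpose := by ext; simp
      root_weightMap := funext fun k => (hg1 k).symm
      coroot_coweightMap := funext fun l => by
        obtain ⟨k, rfl⟩ := e.surjective l
        simp only [Function.comp_apply, _root_.Equiv.symm_apply_apply]
        refine P.flip.toPerfPair.injective (LinearMap.ext fun x => ?_)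
        rw [LinearEquiv.coe_coe, LinearEquiv.trans_apply, LinearEquiv.trans_apply, LinearEquiv.apply_symm_apply]
        exact hg2 k x
      bijective_weightMap := F.bijective
      bijective_coweightMap := LinearEquiv.bijective _ }
  have hE : ∀ i : ↥b.support, g (i : ι) = (u i : ι') := fun i => P'.root.injective (by
    rw [hg1]; exact hF i)
  refine ⟨E, hE, fun E' hE' => ?_⟩
  have hw : E'.weightMap = F.toLinearMap := B.ext fun i => by
    show E'.weightMap (B i) = F (B i)
    rw [hB, RootPairing.Hom.root_weightMap_apply, hE', hF]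
  have hc : E'.coweightMap = E.coweightMap := LinearMap.ext fun n => P.flip.toPerfPair.injective <| by
    rw [← RootPairing.Hom.weight_coweight_transpose_apply P P' n E'.toHom,
      ← RootPairing.Hom.weight_coweight_transpose_apply P P' n E.toHom]
    show E'.weightMap.dualMap _ = F.toLinearMap.dualMap _
    rw [hw]
  have hi : E'.indexEquiv = E.indexEquiv := _root_.Equiv.ext fun k => P'.root.injective <| by
    rw [← RootPairing.Hom.root_weightMap_apply P P' k E'.toHom, ← RootPairing.Hom.root_weightMap_apply P P' k E.toHom]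
    show E'.weightMap _ = F.toLinearMap _
    rw [hw]
  ext m
  · exact LinearMap.congr_fun hw m
  · exact LinearMap.congr_fun hc m
  · exact _root_.Equiv.ext_iff.1 hi m

end Groth.Agent.S5493
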