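import Groth.Statements.S5506
import Groth.Agent.RootDLib.Sub
-- import your own Groth.Agent.* helpers here

set_option autoImplicit false
open RootD

namespace Groth.Agent.S5506

/-- The class of a root under 'joined by a chain of pairwise non-orthogonal roots' is closed and
symmetric, and so is its complement; these classes are the irreducible components. -/
theorem result {ι M N : Type*} [AddCommGroup M] [AddCommGroup N]
    (P : RootPairing ι ℤ M N) [Finite ι] (i : ι) :
    RootD.IsClosedSub P {j : ι | Relation.ReflTransGen (fun a b : ι => ¬ P.IsOrthogonal a b) i j} ∧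
      RootD.IsSymmSub P {j : ι | Relation.ReflTransGen (fun a b : ι => ¬ P.IsOrthogonal a b) i j} ∧
      RootD.IsClosedSub P {j : ι | Relation.ReflTransGen (fun a b : ι => ¬ P.IsOrthogonal a b) i j}ᶜ ∧
      RootD.IsSymmSub P {j : ι | Relation.ReflTransGen (fun a b : ι => ¬ P.IsOrthogonal a b) i j}ᶜ := by
  classical
  haveI := Fintype.ofFinite ι
  have hsymm : ∀ a : ι, ¬ P.IsOrthogonal a (Groth.Agent.RootDLib.ng P a) := fun a h => by
    have := h.2
    rw [← RootPairing.root_coroot'_eq_pairing, Groth.Agent.RootDLib.root_ng, map_neg, RootPairing.root_coroot'_eq_pairing,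
      RootPairing.pairing_same] at this
    omega
  have hadd : ∀ {a b k : ι}, P.root k = P.root a + P.root b → ¬ P.IsOrthogonal k a ∨ ¬ P.IsOrthogonal k b := by
    intro a b k e
    by_contra hh
    simp only [not_or, not_not] at hh
    have h2 : P.pairing k k = 0 := by
      obtain ⟨⟨h1, h2⟩, ⟨h3, h4⟩⟩ := hh
      rw [← RootPairing.root_coroot'_eq_pairing, e, map_add, RootPairing.root_coroot'_eq_pairing,
        RootPairing.root_coroot'_eq_pairing, h2, h4, add_zero]
    simp [RootPairing.pairing_same] at h2
  have sy : ∀ {a b : ι}, ¬ P.IsOrthogonal a b → ¬ P.IsOrthogonal b a := fun h h' => h h'.symm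
  refine ⟨?_, fun a ha => ha.tail (hsymm a), ?_, ?_⟩
  · intro a b k ha hb e
    rcases hadd e with h | h
    · exact Relation.ReflTransGen.tail ha (sy h)
    · exact Relation.ReflTransGen.tail hb (sy h)
  · intro a b k ha hb e hk
    rcases hadd e with h | h
    · exact ha (Relation.ReflTransGen.tail hk h)
    · exact hb (Relation.ReflTransGen.tail hk h)
  · intro a ha hn
    exact ha (Relation.ReflTransGen.tail hn (sy (hsymm a)))

end Groth.Agent.S5506
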