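import Groth.Statements.S5494
import Groth.Agent.RootDLib.Sub2
import Groth.Agent.S5482
import Groth.Agent.S5506
-- import your own Groth.Agent.* helpers here

set_option autoImplicit false
open RootD

namespace Groth.Agent.S5494

/-- If a system of simple roots has no partition into two non-empty orthogonal subsets, then any two
roots are linked by a chain of roots with consecutive members non-orthogonal. -/
theorem result {ι M N : Type*} [AddCommGroup M] [AddCommGroup N]
    (P : RootPairing ι ℤ M N) [Finite ι] (Δ : Set ι) (hΔ : RootD.IsSimpleSys P Δ)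
    (hconn : ∀ Δ' : Set ι, Δ' ⊆ Δ → (∀ i ∈ Δ', ∀ j ∈ Δ \ Δ', P.IsOrthogonal i j) → Δ' = ∅ ∨ Δ' = Δ)
    (i j : ι) : Relation.ReflTransGen (fun a b : ι => ¬ P.IsOrthogonal a b) i j := by
  obtain ⟨h1, h2, h3, h4⟩ := Groth.Agent.S5506.result P i
  set C : Set ι := {j : ι | Relation.ReflTransGen (fun a b : ι => ¬ P.IsOrthogonal a b) i j}
  obtain ⟨e1, -, ho⟩ := Groth.Agent.S5482.result P Δ hΔ C h1 h2 h3 h4
  have h := (Groth.Agent.RootDLib.isSimple_iff P).2 hΔ
  rcases hconn (Δ ∩ C) Set.inter_subset_left (fun a ha b hb => ho a ha b ⟨hb.1, fun hbC => hb.2 ⟨hb.1, hbC⟩⟩) with e | e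
  · exfalso
    have hi : i ∈ RootD.inSpan P (Δ ∩ C) := e1 ▸ (Relation.ReflTransGen.refl : i ∈ C)
    rw [e] at hi
    exact P.ne_zero i (by simpa [RootD.inSpan] using hi)
  · rw [e] at e1
    show j ∈ C
    rw [e1]
    exact h.mem_span_of_coef (h.coef_support j)

end Groth.Agent.S5494
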