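import Groth.Statements.S5495
import Groth.Agent.RootDLib.Sub
-- import your own Groth.Agent.* helpers here

set_option autoImplicit false
open RootD

namespace Groth.Agent.S5495

/-- If α is an indivisible root and kα is a root for a rational k, then k is an integer. -/
theorem result {ι M N : Type*} [AddCommGroup M] [AddCommGroup N]
    (P : RootPairing ι ℤ M N) [Finite ι] (i j : ι) (hind : RootD.IsIndiv P i) (a b : ℤ) (hb : b ≠ 0)
    (h : b • P.root j = a • P.root i) : b ∣ a := by
  have hli : ¬ LinearIndependent ℤ ![P.root i, P.root j] := fun hh =>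
    hb (by have := (LinearIndependent.pair_iff.1 hh a (-b) (by rw [neg_smul, h, add_neg_cancel])).2; omega)
  have h0 : ∀ {m : ℤ}, m • P.root i = 0 → m = 0 := fun {m} e =>
    by_contra fun hm => P.ne_zero i (Groth.Agent.RootDLib.zsmul_eq_zero P hm e)
  have hi := (Groth.Agent.RootDLib.isIndiv_iff P).1 hind
  rcases Groth.Agent.RootDLib.cases_of_not_linearIndependent P hli with c | c | c | c | c | c
  · rw [c] at h; exact ⟨1, by linarith [h0 (m := a - b) (by linear_combination (norm := module) -h)]⟩
  · rw [c] at h; exact ⟨-1, by linarith [h0 (m := a + b) (by linear_combination (norm := module) -h)]⟩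
  · rw [c] at h; exact ⟨2, by linarith [h0 (m := a - 2 * b) (by linear_combination (norm := module) -h)]⟩
  · rw [c] at h; exact ⟨-2, by linarith [h0 (m := a + 2 * b) (by linear_combination (norm := module) -h)]⟩
  · exact absurd c (hi j)
  · exact absurd (show P.root i = (2 : ℤ) • P.root (Groth.Agent.RootDLib.ng P j) by rw [Groth.Agent.RootDLib.root_ng, smul_neg]; exact c) (hi _)

end Groth.Agent.S5495
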