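import Groth.Statements.S5496
import Groth.Agent.RootDLib.Irred
-- import your own Groth.Agent.* helpers here

set_option autoImplicit false
open RootPairing
open scoped Pointwise
open RootD

namespace Groth.Agent.S5496

/-- For non-proportional roots α, β let n be the least integer n > 0 with (s_α s_β)^n(α) = α and (s_α
s_β)^n(β) = β. Then the subgroup W_{α,β} generated by s_α and s_β is presented by s_α² = s_β² = (s_α
s_β)^n = 1; equivalently it has exactly 2n elements. -/
theorem result {ι M N : Type*} [AddCommGroup M] [AddCommGroup N]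
    (P : RootPairing ι ℤ M N) [Finite ι] (i j : ι) (hli : LinearIndependent ℤ ![P.root i, P.root j])
    (n : ℕ) (hn : IsLeast {m : ℕ | 0 < m ∧ ((Equiv.reflection P i * Equiv.reflection P j) ^ m) • i = i ∧
      ((Equiv.reflection P i * Equiv.reflection P j) ^ m) • j = j} n) :
    Nat.card (Subgroup.closure ({Equiv.reflection P i, Equiv.reflection P j} : Set P.Aut)) = 2 * n := by
  classical
  haveI := Groth.Agent.RootDLib.isAddTorsionFree P
  obtain ⟨S, hS⟩ := Groth.Agent.RootDLib.exists_isPosSys_int P
  set s := RootPairing.Equiv.reflection P i with hs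
  set t := RootPairing.Equiv.reflection P j with ht
  set r := s * t with hr
  obtain ⟨⟨hn0, hni, hnj⟩, hleast⟩ := hn
  have hss : s * s = 1 := Groth.Agent.RootDLib.refl_mul_self P i
  have htt : t * t = 1 := Groth.Agent.RootDLib.refl_mul_self P j
  have hH : ∀ g ∈ Subgroup.closure ({s, t} : Set P.Aut), g ∈ P.weylGroup ∧
      ∀ x : M, g • x - x ∈ Submodule.span ℤ ({P.root i, P.root j} : Set M) := fun g hg => by
    induction hg using Subgroup.closure_induction with
    | mem g hg =>
      rcases hg with rfl | rfl <;> refine ⟨P.reflection_mem_weylGroup _, fun x => ?_⟩ <;>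
        rw [RootPairing.Equiv.reflection_smul, RootPairing.reflection_apply, sub_sub_cancel_left] <;>
        exact neg_mem (Submodule.smul_mem _ _ (Submodule.subset_span (by simp)))
    | one => exact ⟨one_mem _, fun x => by simp⟩
    | mul a b _ _ ha hb =>
      exact ⟨mul_mem ha.1 hb.1, fun x => by rw [mul_smul, ← sub_add_sub_cancel]; exact add_mem (ha.2 _) (hb.2 x)⟩
    | inv a _ ha =>
      refine ⟨inv_mem ha.1, fun x => ?_⟩
      have := neg_mem (ha.2 (a⁻¹ • x))
      rwa [smul_inv_smul, neg_sub] at this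
  have hsmem : s ∈ Subgroup.closure ({s, t} : Set P.Aut) := Subgroup.subset_closure (by simp)
  have htmem : t ∈ Subgroup.closure ({s, t} : Set P.Aut) := Subgroup.subset_closure (by simp)
  have hrmem : r ∈ Subgroup.closure ({s, t} : Set P.Aut) := mul_mem hsmem htmem
  have hrn : r ^ n = 1 := by
    refine (Groth.Agent.RootDLib.isSimple_simples hS).eq_one_of_fix (hH _ (pow_mem hrmem n)).1 fun k => ?_
    set h := r ^ n with hh
    have hfix : ∀ v ∈ Submodule.span ℤ ({P.root i, P.root j} : Set M), h • v = v := fun v hv => by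
      obtain ⟨a, b, rfl⟩ := Submodule.mem_span_pair.1 hv
      rw [smul_add, smul_comm h a, smul_comm h b, ← Groth.Agent.RootDLib.root_smul, ← Groth.Agent.RootDLib.root_smul, hni, hnj]
    have hv := hfix _ ((hH _ (pow_mem hrmem n)).2 (P.root k))
    have hN : ∀ N : ℕ, h ^ N • P.root k = P.root k + N • (h • P.root k - P.root k) := fun N => by
      induction N with
      | zero => simp
      | succ N ih =>
        rw [pow_succ', mul_smul, ih, smul_add, smul_comm h N, hv, succ_nsmul]
        abel
    let π := MulAction.toPermHom P.Aut ι h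
    have hπ : h ^ orderOf π • k = k := by
      show MulAction.toPermHom P.Aut ι (h ^ orderOf π) k = k
      rw [map_pow, pow_orderOf_eq_one]; rfl
    have := hN (orderOf π)
    rw [← Groth.Agent.RootDLib.root_smul, hπ, left_eq_add, smul_eq_zero, sub_eq_zero, ← Groth.Agent.RootDLib.root_smul] at this
    exact P.root.injective (this.resolve_left (orderOf_pos π).ne')
  have hord : orderOf r = n := (orderOf_eq_iff hn0).2 ⟨hrn, fun m hm hm0 h =>
    hm.not_ge (hleast ⟨hm0, by rw [h, one_smul], by rw [h, one_smul]⟩)⟩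
  have hs1 : ∀ a : ι, RootPairing.Equiv.reflection P a ≠ 1 := fun a h =>
    Groth.Agent.RootDLib.ng_ne P a (by rw [← Groth.Agent.RootDLib.refl_self, show Groth.Agent.RootDLib.refl P a = 1 from h, one_smul])
  have hnot : s ∉ Subgroup.zpowers r := by
    rintro ⟨a, ha⟩
    replace ha : r ^ a = s := ha
    have hc : s * r = r * s := by rw [← ha]; exact ((Commute.refl r).zpow_left a).eq
    have hts : t = r * s := by rw [← hc, hr, ← mul_assoc, hss, one_mul]
    have hr2 : r ^ (2 : ℤ) = 1 := by
      rw [zpow_two]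
      calc r * r = (r * s) * t := by rw [hr]; simp only [mul_assoc]
        _ = 1 := by rw [← hts, htt]
    rcases Int.emod_two_eq_zero_or_one a with h | h
    · refine hs1 i ?_
      rw [← hs, ← ha, show a = 2 * (a / 2) by omega, zpow_mul, hr2, one_zpow]
    · refine hs1 j ?_
      have e : s = r := by
        rw [← ha, show a = 2 * (a / 2) + 1 by omega, zpow_add, zpow_mul, hr2, one_zpow, one_mul, zpow_one]
      exact mul_left_cancel (a := s) (b := t) (c := 1) (by rw [← hr, ← e, mul_one])
  have hsr : ∀ a : ℤ, s * r ^ a = r ^ (-a) * s := fun a => by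
    have : SemiconjBy s r r⁻¹ := by
      show s * r = r⁻¹ * s
      have hi : r⁻¹ = t * s := inv_eq_of_mul_eq_one_right (by
        rw [hr, mul_assoc, ← mul_assoc t, htt, one_mul, hss])
      rw [hi, hr, ← mul_assoc, hss, one_mul, mul_assoc, hss, mul_one]
    have := this.zpow_right a
    rwa [inv_zpow, ← zpow_neg] at this
  have hset : (Subgroup.closure ({s, t} : Set P.Aut) : Set P.Aut) =
      (Subgroup.zpowers r : Set P.Aut) ∪ (fun x => x * s) '' (Subgroup.zpowers r : Set P.Aut) := by
    refine Set.Subset.antisymm (fun g hg => ?_) ?_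
    · have step : ∀ y, y ∈ (Subgroup.zpowers r : Set P.Aut) ∪ (fun x => x * s) '' (Subgroup.zpowers r : Set P.Aut) →
          s * y ∈ (Subgroup.zpowers r : Set P.Aut) ∪ (fun x => x * s) '' (Subgroup.zpowers r : Set P.Aut) ∧
          r * y ∈ (Subgroup.zpowers r : Set P.Aut) ∪ (fun x => x * s) '' (Subgroup.zpowers r : Set P.Aut) := by
        rintro y (⟨a, rfl⟩ | ⟨_, ⟨a, rfl⟩, rfl⟩)
        · exact ⟨Or.inr ⟨_, ⟨-a, rfl⟩, (hsr a).symm⟩, Or.inl ⟨1 + a, by simp [zpow_add]⟩⟩
        · exact ⟨Or.inl ⟨-a, by simp only; rw [← mul_assoc, hsr, mul_assoc, hss, mul_one]⟩,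
            Or.inr ⟨_, ⟨1 + a, rfl⟩, by simp [zpow_add, mul_assoc]⟩⟩
      have htw : t = s * r := by rw [hr, ← mul_assoc, hss, one_mul]
      have gen : ∀ x ∈ ({s, t} : Set P.Aut), ∀ y,
          y ∈ (Subgroup.zpowers r : Set P.Aut) ∪ (fun x => x * s) '' (Subgroup.zpowers r : Set P.Aut) →
          x * y ∈ (Subgroup.zpowers r : Set P.Aut) ∪ (fun x => x * s) '' (Subgroup.zpowers r : Set P.Aut) := by
        rintro x (rfl | rfl) y hy
        · exact (step y hy).1
        · rw [htw, mul_assoc]; exact (step _ (step y hy).2).1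
      induction hg using Subgroup.closure_induction_left with
      | one => exact Or.inl (one_mem _)
      | mul_left x hx y _ hy => exact gen x hx y hy
      | inv_mul_cancel x hx y _ hy =>
        rw [show x⁻¹ = x by rcases hx with rfl | rfl <;> exact inv_eq_of_mul_eq_one_right ‹_›]
        exact gen x hx y hy
    · have hle : Subgroup.zpowers r ≤ Subgroup.closure ({s, t} : Set P.Aut) := Subgroup.zpowers_le.2 hrmem
      rintro g (hg | ⟨x, hx, rfl⟩)
      exacts [hle hg, mul_mem (hle hx) hsmem]
  have hfin : (Subgroup.zpowers r : Set P.Aut).Finite :=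
    finite_zpowers.2 (orderOf_pos_iff.1 (hord ▸ hn0))
  show Nat.card (Subgroup.closure ({s, t} : Set P.Aut) : Set P.Aut) = 2 * n
  rw [Nat.card_coe_set_eq, hset, Set.ncard_union_eq ?_ hfin (hfin.image _),
    Set.ncard_image_of_injective _ (mul_left_injective s), ← Nat.card_coe_set_eq]
  · show Nat.card (Subgroup.zpowers r) + Nat.card (Subgroup.zpowers r) = _
    rw [Nat.card_zpowers, hord, two_mul]
  · rw [Set.disjoint_left]
    rintro g hg ⟨x, hx, rfl⟩
    exact hnot ((Subgroup.mul_mem_cancel_left _ hx).1 hg)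

end Groth.Agent.S5496
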