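import Groth.Statements.S5497
import Groth.Agent.RootDLib.Sub
-- import your own Groth.Agent.* helpers here

set_option autoImplicit false
open RootD

namespace Groth.Agent.S5497

/-- For a partition of the roots into two closed symmetric subsets, whenever α, β, α + β are roots they
lie in the same part. -/
theorem result {ι M N : Type*} [AddCommGroup M] [AddCommGroup N]
    (P : RootPairing ι ℤ M N) [Finite ι] (R' : Set ι) (hc : RootD.IsClosedSub P R')
    (hs : RootD.IsSymmSub P R') (hc' : RootD.IsClosedSub P R'ᶜ) (hs' : RootD.IsSymmSub P R'ᶜ)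
    (i j k : ι) (h : P.root k = P.root i + P.root j) :
    (i ∈ R' ∧ j ∈ R' ∧ k ∈ R') ∨ (i ∉ R' ∧ j ∉ R' ∧ k ∉ R') := by
  have sd : ∀ {a b c : ι}, P.root c = P.root a + P.root b → a ∈ R' → b ∈ R' := fun {a b c} e ha => by
    by_contra hb
    by_cases hk : c ∈ R'
    · exact hb (hc (hs ha) hk (by rw [show P.reflectionPerm a a = Groth.Agent.RootDLib.ng P a from rfl, Groth.Agent.RootDLib.root_ng, e]; abel))
    · exact hc' (hs' (show b ∈ R'ᶜ from hb)) (show c ∈ R'ᶜ from hk)
        (by rw [show P.reflectionPerm b b = Groth.Agent.RootDLib.ng P b from rfl, Groth.Agent.RootDLib.root_ng, e]; abel) ha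
  by_cases hi : i ∈ R'
  · exact .inl ⟨hi, sd h hi, hc hi (sd h hi) h⟩
  · have hj : j ∉ R' := fun hj => hi (sd (h.trans (add_comm _ _)) hj)
    exact .inr ⟨hi, hj, hc' (show i ∈ R'ᶜ from hi) (show j ∈ R'ᶜ from hj) h⟩

end Groth.Agent.S5497
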