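import Groth.Statements.S5498
import Groth.Agent.RootDLib.Irred
-- import your own Groth.Agent.* helpers here

set_option autoImplicit false
open RootD

namespace Groth.Agent.S5498

/-- If R is irreducible then so is the dual datum R^v, and long(α)·long(α^v) (equivalently ℓ(α) ℓ(α^v))
is constant on the roots. -/
theorem result {ι M N : Type*} [AddCommGroup M] [AddCommGroup N]
    (P : RootPairing ι ℤ M N) [Finite ι] [Fintype ι] [Nonempty ι]
    (hirr : ∀ R' : Set ι, RootD.IsClosedSub P R' → RootD.IsSymmSub P R' → RootD.IsClosedSub P R'ᶜ →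
      RootD.IsSymmSub P R'ᶜ → R' = ∅ ∨ R' = Set.univ) :
    (∀ R' : Set ι, RootD.IsClosedSub P.flip R' → RootD.IsSymmSub P.flip R' → RootD.IsClosedSub P.flip R'ᶜ →
      RootD.IsSymmSub P.flip R'ᶜ → R' = ∅ ∨ R' = Set.univ) ∧
    ∀ i j : ι, P.RootForm (P.root i) (P.root i) * P.CorootForm (P.coroot i) (P.coroot i) =
      P.RootForm (P.root j) (P.root j) * P.CorootForm (P.coroot j) (P.coroot j) := by
  haveI := Groth.Agent.RootDLib.isTorsionFree P
  haveI := Groth.Agent.RootDLib.isTorsionFree P.flip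
  have hI : Groth.Agent.RootDLib.Irred P := hirr
  refine ⟨fun R' h1 h2 h3 h4 => ?_, fun i j => ?_⟩
  · obtain ⟨c1, c2, c3, c4⟩ := Groth.Agent.RootDLib.closed_of_adj P (C := R') fun a b ha hab => by
      refine Groth.Agent.RootDLib.same_side P.flip h1 h2 h3 h4 ha ?_
      rw [Groth.Agent.RootDLib.pairingIn_eq P.flip]
      show P.pairing b a ≠ 0
      rw [← Groth.Agent.RootDLib.pairingIn_eq]
      exact Groth.Agent.RootDLib.pairingIn_ne_zero_symm P hab
    exact hirr R' c1 c2 c3 c4
  · have hc : ∀ a, P.CorootForm (P.coroot a) (P.coroot a) = Groth.Agent.RootDLib.q P.flip a a := fun a => Groth.Agent.RootDLib.rootForm_eq_q P.flip a a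
    simp only [Groth.Agent.RootDLib.rootForm_eq_q, hc]
    refine hI.induction (p := fun b => Groth.Agent.RootDLib.q P i i * Groth.Agent.RootDLib.q P.flip i i = Groth.Agent.RootDLib.q P b b * Groth.Agent.RootDLib.q P.flip b b) i rfl
      (fun a b ha hne => ha.trans ?_) j
    have h1 := Groth.Agent.RootDLib.q_mul_swap P a b
    have h2 := Groth.Agent.RootDLib.q_mul_swap P.flip a b
    have e1 : P.flip.pairingIn ℤ a b = P.pairingIn ℤ b a := by rw [Groth.Agent.RootDLib.pairingIn_eq, Groth.Agent.RootDLib.pairingIn_eq]; rfl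
    have e2 : P.flip.pairingIn ℤ b a = P.pairingIn ℤ a b := by rw [Groth.Agent.RootDLib.pairingIn_eq, Groth.Agent.RootDLib.pairingIn_eq]; rfl
    rw [e1, e2] at h2
    refine mul_left_cancel₀ (mul_ne_zero hne (Groth.Agent.RootDLib.pairingIn_ne_zero_symm P hne)) ?_
    linear_combination (P.pairingIn ℤ a b * Groth.Agent.RootDLib.q P.flip a a) * h1 + (P.pairingIn ℤ a b * Groth.Agent.RootDLib.q P b b) * h2

end Groth.Agent.S5498
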