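import Groth.Statements.S5499
import Groth.Agent.RootDLib.Irred
import Groth.Agent.S5465
-- import your own Groth.Agent.* helpers here

set_option autoImplicit false
open RootD

namespace Groth.Agent.S5499

/-- For an irreducible datum, where long(α) = ℓ(α)/ℓ(α₀) with ℓ(α₀) minimal: there is a unique
homomorphism u : Γ_0(R) → M^v with u(α) = long(α) α^v for every root α. -/
theorem result {ι M N : Type*} [AddCommGroup M] [AddCommGroup N]
    (P : RootPairing ι ℤ M N) [Finite ι] [Fintype ι]
    (hirr : ∀ R' : Set ι, RootD.IsClosedSub P R' → RootD.IsSymmSub P R' → RootD.IsClosedSub P R'ᶜ →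
      RootD.IsSymmSub P R'ᶜ → R' = ∅ ∨ R' = Set.univ)
    (i₀ : ι) (hmin : ∀ i : ι, P.RootForm (P.root i₀) (P.root i₀) ≤ P.RootForm (P.root i) (P.root i)) :
    ∃! u : Submodule.span ℤ (Set.range P.root) →+ N, ∀ i : ι,
      u ⟨P.root i, Submodule.subset_span (Set.mem_range_self i)⟩ =
        (P.RootForm (P.root i) (P.root i) / P.RootForm (P.root i₀) (P.root i₀)) • P.coroot i := by
  classical
  have hI : Groth.Agent.RootDLib.Irred P := hirr
  simp only [Groth.Agent.RootDLib.rootForm_eq_q] at hmin ⊢
  have hd := hI.q_dvd P hmin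
  have hne := (Groth.Agent.RootDLib.q_self_pos P i₀).ne'
  haveI := Groth.Agent.RootDLib.isTorsionFree P.flip
  obtain ⟨φ, h1, h2⟩ := Groth.Agent.S5465.result P
    (fun i => (Groth.Agent.RootDLib.q P i i / Groth.Agent.RootDLib.q P i₀ i₀) • P.coroot i)
    (fun i => by
      have e : Groth.Agent.RootDLib.q P (P.reflectionPerm i i) (P.reflectionPerm i i) = Groth.Agent.RootDLib.q P i i :=
        Groth.Agent.RootDLib.q_smul P (P.reflection_mem_weylGroup i) i
      show _ • P.coroot (Groth.Agent.RootDLib.ng P i) = _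
      rw [e, Groth.Agent.RootDLib.coroot_ng, smul_neg])
    (fun i j k hk => by
      refine sub_eq_zero.1 (Groth.Agent.RootDLib.zsmul_coroot_eq_zero P hne ?_)
      simp only [smul_sub, smul_add, smul_smul, Int.mul_ediv_cancel' (hd _), Groth.Agent.RootDLib.smul_coroot_eq, hk, map_add]
      abel)
  exact ⟨φ, h1, h2⟩

end Groth.Agent.S5499
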