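import Groth.Statements.S5500
import Groth.Agent.RootDLib.Irred
import Groth.Agent.S5480
-- import your own Groth.Agent.* helpers here

set_option autoImplicit false
open RootD

namespace Groth.Agent.S5500

/-- For a p-morphism between irreducible reduced root data there is a rational constant k with k ·
long(u(α)) = q(α)² · long(α) for every root α; stated as the proportionality q(α)² ℓ(α) ℓ'(u β) =
q(β)² ℓ(β) ℓ'(u α) of the canonical quadratic forms. -/
theorem result {ι M N ι' M' N' : Type*} [AddCommGroup M] [AddCommGroup N] [AddCommGroup M'] [AddCommGroup N']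
    (P : RootPairing ι ℤ M N) (P' : RootPairing ι' ℤ M' N') [Finite ι] [Finite ι'] [Fintype ι] [Fintype ι'] [P.IsReduced] [P'.IsReduced]
    (hirr : ∀ R₁ : Set ι, RootD.IsClosedSub P R₁ → RootD.IsSymmSub P R₁ → RootD.IsClosedSub P R₁ᶜ →
      RootD.IsSymmSub P R₁ᶜ → R₁ = ∅ ∨ R₁ = Set.univ)
    (hirr' : ∀ R₁ : Set ι', RootD.IsClosedSub P' R₁ → RootD.IsSymmSub P' R₁ → RootD.IsClosedSub P' R₁ᶜ →
      RootD.IsSymmSub P' R₁ᶜ → R₁ = ∅ ∨ R₁ = Set.univ)
    (p : ℕ) (hp : 0 < p) (f : M' →ₗ[ℤ] M) (g : N →ₗ[ℤ] N')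
    (hfg : ∀ (m' : M') (n : N), P.toLinearMap (f m') n = P'.toLinearMap m' (g n))
    (u : ι ≃ ι') (q : ι → ℕ) (hq : ∀ i, ∃ e : ℕ, q i = p ^ e)
    (hroot : ∀ i : ι, f (P'.root (u i)) = (q i : ℤ) • P.root i)
    (hcoroot : ∀ i : ι, g (P.coroot i) = (q i : ℤ) • P'.coroot (u i)) (i j : ι) :
    ((q i : ℤ) ^ 2 * P.RootForm (P.root i) (P.root i)) * P'.RootForm (P'.root (u j)) (P'.root (u j)) =
      ((q j : ℤ) ^ 2 * P.RootForm (P.root j) (P.root j)) * P'.RootForm (P'.root (u i)) (P'.root (u i)) := by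
  classical
  haveI := Groth.Agent.RootDLib.isTorsionFree P
  have hI : Groth.Agent.RootDLib.Irred P := hirr
  have hqp := Groth.Agent.S5480.pos_of_pow hp hq
  have hrel := Groth.Agent.S5480.pairing_rel P P' f g hfg u q hroot hcoroot
  simp only [Groth.Agent.RootDLib.rootForm_eq_q]
  refine hI.induction (p := fun b => (q i : ℤ) ^ 2 * Groth.Agent.RootDLib.q P i i * Groth.Agent.RootDLib.q P' (u b) (u b) =
    (q b : ℤ) ^ 2 * Groth.Agent.RootDLib.q P b b * Groth.Agent.RootDLib.q P' (u i) (u i)) i rfl (fun a b ha hne => ?_) j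
  have hab := hrel a b
  have hba := hrel b a
  rw [← Groth.Agent.RootDLib.pairingIn_eq, ← Groth.Agent.RootDLib.pairingIn_eq] at hab hba
  have s1 := Groth.Agent.RootDLib.q_mul_swap P a b
  have s2 := Groth.Agent.RootDLib.q_mul_swap P' (u a) (u b)
  have hqa : (q a : ℤ) ≠ 0 := by exact_mod_cast (hqp a).ne'
  have hqb : (q b : ℤ) ≠ 0 := by exact_mod_cast (hqp b).ne'
  have key : (q a : ℤ) ^ 2 * Groth.Agent.RootDLib.q P a a * Groth.Agent.RootDLib.q P' (u b) (u b) = (q b : ℤ) ^ 2 * Groth.Agent.RootDLib.q P b b * Groth.Agent.RootDLib.q P' (u a) (u a) := by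
    refine mul_left_cancel₀ (Groth.Agent.RootDLib.pairingIn_ne_zero_symm P hne) ?_
    linear_combination ((q a : ℤ) ^ 2 * Groth.Agent.RootDLib.q P' (u b) (u b)) * s1 -
      ((q a : ℤ) * Groth.Agent.RootDLib.q P b b * Groth.Agent.RootDLib.q P' (u b) (u b)) * hab +
      ((q b : ℤ) * Groth.Agent.RootDLib.q P b b * Groth.Agent.RootDLib.q P' (u a) (u a)) * hba -
      ((q a : ℤ) * (q b : ℤ) * Groth.Agent.RootDLib.q P b b) * s2
  refine mul_left_cancel₀ (mul_ne_zero (pow_ne_zero 2 hqa) (Groth.Agent.RootDLib.q_self_pos P a).ne') ?_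
  linear_combination ((q b : ℤ) ^ 2 * Groth.Agent.RootDLib.q P b b) * ha + ((q i : ℤ) ^ 2 * Groth.Agent.RootDLib.q P i i) * key

end Groth.Agent.S5500
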