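import Groth.Statements.S5501
import Groth.Agent.RootDLib.Irred
-- import your own Groth.Agent.* helpers here

set_option autoImplicit false
universe u v w
open RootD

namespace Groth.Agent.S5501

/-- Adjoint case; the simply connected case is dual: a semisimple root datum R is adjoint if and only if
every isogeny R' → R is an isomorphism. -/
theorem result {ι : Type u} {M : Type v} {N : Type w} [AddCommGroup M] [AddCommGroup N]
    (P : RootPairing ι ℤ M N) [Finite ι] [Module.Finite ℤ M] [Module.Finite ℤ N]
    (hss : Module.finrank ℤ (Submodule.span ℤ (Set.range P.root)) = Module.finrank ℤ M) :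
    Submodule.span ℤ (Set.range P.root) = ⊤ ↔
      ∀ (ι' : Type u) (M' N' : Type v) [AddCommGroup M'] [AddCommGroup N'] [Finite ι']
        [Module.Finite ℤ M'] [Module.Finite ℤ N'] (P' : RootPairing ι' ℤ M' N') (f : RootPairing.Hom P' P),
        Function.Injective f.weightMap → Finite (M ⧸ LinearMap.range f.weightMap) →
          Function.Bijective f.weightMap := by
  classical
  haveI := Groth.Agent.RootDLib.isTorsionFree P
  haveI := Groth.Agent.RootDLib.isAddTorsionFree P
  constructor
  · intro h ι' M' N' _ _ _ _ _ P' f hinj _
    refine ⟨hinj, LinearMap.range_eq_top.1 (top_unique ?_)⟩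
    rw [← h]
    refine Submodule.span_le.2 ?_
    rintro _ ⟨a, rfl⟩
    exact ⟨P'.root (f.indexEquiv.symm a), by rw [RootPairing.Hom.root_weightMap_apply, _root_.Equiv.apply_symm_apply]⟩
  · intro H
    haveI : Finite (M ⧸ P.rootSpan ℤ) := Submodule.finiteQuotientOfFreeOfRankEq _ hss
    let M₀ : Submodule ℤ M := P.rootSpan ℤ
    haveI : Module.Finite ℤ M₀ := Module.Finite.of_fg (IsNoetherian.noetherian _)
    haveI : Module.Free ℤ M₀ := Module.free_of_finite_type_torsion_free'
    let P₀ : RootPairing ι ℤ M₀ (Module.Dual ℤ M₀) :=
      { toLinearMap := Module.Dual.eval ℤ M₀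
        root := ⟨fun a => ⟨P.root a, Submodule.subset_span ⟨a, rfl⟩⟩, fun a b e => P.root.injective (congrArg Subtype.val e)⟩
        coroot := ⟨fun a => (P.coroot' a).domRestrict M₀, fun a b e => P.coroot.injective (P.flip.toPerfPair.injective
          (LinearMap.ext fun x => by
            have hx : Nat.card (M ⧸ P.rootSpan ℤ) • x ∈ P.rootSpan ℤ := by
              rw [← Submodule.Quotient.mk_eq_zero]
              exact card_nsmul_eq_zero' (G := M ⧸ P.rootSpan ℤ) (x := Submodule.Quotient.mk x)
            have h1 : P.coroot' a (Nat.card (M ⧸ P.rootSpan ℤ) • x) = P.coroot' b (Nat.card (M ⧸ P.rootSpan ℤ) • x) :=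
              LinearMap.congr_fun e ⟨_, hx⟩
            rw [map_nsmul, map_nsmul] at h1
            exact smul_right_injective ℤ Nat.card_pos.ne' h1))⟩
        root_coroot_two := P.root_coroot_two
        reflectionPerm := P.reflectionPerm
        reflectionPerm_root := fun a b => Subtype.ext (P.reflectionPerm_root a b)
        reflectionPerm_coroot := fun a b => LinearMap.ext fun x => by
          have h1 := congrArg (P.toLinearMap (x : M)) (P.reflectionPerm_coroot a b)
          rw [map_sub, map_smul] at h1
          exact h1 }
    let f : RootPairing.Hom P₀ P :=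
      { weightMap := M₀.subtype
        coweightMap := M₀.subtype.dualMap ∘ₗ P.toLinearMap.flip
        indexEquiv := _root_.Equiv.refl ι
        weight_coweight_transpose := rfl
        root_weightMap := rfl
        coroot_coweightMap := rfl }
    have hb := H ι M₀ (Module.Dual ℤ M₀) P₀ f M₀.injective_subtype
      (by rw [show LinearMap.range f.weightMap = P.rootSpan ℤ from M₀.range_subtype]; infer_instance)
    show M₀ = ⊤
    rw [← M₀.range_subtype]
    exact LinearMap.range_eq_top.2 hb.2

end Groth.Agent.S5501
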