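import Groth.Statements.S5502
import Groth.Agent.RootDLib.Sub3
-- import your own Groth.Agent.* helpers here

set_option autoImplicit false
open RootD

namespace Groth.Agent.S5502

/-- If β = Σ_{α ∈ Δ} a_α α along a system of simple roots Δ, then ℓ(β) divides 2 a_α ℓ(α), and 2ℓ(β)
divides it when α^v is indivisible (ℓ the canonical quadratic form). -/
theorem result {ι M N : Type*} [AddCommGroup M] [AddCommGroup N]
    (P : RootPairing ι ℤ M N) [Finite ι] [Fintype ι] (Δ : Set ι) (hΔ : RootD.IsSimpleSys P Δ)
    (k : ι) (c : ι →₀ ℤ) (hc : ↑c.support ⊆ Δ) (hck : Finsupp.linearCombination ℤ P.root c = P.root k)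
    (i : ι) (hi : i ∈ Δ) :
    P.RootForm (P.root k) (P.root k) ∣ 2 * c i * P.RootForm (P.root i) (P.root i) ∧
      (RootD.IsIndiv P.flip i → 2 * P.RootForm (P.root k) (P.root k) ∣ 2 * c i * P.RootForm (P.root i) (P.root i)) := by
  classical
  have h := (Groth.Agent.RootDLib.isSimple_iff P).2 hΔ
  obtain rfl := (h.coef_eq hc hck).symm
  obtain ⟨e, he, hek⟩ := (Finsupp.mem_span_image_iff_linearCombination ℤ).1 (h.coroot_mem_span_dual k)
  rw [Finsupp.mem_supported] at he
  choose! J T hJ hT hJT using fun a (ha : a ∈ Δ) => h.exists_dual_rep ha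
  let d : ι →₀ ℤ := ∑ a ∈ (h.coef k).support, Finsupp.single (J a) (h.coef k a * Groth.Agent.RootDLib.q P a a * T a)
  have hd : ↑d.support ⊆ h.dual := fun b hb => by
    by_contra hn
    refine Finsupp.mem_support_iff.1 hb ?_
    rw [Finsupp.finset_sum_apply]
    exact Finset.sum_eq_zero fun a ha => Finsupp.single_eq_of_ne fun e => hn (e ▸ hJ a (h.coef_support k ha))
  have hde : Finsupp.linearCombination ℤ P.coroot d = Groth.Agent.RootDLib.q P k k • P.coroot k := by
    rw [map_sum, h.smul_coroot_coef, ← Finset.sum_subset (Finset.subset_univ (h.coef k).support)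
      (fun x _ hx => by rw [Finsupp.notMem_support_iff.1 hx, zero_mul, zero_smul])]
    refine Finset.sum_congr rfl fun a ha => ?_
    rw [Finsupp.linearCombination_single, hJT a (h.coef_support k ha), smul_smul]
  have hcd : d = Groth.Agent.RootDLib.q P k k • e := linearIndepOn_iffₛ.1 h.linearIndepOn_dual d (by simpa [Finsupp.mem_supported] using hd)
    _ (Finsupp.mem_supported _ _ |>.2 ((Finset.coe_subset.2 Finsupp.support_smul).trans he))
    (by rw [hde, LinearMap.map_smul, hek])
  have hTp : ∀ a ∈ Δ, 0 < T a := fun a ha => by rcases hT a ha with ⟨q, -⟩ | q <;> omega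
  have hinj : ∀ a ∈ Δ, ∀ b ∈ Δ, J a = J b → a = b := fun a ha b hb q => by
    by_contra hne
    have h0 : Finsupp.linearCombination ℤ P.coroot (Finsupp.single a (T b) - Finsupp.single b (T a)) = 0 := by
      rw [map_sub, Finsupp.linearCombination_single, Finsupp.linearCombination_single, hJT a ha, hJT b hb, q,
        smul_smul, smul_smul, mul_comm, sub_self]
    have := linearIndepOn_iff.1 h.linearIndepOn_coroot _ (Submodule.sub_mem _
      (Finsupp.single_mem_supported ℤ _ ha) (Finsupp.single_mem_supported ℤ _ hb)) h0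
    have := DFunLike.congr_fun this a
    simp [Finsupp.single_eq_of_ne hne] at this
    exact (hTp b hb).ne' this
  have key : Groth.Agent.RootDLib.q P k k * e (J i) = h.coef k i * Groth.Agent.RootDLib.q P i i * T i := by
    rw [← smul_eq_mul, ← Finsupp.smul_apply, ← hcd, Finsupp.finset_sum_apply,
      Finset.sum_eq_single i (fun a ha hne => Finsupp.single_eq_of_ne fun q =>
        hne (hinj a (h.coef_support k ha) i hi q.symm))
      (fun hn => by rw [Finsupp.notMem_support_iff.1 hn]; simp), Finsupp.single_eq_same]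
  have hq : ∀ a, P.RootForm (P.root a) (P.root a) = Groth.Agent.RootDLib.q P a a := fun a => by
    have := Groth.Agent.RootDLib.algebraMap_q P a a
    simpa using this.symm
  rw [hq, hq]
  rcases hT i hi with ⟨t1, -, hl⟩ | t2
  · rw [t1, mul_one] at key
    exact ⟨⟨2 * e (J i), by linarith⟩, fun _ => ⟨e (J i), by linarith⟩⟩
  · rw [t2] at key
    refine ⟨⟨e (J i), by linarith⟩, fun hind => absurd ?_ (hind (J i))⟩
    exact ((hJT i hi).trans (by rw [t2]; rfl)).symm

end Groth.Agent.S5502
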