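import Groth.Statements.S5507
import Groth.Agent.RootDLib.Sub3
-- import your own Groth.Agent.* helpers here

set_option autoImplicit false
open RootD

namespace Groth.Agent.S5507

/-- For a system of simple roots Δ there are positive integers m_α (the lengths) such that the matrix
(m_α a_{α,β}) with a_{α,β} = (α^v, β) is symmetric and positive definite. -/
theorem result {ι M N : Type*} [AddCommGroup M] [AddCommGroup N]
    (P : RootPairing ι ℤ M N) [Finite ι] (Δ : Finset ι) (hΔ : RootD.IsSimpleSys P (↑Δ : Set ι)) :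
    ∃ m : ↥Δ → ℤ, (∀ a, 0 < m a) ∧
      (Matrix.of fun (a b : ↥Δ) => m a * P.pairing (b : ι) (a : ι)).IsSymm ∧
      (Matrix.of fun (a b : ↥Δ) => m a * P.pairing (b : ι) (a : ι)).PosDef := by
  classical
  haveI := Fintype.ofFinite ι
  have h := (Groth.Agent.RootDLib.isSimple_iff P).2 hΔ
  have he : ∀ a b : ι, Groth.Agent.RootDLib.q P a a * P.pairing b a = 2 * Groth.Agent.RootDLib.q P b a := fun a b => by
    rw [Groth.Agent.RootDLib.two_mul_q, Groth.Agent.RootDLib.pairingIn_eq, mul_comm]
  refine ⟨fun a => Groth.Agent.RootDLib.q P a a, fun a => Groth.Agent.RootDLib.q_self_pos P _, ?_, Matrix.PosDef.of_dotProduct_mulVec_pos ?_ fun x hx => ?_⟩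
  · exact Matrix.IsSymm.ext fun a b => by simp [he, Groth.Agent.RootDLib.q_comm P (a : ι) b]
  · exact Matrix.IsHermitian.ext fun a b => by simp [he, Groth.Agent.RootDLib.q_comm P (a : ι) b]
  · let c : ι →₀ ℤ := ∑ a : ↥Δ, Finsupp.single (a : ι) (x a)
    have hca : ∀ a : ↥Δ, c a = x a := fun a => by
      rw [Finsupp.finset_sum_apply, Finset.sum_eq_single a (fun b _ hb =>
        Finsupp.single_eq_of_ne fun e => hb (Subtype.ext e.symm)) (by simp), Finsupp.single_eq_same]
    have hc : ↑c.support ⊆ (↑Δ : Set ι) := fun a ha => by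
      by_contra hn
      refine Finsupp.mem_support_iff.1 ha ?_
      rw [Finsupp.finset_sum_apply]
      exact Finset.sum_eq_zero fun b _ => Finsupp.single_eq_of_ne fun e => hn (e ▸ b.2)
    have hval : dotProduct (star x) (Matrix.mulVec (Matrix.of fun (a b : ↥Δ) => Groth.Agent.RootDLib.q P (a : ι) a * P.pairing (b : ι) (a : ι)) x) =
        2 * ∑ i, ∑ j, c i * c j * Groth.Agent.RootDLib.q P i j := by
      have hz : ∀ i, i ∉ Δ → c i = 0 := fun i hi => Finsupp.notMem_support_iff.1 fun hm => hi (hc hm)
      simp only [dotProduct, Matrix.mulVec, Matrix.of_apply, he, Pi.star_apply, star_trivial, Finset.mul_sum]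
      rw [← Finset.sum_subset (Finset.subset_univ Δ) (fun i _ hi => by simp [hz i hi]), ← Finset.sum_coe_sort Δ]
      refine Finset.sum_congr rfl fun a _ => ?_
      rw [← Finset.sum_subset (Finset.subset_univ Δ) (fun i _ hi => by simp [hz i hi]), ← Finset.sum_coe_sort Δ]
      refine Finset.sum_congr rfl fun b _ => ?_
      rw [hca, hca, Groth.Agent.RootDLib.q_comm P (b : ι) a]
      ring
    rw [hval]
    by_contra hle
    have h0 : c = 0 := h.comb_inj hc (by simp) (by
      rw [Groth.Agent.RootDLib.comb_eq_zero_of_nonpos P c c rfl (by omega), map_zero])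
    exact hx (funext fun a => by rw [← hca, h0]; rfl)

end Groth.Agent.S5507
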