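import Groth.Statements.S5579
import Groth.Agent.ToposFinLib.Local

set_option autoImplicit false
open CategoryTheory CategoryTheory.Limits Opposite
universe u
open ToposFin

namespace Groth.Agent.S5579

set_option backward.isDefEq.respectTransparency false
set_option backward.isDefEq.respectTransparency.types false
open Groth.Agent.ToposFinLib

/-- For the topos of sheaves of sets on a small site: for two morphisms f : X -> Y and f' : X' -> Y'
over a common base S, if f and f' are quasi-compact (resp. quasi-separated, resp. coherent), then so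
is the product morphism f x_S f' : X x_S X' -> Y x_S Y'. -/
theorem result {C : Type u} [SmallCategory C] {J : GrothendieckTopology C}
    {X Y X' Y' S : ToposFin.Sh J} (f : X ⟶ Y) (f' : X' ⟶ Y') (a : Y ⟶ S) (a' : Y' ⟶ S) :
    (ToposFin.IsQCHom f → ToposFin.IsQCHom f' →
      ToposFin.IsQCHom (pullback.map (f ≫ a) (f' ≫ a') a a' f f' (𝟙 S) (Category.comp_id _) (Category.comp_id _))) ∧
    (ToposFin.IsQSHom f → ToposFin.IsQSHom f' →
      ToposFin.IsQSHom (pullback.map (f ≫ a) (f' ≫ a') a a' f f' (𝟙 S) (Category.comp_id _) (Category.comp_id _))) ∧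
    (ToposFin.IsCohHom f → ToposFin.IsCohHom f' →
      ToposFin.IsCohHom (pullback.map (f ≫ a) (f' ≫ a') a a' f f' (𝟙 S) (Category.comp_id _) (Category.comp_id _))) := by
  let m1 : pullback (f ≫ a) (f' ≫ a') ⟶ pullback a (f' ≫ a') :=
    pullback.map _ _ _ _ f (𝟙 X') (𝟙 S) (Category.comp_id _) (by simp)
  let m2 : pullback a (f' ≫ a') ⟶ pullback a a' :=
    pullback.map _ _ _ _ (𝟙 Y) f' (𝟙 S) (by simp) (Category.comp_id _)
  have h1 : IsPullback (pullback.fst (f ≫ a) (f' ≫ a')) m1 f (pullback.fst a (f' ≫ a')) := by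
    refine IsPullback.of_bot ?_ (by simp [m1]) (IsPullback.of_hasPullback a (f' ≫ a'))
    simpa [m1] using IsPullback.of_hasPullback (f ≫ a) (f' ≫ a')
  have h2 : IsPullback (pullback.snd a (f' ≫ a')) m2 f' (pullback.snd a a') := by
    refine IsPullback.of_bot ?_ (by simp [m2]) (IsPullback.of_hasPullback a a').flip
    simpa [m2] using (IsPullback.of_hasPullback a (f' ≫ a')).flip
  have e : pullback.map (f ≫ a) (f' ≫ a') a a' f f' (𝟙 S) (Category.comp_id _) (Category.comp_id _) = m1 ≫ m2 := by
    apply pullback.hom_ext <;> simp [m1, m2]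
  rw [e]
  exact ⟨fun hf hf' => isQCHom_comp (isQCHom_of_isPullback h1 hf) (isQCHom_of_isPullback h2 hf'),
    fun hf hf' => isQSHom_comp (isQSHom_of_isPullback h1 hf) (isQSHom_of_isPullback h2 hf'),
    fun hf hf' => isCohHom_comp ⟨isQCHom_of_isPullback h1 hf.1, isQSHom_of_isPullback h1 hf.2⟩
      ⟨isQCHom_of_isPullback h2 hf'.1, isQSHom_of_isPullback h2 hf'.2⟩⟩

end Groth.Agent.S5579
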