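import Groth.Statements.S5580
import Groth.Agent.ToposFinLib.Local

set_option autoImplicit false
open CategoryTheory CategoryTheory.Limits Opposite
universe u
open ToposFin

namespace Groth.Agent.S5580

set_option backward.isDefEq.respectTransparency false
set_option backward.isDefEq.respectTransparency.types false
open Groth.Agent.ToposFinLib

/-- Quasi-compact and coherent cases: for the topos of sheaves of sets on a small site: let (X_i) be a
finite family of objects with coproduct X (given as a colimit cofan) and f : X -> Y a morphism with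
components f_i : X_i -> Y. Then f is quasi-compact (resp. coherent) if and only if every f_i is. -/
theorem result {C : Type u} [SmallCategory C] {J : GrothendieckTopology C}
    {Y : ToposFin.Sh J} {n : ℕ} (X : Fin n → ToposFin.Sh J) (c : Cofan X) (hc : IsColimit c)
    (f : c.pt ⟶ Y) :
    (ToposFin.IsQCHom f ↔ ∀ i, ToposFin.IsQCHom (c.inj i ≫ f)) ∧
    (ToposFin.IsCohHom f ↔ ∀ i, ToposFin.IsCohHom (c.inj i ≫ f)) := by
  let c' : Cofan (fun i : ULift.{u} (Fin n) => X i.down) := Cofan.mk c.pt fun i => c.inj i.down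
  have hc' : IsColimit c' :=
    Cofan.IsColimit.mk _ (fun s => Cofan.IsColimit.desc hc fun i => s.inj ⟨i⟩)
      (fun s i => Cofan.IsColimit.fac hc _ _)
      (fun s m h => Cofan.IsColimit.hom_ext hc _ _ fun i => by
        rw [Cofan.IsColimit.fac]; exact h ⟨i⟩)
  have hi : ∀ i, IsQCHom (c.inj i) ∧ IsQSHom (c.inj i) := fun i =>
    ⟨isQCHom_inj hc' ⟨i⟩, isQSHom_inj hc' ⟨i⟩⟩
  have hq : (∀ i, IsQCHom (c.inj i ≫ f)) → IsQCHom f := fun h =>
    isQCHom_of_comp_cov f (fun Z a b w => Cofan.IsColimit.hom_ext hc _ _ w) h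
  refine ⟨⟨fun h i => isQCHom_comp (hi i).1 h, hq⟩, ⟨fun h i => isCohHom_comp (hi i) h, fun h => ?_⟩⟩
  exact ⟨hq fun i => (h i).1, isQSHom_of_comp_cov (Y := c'.pt) f (cov_inj hc') (isQCHom_inj hc') fun i => (h i.down).2⟩

end Groth.Agent.S5580
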