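import Groth.Statements.S5582
import Groth.Agent.ToposFinLib.FPX

set_option autoImplicit false
open CategoryTheory CategoryTheory.Limits Opposite
universe u
open ToposFin

namespace Groth.Agent.S5582

set_option backward.isDefEq.respectTransparency false
set_option backward.isDefEq.respectTransparency.types false
open Groth.Agent.ToposFinLib

/-- Equivalence of (i), (ii bis) and (iii), for the topos of sheaves of sets on a small site admitting a
generating family of coherent objects: the coequalizer of every pair of arrows between coherent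
objects is coherent if and only if every object X for which Hom(X, -) commutes with small filtered
colimits is coherent; and every object is a small filtered colimit of coherent objects if and only
if that same condition holds. -/
theorem result {C : Type u} [SmallCategory C]
    {J : GrothendieckTopology C} (hE : ToposFin.HasCoherentGenerators J) :
    ((∀ (X₀ X₁ : ToposFin.Sh J) (a b : X₁ ⟶ X₀), ToposFin.IsCoherent X₀ → ToposFin.IsCoherent X₁ →
        ToposFin.IsCoherent (coequalizer a b)) ↔
      (∀ X : ToposFin.Sh J, ToposFin.IsFP X → ToposFin.IsCoherent X)) ∧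
    ((∀ X : ToposFin.Sh J, ∃ (I : Type u) (_ : SmallCategory I) (_ : IsFiltered I) (D : I ⥤ ToposFin.Sh J),
        (∀ i, ToposFin.IsCoherent (D.obj i)) ∧ Nonempty (X ≅ colimit D)) ↔
      (∀ X : ToposFin.Sh J, ToposFin.IsFP X → ToposFin.IsCoherent X)) := by
  have hq := hasQC_of_hasCoherent hE
  refine ⟨⟨fun h X hX => ?_, fun h X₀ X₁ a b h₀ h₁ =>
    h _ (isFP_coequalizer a b (isFP_of_isCoherent hq h₀) (isFP_of_isCoherent hq h₁))⟩, ⟨fun h X hX => ?_, fun h X => ?_⟩⟩
  · obtain ⟨X₀, X₁, a, b, i, p, h₀, h₁, hip⟩ := (isFP_iff_retract hE X).1 hX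
    exact isCoherent_of_retract i p hip (h _ _ a b h₀ h₁)
  · obtain ⟨I, _, _, D, hD, ⟨e⟩⟩ := h X
    obtain ⟨s, f, hf⟩ := (isFP_iff.1 hX I D).2 e.hom
    exact isCoherent_of_retract f (colimit.ι D s ≫ e.inv) (by simp [reassoc_of% hf]) (hD s)
  · obtain ⟨I, hI, hI', D, hD, he⟩ := exists_presentation hE X
    refine ⟨I, hI, hI', D, fun s => ?_, he⟩
    obtain ⟨X₀, X₁, a, b, h₀, h₁, hs⟩ := hD s
    exact hs ▸ h _ (isFP_coequalizer a b (isFP_of_isCoherent hq h₀) (isFP_of_isCoherent hq h₁))

end Groth.Agent.S5582
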