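import Groth.Statements.S5586
import Groth.Agent.ToposFinLib.Alg

set_option autoImplicit false
open CategoryTheory CategoryTheory.Limits Opposite
universe u
open ToposFin

namespace Groth.Agent.S5586

set_option backward.isDefEq.respectTransparency false
set_option backward.isDefEq.respectTransparency.types false
open Groth.Agent.ToposFinLib

/-- Quasi-separated and coherent cases: for an algebraic topos of sheaves of sets on a small site: let f
: X -> Y be a morphism and (Y_i -> Y) a jointly epimorphic family. If the Y_i are quasi-separated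
(resp. coherent), then f is quasi-separated (resp. coherent) if and only if every X x_Y Y_i is a
quasi-separated (resp. coherent) object. -/
theorem result {C : Type u} [SmallCategory C]
    {J : GrothendieckTopology C} (hE : ToposFin.IsAlgebraic J) {X Y : ToposFin.Sh J} (f : X ⟶ Y)
    {ι : Type u} (Yi : ι → ToposFin.Sh J) (g : ∀ i, Yi i ⟶ Y)
    (hg : ∀ (Z : ToposFin.Sh J) (a b : Y ⟶ Z), (∀ i, g i ≫ a = g i ≫ b) → a = b) :
    ((∀ i, ToposFin.IsQS (Yi i)) → (ToposFin.IsQSHom f ↔ ∀ i, ToposFin.IsQS (pullback f (g i)))) ∧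
    ((∀ i, ToposFin.IsCoherent (Yi i)) →
      (ToposFin.IsCohHom f ↔ ∀ i, ToposFin.IsCoherent (pullback f (g i)))) := by
  have hsnd := fun i => IsPullback.of_hasPullback f (g i)
  have hq : HasQCGenerators J := hasQC_of_isAlgebraic hE
  refine ⟨fun hY => ⟨fun h i => isQS_of_isQSHom (isQSHom_of_isPullback (hsnd i) h) (hY i),
    fun h => isQSHom_of_cov hq f hg fun i => isQSHom_of_isAlgebraic hE _ (h i)⟩,
    fun hY => ⟨fun h i => ⟨isQC_of_isQCHom (isQCHom_snd (g i) h.1) (hY i).1,
      isQS_of_isQSHom (isQSHom_of_isPullback (hsnd i) h.2) (hY i).2⟩,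
    fun h => ⟨isQCHom_of_cov hq f hg fun i => isQCHom_of_isQS _ (h i).1 (hY i).2,
      isQSHom_of_cov hq f hg fun i => isQSHom_of_isAlgebraic hE _ (h i).2⟩⟩⟩

end Groth.Agent.S5586
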