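import Groth.Statements.S5588
import Groth.Agent.ToposFinLib.FPX

set_option autoImplicit false
open CategoryTheory CategoryTheory.Limits Opposite
universe u
open ToposFin

namespace Groth.Agent.S5588

set_option backward.isDefEq.respectTransparency false
set_option backward.isDefEq.respectTransparency.types false
open Groth.Agent.ToposFinLib

/-- (ii) implies (i), for the topos of sheaves of sets on a small site: let S be an isomorphism-closed
generating set of quasi-compact objects, stable under finite colimits and under fibre products. Then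
S is the set of all coherent objects (so the topos is locally coherent), and every object X for
which Hom(X, -) commutes with small filtered colimits is coherent. -/
theorem result {C : Type u} [SmallCategory C]
    {J : GrothendieckTopology C} (S : Set (ToposFin.Sh J)) (hqc : ∀ K ∈ S, ToposFin.IsQC K)
    (hiso : ∀ ⦃K L : ToposFin.Sh J⦄, K ∈ S → Nonempty (K ≅ L) → L ∈ S)
    (hgen : ToposFin.IsGenerating S) (hpb : ToposFin.ClosedUnderPullbacks S)
    (hcolim : ∀ (K : Type) [SmallCategory K] [FinCategory K] (D : K ⥤ ToposFin.Sh J),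
      (∀ k, D.obj k ∈ S) → colimit D ∈ S) :
    (∀ X : ToposFin.Sh J, X ∈ S ↔ ToposFin.IsCoherent X) ∧
    (∀ X : ToposFin.Sh J, ToposFin.IsFP X → ToposFin.IsCoherent X) := by
  have hsum : ∀ {κ : Type u} [Finite κ] (F : κ → ToposFin.Sh J), (∀ k, F k ∈ S) → (∐ F) ∈ S := fun {κ} _ F hF => by
    obtain ⟨n, ⟨e⟩⟩ := Finite.exists_equiv_fin κ
    exact hiso (hcolim _ (Discrete.functor (F ∘ e.symm)) fun k => hF _) ⟨Sigma.whiskerEquiv e.symm fun _ => Iso.refl _⟩
  have hcoeq : ∀ {K L : ToposFin.Sh J} (a b : K ⟶ L), K ∈ S → L ∈ S → coequalizer a b ∈ S := fun a b hK hL =>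
    hcolim WalkingParallelPair (parallelPair a b) fun k => by cases k <;> assumption
  have hcoh : ∀ X : ToposFin.Sh J, IsCoherent X → X ∈ S := fun X hX => by
    obtain ⟨κ, _, W, w, hW, hw⟩ := exists_cover_of_finite (gen_of_isGenerating hgen) hX.1
    let p : (∐ W) ⟶ X := Sigma.desc w
    have hp : Epi p := (cov_iff_epi w).1 hw
    obtain ⟨κ', _, V, v, hV, hv⟩ := exists_cover_of_finite (gen_of_isGenerating hgen)
      (hX.2 _ _ p p (hqc _ (hsum W hW)) (hqc _ (hsum W hW)))
    let a : (∐ V) ⟶ ∐ W := Sigma.desc fun k => v k ≫ pullback.fst p p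
    let b : (∐ V) ⟶ ∐ W := Sigma.desc fun k => v k ≫ pullback.snd p p
    have hab : a ≫ p = b ≫ p := Sigma.hom_ext _ _ fun k => by simp [a, b, pullback.condition]
    refine hiso (hcoeq a b (hsum V hV) (hsum W hW)) ?_
    have hcov : Cov (fun _ : PUnit.{u + 1} => p) := fun Z f g e => (cancel_epi p).1 (e PUnit.unit)
    obtain ⟨h, hh⟩ := exists_glue hcov (fun _ => coequalizer.π a b) fun _ _ => hv _ _ _ fun k => by
      have e := congrArg (fun z => Sigma.ι V k ≫ z) (coequalizer.condition a b)
      simpa [a, b] using e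
    exact ⟨⟨coequalizer.desc p hab, h, coequalizer.hom_ext (by simpa using hh PUnit.unit),
      (cancel_epi p).1 (by rw [reassoc_of% hh PUnit.unit]; simp)⟩⟩
  refine ⟨fun X => ⟨isCoherent_of_mem hqc hgen hpb, hcoh X⟩, fun X hX => ?_⟩
  obtain ⟨X₀, X₁, a, b, i, p, h₀, h₁, hip⟩ :=
    (isFP_iff_retract (hasCoherentGenerators_of_isGenerating hqc hgen hpb) X).1 hX
  exact isCoherent_of_retract i p hip (isCoherent_of_mem hqc hgen hpb (hcoeq a b (hcoh _ h₁) (hcoh _ h₀)))

end Groth.Agent.S5588
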