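import Groth.Statements.S5590
import Groth.Agent.ToposFinLib.Alg

set_option autoImplicit false
open CategoryTheory CategoryTheory.Limits Opposite
universe u
open ToposFin

namespace Groth.Agent.S5590

set_option backward.isDefEq.respectTransparency false
set_option backward.isDefEq.respectTransparency.types false
open Groth.Agent.ToposFinLib

/-- Let f be a morphism of topoi of sheaves of sets on small sites, with inverse image functor F (left
adjoint, preserving finite limits); let S be a generating set of coherent objects of the target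
topos and assume the source topos admits a generating family of quasi-compact objects. Then f is
coherent, i.e. F carries quasi-compact objects to quasi-compact objects and quasi-separated objects
to quasi-separated objects, if and only if F(X) is coherent for every X in S. -/
theorem result {C D : Type u} [SmallCategory C] [SmallCategory D]
    {J : GrothendieckTopology C} {K : GrothendieckTopology D}
    (F : ToposFin.Sh K ⥤ ToposFin.Sh J) (R : ToposFin.Sh J ⥤ ToposFin.Sh K) (adj : F ⊣ R)
    [PreservesFiniteLimits F]
    (hE' : ToposFin.HasQCGenerators J)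
    (S : Set (ToposFin.Sh K)) (hS : ∀ X ∈ S, ToposFin.IsCoherent X) (hgen : ToposFin.IsGenerating S) :
    ((∀ X : ToposFin.Sh K, ToposFin.IsQC X → ToposFin.IsQC (F.obj X)) ∧
      (∀ X : ToposFin.Sh K, ToposFin.IsQS X → ToposFin.IsQS (F.obj X))) ↔
      ∀ X ∈ S, ToposFin.IsCoherent (F.obj X) := by
  refine ⟨fun h X hX => ⟨h.1 X (hS X hX).1, h.2 X (hS X hX).2⟩, fun h => ?_⟩
  have hqc : ∀ X : ToposFin.Sh K, IsQC X → IsQC (F.obj X) := fun X hX => by
    obtain ⟨κ, _, W, w, hW, hw⟩ := exists_cover_of_finite (gen_of_isGenerating hgen) hX
    exact isQC_of_finite_cov (cov_map_of_adj adj hw) fun k => (h _ (hW k)).1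
  refine ⟨hqc, fun X hX => ?_⟩
  obtain ⟨ι, G, π, hG, hπ⟩ := gen_of_isGenerating hgen X
  refine isQS_of_cov (cov_map_of_adj adj hπ) (fun i => (h _ (hG i)).2) fun i => ?_
  refine isQCHom_of_cov hE' _ (cov_map_of_adj adj hπ) fun j => isQCHom_of_isQS _ ?_ (h _ (hG j)).2
  exact isQC_of_iso ((IsPullback.of_hasPullback (π i) (π j)).map F).isoPullback
    (hqc _ (hX _ _ (π i) (π j) (hS _ (hG i)).1 (hS _ (hG j)).1))

end Groth.Agent.S5590
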