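import Groth.Statements.S5593
import Groth.Agent.SpecArrowLib.Basic
-- import your own Groth.Agent.* helpers here

set_option autoImplicit false
open CategoryTheory CategoryTheory.Limits AlgebraicGeometry Opposite
universe u
open EtDesc

namespace Groth.Agent.S5593

/-- Let X be a scheme, x, x' points of X with strict localisations Spec R -> X and Spec R' -> X (R, R'
strict henselisations of the local rings at x and x'). There is an X-morphism Spec R' -> Spec R,
i.e. the geometric point over x is a specialization of the one over x', if and only if x lies in the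
closure of x'. -/
theorem result (X : Scheme.{u}) (x x' : X)
    (R : Type u) [CommRing R] [IsLocalRing R] [Algebra (X.presheaf.stalk x) R]
    [IsLocalHom (algebraMap (X.presheaf.stalk x) R)] [Hensel.IsStrictHenselization (X.presheaf.stalk x) R]
    (R' : Type u) [CommRing R'] [IsLocalRing R'] [Algebra (X.presheaf.stalk x') R']
    [IsLocalHom (algebraMap (X.presheaf.stalk x') R')] [Hensel.IsStrictHenselization (X.presheaf.stalk x') R'] :
    (∃ g : Spec (CommRingCat.of R') ⟶ Spec (CommRingCat.of R), g ≫ Hens2.specOf X x R = Hens2.specOf X x' R') ↔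
      x' ⤳ x := by
  refine ⟨fun ⟨g, hg⟩ => ?_, fun sp => ?_⟩
  · have hp : Nonempty (Spec (CommRingCat.of (IsLocalRing.ResidueField R'))) :=
      inferInstanceAs (Nonempty (PrimeSpectrum _))
    obtain ⟨p⟩ := hp
    haveI : Nonempty (Spec (CommRingCat.of R')) := ⟨Spec.map (CommRingCat.ofHom (IsLocalRing.residue R')) p⟩
    exact SpecArrowLib.specializes_of_eq g (Spec.map (CommRingCat.ofHom (IsLocalRing.residue R')) p) (by
      rw [hg]
      exact (Scheme.Hom.comp_apply _ _ _).symm.trans (SpecArrowLib.geomPt_apply (x' := x') R' p))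
  · obtain ⟨u, hu⟩ := SpecArrowLib.exists_point (R := R) (R' := R') sp
    obtain ⟨χ, ⟨hχ, -⟩, -⟩ := SpecArrowLib.existsUnique_arrow sp u hu
    exact ⟨Spec.map (CommRingCat.ofHom χ), (SpecArrowLib.comp_specOf_iff sp χ).2 hχ⟩

end Groth.Agent.S5593
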