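import Groth.Statements.S5594
import Groth.Agent.SpecArrowLib.Basic
-- import your own Groth.Agent.* helpers here

set_option autoImplicit false
open CategoryTheory CategoryTheory.Limits AlgebraicGeometry Opposite
universe u
open EtDesc

namespace Groth.Agent.S5594

/-- Let X be a scheme, x, x' points of X with strict localisations Spec R -> X and Spec R' -> X, and ξ'
: Spec κ(R') -> Spec R' the closed point, a geometric point of X over x'. Then restricting along ξ'
is a bijection from the X-morphisms Spec R' -> Spec R (specialization arrows) onto the X-morphisms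
from the geometric point Spec κ(R') to Spec R: injectivity and surjectivity are stated separately. -/
theorem result (X : Scheme.{u}) (x x' : X)
    (R : Type u) [CommRing R] [IsLocalRing R] [Algebra (X.presheaf.stalk x) R]
    [IsLocalHom (algebraMap (X.presheaf.stalk x) R)] [Hensel.IsStrictHenselization (X.presheaf.stalk x) R]
    (R' : Type u) [CommRing R'] [IsLocalRing R'] [Algebra (X.presheaf.stalk x') R']
    [IsLocalHom (algebraMap (X.presheaf.stalk x') R')] [Hensel.IsStrictHenselization (X.presheaf.stalk x') R'] :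
    (∀ g₁ g₂ : Spec (CommRingCat.of R') ⟶ Spec (CommRingCat.of R),
      g₁ ≫ Hens2.specOf X x R = Hens2.specOf X x' R' → g₂ ≫ Hens2.specOf X x R = Hens2.specOf X x' R' →
      Spec.map (CommRingCat.ofHom (IsLocalRing.residue R')) ≫ g₁ =
        Spec.map (CommRingCat.ofHom (IsLocalRing.residue R')) ≫ g₂ → g₁ = g₂) ∧
    (∀ h : Spec (CommRingCat.of (IsLocalRing.ResidueField R')) ⟶ Spec (CommRingCat.of R),
      h ≫ Hens2.specOf X x R = Hens2.geomPt X x' R' →
      ∃ g : Spec (CommRingCat.of R') ⟶ Spec (CommRingCat.of R),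
        g ≫ Hens2.specOf X x R = Hens2.specOf X x' R' ∧
        Spec.map (CommRingCat.ofHom (IsLocalRing.residue R')) ≫ g = h) := by
  have hp : Nonempty (Spec (CommRingCat.of (IsLocalRing.ResidueField R'))) :=
    inferInstanceAs (Nonempty (PrimeSpectrum _))
  obtain ⟨p⟩ := hp
  refine ⟨fun g₁ g₂ h₁ h₂ h => ?_, fun h hh => ?_⟩
  · obtain ⟨χ₁, rfl⟩ := Spec.map_surjective g₁
    obtain ⟨χ₂, rfl⟩ := Spec.map_surjective g₂
    haveI : Nonempty (Spec (CommRingCat.of R')) := ⟨Spec.map (CommRingCat.ofHom (IsLocalRing.residue R')) p⟩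
    have sp : x' ⤳ x := SpecArrowLib.specializes_of_eq (Spec.map χ₁)
      (Spec.map (CommRingCat.ofHom (IsLocalRing.residue R')) p) (by
        rw [h₁]
        exact (Scheme.Hom.comp_apply _ _ _).symm.trans (SpecArrowLib.geomPt_apply (x' := x') R' p))
    rw [← CommRingCat.ofHom_hom χ₁] at h₁ h ⊢
    rw [← CommRingCat.ofHom_hom χ₂] at h₂ h ⊢
    have e₁ := (SpecArrowLib.comp_specOf_iff sp χ₁.hom).1 h₁
    have e₂ := (SpecArrowLib.comp_specOf_iff sp χ₂.hom).1 h₂
    rw [← Spec.map_comp, ← Spec.map_comp, Spec.map_inj] at h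
    have e : (IsLocalRing.residue R').comp χ₁.hom = (IsLocalRing.residue R').comp χ₂.hom := congrArg CommRingCat.Hom.hom h
    obtain ⟨χ, -, hu⟩ := SpecArrowLib.existsUnique_arrow sp ((IsLocalRing.residue R').comp χ₁.hom) (by
      rw [RingHom.comp_assoc, e₁])
    rw [show χ₁.hom = χ₂.hom from (hu _ ⟨e₁, rfl⟩).trans (hu _ ⟨e₂, e.symm⟩).symm]
  · obtain ⟨u, rfl⟩ := Spec.map_surjective h
    have sp : x' ⤳ x := SpecArrowLib.specializes_of_eq (Spec.map u) p (by
      rw [hh]; exact SpecArrowLib.geomPt_apply R' p)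
    rw [← CommRingCat.ofHom_hom u] at hh ⊢
    obtain ⟨χ, ⟨hχ₁, hχ₂⟩, -⟩ := SpecArrowLib.existsUnique_arrow sp u.hom ((SpecArrowLib.comp_geomPt_iff sp u.hom).1 hh)
    exact ⟨Spec.map (CommRingCat.ofHom χ), (SpecArrowLib.comp_specOf_iff sp χ).2 hχ₁, by
      rw [← Spec.map_comp, ← CommRingCat.ofHom_comp, hχ₂]⟩

end Groth.Agent.S5594
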