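import Groth.Statements.S5595
import Groth.Agent.DescentStalkLib.UnivSub
-- import your own Groth.Agent.* helpers here

set_option autoImplicit false
set_option backward.isDefEq.respectTransparency false
set_option backward.isDefEq.respectTransparency.types false
open CategoryTheory CategoryTheory.Limits AlgebraicGeometry Opposite
universe u
open EtDesc

namespace Groth.Agent.S5595

open Groth.Agent.DescentStalkLib Groth.Agent.EtPtsLib

theorem isIso_fst_of_pull {X' X : Scheme.{u}} (f : X' ⟶ X) (hf : EtDesc.IsUnivSubmersive f) {G₁ G₂ F : EtDesc.Sh X}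
    (a₁ : G₁ ⟶ F) (a₂ : G₂ ⟶ F) [Mono a₂] (c : (EtDesc.pullSh f).obj G₁ ⟶ (EtDesc.pullSh f).obj G₂)
    (hc : c ≫ (EtDesc.pullSh f).map a₂ = (EtDesc.pullSh f).map a₁) : ∃ d : G₁ ⟶ G₂, d ≫ a₂ = a₁ := by
  haveI : Surjective f := ⟨fun x => by
    obtain ⟨z, hz⟩ := (hf X (𝟙 X)).1 x
    refine ⟨pullback.fst f (𝟙 X) z, ?_⟩
    rw [← Scheme.Hom.comp_apply, pullback.condition, Category.comp_id]
    exact hz⟩
  haveI := (S3047.result f).2
  haveI := pullSh_preservesFiniteLimits f
  have pb := (IsPullback.of_hasPullback a₁ a₂).map (EtDesc.pullSh f)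
  haveI : Mono ((EtDesc.pullSh f).map a₂) := inferInstance
  haveI : IsIso ((EtDesc.pullSh f).map (pullback.fst a₁ a₂)) := by
    refine ⟨⟨pb.lift (𝟙 _) c (by rw [Category.id_comp, hc]), ?_, pb.lift_fst _ _ _⟩⟩
    haveI : Mono ((EtDesc.pullSh f).map (pullback.fst a₁ a₂)) := inferInstance
    rw [← cancel_mono ((EtDesc.pullSh f).map (pullback.fst a₁ a₂)), Category.assoc, pb.lift_fst, Category.comp_id,
      Category.id_comp]
  haveI := isIso_of_reflects_iso (pullback.fst a₁ a₂) (EtDesc.pullSh f)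
  exact ⟨inv (pullback.fst a₁ a₂) ≫ pullback.snd a₁ a₂, by rw [Category.assoc, ← pullback.condition, IsIso.inv_hom_id_assoc]⟩

theorem exists_descended {X' X : Scheme.{u}} (f : X' ⟶ X) (hf : EtDesc.IsUnivSubmersive f) (F : EtDesc.Sh X)
    (G' : EtDesc.Sh X') (a' : G' ⟶ (EtDesc.pullSh f).obj F) [Mono a']
    (φ : (EtDesc.pullSh (pullback.fst f f)).obj G' ≅ (EtDesc.pullSh (pullback.snd f f)).obj G')
    (hφ : φ.hom ≫ (EtDesc.pullSh (pullback.snd f f)).map a' =
      (EtDesc.pullSh (pullback.fst f f)).map a' ≫ (EtDesc.canIso f F).hom) :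
    ∃ (G : EtDesc.Sh X) (a : G ⟶ F) (_ : Mono a) (ψ : (EtDesc.pullSh f).obj G ≅ G'),
      ψ.hom ≫ a' = (EtDesc.pullSh f).map a := by
  haveI : (EtDesc.pushSh f).IsRightAdjoint := (EtDesc.adjSh f).isRightAdjoint
  haveI : Mono ((EtDesc.pushSh f).map a') := inferInstance
  let u : F ⟶ (EtDesc.pushSh f).obj ((EtDesc.pullSh f).obj F) := (EtDesc.adjSh f).unit.app F
  let a : pullback u ((EtDesc.pushSh f).map a') ⟶ F := pullback.fst _ _
  haveI : Mono a := inferInstanceAs (Mono (pullback.fst _ _))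
  let b : pullback u ((EtDesc.pushSh f).map a') ⟶ (EtDesc.pushSh f).obj G' := pullback.snd _ _
  let c := ((EtDesc.adjSh f).homEquiv _ _).symm b
  have hca : c ≫ a' = (EtDesc.pullSh f).map a := by
    apply ((EtDesc.adjSh f).homEquiv _ _).injective
    rw [Adjunction.homEquiv_naturality_right, Equiv.apply_symm_apply, Adjunction.homEquiv_unit]
    exact pullback.condition.symm.trans ((EtDesc.adjSh f).unit.naturality a)
  haveI := pullSh_preservesFiniteLimits f
  haveI : IsIso c := by
    refine isIso_of_alg_sh _ fun p => ⟨?_, ?_⟩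
    · have hinj : Function.Injective (stMap (geomPtAlg p) (c ≫ a')) := by
        rw [hca]
        haveI : Mono ((EtDesc.pullSh f).map a) := inferInstance
        exact injective_stMap_of_mono _ _
      intro x y e
      refine hinj ?_
      rw [stMap_comp, stMap_comp]
      exact congrArg (stMap (geomPtAlg p) a') e
    · intro t
      let ζ := geomPtAlg p
      obtain ⟨w, hw⟩ := (bijective_us f ζ F).2 (stMap ζ a' t)
      obtain ⟨U, l, s, rfl⟩ := exists_germ w
      let B := (EtCoh.bc f).obj U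
      let S := u.hom.app (op U) s
      let A := agree (pushout a' a').obj (U := B) ((pushout.inl a' a').hom.app (op B) S)
        ((pushout.inr a' a').hom.app (op B) S)
      have hA : ∀ {Ω : Type u} [Field Ω] [IsAlgClosed Ω] (γ : Spec (CommRingCat.of Ω) ⟶ B.left),
          γ default ∈ A ↔ us f _ F (germ _ F U (imPt f γ) s) ∈ Set.range (stMap (γ ≫ B.hom) a') := by
        intro Ω _ _ γ
        rw [show γ default ∈ A ↔ _ from mem_agree_iff γ _ _, mem_range_stMap_of_mono, ← germAt_unit, germAt, germAt,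
          germAt, stMap_germ, stMap_germ]
        rfl
      have hsat : ∀ (Ω : Type u) [Field Ω] [IsAlgClosed Ω] (γ₁ γ₂ : Spec (CommRingCat.of Ω) ⟶ B.left),
          γ₁ ≫ bcFst f U = γ₂ ≫ bcFst f U → γ₁ default ∈ A → γ₂ default ∈ A := by
        intro Ω _ _ γ₁ γ₂ h h1
        rw [hA] at h1 ⊢
        obtain ⟨x, hx⟩ := h1
        have key : ∀ (ω : Spec (CommRingCat.of Ω) ⟶ EtDesc.X2 f) (ζ₁ ζ₂ : Spec (CommRingCat.of Ω) ⟶ X')
            (e₁ : ω ≫ pullback.fst f f = ζ₁) (e₂ : ω ≫ pullback.snd f f = ζ₂) (e : ζ₁ ≫ f = ζ₂ ≫ f)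
            (y : St (ζ₁ ≫ f) F) (x : St ζ₁ G') (hx : stMap ζ₁ a' x = us f ζ₁ F y),
            us f ζ₂ F (tr e y) ∈ Set.range (stMap ζ₂ a') := by
          rintro ω _ _ rfl rfl e y x hx
          obtain ⟨x₂, hx₂⟩ := (bijective_us (pullback.snd f f) ω G').2
            (stMap ω φ.hom (us (pullback.fst f f) ω G' x))
          refine ⟨x₂, (bijective_us (pullback.snd f f) ω _).1 ?_⟩
          rw [← us_natural, hx₂, ← stMap_comp, hφ, stMap_comp, us_natural, hx, stMap_canIso f F ω y e]
        rw [← tr_germ_imPt f F h]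
        exact key (pullback.lift _ _ (imPt_eq f h)) _ _ (pullback.lift_fst _ _ _) (pullback.lift_snd _ _ _)
          (imPt_eq f h) _ x hx
      obtain ⟨O, hO⟩ := exists_opens_of_saturated f hf A (isOpen_agree _ _ _) hsat
      let γ₀ := liftHom ζ (liftBc f ζ U l)
      have h0 : γ₀ default ∈ A := by
        refine (germ_eq_iff_mem_agree ζ _ (liftBc f ζ U l) _ _).1 ?_
        refine (stMap_germ ζ (pushout.inl a' a') B (liftBc f ζ U l) S).symm.trans ?_
        refine Eq.trans ?_ (stMap_germ ζ (pushout.inr a' a') B (liftBc f ζ U l) S)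
        refine (mem_range_stMap_of_mono a' ζ _).1 ⟨t, ?_⟩
        rw [← hw, us_germ]
        rfl
      have hlO : liftHom (ζ ≫ f) l default ∈ O := by
        rw [← liftHom_liftBc_fst f ζ U l, Scheme.Hom.comp_apply]
        exact (hO _).1 h0
      obtain ⟨lO, hlO'⟩ := exists_fiber_map_eq (ζ ≫ f) (openIncl U O) l (⟨_, hlO⟩ : O.toScheme) rfl
      let s₁ := F.obj.map (openIncl U O).op s
      have hs₁ : u.hom.app (op (openSub U O)) s₁ ∈
          Set.range (a'.hom.app (op ((EtCoh.bc f).obj (openSub U O)))) := by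
        refine mem_range_of_mono a' _ (eq_of_agree fun z => ?_)
        have hz : ((EtCoh.bc f).map (openIncl U O)).left z ∈ A := by
          rw [hO, ← Scheme.Hom.comp_apply, bcFst_map, Scheme.Hom.comp_apply]
          exact (bcFst f (openSub U O) z : O.toScheme).2
        let δ := geomPtAlg z
        have e1 : u.hom.app (op (openSub U O)) s₁ =
            ((EtDesc.pullSh f).obj F).obj.map ((EtCoh.bc f).map (openIncl U O)).op S :=
          NatTrans.naturality_apply u.hom (openIncl U O).op s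
        rw [e1, NatTrans.naturality_apply, NatTrans.naturality_apply]
        have h2 := (germ_eq_iff_mem_agree (δ ≫ ((EtCoh.bc f).obj (openSub U O)).hom) (pushout a' a').obj
          ((Scheme.pointSmallEtale _).fiber.map ((EtCoh.bc f).map (openIncl U O)) (liftOf δ))
          ((pushout.inl a' a').hom.app (op B) S) ((pushout.inr a' a').hom.app (op B) S)).2 (by
            rw [liftHom_map, liftHom_liftOf, Scheme.Hom.comp_apply, geomPtAlg_default]
            exact hz)
        have h3 := (mem_agree_iff δ _ _).2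
          ((germ_res _ _ _ (liftOf δ) _).trans (h2.trans (germ_res _ _ _ (liftOf δ) _).symm))
        rwa [geomPtAlg_default] at h3
      obtain ⟨t₁, ht₁⟩ := hs₁
      have pb := (IsPullback.of_hasPullback u ((EtDesc.pushSh f).map a')).map
        (sheafToPresheaf X.smallEtaleTopology (Type (u + 1)) ⋙ (evaluation _ _).obj (op (openSub U O)))
      obtain ⟨g, hg₁, -⟩ := Types.exists_of_isPullback pb s₁ t₁ ht₁.symm
      refine ⟨us f ζ _ (germ _ _ (openSub U O) lO g), injective_stMap_of_mono a' ζ ?_⟩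
      refine (stMap_comp ζ c a' _).symm.trans ?_
      rw [hca, us_natural, stMap_germ, ← hw]
      refine congrArg (us f ζ F) ?_
      rw [← hlO', ← germ_res]
      exact congrArg (germ (ζ ≫ f) F (openSub U O) lO) hg₁
  exact ⟨_, a, inferInstance, asIso c, hca⟩

/-- Let f : X' -> X be universally submersive and F an etale sheaf of sets on X, with f^* F its inverse
image on X' and pr_1, pr_2 the projections of X' x_X X'. Then the map from subsheaves of F to
subsheaves of f^* F is injective, and its image consists exactly of the subsheaves G' of f^* F with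
pr_1^* G' = pr_2^* G' inside pr_1^* f^* F = pr_2^* f^* F: (a) subsheaves G_1, G_2 of F with the same
inverse image are the same subobject; (b) such a G' is the inverse image of a subsheaf of F. -/
theorem result {X' X : Scheme.{u}} (f : X' ⟶ X)
    (hf : EtDesc.IsUnivSubmersive f) (F : EtDesc.Sh X) :
    (∀ (G₁ G₂ : EtDesc.Sh X) (a₁ : G₁ ⟶ F) (a₂ : G₂ ⟶ F) [Mono a₁] [Mono a₂],
      (∃ φ : (EtDesc.pullSh f).obj G₁ ≅ (EtDesc.pullSh f).obj G₂,
          φ.hom ≫ (EtDesc.pullSh f).map a₂ = (EtDesc.pullSh f).map a₁) →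
      ∃ ψ : G₁ ≅ G₂, ψ.hom ≫ a₂ = a₁) ∧
    (∀ (G' : EtDesc.Sh X') (a' : G' ⟶ (EtDesc.pullSh f).obj F) [Mono a'],
      (∃ φ : (EtDesc.pullSh (pullback.fst f f)).obj G' ≅ (EtDesc.pullSh (pullback.snd f f)).obj G',
          φ.hom ≫ (EtDesc.pullSh (pullback.snd f f)).map a' =
            (EtDesc.pullSh (pullback.fst f f)).map a' ≫ (EtDesc.canIso f F).hom) →
      ∃ (G : EtDesc.Sh X) (a : G ⟶ F) (_ : Mono a) (ψ : (EtDesc.pullSh f).obj G ≅ G'),
        ψ.hom ≫ a' = (EtDesc.pullSh f).map a) := by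
  refine ⟨fun G₁ G₂ a₁ a₂ _ _ ⟨φ, hφ⟩ => ?_, fun G' a' _ ⟨φ, hφ⟩ => exists_descended f hf F G' a' φ hφ⟩
  obtain ⟨d, hd⟩ := isIso_fst_of_pull f hf a₁ a₂ φ.hom hφ
  obtain ⟨e, he⟩ := isIso_fst_of_pull f hf a₂ a₁ φ.inv (by rw [← hφ, Iso.inv_hom_id_assoc])
  exact ⟨⟨d, e, by rw [← cancel_mono a₁, Category.assoc, he, hd, Category.id_comp],
    by rw [← cancel_mono a₂, Category.assoc, hd, he, Category.id_comp]⟩, hd⟩

end Groth.Agent.S5595
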