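import Groth.Statements.S5598
import Groth.Agent.PCohH7.Terms
import Groth.Agent.PCohH7.Intermediate
-- import your own Groth.Agent.* helpers here

set_option autoImplicit false
set_option backward.isDefEq.respectTransparency false
universe w v u
open CategoryTheory CategoryTheory.Limits
open PCoh

namespace Groth.Agent.S5598

/-- (i') ⇔ (ii') (punctual site): let C be an abelian category and C₀ a strictly full additive
subcategory, quasi-stable under kernels of epimorphisms and quasi-liftable. An object F of D(C) is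
n-pseudo-coherent (isomorphic in D(C) to a strictly n-pseudo-coherent complex) if and only if there
are a strictly perfect complex E (bounded, all terms in C₀) and a morphism E ⟶ F of D(C) which is an
n-isomorphism: an isomorphism on H^i for i > n and an epimorphism on H^n. -/
theorem result {C : Type u} [Category.{v} C] [Abelian C] [HasDerivedCategory.{w} C]
    (P : ObjectProperty C) [P.IsClosedUnderIsomorphisms] [P.ContainsZero] (hsum : ∀ X Y : C, P X → P Y → P (X ⨯ Y))
    (hqs : PCoh.IsQuasiStableUnderKernels P) (hql : PCoh.IsQuasiLiftable P)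
    (n : ℤ) (F : DerivedCategory C) :
    (∃ E : CochainComplex C ℤ, PCoh.IsStrictPC P n E ∧ Nonempty (DerivedCategory.Q.obj E ≅ F)) ↔
      ∃ (E : CochainComplex C ℤ) (a b : ℤ) (α : DerivedCategory.Q.obj E ⟶ F),
        (∀ i : ℤ, i < a ∨ b < i → IsZero (E.X i)) ∧ (∀ i : ℤ, P (E.X i)) ∧
        (∀ i : ℤ, n < i → IsIso ((DerivedCategory.homologyFunctor C i).map α)) ∧
        Epi ((DerivedCategory.homologyFunctor C n).map α) := by
  constructor
  · intro h
    obtain ⟨K, ⟨e⟩⟩ := Groth.Agent.PCohH7.exists_complex F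
    obtain ⟨i, hni, hi⟩ := Groth.Agent.PCohH7.exists_bound (Groth.Agent.PCohH7.PCn.of_iso h e.symm)
    obtain ⟨E, u, h1, h2, h3⟩ := Groth.Agent.PCohH7.exists_perfect_approx hsum hql hni K hi
      (fun k E' u' hk _ hu hE =>
        Groth.Agent.PCohH7.ft_cone_of_strict hsum hqs hql hk u' hu hE (Groth.Agent.PCohH7.PCn.of_iso h e.symm))
    refine ⟨E, n, i, DerivedCategory.Q.map u ≫ e.hom,
      fun j hj => h2 j (hj.imp_right le_of_lt), h1, fun j hj => ?_, ?_⟩
    · haveI := (Groth.Agent.PCohH7.isIso_H_iff u j).2 (h3.1 j hj)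
      rw [Functor.map_comp]
      infer_instance
    · haveI := (Groth.Agent.PCohH7.epi_H_iff u n).2 h3.2
      rw [Functor.map_comp]
      infer_instance
  · rintro ⟨E, a, b, α, hE, hP, hiso, hepi⟩
    obtain ⟨G, g, δ, hT⟩ := Pretriangulated.distinguished_cocone_triangle α
    exact Groth.Agent.PCohH7.pcn_obj₂ hsum hqs hql hT
      (Groth.Agent.PCohH7.pcn_Q ⟨⟨b, fun j hj => hE j (Or.inr hj)⟩, fun j _ => hP j⟩)
      (Groth.Agent.PCohH7.pcn_of_isZero_H _
        ((Groth.Agent.PCohH7.niso_iff_of_distTriang hT n).1 ⟨hiso, hepi⟩))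

end Groth.Agent.S5598
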