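import Groth.Statements.S5603
import Groth.Agent.PCohH7.Approx
import Groth.Agent.PCohH7.Coh
-- import your own Groth.Agent.* helpers here

set_option autoImplicit false
set_option backward.isDefEq.respectTransparency false
universe w v u
open CategoryTheory CategoryTheory.Limits
open PCoh

namespace Groth.Agent.S5603

/-- Punctual site: let C be an abelian category and C₀ a strictly full additive subcategory,
quasi-stable under kernels of epimorphisms and quasi-liftable. If F ∈ D(C) is acyclic in degrees >
n, then F is n-pseudo-coherent (isomorphic to a strictly n-pseudo-coherent complex) if and only if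
H^n(F) is of C₀-finite type. -/
theorem result {C : Type u} [Category.{v} C] [Abelian C] [HasDerivedCategory.{w} C]
    (P : ObjectProperty C) [P.IsClosedUnderIsomorphisms] [P.ContainsZero] (hsum : ∀ X Y : C, P X → P Y → P (X ⨯ Y))
    (hqs : PCoh.IsQuasiStableUnderKernels P) (hql : PCoh.IsQuasiLiftable P)
    (n : ℤ) (F : DerivedCategory C) (hac : ∀ i : ℤ, n < i → IsZero ((DerivedCategory.homologyFunctor C i).obj F)) :
    (∃ E : CochainComplex C ℤ, PCoh.IsStrictPC P n E ∧ Nonempty (DerivedCategory.Q.obj E ≅ F)) ↔ PCoh.IsOfFiniteType P ((DerivedCategory.homologyFunctor C n).obj F) := by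
  refine ⟨fun h => Groth.Agent.PCohH7.ft_H hqs h hac, fun h => ?_⟩
  obtain ⟨K, ⟨e⟩⟩ := Groth.Agent.PCohH7.exists_complex F
  refine Groth.Agent.PCohH7.PCn.of_iso ?_ e
  refine Groth.Agent.PCohH7.pcn_of_ft hsum hql (show n ≤ n + 1 by omega) K
    (fun j hj => (Groth.Agent.PCohH7.isZero_H_iff K j).1
      ((hac j (by omega)).of_iso ((DerivedCategory.homologyFunctor C j).mapIso e))) fun k E' u' hk hk' hu hE => ?_
  obtain rfl : k = n := by omega
  -- the source has no cohomology in degrees above `k`
  have hT := DerivedCategory.mappingCone_triangle_distinguished u'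
  have h2 : PCoh.IsOfFiniteType P ((DerivedCategory.homologyFunctor C k).obj (DerivedCategory.Q.obj K)) :=
    Groth.Agent.PCohH7.isOfFiniteType_of_iso ((DerivedCategory.homologyFunctor C k).mapIso e).symm h
  have hE1 : PCoh.IsOfFiniteType P ((DerivedCategory.homologyFunctor C (k + 1)).obj (DerivedCategory.Q.obj E')) :=
    Groth.Agent.PCohH7.ft_H hqs ((Groth.Agent.PCohH7.pcn_Q hE).mono (by omega)) fun i hi => by
      haveI := (Groth.Agent.PCohH7.isIso_H_iff u' i).2 (hu.1 i (by omega))
      exact ((hac i (by omega)).of_iso ((DerivedCategory.homologyFunctor C i).mapIso e)).of_iso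
        (asIso ((DerivedCategory.homologyFunctor C i).map (DerivedCategory.Q.map u')))
  haveI : Epi (DerivedCategory.HomologySequence.δ _ k (k + 1) rfl :
      (DerivedCategory.homologyFunctor C k).obj (DerivedCategory.Q.mapTriangle.obj
        (CochainComplex.mappingCone.triangle u')).obj₃ ⟶ _) :=
    (DerivedCategory.HomologySequence.exact₁ _ hT k (k + 1) rfl).epi_f
      (((hac (k + 1) (by omega)).of_iso ((DerivedCategory.homologyFunctor C (k + 1)).mapIso e)).eq_of_tgt _ _)
  refine Groth.Agent.PCohH7.isOfFiniteType_of_iso ((DerivedCategory.homologyFunctorFactors C k).app _) ?_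
  exact Groth.Agent.PCohH7.ft_of_exact_epi hsum hql _ (DerivedCategory.HomologySequence.exact₃ _ hT k (k + 1) rfl)
    h2 hE1

end Groth.Agent.S5603
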