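import Groth.Statements.S5608
import Groth.Agent.PCohH7.Approx
import Groth.Agent.PCohH7.Coh
-- import your own Groth.Agent.* helpers here

set_option autoImplicit false
set_option backward.isDefEq.respectTransparency false
universe w v u
open CategoryTheory CategoryTheory.Limits
open PCoh

namespace Groth.Agent.S5608

/-- Punctual site: let C be an abelian category and C₀ a strictly full additive subcategory,
quasi-liftable in C, whose objects are C₀-coherent (of C₀-finite type, and every morphism from an
object of C₀ into them has kernel of C₀-finite type). For F ∈ D(C) with bounded above cohomology and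
n an integer: F is n-pseudo-coherent (isomorphic to a strictly n-pseudo-coherent complex) if and
only if H^n(F) is of C₀-finite type and H^i(F) is C₀-coherent for every i > n. -/
theorem result {C : Type u} [Category.{v} C] [Abelian C] [HasDerivedCategory.{w} C]
    (P : ObjectProperty C) [P.IsClosedUnderIsomorphisms] [P.ContainsZero] (hsum : ∀ X Y : C, P X → P Y → P (X ⨯ Y))
    (hql : PCoh.IsQuasiLiftable P)
    (hcoh : ∀ (X E : C) (u : E ⟶ X), P X → P E → PCoh.IsOfFiniteType P (kernel u))
    (n : ℤ) (F : DerivedCategory C) (b : ℤ) (hb : ∀ i : ℤ, b < i → IsZero ((DerivedCategory.homologyFunctor C i).obj F)) :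
    (∃ E : CochainComplex C ℤ, PCoh.IsStrictPC P n E ∧ Nonempty (DerivedCategory.Q.obj E ≅ F)) ↔
      (PCoh.IsOfFiniteType P ((DerivedCategory.homologyFunctor C n).obj F) ∧
        ∀ i : ℤ, n < i → (PCoh.IsOfFiniteType P ((DerivedCategory.homologyFunctor C i).obj F) ∧
          ∀ (E : C) (u : E ⟶ (DerivedCategory.homologyFunctor C i).obj F), P E → PCoh.IsOfFiniteType P (kernel u))) := by
  have hqs := Groth.Agent.PCohH7.quasiStable_of_coherent hcoh
  have key : ∀ (E : CochainComplex C ℤ), PCoh.IsStrictPC P n E → ∀ i : ℤ, n ≤ i →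
      PCoh.IsOfFiniteType P (E.homology i) ∧ (n < i → Groth.Agent.PCohH7.PreCoh P (E.homology i)) :=
    fun E hE i hi => by
    have hZ : PCoh.IsOfFiniteType P (E.cycles i) := Groth.Agent.PCohH7.isOfFiniteType_of_iso
      (IsLimit.conePointUniqueUpToIso (kernelIsKernel _) (E.cyclesIsKernel i (i + 1) (by simp)))
      (hcoh _ _ (E.d i (i + 1)) (hE.2 (i + 1) (by omega)) (hE.2 i hi))
    refine ⟨Groth.Agent.PCohH7.isOfFiniteType_of_epi (E.homologyπ i) hZ, fun hni => ?_⟩
    exact Groth.Agent.PCohH7.preCoh_cokernel hsum hql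
      (ShortComplex.mk (E.toCycles (i - 1) i) (E.homologyπ i) (E.toCycles_comp_homologyπ _ _))
      (ShortComplex.exact_of_g_is_cokernel _ (E.homologyIsCokernel (i - 1) i (by simp)))
      (Groth.Agent.PCohH7.isOfFiniteType_of_mem (hE.2 (i - 1) (by omega)))
      (Groth.Agent.PCohH7.preCoh_of_mono (E.iCycles i) (fun A u hA => hcoh _ A u (hE.2 i hi) hA))
  constructor
  · rintro ⟨E, hE, ⟨e⟩⟩
    let eH : ∀ i, E.homology i ≅ (DerivedCategory.homologyFunctor C i).obj F := fun i =>
      ((DerivedCategory.homologyFunctorFactors C i).app E).symm ≪≫ (DerivedCategory.homologyFunctor C i).mapIso e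
    exact ⟨Groth.Agent.PCohH7.isOfFiniteType_of_iso (eH n) (key E hE n le_rfl).1,
      fun i hi => ⟨Groth.Agent.PCohH7.isOfFiniteType_of_iso (eH i) (key E hE i hi.le).1,
        Groth.Agent.PCohH7.preCoh_of_iso (eH i) ((key E hE i hi.le).2 hi)⟩⟩
  · rintro ⟨hn, habove⟩
    obtain ⟨K, ⟨e⟩⟩ := Groth.Agent.PCohH7.exists_complex F
    let eH : ∀ i, (DerivedCategory.homologyFunctor C i).obj (DerivedCategory.Q.obj K) ≅
        (DerivedCategory.homologyFunctor C i).obj F := fun i => (DerivedCategory.homologyFunctor C i).mapIso e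
    refine Groth.Agent.PCohH7.PCn.of_iso ?_ e
    refine Groth.Agent.PCohH7.pcn_of_ft hsum hql (le_max_left n (b + 1)) K
      (fun j hj => (Groth.Agent.PCohH7.isZero_H_iff K j).1 ((hb j (by omega)).of_iso (eH j)))
      fun k E u hk _ hu hE => ?_
    have hT := DerivedCategory.mappingCone_triangle_distinguished u
    have hKk : PCoh.IsOfFiniteType P ((DerivedCategory.homologyFunctor C k).obj (DerivedCategory.Q.obj K)) := by
      refine Groth.Agent.PCohH7.isOfFiniteType_of_iso (eH k).symm ?_
      rcases eq_or_lt_of_le hk with rfl | hk'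
      · exact hn
      · exact (habove k hk').1
    have hEk : PCoh.IsOfFiniteType P ((DerivedCategory.homologyFunctor C (k + 1)).obj (DerivedCategory.Q.obj E)) :=
      Groth.Agent.PCohH7.isOfFiniteType_of_iso ((DerivedCategory.homologyFunctorFactors C (k + 1)).app E).symm
        (key E hE (k + 1) (by omega)).1
    have hKk1 : Groth.Agent.PCohH7.PreCoh P
        ((DerivedCategory.homologyFunctor C (k + 1)).obj (DerivedCategory.Q.obj K)) :=
      Groth.Agent.PCohH7.preCoh_of_iso (eH (k + 1)).symm (habove (k + 1) (by omega)).2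
    let h := (DerivedCategory.homologyFunctor C (k + 1)).map (DerivedCategory.Q.map u)
    have hI : PCoh.IsOfFiniteType P (kernel h) :=
      Groth.Agent.PCohH7.ft_of_mono (ShortComplex.mk (kernel.ι h) h (kernel.condition h))
        (ShortComplex.exact_of_f_is_kernel _ (kernelIsKernel h)) inferInstance hEk hKk1
    have h3 := DerivedCategory.HomologySequence.exact₃ _ hT k (k + 1) rfl
    have h1 := DerivedCategory.HomologySequence.exact₁ _ hT k (k + 1) rfl
    let δ' : (DerivedCategory.homologyFunctor C k).obj
        (DerivedCategory.Q.mapTriangle.obj (CochainComplex.mappingCone.triangle u)).obj₃ ⟶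
        (DerivedCategory.homologyFunctor C (k + 1)).obj (DerivedCategory.Q.obj E) :=
      DerivedCategory.HomologySequence.δ (DerivedCategory.Q.mapTriangle.obj
        (CochainComplex.mappingCone.triangle u)) k (k + 1) rfl
    have hδ : δ' ≫ h = 0 := DerivedCategory.HomologySequence.δ_comp _ hT k (k + 1) rfl
    let l := kernel.lift h δ' hδ
    haveI : Epi l := h1.epi_kernelLift
    let S₁ := ShortComplex.mk ((DerivedCategory.homologyFunctor C k).map
      (DerivedCategory.Q.mapTriangle.obj (CochainComplex.mappingCone.triangle u)).mor₂) l (by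
        rw [← cancel_mono (kernel.ι h), Category.assoc, kernel.lift_ι, zero_comp]
        exact DerivedCategory.HomologySequence.comp_δ _ hT k (k + 1) rfl)
    have hS₁ : S₁.Exact := by
      let φ : S₁ ⟶ ShortComplex.mk _ _ (DerivedCategory.HomologySequence.comp_δ _ hT k (k + 1) rfl) :=
        { τ₁ := 𝟙 _
          τ₂ := 𝟙 _
          τ₃ := kernel.ι h
          comm₁₂ := by simp [S₁]
          comm₂₃ := by simp [S₁, l, δ'] }
      haveI : Epi φ.τ₁ := inferInstanceAs (Epi (𝟙 _))
      haveI : IsIso φ.τ₂ := inferInstanceAs (IsIso (𝟙 _))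
      haveI : Mono φ.τ₃ := inferInstanceAs (Mono (kernel.ι h))
      exact (ShortComplex.exact_iff_of_epi_of_isIso_of_mono φ).2 h3
    refine Groth.Agent.PCohH7.isOfFiniteType_of_iso ((DerivedCategory.homologyFunctorFactors C k).app _) ?_
    haveI : Epi S₁.g := inferInstanceAs (Epi l)
    exact Groth.Agent.PCohH7.ft_of_exact_epi hsum hql S₁ hS₁ hKk hI

end Groth.Agent.S5608
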