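import Groth.Statements.S5613
import Mathlib.CategoryTheory.Triangulated.Pretriangulated
import Mathlib.CategoryTheory.Limits.Preserves.Shapes.Products
import Mathlib.CategoryTheory.Limits.Shapes.Biproducts
import Mathlib.Tactic.Ring
import Mathlib.Tactic.Abel

set_option autoImplicit false
universe v u
open CategoryTheory CategoryTheory.Limits CategoryTheory.Pretriangulated
open KZero

namespace Groth.Agent.S5613

section

open CategoryTheory.Pretriangulated ZeroObject

variable {C : Type u} [Category.{v} C] [Preadditive C] [HasZeroObject C]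
  [HasShift C ℤ] [∀ n : ℤ, (shiftFunctor C n).Additive] [Pretriangulated C]

theorem cl_tri (T : Triangle C) (h : T ∈ distTriang C) :
    KZero.clTri T.obj₂ = KZero.clTri T.obj₁ + KZero.clTri T.obj₃ := by
  refine (QuotientAddGroup.eq.2 ?_).symm
  rw [neg_add_eq_sub, sub_add_eq_sub_sub]
  exact AddSubgroup.subset_closure ⟨T, trivial, trivial, trivial, h, rfl⟩

theorem cl_zero : KZero.clTri (0 : C) = 0 := by
  have h := cl_tri _ (contractible_distinguished (0 : C))
  simpa [contractibleTriangle] using h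

theorem cl_iso {X Y : C} (e : X ≅ Y) : KZero.clTri X = KZero.clTri Y := by
  have h := cl_tri (Triangle.mk e.hom (0 : Y ⟶ 0) 0) (isomorphic_distinguished _ (contractible_distinguished X) _
    (Triangle.isoMk _ _ (Iso.refl X) e.symm (Iso.refl (0 : C)) (e.hom_inv_id.trans (Category.comp_id _).symm) (zero_comp.trans comp_zero.symm) (zero_comp.trans comp_zero.symm)))
  rw [show KZero.clTri (Triangle.mk e.hom (0 : Y ⟶ 0) 0).obj₃ = 0 from cl_zero, add_zero] at h
  exact h.symm

theorem cl_shift_one (X : C) : KZero.clTri (X⟦(1 : ℤ)⟧) = - KZero.clTri X := by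
  have h := cl_tri _ (rot_of_distTriang _ (contractible_distinguished X))
  have h' : KZero.clTri (0 : C) = KZero.clTri X + KZero.clTri (X⟦(1 : ℤ)⟧) := h
  rw [cl_zero] at h'
  exact (neg_eq_of_add_eq_zero_right h'.symm).symm

theorem cl_shift (X : C) (k : ℤ) : KZero.clTri (X⟦k⟧) = (-1 : ℤ) ^ k.natAbs • KZero.clTri X := by
  have hs : ∀ k : ℤ, KZero.clTri (X⟦k + 1⟧) = - KZero.clTri (X⟦k⟧) := fun k => by
    rw [← cl_shift_one, cl_iso ((shiftFunctorAdd C k 1).app X)]
    rfl
  induction k using Int.induction_on with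
  | zero => simpa using cl_iso ((shiftFunctorZero C ℤ).app X)
  | succ i ih =>
    rw [hs, ih, Int.natAbs_natCast, show ((i : ℤ) + 1).natAbs = i + 1 by omega, pow_succ, mul_neg_one, neg_smul]
  | pred i ih =>
    have h := hs (-(i : ℤ) - 1)
    rw [sub_add_cancel, ih, Int.natAbs_neg, Int.natAbs_natCast] at h
    rw [show (-(i : ℤ) - 1).natAbs = i + 1 by omega, pow_succ, mul_neg_one, neg_smul, h, neg_neg]

theorem cl_swindle (L : C) (n : ℤ) [HasCoproduct (fun i : ℕ => (shiftFunctor C (2 * n * (i : ℤ))).obj L)] :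
    KZero.clTri L = 0 := by
  let f := fun i : ℕ => (shiftFunctor C (2 * n * (i : ℤ))).obj L
  let P := ∐ f
  let a : (i : ℕ) → (f (i + 1) ≅ (f i)⟦2 * n⟧) := fun i =>
    (shiftFunctorAdd' C (2 * n * (i : ℤ)) (2 * n) (2 * n * ((i + 1 : ℕ) : ℤ)) (by push_cast; ring)).app L
  let z : f 0 ≅ L := (shiftFunctorZero' C (2 * n * ((0 : ℕ) : ℤ)) (by simp)).app L
  let hc := isColimitOfHasCoproductOfPreservesColimit (shiftFunctor C (2 * n)) f
  have hfac : ∀ (W : C) (g : ∀ i, (f i)⟦2 * n⟧ ⟶ W) (i : ℕ),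
      (shiftFunctor C (2 * n)).map (Sigma.ι f i) ≫ Cofan.IsColimit.desc hc g = g i := fun W g i => Cofan.IsColimit.fac hc g i
  let φ : ∀ i, f i ⟶ L ⊞ P⟦2 * n⟧ := fun i => match i with
    | 0 => z.hom ≫ biprod.inl
    | j + 1 => (a j).hom ≫ (shiftFunctor C (2 * n)).map (Sigma.ι f j) ≫ biprod.inr
  let e : P ≅ L ⊞ P⟦2 * n⟧ :=
    { hom := Sigma.desc φ
      inv := biprod.desc (z.inv ≫ Sigma.ι f 0) (Cofan.IsColimit.desc hc fun i => (a i).inv ≫ Sigma.ι f (i + 1))
      hom_inv_id := Sigma.hom_ext _ _ fun i => by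
        rw [Sigma.ι_desc_assoc]
        cases i with
        | zero => simp [φ]; exact (Category.comp_id _).symm
        | succ j => simp [φ, hfac]; exact (Category.comp_id _).symm
      inv_hom_id := by
        refine biprod.hom_ext' _ _ ?_ ?_
        · simp [φ]
        · rw [biprod.inr_desc_assoc, Category.comp_id]
          refine Cofan.IsColimit.hom_ext hc _ _ fun i => ?_
          change (shiftFunctor C (2 * n)).map (Sigma.ι f i) ≫ _ = (shiftFunctor C (2 * n)).map (Sigma.ι f i) ≫ biprod.inr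
          rw [reassoc_of% (hfac _ (fun i => (a i).inv ≫ Sigma.ι f (i + 1)) i)]
          simp [φ] }
  have h := cl_tri _ (binaryBiproductTriangle_distinguished L (P⟦2 * n⟧))
  have h' : KZero.clTri (L ⊞ P⟦2 * n⟧) = KZero.clTri L + KZero.clTri (P⟦2 * n⟧) := h
  rw [← cl_iso e, cl_shift, Int.natAbs_mul, pow_mul] at h'
  simpa using h'

end

/-- Let C be a pretriangulated category, L an object of C and n an integer such that the coproduct ∐_{i
≥ 0} L⟦2ni⟧ exists in C. Then cl(L) = 0 in K₀(C). -/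
theorem result {C : Type u} [Category.{v} C] [Preadditive C] [HasZeroObject C]
    [HasShift C ℤ] [∀ n : ℤ, (shiftFunctor C n).Additive] [Pretriangulated C]
    (L : C) (n : ℤ) [HasCoproduct (fun i : ℕ => (shiftFunctor C (2 * n * (i : ℤ))).obj L)] :
    KZero.clTri L = 0 := by
  exact cl_swindle L n

end Groth.Agent.S5613
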