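import Groth.Statements.S5614
import Mathlib.Tactic

set_option autoImplicit false
universe v u
open CategoryTheory CategoryTheory.Limits CategoryTheory.Pretriangulated
open KZero

namespace Groth.Agent.S5614

/-- Let C be a pretriangulated category and S a dense set of objects, meaning that every set of objects
which contains S and which contains the third vertex of a distinguished triangle as soon as it
contains the other two is all of C. Then K₀(C) is generated by the classes of the objects of S. -/
theorem result {C : Type u} [Category.{v} C] [Preadditive C] [HasZeroObject C]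
    [HasShift C ℤ] [∀ n : ℤ, (shiftFunctor C n).Additive] [Pretriangulated C]
    (S : Set C)
    (hdense : ∀ T : Set C, S ⊆ T →
      (∀ tr : Triangle C, tr ∈ distinguishedTriangles →
        (tr.obj₁ ∈ T → tr.obj₂ ∈ T → tr.obj₃ ∈ T) ∧ (tr.obj₁ ∈ T → tr.obj₃ ∈ T → tr.obj₂ ∈ T) ∧
          (tr.obj₂ ∈ T → tr.obj₃ ∈ T → tr.obj₁ ∈ T)) → T = Set.univ) :
    AddSubgroup.closure (KZero.clTri '' S) = (⊤ : AddSubgroup (KZero.K0tri C)) := by
  let G := AddSubgroup.closure (KZero.clTri '' S)
  have hT := hdense {X | KZero.clTri X ∈ G} (fun X hX => AddSubgroup.subset_closure ⟨X, hX, rfl⟩) (fun tr htr => by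
    have e : KZero.clTri tr.obj₂ = KZero.clTri tr.obj₁ + KZero.clTri tr.obj₃ := by
      rw [← sub_eq_zero, ← sub_sub]
      exact (QuotientAddGroup.eq_zero_iff _).2
        (AddSubgroup.subset_closure ⟨tr, trivial, trivial, trivial, htr, rfl⟩)
    refine ⟨fun p q => ?_, fun p q => ?_, fun p q => ?_⟩ <;> simp only [Set.mem_setOf_eq] at p q ⊢
    · rw [eq_sub_of_add_eq' e.symm]; exact sub_mem q p
    · rw [e]; exact add_mem p q
    · rw [eq_sub_of_add_eq e.symm]; exact sub_mem p q)
  rw [eq_top_iff]
  rintro x -
  induction x using QuotientAddGroup.induction_on with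
  | H x =>
    induction x using FreeAbelianGroup.induction_on with
    | zero => exact zero_mem _
    | of X => exact (hT ▸ Set.mem_univ X.1 : X.1 ∈ {X | KZero.clTri X ∈ G})
    | neg K h => rw [QuotientAddGroup.mk_neg]; exact neg_mem h
    | add x y hx hy => rw [QuotientAddGroup.mk_add]; exact add_mem hx hy

end Groth.Agent.S5614
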