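import Groth.Statements.S5615
import Mathlib.Tactic

set_option autoImplicit false
universe v u
open CategoryTheory CategoryTheory.Limits
open KZero

namespace Groth.Agent.S5615

/-- Let A be an abelian category and S a dense set of objects, meaning that every set of objects which
contains S and which contains the third term of a short exact sequence as soon as it contains the
other two is all of A. Then K₀(A) is generated by the classes of the objects of S. -/
theorem result {A : Type u} [Category.{v} A] [Abelian A] (S : Set A)
    (hdense : ∀ T : Set A, S ⊆ T →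
      (∀ X : ShortComplex A, X.ShortExact →
        (X.X₁ ∈ T → X.X₂ ∈ T → X.X₃ ∈ T) ∧ (X.X₁ ∈ T → X.X₃ ∈ T → X.X₂ ∈ T) ∧
          (X.X₂ ∈ T → X.X₃ ∈ T → X.X₁ ∈ T)) → T = Set.univ) :
    AddSubgroup.closure (KZero.cl '' S) = (⊤ : AddSubgroup (KZero.K0 A)) := by
  let G := AddSubgroup.closure (KZero.cl '' S)
  have hT := hdense {X | KZero.cl X ∈ G} (fun X hX => AddSubgroup.subset_closure ⟨X, hX, rfl⟩) (fun E hE => by
    have e : KZero.cl E.X₂ = KZero.cl E.X₁ + KZero.cl E.X₃ := by
      rw [← sub_eq_zero, ← sub_sub]
      exact (QuotientAddGroup.eq_zero_iff _).2 (AddSubgroup.subset_closure ⟨E, hE, rfl⟩)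
    refine ⟨fun p q => ?_, fun p q => ?_, fun p q => ?_⟩ <;> simp only [Set.mem_setOf_eq] at p q ⊢
    · rw [eq_sub_of_add_eq' e.symm]; exact sub_mem q p
    · rw [e]; exact add_mem p q
    · rw [eq_sub_of_add_eq e.symm]; exact sub_mem p q)
  rw [eq_top_iff]
  rintro x -
  induction x using QuotientAddGroup.induction_on with
  | H x =>
    induction x using FreeAbelianGroup.induction_on with
    | zero => exact zero_mem _
    | of X => exact (hT ▸ Set.mem_univ X : X ∈ {X | KZero.cl X ∈ G})
    | neg K h => rw [QuotientAddGroup.mk_neg]; exact neg_mem h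
    | add x y hx hy => rw [QuotientAddGroup.mk_add]; exact add_mem hx hy

end Groth.Agent.S5615
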