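import Groth.Statements.S5620
import Groth.Agent.PCohH7.Terms
-- import your own Groth.Agent.* helpers here

set_option autoImplicit false
set_option backward.isDefEq.respectTransparency false
universe w v u w' v' u'
open CategoryTheory CategoryTheory.Limits
open PCoh

namespace Groth.Agent.S5620

/-- Let (C, C₀) and (C', C₀') be abelian categories with strictly full additive subcategories, each
quasi-stable under kernels of epimorphisms and quasi-liftable, and let u : D(C) ⥤ D(C') be a
triangulated functor. Suppose there are integers a, b such that (i) for every E in C₀ the object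
u(E[0]) is a-pseudo-coherent relative to C₀', and (ii) u sends objects acyclic in degrees > 0 to
objects acyclic in degrees > b. Then if F ∈ D(C) is m-pseudo-coherent and acyclic in degrees > n,
u(F) is max(m + b, n + a)-pseudo-coherent relative to C₀' and acyclic in degrees > n + b. (The
source lets u be defined on D^+, D^- or D^b; here u is defined on all of D(C).) -/
theorem result {C : Type u} [Category.{v} C] [Abelian C] [HasDerivedCategory.{w} C]
    (P : ObjectProperty C) [P.IsClosedUnderIsomorphisms] [P.ContainsZero] (hsum : ∀ X Y : C, P X → P Y → P (X ⨯ Y))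
    (hqs : PCoh.IsQuasiStableUnderKernels P) (hql : PCoh.IsQuasiLiftable P)
    {C' : Type u'} [Category.{v'} C'] [Abelian C'] [HasDerivedCategory.{w'} C']
    (P' : ObjectProperty C') [P'.IsClosedUnderIsomorphisms] [P'.ContainsZero] (hsum' : ∀ X Y : C', P' X → P' Y → P' (X ⨯ Y))
    (hqs' : PCoh.IsQuasiStableUnderKernels P') (hql' : PCoh.IsQuasiLiftable P')
    (u : DerivedCategory C ⥤ DerivedCategory C') [u.CommShift ℤ] [u.IsTriangulated] (a b : ℤ)
    (hi : ∀ E : C, P E → ∃ E' : CochainComplex C' ℤ, PCoh.IsStrictPC P' a E' ∧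
      Nonempty (DerivedCategory.Q.obj E' ≅ u.obj ((DerivedCategory.singleFunctor C 0).obj E)))
    (hii : ∀ F : DerivedCategory C, (∀ i : ℤ, 0 < i → IsZero ((DerivedCategory.homologyFunctor C i).obj F)) →
      ∀ i : ℤ, b < i → IsZero ((DerivedCategory.homologyFunctor C' i).obj (u.obj F)))
    (m n : ℤ) (F : DerivedCategory C) (hF : (∃ E : CochainComplex C ℤ, PCoh.IsStrictPC P m E ∧ Nonempty (DerivedCategory.Q.obj E ≅ F)))
    (hac : ∀ i : ℤ, n < i → IsZero ((DerivedCategory.homologyFunctor C i).obj F)) :
    (∃ E' : CochainComplex C' ℤ, PCoh.IsStrictPC P' (max (m + b) (n + a)) E' ∧ Nonempty (DerivedCategory.Q.obj E' ≅ u.obj F)) ∧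
      ∀ i : ℤ, n + b < i → IsZero ((DerivedCategory.homologyFunctor C' i).obj (u.obj F)) := by
  have hvan : ∀ (c : ℤ) (X : DerivedCategory C),
      (∀ i : ℤ, c < i → IsZero ((DerivedCategory.homologyFunctor C i).obj X)) →
      ∀ i : ℤ, c + b < i → IsZero ((DerivedCategory.homologyFunctor C' i).obj (u.obj X)) := fun c X hX i hi => by
    have h1 : ∀ j : ℤ, 0 < j →
        IsZero ((DerivedCategory.homologyFunctor C j).obj ((shiftFunctor (DerivedCategory C) c).obj X)) := fun j hj =>
      (hX (c + j) (by omega)).of_iso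
        (((DerivedCategory.homologyFunctor C 0).shiftIso c j (c + j) rfl).app X)
    refine (hii _ h1 (i - c) (by omega)).of_iso ?_
    exact (((DerivedCategory.homologyFunctor C' 0).shiftIso c (i - c) i (by omega)).app (u.obj X)).symm ≪≫
      (DerivedCategory.homologyFunctor C' (i - c)).mapIso ((u.commShiftIso c).app X).symm
  refine ⟨?_, hvan n F hac⟩
  by_cases hmn : n < m
  · exact Groth.Agent.PCohH7.PCn.mono (n := m + b)
      (Groth.Agent.PCohH7.pcn_of_isZero_H _ fun i hi => hvan n F hac i (by omega)) (le_max_left _ _)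
  obtain ⟨E, hE, hz, ⟨e⟩⟩ := Groth.Agent.PCohH7.exists_strict_above hsum hqs hql (show m ≤ n + 1 by omega) F hF
    (fun j hj => hac j (by omega))
  refine Groth.Agent.PCohH7.PCn.of_iso ?_ (u.mapIso e)
  refine Groth.Agent.PCohH7.induct_terms (fun X => Groth.Agent.PCohH7.PCn P' (max (m + b) (n + a)) (u.obj X))
    (fun X Y e h => h.of_iso (u.mapIso e))
    (fun T hT h h' => Groth.Agent.PCohH7.pcn_obj₂ hsum' hqs' hql' (u.map_distinguished T hT) h h') m
    (fun X hX => Groth.Agent.PCohH7.PCn.mono (n := m + b) (Groth.Agent.PCohH7.pcn_of_isZero_H _ fun i hi =>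
      hvan (m - 1) X (fun j hj => hX j (by omega)) i (by omega)) (le_max_left _ _))
    E n (fun j hj => hz j (by omega)) fun i hle hin => ?_
  refine Groth.Agent.PCohH7.PCn.mono (n := a + i) ?_ (le_trans (by omega) (le_max_right _ _))
  have h0 : Groth.Agent.PCohH7.PCn P' a (u.obj ((DerivedCategory.singleFunctor C 0).obj (E.X i))) :=
    hi (E.X i) (hE.2 i hle)
  exact (Groth.Agent.PCohH7.PCn.shift h0 (-i) (a + i) (by omega)).of_iso
    (((u.commShiftIso (-i)).app _).symm ≪≫
      u.mapIso (((DerivedCategory.singleFunctors C).shiftIso (-i) i 0 (by omega)).app (E.X i)))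

end Groth.Agent.S5620
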