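import Groth.Statements.S5622
import Groth.Agent.PCohH7.Liftable
-- import your own Groth.Agent.* helpers here

set_option autoImplicit false
set_option backward.isDefEq.respectTransparency false
universe w v u
open CategoryTheory CategoryTheory.Limits
open PCoh

namespace Groth.Agent.S5622

/-- Let C be an abelian category and C₀ a strictly full additive subcategory, liftable and stable under
kernels of epimorphisms, and a ≤ b. For F', F'' in D(C): (i) ⇒ (ii), where (i) says F' and F'' have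
perfect amplitude in [a, b] (each isomorphic to a strictly perfect complex vanishing outside [a, b])
and (ii) says F' ⊞ F'' does; and (ii) ⇒ (i) when C₀ is stable under direct factors. -/
theorem result {C : Type u} [Category.{v} C] [Abelian C] [HasDerivedCategory.{w} C]
    (P : ObjectProperty C) [P.IsClosedUnderIsomorphisms] [P.ContainsZero] (hsum : ∀ X Y : C, P X → P Y → P (X ⨯ Y))
    (hlift : ∀ (E F : C) (u : E ⟶ F), Epi u → P F → IsSplitEpi u)
    (hst : ∀ (E F : C) (u : E ⟶ F), Epi u → P E → P F → P (kernel u))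
    (a b : ℤ) (hab : a ≤ b) (F' F'' : DerivedCategory C) [HasBinaryBiproduct F' F''] :
    (((∃ E : CochainComplex C ℤ, (∀ i : ℤ, P (E.X i)) ∧ (∀ i : ℤ, i < a ∨ b < i → IsZero (E.X i)) ∧ Nonempty (DerivedCategory.Q.obj E ≅ F')) ∧ (∃ E : CochainComplex C ℤ, (∀ i : ℤ, P (E.X i)) ∧ (∀ i : ℤ, i < a ∨ b < i → IsZero (E.X i)) ∧ Nonempty (DerivedCategory.Q.obj E ≅ F''))) →
        (∃ E : CochainComplex C ℤ, (∀ i : ℤ, P (E.X i)) ∧ (∀ i : ℤ, i < a ∨ b < i → IsZero (E.X i)) ∧ Nonempty (DerivedCategory.Q.obj E ≅ (F' ⊞ F'')))) ∧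
      ((∀ (E' E'' : C) [HasBinaryBiproduct E' E''], P (E' ⊞ E'') → P E' ∧ P E'') →
        (∃ E : CochainComplex C ℤ, (∀ i : ℤ, P (E.X i)) ∧ (∀ i : ℤ, i < a ∨ b < i → IsZero (E.X i)) ∧ Nonempty (DerivedCategory.Q.obj E ≅ (F' ⊞ F''))) →
          (∃ E : CochainComplex C ℤ, (∀ i : ℤ, P (E.X i)) ∧ (∀ i : ℤ, i < a ∨ b < i → IsZero (E.X i)) ∧ Nonempty (DerivedCategory.Q.obj E ≅ F')) ∧ (∃ E : CochainComplex C ℤ, (∀ i : ℤ, P (E.X i)) ∧ (∀ i : ℤ, i < a ∨ b < i → IsZero (E.X i)) ∧ Nonempty (DerivedCategory.Q.obj E ≅ F''))) := by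
  refine ⟨fun ⟨⟨E, hEP, hE, ⟨e⟩⟩, ⟨G, hGP, hG, ⟨g⟩⟩⟩ => ?_, fun hfac h => ?_⟩
  · haveI : PreservesBinaryBiproducts (DerivedCategory.Q (C := C)) := preservesBinaryBiproducts_of_preservesBiproducts _
    exact ⟨E ⊞ G,
      fun i => P.prop_of_iso (HomologicalComplex.biprodXIso E G i).symm
        (Groth.Agent.PCohH7.biprod_mem hsum (hEP i) (hGP i)),
      fun i hi => (Groth.Agent.PCohH7.isZero_biprod (hE i hi) (hG i hi)).of_iso
        (HomologicalComplex.biprodXIso E G i),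
      ⟨DerivedCategory.Q.mapBiprod E G ≪≫ biprod.mapIso e g⟩⟩
  obtain ⟨E, hEP, hE, ⟨e⟩⟩ := h
  have hqs := Groth.Agent.PCohH7.quasiStable_of_lift hst
  have hql := Groth.Agent.PCohH7.quasiLiftable_of_lift hlift
  have hPC : ∀ n, Groth.Agent.PCohH7.PCn P n F' ∧ Groth.Agent.PCohH7.PCn P n F'' := fun n =>
    (Groth.Agent.PCohH7.pcn_biprod_iff hsum hqs hql n F' F'').1
      ⟨E, ⟨⟨b, fun i hi => hE i (Or.inr hi)⟩, fun i _ => hEP i⟩, ⟨e⟩⟩
  exact ⟨Groth.Agent.PCohH7.amplitude_retract hsum hlift hst hfac a b E hEP hE F' (fun n => (hPC n).1)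
      (biprod.inl ≫ e.inv) (e.hom ≫ biprod.fst) (by simp),
    Groth.Agent.PCohH7.amplitude_retract hsum hlift hst hfac a b E hEP hE F'' (fun n => (hPC n).2)
      (biprod.inr ≫ e.inv) (e.hom ≫ biprod.snd) (by simp)⟩

end Groth.Agent.S5622
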