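import Groth.Statements.S5625
import Groth.Agent.DCohLib.QCohAbelian
import Groth.Agent.QCohLib.Push
import Groth.Agent.PullbackMod.Sections
import Mathlib.CategoryTheory.Adjunction.Restrict
-- import your own Groth.Agent.* helpers here

set_option autoImplicit false
set_option backward.isDefEq.respectTransparency false
universe u
open CategoryTheory AlgebraicGeometry
open QCohCat

namespace Groth.Agent.S5625

/-- Let f : X ⟶ Y be a morphism of quasi-compact quasi-separated schemes and Q_X, Q_Y coherators (right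
adjoints of the inclusions QCoh ⥤ Mod) on X and Y. Then Q_Y ∘ f_* and f_* ∘ Q_X agree: the two
composite functors Mod(O_X) ⥤ Mod(O_Y) are naturally isomorphic (existence of a natural isomorphism;
the source's isomorphism is the canonical one between two right adjoints of the same functor). -/
theorem result {X Y : Scheme.{u}} [CompactSpace X] [QuasiSeparatedSpace X]
    [CompactSpace Y] [QuasiSeparatedSpace Y] (f : X ⟶ Y)
    (QX : X.Modules ⥤ QCohCat.QCoh X) (adjX : (QCohCat.isQCoh X).ι ⊣ QX)
    (QY : Y.Modules ⥤ QCohCat.QCoh Y) (adjY : (QCohCat.isQCoh Y).ι ⊣ QY) :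
    Nonempty ((QX ⋙ (QCohCat.isQCoh X).ι ⋙ Scheme.Modules.pushforward f) ≅
      (Scheme.Modules.pushforward f ⋙ QY ⋙ (QCohCat.isQCoh Y).ι)) := by
  haveI : QuasiCompact f := by
    haveI : QuasiCompact (f ≫ Limits.terminal.from Y) := by
      rw [Subsingleton.elim (f ≫ Limits.terminal.from Y) (Limits.terminal.from X)]
      exact (compactSpace_iff_quasiCompact X).1 inferInstance
    haveI : QuasiSeparated (Limits.terminal.from Y) := (quasiSeparatedSpace_iff_quasiSeparated Y).1 inferInstance
    exact QuasiCompact.of_comp f (Limits.terminal.from Y)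
  haveI : QuasiSeparated f := by
    haveI : QuasiSeparated (f ≫ Limits.terminal.from Y) := by
      rw [Subsingleton.elim (f ≫ Limits.terminal.from Y) (Limits.terminal.from X)]
      exact (quasiSeparatedSpace_iff_quasiSeparated X).1 inferInstance
    exact QuasiSeparated.of_comp f (Limits.terminal.from Y)
  have hpush : ∀ M : QCohCat.QCoh X, QCohCat.isQCoh Y ((Scheme.Modules.pushforward f).obj M.obj) := fun M => by
    haveI : Coh.IsQCoh M.obj := M.property
    exact Groth.Agent.QCohLib.isQCoh_pushforward M.obj f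
  have hpull : ∀ N : QCohCat.QCoh Y, QCohCat.isQCoh X ((Scheme.Modules.pullback f).obj N.obj) := fun N => by
    haveI : Coh.IsQCoh N.obj := N.property
    exact Groth.Agent.PullbackMod.isQCoh_pullback f N.obj
  let fp : QCohCat.QCoh X ⥤ QCohCat.QCoh Y :=
    (QCohCat.isQCoh Y).lift ((QCohCat.isQCoh X).ι ⋙ Scheme.Modules.pushforward f) hpush
  let fb : QCohCat.QCoh Y ⥤ QCohCat.QCoh X :=
    (QCohCat.isQCoh X).lift ((QCohCat.isQCoh Y).ι ⋙ Scheme.Modules.pullback f) hpull
  let a : fb ⊣ fp := (Scheme.Modules.pullbackPushforwardAdjunction f).restrictFullyFaithful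
    (QCohCat.isQCoh Y).fullyFaithfulι (QCohCat.isQCoh X).fullyFaithfulι (Iso.refl _) (Iso.refl _)
  let A1 : (fb ⋙ (QCohCat.isQCoh X).ι) ⊣ (QX ⋙ fp) := a.comp adjX
  let A2 : ((QCohCat.isQCoh Y).ι ⋙ Scheme.Modules.pullback f) ⊣ (Scheme.Modules.pushforward f ⋙ QY) :=
    adjY.comp (Scheme.Modules.pullbackPushforwardAdjunction f)
  let e : (QX ⋙ fp) ≅ (Scheme.Modules.pushforward f ⋙ QY) :=
    A1.rightAdjointUniq (A2.ofNatIsoLeft (Iso.refl _))
  exact ⟨Functor.isoWhiskerRight e (QCohCat.isQCoh Y).ι⟩

end Groth.Agent.S5625
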