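import Groth.Statements.S5629
import Groth.Agent.S1101
import Groth.Agent.S0914
import Groth.Agent.DCohMore.RelPerfTerms
import Groth.Agent.DCohLib.PullPerf
import Groth.Agent.DCohLib.PullComp
import Groth.Agent.RGBlowLib.ExtendBundle

set_option backward.isDefEq.respectTransparency false
set_option backward.isDefEq.respectTransparency.types false

set_option autoImplicit false
universe u
open CategoryTheory CategoryTheory.Limits AlgebraicGeometry Opposite
attribute [local instance] HasDerivedCategory.standard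
open KSix

namespace Groth.Agent.S5629

/-- Last assertion (criterion of perfection by fibres): let f : X ⟶ S be flat and locally of finite
presentation and E ∈ D⁻(O_X). Then E is perfect if and only if E is perfect relative to f and, for
every s ∈ S, the derived pullback E_{X_s} = Li_s^* E to the fibre is perfect. Since f is flat and
locally of finite presentation, "perfect relative to f" is written as: pseudo-coherent and locally
of finite tor dimension relative to S (locally represented by bounded complexes of S-flat modules).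
The derived pullbacks to the fibres are taken under their existence binders. -/
theorem result {X S : Scheme.{u}} (f : X ⟶ S) [Flat f] [LocallyOfFinitePresentation f]
    [∀ s : S, DCoh.HasLpull (f.fiberι s)]
    (E : DCoh.D X) (b : ℤ) [E.IsLE b] :
    DCoh.IsPerfect E ↔
      ((∀ m : ℤ, DCoh.IsPseudoCoherentD m E) ∧ DCoh.LocHasFiniteRelTorDim f E ∧
        ∀ s : S, DCoh.IsPerfect ((DCoh.Lpull (f.fiberι s)).obj E)) := by
  have hbddT : ∀ {X : Scheme.{u}} (E : DCoh.D X), DCoh.IsPerfect E → ∀ x : X,
      ∃ (V : X.Opens) (a : ℤ), x ∈ V ∧ ((DCoh.restrictD V.ι).obj E).IsGE a := by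
    intro X E hE x
    obtain ⟨V, a, b, hx, hV⟩ := ((Groth.Agent.S0914.result E).1 hE).2 x
    let F := DerivedCategory.Q.objPreimage E
    let eF : DCoh.toD X F ≅ E := DerivedCategory.Q.objObjPreimageIso E
    obtain ⟨G, hG, -, ⟨eG⟩⟩ := hV F ⟨eF⟩
    refine ⟨V, a, hx, (DerivedCategory.isGE_iff _ a).2 fun i hi => ?_⟩
    exact ((HomologicalComplex.exactAt_iff_isZero_homology G i).1
      (ShortComplex.exact_of_isZero_X₂ _ (hG i (Or.inl hi)))).of_iso
      ((DerivedCategory.homologyFunctor _ i).mapIso ((DCoh.restrictD V.ι).mapIso eF.symm ≪≫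
        DCohLib.restrictDQ V.ι F ≪≫ eG.symm) ≪≫ (DerivedCategory.homologyFunctorFactors _ i).app G)
  constructor
  · intro hE
    have hs : ∀ s : S, DCoh.IsPerfect ((DCoh.Lpull (f.fiberι s)).obj E) := fun s =>
      DCohLib.isPerfect_lpull _ E hE
    refine ⟨((Groth.Agent.S0914.result E).1 hE).1, ?_, hs⟩
    exact (Groth.Agent.S1101.result f E ((Groth.Agent.S0914.result E).1 hE).1).2
      ⟨hbddT E hE, fun s y => hbddT _ (hs s) y⟩
  · rintro ⟨hpc, hrel, hs⟩
    haveI : ∀ x : X, DCoh.HasLpull (Scheme.Hom.fiberι (𝟙 X) x) := fun x => DCohLib.hasLpull _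
    have hid : DCoh.LocHasFiniteRelTorDim (𝟙 X) E := by
      refine (Groth.Agent.S1101.result (𝟙 X) E hpc).2 ⟨?_, fun x y => ?_⟩
      · exact fun x => by
          obtain ⟨V, a, b, hx, hV⟩ := hrel x
          let F := DerivedCategory.Q.objPreimage E
          let eF : DCoh.toD X F ≅ E := DerivedCategory.Q.objObjPreimageIso E
          obtain ⟨G, hG, -, ⟨eG⟩⟩ := hV F ⟨eF⟩
          refine ⟨V, a, hx, (DerivedCategory.isGE_iff _ a).2 fun i hi => ?_⟩
          exact ((HomologicalComplex.exactAt_iff_isZero_homology G i).1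
            (ShortComplex.exact_of_isZero_X₂ _ (hG i (Or.inl hi)))).of_iso
            ((DerivedCategory.homologyFunctor _ i).mapIso ((DCoh.restrictD V.ι).mapIso eF.symm ≪≫
              DCohLib.restrictDQ V.ι F ≪≫ eG.symm) ≪≫ (DerivedCategory.homologyFunctorFactors _ i).app G)
      · let t : Scheme.Hom.fiber (𝟙 X) x ⟶ f.fiber (f x) :=
          pullback.lift (Scheme.Hom.fiberι (𝟙 X) x)
            (Scheme.Hom.fiberToSpecResidueField (𝟙 X) x ≫ Spec.map (f.residueFieldMap x)) (by
              rw [Category.assoc, Scheme.Hom.SpecMap_residueFieldMap_fromSpecResidueField]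
              erw [← reassoc_of% Scheme.Hom.fiber_fac (𝟙 X) x])
        have ht : t ≫ f.fiberι (f x) = Scheme.Hom.fiberι (𝟙 X) x := pullback.lift_fst _ _ _
        haveI := DCohLib.hasLpull t
        haveI := DCohLib.hasLpull (t ≫ f.fiberι (f x))
        obtain ⟨c⟩ := DCohLib.nonempty_lpullCompIso t (f.fiberι (f x))
        have key : ∀ (a b : Scheme.Hom.fiber (𝟙 X) x ⟶ X) (h₁ : DCoh.HasLpull a) (h₂ : DCoh.HasLpull b),
            a = b → Nonempty (DCoh.Lpull a ≅ DCoh.Lpull b) := by
          rintro a _ h₁ h₂ rfl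
          exact ⟨Iso.refl _⟩
        obtain ⟨c₀⟩ := key _ _ inferInstance inferInstance ht
        exact hbddT _ (DCohLib.isPerfect_iso ((c ≪≫ c₀).app E) (DCohLib.isPerfect_lpull t _ (hs (f x)))) y
    refine (Groth.Agent.S0914.result E).2 ⟨hpc, fun x => ?_⟩
    obtain ⟨V, a, b, hx, hV⟩ := hid x
    refine ⟨V, a, b, hx, fun F' hF' => ?_⟩
    obtain ⟨G, h1, h2, h3⟩ := hV F' hF'
    refine ⟨G, h1, fun i => RGBlowLib.isFlat_of_isFlatOver_id fun y => ?_, h3⟩
    have h4 := h2 i y
    have h5 : FlatMod.IsFlatOverAt (V.ι ≫ 𝟙 X) (G.X i) y ↔ FlatMod.IsFlatOverAt (𝟙 _ ≫ V.ι) (G.X i) y := by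
      rw [DCohMore.isFlatOverAt_comp_iff V.ι (𝟙 X) (G.X i) y, Category.id_comp]
    exact (DCohMore.isFlatOverAt_comp_iff (𝟙 _) V.ι (G.X i) y).1 (h5.1 h4)

end Groth.Agent.S5629
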