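import Groth.Statements.S5630
import Groth.Agent.TwistShriek.RelTorAbs
import Groth.Agent.DCohLib.TensorMod
-- import your own Groth.Agent.* helpers here

set_option autoImplicit false
set_option backward.isDefEq.respectTransparency false
set_option maxHeartbeats 800000
set_option synthInstance.maxHeartbeats 200000
universe u
open CategoryTheory CategoryTheory.Limits AlgebraicGeometry
open Groth.Agent
attribute [local instance] HasDerivedCategory.standard
open KSix

namespace Groth.Agent.S5630

/-- Over the base S = Y and for f flat: let f : X ⟶ Y be flat, quasi-compact and quasi-separated with Y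
quasi-compact, and let N be an integer such that R^i f_* F = 0 for all i > N and all quasi-coherent
O_X-modules F. If E ∈ D^b(O_X) has quasi-coherent cohomology and flat amplitude in [a, b] relative
to Y (represented by a complex of Y-flat modules placed in [a, b]), then Rf_* E has tor amplitude in
[a, b + N] on Y. (The source allows any S-morphism f and tor amplitude relative to S; the relative
notion used here is the flat-representative one, adequate for flat f.) -/
theorem result {X Y : Scheme.{u}} (f : X ⟶ Y) [Flat f] [QuasiCompact f] [QuasiSeparated f]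
    [CompactSpace Y] [DCoh.HasRpush f] (N : ℕ)
    (hN : ∀ (F : X.Modules), QCohCat.isQCoh X F →
      ∀ i : ℤ, (N : ℤ) < i → IsZero (DCoh.HD ((DCoh.Rpush f).obj (DCoh.inD X F)) i))
    (E : DCoh.D X) (hqc : DCoh.IsQCohD E) (c d : ℤ) [E.IsGE c] [E.IsLE d]
    (a b : ℤ) (hE : DCoh.HasRelFlatAmplitudeIn f a b E) :
    DCoh.HasTorAmplitudeIn a (b + N) ((DCoh.Rpush f).obj E) := by
    obtain ⟨E', hE', hfl, ⟨e⟩⟩ := hE
    let eq : DCoh.IsQCohD (DerivedCategory.Q.obj E') := TildeD.isQCohD_of_iso e.symm hqc
    have hT : DerSch.HasTorAmplitude f a b E' :=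
      DCohMore.hasTorAmplitude_of_relFlatAmplitude ⟨E', hE', hfl, ⟨Iso.refl _⟩⟩
    obtain ⟨hge, hle⟩ := TwistShriek.isGE_isLE_of_hasTorAmplitude f E' hT
    haveI := hge
    haveI := hle
    haveI : ((DCoh.Rpush f).obj (DerivedCategory.Q.obj E')).IsLE (b + N) :=
      TwistShriek.isLE_rpush_of_modules f N _ a b fun i j hj =>
        hN _ (eq i) j hj
    let G := DerivedCategory.Q.objPreimage ((DCoh.Rpush f).obj (DerivedCategory.Q.obj E'))
    let eG : DCoh.toD Y G ≅ (DCoh.Rpush f).obj (DerivedCategory.Q.obj E') := DerivedCategory.Q.objObjPreimageIso _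
    obtain ⟨F, hF, hFf, ⟨eF⟩⟩ := DerSchH7.flatAmplitude_of_hasTorAmplitude_id
      (TwistShriek.hasTorAmplitudeD_rpush f (𝟙 Y) f (Category.comp_id f) E' eq hT (c := b + N) G ⟨eG⟩)
    exact DCohLib.hasTorAmplitudeIn_of_hasFlatAmplitudeIn ⟨F, hF, hFf, ⟨eF ≪≫ eG ≪≫ (DCoh.Rpush f).mapIso e⟩⟩

end Groth.Agent.S5630
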