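import Groth.Statements.S5631
import Groth.Agent.RelPCLib.TorBC
import Groth.Agent.DCohMore.RelAmp

set_option autoImplicit false
universe u
open CategoryTheory CategoryTheory.Limits AlgebraicGeometry
attribute [local instance] HasDerivedCategory.standard
open KSix

set_option backward.isDefEq.respectTransparency false

namespace Groth.Agent.S5631

open Groth.Agent.DCohLib Groth.Agent.DerSchH7 Groth.Agent.RelPCLib

/-- For f flat (so that X and Y' are tor-independent over Y): let f : X ⟶ Y be flat, h : Y' ⟶ Y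
arbitrary, X' = X ×_Y Y' with projections g : X' ⟶ X and f' : X' ⟶ Y', and E ∈ D⁻(O_X). If E has
flat amplitude in [a, b] relative to f (represented by a complex of Y-flat modules placed in [a, b])
then Lg^* E has flat amplitude in [a, b] relative to f'. (The source assumes only tor-independence
of X and Y' over Y; the relative notion used here is the flat-representative one, adequate for flat
f and f'.) -/
theorem result {X Y Y' : Scheme.{u}} (f : X ⟶ Y) [Flat f] (h : Y' ⟶ Y)
    [DCoh.HasLpull (pullback.fst f h)] (E : DCoh.D X) (d : ℤ) [E.IsLE d] (a b : ℤ)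
    (hE : DCoh.HasRelFlatAmplitudeIn f a b E) :
    DCoh.HasRelFlatAmplitudeIn (pullback.snd f h) a b ((DCoh.Lpull (pullback.fst f h)).obj E) := by
  obtain ⟨F, ⟨eF⟩⟩ : ∃ F : CochainComplex X.Modules ℤ, Nonempty (DCoh.toD X F ≅ E) :=
    ⟨_, ⟨(DerivedCategory.Q (C := X.Modules)).objObjPreimageIso E⟩⟩
  obtain ⟨E', hE', hfl, ⟨e'⟩⟩ := hE
  have hF : DerSch.HasTorAmplitude f a b F :=
    DCohMore.hasTorAmplitude_of_relFlatAmplitude ⟨E', hE', hfl, ⟨e' ≪≫ eF.symm⟩⟩
  have hS : IsPullback h (𝟙 Y') (𝟙 Y) h := IsPullback.of_vert_isIso ⟨by simp⟩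
  haveI : Flat (f ≫ 𝟙 Y) := by rw [Category.comp_id]; infer_instance
  have hc : IsPullback (pullback.fst f h) (pullback.snd f h) f h := IsPullback.of_hasPullback f h
  haveI : Flat (pullback.snd f h) := MorphismProperty.of_isPullback hc inferInstance
  have hD := hasTorAmplitudeD_lpull_torIndep hS hc F hF
  obtain ⟨G, ⟨eG⟩⟩ : ∃ G : CochainComplex (pullback f h).Modules ℤ,
      Nonempty (DCoh.toD _ G ≅ (DCoh.Lpull (pullback.fst f h)).obj (DCoh.toD X F)) :=
    ⟨_, ⟨(DerivedCategory.Q (C := (pullback f h).Modules)).objObjPreimageIso _⟩⟩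
  obtain ⟨E'', h1, h2, ⟨e''⟩⟩ := DCohMore.relFlatAmplitude_of_hasTorAmplitude (pullback.snd f h) (hD G ⟨eG⟩)
  exact ⟨E'', h1, h2, ⟨e'' ≪≫ eG ≪≫ (DCoh.Lpull _).mapIso eF⟩⟩

end Groth.Agent.S5631
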