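import Groth.Statements.S5632
import Groth.Agent.NumBddLib.DivDim
import Groth.Agent.NumBddLib.Integral
import Groth.Agent.NakaiLib.HodgeProper
import Groth.Agent.S7641
import Groth.Agent.S8914
import Groth.Agent.CurveLib.GlobalFun

set_option autoImplicit false
universe u
open CategoryTheory CategoryTheory.Limits AlgebraicGeometry
open Pic13

namespace Groth.Agent.S5632

open CategoryTheory CategoryTheory.Limits AlgebraicGeometry

set_option backward.isDefEq.respectTransparency false

open Groth.Agent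
open Groth.Agent.IntLib (PicRing pairing dif inv')
open Groth.Agent.Nakai (cl cl_mem Aug)

/-- Let k be an algebraically closed field, X ⊆ P^n_k an integral closed subscheme of dimension r = s +
1 ≥ 1, with O_X(1) and O_X(-1) the restrictions of O(1) and O(-1). Let L be an invertible O_X-module
with inverse L' (L ⊗ L' ≅ O_X) whose degree (c₁(L)·c₁(O_X(1))^{r-1}) is ≤ 0 and with H^0(X, L) ≠ 0.
Then L ≅ O_X (so that its degree is 0 and h^0(L) = 1). Intersection numbers are those of FGA.intNum,
which takes the inverse modules L', O_X(-1) as arguments. -/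
theorem result (k : Type u) [Field k] [IsAlgClosed k] (n : ℕ) (X : Scheme.{u}) [X.Over (Spec (CommRingCat.of k))]
    (i : X ⟶ CohB1.ProjSpace n k) [IsClosedImmersion i] (hi : i ≫ CohB1.ProjSpace.toSpec n k = X ↘ Spec (CommRingCat.of k))
    [IsIntegral X] (s : ℕ) (hdim : topologicalKrullDim X = (s + 1 : ℕ))
    (L L' : X.Modules) (hL : PicF.IsInvertible L) (hLL' : Nonempty (CohB1.tensorMod L L' ≅ Coh.structureModule X))
    (hdeg : FGA.intNum k X (s + 1)
      (Matrix.vecCons L' (fun _ : Fin s => (Scheme.Modules.pullback i).obj (Twist.twistProjSpace n k (-1))))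
      (Coh.structureModule X) ≤ 0)
    (hsec : Nontrivial (Coh.HH X L 0)) :
    Nonempty (L ≅ Coh.structureModule X) := by
  haveI : IsProper (X ↘ Spec (CommRingCat.of k)) := by
    haveI : IsProper (CohB1.ProjSpace.toSpec n k) := CompleteCurve.isProper_toSpec n k
    rw [← hi]; infer_instance
  haveI := EulerIneqLib.isNoetherian_proper (X := X) k
  haveI := hsec
  obtain ⟨eL⟩ := hLL'
  let H := (Scheme.Modules.pullback i).obj (Twist.twistProjSpace n k 1)
  let H' := (Scheme.Modules.pullback i).obj (Twist.twistProjSpace n k (-1))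
  have hH : CohB1.IsAmple H := AmpleLib.isAmple_pullback i (AmpleEmb.isAmple_twistOne n k)
  have eH : CohB1.tensorMod H H' ≅ Coh.structureModule X :=
    AmpleLib.tIso (AmpleLib.unitL _).symm (Iso.refl _) ≪≫
      CMRegLib.xMulIso k i (Coh.structureModule X) (show (1 : ℤ) + -1 = 0 from add_neg_cancel 1) ≪≫
      NumBdd.twistZero k i _
  have hH' : PicF.IsInvertible H' := NumBdd.isInvertible_xO k i (-1)
  have hL' : PicF.IsInvertible L' := AmpleLib.isInvertible_of_tensor_iso (AmpleLib.comm _ _ ≪≫ eL)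
  obtain ⟨t, ht0⟩ := CurveLib.exists_hom_ne_zero L
  have hne : (CohB1.genLocus L t : Set X).Nonempty := by
    by_contra h
    exact ht0 (S7641.eq_zero_of_genLocus_eq_bot hL t
      (TopologicalSpace.Opens.ext (Set.not_nonempty_iff_eq_empty.1 h)))
  obtain ⟨D, hD, ⟨θ⟩⟩ := NumBdd.exists_divisor_of_genLocus hL t hne
  have hI : PicF.IsInvertible (ClSub.idealMod D) := (S8914.result _).2 hD
  by_cases hDt : D = ⊤
  · subst hDt
    have hz : IsZero (ClSub.quotMod (⊤ : X.IdealSheafData)) := DCohLib.isZero_of_stalks fun x => by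
      by_contra hns
      simpa using IntLib.support_quotMod_subset (⊤ : X.IdealSheafData) hns
    let eI : ClSub.idealMod (⊤ : X.IdealSheafData) ≅ Coh.structureModule X :=
      kernelIsoOfEq (hz.eq_of_tgt (ClSub.toSubscheme (⊤ : X.IdealSheafData)) 0) ≪≫ kernelZeroIsoSource
    exact ⟨(AmpleLib.unitR L).symm ≪≫ AmpleLib.tIso (Iso.refl L) eI.symm ≪≫ θ⟩
  exfalso
  obtain ⟨x, hx⟩ : (D.support : Set X).Nonempty := by
    by_contra h
    exact hDt ((Scheme.IdealSheafData.support_eq_bot_iff D).1
      (SetLike.coe_injective (Set.not_nonempty_iff_eq_empty.1 h)))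
  have hchain := (HilbLib.not_dim_lt_iff D.support.isClosed s).1
    (NumBdd.not_dim_support_lt k (X ↘ Spec (CommRingCat.of k)) hdim hD hx)
  have hC := IntLib.isCoh_quotMod D
  have hdC : topologicalKrullDim (CohB1.support (ClSub.quotMod D)) < ((s + 1 : ℕ) : WithBot ℕ∞) :=
    lt_of_le_of_lt ((Topology.IsEmbedding.inclusion (IntLib.support_quotMod_subset D)).isInducing.topologicalKrullDim_le.trans
      (IntLib.dim_support_le hD hdim.le)) (by exact_mod_cast Nat.lt_succ_self s)
  have hpos := (Nakai.isPos_cl_pow k hH s _ hC hdC).2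
    (hchain.mono fun y hy => Nakai.mem_support_quotMod D hy)
  rw [IntLib.pairing_quotMod k hI] at hpos
  rw [IntLib.intNum_eq k hdim.le _ _ (Fin.cases hL' fun _ => hH'), Fin.prod_univ_succ] at hdeg
  change pairing k _ (dif hL' * ∏ _i : Fin s, dif hH') ≤ 0 at hdeg
  rw [Finset.prod_const, Finset.card_univ, Fintype.card_fin] at hdeg
  refine absurd hdeg (not_le.2 (lt_of_lt_of_eq hpos (Nakai.pairing_congr k (n := s + 1 + 1) ?_
    (DevLib.isCoh_structureModule X) (lt_of_le_of_lt
      (Topology.IsInducing.subtypeVal.topologicalKrullDim_le.trans hdim.le)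
      (by exact_mod_cast Nat.lt_succ_self (s + 1))))))
  have hdm : ∀ {M : X.Modules} (hM : PicF.IsInvertible M), dif hM ∈ Aug X := fun hM => by
    rw [← neg_neg (dif hM), ← Nakai.cl_eq_neg_dif]; exact (Ideal.neg_mem_iff _).2 (cl_mem _)
  rw [show dif hI * cl hH.1 ^ s - dif hL' * dif hH' ^ s =
    ((cl hL - dif hL') - (cl hL - dif hI)) * cl hH.1 ^ s + dif hL' * (cl hH.1 ^ s - dif hH' ^ s) by ring]
  refine Ideal.add_mem _ ?_ ?_
  · rw [show s + 1 + 1 = 2 + s by omega, pow_add]
    exact Ideal.mul_mem_mul (Ideal.sub_mem _ (Nakai.cl_mul_inverse_mem hL hL' eL)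
      (Nakai.cl_mul_inverse_mem hL hI θ)) (Ideal.pow_mem_pow (cl_mem _) _)
  · rw [pow_succ' (Aug X)]
    exact Ideal.mul_mem_mul (hdm hL') (Nakai.pow_sub_pow_mem (cl_mem _) (hdm hH') (Nakai.cl_mul_inverse_mem hH.1 hH' eH) s)

end Groth.Agent.S5632
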