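import Groth.Statements.S5634
import Groth.Agent.RadBoundLib.GenRad
-- import your own Groth.Agent.* helpers here

set_option autoImplicit false
universe u
open CAlg

namespace Groth.Agent.S5634

/-- For every N there is a function R_N such that, for every field k₀, every m and every ideal I of
k₀[T_1, …, T_N] generated by polynomials of total degree ≤ m, the radical of I is generated by
polynomials of total degree ≤ R_N(m). (The published statement gives R_N as a polynomial in m; this
row asserts only a bound depending on N and m, uniform in the field and the ideal.) -/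
theorem result (N : ℕ) :
    ∃ R : ℕ → ℕ, ∀ (k₀ : Type u) [Field k₀] (m : ℕ) (S : Set (MvPolynomial (Fin N) k₀)),
      (∀ p ∈ S, p.totalDegree ≤ m) →
        ∃ S' : Set (MvPolynomial (Fin N) k₀), (∀ q ∈ S', q.totalDegree ≤ R m) ∧ Ideal.span S' = (Ideal.span S).radical := by
  classical
  choose R hR using fun m => Groth.Agent.RadBoundLib.exists_radBound.{u} N (Groth.Agent.RadBoundLib.box N m).card m
  refine ⟨R, fun k₀ _ m S hS => ?_⟩
  let V : Submodule k₀ (MvPolynomial (Fin N) k₀) :=
    Submodule.span k₀ ((fun α => MvPolynomial.monomial α (1 : k₀)) '' (Groth.Agent.RadBoundLib.box N m : Set _))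
  have hSV : ∀ p ∈ S, p ∈ V := fun p hp => by
    rw [← Groth.Agent.RadBoundLib.sum_monomial_coeff (hS p hp)]
    refine Submodule.sum_mem _ fun α hα => ?_
    rw [show MvPolynomial.monomial α (MvPolynomial.coeff α p) =
      MvPolynomial.coeff α p • MvPolynomial.monomial α (1 : k₀) by rw [MvPolynomial.smul_monomial, smul_eq_mul, mul_one]]
    exact Submodule.smul_mem _ _ (Submodule.subset_span ⟨α, hα, rfl⟩)
  let W : Submodule k₀ (MvPolynomial (Fin N) k₀) := Submodule.span k₀ S
  have hWV : W ≤ V := Submodule.span_le.2 hSV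
  haveI : FiniteDimensional k₀ V := FiniteDimensional.span_of_finite k₀ (Set.Finite.image _ (Finset.finite_toSet _))
  haveI : FiniteDimensional k₀ W := Submodule.finiteDimensional_of_le hWV
  have hdim : Module.finrank k₀ W ≤ (Groth.Agent.RadBoundLib.box N m).card := by
    refine (Submodule.finrank_mono hWV).trans ?_
    have hVeq : V = Submodule.span k₀ (((Groth.Agent.RadBoundLib.box N m).image fun α => MvPolynomial.monomial α (1 : k₀) : Finset _) : Set _) := by
      rw [Finset.coe_image]
    rw [hVeq]
    exact (finrank_span_finset_le_card _).trans Finset.card_image_le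
  obtain ⟨T, hT, hTspan, hTli⟩ := exists_linearIndependent k₀ S
  have hTfin : T.Finite := by
    have h1 : LinearIndependent k₀ (fun x : T => (⟨x.1, Submodule.subset_span (hT x.2)⟩ : W)) :=
      LinearIndependent.of_comp W.subtype hTli
    exact Set.finite_coe_iff.1 h1.finite
  have hcard : hTfin.toFinset.card ≤ (Groth.Agent.RadBoundLib.box N m).card := by
    refine le_trans (le_of_eq ?_) hdim
    haveI := hTfin.fintype
    rw [show W = Submodule.span k₀ T from hTspan.symm, finrank_span_set_eq_card hTli, Set.Finite.toFinset_eq_toFinset]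
  let e := hTfin.toFinset.equivFin
  let g : Fin (Groth.Agent.RadBoundLib.box N m).card → MvPolynomial (Fin N) k₀ := fun j =>
    if h : (j : ℕ) < hTfin.toFinset.card then (e.symm ⟨j, h⟩ : MvPolynomial (Fin N) k₀) else 0
  have hmemT : ∀ x : hTfin.toFinset, (x : MvPolynomial (Fin N) k₀) ∈ T := fun x => hTfin.mem_toFinset.1 x.2
  have hg : ∀ j, (g j).totalDegree ≤ m := fun j => by
    simp only [g]
    split_ifs with h
    · exact hS _ (hT (hmemT _))
    · simp
  obtain ⟨S', h1, h2⟩ := hR m k₀ g hg
  refine ⟨S', h1, h2.trans (congrArg Ideal.radical (le_antisymm (Ideal.span_le.2 ?_) (Ideal.span_le.2 fun p hp => ?_)))⟩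
  · rintro _ ⟨j, rfl⟩
    simp only [g]
    split_ifs with h
    · exact Ideal.subset_span (hT (hmemT _))
    · exact zero_mem _
  · have hpW : p ∈ Submodule.span k₀ T := hTspan ▸ Submodule.subset_span hp
    refine (Submodule.span_le (p := (Ideal.span (Set.range g)).restrictScalars k₀)).2 ?_ hpW
    intro t ht
    refine Ideal.subset_span ⟨⟨(e ⟨t, hTfin.mem_toFinset.2 ht⟩ : ℕ), lt_of_lt_of_le (e _).2 hcard⟩, ?_⟩
    simp only [g, dif_pos (e ⟨t, hTfin.mem_toFinset.2 ht⟩).2, Fin.eta, Equiv.symm_apply_apply]

end Groth.Agent.S5634
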