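import Groth.Statements.S5641
import Groth.Agent.GeomIntCompLib.Spread
import Groth.Agent.ResLiftLib.Basic

set_option autoImplicit false
universe u
open CategoryTheory CategoryTheory.Limits AlgebraicGeometry
open FlatMor

namespace Groth.Agent.S5641

open CategoryTheory CategoryTheory.Limits AlgebraicGeometry

set_option backward.isDefEq.respectTransparency false
set_option linter.style.haveILetI false
set_option maxHeartbeats 1000000

/-- Geometrically integral components after a finite free extension of an affine base. -/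
theorem exists_cover {X S : Scheme.{u}} (R : Type u) [CommRing R] [IsDomain R] [IsNoetherianRing R]
    (f : X ⟶ S) [LocallyOfFiniteType f] [QuasiCompact f] (σ : Spec (CommRingCat.of R) ⟶ S) :
    ∃ (A : Type u) (_ : CommRing A) (_ : IsDomain A) (_ : Algebra R A) (_ : Module.Finite R A) (_ : Module.Free R A)
      (V : (Spec (CommRingCat.of A)).Opens), genericPoint (Spec (CommRingCat.of A)) ∈ V ∧
      Function.Injective (algebraMap R A) ∧
      ∀ (Z : Scheme.{u}) (ι : Z ⟶ pullback f (Spec.map (CommRingCat.ofHom (algebraMap R A)) ≫ σ))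
        [IsClosedImmersion ι] [IsReduced Z],
        Set.range ι ∈ irreducibleComponents ↥(pullback f (Spec.map (CommRingCat.ofHom (algebraMap R A)) ≫ σ)) →
          (∀ z, pullback.snd f (Spec.map (CommRingCat.ofHom (algebraMap R A)) ≫ σ) (ι z) ∉ V) ∨
          (GeometricallyIntegral ((ι ≫ pullback.snd f (Spec.map (CommRingCat.ofHom (algebraMap R A)) ≫ σ)) ∣_ V) ∧
            Flat ((ι ≫ pullback.snd f (Spec.map (CommRingCat.ofHom (algebraMap R A)) ≫ σ)) ∣_ V)) := by
  let k := FractionRing R
  let gk := Spec.map (CommRingCat.ofHom (algebraMap R k)) ≫ σ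
  haveI : QuasiCompact (pullback.snd f gk) := MorphismProperty.pullback_snd _ _ inferInstance
  haveI : LocallyOfFiniteType (pullback.snd f gk) := MorphismProperty.pullback_snd _ _ inferInstance
  haveI : CompactSpace ↥(pullback f gk) := QuasiCompact.compactSpace_of_compactSpace (pullback.snd f gk)
  obtain ⟨L, _, _, hfinL, hL⟩ := Groth.Agent.GeomIntCompLib.exists_finite_ext_pullback (pullback.snd f gk)
  letI : Algebra R L := ((algebraMap k L).comp (algebraMap R k)).toAlgebra
  haveI : IsScalarTower R k L := IsScalarTower.of_algebraMap_eq fun _ => rfl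
  have hinj : Function.Injective (algebraMap R L) :=
    (algebraMap k L).injective.comp (IsFractionRing.injective R k)
  have hK : ∀ a : k, algebraMap k L a ∈ ResLiftLib.genField (algebraMap R L) := fun a => by
    obtain ⟨x, y, -, rfl⟩ := IsFractionRing.div_surjective (A := R) a
    rw [map_div₀]
    exact div_mem (ResLiftLib.apply_mem (algebraMap R L) x) (ResLiftLib.apply_mem (algebraMap R L) y)
  letI : Algebra k (ResLiftLib.genField (algebraMap R L)) := ((algebraMap k L).codRestrict _ hK).toAlgebra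
  haveI : IsScalarTower k (ResLiftLib.genField (algebraMap R L)) L := IsScalarTower.of_algebraMap_eq fun _ => rfl
  haveI : Module.Finite (ResLiftLib.genField (algebraMap R L)) L :=
    Module.Finite.of_restrictScalars_finite k (ResLiftLib.genField (algebraMap R L)) L
  obtain ⟨A, _, _, hfinA, hfreeA, ψ, hker, hgen⟩ := ResLiftLib.exists_finite_free (R := R) (L := L) ⊥
    ((RingHom.injective_iff_ker_eq_bot _).1 hinj) inferInstance
  rw [Ideal.map_bot] at hker
  have hψ : Function.Injective ψ.toRingHom := (RingHom.injective_iff_ker_eq_bot _).2 hker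
  haveI : IsDomain A := hψ.isDomain ψ.toRingHom
  letI : Algebra A L := ψ.toRingHom.toAlgebra
  haveI : IsScalarTower R A L := IsScalarTower.of_algebraMap_eq fun r => (ψ.commutes r).symm
  haveI : FaithfulSMul A L := (faithfulSMul_iff_algebraMap_injective A L).2 hψ
  haveI : IsFractionRing A L := IsFractionRing.of_field A L fun z => by
    obtain ⟨a, b, -, h⟩ := ResLiftLib.exists_div ψ.toRingHom (x := z) (by rw [hgen]; trivial)
    exact ⟨a, b, h⟩
  haveI : IsNoetherianRing A := IsNoetherianRing.of_finite R A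
  have hRA : Function.Injective (algebraMap R A) := fun x y h => hinj (by
    rw [IsScalarTower.algebraMap_apply R A L, h, ← IsScalarTower.algebraMap_apply])
  let τ := Spec.map (CommRingCat.ofHom (algebraMap R A)) ≫ σ
  let g := pullback.snd f τ
  haveI : QuasiCompact g := MorphismProperty.pullback_snd _ _ inferInstance
  haveI : LocallyOfFiniteType g := MorphismProperty.pullback_snd _ _ inferInstance
  haveI : IsLocallyNoetherian (pullback f τ) := LocallyOfFiniteType.isLocallyNoetherian g
  haveI : CompactSpace ↥(pullback f τ) := QuasiCompact.compactSpace_of_compactSpace g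
  haveI : IsNoetherian (pullback f τ) := {}
  let gL := Spec.map (CommRingCat.ofHom (algebraMap A L))
  haveI : IsPreimmersion gL := IsPreimmersion.of_isLocalization (nonZeroDivisors A)
  haveI : Flat gL := Flat.SpecMap_iff.2 ((RingHom.flat_algebraMap_iff).2 (IsLocalization.flat L (nonZeroDivisors A)))
  let sL := Spec.map (CommRingCat.ofHom (algebraMap k L))
  have e0 : gL ≫ τ = sL ≫ gk := by
    simp only [gL, τ, sL, gk, ← Spec.map_comp_assoc, ← CommRingCat.ofHom_comp]
    rw [← IsScalarTower.algebraMap_eq R A L, ← IsScalarTower.algebraMap_eq R k L]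
  let p := pullback.snd f gk
  have sq1 : IsPullback (pullback.fst g gL ≫ pullback.fst f τ) (pullback.snd g gL) f (gL ≫ τ) :=
    (IsPullback.of_hasPullback g gL).paste_horiz (IsPullback.of_hasPullback f τ)
  have sq2 : IsPullback (pullback.fst p sL ≫ pullback.fst f gk) (pullback.snd p sL) f (gL ≫ τ) := by
    rw [e0]
    exact (IsPullback.of_hasPullback p sL).paste_horiz (IsPullback.of_hasPullback f gk)
  have hW : ∀ (T : Scheme.{u}) (i : T ⟶ pullback g gL) [IsClosedImmersion i] [IsReduced T],
      Set.range i ∈ irreducibleComponents ↥(pullback g gL) → GeometricallyIntegral (i ≫ pullback.snd g gL) := by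
    intro T i _ _ hi
    let e := sq1.isoIsPullback _ _ sq2
    have hc : Set.range (i ≫ e.hom) ∈ irreducibleComponents ↥(pullback p sL) := by
      rw [Scheme.Hom.comp_base, TopCat.coe_comp, Set.range_comp]
      exact Groth.Agent.GeomIntCompLib.image_mem_components e.hom.homeomorph.isHomeomorph hi
    have h := hL T (i ≫ e.hom) hc
    rwa [Category.assoc, IsPullback.isoIsPullback_hom_snd] at h
  obtain ⟨V, hV, hgood⟩ := Groth.Agent.GeomIntCompLib.exists_good_open_components g fun Z ι _ _ hZ z hz => by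
    have hy : gL (IsLocalRing.closedPoint L) = genericPoint (Spec (CommRingCat.of A)) := by
      rw [genericPoint_eq_bot_of_affine]
      refine PrimeSpectrum.ext ?_
      show Ideal.comap (algebraMap A L) (IsLocalRing.maximalIdeal L) = ⊥
      rw [(IsLocalRing.isField_iff_maximalIdeal_eq).1 (Field.toIsField L)]
      exact (RingHom.injective_iff_ker_eq_bot _).1 hψ
    rw [← hy] at hz ⊢
    exact Groth.Agent.GeomIntCompLib.fibre_component (IsPullback.of_hasPullback g gL) hW ι hZ z _ hz
  exact ⟨A, inferInstance, inferInstance, inferInstance, hfinA, hfreeA, V, hV, hRA, hgood⟩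

/-- Let S be an integral Noetherian scheme and f : X ⟶ S a morphism of finite type. Then there are a
nonempty open subscheme V of S, an integral scheme S' and a finite flat surjective morphism h : S' ⟶
V such that every irreducible component of X' = X ×_S S', given its reduced closed-subscheme
structure, is flat over S' with geometrically integral fibres. (Fibres over all points of S' are
nonempty here, which the published statement does not require; it is obtained by shrinking V once
more.) -/
theorem result {X S : Scheme.{u}} [IsNoetherian S] [IsIntegral S]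
    (f : X ⟶ S) [LocallyOfFiniteType f] [QuasiCompact f] :
    ∃ (V : S.Opens) (S' : Scheme.{u}) (h : S' ⟶ (V : Scheme.{u})), (V : Set S).Nonempty ∧ IsIntegral S' ∧
      IsFinite h ∧ Flat h ∧ Surjective h ∧
      ∀ (Z : Scheme.{u}) (i : Z ⟶ pullback f (h ≫ V.ι)) [IsClosedImmersion i] [IsReduced Z],
        Set.range i.base ∈ irreducibleComponents ↥(pullback f (h ≫ V.ι)) →
          Flat (i ≫ pullback.snd f (h ≫ V.ι)) ∧ GeometricallyIntegral (i ≫ pullback.snd f (h ≫ V.ι)) := by
  obtain ⟨_, ⟨U : S.Opens, hU, rfl⟩, hηU, -⟩ :=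
    S.isBasis_affineOpens.exists_subset_of_mem_open (Set.mem_univ (genericPoint S)) isOpen_univ
  haveI : Nonempty U.toScheme := ⟨⟨_, hηU⟩⟩
  haveI : IsDomain Γ(S, U) := IsIntegral.component_integral U
  haveI : IsNoetherianRing Γ(S, U) := IsLocallyNoetherian.component_noetherian ⟨U, hU⟩
  let σ : Spec (CommRingCat.of Γ(S, U)) ⟶ S := hU.fromSpec
  obtain ⟨A, _, _, _, _, _, V₀, hV₀, hRA, hgood⟩ := exists_cover Γ(S, U) f σ
  let π := Spec.map (CommRingCat.ofHom (algebraMap Γ(S, U) A))
  haveI : IsFinite π := (IsFinite.SpecMap_iff _).2 (RingHom.finite_algebraMap.2 inferInstance)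
  haveI : Flat π := Flat.SpecMap_iff.2 (RingHom.flat_algebraMap_iff.2 inferInstance)
  haveI : Nontrivial A := inferInstance
  haveI : Surjective π := ⟨PrimeSpectrum.comap_surjective_of_faithfullyFlat (B := A)⟩
  haveI : IsOpenImmersion σ := inferInstanceAs (IsOpenImmersion hU.fromSpec)
  let O : (Spec (CommRingCat.of Γ(S, U))).Opens :=
    ⟨(π '' (V₀ : Set _)ᶜ)ᶜ, (π.isClosedMap _ V₀.2.isClosed_compl).isOpen_compl⟩
  have hO : genericPoint (Spec (CommRingCat.of Γ(S, U))) ∈ O := by
    rintro ⟨x, hx, hπx⟩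
    refine hx (?_ : x ∈ V₀)
    have : x = genericPoint (Spec (CommRingCat.of A)) := by
      rw [genericPoint_eq_bot_of_affine] at hπx ⊢
      refine PrimeSpectrum.ext (Ideal.eq_bot_of_comap_eq_bot (R := Γ(S, U)) ?_)
      exact congrArg PrimeSpectrum.asIdeal hπx
    exact this ▸ hV₀
  have hOV : π ⁻¹ᵁ O ≤ V₀ := fun x hx => not_not.1 fun h => hx ⟨x, h, rfl⟩
  obtain ⟨y, hy⟩ := Scheme.Hom.surjective π (genericPoint (Spec (CommRingCat.of Γ(S, U))))
  have hyO : y ∈ π ⁻¹ᵁ O := by
    show π y ∈ O
    rw [hy]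
    exact hO
  haveI : Nonempty (π ⁻¹ᵁ O).toScheme := ⟨⟨y, hyO⟩⟩
  let h : (π ⁻¹ᵁ O).toScheme ⟶ (σ ''ᵁ O).toScheme := π ∣_ O ≫ (σ.isoImage O).hom
  haveI : IsFinite (π ∣_ O) := IsZariskiLocalAtTarget.restrict (P := @IsFinite) ‹IsFinite π› O
  haveI : Flat (π ∣_ O) := IsZariskiLocalAtTarget.restrict (P := @Flat) ‹Flat π› O
  haveI : Surjective (π ∣_ O) := IsZariskiLocalAtTarget.restrict (P := @Surjective) ‹Surjective π› O
  refine ⟨σ ''ᵁ O, (π ⁻¹ᵁ O).toScheme, h, ⟨_, _, hO, rfl⟩, inferInstance, inferInstance, inferInstance,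
    inferInstance, fun Z i _ _ hZ => ?_⟩
  have he : h ≫ (σ ''ᵁ O).ι = (π ⁻¹ᵁ O).ι ≫ π ≫ σ := by
    simp [h]
  have sq0 : IsPullback (pullback.fst f (h ≫ (σ ''ᵁ O).ι)) (pullback.snd f (h ≫ (σ ''ᵁ O).ι)) f
      ((π ⁻¹ᵁ O).ι ≫ π ≫ σ) := he ▸ IsPullback.of_hasPullback f (h ≫ (σ ''ᵁ O).ι)
  have hbig := IsPullback.of_hasPullback f (π ≫ σ)
  let j := hbig.lift (pullback.fst f (h ≫ (σ ''ᵁ O).ι)) (pullback.snd f (h ≫ (σ ''ᵁ O).ι) ≫ (π ⁻¹ᵁ O).ι)
    (by rw [Category.assoc]; exact sq0.w)
  have sq : IsPullback j (pullback.snd f (h ≫ (σ ''ᵁ O).ι)) (pullback.snd f (π ≫ σ)) (π ⁻¹ᵁ O).ι :=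
    IsPullback.of_right (h₁₂ := pullback.fst f (π ≫ σ)) (by rw [hbig.lift_fst]; exact sq0) (hbig.lift_snd _ _ _) hbig
  exact Groth.Agent.GeomIntCompLib.component_of_open sq (V := V₀)
    (by rw [Scheme.Opens.range_ι]; exact hOV) hgood i hZ

end Groth.Agent.S5641
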