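import Groth.Statements.S5642
import Groth.Agent.K0Fam.Canon
import Groth.Agent.DevLib.Apps
import Groth.Agent.HilbLib.Poly
import Groth.Agent.K0LocLib.Basic
-- import your own Groth.Agent.* helpers here

set_option autoImplicit false
set_option linter.style.haveILetI false
set_option backward.isDefEq.respectTransparency false
universe u
open CategoryTheory CategoryTheory.Limits AlgebraicGeometry
open Classical
open SGA6

namespace Groth.Agent.S5642

section
open CategoryTheory CategoryTheory.Limits AlgebraicGeometry Groth.Agent Groth.Agent.DevLib Groth.Agent.PullbackMod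
open Groth.Agent.K0LocLib

noncomputable section

variable {X : Scheme.{u}}

/-- The classes of dimension less than `n`. -/
def Small (X : Scheme.{u}) (n : ℕ) : AddSubgroup (K X) :=
  AddSubgroup.closure {c | ∃ G : X.Modules, Coh.IsCoh G ∧ topologicalKrullDim ↥(CohB1.support G) < n ∧
    c = KZero.clSub (fun M : X.Modules => Coh.IsCoh M) G}

/-- The terms of the cycle. -/
def term (n : ℕ) (M : X.Modules) (x : X) : K X :=
  if topologicalKrullDim ↥(closure ({x} : Set ↥X)) = n then
    (Module.length (X.presheaf.stalk x) (M.presheaf.stalk x)).toNat • KZero.clSub (fun M : X.Modules => Coh.IsCoh M) (Cyc.closureStructureSheaf x)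
  else 0

/-- Finiteness of the cycle and its congruence with the class. -/
structure OK (n : ℕ) (M : X.Modules) : Prop where
  fin : ∀ x : X, topologicalKrullDim ↥(closure ({x} : Set ↥X)) = n →
    Module.length (X.presheaf.stalk x) (M.presheaf.stalk x) ≠ ⊤
  finite : {x : X | topologicalKrullDim ↥(closure ({x} : Set ↥X)) = n ∧ x ∈ CohB1.support M}.Finite
  mem : cl M - finsum (term n M) ∈ Small X n

theorem support_term_subset (n : ℕ) (M : X.Modules) : Function.support (term n M) ⊆
    {x : X | topologicalKrullDim ↥(closure ({x} : Set ↥X)) = n ∧ x ∈ CohB1.support M} := fun x hx => by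
  rw [Function.mem_support, term] at hx
  split_ifs at hx with h
  · refine ⟨h, fun hs => hx ?_⟩
    haveI := hs
    rw [Module.length_eq_zero, ENat.toNat_zero, zero_smul]
  · exact absurd rfl hx

theorem length_add {S : ShortComplex X.Modules} (hS : S.ShortExact) (x : X) :
    Module.length (X.presheaf.stalk x) (S.X₂.presheaf.stalk x) =
      Module.length (X.presheaf.stalk x) (S.X₁.presheaf.stalk x) +
        Module.length (X.presheaf.stalk x) (S.X₃.presheaf.stalk x) := by
  have h := hS.map_of_exact (DCohLib.stkF x)
  exact Module.length_eq_add_of_exact ((S.map (DCohLib.stkF x)).f.hom) ((S.map (DCohLib.stkF x)).g.hom) h.moduleCat_injective_f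
    h.moduleCat_surjective_g ((ShortComplex.ShortExact.moduleCat_exact_iff_function_exact _).1 h.exact)

theorem ok_ext {n : ℕ} {S : ShortComplex X.Modules} (hS : S.ShortExact) (h1 : Coh.IsCoh S.X₁)
    (h2 : Coh.IsCoh S.X₂) (h3 : Coh.IsCoh S.X₃) (H1 : OK n S.X₁) (H3 : OK n S.X₃) : OK n S.X₂ := by
  have hfin : {x : X | topologicalKrullDim ↥(closure ({x} : Set ↥X)) = n ∧ x ∈ CohB1.support S.X₂}.Finite :=
    (H1.finite.union H3.finite).subset fun x ⟨hx, hs⟩ => by
      rcases (support_X₂ hS).subset hs with h | h
      · exact Or.inl ⟨hx, h⟩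
      · exact Or.inr ⟨hx, h⟩
  refine ⟨fun x hx => ?_, hfin, ?_⟩
  · rw [length_add hS x, ne_eq, WithTop.add_eq_top, not_or]
    exact ⟨H1.fin x hx, H3.fin x hx⟩
  · have ht : term n S.X₂ = fun x => term n S.X₁ x + term n S.X₃ x := funext fun x => by
      by_cases hx : topologicalKrullDim ↥(closure ({x} : Set ↥X)) = n
      · simp only [term, if_pos hx, ← add_smul, length_add hS x, ENat.toNat_add (H1.fin x hx) (H3.fin x hx)]
      · simp only [term, if_neg hx, add_zero]
    rw [ht, finsum_add_distrib (H1.finite.subset (support_term_subset n _)) (H3.finite.subset (support_term_subset n _)),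
      cl_add hS h1 h2 h3, add_sub_add_comm]
    exact add_mem H1.mem H3.mem

theorem ok_isZero [IsLocallyNoetherian X] {n : ℕ} {M : X.Modules} (h : IsZero M) : OK n M := by
  have hs : ∀ x, Subsingleton (M.presheaf.stalk x) := fun x => by
    have : IsZero ((DCohLib.stkF x).obj M) := Functor.map_isZero _ h
    exact ModuleCat.subsingleton_of_isZero this
  refine ⟨fun x _ => ?_, Set.Finite.subset Set.finite_empty fun x hx => hx.2 (hs x), ?_⟩
  · haveI := hs x
    simp [Module.length_eq_zero]
  · rw [cl_isZero h, finsum_eq_zero_of_forall_eq_zero fun x => Classical.by_contradiction fun hx =>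
      (support_term_subset n M hx).2 (hs x), sub_zero]
    exact zero_mem _

theorem ok_piece [IsNoetherian X] {n : ℕ} {ξ : X} (hξ : topologicalKrullDim ↥(closure ({ξ} : Set ↥X)) ≤ n)
    {Q : X.Modules} (hQ : IsPiece ξ Q) : OK n Q := by
  have hlt : topologicalKrullDim ↥(closure ({ξ} : Set ↥X)) < ((n + 1 : ℕ) : WithBot ℕ∞) :=
    hξ.trans_lt (by exact_mod_cast Nat.lt_succ_self n)
  have small : ∀ {M : X.Modules}, Coh.IsCoh M → (∀ y ∈ CohB1.support M, ξ ⤳ y) → ξ ∉ CohB1.support M →
      cl M ∈ Small X n := fun {M} hM hs hn => AddSubgroup.subset_closure ⟨M, hM,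
    HilbLib.dim_lt_of_notMem (DevLib.isClosed_support hM) (fun y hy => specializes_iff_mem_closure.1 (hs y hy)) hn hlt, rfl⟩
  have hsub : ∀ x : X, topologicalKrullDim ↥(closure ({x} : Set ↥X)) = n → x ∈ CohB1.support Q → x = ξ := fun x hx hs => by
    by_contra hne
    refine (HilbLib.dim_lt_of_notMem isClosed_closure (closure_minimal (Set.singleton_subset_iff.2
      (specializes_iff_mem_closure.1 (hQ.supp x hs))) isClosed_closure) (fun hc => hne ?_) hlt).ne hx
    exact ((specializes_iff_mem_closure.2 hc).antisymm (hQ.supp x hs)).eq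
  haveI := hQ.simple
  have hlen : Module.length (X.presheaf.stalk ξ) (Q.presheaf.stalk ξ) = 1 := Module.length_eq_one _ _
  refine ⟨fun x hx => ?_, (Set.finite_singleton ξ).subset fun x hx => hsub x hx.1 hx.2, ?_⟩
  · by_cases hs : x ∈ CohB1.support Q
    · obtain rfl := hsub x hx hs
      rw [hlen]
      exact ENat.one_ne_top
    · haveI := Classical.not_not.1 hs
      simp [Module.length_eq_zero]
  · rw [finsum_eq_single (term n Q) ξ fun x hx => Classical.by_contradiction fun hne =>
      hx (hsub x (support_term_subset n Q hne).1 (support_term_subset n Q hne).2), term]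
    split_ifs with hd
    · have hC := K0Fam.isPiece_closureStructureSheaf ξ
      obtain ⟨H, p, r, hH, hp, hr, hps, hrs⟩ := DevLib.exists_common hQ hC
      have hc1 := (QCohLib.isCoh_kernel_cokernel p hH hQ.coh).2
      have hc2 := (QCohLib.isCoh_kernel_cokernel r hH hC.coh).2
      rw [hlen, ENat.toNat_one, one_smul]
      change cl Q - cl (Cyc.closureStructureSheaf ξ) ∈ Small X n
      rw [show cl Q = cl H + cl (cokernel p) from cl_add (cokerSeq_shortExact p) hH hQ.coh hc1,
        show cl (Cyc.closureStructureSheaf ξ) = cl H + cl (cokernel r) from cl_add (cokerSeq_shortExact r) hH hC.coh hc2,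
        add_sub_add_left_eq_sub]
      exact sub_mem (small hc1 (DevLib.supp_coker p hQ.supp) (DevLib.notMem_support_coker p hps))
        (small hc2 (DevLib.supp_coker r hC.supp) (DevLib.notMem_support_coker r hrs))
    · rw [sub_zero]
      exact AddSubgroup.subset_closure ⟨Q, hQ.coh, lt_of_le_of_lt (Topology.IsInducing.topologicalKrullDim_le
        (Topology.IsEmbedding.inclusion fun y hy => specializes_iff_mem_closure.1 (hQ.supp y hy)).isInducing)
        (lt_of_le_of_ne hξ hd), rfl⟩

end

end

/-- Let X be a Noetherian scheme, K the Grothendieck group of coherent O_X-modules and Filt_m ⊆ K the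
subgroup generated by the classes of coherent modules whose support has dimension ≤ m. Let F be
coherent with dim Supp(F) ≤ n. Then for the points x of X whose closure Z(x) has dimension n the
stalk F_x has finite length, nonzero for only finitely many such x, and [F] ≡ Σ_x length(F_x)
[O_{Z(x)}] modulo Filt_{n-1}, where O_{Z(x)} is the structure sheaf of the reduced closed subscheme
Z(x) viewed as an O_X-module. -/
theorem result (X : Scheme.{u}) [IsNoetherian X] (n : ℕ) (F : X.Modules) (hF : Coh.IsCoh F)
    (hsupp : topologicalKrullDim ↥(CohB1.support F) ≤ n) :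
    KZero.clSub (fun M : X.Modules => Coh.IsCoh M) F -
        (finsum fun x : ↥X => if topologicalKrullDim ↥(closure ({x} : Set ↥X)) = n then
          (Module.length (X.presheaf.stalk x) (F.presheaf.stalk x)).toNat • KZero.clSub (fun M : X.Modules => Coh.IsCoh M) (Cyc.closureStructureSheaf x) else 0) ∈
      AddSubgroup.closure {c : KZero.K0sub (fun M : X.Modules => Coh.IsCoh M) |
        ∃ G : X.Modules, Coh.IsCoh G ∧ topologicalKrullDim ↥(CohB1.support G) < n ∧ c = KZero.clSub (fun M : X.Modules => Coh.IsCoh M) G} := by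
  refine (DevLib.devissage {y : X | topologicalKrullDim ↥(closure ({y} : Set X)) ≤ n}
    (fun M => Coh.IsCoh M → OK n M) ?_ (fun M h _ => ok_isZero h)
    (fun S hS h1 h2 h3 _ H1 H3 _ => ok_ext hS h1 h2 h3 (H1 h1) (H3 h3))
    (fun ξ hξ _ Q hQ _ _ => ok_piece hξ hQ) F hF ?_ hF).mem
  · rintro M N ⟨e⟩ h hN
    have hM : Coh.IsCoh M := Groth.Agent.DCohLib.isCoh_iso e.symm hN
    have hz : Coh.IsCoh (Limits.cokernel e.hom) := (Groth.Agent.QCohLib.isCoh_kernel_cokernel e.hom hM hN).2
    exact ok_ext (S := Groth.Agent.DevLib.cokerSeq e.hom) (Groth.Agent.DevLib.cokerSeq_shortExact e.hom) hM hN hz (h hM)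
      (ok_isZero (Limits.isZero_cokernel_of_epi e.hom))
  · intro y hy
    exact (Topology.IsInducing.topologicalKrullDim_le
      (Topology.IsEmbedding.inclusion (closure_minimal (Set.singleton_subset_iff.2 hy)
        (Groth.Agent.DevLib.isClosed_support hF))).isInducing).trans hsupp

end Groth.Agent.S5642
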