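import Groth.Statements.S5643
import Groth.Agent.K0Fam.Canon
import Groth.Agent.DevLib.Apps
import Groth.Agent.K0ResLib.Basic
-- import your own Groth.Agent.* helpers here

set_option autoImplicit false
set_option linter.style.haveILetI false
set_option backward.isDefEq.respectTransparency false
universe u
open CategoryTheory CategoryTheory.Limits AlgebraicGeometry
open Classical
open SGA6

namespace Groth.Agent.S5643

section
open CategoryTheory CategoryTheory.Limits AlgebraicGeometry Groth.Agent Groth.Agent.DevLib Groth.Agent.PullbackMod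

variable {X : Scheme.{u}}

noncomputable abbrev cls (G : X.Modules) : KZero.K0sub (fun M : X.Modules => Coh.IsCoh M) :=
  KZero.clSub (fun M : X.Modules => Coh.IsCoh M) G

theorem cls_isZero {M : X.Modules} (h : IsZero M) : cls M = 0 := by
  by_cases hM : Coh.IsCoh M
  · have hS : (ShortComplex.mk (0 : M ⟶ M) (0 : M ⟶ M) zero_comp).ShortExact :=
      { exact := ShortComplex.exact_of_isZero_X₂ _ h
        mono_f := ⟨fun _ _ _ => h.eq_of_tgt _ _⟩
        epi_g := ⟨fun _ _ _ => h.eq_of_src _ _⟩ }
    have e := K0ResLib.clSub_add (P := fun M : X.Modules => Coh.IsCoh M) hS hM hM hM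
    exact left_eq_add.1 e
  · exact dif_neg hM

theorem cls_coker [IsNoetherian X] {H Q : X.Modules} (f : H ⟶ Q) [Mono f] (hH : Coh.IsCoh H)
    (hQ : Coh.IsCoh Q) : cls Q = cls H + cls (cokernel f) :=
  K0ResLib.clSub_add (cokerSeq_shortExact f) hH hQ (QCohLib.isCoh_kernel_cokernel f hH hQ).2

theorem cls_iso [IsNoetherian X] {M N : X.Modules} (e : M ≅ N) (hM : Coh.IsCoh M) : cls M = cls N := by
  rw [cls_coker e.hom hM (DCohLib.isCoh_iso e hM), cls_isZero (isZero_cokernel_of_epi e.hom), add_zero]

end

/-- Let X be a Noetherian scheme and K the Grothendieck group of coherent O_X-modules. For every n, the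
subgroup of K generated by the classes of coherent modules whose support has dimension ≤ n coincides
with the subgroup generated by the classes [O_Z] of the structure sheaves (as O_X-modules) of the
integral closed subschemes Z ⊆ X of dimension ≤ n, Z running over the reduced closures of points of
X. -/
theorem result (X : Scheme.{u}) [IsNoetherian X] (n : ℕ) :
    AddSubgroup.closure {c : KZero.K0sub (fun M : X.Modules => Coh.IsCoh M) |
        ∃ G : X.Modules, Coh.IsCoh G ∧ topologicalKrullDim ↥(CohB1.support G) ≤ n ∧ c = KZero.clSub (fun M : X.Modules => Coh.IsCoh M) G} =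
      AddSubgroup.closure {c : KZero.K0sub (fun M : X.Modules => Coh.IsCoh M) |
        ∃ x : ↥X, topologicalKrullDim ↥(closure ({x} : Set ↥X)) ≤ n ∧ c = KZero.clSub (fun M : X.Modules => Coh.IsCoh M) (Cyc.closureStructureSheaf x)} := by
  apply le_antisymm
  · refine (AddSubgroup.closure_le _).2 ?_
    rintro c ⟨G, hG, hdim, rfl⟩
    refine DevLib.devissage {y : X | topologicalKrullDim ↥(closure ({y} : Set X)) ≤ n}
      (fun M => Coh.IsCoh M → KZero.clSub (fun M : X.Modules => Coh.IsCoh M) M ∈ AddSubgroup.closure
        {c : KZero.K0sub (fun M : X.Modules => Coh.IsCoh M) | ∃ x : ↥X, topologicalKrullDim ↥(closure ({x} : Set ↥X)) ≤ n ∧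
          c = KZero.clSub (fun M : X.Modules => Coh.IsCoh M) (Cyc.closureStructureSheaf x)})
      ?_ ?_ ?_ ?_ G hG ?_ hG
    · rintro M N ⟨e⟩ h hN
      have hM : Coh.IsCoh M := DCohLib.isCoh_iso e.symm hN
      rw [show KZero.clSub _ N = _ from (cls_iso e hM).symm]
      exact h hM
    · intro M hM _
      rw [show KZero.clSub _ M = _ from cls_isZero hM]
      exact zero_mem _
    · intro S hS h1 h2 h3 _ H1 H3 _
      rw [K0ResLib.clSub_add (P := fun M : X.Modules => Coh.IsCoh M) hS h1 h2 h3]
      exact add_mem (H1 h1) (H3 h3)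
    · intro ξ hξ _ Q hQ hsmall _
      have hC := K0Fam.isPiece_closureStructureSheaf ξ
      obtain ⟨H, p, r, hH, hp, hr, hps, hrs⟩ := DevLib.exists_common hQ hC
      haveI := hp
      haveI := hr
      have small : ∀ {B : X.Modules} (g : H ⟶ B) [Mono g], Coh.IsCoh B → (∀ y ∈ CohB1.support B, ξ ⤳ y) →
          Function.Surjective (PullbackMod.stalkLin g ξ) →
          KZero.clSub (fun M : X.Modules => Coh.IsCoh M) (Limits.cokernel g) ∈ AddSubgroup.closure
            {c : KZero.K0sub (fun M : X.Modules => Coh.IsCoh M) | ∃ x : ↥X, topologicalKrullDim ↥(closure ({x} : Set ↥X)) ≤ n ∧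
              c = KZero.clSub (fun M : X.Modules => Coh.IsCoh M) (Cyc.closureStructureSheaf x)} :=
        fun g _ hB hBs hg => hsmall _ (QCohLib.isCoh_kernel_cokernel g hH hB).2
          (fun y hy => hBs y (DevLib.support_coker_subset g hy)) (DevLib.notMem_support_coker g hg)
          (QCohLib.isCoh_kernel_cokernel g hH hB).2
      have hHm : KZero.clSub (fun M : X.Modules => Coh.IsCoh M) H ∈ AddSubgroup.closure
            {c : KZero.K0sub (fun M : X.Modules => Coh.IsCoh M) | ∃ x : ↥X, topologicalKrullDim ↥(closure ({x} : Set ↥X)) ≤ n ∧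
              c = KZero.clSub (fun M : X.Modules => Coh.IsCoh M) (Cyc.closureStructureSheaf x)} := by
        rw [show KZero.clSub _ H = _ from eq_sub_of_add_eq (cls_coker r hH hC.coh).symm]
        exact sub_mem (AddSubgroup.subset_closure ⟨ξ, hξ, rfl⟩) (small r hC.coh hC.supp hrs)
      rw [show KZero.clSub _ Q = _ from cls_coker p hH hQ.coh]
      exact add_mem hHm (small p hQ.coh hQ.supp hps)
    · intro y hy
      exact (Topology.IsInducing.topologicalKrullDim_le
        (Topology.IsEmbedding.inclusion (closure_minimal (Set.singleton_subset_iff.2 hy)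
          (DevLib.isClosed_support hG))).isInducing).trans hdim
  · refine AddSubgroup.closure_mono ?_
    rintro c ⟨x, hx, rfl⟩
    have hC := K0Fam.isPiece_closureStructureSheaf x
    refine ⟨_, hC.coh, le_trans ?_ hx, rfl⟩
    exact Topology.IsInducing.topologicalKrullDim_le (Topology.IsEmbedding.inclusion
      (fun y hy => specializes_iff_mem_closure.1 (hC.supp y hy))).isInducing

end Groth.Agent.S5643
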