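import Groth.Statements.S5644
import Groth.Agent.NakaiLib.Ring
import Groth.Agent.NumBddLib.Integral

set_option autoImplicit false
universe u
open CategoryTheory CategoryTheory.Limits AlgebraicGeometry
open Pic13

namespace Groth.Agent.S5644

open CategoryTheory CategoryTheory.Limits AlgebraicGeometry

set_option backward.isDefEq.respectTransparency false

open Groth.Agent
open Groth.Agent.IntLib (PicRing pairing dif inv')
open Groth.Agent.Nakai (cl cl_mem Aug)

theorem newton_unique {N : ℕ} (c : ℕ → ℤ) (h : ∀ m : ℕ, ∑ i ∈ Finset.range N, c i * (m.choose i : ℤ) = 0) :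
    ∀ i < N, c i = 0 := by
  intro i
  induction i using Nat.strong_induction_on with
  | _ i ih =>
    intro hi
    have h1 := h i
    rw [Finset.sum_eq_single_of_mem i (Finset.mem_range.2 hi) fun j hj hji => by
      rcases lt_or_gt_of_ne hji with hlt | hlt
      · rw [ih j hlt (Finset.mem_range.1 hj), zero_mul]
      · rw [Nat.choose_eq_zero_of_lt hlt, Nat.cast_zero, mul_zero], Nat.choose_self, Nat.cast_one, mul_one] at h1
    exact h1

theorem choose_add_expand (m j N : ℕ) (hjN : j < N) :
    ((m + j).choose j : ℤ) = ∑ i ∈ Finset.range N, (j.choose i : ℤ) * (m.choose i : ℤ) := by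
  rw [Nat.add_choose_eq, Finset.Nat.sum_antidiagonal_eq_sum_range_succ_mk]
  push_cast
  rw [← Finset.sum_subset (Finset.range_mono (show j + 1 ≤ N by omega)) fun i _ hi => by
    rw [Nat.choose_eq_zero_of_lt (by simp only [Finset.mem_range] at hi; omega), Nat.cast_zero, zero_mul]]
  refine Finset.sum_congr rfl fun i hi => ?_
  rw [Nat.choose_symm (Nat.lt_succ_iff.1 (Finset.mem_range.1 hi)), mul_comm]

/-- Comparing the binomial and the Newton expansions. -/
theorem coeff_compare {s : ℕ} (a : Fin (s + 2) → ℤ) (q : ℕ → ℤ)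
    (h : ∀ m : ℕ, ∑ j ∈ Finset.range (s + 2), q j * (m.choose j : ℤ) = ∑ j : Fin (s + 2), a j * ((m + j).choose j : ℤ)) :
    q (s + 1) = a (Fin.last (s + 1)) ∧
      q s = a (Fin.castSucc (Fin.last s)) + ((s : ℤ) + 1) * a (Fin.last (s + 1)) := by
  have h0 := newton_unique (N := s + 2) (fun i => q i - ∑ j : Fin (s + 2), a j * ((j : ℕ).choose i : ℤ)) fun m => by
    simp only [sub_mul, Finset.sum_sub_distrib]
    rw [h m, sub_eq_zero]
    simp only [Finset.sum_mul]
    rw [Finset.sum_comm]
    refine Finset.sum_congr rfl fun j _ => ?_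
    rw [choose_add_expand m j (s + 2) j.2, Finset.mul_sum]
    exact Finset.sum_congr rfl fun i _ => (mul_assoc _ _ _).symm
  have h1 := h0 (s + 1) (by omega)
  have h2 := h0 s (by omega)
  simp only [Fin.sum_univ_castSucc, Fin.val_castSucc, Fin.val_last] at h1 h2
  rw [Finset.sum_eq_zero (fun j (_ : j ∈ (Finset.univ : Finset (Fin s))) => by
    rw [Nat.choose_eq_zero_of_lt (by omega), Nat.cast_zero, mul_zero]), Nat.choose_self,
    Nat.choose_succ_self, Nat.cast_zero, Nat.cast_one] at h1
  rw [Finset.sum_eq_zero (fun j (_ : j ∈ (Finset.univ : Finset (Fin s))) => by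
    rw [Nat.choose_eq_zero_of_lt j.2, Nat.cast_zero, mul_zero]), Nat.choose_self, Nat.choose_succ_self_right,
    Nat.cast_one, Nat.cast_succ] at h2
  constructor
  · linear_combination h1
  · linear_combination h2

/-- Let k be an algebraically closed field, X ⊆ P^n_k an integral closed subscheme of dimension r = s +
1, O_X(1) and O_X(-1) the restrictions of O(1) and O(-1), and L an invertible O_X-module with
inverse L'. Write the Hilbert polynomials in the binomial basis, χ(L(m)) = Σ_{j ≤ r} a_j C(m+j, j)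
and χ(O_X(m)) = Σ_{j ≤ r} e_j C(m+j, j) for m ≥ 0 (Euler characteristics in degrees ≤ r). Then (i)
a_r = e_r = (c₁(O_X(1))^r), the degree of X, and (ii) a_{r-1} - e_{r-1} = (c₁(L)·c₁(O_X(1))^{r-1}),
the degree of L. Intersection numbers are those of FGA.intNum, which takes the inverse modules L',
O_X(-1) as arguments. -/
theorem result (k : Type u) [Field k] [IsAlgClosed k] (n : ℕ) (X : Scheme.{u}) [X.Over (Spec (CommRingCat.of k))]
    (i : X ⟶ CohB1.ProjSpace n k) [IsClosedImmersion i] (hi : i ≫ CohB1.ProjSpace.toSpec n k = X ↘ Spec (CommRingCat.of k))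
    [IsIntegral X] (s : ℕ) (hdim : topologicalKrullDim X = (s + 1 : ℕ))
    (L L' : X.Modules) (hL : PicF.IsInvertible L) (hLL' : Nonempty (CohB1.tensorMod L L' ≅ Coh.structureModule X))
    (a e : Fin (s + 2) → ℤ)
    (ha : ∀ m : ℕ, FGA.eulerCharLE k X (Pic13.twistOn k i L m) (s + 1) = ∑ j : Fin (s + 2), a j * ((m + j).choose j : ℤ))
    (he : ∀ m : ℕ, FGA.eulerCharLE k X (Pic13.twistOn k i (Coh.structureModule X) m) (s + 1) =
      ∑ j : Fin (s + 2), e j * ((m + j).choose j : ℤ)) :
    a (Fin.last (s + 1)) = e (Fin.last (s + 1)) ∧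
      a (Fin.last (s + 1)) = FGA.intNum k X (s + 1)
        (fun _ : Fin (s + 1) => (Scheme.Modules.pullback i).obj (Twist.twistProjSpace n k (-1))) (Coh.structureModule X) ∧
      a (Fin.castSucc (Fin.last s)) - e (Fin.castSucc (Fin.last s)) = FGA.intNum k X (s + 1)
        (Matrix.vecCons L' (fun _ : Fin s => (Scheme.Modules.pullback i).obj (Twist.twistProjSpace n k (-1))))
        (Coh.structureModule X) := by
  haveI : IsProper (X ↘ Spec (CommRingCat.of k)) := by
    haveI : IsProper (CohB1.ProjSpace.toSpec n k) := CompleteCurve.isProper_toSpec n k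
    rw [← hi]; infer_instance
  haveI := EulerIneqLib.isNoetherian_proper (X := X) k
  obtain ⟨eL⟩ := hLL'
  let O := Coh.structureModule X
  let H := (Scheme.Modules.pullback i).obj (Twist.twistProjSpace n k 1)
  let H' := (Scheme.Modules.pullback i).obj (Twist.twistProjSpace n k (-1))
  have eH : CohB1.tensorMod H H' ≅ O :=
    AmpleLib.tIso (AmpleLib.unitL _).symm (Iso.refl _) ≪≫
      CMRegLib.xMulIso k i (Coh.structureModule X) (show (1 : ℤ) + -1 = 0 from add_neg_cancel 1) ≪≫
      NumBdd.twistZero k i _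
  have hH : PicF.IsInvertible H := NumBdd.isInvertible_xO k i 1
  have hH' : PicF.IsInvertible H' := NumBdd.isInvertible_xO k i (-1)
  have hL' : PicF.IsInvertible L' := AmpleLib.isInvertible_of_tensor_iso (AmpleLib.comm _ _ ≪≫ eL)
  have hO : Coh.IsCoh O := DevLib.isCoh_structureModule X
  have hlt : ∀ M : X.Modules, topologicalKrullDim (CohB1.support M) < ((s + 2 : ℕ) : WithBot ℕ∞) := fun M =>
    lt_of_le_of_lt (Topology.IsInducing.subtypeVal.topologicalKrullDim_le.trans hdim.le)
      (by exact_mod_cast Nat.lt_succ_self (s + 1))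
  have expand : ∀ M : X.Modules, Coh.IsCoh M → ∀ m : ℕ,
      FGA.eulerCharLE k X (Pic13.twistOn k i M m) (s + 1) =
        ∑ j ∈ Finset.range (s + 2), pairing k M (cl hH ^ j) * (m.choose j : ℤ) := by
    intro M hM m
    rw [HilbLib.eulerCharLE_eq k _ hdim.le]
    have e : Curv2.euler k X (Pic13.twistOn k i M m) =
        pairing k M (MonoidAlgebra.of ℤ _ (inv' (AmpleLib.isInvertible_tensorPow hH m))) := by
      rw [IntLib.pairing_of]
      show _ = IntLib.chiC k (IntLib.mk M * IntLib.mk (CohB1.tensorPow H m))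
      rw [← IntLib.mk_tensor, IntLib.chiC_mk]
      exact CurveLib.euler_iso (K := k) (AmpleLib.tIso (Iso.refl M)
        ((Scheme.Modules.pullback i).mapIso (CMRegLib.powTwistIso m).symm ≪≫ AmpleLib.pullPow i _ m))
    have hp : ∀ r : ℕ, MonoidAlgebra.of ℤ _ (inv' (AmpleLib.isInvertible_tensorPow hH r)) =
        (cl hH + 1) ^ r := by
      intro r
      rw [Nakai.cl, sub_add_cancel, ← map_pow]
      refine congrArg _ (Subtype.ext ?_)
      induction r with
      | zero => exact IntLib.mk_structureModule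
      | succ r ih => rw [pow_succ, Submonoid.coe_mul, ← ih]; exact IntLib.mk_tensor _ _
    rw [e, hp, add_pow, map_sum]
    have key : ∀ j, pairing k M (cl hH ^ j * 1 ^ (m - j) * (m.choose j : PicRing X)) =
        pairing k M (cl hH ^ j) * (m.choose j : ℤ) := fun j => by
      rw [one_pow, mul_one, mul_comm, ← nsmul_eq_mul, map_nsmul, nsmul_eq_mul, mul_comm]
    simp only [key]
    rw [Finset.sum_subset (Finset.range_mono (show m + 1 ≤ m + s + 2 by omega)) fun j _ hj => by
        rw [Nat.choose_eq_zero_of_lt (by simp only [Finset.mem_range] at hj; omega), Nat.cast_zero, mul_zero],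
      ← Finset.sum_subset (Finset.range_mono (show s + 2 ≤ m + s + 2 by omega)) fun j _ hj => by
        rw [Nakai.pairing_mem_eq_zero k (n := s + 2) (Ideal.pow_le_pow_right (by simp only [Finset.mem_range] at hj; omega)
          (Ideal.pow_mem_pow (cl_mem hH) j)) hM (hlt M), zero_mul]]
  obtain ⟨a1, a2⟩ := coeff_compare a (fun j => pairing k L (cl hH ^ j))
    fun m => ((expand L (CurveLib.isCoh_of_isInvertible hL) m).symm.trans (ha m))
  obtain ⟨e1, e2⟩ := coeff_compare e (fun j => pairing k O (cl hH ^ j))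
    fun m => ((expand O hO m).symm.trans (he m))
  have hcl : ∀ z : PicRing X, pairing k O (cl hL * z) = pairing k L z - pairing k O z := fun z => by
    rw [Nakai.cl, sub_mul, one_mul, map_sub, IntLib.pairing_of_mul, IntLib.pairing_iso k (AmpleLib.unitL L)]
  have htop : pairing k L (cl hH ^ (s + 1)) = pairing k O (cl hH ^ (s + 1)) := by
    refine sub_eq_zero.1 ((hcl _).symm.trans (Nakai.pairing_mem_eq_zero k (n := s + 2) ?_ hO (hlt O)))
    exact (pow_succ' (Aug X) (s + 1)).symm ▸ Ideal.mul_mem_mul (cl_mem hL) (Ideal.pow_mem_pow (cl_mem hH) _)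
  have hdm : ∀ {M : X.Modules} (hM : PicF.IsInvertible M), dif hM ∈ Aug X := fun hM => by
    rw [← neg_neg (dif hM), ← Nakai.cl_eq_neg_dif]; exact (Ideal.neg_mem_iff _).2 (cl_mem _)
  refine ⟨by rw [← a1, ← e1, htop], ?_, ?_⟩
  · rw [← a1, htop, IntLib.intNum_eq k hdim.le _ _ (fun _ => hH'), Finset.prod_const, Finset.card_univ,
      Fintype.card_fin]
    exact Nakai.pairing_congr k (Nakai.pow_sub_pow_mem (cl_mem _) (hdm hH') (Nakai.cl_mul_inverse_mem hH hH' eH) _)
      hO (hlt O)
  · rw [IntLib.intNum_eq k hdim.le _ _ (Fin.cases hL' fun _ => hH'), Fin.prod_univ_succ]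
    show _ = pairing k O (dif hL' * ∏ _i : Fin s, dif hH')
    rw [Finset.prod_const, Finset.card_univ, Fintype.card_fin]
    refine Eq.trans ?_ (Nakai.pairing_congr k (n := s + 2) (z := cl hL * cl hH ^ s) ?_ hO (hlt O))
    · rw [hcl]
      linear_combination -a2 + e2 + ((s : ℤ) + 1) * (a1 - e1 - htop)
    · rw [show cl hL * cl hH ^ s - dif hL' * dif hH' ^ s =
        (cl hL - dif hL') * cl hH ^ s + dif hL' * (cl hH ^ s - dif hH' ^ s) by ring]
      refine Ideal.add_mem _ ?_ ?_
      · rw [show s + 2 = 2 + s by omega, pow_add]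
        exact Ideal.mul_mem_mul (Nakai.cl_mul_inverse_mem hL hL' eL) (Ideal.pow_mem_pow (cl_mem _) _)
      · rw [pow_succ' (Aug X)]
        exact Ideal.mul_mem_mul (hdm hL')
          (Nakai.pow_sub_pow_mem (cl_mem _) (hdm hH') (Nakai.cl_mul_inverse_mem hH hH' eH) s)

end Groth.Agent.S5644
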