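import Groth.Statements.S5654
import Groth.Agent.MonoFibre.AffineKernel
import Groth.Agent.MonoFibre.AffinizationFlat
-- import your own Groth.Agent.* helpers here

set_option autoImplicit false
universe u
open CategoryTheory MonoidalCategory CartesianMonoidalCategory MonObj GrpObj AlgebraicGeometry
open GrpSch

namespace Groth.Agent.S5654

/-- Let k be a field, P and Q group schemes locally of finite type over k and f : P ⟶ Q a homomorphism
of k-group schemes whose underlying morphism of schemes is quasi-affine. Then f is affine. -/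
theorem result (k : Type u) [Field k] (P Q : Over (Spec (CommRingCat.of k))) [GrpObj P] [GrpObj Q]
    [LocallyOfFiniteType P.hom] [LocallyOfFiniteType Q.hom] (f : P ⟶ Q) [IsMonHom f] (hf : Mor2.IsQuasiAffine f.left) :
    IsAffineHom f.left := by
  haveI := hf.1
  let N := Limits.pullback f η[Q]
  obtain ⟨hN, ha⟩ := Groth.Agent.MonoFibre.exists_grpObj_kernel f
  letI := hN
  haveI : IsClosedImmersion η[Q].left := Groth.Agent.GrpSchLib.isClosedImmersion_unit
  have P' := (IsPullback.of_hasPullback f η[Q]).map (Over.forget _)
  haveI hi : IsClosedImmersion (Limits.pullback.fst f η[Q]).left :=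
    MorphismProperty.of_isPullback (P := @IsClosedImmersion) P'.flip ‹IsClosedImmersion η[Q].left›
  haveI : LocallyOfFiniteType N.hom := by
    rw [← Over.w (Limits.pullback.fst f η[Q])]; infer_instance
  haveI : QuasiCompact (Limits.pullback.snd f η[Q]).left :=
    MorphismProperty.of_isPullback (P := @QuasiCompact) P' hf.1
  haveI : QuasiCompact N.hom := by
    rw [← Over.w (Limits.pullback.snd f η[Q])]
    haveI : QuasiCompact (𝟙_ (Over (Spec (CommRingCat.of k)))).hom := inferInstanceAs (QuasiCompact (𝟙 _))
    infer_instance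
  haveI : CompactSpace N.left := QuasiCompact.compactSpace_of_compactSpace N.hom
  haveI : N.left.IsQuasiAffine := by
    let e : Q.left := η[Q].left (IsLocalRing.closedPoint k)
    obtain ⟨_, ⟨V, hV, rfl⟩, heV, -⟩ :=
      Q.left.isBasis_affineOpens.exists_subset_of_mem_open (Set.mem_univ e) isOpen_univ
    haveI : (f.left ⁻¹ᵁ V : Scheme).IsQuasiAffine := hf.2 V hV
    have hr : Set.range (Limits.pullback.fst f η[Q]).left ⊆ Set.range (f.left ⁻¹ᵁ V).ι := by
      rintro _ ⟨x, rfl⟩
      rw [Scheme.Opens.range_ι]
      show f.left ((Limits.pullback.fst f η[Q]).left x) ∈ V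
      rw [← Scheme.Hom.comp_apply, ← Over.comp_left, Limits.pullback.condition, Over.comp_left, Scheme.Hom.comp_apply,
        show (Limits.pullback.snd f η[Q]).left x = IsLocalRing.closedPoint k from @Subsingleton.elim _ (inferInstanceAs (Subsingleton (Spec (CommRingCat.of k)))) _ _]
      exact heV
    let l := IsOpenImmersion.lift (f.left ⁻¹ᵁ V).ι (Limits.pullback.fst f η[Q]).left hr
    haveI : IsImmersion (l ≫ (f.left ⁻¹ᵁ V).ι) := by rw [IsOpenImmersion.lift_fac]; infer_instance
    haveI : IsImmersion l := IsImmersion.of_comp l (f.left ⁻¹ᵁ V).ι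
    exact Scheme.IsQuasiAffine.of_isImmersion l
  haveI : IsAffine N.left := Groth.Agent.MonoFibre.Affinization.isAffine_of_isQuasiAffine N
  exact Groth.Agent.MonoFibre.isAffineHom_of_affine_kernel f

end Groth.Agent.S5654
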