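import Groth.Statements.S5655
import Groth.Agent.FPModelLib.ProperModel
import Groth.Agent.FPModelLib.Fibre
import Groth.Agent.GenIrredLib.GeomInt
import Groth.Agent.GenFin.Scheme
import Groth.Agent.AVLib.AmpleCrit
import Groth.Agent.S4827
import Groth.Agent.S2539
import Groth.Agent.S2351
import Groth.Agent.S1585
import Groth.Agent.S7599
import Groth.Agent.S9187
import Groth.Agent.S0414

set_option autoImplicit false
universe u
open CategoryTheory CategoryTheory.Limits AlgebraicGeometry
open FlatMor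

namespace Groth.Agent.S5655

open CategoryTheory CategoryTheory.Limits AlgebraicGeometry

set_option backward.isDefEq.respectTransparency false
set_option backward.defeqAttrib.useBackward true
set_option linter.style.haveILetI false

set_option maxHeartbeats 1000000
set_option linter.unusedSectionVars false
open Opposite

noncomputable section RSys

variable (R Ω : Type u) [CommRing R] [CommRing Ω] [Algebra R Ω]

/-- The finitely generated subalgebras. -/
abbrev RIdx : Type u := {S : Subalgebra R Ω // S.FG}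

instance : IsDirected (RIdx R Ω) (· ≤ ·) :=
  ⟨fun S T => ⟨⟨S.1 ⊔ T.1, S.2.sup T.2⟩, le_sup_left (b := T.1), le_sup_right (a := S.1)⟩⟩

instance : Nonempty (RIdx R Ω) := ⟨⟨⊥, Subalgebra.fg_bot⟩⟩

/-- Their system. -/
def rRing : RIdx R Ω ⥤ CommRingCat.{u} where
  obj S := CommRingCat.of S.1
  map h := CommRingCat.ofHom (Subalgebra.inclusion h.le).toRingHom
  map_id _ := by ext x; rfl
  map_comp _ _ := by ext x; rfl

/-- The inclusions. -/
def rCocone : Cocone (rRing R Ω) where
  pt := CommRingCat.of Ω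
  ι :=
    { app := fun S => CommRingCat.ofHom S.1.val.toRingHom
      naturality := fun _ _ _ => by ext x; rfl }

/-- The inclusions form a colimit. -/
def isColimitRCocone : IsColimit (rCocone R Ω) :=
  (AffLim.nonempty_isColimit_of_elementwise (rCocone R Ω)
    (fun x => ⟨⟨Algebra.adjoin R {(x : Ω)}, ⟨{x}, by simp⟩⟩, ⟨x, Algebra.subset_adjoin rfl⟩, rfl⟩)
    (fun S x y e => ⟨S, le_rfl, by rw [show x = y from Subtype.ext e]⟩)).some

/-- Spectra. -/
def rSys : (RIdx R Ω)ᵒᵖ ⥤ Scheme.{u} := (rRing R Ω).op ⋙ Scheme.Spec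

/-- The cone with vertex `Spec Ω`. -/
def rCone : Cone (rSys R Ω) := Scheme.Spec.mapCone (rCocone R Ω).op

/-- It is a limit. -/
def isLimitRCone : IsLimit (rCone R Ω) := isLimitOfPreserves Scheme.Spec (isColimitRCocone R Ω).op

instance isAffine_rSys (i : (RIdx R Ω)ᵒᵖ) : IsAffine ((rSys R Ω).obj i) :=
  inferInstanceAs (IsAffine (Spec (CommRingCat.of i.unop.1)))

instance isAffineHom_rSys {i j : (RIdx R Ω)ᵒᵖ} (a : i ⟶ j) : IsAffineHom ((rSys R Ω).map a) :=
  inferInstanceAs (IsAffineHom (Spec.map _))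

instance isNoetherian_rSys [IsNoetherianRing R] (i : (RIdx R Ω)ᵒᵖ) : IsNoetherian ((rSys R Ω).obj i) := by
  haveI : Algebra.FiniteType R i.unop.1 := (Subalgebra.fg_iff_finiteType i.unop.1).1 i.unop.2
  haveI : IsNoetherianRing i.unop.1 := Algebra.FiniteType.isNoetherianRing R _
  exact inferInstanceAs (IsNoetherian (Spec (CommRingCat.of i.unop.1)))

instance isIntegral_rSys [IsDomain Ω] (i : (RIdx R Ω)ᵒᵖ) : IsIntegral ((rSys R Ω).obj i) :=
  inferInstanceAs (IsIntegral (Spec (CommRingCat.of i.unop.1)))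

/-- The structure map of a stage. -/
def toBase (i : (RIdx R Ω)ᵒᵖ) : (rSys R Ω).obj i ⟶ Spec (CommRingCat.of R) :=
  Spec.map (CommRingCat.ofHom (algebraMap R i.unop.1))

theorem map_toBase {i j : (RIdx R Ω)ᵒᵖ} (a : i ⟶ j) : (rSys R Ω).map a ≫ toBase R Ω j = toBase R Ω i := by
  show Spec.map _ ≫ Spec.map _ = Spec.map _
  rw [← Spec.map_comp]
  rfl

theorem π_toBase (i : (RIdx R Ω)ᵒᵖ) :
    (rCone R Ω).π.app i ≫ toBase R Ω i = Spec.map (CommRingCat.ofHom (algebraMap R Ω)) := by
  show Spec.map _ ≫ Spec.map _ = Spec.map _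
  rw [← Spec.map_comp]
  rfl

theorem π_eq_genericPoint [IsDomain Ω] (hΩ : IsField Ω) (i : (RIdx R Ω)ᵒᵖ) (s : (rCone R Ω).pt) :
    (rCone R Ω).π.app i s = genericPoint ((rSys R Ω).obj i) := by
  let s' : PrimeSpectrum Ω := s
  refine Eq.trans ?_ (genericPoint_eq_bot_of_affine (CommRingCat.of i.unop.1)).symm
  refine PrimeSpectrum.ext ?_
  show Ideal.comap i.unop.1.val.toRingHom s'.asIdeal = ⊥
  letI := hΩ.toField
  rw [(Ideal.eq_bot_or_top s'.asIdeal).resolve_right s'.2.ne_top]
  exact Ideal.comap_bot_of_injective _ Subtype.val_injective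

/-- Only the generic point of a stage lies over the generic point of the base. -/
theorem toBase_fibre [IsDomain R] [IsDomain Ω] [Algebra.IsAlgebraic R Ω] (i : (RIdx R Ω)ᵒᵖ)
    (y : (rSys R Ω).obj i) (hy : toBase R Ω i y = genericPoint (Spec (CommRingCat.of R))) :
    y = genericPoint ((rSys R Ω).obj i) := by
  let y' : PrimeSpectrum i.unop.1 := y
  refine Eq.trans ?_ (genericPoint_eq_bot_of_affine (CommRingCat.of i.unop.1)).symm
  rw [genericPoint_eq_bot_of_affine] at hy
  have h : Ideal.comap (algebraMap R i.unop.1) y'.asIdeal = ⊥ := congrArg PrimeSpectrum.asIdeal hy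
  refine PrimeSpectrum.ext ?_
  show y'.asIdeal = ⊥
  by_contra hne
  obtain ⟨x, hx, hx0⟩ := Submodule.exists_mem_ne_zero_of_ne_bot hne
  exact Ideal.comap_ne_bot_of_algebraic_mem hx0 hx
    ((isAlgebraic_algHom_iff i.unop.1.val Subtype.val_injective).1 (Algebra.IsAlgebraic.isAlgebraic (x : Ω))) h

end RSys

/-- Normal schemes over an algebraically closed field stay normal under field extensions. -/
theorem normal_baseChange {Ω : Type u} [Field Ω] [IsAlgClosed Ω] {N : Scheme.{u}} (p : N ⟶ Spec (CommRingCat.of Ω))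
    (hN : Pi1.IsNormalScheme N) {K : Type u} [Field K] (σ : Spec (CommRingCat.of K) ⟶ Spec (CommRingCat.of Ω)) :
    Pi1.IsNormalScheme (pullback p σ) := by
  obtain ⟨φ, rfl⟩ : ∃ φ, Spec.map φ = σ := ⟨_, Spec.map_preimage σ⟩
  letI : N.Over (Spec (CommRingCat.of Ω)) := ⟨p⟩
  letI : Algebra Ω K := φ.hom.toAlgebra
  intro x
  refine ((S7599.result Ω N (Curv2.bcFst Ω N K x)).1.2 fun k' _ _ _ _ x' _ => ?_) K x rfl
  let e := Spec.map (CommRingCat.ofHom (algebraMap Ω k'))
  haveI : IsIso (CommRingCat.ofHom (algebraMap Ω k')) := by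
    rw [ConcreteCategory.isIso_iff_bijective]
    haveI : Algebra.IsIntegral Ω k' := inferInstance
    exact IsAlgClosed.algebraMap_bijective_of_isIntegral
  haveI : IsIso e := inferInstanceAs (IsIso (Spec.map _))
  haveI : IsIso (Curv2.bcFst Ω N k') := inferInstanceAs (IsIso (pullback.fst p e))
  exact S2539.result (inv (Curv2.bcFst Ω N k')) hN x'

section

variable {X S G T : Scheme.{u}} (f : X ⟶ S)
  (hfib : ∀ (k : Type u) [Field k] [IsAlgClosed k] (σ : Spec (CommRingCat.of k) ⟶ S),
    IsIntegral (pullback f σ) ∧ Pi1.IsNormalScheme (pullback f σ))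
  {g : G ⟶ T} {q : X ⟶ G} {π : S ⟶ T} (hsq : IsPullback q f g π)

include hfib hsq in
/-- Field fibres over points of the image are integral and normal. -/
theorem integral_normal {K : Type u} [Field K] (τ : Spec (CommRingCat.of K) ⟶ T) (s : S)
    (hs : τ (IsLocalRing.closedPoint K) = π s) {Z : Scheme.{u}} {q' : Z ⟶ G} {p : Z ⟶ Spec (CommRingCat.of K)}
    (H : IsPullback q' p g τ) : IsIntegral Z ∧ Pi1.IsNormalScheme Z := by
  obtain ⟨w, -, hw⟩ := Scheme.Pullback.exists_preimage_pullback _ s hs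
  let Ω := AlgebraicClosure ((pullback τ π).residueField w)
  let e : Spec (CommRingCat.of Ω) ⟶ pullback τ π :=
    Spec.map (CommRingCat.ofHom (algebraMap ((pullback τ π).residueField w) Ω)) ≫ (pullback τ π).fromSpecResidueField w
  let a := e ≫ pullback.fst τ π
  let b := e ≫ pullback.snd τ π
  have hab : a ≫ τ = b ≫ π := by simp only [a, b, Category.assoc, pullback.condition]
  haveI : Flat a := by
    obtain ⟨φ, hφ⟩ : ∃ φ, Spec.map φ = a := ⟨_, Spec.map_preimage a⟩
    rw [← hφ, Flat.SpecMap_iff]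
    letI := φ.hom.toAlgebra
    exact RingHom.flat_algebraMap_iff.2 (inferInstance : Module.Flat K Ω)
  haveI : Surjective a := ⟨fun v => ⟨IsLocalRing.closedPoint Ω, Subsingleton.elim (α := PrimeSpectrum K) _ _⟩⟩
  have hT : IsPullback (pullback.fst f b ≫ q) (pullback.snd f b) g (a ≫ τ) := by
    rw [hab]
    exact (IsPullback.of_hasPullback f b).paste_horiz hsq
  let r : pullback f b ⟶ Z := H.lift (pullback.fst f b ≫ q) (pullback.snd f b ≫ a)
    (by rw [Category.assoc]; exact hT.w)
  have hr : IsPullback r (pullback.snd f b) p a :=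
    IsPullback.of_right (h₁₂ := q') (by rw [H.lift_fst]; exact hT) (H.lift_snd _ _ _) H
  haveI : Flat r := MorphismProperty.of_isPullback hr.flip ‹Flat a›
  haveI : Surjective r := MorphismProperty.of_isPullback hr.flip ‹Surjective a›
  obtain ⟨hi, hn⟩ := hfib Ω b
  have hZ := S2539.result r hn
  refine ⟨?_, hZ⟩
  haveI : ∀ x, _root_.IsReduced (Z.presheaf.stalk x) := fun x => by
    haveI := (hZ x).1; infer_instance
  haveI : IsReduced Z := isReduced_of_isReduced_stalk Z
  haveI : IrreducibleSpace ↥Z := by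
    have h := (IrreducibleSpace.isIrreducible_univ ↥(pullback f b)).image r r.continuous.continuousOn
    rw [Set.image_univ, Set.range_eq_univ.2 r.surjective] at h
    exact (irreducibleSpace_def _).2 h
  exact isIntegral_of_irreducibleSpace_of_isReduced Z

end

/-- The points with geometrically integral and geometrically normal fibre. -/
def good {G T : Scheme.{u}} (g : G ⟶ T) : Set T :=
  {y : T | GeometricallyIntegral (g.fiberToSpecResidueField y)} ∩
    {s : T | ∀ (K : Type u) [Field K] [Algebra (IsLocalRing.ResidueField (T.presheaf.stalk s)) K]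
        (x' : ↥(FBase.bc (g.fiberToSpecResidueField s) K)),
        IsDomain ((FBase.bc (g.fiberToSpecResidueField s) K).presheaf.stalk x') ∧
          IsIntegrallyClosed ((FBase.bc (g.fiberToSpecResidueField s) K).presheaf.stalk x')}

theorem mem_good {X S G T : Scheme.{u}} (f : X ⟶ S)
    (hfib : ∀ (k : Type u) [Field k] [IsAlgClosed k] (σ : Spec (CommRingCat.of k) ⟶ S),
      IsIntegral (pullback f σ) ∧ Pi1.IsNormalScheme (pullback f σ))
    {g : G ⟶ T} {q : X ⟶ G} {π : S ⟶ T} (hsq : IsPullback q f g π) (s : S) : π s ∈ good g := by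
  refine ⟨⟨fun K _ y Z fst snd H => ?_⟩, fun K _ _ x' => ?_⟩
  · refine (integral_normal f hfib hsq (y ≫ T.fromSpecResidueField (π s)) s ?_
      (H.paste_horiz (IsPullback.of_hasPullback g (T.fromSpecResidueField (π s))))).1
    rw [Scheme.Hom.comp_apply]
    exact T.fromSpecResidueField_apply _ _
  · refine (integral_normal f hfib hsq _ s ?_ ((IsPullback.of_hasPullback (g.fiberToSpecResidueField (π s))
      (Spec.map (CommRingCat.ofHom (algebraMap (IsLocalRing.ResidueField (T.presheaf.stalk (π s))) K)))).paste_horiz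
      (IsPullback.of_hasPullback g (T.fromSpecResidueField (π s))))).2 x'
    rw [Scheme.Hom.comp_apply]
    exact T.fromSpecResidueField_apply _ _

theorem normal_of_mem {G T : Scheme.{u}} (g : G ⟶ T) {K : Type u} [Field K] (τ : Spec (CommRingCat.of K) ⟶ T)
    (hz : τ (IsLocalRing.closedPoint K) ∈ good g) {Z : Scheme.{u}} {q : Z ⟶ G} {p : Z ⟶ Spec (CommRingCat.of K)}
    (H : IsPullback q p g τ) : Pi1.IsNormalScheme Z := by
  obtain ⟨-, hN⟩ := hz
  let z := τ (IsLocalRing.closedPoint K)
  let d := T.descResidueField (Scheme.stalkClosedPointTo τ)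
  have he : Spec.map d ≫ T.fromSpecResidueField z = τ :=
    T.descResidueField_stalkClosedPointTo_fromSpecResidueField _ _
  let l : Z ⟶ g.fiber z := pullback.lift q (p ≫ Spec.map d) (by rw [Category.assoc, he]; exact H.w)
  have hl : IsPullback l p (g.fiberToSpecResidueField z) (Spec.map d) := by
    refine IsPullback.of_right ?_ (pullback.lift_snd _ _ _) (IsPullback.of_hasPullback g (T.fromSpecResidueField z))
    rw [pullback.lift_fst, he]
    exact H
  letI : Algebra (IsLocalRing.ResidueField (T.presheaf.stalk z)) K := d.hom.toAlgebra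
  have e : pullback (g.fiberToSpecResidueField z) (Spec.map d) ≅ Z := hl.isoPullback.symm
  exact S2539.result e.hom (fun x => hN K x)

/-- The model over a finitely generated subalgebra. -/
theorem exists_model_normal {X S : Scheme.{u}} [IsNoetherian S] (R Ω : Type u) [CommRing R] [IsDomain R]
    [IsNoetherianRing R] [Field Ω] [IsAlgClosed Ω] [Algebra R Ω] (σ : Spec (CommRingCat.of R) ⟶ S)
    (f : X ⟶ S) [Flat f] [GeometricallyIntegral f] [LocallyOfFiniteType f] [QuasiCompact f] :
    ∃ (i : (RIdx R Ω)ᵒᵖ) (X' : Scheme.{u}) (q : X' ⟶ (rSys R Ω).obj i)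
      (g : X' ⟶ pullback f (toBase R Ω i ≫ σ)),
      Flat q ∧ GeometricallyIntegral q ∧
      (∀ (k : Type u) [Field k] [IsAlgClosed k] (τ : Spec (CommRingCat.of k) ⟶ (rSys R Ω).obj i),
        Pi1.IsNormalScheme (pullback q τ)) ∧
      IsFinite g ∧ Surjective g ∧ g ≫ pullback.snd f (toBase R Ω i ≫ σ) = q := by
  let D := rSys R Ω
  let c := rCone R Ω
  let hc := isLimitRCone R Ω
  let β := Spec.map (CommRingCat.ofHom (algebraMap R Ω)) ≫ σ
  let U := pullback f β
  let pU : U ⟶ Spec (CommRingCat.of Ω) := pullback.snd f β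
  haveI : IsIntegral U :=
    GeometricallyIntegral.geometrically_isIntegral _ _ _ (IsPullback.of_hasPullback f β)
  haveI : LocallyOfFiniteType pU := MorphismProperty.pullback_snd _ _ inferInstance
  haveI : QuasiCompact pU := MorphismProperty.pullback_snd _ _ inferInstance
  haveI : IsLocallyNoetherian U := LocallyOfFiniteType.isLocallyNoetherian pU
  haveI : CompactSpace U := QuasiCompact.compactSpace_of_compactSpace pU
  haveI : IsNoetherian U := {}
  haveI : QuasiCompact (U.fromSpecStalk (genericPoint U)) := inferInstance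
  haveI : QuasiSeparated (U.fromSpecStalk (genericPoint U)) := inferInstance
  letI : U.Over (Spec (CommRingCat.of Ω)) := ⟨pU⟩
  haveI : LocallyOfFiniteType (U ↘ Spec (CommRingCat.of Ω)) := ‹LocallyOfFiniteType pU›
  obtain ⟨hfinν, -, -, hiN, hnN⟩ := S1585.result Ω U
  obtain ⟨-, -, hsurjν, -⟩ := S2351.result U
  let N := Curv2.normalization U
  let m : N ⟶ U := Curv2.normalizationι U
  haveI : IsFinite m := hfinν
  haveI : Surjective m := hsurjν
  haveI : IsIntegral N := hiN
  let pN : N ⟶ c.pt := m ≫ pU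
  haveI : LocallyOfFiniteType (m ≫ pU) := inferInstance
  haveI : LocallyOfFinitePresentation pN :=
    LocallyOfFinitePresentation.iff_locallyOfFiniteType (f := m ≫ pU) |>.2 inferInstance
  haveI : CompactSpace N := QuasiCompact.compactSpace_of_compactSpace (m ≫ pU)
  haveI : IsLocallyNoetherian N := LocallyOfFiniteType.isLocallyNoetherian (m ≫ pU)
  haveI : QuasiSeparatedSpace N := inferInstance
  have hfibN : ∀ (k : Type u) [Field k] [IsAlgClosed k] (τ : Spec (CommRingCat.of k) ⟶ c.pt),
      IsIntegral (pullback pN τ) ∧ Pi1.IsNormalScheme (pullback pN τ) := fun k _ _ τ => by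
    haveI : GeometricallyIntegral (m ≫ pU) := AVLib.geometricallyIntegral_of_isIntegral (m ≫ pU)
    exact ⟨GeometricallyIntegral.geometrically_isIntegral _ _ _ (IsPullback.of_hasPullback (m ≫ pU) τ),
      normal_baseChange (m ≫ pU) hnN τ⟩
  obtain ⟨i₁, G₁, g₁, q₁, hM₁⟩ := FPModelLib.exists_model D c hc pN
  haveI := hM₁.compact
  haveI := hM₁.qs
  haveI := hM₁.lfp
  have hY : IsPullback (c.π.app i₁) (𝟙 c.pt) (𝟙 (D.obj i₁)) (c.π.app i₁) := IsPullback.id_vert _
  haveI : Flat pN := by
    obtain ⟨⟩ : Nonempty Unit := ⟨()⟩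
    exact (inferInstance : Flat (m ≫ pU))
  obtain ⟨k₁, hk₁⟩ := FlatStage.exists_flat D c i₁ g₁ (𝟙 (D.obj i₁)) hY hM₁.isPullback hc
  have hM₂ := FPModelLib.IsModel.stage D c hM₁ k₁
  haveI hflat₂ : Flat (pullback.snd g₁ (D.map k₁.hom)) := FPModelLib.prop_snd_of_baseChangeMap D g₁ k₁ hk₁
  let g₂ := pullback.snd g₁ (D.map k₁.hom)
  haveI := hM₂.compact
  haveI := hM₂.qs
  haveI := hM₂.lfp
  haveI : QuasiCompact g₂ := (HasAffineProperty.iff_of_isAffine (P := @QuasiCompact)).2 hM₂.compact
  haveI : QuasiSeparated g₂ := (HasAffineProperty.iff_of_isAffine (P := @QuasiSeparated)).2 hM₂.qs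
  have hlc : Topology.IsLocallyConstructible (good g₂) :=
    (GenIrredLib.isLocallyConstructible_geometricallyIntegral g₂).inter (S4827.result g₂)
  obtain ⟨i₃, φ₃, hj⟩ := FPModelLib.exists_stage_forall_mem D c hc hlc
    (fun s => mem_good pN hfibN hM₂.isPullback s)
  have hM₃ := FPModelLib.IsModel.stage D c hM₂ (Over.mk φ₃)
  let g₃ := pullback.snd g₂ (D.map φ₃)
  haveI : Flat g₃ := MorphismProperty.pullback_snd _ _ inferInstance
  haveI : GeometricallyIntegral g₃ := (GeometricallyIntegral.iff_geometricallyIntegral_fiber _).2 fun z =>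
    (GenIrredLib.geometricallyIntegral_fiber_baseChange g₂ (IsPullback.of_hasPullback g₂ (D.map φ₃)) z).2 (hj z).1
  have hnorm₃ : ∀ (k : Type u) [Field k] [IsAlgClosed k] (τ : Spec (CommRingCat.of k) ⟶ D.obj i₃),
      Pi1.IsNormalScheme (pullback g₃ τ) := fun k _ _ τ =>
    normal_of_mem g₂ (τ ≫ D.map φ₃) (hj (τ (IsLocalRing.closedPoint k)))
      ((IsPullback.of_hasPullback g₃ τ).paste_horiz (IsPullback.of_hasPullback g₂ (D.map φ₃)))
  -- the model of the geometric generic fibre
  let t₃ := toBase R Ω i₃ ≫ σ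
  let a₃ := pullback.snd f t₃
  haveI : LocallyOfFiniteType a₃ := MorphismProperty.pullback_snd _ _ inferInstance
  haveI : QuasiCompact a₃ := MorphismProperty.pullback_snd _ _ inferInstance
  haveI : IsLocallyNoetherian (pullback f t₃) := LocallyOfFiniteType.isLocallyNoetherian a₃
  have eβ : c.π.app i₃ ≫ t₃ = β := by
    show c.π.app i₃ ≫ toBase R Ω i₃ ≫ σ = _
    rw [← Category.assoc, π_toBase]
  let qU : U ⟶ pullback f t₃ := pullback.lift (pullback.fst f β) (pU ≫ c.π.app i₃)
    (by rw [Category.assoc, eβ]; exact pullback.condition)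
  have hQ : FPModelLib.IsModel (pU : U ⟶ c.pt) (c.π.app i₃) a₃ qU := by
    refine ⟨QuasiCompact.compactSpace_of_compactSpace a₃, inferInstance,
      LocallyOfFinitePresentation.iff_locallyOfFiniteType.2 inferInstance, ?_⟩
    refine IsPullback.of_right ?_ (pullback.lift_snd _ _ _) (IsPullback.of_hasPullback f t₃)
    rw [pullback.lift_fst, eβ]
    exact IsPullback.of_hasPullback f β
  obtain ⟨k, mk, hmk, hcomm⟩ := FPModelLib.exists_hom_stage D c hc hM₃ hQ m rfl
  have hN4 := FPModelLib.IsModel.stage D c hM₃ k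
  have hQ4 := FPModelLib.IsModel.stage D c hQ k
  haveI := hN4.compact
  haveI := hN4.qs
  haveI := hN4.lfp
  haveI := hQ4.compact
  haveI := hQ4.qs
  haveI := hQ4.lfp
  let a₄ := pullback.snd a₃ (D.map k.hom)
  let g₄ := pullback.snd g₃ (D.map k.hom)
  let mk' : pullback g₃ (D.map k.hom) ⟶ pullback a₃ (D.map k.hom) := mk
  have hmk' : mk' ≫ a₄ = g₄ := hmk
  haveI : LocallyOfFiniteType (mk' ≫ a₄) := by rw [hmk']; exact (inferInstance : LocallyOfFiniteType g₄)
  haveI : LocallyOfFiniteType mk' := locallyOfFiniteType_of_comp mk' a₄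
  let vN : N ⟶ pullback g₃ (D.map k.hom) := FlatStage.vMap D c i₃ g₃ hM₃.isPullback k
  let vU : U ⟶ pullback a₃ (D.map k.hom) := FlatStage.vMap D c i₃ a₃ hQ.isPullback k
  have hcomm' : vN ≫ mk' = m ≫ vU := hcomm
  have hX : IsPullback vN m mk' vU := by
    refine IsPullback.of_bot (v₂₁ := (pU : U ⟶ c.pt)) (v₂₂ := a₄) (h₃₁ := c.π.app k.left) ?_ hcomm' hQ4.isPullback
    rw [hmk']
    exact hN4.isPullback
  obtain ⟨i, φ, Xi, Yi, fi, gi, pY, pX, h1, h2, hfin⟩ :=
    S9187.result D c hc k.left mk' a₄ m (pU : U ⟶ c.pt) vU vN hQ4.isPullback hX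
  haveI := hfin
  have sqG : IsPullback (pX ≫ pullback.fst g₃ (D.map k.hom)) (fi ≫ gi) g₃ (D.map φ ≫ D.map k.hom) := by
    refine (?_ : IsPullback pX (fi ≫ gi) g₄ (D.map φ)).paste_horiz (IsPullback.of_hasPullback g₃ (D.map k.hom))
    rw [← hmk']
    exact h2.paste_vert h1
  have sqY : IsPullback (pY ≫ pullback.fst a₃ (D.map k.hom) ≫ pullback.fst f t₃) gi f (toBase R Ω i ≫ σ) := by
    have e : D.map φ ≫ D.map k.hom ≫ t₃ = toBase R Ω i ≫ σ := by
      show D.map φ ≫ D.map k.hom ≫ toBase R Ω i₃ ≫ σ = _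
      exact (congrArg (D.map φ ≫ ·) ((Category.assoc _ _ _).symm.trans
        (congrArg (· ≫ σ) (map_toBase R Ω k.hom)))).trans
        ((Category.assoc _ _ _).symm.trans (congrArg (· ≫ σ) (map_toBase R Ω φ)))
    rw [← e]
    exact h1.paste_horiz ((IsPullback.of_hasPullback a₃ (D.map k.hom)).paste_horiz (IsPullback.of_hasPullback f t₃))
  haveI : Flat gi := MorphismProperty.of_isPullback sqY ‹Flat f›
  haveI : Surjective fi := by
    refine ⟨fun y => ?_⟩
    have hgen : genericPoint (D.obj i) ⤳ gi y := genericPoint_specializes _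
    obtain ⟨y', hy', hgy'⟩ := Flat.generalizingMap gi hgen
    let s : c.pt := IsLocalRing.closedPoint Ω
    have hs : a₄ (pY y') = c.π.app k.left s := by
      have h : a₄ (pY y') = D.map φ (gi y') := by
        rw [← Scheme.Hom.comp_apply, ← Scheme.Hom.comp_apply, h1.w]
      rw [h, hgy', ← π_eq_genericPoint R Ω (Field.toIsField Ω) i s]
      exact (Scheme.Hom.comp_apply _ _ s).symm.trans (congrArg (fun F : c.pt ⟶ D.obj k.left => F s) (c.w φ))
    obtain ⟨u, hu, -⟩ := Scheme.exists_preimage_of_isPullback hQ4.isPullback (pY y') s hs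
    obtain ⟨n, rfl⟩ := m.surjective u
    have hn : mk' (vN n) = pY y' := by
      rw [← Scheme.Hom.comp_apply, hcomm', Scheme.Hom.comp_apply]
      exact hu
    obtain ⟨x, -, hx⟩ := Scheme.exists_preimage_of_isPullback h2 (vN n) y' hn
    have hcl : IsClosed (Set.range fi) := fi.isClosedMap.isClosed_range
    exact hy'.mem_closed hcl ⟨x, hx⟩
  let e := sqY.isoPullback
  refine ⟨i, Xi, fi ≫ gi, fi ≫ e.hom, MorphismProperty.of_isPullback sqG ‹Flat g₃›,
    MorphismProperty.of_isPullback sqG ‹GeometricallyIntegral g₃›, fun l _ _ τ => ?_, inferInstance, inferInstance, ?_⟩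
  · have H := (IsPullback.of_hasPullback (fi ≫ gi) τ).paste_horiz sqG
    exact S2539.result H.isoPullback.inv (hnorm₃ l (τ ≫ D.map φ ≫ D.map k.hom))
  · rw [Category.assoc, IsPullback.isoPullback_hom_snd]


/-- Let S be an integral Noetherian scheme and f : X ⟶ S flat of finite type with geometrically integral
fibres. Then there are a nonempty open U ⊆ S, an integral scheme S' with a finite flat surjective
morphism h : S' ⟶ U, a scheme X' with a flat morphism q : X' ⟶ S' whose fibres are geometrically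
integral and geometrically normal (normal after base change to any algebraically closed field), and
a finite surjective morphism g : X' ⟶ X ×_S S' over S'. (The published statement says only that X is
an S-scheme integral over S, that is, flat over S with geometrically integral fibres; this row also
assumes f of finite type, and the fibres of q over all points of S' are nonempty.) -/
theorem result {X S : Scheme.{u}} [IsNoetherian S] [IsIntegral S]
    (f : X ⟶ S) [Flat f] [GeometricallyIntegral f] [LocallyOfFiniteType f] [QuasiCompact f] :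
    ∃ (U : S.Opens) (S' : Scheme.{u}) (h : S' ⟶ (U : Scheme.{u})) (X' : Scheme.{u}) (q : X' ⟶ S')
      (g : X' ⟶ pullback f (h ≫ U.ι)),
      (U : Set S).Nonempty ∧ IsIntegral S' ∧ IsFinite h ∧ Flat h ∧ Surjective h ∧
      Flat q ∧ GeometricallyIntegral q ∧
      (∀ (Ω : Type u) [Field Ω] [IsAlgClosed Ω] (σ : Spec (CommRingCat.of Ω) ⟶ S'), Pi1.IsNormalScheme (pullback q σ)) ∧
      IsFinite g ∧ Surjective g ∧ g ≫ pullback.snd f (h ≫ U.ι) = q := by
  obtain ⟨_, ⟨W : S.Opens, hW, rfl⟩, hηW, -⟩ :=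
    S.isBasis_affineOpens.exists_subset_of_mem_open (Set.mem_univ (genericPoint S)) isOpen_univ
  haveI : Nonempty W.toScheme := ⟨⟨_, hηW⟩⟩
  haveI : IsDomain Γ(S, W) := IsIntegral.component_integral W
  haveI : IsNoetherianRing Γ(S, W) := IsLocallyNoetherian.component_noetherian ⟨W, hW⟩
  let R : Type u := Γ(S, W)
  let Ω := AlgebraicClosure (FractionRing R)
  haveI : Algebra.IsAlgebraic R Ω :=
    (IsFractionRing.comap_isAlgebraic_iff (A := R) (K := FractionRing R) (C := Ω)).2 inferInstance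
  let σ : Spec (CommRingCat.of R) ⟶ S := hW.fromSpec
  haveI : IsOpenImmersion σ := inferInstanceAs (IsOpenImmersion hW.fromSpec)
  obtain ⟨i, X₁, q₁, g₁, hfl, hgi, hnorm, hgfin, hgsurj, hgq⟩ := exists_model_normal R Ω σ f
  let T := (rSys R Ω).obj i
  let t : T ⟶ S := toBase R Ω i ≫ σ
  haveI : LocallyOfFiniteType (toBase R Ω i) := (HasRingHomProperty.Spec_iff (P := @LocallyOfFiniteType)).2
    (RingHom.finiteType_algebraMap.2 ((Subalgebra.fg_iff_finiteType i.unop.1).1 i.unop.2))
  haveI : LocallyOfFiniteType t := inferInstanceAs (LocallyOfFiniteType (_ ≫ σ))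
  haveI : QuasiCompact t := inferInstance
  haveI : QuasiSeparated t := inferInstance
  have hσ : ∀ x, σ x = genericPoint S → x = genericPoint (Spec (CommRingCat.of R)) := fun x hx =>
    σ.isOpenEmbedding.injective (hx.trans (genericPoint_eq_of_isOpenImmersion σ).symm)
  have hfibre : (t ⁻¹' {genericPoint S}).Finite := (Set.finite_singleton (genericPoint T)).subset fun y hy =>
    toBase_fibre R Ω i y (hσ _ ((Scheme.Hom.comp_apply (toBase R Ω i) σ y).symm.trans hy))
  obtain ⟨V, -, hηV, hVfin⟩ := GenFin.exists_isFinite t (genericPoint S)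
    (fun y hy => (hy.antisymm (genericPoint_specializes y)).eq) hfibre
  obtain ⟨V₁, hV₁, hV₁fl, -⟩ := S0414.result t
  haveI := hVfin
  let U : S.Opens := V ⊓ V₁
  have hηU : genericPoint S ∈ U := by
    refine ⟨hηV, ?_⟩
    obtain ⟨x, hx⟩ := hV₁.nonempty
    exact (genericPoint_specializes x).mem_open V₁.2 hx
  haveI : IsFinite (t ∣_ U) := by
    have h := IsZariskiLocalAtTarget.restrict (P := @IsFinite) hVfin (V.ι ⁻¹ᵁ U)
    rw [MorphismProperty.arrow_mk_iso_iff @IsFinite (morphismRestrictRestrict t V (V.ι ⁻¹ᵁ U))] at h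
    rwa [Scheme.Hom.image_preimage_eq_opensRange_inf, Scheme.Opens.opensRange_ι, ← inf_assoc, inf_idem] at h
  haveI : Flat (t ∣_ U) := by
    have h := IsZariskiLocalAtTarget.restrict (P := @Flat) hV₁fl (V₁.ι ⁻¹ᵁ U)
    rw [MorphismProperty.arrow_mk_iso_iff @Flat (morphismRestrictRestrict t V₁ (V₁.ι ⁻¹ᵁ U))] at h
    rwa [Scheme.Hom.image_preimage_eq_opensRange_inf, Scheme.Opens.opensRange_ι,
      show V₁ ⊓ U = U from inf_eq_right.2 inf_le_right] at h
  have hηT : t (genericPoint T) = genericPoint S := by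
    have h1 : σ (genericPoint (Spec (CommRingCat.of R))) = genericPoint S := genericPoint_eq_of_isOpenImmersion σ
    show (toBase R Ω i ≫ σ) _ = _
    rw [Scheme.Hom.comp_apply, ← h1]
    congr 1
    refine PrimeSpectrum.ext ?_ |>.trans (genericPoint_eq_bot_of_affine (CommRingCat.of R)).symm
    show Ideal.comap (algebraMap R i.unop.1) (genericPoint (Spec (CommRingCat.of i.unop.1))).asIdeal = ⊥
    rw [genericPoint_eq_bot_of_affine]
    exact Ideal.comap_bot_of_injective _ fun a b hab => by
      have h2 : algebraMap R Ω a = algebraMap R Ω b := congrArg Subtype.val hab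
      rw [IsScalarTower.algebraMap_apply R (FractionRing R) Ω, IsScalarTower.algebraMap_apply R (FractionRing R) Ω b] at h2
      exact IsFractionRing.injective R (FractionRing R) ((algebraMap (FractionRing R) Ω).injective h2)
  have hηTU : genericPoint T ∈ t ⁻¹ᵁ U := by
    show t (genericPoint T) ∈ U
    rw [hηT]
    exact hηU
  haveI : Nonempty (t ⁻¹ᵁ U).toScheme := ⟨⟨genericPoint T, hηTU⟩⟩
  haveI : IsIntegral (t ⁻¹ᵁ U).toScheme := inferInstance
  haveI : Surjective (t ∣_ U) := by
    refine ⟨fun y => ?_⟩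
    have hcl : IsClosed (Set.range (t ∣_ U)) := (t ∣_ U).isClosedMap.isClosed_range
    let x₀ : (t ⁻¹ᵁ U).toScheme := ⟨genericPoint T, hηTU⟩
    have h : (t ∣_ U) x₀ ⤳ y := by
      rw [U.ι.isEmbedding.isInducing.specializes_iff.symm, ← Scheme.Hom.comp_apply, morphismRestrict_ι,
        Scheme.Hom.comp_apply]
      show t (genericPoint T) ⤳ _
      rw [hηT]
      exact genericPoint_specializes _
    exact h.mem_closed hcl ⟨x₀, rfl⟩
  let h := t ∣_ U
  let j := (t ⁻¹ᵁ U).ι
  let q := pullback.snd q₁ j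
  have e : h ≫ U.ι = j ≫ t := morphismRestrict_ι t U
  have sq0 : IsPullback (pullback.fst f (h ≫ U.ι)) (pullback.snd f (h ≫ U.ι)) f (j ≫ t) :=
    e ▸ IsPullback.of_hasPullback f (h ≫ U.ι)
  have hbig := IsPullback.of_hasPullback f t
  let l := hbig.lift (pullback.fst f (h ≫ U.ι)) (pullback.snd f (h ≫ U.ι) ≫ j)
    (by rw [Category.assoc]; exact sq0.w)
  have sq : IsPullback l (pullback.snd f (h ≫ U.ι)) (pullback.snd f t) j :=
    IsPullback.of_right (h₁₂ := pullback.fst f t) (by rw [hbig.lift_fst]; exact sq0) (hbig.lift_snd _ _ _) hbig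
  let g : pullback q₁ j ⟶ pullback f (h ≫ U.ι) := sq.lift (pullback.fst q₁ j ≫ g₁) q
    (by rw [Category.assoc, hgq]; exact pullback.condition)
  have hg2 : g ≫ pullback.snd f (h ≫ U.ι) = q := sq.lift_snd _ _ _
  have sqg : IsPullback (pullback.fst q₁ j) g g₁ l := by
    refine IsPullback.of_bot (v₂₁ := pullback.snd f (h ≫ U.ι)) (v₂₂ := pullback.snd f t) (h₃₁ := j) ?_
      (sq.lift_fst _ _ _).symm sq
    rw [hg2, hgq]
    exact IsPullback.of_hasPullback q₁ j
  refine ⟨U, _, h, pullback q₁ j, q, g, ⟨_, hηU⟩, inferInstance, inferInstance, inferInstance, inferInstance,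
    MorphismProperty.pullback_snd _ _ hfl, MorphismProperty.pullback_snd _ _ hgi, fun k _ _ τ => ?_,
    MorphismProperty.of_isPullback sqg hgfin, MorphismProperty.of_isPullback sqg hgsurj, hg2⟩
  have H := (IsPullback.of_hasPullback q τ).paste_horiz (IsPullback.of_hasPullback q₁ j)
  exact S2539.result H.isoPullback.inv (hnorm k (τ ≫ j))

end Groth.Agent.S5655
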