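import Groth.Statements.S5656
import Mathlib

set_option autoImplicit false
universe u
open W4sga6xxiii

namespace Groth.Agent.S5656

open Polynomial

theorem exists_choosePoly (k : ℕ) : ∃ Q : ℚ[X], ∀ t : ℤ, Q.eval (t : ℚ) = ((Ring.choose t k : ℤ) : ℚ) := by
  refine ⟨C ((k.factorial : ℚ))⁻¹ * descPochhammer ℚ k, fun t => ?_⟩
  have h := Ring.descPochhammer_eq_factorial_smul_choose t k
  rw [← eval_eq_smeval, nsmul_eq_mul] at h
  have h' := congrArg (Int.cast : ℤ → ℚ) h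
  rw [← eq_intCast (Int.castRingHom ℚ), ← eval_map_apply, descPochhammer_map, eq_intCast] at h'
  push_cast at h'
  rw [eval_mul, eval_C, h', inv_mul_cancel_left₀ (Nat.cast_ne_zero.2 k.factorial_ne_zero)]

theorem exists_line {G : Type u} [AddCommGroup G] {f : G → ℚ} (hf : W4sga6xxiii.IsPolyMap f) (z g : G) :
    ∃ P : ℚ[X], ∀ t : ℤ, P.eval (t : ℚ) = f (z + t • g) := by
  obtain ⟨m, y, -, hy⟩ := hf 2 ![z, g]
  choose Q hQ using exists_choosePoly
  refine ⟨∑ k, C (((Ring.choose (1 : ℤ) (k 0 : ℕ) : ℤ) : ℚ) * y k) * Q (k 1 : ℕ), fun t => ?_⟩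
  have h := hy ![1, t]
  simp only [Fin.sum_univ_two, Matrix.cons_val_zero, Matrix.cons_val_one, one_zsmul, Fin.prod_univ_two,
    zsmul_eq_mul, Int.cast_mul] at h
  rw [h, eval_finsetSum]
  exact Finset.sum_congr rfl fun k _ => by rw [eval_mul, eval_C, hQ]; ring

theorem eq_of_eval_int {P Q : ℚ[X]} (h : ∀ t : ℤ, P.eval (t : ℚ) = Q.eval (t : ℚ)) : P = Q :=
  eq_of_infinite_eval_eq _ _ ((Set.infinite_range_of_injective Int.cast_injective).mono (by
    rintro _ ⟨t, rfl⟩; exact h t))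

theorem natDegree_eq_zero_of_divisible {p : ℕ} (hp : p.Prime) {P : ℚ[X]}
    (h : ∀ k : ℕ, ∃ P' : ℚ[X], (∀ t : ℤ, ∃ z : ℤ, P'.eval (t : ℚ) = z) ∧ P = P'.comp (C ((p ^ k : ℕ) : ℚ) * X)) :
    P.natDegree = 0 := by
  by_contra hd
  obtain ⟨N, hN⟩ := exists_nat_gt (|P.leadingCoeff * P.natDegree.factorial|)
  obtain ⟨P', hint, hP⟩ := h N
  have hpk : ((p ^ N : ℕ) : ℚ) ≠ 0 := by exact_mod_cast pow_ne_zero _ hp.ne_zero
  have hdeg : P'.natDegree = P.natDegree := by
    rw [hP, natDegree_comp, natDegree_C_mul_X _ hpk, mul_one]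
  have hlead : P.leadingCoeff = P'.leadingCoeff * ((p ^ N : ℕ) : ℚ) ^ P.natDegree := by
    conv_lhs => rw [hP]
    rw [leadingCoeff_comp (by rw [natDegree_C_mul_X _ hpk]; exact one_ne_zero), leadingCoeff_C_mul_X, hdeg]
  obtain ⟨z, hz⟩ : ∃ z : ℤ, P'.leadingCoeff * (P'.natDegree.factorial : ℚ) = z := by
    have h1 := congrFun P'.fwdDiff_iter_degree_eq_factorial 0
    rw [fwdDiff_iter_eq_sum_shift] at h1
    choose w hw using hint
    refine ⟨∑ k ∈ Finset.range (P'.natDegree + 1), ((-1 : ℤ) ^ (P'.natDegree - k) * P'.natDegree.choose k) * w k, ?_⟩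
    simp only [Pi.smul_apply, smul_eq_mul, Pi.natCast_apply, nsmul_eq_mul, mul_one, zero_add] at h1
    rw [← h1, Int.cast_sum]
    refine Finset.sum_congr rfl fun k _ => ?_
    rw [zsmul_eq_mul, show ((k : ℕ) : ℚ) = ((k : ℤ) : ℚ) from (Int.cast_natCast k).symm, hw]
    push_cast
    ring
  have hP0 : P.leadingCoeff * (P.natDegree.factorial : ℚ) ≠ 0 := by
    refine mul_ne_zero (leadingCoeff_ne_zero.2 fun h0 => hd (by rw [h0, natDegree_zero])) ?_
    exact_mod_cast Nat.factorial_ne_zero _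
  rw [hdeg] at hz
  have hz1 : P.leadingCoeff * (P.natDegree.factorial : ℚ) = z * ((p ^ N : ℕ) : ℚ) ^ P.natDegree := by
    rw [hlead, ← hz]; ring
  rw [hz1] at hN hP0
  have hz0 : z ≠ 0 := fun h => hP0 (by simp [h])
  have hbig : (N : ℚ) ≤ ((p ^ N : ℕ) : ℚ) ^ P.natDegree := by
    exact_mod_cast le_trans (Nat.lt_pow_self hp.one_lt).le (Nat.le_self_pow hd _)
  rw [abs_mul, abs_of_nonneg (pow_nonneg (Nat.cast_nonneg _) P.natDegree : (0 : ℚ) ≤ ((p ^ N : ℕ) : ℚ) ^ P.natDegree)] at hN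
  have h1 : (1 : ℚ) ≤ |(z : ℚ)| := by exact_mod_cast Int.one_le_abs hz0
  have h2 := le_mul_of_one_le_left (pow_nonneg (Nat.cast_nonneg _) P.natDegree : (0 : ℚ) ≤ ((p ^ N : ℕ) : ℚ) ^ P.natDegree) h1
  linarith

/-- Let G be an abelian group and G' ⊆ G a subgroup which is divisible by some prime number p (every
element of G' is p times an element of G') and such that G/G' is a torsion group. Then every
polynomial map f : G → ℚ (admitting binomial expansions f(Σ n_i x_i) = Σ_k Π_i C(n_i, k_i) y_k along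
every finite sequence x) which takes only integer values is constant. -/
theorem result {G : Type u} [AddCommGroup G] (G' : AddSubgroup G)
    (p : ℕ) (hp : p.Prime) (hdiv : ∀ x ∈ G', ∃ y ∈ G', p • y = x) (htor : ∀ x : G, ∃ n : ℤ, n ≠ 0 ∧ n • x ∈ G')
    (f : G → ℚ) (hf : W4sga6xxiii.IsPolyMap f) (hint : ∀ x, ∃ z : ℤ, f x = z) (x : G) : f x = f 0 := by
  classical
  have key : ∀ z : G, ∀ g ∈ G', f (z + g) = f z := by
    intro z g hg
    choose d hd hdd using hdiv
    let gs : ℕ → {g : G // g ∈ G'} := fun k => Nat.rec ⟨g, hg⟩ (fun _ a => ⟨d a.1 a.2, hd a.1 a.2⟩) k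
    have hgs : ∀ k, (p ^ k : ℕ) • (gs k).1 = g := fun k => by
      induction k with
      | zero => simp [gs]
      | succ k ih =>
        rw [pow_succ, mul_smul]
        exact (congrArg _ (hdd _ (gs k).2)).trans ih
    obtain ⟨P, hP⟩ := exists_line hf z g
    have hd0 : P.natDegree = 0 := natDegree_eq_zero_of_divisible hp fun k => by
      obtain ⟨P', hP'⟩ := exists_line hf z (gs k).1
      refine ⟨P', fun t => by rw [hP']; exact hint _, eq_of_eval_int fun t => ?_⟩
      rw [Polynomial.eval_comp, Polynomial.eval_mul, Polynomial.eval_C, Polynomial.eval_X, hP,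
        show ((p ^ k : ℕ) : ℚ) * (t : ℚ) = (((p ^ k : ℕ) * t : ℤ) : ℚ) by push_cast; ring, hP']
      rw [mul_comm, mul_smul, natCast_zsmul, hgs]
    obtain ⟨c, hc⟩ := Polynomial.natDegree_eq_zero.1 hd0
    have h0 := hP 0
    have h1 := hP 1
    simp only [← hc, Polynomial.eval_C, zero_smul, one_smul, add_zero] at h0 h1
    rw [← h1, h0]
  obtain ⟨N, hN0, hN⟩ := htor x
  obtain ⟨P, hP⟩ := exists_line hf 0 x
  have hper : ∀ t : ℤ, P.eval (((N * t : ℤ)) : ℚ) = f 0 := fun t => by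
    rw [hP, mul_comm, mul_smul]
    exact key 0 _ (G'.zsmul_mem hN t)
  have hC : P = Polynomial.C (f 0) := Polynomial.eq_of_infinite_eval_eq _ _
    ((Set.infinite_range_of_injective
      (f := fun t : ℤ => ((N * t : ℤ) : ℚ)) fun a b h => mul_left_cancel₀ hN0 (Int.cast_injective h)).mono (by
        rintro _ ⟨t, rfl⟩
        exact (hper t).trans Polynomial.eval_C.symm))
  have h1 := hP 1
  simpa [hC] using h1.symm

end Groth.Agent.S5656
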