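import Groth.Statements.S5657
import Mathlib

set_option autoImplicit false
universe u
open TensorProduct
open W4sga6xxiii

namespace Groth.Agent.S5657

open scoped TensorProduct in
theorem zpow_eq_sum {A : Type u} [CommRing A] (m : ℕ) (u : Aˣ) (hy : ((u : A) - 1) ^ (m + 1) = 0) (n : ℤ) :
    ((u ^ n : Aˣ) : A) = ∑ k ∈ Finset.range (m + 1), ((Ring.choose n k : ℤ) : A) * ((u : A) - 1) ^ k := by
  let S : ℤ → A := fun n => ∑ k ∈ Finset.range (m + 1), ((Ring.choose n k : ℤ) : A) * ((u : A) - 1) ^ k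
  have hstep : ∀ n, S (n + 1) = S n * u := fun n => by
    have h1 : ∑ k ∈ Finset.range (m + 1), ((Ring.choose (n + 1) k : ℤ) : A) * ((u : A) - 1) ^ k =
        S n + S n * ((u : A) - 1) := by
      simp only [S, Finset.sum_mul]
      conv_rhs => rw [Finset.sum_range_succ _ m, Finset.sum_range_succ _ m, mul_assoc, ← pow_succ, hy, mul_zero,
        add_zero]
      rw [Finset.sum_range_succ' _ m, ← Finset.sum_range_succ _ m]
      conv_rhs => rw [Finset.sum_range_succ' _ m, add_right_comm, ← Finset.sum_add_distrib]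
      refine congrArg₂ (· + ·) (Finset.sum_congr rfl fun k _ => ?_) (by simp)
      rw [Ring.choose_succ_succ, Int.cast_add, add_mul, mul_assoc, ← pow_succ, add_comm]
    show ∑ k ∈ Finset.range (m + 1), ((Ring.choose (n + 1) k : ℤ) : A) * ((u : A) - 1) ^ k = S n * u
    rw [h1]
    ring
  have h0 : S 0 = 1 := by
    simp only [S]
    rw [Finset.sum_range_succ']
    simp [Ring.choose_zero_succ]
  show ((u ^ n : Aˣ) : A) = S n
  induction n using Int.induction_on with
  | zero => rw [zpow_zero, h0, Units.val_one]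
  | succ i hi => rw [zpow_add_one, Units.val_mul, hi, hstep]
  | pred i hi =>
    have := hstep (-(i : ℤ) - 1)
    rw [sub_add_cancel] at this
    refine (Units.isUnit u).mul_left_injective ?_
    dsimp only
    rw [← this, ← hi, ← Units.val_mul, ← zpow_add_one, sub_add_cancel]

/-- Let A be a commutative ring, I an ideal of A with I^{m+1} = 0, and P ⊆ Aˣ the subgroup of units of
the form 1 + y with y ∈ I. Then the map P → A ⊗_ℤ ℚ, x ↦ x ⊗ 1, is a polynomial map of degree ≤ m on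
the abelian group P (written additively): along every finite sequence x_1, …, x_r in P one has
x_1^{n_1}⋯x_r^{n_r} ⊗ 1 = Σ_k Π_i C(n_i, k_i) y_k with y_k = 0 whenever k_1 + ⋯ + k_r > m. -/
theorem result (A : Type u) [CommRing A] (I : Ideal A) (m : ℕ) (hI : I ^ (m + 1) = ⊥)
    (P : Subgroup Aˣ) (hP : ∀ u : Aˣ, u ∈ P ↔ (u : A) - 1 ∈ I) :
    W4sga6xxiii.IsPolyMapLE (fun u : Additive P => (((Additive.toMul u : P) : Aˣ) : A) ⊗ₜ[ℤ] (1 : ℚ)) m := by
  classical
  intro r x
  let a : Fin r → Aˣ := fun i => ((Additive.toMul (x i) : P) : Aˣ)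
  let y : Fin r → A := fun i => (a i : A) - 1
  have hy : ∀ i, y i ∈ I := fun i => (hP _).1 (Additive.toMul (x i)).2
  have hy0 : ∀ i, y i ^ (m + 1) = 0 := fun i => by
    have := Ideal.pow_mem_pow (hy i) (m + 1)
    rwa [hI, Ideal.mem_bot] at this
  refine ⟨fun k => (∏ i, y i ^ (k i : ℕ)) ⊗ₜ[ℤ] (1 : ℚ), fun k hk => ?_, fun n => ?_⟩
  · have : ∏ i, y i ^ (k i : ℕ) ∈ I ^ (∑ i, (k i : ℕ)) := by
      rw [← Finset.prod_pow_eq_pow_sum]
      exact Ideal.prod_mem_prod fun i _ => Ideal.pow_mem_pow (hy i) _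
    have h2 := Ideal.pow_le_pow_right (show m + 1 ≤ ∑ i, (k i : ℕ) from hk) this
    rw [hI, Ideal.mem_bot] at h2
    show (∏ i, y i ^ (k i : ℕ)) ⊗ₜ[ℤ] (1 : ℚ) = 0
    rw [h2, TensorProduct.zero_tmul]
  · have h1 : (((Additive.toMul (∑ i, n i • x i) : P) : Aˣ) : A) =
        ∑ k : Fin r → Fin (m + 1), ((∏ i, Ring.choose (n i) (k i : ℕ) : ℤ) : A) * ∏ i, y i ^ (k i : ℕ) := by
      rw [toMul_sum, SubmonoidClass.coe_finsetProd, Units.coe_prod]
      have h2 : ∀ i, (((Additive.toMul (n i • x i) : P) : Aˣ) : A) =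
          ∑ k : Fin (m + 1), ((Ring.choose (n i) (k : ℕ) : ℤ) : A) * y i ^ (k : ℕ) := fun i => by
        rw [toMul_zsmul, SubgroupClass.coe_zpow, zpow_eq_sum m (a i) (hy0 i), ← Fin.sum_univ_eq_sum_range]
      simp only [h2, Fintype.prod_sum, Finset.prod_mul_distrib, Int.cast_prod]
    show (((Additive.toMul (∑ i, n i • x i) : P) : Aˣ) : A) ⊗ₜ[ℤ] (1 : ℚ) = _
    rw [h1, TensorProduct.sum_tmul]
    refine Finset.sum_congr rfl fun k _ => ?_
    rw [← zsmul_eq_mul, TensorProduct.smul_tmul']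

end Groth.Agent.S5657
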