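import Groth.Statements.S5658
import Groth.Agent.EtaleCommLib.Basic

set_option autoImplicit false
universe u
open CAlg

namespace Groth.Agent.S5658

/-- On the big étale site of a scheme the sheaf of commutator subgroups of Gl(n) is Sl(n) = Ker(det).
Concretely: let A be a commutative ring, n ≥ 0, s ∈ SL_n(A) and p a prime ideal of A. Then there are
an étale A-algebra A' with a prime ideal lying over p such that the image of s in GL_n(A') lies in
the commutator subgroup of GL_n(A'). (The inclusion of commutators in SL_n being clear, this is the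
content of the statement.) -/
theorem result (A : Type u) [CommRing A] (n : ℕ)
    (s : Matrix.SpecialLinearGroup (Fin n) A) (p : PrimeSpectrum A) :
    ∃ (A' : Type u) (_ : CommRing A') (_ : Algebra A A'), Algebra.Etale A A' ∧
      (∃ q : PrimeSpectrum A', q.asIdeal.comap (algebraMap A A') = p.asIdeal) ∧
      (Matrix.GeneralLinearGroup.map (algebraMap A A')) (Matrix.SpecialLinearGroup.toGL s) ∈
        commutator (Matrix.GeneralLinearGroup (Fin n) A') := by
  obtain ⟨B, _, _, hB, ⟨q, hq, hqp⟩, u, hu, hu1⟩ := Groth.Agent.EtaleCommLib.exists_etale_unit A p.asIdeal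
  let M : Matrix (Fin n) (Fin n) B := s.1.map (algebraMap A B)
  have hM : M.det = 1 := by
    show (s.1.map (algebraMap A B)).det = 1
    rw [← RingHom.mapMatrix_apply, ← RingHom.map_det, s.2, map_one]
  obtain ⟨g, hg, hmem⟩ := Groth.Agent.EtaleCommLib.exists_away_mem_elem q M hM
  let A' := Localization.Away g
  haveI : IsScalarTower A B A' := inferInstance
  haveI : Algebra.Etale B A' := Algebra.Etale.of_isLocalizationAway g
  obtain ⟨γ, hγ, hγM⟩ := Groth.Agent.EtaleCommLib.exists_commutator_of_elem (hu.map (algebraMap B A'))
    (by rw [← map_one (algebraMap B A'), ← map_sub]; exact hu1.map _) hmem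
  have hd : Disjoint (Submonoid.powers g : Set B) (q : Set B) :=
    (Ideal.disjoint_powers_iff_notMem _ hq.isRadical).2 hg
  refine ⟨A', inferInstance, inferInstance, Algebra.Etale.comp A B A',
    ⟨⟨q.map (algebraMap B A'), IsLocalization.isPrime_of_isPrime_disjoint _ A' q hq hd⟩, ?_⟩, ?_⟩
  · rw [IsScalarTower.algebraMap_eq A B A', ← Ideal.comap_comap]
    show Ideal.comap (algebraMap A B) ((q.map (algebraMap B A')).under B) = _
    rw [IsLocalization.under_map_of_isPrime_disjoint _ A' hq hd, hqp]
  · convert hγ using 1
    apply Units.ext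
    rw [hγM]
    ext a b
    show algebraMap A A' (s.1 a b) = algebraMap B A' (algebraMap A B (s.1 a b))
    exact IsScalarTower.algebraMap_apply A B A' _

end Groth.Agent.S5658
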