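import Groth.Statements.S5659
import Mathlib
import Groth.Agent.GLCharLib.Basic

set_option autoImplicit false
universe u
open CAlg

namespace Groth.Agent.S5659

/-- Every homomorphism of group sheaves Gl(n_1) × ⋯ × Gl(n_r) → G_m is (s_1, …, s_r) ↦ det(s_1)^{m_1} ⋯
det(s_r)^{m_r} with locally constant integers m_i uniquely determined by it. Concretely, over a
commutative ring R whose prime spectrum is connected and for ranks n_i ≥ 1: every family of group
homomorphisms α_B : GL_{n_1}(B) × ⋯ × GL_{n_r}(B) → Bˣ, one for each commutative R-algebra B and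
natural in B, is given by α_B(s) = Π_i det(s_i)^{m_i} for a unique m ∈ ℤ^r. (The published statement
allows ranks n_i ≥ 0; uniqueness of m_i needs n_i ≥ 1, since Gl(0) is trivial.) -/
theorem result (R : Type u) [CommRing R] [ConnectedSpace (PrimeSpectrum R)]
    (r : ℕ) (n : Fin r → ℕ) (hn : ∀ i, 0 < n i)
    (α : ∀ (B : Type u) [CommRing B] [Algebra R B], (∀ i, Matrix.GeneralLinearGroup (Fin (n i)) B) →* Bˣ)
    (hα : ∀ (B C : Type u) [CommRing B] [Algebra R B] [CommRing C] [Algebra R C] (φ : B →ₐ[R] C)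
      (s : ∀ i, Matrix.GeneralLinearGroup (Fin (n i)) B),
      α C (fun i => Matrix.GeneralLinearGroup.map φ.toRingHom (s i)) = Units.map (φ.toRingHom : B →* C) (α B s)) :
    ∃! m : Fin r → ℤ, ∀ (B : Type u) [CommRing B] [Algebra R B] (s : ∀ i, Matrix.GeneralLinearGroup (Fin (n i)) B),
      α B s = ∏ i, Matrix.GeneralLinearGroup.det (s i) ^ (m i) := by
  classical
  haveI : Nontrivial R := PrimeSpectrum.nonempty_iff_nontrivial.mp inferInstance
  let χ : ∀ i, ∀ (B : Type u) [CommRing B] [Algebra R B], GLCharLib.GLn (n i) B →* Bˣ := fun i B _ _ =>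
    (α B).comp (MonoidHom.mulSingle (fun j => Matrix.GeneralLinearGroup (Fin (n j)) B) i)
  have hχ : ∀ i (B C : Type u) [CommRing B] [Algebra R B] [CommRing C] [Algebra R C] (φ : B →ₐ[R] C) (g : GLCharLib.GLn (n i) B),
      χ i C (Matrix.GeneralLinearGroup.map φ.toRingHom g) = Units.map (φ.toRingHom : B →* C) (χ i B g) := by
    intro i B C _ _ _ _ φ g
    refine Eq.trans (congrArg (α C) (funext fun j => ?_)) (hα B C φ (Pi.mulSingle i g))
    exact (Pi.apply_mulSingle (fun j => Matrix.GeneralLinearGroup.map (n := Fin (n j)) φ.toRingHom) (fun j => map_one _) i g j).symm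
  choose m hm using fun i => GLCharLib.exists_eq_det_zpow (χ i) (hχ i) (hn i)
  have hsingle : ∀ (m : Fin r → ℤ) (B : Type u) [CommRing B] [Algebra R B] (i : Fin r) (g : Matrix.GeneralLinearGroup (Fin (n i)) B),
      ∏ j, Matrix.GeneralLinearGroup.det ((Pi.mulSingle i g : ∀ j, Matrix.GeneralLinearGroup (Fin (n j)) B) j) ^ (m j) =
        Matrix.GeneralLinearGroup.det g ^ (m i) := fun m B _ _ i g => by
    rw [Finset.prod_eq_single i (fun j _ hj => by rw [Pi.mulSingle_eq_of_ne hj, map_one, one_zpow])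
      (fun h => absurd (Finset.mem_univ i) h), Pi.mulSingle_eq_same]
  refine ⟨m, fun B _ _ s => ?_, fun m' hm' => funext fun i => ?_⟩
  · let P : (∀ i, Matrix.GeneralLinearGroup (Fin (n i)) B) →* Bˣ :=
      { toFun := fun s => ∏ j, Matrix.GeneralLinearGroup.det (s j) ^ (m j)
        map_one' := Finset.prod_eq_one fun j _ => by rw [Pi.one_apply, map_one, one_zpow]
        map_mul' := fun a b => by
          simp only [Pi.mul_apply, map_mul, mul_zpow, Finset.prod_mul_distrib] }
    show α B s = P s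
    conv_lhs => rw [← Finset.noncommProd_mulSingle s, Finset.map_noncommProd]
    conv_rhs => rw [← Finset.noncommProd_mulSingle s, Finset.map_noncommProd]
    exact Finset.noncommProd_congr rfl (fun i _ => (hm i B (s i)).trans (hsingle m B i (s i)).symm) _
  · let T : (AddMonoidAlgebra R ℤ)ˣ := (AddMonoidAlgebra.of R ℤ).toHomUnits (Multiplicative.ofAdd 1)
    have h : T ^ m' i = T ^ m i := by
      have h1 := hm' (AddMonoidAlgebra R ℤ) (Pi.mulSingle i (GLCharLib.dg ⟨0, hn i⟩ T))
      rw [hsingle, GLCharLib.det_dg] at h1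
      have h2 := hm i (AddMonoidAlgebra R ℤ) (GLCharLib.dg ⟨0, hn i⟩ T)
      rw [GLCharLib.det_dg] at h2
      exact h1.symm.trans h2
    have hv : ∀ k : ℤ, ((T ^ k : (AddMonoidAlgebra R ℤ)ˣ) : AddMonoidAlgebra R ℤ) = AddMonoidAlgebra.single k 1 := fun k => by
      rw [← map_zpow, MonoidHom.coe_toHomUnits, ← ofAdd_zsmul, smul_eq_mul, mul_one]
      rfl
    have h3 := congrArg Units.val h
    rw [hv, hv] at h3
    exact AddMonoidAlgebra.single_left_injective (one_ne_zero' R) h3

end Groth.Agent.S5659
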