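import Groth.Statements.S5663
import Mathlib


set_option autoImplicit false
universe u
open TensorProduct
open CAlg

namespace Groth.Agent.S5663

open TensorProduct in
/-- If `s • (x ⊗ 1) = s • (1 ⊗ x)` in `C ⊗ C` with `s` outside `p`, then the image of `x` in the fibre at `p`
is a multiple of `1`. -/
lemma mem_span_one_fibre {A C : Type*} [CommRing A] [CommRing C] [Algebra A C] (p : Ideal A) [p.IsPrime]
    {s : A} (hs : s ∉ p) (x : C) (h : s • (x ⊗ₜ[A] (1 : C)) = s • ((1 : C) ⊗ₜ[A] x)) :
    (1 : p.ResidueField) ⊗ₜ[A] x ∈ Submodule.span p.ResidueField {(1 : p.ResidueField) ⊗ₜ[A] (1 : C)} := by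
  set k := p.ResidueField
  by_cases h1 : (1 : k) ⊗ₜ[A] (1 : C) = 0
  · have := congrArg ((LinearMap.mulLeft A x).lTensor k) h1
    rw [LinearMap.lTensor_tmul, LinearMap.mulLeft_apply, mul_one, map_zero] at this
    rw [this]; exact zero_mem _
  by_contra hx
  obtain ⟨φ, hφx, hφ⟩ := Submodule.exists_dual_map_eq_bot_of_notMem hx inferInstance
  have hφ1 : φ (1 ⊗ₜ 1) = 0 := (Submodule.mem_bot k).1 (hφ ▸ Submodule.mem_map_of_mem (Submodule.mem_span_singleton_self _))
  obtain ⟨ψ, hψ⟩ := Module.Projective.exists_dual_eq_one k h1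
  let φ' : C →ₗ[A] k := φ.restrictScalars A ∘ₗ TensorProduct.mk A k C 1
  let ψ' : C →ₗ[A] k := ψ.restrictScalars A ∘ₗ TensorProduct.mk A k C 1
  have := congrArg (LinearMap.mul' A k ∘ₗ TensorProduct.map φ' ψ') h
  have e1 : φ' 1 = 0 := hφ1
  have e2 : ψ' 1 = 1 := hψ
  simp only [map_smul, LinearMap.comp_apply, TensorProduct.map_tmul, LinearMap.mul'_apply, e1, e2,
    zero_mul, mul_one, smul_zero] at this
  rw [Algebra.smul_def, mul_eq_zero] at this
  rcases this with h | h
  · exact hs (Ideal.algebraMap_residueField_eq_zero.1 h)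
  · exact hφx h

/-- A decreasing sequence of submodules below a finite module with support in the closed point stabilizes. -/
lemma exists_eq_succ_of_isTorsionBySet {R M : Type*} [CommRing R] [IsNoetherianRing R] [AddCommGroup M]
    [Module R M] (J : Ideal R) (hJ : ∀ P : Ideal R, P.IsPrime → J ≤ P → P.IsMaximal)
    (Q : Submodule R M) [Module.Finite R Q] (hQ : Module.IsTorsionBySet R Q J)
    (E : ℕ → Submodule R M) (hE : Antitone E) (h0 : E 0 ≤ Q) : ∃ j, E (j + 1) = E j := by
  let : Module (R ⧸ J) Q := hQ.module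
  have : IsScalarTower R (R ⧸ J) Q := hQ.isScalarTower
  have : Ring.KrullDimLE 0 (R ⧸ J) := Ring.KrullDimLE.mk₀ fun I hI => by
    have hJI : J ≤ I.comap (Ideal.Quotient.mk J) := fun x hx => by
      rw [Ideal.mem_comap, Ideal.Quotient.eq_zero_iff_mem.2 hx]; exact zero_mem _
    have hm := hJ _ (hI.comap _) hJI
    rw [← Ideal.map_comap_of_surjective _ Ideal.Quotient.mk_surjective I]
    exact (Ideal.map_eq_top_or_isMaximal_of_surjective _ Ideal.Quotient.mk_surjective hm).resolve_left
      (by rw [Ideal.map_comap_of_surjective _ Ideal.Quotient.mk_surjective I]; exact hI.ne_top)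
  have : IsArtinianRing (R ⧸ J) := isArtinianRing_iff_isNoetherianRing_krullDimLE_zero.2 ⟨inferInstance, this⟩
  have : Module.Finite (R ⧸ J) Q := Module.Finite.of_restrictScalars_finite R _ _
  let F : ℕ →o (Submodule (R ⧸ J) Q)ᵒᵈ :=
    ⟨fun j => OrderDual.toDual
      { toAddSubmonoid := ((E j).comap Q.subtype).toAddSubmonoid
        smul_mem' := fun a x hx => by
          obtain ⟨r, rfl⟩ := Ideal.Quotient.mk_surjective a
          change r • x ∈ (E j).comap Q.subtype
          exact Submodule.smul_mem _ r hx },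
      fun i j hij x hx => hE hij hx⟩
  obtain ⟨n, hn⟩ := IsArtinian.monotone_stabilizes F
  refine ⟨n, le_antisymm (hE (Nat.le_succ n)) fun x hx => ?_⟩
  have hxQ : x ∈ Q := h0 (hE (Nat.zero_le n) hx)
  exact ((SetLike.ext_iff.1 (congrArg OrderDual.ofDual (hn (n + 1) (Nat.le_succ n))) ⟨x, hxQ⟩).1 hx : _)

set_option maxHeartbeats 1000000


/-- Let A be a Noetherian ring and B a finite A-algebra with A → B injective (a finite schematically
dominant morphism Spec B → Spec A). Define subalgebras B_0 = B and B_{i+1} = the equalizer of the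
two maps B_i ⇉ B_i ⊗_A B_i, b ↦ b ⊗ 1, 1 ⊗ b. Then B_m = A (the image of A) for some m; equivalently
Spec B → Spec A factors as a finite chain of finite morphisms Spec B_i → Spec B_{i+1} each of which
is an effective epimorphism (B_{i+1} is the equalizer of B_i ⇉ B_i ⊗_{B_{i+1}} B_i). The sequence is
given here as any family C of subalgebras satisfying the recursion. (The published statement is for
a finite morphism X → Y of schemes with Y Noetherian and O_Y → f_*O_X injective; this row is the
affine case.) -/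
theorem result (A B : Type u) [CommRing A] [CommRing B] [Algebra A B]
    [IsNoetherianRing A] [Module.Finite A B] (hinj : Function.Injective (algebraMap A B))
    (C : ℕ → Subalgebra A B) (h0 : C 0 = ⊤)
    (hstep : ∀ (i : ℕ) (b : B), b ∈ C (i + 1) ↔ ∃ hb : b ∈ C i,
      ((⟨b, hb⟩ : C i) ⊗ₜ[A] (1 : C i) : C i ⊗[A] C i) = (1 : C i) ⊗ₜ[A] (⟨b, hb⟩ : C i)) :
    ∃ m : ℕ, C m = ⊥ := by
  classical
  let K : Submodule A B := (⊥ : Subalgebra A B).toSubmodule
  let N : ℕ → Submodule A (B ⧸ K) := fun i => (C i).toSubmodule.map K.mkQ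
  have hC : Antitone C := antitone_nat_of_succ_le fun i b hb => ((hstep i b).1 hb).1
  have hN : Antitone N := fun i j hij => Submodule.map_mono fun x hx => hC hij hx
  have hK : ∀ i, K ≤ (C i).toSubmodule := fun i x hx => (bot_le : (⊥ : Subalgebra A B) ≤ C i) hx
  let I : ℕ →o Ideal A :=
    ⟨fun i => (N i).annihilator, fun i j hij => Submodule.annihilator_mono (hN hij)⟩
  obtain ⟨i₀, hi₀⟩ := (monotone_stabilizes_iff_noetherian.2 inferInstance : ∀ f : ℕ →o Ideal A, _) I
  by_cases htop : I i₀ = ⊤
  · refine ⟨i₀, eq_bot_iff.2 fun x hx => ?_⟩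
    have h0 : N i₀ = ⊥ := Submodule.annihilator_eq_top_iff.1 htop
    have : K.mkQ x ∈ N i₀ := Submodule.mem_map_of_mem hx
    rw [h0, Submodule.mem_bot, Submodule.mkQ_apply, Submodule.Quotient.mk_eq_zero] at this
    exact this
  exfalso
  obtain ⟨m, hm, hIm⟩ := Ideal.exists_le_maximal _ htop
  obtain ⟨p, hp, -⟩ := Ideal.exists_minimalPrimes_le hIm
  have : p.IsPrime := hp.1.1
  set Ap := Localization.AtPrime p
  let f := LocalizedModule.mkLinearMap p.primeCompl (B ⧸ K)
  let E : ℕ → Submodule Ap (LocalizedModule p.primeCompl (B ⧸ K)) := fun j =>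
    Submodule.localized' Ap p.primeCompl f (N (i₀ + j))
  have hE : Antitone E := fun i j hij x hx => by
    obtain ⟨y, hy, s, rfl⟩ := (Submodule.mem_localized' _ _ _ _ x).1 hx
    exact (Submodule.mem_localized' _ _ _ _ _).2 ⟨y, hN (by omega) hy, s, rfl⟩
  have : Module.Finite Ap (LocalizedModule p.primeCompl (B ⧸ K)) := inferInstance
  have : IsNoetherianRing Ap := inferInstance
  have : IsNoetherian Ap (LocalizedModule p.primeCompl (B ⧸ K)) := isNoetherian_of_isNoetherianRing_of_finite _ _
  obtain ⟨j, hj⟩ := exists_eq_succ_of_isTorsionBySet ((I i₀).map (algebraMap A Ap)) (fun P hP hle => by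
      have h1 : P.comap (algebraMap A Ap) ≤ p :=
        (Ideal.comap_mono (IsLocalRing.le_maximalIdeal hP.ne_top)).trans
          (IsLocalization.AtPrime.under_maximalIdeal (S := Ap) (I := p)).le
      have h2 : p ≤ P.comap (algebraMap A Ap) :=
        hp.2 ⟨hP.comap _, Ideal.map_le_iff_le_comap.1 hle⟩ h1
      have : IsLocalRing.maximalIdeal Ap ≤ P := by
        rw [← IsLocalization.AtPrime.map_eq_maximalIdeal p Ap]
        exact Ideal.map_le_iff_le_comap.2 h2
      rw [← (IsLocalRing.maximalIdeal.isMaximal Ap).eq_of_le hP.ne_top this]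
      infer_instance)
    (E 0) (fun ⟨x, hx⟩ ⟨a, ha⟩ => by
      obtain ⟨y, hy, s, rfl⟩ := (Submodule.mem_localized' _ _ _ _ x).1 hx
      apply Subtype.ext
      change a • IsLocalizedModule.mk' f y s = 0
      induction ha using Submodule.span_induction with
      | mem r hr =>
        obtain ⟨r, hr, rfl⟩ := hr
        rw [algebraMap_smul, ← IsLocalizedModule.mk'_smul,
          Submodule.mem_annihilator.1 hr y (by simpa using hy), IsLocalizedModule.mk'_zero]
      | zero => rw [zero_smul]
      | add u v _ _ hu hv => rw [add_smul, hu, hv, add_zero]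
      | smul u v _ hv => rw [smul_eq_mul, mul_smul, hv, smul_zero])
    E hE le_rfl
  set n := i₀ + j
  -- every element of `C n` lands in `C (n + 1)` after multiplication by some `s ∉ p`
  have key : ∀ x ∈ C n, ∃ s ∉ p, s • x ∈ C (n + 1) := by
    intro x hx
    have : IsLocalizedModule.mk' f (K.mkQ x) (1 : p.primeCompl) ∈ E (j + 1) := by
      rw [hj]; exact (Submodule.mem_localized' _ _ _ _ _).2 ⟨_, Submodule.mem_map_of_mem hx, 1, rfl⟩
    obtain ⟨y, hy, s, hys⟩ := (Submodule.mem_localized' _ _ _ _ _).1 this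
    replace hys := (IsLocalizedModule.mk'_eq_mk'_iff (S := p.primeCompl) f _ _ _ _).1 hys
    obtain ⟨u, hu⟩ := hys
    simp only [one_smul, Submonoid.smul_def, smul_smul] at hu
    refine ⟨(u : A) * s, (u * s).2, ?_⟩
    have hmem : K.mkQ (((u : A) * s) • x) ∈ N (n + 1) := by
      rw [map_smul]
      have h' : (u : A) • y ∈ N (n + 1) := Submodule.smul_mem _ _ hy
      exact hu ▸ h'
    obtain ⟨z, hz, hzx⟩ := hmem
    rw [Submodule.mkQ_apply, Submodule.mkQ_apply, Submodule.Quotient.eq] at hzx
    have := sub_mem hz (hK (n + 1) hzx)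
    simpa using this
  -- hence the fibre of `N n` at `p` vanishes
  let q : C n →ₗ[A] N n :=
    LinearMap.codRestrict (N n) (K.mkQ ∘ₗ (C n).val.toLinearMap) fun x => Submodule.mem_map_of_mem x.2
  have hq : Function.Surjective q := by
    rintro ⟨_, x, hx, rfl⟩
    exact ⟨⟨x, hx⟩, rfl⟩
  have hsub : Subsingleton (TensorProduct A p.ResidueField (N n)) := by
    refine ⟨fun u v => ?_⟩
    suffices ∀ w : TensorProduct A p.ResidueField (N n), w = 0 by rw [this u, this v]
    intro w
    induction w using TensorProduct.induction_on with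
    | zero => rfl
    | add u v hu hv => rw [hu, hv, add_zero]
    | tmul c y =>
      obtain ⟨x, rfl⟩ := hq y
      obtain ⟨s, hs, hsx⟩ := key x x.2
      obtain ⟨hb, heq⟩ := (hstep n _).1 hsx
      have hsx' : (⟨s • (x : B), hb⟩ : C n) = s • x := rfl
      rw [hsx', ← TensorProduct.smul_tmul', TensorProduct.tmul_smul] at heq
      obtain ⟨r, hr⟩ := Submodule.mem_span_singleton.1 (mem_span_one_fibre p hs x heq)
      have h1 : (1 : p.ResidueField) ⊗ₜ[A] q x = 0 := by
        have := congrArg (TensorProduct.AlgebraTensorModule.lTensor p.ResidueField p.ResidueField q) hr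
        rw [map_smul, TensorProduct.AlgebraTensorModule.lTensor_tmul,
          TensorProduct.AlgebraTensorModule.lTensor_tmul] at this
        rw [← this]
        have : q 1 = 0 := by
          apply Subtype.ext
          exact (Submodule.Quotient.mk_eq_zero K).2 (one_mem (⊥ : Subalgebra A B))
        rw [this, TensorProduct.tmul_zero, smul_zero]
      rw [show c ⊗ₜ[A] q x = c • ((1 : p.ResidueField) ⊗ₜ[A] q x) by
        rw [TensorProduct.smul_tmul', smul_eq_mul, mul_one], h1, smul_zero]
  have : Module.Finite A (N n) := inferInstance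
  have hsupp : (⟨p, inferInstance⟩ : PrimeSpectrum A) ∈ Module.support A (N n) := by
    rw [Module.support_eq_zeroLocus, PrimeSpectrum.mem_zeroLocus]
    change I n ≤ p
    rw [← hi₀ n (Nat.le_add_right i₀ j)]
    exact hp.1.2
  exact (not_nontrivial_iff_subsingleton.2 hsub) ((Module.mem_support_iff_nontrivial_residueField_tensorProduct _).1 hsupp)

end Groth.Agent.S5663
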