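import Mathlib
import Mathlib
import Groth.Statements.S5665

set_option autoImplicit false
universe u
open CategoryTheory
open Dual

open RingTheory.Sequence Pointwise in
set_option linter.style.haveILetI false in
theorem Groth.Agent.S5665.key (A : Type u) [CommRing A] (xs : List A) (hreg : IsWeaklyRegular A xs) :
    HasProjectiveDimensionLT (ModuleCat.of A (A ⧸ Ideal.ofList xs)) (xs.length + 1) ∧
      ∀ (M : Type u) [AddCommGroup M] [Module A M],
        Nonempty (Abelian.Ext (ModuleCat.of A (A ⧸ Ideal.ofList xs)) (ModuleCat.of A M) xs.length ≃ₗ[A]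
          (M ⧸ (Ideal.ofList xs • (⊤ : Submodule A M)))) := by
  induction xs using List.reverseRecOn with
  | nil =>
    let e : (A ⧸ Ideal.ofList ([] : List A)) ≃ₗ[A] A :=
      Submodule.quotEquivOfEqBot _ (Ideal.ofList_nil)
    refine ⟨?_, fun M _ _ => ?_⟩
    · haveI : Projective (ModuleCat.of A (A ⧸ Ideal.ofList ([] : List A))) :=
        Projective.of_iso e.toModuleIso.symm ((IsProjective.iff_projective _).mp (inferInstance : Module.Projective A A))
      exact (inferInstanceAs (HasProjectiveDimensionLT _ 1))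
    · let a1 : Abelian.Ext (ModuleCat.of A (A ⧸ Ideal.ofList ([] : List A))) (ModuleCat.of A M) 0 ≃ₗ[A]
          (ModuleCat.of A (A ⧸ Ideal.ofList ([] : List A)) ⟶ ModuleCat.of A M) := Abelian.Ext.linearEquiv₀
      let a2 : (ModuleCat.of A (A ⧸ Ideal.ofList ([] : List A)) ⟶ ModuleCat.of A M) ≃ₗ[A]
          ((A ⧸ Ideal.ofList ([] : List A)) →ₗ[A] M) := ModuleCat.homLinearEquiv
      let a3 : ((A ⧸ Ideal.ofList ([] : List A)) →ₗ[A] M) ≃ₗ[A]
          (M ⧸ (Ideal.ofList ([] : List A) • (⊤ : Submodule A M))) :=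
        ((e.arrowCongr (LinearEquiv.refl A M)).trans (LinearMap.ringLmapEquivSelf A A M)).trans
          (Submodule.quotEquivOfEqBot _ (by rw [Ideal.ofList_nil, Submodule.bot_smul])).symm
      exact ⟨a1.trans (a2.trans a3)⟩
  | append_singleton ys x ih =>
    rw [isWeaklyRegular_append_iff, isWeaklyRegular_cons_iff] at hreg
    obtain ⟨hys, hx, -⟩ := hreg
    obtain ⟨hpd, heq⟩ := ih hys
    let J := Ideal.ofList ys
    let N := ModuleCat.of A (A ⧸ J)
    have hxN : IsSMulRegular N x := by
      have hJ : (J • ⊤ : Submodule A A) = J := by rw [smul_eq_mul, Ideal.mul_top]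
      exact ((Submodule.quotEquivOfEq _ _ hJ).isSMulRegular_congr x).mp hx
    have hS := hxN.smulShortComplex_shortExact
    have hlen : (ys ++ [x]).length = ys.length + 1 := by simp
    haveI h3 : HasProjectiveDimensionLT (N.smulShortComplex x).X₃ (ys.length + 1 + 1) :=
      hS.hasProjectiveDimensionLT_X₃ (ys.length + 1) hpd (hasProjectiveDimensionLT_of_ge N (ys.length + 1) _ (by omega))
    let e3 : QuotSMulTop x (A ⧸ J) ≃ₗ[A] (A ⧸ Ideal.ofList (ys ++ [x])) :=
      (Submodule.quotEquivOfEq _ _ (show x • (⊤ : Submodule A (A ⧸ J)) = (x • (⊤ : Submodule A A)).map J.mkQ by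
        rw [Submodule.map_pointwise_smul, Submodule.map_top, Submodule.range_mkQ])).trans
      ((Submodule.quotientQuotientEquivQuotientSup J (x • ⊤)).trans (Submodule.quotEquivOfEq _ _ (by
        rw [Ideal.ofList_append, Ideal.ofList_singleton, ← Submodule.ideal_span_singleton_smul, smul_eq_mul,
          Ideal.mul_top])))
    let i3 : (N.smulShortComplex x).X₃ ≅ ModuleCat.of A (A ⧸ Ideal.ofList (ys ++ [x])) := e3.toModuleIso
    refine ⟨hlen ▸ hasProjectiveDimensionLT_of_iso i3 _, fun M _ _ => ?_⟩
    obtain ⟨φ⟩ := heq M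
    let Y := ModuleCat.of A M
    let D : Abelian.Ext N Y ys.length →ₗ[A] Abelian.Ext (N.smulShortComplex x).X₃ Y (ys ++ [x]).length :=
      hS.extClass.precompOfLinear A Y (show 1 + ys.length = (ys ++ [x]).length by omega)
    have hsurj : Function.Surjective D := fun z =>
      Abelian.Ext.contravariant_sequence_exact₃ hS Y z
        (Abelian.Ext.eq_zero_of_hasProjectiveDimensionLT (X := N) _ (ys.length + 1) (by omega)) (by omega)
    have hf : ∀ z : Abelian.Ext N Y ys.length,
        (Abelian.Ext.mk₀ (N.smulShortComplex x).f).comp z (zero_add _) = x • z := fun z => by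
      show (Abelian.Ext.mk₀ (x • 𝟙 N)).comp z (zero_add _) = _
      rw [Abelian.Ext.mk₀_smul, Abelian.Ext.smul_comp,
        Abelian.Ext.mk₀_id_comp]
    have hker : LinearMap.ker D = x • ⊤ := by
      ext z
      rw [LinearMap.mem_ker, Submodule.mem_smul_pointwise_iff_exists]
      constructor
      · intro hz
        obtain ⟨w, hw⟩ := Abelian.Ext.contravariant_sequence_exact₁ hS Y z (show 1 + ys.length = (ys ++ [x]).length by omega) hz
        exact ⟨w, trivial, (hf w).symm.trans hw⟩
      · rintro ⟨w, -, rfl⟩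
        rw [← hf w]
        exact hS.extClass_comp_assoc _ (h := (show 1 + ys.length = (ys ++ [x]).length by omega))
    let e : Abelian.Ext (N.smulShortComplex x).X₃ Y (ys ++ [x]).length ≃ₗ[A] QuotSMulTop x (M ⧸ (J • ⊤ : Submodule A M)) :=
      (D.quotKerEquivOfSurjective hsurj).symm.trans ((Submodule.quotEquivOfEq _ _ hker).trans (QuotSMulTop.congr x φ))
    let i : Abelian.Ext (ModuleCat.of A (A ⧸ Ideal.ofList (ys ++ [x]))) Y (ys ++ [x]).length ≃ₗ[A]
        Abelian.Ext (N.smulShortComplex x).X₃ Y (ys ++ [x]).length :=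
      LinearEquiv.ofLinear ((Abelian.Ext.mk₀ i3.hom).precompOfLinear A Y (zero_add _))
        ((Abelian.Ext.mk₀ i3.inv).precompOfLinear A Y (zero_add _))
        (by ext z; simp) (by ext z; simp)
    exact ⟨i.trans (e.trans ((Submodule.quotEquivOfEq _ _ (show x • (⊤ : Submodule A (M ⧸ (J • ⊤ : Submodule A M))) = (x • (⊤ : Submodule A M)).map (J • ⊤ : Submodule A M).mkQ by
      rw [Submodule.map_pointwise_smul, Submodule.map_top, Submodule.range_mkQ])).trans
      ((Submodule.quotientQuotientEquivQuotientSup _ _).trans (Submodule.quotEquivOfEq _ _ (by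
        rw [Ideal.ofList_append, Ideal.ofList_singleton, Submodule.sup_smul, Submodule.ideal_span_singleton_smul])))))⟩

namespace Groth.Agent.S5665

/-- Let `A` be a commutative ring, `xs = (x_1, …, x_p)` a sequence in `A` such that each `x_i` is a
non-zero-divisor on `A/(x_1, …, x_{i-1})`, `J` the ideal generated by the `x_i` and `M` any
`A`-module. Then `Ext^p_A(A/J, M)` is isomorphic, as an `A`-module, to `M/JM`. (Existence of an
`A`-linear isomorphism only; the published isomorphism is the one induced by the Koszul complex of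
`xs`.) -/
theorem result (A : Type u) [CommRing A] (xs : List A) (hreg : RingTheory.Sequence.IsWeaklyRegular A xs) (M : Type u) [AddCommGroup M] [Module A M] : Nonempty (Abelian.Ext (ModuleCat.of A (A ⧸ Ideal.ofList xs)) (ModuleCat.of A M) xs.length ≃ₗ[A] (M ⧸ (Ideal.ofList xs • (⊤ : Submodule A M)))) := by
  exact (key A xs hreg).2 M

end Groth.Agent.S5665
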