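import Mathlib
import Groth.Agent.S5665
import Groth.Statements.S5666

set_option autoImplicit false
universe u
open CategoryTheory
open Dual

open Abelian RingTheory.Sequence
open scoped Pointwise
set_option linter.style.haveILetI false

namespace Groth.Agent.S5666

variable {A : Type u} [CommRing A]

/-- The map `A/J → M` with value `m` at one. -/
noncomputable def theta (J : Ideal A) (M : Type u) [AddCommGroup M] [Module A M]
    (h : J • (⊤ : Submodule A M) = ⊥) : M →ₗ[A] (A ⧸ J) →ₗ[A] M where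
  toFun m := Submodule.liftQ J (LinearMap.toSpanSingleton A M m) fun a ha => by
    rw [LinearMap.mem_ker, LinearMap.toSpanSingleton_apply, ← Submodule.mem_bot A, ← h]
    exact Submodule.smul_mem_smul ha trivial
  map_add' m m' := LinearMap.ext fun a => by
    obtain ⟨a, rfl⟩ := Submodule.Quotient.mk_surjective _ a
    show a • (m + m') = a • m + a • m'
    rw [smul_add]
  map_smul' r m := LinearMap.ext fun a => by
    obtain ⟨a, rfl⟩ := Submodule.Quotient.mk_surjective _ a
    show a • r • m = r • a • m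
    rw [smul_comm]

theorem theta_bijective (J : Ideal A) (M : Type u) [AddCommGroup M] [Module A M]
    (h : J • (⊤ : Submodule A M) = ⊥) : Function.Bijective (theta J M h) :=
  ⟨fun m m' hmm => (one_smul A m).symm.trans
      ((LinearMap.congr_fun hmm (Submodule.Quotient.mk 1)).trans (one_smul A m')),
    fun f => ⟨f (Submodule.Quotient.mk 1), LinearMap.ext fun a => by
      obtain ⟨a, rfl⟩ := Submodule.Quotient.mk_surjective _ a
      show a • f (Submodule.Quotient.mk 1) = _
      rw [← map_smul, ← Submodule.Quotient.mk_smul, smul_eq_mul, mul_one]⟩⟩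

/-- The map given by classes. -/
noncomputable def Psi {J : Ideal A} {N : ModuleCat.{u} A} {i : ℕ} {ι : Type} [Fintype ι]
    (ξ : ι → Ext N (ModuleCat.of A (A ⧸ J)) i) (M : Type u) [AddCommGroup M] [Module A M]
    (h : J • (⊤ : Submodule A M) = ⊥) : (ι → M) →ₗ[A] Ext N (ModuleCat.of A M) i :=
  ∑ k, ((ξ k).precompOfLinear A (ModuleCat.of A M) (add_zero i)) ∘ₗ
    (Ext.linearEquiv₀ (R := A)).symm.toLinearMap ∘ₗ (ModuleCat.homLinearEquiv (S := A)).symm.toLinearMap ∘ₗ
      theta J M h ∘ₗ LinearMap.proj k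

theorem Psi_apply {J : Ideal A} {N : ModuleCat.{u} A} {i : ℕ} {ι : Type} [Fintype ι]
    (ξ : ι → Ext N (ModuleCat.of A (A ⧸ J)) i) (M : Type u) [AddCommGroup M] [Module A M]
    (h : J • (⊤ : Submodule A M) = ⊥) (v : ι → M) :
    Psi ξ M h v = ∑ k, (ξ k).comp (Ext.mk₀ (ModuleCat.ofHom (theta J M h (v k)))) (add_zero i) := by
  simp only [Psi, LinearMap.coe_sum, Finset.sum_apply]
  rfl

theorem key (A : Type u) [CommRing A] (xs : List A) (hreg : IsWeaklyRegular A xs) : ∀ i : ℕ,
    ∃ (ι : Type) (_ : Fintype ι), Fintype.card ι = xs.length.choose i ∧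
      ∃ ξ : ι → Ext (ModuleCat.of A (A ⧸ Ideal.ofList xs)) (ModuleCat.of A (A ⧸ Ideal.ofList xs)) i,
        ∀ (M : Type u) [AddCommGroup M] [Module A M] (h : Ideal.ofList xs • (⊤ : Submodule A M) = ⊥),
          Function.Bijective (Psi ξ M h) := by
  induction xs using List.reverseRecOn with
  | nil =>
    intro i
    cases i with
    | zero =>
      refine ⟨Unit, inferInstance, by simp, fun _ => Ext.mk₀ (𝟙 _), fun M _ _ h => ?_⟩
      have he : ⇑(Psi (fun _ : Unit => Ext.mk₀ (𝟙 (ModuleCat.of A (A ⧸ Ideal.ofList ([] : List A))))) M h) =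
          fun v => Ext.mk₀ (ModuleCat.ofHom (theta _ M h (v ()))) := by
        funext v
        rw [Psi_apply]
        simp
      rw [he]
      have hb : Function.Bijective fun v : Unit → M => theta _ M h (v ()) :=
        (theta_bijective _ M h).comp (Equiv.funUnique Unit M).bijective
      exact (Ext.mk₀_bijective _ _).comp (Function.Bijective.comp (g := fun f : (A ⧸ Ideal.ofList ([] : List A)) →ₗ[A] M => ModuleCat.ofHom f)
        ⟨fun f g h => congrArg ModuleCat.Hom.hom h, fun f => ⟨f.hom, rfl⟩⟩ hb)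
    | succ i =>
      refine ⟨Empty, inferInstance, by simp, fun k => k.elim, fun M _ _ h => ?_⟩
      haveI := (S5665.key A [] hreg).1
      haveI : Subsingleton (Ext (ModuleCat.of A (A ⧸ Ideal.ofList ([] : List A))) (ModuleCat.of A M) (i + 1)) :=
        HasProjectiveDimensionLT.subsingleton _ 1 _ (by omega) _
      exact ⟨fun a b _ => funext fun k => k.elim, fun z => ⟨fun k => k.elim, Subsingleton.elim _ _⟩⟩
  | append_singleton ys x ih =>
    rw [isWeaklyRegular_append_iff, isWeaklyRegular_cons_iff] at hreg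
    obtain ⟨hys, hx, -⟩ := hreg
    let J := Ideal.ofList ys
    let J' := Ideal.ofList (ys ++ [x])
    have hJJ : J ≤ J' := by
      show J ≤ Ideal.ofList (ys ++ [x])
      rw [Ideal.ofList_append]; exact le_sup_left
    let N := ModuleCat.of A (A ⧸ J)
    let Q := ModuleCat.of A (A ⧸ J')
    have hxN : IsSMulRegular N x := by
      have hJ : (J • ⊤ : Submodule A A) = J := by rw [smul_eq_mul, Ideal.mul_top]
      exact ((Submodule.quotEquivOfEq _ _ hJ).isSMulRegular_congr x).mp hx
    have hS := hxN.smulShortComplex_shortExact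
    let e3 : QuotSMulTop x (A ⧸ J) ≃ₗ[A] (A ⧸ J') :=
      (Submodule.quotEquivOfEq _ _ (show x • (⊤ : Submodule A (A ⧸ J)) = (x • (⊤ : Submodule A A)).map J.mkQ by
        rw [Submodule.map_pointwise_smul, Submodule.map_top, Submodule.range_mkQ])).trans
      ((Submodule.quotientQuotientEquivQuotientSup J (x • ⊤)).trans (Submodule.quotEquivOfEq _ _ (by
        show J ⊔ x • ⊤ = Ideal.ofList (ys ++ [x])
        rw [Ideal.ofList_append, Ideal.ofList_singleton, ← Submodule.ideal_span_singleton_smul, smul_eq_mul,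
          Ideal.mul_top])))
    let i3 : (N.smulShortComplex x).X₃ ≅ Q := e3.toModuleIso
    let q : N ⟶ Q := (N.smulShortComplex x).g ≫ i3.hom
    have hJM : ∀ (M : Type u) [AddCommGroup M] [Module A M], J' • (⊤ : Submodule A M) = ⊥ →
        J • (⊤ : Submodule A M) = ⊥ ∧ ∀ m : M, x • m = 0 := by
      intro M _ _ h
      refine ⟨le_bot_iff.mp ((Submodule.smul_mono hJJ le_rfl).trans h.le), fun m => ?_⟩
      rw [← Submodule.mem_bot A, ← h]
      exact Submodule.smul_mem_smul (show x ∈ Ideal.ofList (ys ++ [x]) from Ideal.subset_span (by simp)) trivial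
    have hf : ∀ (Y : ModuleCat.{u} A), (∀ y : Y, x • y = 0) → ∀ (j : ℕ) (z : Ext N Y j),
        (Ext.mk₀ (N.smulShortComplex x).f).comp z (zero_add _) = 0 := by
      intro Y hY j z
      show (Ext.mk₀ (x • 𝟙 N)).comp z (zero_add _) = _
      rw [Ext.mk₀_smul, Ext.smul_comp, Ext.mk₀_id_comp, Ext.smul_eq_comp_mk₀,
        show x • 𝟙 Y = 0 from ModuleCat.hom_ext (LinearMap.ext fun y => hY y), Ext.mk₀_zero, Ext.comp_zero]
      rfl
    have hQ : ∀ y : Q, x • y = 0 := (hJM (A ⧸ J') (by
      rw [← le_bot_iff, Submodule.smul_le]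
      intro r hr m _
      obtain ⟨a, rfl⟩ := Submodule.Quotient.mk_surjective _ m
      rw [Submodule.mem_bot, ← Submodule.Quotient.mk_smul, Submodule.Quotient.mk_eq_zero]
      exact Ideal.mul_mem_right _ _ hr)).2
    -- composition with the isomorphism
    have hiso : ∀ (Y : ModuleCat.{u} A) (j : ℕ) (z : Ext (N.smulShortComplex x).X₃ Y j),
        (Ext.mk₀ i3.hom).comp ((Ext.mk₀ i3.inv).comp z (zero_add _)) (zero_add _) = z := fun Y j z => by
      rw [Ext.mk₀_comp_mk₀_assoc, i3.hom_inv_id, Ext.mk₀_id_comp]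
    -- the projection is surjective on Ext
    have hgsurj : ∀ (Y : ModuleCat.{u} A), (∀ y : Y, x • y = 0) → ∀ (j : ℕ) (z : Ext N Y j),
        ∃ w : Ext Q Y j, (Ext.mk₀ q).comp w (zero_add _) = z := by
      intro Y hY j z
      obtain ⟨w, hw⟩ := Ext.contravariant_sequence_exact₂ hS Y z (hf Y hY j z)
      refine ⟨(Ext.mk₀ i3.inv).comp w (zero_add _), ?_⟩
      show (Ext.mk₀ ((N.smulShortComplex x).g ≫ i3.hom)).comp _ _ = z
      rw [← Ext.mk₀_comp_mk₀_assoc, hiso, hw]
    have hθ : ∀ (M : Type u) [AddCommGroup M] [Module A M] (h : J' • (⊤ : Submodule A M) = ⊥) (m : M),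
        q ≫ ModuleCat.ofHom (theta J' M h m) = ModuleCat.ofHom (theta J M (hJM M h).1 m) := by
      intro M _ _ h m
      refine ModuleCat.hom_ext (LinearMap.ext fun a => ?_)
      obtain ⟨a, rfl⟩ := Submodule.Quotient.mk_surjective _ a
      rfl
    intro i
    cases i with
    | zero =>
      obtain ⟨ι, _, hι, ξ, hξ⟩ := ih hys 0
      choose η hη using fun k => hgsurj Q hQ 0 ((ξ k).comp (Ext.mk₀ q) (add_zero 0))
      refine ⟨ι, inferInstance, by simpa using hι, η, fun M _ _ h => ?_⟩
      obtain ⟨hJ, hxM⟩ := hJM M h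
      let Y := ModuleCat.of A M
      let P : Ext Q Y 0 → Ext N Y 0 := fun w => (Ext.mk₀ q).comp w (zero_add _)
      have hP : Function.Bijective P := by
        refine ⟨?_, fun z => hgsurj Y hxM 0 z⟩
        haveI : Epi q := (ModuleCat.epi_iff_surjective _).2 (e3.surjective.comp (Submodule.mkQ_surjective _))
        exact Ext.precomp_mk₀_injective_of_epi _ q
      have hcomm : P ∘ Psi η M h = Psi ξ M hJ := by
        funext v
        show (Ext.mk₀ q).precompOfLinear A Y (zero_add 0) (Psi η M h v) = _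
        rw [Psi_apply, Psi_apply, map_sum]
        refine Finset.sum_congr rfl fun k _ => ?_
        refine Eq.trans (b := (Ext.mk₀ q).comp ((η k).comp
          (Ext.mk₀ (ModuleCat.ofHom (theta J' M h _))) (add_zero _)) (zero_add _)) rfl ?_
        rw [← Ext.comp_assoc_of_third_deg_zero, hη, Ext.comp_assoc_of_second_deg_zero, Ext.mk₀_comp_mk₀, hθ]
      exact (hP.of_comp_iff' _).mp (hcomm ▸ hξ M hJ)
    | succ i =>
      obtain ⟨α, _, hα, ξ, hξ⟩ := ih hys i
      obtain ⟨β, _, hβ, ζ, hζ⟩ := ih hys (i + 1)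
      choose η hη using fun k => hgsurj Q hQ (i + 1) ((ζ k).comp (Ext.mk₀ q) (add_zero _))
      let δ : Ext Q N (1 : ℕ) := (Ext.mk₀ i3.inv).comp hS.extClass (zero_add _)
      let ω : α ⊕ β → Ext Q Q (i + 1) :=
        Sum.elim (fun k => δ.comp ((ξ k).comp (Ext.mk₀ q) (add_zero i)) (by omega)) η
      refine ⟨α ⊕ β, inferInstance, ?_, ω, fun M _ _ h => ?_⟩
      · rw [Fintype.card_sum, hα, hβ, List.length_append, List.length_singleton, Nat.choose_succ_succ]
      obtain ⟨hJ, hxM⟩ := hJM M h
      let Y := ModuleCat.of A M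
      let D : Ext N Y i →ₗ[A] Ext Q Y (i + 1) := δ.precompOfLinear A Y (by omega)
      let P : Ext Q Y (i + 1) →ₗ[A] Ext N Y (i + 1) := (Ext.mk₀ q).precompOfLinear A Y (zero_add _)
      have hδ : ∀ (j : ℕ) (hj : 1 + j = j + 1) (z : Ext N Y j),
          δ.comp z hj = (Ext.mk₀ i3.inv).comp (hS.extClass.comp z hj) (zero_add _) := fun j hj z =>
        Ext.comp_assoc _ _ _ (zero_add 1) hj (by omega)
      have hDinj : ∀ z, D z = 0 → z = 0 := by
        intro z hz
        have h1 : hS.extClass.comp z (show 1 + i = i + 1 by omega) = 0 := by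
          rw [← hiso Y _ (hS.extClass.comp z _), ← hδ i (by omega) z]
          exact (congrArg (fun t => (Ext.mk₀ i3.hom).comp t (zero_add _)) hz).trans (Ext.comp_zero _ _ _ _ _)
        obtain ⟨w, hw⟩ := Ext.contravariant_sequence_exact₁ hS Y z _ h1
        rw [← hw, hf Y hxM]
        rfl
      have hPD : ∀ z, P (D z) = 0 := by
        intro z
        show (Ext.mk₀ q).comp (δ.comp z (show 1 + i = i + 1 by omega)) (zero_add (i + 1)) = 0
        rw [hδ i (by omega) z, Ext.mk₀_comp_mk₀_assoc, show q ≫ i3.inv = (N.smulShortComplex x).g from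
          (Category.assoc _ _ _).trans (by rw [i3.hom_inv_id, Category.comp_id])]
        exact hS.comp_extClass_assoc _ _
      have hexact : ∀ w, P w = 0 → ∃ z, D z = w := by
        intro w hw
        have hw' : (Ext.mk₀ (N.smulShortComplex x).g).comp ((Ext.mk₀ i3.hom).comp w (zero_add _)) (zero_add _) = 0 := by
          rw [Ext.mk₀_comp_mk₀_assoc]; exact hw
        obtain ⟨z, hz⟩ := Ext.contravariant_sequence_exact₃ hS Y _ hw' (show 1 + i = i + 1 by omega)
        refine ⟨z, ?_⟩
        show δ.comp z (show 1 + i = i + 1 by omega) = w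
        rw [hδ i (by omega) z, hz, Ext.mk₀_comp_mk₀_assoc, i3.inv_hom_id, Ext.mk₀_id_comp]
      have hcomm : ∀ v : α ⊕ β → M, Psi ω M h v = D (Psi ξ M hJ (v ∘ Sum.inl)) + Psi η M h (v ∘ Sum.inr) := by
        intro v
        rw [Psi_apply, Psi_apply, Psi_apply, map_sum, Fintype.sum_sum_type]
        refine congrArg₂ (· + ·) (Finset.sum_congr rfl fun k _ => ?_) rfl
        refine Eq.trans (b := (δ.comp ((ξ k).comp (Ext.mk₀ q) (add_zero i)) (show 1 + i = i + 1 by omega)).comp
          (Ext.mk₀ (ModuleCat.ofHom (theta J' M h (v (Sum.inl k))))) (add_zero _)) rfl ?_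
        refine Eq.trans ?_ (show δ.comp ((ξ k).comp (Ext.mk₀ (ModuleCat.ofHom (theta J M hJ ((v ∘ Sum.inl) k)))) (add_zero i))
          (show 1 + i = i + 1 by omega) = _ from rfl)
        rw [Ext.comp_assoc_of_third_deg_zero]
        congr 1
        rw [Ext.comp_assoc_of_second_deg_zero, Ext.mk₀_comp_mk₀, hθ]
      have hPη : ∀ b : β → M, P (Psi η M h b) = Psi ζ M hJ b := by
        intro b
        rw [Psi_apply, Psi_apply, map_sum]
        refine Finset.sum_congr rfl fun k _ => ?_
        refine Eq.trans (b := (Ext.mk₀ q).comp ((η k).comp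
          (Ext.mk₀ (ModuleCat.ofHom (theta J' M h _))) (add_zero _)) (zero_add _)) rfl ?_
        rw [← Ext.comp_assoc_of_third_deg_zero, hη, Ext.comp_assoc_of_second_deg_zero, Ext.mk₀_comp_mk₀, hθ]
      refine ⟨(injective_iff_map_eq_zero _).mpr fun v hv => ?_, fun w => ?_⟩
      · rw [hcomm] at hv
        have h1 := congrArg P hv
        rw [map_add, hPD, zero_add, hPη, map_zero] at h1
        have hb : v ∘ Sum.inr = 0 := (hζ M hJ).1 (h1.trans (map_zero _).symm)
        rw [hb, map_zero, add_zero] at hv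
        have ha : v ∘ Sum.inl = 0 := (hξ M hJ).1 ((hDinj _ hv).trans (map_zero _).symm)
        funext k
        rcases k with k | k
        · exact congrFun ha k
        · exact congrFun hb k
      · obtain ⟨b, hb⟩ := (hζ M hJ).2 (P w)
        obtain ⟨z, hz⟩ := hexact (w - Psi η M h b) (by rw [map_sub, hPη, hb, sub_self])
        obtain ⟨a, ha⟩ := (hξ M hJ).2 z
        refine ⟨Sum.elim a b, ?_⟩
        rw [hcomm, Sum.elim_comp_inl, Sum.elim_comp_inr, ha, hz, sub_add_cancel]

/-- All degrees, for a module killed by `J`: let `A` be a commutative ring, `xs = (x_1, …, x_p)` a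
sequence in `A` such that each `x_i` is a non-zero-divisor on `A/(x_1, …, x_{i-1})`, `J` the ideal
generated by the `x_i`, and `M` an `A`-module with `JM = 0`. Then for every `i`, `Ext^i_A(A/J, M)`
is isomorphic as an `A`-module to `M^(p choose i)` (so it vanishes for `i > p`). (Existence of an
`A`-linear isomorphism only; the published one is `Ext^i_A(A/J, M) ≅ Hom_A(Λ^i(J/J^2), M)` with
`J/J^2` free of rank `p` over `A/J`.) -/
theorem result (A : Type u) [CommRing A] (xs : List A) (hreg : RingTheory.Sequence.IsWeaklyRegular A xs) (M : Type u) [AddCommGroup M] [Module A M] (hJM : Ideal.ofList xs • (⊤ : Submodule A M) = ⊥) (i : ℕ) : Nonempty (Abelian.Ext (ModuleCat.of A (A ⧸ Ideal.ofList xs)) (ModuleCat.of A M) i ≃ₗ[A] (Fin (xs.length.choose i) → M)) := by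
  classical
  obtain ⟨ι, _, hι, ξ, hξ⟩ := key A xs hreg i
  let e : ι ≃ Fin (xs.length.choose i) := Fintype.equivFinOfCardEq hι
  exact ⟨(LinearEquiv.ofBijective (Psi ξ M hJM) (hξ M hJM)).symm.trans (LinearEquiv.funCongrLeft A M e.symm)⟩

end Groth.Agent.S5666
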