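import Groth.Statements.S5670
import Groth.Agent.FEtLib.PushO
import Groth.Agent.FEtLib.Clopens

set_option autoImplicit false
universe u
open Pi1

namespace Groth.Agent.S5670

open CategoryTheory CategoryTheory.Limits AlgebraicGeometry in
/-- Let `f : X → Y` be a proper morphism of Noetherian schemes such that `O_Y → f_* O_X` is an
isomorphism (bijective on sections over every open of `Y`). Then for every connected finite étale
`Y'` over `Y`, the base change `X ×_Y Y'` is connected; equivalently, `f` induces a surjection on
étale fundamental groups. -/
theorem result {X Y Y' : Scheme.{u}} (f : X ⟶ Y) [IsProper f] [IsNoetherian X] [IsNoetherian Y] (hf : ∀ U : Y.Opens, Function.Bijective (f.app U)) (g : Y' ⟶ Y) [IsFinite g] [Etale g] [ConnectedSpace Y'] : ConnectedSpace ↥(pullback f g) := by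
  haveI := (Groth.Agent.FEtLib.fullyFaithful_of_bijective hf).1
  let W : FEt.Cat Y := MorphismProperty.Over.mk ⊤ g ⟨inferInstance, inferInstance⟩
  haveI : ConnectedSpace W.left := ‹ConnectedSpace Y'›
  haveI : ConnectedSpace ↥(Limits.pullback g f) := Groth.Agent.FEtLib.connectedSpace_restrict f
    (Groth.Agent.FEtLib.meetsClopens_of_bijective hf) (Groth.Agent.FEtLib.clopensDescend_of_full f) W
  exact (Limits.pullbackSymmetry g f).hom.homeomorph.surjective.connectedSpace
    (Limits.pullbackSymmetry g f).hom.continuous

end Groth.Agent.S5670
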