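import Groth.Statements.S5672
import Groth.Agent.GorLib.LocalDuality
import Groth.Agent.GorLib.Ring
import Groth.Agent.CanonLib.DepthTwo
import Groth.Agent.LocCohLib.ExtComp

set_option autoImplicit false
set_option backward.isDefEq.respectTransparency false
set_option linter.style.haveILetI false
universe u
open CategoryTheory
open Dual

namespace Groth.Agent.S5672

theorem subsingleton_ext_below {A : Type u} [CommRing A] [IsRegularLocalRing A] (p : ℕ) (J : Ideal A)
    (hJ : ringKrullDim (A ⧸ J) + p ≤ ringKrullDim A) (N : Type u) [AddCommGroup N] [Module A N] [Module.Finite A N]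
    (hN : ∀ a ∈ J, ∀ x : N, a • x = 0) (i : ℕ) (hi : i < p) :
    Subsingleton (Abelian.Ext (ModuleCat.of A N) (ModuleCat.of A A) i) := by
  obtain ⟨d, hd⟩ := Groth.Agent.RegLocal.exists_nat_ringKrullDim A
  rcases subsingleton_or_nontrivial N with hs | hs
  · exact subsingleton_of_forall_eq 0 fun x => by
      have h : 𝟙 (ModuleCat.of A N) = 0 := ModuleCat.hom_ext (LinearMap.ext fun z => Subsingleton.elim _ _)
      rw [← Abelian.Ext.mk₀_id_comp x, h, Abelian.Ext.mk₀_zero, Abelian.Ext.zero_comp]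
  have h1 := Groth.Agent.CanonLib.supportDim_le_of_annihilates J hN
  obtain ⟨s, hs'⟩ : ∃ s : ℕ, Module.supportDim A N = s := by
    have hne := (Module.supportDim_ne_bot_iff_nontrivial A N).2 hs
    have hle := (Module.supportDim_le_ringKrullDim A N).trans_eq hd
    cases hN' : Module.supportDim A N with
    | bot => exact absurd hN' hne
    | coe z =>
      rw [hN'] at hle
      obtain ⟨s, rfl⟩ := ENat.ne_top_iff_exists.1 (ne_top_of_le_ne_top (ENat.coe_ne_top d) (WithBot.coe_le_coe.1 hle))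
      exact ⟨s, rfl⟩
  have h2 : ((s + p : ℕ) : WithBot ℕ∞) ≤ ((d : ℕ) : WithBot ℕ∞) := by
    push_cast
    exact le_trans (add_le_add (hs' ▸ h1) le_rfl) (hd ▸ hJ)
  replace h2 : s + p ≤ d := by exact_mod_cast h2
  refine (Groth.Agent.GorLib.subsingleton_H_iff_ext (Groth.Agent.GorLib.gorensteinLocal_of_regular A) hd N (d - i) i (by omega)).1 ?_
  exact Groth.Agent.LocCohLib.subsingleton_of_supportDim_lt _ N (d - i) (by rw [hs']; exact_mod_cast (show s < d - i by omega))

theorem eq_zero_of_forall {A : Type u} [CommRing A] (J : Ideal A) (p : ℕ) {n : ℕ}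
    (ξ : Abelian.Ext (ModuleCat.of A (Fin n → A ⧸ J)) (ModuleCat.of A A) p)
    (h : ∀ i : Fin n, (Abelian.Ext.mk₀ (ModuleCat.ofHom (LinearMap.single A (fun _ : Fin n => A ⧸ J) i))).comp ξ (zero_add p) = 0) :
    ξ = 0 := by
  have hid : 𝟙 (ModuleCat.of A (Fin n → A ⧸ J)) = ∑ i : Fin n,
      ModuleCat.ofHom (LinearMap.proj i) ≫ ModuleCat.ofHom (LinearMap.single A (fun _ : Fin n => A ⧸ J) i) := by
    refine ModuleCat.hom_ext (LinearMap.ext fun x => ?_)
    simp [ModuleCat.hom_sum, LinearMap.sum_apply, Finset.univ_sum_single]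
  rw [← Abelian.Ext.mk₀_id_comp ξ, hid, Abelian.Ext.mk₀_sum, Abelian.Ext.sum_comp]
  refine Finset.sum_eq_zero fun i _ => ?_
  rw [← Abelian.Ext.mk₀_comp_mk₀, Abelian.Ext.comp_assoc_of_second_deg_zero, h i, Abelian.Ext.comp_zero]

theorem exists_pi_surjective {A : Type u} [CommRing A] (J : Ideal A) (N : Type u) [AddCommGroup N] [Module A N]
    [Module.Finite A N] (hN : ∀ a ∈ J, ∀ x : N, a • x = 0) :
    ∃ (n : ℕ) (q : (Fin n → A ⧸ J) →ₗ[A] N), Function.Surjective q := by
  obtain ⟨n, π, hπ⟩ := Module.Finite.exists_fin' A N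
  refine ⟨n, ∑ i, Submodule.liftQ J (LinearMap.toSpanSingleton A N (π (Pi.single i 1)))
    (fun a ha => LinearMap.mem_ker.2 (hN a ha _)) ∘ₗ LinearMap.proj i, fun y => ?_⟩
  obtain ⟨x, rfl⟩ := hπ y
  refine ⟨fun i => Submodule.Quotient.mk (x i), ?_⟩
  simp only [LinearMap.sum_apply, LinearMap.comp_apply, LinearMap.proj_apply, Submodule.liftQ_apply,
    LinearMap.toSpanSingleton_apply, ← map_smul, ← map_sum]
  congr 1
  funext j
  simp [Pi.single_apply]

theorem injective_aux {A : Type u} [CommRing A] [IsRegularLocalRing A] (p : ℕ) (J : Ideal A)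
    (hJ : ringKrullDim (A ⧸ J) + p ≤ ringKrullDim A) (N : Type u) [AddCommGroup N] [Module A N] [Module.Finite A N]
    (hN : ∀ a ∈ J, ∀ x : N, a • x = 0) (ξ : Abelian.Ext (ModuleCat.of A N) (ModuleCat.of A A) p)
    (h : ∀ u : (A ⧸ J) →ₗ[A] N, (Abelian.Ext.mk₀ (ModuleCat.ofHom u)).comp ξ (zero_add p) = 0) : ξ = 0 := by
  obtain ⟨n, q, hq⟩ := exists_pi_surjective J N hN
  let S := ShortComplex.mk (ModuleCat.ofHom (LinearMap.ker q).subtype) (ModuleCat.ofHom q)
    (ModuleCat.hom_ext (LinearMap.ext fun z => z.2))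
  have hS : S.ShortExact :=
    { exact := (ShortComplex.ShortExact.moduleCat_exact_iff_function_exact _).2 (LinearMap.exact_subtype_ker_map q)
      mono_f := (ModuleCat.mono_iff_injective _).2 Subtype.val_injective
      epi_g := (ModuleCat.epi_iff_surjective _).2 hq }
  have h0 : (Abelian.Ext.mk₀ S.g).comp ξ (zero_add p) = 0 := eq_zero_of_forall J p _ fun i => by
    rw [← Abelian.Ext.comp_assoc_of_second_deg_zero, Abelian.Ext.mk₀_comp_mk₀]
    exact h (q ∘ₗ LinearMap.single A (fun _ : Fin n => A ⧸ J) i)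
  rcases p with _ | p
  · obtain ⟨f, rfl⟩ := (Abelian.Ext.mk₀_bijective _ _).2 ξ
    rw [Abelian.Ext.mk₀_comp_mk₀] at h0
    haveI := hS.epi_g
    have h1 : S.g ≫ f = 0 := (Abelian.Ext.mk₀_bijective _ _).1 (h0.trans (Abelian.Ext.mk₀_zero _ _).symm)
    rw [(cancel_epi S.g).1 (h1.trans Limits.comp_zero.symm), Abelian.Ext.mk₀_zero]
  · obtain ⟨y, rfl⟩ := Abelian.Ext.contravariant_sequence_exact₃ hS _ ξ h0 (add_comm 1 p)
    haveI : Subsingleton (Abelian.Ext S.X₁ (ModuleCat.of A A) p) :=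
      subsingleton_ext_below (p + 1) J hJ (LinearMap.ker q) (fun a ha x => Subtype.ext
        (funext fun i => by
          obtain ⟨c, hc⟩ := Submodule.Quotient.mk_surjective _ (x.1 i)
          show a • x.1 i = 0
          rw [← hc, ← Submodule.Quotient.mk_smul, Submodule.Quotient.mk_eq_zero]
          exact J.mul_mem_right c ha)) p (Nat.lt_succ_self p)
    rw [Subsingleton.elim y 0, Abelian.Ext.comp_zero]

/-- Let `A` be a regular local ring of dimension `n`, `J` an ideal with `dim(A/J) ≤ n - p`, and `M` a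
finite `A`-module with `JM = 0`. For `ξ ∈ Ext^p_A(M, A)` and an `A`-linear `u : A/J → M` write `u^*ξ
∈ Ext^p_A(A/J, A)` for the pullback. Then `ξ ↦ (u ↦ u^*ξ)` is injective, and every `A`-linear map
`Hom_A(A/J, M) → Ext^p_A(A/J, A)` is of the form `u ↦ u^*ξ` for some `ξ`. Since `Hom_A(A/J, M) = M`
here, this says that the canonical map `Ext^p_A(M, A) → Hom_A(M, Ext^p_A(A/J, A))` is bijective. -/
theorem result (A : Type u) [CommRing A] [IsRegularLocalRing A] (p : ℕ) (J : Ideal A) (hJ : ringKrullDim (A ⧸ J) + p ≤ ringKrullDim A) (M : Type u) [AddCommGroup M] [Module A M] [Module.Finite A M] (hJM : J • (⊤ : Submodule A M) = ⊥) : Function.Injective (fun ξ : Abelian.Ext (ModuleCat.of A M) (ModuleCat.of A A) p => fun u : (A ⧸ J) →ₗ[A] M => (Abelian.Ext.mk₀ (ModuleCat.ofHom u)).comp ξ (zero_add p)) ∧ ∀ g : ((A ⧸ J) →ₗ[A] M) →ₗ[A] Abelian.Ext (ModuleCat.of A (A ⧸ J)) (ModuleCat.of A A) p, ∃ ξ : Abelian.Ext (ModuleCat.of A M) (ModuleCat.of A A) p, ∀ u : (A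 ⧸ J) →ₗ[A] M, g u = (Abelian.Ext.mk₀ (ModuleCat.ofHom u)).comp ξ (zero_add p) := by
  classical
  have hM : ∀ a ∈ J, ∀ x : M, a • x = 0 := fun a ha x => by
    have := Submodule.smul_mem_smul ha (Submodule.mem_top (R := A) (x := x))
    rwa [hJM, Submodule.mem_bot] at this
  refine ⟨fun ξ ξ' h => sub_eq_zero.1 (injective_aux p J hJ M hM _ fun u => ?_), fun g => ?_⟩
  · rw [sub_eq_add_neg, Abelian.Ext.comp_add, Abelian.Ext.comp_neg, show (Abelian.Ext.mk₀ (ModuleCat.ofHom u)).comp ξ (zero_add p) = _ from congrFun h u, add_neg_cancel]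
  obtain ⟨n, q, hq⟩ := exists_pi_surjective J M hM
  let ξ0 : Abelian.Ext (ModuleCat.of A (Fin n → A ⧸ J)) (ModuleCat.of A A) p :=
    ∑ i, (Abelian.Ext.mk₀ (ModuleCat.ofHom (LinearMap.proj i))).comp (g (q ∘ₗ LinearMap.single A (fun _ : Fin n => A ⧸ J) i)) (zero_add p)
  have hdec : ∀ u : (A ⧸ J) →ₗ[A] (Fin n → A ⧸ J),
      (Abelian.Ext.mk₀ (ModuleCat.ofHom u)).comp ξ0 (zero_add p) = g (q ∘ₗ u) := fun u => by
    choose c hc using fun i => Submodule.Quotient.mk_surjective J (u (Submodule.Quotient.mk 1) i)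
    have hw : ∀ i, LinearMap.proj i ∘ₗ u = c i • (LinearMap.id : (A ⧸ J) →ₗ[A] (A ⧸ J)) := fun i =>
      Submodule.linearMap_qext _ (LinearMap.ext_ring (by
        show u (Submodule.Quotient.mk 1) i = c i • (Submodule.Quotient.mk 1 : A ⧸ J)
        rw [← hc i, ← Submodule.Quotient.mk_smul, smul_eq_mul, mul_one]))
    have hu : u = ∑ i, c i • LinearMap.single A (fun _ : Fin n => A ⧸ J) i := by
      refine LinearMap.ext fun x => funext fun j => ?_
      have h := LinearMap.congr_fun (hw j) x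
      simp only [LinearMap.comp_apply, LinearMap.proj_apply, LinearMap.smul_apply, LinearMap.id_apply] at h
      simp [h, LinearMap.sum_apply, Pi.single_apply]
    have hlhs : (Abelian.Ext.mk₀ (ModuleCat.ofHom u)).comp ξ0 (zero_add p) =
        ∑ i, c i • g (q ∘ₗ LinearMap.single A (fun _ : Fin n => A ⧸ J) i) := by
      rw [Abelian.Ext.comp_sum]
      refine Finset.sum_congr rfl fun i _ => ?_
      rw [← Abelian.Ext.comp_assoc_of_second_deg_zero, Abelian.Ext.mk₀_comp_mk₀, ← ModuleCat.ofHom_comp, hw i,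
        show ModuleCat.ofHom (c i • (LinearMap.id : (A ⧸ J) →ₗ[A] (A ⧸ J))) = c i • 𝟙 (ModuleCat.of A (A ⧸ J)) from rfl,
        Abelian.Ext.mk₀_smul, Abelian.Ext.smul_comp, Abelian.Ext.mk₀_id_comp]
    rw [hlhs, hu, show q ∘ₗ (∑ i, c i • LinearMap.single A (fun _ : Fin n => A ⧸ J) i) = ∑ i, q ∘ₗ (c i • LinearMap.single A (fun _ : Fin n => A ⧸ J) i) from LinearMap.ext fun z => by simp [LinearMap.sum_apply], map_sum]
    exact Finset.sum_congr rfl fun i _ => by rw [LinearMap.comp_smul, map_smul]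
  let S := ShortComplex.mk (ModuleCat.ofHom (LinearMap.ker q).subtype) (ModuleCat.ofHom q)
    (ModuleCat.hom_ext (LinearMap.ext fun z => z.2))
  have hS : S.ShortExact :=
    { exact := (ShortComplex.ShortExact.moduleCat_exact_iff_function_exact _).2 (LinearMap.exact_subtype_ker_map q)
      mono_f := (ModuleCat.mono_iff_injective _).2 Subtype.val_injective
      epi_g := (ModuleCat.epi_iff_surjective _).2 hq }
  have hK : ∀ a ∈ J, ∀ x : LinearMap.ker q, a • x = 0 := fun a ha x => Subtype.ext (funext fun i => by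
    obtain ⟨c, hc⟩ := Submodule.Quotient.mk_surjective _ (x.1 i)
    show a • x.1 i = 0
    rw [← hc, ← Submodule.Quotient.mk_smul, Submodule.Quotient.mk_eq_zero]
    exact J.mul_mem_right c ha)
  have h0 : (Abelian.Ext.mk₀ S.f).comp ξ0 (zero_add p) = 0 :=
    injective_aux p J hJ (LinearMap.ker q) hK _ fun u => by
      rw [← Abelian.Ext.comp_assoc_of_second_deg_zero, Abelian.Ext.mk₀_comp_mk₀]
      refine (hdec ((LinearMap.ker q).subtype ∘ₗ u)).trans ?_
      rw [show q ∘ₗ (LinearMap.ker q).subtype ∘ₗ u = 0 from LinearMap.ext fun x => (u x).2, map_zero]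
  obtain ⟨ξ, hξ⟩ := Abelian.Ext.contravariant_sequence_exact₂ hS _ ξ0 h0
  refine ⟨ξ, fun v => ?_⟩
  obtain ⟨x, hx⟩ := hq (v (Submodule.Quotient.mk 1))
  let u : (A ⧸ J) →ₗ[A] (Fin n → A ⧸ J) := Submodule.liftQ J (LinearMap.toSpanSingleton A _ x) fun a ha =>
    LinearMap.mem_ker.2 (funext fun i => by
      obtain ⟨c, hc⟩ := Submodule.Quotient.mk_surjective _ (x i)
      show a • x i = 0
      rw [← hc, ← Submodule.Quotient.mk_smul, Submodule.Quotient.mk_eq_zero]
      exact J.mul_mem_right c ha)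
  have hv : q ∘ₗ u = v := Submodule.linearMap_qext _ (LinearMap.ext_ring (by
    show q (Submodule.liftQ J (LinearMap.toSpanSingleton A (Fin n → A ⧸ J) x) _ (Submodule.Quotient.mk 1)) = v (Submodule.Quotient.mk 1)
    rw [Submodule.liftQ_apply, LinearMap.toSpanSingleton_apply, one_smul, hx]))
  rw [← hv, ← hdec u, ← hξ, ← Abelian.Ext.comp_assoc_of_second_deg_zero, Abelian.Ext.mk₀_comp_mk₀]
  rfl

end Groth.Agent.S5672
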