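import Groth.Statements.S5674
import Groth.Agent.S11919
import Groth.Agent.S5671
import Groth.Agent.ExtShLib.Local
import Groth.Agent.ExtShLib.SerreAbut
import Groth.Agent.ProjSerreLib.Codim
import Groth.Agent.JacEquidimLib.Over
import Groth.Agent.PullbackMod.SuppClosed
import Groth.Agent.ASp.GeomRedEt
import Groth.Agent.AmpleFamLib.TopVan
import Groth.Agent.S2768
import Groth.Agent.DimFormulaLib.Field
-- import your own Groth.Agent.* helpers here

set_option autoImplicit false
universe u
open CategoryTheory CategoryTheory.Limits AlgebraicGeometry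
open ProjDual

namespace Groth.Agent.S5674

set_option backward.isDefEq.respectTransparency false
set_option linter.style.haveILetI false

/-- Let `k` be an algebraically closed field, `X` a nonsingular algebraic set of dimension `n` over `k`
— here: a quasi-compact `k`-scheme smooth of relative dimension `n` over `k` — `F` a coherent
`O_X`-module whose support has dimension at most `n - p`, and `L` a finite locally free
`O_X`-module. Then the (global) groups `Ext^i_{O_X}(F, L)` vanish for `i < p`. (All components of
`X` have dimension `n`; for a nonsingular algebraic set with a component of smaller dimension the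
conclusion fails. The Ext instance on the category of `O_X`-modules is taken as a hypothesis; it
holds since that category is Grothendieck abelian.) -/
theorem result (k : Type u) [Field k] [IsAlgClosed k] (n : ℕ) (X : Scheme.{u}) [X.Over (Spec (CommRingCat.of k))] [SmoothOfRelativeDimension n (X ↘ Spec (CommRingCat.of k))] [CompactSpace X] [HasExt.{u} X.Modules] (F : X.Modules) (hF : Coh.IsCoh F) (L : X.Modules) (hL : FlatMod.IsFinLocFree L) (p : ℕ) (hsupp : topologicalKrullDim ↥(CohB1.support F) + p ≤ n) (i : ℕ) (hi : i < p) : Subsingleton (Abelian.Ext F L i) := by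
  let g := X ↘ Spec (CommRingCat.of k)
  haveI : Smooth g := SmoothOfRelativeDimension.smooth n g
  haveI : IsLocallyNoetherian X := LocallyOfFiniteType.isLocallyNoetherian g
  haveI : JacobsonSpace X := LocallyOfFiniteType.jacobsonSpace g
  haveI : ModSite.HasSheafHom (O := X.sheaf) F := ModTensor.hasSheafHom (O := X.sheaf) F
  haveI : EnoughInjectives (ModSite.Mod X.sheaf) := SiteBase.enoughInjectives_sheafOfModules _
  haveI : HasInjectiveResolutions (ModSite.Mod X.sheaf) := inferInstance
  have hz : ∀ q, q < p → IsZero ((ModSite.extSh (O := X.sheaf) F q).obj L : X.Modules) := fun q hq => by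
    refine ProjSerreLib.isZero_of_closed_stalks_jacobson
      (ExtShLib.isCoh_extS _ hF _ (DCohLib.isCoh_of_isFinLocFree hL) q) fun x hx => ?_
    obtain ⟨e⟩ := ExtVanLib.stalk_extSh_equiv F hF L x q
    refine e.subsingleton_congr.2 ?_
    haveI : IsRegularLocalRing (X.presheaf.stalk x) := ASp.isRegularLocalRing_stalk_of_smooth_field g x
    obtain ⟨hfree, hfin⟩ := DCohLib.free_finite_stalk_of_flf hL x
    haveI := hfree
    haveI := hfin
    haveI := hF.1
    haveI := PullbackMod.finite_stalk_of_isFT hF.2 x
    refine ProjSerreLib.subsingleton_ext_free _ _ q (S5671.result _ _ p ?_ q hq)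
    have hd : ringKrullDim (X.presheaf.stalk x) = (n : WithBot ℕ∞) :=
      (DimFormulaLib.localDim_eq_of_isClosed g x hx).symm.trans (S2768.localDim_eq n g x)
    rw [hd, JacEquidimLib.supportDim_stalk_eq (PullbackMod.isClosed_support_of_isFT hF.2) x]
    refine le_trans (add_le_add ?_ le_rfl) hsupp
    exact ((Topology.IsInducing.subtypeVal.codRestrict (s := CohB1.support F) fun t => t.2.1) :
      Topology.IsInducing (fun t : {t : X | t ∈ CohB1.support F ∧ t ⤳ x} => (⟨t.1, t.2.1⟩ : CohB1.support F))).topologicalKrullDim_le
  obtain ⟨E, a, hfin, -, hE⟩ := S11919.result X F L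
  have hH := ExtShLib.isZero_abutment a (i : ℤ) (hfin i) fun r => ?_
  · rw [if_pos (Int.natCast_nonneg i), Int.toNat_natCast] at hH
    exact AddCommGrpCat.subsingleton_of_isZero hH
  · obtain ⟨e⟩ := hE r ((i : ℤ) - r)
    refine IsZero.of_iso ?_ e
    split
    · haveI := AmpleFamLib.subsingleton_HH_of_isZero (hz ((i : ℤ) - r).toNat (by omega)) r.toNat
      exact AddCommGrpCat.isZero_of_subsingleton _
    · exact isZero_zero _

end Groth.Agent.S5674
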