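import Groth.Statements.S5675
import Mathlib
import Groth.Agent.NormDetLib.SplitWedge
import Groth.Agent.NormDetLib.RegSeqCot
import Groth.Agent.NormDetLib.ExtTwist
import Groth.Agent.DeRhamLib.BaseChange

set_option autoImplicit false
universe u
open CategoryTheory
open Dual

open scoped TensorProduct
namespace Groth.Agent.S5675

/-- Let `k` be a perfect field, `A` a regular affine `k`-algebra of dimension `n` — here: `A` finitely
generated and smooth over `k` with `Ω_{A/k}` of rank `n` at every prime — and `xs = (x_1, …, x_p)`,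
`p ≤ n`, a sequence with each `x_i` a non-zero-divisor on `A/(x_1, …, x_{i-1})`, generating an ideal
`J` such that `A/J` is again a regular (smooth) affine `k`-algebra. Write `Ω^m` for `m`-th exterior
powers of Kähler differentials. Then `Ext^p_A(Ω^(n-p)(A/J), Ω^n(A))` is isomorphic to `A/J` as an
`A`-module. (Existence of an `A`-linear isomorphism only; the published one is canonical and
compatible with localisation, its unit being the fundamental class of `J` in `A`.) -/
theorem result (k : Type u) [Field k] [PerfectField k] (A : Type u) [CommRing A] [Algebra k A] [Algebra.FiniteType k A] [Algebra.Smooth k A] (n : ℕ) (hn : ∀ q : PrimeSpectrum A, Module.rankAtStalk (Ω[A⁄k]) q = n) (xs : List A) (hreg : RingTheory.Sequence.IsWeaklyRegular A xs) (J : Ideal A) (hJ : Ideal.ofList xs = J) [Algebra.Smooth k (A ⧸ J)] (p : ℕ) (hp : xs.length = p) (hpn : p ≤ n) : Nonempty (Abelian.Ext (ModuleCat.of A ↥((⋀[A ⧸ J]^(n - p) (Ω[(A ⧸ J)⁄k])).restrictScalars A)) (ModuleCat.of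 A ↥(⋀[A]^n (Ω[A⁄k]))) p ≃ₗ[A] (A ⧸ J)) := by
  classical
  subst hp
  obtain ⟨m, rfl⟩ := Nat.exists_eq_add_of_le hpn
  rw [Nat.add_sub_cancel_left]
  subst hJ
  let J := Ideal.ofList xs
  let B := A ⧸ J
  let F : Fin xs.length → A := fun i => xs[i.1]
  have hF : J = Ideal.span (Set.range F) := by
    show Ideal.span _ = _
    congr 1
    ext x
    simp [F, List.mem_iff_getElem, Fin.exists_iff]
  have hregF : RingTheory.Sequence.IsWeaklyRegular A (List.ofFn F) := by rwa [List.ofFn_getElem]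
  have hsurj : Function.Surjective (algebraMap A B) := Ideal.Quotient.mk_surjective
  have hker : RingHom.ker (algebraMap A B) = Ideal.span (Set.range F) := Ideal.mk_ker.trans hF
  let κ := KaehlerDifferential.kerCotangentToTensor k A B
  obtain ⟨l, hl⟩ := (Algebra.FormallySmooth.iff_split_injection (R := k) (P := A) (A := B) hsurj).1 inferInstance
  let ξ := NormDetLib.cotGen F _ hker
  let q := Fintype.linearCombination A ξ
  let μ : (Fin xs.length → A) →ₗ[A] (Fin xs.length → B) :=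
    LinearMap.pi fun i => (Algebra.linearMap A B) ∘ₗ LinearMap.proj i
  have hμ : LinearMap.ker q ≤ LinearMap.ker μ := fun c hc => funext fun i =>
    (RingHom.mem_ker).1 (NormDetLib.mem_of_cotGen_eq_zero F _ hker hregF hc i)
  let coef : _ →ₗ[A] (Fin xs.length → B) := (LinearMap.ker q).liftQ μ hμ ∘ₗ
    (LinearMap.quotKerEquivOfSurjective q (NormDetLib.cotGen_surjective F _ hker)).symm.toLinearMap
  have hcoef : ∀ c, coef (q c) = μ c := fun c => by
    simp only [coef, LinearMap.coe_comp, Function.comp_apply, LinearEquiv.coe_coe]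
    rw [show (LinearMap.quotKerEquivOfSurjective q (NormDetLib.cotGen_surjective F _ hker)).symm (q c) =
      Submodule.Quotient.mk c from (LinearEquiv.symm_apply_eq _).2 rfl]
    rfl
  let ρ : (B ⊗[A] Ω[A⁄k]) →ₗ[B] (Fin xs.length → B) := LinearMap.extendScalarsOfSurjective hsurj (coef ∘ₗ l)
  let u : Fin xs.length → (B ⊗[A] Ω[A⁄k]) := fun j => κ (ξ j)
  have hρu : ∀ j, ρ (u j) = Pi.single j 1 := fun j => by
    show coef (l (κ (ξ j))) = _
    rw [show l (κ (ξ j)) = ξ j from LinearMap.congr_fun hl _,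
      show ξ j = q (Pi.single j 1) by simp [q], hcoef]
    funext i
    simp [μ, Pi.single_apply, apply_ite (algebraMap A B)]
  have hρc : ∀ c : Fin xs.length → B, ρ (∑ j, c j • u j) = c := fun c => by
    rw [map_sum]
    simp only [map_smul, hρu]
    funext i
    simp [Finset.sum_apply, Pi.single_apply]
  let π : (B ⊗[A] Ω[A⁄k]) →ₗ[B] Ω[B⁄k] := KaehlerDifferential.mapBaseChange k A B
  have hex := KaehlerDifferential.exact_kerCotangentToTensor_mapBaseChange k A B hsurj
  have hπu : ∀ c : Fin xs.length → B, π (∑ j, c j • u j) = 0 := fun c => by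
    rw [map_sum]
    exact Finset.sum_eq_zero fun j _ => by rw [map_smul, hex.apply_apply_eq_zero, smul_zero]
  let T₀ : (B ⊗[A] Ω[A⁄k]) →ₗ[B] (B ⊗[A] Ω[A⁄k]) :=
    LinearMap.id - ∑ j, (LinearMap.proj j ∘ₗ ρ).smulRight (u j)
  have hT₀ : ∀ z, T₀ z = z - ∑ j, ρ z j • u j := fun z => by simp [T₀]
  have hkill : ∀ z, π z = 0 → T₀ z = 0 := fun z hz => by
    obtain ⟨y, rfl⟩ := (hex z).1 hz
    obtain ⟨c, rfl⟩ := NormDetLib.cotGen_surjective F _ hker y
    have hz' : κ (Fintype.linearCombination A ξ c) = ∑ j, algebraMap A B (c j) • u j := by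
      simp only [Fintype.linearCombination_apply, map_sum, map_smul, u, algebraMap_smul]
    rw [hT₀, hz', hρc, sub_self]
  obtain ⟨s₀, hs₀⟩ := Module.projective_lifting_property π LinearMap.id
    (KaehlerDifferential.mapBaseChange_surjective k A B hsurj)
  have hs₀' : ∀ z, π (s₀ z) = z := fun z => LinearMap.congr_fun hs₀ z
  obtain ⟨eΩ⟩ := NormDetLib.nonempty_topPower_equiv_of_split (R := B) (p := xs.length) (m := m)
    (fun q => (Module.rankAtStalk_baseChange q).trans (hn _)) π (T₀ ∘ₗ s₀)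
    (fun z => by rw [LinearMap.comp_apply, hT₀, map_sub, hπu, sub_zero, hs₀'])
    u ρ
    (fun z => by
      have h : T₀ (s₀ (π z) - z) = 0 := hkill _ (by rw [map_sub, hs₀', sub_self])
      rw [map_sub, sub_eq_zero] at h
      rw [LinearMap.comp_apply, h, hT₀, add_sub_cancel])
    (fun c hc => by rw [← hρc c, hc, map_zero])
    hπu
  obtain ⟨N, π₁, hπ₁⟩ := Module.Finite.exists_fin' A Ω[A⁄k]
  obtain ⟨s₁, hs₁⟩ := Module.projective_lifting_property π₁ LinearMap.id hπ₁
  haveI : Module.Projective A ↥(⋀[A]^(xs.length + m) Ω[A⁄k]) := Module.Projective.of_split (exteriorPower.map _ s₁) (exteriorPower.map _ π₁)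
    (by rw [← exteriorPower.map_comp, hs₁, exteriorPower.map_id])
  let bc : B ⊗[A] ↥(⋀[A]^(xs.length + m) Ω[A⁄k]) ≃ₗ[B] ↥(⋀[B]^(xs.length + m) (B ⊗[A] Ω[A⁄k])) :=
    (DeRhamLib.isBaseChange_extMap (TensorProduct.isBaseChange A Ω[A⁄k] B) (xs.length + m)).equiv
  let eL : ↥((⋀[B]^m Ω[B⁄k]).restrictScalars A) ≃ₗ[A] (↥(⋀[A]^(xs.length + m) Ω[A⁄k]) ⧸ (J • ⊤ : Submodule A ↥(⋀[A]^(xs.length + m) Ω[A⁄k]))) :=
    (((Submodule.restrictScalarsEquiv A B _ _).trans (eΩ.trans bc.symm)).restrictScalars A).trans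
      (TensorProduct.quotTensorEquivQuotSMul ↥(⋀[A]^(xs.length + m) Ω[A⁄k]) J)
  let iL := eL.toModuleIso
  let i : Abelian.Ext (ModuleCat.of A ↥((⋀[B]^m Ω[B⁄k]).restrictScalars A)) (ModuleCat.of A ↥(⋀[A]^(xs.length + m) Ω[A⁄k])) xs.length ≃ₗ[A]
      Abelian.Ext (ModuleCat.of A (↥(⋀[A]^(xs.length + m) Ω[A⁄k]) ⧸ (J • ⊤ : Submodule A ↥(⋀[A]^(xs.length + m) Ω[A⁄k])))) (ModuleCat.of A ↥(⋀[A]^(xs.length + m) Ω[A⁄k])) xs.length :=
    LinearEquiv.ofLinear ((Abelian.Ext.mk₀ iL.inv).precompOfLinear A (ModuleCat.of A ↥(⋀[A]^(xs.length + m) Ω[A⁄k])) (zero_add _))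
      ((Abelian.Ext.mk₀ iL.hom).precompOfLinear A (ModuleCat.of A ↥(⋀[A]^(xs.length + m) Ω[A⁄k])) (zero_add _))
      (by ext z; simp) (by ext z; simp)
  obtain ⟨eEnd⟩ := NormDetLib.nonempty_end_equiv (R := A) (Q := ↥(⋀[A]^(xs.length + m) Ω[A⁄k])) fun q hq => by
    haveI := hq.isPrime
    obtain ⟨f, hf, ⟨G⟩⟩ := NormDetLib.exists_frame (A := A) (B := A) Ω[A⁄k] (xs.length + m) hn q
    exact ⟨f, hf, _, (G.cast (Algebra.algebraMap_self_apply f)).isGen_top (pow_one f).symm (Equiv.refl _)⟩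
  obtain ⟨eExt⟩ := NormDetLib.ext_reduction_self A _ xs hreg eEnd
  exact ⟨i.trans eExt⟩

end Groth.Agent.S5675
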