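import Groth.Statements.S5678
import Groth.Agent.TorSet.Open

set_option autoImplicit false
universe u
open CategoryTheory CategoryTheory.Limits MonoidalCategory CartesianMonoidalCategory MonObj GrpObj AlgebraicGeometry
open FGA

namespace Groth.Agent.S5678

/-- Let S be a locally Noetherian scheme and G a commutative group scheme locally of finite type over S.
If the union of the connected components of the identity in the fibres of G is closed in G, then so
is the set of points x of G such that some power x^n, n ≥ 1, lies in that union. -/
theorem result (S : Scheme.{u}) [IsLocallyNoetherian S] (G : Over S) [GrpObj G]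
    [IsCommMonObj G] [LocallyOfFiniteType G.hom] (h0 : IsClosed (SGA3x.neutralSet G)) :
    IsClosed {x : ↥G.left | ∃ n : ℕ, 0 < n ∧ ((𝟙 G : G ⟶ G) ^ n).left.base x ∈ SGA3x.neutralSet G} := by
  rw [TorSet.setOf_exists_eq]
  refine TorSet.isClosed_of_local fun y => ?_
  obtain ⟨W, N, hyW, hN, hb⟩ := TorSet.exists_local_bound (G := G) y
  refine ⟨W, _, hyW, TorSet.isClosed_pw h0 N,
    fun x hx => (TorSet.pw_mem_iff G x N).2 (hb x hx.2 hx.1), fun x hx h => ?_⟩
  have h' := (TorSet.pw_mem_iff G x N).1 hx.1
  rw [h, zero_dvd_iff] at h'
  omega

end Groth.Agent.S5678
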