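import Groth.Statements.S5679
import Groth.Agent.Neutral.Generic
-- import your own Groth.Agent.* helpers here

set_option autoImplicit false
set_option backward.isDefEq.respectTransparency false
set_option linter.style.haveILetI false
universe u
open CategoryTheory CategoryTheory.Limits MonoidalCategory CartesianMonoidalCategory MonObj GrpObj AlgebraicGeometry
open FGA

namespace Groth.Agent.S5679

/-- Let S be a nonempty locally Noetherian scheme and G a group scheme locally of finite type over S.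
Then there are a nonempty open subset U of S, a group scheme H of finite type over U with connected
fibres, and a homomorphism from H to the base change of G to U which is an open immersion and whose
image in G is the set of points lying over U in the union of the connected components of the
identity of the fibres of G. -/
theorem result (S : Scheme.{u}) [IsLocallyNoetherian S] [Nonempty ↥S]
    (G : Over S) [GrpObj G] [LocallyOfFiniteType G.hom] :
    ∃ U : S.Opens, (U : Set ↥S).Nonempty ∧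
      ∃ (H : Over (U : Scheme.{u})) (_ : GrpObj H) (i : H ⟶ Red.bc U.ι G), IsMonHom i ∧ IsOpenImmersion i.left ∧
        QuasiCompact H.hom ∧ LocallyOfFiniteType H.hom ∧
        (∀ u : ↥(U : Scheme.{u}), _root_.IsConnected (H.hom.base ⁻¹' {u})) ∧
        Set.range (i.left ≫ pullback.fst G.hom U.ι).base = SGA3x.neutralSet G ∩ G.hom.base ⁻¹' (U : Set ↥S) := by
  obtain ⟨V₀, hV₀, hx₀, -⟩ := exists_isAffineOpen_mem_and_subset (X := S) (x := Classical.arbitrary S) (U := ⊤) trivial
  haveI : IsAffine (V₀ : Scheme) := hV₀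
  haveI : IsNoetherian (V₀ : Scheme) := { }
  have hfin := TopologicalSpace.NoetherianSpace.finite_irreducibleComponents (α := ↥(V₀ : Scheme))
  let z₀ : (V₀ : Scheme) := ⟨_, hx₀⟩
  let C := irreducibleComponent z₀
  have hC : C ∈ irreducibleComponents ↥(V₀ : Scheme) := irreducibleComponent_mem_irreducibleComponents z₀
  let O : Set (V₀ : Scheme) := (⋃ Z ∈ irreducibleComponents ↥(V₀ : Scheme) \ {C}, Z)ᶜ
  have hO : IsOpen O :=
    ((hfin.subset Set.diff_subset).isClosed_biUnion fun Z hZ => isClosed_of_mem_irreducibleComponents Z hZ.1).isOpen_compl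
  have hOne : O.Nonempty := by
    obtain ⟨ξ, hξ⟩ := QuasiSober.sober hC.1 (isClosed_of_mem_irreducibleComponents C hC)
    refine ⟨ξ, fun h => ?_⟩
    obtain ⟨Z, hZ, hξZ⟩ := Set.mem_iUnion₂.1 h
    have hCZ : C ⊆ Z := by
      rw [← hξ.def]
      exact closure_minimal (Set.singleton_subset_iff.2 hξZ) (isClosed_of_mem_irreducibleComponents Z hZ.1)
    exact hZ.2 (Set.Subset.antisymm (hC.2 hZ.1.1 hCZ) hCZ)
  have hOC : O ⊆ C := fun z hz => by
    by_contra h
    exact hz (Set.mem_iUnion₂.2 ⟨irreducibleComponent z, ⟨irreducibleComponent_mem_irreducibleComponents z,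
      fun he => h (he ▸ mem_irreducibleComponent)⟩, mem_irreducibleComponent⟩)
  have hOirr : IsIrreducible O := by
    refine ⟨hOne, fun u v hu hv ⟨a, ha, hau⟩ ⟨b, hb, hbv⟩ => ?_⟩
    obtain ⟨x, hxC, ⟨hxu, hxv⟩, hxO⟩ := hC.1.2 u (v ∩ O) hu (hv.inter hO) ⟨a, hOC ha, hau⟩ ⟨b, hOC hb, hbv, hb⟩ |>.imp
      fun x hx => (⟨hx.1, ⟨hx.2.1, hx.2.2.1⟩, hx.2.2.2⟩ : x ∈ C ∧ (x ∈ u ∧ x ∈ v) ∧ x ∈ O)
    exact ⟨x, hxO, hxu, hxv⟩
  let T : S.Opens := V₀.ι ''ᵁ ⟨O, hO⟩
  have hTirr : IsIrreducible (T : Set S) := hOirr.image _ V₀.ι.continuous.continuousOn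
  haveI : IrreducibleSpace (T : Scheme) := by
    have := isIrreducible_iff_irreducibleSpace.1 hTirr
    exact this
  haveI : LocallyOfFiniteType (Red.bc T.ι G).hom := MorphismProperty.pullback_snd (P := @LocallyOfFiniteType) _ _ ‹_›
  obtain ⟨W, hWne, hW, hop, -⟩ := Neutral.exists_open_noetherian (Red.bc T.ι G)
  let U : S.Opens := T.ι ''ᵁ W
  have hU : IsAffineOpen U := hW.image_of_isOpenImmersion T.ι
  have hopG : IsOpen (SGA3x.neutralSet G ∩ G.hom ⁻¹' (U : Set S)) := by
    let π := pullback.fst G.hom T.ι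
    have : SGA3x.neutralSet G ∩ G.hom ⁻¹' (U : Set S) =
        π '' (SGA3x.neutralSet (Red.bc T.ι G) ∩ (Red.bc T.ι G).hom ⁻¹' (W : Set (T : Scheme))) := by
      have hsq : ∀ y, G.hom (π y) = T.ι ((Red.bc T.ι G).hom y) := fun y =>
        (congrArg (fun m : (Red.bc T.ι G).left ⟶ S => m y) pullback.condition :)
      rw [Neutral.neutralSet_bc]
      ext x
      constructor
      · rintro ⟨hx, t, ht, htx⟩
        obtain ⟨y, hy⟩ : x ∈ Set.range π := by
          rw [Scheme.Pullback.range_fst]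
          exact ⟨t, htx⟩
        refine ⟨y, ⟨show π y ∈ _ by rw [hy]; exact hx, ?_⟩, hy⟩
        show (Red.bc T.ι G).hom y ∈ W
        have : T.ι ((Red.bc T.ι G).hom y) = T.ι t := by rw [← hsq, hy]; exact htx.symm
        rwa [T.ι.isOpenEmbedding.injective this]
      · rintro ⟨y, ⟨hy, hyW⟩, rfl⟩
        exact ⟨hy, _, hyW, (hsq y).symm⟩
    rw [this]
    exact π.isOpenEmbedding.isOpenMap _ hop
  have hheU : ∀ t ∈ U, η[G].left t ∈ SGA3x.neutralSet G ∩ G.hom ⁻¹' (U : Set S) := fun t ht =>
    ⟨Neutral.unit_mem t, show G.hom (η[G].left t) ∈ U by rw [Neutral.hom_unit]; exact ht⟩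
  have hcomp := Neutral.isCompact_inter G ⟨_, hopG⟩ Set.inter_subset_left hU hheU
  refine ⟨U, hWne.image _, ?_⟩
  let π := pullback.fst G.hom U.ι
  have hsq : ∀ y, G.hom (π y) = U.ι ((Red.bc U.ι G).hom y) := fun y =>
    (congrArg (fun m : (Red.bc U.ι G).left ⟶ S => m y) pullback.condition :)
  have hN : SGA3x.neutralSet (Red.bc U.ι G) = π ⁻¹' (SGA3x.neutralSet G ∩ G.hom ⁻¹' (U : Set S)) := by
    rw [Neutral.neutralSet_bc]
    ext y
    exact ⟨fun hy => ⟨hy, show G.hom (π y) ∈ U by rw [hsq]; exact ((Red.bc U.ι G).hom y).2⟩, fun hy => hy.1⟩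
  obtain ⟨H, hH, i, hi, hio, hr⟩ := Neutral.exists_subgroup (Red.bc U.ι G) (hN ▸ hopG.preimage π.continuous)
  haveI : LocallyOfFiniteType (Red.bc U.ι G).hom := MorphismProperty.pullback_snd (P := @LocallyOfFiniteType) _ _ ‹_›
  haveI : IsAffine (U : Scheme) := hU
  have hπr : Set.range π = G.hom ⁻¹' (U : Set S) := by
    rw [Scheme.Pullback.range_fst, Scheme.Opens.range_ι]
  refine ⟨H, hH, i, hi, hio, ?_, ?_, fun v => ?_, ?_⟩
  · haveI : CompactSpace H.left := by
      refine ⟨?_⟩
      rw [i.left.isOpenEmbedding.isInducing.isCompact_iff, Set.image_univ, hr, hN,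
        π.isOpenEmbedding.isInducing.isCompact_iff, Set.image_preimage_eq_inter_range, hπr,
        Set.inter_assoc, Set.inter_self]
      exact hcomp
    exact quasiCompact_of_compactSpace _
  · rw [← Over.w i]
    infer_instance
  · have hi' : ∀ y, (Red.bc U.ι G).hom (i.left y) = H.hom y := fun y => (congrArg (fun m => m y) (Over.w i) :)
    have hset : H.hom ⁻¹' {v} = i.left ⁻¹' connectedComponentIn ((Red.bc U.ι G).hom ⁻¹' {v}) (η[Red.bc U.ι G].left v) := by
      ext y
      rw [Set.mem_preimage, Set.mem_preimage, ← OpenSubgrp.neutralSet_inter, Set.mem_inter_iff, ← hr]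
      exact ⟨fun h => ⟨⟨y, rfl⟩, (hi' y).trans h⟩, fun h => (hi' y).symm.trans h.2⟩
    show _root_.IsConnected (H.hom ⁻¹' {v})
    rw [hset]
    have hsub : connectedComponentIn ((Red.bc U.ι G).hom ⁻¹' {v}) (η[Red.bc U.ι G].left v) ⊆ Set.range i.left := by
      rw [← OpenSubgrp.neutralSet_inter]
      exact fun z hz => hr.ge hz.1
    exact (isConnected_connectedComponentIn_iff.2 (show η[Red.bc U.ι G].left v ∈ (Red.bc U.ι G).hom ⁻¹' {v} from Neutral.hom_unit (Red.bc U.ι G) v)).preimage_of_isOpenMap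
      i.left.isOpenEmbedding.injective i.left.isOpenEmbedding.isOpenMap hsub
  · show Set.range (π ∘ i.left) = _
    rw [Set.range_comp, hr, hN, Set.image_preimage_eq_inter_range, hπr, Set.inter_assoc, Set.inter_self]

end Groth.Agent.S5679
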