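import Groth.Statements.S5680
import Groth.Agent.PicInfLib.Thicken

set_option autoImplicit false
universe u
open CategoryTheory CategoryTheory.Limits AlgebraicGeometry
open FGA

namespace Groth.Agent.S5680

/-- Let A be an artinian local ring with maximal ideal m and ν ≥ 1 an integer with m^(ν+1) = 0; let X be
a scheme proper and flat over Spec A, n a natural number whose image in the residue field of A is
nonzero, L an invertible module on X and L' an invertible module on the closed subscheme X ×_A
Spec(A/m^ν) whose n-th tensor power is isomorphic to the pullback of L. Then there is an invertible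
module M on X whose n-th tensor power is isomorphic to L (existence of an isomorphism). -/
theorem result (A : Type u) [CommRing A] [IsArtinianRing A] [IsLocalRing A]
    (ν : ℕ) (hν : 1 ≤ ν) (hm : IsLocalRing.maximalIdeal A ^ (ν + 1) = ⊥)
    (X : Scheme.{u}) (f : X ⟶ Spec (CommRingCat.of A)) [IsProper f] [Flat f]
    (n : ℕ) (hn : (n : IsLocalRing.ResidueField A) ≠ 0)
    (L : X.Modules) (hL : PicF.IsInvertible L)
    (L' : (pullback f (Spec.map (CommRingCat.ofHom (Ideal.Quotient.mk (IsLocalRing.maximalIdeal A ^ ν))))).Modules)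
    (hL' : PicF.IsInvertible L')
    (hroot : Nonempty (CohB1.tensorPow L' n ≅
      (Scheme.Modules.pullback (pullback.fst f (Spec.map (CommRingCat.ofHom (Ideal.Quotient.mk (IsLocalRing.maximalIdeal A ^ ν)))))).obj L)) :
    ∃ M : X.Modules, PicF.IsInvertible M ∧ Nonempty (CohB1.tensorPow M n ≅ L) := by
  let I := IsLocalRing.maximalIdeal A ^ ν
  let q := Spec.map (CommRingCat.ofHom (Ideal.Quotient.mk I))
  have hI : I ^ 2 = ⊥ := le_bot_iff.1 ((pow_mul (IsLocalRing.maximalIdeal A) ν 2).symm.trans_le
    ((Ideal.pow_le_pow_right (show ν + 1 ≤ ν * 2 by omega)).trans hm.le))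
  let i := pullback.fst f q
  have hfo : MoreMor.IsFirstOrderThickening i :=
    ConormalLib.isFirstOrderThickening_of_isPullback (IsPullback.of_hasPullback f q).flip
      (ConormalLib.isFirstOrderThickening_spec A I hI)
  haveI : IsClosedImmersion i := hfo.1.1
  obtain ⟨δ₀, α, δ₁, -, hp, h₁⟩ := PicInf.exists_seq_of_closedImmersion i hfo.2
  have hnA : IsUnit (n : A) := by
    have h0 : IsUnit (IsLocalRing.residue A (n : A)) := by
      rw [map_natCast]
      exact isUnit_iff_ne_zero.2 hn
    exact isUnit_of_map_unit _ _ h0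
  have hnX : IsUnit (n : Γ(X, ⊤)) := by
    have := hnA.map ((f.appTop.hom.comp (Scheme.ΓSpecIso (CommRingCat.of A)).inv.hom))
    simpa using this
  have hb := fun p => PicInf.bijective_nsmul_HH (ClSub.idealMod i.ker) n hnX p
  let a₀ := PicLib.cls hL'
  let d := PicLib.cls hL
  have h0 : a₀ ^ n = PicLib.pull i d := by
    rw [← PicLib.cls_tensorPow hL', PicLib.pull_cls, PicLib.cls_eq_cls]
    exact hroot
  have h2 : δ₁ a₀ = 1 := by
    have h3 : δ₁ a₀ ^ n = 1 := by
      rw [← map_pow, h0, ← MonoidHom.mem_ker, h₁]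
      exact ⟨d, rfl⟩
    apply Multiplicative.toAdd.injective
    refine (hb 2).1 ?_
    show n • Multiplicative.toAdd (δ₁ a₀) = n • (0 : Coh.HH _ _ 2)
    rw [smul_zero, ← toAdd_pow, h3, toAdd_one]
  obtain ⟨c, hc⟩ : a₀ ∈ (PicLib.pull i).range := h₁ ▸ (MonoidHom.mem_ker.2 h2)
  obtain ⟨h, hh⟩ : c ^ n / d ∈ α.range := hp ▸ (by
    rw [MonoidHom.mem_ker, map_div, map_pow, hc, h0, div_self'])
  obtain ⟨k, hk⟩ := (hb 1).2 (Multiplicative.toAdd h)
  have hk' : (Multiplicative.ofAdd k) ^ n = h := Multiplicative.toAdd.injective (by rw [toAdd_pow]; exact hk)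
  let a := c / α (Multiplicative.ofAdd k)
  have ha : a ^ n = d := by
    rw [div_pow, ← map_pow, hk', hh]
    exact div_div_cancel _ _
  obtain ⟨M, hM, hMa⟩ := PicLib.exists_cls a
  refine ⟨M, hM, ?_⟩
  rw [← PicLib.cls_eq_cls (AmpleLib.isInvertible_tensorPow hM n) hL, PicLib.cls_tensorPow hM, hMa]
  exact ha

end Groth.Agent.S5680
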