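import Groth.Statements.S5684
import Groth.Agent.InvDescLib.RelPic
import Groth.Agent.InvDescLib.FlatRig

set_option autoImplicit false
universe u
open CategoryTheory CategoryTheory.Limits AlgebraicGeometry
open FGA

namespace Groth.Agent.S5684

/-- Let f : X ⟶ S be quasi-compact and separated with the induced maps from sections of the structure
sheaf of S to sections of the structure sheaf of X bijective over every open of S, and let g : S' ⟶
S be flat, surjective and quasi-compact. If L is an invertible module on X whose pullback to X ×_S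
S' is isomorphic to the pullback along the second projection of some invertible module on S', then L
is isomorphic to the pullback along f of some invertible module on S. -/
theorem result {X S S' : Scheme.{u}} (f : X ⟶ S)
    [QuasiCompact f] [IsSeparated f] (hf : ∀ U : S.Opens, Function.Bijective (f.app U))
    (g : S' ⟶ S) [Flat g] [Surjective g] [QuasiCompact g]
    (L : X.Modules) (hL : PicF.IsInvertible L)
    (hdesc : ∃ N' : S'.Modules, PicF.IsInvertible N' ∧
      Nonempty ((Scheme.Modules.pullback (pullback.fst f g)).obj L ≅ (Scheme.Modules.pullback (pullback.snd f g)).obj N')) :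
    ∃ N : S.Modules, PicF.IsInvertible N ∧ Nonempty (L ≅ (Scheme.Modules.pullback f).obj N) := by
  obtain ⟨N', hN', he⟩ := hdesc
  have hl : PicLib.pull (pullback.fst f g) (PicLib.cls hL) = PicLib.pull (pullback.snd f g) (PicLib.cls hN') := by
    rw [PicLib.pull_cls, PicLib.pull_cls]
    exact (PicLib.cls_eq_cls _ _).2 he
  -- refine the covering so that `N'` becomes trivial
  choose W s hW hs using fun x : S' => ParaFLib.exists_gen_nhd hN' x
  let v : ∀ x : S', (W x : Scheme.{u}) ⟶ S' := fun x => (W x).ι
  let c : (∐ fun x => (W x : Scheme.{u})) ⟶ S' := Sigma.desc v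
  haveI : Flat c := IsZariskiLocalAtSource.sigmaDesc fun x => inferInstanceAs (Flat (W x).ι)
  haveI : LocallyOfFinitePresentation c :=
    IsZariskiLocalAtSource.sigmaDesc fun x => inferInstanceAs (LocallyOfFinitePresentation (W x).ι)
  haveI : Surjective c := ⟨fun x => ⟨Sigma.ι (fun x => (W x : Scheme.{u})) x ⟨x, hW x⟩, by
    rw [← Scheme.Hom.comp_apply, Sigma.ι_desc]; rfl⟩⟩
  haveI := SchDesc.IsFpqc.of_locallyOfFinitePresentation c
  haveI := SchDesc.IsFpqc.of_quasiCompact g
  haveI := InvDescLib.isFpqc_comp c g
  have hn : PicLib.pull c (PicLib.cls hN') = 1 := by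
    refine (InvDescLib.isDisjointUnion_sigma (fun x => (W x : Scheme.{u}))).eq_one fun x => ?_
    rw [← PicLib.pull_comp, Sigma.ι_desc, PicLib.pull_cls, AbDualLib.eq_one_iff_triv]
    exact ⟨_, CubeLib.gen_pullMap (W x).ι hN' (hs x) (fun z _ => z.2)⟩
  let j : pullback f (c ≫ g) ⟶ pullback f g := pullback.lift (pullback.fst _ _) (pullback.snd _ _ ≫ c)
    (by rw [pullback.condition, Category.assoc])
  have h1 : PicLib.pull (pullback.fst f (c ≫ g)) (PicLib.cls hL) = 1 := by
    rw [show pullback.fst f (c ≫ g) = j ≫ pullback.fst f g from (pullback.lift_fst _ _ _).symm,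
      PicLib.pull_comp, hl, ← PicLib.pull_comp, pullback.lift_snd, PicLib.pull_comp, hn, map_one]
  rw [PicLib.pull_cls, AbDualLib.eq_one_iff_triv] at h1
  obtain ⟨N, hN, ⟨e⟩⟩ := InvDescLib.exists_base_of_triv_flat (InvDescLib.flatConst_of_bijective f hf) hL (c ≫ g) h1
  exact ⟨N, hN, ⟨e.symm⟩⟩

end Groth.Agent.S5684
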