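import Groth.Statements.S5690
import Groth.Agent.FinGrpdLib.Quot

set_option autoImplicit false
set_option backward.isDefEq.respectTransparency false
universe u
open CategoryTheory CategoryTheory.Limits AlgebraicGeometry
open FGA

namespace Groth.Agent.S5690

/-- Let (U, R, s, t, c) be a groupoid scheme over a scheme S whose source morphism s : R ⟶ U is finite
locally free (finite, flat and locally of finite presentation), and suppose every equivalence class
t(s⁻¹(x)), x a point of U, is contained in some affine open of U. Then there are a scheme Y and a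
morphism q : U ⟶ Y with s ≫ q = t ≫ q which is a coequalizer of s and t in the category of schemes,
affine, integral and surjective, whose fibres are the equivalence classes; and if (t, s) : R ⟶ U ×_S
U is a monomorphism then q is moreover finite, flat and locally of finite presentation and (t, s) :
R ⟶ U ×_Y U is an isomorphism. Only the sufficiency of the affine-class condition is stated (the
published statement is an equivalence: the quotient with these properties exists if and only if
every class lies in an affine open). -/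
theorem result {S : Scheme.{u}} (G : Grpd.GroupoidScheme S)
    [IsFinite G.s] [Flat G.s] [LocallyOfFinitePresentation G.s]
    (haff : ∀ x : ↥G.U, ∃ V : G.U.Opens, IsAffineOpen V ∧ G.t.base '' (G.s.base ⁻¹' {x}) ⊆ (V : Set ↥G.U)) :
    ∃ (Y : Scheme.{u}) (q : G.U ⟶ Y) (w : G.s ≫ q = G.t ≫ q),
      Nonempty (IsColimit (Cofork.ofπ q w)) ∧ IsAffineHom q ∧ IsIntegralHom q ∧ Surjective q ∧
      (∀ x x' : ↥G.U, q.base x = q.base x' ↔ ∃ r : ↥G.R, G.s.base r = x ∧ G.t.base r = x') ∧
      (Mono G.j → IsFinite q ∧ Flat q ∧ LocallyOfFinitePresentation q ∧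
        IsIso (pullback.lift G.t G.s w.symm : G.R ⟶ pullback q q)) := by
  obtain ⟨Y, q, hp⟩ := FinGrpdLib.exists_charted G (FinGrpdLib.orbitsAffine_of_image haff)
  obtain ⟨_, _, _⟩ := FinGrpdLib.t_props G
  haveI : IsIntegralHom q := hp.isQ.integral
  refine ⟨Y, q, hp.isQ.w, ⟨?_⟩, inferInstance, inferInstance, ⟨hp.isQ.surjective⟩,
    fun x x' => ⟨fun hxx => ?_, ?_⟩, fun hm => ?_⟩
  · exact Cofork.IsColimit.mk _ (fun c => hp.isQ.desc c.π c.condition)
      (fun c => hp.isQ.fac c.π c.condition)
      (fun c m hm => hp.isQ.hom_ext (hm.trans (hp.isQ.fac c.π c.condition).symm))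
  · obtain ⟨r, h1, h2⟩ := hp.isQ.fibre x' x hxx.symm
    exact ⟨r, h2, h1⟩
  · rintro ⟨r, rfl, rfl⟩
    rw [← Scheme.Hom.comp_apply, ← Scheme.Hom.comp_apply, hp.isQ.w]
  · haveI := hm
    obtain ⟨f₁, f₂, f₃⟩ := hp.isFinLocFree
    refine ⟨f₁, f₂, f₃, ?_⟩
    have h := hp.isPullback
    have e : pullback.lift G.t G.s hp.isQ.w.symm = h.isoPullback.hom := by
      apply pullback.hom_ext <;> simp
    rw [e]; infer_instance

end Groth.Agent.S5690
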