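import Groth.Statements.S5691
import Mathlib
-- import your own Groth.Agent.* helpers here

set_option autoImplicit false
set_option backward.isDefEq.respectTransparency false
universe u
open CategoryTheory CategoryTheory.Limits
open FGA

namespace Groth.Agent.S5691

/-- Let C be a small category with finite limits all of whose objects are artinian (the subobjects of
each object satisfy the descending chain condition), and let F be a set-valued functor on C
preserving finite limits. Then F is strictly pro-representable: there are a small cofiltered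
category J and a diagram D : J ⥤ C all of whose transition morphisms are epimorphisms such that F is
isomorphic to the colimit of the corepresentable functors Hom(D j, -). -/
theorem result {C : Type u} [SmallCategory C]
    [HasFiniteLimits C] (hart : ∀ X : C, IsArtinianObject X) (F : C ⥤ Type u) [PreservesFiniteLimits F] :
    ∃ (J : Type u) (_ : SmallCategory J) (_ : IsCofiltered J) (D : J ⥤ C),
      (∀ ⦃j j' : J⦄ (a : j ⟶ j'), Epi (D.map a)) ∧ Nonempty (F ≅ colimit (D.op ⋙ coyoneda)) := by
  classical
  let IsMin : F.Elements → Prop := fun p =>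
    ∀ (Y : C) (m : Y ⟶ p.1) [Mono m] (y : F.obj Y), F.map m y = p.2 → IsIso m
  -- below every element there is a minimal one
  have hmin : ∀ (X : C) (x : F.obj X), ∃ p : F.Elements, IsMin p ∧ ∃ g : p.1 ⟶ X, F.map g p.2 = x := by
    intro X x
    haveI := hart X
    have hne : {P : Subobject X | ∃ y, F.map P.arrow y = x}.Nonempty :=
      ⟨Subobject.mk (𝟙 X), ⟨F.map (Subobject.underlyingIso (𝟙 X)).inv x, by
        rw [← Functor.map_comp_apply, Subobject.underlyingIso_arrow, F.map_id]
        rfl⟩⟩
    obtain ⟨P, ⟨y, hy⟩, hP⟩ := (wellFounded_lt : WellFounded ((· < ·) : Subobject X → Subobject X → Prop)).has_min _ hne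
    refine ⟨F.elementsMk (P : C) y, ?_, P.arrow, hy⟩
    intro Y m _ z hz
    let Q := Subobject.mk (m ≫ P.arrow)
    have hQle : Q ≤ P := Subobject.mk_le_of_comm m rfl
    have hQ : Q = P := by
      refine hQle.eq_or_lt.resolve_right fun hlt => hP Q ⟨F.map (Subobject.underlyingIso (m ≫ P.arrow)).inv z, ?_⟩ hlt
      rw [← Functor.map_comp_apply, Subobject.underlyingIso_arrow, Functor.map_comp_apply]
      erw [hz]
      exact hy
    have hPle : P ≤ Subobject.mk (m ≫ P.arrow) := hQ.ge
    have hsplit : (Subobject.ofLE _ _ hPle ≫ (Subobject.underlyingIso (m ≫ P.arrow)).hom) ≫ m = 𝟙 _ := by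
      rw [← cancel_mono P.arrow, Category.assoc, Category.assoc,
        Subobject.underlyingIso_hom_comp_eq_mk, Subobject.ofLE_arrow, Category.id_comp]
    haveI : IsSplitEpi m := IsSplitEpi.mk' ⟨_, hsplit⟩
    exact isIso_of_mono_of_isSplitEpi m
  -- maps out of a minimal element are determined by its image
  have huniq : ∀ (p : F.Elements), IsMin p → ∀ (Z : C) (g h : p.1 ⟶ Z),
      F.map g p.2 = F.map h p.2 → g = h := by
    intro p hp Z g h hgh
    obtain ⟨e, he⟩ := (Types.type_equalizer_iff_unique (F.map (equalizer.ι g h)) (by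
      rw [← F.map_comp, ← F.map_comp, equalizer.condition])).1
      ⟨(isLimitForkMapOfIsLimit F (equalizer.condition g h) (equalizerIsEqualizer g h))⟩ p.2 hgh
    haveI := hp _ (equalizer.ι g h) e he.1
    exact (cancel_epi (equalizer.ι g h)).1 (equalizer.condition g h)
  let J := ObjectProperty.FullSubcategory (C := F.Elements) IsMin
  let D : J ⥤ C := ObjectProperty.ι IsMin ⋙ CategoryOfElements.π F
  have hpair : ∀ (p q : F.Elements), ∃ (r : J), Nonempty (r.obj ⟶ p) ∧ Nonempty (r.obj ⟶ q) := by
    intro p q
    let e := PreservesLimitPair.iso F p.1 q.1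
    obtain ⟨z, hz₁, hz₂⟩ : ∃ z : F.obj (p.1 ⨯ q.1),
        F.map prod.fst z = p.2 ∧ F.map prod.snd z = q.2 := by
      refine ⟨e.inv ((Types.binaryProductIso _ _).inv (p.2, q.2)), ?_, ?_⟩
      · rw [← ConcreteCategory.comp_apply, PreservesLimitPair.iso_inv_fst]
        simp
      · rw [← ConcreteCategory.comp_apply, PreservesLimitPair.iso_inv_snd]
        simp
    obtain ⟨r, hr, g, hg⟩ := hmin _ z
    exact ⟨⟨r, hr⟩, ⟨CategoryOfElements.homMk r p (g ≫ prod.fst) (by rw [Functor.map_comp_apply, hg]; exact hz₁)⟩,
      ⟨CategoryOfElements.homMk r q (g ≫ prod.snd) (by rw [Functor.map_comp_apply, hg]; exact hz₂)⟩⟩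
  have hthin : ∀ ⦃r r' : J⦄ (a b : r ⟶ r'), a = b := fun r r' a b =>
    ObjectProperty.hom_ext _ (CategoryOfElements.ext F _ _
      (huniq r.obj r.property _ _ _ (a.hom.2.trans b.hom.2.symm)))
  haveI : Nonempty J := by
    let t : F.obj (⊤_ C) :=
      (PreservesTerminal.iso F).inv ((Types.terminalIso).inv PUnit.unit)
    obtain ⟨r, hr, -⟩ := hmin _ t
    exact ⟨⟨r, hr⟩⟩
  haveI : IsCofilteredOrEmpty J :=
    { cone_objs := fun r r' => by
        obtain ⟨s, ⟨a⟩, ⟨b⟩⟩ := hpair r.obj r'.obj
        exact ⟨s, ObjectProperty.homMk a, ObjectProperty.homMk b, trivial⟩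
      cone_maps := fun r r' a b => ⟨r, 𝟙 r, by rw [hthin a b]⟩ }
  haveI : IsCofiltered J := { }
  refine ⟨J, inferInstance, inferInstance, D, fun r r' a => ⟨fun {Z} g h hgh => ?_⟩, ?_⟩
  · refine huniq r'.obj r'.property Z g h ?_
    have hx : F.map a.hom.1 r.obj.2 = r'.obj.2 := a.hom.2
    rw [← hx, ← Functor.map_comp_apply, ← Functor.map_comp_apply]
    exact congrArg (fun f => F.map f r.obj.2) hgh
  let c : Cocone (D.op ⋙ coyoneda) :=
    { pt := F
      ι :=
        { app := fun r =>
            { app := fun Z => ↾fun (h : r.unop.obj.1 ⟶ Z) => F.map h r.unop.obj.2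
              naturality := fun Z Z' f => by
                ext h
                exact Functor.map_comp_apply F h f _ }
          naturality := fun r r' a => by
            ext Z h
            show F.map (a.unop.hom.1 ≫ h) r'.unop.obj.2 = F.map h r.unop.obj.2
            rw [Functor.map_comp_apply, a.unop.hom.2]
            rfl } }
  have hc : IsColimit c := by
    refine evaluationJointlyReflectsColimits _ fun Z => ?_
    refine Types.FilteredColimit.isColimitOf _ _ (fun x => ?_) ?_
    · obtain ⟨r, hr, g, hg⟩ := hmin Z x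
      exact ⟨Opposite.op ⟨r, hr⟩, g, hg.symm⟩
    · intro i j (h : i.unop.obj.1 ⟶ Z) (h' : j.unop.obj.1 ⟶ Z) hh
      obtain ⟨s, ⟨a⟩, ⟨b⟩⟩ := hpair i.unop.obj j.unop.obj
      refine ⟨Opposite.op s, (ObjectProperty.homMk a).op, (ObjectProperty.homMk b).op, ?_⟩
      show a.1 ≫ h = b.1 ≫ h'
      refine huniq s.obj s.property Z _ _ ?_
      rw [Functor.map_comp_apply, Functor.map_comp_apply, a.2, b.2]
      exact hh
  exact ⟨hc.coconePointUniqueUpToIso (colimit.isColimit _)⟩

end Groth.Agent.S5691
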