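import Groth.Statements.S5692
import Groth.Agent.FittStratum.Main
import Groth.Agent.PullbackMod.LimFree
import Groth.Agent.DCohLib.FTLocal
-- import your own Groth.Agent.* helpers here

set_option autoImplicit false
universe u
open CategoryTheory CategoryTheory.Limits AlgebraicGeometry
open FGA

namespace Groth.Agent.S5692

set_option linter.style.haveILetI false

/-- A point near which `M` is generated by `r` sections is off the support of the `r`-th Fitting ideal. -/
theorem notMem_support {S : Scheme.{u}} (M : S.Modules) [Coh.IsQCoh M] (hM : CohB1.IsFT M) (r : ℕ)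
    {U : S.Opens} (p : FlatMod.freeMod (↑U) r ⟶ M.restrict U.ι) [Epi p] (u : (U : Scheme.{u})) :
    U.ι u ∉ (Fitt.sheafIdeal M r).support := by
  let q : FlatMod.freeMod (↑U) r ⟶ (Scheme.Modules.pullback U.ι).obj M :=
    p ≫ ((Scheme.Modules.restrictFunctorIsoPullback U.ι).app M).hom
  haveI : Epi q := epi_comp _ _
  haveI : Coh.IsQCoh (FlatMod.freeMod (↑U : Scheme.{u}) r) :=
    (PullbackMod.isQCoh_and_isFP_of_isFinLocFree _ (DCohLib.isFinLocFree_freeMod (Y := (↑U : Scheme.{u})) r)).1
  obtain ⟨b⟩ : PullbackMod.FreeAt r (FlatMod.freeMod (↑U : Scheme.{u}) r) u :=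
    PullbackMod.freeAt_of_restrict_iso (FlatMod.freeMod (↑U : Scheme.{u}) r) (U := ⊤)
      (DCohLib.restrictFreeMod (⊤ : (↑U : Scheme.{u}).Opens).ι r) trivial
  let O := S.presheaf.stalk (U.ι u)
  let O' := (↑U : Scheme.{u}).presheaf.stalk u
  let N' := ((Scheme.Modules.pullback U.ι).obj M).presheaf.stalk u
  let s : Fin r → N' := fun i => PullbackMod.stalkLin q u (b.symm (Pi.single i 1))
  have hs : Submodule.span O' (Set.range s) = ⊤ := by
    classical
    refine eq_top_iff.2 fun z _ => ?_
    obtain ⟨w, rfl⟩ := (PullbackMod.epi_iff_stalk q).1 inferInstance u z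
    refine (Submodule.mem_span_range_iff_exists_fun _).2 ⟨b w, ?_⟩
    simp only [s, ← map_smul, ← map_sum]
    congr 1
    apply b.injective
    rw [map_sum]
    simp only [map_smul, LinearEquiv.apply_symm_apply]
    funext j
    simp [Pi.single_apply]
  letI : Algebra O O' := (U.ι.stalkMap u).hom.toAlgebra
  letI := Module.compHom N' (U.ι.stalkMap u).hom
  haveI : IsScalarTower O O' N' := .of_algebraMap_smul fun _ _ => rfl
  haveI : Module.Finite O (M.presheaf.stalk (U.ι u)) := PullbackMod.finite_stalk_of_isFT hM _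
  have hbc := PullbackMod.isBaseChange_pullStalkL U.ι M u
  haveI : Module.Finite O' N' := Module.Finite.equiv hbc.equiv
  refine (FittStratum.map_stalk_eq_top_iff M hM U.ι r u).1 ?_
  exact (FittSheafLib.fitt_map_of_isBaseChange _ hbc r).trans (FittLib.ideal_eq_top s hs le_rfl)

/-- Let S be a locally Noetherian scheme, M a coherent module on S and r a natural number. Then there is
an immersion e : Z ⟶ S with the following universal property: for every scheme T and every morphism
g : T ⟶ S, the pullback of M along g is locally free of rank r if and only if g factors through e.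
If moreover M is generated by r sections on a neighbourhood of every point of S (equivalently all
fibres of M have rank at most r), then e is a closed immersion. -/
theorem result (S : Scheme.{u}) [IsLocallyNoetherian S]
    (M : S.Modules) (hM : Coh.IsCoh M) (r : ℕ) :
    ∃ (Z : Scheme.{u}) (e : Z ⟶ S), IsImmersion e ∧
      (∀ (T : Scheme.{u}) (g : T ⟶ S),
        FlatMod.IsFinLocFreeOfRank r ((Scheme.Modules.pullback g).obj M) ↔ ∃ g' : T ⟶ Z, g' ≫ e = g) ∧
      ((∀ s : ↥S, ∃ U : S.Opens, s ∈ U ∧ ∃ p : FlatMod.freeMod (↑U) r ⟶ M.restrict U.ι, Epi p) →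
        IsClosedImmersion e) := by
  haveI : Coh.IsQCoh M := hM.1
  have hft : CohB1.IsFT M := hM.2
  classical
  let J : S.IdealSheafData := if r = 0 then ⊥ else Fitt.sheafIdeal M (r - 1)
  let U : S.Opens := ⟨_, (Fitt.sheafIdeal M r).support.isClosed.isOpen_compl⟩
  refine ⟨pullback J.subschemeι U.ι, pullback.fst J.subschemeι U.ι ≫ J.subschemeι, inferInstance, fun T g => ?_,
    fun h => ?_⟩
  · rw [FittStratum.isFinLocFreeOfRank_iff M hft g r]
    have hJ : (r ≠ 0 → Fitt.sheafIdeal M (r - 1) ≤ g.ker) ↔ J ≤ g.ker := by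
      by_cases hr : r = 0
      · simp [J, hr]
      · simp [J, hr]
    rw [hJ]
    constructor
    · rintro ⟨h1, h2⟩
      have hr : Set.range g ⊆ Set.range U.ι := by rwa [Scheme.Opens.range_ι]
      refine ⟨pullback.lift (IsClosedImmersion.lift J.subschemeι g (by rwa [Scheme.IdealSheafData.ker_subschemeι]))
        (IsOpenImmersion.lift U.ι g hr) (by rw [IsClosedImmersion.lift_fac, IsOpenImmersion.lift_fac]), ?_⟩
      rw [pullback.lift_fst_assoc, IsClosedImmersion.lift_fac]
    · rintro ⟨g', rfl⟩
      refine ⟨?_, ?_⟩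
      · rintro _ ⟨t, rfl⟩
        rw [pullback.condition]
        simp only [Scheme.Hom.comp_apply]
        exact ((pullback.snd J.subschemeι U.ι) (g' t)).2
      · rw [← Category.assoc]
        exact J.ker_subschemeι.symm.le.trans (Scheme.Hom.le_ker_comp _ _)
  · have hU : U = ⊤ := eq_top_iff.2 fun s _ => by
      obtain ⟨V, hsV, p, hp⟩ := h s
      exact notMem_support M hft r p ⟨s, hsV⟩
    haveI : IsIso U.ι := by
      rw [hU, ← Scheme.topIso_hom]
      infer_instance
    infer_instance

end Groth.Agent.S5692
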