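import Groth.Statements.S5693
import Groth.Agent.S5325


set_option autoImplicit false
universe u
open CategoryTheory CategoryTheory.Limits MonoidalCategory CartesianMonoidalCategory MonObj GrpObj AlgebraicGeometry
open FGA

namespace Groth.Agent.S5693

open CategoryTheory CategoryTheory.Limits AlgebraicGeometry

open Groth.Agent Topology
set_option backward.isDefEq.respectTransparency false

/-- Let S be a locally Noetherian scheme, G a commutative group scheme locally of finite type over S and
n ≥ 1 an integer. The set of points x of G for which n is the least positive integer such that the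
n-th power morphism sends x into the union of the connected components of the identity of the fibres
is locally constructible in G (the order function on the torsion-component set is locally
constructible). -/
theorem result (S : Scheme.{u}) [IsLocallyNoetherian S] (G : Over S) [GrpObj G]
    [IsCommMonObj G] [LocallyOfFiniteType G.hom] (n : ℕ) (hn : 0 < n) :
    Topology.IsLocallyConstructible {x : ↥G.left | ((𝟙 G : G ⟶ G) ^ n).left.base x ∈ SGA3x.neutralSet G ∧
      ∀ d : ℕ, 0 < d → d < n → ((𝟙 G : G ⟶ G) ^ d).left.base x ∉ SGA3x.neutralSet G} := by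
  haveI : LocallyOfFinitePresentation G.hom := LocallyOfFinitePresentation.iff_locallyOfFiniteType.mpr ‹_›
  haveI : IsLocallyNoetherian G.left := LocallyOfFiniteType.isLocallyNoetherian G.hom
  have hqs : QuasiSeparated G.hom := inferInstance
  have hN : Topology.IsLocallyConstructible (SGA3x.neutralSet G) := (S5325.result S G).2.2 hqs
  have hpre : ∀ m : G ⟶ G, Topology.IsLocallyConstructible (m.left.base ⁻¹' SGA3x.neutralSet G) := by
    intro m x
    obtain ⟨U, hxU, hU, hc⟩ := hN (m.left.base x)
    let W : G.left.Opens := ⟨U, hU⟩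
    refine ⟨m.left.base ⁻¹' U, (hU.preimage m.left.continuous).mem_nhds (mem_of_mem_nhds hxU : m.left.base x ∈ U),
      hU.preimage m.left.continuous, ?_⟩
    have h := (m.left ∣_ W).isConstructible_preimage hc
    rwa [morphismRestrict_base] at h
  have e : {x : ↥G.left | ((𝟙 G : G ⟶ G) ^ n).left.base x ∈ SGA3x.neutralSet G ∧
      ∀ d : ℕ, 0 < d → d < n → ((𝟙 G : G ⟶ G) ^ d).left.base x ∉ SGA3x.neutralSet G} =
      ((𝟙 G : G ⟶ G) ^ n).left.base ⁻¹' SGA3x.neutralSet G ∩
        ⋂ d : {d : Fin n // 0 < (d : ℕ)}, (((𝟙 G : G ⟶ G) ^ (d.1 : ℕ)).left.base ⁻¹' SGA3x.neutralSet G)ᶜ := by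
    ext x
    simp only [Set.mem_setOf_eq, Set.mem_inter_iff, Set.mem_iInter, Set.mem_compl_iff, Set.mem_preimage]
    exact ⟨fun h => ⟨h.1, fun d => h.2 d.1 d.2 d.1.2⟩, fun h => ⟨h.1, fun d hd hdn => h.2 ⟨⟨d, hdn⟩, hd⟩⟩⟩
  rw [e]
  refine (hpre _).inter (Topology.IsLocallyConstructible.iInter fun d x => ?_)
  obtain ⟨U, hxU, hU, hc⟩ := hpre ((𝟙 G : G ⟶ G) ^ (d.1 : ℕ)) x
  exact ⟨U, hxU, hU, by rw [Set.preimage_compl]; exact hc.compl⟩


end Groth.Agent.S5693
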