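import Groth.Statements.S5694
import Groth.Agent.TorSet.Open

set_option autoImplicit false
universe u
open CategoryTheory CategoryTheory.Limits MonoidalCategory CartesianMonoidalCategory MonObj GrpObj AlgebraicGeometry
open FGA

namespace Groth.Agent.S5694

/-- Let S be a locally Noetherian scheme and G a commutative group scheme locally of finite type over S
such that the union of the connected components of the identity in the fibres of G is closed. Let
p(s) denote the characteristic exponent of the residue field of S at s. Then the set of points x of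
G such that some p(s)^h-th power morphism (h ≥ 0, s the image of x in S) sends x into that union, is
closed in G. -/
theorem result (S : Scheme.{u}) [IsLocallyNoetherian S] (G : Over S) [GrpObj G]
    [IsCommMonObj G] [LocallyOfFiniteType G.hom] (h0 : IsClosed (SGA3x.neutralSet G))
    (p : ↥S → ℕ) (hp : ∀ s : ↥S, ringExpChar (S.residueField s) = p s) :
    IsClosed {x : ↥G.left | ∃ h m : ℕ, m = p (G.hom.base x) ^ h ∧
      ((𝟙 G : G ⟶ G) ^ m).left.base x ∈ SGA3x.neutralSet G} := by
  have hset : {x : ↥G.left | ∃ h m : ℕ, m = p (G.hom.base x) ^ h ∧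
      ((𝟙 G : G ⟶ G) ^ m).left.base x ∈ SGA3x.neutralSet G} =
      {x | ∃ h : ℕ, TorSet.ord G x ∣ ringExpChar (S.residueField (G.hom x)) ^ h} := by
    ext x
    constructor
    · rintro ⟨h, m, rfl, hm⟩
      exact ⟨h, by rw [hp]; exact (TorSet.pw_mem_iff G x _).1 hm⟩
    · rintro ⟨h, hh⟩
      exact ⟨h, _, rfl, (TorSet.pw_mem_iff G x _).2 (by rwa [hp] at hh)⟩
  rw [hset]
  refine TorSet.isClosed_of_local fun y => ?_
  obtain ⟨W, N, hyW, hN, hb⟩ := TorSet.exists_local_bound (G := G) y
  refine ⟨W, ⋃ d ∈ N.divisors, (TorSet.pw G d ⁻¹' SGA3x.neutralSet G ∩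
      ⋂ q ∈ d.primeFactors, {x : G.left | (q : S.residueField (G.hom x)) = 0}), hyW,
    N.divisors.finite_toSet.isClosed_biUnion fun d _ => (TorSet.isClosed_pw h0 d).inter
      (isClosed_biInter fun q _ => TorSet.isClosed_natCast_eq_zero q), ?_, ?_⟩
  · rintro x ⟨⟨h, hh⟩, hxW⟩
    have hne : TorSet.ord G x ≠ 0 := fun h0' => by
      rw [h0', zero_dvd_iff, pow_eq_zero_iff'] at hh
      have := hh.1
      rw [ringExpChar] at this
      omega
    refine Set.mem_iUnion₂.2 ⟨TorSet.ord G x, Nat.mem_divisors.2 ⟨hb x hxW hne, hN.ne'⟩,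
      (TorSet.pw_mem_iff G x _).2 dvd_rfl, Set.mem_iInter₂.2 fun q hq => ?_⟩
    obtain ⟨hqp, hqd, -⟩ := Nat.mem_primeFactors.1 hq
    have hq' : q ∣ max (ringChar (S.residueField (G.hom x))) 1 := hqp.dvd_of_dvd_pow (hqd.trans hh)
    rcases CharP.char_is_prime_or_zero (S.residueField (G.hom x)) (ringChar (S.residueField (G.hom x))) with hc | hc
    · rw [max_eq_left hc.one_lt.le, Nat.prime_dvd_prime_iff_eq hqp hc] at hq'
      rw [Set.mem_setOf_eq, hq']
      exact ringChar.Nat.cast_ringChar
    · rw [hc, max_eq_right (Nat.zero_le _)] at hq'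
      exact absurd (Nat.dvd_one.1 hq') hqp.ne_one
  · rintro x ⟨hx, -⟩
    obtain ⟨d, hd, hxd, hxq⟩ := Set.mem_iUnion₂.1 hx
    have hd0 : d ≠ 0 := (Nat.pos_of_mem_divisors hd).ne'
    refine ⟨d.primeFactorsList.length, ((TorSet.pw_mem_iff G x d).1 hxd).trans (dvd_of_eq ?_)⟩
    refine Nat.eq_prime_pow_of_unique_prime_dvd hd0 fun {q} hq hqd => ?_
    have h0' : (q : S.residueField (G.hom x)) = 0 :=
      Set.mem_iInter₂.1 hxq q (Nat.mem_primeFactors.2 ⟨hq, hqd, hd0⟩)
    rw [ringExpChar, CharP.ringChar_of_prime_eq_zero hq h0', max_eq_left hq.one_lt.le]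

end Groth.Agent.S5694
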