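import Groth.Statements.S5695
import Groth.Agent.TorSet.Open

set_option autoImplicit false
universe u
open CategoryTheory CategoryTheory.Limits MonoidalCategory CartesianMonoidalCategory MonObj GrpObj AlgebraicGeometry
open FGA

namespace Groth.Agent.S5695

/-- Let S be a locally Noetherian scheme all of whose residue fields have the same characteristic p (so
the characteristic exponent is max(p, 1)), and G a commutative group scheme locally of finite type
over S such that the union of the connected components of the identity in the fibres of G is closed.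
Then the set of points x of G such that for some integer n ≥ 1 prime to max(p, 1) the n-th power
morphism sends x into that union, is closed in G. -/
theorem result (S : Scheme.{u}) [IsLocallyNoetherian S]
    (p : ℕ) (hS : ∀ s : ↥S, ringChar (S.residueField s) = p)
    (G : Over S) [GrpObj G] [IsCommMonObj G] [LocallyOfFiniteType G.hom] (h0 : IsClosed (SGA3x.neutralSet G)) :
    IsClosed {x : ↥G.left | ∃ n : ℕ, 0 < n ∧ Nat.Coprime n (max p 1) ∧
      ((𝟙 G : G ⟶ G) ^ n).left.base x ∈ SGA3x.neutralSet G} := by
  refine TorSet.isClosed_of_local fun y => ?_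
  obtain ⟨W, N, hyW, hN, hb⟩ := TorSet.exists_local_bound (G := G) y
  refine ⟨W, ⋃ n ∈ N.divisors.filter (fun n => Nat.Coprime n (max p 1)), TorSet.pw G n ⁻¹' SGA3x.neutralSet G, hyW,
    (Finset.finite_toSet _).isClosed_biUnion fun n _ => TorSet.isClosed_pw h0 n, ?_, ?_⟩
  · rintro x ⟨⟨n, hn, hcop, hx⟩, hxW⟩
    have hdn := (TorSet.pw_mem_iff G x n).1 hx
    have hne : TorSet.ord G x ≠ 0 := fun h => by rw [h, zero_dvd_iff] at hdn; omega
    exact Set.mem_iUnion₂.2 ⟨_, Finset.mem_filter.2 ⟨Nat.mem_divisors.2 ⟨hb x hxW hne, hN.ne'⟩,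
      hcop.coprime_dvd_left hdn⟩, (TorSet.pw_mem_iff G x _).2 dvd_rfl⟩
  · rintro x ⟨hx, -⟩
    obtain ⟨n, hn, hxn⟩ := Set.mem_iUnion₂.1 hx
    rw [Finset.mem_filter] at hn
    exact ⟨n, Nat.pos_of_mem_divisors hn.1, hn.2, hxn⟩

end Groth.Agent.S5695
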