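import Groth.Statements.S5697
import Groth.Agent.Neutral.Closure
import Groth.Agent.CurveTest.Scheme
import Groth.Agent.ASp.Constructible
import Groth.Agent.PureRepLib.Local
-- import your own Groth.Agent.* helpers here

set_option autoImplicit false
set_option backward.isDefEq.respectTransparency false
universe u
open CategoryTheory CategoryTheory.Limits MonoidalCategory CartesianMonoidalCategory MonObj GrpObj AlgebraicGeometry
open FGA

namespace Groth.Agent.S5697

/-- Let S be a locally Noetherian scheme and G a commutative group scheme locally of finite type over S.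
Assume that the union of the connected components of the identity of the fibres of G is closed in G,
and that G ⟶ S is universally open at the points of that union: for every base change S' ⟶ S, the
structure map of G' = G ×_S S' is open at every point of the identity-component set of G' (the image
of every open neighbourhood is a neighbourhood). Then the prime-to-p torsion component set (points x
some n-th power of which, n ≥ 1 prime to the residue characteristic exponent, lies in the
identity-component set) is universally open over S at the points of the identity-component set, in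
the same sense: for every base change S' ⟶ S, every point x' of the identity-component set of G' and
every open neighbourhood U of x', the image in S' of the intersection of U with the prime-to-p
torsion component set of G' is a neighbourhood of the image of x'. (The published statement
concludes this at every point of the prime-to-p torsion component set; it fails for the closed
subgroup scheme of the constant group ℤ/2 over a discrete valuation ring of residue characteristic
different from 2 that keeps the non-identity element only over the closed point: there the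
identity-component set is a copy of the base, all hypotheses hold, and the isolated non-identity
point over the closed point is 2-torsion with image the closed point alone. The published proof
treats neighbourhoods of points of the identity-component set, so the conclusion is stated at those
points here.) -/
theorem result (S : Scheme.{u}) [IsLocallyNoetherian S]
    (G : Over S) [GrpObj G] [IsCommMonObj G] [LocallyOfFiniteType G.hom] (h0 : IsClosed (SGA3x.neutralSet G))
    (hopen : ∀ (S' : Scheme.{u}) (g : S' ⟶ S) (x' : ↥(Red.bc g G).left), x' ∈ SGA3x.neutralSet (Red.bc g G) →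
      ∀ U : Set ↥(Red.bc g G).left, IsOpen U → x' ∈ U →
        (Red.bc g G).hom.base '' U ∈ nhds ((Red.bc g G).hom.base x'))
    (S' : Scheme.{u}) (g : S' ⟶ S) (x' : ↥(Red.bc g G).left)
    (hx' : x' ∈ SGA3x.neutralSet (Red.bc g G))
    (U : Set ↥(Red.bc g G).left) (hU : IsOpen U) (hxU : x' ∈ U) :
    (Red.bc g G).hom.base '' (U ∩ {x : ↥(Red.bc g G).left | ∃ n : ℕ, 0 < n ∧ Nat.Coprime n (ringExpChar (S'.residueField ((Red.bc g G).hom.base x))) ∧
        ((𝟙 (Red.bc g G) : (Red.bc g G) ⟶ (Red.bc g G)) ^ n).left.base x ∈ SGA3x.neutralSet (Red.bc g G)}) ∈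
      nhds ((Red.bc g G).hom.base x') := by
  haveI : LocallyOfFinitePresentation G.hom := CurveTest.finiteType_appLE_of_isNoetherian G.hom
  haveI : LocallyOfFinitePresentation (Red.bc g G).hom :=
    MorphismProperty.pullback_snd (P := @LocallyOfFinitePresentation) G.hom g inferInstance
  haveI : LocallyOfFiniteType (Red.bc g G).hom := inferInstance
  haveI : IsLocallyNoetherian G.left := LocallyOfFiniteType.isLocallyNoetherian G.hom
  let s := (Red.bc g G).hom x'
  let N := SGA3x.neutralSet (Red.bc g G)
  -- the fibre dimension is constant near the point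
  obtain ⟨D, hD, hdim⟩ := Neutral.dim_const_of_univOpen (G := Red.bc g G) s ⊤ trivial fun x hx _ _ =>
    Neutral.isUnivOpenAt_of_isPullback (IsPullback.of_hasPullback G.hom g) x fun T h t ht V hV => by
      obtain ⟨V', hV'V, hV'o, htV'⟩ := mem_nhds_iff.mp hV
      refine Filter.mem_of_superset (hopen T h t ?_ V' hV'o htV') (Set.image_mono hV'V)
      rw [Neutral.neutralSet_bc]
      show (pullback.fst G.hom h) t ∈ SGA3x.neutralSet G
      rw [Neutral.neutralSet_bc] at hx
      exact ht ▸ hx
  -- an affine chart
  obtain ⟨_, ⟨V : S'.Opens, hV, rfl⟩, hsV, -⟩ := S'.isBasis_affineOpens.exists_subset_of_mem_open (Set.mem_univ s) isOpen_univ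
  obtain ⟨_, ⟨A : (Red.bc g G).left.Opens, hA, rfl⟩, hxA, hAU⟩ :=
    (Red.bc g G).left.isBasis_affineOpens.exists_subset_of_mem_open
      (show x' ∈ U ∩ ⇑(Red.bc g G).hom ⁻¹' (V : Set S') from ⟨hxU, hsV⟩)
      (hU.inter (V.2.preimage (Red.bc g G).hom.continuous))
  have hAV : A ≤ (Red.bc g G).hom ⁻¹ᵁ V := fun y hy => (hAU hy).2
  haveI : IsAffine V.toScheme := hV
  haveI : IsAffine A.toScheme := hA
  let f := (Red.bc g G).hom.resLE V A hAV
  have hfι : ∀ a : A.toScheme, V.ι (f a) = (Red.bc g G).hom (A.ι a) := fun a => by
    rw [← Scheme.Hom.comp_apply, Scheme.Hom.resLE_comp_ι, Scheme.Hom.comp_apply]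
  let E : Set V.toScheme := f '' (A.ι ⁻¹' N)
  have hN : Topology.IsLocallyConstructible (A.ι ⁻¹' N) := by
    refine ASp.isLocallyConstructible_preimage A.ι ?_
    show Topology.IsLocallyConstructible (SGA3x.neutralSet (Red.bc g G))
    rw [Neutral.neutralSet_bc]
    exact ASp.isLocallyConstructible_preimage _ (CurveTest.isLocallyConstructible_of_isClosed h0)
  have hE : Topology.IsConstructible E := (f.isLocallyConstructible_image hN).isConstructible
  have hgen : ∀ v : V.toScheme, V.ι v ⤳ s → v ∈ E := by
    intro v hv
    have hd : topologicalKrullDim ↥((Red.bc g G).hom ⁻¹' {V.ι v}) = topologicalKrullDim ↥((Red.bc g G).hom ⁻¹' {s}) := by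
      obtain ⟨D', hD'D, hD'o, hsD'⟩ := mem_nhds_iff.mp hD
      exact hdim _ (hD'D (hv.mem_open hD'o hsD'))
    have hcl := Neutral.subset_closure_of_specializes (G := Red.bc g G) hv hd ⟨hx', rfl⟩
    obtain ⟨y, hyA, hyN, hy⟩ := mem_closure_iff.mp hcl _ A.2 hxA
    refine ⟨⟨y, hyA⟩, hyN, V.ι.isOpenEmbedding.injective ?_⟩
    rw [hfι]
    exact hy
  have hnhd : E ∈ nhds (⟨s, hsV⟩ : V.toScheme) := by
    let e := V.toScheme.isoSpec.hom.homeomorph
    have hE' : Topology.IsConstructible (e '' E) := hE.image_of_isOpenEmbedding e.isOpenEmbedding (by
      rw [e.surjective.range_eq]; exact IsRetrocompact.univ)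
    have h := PureRep.mem_nhds_of_isConstructible (R := Γ(V.toScheme, ⊤)) hE' (y := e ⟨s, hsV⟩) fun z hz => by
      refine ⟨e.symm z, hgen _ ?_, e.apply_symm_apply z⟩
      have := (hz.map e.symm.continuous).map V.ι.continuous
      rwa [e.symm_apply_apply] at this
    have := e.continuous.continuousAt.preimage_mem_nhds h
    rwa [e.injective.preimage_image] at this
  refine Filter.mem_of_superset (V.ι.isOpenEmbedding.isOpenMap.image_mem_nhds hnhd) ?_
  rintro _ ⟨_, ⟨a, ha, rfl⟩, rfl⟩
  refine ⟨A.ι a, ⟨(hAU a.2).1, 1, one_pos, Nat.coprime_one_left _, ?_⟩, (hfι a).symm⟩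
  rw [pow_one]
  exact ha

end Groth.Agent.S5697
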