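import Groth.Statements.S5699
import Groth.Agent.CMRegLib.Bounded

set_option autoImplicit false
universe u
open CategoryTheory CategoryTheory.Limits AlgebraicGeometry
open FGA

namespace Groth.Agent.S5699

/-- Let k be an algebraically closed field, P projective n-space over k, E a coherent module on P and Φ
a finite set of functions from ℤ to ℤ. Then the coherent quotient modules F of E whose Hilbert
function r ↦ χ(P, F(r)) (alternating sum of the dimensions of the cohomology groups in degrees at
most n) lies in Φ form a bounded family: there are a k-scheme T of finite type and a coherent module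
on P ×_k T such that every such F is isomorphic to its fibre at some k-point of T. Stated over an
algebraically closed field; the published statement is the relative version over a Noetherian base
for classes of sheaves on the fibres, which this special case does not cover. -/
theorem result (k : Type u) [Field k] [IsAlgClosed k] (n : ℕ)
    (E : (CohB1.ProjSpace n k).Modules) (hE : Coh.IsCoh E) (Φ : Set (ℤ → ℤ)) (hΦ : Φ.Finite) :
    Pic13.IsBounded k (CohB1.ProjSpace n k) (fun F =>
      Coh.IsCoh F ∧ (∃ p : E ⟶ F, Epi p) ∧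
        (fun r : ℤ => FGA.eulerCharLE k (CohB1.ProjSpace n k)
          (CohB1.tensorMod F (Twist.twistProjSpace n k r)) n) ∈ Φ) := by
  haveI : IsProper (CohB1.ProjSpace n k ↘ Spec (CommRingCat.of k)) := CompleteCurve.isProper_toSpec n k
  have hid : 𝟙 _ ≫ CohB1.ProjSpace.toSpec n k = CohB1.ProjSpace n k ↘ Spec (CommRingCat.of k) := Category.id_comp _
  let tw : ∀ (F : (CohB1.ProjSpace n k).Modules) (d : ℤ), Pic13.twistOn k (𝟙 (CohB1.ProjSpace n k)) F d ≅
      CohB1.tensorMod F (Twist.twistProjSpace n k d) := fun F d =>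
    AmpleLib.tIso (Iso.refl F) ((Scheme.Modules.pullbackId _).app _)
  obtain ⟨a, ha⟩ := AmpleEmb.eventually_isGloballyGenerated (AmpleEmb.isAmple_twistOne n k) hE
  have hgg : Curv2.IsGloballyGenerated (Pic13.twistOn k (𝟙 _) E (a : ℤ)) :=
    AmpleLib.isGloballyGenerated_of_iso (AmpleLib.tIso (Iso.refl E) (CMRegLib.powTwistIso a) ≪≫ (tw E a).symm)
      (ha a le_rfl)
  classical
  let mk : (ℤ → ℤ) → Polynomial ℚ := fun f =>
    if h : ∃ P : Polynomial ℚ, ∀ d : ℤ, (f d : ℚ) = P.eval (d : ℚ) then h.choose else 0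
  obtain ⟨T, t, h1, h2, U, hU, hb⟩ := CMRegLib.isBounded_quotients (𝟙 _) hid hE hgg (mk '' Φ) (hΦ.image mk)
  refine ⟨T, t, h1, h2, U, hU, fun F ⟨hF, hp, hf⟩ => hb F ⟨hF, hp, _, ⟨_, hf, rfl⟩, fun d => ?_⟩⟩
  have heq : ∀ r : ℤ, FGA.eulerCharLE k (CohB1.ProjSpace n k) (CohB1.tensorMod F (Twist.twistProjSpace n k r)) n =
      Curv2.euler k (CohB1.ProjSpace n k) (CohB1.tensorMod F (Twist.twistProjSpace n k r)) := fun r =>
    (CurveLib.euler_eq_sum (K := k) _ (n + 1) fun p hp => CMRegLib.vanish_high hF r (by omega)).symm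
  obtain ⟨Q, hQ⟩ := CMRegLib.exists_euler_poly F hF
  have hex : ∃ P : Polynomial ℚ, ∀ r : ℤ, (FGA.eulerCharLE k (CohB1.ProjSpace n k)
      (CohB1.tensorMod F (Twist.twistProjSpace n k r)) n : ℚ) = P.eval (r : ℚ) :=
    ⟨Q, fun r => by rw [heq, hQ]⟩
  simp only [mk, dif_pos hex]
  rw [CurveLib.euler_iso (K := k) (tw F d), ← heq]
  exact hex.choose_spec d

end Groth.Agent.S5699
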