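import Groth.Statements.S5700
import Groth.Agent.InvDescLib.FlatRig

set_option autoImplicit false
universe u
open CategoryTheory CategoryTheory.Limits AlgebraicGeometry
open FGA

namespace Groth.Agent.S5700

/-- Let f : X ⟶ S be quasi-compact and separated, with the induced maps from sections of the structure
sheaf of S to sections of the structure sheaf of X bijective over every open of S, and admitting a
section σ; let g : S' ⟶ S be flat, surjective and quasi-compact, X' = X ×_S S', S'' = S' ×_S S' and
X'' = X ×_S S'' with its two projections to X'. If L' is an invertible module on X' whose pullbacks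
along the two projections X'' ⟶ X' become isomorphic after tensoring the second with the pullback of
some invertible module on S'', then there are an invertible module L on X and an invertible module
N' on S' with L' isomorphic to the tensor product of the pullback of L and the pullback of N'.
(Exactness of Pic(X)/Pic(S) → Pic(X')/Pic(S') ⇉ Pic(X'')/Pic(S'').) (The published statement asks
for sections of f only locally on S and is phrased with relative Picard classes, the global sections
of the Zariski sheaf on S associated with U ↦ Pic(X_U); this row assumes a global section, in which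
case those classes are classes of invertible modules on X modulo those pulled back from S, and the
local-section form follows from it by restricting to the opens of S over which a section exists.) -/
theorem result {X S S' : Scheme.{u}} (f : X ⟶ S)
    [QuasiCompact f] [IsSeparated f] (hf : ∀ U : S.Opens, Function.Bijective (f.app U))
    (σ : S ⟶ X) (hσ : σ ≫ f = 𝟙 S)
    (g : S' ⟶ S) [Flat g] [Surjective g] [QuasiCompact g]
    (L' : (pullback f g).Modules) (hL' : PicF.IsInvertible L')
    (hcomp : ∃ N'' : (pullback g g).Modules, PicF.IsInvertible N'' ∧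
      Nonempty ((Scheme.Modules.pullback (pullback.map f (pullback.fst g g ≫ g) f g (𝟙 X) (pullback.fst g g) (𝟙 S)
          ((Category.comp_id f).trans (Category.id_comp f).symm) (Category.comp_id _))).obj L' ≅
        CohB1.tensorMod ((Scheme.Modules.pullback (pullback.map f (pullback.fst g g ≫ g) f g (𝟙 X) (pullback.snd g g) (𝟙 S)
          ((Category.comp_id f).trans (Category.id_comp f).symm) ((Category.comp_id _).trans pullback.condition))).obj L')
          ((Scheme.Modules.pullback (pullback.snd f (pullback.fst g g ≫ g))).obj N''))) :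
    ∃ (L : X.Modules) (N' : S'.Modules), PicF.IsInvertible L ∧ PicF.IsInvertible N' ∧
      Nonempty (L' ≅ CohB1.tensorMod ((Scheme.Modules.pullback (pullback.fst f g)).obj L)
        ((Scheme.Modules.pullback (pullback.snd f g)).obj N')) := by
  obtain ⟨N'', hN'', he⟩ := hcomp
  haveI := SchDesc.IsFpqc.of_quasiCompact g
  let t := pullback.fst g g ≫ g
  let P₁ := pullback.map f t f g (𝟙 X) (pullback.fst g g) (𝟙 S)
    ((Category.comp_id f).trans (Category.id_comp f).symm) (Category.comp_id _)
  let P₂ := pullback.map f t f g (𝟙 X) (pullback.snd g g) (𝟙 S)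
    ((Category.comp_id f).trans (Category.id_comp f).symm) ((Category.comp_id _).trans pullback.condition)
  let π := pullback.snd f g
  let a := PicLib.cls hL'
  let n := PicLib.cls hN''
  have hP : PicLib.pull P₁ a = PicLib.pull P₂ a * PicLib.pull (pullback.snd f t) n := by
    rw [PicLib.pull_cls, PicLib.pull_cls, PicLib.pull_cls, ← PicLib.cls_tensor]
    exact (PicLib.cls_eq_cls _ _).2 he
  let σ' : S' ⟶ pullback f g := pullback.lift (g ≫ σ) (𝟙 S') (by rw [Category.assoc, hσ, Category.comp_id, Category.id_comp])
  have hσ'g : σ' ≫ pullback.fst f g = g ≫ σ := pullback.lift_fst _ _ _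
  have hσ'π : σ' ≫ π = 𝟙 S' := pullback.lift_snd _ _ _
  -- the double covering
  let z₁ := pullback.fst (pullback.fst f g) (pullback.fst f g)
  let z₂ := pullback.snd (pullback.fst f g) (pullback.fst f g)
  have hz : z₁ ≫ pullback.fst f g = z₂ ≫ pullback.fst f g := pullback.condition
  have hr : (z₁ ≫ π) ≫ g = (z₂ ≫ π) ≫ g := by
    rw [Category.assoc, Category.assoc, ← pullback.condition, reassoc_of% hz]
  let r : pullback (pullback.fst f g) (pullback.fst f g) ⟶ pullback g g := pullback.lift (z₁ ≫ π) (z₂ ≫ π) hr
  have hr₁ : r ≫ pullback.fst g g = z₁ ≫ π := pullback.lift_fst _ _ _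
  have hr₂ : r ≫ pullback.snd g g = z₂ ≫ π := pullback.lift_snd _ _ _
  have hew : (z₁ ≫ pullback.fst f g) ≫ f = r ≫ t := by
    rw [Category.assoc, pullback.condition, show r ≫ t = (r ≫ pullback.fst g g) ≫ g from (Category.assoc _ _ _).symm,
      hr₁, Category.assoc]
  let e : pullback (pullback.fst f g) (pullback.fst f g) ⟶ pullback f t := pullback.lift (z₁ ≫ pullback.fst f g) r hew
  have hef : e ≫ pullback.fst f t = z₁ ≫ pullback.fst f g := pullback.lift_fst _ _ _
  have hes : e ≫ pullback.snd f t = r := pullback.lift_snd _ _ _
  have he₁ : e ≫ P₁ = z₁ := by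
    refine pullback.hom_ext ?_ ?_
    · rw [Category.assoc, pullback.lift_fst, Category.comp_id, hef]
    · rw [Category.assoc, pullback.lift_snd, reassoc_of% hes, hr₁]
  have he₂ : e ≫ P₂ = z₂ := by
    refine pullback.hom_ext ?_ ?_
    · rw [Category.assoc, pullback.lift_fst, Category.comp_id, hef, hz]
    · rw [Category.assoc, pullback.lift_snd, reassoc_of% hes, hr₂]
  have hZ : PicLib.pull z₁ a = PicLib.pull z₂ a * PicLib.pull r n := by
    rw [← he₁, ← he₂, PicLib.pull_comp, hP, map_mul, ← PicLib.pull_comp, ← PicLib.pull_comp, pullback.lift_snd]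
  -- normalise along the section
  let b := PicLib.pull σ' a
  let a₁ := a / PicLib.pull π b
  have ha₁ : PicLib.pull σ' a₁ = 1 := by
    rw [map_div, InvDescLib.pull_pull_of_id hσ'π, div_self']
  let m := n * (PicLib.pull (pullback.snd g g) b / PicLib.pull (pullback.fst g g) b)
  have hm : PicLib.pull z₁ a₁ = PicLib.pull z₂ a₁ * PicLib.pull r m := by
    simp only [a₁, m, map_div, map_mul, ← PicLib.pull_comp, r, pullback.lift_fst, pullback.lift_snd]
    rw [hZ]
    simp only [r, div_eq_mul_inv]
    calc _ = PicLib.pull z₂ a * PicLib.pull r n * (PicLib.pull (z₁ ≫ π) b)⁻¹ *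
          ((PicLib.pull (z₂ ≫ π) b)⁻¹ * PicLib.pull (z₂ ≫ π) b) := by rw [inv_mul_cancel, _root_.mul_one]
      _ = _ := by ac_rfl
  let s' : pullback g g ⟶ pullback (pullback.fst f g) (pullback.fst f g) :=
    pullback.lift (pullback.fst g g ≫ σ') (pullback.snd g g ≫ σ')
      (by simp only [Category.assoc, hσ'g, reassoc_of% pullback.condition (f := g) (g := g)])
  have hsr : s' ≫ r = 𝟙 _ := by
    refine pullback.hom_ext ?_ ?_
    · rw [Category.assoc, hr₁, ← Category.assoc, pullback.lift_fst, Category.assoc, hσ'π, Category.comp_id, Category.id_comp]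
    · rw [Category.assoc, hr₂, ← Category.assoc, pullback.lift_snd, Category.assoc, hσ'π, Category.comp_id, Category.id_comp]
  have hm1 : m = 1 := by
    have h1 := congrArg (PicLib.pull s') hm
    simp only [map_mul, ← PicLib.pull_comp, s', z₁, z₂, pullback.lift_fst, pullback.lift_snd] at h1
    simp only [PicLib.pull_comp, ha₁, map_one, _root_.one_mul] at h1
    rw [← PicLib.pull_comp, hsr, PicLib.pull_id] at h1
    exact h1.symm
  rw [hm1, map_one, _root_.mul_one] at hm
  obtain ⟨c, ⟨-, hc⟩, -⟩ := InvDescLib.existsUnique_pic_descends_fpqc_flat (InvDescLib.flatConst_of_bijective f hf)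
    σ hσ g σ' hσ'g hσ'π a₁ ha₁ hm
  obtain ⟨L, hL, hcL⟩ := PicLib.exists_cls c
  obtain ⟨N', hN', hbN⟩ := PicLib.exists_cls b
  have hfin : a = PicLib.pull (pullback.fst f g) (PicLib.cls hL) * PicLib.pull π (PicLib.cls hN') := by
    rw [hcL, hbN, hc, div_mul_cancel]
  rw [PicLib.pull_cls, PicLib.pull_cls, ← PicLib.cls_tensor] at hfin
  exact ⟨L, N', hL, hN', (PicLib.cls_eq_cls _ _).1 hfin⟩

end Groth.Agent.S5700
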