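import Groth.Statements.S5701
import Mathlib

set_option autoImplicit false
universe u v
open TensorProduct
open Dix

namespace Groth.Agent.S5701

open CategoryTheory CategoryTheory.Limits AlgebraicGeometry

set_option linter.style.haveILetI false


open scoped TensorProduct

variable {k : Type*} [Field k]

theorem formallyUnramified_of_gen {B : Type*} [CommRing B] [Algebra k B] (s : Set B)
    (hs : Algebra.adjoin k s = ⊤) (h : ∀ x ∈ s, IsSeparable k x) : Algebra.FormallyUnramified k B := by
  have hD : KaehlerDifferential.D k B = 0 := by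
    refine Derivation.ext_of_adjoin_eq_top s hs fun x hx => ?_
    have h1 := Derivation.map_aeval (KaehlerDifferential.D k B) (minpoly k x) x
    rw [minpoly.aeval, map_zero] at h1
    obtain ⟨a, b, hab⟩ := h x hx
    have h2 : Polynomial.aeval x b * Polynomial.aeval x (Polynomial.derivative (minpoly k x)) = 1 := by
      have := congrArg (Polynomial.aeval x) hab
      simpa [minpoly.aeval] using this
    have h3 := congrArg (Polynomial.aeval x b • ·) h1
    simp only [smul_zero, smul_smul, h2, one_smul] at h3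
    exact h3.symm
  refine ⟨?_⟩
  have h0 : (⊤ : Submodule B (Ω[B⁄k])) = ⊥ := by
    rw [← KaehlerDifferential.span_range_derivation, hD, Submodule.span_eq_bot]
    rintro _ ⟨x, rfl⟩
    rfl
  exact Submodule.subsingleton_iff _ |>.mp (subsingleton_of_bot_eq_top h0.symm)

theorem sep_of_reduced_closure {R : Type*} [Ring R] [Algebra k R] [FiniteDimensional k R] (x : R)
    (H : ∀ h : Polynomial (AlgebraicClosure k),
      IsNilpotent (Polynomial.aeval ((1 : AlgebraicClosure k) ⊗ₜ[k] x) h) →
        Polynomial.aeval ((1 : AlgebraicClosure k) ⊗ₜ[k] x) h = 0) : IsSeparable k x := by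
  let K := AlgebraicClosure k
  let f := minpoly k x
  let g : Polynomial K := f.map (algebraMap k K)
  let z : K ⊗[k] R := 1 ⊗ₜ x
  have hx : IsIntegral k x := IsIntegral.of_finite k x
  have hgm : g.Monic := (minpoly.monic hx).map _
  have hg0 : Polynomial.aeval z g = 0 := by
    rw [Polynomial.aeval_map_algebraMap,
      show z = Algebra.TensorProduct.includeRight x from rfl, Polynomial.aeval_algHom_apply, minpoly.aeval, map_zero]
  have hmin : ∀ h : Polynomial K, Polynomial.aeval z h = 0 → g ∣ h := fun h hh => by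
    rw [← Polynomial.modByMonic_eq_zero_iff_dvd hgm]
    have h0 : Polynomial.aeval z (h %ₘ g) = 0 := by
      have := congrArg (Polynomial.aeval z) (Polynomial.modByMonic_add_div h g)
      rwa [map_add, map_mul, hg0, zero_mul, add_zero, hh] at this
    by_contra hne
    have hli := (linearIndependent_pow (K := k) x)
    have hli' := Module.Flat.linearIndependent_one_tmul (S := K) hli
    have hd : (h %ₘ g).natDegree < f.natDegree := by
      have h' := Polynomial.natDegree_modByMonic_lt h hgm (fun he => by
        have := congrArg Polynomial.natDegree he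
        simp only [g, Polynomial.natDegree_map, Polynomial.natDegree_one] at this
        exact hne (by rw [show g = 1 from Polynomial.eq_one_of_monic_natDegree_zero hgm (by simpa [g] using this),
          Polynomial.modByMonic_one]))
      simpa [g] using h'
    rw [Polynomial.aeval_eq_sum_range' hd, ← Fin.sum_univ_eq_sum_range (fun i => (h %ₘ g).coeff i • z ^ i)] at h0
    have hz : ∀ i : ℕ, z ^ i = (1 : K) ⊗ₜ[k] (x ^ i) := fun i => by simp [z, Algebra.TensorProduct.tmul_pow]
    simp only [hz] at h0
    have := Fintype.linearIndependent_iff.1 hli' _ h0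
    refine hne (Polynomial.ext fun i => ?_)
    by_cases hi : i < f.natDegree
    · simpa using this ⟨i, hi⟩
    · simpa using Polynomial.coeff_eq_zero_of_natDegree_lt (lt_of_lt_of_le hd (not_lt.1 hi))
  refine (Polynomial.separable_map (algebraMap k K)).1 (PerfectField.separable_iff_squarefree.2 ?_)
  change Squarefree g
  rintro q ⟨r, hr⟩
  have hq : q * r ≠ 0 := fun h => hgm.ne_zero (by rw [hr, mul_assoc, h, mul_zero])
  have h2 : IsNilpotent (Polynomial.aeval z (q * r)) := ⟨2, by
    rw [← map_pow, show (q * r) ^ 2 = g * r by rw [hr]; ring, map_mul, hg0, zero_mul]⟩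
  obtain ⟨s, hs⟩ := hmin _ (H _ h2)
  refine IsUnit.of_mul_eq_one s (mul_left_cancel₀ hq ?_)
  calc q * r * (q * s) = q * q * r * s := by ring
    _ = q * r * 1 := by rw [← hr, ← hs, mul_one]

theorem sep_of_formallyUnramified {B : Type*} [CommRing B] [Algebra k B] [FiniteDimensional k B]
    [Algebra.FormallyUnramified k B] (x : B) : IsSeparable k x := by
  refine sep_of_reduced_closure x fun h hh => ?_
  haveI := Algebra.FormallyUnramified.isReduced_of_field (AlgebraicClosure k) (AlgebraicClosure k ⊗[k] B)
  exact hh.eq_zero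

theorem regular_of_semisimple {R : Type*} [Ring R] [IsSemisimpleRing R] (c : R) : ∃ a, c * a * c = c := by
  obtain ⟨p, hp⟩ := exists_isCompl (Submodule.span R ({c} : Set R))
  obtain ⟨u, hu, v, hv, huv⟩ := Submodule.mem_sup.1 (show (1 : R) ∈ Submodule.span R {c} ⊔ p by
    rw [hp.sup_eq_top]; trivial)
  obtain ⟨a, rfl⟩ := Submodule.mem_span_singleton.1 hu
  refine ⟨a, ?_⟩
  have h1 : c * v ∈ Submodule.span R {c} ⊓ p := by
    refine ⟨Submodule.mem_span_singleton.2 ⟨1 - c * a, ?_⟩, p.smul_mem c hv⟩
    simp only [smul_eq_mul] at huv ⊢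
    rw [eq_sub_of_add_eq' huv]; noncomm_ring
  rw [hp.inf_eq_bot, Submodule.mem_bot] at h1
  simp only [smul_eq_mul] at huv
  calc c * a * c = c * (a * c + v) := by rw [mul_add, h1, add_zero, mul_assoc]
    _ = c := by rw [huv, mul_one]

variable {A : Type*} [Ring A] [Algebra k A]

theorem regular_descend [IsSemisimpleRing (AlgebraicClosure k ⊗[k] A)] (c : A) : ∃ a, c * a * c = c := by
  obtain ⟨π, hπ⟩ := LinearMap.exists_leftInverse_of_injective (Algebra.linearMap k (AlgebraicClosure k))
    (LinearMap.ker_eq_bot.2 (algebraMap k (AlgebraicClosure k)).injective)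
  let Q : AlgebraicClosure k ⊗[k] A →ₗ[k] A := (TensorProduct.lid k A).toLinearMap ∘ₗ π.rTensor A
  obtain ⟨t, ht⟩ := regular_of_semisimple ((1 : AlgebraicClosure k) ⊗ₜ[k] c)
  have h1 : π 1 = 1 := by simpa using LinearMap.congr_fun hπ 1
  have hQ : ∀ t, Q ((1 : AlgebraicClosure k) ⊗ₜ[k] c * t * ((1 : AlgebraicClosure k) ⊗ₜ[k] c)) = c * Q t * c := by
    intro t
    induction t with
    | zero => simp
    | add a b ha hb => simp only [mul_add, add_mul, map_add, ha, hb]
    | tmul b a => simp [Q, mul_smul_comm, smul_mul_assoc]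
  exact ⟨Q t, by rw [← hQ, ht]; simp [Q, h1]⟩

theorem exists_projection [FiniteDimensional k A] (L : Subalgebra k A) (hc : ∀ x ∈ L, ∀ y ∈ L, x * y = y * x)
    (hsep : Algebra.IsSeparable k L) : ∃ E : A →ₗ[k] A, (∀ a, E a ∈ Subalgebra.centralizer k (L : Set A)) ∧
      (∀ c ∈ Subalgebra.centralizer k (L : Set A), ∀ a, E (c * a) = c * E a ∧ E (a * c) = E a * c) ∧ E 1 = 1 := by
  letI : CommRing L := { (inferInstance : Ring L) with mul_comm := fun a b => Subtype.ext (hc a a.2 b b.2) }
  haveI : Algebra.FormallyUnramified k L :=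
    formallyUnramified_of_gen Set.univ (Algebra.adjoin_univ k L) fun x _ => hsep.isSeparable' x
  let Φ : L ⊗[k] L →ₗ[k] (A →ₗ[k] A) := TensorProduct.lift (LinearMap.mk₂ k
    (fun l m : L => LinearMap.mulLeft k (l : A) ∘ₗ LinearMap.mulRight k (m : A))
    (fun l l' m => by ext; simp [add_mul]) (fun r l m => by ext; simp)
    (fun l m m' => by ext; simp [mul_add]) (fun r l m => by ext; simp))
  let t := Algebra.FormallyUnramified.elem k L
  have hl : ∀ (s : L) u a, (s : A) * Φ u a = Φ ((s ⊗ₜ 1) * u) a := fun s u a => by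
    induction u with
    | zero => simp
    | add x y hx hy => simp only [mul_add, map_add, LinearMap.add_apply, hx, hy]
    | tmul l m => simp [Φ, mul_assoc]
  have hr : ∀ (s : L) u a, Φ u a * (s : A) = Φ ((1 ⊗ₜ s) * u) a := fun s u a => by
    induction u with
    | zero => simp
    | add x y hx hy => simp only [add_mul, mul_add, map_add, LinearMap.add_apply, hx, hy]
    | tmul l m => simp [Φ, mul_assoc, hc s s.2 m m.2]
  have h1 : ∀ u, Φ u 1 = (Algebra.TensorProduct.lmul' k u : L) := fun u => by
    induction u with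
    | zero => simp
    | add x y hx hy => simp only [map_add, LinearMap.add_apply, hx, hy, Subalgebra.coe_add]
    | tmul l m => simp [Φ]
  refine ⟨Φ t, fun a g hg => ?_, fun c hcC a => ?_, ?_⟩
  · rw [hl ⟨g, hg⟩, hr ⟨g, hg⟩, Algebra.FormallyUnramified.one_tmul_mul_elem]
  · have hcL : ∀ l : L, (l : A) * c = c * l := fun l => hcC l l.2
    constructor
    · induction t with
      | zero => simp
      | add x y hx hy => simp only [map_add, LinearMap.add_apply, mul_add, hx, hy]
      | tmul l m => simp [Φ, ← mul_assoc, hcL l]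
    · induction t with
      | zero => simp
      | add x y hx hy => simp only [map_add, LinearMap.add_apply, add_mul, hx, hy]
      | tmul l m => simp [Φ, mul_assoc, hcL m]
  · rw [h1, Algebra.FormallyUnramified.lmul_elem]; rfl

theorem isSeparable_mul_X {R : Type*} [Ring R] [Algebra k R] (y : R) (q : Polynomial k) (hq : q.Separable)
    (h0 : q.coeff 0 ≠ 0) (h : y * Polynomial.aeval y q = 0) : IsSeparable k y := by
  refine Polynomial.Separable.of_dvd (Polynomial.Separable.mul Polynomial.separable_X hq ?_)
    (minpoly.dvd k y (p := Polynomial.X * q) (by simpa using h))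
  exact (Polynomial.irreducible_X.coprime_iff_not_dvd).2 (by rwa [Polynomial.X_dvd_iff])

theorem sep_trans {K D : Type*} [Field K] [Algebra k K] [Algebra.IsSeparable k K] [Ring D] [Algebra k D]
    [Algebra K D] [IsScalarTower k K D] [FiniteDimensional k D] (x : D) (hx : IsSeparable K x) : IsSeparable k x := by
  have hs : ∀ a ∈ ({x} : Set D), ∀ b ∈ ({x} : Set D), a * b = b * a := by
    rintro a rfl b rfl; rfl
  have hgen : Algebra.adjoin K (Subtype.val ⁻¹' {x} : Set (Algebra.adjoin K ({x} : Set D))) = ⊤ :=
    Algebra.adjoin_adjoin_coe_preimage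
  have hc : ∀ a b : Algebra.adjoin K ({x} : Set D), a * b = b * a := fun a b => Subtype.ext
    ((Algebra.commute_of_mem_adjoin_of_forall_mem_commute b.2 fun c hc' =>
      (Algebra.commute_of_mem_adjoin_of_forall_mem_commute a.2 fun d hd => hs c hc' d hd).symm).eq)
  letI : CommRing (Algebra.adjoin K ({x} : Set D)) :=
    { (inferInstance : Ring (Algebra.adjoin K ({x} : Set D))) with mul_comm := hc }
  haveI : Algebra.FormallyUnramified K (Algebra.adjoin K ({x} : Set D)) :=
    formallyUnramified_of_gen _ hgen fun y hy => by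
      rw [Set.mem_preimage, Set.mem_singleton_iff] at hy
      unfold IsSeparable at hx ⊢
      rwa [← minpoly.algHom_eq (Algebra.adjoin K ({x} : Set D)).val Subtype.val_injective y,
        Subalgebra.coe_val, hy]
  haveI : Algebra.FormallyUnramified k K :=
    formallyUnramified_of_gen Set.univ (Algebra.adjoin_univ k K) fun z _ => Algebra.IsSeparable.isSeparable k z
  haveI : Algebra.FormallyUnramified k (Algebra.adjoin K ({x} : Set D)) :=
    Algebra.FormallyUnramified.comp k K _
  haveI : FiniteDimensional k (Algebra.adjoin K ({x} : Set D)) :=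
    Module.Finite.of_injective ((Algebra.adjoin K ({x} : Set D)).val.restrictScalars k).toLinearMap Subtype.val_injective
  have h := sep_of_formallyUnramified (k := k) (⟨x, Algebra.self_mem_adjoin_singleton K x⟩ : Algebra.adjoin K ({x} : Set D))
  unfold IsSeparable at h ⊢
  rwa [← minpoly.algHom_eq ((Algebra.adjoin K ({x} : Set D)).val.restrictScalars k) Subtype.val_injective] at h

section Main

variable [FiniteDimensional k A] [IsSemisimpleRing (AlgebraicClosure k ⊗[k] A)] (L : Subalgebra k A)

theorem mem_of_separable (hc : ∀ x ∈ L, ∀ y ∈ L, x * y = y * x) (hsep : Algebra.IsSeparable k L)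
    (hmax : ∀ L' : Subalgebra k A, (∀ x ∈ L', ∀ y ∈ L', x * y = y * x) → Algebra.IsSeparable k L' → L ≤ L' → L' = L)
    (x : A) (hxC : x ∈ Subalgebra.centralizer k (L : Set A)) (hx : IsSeparable k x) : x ∈ L := by
  let s : Set A := insert x (L : Set A)
  have hs : ∀ a ∈ s, ∀ b ∈ s, a * b = b * a := by
    rintro a (rfl | ha) b (rfl | hb)
    · rfl
    · exact (hxC b hb).symm
    · exact hxC a ha
    · exact hc a ha b hb
  have hBc : ∀ a ∈ Algebra.adjoin k s, ∀ b ∈ Algebra.adjoin k s, a * b = b * a := fun a ha b hb => by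
    refine (Algebra.commute_of_mem_adjoin_of_forall_mem_commute hb fun c hc' => ?_).eq
    exact (Algebra.commute_of_mem_adjoin_of_forall_mem_commute ha fun d hd => hs c hc' d hd).symm
  have hgen : Algebra.adjoin k (Subtype.val ⁻¹' s : Set (Algebra.adjoin k s)) = ⊤ :=
    Algebra.adjoin_adjoin_coe_preimage
  letI : CommRing (Algebra.adjoin k s) :=
    { (inferInstance : Ring (Algebra.adjoin k s)) with mul_comm := fun a b => Subtype.ext (hBc a a.2 b b.2) }
  have hL : ∀ y : L, IsSeparable k (y : A) := fun y => by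
    have h := hsep.isSeparable' y
    unfold IsSeparable at h ⊢
    rwa [← minpoly.algHom_eq L.val Subtype.val_injective y] at h
  haveI : Algebra.FormallyUnramified k (Algebra.adjoin k s) := formallyUnramified_of_gen (Subtype.val ⁻¹' s)
    hgen fun y hy => by
      have h : IsSeparable k (y : A) := by
        rcases hy with hy | hy
        · rwa [hy]
        · exact hL ⟨y, hy⟩
      unfold IsSeparable at h ⊢
      rwa [← minpoly.algHom_eq (Algebra.adjoin k s).val Subtype.val_injective y]
  have hB : Algebra.adjoin k s = L :=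
    hmax _ hBc ⟨fun y => sep_of_formallyUnramified y⟩ fun y hy => Algebra.subset_adjoin (Or.inr hy)
  exact hB ▸ Algebra.subset_adjoin (Or.inl rfl)

theorem centralizer_le (hc : ∀ x ∈ L, ∀ y ∈ L, x * y = y * x) (hsep : Algebra.IsSeparable k L)
    (hmax : ∀ L' : Subalgebra k A, (∀ x ∈ L', ∀ y ∈ L', x * y = y * x) → Algebra.IsSeparable k L' → L ≤ L' → L' = L) :
    Subalgebra.centralizer k (L : Set A) ≤ L := by
  obtain ⟨E, hE1, hE2, hE3⟩ := exists_projection L hc hsep
  set C := Subalgebra.centralizer k (L : Set A) with hC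
  have hEc : ∀ c ∈ C, E c = c := fun c hcC => by
    have := (hE2 c hcC 1).1
    rwa [hE3, mul_one] at this
  have hLC : L ≤ C := fun x hx g hg => hc g hg x hx
  have hreg : ∀ c ∈ C, ∃ d ∈ C, c * d * c = c := fun c hcC => by
    obtain ⟨a, ha⟩ := regular_descend (k := k) c
    refine ⟨E a, hE1 a, ?_⟩
    rw [← (hE2 c hcC a).1, ← (hE2 c hcC _).2, ha, hEc c hcC]
  have key : ∀ x ∈ C, IsSeparable k x → x ∈ L := mem_of_separable L hc hsep hmax
  have hcentre : ∀ z ∈ C, (∀ c ∈ C, c * z = z * c) → IsSeparable k z := by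
    intro z hzC hz
    refine sep_of_reduced_closure z fun h hw => ?_
    let K := AlgebraicClosure k
    let P : K ⊗[k] A →ₗ[k] K ⊗[k] A := E.lTensor K
    set w := Polynomial.aeval ((1 : K) ⊗ₜ[k] z) h with hwdef
    have hP : ∀ (h : Polynomial K) (t : K ⊗[k] A),
        P (Polynomial.aeval ((1 : K) ⊗ₜ[k] z) h * t) = Polynomial.aeval ((1 : K) ⊗ₜ[k] z) h * P t ∧
        P (t * Polynomial.aeval ((1 : K) ⊗ₜ[k] z) h) = P t * Polynomial.aeval ((1 : K) ⊗ₜ[k] z) h ∧
        Commute (P t) (Polynomial.aeval ((1 : K) ⊗ₜ[k] z) h) := by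
      intro h t
      induction h using Polynomial.induction_on' with
      | add p q hp hq =>
        refine ⟨?_, ?_, ?_⟩
        · rw [map_add, add_mul, add_mul, map_add, hp.1, hq.1]
        · rw [map_add, mul_add, mul_add, map_add, hp.2.1, hq.2.1]
        · rw [map_add]; exact hp.2.2.add_right hq.2.2
      | monomial i r =>
        have hm : Polynomial.aeval ((1 : K) ⊗ₜ[k] z) (Polynomial.monomial i r) = r ⊗ₜ[k] (z ^ i) := by
          rw [Polynomial.aeval_monomial, Algebra.TensorProduct.tmul_pow, Algebra.TensorProduct.algebraMap_apply,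
            Algebra.TensorProduct.tmul_mul_tmul, one_pow, mul_one, one_mul]
          rfl
        have hzi : z ^ i ∈ C := pow_mem hzC i
        rw [hm]
        induction t with
        | zero => simp
        | add a b ha hb =>
          refine ⟨?_, ?_, ?_⟩
          · rw [mul_add, map_add, map_add, mul_add, ha.1, hb.1]
          · rw [add_mul, map_add, map_add, add_mul, ha.2.1, hb.2.1]
          · rw [map_add]; exact ha.2.2.add_left hb.2.2
        | tmul b a =>
          have hcm : E a * z ^ i = z ^ i * E a := (Commute.pow_right (hz (E a) (hE1 a)) i).eq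
          simp [P, (hE2 _ hzi a).1, (hE2 _ hzi a).2, Commute, SemiconjBy, mul_comm b r, hcm]
    obtain ⟨t, ht⟩ := regular_of_semisimple w
    have hw2 : w * P t * w = w := by
      rw [← (hP h t).1, ← (hP h (w * t)).2.1, ht]
      have := (hP h 1).1
      rw [mul_one] at this
      rw [this, show P 1 = 1 by simp [P, Algebra.TensorProduct.one_def, hE3], mul_one]
    have hcm : Commute w (P t) := (hP h t).2.2.symm
    have hn : IsNilpotent (w * P t) := hcm.isNilpotent_mul_right hw
    obtain ⟨m, hm⟩ := hn
    have : ∀ j, (w * P t) ^ j * w = w := by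
      intro j
      induction j with
      | zero => simp
      | succ j ih => rw [pow_succ, mul_assoc, hw2, ih]
    rw [← this m, hm, zero_mul]
  have hidem : ∀ f ∈ C, f * f = f → ∀ c ∈ C, f * c = c * f := by
    intro f hf hff c hcC
    refine hcC f (key f hf ?_)
    refine Polynomial.Separable.of_dvd ?_ (minpoly.dvd k f (p := Polynomial.X ^ 2 - Polynomial.X) (by simp [sq, hff]))
    refine ⟨-4, 2 * Polynomial.X - 1, ?_⟩
    simp only [Polynomial.derivative_sub, Polynomial.derivative_X_pow, Polynomial.derivative_X]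
    simp only [Nat.cast_ofNat, Polynomial.C_ofNat, Nat.add_one_sub_one, pow_one]
    ring
  intro c₀ hc₀
  by_contra hne
  classical
  let S := {e : A | e ∈ L ∧ e * e = e ∧ e * c₀ ∉ L}
  have hS : S.Nonempty := ⟨1, one_mem L, one_mul 1, by rwa [one_mul]⟩
  let μ : A → ℕ := fun e => Module.finrank k (LinearMap.range (LinearMap.mulLeft k e))
  obtain ⟨e, ⟨heL, hee, hec⟩, hemin⟩ := (InvImage.wf μ Nat.lt_wfRel.wf).has_min S hS
  have heC : e ∈ C := hLC heL
  have hece : ∀ c ∈ C, e * c = c * e := fun c hcC => hcC e heL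
  have hprim : ∀ f ∈ C, f * f = f → f * e = f → f = 0 ∨ f = e := by
    intro f hf hff hfe
    have hef : e * f = f := by rw [hece f hf, hfe]
    have hfL : f ∈ L := key f hf (by
      refine Polynomial.Separable.of_dvd ?_ (minpoly.dvd k f (p := Polynomial.X ^ 2 - Polynomial.X) (by simp [sq, hff]))
      refine ⟨-4, 2 * Polynomial.X - 1, ?_⟩
      simp only [Polynomial.derivative_sub, Polynomial.derivative_X_pow, Polynomial.derivative_X]
      simp only [Nat.cast_ofNat, Polynomial.C_ofNat, Nat.add_one_sub_one, pow_one]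
      ring)
    have hsub : ∀ g ∈ L, g * g = g → e * g = g → g * c₀ ∉ L → g = e := by
      intro g hgL hgg heg hgc
      by_contra hge
      refine hemin g ⟨hgL, hgg, hgc⟩ ?_
      show μ g < μ e
      refine Submodule.finrank_lt_finrank_of_lt (lt_of_le_of_ne ?_ fun h => hge ?_)
      · rintro _ ⟨a, rfl⟩; exact ⟨g * a, by simp [← mul_assoc, heg]⟩
      · obtain ⟨a, ha⟩ : e ∈ LinearMap.range (LinearMap.mulLeft k g) := h ▸ ⟨1, by simp⟩
        simp only [LinearMap.mulLeft_apply] at ha
        calc g = e * g := heg.symm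
          _ = g * e := hc e heL g hgL
          _ = e := by rw [← ha, ← mul_assoc, hgg]
    by_cases h1 : f * c₀ ∈ L
    · left
      have h2 : (e - f) * c₀ ∉ L := fun h => hec (by
        have := add_mem h h1
        rwa [← add_mul, sub_add_cancel] at this)
      have h3 := hsub (e - f) (sub_mem heL hfL) (by simp [sub_mul, mul_sub, hee, hff, hfe, hef])
        (by rw [mul_sub, hee, hef]) h2
      simpa using h3
    · right; exact hsub f hfL hff hef h1
  have hi : IsIdempotentElem (⟨e, heC⟩ : C) := Subtype.ext hee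
  let D := hi.Corner
  have hmem : ∀ d : D, (⟨e, heC⟩ : C) * d.1 = d.1 ∧ d.1 * ⟨e, heC⟩ = d.1 := fun d =>
    ⟨(Subsemigroup.mem_corner_iff hi).1 d.2 |>.1, (Subsemigroup.mem_corner_iff hi).1 d.2 |>.2⟩
  have mkD : ∀ c : C, ∃ d : D, (d.1 : C) = ⟨e, heC⟩ * c * ⟨e, heC⟩ := fun c => ⟨⟨_, ⟨c, rfl⟩⟩, rfl⟩
  haveI : Nontrivial D := ⟨⟨0, 1, fun h => hec (by
    have h0 : (0 : A) = e := congrArg (fun d : D => (d.1 : A)) h
    rw [← h0, zero_mul]; exact zero_mem L)⟩⟩
  have hu : ∀ d : D, IsUnit d ∨ d = 0 := by
    intro d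
    by_cases hd : d = 0
    · exact Or.inr hd
    left
    obtain ⟨a, haC, ha⟩ := hreg _ d.1.2
    set de := (d.1 : A) with hde
    have hde1 : e * de = de := congrArg Subtype.val (hmem d).1
    have hde2 : de * e = de := congrArg Subtype.val (hmem d).2
    have hne0 : de ≠ 0 := fun h => hd (Subtype.ext (Subtype.ext h))
    have hade : a * de = e := by
      rcases hprim (a * de) (mul_mem haC d.1.2) (by rw [mul_assoc, ← mul_assoc de, ha]) (by rw [mul_assoc, hde2]) with h | h
      · exact absurd (by rw [← ha, mul_assoc, h, mul_zero]) hne0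
      · exact h
    have hdea : de * a = e := by
      rcases hprim (de * a) (mul_mem d.1.2 haC) (by rw [← mul_assoc, ha])
        (by rw [← hece _ (mul_mem d.1.2 haC), ← mul_assoc, hde1]) with h | h
      · exact absurd (by rw [← ha, h, zero_mul]) hne0
      · exact h
    obtain ⟨b, hb⟩ := mkD ⟨a, haC⟩
    have hb' : (b.1 : A) = e * a * e := congrArg Subtype.val hb
    refine ⟨⟨d, b, Subtype.ext (Subtype.ext ?_), Subtype.ext (Subtype.ext ?_)⟩, rfl⟩
    · show de * (b.1 : A) = e
      rw [hb', ← mul_assoc, ← mul_assoc, hde2, hdea, hee]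
    · show (b.1 : A) * de = e
      rw [hb', mul_assoc, hde1, mul_assoc, hade, hee]
  letI : DivisionRing D := DivisionRing.ofIsUnitOrEqZero hu
  let em : C := ⟨e, heC⟩
  have hem : em * em = em := Subtype.ext hee
  let f : k →+* D :=
    { toFun := fun r => ⟨r • em, (Subsemigroup.mem_corner_iff hi).2 ⟨by rw [mul_smul_comm, hem], by rw [smul_mul_assoc, hem]⟩⟩
      map_one' := Subtype.ext (one_smul k em)
      map_mul' := fun r r' => Subtype.ext (show (r * r') • em = (r • em) * (r' • em) by
        rw [smul_mul_assoc, mul_smul_comm, hem, mul_smul])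
      map_zero' := Subtype.ext (zero_smul k em)
      map_add' := fun r r' => Subtype.ext (add_smul r r' em) }
  let ι : D → A := fun d => (d.1 : A)
  have hιe : ∀ d : D, e * ι d = ι d ∧ ι d * e = ι d := fun d =>
    ⟨congrArg Subtype.val (hmem d).1, congrArg Subtype.val (hmem d).2⟩
  have hfd : ∀ r d, ι (f r * d) = r • ι d ∧ ι (d * f r) = r • ι d := fun r d =>
    ⟨show r • e * ι d = r • ι d by rw [smul_mul_assoc, (hιe d).1],
      show ι d * (r • e) = r • ι d by rw [mul_smul_comm, (hιe d).2]⟩
  have hinj : Function.Injective ι := fun a b h => Subtype.ext (Subtype.ext h)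
  letI : Algebra k D := f.toAlgebra' fun r d => hinj ((hfd r d).1.trans (hfd r d).2.symm)
  have hsmul : ∀ (r : k) d, ι (r • d) = r • ι d := fun r d => by rw [Algebra.smul_def]; exact (hfd r d).1
  let ιl : D →ₗ[k] A := { toFun := ι, map_add' := fun _ _ => rfl, map_smul' := hsmul }
  haveI : FiniteDimensional k D := Module.Finite.of_injective ιl hinj
  have hpow : ∀ (d : D) (i : ℕ), ι d ^ i * e = ι (d ^ i) := fun d i => by
    induction i with
    | zero => rw [pow_zero, pow_zero, one_mul]; rfl
    | succ i ih =>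
      rw [pow_succ, pow_succ, mul_assoc, (hιe d).2]
      show _ = ι (d ^ i) * ι d
      rw [← ih, mul_assoc, (hιe d).1]
  have haev : ∀ (d : D) (q : Polynomial k), Polynomial.aeval (ι d) q * e = ι (Polynomial.aeval d q) := fun d q => by
    induction q using Polynomial.induction_on' with
    | add p q hp hq => rw [map_add, map_add, add_mul, hp, hq]; rfl
    | monomial i r =>
      rw [Polynomial.aeval_monomial, Polynomial.aeval_monomial, ← Algebra.smul_def, ← Algebra.smul_def, smul_mul_assoc,
        hpow, hsmul]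
  have hsepD : ∀ d : D, IsSeparable k d → ι d ∈ L := by
    intro d hd
    by_cases h0 : d = 0
    · rw [h0]; exact zero_mem L
    refine key _ d.1.2 (isSeparable_mul_X _ _ hd (minpoly.coeff_zero_ne_zero (IsIntegral.of_finite k d) h0) ?_)
    rw [← (Algebra.commute_of_mem_adjoin_self (Polynomial.aeval_mem_adjoin_singleton k (ι d))).symm.eq]
    calc Polynomial.aeval (ι d) (minpoly k d) * ι d = Polynomial.aeval (ι d) (minpoly k d) * e * ι d := by
          rw [mul_assoc, (hιe d).1]
      _ = 0 := by rw [haev, minpoly.aeval]; exact zero_mul _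
  have hmk : ∀ c ∈ C, ∃ d : D, ι d = e * c ∧ ι d = c * e := fun c hcC => by
    obtain ⟨d, hd⟩ := mkD ⟨c, hcC⟩
    have h : ι d = e * c * e := congrArg Subtype.val hd
    refine ⟨d, ?_, ?_⟩
    · rw [h, mul_assoc, ← hece c hcC, ← mul_assoc, hee]
    · rw [h, hece c hcC, mul_assoc, hee]
  have hzsep : ∀ z ∈ Subring.center D, IsSeparable k z := by
    intro z hz
    have h1 : IsSeparable k (ι z) := hcentre _ z.1.2 fun c hcC => by
      obtain ⟨d, hd1, hd2⟩ := hmk c hcC
      have h2 : ι d * ι z = ι z * ι d := congrArg ι (Subring.mem_center_iff.1 hz d)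
      calc c * ι z = c * e * ι z := by rw [mul_assoc, (hιe z).1]
        _ = ι z * (e * c) := by rw [← hd2, h2, hd1]
        _ = ι z * c := by rw [← mul_assoc, (hιe z).2]
    refine Polynomial.Separable.of_dvd h1 (minpoly.dvd k z (hinj ?_))
    rw [← haev, minpoly.aeval, zero_mul]; rfl
  obtain ⟨d₀, hd₀, -⟩ := hmk c₀ hc₀
  have hnc : Subring.center D ≠ ⊤ := fun h => hec (hd₀ ▸ hsepD d₀ (hzsep d₀ (h ▸ Subring.mem_top _)))
  letI : Algebra k (Subring.center D) := ((algebraMap k D).codRestrict (Subring.center D)
    fun r => Subring.mem_center_iff.2 fun d => (Algebra.commutes r d).symm).toAlgebra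
  haveI : IsScalarTower k (Subring.center D) D := .of_algebraMap_eq fun r => rfl
  haveI : Algebra.IsAlgebraic (Subring.center D) D := Algebra.IsAlgebraic.tower_top (K := k) _
  obtain ⟨x, hxn, hx⟩ := JacobsonNoether.exists_separable_and_not_isCentral D hnc
  haveI : Algebra.IsSeparable k (Subring.center D) := ⟨fun z => by
    have h := hzsep z.1 z.2
    unfold IsSeparable at h ⊢
    rwa [← minpoly.algHom_eq (IsScalarTower.toAlgHom k (Subring.center D) D) Subtype.val_injective z]⟩
  have hxL := hsepD x (sep_trans x hx)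
  refine hxn (Subring.mem_center_iff.2 fun d => hinj ?_)
  show ι d * ι x = ι x * ι d
  exact (d.1.2 _ hxL).symm

end Main
/-- Let k be a field and A a finite-dimensional k-algebra which is absolutely semisimple (its base
change to an algebraic closure of k is a semisimple ring). For a subalgebra L of A, call L étale
when it is commutative and all its elements are separable over k. Then L is étale and equal to its
own centralizer in A if and only if L is a maximal étale subalgebra of A. -/
theorem result (k : Type u) [Field k] (A : Type v) [Ring A] [Algebra k A] [FiniteDimensional k A] (hss : IsSemisimpleRing (AlgebraicClosure k ⊗[k] A)) (L : Subalgebra k A) : ((∀ x ∈ L, ∀ y ∈ L, x * y = y * x) ∧ Algebra.IsSeparable k L ∧ Subalgebra.centralizer k (L : Set A) = L) ↔ ((∀ x ∈ L, ∀ y ∈ L, x * y = y * x) ∧ Algebra.IsSeparable k L ∧ ∀ L' : Subalgebra k A, (∀ x ∈ L', ∀ y ∈ L', x * y = y * x) → Algebra.IsSeparable k L' → L ≤ L' → L' = L) := by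
  haveI := hss
  constructor
  · rintro ⟨h1, h2, h3⟩
    refine ⟨h1, h2, fun L' hc' _ hle => le_antisymm (fun x hx => ?_) hle⟩
    rw [← h3]
    exact fun g hg => hc' g (hle hg) x hx
  · rintro ⟨h1, h2, h3⟩
    exact ⟨h1, h2, le_antisymm (centralizer_le L h1 h2 h3) fun x hx g hg => h1 g hg x hx⟩

end Groth.Agent.S5701
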