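import Mathlib
import Groth.Agent.AzLiftLib.Alg
import Groth.Agent.CSADescent.Tensor
import Groth.Statements.S5703
-- import your own Groth.Agent.* helpers here

set_option autoImplicit false
universe u v
open TensorProduct
open Dix
open Groth.Agent.AzLiftLib

namespace Groth.Agent.S5703

/-- Let R be a henselian local ring with residue field k and let A, B be Azumaya algebras over R. Then
every isomorphism of k-algebras e₀ : k ⊗_R A ≃ k ⊗_R B is induced by an isomorphism of R-algebras e
: A ≃ B, in the sense that e₀ (1 ⊗ a) = 1 ⊗ e(a) for all a. In particular Azumaya algebras over R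
with isomorphic special fibres are isomorphic. -/
theorem result (R : Type u) [CommRing R] [HenselianLocalRing R] (A : Type u) [Ring A] [Algebra R A] [IsAzumaya R A] (B : Type u) [Ring B] [Algebra R B] [IsAzumaya R B] (e₀ : (IsLocalRing.ResidueField R ⊗[R] A) ≃ₐ[IsLocalRing.ResidueField R] (IsLocalRing.ResidueField R ⊗[R] B)) : ∃ e : A ≃ₐ[R] B, ∀ a : A, e₀ ((1 : IsLocalRing.ResidueField R) ⊗ₜ[R] a) = (1 : IsLocalRing.ResidueField R) ⊗ₜ[R] (e a) := by
  classical
  set k := IsLocalRing.ResidueField R with hk
  haveI : Module.Free R A := Module.free_of_flat_of_isLocalRing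
  haveI : Module.Free R B := Module.free_of_flat_of_isLocalRing
  have hn : Module.finrank R B = Module.finrank R A := by
    rw [← Module.finrank_baseChange (R := k) (S := R) (M' := B), ← e₀.toLinearEquiv.finrank_eq, Module.finrank_baseChange]
  haveI : Nontrivial A := by
    by_contra h
    rw [not_nontrivial_iff_subsingleton] at h
    exact one_ne_zero (α := R) (eq_of_smul_eq_smul (α := A) fun a => Subsingleton.elim _ _)
  let bA := Module.finBasis R A
  let bB := Module.finBasisOfFinrankEq R B hn
  haveI : Nonempty (Fin (Module.finrank R A)) := by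
    by_contra h
    haveI := not_nonempty_iff.mp h
    haveI := bA.equivFun.toEquiv.subsingleton
    exact false_of_nontrivial_of_subsingleton A
  let bkA := Algebra.TensorProduct.basis k bA
  let bkB := Algebra.TensorProduct.basis k bB
  let G₀ : Matrix (Fin (Module.finrank R A)) (Fin (Module.finrank R A)) k :=
    LinearMap.toMatrix bkA bkB e₀.toLinearMap
  have hG₀ : ∀ x, G₀.mulVec (bkA.equivFun x) = bkB.equivFun (e₀ x) := fun x => by
    have := LinearMap.toMatrix_mulVec_repr bkA bkB e₀.toLinearMap x
    exact this
  have hconst : ∀ {M : Type u} [Ring M] [Algebra R M] (bM : Module.Basis (Fin (Module.finrank R A)) R M),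
      (fun i j l => algebraMap R k (constants bM i j l)) = constants (Algebra.TensorProduct.basis k bM) := by
    intro M _ _ bM
    funext i j l
    rw [constants, constants, Algebra.TensorProduct.basis_apply, Algebra.TensorProduct.basis_apply,
      Algebra.TensorProduct.tmul_mul_tmul, mul_one, Module.Basis.equivFun_apply, Module.Basis.equivFun_apply,
      Algebra.TensorProduct.basis_repr_tmul]
    simp [Algebra.algebraMap_eq_smul_one]
  obtain ⟨G, hGu, hGmul, hGr⟩ := exists_hom_lift (constants bA) (constants bB) (bA.equivFun 1)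
    (dd_constants_isUnit bA IsAzumaya.bij) (constants_assoc bA) (constants_assoc bB) G₀ (fun x y => by
      obtain ⟨x, rfl⟩ := bkA.equivFun.surjective x
      obtain ⟨y, rfl⟩ := bkA.equivFun.surjective y
      rw [mulDef, sub_eq_zero, hconst bA, hconst bB, ← equivFun_mul, hG₀, hG₀, hG₀, ← equivFun_mul, map_mul]) (by
      rw [← Matrix.isUnit_iff_isUnit_det, ← mulVec_bijective_iff]
      refine ⟨fun x y h => ?_, fun y => ?_⟩
      · obtain ⟨x, rfl⟩ := bkA.equivFun.surjective x
        obtain ⟨y, rfl⟩ := bkA.equivFun.surjective y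
        rw [hG₀, hG₀] at h
        rw [e₀.injective (bkB.equivFun.injective h)]
      · obtain ⟨y, rfl⟩ := bkB.equivFun.surjective y
        obtain ⟨x, rfl⟩ := e₀.surjective y
        exact ⟨bkA.equivFun x, hG₀ x⟩)
  let L : A ≃ₗ[R] B := bA.equivFun.trans ((LinearEquiv.ofBijective G.mulVecLin
    ((mulVec_bijective_iff G).mpr ((Matrix.isUnit_iff_isUnit_det G).mpr hGu))).trans bB.equivFun.symm)
  have hLG : ∀ x, bB.equivFun (L x) = G.mulVec (bA.equivFun x) := fun x =>
    bB.equivFun.apply_symm_apply _
  have hmul : ∀ x y, L (x * y) = L x * L y := fun x y => bB.equivFun.injective (by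
    rw [hLG, equivFun_mul, equivFun_mul, hLG, hLG, hGmul])
  have hone : L 1 = 1 := by
    obtain ⟨z, hz⟩ := L.surjective 1
    calc L 1 = L 1 * L z := by rw [hz, mul_one]
      _ = L z := by rw [← hmul, one_mul]
      _ = 1 := hz
  refine ⟨AlgEquiv.ofLinearEquiv L hone hmul, fun a => bkB.equivFun.injective ?_⟩
  have hres : ∀ {M : Type u} [AddCommGroup M] [Module R M] (bM : Module.Basis (Fin (Module.finrank R A)) R M) (z : M),
      (Algebra.TensorProduct.basis k bM).equivFun ((1 : k) ⊗ₜ[R] z) = algebraMap R k ∘ bM.equivFun z := by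
    intro M _ _ bM z
    funext i
    simp [Module.Basis.equivFun_apply, Algebra.TensorProduct.basis_repr_tmul, Algebra.algebraMap_eq_smul_one]
  show _ = bkB.equivFun ((1 : k) ⊗ₜ[R] L a)
  rw [← hG₀, hres bA, hres bB, hLG,
    show G₀ = G.map (algebraMap R k) from Matrix.ext fun i j => (hGr i j).symm]
  exact funext fun i => (RingHom.map_mulVec (algebraMap R k) G _ i).symm

end Groth.Agent.S5703
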