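import Mathlib
import Groth.Agent.AzLiftLib.Alg
import Groth.Agent.CSADescent.Tensor
import Groth.Statements.S5704
-- import your own Groth.Agent.* helpers here

set_option autoImplicit false
universe u v
open TensorProduct
open Dix
open Groth.Agent.AzLiftLib

namespace Groth.Agent.S5704

/-- Let R be a henselian local ring with residue field k and let A₀ be a finite-dimensional central
simple k-algebra. Then there exists an Azumaya algebra A over R whose special fibre k ⊗_R A is
isomorphic to A₀ as a k-algebra. -/
theorem result (R : Type u) [CommRing R] [HenselianLocalRing R] (A₀ : Type u) [Ring A₀] [Algebra (IsLocalRing.ResidueField R) A₀] [Algebra.IsCentral (IsLocalRing.ResidueField R) A₀] [IsSimpleRing A₀] [FiniteDimensional (IsLocalRing.ResidueField R) A₀] : ∃ (A : Type u) (_ : Ring A) (_ : Algebra R A), IsAzumaya R A ∧ Nonempty ((IsLocalRing.ResidueField R ⊗[R] A) ≃ₐ[IsLocalRing.ResidueField R] A₀) := by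
  classical
  set k := IsLocalRing.ResidueField R with hk
  let b := Module.finBasis k A₀
  haveI : Nonempty (Fin (Module.finrank k A₀)) := Fin.pos_iff_nonempty.mp Module.finrank_pos
  choose v hv using fun i => IsLocalRing.residue_surjective (R := R) (b.equivFun 1 i)
  have hd : IsUnit (dd (IsLocalRing.residue R ∘ v) (constants b)) := by
    rw [show IsLocalRing.residue R ∘ v = b.equivFun 1 from funext hv]
    exact dd_constants_isUnit b Groth.Agent.CSADescent.mulLeftRight_bijective
  obtain ⟨c, hca, hcd, hcr⟩ := exists_struct_lift v (constants b) (constants_assoc b) hd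
  obtain ⟨hθ, hl, hr⟩ := (dd_isUnit_iff v c).mp hcd
  obtain ⟨u, hu1, hu2⟩ := exists_unit hca hl hr
  let S : StrData R (Fin (Module.finrank k A₀)) :=
    ⟨c, u, fun x y z => sub_eq_zero.mp (hca x y z), hu1, hu2⟩
  let bA := StrAlg.basis S
  haveI : Module.Free R (StrAlg S) := Module.Free.of_basis bA
  haveI : Module.Finite R (StrAlg S) := Module.Finite.of_basis bA
  haveI : FaithfulSMul R (StrAlg S) := by
    refine ⟨fun {r s} h => ?_⟩
    obtain ⟨i⟩ := ‹Nonempty (Fin (Module.finrank k A₀))›
    have := congrArg (fun z => bA.repr z i) (h (bA i))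
    simpa using this
  refine ⟨StrAlg S, inferInstance, inferInstance, { bij := ?_ }, ?_⟩
  · let e1 : StrAlg S ⊗[R] (StrAlg S)ᵐᵒᵖ ≃ₗ[R] (Fin (Module.finrank k A₀) → R) ⊗[R] (Fin (Module.finrank k A₀) → R) :=
      TensorProduct.congr (StrAlg.equiv S) ((MulOpposite.opLinearEquiv R).symm.trans (StrAlg.equiv S))
    let e2 := LinearEquiv.conj (StrAlg.equiv S)
    have hh : e2.toLinearMap.comp (AlgHom.mulLeftRight R (StrAlg S)).toLinearMap =
        (theta (mulC c)).comp e1.toLinearMap := by
      apply TensorProduct.ext'
      intro x y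
      obtain ⟨y, rfl⟩ : ∃ y', y = MulOpposite.op y' := ⟨y.unop, rfl⟩
      refine LinearMap.ext fun a => ?_
      simp only [LinearMap.comp_apply, LinearEquiv.coe_coe, e1, e2, TensorProduct.congr_tmul, theta_tmul,
        LinearEquiv.conj_apply, AlgHom.toLinearMap_apply, AlgHom.mulLeftRight_apply]
      rfl
    have hf : ⇑e2 ∘ ⇑(AlgHom.mulLeftRight R (StrAlg S)) = ⇑(theta (mulC c)) ∘ ⇑e1 :=
      funext fun z => LinearMap.congr_fun hh z
    rw [← Function.Bijective.of_comp_iff' e2.bijective, hf]
    exact hθ.comp e1.bijective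
  · let bk : Module.Basis (Fin (Module.finrank k A₀)) k (k ⊗[R] StrAlg S) :=
      Algebra.TensorProduct.basis k bA
    let L := bk.equiv b (Equiv.refl _)
    have hL : ∀ i, L ((1 : k) ⊗ₜ bA i) = b i := fun i => by
      rw [← Algebra.TensorProduct.basis_apply (A := k) bA i]
      exact bk.equiv_apply i b (Equiv.refl _)
    have hmul : ∀ x y, L (x * y) = L x * L y := by
      have : (LinearMap.mul k (k ⊗[R] StrAlg S)).compr₂ L.toLinearMap =
          (LinearMap.mul k A₀).compl₁₂ L.toLinearMap L.toLinearMap :=
        bk.ext fun i => bk.ext fun j => by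
          simp only [LinearMap.compr₂_apply, LinearMap.compl₁₂_apply, LinearMap.mul_apply', LinearEquiv.coe_coe,
            bk, Algebra.TensorProduct.basis_apply, hL, Algebra.TensorProduct.tmul_mul_tmul, mul_one]
          have h1 : bA i * bA j = ∑ l, c i j l • bA l := by
            rw [← bA.sum_equivFun (bA i * bA j)]
            exact Finset.sum_congr rfl fun l _ => congrArg (· • bA l)
              (congrFun (congrFun (congrFun (StrAlg.constants_basis S) i) j) l)
          rw [h1, TensorProduct.tmul_sum, map_sum, ← b.sum_equivFun (b i * b j)]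
          refine Finset.sum_congr rfl fun l _ => ?_
          rw [TensorProduct.tmul_smul, ← algebraMap_smul k (c i j l), map_smul, hL]
          exact congrArg (· • b l) (hcr i j l)
      exact fun x y => LinearMap.congr_fun (LinearMap.congr_fun this x) y
    have hone : L 1 = 1 := by
      obtain ⟨z, hz⟩ := L.surjective 1
      calc L 1 = L 1 * L z := by rw [hz, mul_one]
        _ = L z := by rw [← hmul, one_mul]
        _ = 1 := hz
    exact ⟨AlgEquiv.ofLinearEquiv L hone hmul⟩

end Groth.Agent.S5704
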