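import Mathlib
import Mathlib
import Groth.Statements.S5705

set_option autoImplicit false
universe u v
open TensorProduct
open Dix
set_option linter.style.haveILetI false

namespace Groth.Agent.S5705

/-- Over a local base, where the Zariski-local conclusion becomes global. Let R be a local ring and A an
Azumaya algebra over R. Then every R-algebra automorphism u of A is inner, u(x) = a x a⁻¹ for some
unit a of A, and the unit a is determined up to multiplication by a unit of R. -/
theorem result (R : Type u) [CommRing R] [IsLocalRing R] (A : Type v) [Ring A] [Algebra R A] [IsAzumaya R A] (u : A ≃ₐ[R] A) : (∃ a : Aˣ, ∀ x : A, u x = (a : A) * x * (a⁻¹ : Aˣ)) ∧ (∀ a a' : Aˣ, (∀ x : A, u x = (a : A) * x * (a⁻¹ : Aˣ)) → (∀ x : A, u x = (a' : A) * x * (a'⁻¹ : Aˣ)) → ∃ c : Rˣ, (a' : A) = algebraMap R A (c : R) * (a : A)) := by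
  classical
  haveI : Module.Free R A := Module.free_of_flat_of_isLocalRing
  let m := IsLocalRing.maximalIdeal R
  let b := Module.Free.chooseBasis R A
  haveI : Finite (Module.Free.ChooseBasisIndex R A) := Module.Finite.finite_basis b
  haveI := Fintype.ofFinite (Module.Free.ChooseBasisIndex R A)
  let μ := AlgHom.mulLeftRight R A
  have hμ : Function.Bijective μ := IsAzumaya.bij
  have key : ∀ z : A, (∀ x, x * z = z * x) → ∀ ψ : Module.End R A, ∀ x, ψ (z * x) = z * ψ x := by
    intro z hz ψ x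
    obtain ⟨ξ, rfl⟩ := hμ.2 ψ
    induction ξ using TensorProduct.induction_on with
    | zero => simp
    | add p q hp hq => simp [map_add, hp, hq, mul_add]
    | tmul a c =>
      simp only [μ, AlgHom.mulLeftRight_apply]
      rw [← mul_assoc a z x, hz a, mul_assoc z a x, mul_assoc]
  by_cases hA : Subsingleton A
  · exact ⟨⟨1, fun x => Subsingleton.elim _ _⟩, fun a a' _ _ => ⟨1, Subsingleton.elim _ _⟩⟩
  have hone : ∃ φ : A →ₗ[R] R, φ 1 = 1 := by
    by_contra hne
    push Not at hne
    have h1 : ∀ i, b.repr 1 i ∈ m := by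
      intro i
      by_contra hi
      obtain ⟨v, hv⟩ := (IsLocalRing.notMem_maximalIdeal.mp hi)
      exact hne ((↑v⁻¹ : R) • b.coord i) (by simp [← hv])
    have hA0 : (⊤ : Submodule R A) ≤ m • ⊤ := fun x _ => by
      rw [← mul_one x]
      conv => arg 2; rw [← b.sum_repr (1 : A), Finset.mul_sum]
      exact Submodule.sum_mem _ fun i _ => by rw [mul_smul_comm]; exact Submodule.smul_mem_smul (h1 i) trivial
    have := Submodule.eq_bot_of_le_smul_of_le_jacobson_bot m ⊤ Module.Finite.fg_top hA0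
      (IsLocalRing.maximalIdeal_le_jacobson _)
    exact hA ((Submodule.subsingleton_iff R).mp (subsingleton_of_bot_eq_top this.symm))
  obtain ⟨φ, hφ⟩ := hone
  obtain ⟨ξ, hξ⟩ := hμ.2 (LinearMap.toSpanSingleton R A 1 ∘ₗ φ)
  have hξ' : ∀ z, μ ξ z = algebraMap R A (φ z) := fun z => by
    rw [hξ, Algebra.algebraMap_eq_smul_one]; rfl
  have hcomm : ∀ w : A, (w ⊗ₜ[R] (1 : Aᵐᵒᵖ)) * ξ = ((1 : A) ⊗ₜ[R] MulOpposite.op w) * ξ := fun w => by
    refine hμ.1 (LinearMap.ext fun z => ?_)
    show μ _ z = μ _ z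
    rw [map_mul, map_mul, Module.End.mul_apply, Module.End.mul_apply, hξ']
    simp [μ, Algebra.commutes]
  let U := Algebra.TensorProduct.map u.toAlgHom (AlgHom.id R Aᵐᵒᵖ)
  let Φ := μ (U ξ)
  have hΦ : ∀ z w, u w * Φ z = Φ z * w := fun z w => by
    have h := congrArg (fun t => μ (U t) z) (hcomm w)
    simp only [map_mul, Module.End.mul_apply] at h
    simpa [μ, U] using h
  obtain ⟨z₀, ψ, hψ⟩ : ∃ (z : A) (ψ : A →ₗ[R] R), ψ (Φ z) = 1 := by
    by_contra hne
    push Not at hne
    have hmem : Φ ∈ m • (⊤ : Submodule R (Module.End R A)) := by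
      rw [← (LinearMap.toMatrix b b).symm_apply_apply Φ, Matrix.matrix_eq_sum_single (LinearMap.toMatrix b b Φ)]
      simp only [map_sum]
      refine Submodule.sum_mem _ fun i _ => Submodule.sum_mem _ fun j _ => ?_
      have hij : LinearMap.toMatrix b b Φ i j ∈ m := by
        by_contra hi
        obtain ⟨v, hv⟩ := (IsLocalRing.notMem_maximalIdeal.mp hi)
        refine hne (b j) ((↑v⁻¹ : R) • b.coord i) ?_
        rw [LinearMap.toMatrix_apply] at hv
        simp [← hv]
      rw [← mul_one (LinearMap.toMatrix b b Φ i j), ← smul_eq_mul, ← Matrix.smul_single, map_smul]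
      exact Submodule.smul_mem_smul hij trivial
    let e := LinearEquiv.ofBijective μ.toLinearMap hμ
    let U' := Algebra.TensorProduct.map u.symm.toAlgHom (AlgHom.id R Aᵐᵒᵖ)
    have hU : U' (U ξ) = ξ := by
      rw [← AlgHom.comp_apply, ← Algebra.TensorProduct.map_comp]
      simp
    let T : Module.End R A →ₗ[R] Module.End R A := μ.toLinearMap ∘ₗ U'.toLinearMap ∘ₗ e.symm.toLinearMap
    have hT : T Φ = μ ξ := by
      show μ (U' (e.symm (μ (U ξ)))) = μ ξ
      rw [show e.symm (μ (U ξ)) = U ξ from e.symm_apply_apply _, hU]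
    have h1 := Submodule.mem_map_of_mem (f := φ ∘ₗ (LinearMap.applyₗ (1 : A)) ∘ₗ T) hmem
    rw [Submodule.map_smul''] at h1
    simp only [LinearMap.coe_comp, Function.comp_apply, hT, LinearMap.applyₗ_apply_apply, hξ', hφ] at h1
    rw [Algebra.algebraMap_eq_smul_one, one_smul, hφ] at h1
    exact (IsLocalRing.maximalIdeal.isMaximal R).ne_top ((Ideal.eq_top_iff_one m).mpr
      (Ideal.mul_le_right (I := ⊤) (by simpa [mul_comm] using Submodule.smul_mono le_rfl le_top h1)))
  set a := Φ z₀ with ha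
  have hspan : ∀ ξ : A ⊗[R] Aᵐᵒᵖ, ∃ c, μ ξ a = c * a := fun ξ => by
    induction ξ using TensorProduct.induction_on with
    | zero => exact ⟨0, by simp⟩
    | add p q hp hq =>
      obtain ⟨c, hc⟩ := hp
      obtain ⟨d, hd⟩ := hq
      exact ⟨c + d, by simp [map_add, hc, hd, add_mul]⟩
    | tmul x y => exact ⟨x * u y.unop, by simp only [μ, AlgHom.mulLeftRight_apply]; rw [mul_assoc, ← hΦ z₀ y.unop, ← mul_assoc]⟩
  obtain ⟨ξ₁, hξ₁⟩ := hμ.2 (LinearMap.toSpanSingleton R A 1 ∘ₗ ψ)
  obtain ⟨c, hc⟩ := hspan ξ₁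
  have hca : c * a = 1 := by
    rw [← hc, hξ₁]
    simp [hψ]
  have hac : a * c = 1 := by
    have hs : Function.Surjective (LinearMap.mulRight R a) := fun y => ⟨y * c, by simp [mul_assoc, hca]⟩
    have hi := OrzechProperty.injective_of_surjective_endomorphism _ hs
    exact hi (by simp [mul_assoc, hca])
  refine ⟨⟨⟨a, c, hac, hca⟩, fun x => ?_⟩, fun g g' hg hg' => ?_⟩
  · show u x = a * x * c
    rw [← hΦ z₀ x, mul_assoc, hac, mul_one]
  · have hz : ∀ x, x * ((g⁻¹ : Aˣ) * g' : A) = ((g⁻¹ : Aˣ) * g' : A) * x := fun x => by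
      have h := (hg x).symm.trans (hg' x)
      have h2 := congrArg (fun t => ((g⁻¹ : Aˣ) : A) * t * g') h
      simpa [mul_assoc] using h2
    have hl := key _ hz (LinearMap.toSpanSingleton R A 1 ∘ₗ φ) 1
    simp only [LinearMap.coe_comp, Function.comp_apply, LinearMap.toSpanSingleton_apply, mul_one, hφ, one_smul] at hl
    set r := φ (((g⁻¹ : Aˣ) : A) * (g' : A)) with hr
    have hg' : (g' : A) = algebraMap R A r * g := by
      rw [Algebra.commutes, Algebra.algebraMap_eq_smul_one, hl]
      simp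
    have h3 := congrArg (fun t => φ (t * ((g' ⁻¹ : Aˣ) : A))) hg'
    rw [Units.mul_inv, hφ, mul_assoc, ← Algebra.smul_def, map_smul, smul_eq_mul] at h3
    exact ⟨(IsUnit.of_mul_eq_one _ h3.symm).unit, by rw [IsUnit.unit_spec]; exact hg'⟩

end Groth.Agent.S5705
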