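import Groth.Statements.S5708
import Groth.Agent.CurveNoeth.GmInj

set_option autoImplicit false
set_option backward.isDefEq.respectTransparency false
set_option backward.isDefEq.respectTransparency.types false
universe u
open CategoryTheory AlgebraicGeometry
open Dix

namespace Groth.Agent.S5708

/-- Let k be an algebraically closed field and X a reduced scheme of finite type over k of dimension at
most 1 (an algebraic curve). Then H²(X_et, G_m) = 0. (The published statement is the vanishing of
the Brauer group of Azumaya algebras, which embeds in H²(X_et, G_m); this row states the vanishing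
of H²(X_et, G_m) and assumes X reduced.) -/
theorem result (k : Type u) [Field k] [IsAlgClosed k] (X : Scheme.{u}) (f : X ⟶ Spec (CommRingCat.of k)) [LocallyOfFiniteType f] [QuasiCompact f] [IsReduced X] (hdim : topologicalKrullDim X ≤ 1) : Subsingleton (Dix.BrCoh X) := by
  haveI : IsLocallyNoetherian X := LocallyOfFiniteType.isLocallyNoetherian f
  haveI : CompactSpace X := (quasiCompact_iff_compactSpace f).1 inferInstance
  haveI : IsNoetherian X := { }
  haveI : ∀ x : X, Limits.PreservesFiniteLimits (EtCoh.pull (X.fromSpecStalk x)) := fun x => Groth.Agent.S0101.result _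
  refine subsingleton_of_forall_eq 0 fun ξ => Groth.Agent.CurveNoeth.eq_zero_of_maximal
    (fun x hx => Groth.Agent.EtClosedPts.isSepClosed_residueField f x hx) hdim ξ fun y hy => ?_
  haveI := Groth.Agent.CurveNoeth.subsingleton_spec hy
  have hA : IsField (X.presheaf.stalk y) := by
    refine (IsLocalRing.isField_iff_maximalIdeal_eq).2 (eq_bot_iff.2 fun a ha => ?_)
    have hn : a ∈ nilradical (X.presheaf.stalk y) := by
      rw [nilradical_eq_sInf, Ideal.mem_sInf]
      intro p hp
      have e : (⟨p, hp⟩ : PrimeSpectrum (X.presheaf.stalk y)) = IsLocalRing.closedPoint _ :=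
        Subsingleton.elim (α := Spec (X.presheaf.stalk y)) _ _
      have e' : p = IsLocalRing.maximalIdeal _ := congrArg PrimeSpectrum.asIdeal e
      rw [e']
      exact ha
    exact Ideal.mem_bot.2 (IsNilpotent.eq_zero hn)
  letI := hA.toField
  show EtLim.HGmPull (X.fromSpecStalk y) 2 ξ = 0
  have hbij : Function.Bijective (IsLocalRing.residue (X.presheaf.stalk y)) :=
    ⟨(IsLocalRing.residue (X.presheaf.stalk y)).injective, IsLocalRing.residue_surjective⟩
  let e : (X.presheaf.stalk y : Type u) ≃+* X.residueField y := RingEquiv.ofBijective _ hbij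
  by_cases hc : IsClosed ({y} : Set X)
  · haveI := Groth.Agent.EtClosedPts.isSepClosed_residueField f y hc
    letI : Algebra (X.residueField y) (X.presheaf.stalk y : Type u) := e.symm.toRingHom.toAlgebra
    haveI : Algebra.IsAlgebraic (X.residueField y) (X.presheaf.stalk y : Type u) := by
      haveI : Module.Finite (X.residueField y) (X.presheaf.stalk y : Type u) :=
        RingHom.Finite.of_surjective e.symm.toRingHom e.symm.surjective
      exact Algebra.IsAlgebraic.of_finite _ _
    haveI : IsSepClosed (X.presheaf.stalk y : Type u) :=
      Groth.Agent.SHTensor.isSepClosed_of_isAlgebraic (X.residueField y) (X.presheaf.stalk y : Type u)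
    exact Groth.Agent.EtClosedPts.H_eq_zero_of_sepClosed (X.presheaf.stalk y : Type u) _ 1 _
  · letI : X.Over (Spec (CommRingCat.of k)) := ⟨f⟩
    haveI : LocallyOfFiniteType (X ↘ Spec (CommRingCat.of k)) := ‹LocallyOfFiniteType f›
    letI := Curv2.resAlgebra k X y
    obtain ⟨a, t, -, ht, -, hh⟩ := Groth.Agent.DimFormulaLib.field_dims f y
    have hres : Algebra.trdeg k (X.residueField y) = (t : Cardinal.{u}) :=
      (Groth.Agent.DimFormulaLib.resTrdegAt_over k X y).symm.trans ht
    have ht1 : t = 1 := by
      have hle : (t : ℕ∞) ≤ 1 := by
        have h := Order.height_le_krullDim y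
        rw [hh] at h
        have h2 := h.trans ((Groth.Agent.DimLiftLib.topologicalKrullDim_eq ↥X).symm.trans_le hdim)
        exact_mod_cast h2
      have hne : t ≠ 0 := fun h0 => hc (by
        rw [h0, Nat.cast_zero, Order.height_eq_zero] at hh
        refine isClosed_of_closure_subset fun z hz => ?_
        have hs : y ⤳ z := specializes_iff_mem_closure.2 hz
        exact (Specializes.antisymm (hh hs : z ⤳ y) hs).eq)
      have : t ≤ 1 := by exact_mod_cast hle
      omega
    have hK : Groth.Agent.EtTraceLib.NormSurj (X.residueField y) :=
      Groth.Agent.EtTraceLib.normSurj_of_brauer_trivial _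
        (Groth.Agent.EtTraceLib.brauer_trivial_of_trdeg_one k (X.residueField y) (by rw [hres, ht1, Nat.cast_one]))
    letI : Algebra (X.residueField y) (X.presheaf.stalk y : Type u) := e.symm.toRingHom.toAlgebra
    haveI : Module.Finite (X.residueField y) (X.presheaf.stalk y : Type u) :=
      RingHom.Finite.of_surjective e.symm.toRingHom e.symm.surjective
    exact Groth.Agent.EtTraceLib.H_Gm_eq_zero_of_normSurj 2 (X.presheaf.stalk y : Type u)
      (hK.of_finite (X.presheaf.stalk y : Type u)) (by omega) _

end Groth.Agent.S5708
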