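import Groth.Statements.S5710
import Groth.Agent.AzSplitLib.Away

set_option autoImplicit false
universe u v
open TensorProduct
open Dix

namespace Groth.Agent.S5710

open Groth.Agent

/-- Over a local base where the open neighbourhood is the whole scheme. Let R be a local ring with
residue field k and A an Azumaya algebra over R whose rank as a (free) R-module is r². Then A has a
maximal étale subalgebra: there are a commutative R-algebra E, finite étale and free of rank r over
R, and an R-algebra homomorphism u : E → A which is injective on the special fibre, k ⊗_R E → k ⊗_R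
A. -/
theorem result (R : Type u) [CommRing R] [IsLocalRing R] (A : Type u) [Ring A] [Algebra R A] [IsAzumaya R A] (r : ℕ) (hA : Module.finrank R A = r ^ 2) : ∃ (E : Type u) (_ : CommRing E) (_ : Algebra R E), Algebra.Etale R E ∧ Module.Finite R E ∧ Module.Free R E ∧ Module.finrank R E = r ∧ ∃ u : E →ₐ[R] A, Function.Injective (u.toLinearMap.lTensor (IsLocalRing.ResidueField R)) := by
  haveI : Module.Free R A := Module.free_of_flat_of_isLocalRing
  have hfrac : ∀ z : IsLocalRing.ResidueField R, ∃ a t : R, algebraMap R (IsLocalRing.ResidueField R) t ≠ 0 ∧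
      algebraMap R (IsLocalRing.ResidueField R) t * z = algebraMap R (IsLocalRing.ResidueField R) a := fun z => by
    obtain ⟨a, rfl⟩ := IsLocalRing.residue_surjective z
    exact ⟨a, 1, by simp, by simp [IsLocalRing.ResidueField.algebraMap_eq]⟩
  have hr : Module.finrank (IsLocalRing.ResidueField R) (IsLocalRing.ResidueField R ⊗[R] A) = r ^ 2 := by
    rw [Module.finrank_baseChange, hA]
  obtain ⟨ξ, hsep, hrk⟩ := AzSplitLib.exists_regular_lift hfrac hr
  obtain ⟨d, hd, H⟩ := AzSplitLib.exists_data hfrac hr ξ hsep hrk
  obtain ⟨hr0, c, τ, b, hrel, hτ, hunit, hb⟩ := H R ((IsLocalRing.residue_ne_zero_iff_isUnit d).1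
    (by rwa [← IsLocalRing.ResidueField.algebraMap_eq]))
  haveI := AzumayaAlg.isAzumaya_baseChange (R := R) R A
  obtain ⟨E, i1, i2, hEt, hFin, hFree, hfr, -, u, τ', hτ', -⟩ :=
    AzSplitLib.exists_split_of_data hr0 _ c hrel τ hτ hunit b hb
  refine ⟨E, i1, i2, hEt, hFin, hFree, hfr, (Algebra.TensorProduct.lid R A).toAlgHom.comp u, ?_⟩
  refine Function.LeftInverse.injective
    (g := (τ' ∘ₗ (Algebra.TensorProduct.lid R A).symm.toLinearMap).lTensor (IsLocalRing.ResidueField R)) fun z => ?_
  rw [← LinearMap.comp_apply, ← LinearMap.lTensor_comp, show (τ' ∘ₗ (Algebra.TensorProduct.lid R A).symm.toLinearMap) ∘ₗ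
    ((Algebra.TensorProduct.lid R A).toAlgHom.comp u).toLinearMap = LinearMap.id from
      LinearMap.ext fun e => (congrArg τ' ((Algebra.TensorProduct.lid R A).symm_apply_apply (u e))).trans (hτ' e),
    LinearMap.lTensor_id, LinearMap.id_apply]

end Groth.Agent.S5710
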