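import Groth.Statements.S5711
import Groth.Agent.AzSplitLib.Away

set_option autoImplicit false
universe u v
open TensorProduct
open Dix

namespace Groth.Agent.S5711

open Groth.Agent

set_option backward.isDefEq.respectTransparency false

/-- Over a local base. Let R be a local ring with residue field k, A an Azumaya algebra over R of rank
r², E a commutative R-algebra which is finite étale and free of rank r over R, and u : E → A an
R-algebra homomorphism injective on the special fibre. For the right E-module structure on A given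
by e • a = a·u(e) (supplied as a module structure together with that compatibility), A is a free
E-module of rank r, and E ⊗_R A is isomorphic as an E-algebra to the endomorphism algebra End_E(A).
(Only the existence of an isomorphism is stated; the canonical map sends e ⊗ a to y ↦ a·y·u(e).) -/
theorem result (R : Type u) [CommRing R] [IsLocalRing R] (A : Type u) [Ring A] [Algebra R A] [IsAzumaya R A] (r : ℕ) (hA : Module.finrank R A = r ^ 2) (E : Type u) [CommRing E] [Algebra R E] [Algebra.Etale R E] [Module.Finite R E] [Module.Free R E] (hE : Module.finrank R E = r) (u : E →ₐ[R] A) (hu : Function.Injective (u.toLinearMap.lTensor (IsLocalRing.ResidueField R))) [Module E A] (hmod : ∀ (e : E) (a : A), e • a = a * u e) : Module.Free E A ∧ Module.finrank E A = r ∧ Nonempty ((E ⊗[R] A) ≃ₐ[E] Module.End E A) := by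
  classical
  haveI : Module.Free R A := Module.free_of_flat_of_isLocalRing
  have hfrac : ∀ z : IsLocalRing.ResidueField R, ∃ a t : R, algebraMap R (IsLocalRing.ResidueField R) t ≠ 0 ∧
      algebraMap R (IsLocalRing.ResidueField R) t * z = algebraMap R (IsLocalRing.ResidueField R) a := fun z => by
    obtain ⟨a, rfl⟩ := IsLocalRing.residue_surjective z
    exact ⟨a, 1, by simp, by simp [IsLocalRing.ResidueField.algebraMap_eq]⟩
  have hunit : ∀ d : R, algebraMap R (IsLocalRing.ResidueField R) d ≠ 0 → IsUnit d := fun d hd =>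
    (IsLocalRing.residue_ne_zero_iff_isUnit d).1 (by rwa [← IsLocalRing.ResidueField.algebraMap_eq])
  let κ := IsLocalRing.ResidueField R
  let C := κ ⊗[R] A
  haveI := (AzSplitLib.fibre_csa (R := R) (κ := κ) (A := A)).1
  haveI := (AzSplitLib.fibre_csa (R := R) (κ := κ) (A := A)).2
  have hr : Module.finrank κ C = r ^ 2 := by rw [Module.finrank_baseChange, hA]
  have hr0 : 0 < r := AzSplitLib.pos_of_finrank κ C r hr
  let ι : κ ⊗[R] E →ₐ[κ] C := Algebra.TensorProduct.map (AlgHom.id κ κ) u
  have hι : Function.Injective ι := hu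
  have hL : Module.finrank κ (κ ⊗[R] E) = r := by rw [Module.finrank_baseChange, hE]
  haveI : IsReduced (AlgebraicClosure κ ⊗[κ] (κ ⊗[R] E)) :=
    Algebra.FormallyUnramified.isReduced_of_field (AlgebraicClosure κ) _
  letI : Module (κ ⊗[R] E) C := Module.compHom C (ι.toOpposite fun a b => by
    show ι a * ι b = ι b * ι a
    rw [← map_mul, ← map_mul, mul_comm]).toRingHom
  have hmodκ : ∀ (l : κ ⊗[R] E) (y : C), l • y = y * ι l := fun l y => rfl
  obtain ⟨hfree, hrkL⟩ := AzSplitLib.free_right hr hL ι hι hmodκ
  haveI : IsScalarTower κ (κ ⊗[R] E) C := ⟨fun a l y => by rw [hmodκ, hmodκ, map_smul, mul_smul_comm]⟩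
  haveI : Module.Finite (κ ⊗[R] E) C := Module.Finite.of_restrictScalars_finite κ _ C
  haveI : Nontrivial (κ ⊗[R] E) := Module.nontrivial_of_finrank_pos (R := κ) (hL ▸ hr0)
  let β := Module.finBasisOfFinrankEq (κ ⊗[R] E) C hrkL
  choose b hb using fun i => TensorProduct.mk_surjective R A κ IsLocalRing.residue_surjective (β i)
  haveI : IsScalarTower R E A := ⟨fun c e a => by rw [hmod, hmod, map_smul, mul_smul_comm]⟩
  haveI : SMulCommClass E R A := ⟨fun e c a => by rw [hmod, hmod, smul_mul_assoc]⟩
  let Ψ : (Fin r → E) →ₗ[E] A := Fintype.linearCombination E b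
  have hΨ : Function.Bijective (LinearMap.baseChange κ (Ψ.restrictScalars R)) := by
    have hs : Function.Surjective (LinearMap.baseChange κ (Ψ.restrictScalars R)) := by
      intro z
      show z ∈ LinearMap.range (LinearMap.baseChange κ (Ψ.restrictScalars R))
      rw [← β.sum_repr z]
      refine Submodule.sum_mem _ fun i _ => ?_
      obtain ⟨e, he⟩ := TensorProduct.mk_surjective R E κ IsLocalRing.residue_surjective (β.repr z i)
      refine ⟨(1 : κ) ⊗ₜ[R] Pi.single i e, ?_⟩
      rw [LinearMap.baseChange_tmul, LinearMap.restrictScalars_apply, Fintype.linearCombination_apply_single, hmod,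
        hmodκ, ← he, ← hb, TensorProduct.mk_apply, TensorProduct.mk_apply, Algebra.TensorProduct.map_tmul,
        AlgHom.id_apply, Algebra.TensorProduct.tmul_mul_tmul, one_mul]
    refine ⟨(LinearMap.injective_iff_surjective_of_finrank_eq_finrank ?_).2 hs, hs⟩
    rw [Module.finrank_baseChange, hr, Module.finrank_pi_fintype, sq]
    simp [hE]
  obtain ⟨d, hd, Φ, hΦΨ, hΨΦ⟩ := AzSplitLib.exists_inverse_away hfrac (Ψ.restrictScalars R) hΨ
  obtain ⟨e, he⟩ := (hunit d hd).exists_left_inv
  have hbij : Function.Bijective Ψ := by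
    refine ⟨fun v w h => ?_, fun a => ⟨e • Φ a, ?_⟩⟩
    · have h' := congrArg (fun a => e • Φ a) h
      have hΦ' : ∀ v, Φ (Ψ v) = d • v := fun v => LinearMap.congr_fun hΦΨ v
      simpa only [hΦ', smul_smul, he, one_smul] using h'
    · rw [LinearMap.map_smul_of_tower, show Ψ (Φ a) = d • a from LinearMap.congr_fun hΨΦ a, smul_smul, he, one_smul]
  let bA : Module.Basis (Fin r) E A := Module.Basis.ofEquivFun (LinearEquiv.ofBijective Ψ hbij).symm
  obtain ⟨d', hd', τ, hτ⟩ := AzSplitLib.exists_left_inverse_away hfrac u.toLinearMap hι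
  obtain ⟨e', he'⟩ := (hunit d' hd').exists_left_inv
  haveI : Nontrivial E := Module.nontrivial_of_finrank_pos (R := R) (hE ▸ hr0)
  refine ⟨Module.Free.of_basis bA, by rw [Module.finrank_eq_card_basis bA, Fintype.card_fin], ?_⟩
  exact AzSplitLib.nonempty_algEquiv_end hr0 hE u (e' • τ) (fun x => by
    rw [LinearMap.smul_apply, show τ (u x) = d' • x from LinearMap.congr_fun hτ x, smul_smul, he', one_smul]) hmod bA

end Groth.Agent.S5711
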