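import Groth.Statements.S5713
import Groth.Agent.AzSplitLib.Away

set_option autoImplicit false
universe u v
open TensorProduct
open Dix

namespace Groth.Agent.S5713

open Groth.Agent

/-- Over a local base. Let R be a local ring with residue field k, A an Azumaya algebra over R of rank
r², and ξ ∈ A an element whose image ξ̄ = 1 ⊗ ξ in k ⊗_R A is regular, i.e. generates a commutative
subalgebra k[ξ̄] which is étale over k (all elements separable) of dimension r. Then the powers 1,
ξ, …, ξ^{r-1} are linearly independent over R and ξ^r lies in their R-linear span; thus R[ξ] is a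
free R-module of rank r closed under multiplication, and ξ is a regular section over all of Spec R. -/
theorem result (R : Type u) [CommRing R] [IsLocalRing R] (A : Type u) [Ring A] [Algebra R A] [IsAzumaya R A] (r : ℕ) (hA : Module.finrank R A = r ^ 2) (ξ : A) (hsep : Algebra.IsSeparable (IsLocalRing.ResidueField R) (Algebra.adjoin (IsLocalRing.ResidueField R) ({(1 : IsLocalRing.ResidueField R) ⊗ₜ[R] ξ} : Set (IsLocalRing.ResidueField R ⊗[R] A)))) (hrk : Module.finrank (IsLocalRing.ResidueField R) (Algebra.adjoin (IsLocalRing.ResidueField R) ({(1 : IsLocalRing.ResidueField R) ⊗ₜ[R] ξ} : Set (IsLocalRing.ResidueField R ⊗[R] A))) = r) : LinearIndependent R (fun i : Fin r => ξ ^ (i : ℕ)) ∧ ξ ^ r ∈ Submodule.span R (Set.range (fun i : Fin r => ξ ^ (i : ℕ))) := by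
  haveI : Module.Free R A := Module.free_of_flat_of_isLocalRing
  have hfrac : ∀ z : IsLocalRing.ResidueField R, ∃ a t : R, algebraMap R (IsLocalRing.ResidueField R) t ≠ 0 ∧
      algebraMap R (IsLocalRing.ResidueField R) t * z = algebraMap R (IsLocalRing.ResidueField R) a := fun z => by
    obtain ⟨a, rfl⟩ := IsLocalRing.residue_surjective z
    exact ⟨a, 1, by simp, by simp [IsLocalRing.ResidueField.algebraMap_eq]⟩
  obtain ⟨d, hd, H⟩ := AzSplitLib.exists_data hfrac (by rw [Module.finrank_baseChange, hA]) ξ hsep hrk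
  obtain ⟨hr0, c, τ, b, hrel, hτ, -, -⟩ := H R ((IsLocalRing.residue_ne_zero_iff_isUnit d).1
    (by rwa [← IsLocalRing.ResidueField.algebraMap_eq]))
  refine ⟨?_, ?_⟩
  · rw [Fintype.linearIndependent_iff]
    intro g hg i
    have h := congrArg (fun a : A => τ ((1 : R) ⊗ₜ[R] a) i) hg
    simp only [TensorProduct.tmul_sum, TensorProduct.tmul_smul, TensorProduct.tmul_zero, map_sum, map_smul, map_zero] at h
    have hp : ∀ n : ℕ, (1 : R) ⊗ₜ[R] (ξ ^ n) = ((1 : R) ⊗ₜ[R] ξ) ^ n := fun n => by
      rw [Algebra.TensorProduct.tmul_pow, one_pow]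
    simp only [hp] at h
    simp only [hτ, Finset.sum_apply, Pi.smul_apply, Pi.single_apply, smul_eq_mul, mul_ite, mul_one, mul_zero,
      Finset.sum_ite_eq, Finset.mem_univ, if_true, Pi.zero_apply] at h
    exact h
  · have h := congrArg (Algebra.TensorProduct.lid R A) hrel
    simp only [map_pow, map_sum, map_smul, Algebra.TensorProduct.lid_tmul, one_smul] at h
    rw [h]
    exact Submodule.sum_mem _ fun j _ => Submodule.smul_mem _ _ (Submodule.subset_span ⟨j, rfl⟩)

end Groth.Agent.S5713
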