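import Groth.Statements.S5717
import Groth.Agent.AzumayaAlg.Descent
import Mathlib.Algebra.Azumaya.Matrix
import Mathlib.Algebra.Azumaya.Basic
import Mathlib.RingTheory.Flat.EquationalCriterion

set_option autoImplicit false
universe u v
open TensorProduct
open Dix

namespace Groth.Agent.S5717

open Groth.Agent

/-- Implication (iii bis) ⇒ (ii), over an affine base with one faithfully flat cover. Let R be a
commutative ring and A an R-algebra whose underlying R-module is finitely presented. If there are a
faithfully flat commutative R-algebra R' and an integer r ≥ 1 such that R' ⊗_R A is isomorphic as an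
R'-algebra to the matrix algebra M_r(R'), then A is an Azumaya algebra over R (finite locally free
with A ⊗ A° → End_R(A) bijective). (The published condition asks the cover only to be surjective;
with that reading the implication fails — R = k[ε], A = R/(ε), R' = k — so this row asks R' to be
faithfully flat.) -/
theorem result (R : Type u) [CommRing R] (A : Type u) [Ring A] [Algebra R A] [Module.FinitePresentation R A] (R' : Type u) [CommRing R'] [Algebra R R'] [Module.FaithfullyFlat R R'] (r : ℕ) (hr : 1 ≤ r) (e : (R' ⊗[R] A) ≃ₐ[R'] Matrix (Fin r) (Fin r) R') : IsAzumaya R A := by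
  haveI : Nonempty (Fin r) := ⟨⟨0, hr⟩⟩
  haveI := IsAzumaya.matrix R' (Fin r)
  haveI : IsAzumaya R' (R' ⊗[R] A) := IsAzumaya.of_AlgEquiv R' _ _ e.symm
  haveI : Module.Flat R A := Module.Flat.of_flat_tensorProduct R A R'
  haveI : Module.Projective R A := Module.Flat.projective_of_finitePresentation
  exact AzumayaAlg.isAzumaya_of_baseChange_faithfullyFlat (R := R) (S := R') A

end Groth.Agent.S5717
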