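import Groth.Statements.S5720
import Groth.Agent.AzSplitLib.Away

set_option autoImplicit false
universe u v
open TensorProduct
open Dix

namespace Groth.Agent.S5720

open Groth.Agent

/-- (ii) ⇒ (iii), over an affine base X = Spec R. Let A be an Azumaya algebra over the commutative ring
R and p a prime ideal of R. Then there exist f ∈ R with f ∉ p, a finite étale and faithfully flat
R_f-algebra R' (a finite étale surjective cover of the neighbourhood D(f) of p) and an integer r ≥ 1
such that R' ⊗_R A is isomorphic as an R'-algebra to the matrix algebra M_r(R'). (Existence of the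
isomorphism only.) -/
theorem result (R : Type u) [CommRing R] (A : Type u) [Ring A] [Algebra R A] [IsAzumaya R A] (p : Ideal R) [p.IsPrime] : ∃ f : R, f ∉ p ∧ ∃ (R' : Type u) (_ : CommRing R') (_ : Algebra R R') (_ : Algebra (Localization.Away f) R') (_ : IsScalarTower R (Localization.Away f) R'), Module.Finite (Localization.Away f) R' ∧ Algebra.Etale (Localization.Away f) R' ∧ Module.FaithfullyFlat (Localization.Away f) R' ∧ ∃ r : ℕ, 1 ≤ r ∧ Nonempty ((R' ⊗[R] A) ≃ₐ[R'] Matrix (Fin r) (Fin r) R') := by
  have hfrac : ∀ z : p.ResidueField, ∃ a t : R, algebraMap R p.ResidueField t ≠ 0 ∧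
      algebraMap R p.ResidueField t * z = algebraMap R p.ResidueField a := fun z => by
    obtain ⟨a', b', hb', hz⟩ := IsFractionRing.div_surjective (A := R ⧸ p) z
    obtain ⟨a, rfl⟩ := Ideal.Quotient.mk_surjective a'
    obtain ⟨b, rfl⟩ := Ideal.Quotient.mk_surjective b'
    have hne : algebraMap (R ⧸ p) p.ResidueField (Ideal.Quotient.mk p b) ≠ 0 :=
      IsFractionRing.to_map_ne_zero_of_mem_nonZeroDivisors hb'
    refine ⟨a, b, ?_, ?_⟩
    · rwa [IsScalarTower.algebraMap_apply R (R ⧸ p) p.ResidueField]
    · rw [IsScalarTower.algebraMap_apply R (R ⧸ p) p.ResidueField b, IsScalarTower.algebraMap_apply R (R ⧸ p) p.ResidueField a,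
        ← hz]
      exact mul_div_cancel₀ _ hne
  obtain ⟨r, f, hr, hf, H⟩ := AzSplitLib.exists_split_away (A := A) hfrac
  refine ⟨f, fun hp => hf (Ideal.algebraMap_residueField_eq_zero.2 hp), ?_⟩
  have hu : IsUnit (algebraMap R p.ResidueField f) := isUnit_iff_ne_zero.2 hf
  haveI : Nontrivial (Localization.Away f) :=
    (IsLocalization.Away.lift (S := Localization.Away f) f hu).domain_nontrivial
  obtain ⟨E, _, _, hEt, hFin, -, -, hFF, ⟨θ⟩⟩ := H (Localization.Away f) (IsLocalization.Away.algebraMap_isUnit f)
  letI : Algebra R E := ((algebraMap (Localization.Away f) E).comp (algebraMap R (Localization.Away f))).toAlgebra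
  haveI : IsScalarTower R (Localization.Away f) E := IsScalarTower.of_algebraMap_eq' rfl
  exact ⟨E, inferInstance, inferInstance, inferInstance, inferInstance, hFin, hEt, hFF, r, hr,
    ⟨(((Algebra.TensorProduct.assoc R (Localization.Away f) E E (Localization.Away f) A).symm.trans
      (Algebra.TensorProduct.congr (Algebra.TensorProduct.rid (Localization.Away f) E E) AlgEquiv.refl)).symm).trans θ⟩⟩

end Groth.Agent.S5720
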