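import Groth.Statements.S5738
import Groth.Agent.FSchLevLib.Basic
import Groth.Agent.S1304
import Groth.Agent.S2306
import Groth.Agent.S1309
import Groth.Agent.ThickBC.Props

set_option autoImplicit false
universe u
open FCompl

namespace Groth.Agent.S5738

open CategoryTheory CategoryTheory.Limits AlgebraicGeometry

open AlgebraicGeometry CategoryTheory

theorem isProper_succ {X X' S S' : Scheme.{u}} (iX : X ⟶ X') (iS : S ⟶ S') (f : X ⟶ S) (f' : X' ⟶ S')
    (hS : MoreMor.IsFiniteOrderThickening iS) (hX : MoreMor.IsThickening iX) (hc : IsPullback iX f f' iS)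
    [IsProper f] : IsProper f' := by
  haveI : LocallyOfFiniteType f' := (S1309.result iX iS f f' hS hc).1 inferInstance
  haveI : UniversallyClosed f' := (S1304.result iX iS f f' hX hS.1 hc.w).1 inferInstance
  haveI := hX.1
  haveI := hX.2
  haveI := hS.1.1
  haveI : IsSeparated f' := (S2306.result f' f iX iS hc.w.symm).2 inferInstance
  exact {}

open AlgebraicGeometry CategoryTheory in
/-- For formal schemes presented as adic systems of thickenings: a proper morphism of locally Noetherian
formal schemes is an adic one whose smallest level is proper, and the content is that every level is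
then proper. Let (X_n) and (S_n) be locally Noetherian adic formal systems and f : (X_n) → (S_n) a
morphism of systems all of whose squares X_n → X_(n+1), S_n → S_(n+1) are cartesian. If X_0 → S_0 is
proper, then X_n → S_n is proper for every n. -/
theorem result {𝔛 𝔖 : FSch.Sys.{u}} (f : 𝔛 ⟶ 𝔖)
    (h𝔛 : 𝔛.IsLocNoethFormal) (h𝔖 : 𝔖.IsLocNoethFormal) (hf : FSch.IsAdicHom f)
    [IsProper ((f : FSch.Hom 𝔛 𝔖).app 0)] (n : ℕ) :
    IsProper ((f : FSch.Hom 𝔛 𝔖).app n) := by
  induction n with
  | zero => infer_instance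
  | succ n ih =>
    haveI := (h𝔖.1 n).1
    haveI : Surjective (𝔖.ι n) := ⟨(h𝔖.1 n).2⟩
    refine isProper_succ (𝔛.ι n) (𝔖.ι n) _ _ ⟨⟨inferInstance, inferInstance⟩, 2, ?_⟩
      (ThickBC.isThickening_left (hf n)) (hf n)
    rw [h𝔖.2.1 n, ← pow_mul]
    rw [show (n + 1) * 2 = n + (n + 1 + 1) by ring, pow_add, FSchLevLib.pow_ker_toX 𝔖 h𝔖.1 h𝔖.2.1 (n + 1),
      ← Scheme.IdealSheafData.zero_eq_bot, mul_zero]

end Groth.Agent.S5738
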