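import Groth.Statements.S5742
import Mathlib.AlgebraicGeometry.Morphisms.Proper
import Mathlib.AlgebraicGeometry.Morphisms.FiniteType
import Mathlib.AlgebraicGeometry.Noetherian
import Mathlib.AlgebraicGeometry.PullbackCarrier
import Mathlib.RingTheory.Filtration
import Mathlib.RingTheory.AdicCompletion.Basic


set_option autoImplicit false
universe u
open Coherent

namespace Groth.Agent.S5742

open CategoryTheory CategoryTheory.Limits AlgebraicGeometry

set_option backward.isDefEq.respectTransparency false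

theorem aux_ring {C B : Type u} [CommRing C] [CommRing B] [IsNoetherianRing B] (J : Ideal B) (q : Ideal B)
    [q.IsPrime] (hJq : J ≤ q) (α β : C →+* B) (s : Finset C) (h : ∀ c (n : ℕ), α c - β c ∈ J ^ (n + 1)) :
    ∃ u : B, u ∉ q ∧ ∀ c ∈ s, u * α c = u * β c := by
  have key : ∀ c, ∃ u : B, u ∉ q ∧ u * α c = u * β c := fun c => by
    have hmem : α c - β c ∈ (⨅ i : ℕ, J ^ i • ⊤ : Submodule B B) := by
      rw [Submodule.mem_iInf]
      intro i
      rw [smul_eq_mul, Ideal.mul_top]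
      exact Ideal.pow_le_pow_right (Nat.le_succ i) (h c i)
    obtain ⟨r, hr⟩ := (J.mem_iInf_smul_pow_eq_bot_iff _).mp hmem
    refine ⟨1 - r.1, fun hu => ?_, ?_⟩
    · exact ‹q.IsPrime›.ne_top ((Ideal.eq_top_iff_one _).2 (by simpa using q.add_mem hu (hJq r.2)))
    · rw [smul_eq_mul] at hr
      linear_combination -hr
  choose u hu hue using key
  classical
  refine ⟨∏ c ∈ s, u c, fun hm => ?_, fun c hc => ?_⟩
  · obtain ⟨c, -, hc⟩ := (Ideal.IsPrime.prod_mem_iff).1 hm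
    exact hu c hc
  · rw [← Finset.mul_prod_erase s u hc, mul_assoc, mul_assoc, mul_left_comm, hue c, mul_left_comm]

open CategoryTheory AlgebraicGeometry in
theorem aux_nhd {A : Type u} [CommRing A] (I : Ideal A) {X Y : Scheme.{u}} [IsLocallyNoetherian X]
    (f : X ⟶ Spec (CommRingCat.of A))
    (h : Y ⟶ Spec (CommRingCat.of A)) [LocallyOfFiniteType h] (φ ψ : X ⟶ Y)
    (hφ : φ ≫ h = f) (hψ : ψ ≫ h = f)
    (e : ∀ n : ℕ, CohB1.thickι f I n ≫ φ = CohB1.thickι f I n ≫ ψ) (x : X)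
    (hx : f x ∈ PrimeSpectrum.zeroLocus (I : Set A)) :
    ∃ W : X.Opens, x ∈ W ∧ W.ι ≫ φ = W.ι ≫ ψ := by
  -- the two maps agree at `x`
  obtain ⟨t, rfl⟩ : x ∈ Set.range (CohB1.thickι f I 0) := by
    show x ∈ Set.range (Limits.pullback.fst f (CohB1.specQuot I 0))
    rw [Scheme.Pullback.range_fst]
    show f x ∈ Set.range (PrimeSpectrum.comap (Ideal.Quotient.mk (I ^ (0 + 1))))
    rw [range_comap_of_surjective _ _ Ideal.Quotient.mk_surjective, Ideal.mk_ker, pow_one]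
    exact hx
  let x := CohB1.thickι f I 0 t
  have hxy : φ x = ψ x := congrArg (fun g => g t) (e 0)
  obtain ⟨_, ⟨V : Y.Opens, hV, rfl⟩, hxV, -⟩ :=
    Y.isBasis_affineOpens.exists_subset_of_mem_open (Set.mem_univ (φ x)) isOpen_univ
  obtain ⟨_, ⟨W : X.Opens, hW, rfl⟩, hxW, hWV⟩ := X.isBasis_affineOpens.exists_subset_of_mem_open
    (show x ∈ ((φ ⁻¹ᵁ V ⊓ ψ ⁻¹ᵁ V : X.Opens) : Set X) from
      ⟨hxV, show ψ x ∈ V from hxy ▸ hxV⟩) (φ ⁻¹ᵁ V ⊓ ψ ⁻¹ᵁ V).2
  haveI : IsNoetherianRing Γ(X, W) := IsLocallyNoetherian.component_noetherian ⟨W, hW⟩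
  have hWφ : W ≤ φ ⁻¹ᵁ V := fun z hz => (hWV hz).1
  have hWψ : W ≤ ψ ⁻¹ᵁ V := fun z hz => (hWV hz).2
  let α := (φ.appLE V W hWφ).hom
  let β := (ψ.appLE V W hWψ).hom
  let γ := ((Scheme.ΓSpecIso (CommRingCat.of A)).inv ≫ f.appLE ⊤ W le_top).hom
  let J : Ideal Γ(X, W) := I.map γ
  have hfW : Spec.map (f.appLE ⊤ W le_top) ≫ (isAffineOpen_top _).fromSpec = hW.fromSpec ≫ f :=
    IsAffineOpen.SpecMap_appLE_fromSpec f (isAffineOpen_top _) hW le_top
  have hγ : hW.fromSpec ≫ f = Spec.map (CommRingCat.ofHom γ) := by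
    rw [← hfW, IsAffineOpen.fromSpec_top, Scheme.isoSpec_Spec_inv, ← Spec.map_comp]
    rfl
  have hJ : ∀ c (n : ℕ), α c - β c ∈ J ^ (n + 1) := fun c n => by
    let q := Ideal.Quotient.mk (J ^ (n + 1))
    have hle : I ^ (n + 1) ≤ RingHom.ker (q.comp γ) := fun a ha => by
      rw [RingHom.mem_ker, RingHom.comp_apply, Ideal.Quotient.eq_zero_iff_mem, ← Ideal.map_pow]
      exact Ideal.mem_map_of_mem γ ha
    let l : Spec (CommRingCat.of (Γ(X, W) ⧸ J ^ (n + 1))) ⟶ CohB1.thick f I n :=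
      Limits.pullback.lift (Spec.map (CommRingCat.ofHom q) ≫ hW.fromSpec)
        (Spec.map (CommRingCat.ofHom (Ideal.Quotient.lift (I ^ (n + 1)) (q.comp γ) hle))) (by
          rw [Category.assoc, hγ, CohB1.specQuot, ← Spec.map_comp, ← Spec.map_comp]
          rfl)
    have hl : l ≫ CohB1.thickι f I n = Spec.map (CommRingCat.ofHom q) ≫ hW.fromSpec := Limits.pullback.lift_fst _ _ _
    have h1 : Spec.map (CommRingCat.ofHom q) ≫ hW.fromSpec ≫ φ = Spec.map (CommRingCat.ofHom q) ≫ hW.fromSpec ≫ ψ := by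
      rw [← Category.assoc, ← hl, Category.assoc, e n, ← Category.assoc, hl, Category.assoc]
    rw [← IsAffineOpen.SpecMap_appLE_fromSpec φ hV hW hWφ, ← IsAffineOpen.SpecMap_appLE_fromSpec ψ hV hW hWψ,
      ← Category.assoc, ← Category.assoc, cancel_mono, ← Spec.map_comp, ← Spec.map_comp] at h1
    exact Ideal.Quotient.eq.1 (ConcreteCategory.congr_hom (Spec.map_injective h1) c)
  letI : Algebra A Γ(X, W) := γ.toAlgebra
  let δ := ((Scheme.ΓSpecIso (CommRingCat.of A)).inv ≫ h.appLE ⊤ V le_top).hom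
  have hδ : δ.FiniteType := (h.finiteType_appLE (isAffineOpen_top _) hV le_top).comp
    (RingHom.FiniteType.of_surjective _ (Scheme.ΓSpecIso (CommRingCat.of A)).symm.commRingCatIsoToRingEquiv.surjective)
  have hαγ : α.comp δ = γ := by
    show ((Scheme.ΓSpecIso (CommRingCat.of A)).inv ≫ h.appLE ⊤ V le_top ≫ φ.appLE V W hWφ).hom = _
    rw [Scheme.Hom.appLE_comp_appLE]
    subst hφ
    rfl
  have hβγ : β.comp δ = γ := by
    show ((Scheme.ΓSpecIso (CommRingCat.of A)).inv ≫ h.appLE ⊤ V le_top ≫ ψ.appLE V W hWψ).hom = _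
    rw [Scheme.Hom.appLE_comp_appLE]
    subst hψ
    rfl
  letI : Algebra A Γ(Y, V) := δ.toAlgebra
  obtain ⟨s, hs⟩ := (hδ : Algebra.FiniteType A Γ(Y, V)).out
  let q := (hW.primeIdealOf ⟨x, hxW⟩).asIdeal
  have hJq : J ≤ q := by
    rw [Ideal.map_le_iff_le_comap]
    intro a ha
    have h1 : (Spec.map (CommRingCat.ofHom γ)) (hW.primeIdealOf ⟨x, hxW⟩) = f x := by
      rw [← hγ, Scheme.Hom.comp_apply]
      exact congrArg f (hW.fromSpec_primeIdealOf ⟨x, hxW⟩)
    have h2 : a ∈ (f x).asIdeal := hx ha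
    rw [← h1] at h2
    exact h2
  obtain ⟨u, hu, hue⟩ := aux_ring J q hJq α β s hJ
  let D := X.basicOpen u
  have hxD : x ∈ D := by
    have h1 := SetLike.ext_iff.mp (hW.fromSpec_preimage_basicOpen u) (hW.primeIdealOf ⟨x, hxW⟩)
    rw [Scheme.Hom.mem_preimage, hW.fromSpec_primeIdealOf] at h1
    exact h1.2 hu
  have hD : IsAffineOpen D := hW.basicOpen u
  have hDW : D ≤ W := X.basicOpen_le u
  let ρ := (X.presheaf.map (homOfLE hDW).op).hom
  have hρu : IsUnit (ρ u) := RingedSpace.isUnit_res_basicOpen X.toRingedSpace u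
  have hring : ρ.comp α = ρ.comp β := by
    let a : Γ(Y, V) →ₐ[A] Γ(X, W) := ⟨α, fun r => congr($hαγ r)⟩
    let b : Γ(Y, V) →ₐ[A] Γ(X, W) := ⟨β, fun r => congr($hβγ r)⟩
    letI : Algebra A Γ(X, D) := (ρ.comp γ).toAlgebra
    let ρA : Γ(X, W) →ₐ[A] Γ(X, D) := ⟨ρ, fun r => rfl⟩
    have hext : ρA.comp a = ρA.comp b := AlgHom.ext_of_adjoin_eq_top hs fun c hc => by
      refine hρu.mul_left_cancel ?_
      show ρ u * ρ (α c) = ρ u * ρ (β c)
      rw [← map_mul, ← map_mul, hue c hc]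
    exact congrArg AlgHom.toRingHom hext
  refine ⟨D, hxD, ?_⟩
  rw [← cancel_epi hD.isoSpec.inv, ← Category.assoc, ← Category.assoc, IsAffineOpen.isoSpec_inv_ι,
    ← IsAffineOpen.SpecMap_appLE_fromSpec φ hV hD (hDW.trans hWφ),
    ← IsAffineOpen.SpecMap_appLE_fromSpec ψ hV hD (hDW.trans hWψ)]
  congr 2
  rw [← Scheme.Hom.appLE_map φ hWφ (homOfLE hDW).op, ← Scheme.Hom.appLE_map ψ hWψ (homOfLE hDW).op]
  exact CommRingCat.hom_ext hring

open AlgebraicGeometry CategoryTheory CategoryTheory.Limits in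
/-- Let A be a Noetherian ring separated and complete for the I-adic topology, X proper over Spec A and
Y locally of finite type over Spec A; write X_n = X ×_A Spec(A/I^(n+1)). Two A-morphisms φ, ψ : X →
Y whose restrictions to X_n coincide for every n are equal. (The published statement takes Y
separated and of finite type over A, which the surjectivity half needs; injectivity uses neither
separatedness nor quasi-compactness of Y. Together with the existence of an A-morphism inducing any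
compatible system of morphisms X_n → Y_n, this is the bijectivity of f ↦ f̂ from A-morphisms X → Y
to morphisms of the completions.) -/
theorem result (A : Type u) [CommRing A] [IsNoetherianRing A]
    (I : Ideal A) [IsAdicComplete I A] {X Y : Scheme.{u}} (f : X ⟶ Spec (CommRingCat.of A))
    (h : Y ⟶ Spec (CommRingCat.of A)) [IsProper f] [LocallyOfFiniteType h] (φ ψ : X ⟶ Y)
    (hφ : φ ≫ h = f) (hψ : ψ ≫ h = f)
    (e : ∀ n : ℕ, CohB1.thickι f I n ≫ φ = CohB1.thickι f I n ≫ ψ) : φ = ψ := by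
  haveI : IsLocallyNoetherian X := LocallyOfFiniteType.isLocallyNoetherian f
  let ι := {W : X.Opens // W.ι ≫ φ = W.ι ≫ ψ}
  let U : X.Opens := ⨆ W : ι, W.1
  have hU : U = ⊤ := by
    rw [eq_top_iff]
    intro x _
    by_contra hx
    have hcl : IsClosed (f '' ((U : Set X)ᶜ)) := f.isClosedMap _ U.2.isClosed_compl
    rw [PrimeSpectrum.isClosed_iff_zeroLocus_ideal] at hcl
    obtain ⟨K, hK⟩ := hcl
    have hp : f x ∈ f '' ((U : Set X)ᶜ) := ⟨x, hx, rfl⟩
    rw [hK] at hp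
    obtain ⟨M, hM, hle⟩ := Ideal.exists_le_maximal _ (f x).isPrime.ne_top
    have hm : (⟨M, hM.isPrime⟩ : PrimeSpectrum A) ∈ f '' ((U : Set X)ᶜ) := by
      rw [hK]
      exact (PrimeSpectrum.mem_zeroLocus _ _).2 (((PrimeSpectrum.mem_zeroLocus _ _).1 hp).trans hle)
    obtain ⟨y, hy, hye⟩ := hm
    obtain ⟨W, hyW, hW⟩ := aux_nhd I f h φ ψ hφ hψ e y (by
      rw [hye]
      exact (PrimeSpectrum.mem_zeroLocus _ _).2
        ((IsAdicComplete.le_jacobson_bot I).trans (sInf_le ⟨bot_le, hM⟩)))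
    exact hy (TopologicalSpace.Opens.mem_iSup.2 ⟨⟨W, hW⟩, hyW⟩)
  exact (X.openCoverOfIsOpenCover (fun W : ι => W.1) hU).hom_ext _ _ fun W => W.2

end Groth.Agent.S5742
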