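import Groth.Statements.S5746
import Groth.Agent.GrModLib.Socle
-- import your own Groth.Agent.* helpers here

set_option autoImplicit false
universe u
open CategoryTheory CategoryTheory.Limits AlgebraicGeometry Opposite TopologicalSpace
open scoped HomogeneousIdeal
noncomputable section
open Coherent

namespace Groth.Agent.S5746

/-- Let Y be a Noetherian scheme, 𝒮 a quasi-coherent positively graded O_Y-algebra of finite type and ℳ
a quasi-coherent graded 𝒮-module (non-negatively graded here) satisfying (TF). Then there is one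
integer N such that for every n ≥ N and every affine open U of Y the canonical map α_n : ℳ(U)_n →
Γ(Proj 𝒮(U), (ℳ(U)(n))~), m ↦ m/1, is bijective. (The statement is read on the sections over the
affine opens of Y: over an affine open U the module (ℳ(n))~ on Proj(𝒮) restricts to the module
attached to the shifted graded 𝒮(U)-module ℳ(U)(n), so this is the bijectivity of the sheaf
homomorphism α_n from ℳ_n to the direct image of (ℳ(n))~, with a bound uniform over Y.) -/
theorem result {Y : Scheme.{u}}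
    [AlgebraicGeometry.IsNoetherian Y] (𝒮 : RelProj.QCGrAlg Y)
    (hft : ∀ (U : Y.Opens) (hU : IsAffineOpen U), (𝒮.str.app (op U)).hom.FiniteType)
    (ℳ : RelProj.GrModule 𝒮) (hℳ : Coh.IsQCoh ((AMod.toOS 𝒮.toQCAlg).obj ℳ.mod)) (hTF : ℳ.IsTF) :
    ∃ N : ℕ, ∀ n : ℕ, N ≤ n → ∀ (U : Y.Opens) (hU : IsAffineOpen U),
      Function.Bijective (GrMod.alpha (𝒮.deg U hU) (ℳ.deg U hU) n) := by
  classical
  let F := Groth.Agent.RelTildeLib.Fam.ofModule ℳ hℳ
  have hnoeth : ∀ (U : Y.Opens) (hU : IsAffineOpen U), IsNoetherianRing (𝒮.presheaf.obj (op U)) := fun U hU => by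
    haveI : IsNoetherianRing Γ(Y, U) := IsLocallyNoetherian.component_noetherian ⟨U, hU⟩
    letI := (𝒮.str.app (op U)).hom.toAlgebra
    haveI : Algebra.FiniteType Γ(Y, U) (𝒮.presheaf.obj (op U)) := hft U hU
    exact Algebra.FiniteType.isNoetherianRing Γ(Y, U) _
  have hfg : ∀ (U : Y.Opens) (hU : IsAffineOpen U), ((𝒮.deg U hU)₊).toIdeal.FG := fun U hU =>
    haveI := hnoeth U hU
    IsNoetherian.noetherian _
  obtain ⟨k, hk⟩ := hTF
  have hB : ∀ (U : Y.affineOpens), ∃ B, Groth.Agent.GrModLib.IsBound (𝒮.deg U.1 U.2) (ℳ.deg U.1 U.2) B :=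
    fun U => haveI := hnoeth U.1 U.2; Groth.Agent.GrModLib.exists_bound (hk U.1 U.2)
  choose B hB using hB
  obtain ⟨T, hT⟩ := isCompact_univ.elim_finite_subcover (fun U : Y.affineOpens => (U.1 : Set Y)) (fun U => U.1.isOpen)
    (fun x _ => Set.mem_iUnion.2 (by
      obtain ⟨U, hU, hx, -⟩ := exists_isAffineOpen_mem_and_subset (U := (⊤ : Y.Opens)) (show x ∈ (⊤ : Y.Opens) from trivial)
      exact ⟨⟨U, hU⟩, hx⟩))
  refine ⟨T.sup B, fun n hn U hU => ?_⟩
  have hmono : ∀ V ∈ T, Groth.Agent.GrModLib.IsBound (𝒮.deg V.1 V.2) (F.deg V.1 V.2) (T.sup B) := fun V hV =>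
    ⟨fun m hm => (hB V).inj m ((Finset.le_sup hV).trans hm), fun m hm => (hB V).surj m ((Finset.le_sup hV).trans hm)⟩
  let S : Set Γ(Y, U) := {r | ∃ V ∈ T, ∃ f : Γ(Y, V.1), Y.basicOpen f = Y.basicOpen r}
  have hS : Ideal.span S = ⊤ := by
    rw [← hU.self_le_iSup_basicOpen_iff]
    intro x hx
    obtain ⟨V, hVT, hxV⟩ := Set.mem_iUnion₂.1 (hT (Set.mem_univ x))
    obtain ⟨f, g, hfg, hxf⟩ := exists_basicOpen_le_affine_inter V.2 hU x ⟨hxV, hx⟩
    exact Opens.mem_iSup.2 ⟨⟨g, V, hVT, f, hfg⟩, hfg ▸ hxf⟩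
  refine (F.isBound_of_cover U hU S hS (hfg U hU) ?_).bijective (hfg U hU) n hn
  rintro r ⟨V, hVT, f, hf⟩
  exact F.isBound_congr hf (F.isBound_basicOpen V.1 V.2 f (hfg V.1 V.2) (hmono V hVT))

end Groth.Agent.S5746
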