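import Groth.Statements.S5747
import Groth.Agent.GrModLib.FiniteTypeAny
import Groth.Agent.RelTildeLib.Finite
import Groth.Agent.DCohLib.QCohAbelian
-- import your own Groth.Agent.* helpers here

set_option autoImplicit false
universe u
open CategoryTheory CategoryTheory.Limits AlgebraicGeometry Opposite TopologicalSpace
open scoped HomogeneousIdeal
noncomputable section
open Coherent

namespace Groth.Agent.S5747

/-- Let Y be a Noetherian scheme, 𝒮 a quasi-coherent positively graded O_Y-algebra of finite type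
(generators of any positive degrees), p : X = Proj(𝒮) → Y its relative homogeneous spectrum with its
charts over the affine opens, and n any integer. Then the homogeneous component O_X(n), given
through its chartwise identifications with the twisting modules O(n) on the Proj 𝒮(U), is a coherent
O_X-module (quasi-coherent of finite type; X is locally Noetherian). -/
theorem result {Y X : Scheme.{u}} [AlgebraicGeometry.IsNoetherian Y]
    (𝒮 : RelProj.QCGrAlg Y)
    (hft : ∀ (U : Y.Opens) (hU : IsAffineOpen U), (𝒮.str.app (op U)).hom.FiniteType)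
    (p : X ⟶ Y)
    (chart : ∀ (U : Y.Opens) (hU : IsAffineOpen U), (((p ⁻¹ᵁ U : X.Opens) : Scheme.{u}) ≅ Proj (𝒮.deg U hU)))
    (hP : RelProj.IsRelProj 𝒮 p chart) (n : ℤ) (L : X.Modules)
    (lam : ∀ (U : Y.Opens) (hU : IsAffineOpen U),
      L ⟶ (Scheme.Modules.pushforward (RelProj.emb p chart U hU)).obj (GrTwist.twist (𝒮.deg U hU) n))
    (hL : RelProj.IsRelTwist 𝒮 p chart n L lam) : Coh.IsCoh L := by
  have hnoeth : ∀ (U : Y.Opens) (hU : IsAffineOpen U), IsNoetherianRing (𝒮.presheaf.obj (op U)) := fun U hU => by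
    haveI : IsNoetherianRing Γ(Y, U) := IsLocallyNoetherian.component_noetherian ⟨U, hU⟩
    letI := (𝒮.str.app (op U)).hom.toAlgebra
    haveI : Algebra.FiniteType Γ(Y, U) (𝒮.presheaf.obj (op U)) := hft U hU
    exact Algebra.FiniteType.isNoetherianRing Γ(Y, U) _
  haveI hq : Coh.IsQCoh L := Groth.Agent.RelTildeLib.isQCoh_of_charts hL.bijective fun U hU =>
    haveI := Groth.Agent.GrModLib.isQCoh_tilde (𝒜 := 𝒮.deg U hU) (ℳ := 𝒮.deg U hU) n
    Groth.Agent.DCohLib.isQCoh_of_iso' (Groth.Agent.GrModLib.twistIso (𝒮.deg U hU) n).symm inferInstance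
  refine ⟨hq, ?_⟩
  let ι := Σ U : Y.affineOpens, {q : ℕ × 𝒮.presheaf.obj (op U.1) // 0 < q.1 ∧ q.2 ∈ 𝒮.deg U.1 U.2 q.1}
  let W : ι → X.Opens := fun a => RelProj.emb p chart a.1.1 a.1.2 ''ᵁ Proj.basicOpen (𝒮.deg a.1.1 a.1.2) a.2.1.2
  refine Groth.Agent.QCohLib.isFiniteType_of_finite L W
    (fun a => (Proj.isAffineOpen_basicOpen _ _ a.2.2.2 a.2.2.1).image_of_isOpenImmersion _) ?_ fun a => ?_
  · refine eq_top_iff.2 fun x _ => ?_
    obtain ⟨⟨U, hU⟩, y, rfl⟩ := Groth.Agent.RelTildeLib.exists_mem_opensRange chart x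
    obtain ⟨q, hq'⟩ := Opens.mem_iSup.1
      ((Groth.Agent.GrModLib.iSup_basicOpen_pos (𝒜 := 𝒮.deg U hU)).ge (show y ∈ (⊤ : (Proj (𝒮.deg U hU)).Opens) from trivial))
    exact Opens.mem_iSup.2 ⟨⟨⟨U, hU⟩, q⟩, y, hq', rfl⟩
  · haveI := hnoeth a.1.1 a.1.2
    exact Groth.Agent.RelTildeLib.finite_image _ (lam a.1.1 a.1.2)
      (Groth.Agent.RelTildeLib.bij_range hL.bijective a.1.1 a.1.2)
      (Groth.Agent.GrModLib.finite_twist_sections a.2.2.1 a.2.2.2 n)

end Groth.Agent.S5747
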