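import Groth.Statements.S5748
import Groth.Agent.AffTwistLib.Twist
import Groth.Agent.AmpleEmb.RelVanish
import Groth.Agent.DCohLib.ProjFlf
import Groth.Agent.S4474
import Groth.Agent.S4418
import Groth.Agent.S2332
import Groth.Agent.S0012

set_option autoImplicit false
set_option linter.style.haveILetI false
universe u
open CategoryTheory CategoryTheory.Limits AlgebraicGeometry Opposite TopologicalSpace
open Coherent

namespace Groth.Agent.S5748

/-- Let Y be a Noetherian scheme, f : X → Y a projective morphism, L an invertible O_X-module ample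
relative to f, g : Y' → Y an affine morphism locally of finite type (the spectrum of a
quasi-coherent O_Y-algebra 𝒮 of finite type) and X' = X ×_Y Y' with projections g' : X' → X and f' :
X' → Y'. The quasi-coherent modules of finite type over the pulled-back O_X-algebra f^*𝒮 = g'_*
O_{X'} are the direct images g'_* G of the coherent O_{X'}-modules G, and they are presented here in
that form. For such a module ℳ = g'_* G there is N such that for every n ≥ N the higher direct
images R^p f_*(ℳ ⊗ L^{⊗n}) (of the underlying abelian sheaf) vanish for all p > 0 and the canonical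
morphism f^* f_*(ℳ ⊗ L^{⊗n}) → ℳ ⊗ L^{⊗n} is an epimorphism. -/
theorem result {X Y X' Y' : Scheme.{u}}
    [AlgebraicGeometry.IsNoetherian Y] (f : X ⟶ Y) (hf : RelProj.IsProjective f)
    (L : X.Modules) (hL : PicF.IsInvertible L) (hamp : RelAmple.IsRelAmple f L)
    (g : Y' ⟶ Y) [IsAffineHom g] [LocallyOfFiniteType g] (g' : X' ⟶ X) (f' : X' ⟶ Y')
    (hsq : IsPullback g' f' f g) (G : X'.Modules) (hG : Coh.IsCoh G) :
    ∃ N : ℕ, ∀ n : ℕ, N ≤ n →
      (∀ p : ℕ, 0 < p →
        IsZero ((Coh.RpushAb f p).obj (Coh.toAb (CohB1.tensorMod ((Coh.push g').obj G) (CohB1.tensorPow L n))))) ∧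
      Epi ((Scheme.Modules.pullbackPushforwardAdjunction f).counit.app
        (CohB1.tensorMod ((Coh.push g').obj G) (CohB1.tensorPow L n))) := by
  haveI : IsProper f := (S4418.result f hf).2
  haveI : IsProper f' := MorphismProperty.of_isPullback (P := @IsProper) hsq ‹IsProper f›
  haveI : IsAffineHom g' := MorphismProperty.of_isPullback (P := @IsAffineHom) hsq.flip ‹IsAffineHom g›
  haveI : IsLocallyNoetherian Y' := LocallyOfFiniteType.isLocallyNoetherian g
  haveI : CompactSpace Y' := QuasiCompact.compactSpace_of_compactSpace g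
  haveI : AlgebraicGeometry.IsNoetherian Y' := { }
  haveI : IsLocallyNoetherian X' := LocallyOfFiniteType.isLocallyNoetherian f'
  haveI := hG.1
  let L' := (Scheme.Modules.pullback g').obj L
  have hL' : PicF.IsInvertible L' := AmpleLib.isInvertible_pullback g' hL
  have hamp' : RelAmple.IsRelAmple f' L' := by
    have h2 := S2332.result f g L hamp
    exact AffTwistLib.isRelAmple_of_isPullback hsq L h2
  obtain ⟨N₁, hN₁⟩ := AmpleEmb.exists_isZero_rpush_tensorPow f' hL' (fun W hW => hamp'.2 ⟨W, hW⟩) hG
  obtain ⟨N₂, hN₂⟩ := AffTwistLib.exists_span_preimage f' g hL' hamp' hG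
  refine ⟨max N₁ N₂, fun n hn => ?_⟩
  let M := CohB1.tensorMod G (CohB1.tensorPow L' n)
  have hM : Coh.IsCoh M := CurveLib.isCoh_tmod hG (CurveLib.isCoh_of_isInvertible (AmpleLib.isInvertible_tensorPow hL' n))
  haveI := hM.1
  have hpm := DCohLib.isIso_projMap_of_flf g'
    (CurveLib.isFinLocFree_of_isInvertible (AmpleLib.isInvertible_tensorPow hL n)) G
  let η : CohB1.tensorMod ((Coh.push g').obj G) (CohB1.tensorPow L n) ≅ (Scheme.Modules.pushforward g').obj M :=
    @asIso _ _ _ _ (DCohLib.projMap g' G (CohB1.tensorPow L n)) hpm ≪≫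
      (Scheme.Modules.pushforward g').mapIso (AmpleLib.tIso (Iso.refl _) (AmpleLib.pullPow g' L n))
  refine ⟨fun p hp => ?_, ?_⟩
  · obtain ⟨q, rfl⟩ : ∃ q, p = q + 1 := ⟨p - 1, by omega⟩
    refine IsZero.of_iso ?_ ((Coh.RpushAb f (q + 1)).mapIso ((SheafOfModules.toSheaf X.ringCatSheaf).mapIso η))
    exact AffTwistLib.isZero_rpushAb_pushforward hsq M q (hN₁ n (le_trans (le_max_left _ _) hn) (q + 1) hp)
  · refine AffTwistLib.epi_counit_of_iso f η.symm (S4474.epi_counit_of_span f _ fun x => ?_)
    obtain ⟨V, hV, hxV, hspan⟩ := hN₂ n (le_trans (le_max_right _ _) hn) (f x)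
    exact ⟨V, hxV, AffTwistLib.span_germ_pushforward hsq hV M (by rw [AffTwistLib.preimage_eq hsq V]; exact hspan) x hxV⟩

end Groth.Agent.S5748
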