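import Groth.Statements.S5749
import Groth.Agent.ProjCoh.PSData

set_option autoImplicit false
universe u
open Coherent

namespace Groth.Agent.S5749

open CategoryTheory CategoryTheory.Limits AlgebraicGeometry

/-- Serre vanishing for the twists by a closed immersion into projective space, uniform in the degree. -/
theorem exists_vanish (A : Type u) [CommRing A] [IsNoetherianRing A] (r : ℕ) (X : Scheme.{u})
    (i : X ⟶ CohB1.ProjSpace r A) [IsClosedImmersion i] (F : X.Modules) (hF : Coh.IsCoh F) :
    ∃ N : ℤ, ∀ n : ℤ, N ≤ n → ∀ j ∈ Finset.range (r + 1), j ≠ 0 →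
      Subsingleton (Coh.HH X (CohB1.tensorMod F
          ((Scheme.Modules.pullback i).obj (Twist.twistProjSpace r A n))) j) := by
  haveI h1 : IsAffineHom (Y := Proj (CohB1.polyGrading r A)) i := (inferInstance : IsAffineHom i)
  haveI h2 : IsClosedImmersion (Y := Proj (CohB1.polyGrading r A)) i := ‹IsClosedImmersion i›
  let g : Fin (r + 1) → CohB1.polyGrading r A 1 :=
    fun a => ⟨MvPolynomial.X a, MvPolynomial.isHomogeneous_X A a⟩
  have hgen : Algebra.adjoin A (Set.range fun a => (g a).1) = ⊤ := MvPolynomial.adjoin_range_X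
  have h : ∀ p : ℕ, ∃ d₀ : ℤ, p ≠ 0 → ∀ d, d₀ ≤ d →
      Subsingleton (Coh.HH X (ProjCoh.psTwist (CohB1.polyGrading r A) i F d) p) := fun p => by
    by_cases hp : p = 0
    · exact ⟨0, fun h => absurd hp h⟩
    · obtain ⟨d₀, h⟩ := ProjCoh.exists_vanishing (CohB1.polyGrading r A) g hgen i F hF p (Nat.pos_of_ne_zero hp)
      exact ⟨d₀, fun _ => h⟩
  choose d₀ hd₀ using h
  refine ⟨((Finset.range (r + 1)).sup fun p => (d₀ p).toNat : ℕ), fun n hn j hj hj0 => ?_⟩
  refine hd₀ j hj0 n ?_
  have h1 : (d₀ j).toNat ≤ (Finset.range (r + 1)).sup fun p => (d₀ p).toNat :=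
    Finset.le_sup (f := fun p => (d₀ p).toNat) hj
  omega


open AlgebraicGeometry CategoryTheory in
/-- Let A be an Artinian local ring, i : X → P^r_A a closed immersion compatible with the structure
morphisms to Spec A (X projective over A with the very ample module i^* O(1)), F a coherent
O_X-module and F(n) = F ⊗ i^* O(n). Then for all sufficiently large n the Euler characteristic
χ_A(F(n)) = Σ_{j ≤ r} (-1)^j length_A H^j(X, F(n)) equals the length of H^0(X, F(n)), the A-module
of global sections of F(n). -/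
theorem result (A : Type u) [CommRing A]
    [IsArtinianRing A] [IsLocalRing A] (r : ℕ) (X : Scheme.{u}) [X.Over (Spec (CommRingCat.of A))]
    (i : X ⟶ CohB1.ProjSpace r A) [IsClosedImmersion i]
    (hi : i ≫ CohB1.ProjSpace.toSpec r A = X ↘ Spec (CommRingCat.of A)) (F : X.Modules) (hF : Coh.IsCoh F) :
    ∃ N : ℤ, ∀ n : ℤ, N ≤ n →
      ((Finset.range (r + 1)).sum fun j => (-1 : ℤ) ^ j *
        ((Module.length A (Coh.HH X (CohB1.tensorMod F
          ((Scheme.Modules.pullback i).obj (Twist.twistProjSpace r A n))) j)).toNat : ℤ)) =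
      ((Module.length A (Coh.HH X (CohB1.tensorMod F
          ((Scheme.Modules.pullback i).obj (Twist.twistProjSpace r A n))) 0)).toNat : ℤ) := by
  obtain ⟨N, hN⟩ := exists_vanish A r X i F hF
  refine ⟨N, fun n hn => (Finset.sum_eq_single_of_mem 0 (Finset.mem_range.2 (Nat.succ_pos r))
    fun j hj hj0 => ?_).trans (by rw [pow_zero, one_mul])⟩
  haveI := hN n hn j hj hj0
  rw [(Module.length_eq_zero_iff (R := A)).2 inferInstance]
  simp

end Groth.Agent.S5749
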