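import Groth.Statements.S5750
import Groth.Agent.S5749

set_option autoImplicit false
universe u
open Coherent

namespace Groth.Agent.S5750

open AlgebraicGeometry CategoryTheory in
/-- Let A be an Artinian local ring, i : X → P^r_A a closed immersion compatible with the structure
morphisms to Spec A, F a coherent O_X-module and F(n) = F ⊗ i^* O(n). If a polynomial P over ℚ
satisfies P(n) = χ_A(F(n)) = Σ_{j ≤ r} (-1)^j length_A H^j(X, F(n)) for every integer n (the Hilbert
polynomial of F), then the leading coefficient of P is non-negative. -/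
theorem result (A : Type u) [CommRing A]
    [IsArtinianRing A] [IsLocalRing A] (r : ℕ) (X : Scheme.{u}) [X.Over (Spec (CommRingCat.of A))]
    (i : X ⟶ CohB1.ProjSpace r A) [IsClosedImmersion i]
    (hi : i ≫ CohB1.ProjSpace.toSpec r A = X ↘ Spec (CommRingCat.of A)) (F : X.Modules) (hF : Coh.IsCoh F)
    (P : Polynomial ℚ)
    (hP : ∀ n : ℤ, ((Finset.range (r + 1)).sum fun j => (-1 : ℚ) ^ j *
        ((Module.length A (Coh.HH X (CohB1.tensorMod F
          ((Scheme.Modules.pullback i).obj (Twist.twistProjSpace r A n))) j)).toNat : ℚ)) = P.eval (n : ℚ)) :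
    0 ≤ P.leadingCoeff := by
  obtain ⟨N, hN⟩ := Groth.Agent.S5749.result A r X i hi F hF
  by_contra hlt
  push_neg at hlt
  have hpos : ∀ n : ℕ, N ≤ (n : ℤ) → 0 ≤ P.eval (n : ℚ) := fun n hn => by
    have h := hP (n : ℤ)
    rw [Int.cast_natCast] at h
    rw [← h]
    have h' := congrArg (fun z : ℤ => (z : ℚ)) (hN n hn)
    simp only [Int.cast_sum, Int.cast_mul, Int.cast_pow, Int.cast_neg, Int.cast_one,
      Int.cast_natCast] at h'
    rw [h']
    positivity
  rcases le_or_gt P.degree 0 with hd | hd
  · have hc := Polynomial.eq_C_of_degree_le_zero hd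
    have := hpos N.toNat (Int.self_le_toNat N)
    rw [hc] at this hlt
    simp at this hlt
    linarith
  · have ht := (P.tendsto_atBot_of_leadingCoeff_nonpos hd hlt.le).comp
      (tendsto_natCast_atTop_atTop (R := ℚ))
    obtain ⟨n, hn1, hn2⟩ := ((ht.eventually (Filter.eventually_lt_atBot 0)).and
      (Filter.eventually_ge_atTop N.toNat)).exists
    have := hpos n (by omega)
    exact absurd hn1 (not_lt.2 this)

end Groth.Agent.S5750
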