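import Groth.Statements.S5751
import Groth.Agent.GrModLib.Eventually
-- import your own Groth.Agent.* helpers here

set_option autoImplicit false
universe u
open CategoryTheory CategoryTheory.Limits AlgebraicGeometry Opposite TopologicalSpace
open scoped HomogeneousIdeal
noncomputable section
open Coherent

namespace Groth.Agent.S5751

set_option maxHeartbeats 2000000 in
/-- Over an affine base, for a graded ring generated in degree one, let S be a Noetherian commutative
ring positively graded by additive subgroups with irrelevant ideal generated by S_1, X = Proj S, and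
M a graded S-module (non-negatively graded here, the direct sum of its pieces) satisfying (TF): for
some k the submodule generated by the homogeneous elements of degree ≥ k is finitely generated.
Consider the graded module of sections n ↦ N_n = Γ(X, M(n)~), on which a homogeneous a ∈ S_e acts by
N_n → N_{n+e}, s ↦ (a/1)·s. Then there is k such that for every e ≥ 0 the group N_{k+e} is generated
by the images a · N_k, a ∈ S_e. (For a ring generated in degree one, condition (TF) for the graded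
module ⊕_n N_n is this eventual generation together with the finiteness of each N_n over S_0.) -/
theorem result {A σ : Type u} [CommRing A]
    [IsNoetherianRing A] [SetLike σ A] [AddSubgroupClass σ A] (𝒜 : ℕ → σ) [GradedRing 𝒜]
    (hgen : (HomogeneousIdeal.irrelevant 𝒜).toIdeal = Ideal.span (𝒜 1 : Set A))
    {M τ : Type u} [AddCommGroup M] [Module A M] [SetLike τ M] [AddSubgroupClass τ M] (ℳ : ℕ → τ)
    [SetLike.GradedSMul 𝒜 ℳ] [DirectSum.Decomposition ℳ]
    (hTF : ∃ k : ℕ, (Submodule.span A (⋃ i ∈ Set.Ici k, (ℳ i : Set M))).FG) :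
    ∃ k : ℕ, ∀ e : ℕ,
      (⨆ a : 𝒜 e, (GrMod.smulSect 𝒜 ℳ a (k : ℤ)
        (op (⊤ : Opens (ProjectiveSpectrum.top 𝒜)))).range) = ⊤ := by
  classical
  obtain ⟨N₀, hN₀⟩ := Groth.Agent.GrModLib.eventually_bijective (𝒜 := 𝒜) hTF
  obtain ⟨k₀, hk₀⟩ := hTF
  obtain ⟨G, hGs, hG⟩ := Submodule.fg_span_iff_fg_span_finset_subset (R := A) (𝒜 1 : Set A) |>.1
    (IsNoetherian.noetherian _)
  let g : {x // x ∈ G} → A := fun i => i.1
  have hg : ∀ i, g i ∈ 𝒜 1 := fun i => hGs i.2
  have hirr : (HomogeneousIdeal.irrelevant 𝒜).toIdeal ≤ Ideal.span (Set.range g) := by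
    rw [hgen, show Set.range g = (G : Set A) by ext; simp [g]]
    exact le_of_eq hG
  obtain ⟨B, hB⟩ := Groth.Agent.GrModLib.gen_bound (ℳ := ℳ) g (fun _ => 1) hg hirr _ hk₀ k₀
    fun n hn z hz => Submodule.subset_span (Set.mem_biUnion (x := n) hn hz)
  refine ⟨max N₀ B, fun e => eq_top_iff.2 fun s _ => ?_⟩
  generalize hk : max N₀ B = k at s ⊢
  have hcl : ∀ (e : ℕ) (m : M), m ∈ ℳ (k + e) →
      m ∈ AddSubgroup.closure {z : M | ∃ a ∈ 𝒜 e, ∃ w ∈ ℳ k, z = a • w} := by
    intro e
    induction e with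
    | zero => exact fun m hm => AddSubgroup.subset_closure ⟨1, SetLike.one_mem_graded 𝒜, m, hm, (one_smul A m).symm⟩
    | succ e ih =>
      intro m hm
      obtain ⟨w, hw, rfl⟩ := hB (k + (e + 1)) (by omega) m hm
      refine sum_mem fun i _ => ?_
      rw [if_pos (by omega)]
      have hwi : w i ∈ ℳ (k + e) := Groth.Agent.GrModLib.mem_congr (by omega) (hw i (by omega))
      have h := ih _ hwi
      generalize w i = z at h
      induction h using AddSubgroup.closure_induction with
      | mem z hz =>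
        obtain ⟨a, ha, v, hv, rfl⟩ := hz
        refine AddSubgroup.subset_closure ⟨g i * a, ?_, v, hv, (smul_smul _ _ _)⟩
        rw [add_comm e 1]
        exact SetLike.mul_mem_graded (hg i) ha
      | zero => rw [smul_zero]; exact zero_mem _
      | add x y _ _ hx hy => rw [smul_add]; exact add_mem hx hy
      | neg x _ hx => rw [smul_neg]; exact neg_mem hx
  have hval : ∀ (n : ℤ), n = ((k + e : ℕ) : ℤ) →
      ∀ s : GrMod.sect 𝒜 ℳ n (op (⊤ : Opens (ProjectiveSpectrum.top 𝒜))), ∃ m ∈ ℳ (k + e),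
        ∀ x, ((s.1 x : GrMod.tildeAt 𝒜 ℳ n x.1) : GrMod.LocMod 𝒜 (M := M) x.1) = LocalizedModule.mk m 1 := by
    rintro n rfl s
    obtain ⟨m, hm⟩ := (hN₀ (k + e) (by omega)).2 s
    exact ⟨m.1, m.2, fun x => by rw [← hm]; rfl⟩
  obtain ⟨m, hm, hs⟩ := hval _ (by push_cast; rfl) s
  suffices h : ∀ z ∈ AddSubgroup.closure {z : M | ∃ a ∈ 𝒜 e, ∃ w ∈ ℳ k, z = a • w},
      ∃ t ∈ (⨆ a : 𝒜 e, (GrMod.smulSect 𝒜 ℳ a (k : ℤ) (op (⊤ : Opens (ProjectiveSpectrum.top 𝒜)))).range),
        ∀ x, ((t.1 x : GrMod.tildeAt 𝒜 ℳ _ x.1) : GrMod.LocMod 𝒜 (M := M) x.1) = LocalizedModule.mk z 1 by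
    obtain ⟨t, ht, hts⟩ := h m (hcl e m hm)
    rwa [show s = t from Subtype.ext (funext fun x => Subtype.ext ((hs x).trans (hts x).symm))]
  intro z hz
  induction hz using AddSubgroup.closure_induction with
  | mem z hz =>
    obtain ⟨a, ha, w, hw, rfl⟩ := hz
    refine ⟨_, AddSubgroup.mem_iSup_of_mem (⟨a, ha⟩ : 𝒜 e)
      (AddMonoidHom.mem_range.2 ⟨GrMod.alpha 𝒜 ℳ k ⟨w, hw⟩, rfl⟩), fun x => ?_⟩
    refine (GrMod.smulSect_apply_coe _ _ _ _ x).trans ?_
    exact (LocalizedModule.mk_smul_mk a w 1 1).trans (by rw [one_mul])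
  | zero => exact ⟨0, zero_mem _, fun x => (LocalizedModule.zero_mk _).symm⟩
  | add y y' _ _ hy hy' =>
    obtain ⟨t, ht, hts⟩ := hy
    obtain ⟨t', ht', hts'⟩ := hy'
    refine ⟨t + t', add_mem ht ht', fun x => ?_⟩
    rw [AddMemClass.coe_add, Pi.add_apply, AddMemClass.coe_add, hts, hts', LocalizedModule.mk_add_mk]
    simp
  | neg y _ hy =>
    obtain ⟨t, ht, hts⟩ := hy
    refine ⟨-t, neg_mem ht, fun x => ?_⟩
    rw [NegMemClass.coe_neg, Pi.neg_apply, NegMemClass.coe_neg, hts, LocalizedModule.mk_neg]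

end Groth.Agent.S5751
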