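import Mathlib
import Groth.Agent.AdicEasyLib.Basic
import Groth.Statements.S5753

set_option autoImplicit false
universe u
open EGA41

namespace Groth.Agent.S5753

/-- Let A be a Noetherian local ring with maximal ideal m and residue field k, and N a finitely
generated A-module. Then no element of m is N-regular (multiplication by it injective) if and only
if Hom_A(k, N) is nonzero. Applied to N = M/(x_1 M + ... + x_n M) for an M-regular sequence (x_i) in
m, this says that the sequence cannot be extended by an element of m if and only if Hom_A(k, M/(x_1
M + ... + x_n M)) ≠ 0. (The published statement allows an arbitrary module; for the direct sum N of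
the quotients of a two-dimensional regular local ring by all its height-one primes no element of m
is N-regular while Hom_A(k, N) = 0, and the published proof uses finiteness of the set of associated
primes, so N is taken finitely generated here.) -/
theorem result (A : Type u) [CommRing A]
    [IsLocalRing A] [IsNoetherianRing A] (N : Type u) [AddCommGroup N] [Module A N] [Module.Finite A N] :
    (∀ x ∈ IsLocalRing.maximalIdeal A, ¬ IsSMulRegular N x) ↔
      Nontrivial (IsLocalRing.ResidueField A →ₗ[A] N) := by
  constructor
  · intro h
    rcases subsingleton_or_nontrivial N with hN | hN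
    · exact absurd (fun a b _ => Subsingleton.elim a b) (h 0 (zero_mem _))
    have hsub : ((IsLocalRing.maximalIdeal A : Ideal A) : Set A) ⊆ ⋃ p ∈ associatedPrimes A N, (p : Set A) := by
      intro x hx
      rw [biUnion_associatedPrimes_eq_zero_divisors]
      have h' := h x hx
      rw [isSMulRegular_iff_right_eq_zero_of_smul] at h'
      push_neg at h'
      obtain ⟨n, hn, hn'⟩ := h'
      exact ⟨n, hn', hn⟩
    have hfin := associatedPrimes.finite A N
    rw [← hfin.coe_toFinset] at hsub
    obtain ⟨p, hp, hle⟩ := (Ideal.subset_union_prime (f := id) ⊥ ⊥ fun p hp _ _ =>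
      (hfin.mem_toFinset.1 hp).isPrime).1 hsub
    have hp' := hfin.mem_toFinset.1 hp
    rw [← (IsLocalRing.maximalIdeal.isMaximal A).eq_of_le hp'.isPrime.ne_top hle] at hp'
    obtain ⟨g, hg⟩ := (isAssociatedPrime_iff_exists_injective_linearMap _ _).1 hp' |>.2
    refine nontrivial_of_ne g 0 fun h0 => ?_
    have := @hg 1 0 (by rw [h0]; rfl)
    exact one_ne_zero this
  · intro h x hx hreg
    obtain ⟨g, hg⟩ := exists_ne (0 : IsLocalRing.ResidueField A →ₗ[A] N)
    refine hg (LinearMap.ext fun z => ?_)
    refine isSMulRegular_iff_right_eq_zero_of_smul.1 hreg (g z) ?_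
    rw [← map_smul, Algebra.smul_def,
      show algebraMap A (IsLocalRing.ResidueField A) x = 0 from (IsLocalRing.residue_eq_zero_iff x).2 hx,
      zero_mul, map_zero]

end Groth.Agent.S5753
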