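import Mathlib
import Mathlib
import Groth.Statements.S5754

set_option autoImplicit false
universe u
open EGA41

namespace Groth.Agent.S5754
open Pointwise

/-- Let A be a Noetherian ring, M a finitely generated A-module and t an element of A which is
M-regular. For every associated prime p of M, every prime ideal minimal among those containing p +
tA is an associated prime of M/tM. -/
theorem result (A : Type u) [CommRing A]
    [IsNoetherianRing A] (M : Type u) [AddCommGroup M] [Module A M] [Module.Finite A M] (t : A)
    (ht : IsSMulRegular M t) (p : Ideal A) (hp : p ∈ associatedPrimes A M) (q : Ideal A)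
    (hq : q ∈ (p ⊔ Ideal.span {t}).minimalPrimes) : q ∈ associatedPrimes A (QuotSMulTop t M) := by
  let N : Submodule A M :=
    { carrier := {y | ∀ a ∈ p, a • y = 0}
      add_mem' := fun {u v} hu hv a ha => by rw [smul_add, hu a ha, hv a ha, add_zero]
      zero_mem' := fun a _ => smul_zero a
      smul_mem' := fun c y hy a ha => by rw [smul_comm, hy a ha, smul_zero] }
  obtain ⟨-, f, hf⟩ := (isAssociatedPrime_iff_exists_injective_linearMap _ _).1 hp
  have hf1 : f 1 ∈ N := fun a ha => by
    rw [← map_smul, Algebra.smul_def, mul_one, Ideal.Quotient.algebraMap_eq,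
      Ideal.Quotient.eq_zero_iff_mem.2 ha, map_zero]
  have hann : Module.annihilator A N = p := by
    refine le_antisymm (fun a ha => ?_) fun a ha => Module.mem_annihilator.2 fun y => Subtype.ext (y.2 a ha)
    have h := congrArg Subtype.val (Module.mem_annihilator.1 ha ⟨f 1, hf1⟩)
    change a • f 1 = 0 at h
    rw [← map_smul, Algebra.smul_def, mul_one] at h
    exact Ideal.Quotient.eq_zero_iff_mem.1 (hf (h.trans (map_zero f).symm))
  let g : QuotSMulTop t N →ₗ[A] QuotSMulTop t M := QuotSMulTop.map t N.subtype
  have hg : Function.Injective g := by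
    rw [injective_iff_map_eq_zero]
    intro y hy
    obtain ⟨y, rfl⟩ := Submodule.Quotient.mk_surjective _ y
    rw [QuotSMulTop.map_apply_mk, Submodule.Quotient.mk_eq_zero,
      Submodule.mem_smul_pointwise_iff_exists] at hy
    obtain ⟨m, -, hm⟩ := hy
    have hmN : m ∈ N := fun a ha => ht ((smul_comm t a m).trans (by
      show a • t • m = t • (0 : M)
      rw [hm, smul_zero]
      exact y.2 a ha))
    rw [Submodule.Quotient.mk_eq_zero, Submodule.mem_smul_pointwise_iff_exists]
    exact ⟨⟨m, hmN⟩, trivial, Subtype.ext hm⟩
  have hsupp : ∀ r : PrimeSpectrum A, r ∈ Module.support A (QuotSMulTop t N) ↔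
      p ⊔ Ideal.span {t} ≤ r.asIdeal := fun r => by
    rw [Module.support_quotSMulTop, Set.mem_inter_iff, Module.mem_support_iff_of_finite, hann, sup_le_iff,
      Ideal.span_singleton_le_iff_mem]
    simp [PrimeSpectrum.mem_zeroLocus]
  haveI := hq.isPrime
  refine associatedPrimes.subset_of_injective hg ?_
  refine Module.associatedPrimes.minimalPrimes_annihilator_subset_associatedPrimes A (QuotSMulTop t N) ?_
  refine ⟨⟨inferInstance, Module.mem_support_iff_of_finite.1 ((hsupp ⟨q, inferInstance⟩).2 hq.1.2)⟩,
    fun r hr hrq => hq.2 ⟨hr.1, (hsupp ⟨r, hr.1⟩).1 (Module.mem_support_iff_of_finite.2 hr.2)⟩ hrq⟩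

end Groth.Agent.S5754
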