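import Mathlib
import Groth.Agent.CMSeqLib.Basic
import Groth.Statements.S5759

set_option autoImplicit false
universe u
open EGA41

namespace Groth.Agent.S5759

/-- Let A be a Noetherian local ring and M a nonzero finitely generated A-module. Suppose that for every
sequence x_1, ..., x_r of elements of the maximal ideal which is part of a system of parameters for
M (i.e. dim(M/(x_1 M + ... + x_r M)) = dim(M) - r), every associated prime p of N = M/(x_1 M + ... +
x_r M) satisfies dim(A/p) = dim(N). Then M is a Cohen-Macaulay module. (The published convention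
also counts the zero module as Cohen-Macaulay; this row assumes M nonzero.) -/
theorem result (A : Type u) [CommRing A]
    [IsLocalRing A] [IsNoetherianRing A] (M : Type u) [AddCommGroup M] [Module A M] [Module.Finite A M]
    [Nontrivial M]
    (h : ∀ xs : List A, (∀ x ∈ xs, x ∈ IsLocalRing.maximalIdeal A) →
      Module.supportDim A (M ⧸ (Ideal.ofList xs • (⊤ : Submodule A M))) + xs.length = Module.supportDim A M →
        ∀ p ∈ associatedPrimes A (M ⧸ (Ideal.ofList xs • (⊤ : Submodule A M))),
          ringKrullDim (A ⧸ p) = Module.supportDim A (M ⧸ (Ideal.ofList xs • (⊤ : Submodule A M)))) :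
    LocCoh.IsCohenMacaulayModule A M := by
  obtain ⟨d, hd⟩ := Groth.Agent.CMSeqLib.exists_supportDim_eq (A := A) M
  induction d generalizing M with
  | zero =>
    obtain ⟨e, he⟩ := FlatDepth.exists_depth_eq (R := A) (M := M)
    have h1 := QGorLib.depth_le_supportDim (R := A) M
    rw [hd, he] at h1
    norm_cast at h1
    unfold LocCoh.IsCohenMacaulayModule
    rw [hd, he]
    norm_cast
    omega
  | succ d ih =>
    have e₀ : (M ⧸ (Ideal.ofList ([] : List A) • ⊤ : Submodule A M)) ≃ₗ[A] M :=
      (Submodule.quotEquivOfEq _ _ (by simp [Ideal.ofList_nil])).trans (Submodule.quotEquivOfEqBot _ rfl)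
    have hass : ∀ p ∈ associatedPrimes A M, ringKrullDim (A ⧸ p) = Module.supportDim A M := fun p hp => by
      rw [← Module.supportDim_eq_of_equiv e₀]
      refine h [] (by simp) (by simp [Module.supportDim_eq_of_equiv e₀]) p ?_
      rw [LinearEquiv.AssociatedPrimes.eq e₀]
      exact hp
    have hm : ¬ ((IsLocalRing.maximalIdeal A : Set A) ⊆ ⋃ p ∈ associatedPrimes A M, (p : Set A)) := by
      intro hsub
      have hfin := associatedPrimes.finite A M
      rw [← hfin.coe_toFinset] at hsub
      obtain ⟨p, hp, hle⟩ := (Ideal.subset_union_prime (f := fun p : Ideal A => p) ⊥ ⊥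
        fun p hp _ _ => (hfin.mem_toFinset.1 hp).isPrime).1 hsub
      have hp' := hfin.mem_toFinset.1 hp
      haveI := hp'.isPrime
      have hpeq : IsLocalRing.maximalIdeal A = p := le_antisymm hle (IsLocalRing.le_maximalIdeal hp'.isPrime.ne_top)
      have := hass p hp'
      rw [hd, ← hpeq] at this
      rw [ringKrullDim_eq_zero_of_isField
        ((Ideal.Quotient.maximal_ideal_iff_isField_quotient _).1 (IsLocalRing.maximalIdeal.isMaximal A))] at this
      norm_cast at this
    obtain ⟨x, hx, hxn⟩ := Set.not_subset.1 hm
    have hreg : IsSMulRegular M x := by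
      by_contra hc
      exact hxn (biUnion_associatedPrimes_eq_compl_regular A M ▸ hc)
    haveI := FlatDepth.nontrivial_quotSMulTop (M := M) hx
    have hk := Module.supportDim_quotSMulTop_succ_eq_supportDim hreg hx
    obtain ⟨a, ha⟩ := Groth.Agent.CMSeqLib.exists_supportDim_eq (A := A) (QuotSMulTop x M)
    have had : a = d := by
      rw [hd, ha] at hk
      norm_cast at hk
      omega
    have hcm : LocCoh.IsCohenMacaulayModule A (QuotSMulTop x M) := by
      refine ih (QuotSMulTop x M) (fun xs hxs hlen p hp => ?_) (had ▸ ha)
      have e := Submodule.quotOfListConsSMulTopEquivQuotSMulTopInner M x xs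
      rw [← Module.supportDim_eq_of_equiv e]
      refine h (x :: xs) (fun y hy => (List.mem_cons.1 hy).elim (fun hy => hy ▸ hx) (hxs y)) ?_ p ?_
      · rw [Module.supportDim_eq_of_equiv e, List.length_cons, Nat.cast_add, Nat.cast_one, ← add_assoc, hlen, hk]
      · rw [LinearEquiv.AssociatedPrimes.eq e]
        exact hp
    unfold LocCoh.IsCohenMacaulayModule at hcm ⊢
    rw [← hk, hcm, ← FlatDepth.depth_quotSMulTop (M := M) hx hreg]
    norm_cast

end Groth.Agent.S5759
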