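import Groth.Statements.S5760
import Groth.Agent.CMSeqLib.Localize
import Groth.Agent.S5758
import Mathlib
-- import your own Groth.Agent.* helpers here

set_option autoImplicit false
universe u
open EGA41

namespace Groth.Agent.S5760

/-- Let A be a Noetherian local ring, M a nonzero finitely generated Cohen-Macaulay A-module, p a prime
ideal in the support of M and r the integer dim(M) - dim(M/pM). Then there exists an M-regular
sequence x_1, ..., x_r of elements of p; for every such sequence, dim(M/(x_1 M + ... + x_r M)) =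
dim(M/pM) = dim(A/p), and p is a minimal element of the set of associated primes of M/(x_1 M + ... +
x_r M). -/
theorem result (A : Type u) [CommRing A]
    [IsLocalRing A] [IsNoetherianRing A] (M : Type u) [AddCommGroup M] [Module A M] [Module.Finite A M]
    (hM : LocCoh.IsCohenMacaulayModule A M) (p : PrimeSpectrum A) (hp : p ∈ Module.support A M) (r : ℕ)
    (hr : Module.supportDim A (M ⧸ (p.asIdeal • (⊤ : Submodule A M))) + r = Module.supportDim A M) :
    (∃ xs : List A, xs.length = r ∧ (∀ x ∈ xs, x ∈ p.asIdeal) ∧ RingTheory.Sequence.IsWeaklyRegular M xs) ∧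
      ∀ xs : List A, xs.length = r → (∀ x ∈ xs, x ∈ p.asIdeal) → RingTheory.Sequence.IsWeaklyRegular M xs →
        Module.supportDim A (M ⧸ (Ideal.ofList xs • (⊤ : Submodule A M))) =
            Module.supportDim A (M ⧸ (p.asIdeal • (⊤ : Submodule A M))) ∧
          Module.supportDim A (M ⧸ (p.asIdeal • (⊤ : Submodule A M))) = ringKrullDim (A ⧸ p.asIdeal) ∧
          p.asIdeal ∈ associatedPrimes A (M ⧸ (Ideal.ofList xs • (⊤ : Submodule A M))) ∧
          ∀ q ∈ associatedPrimes A (M ⧸ (Ideal.ofList xs • (⊤ : Submodule A M))), q ≤ p.asIdeal → q = p.asIdeal := by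
  classical
  obtain ⟨P, hP⟩ := p
  have hPm : P ≤ IsLocalRing.maximalIdeal A := IsLocalRing.le_maximalIdeal hP.ne_top
  have hsuppP : ∀ (N : Type u) [AddCommGroup N] [Module A N] [Module.Finite A N],
      (⟨P, hP⟩ : PrimeSpectrum A) ∈ Module.support A N →
      Module.supportDim A (N ⧸ (P • (⊤ : Submodule A N))) = ringKrullDim (A ⧸ P) := by
    intro N _ _ _ hN
    rw [← Module.supportDim_quotient_eq_ringKrullDim, Module.supportDim, Module.supportDim]
    have hsupp : Module.support A (N ⧸ (P • (⊤ : Submodule A N))) = Module.support A (A ⧸ P) := by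
      rw [Module.support_quotient, Module.support_eq_zeroLocus (M := A ⧸ P), Ideal.annihilator_quotient,
        Set.inter_eq_right]
      exact fun q hq => Module.mem_support_mono (p := ⟨P, hP⟩) hq hN
    rw [hsupp]
  obtain ⟨e, he⟩ : ∃ e : ℕ, ringKrullDim (A ⧸ P) = e := by
    haveI : Nontrivial (A ⧸ P) := Ideal.Quotient.nontrivial_iff.2 hP.ne_top
    obtain ⟨e, he⟩ := Groth.Agent.CMSeqLib.exists_supportDim_eq (A := A) (A ⧸ P)
    exact ⟨e, by rw [← Module.supportDim_quotient_eq_ringKrullDim]; exact he⟩
  dsimp only at hr ⊢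
  rw [hsuppP M hp, he] at hr
  have hne : ∀ (N : Type u) [AddCommGroup N] [Module A N] [Module.Finite A N],
      LocCoh.IsCohenMacaulayModule A N → ∀ q ∈ associatedPrimes A N, q ≤ P →
        ∀ d : ℕ, Module.supportDim A N = d → d ≤ e → q = P := by
    intro N _ _ _ hN q hq hqP d hd hde
    by_contra hne
    haveI : q.IsPrime := hq.isPrime
    obtain ⟨x, hxP, hxq⟩ := SetLike.exists_of_lt (lt_of_le_of_ne hqP hne)
    have hnz : Ideal.Quotient.mk q x ∈ nonZeroDivisors (A ⧸ q) :=
      mem_nonZeroDivisors_of_ne_zero fun h => hxq (Ideal.Quotient.eq_zero_iff_mem.mp h)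
    have h1 := ringKrullDim_quotient_succ_le_of_nonZeroDivisor hnz
    have hle : q ⊔ Ideal.span {x} ≤ P := sup_le hqP ((Ideal.span_singleton_le_iff_mem _).mpr hxP)
    let f : (A ⧸ q) ⧸ Ideal.span {Ideal.Quotient.mk q x} →+* A ⧸ P :=
      Ideal.Quotient.lift _ (Ideal.Quotient.factor hqP) (by
        intro z hz
        obtain ⟨c, rfl⟩ := Ideal.mem_span_singleton.mp hz
        rw [map_mul, Ideal.Quotient.factor_mk, Ideal.Quotient.eq_zero_iff_mem.mpr hxP, zero_mul])
    have h2 : ringKrullDim (A ⧸ P) ≤ ringKrullDim ((A ⧸ q) ⧸ Ideal.span {Ideal.Quotient.mk q x}) :=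
      ringKrullDim_le_of_surjective f (Ideal.Quotient.lift_surjective_of_surjective _ _ (Ideal.Quotient.factor_surjective hqP))
    have h3 := (add_le_add_left h2 1).trans h1
    rw [he, Groth.Agent.CMSeqLib.ringKrullDim_quotient_eq hN hq, hd] at h3
    norm_cast at h3
    omega
  constructor
  · have main : ∀ (r : ℕ) (N : Type u) [AddCommGroup N] [Module A N] [Module.Finite A N],
        LocCoh.IsCohenMacaulayModule A N → (⟨P, hP⟩ : PrimeSpectrum A) ∈ Module.support A N →
        Module.supportDim A N = ((e + r : ℕ) : WithBot ℕ∞) →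
        ∃ xs : List A, xs.length = r ∧ (∀ x ∈ xs, x ∈ P) ∧ RingTheory.Sequence.IsWeaklyRegular N xs := by
      intro r
      induction r with
      | zero => intro N _ _ _ _ _ _; exact ⟨[], rfl, by simp, RingTheory.Sequence.IsWeaklyRegular.nil A N⟩
      | succ r ih =>
        intro N _ _ _ hN hNP hd
        have hx : ∃ x ∈ P, IsSMulRegular N x := by
          by_contra hno
          push Not at hno
          have hsub : (P : Set A) ⊆ ⋃ q ∈ associatedPrimes A N, (q : Set A) := by
            rw [biUnion_associatedPrimes_eq_compl_regular]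
            exact fun x hx => hno x hx
          have hfin := associatedPrimes.finite A N
          have hsub' : (P : Set A) ⊆ ⋃ q ∈ (hfin.toFinset : Set (Ideal A)), (q : Set A) := by
            rwa [hfin.coe_toFinset]
          obtain ⟨q, hq, hPq⟩ := (Ideal.subset_union_prime (f := fun i : Ideal A => i) ⊥ ⊥
            (fun i hi _ _ => (hfin.mem_toFinset.mp hi).isPrime)).mp hsub'
          have hq' := hfin.mem_toFinset.mp hq
          have h1 := ringKrullDim_le_of_surjective (Ideal.Quotient.factor hPq) (Ideal.Quotient.factor_surjective hPq)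
          rw [he, Groth.Agent.CMSeqLib.ringKrullDim_quotient_eq hN hq', hd] at h1
          norm_cast at h1
          omega
        obtain ⟨x, hxP, hreg⟩ := hx
        have hN' := Groth.Agent.CMSeqLib.isCohenMacaulayModule_quotSMulTop hN (hPm hxP) hreg
        have hP' : (⟨P, hP⟩ : PrimeSpectrum A) ∈ Module.support A (QuotSMulTop x N) := by
          rw [Module.support_quotSMulTop]
          exact ⟨hNP, by simpa using hxP⟩
        have hd' := Module.supportDim_quotSMulTop_succ_eq_supportDim hreg (hPm hxP)
        haveI := Groth.Agent.CMSeqLib.nontrivial_of_cm hN'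
        obtain ⟨a, ha⟩ := Groth.Agent.CMSeqLib.exists_supportDim_eq (A := A) (QuotSMulTop x N)
        rw [ha, hd] at hd'
        norm_cast at hd'
        obtain ⟨xs, h1, h2, h3⟩ := ih (QuotSMulTop x N) hN' hP' (by rw [ha]; norm_cast; omega)
        exact ⟨x :: xs, by simp [h1], List.forall_mem_cons.mpr ⟨hxP, h2⟩, RingTheory.Sequence.IsWeaklyRegular.cons hreg h3⟩
    exact main r M hM hp (by rw [← hr]; push_cast; rfl)
  · intro xs hlen hxs hreg
    obtain ⟨h1, h2⟩ := Groth.Agent.S5758.result A M hM xs (fun x hx => hPm (hxs x hx))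
    have hCM := h2 hreg
    have h3 := h1.1 hreg
    haveI := Groth.Agent.CMSeqLib.nontrivial_of_cm hCM
    obtain ⟨a, ha⟩ := Groth.Agent.CMSeqLib.exists_supportDim_eq (A := A) (M ⧸ (Ideal.ofList xs • (⊤ : Submodule A M)))
    rw [ha, hlen, ← hr] at h3
    norm_cast at h3
    have hae : a = e := by omega
    refine ⟨by rw [ha, hsuppP M hp, he, hae], hsuppP M hp, ?_, fun q hq hqP => hne _ hCM q hq hqP a ha hae.le⟩
    have hPN : (⟨P, hP⟩ : PrimeSpectrum A) ∈ Module.support A (M ⧸ (Ideal.ofList xs • (⊤ : Submodule A M))) := by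
      rw [Module.support_quotient]
      exact ⟨hp, fun z hz => (Ideal.span_le.mpr fun w hw => hxs w hw) hz⟩
    rw [Module.support_eq_zeroLocus, PrimeSpectrum.mem_zeroLocus, SetLike.coe_subset_coe] at hPN
    obtain ⟨q, hq, hqP⟩ := Ideal.exists_minimalPrimes_le hPN
    have hqa := Module.associatedPrimes.minimalPrimes_annihilator_subset_associatedPrimes A _ hq
    exact hne _ hCM q hqa hqP a ha hae.le ▸ hqa

end Groth.Agent.S5760
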