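import Groth.Statements.S5763
import Groth.Agent.GrSegreLib.Dim
-- import your own Groth.Agent.* helpers here

set_option autoImplicit false
universe u
open EGA41

namespace Groth.Agent.S5763

/-- Let ρ : A → B be a ring homomorphism making B an integral A-algebra. Then dim(B) ≤ dim(A), and if ρ
is injective then dim(B) = dim(A) (Krull dimensions). -/
theorem result (A B : Type u) [CommRing A] [CommRing B] [Algebra A B]
    [Algebra.IsIntegral A B] :
    ringKrullDim B ≤ ringKrullDim A ∧
      (Function.Injective (algebraMap A B) → ringKrullDim B = ringKrullDim A) := by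
  have hinjcase : ∀ (A' : Type u) [CommRing A'] (g : A' →+* B), Function.Injective g → g.IsIntegral →
      ringKrullDim A' = ringKrullDim B := fun A' _ g hg hi =>
    Groth.Agent.GrSegreLib.ringKrullDim_eq_of_integral_injective g hg hi
  refine ⟨?_, fun hinj => (hinjcase A (algebraMap A B) hinj fun b => Algebra.IsIntegral.isIntegral b).symm⟩
  let g := RingHom.kerLift (algebraMap A B)
  rw [← hinjcase _ g (RingHom.kerLift_injective _) (fun b => by
    obtain ⟨p, hp, hpb⟩ := Algebra.IsIntegral.isIntegral (R := A) b
    refine ⟨p.map (Ideal.Quotient.mk _), hp.map _, ?_⟩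
    rw [Polynomial.eval₂_map]
    exact hpb)]
  exact ringKrullDim_quotient_le _

end Groth.Agent.S5763
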