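import Mathlib
import Mathlib
import Groth.Statements.S5764

set_option autoImplicit false
universe u
open EGA41

namespace Groth.Agent.S5764

/-- Let B be an integral domain, A a local subring of B which is integrally closed (in its field of
fractions), and suppose B is integral over A. Then dim(B_n) = dim(A) for every maximal ideal n of B. -/
theorem result (A B : Type u) [CommRing A]
    [CommRing B] [IsDomain B] [Algebra A B] (hinj : Function.Injective (algebraMap A B)) [IsDomain A]
    [IsLocalRing A] [IsIntegrallyClosed A] [Algebra.IsIntegral A B] (n : Ideal B) [n.IsMaximal] :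
    ringKrullDim (Localization.AtPrime n) = ringKrullDim A := by
  haveI : FaithfulSMul A B := (faithfulSMul_iff_algebraMap_injective A B).2 hinj
  set m := IsLocalRing.maximalIdeal A
  have hcomap : n.comap (algebraMap A B) = m :=
    IsLocalRing.eq_maximalIdeal (Ideal.isMaximal_comap_of_isIntegral_of_isMaximal n)
  rw [IsLocalization.AtPrime.ringKrullDim_eq_height n (Localization.AtPrime n),
    ← IsLocalRing.maximalIdeal_height_eq_ringKrullDim (R := A)]
  congr 1
  refine (PrimeSpectrum.height_eq_orderHeight ⟨n, inferInstance⟩).trans (Eq.trans ?_ (PrimeSpectrum.height_eq_orderHeight ⟨m, inferInstance⟩).symm)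
  refine le_antisymm ?_ ?_
  · have hmono : StrictMono (PrimeSpectrum.comap (algebraMap A B)) := fun P Q hPQ =>
      Ideal.comap_lt_comap_of_integral_mem_sdiff (R := A) hPQ.le
        ⟨(Set.exists_of_ssubset hPQ).choose_spec.1, (Set.exists_of_ssubset hPQ).choose_spec.2⟩
        (Algebra.IsIntegral.isIntegral _)
    refine (Order.height_le_height_apply_of_strictMono _ hmono _).trans (le_of_eq ?_)
    congr 1
    exact PrimeSpectrum.ext hcomap
  · refine Order.height_le fun l hl => ?_
    haveI : n.LiesOver l.last.asIdeal := ⟨by rw [hl]; exact hcomap.symm⟩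
    obtain ⟨L, hlen, hlast, -⟩ := Ideal.exists_ltSeries_of_hasGoingDown l n
    rw [← hlen]
    exact Order.length_le_height (le_of_eq hlast)

end Groth.Agent.S5764
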