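import Mathlib
import Groth.Agent.CMSeqLib.Basic
import Groth.Statements.S5767

set_option autoImplicit false
universe u
open EGA41

namespace Groth.Agent.S5767

/-- Let A be a semi-local Noetherian ring, M a finitely generated A-module and x an element of the
Jacobson radical of A. One always has dim(M/xM) ≥ dim(M) - 1; equality dim(M/xM) = dim(M) - 1 holds
if and only if x belongs to none of the prime ideals p of Supp(M) with dim(A/p) = dim(M). Stated as:
dim(M/xM) + 1 = dim(M) iff x avoids those primes. -/
theorem result (A : Type u) [CommRing A] [IsNoetherianRing A]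
    [Finite (MaximalSpectrum A)] (M : Type u) [AddCommGroup M] [Module A M] [Module.Finite A M] (x : A)
    (hx : x ∈ Ring.jacobson A) :
    Module.supportDim A (QuotSMulTop x M) + 1 = Module.supportDim A M ↔
      ∀ p : PrimeSpectrum A, p ∈ Module.support A M →
        ringKrullDim (A ⧸ p.asIdeal) = Module.supportDim A M → x ∉ p.asIdeal := by
  rcases subsingleton_or_nontrivial M with hM | hM
  · haveI : Subsingleton (QuotSMulTop x M) := (Submodule.mkQ_surjective _).subsingleton
    rw [Module.supportDim_eq_bot_of_subsingleton, Module.supportDim_eq_bot_of_subsingleton, WithBot.bot_add]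
    exact iff_of_true rfl fun p hp => absurd hp (by simp [Module.support_eq_empty])
  obtain ⟨d, hd⟩ := Groth.Agent.CMSeqLib.exists_supportDim_eq_of_semilocal (A := A) M
  have hjac : x ∈ (Module.annihilator A M).jacobson :=
    Ideal.jacobson_mono bot_le ((Ideal.jacobson_bot (R := A)).ge hx)
  have hlow := Module.supportDim_le_supportDim_quotSMulTop_succ_of_mem_jacobson (M := M) hjac
  have hqlow : ∀ p : PrimeSpectrum A, p ∈ Module.support A M → x ∈ p.asIdeal →
      ringKrullDim (A ⧸ p.asIdeal) ≤ Module.supportDim A (QuotSMulTop x M) := fun p hp hxp => by
    rw [← Module.supportDim_quotient_eq_ringKrullDim, Module.supportDim, Module.supportDim]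
    refine Order.krullDim_le_of_strictMono (fun q => ⟨q.1, ?_⟩) fun a b hab => hab
    have hq := Module.mem_support_iff_of_finite.1 q.2
    rw [Ideal.annihilator_quotient] at hq
    rw [Module.support_quotSMulTop]
    exact ⟨Module.mem_support_mono (show p ≤ q.1 from hq) hp,
      by simpa [PrimeSpectrum.mem_zeroLocus] using hq hxp⟩
  constructor
  · intro h p hp hpd hxp
    have hle := hqlow p hp hxp
    rw [hpd, ← h] at hle
    rw [hd] at h
    cases hq : Module.supportDim A (QuotSMulTop x M) using WithBot.recBotCoe with
    | bot =>
      rw [hq, WithBot.bot_add] at h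
      exact WithBot.bot_ne_coe h
    | coe a =>
      rw [hq] at h hle
      induction a using ENat.recTopCoe with
      | top => exact (ENat.coe_ne_top d) (WithBot.coe_inj.1 h.symm)
      | coe b =>
        norm_cast at hle
        omega
  · intro h
    refine le_antisymm ?_ hlow
    rw [hd]
    cases d with
    | zero =>
      haveI : Subsingleton (QuotSMulTop x M) := by
        by_contra hns
        haveI := not_subsingleton_iff_nontrivial.1 hns
        obtain ⟨p, hp⟩ := Module.nonempty_support_of_nontrivial (R := A) (M := QuotSMulTop x M)
        rw [Module.support_quotSMulTop] at hp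
        refine h p hp.1 (le_antisymm ?_ ?_) (by simpa [PrimeSpectrum.mem_zeroLocus] using hp.2)
        · rw [← Module.supportDim_quotient_eq_ringKrullDim]
          refine Order.krullDim_le_of_strictMono (fun q => ⟨q.1, ?_⟩) fun a b hab => hab
          have hq := Module.mem_support_iff_of_finite.1 q.2
          rw [Ideal.annihilator_quotient] at hq
          exact Module.mem_support_mono (show p ≤ q.1 from hq) hp.1
        · rw [hd, Nat.cast_zero]
          haveI : Nontrivial (A ⧸ p.asIdeal) := Ideal.Quotient.nontrivial_iff.2 p.isPrime.ne_top
          exact ringKrullDim_nonneg_of_nontrivial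
      rw [Module.supportDim_eq_bot_of_subsingleton, WithBot.bot_add]
      exact bot_le
    | succ d =>
      rw [Nat.cast_add, Nat.cast_one]
      refine add_le_add_left (HSLib.supportDim_le_iff.2 fun l hl => ?_) 1
      rw [Module.support_quotSMulTop] at hl
      obtain ⟨r, hr, hrle⟩ := Ideal.exists_minimalPrimes_le (Module.mem_support_iff_of_finite.1 hl.1)
      let r' : PrimeSpectrum A := ⟨r, hr.isPrime⟩
      have hr' : r' ∈ Module.support A M := Module.mem_support_iff_of_finite.2 hr.1.2
      have hmax := HSLib.supportDim_le_iff.1 hd.le
      have hxl : x ∈ l.head.asIdeal := by simpa [PrimeSpectrum.mem_zeroLocus] using hl.2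
      rcases eq_or_lt_of_le (show r' ≤ l.head from hrle) with heq | hlt
      · by_contra hne
        have hlen : l.length = d + 1 := le_antisymm (hmax l hl.1) (not_le.1 hne)
        refine h l.head hl.1 (le_antisymm ?_ ?_) hxl
        · rw [← Module.supportDim_quotient_eq_ringKrullDim]
          refine Order.krullDim_le_of_strictMono (fun q => ⟨q.1, ?_⟩) fun a b hab => hab
          have hq := Module.mem_support_iff_of_finite.1 q.2
          rw [Ideal.annihilator_quotient] at hq
          exact Module.mem_support_mono (show l.head ≤ q.1 from hq) hl.1
        · rw [hd, ← hlen, ← Module.supportDim_quotient_eq_ringKrullDim]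
          refine HSLib.le_supportDim_of_chain l ?_
          rw [Module.support_eq_zeroLocus, Ideal.annihilator_quotient]
          exact le_refl l.head.asIdeal
      · have := hmax (l.cons r' hlt) (by simpa using hr')
        simp at this
        omega

end Groth.Agent.S5767
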