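import Groth.Statements.S5768
import Groth.Agent.HSLib.Dim

set_option autoImplicit false
universe u
open EGA41

namespace Groth.Agent.S5768

open Groth.Agent

/-- Let A be a semi-local Noetherian ring with Jacobson radical r, M a nonzero finitely generated
A-module and x_1, ..., x_k elements of r. One always has dim(M/(x_1 M + ... + x_k M)) ≥ dim(M) - k,
and equality holds if and only if there exist further elements of r which together with the x_i form
a system of parameters for M (dim(M) elements of r modulo which M has finite length). -/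
theorem result (A : Type u) [CommRing A]
    [IsNoetherianRing A] [Finite (MaximalSpectrum A)] (M : Type u) [AddCommGroup M] [Module A M]
    [Module.Finite A M] [Nontrivial M] (xs : List A) (hxs : ∀ x ∈ xs, x ∈ Ring.jacobson A) :
    Module.supportDim A (M ⧸ (Ideal.ofList xs • (⊤ : Submodule A M))) + xs.length = Module.supportDim A M ↔
      ∃ ys : List A, (∀ y ∈ ys, y ∈ Ring.jacobson A) ∧
        ((xs ++ ys).length : WithBot ℕ∞) = Module.supportDim A M ∧
        IsFiniteLength A (M ⧸ (Ideal.ofList (xs ++ ys) • (⊤ : Submodule A M))) := by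
  classical
  have fin : ∀ (P : Type u) [AddCommGroup P] [Module A P] [Module.Finite A P] [Nontrivial P],
      ∃ d : ℕ, Module.supportDim A P = (d : WithBot ℕ∞) := by
    intro P _ _ _ _
    obtain ⟨s, x, hx⟩ := Submodule.fg_iff_exists_fin_generating_family.1 (IsNoetherian.noetherian (Ring.jacobson A))
    change Ideal.span (Set.range x) = Ring.jacobson A at hx
    have h2 := HSLib.supportDim_le_of_params s P x (fun i => hx ▸ Ideal.subset_span ⟨i, rfl⟩)
      fun p _ h => HSLib.isMaximal_of_jacobson_le p.asIdeal (hx ▸ h)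
    have h1 := Module.supportDim_ne_bot_of_nontrivial A P
    revert h1 h2
    generalize Module.supportDim A P = t
    intro h2 h1
    cases t using WithBot.recBotCoe with
    | bot => exact absurd rfl h1
    | coe a =>
      cases a using ENat.recTopCoe with
      | top => exact absurd (WithBot.coe_le_coe.1 h2) (by simp)
      | coe b => exact ⟨b, rfl⟩
  haveI : Nontrivial (M ⧸ (Ideal.ofList xs • (⊤ : Submodule A M))) := Submodule.Quotient.nontrivial_iff.2 fun htop => by
    refine Submodule.top_ne_ideal_smul_of_le_jacobson_annihilator (M := M) (I := Ideal.ofList xs) ?_ htop.symm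
    refine le_trans ?_ ((Ideal.jacobson_bot (R := A)).symm.le.trans (Ideal.jacobson_mono bot_le))
    exact Ideal.span_le.2 fun a ha => hxs a ha
  obtain ⟨d, hd⟩ := fin M
  obtain ⟨e, he⟩ := fin (M ⧸ (Ideal.ofList xs • (⊤ : Submodule A M)))
  rw [hd, he, ← Nat.cast_add]
  simp only [List.length_append, Nat.cast_inj]
  have hsupp : ∀ p, p ∈ Module.support A (M ⧸ (Ideal.ofList xs • (⊤ : Submodule A M))) ↔
      p ∈ Module.support A M ∧ Ideal.ofList xs ≤ p.asIdeal := fun p => by rw [Module.support_quotient]; rfl
  constructor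
  · intro heq
    obtain ⟨y, hy, hy'⟩ := HSLib.exists_params e _ he.le
    refine ⟨List.ofFn y, fun a ha => ?_, by rw [List.length_ofFn]; omega, Module.length_ne_top_iff.1 (HSLib.length_ne_top_of_support fun p hp => ?_)⟩
    · obtain ⟨i, rfl⟩ := List.mem_ofFn.1 ha
      exact hy i
    · rw [Module.support_quotient] at hp
      obtain ⟨h1, h2⟩ := hp
      refine hy' p ((hsupp p).2 ⟨h1, Ideal.span_le.2 fun a ha => h2 (Ideal.subset_span (List.mem_append_left _ ha))⟩)
        (Ideal.span_le.2 ?_)
      rintro _ ⟨i, rfl⟩
      exact h2 (Ideal.subset_span (List.mem_append_right _ (List.mem_ofFn.2 ⟨i, rfl⟩)))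
  · rintro ⟨ys, hys, hlen, hfl⟩
    rw [← Module.length_ne_top_iff] at hfl
    have h1 : e ≤ ys.length := Nat.cast_le.1 (he ▸ HSLib.supportDim_le_of_params ys.length _ (fun i => ys[i])
      (fun i => hys _ (List.getElem_mem _)) fun p hp h => by
        rw [hsupp] at hp
        refine HSLib.isMaximal_of_mem_support_of_le hfl hp.1 (Ideal.span_le.2 fun a ha => ?_)
        rcases List.mem_append.1 ha with ha | ha
        · exact hp.2 (Ideal.subset_span ha)
        · obtain ⟨i, hi, rfl⟩ := List.mem_iff_getElem.1 ha
          exact h (Ideal.subset_span ⟨⟨i, hi⟩, rfl⟩) : (e : WithBot ℕ∞) ≤ ys.length)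
    obtain ⟨y, hy, hy'⟩ := HSLib.exists_params e _ he.le
    have h2 : d ≤ xs.length + e := Nat.cast_le.1 (hd ▸ HSLib.supportDim_le_of_params (xs.length + e) M
      (Fin.append (fun i => xs[i]) y) (fun i => Fin.addCases (fun i => by
        rw [Fin.append_left]; exact hxs _ (List.getElem_mem _)) (fun i => by rw [Fin.append_right]; exact hy i) i)
      fun p hp h => by
        refine hy' p ((hsupp p).2 ⟨hp, Ideal.span_le.2 fun a ha => ?_⟩) (Ideal.span_le.2 ?_)
        · obtain ⟨i, hi, rfl⟩ := List.mem_iff_getElem.1 ha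
          exact h (Ideal.subset_span ⟨Fin.castAdd e ⟨i, hi⟩, Fin.append_left _ _ _⟩)
        · rintro _ ⟨i, rfl⟩
          exact h (Ideal.subset_span ⟨Fin.natAdd _ i, Fin.append_right _ _ i⟩) : (d : WithBot ℕ∞) ≤ (xs.length + e : ℕ))
    omega

end Groth.Agent.S5768
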