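import Mathlib
import Groth.Agent.S5769
import Groth.Statements.S5771

set_option autoImplicit false
universe u
open EGA41

namespace Groth.Agent.S5771

/-- Let φ : A → B be a local homomorphism of Noetherian local rings, m the maximal ideal of A, and
suppose mB is an ideal of definition of B (equivalently dim(B/mB) = 0). Then dim(B) ≤ dim(A); if
moreover A is an integral domain and dim(A) = dim(B), then φ is injective. -/
theorem result (A B : Type u) [CommRing A] [CommRing B]
    [IsLocalRing A] [IsLocalRing B] [IsNoetherianRing A] [IsNoetherianRing B] [Algebra A B]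
    [IsLocalHom (algebraMap A B)]
    (hdef : ringKrullDim (B ⧸ (IsLocalRing.maximalIdeal A).map (algebraMap A B)) = 0) :
    ringKrullDim B ≤ ringKrullDim A ∧
      (IsDomain A → ringKrullDim A = ringKrullDim B → Function.Injective (algebraMap A B)) := by
  have h1 := Groth.Agent.S5769.result A B
  rw [hdef, add_zero] at h1
  refine ⟨h1, fun _ heq => ?_⟩
  by_contra hni
  obtain ⟨a, ha, ha0⟩ : ∃ a, algebraMap A B a = 0 ∧ a ≠ 0 := by
    by_contra hc
    push Not at hc
    exact hni ((injective_iff_map_eq_zero _).2 fun a ha => hc a ha)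
  let K := Ideal.span {a}
  have hK : ∀ x ∈ K, algebraMap A B x = 0 := fun x hx => by
    obtain ⟨c, rfl⟩ := Ideal.mem_span_singleton'.1 hx
    rw [map_mul, ha, mul_zero]
  have ham : a ∈ IsLocalRing.maximalIdeal A := fun hu => by
    simpa [ha] using hu.map (algebraMap A B)
  haveI : Nontrivial (A ⧸ K) := Ideal.Quotient.nontrivial_iff.2 fun h => by
    have : K ≤ IsLocalRing.maximalIdeal A := (Ideal.span_singleton_le_iff_mem _).2 ham
    rw [h] at this
    exact (IsLocalRing.maximalIdeal.isMaximal A).ne_top (top_le_iff.1 this)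
  haveI : IsLocalRing (A ⧸ K) :=
    IsLocalRing.of_surjective' (Ideal.Quotient.mk K) Ideal.Quotient.mk_surjective
  letI : Algebra (A ⧸ K) B := (Ideal.Quotient.lift K (algebraMap A B) hK).toAlgebra
  haveI : IsLocalHom (algebraMap (A ⧸ K) B) := ⟨fun x hx => by
    obtain ⟨y, rfl⟩ := Ideal.Quotient.mk_surjective x
    exact (IsUnit.of_map (algebraMap A B) y hx).map _⟩
  have h2 := Groth.Agent.S5769.result (A ⧸ K) B
  have hmap : (IsLocalRing.maximalIdeal (A ⧸ K)).map (algebraMap (A ⧸ K) B) =
      (IsLocalRing.maximalIdeal A).map (algebraMap A B) := by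
    rw [← IsLocalRing.map_maximalIdeal_of_surjective (Ideal.Quotient.mk K) Ideal.Quotient.mk_surjective,
      Ideal.map_map]
    rfl
  rw [hmap, hdef, add_zero] at h2
  have h3 := ringKrullDim_quotient_succ_le_of_nonZeroDivisor (R := A)
    (mem_nonZeroDivisors_of_ne_zero ha0)
  rw [heq] at h3
  have h4 : ringKrullDim B + 1 ≤ ringKrullDim B := (add_le_add_left h2 1).trans h3
  have hne : ringKrullDim B ≠ ⊥ := ringKrullDim_ne_bot
  have hfin : ringKrullDim B ≠ ⊤ := by
    haveI : FiniteRingKrullDim B := inferInstance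
    exact ringKrullDim_ne_top
  obtain ⟨n, hn⟩ : ∃ n : ℕ, ringKrullDim B = n := by
    obtain ⟨d, hd⟩ := WithBot.ne_bot_iff_exists.1 hne
    obtain ⟨n, rfl⟩ := WithTop.ne_top_iff_exists.1 (fun h : d = ⊤ => hfin (by rw [← hd, h]; rfl))
    exact ⟨n, hd.symm⟩
  rw [hn] at h4
  norm_cast at h4
  omega

end Groth.Agent.S5771
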