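import Mathlib
import Groth.Agent.AdicEasyLib.Basic
import Groth.Statements.S5772

set_option autoImplicit false
universe u
open scoped Pointwise
open EGA41

namespace Groth.Agent.S5772

/-- Let A be a Noetherian ring, M a finitely generated A-module and f an element of A. Then f is
M-regular (multiplication by f on M is injective) if and only if f is M-quasi-regular, i.e. the
canonical surjection (M/fM)[T] → gr(M) for the (f)-adic filtration is bijective, which amounts to:
for every k ≥ 0 and x ∈ M, f^k x ∈ f^(k+1) M implies x ∈ fM. -/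
theorem result (A : Type u) [CommRing A] [IsNoetherianRing A] (M : Type u)
    [AddCommGroup M] [Module A M] [Module.Finite A M] (f : A) :
    IsSMulRegular M f ↔
      ∀ (k : ℕ) (x : M), f ^ k • x ∈ f ^ (k + 1) • (⊤ : Submodule A M) → x ∈ f • (⊤ : Submodule A M) := by
  refine ⟨fun hf k x hx => ?_, fun h => (isSMulRegular_iff_right_eq_zero_of_smul).2 fun x hx => ?_⟩
  · obtain ⟨y, -, hy⟩ := hx
    refine ⟨y, trivial, hf.pow k ?_⟩
    show f ^ k • (f • y) = f ^ k • x
    rw [← mul_smul, ← pow_succ]
    exact hy
  · have key : ∀ j, x ∈ f ^ j • (⊤ : Submodule A M) := by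
      intro j
      induction j with
      | zero => exact ⟨x, trivial, by simp⟩
      | succ j ih =>
        obtain ⟨y, -, rfl⟩ := ih
        have h1 : f ^ (j + 1) • y ∈ f ^ (j + 1 + 1) • (⊤ : Submodule A M) := by
          have h0 : f ^ (j + 1) • y = 0 := by
            rw [pow_succ', mul_smul]; exact hx
          rw [h0]
          exact zero_mem _
        obtain ⟨z, -, rfl⟩ := h (j + 1) y h1
        exact ⟨z, trivial, by
          show f ^ (j + 1) • z = f ^ j • (f • z)
          rw [← mul_smul, pow_succ]⟩
    have h2 : x ∈ ⨅ j : ℕ, Ideal.span {f} ^ j • (⊤ : Submodule A M) := by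
      refine (Submodule.mem_iInf _).2 fun j => ?_
      rw [Ideal.span_singleton_pow, Submodule.ideal_span_singleton_smul]
      exact key j
    obtain ⟨⟨r, hr⟩, hrx⟩ := (Ideal.mem_iInf_smul_pow_eq_bot_iff _ x).1 h2
    obtain ⟨a, rfl⟩ := Ideal.mem_span_singleton'.1 hr
    rw [← hrx, mul_smul, hx, smul_zero]

end Groth.Agent.S5772
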