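import Mathlib
import Groth.Agent.FlatSeqLib.Basic
import Groth.Statements.S5773

set_option autoImplicit false
universe u
open EGA41

namespace Groth.Agent.S5773

/-- Let A → B be a local homomorphism of Noetherian local rings, M a finitely generated B-module and
f_1, ..., f_n elements of the maximal ideal of B forming an M-regular sequence. If the quotient
M/(f_1 M + ... + f_n M) is flat over A, then all the quotients M/(f_1 M + ... + f_i M) for 0 ≤ i ≤ n
(in particular M) are flat over A. -/
theorem result (A B : Type u) [CommRing A] [CommRing B]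
    [IsLocalRing A] [IsLocalRing B] [IsNoetherianRing A] [IsNoetherianRing B] [Algebra A B]
    [IsLocalHom (algebraMap A B)] (M : Type u) [AddCommGroup M] [Module B M] [Module A M]
    [IsScalarTower A B M] [Module.Finite B M] (fs : List B) (hfs : ∀ f ∈ fs, f ∈ IsLocalRing.maximalIdeal B)
    (hreg : RingTheory.Sequence.IsWeaklyRegular M fs)
    (hflat : Module.Flat A (M ⧸ (Ideal.ofList fs • (⊤ : Submodule B M)))) (i : ℕ) (hi : i ≤ fs.length) :
    Module.Flat A (M ⧸ (Ideal.ofList (fs.take i) • (⊤ : Submodule B M))) := by
  induction fs generalizing M i with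
  | nil =>
    rw [List.take_nil]
    exact hflat
  | cons f fs ih =>
    rw [RingTheory.Sequence.isWeaklyRegular_cons_iff] at hreg
    haveI := hflat
    have hlast : Module.Flat A (QuotSMulTop f M ⧸ (Ideal.ofList fs • (⊤ : Submodule B (QuotSMulTop f M)))) :=
      Module.Flat.of_linearEquiv
        ((Submodule.quotOfListConsSMulTopEquivQuotSMulTopInner M f fs).restrictScalars A).symm
    have ih' := ih (QuotSMulTop f M) (fun g hg => hfs g (List.mem_cons_of_mem _ hg)) hreg.2 hlast
    cases i with
    | zero =>
      haveI : Module.Flat A (QuotSMulTop f M) := by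
        haveI := ih' 0 (Nat.zero_le _)
        exact Module.Flat.of_linearEquiv (((Submodule.quotEquivOfEq _ _
          (show (Ideal.ofList (fs.take 0) • ⊤ : Submodule B (QuotSMulTop f M)) = ⊥ by
            simp [Ideal.ofList_nil])).trans (Submodule.quotEquivOfEqBot _ rfl)).restrictScalars A).symm
      haveI := Groth.Agent.FlatSeqLib.flat_of_flat_quotSMulTop (A := A) f (hfs f (List.mem_cons_self ..)) hreg.1
      have h0 : (Ideal.ofList ((f :: fs).take 0) • ⊤ : Submodule B M) = ⊥ := by
        simp [Ideal.ofList_nil]
      exact Module.Flat.of_linearEquiv (M := M)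
        (((Submodule.quotEquivOfEq _ _ h0).trans (Submodule.quotEquivOfEqBot _ rfl)).restrictScalars A)
    | succ i =>
      haveI := ih' i (Nat.le_of_succ_le_succ hi)
      exact Module.Flat.of_linearEquiv
        ((Submodule.quotOfListConsSMulTopEquivQuotSMulTopInner M f (fs.take i)).restrictScalars A)

end Groth.Agent.S5773
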