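import Mathlib
import Groth.Agent.FlatSeqLib.Basic
import Groth.Statements.S5777

set_option autoImplicit false
universe u
open EGA41

namespace Groth.Agent.S5777
open TensorProduct

/-- Let φ : A → B be a local homomorphism of Noetherian local rings, M a finitely generated B-module and
(f_i)_{1 ≤ i ≤ n} an A-regular sequence of elements of the maximal ideal of A, generating the ideal
J. Then M is flat over A if and only if M/JM is flat over A/J and (f_i) is an M-regular sequence. -/
theorem result (A B : Type u) [CommRing A] [CommRing B]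
    [IsLocalRing A] [IsLocalRing B] [IsNoetherianRing A] [IsNoetherianRing B] [Algebra A B]
    [IsLocalHom (algebraMap A B)] (M : Type u) [AddCommGroup M] [Module B M] [Module A M]
    [IsScalarTower A B M] [Module.Finite B M] (fs : List A) (hfs : ∀ f ∈ fs, f ∈ IsLocalRing.maximalIdeal A)
    (hA : RingTheory.Sequence.IsWeaklyRegular A fs) :
    Module.Flat A M ↔
      Module.Flat (A ⧸ Ideal.ofList fs) (M ⧸ (Ideal.ofList fs • (⊤ : Submodule A M))) ∧
        RingTheory.Sequence.IsWeaklyRegular M fs := by
  set I := Ideal.ofList fs with hI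
  let e₀ := TensorProduct.quotTensorEquivQuotSMul M I
  let e : (A ⧸ I) ⊗[A] M ≃ₗ[A ⧸ I] M ⧸ (I • ⊤ : Submodule A M) :=
    { e₀ with
      map_smul' := fun c x => by
        obtain ⟨a, rfl⟩ := Ideal.Quotient.mk_surjective c
        show e₀ (Ideal.Quotient.mk I a • x) = Ideal.Quotient.mk I a • e₀ x
        rw [← Ideal.Quotient.algebraMap_eq, algebraMap_smul, map_smul]
        rfl }
  constructor
  · intro hflat
    refine ⟨Module.Flat.of_linearEquiv e.symm, ?_⟩
    exact ((TensorProduct.lid A M).isWeaklyRegular_congr fs).1 (hA.isWeaklyRegular_rTensor (M₂ := M))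
  · rintro ⟨hq, hreg⟩
    have hI' : I ≠ ⊤ := fun h => by
      have : I ≤ IsLocalRing.maximalIdeal A := Ideal.span_le.2 hfs
      rw [h] at this
      exact (IsLocalRing.maximalIdeal.isMaximal A).ne_top (top_le_iff.1 this)
    haveI := hq
    exact LocFlat.flat_of_ideal (S := B) I hI'
      (Groth.Agent.FlatSeqLib.rTensor_injective_of_isWeaklyRegular fs hreg)
      (Module.Flat.of_linearEquiv e)

end Groth.Agent.S5777
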