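import Mathlib
import Mathlib
import Groth.Agent.RegLocal.Basic
import Groth.Statements.S5779

set_option autoImplicit false
universe u
open EGA41

namespace Groth.Agent.S5779

/-- Let A be a Noetherian local ring with maximal ideal m and residue field k, (x_i)_{1 ≤ i ≤ r}
elements of m and J = x_1 A + ... + x_r A. Then A is regular with the classes of the x_i in m/m²
linearly independent over k (equivalently: the x_i are part of a regular system of parameters) if
and only if the x_i are part of a system of parameters of A (dim(A/J) = dim(A) - r) and A/J is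
regular. When these conditions hold, J is a prime ideal. -/
theorem result (A : Type u) [CommRing A] [IsLocalRing A]
    [IsNoetherianRing A] (r : ℕ) (x : Fin r → IsLocalRing.maximalIdeal A) :
    ((IsRegularLocalRing A ∧
        LinearIndependent (IsLocalRing.ResidueField A)
          (fun i => (IsLocalRing.maximalIdeal A).toCotangent (x i))) ↔
      (ringKrullDim (A ⧸ Ideal.span (Set.range fun i => (x i : A))) + r = ringKrullDim A ∧
        IsRegularLocalRing (A ⧸ Ideal.span (Set.range fun i => (x i : A))))) ∧
    (IsRegularLocalRing (A ⧸ Ideal.span (Set.range fun i => (x i : A))) →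
      ringKrullDim (A ⧸ Ideal.span (Set.range fun i => (x i : A))) + r = ringKrullDim A →
        (Ideal.span (Set.range fun i => (x i : A))).IsPrime) := by
  classical
  set I := Ideal.span (Set.range fun i => (x i : A)) with hI
  have hIm : I ≤ (IsLocalRing.maximalIdeal A) := Ideal.span_le.2 (by rintro _ ⟨i, rfl⟩; exact (x i).2)
  have hne : I ≠ ⊤ := fun h => (IsLocalRing.maximalIdeal.isMaximal A).ne_top (top_le_iff.1 (h ▸ hIm))
  have fwd : IsRegularLocalRing A → LinearIndependent (IsLocalRing.ResidueField A)
      (fun i => (IsLocalRing.maximalIdeal A).toCotangent (x i)) →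
      ringKrullDim (A ⧸ I) + r = ringKrullDim A ∧ IsRegularLocalRing (A ⧸ I) := by
    intro hreg hli
    obtain ⟨d, hd⟩ := RegLocal.exists_nat_ringKrullDim A
    have hfin : Module.finrank (IsLocalRing.ResidueField A) (IsLocalRing.CotangentSpace A) = d := by
      have := (IsRegularLocalRing.iff_finrank_cotangentSpace A).1 hreg
      rw [hd] at this
      exact_mod_cast this
    let b := Module.Basis.sumExtend hli
    haveI := FiniteDimensional.fintypeBasisIndex b
    have hcard : Fintype.card (Fin r ⊕ Module.Basis.sumExtendIndex hli) = d := by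
      rw [← Module.finrank_eq_card_basis b, hfin]
    let e : Fin r ⊕ Module.Basis.sumExtendIndex hli ≃ Fin d := (Fintype.equivFin _).trans (finCongr hcard)
    choose g hg using fun j : Fin r ⊕ Module.Basis.sumExtendIndex hli =>
      Ideal.toCotangent_surjective (IsLocalRing.maximalIdeal A) (b j)
    let y : Fin r ⊕ Module.Basis.sumExtendIndex hli → (IsLocalRing.maximalIdeal A) := Sum.elim x fun j => g (Sum.inr j)
    have hy : ∀ j, (IsLocalRing.maximalIdeal A).toCotangent (y j) = b j := by
      rintro (i | j)
      · simp [y, b, Module.Basis.sumExtend, Trans.trans]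
        rfl
      · exact hg _
    have hspan : Submodule.span A (Set.range y) = (⊤ : Submodule A (IsLocalRing.maximalIdeal A)) := by
      rw [← IsLocalRing.CotangentSpace.span_image_eq_top_iff]
      rw [← Set.range_comp, show ((IsLocalRing.maximalIdeal A).toCotangent ∘ y) = b from funext hy]
      exact b.span_eq
    have hgen : Ideal.span (Set.range fun j : Fin d => (y (e.symm j) : A)) = (IsLocalRing.maximalIdeal A) := by
      rw [show (fun j : Fin d => (y (e.symm j) : A)) = (fun k => (y k : A)) ∘ e.symm from rfl,
        e.symm.surjective.range_comp]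
      have h := congrArg (Submodule.map (IsLocalRing.maximalIdeal A).subtype) hspan
      rw [Submodule.map_span, Submodule.map_top, Submodule.range_subtype, ← Set.range_comp] at h
      exact h
    have hq := RegLocal.quot_span_image hd _ hgen (Finset.univ.image fun i : Fin r => e (Sum.inl i))
    have himg : (fun j : Fin d => (y (e.symm j) : A)) '' ((Finset.univ.image fun i : Fin r => e (Sum.inl i) : Finset (Fin d)) : Set (Fin d)) =
        Set.range fun i => (x i : A) := by
      rw [Finset.coe_image, Finset.coe_univ, Set.image_univ, ← Set.range_comp]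
      congr 1
      ext i
      simp [y]
    rw [himg, ← hI, Finset.card_image_of_injective _ (fun i j hij => Sum.inl_injective (e.injective hij)),
      Finset.card_univ, Fintype.card_fin] at hq
    have hrd : r ≤ d := by
      simpa using Fintype.card_le_of_injective (e ∘ Sum.inl) (e.injective.comp Sum.inl_injective)
    refine ⟨?_, hq.1⟩
    rw [hq.2, hd]
    norm_cast
    omega
  have bwd : ringKrullDim (A ⧸ I) + r = ringKrullDim A → IsRegularLocalRing (A ⧸ I) →
      IsRegularLocalRing A ∧ LinearIndependent (IsLocalRing.ResidueField A) (fun i => (IsLocalRing.maximalIdeal A).toCotangent (x i)) := by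
    intro hdim hq
    obtain ⟨e, he⟩ := RegLocal.exists_nat_ringKrullDim (A ⧸ I)
    have hse : (IsLocalRing.maximalIdeal (A ⧸ I)).spanFinrank = e := by
      have := IsRegularLocalRing.spanFinrank_maximalIdeal (R := A ⧸ I)
      rw [he] at this
      exact_mod_cast this
    obtain ⟨z, hz⟩ := RegLocal.exists_generators (A ⧸ I)
    have hzmem : ∀ j, z j ∈ IsLocalRing.maximalIdeal (A ⧸ I) := fun j =>
      hz.le (Ideal.subset_span (Set.mem_range_self j))
    choose w hw hwz using fun j => (Ideal.mem_map_iff_of_surjective _ Ideal.Quotient.mk_surjective).1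
      ((RegLocal.maximalIdeal_quot hne).le (hzmem j))
    let y : Fin r ⊕ Fin (IsLocalRing.maximalIdeal (A ⧸ I)).spanFinrank → (IsLocalRing.maximalIdeal A) :=
      Sum.elim x fun j => ⟨w j, hw j⟩
    have hgen : Ideal.span (Set.range fun k => (y k : A)) = (IsLocalRing.maximalIdeal A) := by
      refine le_antisymm (Ideal.span_le.2 (by rintro _ ⟨k, rfl⟩; exact (y k).2)) fun a ha => ?_
      have hJI : I ≤ Ideal.span (Set.range fun k => (y k : A)) :=
        Ideal.span_mono (by rintro _ ⟨i, rfl⟩; exact ⟨Sum.inl i, rfl⟩)
      have h1 : Ideal.Quotient.mk I a ∈ (Ideal.span (Set.range fun k => (y k : A))).map (Ideal.Quotient.mk I) := by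
        have h2 : Ideal.Quotient.mk I a ∈ IsLocalRing.maximalIdeal (A ⧸ I) := by
          rw [RegLocal.maximalIdeal_quot hne]
          exact Ideal.mem_map_of_mem _ ha
        rw [← hz] at h2
        refine Ideal.span_le.2 ?_ h2
        rintro _ ⟨j, rfl⟩
        rw [← hwz j]
        exact Ideal.mem_map_of_mem _ (Ideal.subset_span ⟨Sum.inr j, rfl⟩)
      rw [← Ideal.mem_comap, Ideal.comap_map_of_surjective' _ Ideal.Quotient.mk_surjective, Ideal.mk_ker,
        sup_eq_left.2 hJI] at h1
      exact h1
    have hcard : Fintype.card (Fin r ⊕ Fin (IsLocalRing.maximalIdeal (A ⧸ I)).spanFinrank) = r + e := by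
      rw [Fintype.card_sum, Fintype.card_fin, Fintype.card_fin, hse]
    have hdA : ringKrullDim A = ((r + e : ℕ) : WithBot ℕ∞) := by
      rw [← hdim, he]; norm_cast; omega
    have hspan : Submodule.span (IsLocalRing.ResidueField A) (Set.range fun k => (IsLocalRing.maximalIdeal A).toCotangent (y k)) = ⊤ := by
      rw [show (fun k => (IsLocalRing.maximalIdeal A).toCotangent (y k)) = (IsLocalRing.maximalIdeal A).toCotangent ∘ y from rfl, Set.range_comp,
        IsLocalRing.CotangentSpace.span_image_eq_top_iff]
      refine Submodule.map_injective_of_injective (IsLocalRing.maximalIdeal A).injective_subtype ?_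
      rw [Submodule.map_span, Submodule.map_top, Submodule.range_subtype, ← Set.range_comp]
      exact hgen
    have hregA : IsRegularLocalRing A := by
      refine IsRegularLocalRing.of_spanFinrank_maximalIdeal_le A ?_
      rw [hdA, ← hgen]
      refine Nat.cast_le.2 (((Submodule.spanFinrank_span_le_ncard_of_finite (Set.finite_range _)).trans ?_).trans_eq hcard)
      rw [← Set.image_univ]
      exact (Set.ncard_image_le Set.finite_univ).trans_eq (by rw [Set.ncard_univ, Nat.card_eq_fintype_card])
    refine ⟨hregA, ?_⟩
    have hfin : Module.finrank (IsLocalRing.ResidueField A) (IsLocalRing.CotangentSpace A) = r + e := by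
      have := (IsRegularLocalRing.iff_finrank_cotangentSpace A).1 hregA
      rw [hdA] at this
      exact_mod_cast this
    exact (linearIndependent_of_top_le_span_of_card_eq_finrank hspan.ge (hcard.trans hfin.symm)).comp
      Sum.inl Sum.inl_injective
  refine ⟨⟨fun h => fwd h.1 h.2, fun h => bwd h.1 h.2⟩, fun hq _ => ?_⟩
  haveI := hq
  exact (Ideal.Quotient.isDomain_iff_prime I).1 (RegLocal.isDomain (A ⧸ I))

end Groth.Agent.S5779
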