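import Groth.Statements.S5780
import Mathlib
-- import your own Groth.Agent.* helpers here

set_option autoImplicit false
universe u
open EGA41

namespace Groth.Agent.S5780

/-- Let A be a Noetherian local ring with maximal ideal m. If every element of m which is not in m² is a
zero divisor in A, then there is a nonzero c in A with c m = 0, i.e. m is an associated prime of A. -/
theorem result (A : Type u) [CommRing A]
    [IsLocalRing A] [IsNoetherianRing A]
    (h : ∀ a ∈ IsLocalRing.maximalIdeal A, a ∉ IsLocalRing.maximalIdeal A ^ 2 → ¬ IsSMulRegular A a) :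
    IsLocalRing.maximalIdeal A ∈ associatedPrimes A A := by
  classical
  by_contra hm
  let m := IsLocalRing.maximalIdeal A
  have hfin : (associatedPrimes A A).Finite := _root_.associatedPrimes.finite A A
  let f : Option (Ideal A) → Ideal A := fun o => o.getD (m ^ 2)
  have hsub : (m : Set A) ⊆ ⋃ i ∈ (↑(insert none (hfin.toFinset.image some)) : Set (Option (Ideal A))), f i := by
    intro a ha
    by_cases ha2 : a ∈ m ^ 2
    · exact Set.mem_biUnion (Finset.mem_coe.2 (Finset.mem_insert_self _ _)) ha2
    · have hz := h a ha ha2
      have hnz : a ∉ nonZeroDivisors A := fun hn => hz (fun x y hxy => by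
        rw [← sub_eq_zero]
        refine hn.1 _ ?_
        have hxy' : a * x = a * y := hxy
        rw [mul_sub, hxy', sub_self])
      have : a ∈ ⋃ P ∈ associatedPrimes A A, (P : Set A) := by
        rw [biUnion_associatedPrimes_eq_compl_nonZeroDivisors]; exact hnz
      simp only [Set.mem_iUnion, exists_prop] at this
      obtain ⟨P, hP, haP⟩ := this
      exact Set.mem_biUnion (x := some P)
        (Finset.mem_coe.2 (Finset.mem_insert_of_mem (Finset.mem_image_of_mem _ (hfin.mem_toFinset.2 hP)))) haP
  obtain ⟨i, hi, hle⟩ := (Ideal.subset_union_prime none none (fun i hi hne _ => by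
    rcases Finset.mem_insert.1 hi with rfl | hi
    · exact absurd rfl hne
    · obtain ⟨P, hP, rfl⟩ := Finset.mem_image.1 hi
      exact (hfin.mem_toFinset.1 hP).isPrime)).1 hsub
  rcases Finset.mem_insert.1 hi with rfl | hi
  · have hle' : m ≤ m • m := by rw [smul_eq_mul, ← pow_two]; exact hle
    have h0 := Submodule.eq_bot_of_le_smul_of_le_jacobson_bot _ _ (IsNoetherian.noetherian m) hle'
      (IsLocalRing.maximalIdeal_le_jacobson ⊥)
    refine hm ?_
    rw [AssociatedPrimes.mem_iff, isAssociatedPrime_iff]
    refine ⟨inferInstance, 1, ?_⟩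
    show m = _
    rw [h0]
    ext r
    rw [Submodule.mem_colon_singleton, Submodule.mem_bot, Submodule.mem_bot, smul_eq_mul, mul_one]
  · obtain ⟨P, hP, rfl⟩ := Finset.mem_image.1 hi
    refine hm ?_
    have hP' := hfin.mem_toFinset.1 hP
    rwa [show IsLocalRing.maximalIdeal A = P from
      le_antisymm hle (IsLocalRing.le_maximalIdeal hP'.isPrime.ne_top)]

end Groth.Agent.S5780
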