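import Mathlib
import Mathlib
import Groth.Statements.S5781

set_option autoImplicit false
universe u
open EGA41

namespace Groth.Agent.S5781

/-- Suppose A is a Noetherian local ring whose maximal ideal is m, and take a ∈ m with a ∉ m². Then the
quotient m/am contains a direct summand isomorphic to m/Aa: concretely, one can find A-linear maps f
: m/Aa → m/am and g : m/am → m/Aa such that g ∘ f is the identity. -/
theorem result (A : Type u) [CommRing A] [IsLocalRing A]
    [IsNoetherianRing A] (a : A) (ha : a ∈ IsLocalRing.maximalIdeal A) (ha2 : a ∉ IsLocalRing.maximalIdeal A ^ 2) :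
    ∃ (f : (↥(IsLocalRing.maximalIdeal A) ⧸ Submodule.span A {(⟨a, ha⟩ : ↥(IsLocalRing.maximalIdeal A))}) →ₗ[A]
          QuotSMulTop a ↥(IsLocalRing.maximalIdeal A))
      (g : QuotSMulTop a ↥(IsLocalRing.maximalIdeal A) →ₗ[A]
          (↥(IsLocalRing.maximalIdeal A) ⧸ Submodule.span A {(⟨a, ha⟩ : ↥(IsLocalRing.maximalIdeal A))})),
      g.comp f = LinearMap.id := by
  classical
  set m := IsLocalRing.maximalIdeal A
  let K := IsLocalRing.ResidueField A
  have hne : m.toCotangent ⟨a, ha⟩ ≠ 0 := by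
    rw [Ne, Ideal.toCotangent_eq_zero]
    exact ha2
  have hli : LinearIndepOn K id ({m.toCotangent ⟨a, ha⟩} : Set (IsLocalRing.CotangentSpace A)) := LinearIndepOn.singleton hne
  let s : Set (IsLocalRing.CotangentSpace A) := hli.extend (Set.subset_univ _) \ {m.toCotangent ⟨a, ha⟩}
  let bsub : Submodule A m := (Submodule.span K s).restrictScalars A |>.comap m.toCotangent
  let g : QuotSMulTop a m →ₗ[A] (m ⧸ Submodule.span A {(⟨a, ha⟩ : m)}) :=
    Submodule.factor (by
      intro y hy
      obtain ⟨z, -, rfl⟩ := (Submodule.mem_smul_pointwise_iff_exists _ _ _).1 hy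
      exact Submodule.mem_span_singleton.2 ⟨(z : A), Subtype.ext (mul_comm (z : A) a)⟩)
  let ψ : bsub →ₗ[A] (m ⧸ Submodule.span A {(⟨a, ha⟩ : m)}) := (Submodule.mkQ _).comp bsub.subtype
  have hψ : Function.Surjective ψ := by
    intro y
    obtain ⟨y, rfl⟩ := Submodule.Quotient.mk_surjective _ y
    have hy : m.toCotangent y ∈ Submodule.span K ({m.toCotangent ⟨a, ha⟩} ∪ s) := by
      rw [show ({m.toCotangent ⟨a, ha⟩} ∪ s : Set (IsLocalRing.CotangentSpace A)) = hli.extend (Set.subset_univ _) from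
        Set.union_sdiff_cancel (hli.subset_extend _)]
      exact (hli.span_extend_eq_span _).symm ▸ Submodule.subset_span trivial
    rw [Submodule.span_union, Submodule.mem_sup] at hy
    obtain ⟨u, hu, v, hv, huv⟩ := hy
    obtain ⟨c, rfl⟩ := Submodule.mem_span_singleton.1 hu
    obtain ⟨c, rfl⟩ := IsLocalRing.residue_surjective c
    refine ⟨⟨y - c • ⟨a, ha⟩, ?_⟩, ?_⟩
    · show m.toCotangent (y - c • ⟨a, ha⟩) ∈ Submodule.span K s
      rw [map_sub, map_smul, ← huv]
      rw [show (IsLocalRing.residue A) c • m.toCotangent ⟨a, ha⟩ = c • m.toCotangent ⟨a, ha⟩ from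
        algebraMap_smul K c _, add_sub_cancel_left]
      exact hv
    · show Submodule.Quotient.mk _ = Submodule.Quotient.mk _
      rw [Submodule.Quotient.eq]
      show y - c • (⟨a, ha⟩ : m) - y ∈ Submodule.span A {(⟨a, ha⟩ : m)}
      rw [sub_sub_cancel_left]
      exact neg_mem (Submodule.smul_mem _ c (Submodule.mem_span_singleton_self _))
  let φ : bsub →ₗ[A] QuotSMulTop a m := (Submodule.mkQ _).comp bsub.subtype
  have hker : LinearMap.ker ψ ≤ LinearMap.ker φ := by
    rintro ⟨y, hy⟩ h
    change Submodule.Quotient.mk y = 0 at h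
    rw [Submodule.Quotient.mk_eq_zero, Submodule.mem_span_singleton] at h
    obtain ⟨c, rfl⟩ := h
    show Submodule.Quotient.mk (c • (⟨a, ha⟩ : m)) = 0
    rw [Submodule.Quotient.mk_eq_zero, Submodule.mem_smul_pointwise_iff_exists]
    have hc : c ∈ m := by
      by_contra hc
      have hc' : IsUnit c := not_not.1 fun h => hc ((IsLocalRing.mem_maximalIdeal c).2 h)
      have h1 : m.toCotangent ⟨a, ha⟩ ∈ Submodule.span K s := by
        have h2 : m.toCotangent (c • ⟨a, ha⟩) ∈ (Submodule.span K s).restrictScalars A := hy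
        rw [map_smul] at h2
        have := Submodule.smul_mem _ (↑hc'.unit⁻¹ : A) h2
        rwa [smul_smul, IsUnit.val_inv_mul, one_smul] at this
      exact hli.linearIndepOn_extend (Set.subset_univ _) |>.notMem_span
        (hli.subset_extend _ (Set.mem_singleton _)) (by simpa using h1)
    exact ⟨⟨c, hc⟩, trivial, Subtype.ext (mul_comm a c)⟩
  let f : (m ⧸ Submodule.span A {(⟨a, ha⟩ : m)}) →ₗ[A] QuotSMulTop a m :=
    ((LinearMap.ker ψ).liftQ φ hker).comp (ψ.quotKerEquivOfSurjective hψ).symm.toLinearMap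
  refine ⟨f, g, LinearMap.ext fun y => ?_⟩
  obtain ⟨x, rfl⟩ := hψ y
  have : (ψ.quotKerEquivOfSurjective hψ).symm (ψ x) = Submodule.Quotient.mk x := by
    rw [LinearEquiv.symm_apply_eq]
    rfl
  show g (((LinearMap.ker ψ).liftQ φ hker) ((ψ.quotKerEquivOfSurjective hψ).symm (ψ x))) = _
  rw [this]
  rfl

end Groth.Agent.S5781
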