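import Mathlib
import Groth.Agent.ABLib.Basic
import Groth.Agent.ABLib.PdBaseChange
import Groth.Statements.S5782

set_option autoImplicit false
universe u
open CategoryTheory
open EGA41

namespace Groth.Agent.S5782

/-- Let A be a Noetherian local ring with maximal ideal m, E a finitely generated A-module of finite
projective dimension, and a ∈ m an element which is A-regular and E-regular. Then E/aE, as a module
over A/aA, has finite projective dimension at most the projective dimension of E over A. -/
theorem result (A : Type u) [CommRing A] [IsLocalRing A]
    [IsNoetherianRing A] (E : Type u) [AddCommGroup E] [Module A E] [Module.Finite A E]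
    (hfin : projectiveDimension (ModuleCat.of A E) ≠ ⊤) (a : A) (ha : a ∈ IsLocalRing.maximalIdeal A)
    (hA : IsSMulRegular A a) (hE : IsSMulRegular E a) :
    projectiveDimension (ModuleCat.of (A ⧸ Ideal.span {a}) (E ⧸ (Ideal.span {a} • (⊤ : Submodule A E)))) ≤
      projectiveDimension (ModuleCat.of A E) := by
  refine Groth.Agent.ABLib.pd_le_of_forall _ _ fun n h => ?_
  cases n with
  | zero =>
    haveI := Groth.Agent.ABLib.subsingleton_of_lt_zero h
    haveI : Subsingleton (E ⧸ (Ideal.span {a} • (⊤ : Submodule A E))) := (Submodule.mkQ_surjective _).subsingleton
    exact Groth.Agent.ABLib.lt_zero_of_subsingleton _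
  | succ n => exact Groth.Agent.ABLib.down hA E hE n h

end Groth.Agent.S5782
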