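import Groth.Statements.S5783
import Groth.Agent.CMFlatLib.Misc
import Groth.Agent.GrSegreLib.Dim
-- import your own Groth.Agent.* helpers here

set_option autoImplicit false
universe u
open EGA41

namespace Groth.Agent.S5783

/-- Let A be a regular local ring, B a local ring and ρ : A → B a local homomorphism making B a finitely
generated A-module. Then B is a free A-module if and only if B is a Cohen-Macaulay ring and ρ is
injective (the latter being equivalent to dim(B) = dim(A)). -/
theorem result (A B : Type u) [CommRing A] [CommRing B]
    [IsRegularLocalRing A] [IsLocalRing B] [Algebra A B] [IsLocalHom (algebraMap A B)] [Module.Finite A B] :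
    Module.Free A B ↔ LocCoh.IsCohenMacaulayLocalRing B ∧ Function.Injective (algebraMap A B) := by
  haveI : IsNoetherianRing B := IsNoetherianRing.of_finite A B
  have hrad := CMFlatLib.radical_map_of_finite A B
  refine ⟨fun hfree => ?_, fun ⟨hcm, hinj⟩ => ?_⟩
  · exact ⟨CMFlatLib.cm_of_flat A B hrad, FaithfulSMul.algebraMap_injective A B⟩
  · haveI := hcm
    haveI := CMFlatLib.flat_of_cm A B hrad (GrSegreLib.ringKrullDim_eq_of_integral_injective (algebraMap A B) hinj fun x => Algebra.IsIntegral.isIntegral x).symm
    exact Module.free_of_flat_of_isLocalRing

end Groth.Agent.S5783
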