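import Mathlib
import Groth.Agent.LocCohLib.Depth
import Groth.Agent.GorLib.TopHull
import Groth.Statements.S5787

set_option autoImplicit false
universe u
open CategoryTheory
open EGA41

namespace Groth.Agent.S5787

/-- Let A be a Noetherian local ring with maximal ideal m and residue field k, M an A-module and
(x_i)_{1 ≤ i ≤ n} an M-regular sequence of elements of m. Then Hom_A(k, M/(x_1 M + ... + x_n M)) and
Ext^n_A(k, M) are isomorphic (existence of an isomorphism; stated for the underlying abelian
groups). -/
theorem result (A : Type u) [CommRing A] [IsLocalRing A]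
    [IsNoetherianRing A] (M : Type u) [AddCommGroup M] [Module A M] (xs : List A)
    (hxs : ∀ x ∈ xs, x ∈ IsLocalRing.maximalIdeal A) (hreg : RingTheory.Sequence.IsWeaklyRegular M xs) :
    Nonempty ((IsLocalRing.ResidueField A →ₗ[A] (M ⧸ (Ideal.ofList xs • (⊤ : Submodule A M)))) ≃+
      Abelian.Ext (ModuleCat.of A (IsLocalRing.ResidueField A)) (ModuleCat.of A M) xs.length) := by
  suffices h : Nonempty (Abelian.Ext (ModuleCat.of A (IsLocalRing.ResidueField A)) (ModuleCat.of A M) xs.length ≃ₗ[A]
      (IsLocalRing.ResidueField A →ₗ[A] (M ⧸ (Ideal.ofList xs • (⊤ : Submodule A M))))) from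
    ⟨h.some.symm.toAddEquiv⟩
  induction xs generalizing M with
  | nil =>
    exact ⟨((Abelian.Ext.linearEquiv₀ (R := A)).trans (ModuleCat.homLinearEquiv (S := A))).trans
      (LinearEquiv.congrRight (Submodule.quotEquivOfEqBot _ (by simp)).symm)⟩
  | cons f l ih =>
    rw [RingTheory.Sequence.isWeaklyRegular_cons_iff] at hreg
    have hS := IsSMulRegular.smulShortComplex_shortExact (M := ModuleCat.of A M) hreg.1
    let g : Abelian.Ext (ModuleCat.of A (IsLocalRing.ResidueField A)) (ModuleCat.of A (QuotSMulTop f M)) l.length →ₗ[A]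
        Abelian.Ext (ModuleCat.of A (IsLocalRing.ResidueField A)) (ModuleCat.of A M) (l.length + 1) :=
      hS.extClass.postcompOfLinear A (ModuleCat.of A (IsLocalRing.ResidueField A)) rfl
    have hk : ∀ a ∈ IsLocalRing.maximalIdeal A, ∀ z : IsLocalRing.ResidueField A, a • z = 0 := fun a ha z => by
      rw [Algebra.smul_def, show algebraMap A (IsLocalRing.ResidueField A) a = 0 from
        Ideal.Quotient.eq_zero_iff_mem.mpr ha, zero_mul]
    have hg : Function.Bijective g := by
      constructor
      · rw [injective_iff_map_eq_zero]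
        intro x hx
        obtain ⟨y, rfl⟩ := Abelian.Ext.covariant_sequence_exact₃ _ hS x rfl hx
        haveI : Subsingleton (Abelian.Ext (ModuleCat.of A (IsLocalRing.ResidueField A)) (ModuleCat.of A M) l.length) :=
          Groth.Agent.LocCohLib.subsingleton_ext_of_isWeaklyRegular (IsLocalRing.maximalIdeal A) (ModuleCat.of A M) _ (f :: l)
            ((RingTheory.Sequence.isWeaklyRegular_cons_iff _ f l).mpr hreg) hxs 1
            (fun a ha z => hk a (by rwa [pow_one] at ha) z) _ (by simp)
        rw [show y = 0 from Subsingleton.elim (α := Abelian.Ext (ModuleCat.of A (IsLocalRing.ResidueField A)) (ModuleCat.of A M) l.length) y 0,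
          Abelian.Ext.zero_comp]
        rfl
      · intro x
        refine Abelian.Ext.covariant_sequence_exact₁ _ hS x ?_ rfl
        rw [ModuleCat.smulShortComplex_f_eq_smul_id]
        exact (Abelian.Ext.smul_eq_comp_mk₀ x f).symm.trans
          (Groth.Agent.LocCohLib.smul_eq_zero_of_annihilates (fun z => hk f (hxs f List.mem_cons_self) z) x)
    obtain ⟨e⟩ := ih (QuotSMulTop f M) (fun r hr => hxs r (List.mem_cons_of_mem _ hr)) hreg.2
    exact ⟨((LinearEquiv.ofBijective g hg).symm.trans e).trans
      (LinearEquiv.congrRight (Submodule.quotOfListConsSMulTopEquivQuotSMulTopInner M f l).symm)⟩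

end Groth.Agent.S5787
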