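import Groth.Statements.S5793
import Groth.Agent.DimFormulaLib.Scheme
-- import your own Groth.Agent.* helpers here

set_option autoImplicit false
universe u
open TopDim

namespace Groth.Agent.S5793

/-- Let X be a Noetherian Kolmogoroff space. Then dim(X) = sup dim_x(X), the supremum being over the
closed points x of X only. -/
theorem result (X : Type u) [TopologicalSpace X]
    [TopologicalSpace.NoetherianSpace X] [T0Space X] :
    topologicalKrullDim X = ⨆ x ∈ {x : X | IsClosed ({x} : Set X)}, FlatMor.localDim X x := by
  rw [DimFormulaLib.topologicalKrullDim_eq_iSup_localDim]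
  refine le_antisymm (iSup_le fun x => ?_) (iSup₂_le fun x _ => le_iSup (fun y => FlatMor.localDim X y) x)
  obtain ⟨c, hc, hcl⟩ := (isClosed_closure (s := ({x} : Set X))).exists_closed_singleton ⟨x, subset_closure rfl⟩
  refine le_trans ?_ (le_iSup₂ (f := fun y (_ : y ∈ {y : X | IsClosed ({y} : Set X)}) => FlatMor.localDim X y) c hcl)
  have h : x ⤳ c := specializes_iff_mem_closure.2 hc
  exact le_iInf fun U => iInf_le_of_le ⟨U.1, h.mem_open U.1.isOpen U.2⟩ le_rfl

end Groth.Agent.S5793
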