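import Groth.Statements.S5798
import Groth.Agent.TopDimLib.Basic

set_option autoImplicit false
universe u
open TopDim

namespace Groth.Agent.S5798

/-- If (U_i) is an open covering of a topological space X, then dim(X) = sup_i dim(U_i). -/
theorem result (X : Type u) [TopologicalSpace X] (ι : Type u)
    (U : ι → TopologicalSpace.Opens X) (hcov : ⨆ i, U i = ⊤) :
    topologicalKrullDim X = ⨆ i, topologicalKrullDim (U i) := by
  exact NearGen.topologicalKrullDim_eq_iSup_of_cover (fun i => (U i : Set X)) (fun i => (U i).isOpen) fun x => TopologicalSpace.Opens.mem_iSup.1 (hcov ▸ TopologicalSpace.Opens.mem_top x)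

end Groth.Agent.S5798
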