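import Mathlib
import Groth.Agent.AdicEasyLib.Basic
import Groth.Statements.S5801

set_option autoImplicit false
universe u
open scoped Pointwise
open EGA41

namespace Groth.Agent.S5801

/-- Let A be a ring, M an A-module and f ∈ A, and consider the canonical surjection (M/fM)[T] → gr(M)
for the (f)-adic filtration, whose injectivity says: for all k ≥ 0 and x ∈ M, f^k x ∈ f^(k+1) M
implies x ∈ fM. If f is M-regular this map is bijective; conversely, if it is bijective and M is
separated for the (f)-adic topology (the intersection of the f^k M is zero), then f is M-regular. -/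
theorem result (A : Type u) [CommRing A] (M : Type u)
    [AddCommGroup M] [Module A M] (f : A) :
    (IsSMulRegular M f →
        ∀ (k : ℕ) (x : M), f ^ k • x ∈ f ^ (k + 1) • (⊤ : Submodule A M) → x ∈ f • (⊤ : Submodule A M)) ∧
      ((⨅ k : ℕ, f ^ k • (⊤ : Submodule A M)) = ⊥ →
        (∀ (k : ℕ) (x : M), f ^ k • x ∈ f ^ (k + 1) • (⊤ : Submodule A M) → x ∈ f • (⊤ : Submodule A M)) →
          IsSMulRegular M f) := by
  refine ⟨fun hf k x hx => ?_, fun hI h => (isSMulRegular_iff_right_eq_zero_of_smul).2 fun x hx => ?_⟩
  · obtain ⟨y, -, hy⟩ := hx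
    refine ⟨y, trivial, hf.pow k ?_⟩
    show f ^ k • (f • y) = f ^ k • x
    rw [← mul_smul, ← pow_succ]
    exact hy
  · have key : ∀ j, x ∈ f ^ j • (⊤ : Submodule A M) := by
      intro j
      induction j with
      | zero => exact ⟨x, trivial, by simp⟩
      | succ j ih =>
        obtain ⟨y, -, rfl⟩ := ih
        have h1 : f ^ (j + 1) • y ∈ f ^ (j + 1 + 1) • (⊤ : Submodule A M) := by
          have h0 : f ^ (j + 1) • y = 0 := by
            rw [pow_succ', mul_smul]; exact hx
          rw [h0]
          exact zero_mem _
        obtain ⟨z, -, rfl⟩ := h (j + 1) y h1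
        exact ⟨z, trivial, by
          show f ^ (j + 1) • z = f ^ j • (f • z)
          rw [← mul_smul, pow_succ]⟩
    exact (Submodule.eq_bot_iff _).1 hI x ((Submodule.mem_iInf _).2 key)

end Groth.Agent.S5801
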