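import Mathlib
import Mathlib.RingTheory.Flat.Equalizer
import Mathlib.RingTheory.Regular.RegularSequence
import Groth.Statements.S5806

set_option autoImplicit false
universe u
open EGA41

namespace Groth.Agent.S5806

open TensorProduct in
/-- Let A be a ring, B a commutative A-algebra, (f_i)_{1 ≤ i ≤ n} elements of B and M a B-module.
Suppose (f_i) is M-regular and each of the A-modules M/(f_1 M + ... + f_i M), 0 ≤ i ≤ n, is flat.
Then for every ring homomorphism A → A', writing M' = M ⊗_A A' and f'_i = f_i ⊗ 1, the sequence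
(f'_i) is M'-regular and the A'-modules M'/(f'_1 M' + ... + f'_{i-1} M') are flat: concretely,
identifying M'/(f'_1 M' + ... + f'_{i-1} M') with A' ⊗_A (M/(f_1 M + ... + f_{i-1} M)),
multiplication by f_i on the latter is injective and the latter is A'-flat, for 1 ≤ i ≤ n. (The
published hypothesis lists only the flatness of M/(f_1 M + ... + f_{i-1} M) for 1 ≤ i ≤ n, omitting
M/(f_1 M + ... + f_n M); with that omission the case n = 1, A = B = k[t], M = k[t], f_1 = t, A' =
k[t]/(t) fails, since t acts as zero on k ⊗_A M = k, and the published proof uses the flatness of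
M/(f_1 M + ... + f_i M) for every i ≤ n; so flatness of all these quotients is assumed here.) -/
theorem result (A B : Type u) [CommRing A]
    [CommRing B] [Algebra A B] (M : Type u) [AddCommGroup M] [Module B M] [Module A M] [IsScalarTower A B M]
    (fs : List B) (hreg : RingTheory.Sequence.IsWeaklyRegular M fs)
    (hflat : ∀ i : ℕ, i ≤ fs.length → Module.Flat A (M ⧸ (Ideal.ofList (fs.take i) • (⊤ : Submodule B M))))
    (A' : Type u) [CommRing A'] [Algebra A A'] (i : Fin fs.length) :
    Function.Injective (LinearMap.lTensor A'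
        (((LinearMap.lsmul B (M ⧸ (Ideal.ofList (fs.take i) • (⊤ : Submodule B M)))) (fs.get i)).restrictScalars A)) ∧
      Module.Flat A' (A' ⊗[A] (M ⧸ (Ideal.ofList (fs.take i) • (⊤ : Submodule B M)))) := by
  haveI := hflat i i.isLt.le
  refine ⟨?_, inferInstance⟩
  haveI := hflat (i + 1) i.isLt
  have he : Ideal.ofList (fs.take (i + 1)) = Ideal.ofList (fs.take i) ⊔ Ideal.span {fs.get i} := by
    rw [List.take_succ_eq_append_getElem i.isLt, Ideal.ofList_append, Ideal.ofList_singleton]
    rfl
  have hle : (Ideal.ofList (fs.take i) • ⊤ : Submodule B M) ≤ Ideal.ofList (fs.take (i + 1)) • ⊤ :=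
    Submodule.smul_mono_left (he ▸ le_sup_left)
  let q := (Submodule.factor hle).restrictScalars A
  have hreg' : IsSMulRegular (M ⧸ (Ideal.ofList (fs.take i) • ⊤ : Submodule B M)) (fs.get i) :=
    hreg.regular_mod_prev i i.isLt
  refine LinearMap.lTensor_injective_of_exact_of_flat q (Submodule.factor_surjective hle)
    (((LinearMap.lsmul B (M ⧸ (Ideal.ofList (fs.take i) • (⊤ : Submodule B M)))) (fs.get i)).restrictScalars A)
    hreg' ?_ A'
  intro x
  constructor
  · intro hx
    obtain ⟨y, rfl⟩ := Submodule.Quotient.mk_surjective _ x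
    have hy : y ∈ (Ideal.ofList (fs.take (i + 1)) • ⊤ : Submodule B M) :=
      (Submodule.Quotient.mk_eq_zero _).1 hx
    rw [he, Submodule.sup_smul, Submodule.mem_sup] at hy
    obtain ⟨n, hn, w, hw, rfl⟩ := hy
    rw [Submodule.ideal_span_singleton_smul, Submodule.mem_smul_pointwise_iff_exists] at hw
    obtain ⟨z, -, rfl⟩ := hw
    refine ⟨Submodule.Quotient.mk z, ?_⟩
    show fs.get i • (Submodule.Quotient.mk z : M ⧸ (Ideal.ofList (fs.take i) • (⊤ : Submodule B M))) = _
    rw [Submodule.Quotient.mk_add, (Submodule.Quotient.mk_eq_zero _).2 hn, zero_add,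
      Submodule.Quotient.mk_smul]
  · rintro ⟨x, rfl⟩
    obtain ⟨y, rfl⟩ := Submodule.Quotient.mk_surjective _ x
    show Submodule.factor hle (fs.get i • Submodule.Quotient.mk y) = 0
    rw [← Submodule.Quotient.mk_smul]
    apply (Submodule.Quotient.mk_eq_zero _).2
    exact Submodule.smul_mem_smul (he ▸ (le_sup_right : _ ≤ Ideal.ofList (fs.take i) ⊔ Ideal.span {fs.get i}) (Ideal.mem_span_singleton_self _)) Submodule.mem_top

end Groth.Agent.S5806
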