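import Groth.Statements.S5807
import Mathlib
import Groth.Agent.CyclicRootLib.Regular
-- import your own Groth.Agent.* helpers here

set_option autoImplicit false
universe u
open EGA41

namespace Groth.Agent.S5807

/-- Let A be a Noetherian ring which is a quotient of a regular ring B, and C an A-algebra of finite
type. Then every ring of fractions of C is a quotient of a regular ring. -/
theorem result (B A C : Type u) [CommRing B]
    [IsRegularRing B] [CommRing A] (π : B →+* A) (hπ : Function.Surjective π) [CommRing C] [Algebra A C]
    [Algebra.FiniteType A C] (S : Submonoid C) :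
    ∃ (R : Type u) (_ : CommRing R) (_ : IsRegularRing R) (f : R →+* Localization S),
      Function.Surjective f := by
  obtain ⟨n, g, hg⟩ := Algebra.FiniteType.iff_quotient_mvPolynomial''.mp (inferInstance : Algebra.FiniteType A C)
  let φ : MvPolynomial (Fin n) B →+* C := g.toRingHom.comp (MvPolynomial.map π)
  have hφ : Function.Surjective φ := hg.comp (MvPolynomial.map_surjective π hπ)
  let T := S.comap φ
  refine ⟨Localization T, inferInstance,
    Groth.Agent.CyclicRootLib.isRegularRing_of_isLocalization T (Localization T),
    IsLocalization.map (T := S) (Localization S) φ (le_refl _), fun z => ?_⟩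
  obtain ⟨c, s, rfl⟩ := IsLocalization.exists_mk'_eq S z
  obtain ⟨c', hc⟩ := hφ c
  obtain ⟨s', hs⟩ := hφ s
  have hsT : s' ∈ T := by show φ s' ∈ S; rw [hs]; exact s.2
  refine ⟨IsLocalization.mk' (Localization T) c' ⟨s', hsT⟩, ?_⟩
  rw [IsLocalization.map_mk']
  congr 1
  exact Subtype.ext hs

end Groth.Agent.S5807
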