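import Groth.Statements.S5808
import Mathlib
import Groth.Agent.DSeqLib.Main
-- import your own Groth.Agent.* helpers here

set_option autoImplicit false
universe u
open EGA41

namespace Groth.Agent.S5808

/-- Let A be a semi-local Noetherian ring with spectrum X and Jacobson radical r, and a an ideal of A
distinct from A with codim(V(a), X) = h > 0 (h is the height of a). Then there exist h elements x_1,
..., x_h of a which are part of a system of parameters of A (so lie in r and can be completed by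
elements of r to dim(A) elements generating an ideal modulo which A has finite length) and such that
codim(V(a), V(x_1 A + ... + x_h A)) = 0, i.e. the image of a in A/(x_1 A + ... + x_h A) has height
0. -/
theorem result (A : Type u) [CommRing A] [IsNoetherianRing A]
    [Finite (MaximalSpectrum A)] (a : Ideal A) (ha : a ≠ ⊤) (h : ℕ) (hh : a.height = h) (hpos : 0 < h) :
    ∃ x : Fin h → A, (∀ i, x i ∈ a) ∧ (∀ i, x i ∈ Ring.jacobson A) ∧
      (∃ ys : List A, (∀ y ∈ ys, y ∈ Ring.jacobson A) ∧
        (((h + ys.length : ℕ) : ℕ∞) : WithBot ℕ∞) = ringKrullDim A ∧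
        IsFiniteLength A (A ⧸ (Ideal.span (Set.range x) ⊔ Ideal.ofList ys))) ∧
      (a.map (Ideal.Quotient.mk (Ideal.span (Set.range x)))).height = 0 := by
  classical
  let J := Ring.jacobson A
  have hJQ : ∀ Q : Ideal A, Q.IsPrime → ¬ Q.IsMaximal → ¬ J ≤ Q := by
    intro Q hQ hQm hle
    haveI := Fintype.ofFinite (MaximalSpectrum A)
    have h1 : (Finset.univ : Finset (MaximalSpectrum A)).inf (fun m => m.asIdeal) ≤ Q := by
      refine le_trans ?_ hle
      rw [show J = Ring.jacobson A from rfl, Ring.jacobson_eq_sInf_isMaximal]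
      exact le_sInf fun m hm => Finset.inf_le (f := fun m : MaximalSpectrum A => m.asIdeal) (Finset.mem_univ ⟨m, hm⟩)
    obtain ⟨m, -, hm⟩ := (hQ.inf_le').1 h1
    exact hQm (m.isMaximal.eq_of_le hQ.ne_top hm ▸ m.isMaximal)
  -- one step
  have step : ∀ (X b : Ideal A) (D : ℕ), ringKrullDim (A ⧸ X) = ((D + 1 : ℕ) : WithBot ℕ∞) →
      (∀ Q ∈ X.minimalPrimes, ¬ Q.IsMaximal → ¬ b ≤ Q) →
      ∃ x ∈ b, x ∈ J ∧ (∀ Q ∈ X.minimalPrimes, ¬ Q.IsMaximal → x ∉ Q) ∧
        ringKrullDim (A ⧸ X ⊔ Ideal.span {x}) = (D : WithBot ℕ∞) := by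
    intro X b D hD hb
    let S := (X.finite_minimalPrimes_of_isNoetherianRing A).toFinset.filter fun Q => ¬ Q.IsMaximal
    obtain ⟨z, hz, hzS⟩ := DSeqLib.exists_add_notMem (0 : A) (b * J) S
      (fun Q hQ => ((Set.Finite.mem_toFinset _).1 (Finset.mem_filter.1 hQ).1).1.1) (fun Q hQ hle => by
        obtain ⟨hQ1, hQ2⟩ := Finset.mem_filter.1 hQ
        rw [Set.Finite.mem_toFinset] at hQ1
        exact (hQ1.1.1.mul_le.1 hle).elim (hb Q hQ1 hQ2) (hJQ Q hQ1.1.1 hQ2))
    have hzQ : ∀ Q ∈ X.minimalPrimes, ¬ Q.IsMaximal → z ∉ Q := fun Q hQ hQm hzmem =>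
      hzS Q (Finset.mem_filter.2 ⟨(Set.Finite.mem_toFinset _).2 hQ, hQm⟩) (by rwa [zero_add])
    have hzb : z ∈ b := (show b * J ≤ b from Ideal.mul_le_left) hz
    have hzJ : z ∈ J := (show b * J ≤ J from Ideal.mul_le_right) hz
    refine ⟨z, hzb, hzJ, hzQ, ?_⟩
    let R := A ⧸ X
    let r : R := Ideal.Quotient.mk X z
    have e : (R ⧸ Ideal.span {r}) ≃+* A ⧸ (X ⊔ Ideal.span {z}) :=
      (Ideal.quotEquivOfEq (by rw [Ideal.map_span, Set.image_singleton])).trans (DoubleQuot.quotQuotEquivQuotSup X (Ideal.span {z}))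
    rw [← ringKrullDim_eq_of_ringEquiv e]
    refine le_antisymm ?_ ?_
    · rw [ringKrullDim_quotient, Order.krullDim]
      refine iSup_le fun l => ?_
      obtain ⟨p, hp, hp'⟩ := Ideal.exists_minimalPrimes_le (J := l.head.1.asIdeal) (bot_le (a := l.head.1.asIdeal))
      have hpX : p.comap (Ideal.Quotient.mk X) ∈ X.minimalPrimes := by
        rw [Ideal.minimalPrimes_eq_comap]; exact ⟨p, hp, rfl⟩
      by_cases hmax : (p.comap (Ideal.Quotient.mk X)).IsMaximal
      · have hl : l.length = 0 := by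
          by_contra hne
          have hlt : l.head.1.asIdeal < l.last.1.asIdeal :=
            l.strictMono (show (0 : Fin (l.length + 1)) < Fin.last l.length from Fin.pos_iff_ne_zero.2 fun h =>
              hne (by simpa using congrArg Fin.val h))
          have hpmax : p.IsMaximal := by
            rw [← Ideal.map_comap_of_surjective (Ideal.Quotient.mk X) Ideal.Quotient.mk_surjective p]
            exact Ideal.IsMaximal.map_of_surjective_of_ker_le Ideal.Quotient.mk_surjective
              (by rw [Ideal.mk_ker]; exact hpX.1.2)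
          have := hpmax.eq_of_le l.head.1.isPrime.ne_top hp'
          exact l.last.1.isPrime.ne_top (hpmax.out.2 _ (this ▸ hlt))
        rw [hl]
        exact Nat.mono_cast (Nat.zero_le D)
      · have hlt : (⟨p, hp.1.1⟩ : PrimeSpectrum R) < l.head.1 := lt_of_le_of_ne hp' fun h => by
          refine hzQ _ hpX hmax ?_
          show r ∈ p
          have hmem : r ∈ l.head.1.asIdeal := l.head.2 (Ideal.subset_span rfl)
          rwa [← congrArg PrimeSpectrum.asIdeal h] at hmem
        have h1 := Order.LTSeries.length_le_krullDim ((l.map Subtype.val (fun _ _ => id)).cons ⟨p, hp.1.1⟩ hlt)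
        change _ ≤ ringKrullDim R at h1
        rw [hD] at h1
        have h2' : ((l.length + 1 : ℕ) : WithBot ℕ∞) ≤ ((D + 1 : ℕ) : WithBot ℕ∞) := by simpa using h1
        have h2 : l.length + 1 ≤ D + 1 := by exact_mod_cast h2'
        exact Nat.mono_cast (by omega : l.length ≤ D)
    · have hrj : r ∈ Ring.jacobson R := by
        rw [Ring.jacobson_eq_sInf_isMaximal]
        refine Submodule.mem_sInf.2 fun m hm => ?_
        change Ideal R at m
        haveI : m.IsMaximal := hm
        haveI : (m.comap (Ideal.Quotient.mk X)).IsMaximal := Ideal.comap_isMaximal_of_surjective _ Ideal.Quotient.mk_surjective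
        exact Ring.jacobson_le_of_isMaximal (m.comap (Ideal.Quotient.mk X)) hzJ
      have h1 := ringKrullDim_le_ringKrullDim_quotient_add_encard {r} (Set.singleton_subset_iff.2 hrj)
      rw [Set.encard_singleton, hD] at h1
      generalize ringKrullDim (R ⧸ Ideal.span {r}) = c at h1 ⊢
      cases c with
      | bot => simp at h1
      | coe c =>
        cases c with
        | top => exact le_top
        | coe c => norm_cast at h1 ⊢; omega
  -- dimensions
  obtain ⟨P, hPa, hPh⟩ : ∃ P ∈ a.minimalPrimes, P.height = (h : ℕ∞) := by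
    obtain ⟨m, hm, ham⟩ := Ideal.exists_le_maximal a ha
    haveI := hm.isPrime
    obtain ⟨P0, hP0, -⟩ := Ideal.exists_minimalPrimes_le ham
    obtain ⟨P, hP, hmin⟩ := a.finite_minimalPrimes_of_isNoetherianRing.exists_minimalFor (fun Q => Q.height) _ ⟨P0, hP0⟩
    refine ⟨P, hP, le_antisymm ?_ (hh ▸ Ideal.height_mono hP.1.2)⟩
    rw [← hh]
    conv_rhs => rw [Ideal.height_eq_inf_minimalPrimes]
    exact le_iInf₂ fun Q hQ => (le_total P.height Q.height).elim id fun h => hmin hQ h
  have hnontriv : Nontrivial A := by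
    by_contra hn
    haveI := not_nontrivial_iff_subsingleton.1 hn
    exact ha (Subsingleton.elim _ _)
  obtain ⟨d, hd⟩ : ∃ d : ℕ, ringKrullDim A = d := by
    haveI := Fintype.ofFinite (MaximalSpectrum A)
    have hk : ∀ m : MaximalSpectrum A, ∃ k : ℕ, m.asIdeal.height = k := fun m =>
      ⟨_, (ENat.coe_toNat (Ideal.height_ne_top m.isMaximal.ne_top)).symm⟩
    choose k hk using hk
    refine ⟨Finset.univ.sup k, le_antisymm ?_ ?_⟩
    · rw [ringKrullDim_le_iff_isMaximal_height_le]
      intro m hm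
      have h1 : k ⟨m, hm⟩ ≤ Finset.univ.sup k := Finset.le_sup (Finset.mem_univ _)
      have h2 := hk ⟨m, hm⟩
      rw [show m = (⟨m, hm⟩ : MaximalSpectrum A).asIdeal from rfl, h2]
      exact_mod_cast h1
    · obtain ⟨m0, hm0, -⟩ := Ideal.exists_le_maximal a ha
      obtain ⟨m, -, hm⟩ := Finset.exists_mem_eq_sup Finset.univ ⟨⟨m0, hm0⟩, Finset.mem_univ _⟩ k
      have h2 := Ideal.height_le_ringKrullDim_of_ne_top (I := m.asIdeal) m.isMaximal.ne_top
      rw [hk m] at h2
      rw [hm]
      exact_mod_cast h2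
  haveI := hPa.1.1
  have hhd : h ≤ d := by
    have := Ideal.height_le_ringKrullDim_of_ne_top (I := P) (Ideal.IsPrime.ne_top inferInstance)
    rw [hPh, hd] at this
    exact_mod_cast this
  -- the first `h` elements
  have first : ∀ i, i ≤ h → ∃ xs : List A, xs.length = i ∧ (∀ x ∈ xs, x ∈ a ∧ x ∈ J) ∧
      ringKrullDim (A ⧸ Ideal.ofList xs) = ((d - i : ℕ) : WithBot ℕ∞) ∧
      ∀ P' : Ideal A, P'.IsPrime → a ≤ P' → ∀ Q ∈ (Ideal.ofList xs).minimalPrimes, Q ≤ P' → (i : ℕ∞) ≤ Q.height := by
    intro i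
    induction i with
    | zero =>
      intro _
      refine ⟨[], rfl, by simp, ?_, fun _ _ _ _ _ _ => by simp⟩
      rw [Nat.sub_zero, ← hd, Ideal.ofList_nil]
      exact ringKrullDim_eq_of_ringEquiv (RingEquiv.quotientBot A)
    | succ i ih =>
      intro hi
      obtain ⟨xs, hlen, hmem, hdim, hht⟩ := ih (by omega)
      have hb : ∀ Q ∈ (Ideal.ofList xs).minimalPrimes, ¬ Q.IsMaximal → ¬ a ≤ Q := by
        intro Q hQ _ haQ
        haveI := hQ.1.1
        have hspan : Ideal.ofList xs = Ideal.span ((xs.toFinset : Finset A) : Set A) := by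
          simp [Ideal.ofList, List.coe_toFinset]
        rw [hspan] at hQ
        have h1 := (Ideal.height_le_card_of_mem_minimalPrimes_span_finset hQ).trans
          (Nat.cast_le.2 (List.toFinset_card_le xs))
        have h2 : (h : ℕ∞) ≤ Q.height := hh ▸ Ideal.height_mono haQ
        have := h2.trans h1
        rw [hlen, Nat.cast_le] at this
        omega
      obtain ⟨x, hxa, hxJ, hxQ, hx⟩ := step (Ideal.ofList xs) a (d - (i + 1)) (by rw [hdim]; congr 2; omega) hb
      refine ⟨xs ++ [x], by simp [hlen], ?_, ?_, ?_⟩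
      · intro z hz
        rcases List.mem_append.1 hz with hz | hz
        · exact hmem z hz
        · obtain rfl := List.mem_singleton.1 hz; exact ⟨hxa, hxJ⟩
      · rw [Ideal.ofList_append, Ideal.ofList_singleton]; exact hx
      · intro P' hP' haP Q hQ hQP
        rw [Ideal.ofList_append, Ideal.ofList_singleton] at hQ
        haveI := hQ.1.1
        obtain ⟨Q0, hQ0, hQ0Q⟩ := Ideal.exists_minimalPrimes_le (le_sup_left.trans hQ.1.2)
        haveI := hQ0.1.1
        by_cases hmax : Q0.IsMaximal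
        · have e1 : Q0 = P' := hmax.eq_of_le hP'.ne_top (hQ0Q.trans hQP)
          have e2 : Q0 = Q := hmax.eq_of_le (Ideal.IsPrime.ne_top inferInstance) hQ0Q
          rw [← e2, e1]
          exact le_trans (Nat.cast_le.2 (by omega)) (hh ▸ Ideal.height_mono haP)
        · have hlt : Q0 < Q := lt_of_le_of_ne hQ0Q fun he => hxQ Q0 hQ0 hmax
            (he ▸ hQ.1.2 (Ideal.mem_sup_right (Ideal.mem_span_singleton_self x)))
          have h1 := hht P' hP' haP Q0 hQ0 (hQ0Q.trans hQP)
          have h2 := Ideal.height_add_one_le_of_lt_of_isPrime hlt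
          exact le_trans (by rw [Nat.cast_succ]; exact add_le_add h1 le_rfl) h2
  obtain ⟨xs, hlen, hmem, hdim, hht⟩ := first h le_rfl
  -- the remaining elements
  have rest : ∀ k, k ≤ d - h → ∃ ys : List A, ys.length = k ∧ (∀ y ∈ ys, y ∈ J) ∧
      ringKrullDim (A ⧸ Ideal.ofList xs ⊔ Ideal.ofList ys) = ((d - h - k : ℕ) : WithBot ℕ∞) := by
    intro k
    induction k with
    | zero => intro _; exact ⟨[], rfl, by simp, by rw [Ideal.ofList_nil, sup_bot_eq, Nat.sub_zero]; exact hdim⟩
    | succ k ih =>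
      intro hk
      obtain ⟨ys, hl, hm, hdk⟩ := ih (by omega)
      obtain ⟨y, -, hyJ, -, hy⟩ := step (Ideal.ofList xs ⊔ Ideal.ofList ys) ⊤ (d - h - (k + 1))
        (by rw [hdk]; congr 2; omega) (fun Q hQ _ hle => hQ.1.1.ne_top (top_le_iff.1 hle))
      refine ⟨ys ++ [y], by simp [hl], ?_, ?_⟩
      · intro z hz
        rcases List.mem_append.1 hz with hz | hz
        · exact hm z hz
        · obtain rfl := List.mem_singleton.1 hz; exact hyJ
      · rw [Ideal.ofList_append, Ideal.ofList_singleton, ← sup_assoc]; exact hy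
  obtain ⟨ys, hyl, hym, hyd⟩ := rest (d - h) le_rfl
  subst hlen
  refine ⟨fun i => xs.get i, fun i => (hmem _ (List.get_mem _ _)).1, fun i => (hmem _ (List.get_mem _ _)).2, ?_, ?_⟩
  · refine ⟨ys, hym, ?_, ?_⟩
    · rw [hd, hyl, Nat.add_sub_cancel' hhd]; rfl
    · rw [show Ideal.span (Set.range fun i => xs.get i) = Ideal.ofList xs by
        rw [Set.range_list_get]]
      rw [Nat.sub_self, Nat.cast_zero] at hyd
      haveI : Ring.KrullDimLE 0 (A ⧸ Ideal.ofList xs ⊔ Ideal.ofList ys) := Ring.krullDimLE_iff.2 hyd.le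
      haveI : IsArtinianRing (A ⧸ Ideal.ofList xs ⊔ Ideal.ofList ys) :=
        isArtinianRing_iff_krullDimLE_zero.2 inferInstance
      haveI : IsArtinian A (A ⧸ Ideal.ofList xs ⊔ Ideal.ofList ys) :=
        isArtinian_of_surjective_algebraMap (R := A ⧸ Ideal.ofList xs ⊔ Ideal.ofList ys) Ideal.Quotient.mk_surjective
      exact isFiniteLength_iff_isNoetherian_isArtinian.2 ⟨inferInstance, inferInstance⟩
  · rw [show Ideal.span (Set.range fun i => xs.get i) = Ideal.ofList xs by rw [Set.range_list_get]]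
    have hXP : Ideal.ofList xs ≤ P := Ideal.span_le.2 fun z hz => hPa.1.2 (hmem z hz).1
    obtain ⟨Q, hQ, hQP⟩ := Ideal.exists_minimalPrimes_le hXP
    haveI := hQ.1.1
    have hge := hht P inferInstance hPa.1.2 Q hQ hQP
    have hQeq : Q = P := by
      by_contra hne
      have h2 := Ideal.height_add_one_le_of_lt_of_isPrime (lt_of_le_of_ne hQP hne)
      rw [hPh] at h2
      obtain ⟨q, hq⟩ : ∃ q : ℕ, Q.height = q := ⟨_, (ENat.coe_toNat (Ideal.height_ne_top (Ideal.IsPrime.ne_top inferInstance))).symm⟩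
      rw [hq] at hge h2
      norm_cast at hge h2
      omega
    let π := Ideal.Quotient.mk (Ideal.ofList xs)
    have hmin : P.map π ∈ minimalPrimes (A ⧸ Ideal.ofList xs) := by
      rw [hQeq, Ideal.minimalPrimes_eq_comap] at hQ
      obtain ⟨P', hP', rfl⟩ := hQ
      rwa [Ideal.map_comap_of_surjective π Ideal.Quotient.mk_surjective]
    haveI := hmin.1.1
    refine le_antisymm ?_ bot_le
    refine le_trans (Ideal.height_mono (Ideal.map_mono (f := π) hPa.1.2)) ?_
    rw [Ideal.height_eq_zero_iff.2 hmin]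

end Groth.Agent.S5808
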