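import Mathlib
import Mathlib
import Groth.Agent.TorResLib.Basic
import Groth.Agent.FibPdLib.Basic
import Groth.Agent.TorLib.Balance
import Groth.Statements.S5809

set_option autoImplicit false
universe u
open CategoryTheory
open EGA41

namespace Groth.Agent.S5809

/-- Let A be a Noetherian local ring with residue field k, M a finitely generated A-module and n ≥ 0.
For M to have projective dimension at most n it is necessary that Tor^A_i(M, k) = 0 for all i > n,
and it suffices that Tor^A_(n+1)(M, k) = 0. (Tor is written here as the left derived functors of k ⊗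
- evaluated at M, i.e. computed from a projective resolution of M.) -/
theorem result (A : Type u) [CommRing A] [IsLocalRing A]
    [IsNoetherianRing A] (M : Type u) [AddCommGroup M] [Module A M] [Module.Finite A M] (n : ℕ) :
    (HasProjectiveDimensionLT (ModuleCat.of A M) (n + 1) →
        ∀ i : ℕ, n < i → Limits.IsZero (((Tor (ModuleCat.{u} A) i).obj
          (ModuleCat.of A (IsLocalRing.ResidueField A))).obj (ModuleCat.of A M))) ∧
      (Limits.IsZero (((Tor (ModuleCat.{u} A) (n + 1)).obj
          (ModuleCat.of A (IsLocalRing.ResidueField A))).obj (ModuleCat.of A M)) →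
        HasProjectiveDimensionLT (ModuleCat.of A M) (n + 1)) := by
  let bal : ∀ i : ℕ, ((Tor (ModuleCat.{u} A) i).obj (ModuleCat.of A (IsLocalRing.ResidueField A))).obj (ModuleCat.of A M) ≅
      ((Tor (ModuleCat.{u} A) i).obj (ModuleCat.of A M)).obj (ModuleCat.of A (IsLocalRing.ResidueField A)) := fun i =>
    ((Groth.Agent.TorLib.torBalance A i).app _).app _
  refine ⟨fun h i hi => ?_, fun h => ?_⟩
  · have h1 := Groth.Agent.FibPdLib.torDim_of_pdLT (A := A) (B := A) n M h (IsLocalRing.ResidueField A) i hi
    exact Limits.IsZero.of_iso (@ModuleCat.isZero_of_subsingleton _ _ _ h1) (bal i)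
  · exact Groth.Agent.TorResLib.pdLT_of_tor n M (ModuleCat.subsingleton_of_isZero (h.of_iso (bal (n + 1)).symm))

end Groth.Agent.S5809
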