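import Mathlib
import Groth.Agent.HSLib.Dim
import Groth.Agent.AssSupLib.Support
import Groth.Agent.RegLocal.Complete
import Mathlib
import Groth.Statements.S5811

set_option autoImplicit false
universe u
open EGA41

namespace Groth.Agent.S5811
open TensorProduct

/-- Let A be a semi-local Noetherian ring (finitely many maximal ideals) with Jacobson radical r, M a
finitely generated A-module, and write Â and M̂ for the r-adic completions of A and M. Then
dim_Â(M̂) = dim_A(M), the dimension of a module being the Krull dimension of its support. (For M = 0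
both sides are ⊥.) -/
theorem result (A : Type u) [CommRing A] [IsNoetherianRing A]
    [Finite (MaximalSpectrum A)] (M : Type u) [AddCommGroup M] [Module A M] [Module.Finite A M] :
    Module.supportDim (AdicCompletion (Ring.jacobson A) A) (AdicCompletion (Ring.jacobson A) M) =
      Module.supportDim A M := by
  classical
  set J := Ring.jacobson A with hJdef
  have fg := J.fg_of_isNoetherianRing
  set Ah := AdicCompletion J A
  haveI : IsNoetherianRing Ah := Groth.Agent.RegLocal.isNoetherianRing_adicCompletion J fg
  haveI := AdicCompletion.isAdicComplete_self J fg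
  set Jh := J.map (algebraMap A Ah) with hJh
  have hJjac : Jh ≤ Ideal.jacobson ⊥ := IsAdicComplete.le_jacobson_bot _
  let g : Ah →+* A ⧸ J := (AdicCompletion.evalOneₐ J).toRingHom
  have hgsurj : Function.Surjective g := AdicCompletion.evalOneₐ_surjective J
  have hker : RingHom.ker g = Jh := AdicCompletion.ker_evalOneₐ_eq_map J fg
  have hga : ∀ a : A, g (algebraMap A Ah a) = Ideal.Quotient.mk J a := fun a =>
    (AdicCompletion.evalOneₐ J).commutes a
  have hclose : ∀ z : Ah, ∃ a : A, z - algebraMap A Ah a ∈ Jh := fun z => by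
    obtain ⟨a, ha⟩ := Ideal.Quotient.mk_surjective (g z)
    exact ⟨a, hker ▸ (RingHom.mem_ker).2 (by rw [map_sub, hga, ha, sub_self])⟩
  let e := AdicCompletion.ofTensorProductEquivOfFiniteNoetherian J M
  rw [← Module.supportDim_eq_of_equiv e]
  have hsupp : ∀ Q : PrimeSpectrum Ah, Q ∈ Module.support Ah (Ah ⊗[A] M) ↔
      PrimeSpectrum.comap (algebraMap A Ah) Q ∈ Module.support A M := fun Q => by
    rw [Groth.Agent.AssSupLib.support_baseChange, Module.mem_support_iff_of_finite,
      PrimeSpectrum.mem_zeroLocus, SetLike.coe_subset_coe, Ideal.map_le_iff_le_comap]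
    rfl
  rcases subsingleton_or_nontrivial M with hM | hM
  · rw [Module.supportDim_eq_bot_of_subsingleton, Module.supportDim_eq_bot_of_subsingleton]
  obtain ⟨d, hd⟩ : ∃ d : ℕ, Module.supportDim A M = (d : WithBot ℕ∞) := by
    have h1 := Module.supportDim_ne_bot_of_nontrivial A M
    have h2 : Module.supportDim A M < ⊤ := by
      obtain ⟨k, v, hv⟩ := Submodule.fg_iff_exists_fin_generating_family.1 fg
      refine (HSLib.supportDim_le_of_params k M v (fun i => ?_) fun p _ hle => ?_).trans_lt
        (WithBot.coe_lt_coe.2 (ENat.natCast_lt_top k))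
      · show v i ∈ J
        rw [← hv]
        exact Submodule.subset_span ⟨i, rfl⟩
      · exact HSLib.isMaximal_of_jacobson_le p.asIdeal (le_trans (le_of_eq hv.symm) hle)
    obtain ⟨a, ha⟩ := WithBot.ne_bot_iff_exists.1 h1
    rw [← ha] at h2 ⊢
    induction a using ENat.recTopCoe with
    | top => exact absurd h2 (lt_irrefl _)
    | coe b => exact ⟨b, rfl⟩
  rw [hd]
  refine le_antisymm ?_ ?_
  · obtain ⟨x, hx, hx'⟩ := HSLib.exists_params d M hd.le
    refine HSLib.supportDim_le_of_params d _ (fun i => algebraMap A Ah (x i)) (fun i => ?_) fun Q hQ hle => ?_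
    · rw [← Ideal.jacobson_bot]
      exact hJjac (Ideal.mem_map_of_mem _ (hx i))
    · have hp := hx' _ ((hsupp Q).1 hQ) (Ideal.span_le.2 (by
        rintro _ ⟨i, rfl⟩
        exact hle (Ideal.subset_span ⟨i, rfl⟩)))
      have hJp : J ≤ Q.asIdeal.comap (algebraMap A Ah) :=
        (Ideal.jacobson_bot (R := A)).ge.trans (sInf_le ⟨bot_le, hp⟩)
      have hsurj : Function.Surjective ((Ideal.Quotient.mk Q.asIdeal).comp (algebraMap A Ah)) := fun z => by
        obtain ⟨z, rfl⟩ := Ideal.Quotient.mk_surjective z
        obtain ⟨a, ha⟩ := hclose z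
        exact ⟨a, (Ideal.Quotient.eq.2 (Ideal.map_le_iff_le_comap.2 hJp ha)).symm⟩
      haveI : (RingHom.ker ((Ideal.Quotient.mk Q.asIdeal).comp (algebraMap A Ah))).IsMaximal := by
        rw [← RingHom.comap_ker, Ideal.mk_ker]
        exact hp
      exact Ideal.Quotient.maximal_of_isField _
        ((RingHom.quotientKerEquivOfSurjective hsurj).symm.toMulEquiv.isField
          ((Ideal.Quotient.maximal_ideal_iff_isField_quotient _).1 this))
  · obtain ⟨l, hl, hlen⟩ : ∃ l : LTSeries (PrimeSpectrum A), l.head ∈ Module.support A M ∧ l.length = d := by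
      by_contra hc
      push Not at hc
      have hle : ∀ l : LTSeries (PrimeSpectrum A), l.head ∈ Module.support A M → l.length ≤ d :=
        HSLib.supportDim_le_iff.1 hd.le
      rcases Nat.eq_zero_or_pos d with h0 | hpos
      · obtain ⟨p, hp⟩ := Module.nonempty_support_of_nontrivial (R := A) (M := M)
        exact hc (RelSeries.singleton _ p) (by simpa using hp) (by simp [h0])
      · have h3 : Module.supportDim A M ≤ ((d - 1 : ℕ) : WithBot ℕ∞) :=
          HSLib.supportDim_le_iff.2 fun l hl => by
            have := hle l hl; have := hc l hl; omega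
        rw [hd] at h3
        norm_cast at h3
        omega
    obtain ⟨n, hn, hln⟩ := Ideal.exists_le_maximal l.last.asIdeal l.last.isPrime.ne_top
    have hJn : J ≤ n := (Ideal.jacobson_bot (R := A)).ge.trans (sInf_le ⟨bot_le, hn⟩)
    haveI := hn
    have hNmax := AdicCompletion.isMaximal_map_of_le J n hJn fg
    haveI := hNmax
    haveI : (n.map (algebraMap A Ah)).LiesOver n :=
      ⟨(hn.eq_of_le (Ideal.IsPrime.comap (hK := hNmax.isPrime) _).ne_top Ideal.le_comap_map)⟩
    haveI : Algebra.HasGoingDown A Ah := Algebra.HasGoingDown.of_flat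
    obtain ⟨Q, hQle, hQp, hQover⟩ :=
      Ideal.exists_ideal_le_liesOver_of_le (n.map (algebraMap A Ah)) hln
    haveI := hQp
    obtain ⟨L, hLlen, -, hLmap⟩ := Ideal.exists_ltSeries_of_hasGoingDown l Q
    have hhead : PrimeSpectrum.comap (algebraMap A Ah) L.head = l.head := by
      rw [← L.toList_getElem_zero_eq_head, ← l.toList_getElem_zero_eq_head,
        List.getElem_of_eq hLmap.symm _, List.getElem_map]
    have := HSLib.le_supportDim_of_chain (M := Ah ⊗[A] M) L ((hsupp _).2 (hhead ▸ hl))
    rwa [hLlen, hlen] at this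

end Groth.Agent.S5811
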