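import Mathlib
import Groth.Agent.ExalLib.Basic
import Groth.Statements.S5813

set_option autoImplicit false
universe u
open EGA41

namespace Groth.Agent.S5813

/-- Injectivity, commutative form. Let J be an ideal of the commutative ring B, C = B ⧸ J, M a C-module.
Two B-extensions of C by M whose induced linear maps J/J² → M (obtained from the restriction to J of
the structure map B → E) coincide are equivalent. -/
theorem result {B : Type u} [CommRing B] (J : Ideal B)
    {M : Type u} [AddCommGroup M] [Module (B ⧸ J) M] [Module B M] [IsScalarTower B (B ⧸ J) M]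
    (X Y : Exal.Ext B (B ⧸ J) M) (h : X.conormalMap J = Y.conormalMap J) :
    Nonempty (X.Equiv Y) := by
  have hker : ∀ (Z : Exal.Ext B (B ⧸ J) M) (z : J),
      Z.incl (Z.conormalMap J (J.toCotangent z)) = algebraMap B Z.E z := fun Z z => Z.incl_kerLift _ (Z.proj_algebraMap_eq_zero J z)
  have hproj : ∀ (Z : Exal.Ext B (B ⧸ J) M) (b : B), Z.proj (algebraMap B Z.E b) = Ideal.Quotient.mk J b :=
    fun Z b => Z.proj.commutes b
  have hrep : ∀ x : X.E, ∃ p : B × M, x = algebraMap B X.E p.1 + X.incl p.2 := fun x => by
    obtain ⟨b, hb⟩ := Ideal.Quotient.mk_surjective (X.proj x)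
    obtain ⟨m, hm⟩ := ExalLib.exists_eq_add_incl X (x := x) (y := algebraMap B X.E b) (by rw [hproj, hb])
    exact ⟨(b, m), hm⟩
  choose r hr using hrep
  let φ : X.E → Y.E := fun x => algebraMap B Y.E (r x).1 + Y.incl (r x).2
  have hwd : ∀ x b m, x = algebraMap B X.E b + X.incl m → φ x = algebraMap B Y.E b + Y.incl m := by
    intro x b m hx
    have h1 := (hr x).symm.trans hx
    have hJ : (r x).1 - b ∈ J := by
      rw [← Ideal.Quotient.eq, ← hproj X, ← hproj X]
      simpa [ExalLib.proj_incl] using congrArg X.proj h1
    have h2 := hker X ⟨_, hJ⟩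
    have h3 : X.conormalMap J (J.toCotangent ⟨_, hJ⟩) = m - (r x).2 := X.isExtension.incl_injective (by
      rw [h2, map_sub, map_sub]; linear_combination h1)
    have h4 := hker Y ⟨_, hJ⟩
    rw [← h, h3, map_sub, map_sub] at h4
    show algebraMap B Y.E (r x).1 + Y.incl (r x).2 = _
    linear_combination -h4
  have halg : ∀ b, φ (algebraMap B X.E b) = algebraMap B Y.E b := fun b => by
    rw [hwd _ b 0 (by rw [map_zero, add_zero]), map_zero, add_zero]
  let Φ : X.E →ₐ[B] Y.E :=
    { toFun := φ
      map_one' := by rw [← map_one (algebraMap B X.E), halg, map_one]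
      map_zero' := by rw [← map_zero (algebraMap B X.E), halg, map_zero]
      map_add' := fun x y => by
        rw [hwd (x + y) ((r x).1 + (r y).1) ((r x).2 + (r y).2) (by
          rw [map_add, map_add]; linear_combination hr x + hr y)]
        show _ = (algebraMap B Y.E (r x).1 + Y.incl (r x).2) + (algebraMap B Y.E (r y).1 + Y.incl (r y).2)
        rw [map_add, map_add]; ring
      map_mul' := fun x y => by
        rw [hwd (x * y) ((r x).1 * (r y).1)
          (Ideal.Quotient.mk J (r x).1 • (r y).2 + Ideal.Quotient.mk J (r y).1 • (r x).2) (by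
            conv_lhs => rw [hr x, hr y]
            rw [ExalLib.add_incl_mul_add_incl, hproj, hproj, map_mul])]
        show _ = (algebraMap B Y.E (r x).1 + Y.incl (r x).2) * (algebraMap B Y.E (r y).1 + Y.incl (r y).2)
        rw [ExalLib.add_incl_mul_add_incl, hproj, hproj, map_mul]
      commutes' := halg }
  refine ExalLib.nonempty_equiv X Y Φ (fun x => ?_) fun z => ?_
  · show Y.proj (algebraMap B Y.E (r x).1 + Y.incl (r x).2) = _
    conv_rhs => rw [hr x]
    rw [map_add, map_add, hproj, hproj, ExalLib.proj_incl, ExalLib.proj_incl]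
  · show φ _ = _
    rw [hwd _ 0 z (by rw [map_zero, zero_add]), map_zero, zero_add]

end Groth.Agent.S5813
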