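import Mathlib
import Groth.Agent.ExalLib.Basic
import Groth.Statements.S5814

set_option autoImplicit false
universe u
open EGA41

namespace Groth.Agent.S5814

/-- Surjectivity, commutative form. Let J be an ideal of the commutative ring B, C = B ⧸ J, M a
C-module. Every linear map w : J/J² → M arises from a B-extension of C by M: there is an extension
whose induced map J/J² → M is w. Together with the injectivity statement this is the canonical
bijection between Hom_C(J/J², M) and the classes of B-extensions of C by M. -/
theorem result {B : Type u} [CommRing B] (J : Ideal B)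
    {M : Type u} [AddCommGroup M] [Module (B ⧸ J) M] [Module B M] [IsScalarTower B (B ⧸ J) M]
    (w : J.Cotangent →ₗ[B] M) :
    ∃ X : Exal.Ext B (B ⧸ J) M, X.conormalMap J = w := by
  let T := Exal.Ext.trivial B B M
  have hT : ∀ b, T.proj (algebraMap B T.E b) = b := fun b => T.proj.commutes b
  have hinlr : ∀ x : T.E, ∃ m, x = algebraMap B T.E (T.proj x) + T.incl m :=
    fun x => ExalLib.exists_eq_add_incl T (by rw [hT])
  let K : Ideal T.E :=
    { carrier := {x | ∃ j : J, x = algebraMap B T.E j + T.incl (-w (J.toCotangent j))}
      zero_mem' := ⟨0, by simp⟩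
      add_mem' := by
        rintro _ _ ⟨i, rfl⟩ ⟨j, rfl⟩
        exact ⟨i + j, by rw [map_add, map_add, neg_add, map_add, Submodule.coe_add, map_add]; ring⟩
      smul_mem' := by
        rintro c _ ⟨j, rfl⟩
        obtain ⟨m, hm⟩ := hinlr c
        refine ⟨T.proj c • j, ?_⟩
        have hj : ∀ m : M, (j : B) • m = 0 := fun m => by
          rw [← algebraMap_smul (B ⧸ J) (j : B) m, Ideal.Quotient.algebraMap_eq,
            Ideal.Quotient.eq_zero_iff_mem.2 j.2, zero_smul]
        rw [smul_eq_mul]
        conv_lhs => rw [hm]
        rw [ExalLib.add_incl_mul_add_incl, hT, hT, hj m, add_zero, ← map_mul, smul_neg, ← map_smul w, ← map_smul]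
        rfl }
  let q : T.E →ₐ[B] T.E ⧸ K := Ideal.Quotient.mkₐ B K
  have hK : ∀ x ∈ K, (Ideal.Quotient.mkₐ B J).comp T.proj x = 0 := by
    rintro _ ⟨j, rfl⟩
    rw [AlgHom.comp_apply, map_add, hT, ExalLib.proj_incl, add_zero]
    exact Ideal.Quotient.eq_zero_iff_mem.2 j.2
  let X : Exal.Ext B (B ⧸ J) M :=
    { E := T.E ⧸ K
      proj := Ideal.Quotient.liftₐ K ((Ideal.Quotient.mkₐ B J).comp T.proj) hK
      incl := q.toRingHom.toAddMonoidHom.comp T.incl
      isExtension :=
        { proj_surjective := fun b => by
            obtain ⟨b, rfl⟩ := Ideal.Quotient.mk_surjective b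
            exact ⟨q (algebraMap B T.E b), congrArg (Ideal.Quotient.mk J) (hT b)⟩
          incl_injective := (injective_iff_map_eq_zero _).2 fun z hz => by
            obtain ⟨j, hj⟩ := Ideal.Quotient.eq_zero_iff_mem.1 hz
            have h0 : (j : B) = 0 := by simpa [hT, ExalLib.proj_incl] using (congrArg T.proj hj).symm
            have : j = 0 := Subtype.ext h0
            subst this
            exact T.isExtension.incl_injective (by simpa using hj)
          exact := fun x => by
            obtain ⟨x, rfl⟩ := Ideal.Quotient.mk_surjective x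
            constructor
            · intro hx
              have hx' : T.proj x ∈ J := Ideal.Quotient.eq_zero_iff_mem.1 hx
              obtain ⟨m, hm⟩ := hinlr x
              refine ⟨m + w (J.toCotangent ⟨_, hx'⟩), Ideal.Quotient.eq.2 ?_⟩
              refine ⟨-(⟨_, hx'⟩ : J), ?_⟩
              simp only [map_add, map_neg, Submodule.coe_neg, neg_neg]
              linear_combination -hm
            · rintro ⟨z, hz⟩
              rw [← hz]
              show Ideal.Quotient.mk J (T.proj (T.incl z)) = 0
              rw [ExalLib.proj_incl, map_zero]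
          mul_incl := fun x z => by
            obtain ⟨x, rfl⟩ := Ideal.Quotient.mk_surjective x
            show Ideal.Quotient.mk K x * Ideal.Quotient.mk K (T.incl z) = Ideal.Quotient.mk K (T.incl (Ideal.Quotient.mk J (T.proj x) • z))
            rw [← map_mul, T.isExtension.mul_incl, ← Ideal.Quotient.algebraMap_eq J, algebraMap_smul] } }
  refine ⟨X, LinearMap.ext fun c => ?_⟩
  obtain ⟨j, rfl⟩ := J.toCotangent_surjective c
  refine X.isExtension.incl_injective ((X.incl_kerLift _ (X.proj_algebraMap_eq_zero J j)).trans ?_)
  show Ideal.Quotient.mk K (algebraMap B T.E j) = Ideal.Quotient.mk K (T.incl (w (J.toCotangent j)))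
  exact Ideal.Quotient.eq.2 ⟨j, by rw [map_neg]; ring⟩

end Groth.Agent.S5814
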