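import Mathlib
import Groth.Agent.ExalLib.Basic
import Groth.Statements.S5815

set_option autoImplicit false
universe u
open EGA41

namespace Groth.Agent.S5815

/-- Discrete case. A commutative A-algebra B is formally smooth if and only if every A-extension of B by
a B-module L is trivial (has an A-algebra section). A and B are taken in one universe and L ranges
over that universe. (The published statement is for topological rings, with direct-limit classes of
extensions; this row is its discrete case.) -/
theorem result (A B : Type u) [CommRing A] [CommRing B] [Algebra A B] :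
    Algebra.FormallySmooth A B ↔
      ∀ (L : Type u) [AddCommGroup L] [Module B L] (X : Exal.Ext A B L), X.IsTrivial := by
  constructor
  · intro h L _ _ X
    have hnil : IsNilpotent (RingHom.ker X.proj.toRingHom) := ⟨2, by
      rw [Ideal.zero_eq_bot, eq_bot_iff, pow_two, Ideal.mul_le]
      exact fun x hx y hy => Ideal.mem_bot.2 (ExalLib.mul_of_proj_eq_zero X hx hy)⟩
    exact ⟨Algebra.FormallySmooth.liftOfSurjective (AlgHom.id A B) X.proj X.isExtension.proj_surjective hnil,
      fun b => Algebra.FormallySmooth.liftOfSurjective_apply (AlgHom.id A B) X.proj _ hnil b⟩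
  · intro h
    let P := MvPolynomial B A
    let f : P →ₐ[A] B := MvPolynomial.aeval id
    have hf : Function.Surjective f := fun b => ⟨MvPolynomial.X b, MvPolynomial.aeval_X _ b⟩
    let g := f.kerSquareLift
    have hg : Function.Surjective g := fun b => by
      obtain ⟨p, rfl⟩ := hf b
      exact ⟨Ideal.Quotient.mk _ p, rfl⟩
    have hsq : ∀ x y, g x = 0 → g y = 0 → x * y = 0 := fun x y hx hy => by
      obtain ⟨x, rfl⟩ := Ideal.Quotient.mk_surjective x
      obtain ⟨y, rfl⟩ := Ideal.Quotient.mk_surjective y
      rw [← map_mul, Ideal.Quotient.eq_zero_iff_mem, pow_two]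
      exact Ideal.mul_mem_mul hx hy
    obtain ⟨s, hs⟩ := h _ (ExalLib.sqExt g hg hsq)
    exact Algebra.FormallySmooth.of_split f s (AlgHom.ext hs)

end Groth.Agent.S5815
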