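import Mathlib
import Groth.Agent.ExalLib.Basic
import Groth.Statements.S5816

set_option autoImplicit false
universe u
open EGA41

namespace Groth.Agent.S5816

/-- Discrete case. For ring maps Λ → A → B, B is formally smooth over A relative to Λ (square-zero test
ideals) if and only if every A-extension of B by a B-module L which is Λ-trivial is A-trivial. Λ, A,
B are taken in one universe and L ranges over it. (The published statement is for topological rings;
this row is its discrete case.) -/
theorem result (Λ A B : Type u) [CommRing Λ]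
    [CommRing A] [CommRing B] [Algebra Λ A] [Algebra Λ B] [Algebra A B] [IsScalarTower Λ A B] :
    EGA41.IsFormallySmoothRel Λ A B ↔
      ∀ (L : Type u) [AddCommGroup L] [Module B L] (X : Exal.Ext A B L),
        X.IsTrivialOver Λ → X.IsTrivial := by
  constructor
  · intro h L _ _ X hX
    obtain ⟨s, hs⟩ := hX
    letI : Algebra Λ X.E := ((algebraMap A X.E).comp (algebraMap Λ A)).toAlgebra
    haveI : IsScalarTower Λ A X.E := IsScalarTower.of_algebraMap_eq fun _ => rfl
    let e := Ideal.quotientKerAlgEquivOfSurjective (f := X.proj) X.isExtension.proj_surjective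
    have he : ∀ x, e.symm (X.proj x) = Ideal.Quotient.mk _ x := fun x => e.injective (by rw [e.apply_symm_apply]; rfl)
    have hsq : RingHom.ker X.proj ^ 2 = ⊥ := by
      rw [eq_bot_iff, pow_two, Ideal.mul_le]
      exact fun x hx y hy => Ideal.mem_bot.2 (ExalLib.mul_of_proj_eq_zero X hx hy)
    let s' : B →ₐ[Λ] X.E :=
      { toFun := fun b => s b
        map_one' := map_one s
        map_mul' := map_mul s
        map_zero' := map_zero s
        map_add' := map_add s
        commutes' := fun l => s.commutes l }
    obtain ⟨v, hv⟩ := h X.E (RingHom.ker X.proj) hsq e.symm.toAlgHom ⟨s', AlgHom.ext fun b => by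
      show Ideal.Quotient.mk _ (s b) = e.symm b
      exact ((he (s b)).symm).trans (congrArg e.symm (hs b))⟩
    refine ⟨v, fun b => ?_⟩
    have := congrArg e (AlgHom.congr_fun hv b)
    exact this.trans (e.apply_symm_apply b)
  · intro h C _ _ _ _ J hJ u₀ ⟨u, hu⟩
    let P : Subalgebra A (C × B) :=
      AlgHom.equalizer ((Ideal.Quotient.mkₐ A J).comp (AlgHom.fst A C B)) (u₀.comp (AlgHom.snd A C B))
    let f : P →ₐ[A] B := (AlgHom.snd A C B).comp P.val
    have hf : Function.Surjective f := fun b => ⟨⟨(u b, b), AlgHom.congr_fun hu b⟩, rfl⟩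
    have hmemJ : ∀ x : P, f x = 0 → (x : C × B).1 ∈ J := fun x hx => by
      refine Ideal.Quotient.eq_zero_iff_mem.1 ?_
      have h2 : Ideal.Quotient.mk J (x : C × B).1 = u₀ (f x) := x.2
      rw [h2, hx, map_zero]
    have hsq : ∀ x y, f x = 0 → f y = 0 → x * y = 0 := fun x y hx hy => by
      refine Subtype.ext (Prod.ext ?_ ?_)
      · show (x : C × B).1 * (y : C × B).1 = 0
        rw [← Ideal.mem_bot, ← hJ, pow_two]
        exact Ideal.mul_mem_mul (hmemJ x hx) (hmemJ y hy)
      · show f x * f y = 0
        rw [hx, zero_mul]
    let X := ExalLib.sqExt f hf hsq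
    have hX : X.IsTrivialOver Λ := by
      refine ⟨{ toFun := fun b => (⟨(u b, b), AlgHom.congr_fun hu b⟩ : P)
                map_one' := Subtype.ext (Prod.ext (map_one u) rfl)
                map_mul' := fun _ _ => Subtype.ext (Prod.ext (map_mul u _ _) rfl)
                map_zero' := Subtype.ext (Prod.ext (map_zero u) rfl)
                map_add' := fun _ _ => Subtype.ext (Prod.ext (map_add u _ _) rfl)
                commutes' := fun l => Subtype.ext (Prod.ext
                  ((u.commutes l).trans (IsScalarTower.algebraMap_apply Λ A C l))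
                  (IsScalarTower.algebraMap_apply Λ A B l)) }, fun b => rfl⟩
    obtain ⟨s, hs⟩ := h _ X hX
    refine ⟨((AlgHom.fst A C B).comp P.val).comp s, AlgHom.ext fun b => ?_⟩
    have h2 : Ideal.Quotient.mk J (P.val (s b)).1 = u₀ (f (s b)) := (show P from s b).2
    exact h2.trans (congrArg u₀ (hs b))

end Groth.Agent.S5816
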