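import Mathlib
import Groth.Agent.ExalLib.Basic
import Groth.Statements.S5817

set_option autoImplicit false
universe u v
open EGA41
attribute [local instance] Exal.opModule Exal.isCentralScalar_opModule

namespace Groth.Agent.S5817

/-- Commutative rings, exactness at Der_A(B, L). For ring maps A → B → C and a C-module L, the
B-extension of C by L attached to an A-derivation D : B → L (middle ring C ⊕ L, made a B-algebra
through x ↦ (x, D x)) is trivial if and only if D is the composite of B → C with an A-derivation C →
L. -/
theorem result {A : Type u} {B C L : Type v} [CommRing A] [CommRing B] [CommRing C]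
    [Algebra A B] [Algebra B C] [Algebra A C] [IsScalarTower A B C]
    [AddCommGroup L] [Module C L] [Module B L] [IsScalarTower B C L] [Module A L] [IsScalarTower A B L]
    [IsScalarTower A C L]
    (D : Derivation A B L) :
    (Exal.Ext.ofDerivation (C := C) D).IsTrivial ↔
      ∃ D' : Derivation A C L, D'.compAlgebraMap B = D := by
  constructor
  · rintro ⟨s, hs⟩
    let T := Exal.Ext.ofDerivation (C := C) D
    let sn : T.E → L := fun x => TrivSqZeroExt.snd x
    refine ⟨Derivation.mk' { toFun := fun c => sn (s c), map_add' := fun x y => ?_, map_smul' := fun a x => ?_ }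
      fun x y => ?_, Derivation.ext fun b => ?_⟩
    · rw [map_add]; rfl
    · rw [RingHom.id_apply]
      rw [show a • x = algebraMap B C (algebraMap A B a) * x by
        rw [← IsScalarTower.algebraMap_apply, Algebra.smul_def], map_mul, s.commutes]
      show TrivSqZeroExt.fst (algebraMap B T.E (algebraMap A B a)) • sn (s x) +
        MulOpposite.op (T.proj (s x)) • TrivSqZeroExt.snd (algebraMap B T.E (algebraMap A B a)) = a • sn (s x)
      have h1 : TrivSqZeroExt.snd (algebraMap B T.E (algebraMap A B a)) = 0 :=
        (TrivSqZeroExt.snd_add _ _).trans (by simp)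
      rw [h1, smul_zero, add_zero, show TrivSqZeroExt.fst (algebraMap B T.E (algebraMap A B a)) =
        algebraMap B C (algebraMap A B a) from T.proj.commutes _, algebraMap_smul, algebraMap_smul]
    · show sn (s (x * y)) = x • sn (s y) + y • sn (s x)
      rw [map_mul]
      show TrivSqZeroExt.fst (s x) • sn (s y) + MulOpposite.op (TrivSqZeroExt.fst (s y)) • sn (s x) = _
      rw [show TrivSqZeroExt.fst (s x) = x from hs x, show TrivSqZeroExt.fst (s y) = y from hs y]
      rfl
    · show sn (s (algebraMap B C b)) = D b
      rw [s.commutes]
      exact (TrivSqZeroExt.snd_add _ _).trans (by simp)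
  · rintro ⟨D', rfl⟩
    let T := Exal.Ext.ofDerivation (C := C) (D'.compAlgebraMap B)
    let σ : C → T.E := fun c => ((c, D' c) : C × L)
    refine ⟨{ toFun := σ, map_one' := ?_, map_mul' := fun x y => ?_, map_zero' := ?_, map_add' := fun x y => ?_,
              commutes' := fun b => ?_ }, fun c => rfl⟩
    · exact TrivSqZeroExt.ext rfl D'.map_one_eq_zero
    · refine TrivSqZeroExt.ext rfl ?_
      show D' (x * y) = x • D' y + MulOpposite.op y • D' x
      rw [Derivation.leibniz]
      rfl
    · exact TrivSqZeroExt.ext rfl (map_zero D')
    · exact TrivSqZeroExt.ext rfl (map_add D' x y)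
    · refine TrivSqZeroExt.ext ?_ ?_
      · show algebraMap B C b = algebraMap B C b + 0
        rw [add_zero]
      · show D' (algebraMap B C b) = 0 + D'.compAlgebraMap B b
        rw [zero_add]
        rfl

end Groth.Agent.S5817
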