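import Mathlib
import Groth.Agent.ExalLib.Basic
import Groth.Statements.S5818

set_option autoImplicit false
universe u v
open EGA41
attribute [local instance] Exal.opModule Exal.isCentralScalar_opModule

namespace Groth.Agent.S5818

/-- Commutative rings, exactness at Exalcom_B(C, L) on underlying pointed sets. For ring maps A → B → C
and a C-module L, a B-extension of C by L is A-trivial if and only if it is equivalent to the
extension attached to some A-derivation B → L. -/
theorem result {A : Type u} {B C L : Type v} [CommRing A] [CommRing B] [CommRing C]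
    [Algebra A B] [Algebra B C] [Algebra A C] [IsScalarTower A B C]
    [AddCommGroup L] [Module C L] [Module B L] [IsScalarTower B C L] [Module A L] [IsScalarTower A B L]
    [IsScalarTower A C L]
    (X : Exal.Ext B C L) :
    X.IsTrivialOver A ↔
      ∃ D : Derivation A B L, Nonempty (X.Equiv (Exal.Ext.ofDerivation (C := C) D)) := by
  constructor
  · rintro ⟨s, hs⟩
    let σ : C → X.E := fun c => s c
    have hσa : ∀ a, σ (algebraMap A C a) = algebraMap B X.E (algebraMap A B a) := fun a => s.commutes a
    have hσ0 : σ 0 = 0 := map_zero s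
    have hσ1 : σ 1 = 1 := map_one s
    have hσadd : ∀ x y, σ (x + y) = σ x + σ y := map_add s
    have hσmul : ∀ x y, σ (x * y) = σ x * σ y := map_mul s
    have hσp : ∀ c, X.proj (σ c) = c := hs
    have hd : ∀ b, X.proj (algebraMap B X.E b - σ (algebraMap B C b)) = 0 := fun b => by
      rw [map_sub, X.proj.commutes, hσp, sub_self]
    let d : B → L := fun b => X.kerLift _ (hd b)
    have hdi : ∀ b, X.incl (d b) = algebraMap B X.E b - σ (algebraMap B C b) := fun b => X.incl_kerLift _ _
    have hadd : ∀ x y, d (x + y) = d x + d y := fun x y => X.isExtension.incl_injective (by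
      rw [map_add, hdi, hdi, hdi, map_add, map_add, hσadd]; ring)
    have hmulσ : ∀ (c : C) (z : L), σ c * X.incl z = X.incl (c • z) := fun c z => by
      rw [X.isExtension.mul_incl, hσp]
    have hleib : ∀ x y, d (x * y) = x • d y + y • d x := fun x y => X.isExtension.incl_injective (by
      rw [map_add, ← algebraMap_smul C x (d y), ← algebraMap_smul C y (d x), ← hmulσ, ← hmulσ, hdi, hdi, hdi,
        map_mul, map_mul, hσmul]
      have h0 := ExalLib.mul_of_proj_eq_zero X (hd x) (hd y)
      linear_combination h0)
    have hA : ∀ a : A, d (algebraMap A B a) = 0 := fun a => X.isExtension.incl_injective (by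
      rw [map_zero, hdi, ← IsScalarTower.algebraMap_apply A B C, hσa, sub_self])
    let D : Derivation A B L := Derivation.mk'
      { toFun := d
        map_add' := hadd
        map_smul' := fun a x => by
          rw [RingHom.id_apply, Algebra.smul_def, hleib, hA, smul_zero, add_zero, algebraMap_smul] } hleib
    let T := Exal.Ext.ofDerivation (C := C) D
    let φ : T.E → X.E := fun p => σ (TrivSqZeroExt.fst p) + X.incl (TrivSqZeroExt.snd p)
    refine ⟨D, (ExalLib.nonempty_equiv T X
      { toFun := φ, map_one' := ?_, map_mul' := fun p q => ?_, map_zero' := ?_, map_add' := fun p q => ?_,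
        commutes' := fun b => ?_ } (fun p => ?_) fun z => ?_).map fun e => e.symm⟩
    · show σ 1 + X.incl 0 = 1
      rw [hσ1, map_zero, add_zero]
    · show σ (TrivSqZeroExt.fst p * TrivSqZeroExt.fst q) + X.incl (TrivSqZeroExt.fst p • TrivSqZeroExt.snd q +
        MulOpposite.op (TrivSqZeroExt.fst q) • TrivSqZeroExt.snd p) = φ p * φ q
      rw [ExalLib.add_incl_mul_add_incl, hσp, hσp, hσmul]
      rfl
    · show σ 0 + X.incl 0 = 0
      rw [hσ0, map_zero, add_zero]
    · show σ (TrivSqZeroExt.fst p + TrivSqZeroExt.fst q) + X.incl (TrivSqZeroExt.snd p + TrivSqZeroExt.snd q) = _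
      rw [hσadd, map_add]
      show _ = (σ (TrivSqZeroExt.fst p) + X.incl (TrivSqZeroExt.snd p)) + (σ (TrivSqZeroExt.fst q) + X.incl (TrivSqZeroExt.snd q))
      abel
    · show σ (algebraMap B C b + 0) + X.incl (0 + d b) = algebraMap B X.E b
      rw [add_zero, zero_add, hdi, add_sub_cancel]
    · show X.proj (σ _ + X.incl _) = _
      rw [map_add, hσp, ExalLib.proj_incl, add_zero]
      rfl
    · show σ 0 + X.incl z = X.incl z
      rw [hσ0, zero_add]
  · rintro ⟨D, ⟨e⟩⟩
    let T := Exal.Ext.ofDerivation (C := C) D
    let i : C → T.E := fun c => (TrivSqZeroExt.inl c : TrivSqZeroExt C L)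
    refine ⟨{ toFun := fun c => e.toAlgEquiv.symm (i c)
              map_one' := (congrArg e.toAlgEquiv.symm (show i 1 = 1 from rfl)).trans (map_one e.toAlgEquiv.symm)
              map_mul' := fun x y => (congrArg e.toAlgEquiv.symm
                (show i (x * y) = i x * i y from TrivSqZeroExt.inl_mul L x y)).trans (map_mul e.toAlgEquiv.symm _ _)
              map_zero' := (congrArg e.toAlgEquiv.symm (show i 0 = 0 from rfl)).trans (map_zero e.toAlgEquiv.symm)
              map_add' := fun x y => (congrArg e.toAlgEquiv.symm
                (show i (x + y) = i x + i y from TrivSqZeroExt.inl_add L x y)).trans (map_add e.toAlgEquiv.symm _ _)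
              commutes' := fun a => ?_ }, fun c => ?_⟩
    · show e.toAlgEquiv.symm (i (algebraMap A C a)) = algebraMap B X.E (algebraMap A B a)
      rw [← e.toAlgEquiv.symm.commutes (algebraMap A B a)]
      congr 1
      refine TrivSqZeroExt.ext ?_ ?_
      · show algebraMap A C a = algebraMap B C (algebraMap A B a) + 0
        rw [add_zero, ← IsScalarTower.algebraMap_apply]
      · show (0 : L) = 0 + D (algebraMap A B a)
        rw [zero_add, D.map_algebraMap]
    · show X.proj (e.toAlgEquiv.symm (i c)) = c
      exact e.symm.proj_apply (i c)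

end Groth.Agent.S5818
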