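import Mathlib
import Groth.Agent.ExalLib.Basic
import Groth.Statements.S5819

set_option autoImplicit false
universe u v
open EGA41

namespace Groth.Agent.S5819

/-- Commutative rings, exactness at Exalcom_A(C, L) on underlying pointed sets. For ring maps A → B → C
and a C-module L, an A-extension Y of C by L pulls back to a trivial A-extension of B if and only if
Y is equivalent to some B-extension of C by L viewed as an A-extension. -/
theorem result {A : Type u} {B C L : Type v} [CommRing A]
    [CommRing B] [CommRing C] [Algebra A B] [Algebra B C] [Algebra A C] [IsScalarTower A B C]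
    [AddCommGroup L] [Module C L] [Module B L] [IsScalarTower B C L]
    (Y : Exal.Ext A C L) :
    (Y.pullback B).IsTrivial ↔
      ∃ X : Exal.Ext B C L, Nonempty ((X.restrictBase A).Equiv Y) := by
  constructor
  · rintro ⟨s, hs⟩
    let σ : B →ₐ[A] Y.E := ((AlgHom.fst A Y.E B).comp (Y.fiberProd B).val).comp s
    have hσ : ∀ b, Y.proj (σ b) = algebraMap B C b := fun b => by
      have h2 : Y.proj (σ b) = algebraMap B C ((s b).1.2) := (s b).2
      rw [h2]
      exact congrArg _ (hs b)
    letI algσ : Algebra B Y.E := σ.toRingHom.toAlgebra
    let X : Exal.Ext B C L :=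
      { E := Y.E
        proj := { Y.proj.toRingHom with commutes' := hσ }
        incl := Y.incl
        isExtension :=
          { proj_surjective := Y.isExtension.proj_surjective
            incl_injective := Y.isExtension.incl_injective
            exact := Y.isExtension.exact
            mul_incl := Y.isExtension.mul_incl } }
    exact ⟨X, ExalLib.nonempty_equiv (X.restrictBase A) Y
      { toFun := id, map_one' := rfl, map_mul' := fun _ _ => rfl, map_zero' := rfl, map_add' := fun _ _ => rfl,
        commutes' := fun a => σ.commutes a } (fun _ => rfl) fun _ => rfl⟩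
  · rintro ⟨X, ⟨e⟩⟩
    have hmem : ∀ b, Y.proj (e.toAlgEquiv (algebraMap B X.E b)) = algebraMap B C b := fun b =>
      (e.proj_apply _).trans (X.proj.commutes b)
    refine ⟨{ toFun := fun b => ⟨(e.toAlgEquiv (algebraMap B X.E b), b), hmem b⟩
              map_one' := Subtype.ext (Prod.ext ((congrArg e.toAlgEquiv (map_one (algebraMap B X.E))).trans (map_one e.toAlgEquiv)) rfl)
              map_mul' := fun x y => Subtype.ext (Prod.ext ((congrArg e.toAlgEquiv (map_mul (algebraMap B X.E) x y)).trans (map_mul e.toAlgEquiv _ _)) rfl)
              map_zero' := Subtype.ext (Prod.ext ((congrArg e.toAlgEquiv (map_zero (algebraMap B X.E))).trans (map_zero e.toAlgEquiv)) rfl)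
              map_add' := fun x y => Subtype.ext (Prod.ext ((congrArg e.toAlgEquiv (map_add (algebraMap B X.E) x y)).trans (map_add e.toAlgEquiv _ _)) rfl)
              commutes' := fun a => Subtype.ext (Prod.ext (e.toAlgEquiv.commutes a) rfl) }, fun b => rfl⟩

end Groth.Agent.S5819
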