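import Groth.Statements.S5820
import Mathlib
open TensorProduct
-- import your own Groth.Agent.* helpers here

set_option autoImplicit false
universe u v
open EGA41

namespace Groth.Agent.S5820

/-- For ring maps A → B → C, a C-module L and a B-extension X of C by L with middle ring E which is
A-trivial, there is exactly one C-linear map χ from the imperfection module Υ_{C/B/A} = ker(C ⊗_B
Ω_{B/A} → Ω_{C/A}) to L making the defining square commute, i.e. such that z ↦ 1 ⊗ d(χ z) ∈ C ⊗_E
Ω_{E/A} agrees on Υ_{C/B/A} with the map induced by B → E. This χ is the characteristic homomorphism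
of X. (The published statement also asserts that both rows of its diagram are exact; this row states
only the commutativity of the left square and the existence and uniqueness of χ.) -/
theorem result {A : Type u} {B C L : Type v} [CommRing A] [CommRing B] [CommRing C]
    [Algebra A B] [Algebra B C] [Algebra A C] [IsScalarTower A B C] [AddCommGroup L] [Module C L]
    (X : Exal.Ext B C L) (hX : X.IsTrivialOver A) :
    ∃! χ : ↥(EGA41.imperfection A B C) →ₗ[C] L, X.IsCharHom A χ := by
  classical
  obtain ⟨s, hs⟩ := hX
  let Q := X.CharCarrier A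
  let pr : Q →+* C := algebraMap (X.CharCarrier A) C
  let i : L →+ Q := X.inclC A
  have hi : Function.Injective i := X.isExtension.incl_injective
  have hmul : ∀ (x : Q) (z : L), x * i z = i (pr x • z) := X.isExtension.mul_incl
  have hex : ∀ x : Q, pr x = 0 ↔ x ∈ Set.range i := X.isExtension.exact
  let σ : C → Q := fun c => s c
  have hσ : ∀ c, pr (σ c) = c := hs
  have hσmul : ∀ c c', σ (c * c') = σ c * σ c' := map_mul s
  have hσadd : ∀ c c', σ (c + c') = σ c + σ c' := map_add s
  have hσA : ∀ a : A, σ (algebraMap A C a) = algebraMap A Q a := fun a => s.commutes a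
  have hprA : ∀ a : A, pr (algebraMap A Q a) = algebraMap A C a := fun a =>
    (IsScalarTower.algebraMap_apply A (X.CharCarrier A) C a).symm
  have hD0 : ∀ e : Q, ∃ l, i l = e - σ (pr e) := fun e => (hex _).mp (by rw [map_sub, hσ, sub_self])
  choose d hd using hD0
  letI : Module (X.CharCarrier A) L := Module.compHom L pr
  letI : Module A L := Module.compHom L (algebraMap A C)
  haveI : IsScalarTower A (X.CharCarrier A) L := IsScalarTower.of_algebraMap_smul fun a l => by
    show pr (algebraMap A Q a) • l = algebraMap A C a • l
    rw [hprA]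
  haveI : IsScalarTower (X.CharCarrier A) C L := IsScalarTower.of_algebraMap_smul fun x l => rfl
  let Dl : (X.CharCarrier A) →ₗ[A] L :=
    { toFun := d
      map_add' := fun e e' => hi (by rw [map_add, hd, hd, hd, map_add, hσadd]; abel)
      map_smul' := fun a e => hi (by
        show i (d (a • e)) = i (algebraMap A C a • d e)
        rw [hd, ← hprA a, ← hmul, hd, Algebra.smul_def, map_mul, hσmul, hprA, hσA]
        ring) }
  have h1 : pr 1 = 1 := map_one pr
  let Dv : Derivation A (X.CharCarrier A) L :=
    { toLinearMap := Dl
      map_one_eq_zero' := hi (by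
        show i (d 1) = i 0
        rw [hd, map_zero, h1, show σ 1 = 1 from map_one s, sub_self])
      leibniz' := fun e e' => hi (by
        show i (d (e * e')) = i (pr e • d e' + pr e' • d e)
        rw [map_add, hd, map_mul, hσmul, ← hmul, hd]
        rw [show i (pr e' • d e) = σ (pr e') * i (d e) by rw [hmul, hσ], hd]
        ring) }
  let R : C ⊗[X.CharCarrier A] Ω[X.CharCarrier A⁄A] →ₗ[C] L := LinearMap.liftBaseChange C Dv.liftKaehlerDifferential
  have hRδ : ∀ z, R (X.deltaL A z) = z := by
    intro z
    show R ((1 : C) ⊗ₜ[X.CharCarrier A] KaehlerDifferential.D A (X.CharCarrier A) (i z)) = z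
    rw [LinearMap.liftBaseChange_tmul, one_smul, Derivation.liftKaehlerDifferential_comp_D]
    refine hi ?_
    show i (d (i z)) = i z
    rw [hd, (hex (i z)).mpr ⟨z, rfl⟩, show σ 0 = 0 from map_zero s, sub_zero]
  have hCsmul : ∀ (c : C) (w : C ⊗[B] Ω[B⁄A]), X.baseChangeToMiddle A (c • w) = c • X.baseChangeToMiddle A w := by
    intro c w
    induction w using TensorProduct.induction_on with
    | zero => rw [smul_zero, map_zero, smul_zero]
    | tmul c' ω =>
      rw [TensorProduct.smul_tmul', Exal.Ext.baseChangeToMiddle, TensorProduct.lift.tmul, TensorProduct.lift.tmul,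
        LinearMap.mk₂_apply, LinearMap.mk₂_apply, TensorProduct.smul_tmul']
    | add x y hx hy => rw [smul_add, map_add, hx, hy, map_add, smul_add]
  have hcompat : ∀ w, KaehlerDifferential.mapBaseChange A (X.CharCarrier A) C (X.baseChangeToMiddle A w) =
      KaehlerDifferential.mapBaseChange A B C w := by
    intro w
    induction w using TensorProduct.induction_on with
    | zero => simp
    | tmul c ω =>
      rw [Exal.Ext.baseChangeToMiddle, TensorProduct.lift.tmul, LinearMap.mk₂_apply, KaehlerDifferential.mapBaseChange_tmul,
        KaehlerDifferential.mapBaseChange_tmul]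
      congr 1
      have hω : ω ∈ Submodule.span B (Set.range (KaehlerDifferential.D A B)) := by
        rw [KaehlerDifferential.span_range_derivation]; trivial
      induction hω using Submodule.span_induction with
      | mem x hx =>
        obtain ⟨b, rfl⟩ := hx
        rw [KaehlerDifferential.map_D, KaehlerDifferential.map_D, KaehlerDifferential.map_D,
          ← IsScalarTower.algebraMap_apply]
      | zero => simp
      | add x y _ _ hx hy => rw [map_add, map_add, hx, hy, map_add]
      | smul b x _ hx =>
        rw [map_smul, ← IsScalarTower.algebraMap_smul (X.CharCarrier A) b, map_smul, IsScalarTower.algebraMap_smul, hx, map_smul]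
    | add x y hx hy => rw [map_add, map_add, hx, hy, map_add]
  refine ⟨{ toFun := fun z => R (X.baseChangeToMiddle A (z : C ⊗[B] Ω[B⁄A]))
            map_add' := fun z w => by rw [Submodule.coe_add, map_add, map_add]
            map_smul' := fun c z => by rw [Submodule.coe_smul, hCsmul, map_smul]; rfl }, ?_, ?_⟩
  · intro z
    show X.deltaL A (R (X.baseChangeToMiddle A (z : C ⊗[B] Ω[B⁄A]))) = _
    have hz : X.baseChangeToMiddle A (z : C ⊗[B] Ω[B⁄A]) ∈
        (LinearMap.ker (KaehlerDifferential.mapBaseChange A (X.CharCarrier A) C)).restrictScalars (X.CharCarrier A) := by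
      rw [Submodule.restrictScalars_mem, LinearMap.mem_ker, hcompat]
      exact z.2
    rw [← KaehlerDifferential.range_kerCotangentToTensor A (X.CharCarrier A) C (fun c => ⟨σ c, hσ c⟩)] at hz
    obtain ⟨t, ht⟩ := hz
    obtain ⟨x, rfl⟩ := Ideal.toCotangent_surjective _ t
    obtain ⟨l, hl⟩ := (hex x.1).mp x.2
    rw [KaehlerDifferential.kerCotangentToTensor_toCotangent] at ht
    have e : X.baseChangeToMiddle A (z : C ⊗[B] Ω[B⁄A]) = X.deltaL A l := by
      rw [← ht, ← hl]; rfl
    rw [e, hRδ]
  · intro χ hχ
    refine LinearMap.ext fun z => ?_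
    show χ z = R (X.baseChangeToMiddle A (z : C ⊗[B] Ω[B⁄A]))
    rw [← hχ z, hRδ]

end Groth.Agent.S5820
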