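import Groth.Statements.S5821
import Groth.Agent.CharHomLib.Infinitesimal
import Mathlib
open scoped TensorProduct
-- import your own Groth.Agent.* helpers here

set_option autoImplicit false
universe u v
open EGA41

namespace Groth.Agent.S5821

/-- For a ring map A → B, an ideal K of B, C = B ⧸ K and the B-extension E = B ⧸ K² of C by K/K², if E
is A-trivial then its characteristic homomorphism Υ_{C/B/A} → K/K² is bijective (stated for every
C-linear χ satisfying the defining square, of which there is exactly one). -/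
theorem result {A : Type u} {B : Type v} [CommRing A] [CommRing B] [Algebra A B]
    (K : Ideal B) (hK : (Exal.Ext.infinitesimal K).IsTrivialOver A)
    (χ : ↥(EGA41.imperfection A B (B ⧸ K)) →ₗ[B ⧸ K] K.Cotangent)
    (hχ : (Exal.Ext.infinitesimal K).IsCharHom A χ) :
    Function.Bijective χ := by
  classical
  obtain ⟨S⟩ := CharHomLib.nonempty_sect hK
  obtain ⟨Φ, hΦ, hΦ'⟩ := S.exists_phi
  have key : ∀ x : K, Φ ((1 : B ⧸ K) ⊗ₜ[B] KaehlerDifferential.D A B (x : B)) = K.toCotangent x := by
    intro x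
    rw [hΦ]
    have hx : algebraMap B ((Exal.Ext.infinitesimal K).CharCarrier A) (x : B) =
        (Exal.Ext.infinitesimal K).inclC A (K.toCotangent x) := (Ideal.toCotangent_to_quotient_square K x).symm
    rw [hx, S.comp_inclC]
  constructor
  · suffices key0 : ∀ z, χ z = 0 → z = 0 from fun a b h => sub_eq_zero.mp (key0 (a - b) ((LinearMap.map_sub χ a b).trans (sub_eq_zero.mpr h)))
    intro z hz
    obtain ⟨x, hx⟩ := CharHomLib.exists_mem_eq (z : (B ⧸ K) ⊗[B] Ω[B⁄A]) z.2
    rw [(hΦ' χ).mp hχ z, ← hx, key] at hz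
    exact Subtype.ext (hx ▸ CharHomLib.one_tmul_D_eq_zero x hz)
  · intro y
    obtain ⟨x, rfl⟩ := Ideal.toCotangent_surjective K y
    refine ⟨⟨(1 : B ⧸ K) ⊗ₜ[B] KaehlerDifferential.D A B (x : B), ?_⟩, ?_⟩
    · show KaehlerDifferential.mapBaseChange A B (B ⧸ K) _ = 0
      rw [KaehlerDifferential.mapBaseChange_tmul, one_smul, KaehlerDifferential.map_D, Ideal.Quotient.algebraMap_eq,
        Ideal.Quotient.eq_zero_iff_mem.mpr x.2, map_zero]
    · rw [(hΦ' χ).mp hχ]
      exact key x

end Groth.Agent.S5821
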