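import Groth.Statements.S5824
import Groth.Agent.CharHomLib.Classify
import Mathlib
open scoped TensorProduct
-- import your own Groth.Agent.* helpers here

set_option autoImplicit false
universe u v
open EGA41

namespace Groth.Agent.S5824

/-- For ring maps A → B → C with C formally smooth over A (discrete topologies) and Ω_{C/B} a projective
C-module, and a C-module L, the characteristic homomorphism is a bijection from the classes of all
B-extensions of C by L (each of which is A-trivial) onto Hom_C(Υ_{C/B/A}, L): injectivity on classes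
and surjectivity. -/
theorem result {A : Type u} {B C L : Type v} [CommRing A] [CommRing B] [CommRing C]
    [Algebra A B] [Algebra B C] [Algebra A C] [IsScalarTower A B C] [AddCommGroup L] [Module C L]
    [Algebra.FormallySmooth A C] [Module.Projective C Ω[C⁄B]] :
    (∀ (X Y : Exal.Ext B C L) (χ : ↥(EGA41.imperfection A B C) →ₗ[C] L),
        X.IsCharHom A χ → Y.IsCharHom A χ → Nonempty (X.Equiv Y)) ∧
      ∀ χ : ↥(EGA41.imperfection A B C) →ₗ[C] L, ∃ X : Exal.Ext B C L, X.IsCharHom A χ := by
  have htriv : ∀ X : Exal.Ext B C L, X.IsTrivialOver A := by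
    intro X
    let π : X.CharCarrier A →ₐ[A] C := IsScalarTower.toAlgHom A (X.CharCarrier A) C
    have hsurj : Function.Surjective π := CharHomLib.proj_surjective
    have hnil : IsNilpotent (RingHom.ker (π : X.CharCarrier A →+* C)) := by
      refine ⟨2, ?_⟩
      rw [pow_two, Ideal.zero_eq_bot, eq_bot_iff, Ideal.mul_le]
      intro x hx y hy
      obtain ⟨z, rfl⟩ := (CharHomLib.proj_eq_zero_iff y).mp hy
      have hx' : algebraMap (X.CharCarrier A) C x = 0 := hx
      rw [Ideal.mem_bot, CharHomLib.mul_inclC, hx', zero_smul, map_zero]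
    exact CharHomLib.isTrivialOver_of_sect
      ⟨Algebra.FormallySmooth.liftOfSurjective (AlgHom.id A C) π hsurj hnil,
        fun c => Algebra.FormallySmooth.liftOfSurjective_apply (AlgHom.id A C) π hsurj hnil c⟩
  obtain ⟨s, hs⟩ := Module.projective_lifting_property (KaehlerDifferential.map A B C C)
    (LinearMap.id : Ω[C⁄B] →ₗ[C] Ω[C⁄B]) (KaehlerDifferential.map_surjective A B C)
  have hs' : ∀ ω : Ω[C⁄B], KaehlerDifferential.map A B C C (s ω) = ω := fun ω => LinearMap.congr_fun hs ω
  refine ⟨fun X Y χ hX hY => CharHomLib.nonempty_equiv (Or.inr ⟨s, hs'⟩) X Y (htriv X) (htriv Y) χ hX hY, fun χ => ?_⟩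
  let f := KaehlerDifferential.mapBaseChange A B C
  let P : Ω[C⁄A] →ₗ[C] Ω[C⁄A] := LinearMap.id - s.comp (KaehlerDifferential.map A B C C)
  have hP : ∀ x, P x ∈ LinearMap.range f := fun x => by
    rw [KaehlerDifferential.range_mapBaseChange, LinearMap.mem_ker]
    show KaehlerDifferential.map A B C C (x - s (KaehlerDifferential.map A B C C x)) = 0
    rw [map_sub, hs', sub_self]
  haveI : Module.Projective C (LinearMap.range f) := by
    refine Module.Projective.of_split (LinearMap.range f).subtype (P.codRestrict _ hP) (LinearMap.ext fun x => Subtype.ext ?_)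
    show x.1 - s (KaehlerDifferential.map A B C C x.1) = x.1
    obtain ⟨w, hw⟩ := x.2
    rw [← hw, (KaehlerDifferential.exact_mapBaseChange_map A B C).apply_apply_eq_zero w, map_zero, sub_zero]
  obtain ⟨t, ht⟩ := Module.projective_lifting_property f.rangeRestrict LinearMap.id f.surjective_rangeRestrict
  have hr : ∀ w, w - t (f.rangeRestrict w) ∈ EGA41.imperfection A B C := fun w => by
    show f (w - t (f.rangeRestrict w)) = 0
    rw [map_sub, show f (t (f.rangeRestrict w)) = f w from congrArg Subtype.val (LinearMap.congr_fun ht (f.rangeRestrict w)), sub_self]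
  let r : C ⊗[B] Ω[B⁄A] →ₗ[C] ↥(EGA41.imperfection A B C) :=
    (LinearMap.id - t.comp f.rangeRestrict).codRestrict _ hr
  have hr' : (χ.comp r).comp (EGA41.imperfection A B C).subtype = χ := by
    refine LinearMap.ext fun z => congrArg χ (Subtype.ext ?_)
    show z.1 - t (f.rangeRestrict z.1) = z.1
    rw [show f.rangeRestrict z.1 = 0 from Subtype.ext z.2, map_zero, sub_zero]
  obtain ⟨X, -, hX⟩ := CharHomLib.exists_ext_of_linearMap (χ.comp r)
  rw [hr'] at hX
  exact ⟨X, hX⟩

end Groth.Agent.S5824
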