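import Mathlib
import Groth.Agent.ExalLib.Basic
import Groth.Statements.S5825

set_option autoImplicit false
universe u v w
open EGA41

namespace Groth.Agent.S5825

/-- Let A be a topological ring, M, N topological A-modules with the topologies deduced from that of A,
and u : M → N a continuous linear map with dense image (a formal epimorphism). Then u is a formal
bimorphism (dense image and inducing) if and only if, for every open ideal J of A, the induced map
M/JM → N/JN is bijective (injectivity and surjectivity are written out elementwise). -/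
theorem result {A : Type u} {M : Type v} {N : Type w} [CommRing A]
    [TopologicalSpace A] [AddCommGroup M] [Module A M] [TopologicalSpace M] [AddCommGroup N] [Module A N]
    [TopologicalSpace N] (hM : TopMod.IsDeduced A M) (hN : TopMod.IsDeduced A N) (u : M →L[A] N)
    (hu : DenseRange u) :
    IsDenseInducing u ↔
      ∀ J : Ideal A, IsOpen (J : Set A) →
        (∀ x : M, u x ∈ (J • ⊤ : Submodule A N) → x ∈ (J • ⊤ : Submodule A M)) ∧
          ∀ y : N, ∃ x : M, y - u x ∈ (J • ⊤ : Submodule A N) := by
  obtain ⟨hMg, hMb⟩ := hM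
  obtain ⟨hNg, hNb⟩ := hN
  haveI := hMg
  haveI := hNg
  have happrox : ∀ J : Ideal A, IsOpen (J : Set A) → ∀ y : N, ∃ x : M, y - u x ∈ (J • ⊤ : Submodule A N) := by
    intro J hJ y
    have h1 : (fun z => y - z) ⁻¹' ((J • ⊤ : Submodule A N) : Set N) ∈ nhds y := by
      refine (continuous_const.sub continuous_id).continuousAt.preimage_mem_nhds ?_
      show _ ∈ nhds (y - y)
      rw [sub_self]
      exact hNb.mem_of_mem hJ
    obtain ⟨_, hz, x, rfl⟩ := mem_closure_iff_nhds.1 (hu y) _ h1
    exact ⟨x, hz⟩
  constructor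
  · intro hd J hJ
    refine ⟨fun x hx => ?_, happrox J hJ⟩
    have hcl : u x ∈ closure (u '' ((J • ⊤ : Submodule A M) : Set M)) := by
      refine Submodule.smul_induction_on hx (fun j hj y _ => ?_) fun a b ha hb => ?_
      · refine mem_closure_iff_nhds.2 fun U hU => ?_
        have hU' : (fun z => j • y + z) ⁻¹' U ∈ nhds (0 : N) :=
          (continuous_const.add continuous_id).continuousAt.preimage_mem_nhds (show U ∈ nhds (j • y + 0) by rw [add_zero]; exact hU)
        obtain ⟨K, hK, hKU⟩ := hNb.mem_iff.1 hU'
        obtain ⟨m, hm⟩ := happrox K hK y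
        refine ⟨u (j • m), ?_, ⟨j • m, Submodule.smul_mem_smul hj trivial, rfl⟩⟩
        have h2 := hKU (Submodule.neg_mem _ (Submodule.smul_mem _ j hm))
        rwa [Set.mem_preimage, smul_sub, neg_sub, add_sub_cancel, ← map_smul] at h2
      · exact map_mem_closure₂ continuous_add ha hb fun a ⟨p, hp, hpa⟩ b ⟨q, hq, hqb⟩ =>
          ⟨p + q, add_mem hp hq, by rw [map_add, hpa, hqb]⟩
    have hxc : x ∈ closure ((J • ⊤ : Submodule A M) : Set M) := by
      rw [hd.toIsInducing.closure_eq_preimage_closure_image]
      exact hcl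
    have hopen : IsOpen ((J • ⊤ : Submodule A M) : Set M) :=
      AddSubgroup.isOpen_of_mem_nhds (J • ⊤ : Submodule A M).toAddSubgroup (g := 0) (hMb.mem_of_mem hJ)
    have hcl' : IsClosed ((J • ⊤ : Submodule A M) : Set M) :=
      AddSubgroup.isClosed_of_isOpen (J • ⊤ : Submodule A M).toAddSubgroup hopen
    rwa [hcl'.closure_eq] at hxc
  · intro h
    refine ⟨(IsTopologicalAddGroup.isInducing_iff_nhds_zero (f := u)).2 ?_, hu⟩
    refine le_antisymm (Filter.map_le_iff_le_comap.1 (map_zero u ▸ u.continuous.continuousAt)) ?_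
    intro s hs
    obtain ⟨J, hJ, hJs⟩ := hMb.mem_iff.1 hs
    refine Filter.mem_comap.2 ⟨_, hNb.mem_of_mem hJ, fun x hx => hJs ((h J hJ).1 x hx)⟩

end Groth.Agent.S5825
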