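import Mathlib
import Groth.Agent.ExalLib.Basic
import Groth.Statements.S5826

set_option autoImplicit false
universe u v w
open EGA41

namespace Groth.Agent.S5826

/-- Let A be a topological ring, M, N topological A-modules with the topologies deduced from that of A,
u : M → N a continuous linear map. Then u is formally left invertible if and only if, for every open
ideal J of A, the induced map M/JM → N/JN is left invertible, i.e. some linear map N → M/JM composes
with u to the projection M → M/JM. -/
theorem result {A : Type u} {M : Type v} {N : Type w}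
    [CommRing A] [TopologicalSpace A] [AddCommGroup M] [Module A M] [TopologicalSpace M] [AddCommGroup N]
    [Module A N] [TopologicalSpace N] (hM : TopMod.IsDeduced A M) (hN : TopMod.IsDeduced A N)
    (u : M →L[A] N) :
    TopMod.IsFormallyLeftInvertible u ↔
      ∀ J : Ideal A, IsOpen (J : Set A) →
        ∃ w : N →ₗ[A] M ⧸ (J • ⊤ : Submodule A M), ∀ x : M, w (u x) = Submodule.Quotient.mk x := by
  obtain ⟨hMg, hMb⟩ := hM
  obtain ⟨hNg, hNb⟩ := hN
  haveI := hMg
  haveI := hNg
  constructor
  · intro h J hJ
    letI : TopologicalSpace (M ⧸ (J • ⊤ : Submodule A M)) := ⊥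
    haveI : DiscreteTopology (M ⧸ (J • ⊤ : Submodule A M)) := ⟨rfl⟩
    have hc : Continuous (J • ⊤ : Submodule A M).mkQ := by
      refine continuous_of_continuousAt_zero (J • ⊤ : Submodule A M).mkQ ?_
      rw [ContinuousAt, map_zero]
      refine tendsto_nhds_of_eventually_eq ?_
      filter_upwards [hMb.mem_of_mem hJ] with x hx
      exact (Submodule.Quotient.mk_eq_zero _).2 hx
    obtain ⟨w, hw⟩ := h (M ⧸ (J • ⊤ : Submodule A M)) ⟨(J • ⊤ : Submodule A M).mkQ, hc⟩
    exact ⟨w.toLinearMap, fun x => hw x⟩
  · intro h E _ _ _ _ v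
    have h0 : {x | v x = 0} ∈ nhds (0 : M) :=
      v.continuous.continuousAt.preimage_mem_nhds (t := {e | e = (0 : E)}) (by rw [map_zero]; exact mem_nhds_discrete.2 rfl)
    obtain ⟨J, hJ, hJv⟩ := hMb.mem_iff.1 h0
    obtain ⟨w, hw⟩ := h J hJ
    let w' : N →ₗ[A] E := ((J • ⊤ : Submodule A M).liftQ v.toLinearMap fun x hx => hJv hx) ∘ₗ w
    have hw' : ∀ y ∈ (J • ⊤ : Submodule A N), w' y = 0 := fun y hy => by
      have h1 := Submodule.smul_top_le_comap_smul_top J w hy
      have h2 : (J • ⊤ : Submodule A (M ⧸ (J • ⊤ : Submodule A M))) = ⊥ := by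
        rw [← Submodule.map_top (J • ⊤ : Submodule A M).mkQ |>.trans (Submodule.range_mkQ _),
          ← Submodule.map_smul'', eq_bot_iff]
        rintro _ ⟨x, hx, rfl⟩
        exact (Submodule.Quotient.mk_eq_zero _).2 hx
      rw [Submodule.mem_comap, h2, Submodule.mem_bot] at h1
      rw [LinearMap.comp_apply, h1, map_zero]
    have hc : Continuous w' := by
      refine continuous_of_continuousAt_zero w' ?_
      rw [ContinuousAt, map_zero]
      refine tendsto_nhds_of_eventually_eq ?_
      filter_upwards [hNb.mem_of_mem hJ] with y hy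
      exact hw' y hy
    refine ⟨⟨w', hc⟩, fun x => ?_⟩
    show w' (u x) = v x
    rw [LinearMap.comp_apply, hw]
    rfl

end Groth.Agent.S5826
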