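import Groth.Statements.S5827
import Groth.Agent.S5826
import Mathlib
-- import your own Groth.Agent.* helpers here

set_option autoImplicit false
universe u v w
open EGA41

namespace Groth.Agent.S5827

/-- Let A be a preadmissible topological ring with an ideal of definition 𝔏, M, N topological A-modules
with the topologies deduced from that of A such that N/JN is a projective (A/J)-module for every
open ideal J, and u : M → N a continuous linear map. Then u is formally left invertible if and only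
if the induced map M/𝔏M → N/𝔏N is left invertible. -/
theorem result {A : Type u} {M : Type v}
    {N : Type w} [CommRing A] [TopologicalSpace A] [AddCommGroup M] [Module A M] [TopologicalSpace M]
    [AddCommGroup N] [Module A N] [TopologicalSpace N] (hA : LinTop.IsPreadmissible A) (𝔏 : Ideal A)
    (h𝔏 : LinTop.IsIdealOfDefinition A 𝔏) (hM : TopMod.IsDeduced A M) (hN : TopMod.IsDeduced A N)
    (hproj : ∀ J : Ideal A, IsOpen (J : Set A) → Module.Projective (A ⧸ J) (N ⧸ (J • (⊤ : Submodule A N))))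
    (u : M →L[A] N) :
    TopMod.IsFormallyLeftInvertible u ↔
      ∃ w : N →ₗ[A] M ⧸ (𝔏 • ⊤ : Submodule A M), ∀ x : M, w (u x) = Submodule.Quotient.mk x := by
  classical
  haveI := hA.1
  obtain ⟨h𝔏o, h𝔏n⟩ := h𝔏
  rw [Groth.Agent.S5826.result hM hN u]
  refine ⟨fun h => h 𝔏 h𝔏o, fun ⟨w, hw⟩ J hJ => ?_⟩
  set J' : Ideal A := J ⊓ 𝔏 with hJ'
  have hJ'o : IsOpen (J' : Set A) := hJ.inter h𝔏o
  obtain ⟨n, -, hn⟩ := h𝔏n (J' : Set A) (hJ'o.mem_nhds (zero_mem J'))
  let P : Submodule A M := J' • ⊤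
  let Q : Submodule A N := J' • ⊤
  have hPL : P ≤ 𝔏 • ⊤ := Submodule.smul_mono_left inf_le_right
  let q : M ⧸ P →ₗ[A] M ⧸ (𝔏 • ⊤ : Submodule A M) := Submodule.factor hPL
  have hq : Function.Surjective q := Submodule.factor_surjective hPL
  have hwQ : Q ≤ LinearMap.ker w := by
    refine Submodule.smul_le.2 fun a ha y _ => ?_
    rw [LinearMap.mem_ker, map_smul]
    obtain ⟨x, hx⟩ := Submodule.mkQ_surjective _ (w y)
    rw [← hx, ← map_smul]
    exact (Submodule.Quotient.mk_eq_zero _).2 (Submodule.smul_mem_smul (inf_le_right (a := J) ha) trivial)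
  let wb : N ⧸ Q →ₗ[A] M ⧸ (𝔏 • ⊤ : Submodule A M) := Q.liftQ w hwQ
  haveI := hproj J' hJ'o
  obtain ⟨s, hs⟩ := (Module.projective_def (R := A ⧸ J') (P := N ⧸ Q)).1 inferInstance
  choose x hx using fun y : N ⧸ Q => hq (wb y)
  let φ : ((N ⧸ Q) →₀ A ⧸ J') →ₗ[A ⧸ J'] M ⧸ P := Finsupp.linearCombination (A ⧸ J') x
  have hφ : ∀ f, q (φ f) = wb (Finsupp.linearCombination (A ⧸ J') (id : N ⧸ Q → N ⧸ Q) f) := by
    intro f
    induction f using Finsupp.induction_linear with
    | zero => simp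
    | add f g hf hg => simp [map_add, hf, hg]
    | single y c =>
      obtain ⟨a, rfl⟩ := Ideal.Quotient.mk_surjective c
      simp only [φ, Finsupp.linearCombination_single, id_eq]
      rw [show Ideal.Quotient.mk J' a • x y = a • x y from algebraMap_smul (A ⧸ J') a (x y),
        show Ideal.Quotient.mk J' a • y = a • y from algebraMap_smul (A ⧸ J') a y,
        map_smul, map_smul, hx]
  let ψ : N ⧸ Q →ₗ[A] M ⧸ P := (φ.comp s).restrictScalars A
  have hψ : ∀ y, q (ψ y) = wb y := fun y => (hφ _).trans (congrArg wb (hs y))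
  have hu : P ≤ LinearMap.ker (Q.mkQ ∘ₗ u.toLinearMap) := by
    refine Submodule.smul_le.2 fun a ha m _ => ?_
    rw [LinearMap.mem_ker, LinearMap.comp_apply, map_smul]
    exact (Submodule.Quotient.mk_eq_zero _).2 (Submodule.smul_mem_smul ha trivial)
  let ub : M ⧸ P →ₗ[A] N ⧸ Q := P.liftQ _ hu
  let D : Module.End A (M ⧸ P) := 1 - ψ ∘ₗ ub
  have hD : ∀ z, D z ∈ (𝔏 • ⊤ : Submodule A (M ⧸ P)) := by
    intro z
    obtain ⟨m, rfl⟩ := Submodule.mkQ_surjective P z
    obtain ⟨m', hm'⟩ := Submodule.mkQ_surjective P (D (P.mkQ m))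
    have h0 : q (D (P.mkQ m)) = 0 := by
      simp only [D, LinearMap.sub_apply, Module.End.one_apply, map_sub, LinearMap.comp_apply,
        Submodule.mkQ_apply, ub, Submodule.liftQ_apply, hψ]
      simp [q, wb, hw]
    rw [← hm'] at h0 ⊢
    have hm : m' ∈ (𝔏 • ⊤ : Submodule A M) := (Submodule.Quotient.mk_eq_zero _).1 h0
    have := Submodule.mem_map_of_mem (f := P.mkQ) hm
    rw [Submodule.map_smul''] at this
    exact Submodule.smul_mono le_rfl le_top this
  have hpow : ∀ (k : ℕ) z, (D ^ k) z ∈ ((𝔏 ^ k) • ⊤ : Submodule A (M ⧸ P)) := by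
    intro k
    induction k with
    | zero => intro z; simp
    | succ k ih =>
      intro z
      rw [show (D ^ (k + 1)) z = D ((D ^ k) z) by rw [pow_succ']; rfl, pow_succ, Submodule.mul_smul]
      have h1 : Submodule.map D ((𝔏 ^ k) • ⊤) ≤ (𝔏 ^ k) • (𝔏 • ⊤ : Submodule A (M ⧸ P)) := by
        rw [Submodule.map_smul'']
        refine Submodule.smul_mono le_rfl ?_
        rintro _ ⟨v, -, rfl⟩
        exact hD v
      exact h1 (Submodule.mem_map_of_mem (ih z))
  have hnil : IsNilpotent D := by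
    refine ⟨n, LinearMap.ext fun z => ?_⟩
    have h := hpow n z
    have hle : ((𝔏 ^ n) • ⊤ : Submodule A (M ⧸ P)) ≤ ⊥ := by
      refine Submodule.smul_le.2 fun a ha v _ => ?_
      obtain ⟨m, rfl⟩ := Submodule.mkQ_surjective P v
      rw [Submodule.mem_bot, ← map_smul]
      exact (Submodule.Quotient.mk_eq_zero _).2 (Submodule.smul_mem_smul (hn ha) trivial)
    exact (Submodule.mem_bot _).1 (hle h)
  obtain ⟨T, hT⟩ : ∃ T : Module.End A (M ⧸ P), T * (1 - D) = 1 :=
    hnil.isUnit_one_sub.exists_left_inv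
  refine ⟨Submodule.factor (Submodule.smul_mono_left inf_le_left) ∘ₗ T ∘ₗ ψ ∘ₗ Q.mkQ, fun m => ?_⟩
  have h1 : T (ψ (ub (P.mkQ m))) = P.mkQ m := by
    have := LinearMap.congr_fun hT (P.mkQ m)
    rwa [Module.End.mul_apply, show (1 - D) = ψ ∘ₗ ub by simp [D], Module.End.one_apply] at this
  simp only [LinearMap.comp_apply]
  rw [show Q.mkQ (u m) = ub (P.mkQ m) from rfl, h1]
  rfl

end Groth.Agent.S5827
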