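import Mathlib
import Groth.Agent.ExalLib.Basic
import Groth.Statements.S5828

set_option autoImplicit false
universe u v
open EGA41
attribute [local instance] Exal.opModule Exal.isCentralScalar_opModule

namespace Groth.Agent.S5828

/-- Commutative case. For an A-extension X of C by a C-module L, with middle ring E, projection p and
inclusion i, the A-derivations D : C → L and the self-equivalences of X correspond under D ↦ (x ↦ x
+ i (D (p x))): every derivation defines a self-equivalence with this formula, and every
self-equivalence is of this form for exactly one derivation. (Bijection of sets; the published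
statement also records compatibility with the group laws.) -/
theorem result {A : Type u} {C L : Type v} [CommRing A] [CommRing C] [Algebra A C]
    [AddCommGroup L] [Module C L] [Module A L] [IsScalarTower A C L] (X : Exal.Ext A C L) :
    (∀ D : Derivation A C L, ∃ e : X.Equiv X, ∀ x : X.E, e.toAlgEquiv x = x + X.incl (D (X.proj x))) ∧
      ∀ e : X.Equiv X, ∃! D : Derivation A C L, ∀ x : X.E, e.toAlgEquiv x = x + X.incl (D (X.proj x)) := by
  constructor
  · intro D
    let φ : X.E →ₐ[A] X.E :=
      { toFun := fun x => x + X.incl (D (X.proj x))
        map_one' := by rw [map_one, D.map_one_eq_zero, map_zero, add_zero]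
        map_mul' := fun x y => by
          rw [ExalLib.add_incl_mul_add_incl, map_mul, D.leibniz]
        map_zero' := by rw [map_zero, map_zero, map_zero, add_zero]
        map_add' := fun x y => by rw [map_add, map_add, map_add]; abel
        commutes' := fun a => by rw [AlgHom.commutes, D.map_algebraMap, map_zero, add_zero] }
    have hp : ∀ x, X.proj (φ x) = X.proj x := fun x => by
      show X.proj (x + _) = _
      rw [map_add, ExalLib.proj_incl, add_zero]
    have hi : ∀ z, φ (X.incl z) = X.incl z := fun z => by
      show X.incl z + _ = _
      rw [ExalLib.proj_incl, map_zero, map_zero, add_zero]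
    exact ⟨⟨AlgEquiv.ofBijective φ (ExalLib.bijective_hom X X φ.toRingHom hp hi), hp, hi⟩, fun x => rfl⟩
  · intro e
    have hd : ∀ x, X.proj (e.toAlgEquiv x - x) = 0 := fun x => by rw [map_sub, e.proj_apply, sub_self]
    have hdc : ∀ {x y}, X.proj x = X.proj y → X.kerLift _ (hd x) = X.kerLift _ (hd y) := fun {x y} h => by
      refine X.isExtension.incl_injective ?_
      rw [X.incl_kerLift, X.incl_kerLift]
      obtain ⟨z, rfl⟩ := ExalLib.exists_eq_add_incl X h
      rw [map_add, e.apply_incl]; abel
    choose r hr using X.isExtension.proj_surjective
    let d : C → L := fun c => X.kerLift _ (hd (r c))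
    have hd' : ∀ x, X.incl (d (X.proj x)) = e.toAlgEquiv x - x := fun x => by
      show X.incl (X.kerLift _ (hd (r (X.proj x)))) = _
      rw [hdc (hr (X.proj x)), X.incl_kerLift]
    have hadd : ∀ x y, d (x + y) = d x + d y := fun x y => X.isExtension.incl_injective (by
      rw [map_add, ← hr x, ← hr y, ← map_add, hd', hd', hd', map_add]; abel)
    have hleib : ∀ x y, d (x * y) = x • d y + y • d x := fun x y => X.isExtension.incl_injective (by
      rw [map_add, ← hr x, ← hr y, ← X.isExtension.mul_incl, ← X.isExtension.mul_incl, ← map_mul, hd', hd', hd',
        map_mul]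
      linear_combination ExalLib.mul_of_proj_eq_zero X (hd (r x)) (hd (r y)))
    have hA : ∀ a : A, d (algebraMap A C a) = 0 := fun a => X.isExtension.incl_injective (by
      rw [← X.proj.commutes a, hd', AlgEquiv.commutes, sub_self, map_zero])
    let D : Derivation A C L := Derivation.mk'
      { toFun := d
        map_add' := hadd
        map_smul' := fun a x => by
          rw [RingHom.id_apply, Algebra.smul_def, hleib, hA, smul_zero, add_zero, algebraMap_smul] } hleib
    have hD : ∀ x, e.toAlgEquiv x = x + X.incl (D (X.proj x)) := fun x => by
      show _ = x + X.incl (d (X.proj x))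
      rw [hd']; abel
    refine ⟨D, hD, fun D' hD' => Derivation.ext fun c => X.isExtension.incl_injective ?_⟩
    have h1 := (hD' (r c)).symm.trans (hD (r c))
    rw [hr c] at h1
    exact add_left_cancel h1

end Groth.Agent.S5828
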