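import Mathlib
import Groth.Agent.AdicEasyLib.Hoch
import Groth.Statements.S5830

set_option autoImplicit false
universe u v
open EGA41

namespace Groth.Agent.S5830

/-- Discrete case. If B is a formally smooth A-algebra then, for every B-module L, every A-bilinear
symmetric Hochschild 2-cocycle f : B × B → L (f(xy, z) + z f(x, y) = x f(y, z) + f(x, yz)) is a
Hochschild 2-coboundary: f(x, y) = x g(y) − g(xy) + y g(x) for some A-linear g : B → L. (The
published statement is for topological algebras and open ideals; this row is its discrete case.) -/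
theorem result {A : Type u} {B : Type v} [CommRing A] [CommRing B]
    [Algebra A B] [Algebra.FormallySmooth A B] {L : Type v} [AddCommGroup L] [Module B L] [Module A L]
    [IsScalarTower A B L] (f : B →ₗ[A] B →ₗ[A] L) (hsymm : ∀ x y : B, f x y = f y x)
    (hcoc : ∀ x y z : B, f (x * y) z + z • f x y = x • f y z + f x (y * z)) :
    ∃ g : B →ₗ[A] L, ∀ x y : B, f x y = x • g y - g (x * y) + y • g x := by
  letI := AdicEasyLib.hochRing f hsymm hcoc
  let str : A →+* AdicEasyLib.Hoch f hsymm hcoc :=
    { toFun := fun a => ⟨algebraMap A B a, -(a • f 1 1)⟩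
      map_one' := AdicEasyLib.Hoch.ext (map_one _) (by rw [one_smul]; rfl)
      map_mul' := fun x y => AdicEasyLib.Hoch.ext (map_mul _ x y) (by
        show -((x * y) • f 1 1) = algebraMap A B x • -(y • f 1 1) + algebraMap A B y • -(x • f 1 1) +
          f (algebraMap A B x) (algebraMap A B y)
        simp only [Algebra.algebraMap_eq_smul_one, map_smul, LinearMap.smul_apply, smul_assoc, one_smul,
          smul_neg, mul_smul]
        rw [smul_comm y x]
        abel)
      map_zero' := AdicEasyLib.Hoch.ext (map_zero _) (by rw [zero_smul, neg_zero]; rfl)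
      map_add' := fun x y => AdicEasyLib.Hoch.ext (map_add _ x y) (by
        show -((x + y) • f 1 1) = -(x • f 1 1) + -(y • f 1 1)
        rw [add_smul, neg_add]) }
  letI : Algebra A (AdicEasyLib.Hoch f hsymm hcoc) := str.toAlgebra
  let p : AdicEasyLib.Hoch f hsymm hcoc →ₐ[A] B :=
    { toFun := fun x => x.fst, map_one' := rfl, map_mul' := fun _ _ => rfl, map_zero' := rfl,
      map_add' := fun _ _ => rfl, commutes' := fun _ => rfl }
  have hp : Function.Surjective p := fun b => ⟨⟨b, 0⟩, rfl⟩
  have hnil : IsNilpotent (RingHom.ker p.toRingHom) := ⟨2, by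
    rw [Ideal.zero_eq_bot, eq_bot_iff, pow_two, Ideal.mul_le]
    intro x hx y hy
    refine Ideal.mem_bot.2 (AdicEasyLib.Hoch.ext ?_ ?_)
    · show x.fst * y.fst = 0
      rw [show x.fst = 0 from hx, zero_mul]
    · show x.fst • y.snd + y.fst • x.snd + f x.fst y.fst = 0
      rw [show x.fst = 0 from hx, show y.fst = 0 from hy, zero_smul, zero_smul]
      simp⟩
  let s := Algebra.FormallySmooth.liftOfSurjective (AlgHom.id A B) p hp hnil
  have hs : ∀ b, (s b).fst = b := fun b => Algebra.FormallySmooth.liftOfSurjective_apply (AlgHom.id A B) p hp hnil b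
  let g : B → L := fun b => (s b).snd
  have hgmul : ∀ x y, g (x * y) = x • g y + y • g x + f x y := fun x y => by
    show (s (x * y)).snd = _
    rw [map_mul]
    show (s x).fst • (s y).snd + (s y).fst • (s x).snd + f (s x).fst (s y).fst = _
    rw [hs, hs]
  have hgadd : ∀ x y, g (x + y) = g x + g y := fun x y => by
    show (s (x + y)).snd = _
    rw [map_add]
    rfl
  have hgsmul : ∀ (a : A) (x : B), g (a • x) = a • g x := fun a x => by
    rw [Algebra.smul_def, hgmul]
    have hga : g (algebraMap A B a) = -(a • f 1 1) := by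
      show (s (algebraMap A B a)).snd = _
      rw [s.commutes]
      rfl
    rw [hga, Algebra.algebraMap_eq_smul_one a, map_smul, LinearMap.smul_apply, smul_assoc, one_smul, smul_neg,
      smul_comm x a, ← AdicEasyLib.Hoch.f_one f hcoc]
    abel
  let gl : B →ₗ[A] L := { toFun := g, map_add' := hgadd, map_smul' := hgsmul }
  refine ⟨-gl, fun x y => ?_⟩
  show f x y = x • -g y - -g (x * y) + y • -g x
  rw [hgmul, smul_neg, smul_neg]
  abel

end Groth.Agent.S5830
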