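import Groth.Statements.S5831
import Mathlib

set_option autoImplicit false
universe u
open EGA41

namespace Groth.Agent.S5831

section
variable {A B : Type u} [CommRing A] [CommRing B] [Algebra A B] [Module.Projective A B]

lemma split_sq_zero {P : Type u} [CommRing P] [Algebra A P] (π : P →ₐ[A] B)
    (hπ : Function.Surjective π) (hsq : ∀ x y : P, π x = 0 → π y = 0 → x * y = 0)
    (h : ∀ (L : Type u) [AddCommGroup L] [Module B L] [Module A L] [IsScalarTower A B L]
      (f : B →ₗ[A] B →ₗ[A] L), (∀ x y : B, f x y = f y x) →
        (∀ x y z : B, f (x * y) z + z • f x y = x • f y z + f x (y * z)) →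
          ∃ g : B →ₗ[A] L, ∀ x y : B, f x y = x • g y - g (x * y) + y • g x) :
    ∃ g : B →ₐ[A] P, π.comp g = AlgHom.id A B := by
  obtain ⟨s, hs⟩ := Module.projective_lifting_property π.toLinearMap LinearMap.id hπ
  have hs' : ∀ b, π (s b) = b := fun b => LinearMap.congr_fun hs b
  let L := LinearMap.ker π.toLinearMap
  have hL : ∀ l : L, π (l : P) = 0 := fun l => l.2
  letI : SMul B L := ⟨fun b l => ⟨s b * (l : P), by
    show π (s b * (l : P)) = 0
    rw [map_mul, hL, mul_zero]⟩⟩
  have hsm : ∀ (b : B) (l : L), ((b • l : L) : P) = s b * (l : P) := fun _ _ => rfl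
  letI : Module B L :=
    { one_smul := fun l => Subtype.ext (by
        rw [hsm]
        have h0 := hsq (s 1 - 1) l (by rw [map_sub, hs', map_one, sub_self]) (hL l)
        linear_combination h0)
      mul_smul := fun b c l => Subtype.ext (by
        rw [hsm, hsm, hsm]
        have h0 := hsq (s (b * c) - s b * s c) l (by simp [hs']) (hL l)
        linear_combination h0)
      smul_zero := fun b => Subtype.ext (by rw [hsm]; simp)
      smul_add := fun b x y => Subtype.ext (by rw [hsm, Submodule.coe_add, Submodule.coe_add, hsm, hsm, mul_add])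
      add_smul := fun b c l => Subtype.ext (by rw [hsm, Submodule.coe_add, hsm, hsm, map_add, add_mul])
      zero_smul := fun l => Subtype.ext (by rw [hsm]; simp) }
  haveI : IsScalarTower A B L := ⟨fun a b l => Subtype.ext (by
    rw [hsm, Submodule.coe_smul, hsm, map_smul, smul_mul_assoc])⟩
  let F₀ : B →ₗ[A] B →ₗ[A] P :=
    (LinearMap.mul A P).compl₁₂ s s - (LinearMap.mul A B).compr₂ s
  have hF₀ : ∀ x y, F₀ x y = s x * s y - s (x * y) := fun x y => by simp [F₀]
  have hmem : ∀ x y, F₀ x y ∈ L := fun x y => by
    show π (F₀ x y) = 0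
    simp [hF₀, hs']
  let F : B →ₗ[A] B →ₗ[A] L := LinearMap.mk₂ A (fun x y => ⟨F₀ x y, hmem x y⟩)
    (fun a b c => Subtype.ext (by simp)) (fun a b c => Subtype.ext (by simp))
    (fun a b c => Subtype.ext (by simp)) (fun a b c => Subtype.ext (by simp))
  have hF : ∀ x y, (F x y : P) = s x * s y - s (x * y) := fun x y => hF₀ x y
  obtain ⟨g, hg⟩ := h L F
    (fun x y => Subtype.ext (by rw [hF, hF, mul_comm (s x), mul_comm x y]))
    (fun x y z => Subtype.ext (by
      rw [Submodule.coe_add, Submodule.coe_add, hsm, hsm, hF, hF, hF, hF, mul_assoc x y z]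
      ring))
  let t : B →ₗ[A] P := s - (Submodule.subtype L).comp g
  have ht : ∀ x, t x = s x - (g x : P) := fun x => rfl
  have hmul : ∀ x y, t (x * y) = t x * t y := fun x y => by
    have h1 := congrArg (fun l : L => (l : P)) (hg x y)
    simp only [Submodule.coe_add, Submodule.coe_sub, hsm, hF] at h1
    have h2 := hsq (g x : P) (g y : P) (hL _) (hL _)
    rw [ht, ht, ht]
    linear_combination -h1 - h2
  have hπt : ∀ x, π (t x) = x := fun x => by rw [ht, map_sub, hs', hL, sub_zero]
  have hone : t 1 = 1 := by
    have e : t 1 = t 1 * t 1 := by rw [← hmul, one_mul]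
    have h0 := hsq (t 1 - 1) (t 1 - 1) (by rw [map_sub, hπt, map_one, sub_self])
      (by rw [map_sub, hπt, map_one, sub_self])
    linear_combination -h0 - e
  exact ⟨AlgHom.ofLinearMap t hone hmul, AlgHom.ext hπt⟩

end

/-- Discrete case. Let B be an A-algebra which is a projective A-module (A and B in one universe). If
for every B-module L in that universe every A-bilinear symmetric Hochschild 2-cocycle B × B → L is a
coboundary, then B is formally smooth over A. (The published statement assumes B formally projective
as a topological A-module; for discrete rings this is projectivity.) -/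
theorem result {A B : Type u} [CommRing A]
    [CommRing B] [Algebra A B] [Module.Projective A B]
    (h : ∀ (L : Type u) [AddCommGroup L] [Module B L] [Module A L] [IsScalarTower A B L]
      (f : B →ₗ[A] B →ₗ[A] L), (∀ x y : B, f x y = f y x) →
        (∀ x y z : B, f (x * y) z + z • f x y = x • f y z + f x (y * z)) →
          ∃ g : B →ₗ[A] L, ∀ x y : B, f x y = x • g y - g (x * y) + y • g x) :
    Algebra.FormallySmooth A B := by
  classical
  let f : MvPolynomial B A →ₐ[A] B := MvPolynomial.aeval id
  have hf : Function.Surjective f := fun b => ⟨MvPolynomial.X b, by simp [f]⟩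
  obtain ⟨g, hg⟩ := split_sq_zero (A := A) (B := B) f.kerSquareLift (fun b => by
      obtain ⟨p, hp⟩ := hf b
      exact ⟨Ideal.Quotient.mk _ p, hp⟩) (fun x y hx hy => by
      obtain ⟨p, rfl⟩ := Ideal.Quotient.mk_surjective x
      obtain ⟨q, rfl⟩ := Ideal.Quotient.mk_surjective y
      rw [← map_mul, Ideal.Quotient.eq_zero_iff_mem, pow_two]
      exact Ideal.mul_mem_mul hx hy) h
  exact Algebra.FormallySmooth.of_split f g hg

end Groth.Agent.S5831
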