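import Mathlib
import Groth.Agent.ExalLib.Basic
import Groth.Statements.S5832

set_option autoImplicit false
universe u u' v
open EGA41

namespace Groth.Agent.S5832

/-- Surjectivity at the end of the sequence. For ring maps Λ → A → B → C and a C-module L, every
Λ-trivial A-extension of B by L is equivalent to the inverse image along B → C of a Λ-trivial
A-extension of C by L. (Exactness at the other places is that of the six-term derivation-extension
sequence restricted to Λ-trivial classes.) -/
theorem result {Λ : Type u} {A : Type u'} {B C L : Type v}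
    [CommRing Λ] [CommRing A] [CommRing B] [CommRing C] [Algebra Λ A] [Algebra Λ B] [Algebra Λ C]
    [Algebra A B] [Algebra B C] [Algebra A C] [IsScalarTower Λ A B] [IsScalarTower Λ A C] [IsScalarTower A B C]
    [AddCommGroup L] [Module C L] [Module B L] [IsScalarTower B C L]
    (Y : Exal.Ext A B L) (hY : Y.IsTrivialOver Λ) :
    ∃ X : Exal.Ext A C L, X.IsTrivialOver Λ ∧ Nonempty ((X.pullback B).Equiv Y) := by
  obtain ⟨s, hs⟩ := hY
  let σ : B → Y.E := fun b => s b
  have hσp : ∀ b, Y.proj (σ b) = b := hs
  have hσ1 : σ 1 = 1 := map_one s
  have hσadd : ∀ x y, σ (x + y) = σ x + σ y := map_add s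
  have hσmul : ∀ x y, σ (x * y) = σ x * σ y := map_mul s
  have hσΛ : ∀ l, σ (algebraMap Λ B l) = algebraMap A Y.E (algebraMap Λ A l) := fun l => s.commutes l
  have hd : ∀ a : A, Y.proj (algebraMap A Y.E a - σ (algebraMap A B a)) = 0 := fun a => by
    rw [map_sub, AlgHom.commutes, hσp, sub_self]
  let d : A → L := fun a => Y.kerLift _ (hd a)
  have hdi : ∀ a, Y.incl (d a) = algebraMap A Y.E a - σ (algebraMap A B a) := fun a => Y.incl_kerLift _ _
  let T := Exal.Ext.trivial C C L
  have hT : ∀ c, T.proj (algebraMap C T.E c) = c := fun c => T.proj.commutes c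
  have hd0 : d 0 = 0 := Y.isExtension.incl_injective (by
    rw [hdi, map_zero, map_zero, map_zero, show σ 0 = 0 from map_zero s, sub_self])
  have hd1 : d 1 = 0 := Y.isExtension.incl_injective (by rw [hdi, map_one, map_one, hσ1, sub_self, map_zero])
  have hdadd : ∀ x y, d (x + y) = d x + d y := fun x y => Y.isExtension.incl_injective (by
    rw [map_add, hdi, hdi, hdi, map_add, map_add, hσadd]; ring)
  have hdmul : ∀ x y, d (x * y) = algebraMap A C x • d y + algebraMap A C y • d x := fun x y =>
    Y.isExtension.incl_injective (by
      have hm : ∀ (b : B) (z : L), Y.incl (algebraMap B C b • z) = σ b * Y.incl z := fun b z => by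
        rw [Y.isExtension.mul_incl, hσp, algebraMap_smul]
      rw [map_add, IsScalarTower.algebraMap_apply A B C x, IsScalarTower.algebraMap_apply A B C y, hm, hm,
        hdi, hdi, hdi, map_mul, map_mul, hσmul]
      linear_combination ExalLib.mul_of_proj_eq_zero Y (hd x) (hd y))
  let str : A →+* T.E :=
    { toFun := fun a => algebraMap C T.E (algebraMap A C a) + T.incl (d a)
      map_one' := by rw [hd1, map_zero, map_one, map_one, add_zero]
      map_mul' := fun x y => by
        rw [ExalLib.add_incl_mul_add_incl, hT, hT, map_mul, map_mul, hdmul]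
      map_zero' := by rw [hd0, map_zero, map_zero, map_zero, add_zero]
      map_add' := fun x y => by rw [hdadd, map_add, map_add, map_add]; abel }
  have hstr : ∀ a, T.proj (str a) = algebraMap A C a := fun a => by
    show T.proj (algebraMap C T.E (algebraMap A C a) + T.incl (d a)) = _
    rw [map_add, hT, ExalLib.proj_incl, add_zero]
  letI algT : Algebra A T.E := str.toAlgebra
  let X : Exal.Ext A C L :=
    { E := T.E
      proj := { T.proj.toRingHom with commutes' := hstr }
      incl := T.incl
      isExtension :=
        { proj_surjective := T.isExtension.proj_surjective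
          incl_injective := T.isExtension.incl_injective
          exact := T.isExtension.exact
          mul_incl := T.isExtension.mul_incl } }
  refine ⟨X, ⟨{ toFun := fun c => (algebraMap C T.E c : T.E)
                map_one' := map_one (algebraMap C T.E)
                map_mul' := map_mul (algebraMap C T.E)
                map_zero' := map_zero (algebraMap C T.E)
                map_add' := map_add (algebraMap C T.E)
                commutes' := fun l => ?_ }, hT⟩, ?_⟩
  · show algebraMap C T.E (algebraMap Λ C l) =
      algebraMap C T.E (algebraMap A C (algebraMap Λ A l)) + T.incl (d (algebraMap Λ A l))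
    have : d (algebraMap Λ A l) = 0 := Y.isExtension.incl_injective (by
      rw [hdi, map_zero, ← IsScalarTower.algebraMap_apply Λ A B, hσΛ, sub_self])
    rw [this, map_zero, add_zero, ← IsScalarTower.algebraMap_apply Λ A C]
  · let Z := X.pullback B
    have hl : ∀ y, Y.proj (y - σ (Y.proj y)) = 0 := fun y => by rw [map_sub, hσp, sub_self]
    let l : Y.E → L := fun y => Y.kerLift _ (hl y)
    have hli : ∀ y, Y.incl (l y) = y - σ (Y.proj y) := fun y => Y.incl_kerLift _ _
    let τ : Y.E → T.E := fun y => algebraMap C T.E (algebraMap B C (Y.proj y)) + T.incl (l y)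
    have hmem : ∀ y, X.proj (τ y) = algebraMap B C (Y.proj y) := fun y => by
      show T.proj (algebraMap C T.E _ + T.incl _) = _
      rw [map_add, hT, ExalLib.proj_incl, add_zero]
    have hladd : ∀ x y, l (x + y) = l x + l y := fun x y => Y.isExtension.incl_injective (by
      rw [map_add, hli, hli, hli, map_add, hσadd]; ring)
    have hlmul : ∀ x y, l (x * y) = algebraMap B C (Y.proj x) • l y + algebraMap B C (Y.proj y) • l x :=
      fun x y => Y.isExtension.incl_injective (by
        have hm : ∀ (b : B) (z : L), Y.incl (algebraMap B C b • z) = σ b * Y.incl z := fun b z => by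
          rw [Y.isExtension.mul_incl, hσp, algebraMap_smul]
        rw [map_add, hm, hm, hli, hli, hli, map_mul, hσmul]
        linear_combination ExalLib.mul_of_proj_eq_zero Y (hl x) (hl y))
    have hlA : ∀ a, l (algebraMap A Y.E a) = d a := fun a => Y.isExtension.incl_injective (by
      rw [hli, hdi, AlgHom.commutes])
    have hl1 : l 1 = 0 := Y.isExtension.incl_injective (by rw [hli, map_zero, map_one, hσ1, sub_self])
    have hl0 : l 0 = 0 := Y.isExtension.incl_injective (by
      rw [hli, map_zero, map_zero, show σ 0 = 0 from map_zero s, sub_self])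
    have hlincl : ∀ z, l (Y.incl z) = z := fun z => Y.isExtension.incl_injective (by
      rw [hli, ExalLib.proj_incl, show σ 0 = 0 from map_zero s, sub_zero])
    let φ : Y.E →ₐ[A] Z.E :=
      { toFun := fun y => ⟨(τ y, Y.proj y), hmem y⟩
        map_one' := Subtype.ext (Prod.ext (show τ 1 = 1 by
          simp only [τ]; rw [hl1, map_zero, map_one, map_one, map_one, add_zero]) (map_one Y.proj))
        map_mul' := fun x y => Subtype.ext (Prod.ext (show τ (x * y) = τ x * τ y by
          simp only [τ]; rw [ExalLib.add_incl_mul_add_incl, hT, hT, hlmul, map_mul, map_mul, map_mul]) (map_mul Y.proj x y))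
        map_zero' := Subtype.ext (Prod.ext (show τ 0 = 0 by
          simp only [τ]; rw [hl0, map_zero, map_zero, map_zero, map_zero, add_zero]) (map_zero Y.proj))
        map_add' := fun x y => Subtype.ext (Prod.ext (show τ (x + y) = τ x + τ y by
          simp only [τ]; rw [hladd, map_add, map_add, map_add, map_add]; abel) (map_add Y.proj x y))
        commutes' := fun a => Subtype.ext (Prod.ext (show τ (algebraMap A Y.E a) = str a by
          show algebraMap C T.E (algebraMap B C (Y.proj (algebraMap A Y.E a))) + T.incl (l (algebraMap A Y.E a)) =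
            algebraMap C T.E (algebraMap A C a) + T.incl (d a)
          rw [hlA, AlgHom.commutes, ← IsScalarTower.algebraMap_apply A B C]) (Y.proj.commutes a)) }
    refine (ExalLib.nonempty_equiv Y Z φ (fun y => rfl) fun z => ?_).map fun e => e.symm
    refine Subtype.ext (Prod.ext (show τ (Y.incl z) = T.incl z from ?_) (ExalLib.proj_incl Y z))
    simp only [τ]
    rw [hlincl, ExalLib.proj_incl, map_zero, map_zero, zero_add]

end Groth.Agent.S5832
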