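import Groth.Statements.S5833
import Groth.Agent.CharHomLib.Infinitesimal
import Mathlib
open scoped TensorProduct
-- import your own Groth.Agent.* helpers here

set_option autoImplicit false
universe u v
open scoped TensorProduct
open EGA41

namespace Groth.Agent.S5833

/-- Let Λ → A → B be ring maps, K an ideal of B, C = B ⧸ K, and suppose E = B ⧸ K², as an extension of C
by K/K², is Λ-trivial. Let χ : Υ_{C/A/Λ} → K/K² be the characteristic homomorphism of E as an
A-extension, relative to Λ → A. Then: (a) the kernel of χ consists of the elements of Υ_{C/A/Λ} ⊆ C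
⊗_A Ω_{A/Λ} whose image in C ⊗_B Ω_{B/Λ} is zero (that image map is written as the base change to C
of B ⊗_A Ω_{A/Λ} → Ω_{B/Λ}, through the canonical identification C ⊗_B (B ⊗_A Ω_{A/Λ}) = C ⊗_A
Ω_{A/Λ}); (b) the image of χ is the kernel of the conormal map K/K² → C ⊗_B Ω_{B/A}, x ↦ 1 ⊗ dx.
This is the exact sequence 0 → Υ^C_{B/A/Λ} → Υ_{C/A/Λ} → K/K² → C ⊗_B Ω_{B/A} → Ω_{C/A} → 0 up to
its last two (conormal-sequence) terms. -/
theorem result {Λ : Type u} {A B : Type v} [CommRing Λ]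
    [CommRing A] [CommRing B] [Algebra Λ A] [Algebra Λ B] [Algebra A B] [IsScalarTower Λ A B] (K : Ideal B)
    (htriv : ((Exal.Ext.infinitesimal K).restrictBase A).IsTrivialOver Λ)
    (χ : ↥(EGA41.imperfection Λ A (B ⧸ K)) →ₗ[B ⧸ K] K.Cotangent)
    (hχ : ((Exal.Ext.infinitesimal K).restrictBase A).IsCharHom Λ χ) :
    (∀ z : ↥(EGA41.imperfection Λ A (B ⧸ K)),
        χ z = 0 ↔
          ((KaehlerDifferential.mapBaseChange Λ A B).baseChange (B ⧸ K))
              ((TensorProduct.AlgebraTensorModule.cancelBaseChange A B (B ⧸ K) (B ⧸ K) Ω[A⁄Λ]).symm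
                (z : (B ⧸ K) ⊗[A] Ω[A⁄Λ])) = 0) ∧
      ∀ (x : B) (hx : x ∈ K),
        K.toCotangent ⟨x, hx⟩ ∈ LinearMap.range χ ↔
          (1 : B ⧸ K) ⊗ₜ[B] KaehlerDifferential.D A B x = (0 : (B ⧸ K) ⊗[B] Ω[B⁄A]) := by
  classical
  refine ⟨fun z => CharHomLib.charHom_eq_zero_iff htriv χ hχ z, fun x hx => ?_⟩
  obtain ⟨Φ, hΦ, hΦ'⟩ := CharHomLib.exists_infinitesimal_phi htriv χ hχ
  have hcomp : ∀ w, ((KaehlerDifferential.map Λ A B B).baseChange (B ⧸ K)) (CharHomLib.upMap Λ A B K w) = 0 := by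
    intro w
    refine LinearMap.congr_fun (f := ((KaehlerDifferential.map Λ A B B).baseChange (B ⧸ K)).comp (CharHomLib.upMap Λ A B K))
      (g := 0) (LinearMap.ext_on_range CharHomLib.span_one_tmul_D fun a => ?_) w
    rw [LinearMap.comp_apply, CharHomLib.upMap_tmul, LinearMap.baseChange_tmul, KaehlerDifferential.map_D,
      Algebra.algebraMap_self, RingHom.id_apply, Derivation.map_algebraMap, TensorProduct.tmul_zero, LinearMap.zero_apply]
  constructor
  · rintro ⟨z, hz⟩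
    obtain ⟨y, hy⟩ := CharHomLib.exists_mem_eq (CharHomLib.upMap Λ A B K z) (by rw [CharHomLib.mapBaseChange_upMap]; exact z.2)
    rw [hΦ' z, ← hy, hΦ] at hz
    have h1 := CharHomLib.one_tmul_D_eq_zero (Λ := Λ) (y - ⟨x, hx⟩) (by rw [map_sub, hz, sub_self])
    rw [Submodule.coe_sub, map_sub, TensorProduct.tmul_sub, hy, sub_eq_zero] at h1
    have h2 := hcomp (z : (B ⧸ K) ⊗[A] Ω[A⁄Λ])
    rw [h1, LinearMap.baseChange_tmul, KaehlerDifferential.map_D] at h2
    simpa using h2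
  · intro h0
    have hex := lTensor_exact (B ⧸ K) (KaehlerDifferential.exact_mapBaseChange_map Λ A B) (KaehlerDifferential.map_surjective Λ A B)
    obtain ⟨w, hw⟩ := (hex ((1 : B ⧸ K) ⊗ₜ[B] KaehlerDifferential.D Λ B x)).mp (by
      rw [LinearMap.lTensor_tmul, KaehlerDifferential.map_D]
      simpa using h0)
    let w' := TensorProduct.AlgebraTensorModule.cancelBaseChange A B (B ⧸ K) (B ⧸ K) Ω[A⁄Λ] w
    have hup : CharHomLib.upMap Λ A B K w' = (1 : B ⧸ K) ⊗ₜ[B] KaehlerDifferential.D Λ B x := by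
      show ((KaehlerDifferential.mapBaseChange Λ A B).baseChange (B ⧸ K))
        ((TensorProduct.AlgebraTensorModule.cancelBaseChange A B (B ⧸ K) (B ⧸ K) Ω[A⁄Λ]).symm w') = _
      rw [LinearEquiv.symm_apply_apply]
      exact hw
    refine ⟨⟨w', ?_⟩, ?_⟩
    · show KaehlerDifferential.mapBaseChange Λ A (B ⧸ K) w' = 0
      rw [← CharHomLib.mapBaseChange_upMap, hup, KaehlerDifferential.mapBaseChange_tmul, one_smul, KaehlerDifferential.map_D,
        Ideal.Quotient.algebraMap_eq, Ideal.Quotient.eq_zero_iff_mem.mpr hx, map_zero]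
    · rw [hΦ', hup]
      exact hΦ ⟨x, hx⟩

end Groth.Agent.S5833
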