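import Groth.Statements.S5834
import Groth.Agent.CharHomLib.Infinitesimal
import Mathlib
open scoped TensorProduct
-- import your own Groth.Agent.* helpers here

set_option autoImplicit false
universe u v
open EGA41

namespace Groth.Agent.S5834

/-- Let Λ → A → B be ring maps with B formally smooth over A, K an ideal of B, C = B ⧸ K, and suppose E
= B ⧸ K², as an extension of C by K/K², is Λ-trivial. Then the characteristic homomorphism χ :
Υ_{C/A/Λ} → K/K² of E as an A-extension relative to Λ → A is injective (so that, with the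
description of its image as the kernel of K/K² → C ⊗_B Ω_{B/A}, the sequence 0 → Υ_{C/A/Λ} → K/K² →
C ⊗_B Ω_{B/A} → Ω_{C/A} → 0 is exact). -/
theorem result {Λ : Type u} {A B : Type v} [CommRing Λ]
    [CommRing A] [CommRing B] [Algebra Λ A] [Algebra Λ B] [Algebra A B] [IsScalarTower Λ A B]
    [Algebra.FormallySmooth A B] (K : Ideal B)
    (htriv : ((Exal.Ext.infinitesimal K).restrictBase A).IsTrivialOver Λ)
    (χ : ↥(EGA41.imperfection Λ A (B ⧸ K)) →ₗ[B ⧸ K] K.Cotangent)
    (hχ : ((Exal.Ext.infinitesimal K).restrictBase A).IsCharHom Λ χ) :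
    Function.Injective χ := by
  classical
  have hinj : Function.Injective (KaehlerDifferential.mapBaseChange Λ A B) := by
    rw [← LinearMap.ker_eq_bot, eq_bot_iff]
    intro z hz
    obtain ⟨w, rfl⟩ := (Algebra.H1Cotangent.exact_δ_mapBaseChange Λ A B z).mp hz
    rw [Subsingleton.elim w 0, map_zero]; exact zero_mem _
  obtain ⟨s, hs⟩ := Module.projective_lifting_property (KaehlerDifferential.map Λ A B B)
    (LinearMap.id : Ω[B⁄A] →ₗ[B] Ω[B⁄A]) (KaehlerDifferential.map_surjective Λ A B)
  obtain ⟨-, ⟨r, hr⟩⟩ := (((KaehlerDifferential.exact_mapBaseChange_map Λ A B).split_tfae'.out 0 1 rfl rfl).mp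
    ⟨hinj, s, hs⟩)
  suffices key0 : ∀ z, χ z = 0 → z = 0 from fun a b h => sub_eq_zero.mp (key0 (a - b) ((LinearMap.map_sub χ a b).trans (sub_eq_zero.mpr h)))
  intro z hz
  have h0 := (CharHomLib.charHom_eq_zero_iff htriv χ hχ z).mp hz
  refine Subtype.ext ((TensorProduct.AlgebraTensorModule.cancelBaseChange A B (B ⧸ K) (B ⧸ K) Ω[A⁄Λ]).symm.injective ?_)
  have h1 : ∀ t, (r.baseChange (B ⧸ K)) ((KaehlerDifferential.mapBaseChange Λ A B).baseChange (B ⧸ K) t) = t := fun t => by
    rw [← LinearMap.comp_apply, ← LinearMap.baseChange_comp, hr, LinearMap.baseChange_id]; rfl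
  rw [← h1 ((TensorProduct.AlgebraTensorModule.cancelBaseChange A B (B ⧸ K) (B ⧸ K) Ω[A⁄Λ]).symm z.1)]
  show (r.baseChange (B ⧸ K)) (CharHomLib.upMap Λ A B K z) = _
  rw [h0, map_zero]
  exact (map_zero _).symm

end Groth.Agent.S5834
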