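import Groth.Statements.S5835
import Groth.Agent.PBasisLib.Kaehler
import Groth.Agent.FieldExtLib.Extend
-- import your own Groth.Agent.* helpers here

set_option autoImplicit false
universe v w
open scoped TensorProduct
open EGA41

namespace Groth.Agent.S5835

theorem hcomp_aux {k : Type v} {k₀ K L : Type w}
    [Field k₀] [Field k] [Field K] [Field L] [Algebra k₀ k] [Algebra k₀ K] [Algebra k₀ L] [Algebra k K]
    [Algebra k L] [Algebra K L] [IsScalarTower k₀ k K] [IsScalarTower k₀ k L] [IsScalarTower k₀ K L]
    [IsScalarTower k K L] (w : L ⊗[K] (K ⊗[k] Ω[k⁄k₀])) :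
    KaehlerDifferential.mapBaseChange k₀ K L ((KaehlerDifferential.mapBaseChange k₀ k K).baseChange L w) =
      KaehlerDifferential.mapBaseChange k₀ k L (TensorProduct.AlgebraTensorModule.cancelBaseChange k K L L Ω[k⁄k₀] w) := by
  induction w using TensorProduct.induction_on with
  | zero => simp
  | add a b ha hb => simp only [map_add, ha, hb]
  | tmul c w =>
    induction w using TensorProduct.induction_on with
    | zero => simp
    | add a b ha hb => simp only [TensorProduct.tmul_add, map_add, ha, hb]
    | tmul a w =>
      rw [LinearMap.baseChange_tmul, TensorProduct.AlgebraTensorModule.cancelBaseChange_tmul,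
        KaehlerDifferential.mapBaseChange_tmul, KaehlerDifferential.mapBaseChange_tmul,
        KaehlerDifferential.mapBaseChange_tmul, map_smul, smul_comm, smul_assoc]
      congr 2
      have hw : w ∈ Submodule.span k (Set.range (KaehlerDifferential.D k₀ k)) := by
        rw [KaehlerDifferential.span_range_derivation]; trivial
      induction hw using Submodule.span_induction with
      | mem x hx =>
        obtain ⟨b, rfl⟩ := hx
        simp [← IsScalarTower.algebraMap_apply]
      | zero => simp
      | add x y _ _ hx hy => rw [map_add, map_add, map_add, hx, hy]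
      | smul b x _ hx =>
        rw [map_smul (KaehlerDifferential.map k₀ k₀ k K), map_smul (KaehlerDifferential.map k₀ k₀ k L),
          ← algebraMap_smul K b ((KaehlerDifferential.map k₀ k₀ k K) x), map_smul, algebraMap_smul, hx]

/-- For fields k₀ ⊆ k ⊆ K ⊆ L, the map of imperfection modules Υ_{L/K/k₀} → Υ_{L/K/k} induced by
Ω_{K/k₀} → Ω_{K/k} is injective (k is k₀-admissible for the extension L of K) in each of the
following cases: L is separable over k; L is separable over K; k lies in k₀(K^p), p the
characteristic exponent. Separable means geometrically reduced (not necessarily algebraic). -/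
theorem result {k : Type v} {k₀ K L : Type w}
    [Field k₀] [Field k] [Field K] [Field L] [Algebra k₀ k] [Algebra k₀ K] [Algebra k₀ L] [Algebra k K]
    [Algebra k L] [Algebra K L] [IsScalarTower k₀ k K] [IsScalarTower k₀ k L] [IsScalarTower k₀ K L]
    [IsScalarTower k K L] (p : ℕ) [ExpChar K p]
    (h : Algebra.IsGeometricallyReduced k L ∨ Algebra.IsGeometricallyReduced K L ∨
      ∀ x : k, algebraMap k K x ∈ EGA41.pPowerSubalgebra p k₀ K) :
    ∀ z : L ⊗[K] Ω[K⁄k₀], z ∈ EGA41.imperfection k₀ K L →
      (KaehlerDifferential.map k₀ k K K).baseChange L z = 0 → z = 0 := by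
  classical
  intro z hz hz'
  have hL : KaehlerDifferential.mapBaseChange k₀ K L z = 0 := LinearMap.mem_ker.1 hz
  have hsep : Algebra.IsGeometricallyReduced K L → z = 0 := by
    intro hK
    haveI := Groth.Agent.FieldExtLib.formallySmooth_of_isGeometricallyReduced hK
    haveI : Subsingleton (Algebra.H1Cotangent K L) := Algebra.FormallySmooth.subsingleton_h1Cotangent
    obtain ⟨w, rfl⟩ := ((Algebra.H1Cotangent.exact_δ_mapBaseChange k₀ K L) z).1 hL
    rw [Subsingleton.elim w 0, map_zero]
  obtain ⟨y, rfl⟩ : ∃ y : L ⊗[K] (K ⊗[k] Ω[k⁄k₀]), (KaehlerDifferential.mapBaseChange k₀ k K).baseChange L y = z := by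
    have hex : Function.Exact ((KaehlerDifferential.mapBaseChange k₀ k K).baseChange L)
        ((KaehlerDifferential.map k₀ k K K).baseChange L) :=
      Module.Flat.lTensor_exact L (KaehlerDifferential.exact_mapBaseChange_map k₀ k K)
    exact (hex z).1 hz'
  rcases h with hk | hK | hp
  · haveI := Groth.Agent.FieldExtLib.formallySmooth_of_isGeometricallyReduced hk
    haveI : Subsingleton (Algebra.H1Cotangent k L) := Algebra.FormallySmooth.subsingleton_h1Cotangent
    let e := TensorProduct.AlgebraTensorModule.cancelBaseChange k K L L Ω[k⁄k₀]
    have hcomp := hcomp_aux (k := k) (k₀ := k₀) (K := K) (L := L)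
    rw [hcomp] at hL
    obtain ⟨w, hw⟩ := ((Algebra.H1Cotangent.exact_δ_mapBaseChange k₀ k L) _).1 hL
    rw [Subsingleton.elim w 0, map_zero] at hw
    rw [show y = 0 from e.injective (hw.symm.trans (map_zero e).symm), map_zero]
  · exact hsep hK
  · cases ‹ExpChar K p› with
    | zero =>
      exact hsep Groth.Agent.FieldExtLib.isGeometricallyReduced_of_perfectField
    | prime hprime =>
      haveI : Fact p.Prime := ⟨hprime⟩
      have h0 : KaehlerDifferential.mapBaseChange k₀ k K = 0 := by
        refine LinearMap.ext fun w => ?_
        induction w using TensorProduct.induction_on with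
        | zero => simp
        | add a b ha hb => rw [map_add, ha, hb, map_add]
        | tmul a w =>
          have hw : w ∈ Submodule.span k (Set.range (KaehlerDifferential.D k₀ k)) := by
            rw [KaehlerDifferential.span_range_derivation]; trivial
          clear hL hz hz' hsep
          induction hw using Submodule.span_induction generalizing a with
          | mem x hx =>
            obtain ⟨b, rfl⟩ := hx
            simp [KaehlerDifferential.mapBaseChange_tmul, Groth.Agent.PBasisLib.derivation_pPower_eq_zero p
              (KaehlerDifferential.D k₀ K) (hp b)]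
          | zero => simp
          | add x y _ _ hx hy => simp only [TensorProduct.tmul_add, map_add, hx a, hy a]
          | smul b x _ hx =>
            rw [show a ⊗ₜ[k] (b • x) = (b • a) ⊗ₜ[k] x from (TensorProduct.smul_tmul b a x).symm]
            exact hx (b • a)
      rw [h0, LinearMap.baseChange_zero, LinearMap.zero_apply]

end Groth.Agent.S5835
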