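import Groth.Statements.S5836
import Groth.Agent.CharHomLib.Defect
import Mathlib
-- import your own Groth.Agent.* helpers here

set_option autoImplicit false
universe u u' u'' w
open scoped TensorProduct
open EGA41

namespace Groth.Agent.S5836

/-- For fields k ⊆ k' ⊆ k'' ⊆ K ⊆ L put Δ(L/K, a/b) = ker(Υ_{L/K/b} → Υ_{L/K/a}) ⊆ L ⊗_K Ω_{K/b}. Then 0
→ Δ(L/K, k'/k) → Δ(L/K, k''/k) → Δ(L/K, k''/k') → 0 is exact: stated as the surjectivity of the map
induced by L ⊗_K Ω_{K/k} → L ⊗_K Ω_{K/k'} (exactness on the left and in the middle hold by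
construction), together with the resulting identity of ranks d(L/K, k''/k) = d(L/K, k''/k') + d(L/K,
k'/k). -/
theorem result {k : Type u} {k' : Type u'} {k'' : Type u''} {K L : Type w}
    [Field k] [Field k'] [Field k''] [Field K] [Field L]
    [Algebra k k'] [Algebra k k''] [Algebra k' k''] [IsScalarTower k k' k'']
    [Algebra k K] [Algebra k' K] [Algebra k'' K] [IsScalarTower k k' K] [IsScalarTower k' k'' K]
    [IsScalarTower k k'' K] [Algebra K L] [Algebra k L] [Algebra k' L] [Algebra k'' L]
    [IsScalarTower k K L] [IsScalarTower k' K L] [IsScalarTower k'' K L] :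
    (∀ w : L ⊗[K] Ω[K⁄k'], w ∈ EGA41.imperfection k' K L →
        (KaehlerDifferential.map k' k'' K K).baseChange L w = 0 →
          ∃ z : L ⊗[K] Ω[K⁄k], z ∈ EGA41.imperfection k K L ∧
            (KaehlerDifferential.map k k'' K K).baseChange L z = 0 ∧
              (KaehlerDifferential.map k k' K K).baseChange L z = w) ∧
      Module.rank L ↥(EGA41.imperfection k K L ⊓
            LinearMap.ker ((KaehlerDifferential.map k k'' K K).baseChange L)) =
        Module.rank L ↥(EGA41.imperfection k' K L ⊓
              LinearMap.ker ((KaehlerDifferential.map k' k'' K K).baseChange L)) +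
          Module.rank L ↥(EGA41.imperfection k K L ⊓
              LinearMap.ker ((KaehlerDifferential.map k k' K K).baseChange L)) := by
  classical
  haveI : IsScalarTower k k' L := IsScalarTower.of_algebraMap_eq fun a => by
    rw [IsScalarTower.algebraMap_apply k' K L, ← IsScalarTower.algebraMap_apply k k' K, ← IsScalarTower.algebraMap_apply k K L]
  let g := (KaehlerDifferential.map k k' K K).baseChange L
  let h := (KaehlerDifferential.map k k'' K K).baseChange L
  let h' := (KaehlerDifferential.map k' k'' K K).baseChange L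
  have hgh : ∀ z, h' (g z) = h z := by
    intro z
    refine LinearMap.congr_fun (f := h'.comp g) (g := h) (LinearMap.ext_on_range CharHomLib.span_one_tmul_D fun a => ?_) z
    simp [g, h, h', KaehlerDifferential.map_D]
  have hgU : ∀ z, KaehlerDifferential.map k k' L L (KaehlerDifferential.mapBaseChange k K L z) =
      KaehlerDifferential.mapBaseChange k' K L (g z) := by
    intro z
    refine LinearMap.congr_fun (f := (KaehlerDifferential.map k k' L L).comp (KaehlerDifferential.mapBaseChange k K L))
      (g := (KaehlerDifferential.mapBaseChange k' K L).comp g) (LinearMap.ext_on_range CharHomLib.span_one_tmul_D fun a => ?_) z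
    simp [g, KaehlerDifferential.map_D]
  let P := EGA41.imperfection k K L ⊓ LinearMap.ker h
  let Q := EGA41.imperfection k' K L ⊓ LinearMap.ker h'
  have hmaps : ∀ z ∈ P, g z ∈ Q := by
    rintro z ⟨hz1, hz2⟩
    refine ⟨?_, ?_⟩
    · show KaehlerDifferential.mapBaseChange k' K L (g z) = 0
      rw [← hgU, show KaehlerDifferential.mapBaseChange k K L z = 0 from hz1, map_zero]
    · show h' (g z) = 0
      rw [hgh]; exact hz2
  have honto : ∀ w ∈ Q, ∃ z ∈ P, g z = w := by
    rintro w ⟨hw1, hw2⟩
    obtain ⟨z, hz⟩ : ∃ z, g z = w := by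
      obtain ⟨z, hz⟩ := LinearMap.lTensor_surjective L (KaehlerDifferential.map_surjective k k' K) w
      exact ⟨z, hz⟩
    have hT : Submodule.span L (Set.range fun a : k' => KaehlerDifferential.D k L (algebraMap k' L a)) ≤
        (LinearMap.ker g ⊓ LinearMap.ker h).map (KaehlerDifferential.mapBaseChange k K L) := by
      rw [Submodule.span_le]
      rintro _ ⟨a, rfl⟩
      refine ⟨(1 : L) ⊗ₜ[K] KaehlerDifferential.D k K (algebraMap k' K a), ⟨?_, ?_⟩, ?_⟩
      · show g _ = 0
        simp [g, KaehlerDifferential.map_D]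
      · show h _ = 0
        simp [h, KaehlerDifferential.map_D, IsScalarTower.algebraMap_apply k' k'' K]
      · rw [KaehlerDifferential.mapBaseChange_tmul, one_smul, KaehlerDifferential.map_D, ← IsScalarTower.algebraMap_apply]
    obtain ⟨u, ⟨hu1, hu2⟩, hu⟩ := hT (CharHomLib.ker_map_le_span (A := k) (B := k') (C := L) (by
      rw [LinearMap.mem_ker, hgU, hz]
      exact hw1 : KaehlerDifferential.mapBaseChange k K L z ∈ LinearMap.ker (KaehlerDifferential.map k k' L L)))
    refine ⟨z - u, ⟨?_, ?_⟩, ?_⟩
    · show KaehlerDifferential.mapBaseChange k K L (z - u) = 0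
      rw [map_sub, hu, sub_self]
    · show h (z - u) = 0
      rw [map_sub, show h u = 0 from hu2, sub_zero, ← hgh, hz]
      exact hw2
    · rw [map_sub, show g u = 0 from hu1, sub_zero, hz]
  refine ⟨fun w hw1 hw2 => ?_, CharHomLib.rank_eq_add_of_onto g P _ Q hmaps honto ?_⟩
  · obtain ⟨z, ⟨hz1, hz2⟩, hz⟩ := honto w ⟨hw1, hw2⟩
    exact ⟨z, hz1, hz2, hz⟩
  · ext z
    constructor
    · rintro ⟨⟨h1, -⟩, h3⟩; exact ⟨h1, h3⟩
    · rintro ⟨h1, h3⟩
      refine ⟨⟨h1, ?_⟩, h3⟩
      show h z = 0
      rw [← hgh, show g z = 0 from h3, map_zero]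

end Groth.Agent.S5836
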