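import Groth.Statements.S5837
import Groth.Agent.CharHomLib.Defect
import Mathlib
-- import your own Groth.Agent.* helpers here

set_option autoImplicit false
universe u u' w
open scoped TensorProduct
open EGA41

namespace Groth.Agent.S5837

/-- Rank form. For fields k₀ ⊆ k ⊆ K ⊆ L ⊆ M, with Δ(F/E, k/k₀) = ker(Υ_{F/E/k₀} → Υ_{F/E/k}) and d its
rank, one has d(M/K, k/k₀) = d(M/L, k/k₀) + d(L/K, k/k₀) (cardinal ranks; the published statement
gives the short exact sequence 0 → Δ(L/K, k/k₀) ⊗_L M → Δ(M/K, k/k₀) → Δ(M/L, k/k₀) → 0, of which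
this row states the rank identity). -/
theorem result {k₀ : Type u} {k : Type u'} {K L M : Type w}
    [Field k₀] [Field k] [Field K] [Field L] [Field M] [Algebra k₀ k]
    [Algebra k₀ K] [Algebra k K] [IsScalarTower k₀ k K] [Algebra k₀ L] [Algebra k L] [IsScalarTower k₀ k L]
    [Algebra K L] [Algebra K M] [Algebra L M] [IsScalarTower K L M]
    [Algebra k₀ M] [Algebra k M] [IsScalarTower k₀ K L] [IsScalarTower k K L]
    [IsScalarTower k₀ K M] [IsScalarTower k K M] [IsScalarTower k₀ L M] [IsScalarTower k L M] :
    Module.rank M ↥(EGA41.imperfection k₀ K M ⊓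
          LinearMap.ker ((KaehlerDifferential.map k₀ k K K).baseChange M)) =
      Module.rank M ↥(EGA41.imperfection k₀ L M ⊓
            LinearMap.ker ((KaehlerDifferential.map k₀ k L L).baseChange M)) +
        Module.rank L ↥(EGA41.imperfection k₀ K L ⊓
            LinearMap.ker ((KaehlerDifferential.map k₀ k K K).baseChange L)) := by
  classical
  let e := (TensorProduct.AlgebraTensorModule.cancelBaseChange K L M M Ω[K⁄k₀]).symm
  let ψ : M ⊗[K] Ω[K⁄k₀] →ₗ[M] M ⊗[L] Ω[L⁄k₀] :=
    ((KaehlerDifferential.mapBaseChange k₀ K L).baseChange M).comp e.toLinearMap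
  let mL := (KaehlerDifferential.map k₀ k K K).baseChange L
  let mM := (KaehlerDifferential.map k₀ k K K).baseChange M
  let mM' := (KaehlerDifferential.map k₀ k L L).baseChange M
  let e' := (TensorProduct.AlgebraTensorModule.cancelBaseChange K L M M Ω[K⁄k]).symm
  have hψ : ∀ a : K, ψ ((1 : M) ⊗ₜ[K] KaehlerDifferential.D k₀ K a) =
      (1 : M) ⊗ₜ[L] KaehlerDifferential.D k₀ L (algebraMap K L a) := fun a => by
    simp [ψ, e, TensorProduct.AlgebraTensorModule.cancelBaseChange_symm_tmul, KaehlerDifferential.map_D]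
  have hU : ∀ z, KaehlerDifferential.mapBaseChange k₀ L M (ψ z) = KaehlerDifferential.mapBaseChange k₀ K M z := by
    intro z
    refine LinearMap.congr_fun (f := (KaehlerDifferential.mapBaseChange k₀ L M).comp ψ)
      (g := KaehlerDifferential.mapBaseChange k₀ K M) (LinearMap.ext_on_range CharHomLib.span_one_tmul_D fun a => ?_) z
    rw [LinearMap.comp_apply, hψ]
    simp [KaehlerDifferential.map_D, ← IsScalarTower.algebraMap_apply]
  have hm : ∀ z, mM' (ψ z) = ((KaehlerDifferential.mapBaseChange k K L).baseChange M) (e' (mM z)) := by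
    intro z
    refine LinearMap.congr_fun (f := mM'.comp ψ)
      (g := (((KaehlerDifferential.mapBaseChange k K L).baseChange M).comp e'.toLinearMap).comp mM)
      (LinearMap.ext_on_range CharHomLib.span_one_tmul_D fun a => ?_) z
    rw [LinearMap.comp_apply, hψ]
    simp [mM', mM, e', TensorProduct.AlgebraTensorModule.cancelBaseChange_symm_tmul, KaehlerDifferential.map_D]
  have he : ∀ z, mL.baseChange M (e z) = e' (mM z) := by
    intro z
    refine LinearMap.congr_fun (f := (mL.baseChange M).comp e.toLinearMap)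
      (g := e'.toLinearMap.comp mM) (LinearMap.ext_on_range CharHomLib.span_one_tmul_D fun a => ?_) z
    simp [mL, mM, e, e', TensorProduct.AlgebraTensorModule.cancelBaseChange_symm_tmul, KaehlerDifferential.map_D]
  let P := EGA41.imperfection k₀ K M ⊓ LinearMap.ker mM
  let Q := EGA41.imperfection k₀ L M ⊓ LinearMap.ker mM'
  have hmaps : ∀ z ∈ P, ψ z ∈ Q := by
    rintro z ⟨hz1, hz2⟩
    refine ⟨?_, ?_⟩
    · show KaehlerDifferential.mapBaseChange k₀ L M (ψ z) = 0
      rw [hU]; exact hz1
    · show mM' (ψ z) = 0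
      rw [hm, show mM z = 0 from hz2, map_zero, map_zero]
  have honto : ∀ w ∈ Q, ∃ z ∈ P, ψ z = w := by
    rintro w ⟨hw1, hw2⟩
    have hex := lTensor_exact M (f := (LinearMap.ker (KaehlerDifferential.map k₀ k L L)).subtype)
      (LinearMap.exact_subtype_ker_map _) (KaehlerDifferential.map_surjective k₀ k L)
    obtain ⟨t, ht⟩ := (hex w).mp hw2
    have hT : ∀ t, (LinearMap.ker (KaehlerDifferential.map k₀ k L L)).subtype.lTensor M t ∈
        (LinearMap.ker mM).map ψ := by
      intro t
      induction t using TensorProduct.induction_on with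
      | zero => rw [map_zero]; exact zero_mem _
      | tmul c x =>
        rw [LinearMap.lTensor_tmul]
        obtain ⟨x, hxk⟩ := x
        have hx := CharHomLib.ker_map_le_span hxk
        show c ⊗ₜ[L] (x : Ω[L⁄k₀]) ∈ _
        clear hxk
        induction hx using Submodule.span_induction generalizing c with
        | mem y hy =>
          obtain ⟨a, rfl⟩ := hy
          refine ⟨c • (1 : M) ⊗ₜ[K] KaehlerDifferential.D k₀ K (algebraMap k K a), ?_, ?_⟩
          · show mM _ = 0
            rw [map_smul, show mM ((1 : M) ⊗ₜ[K] KaehlerDifferential.D k₀ K (algebraMap k K a)) = 0 from ?_, smul_zero]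
            show (KaehlerDifferential.map k₀ k K K).baseChange M ((1 : M) ⊗ₜ[K] KaehlerDifferential.D k₀ K (algebraMap k K a)) = 0
            rw [LinearMap.baseChange_tmul, KaehlerDifferential.map_D, Algebra.algebraMap_self, RingHom.id_apply,
              Derivation.map_algebraMap, TensorProduct.tmul_zero]
          · rw [map_smul, hψ, TensorProduct.smul_tmul', smul_eq_mul, mul_one, ← IsScalarTower.algebraMap_apply]
        | zero => rw [TensorProduct.tmul_zero]; exact zero_mem _
        | add y y' _ _ hy hy' => rw [TensorProduct.tmul_add]; exact add_mem (hy c) (hy' c)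
        | smul b y _ hy => rw [← TensorProduct.smul_tmul]; exact hy _
      | add a b ha hb => rw [map_add]; exact add_mem ha hb
    obtain ⟨z, hz, hzw⟩ := hT t
    rw [ht] at hzw
    refine ⟨z, ⟨?_, hz⟩, hzw⟩
    show KaehlerDifferential.mapBaseChange k₀ K M z = 0
    rw [← hU, hzw]
    exact hw1
  let f := (KaehlerDifferential.mapBaseChange k₀ K L).prod mL
  have hf : ∀ x, TensorProduct.prodRight L M M _ _ (f.baseChange M x) =
      ((KaehlerDifferential.mapBaseChange k₀ K L).baseChange M x, mL.baseChange M x) := by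
    intro x
    induction x using TensorProduct.induction_on with
    | zero => simp only [map_zero]; rfl
    | tmul c y => simp [f]
    | add a b ha hb => simp [map_add, ha, hb]
  have hK : (P ⊓ LinearMap.ker ψ).map e.toLinearMap = LinearMap.ker (f.baseChange M) := by
    ext x
    rw [Submodule.mem_map]
    constructor
    · rintro ⟨z, ⟨⟨-, hz2⟩, hz3⟩, rfl⟩
      rw [LinearMap.mem_ker, ← LinearEquiv.map_eq_zero_iff (TensorProduct.prodRight L M M _ _), hf, Prod.mk_eq_zero]
      refine ⟨hz3, ?_⟩
      show mL.baseChange M (e z) = 0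
      rw [he, show mM z = 0 from hz2, map_zero]
    · intro hx
      rw [LinearMap.mem_ker, ← LinearEquiv.map_eq_zero_iff (TensorProduct.prodRight L M M _ _), hf, Prod.mk_eq_zero] at hx
      refine ⟨e.symm x, ⟨⟨?_, ?_⟩, ?_⟩, e.apply_symm_apply x⟩
      · show KaehlerDifferential.mapBaseChange k₀ K M (e.symm x) = 0
        rw [← hU, show ψ (e.symm x) = 0 by simp [ψ, hx.1], map_zero]
      · show mM (e.symm x) = 0
        apply e'.injective
        rw [← he, e.apply_symm_apply, hx.2, map_zero]
      · show ψ (e.symm x) = 0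
        simp [ψ, hx.1]
  haveI : Module.Free L (LinearMap.ker f) := @Module.Free.of_divisionRing L ↥(LinearMap.ker f) _ (Submodule.addCommGroup _) (Submodule.module _)
  rw [CharHomLib.rank_eq_add_of_onto ψ P (P ⊓ LinearMap.ker ψ) Q hmaps honto rfl]
  congr 1
  rw [(e.submoduleMap (P ⊓ LinearMap.ker ψ)).rank_eq, hK,
    show LinearMap.ker (f.baseChange M) = LinearMap.ker (TensorProduct.AlgebraTensorModule.lTensor M M f) from rfl,
    ← (LinearMap.tensorKerEquiv M M f).rank_eq, Module.rank_baseChange, Cardinal.lift_id,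
    show LinearMap.ker f = EGA41.imperfection k₀ K L ⊓ LinearMap.ker mL from LinearMap.ker_prod _ _]

end Groth.Agent.S5837
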