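import Groth.Prelude.Def_TopMod
import Mathlib

/-!
# Left inverses of continuous maps between modules with deduced topology
-/

set_option autoImplicit false
universe u v w

open Filter Topology

namespace Groth.Agent.TopModLeftInvLib

variable {A : Type u} {M : Type v} {N : Type w} [CommRing A] [TopologicalSpace A] [AddCommGroup M] [Module A M]
  [AddCommGroup N] [Module A N]

theorem hasBasis (𝔍 : ℕ → Ideal A) (h𝔍open : ∀ n, IsOpen (𝔍 n : Set A))
    (h𝔍basis : (nhds (0 : A)).HasBasis (fun _ : ℕ => True) (fun n => (𝔍 n : Set A)))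
    [TopologicalSpace M] (hM : TopMod.IsDeduced A M) :
    (nhds (0 : M)).HasBasis (fun _ : ℕ => True) (fun n => ((𝔍 n • ⊤ : Submodule A M) : Set M)) := by
  refine hM.2.to_hasBasis (fun J hJ => ?_) fun n _ => ⟨𝔍 n, h𝔍open n, subset_rfl⟩
  obtain ⟨n, -, hn⟩ := h𝔍basis.mem_iff.mp (hJ.mem_nhds J.zero_mem)
  exact ⟨n, trivial, Submodule.smul_mono hn le_rfl⟩

/-- A compatible family of maps to the quotients of a complete module comes from a map. -/
theorem exists_glue [UniformSpace M] [IsUniformAddGroup M] [CompleteSpace M] [T2Space M]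
    (𝔍 : ℕ → Ideal A) (h𝔍anti : Antitone 𝔍)
    (hb : (nhds (0 : M)).HasBasis (fun _ : ℕ => True) (fun n => ((𝔍 n • ⊤ : Submodule A M) : Set M)))
    (W : ∀ n, N →ₗ[A] M ⧸ (𝔍 n • ⊤ : Submodule A M))
    (hW : ∀ n (y : N) (m : M), W (n + 1) y = Submodule.Quotient.mk m → W n y = Submodule.Quotient.mk m) :
    ∃ w : N →ₗ[A] M, ∀ n y, Submodule.Quotient.mk (w y) = W n y := by
  classical
  have hW' : ∀ n k (y : N) (m : M), W (n + k) y = Submodule.Quotient.mk m → W n y = Submodule.Quotient.mk m := by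
    intro n k
    induction k with
    | zero => exact fun y m h => h
    | succ k ih => exact fun y m h => ih y m (hW (n + k) y m h)
  have hanti : ∀ n k, n ≤ k → (𝔍 k • ⊤ : Submodule A M) ≤ 𝔍 n • ⊤ := fun n k h => Submodule.smul_mono (h𝔍anti h) le_rfl
  have hex : ∀ y, ∃ m, ∀ n, Submodule.Quotient.mk m = W n y := by
    intro y
    choose m hm using fun n => Submodule.Quotient.mk_surjective _ (W n y)
    have hc : CauchySeq m := by
      rw [cauchySeq_iff_tendsto, uniformity_eq_comap_nhds_zero, tendsto_comap_iff, hb.tendsto_right_iff]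
      intro n _
      rw [eventually_atTop]
      refine ⟨(n, n), fun ab hab => ?_⟩
      obtain ⟨k₁, hk₁⟩ := Nat.exists_eq_add_of_le hab.1
      obtain ⟨k₂, hk₂⟩ := Nat.exists_eq_add_of_le hab.2
      have e₁ : Submodule.Quotient.mk (m ab.1) = W n y := by
        refine (hW' n k₁ y _ ?_).symm
        rw [← hk₁, hm]
      have e₂ : Submodule.Quotient.mk (m ab.2) = W n y := by
        refine (hW' n k₂ y _ ?_).symm
        rw [← hk₂, hm]
      exact (Submodule.Quotient.eq _).mp (e₂.trans e₁.symm)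
    obtain ⟨l, hl⟩ := cauchySeq_tendsto_of_complete hc
    refine ⟨l, fun n => ?_⟩
    have hev : ∀ᶠ j in atTop, m j - l ∈ (𝔍 n • ⊤ : Submodule A M) := by
      have : Tendsto (fun j => m j - l) atTop (nhds 0) := by
        simpa using hl.sub_const l
      exact this (hb.mem_of_mem trivial)
    obtain ⟨j, hj, hjn⟩ := (hev.and (eventually_ge_atTop n)).exists
    obtain ⟨k, rfl⟩ := Nat.exists_eq_add_of_le hjn
    rw [hW' n k y _ (hm (n + k)).symm, Submodule.Quotient.eq, ← Submodule.neg_mem_iff, neg_sub]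
    exact hj
  choose w hw using hex
  have huniq : ∀ a b : M, (∀ n, (Submodule.Quotient.mk a : M ⧸ (𝔍 n • ⊤ : Submodule A M)) = Submodule.Quotient.mk b) → a = b := by
    intro a b h
    rw [← sub_eq_zero]
    by_contra hne
    obtain ⟨n, -, hn⟩ := hb.mem_iff.mp (isOpen_compl_singleton.mem_nhds (show (0 : M) ∈ ({a - b}ᶜ : Set M) from Ne.symm hne))
    exact hn ((Submodule.Quotient.eq _).mp (h n)) rfl
  exact ⟨{ toFun := w
           map_add' := fun y y' => huniq _ _ fun n => by rw [hw, Submodule.Quotient.mk_add, hw, hw, map_add]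
           map_smul' := fun a y => huniq _ _ fun n => by rw [hw, RingHom.id_apply, Submodule.Quotient.mk_smul, hw, map_smul] },
    fun n y => hw y n⟩

omit [TopologicalSpace A] in
/-- Lifting along `M/J'M → M/JM` out of a module with projective reduction. -/
theorem exists_lift {P : Type*} [AddCommGroup P] [Module A P] (J J' : Ideal A) (hJ : J' ≤ J)
    (hP : Module.Projective (A ⧸ J') (P ⧸ (J' • ⊤ : Submodule A P)))
    (d : P →ₗ[A] M ⧸ (J • ⊤ : Submodule A M)) :
    ∃ g : P →ₗ[A] M ⧸ (J' • ⊤ : Submodule A M), ∀ x,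
      Submodule.factor (Submodule.smul_mono hJ le_rfl) (g x) = d x := by
  classical
  have hd : (J' • ⊤ : Submodule A P) ≤ LinearMap.ker d := by
    refine Submodule.smul_le.mpr fun a ha x _ => ?_
    obtain ⟨m, hm⟩ := Submodule.Quotient.mk_surjective _ (d x)
    rw [LinearMap.mem_ker, map_smul, ← hm, ← Submodule.Quotient.mk_smul, Submodule.Quotient.mk_eq_zero]
    exact Submodule.smul_mem_smul (hJ ha) trivial
  let d' := Submodule.liftQ _ d hd
  let π := Submodule.factor (Submodule.smul_mono hJ le_rfl : (J' • ⊤ : Submodule A M) ≤ J • ⊤)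
  obtain ⟨s, hs⟩ := hP.out
  choose σ hσ using fun p : P ⧸ (J' • ⊤ : Submodule A P) => Submodule.factor_surjective (Submodule.smul_mono hJ le_rfl : (J' • ⊤ : Submodule A M) ≤ J • ⊤) (d' p)
  let Φ := Finsupp.linearCombination (A ⧸ J') σ
  have hΦ : ∀ c : (P ⧸ (J' • ⊤ : Submodule A P)) →₀ A ⧸ J',
      π (Φ c) = d' (Finsupp.linearCombination (A ⧸ J') id c) := by
    intro c
    induction c using Finsupp.induction_linear with
    | zero => simp
    | add f g hf hg => simp [map_add, hf, hg]
    | single p r =>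
      obtain ⟨r, rfl⟩ := Ideal.Quotient.mk_surjective r
      have h1 : Φ (Finsupp.single p (Ideal.Quotient.mk J' r)) = r • σ p := by
        rw [Finsupp.linearCombination_single]
        exact IsScalarTower.algebraMap_smul (A ⧸ J') r (σ p)
      have h2 : Finsupp.linearCombination (A ⧸ J') id (Finsupp.single p (Ideal.Quotient.mk J' r)) = r • p := by
        rw [Finsupp.linearCombination_single]
        exact IsScalarTower.algebraMap_smul (A ⧸ J') r p
      rw [h1, h2, map_smul, map_smul]
      exact congrArg (r • ·) (hσ p)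
  refine ⟨((Φ.comp s).restrictScalars A).comp (Submodule.mkQ _), fun x => ?_⟩
  show π (Φ (s (Submodule.Quotient.mk x))) = d x
  rw [hΦ, hs]
  rfl

/-- Left inverses exist when they exist modulo each of the ideals and the cokernel has projective reductions. -/
theorem exists_leftInverse [UniformSpace M] [IsUniformAddGroup M] [CompleteSpace M] [T2Space M]
    (𝔍 : ℕ → Ideal A) (h𝔍anti : Antitone 𝔍)
    (hb : (nhds (0 : M)).HasBasis (fun _ : ℕ => True) (fun n => ((𝔍 n • ⊤ : Submodule A M) : Set M)))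
    (u : M →ₗ[A] N)
    (hcoker : ∀ n, Module.Projective (A ⧸ 𝔍 n)
      ((N ⧸ LinearMap.range u) ⧸ (𝔍 n • (⊤ : Submodule A (N ⧸ LinearMap.range u)))))
    (hn : ∀ n, ∃ W : N →ₗ[A] M ⧸ (𝔍 n • ⊤ : Submodule A M), ∀ x, W (u x) = Submodule.Quotient.mk x) :
    ∃ w : N →ₗ[A] M, ∀ x, w (u x) = x := by
  classical
  choose V hV using hn
  have step : ∀ n (W : {W : N →ₗ[A] M ⧸ (𝔍 n • ⊤ : Submodule A M) // ∀ x, W (u x) = Submodule.Quotient.mk x}),
      ∃ W' : {W' : N →ₗ[A] M ⧸ (𝔍 (n + 1) • ⊤ : Submodule A M) // ∀ x, W' (u x) = Submodule.Quotient.mk x},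
        ∀ y, Submodule.factor (Submodule.smul_mono (h𝔍anti n.le_succ) le_rfl) (W'.1 y) = W.1 y := by
    intro n W
    let π := Submodule.factor (Submodule.smul_mono (h𝔍anti n.le_succ) le_rfl :
      (𝔍 (n + 1) • ⊤ : Submodule A M) ≤ 𝔍 n • ⊤)
    have hd : LinearMap.range u ≤ LinearMap.ker (W.1 - π.comp (V (n + 1))) := by
      rintro _ ⟨x, rfl⟩
      rw [LinearMap.mem_ker, LinearMap.sub_apply, LinearMap.comp_apply, hV, W.2]
      exact sub_eq_zero.mpr rfl
    obtain ⟨g, hg⟩ := exists_lift (𝔍 n) (𝔍 (n + 1)) (h𝔍anti n.le_succ) (hcoker (n + 1)) (Submodule.liftQ _ _ hd)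
    refine ⟨⟨V (n + 1) + g.comp (Submodule.mkQ _), fun x => ?_⟩, fun y => ?_⟩
    · rw [LinearMap.add_apply, LinearMap.comp_apply, Submodule.mkQ_apply,
        (Submodule.Quotient.mk_eq_zero _).mpr (LinearMap.mem_range_self u x), map_zero, add_zero, hV]
    · simp only [LinearMap.add_apply, LinearMap.comp_apply, map_add, hg]
      rw [Submodule.mkQ_apply, Submodule.liftQ_apply, LinearMap.sub_apply, LinearMap.comp_apply]
      exact add_sub_cancel _ _
  choose next hnext using step
  let W : ∀ n, {W : N →ₗ[A] M ⧸ (𝔍 n • ⊤ : Submodule A M) // ∀ x, W (u x) = Submodule.Quotient.mk x} :=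
    fun n => Nat.rec ⟨V 0, hV 0⟩ (fun k Wk => next k Wk) n
  obtain ⟨w, hw⟩ := exists_glue 𝔍 h𝔍anti hb (fun n => (W n).1) fun n y m h => by
    rw [← hnext n (W n) y]
    exact congrArg (Submodule.factor _) h
  refine ⟨w, fun x => ?_⟩
  rw [← sub_eq_zero]
  by_contra hne
  obtain ⟨n, -, hn⟩ := hb.mem_iff.mp (isOpen_compl_singleton.mem_nhds (show (0 : M) ∈ ({w (u x) - x}ᶜ : Set M) from Ne.symm hne))
  exact hn ((Submodule.Quotient.eq _).mp ((hw n (u x)).trans ((W n).2 x))) rfl

omit [TopologicalSpace A] in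
/-- A left inverse modulo `J` makes the reduced cokernel a retract of the reduced target. -/
theorem projective_coker (u : M →ₗ[A] N) (J : Ideal A)
    (hN : Module.Projective (A ⧸ J) (N ⧸ (J • ⊤ : Submodule A N)))
    (W : N →ₗ[A] M ⧸ (J • ⊤ : Submodule A M)) (hW : ∀ x, W (u x) = Submodule.Quotient.mk x) :
    Module.Projective (A ⧸ J) ((N ⧸ LinearMap.range u) ⧸ (J • (⊤ : Submodule A (N ⧸ LinearMap.range u)))) := by
  have hmapu : (J • ⊤ : Submodule A M) ≤ (J • ⊤ : Submodule A N).comap u := by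
    rw [← Submodule.map_le_iff_le_comap, Submodule.map_smul'']
    exact Submodule.smul_mono le_rfl le_top
  let ub : (M ⧸ (J • ⊤ : Submodule A M)) →ₗ[A] N ⧸ (J • ⊤ : Submodule A N) := Submodule.mapQ _ _ u hmapu
  let e : N →ₗ[A] N ⧸ (J • ⊤ : Submodule A N) := Submodule.mkQ _ - ub.comp W
  have he : LinearMap.range u ≤ LinearMap.ker e := by
    rintro _ ⟨x, rfl⟩
    rw [LinearMap.mem_ker, LinearMap.sub_apply, LinearMap.comp_apply, hW]
    exact sub_self _
  have he' : (J • ⊤ : Submodule A (N ⧸ LinearMap.range u)) ≤ LinearMap.ker (Submodule.liftQ _ e he) := by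
    refine Submodule.smul_le.mpr fun a ha x _ => ?_
    obtain ⟨z, hz⟩ := Submodule.Quotient.mk_surjective _ (Submodule.liftQ _ e he x)
    rw [LinearMap.mem_ker, map_smul, ← hz, ← Submodule.Quotient.mk_smul, Submodule.Quotient.mk_eq_zero]
    exact Submodule.smul_mem_smul ha trivial
  have hp : (J • ⊤ : Submodule A N) ≤
      (J • ⊤ : Submodule A (N ⧸ LinearMap.range u)).comap (Submodule.mkQ (LinearMap.range u)) := by
    rw [← Submodule.map_le_iff_le_comap, Submodule.map_smul'']
    exact Submodule.smul_mono le_rfl le_top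
  let i := Submodule.liftQ _ (Submodule.liftQ _ e he) he'
  let s := Submodule.mapQ _ _ (Submodule.mkQ (LinearMap.range u)) hp
  have hsi : ∀ x, s (i x) = x := by
    intro x
    obtain ⟨x, rfl⟩ := Submodule.Quotient.mk_surjective _ x
    obtain ⟨y, rfl⟩ := Submodule.Quotient.mk_surjective _ x
    obtain ⟨m, hm⟩ := Submodule.Quotient.mk_surjective _ (W y)
    show s (Submodule.Quotient.mk y - ub (W y)) = _
    rw [← hm, map_sub]
    show Submodule.Quotient.mk (Submodule.mkQ (LinearMap.range u) y) - s (Submodule.Quotient.mk (u m)) = _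
    rw [show s (Submodule.Quotient.mk (u m)) = Submodule.Quotient.mk (Submodule.mkQ (LinearMap.range u) (u m)) from rfl,
      Submodule.mkQ_apply, Submodule.mkQ_apply, (Submodule.Quotient.mk_eq_zero _).mpr (LinearMap.mem_range_self u m),
      Submodule.Quotient.mk_zero, sub_zero]
  exact Module.Projective.of_split
    (i.extendScalarsOfSurjective (S := A ⧸ J) Ideal.Quotient.mk_surjective)
    (s.extendScalarsOfSurjective (S := A ⧸ J) Ideal.Quotient.mk_surjective) (LinearMap.ext hsi)

end Groth.Agent.TopModLeftInvLib
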