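import Groth.Statements.S5838
import Groth.Agent.TopModLeftInvLib
import Mathlib
open Filter Topology
-- import your own Groth.Agent.* helpers here

set_option autoImplicit false
universe u v w
open EGA41

namespace Groth.Agent.S5838

/-- Let A be a topological ring with a countable decreasing fundamental system (𝔍_n) of open ideals, M
and N topological A-modules with the topologies deduced from that of A, M Hausdorff and complete,
and u : M → N a continuous linear map such that for every n the cokernel of M/𝔍_n M → N/𝔍_n N is a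
projective (A/𝔍_n)-module. Then u is formally left invertible if and only if it has a linear left
inverse. (The published statement adds that u is then a topological isomorphism onto a topological
direct factor.) -/
theorem result {A : Type u} {M : Type v} {N : Type w}
    [CommRing A] [TopologicalSpace A] [AddCommGroup M] [Module A M] [UniformSpace M] [IsUniformAddGroup M]
    [CompleteSpace M] [T2Space M] [AddCommGroup N] [Module A N] [TopologicalSpace N]
    (𝔍 : ℕ → Ideal A) (h𝔍open : ∀ n, IsOpen (𝔍 n : Set A)) (h𝔍anti : Antitone 𝔍)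
    (h𝔍basis : (nhds (0 : A)).HasBasis (fun _ : ℕ => True) (fun n => (𝔍 n : Set A)))
    (hM : TopMod.IsDeduced A M) (hN : TopMod.IsDeduced A N) (u : M →L[A] N)
    (hcoker : ∀ n, Module.Projective (A ⧸ 𝔍 n)
      ((N ⧸ LinearMap.range u.toLinearMap) ⧸ (𝔍 n • (⊤ : Submodule A (N ⧸ LinearMap.range u.toLinearMap))))) :
    TopMod.IsFormallyLeftInvertible u ↔ ∃ w : N →ₗ[A] M, ∀ x : M, w (u x) = x := by
  classical
  haveI := hM.1
  haveI := hN.1
  have hb := TopModLeftInvLib.hasBasis 𝔍 h𝔍open h𝔍basis hM
  constructor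
  · intro h
    refine TopModLeftInvLib.exists_leftInverse 𝔍 h𝔍anti hb u.toLinearMap hcoker fun n => ?_
    letI : TopologicalSpace (M ⧸ (𝔍 n • ⊤ : Submodule A M)) := ⊥
    haveI : DiscreteTopology (M ⧸ (𝔍 n • ⊤ : Submodule A M)) := ⟨rfl⟩
    have hopen : IsOpen ((𝔍 n • ⊤ : Submodule A M) : Set M) :=
      (𝔍 n • ⊤ : Submodule A M).toAddSubgroup.isOpen_of_mem_nhds (g := 0) (hb.mem_of_mem trivial)
    have hc : Continuous (Submodule.mkQ (𝔍 n • ⊤ : Submodule A M)) := by
      refine continuous_of_continuousAt_zero _ ?_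
      rw [ContinuousAt, map_zero, nhds_discrete (M ⧸ (𝔍 n • ⊤ : Submodule A M)), tendsto_pure]
      exact mem_of_superset (hopen.mem_nhds (zero_mem _)) fun x hx => (Submodule.Quotient.mk_eq_zero _).mpr hx
    obtain ⟨W, hW⟩ := h (M ⧸ (𝔍 n • ⊤ : Submodule A M)) ⟨Submodule.mkQ _, hc⟩
    exact ⟨W.toLinearMap, hW⟩
  · rintro ⟨w, hw⟩ E _ _ _ _ v
    have hv : ∀ᶠ x in nhds (0 : M), v x = 0 := by
      have h0 : ({0} : Set E) ∈ nhds (v 0) := by rw [map_zero]; exact isOpen_discrete _ |>.mem_nhds rfl
      exact v.continuous.continuousAt h0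
    obtain ⟨n, -, hn⟩ := hb.mem_iff.mp hv
    have hmap : (𝔍 n • ⊤ : Submodule A N).map w ≤ 𝔍 n • ⊤ := by
      rw [Submodule.map_smul'']; exact Submodule.smul_mono le_rfl le_top
    have hc : Continuous (v.toLinearMap.comp w) := by
      refine continuous_of_continuousAt_zero _ ?_
      rw [ContinuousAt, map_zero, nhds_discrete E, tendsto_pure]
      exact mem_of_superset (hN.2.mem_of_mem (h𝔍open n)) fun x hx => hn (hmap ⟨x, hx, rfl⟩)
    exact ⟨⟨v.toLinearMap.comp w, hc⟩, fun x => congrArg v (hw x)⟩

end Groth.Agent.S5838
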