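import Groth.Statements.S5839
import Groth.Agent.TopModLeftInvLib
import Mathlib
open Filter Topology
-- import your own Groth.Agent.* helpers here

set_option autoImplicit false
universe u v w
open EGA41

namespace Groth.Agent.S5839

/-- Let A be preadmissible with ideal of definition 𝔏, the topologies of M and N deduced from that of A,
N/JN projective over A/J for every open ideal J; assuming moreover a countable decreasing
fundamental system of open ideals and M Hausdorff and complete, u : M → N has a linear left inverse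
if and only if the induced map M/𝔏M → N/𝔏N has one (both being equivalent to formal left
invertibility). -/
theorem result {A : Type u} {M : Type v} {N : Type w}
    [CommRing A] [TopologicalSpace A] [AddCommGroup M] [Module A M] [UniformSpace M] [IsUniformAddGroup M]
    [CompleteSpace M] [T2Space M] [AddCommGroup N] [Module A N] [TopologicalSpace N]
    (𝔍 : ℕ → Ideal A) (h𝔍open : ∀ n, IsOpen (𝔍 n : Set A)) (h𝔍anti : Antitone 𝔍)
    (h𝔍basis : (nhds (0 : A)).HasBasis (fun _ : ℕ => True) (fun n => (𝔍 n : Set A)))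
    (hM : TopMod.IsDeduced A M) (hN : TopMod.IsDeduced A N) (u : M →L[A] N)
    (hA : LinTop.IsPreadmissible A) (𝔏 : Ideal A) (h𝔏 : LinTop.IsIdealOfDefinition A 𝔏)
    (hproj : ∀ J : Ideal A, IsOpen (J : Set A) → Module.Projective (A ⧸ J) (N ⧸ (J • (⊤ : Submodule A N)))) :
    (∃ w : N →ₗ[A] M, ∀ x : M, w (u x) = x) ↔
      ∃ w₀ : N →ₗ[A] M ⧸ (𝔏 • ⊤ : Submodule A M), ∀ x : M, w₀ (u x) = Submodule.Quotient.mk x := by
  classical
  constructor
  · rintro ⟨w, hw⟩
    exact ⟨(Submodule.mkQ _).comp w, fun x => congrArg Submodule.Quotient.mk (hw x)⟩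
  rintro ⟨w₀, hw₀⟩
  haveI := hM.1
  have hb := TopModLeftInvLib.hasBasis 𝔍 h𝔍open h𝔍basis hM
  have hn : ∀ n, ∃ W : N →ₗ[A] M ⧸ (𝔍 n • ⊤ : Submodule A M), ∀ x, W (u x) = Submodule.Quotient.mk x := by
    intro n
    obtain ⟨k, -, hk⟩ := h𝔏.2 _ ((h𝔍open n).mem_nhds (zero_mem _))
    have h1 : (𝔏 • ⊤ : Submodule A M) ≤ (𝔏 ⊔ 𝔍 n) • ⊤ := Submodule.smul_mono le_sup_left le_rfl
    obtain ⟨g, hg⟩ := TopModLeftInvLib.exists_lift (𝔏 ⊔ 𝔍 n) (𝔍 n) le_sup_right (hproj _ (h𝔍open n))
      ((Submodule.factor h1).comp w₀)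
    have hν0 : (𝔍 n • ⊤ : Submodule A M) ≤ LinearMap.ker (Submodule.mkQ (𝔍 n • ⊤ : Submodule A M) - g.comp u.toLinearMap) := by
      refine Submodule.smul_le.mpr fun a ha x _ => ?_
      obtain ⟨z, hz⟩ := Submodule.Quotient.mk_surjective _ ((Submodule.mkQ (𝔍 n • ⊤ : Submodule A M) - g.comp u.toLinearMap) x)
      rw [LinearMap.mem_ker, map_smul, ← hz, ← Submodule.Quotient.mk_smul, Submodule.Quotient.mk_eq_zero]
      exact Submodule.smul_mem_smul ha trivial
    let ν : Module.End A (M ⧸ (𝔍 n • ⊤ : Submodule A M)) := Submodule.liftQ _ _ hν0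
    let S : Submodule A (M ⧸ (𝔍 n • ⊤ : Submodule A M)) := (𝔏 ⊔ 𝔍 n) • ⊤
    have hkill : (𝔍 n • ⊤ : Submodule A (M ⧸ (𝔍 n • ⊤ : Submodule A M))) = ⊥ := by
      rw [← (Submodule.mkQ (𝔍 n • ⊤ : Submodule A M)).range_eq_top.mpr (Submodule.mkQ_surjective _), LinearMap.range_eq_map,
        ← Submodule.map_smul'', Submodule.mkQ_map_self]
    have hS : S = 𝔏 • ⊤ := by
      show (𝔏 ⊔ 𝔍 n) • ⊤ = _
      rw [Submodule.sup_smul, hkill, sup_bot_eq]
    have hν1 : LinearMap.range ν ≤ 𝔏 • ⊤ := by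
      rintro _ ⟨x, rfl⟩
      obtain ⟨x, rfl⟩ := Submodule.Quotient.mk_surjective _ x
      have h2 : Submodule.factor (Submodule.smul_mono le_sup_right le_rfl : (𝔍 n • ⊤ : Submodule A M) ≤ (𝔏 ⊔ 𝔍 n) • ⊤)
          (ν (Submodule.Quotient.mk x)) = 0 := by
        show Submodule.factor _ (Submodule.mkQ _ x - g (u x)) = 0
        rw [map_sub, hg, LinearMap.comp_apply, hw₀]
        exact sub_self _
      rw [← hS]
      obtain ⟨z, hz⟩ := Submodule.Quotient.mk_surjective _ (ν (Submodule.Quotient.mk x))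
      rw [← hz] at h2 ⊢
      have h3 : z ∈ ((𝔏 ⊔ 𝔍 n) • ⊤ : Submodule A M) := (Submodule.Quotient.mk_eq_zero _).mp h2
      have h4 : Submodule.mkQ (𝔍 n • ⊤ : Submodule A M) z ∈ ((𝔏 ⊔ 𝔍 n) • ⊤ : Submodule A M).map (Submodule.mkQ _) := ⟨z, h3, rfl⟩
      rw [Submodule.map_smul''] at h4
      exact Submodule.smul_mono le_rfl le_top h4
    have hpow : ∀ j, LinearMap.range (ν ^ j) ≤ 𝔏 ^ j • ⊤ := by
      intro j
      induction j with
      | zero => rw [pow_zero (M := Ideal A), Ideal.one_eq_top, Submodule.top_smul]; exact le_top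
      | succ j ih =>
        rw [pow_succ', Module.End.mul_eq_comp, LinearMap.range_comp]
        refine (Submodule.map_mono ih).trans ?_
        rw [Submodule.map_smul'', Submodule.map_top, pow_succ, Submodule.mul_smul]
        exact Submodule.smul_mono le_rfl hν1
    have hnil : IsNilpotent ν := ⟨k, LinearMap.range_eq_bot.mp (eq_bot_iff.mpr ((hpow k).trans
      ((Submodule.smul_mono (show 𝔏 ^ k ≤ 𝔍 n from hk) le_rfl).trans hkill.le)))⟩
    obtain ⟨e, he⟩ := hnil.isUnit_one_sub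
    refine ⟨(↑e⁻¹ : Module.End A (M ⧸ (𝔍 n • ⊤ : Submodule A M))).comp g, fun x => ?_⟩
    have hex : (e : Module.End A (M ⧸ (𝔍 n • ⊤ : Submodule A M))) (Submodule.Quotient.mk x) = g (u x) := by
      rw [he]
      show Submodule.Quotient.mk x - (Submodule.mkQ _ x - g (u x)) = g (u x)
      exact sub_sub_cancel _ _
    rw [LinearMap.comp_apply, ← hex, ← Module.End.mul_apply, Units.inv_mul, Module.End.one_apply]
  refine TopModLeftInvLib.exists_leftInverse 𝔍 h𝔍anti hb u.toLinearMap (fun n => ?_) hn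
  obtain ⟨W, hW⟩ := hn n
  exact TopModLeftInvLib.projective_coker u.toLinearMap (𝔍 n) (hproj _ (h𝔍open n)) W hW

end Groth.Agent.S5839
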