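import Groth.Statements.S5858
import Groth.Agent.ZClosLib.DepthCor
-- import your own Groth.Agent.* helpers here

set_option autoImplicit false
universe u
open ZClos

namespace Groth.Agent.S5858

open CategoryTheory CategoryTheory.Limits AlgebraicGeometry in
/-- For a locally Noetherian scheme X, a subset Z of X stable under specialization and a coherent
O_X-module F whose Z-closure H⁰_{X/Z}(F) is coherent: for every associated point x of F outside Z
and every specialization y of x lying in Z, the closure of y has codimension at least 2 in the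
closure of x, that is, the quotient of O_{X,y} by the prime ideal of the generization x has
dimension at least 2. -/
theorem result (X : Scheme.{u}) [IsLocallyNoetherian X] (Z : Set X)
    (hZ : StableUnderSpecialization Z) (F : X.Modules) (hF : Coh.IsCoh F)
    (hH : Coh.IsCoh ((ZClos.H0 Z).obj F))
    (x : X) (hx : x ∈ AssSch.Ass F) (hxZ : x ∉ Z) (y : X) (hy : y ∈ Z) (h : x ⤳ y) :
    (2 : WithBot ℕ∞) ≤ ringKrullDim (X.presheaf.stalk y ⧸
      (IsLocalRing.maximalIdeal (X.presheaf.stalk x)).comap (X.presheaf.stalkSpecializes h).hom) := by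
  haveI : Coh.IsQCoh F := hF.1
  haveI := hH.1
  haveI : Module.Finite (X.presheaf.stalk y) (((ZClos.H0 Z).obj F).presheaf.stalk y) :=
    PullbackMod.finite_stalk_of_isFT hH.2 y
  let e := ZClosLib.stalkEquiv (F := F) (ZClosLib.isZClosedAt_of_notMem x hxZ)
  have hass : Curv2.IsAssPoint ((ZClos.H0 Z).obj F) x := by
    obtain ⟨hp, t, ht⟩ := isAssociatedPrime_iff.mp ((AssLib.isWeakAssPoint_iff_isAssPoint F x).mp
      ((AssLib.isWeakAssPoint_iff_isAssPoint F x).mpr hx))
    refine AssLib.isAssPoint_of_kill (e t) (fun h0 => hp.ne_top (ht.trans (eq_top_iff.mpr fun a _ => ?_))) fun a ha => ?_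
    · rw [Submodule.mem_colon_singleton, (e.map_eq_zero_iff).mp h0, smul_zero, Submodule.mem_bot]
    · rw [ht, Submodule.mem_colon_singleton, Submodule.mem_bot] at ha
      rw [← map_smul, ha, map_zero]
  haveI := ZClosLib.nontrivial_of_ass_specializes h hass
  obtain ⟨d, hd⟩ := FlatDepth.exists_depth_eq (R := X.presheaf.stalk y) (M := ((ZClos.H0 Z).obj F).presheaf.stalk y)
  have h2 := ZClosLib.two_le_depth_H0 hZ hH hy
  rw [hd] at h2
  have h2' : 2 ≤ d := by exact_mod_cast h2
  refine le_trans ?_ (CMCat.depth_le_ringKrullDim_quotient hd (ZClosLib.comap_mem_associatedPrimes h hass))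
  exact_mod_cast h2' 

end Groth.Agent.S5858
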