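import Groth.Statements.S5861
import Groth.Agent.ZClosLib.DepthCor
-- import your own Groth.Agent.* helpers here

set_option autoImplicit false
universe u
open ZClos

namespace Groth.Agent.S5861

open CategoryTheory CategoryTheory.Limits AlgebraicGeometry in
/-- Suppose X is a locally Noetherian scheme and F is a coherent O_X-module whose support is the whole
of X. Assume no associated point of F has a local ring of X of dimension 1, and assume H⁰_{X/Z}(F)
is coherent, where Z = Z^(2)(X) denotes the set of points whose local ring has dimension at least 2.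
Consider the set U of points x where F satisfies (S_2), meaning depth(F_{x'}) ≥ min(2, dim F_{x'})
holds at every generization x' of x. Then U is an open subset, and the points lying outside U form a
set of codimension ≥ 2: the local ring at any such point has dimension at least 2. -/
theorem result (X : Scheme.{u}) [IsLocallyNoetherian X] (F : X.Modules) (hF : Coh.IsCoh F)
    (hsupp : ∀ x : X, Nontrivial (F.presheaf.stalk x))
    (hass : ∀ x ∈ AssSch.Ass F, ringKrullDim (X.presheaf.stalk x) ≠ 1)
    (hH : Coh.IsCoh ((ZClos.H0 (ZClos.dimGe X 2)).obj F)) :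
    IsOpen {x : X | ∀ x' : X, x' ⤳ x →
        min (2 : WithBot ℕ∞) (Module.supportDim (X.presheaf.stalk x') (F.presheaf.stalk x')) ≤
          ((LocCoh.depth (X.presheaf.stalk x') (F.presheaf.stalk x') : ℕ∞) : WithBot ℕ∞)} ∧
      ∀ x : X, (¬ ∀ x' : X, x' ⤳ x →
        min (2 : WithBot ℕ∞) (Module.supportDim (X.presheaf.stalk x') (F.presheaf.stalk x')) ≤
          ((LocCoh.depth (X.presheaf.stalk x') (F.presheaf.stalk x') : ℕ∞) : WithBot ℕ∞)) →
        (2 : WithBot ℕ∞) ≤ ringKrullDim (X.presheaf.stalk x) := by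
  have hZ : StableUnderSpecialization (ZClos.dimGe X 2) := fun a b hab ha =>
    le_trans ha (ZClosLib.ringKrullDim_stalk_le hab)
  haveI : Coh.IsQCoh F := hF.1
  haveI := hH.1
  have hiff : ∀ x' : X, (min (2 : WithBot ℕ∞) (Module.supportDim (X.presheaf.stalk x') (F.presheaf.stalk x')) ≤
      ((LocCoh.depth (X.presheaf.stalk x') (F.presheaf.stalk x') : ℕ∞) : WithBot ℕ∞)) ↔
      (x' ∈ ZClos.dimGe X 2 → (2 : ℕ∞) ≤ LocCoh.depth (X.presheaf.stalk x') (F.presheaf.stalk x')) := fun x' => by
    rw [ZClosLib.supportDim_stalk_eq hF hsupp x']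
    constructor
    · intro h hx'
      rw [min_eq_left (show (2 : WithBot ℕ∞) ≤ ringKrullDim (X.presheaf.stalk x') from hx')] at h
      exact WithBot.coe_le_coe.mp h
    · intro h
      by_cases hx' : x' ∈ ZClos.dimGe X 2
      · exact (min_le_left _ _).trans (WithBot.coe_le_coe.mpr (h hx'))
      · exact (min_le_right _ _).trans (ZClosLib.ringKrullDim_le_depth hF hass hx')
  have hset : {x : X | ∀ x' : X, x' ⤳ x → x' ∈ ZClos.dimGe X 2 →
      (2 : ℕ∞) ≤ LocCoh.depth (X.presheaf.stalk x') (F.presheaf.stalk x')} =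
      {x | Function.Bijective (PullbackMod.stalkLin (ZClos.rhoApp (ZClos.dimGe X 2) F) x)} :=
    Set.ext fun x => (ZClosLib.isZClosedAt_iff hZ hF x).symm
  have hopen := PullbackMod.isOpen_stalk_bijective (u := ZClos.rhoApp (ZClos.dimGe X 2) F) hF.2
    ((QCohLib.isCoh_iff_isFP _).mp hH)
  rw [← hset] at hopen
  simp only [hiff]
  refine ⟨hopen, fun x hx => ?_⟩
  by_contra hxZ
  exact hx fun x' hx' hx'Z => absurd (hZ hx' hx'Z) hxZ

end Groth.Agent.S5861
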