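import Groth.Statements.S5862
import Mathlib

set_option autoImplicit false
universe u
open RadPt

namespace Groth.Agent.S5862

open CategoryTheory CategoryTheory.Limits AlgebraicGeometry

lemma isPurelyInseparable_of_comp {F E K : Type*} [Field F] [Field E] [Field K] {f : F →+* E}
    {g : E →+* K} (h : (g.comp f).IsPurelyInseparable) :
    f.IsPurelyInseparable ∧ g.IsPurelyInseparable := by
  letI := f.toAlgebra
  letI := g.toAlgebra
  letI := (g.comp f).toAlgebra
  haveI : IsScalarTower F E K := IsScalarTower.of_algebraMap_eq fun _ => rfl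
  haveI : IsPurelyInseparable F K := h
  exact ⟨IsPurelyInseparable.tower_bot F E K, IsPurelyInseparable.tower_top F E K⟩
open CategoryTheory AlgebraicGeometry in
/-- Let f : X → Y and g : Y → Z be morphisms of schemes and y a point of Y. If f is radicial at y (fibre
with at most one point, purely inseparable residue field extension) and g is radicial at g(y), then
g ∘ f is radicial at g(y). Conversely, if f is surjective and g ∘ f is radicial at g(y), then f is
radicial at y and g is radicial at g(y). -/
theorem result {X Y Z : Scheme.{u}} (f : X ⟶ Y) (g : Y ⟶ Z) (y : Y) :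
    (RadPt.IsRadicialAt f y → RadPt.IsRadicialAt g (g y) → RadPt.IsRadicialAt (f ≫ g) (g y)) ∧
      (Surjective f → RadPt.IsRadicialAt (f ≫ g) (g y) →
        RadPt.IsRadicialAt f y ∧ RadPt.IsRadicialAt g (g y)) := by
  refine ⟨fun hf hg => ⟨fun x x' hx hx' => ?_, fun x hx => ?_⟩, fun hs h => ?_⟩
  · have e : f x = y := hg.1 _ _ hx rfl
    have e' : f x' = y := hg.1 _ _ hx' rfl
    exact hf.1 x x' e e'
  · have e : f x = y := hg.1 _ _ hx rfl
    rw [Scheme.residueFieldMap_comp]
    exact (hg.2 (f x) hx).comp (hf.2 x e)
  · have hcomp : ∀ x, g (f x) = g y →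
        (g.residueFieldMap (f x)).hom.IsPurelyInseparable ∧
          (f.residueFieldMap x).hom.IsPurelyInseparable := fun x hx => by
      have := h.2 x hx
      rw [Scheme.residueFieldMap_comp] at this
      exact isPurelyInseparable_of_comp (f := (g.residueFieldMap (f x)).hom) (g := (f.residueFieldMap x).hom) this
    refine ⟨⟨fun x x' hx hx' => h.1 x x' ?_ ?_, fun x hx => (hcomp x (by rw [hx])).2⟩,
      fun z z' hz hz' => ?_, fun z hz => ?_⟩
    · simp [Scheme.Hom.comp_apply, hx]
    · simp [Scheme.Hom.comp_apply, hx']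
    · obtain ⟨x, rfl⟩ := hs.surj z
      obtain ⟨x', rfl⟩ := hs.surj z'
      rw [h.1 x x' hz hz']
    · obtain ⟨x, rfl⟩ := hs.surj z
      exact (hcomp x hz).1


end Groth.Agent.S5862
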