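import Groth.Statements.S5864
import Groth.Agent.BranchInv.RadicialPt
-- import your own Groth.Agent.* helpers here

set_option autoImplicit false
universe u
open RadPt

namespace Groth.Agent.S5864

open CategoryTheory CategoryTheory.Limits AlgebraicGeometry IsLocalRing Groth.Agent.BranchInv

set_option backward.isDefEq.respectTransparency false

/-- Flat morphisms send maximal points to maximal points. -/
theorem max_of_flat {A B : Scheme.{u}} (g : A ⟶ B) [Flat g] {a : A} (ha : a ∈ genericPoints A) :
    g a ∈ genericPoints B := by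
  rw [mem_genericPoints_iff] at ha ⊢
  intro b hb
  obtain ⟨a', ha', rfl⟩ := Flat.generalizingMap g hb
  rw [ha a' ha']

/-- Over a maximal point with trivial fibre, the base change has trivial fibres too. -/
theorem fibre_bc {X Y X' Y' : Scheme.{u}} {f : X ⟶ Y} {g : Y' ⟶ Y} {f' : X' ⟶ Y'} {g' : X' ⟶ X}
    (sq : IsPullback g' f' f g) (x : X) (hone : ∀ x₁ : X, f x₁ = f x → x₁ = x)
    (hbij : Function.Bijective (f.residueFieldMap x).hom) (y' : Y') (hy' : g y' = f x) :
    (∀ a b : X', f' a = y' → f' b = y' → a = b) ∧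
    (∃ a : X', f' a = y' ∧ Function.Bijective (f'.residueFieldMap a).hom ∧
      ∀ y'' : Y', y'' ⤳ y' → g y'' = f x → ∃ a' : X', a' ⤳ a ∧ f' a' = y'') := by
  haveI : IsIso (f.residueFieldMap x) := by
    have : f.residueFieldMap x = (RingEquiv.ofBijective _ hbij).toCommRingCatIso.hom := rfl
    rw [this]; infer_instance
  have hpts : PtsInj f (f x) := fun K _ a b hab hy => by
    obtain ⟨⟨x₁, α⟩, ha⟩ := (Scheme.SpecToEquivOfField K X).symm.surjective a
    obtain ⟨⟨x₂, β⟩, hb⟩ := (Scheme.SpecToEquivOfField K X).symm.surjective b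
    change Spec.map α ≫ X.fromSpecResidueField x₁ = a at ha
    change Spec.map β ≫ X.fromSpecResidueField x₂ = b at hb
    obtain rfl : x₁ = x := hone _ (by
      rw [← hy, ← ha, Scheme.Hom.comp_apply, fromSpecResidueField_pt])
    obtain rfl : x₂ = x₁ := hone _ (by
      rw [← hy, hab, ← hb, Scheme.Hom.comp_apply, fromSpecResidueField_pt])
    subst ha hb
    rw [Category.assoc, Category.assoc, ← Scheme.Hom.SpecMap_residueFieldMap_fromSpecResidueField f _,
      ← Category.assoc, ← Category.assoc, cancel_mono, ← Spec.map_comp, ← Spec.map_comp] at hab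
    rw [(cancel_epi _).1 (Spec.map_injective hab)]
  have hpts' : PtsInj f' y' := fun K _ a b hab hy => by
    refine sq.hom_ext (hpts K _ _ ?_ ?_) hab
    · rw [Category.assoc, Category.assoc, sq.w, ← Category.assoc, ← Category.assoc, hab]
    · rw [Category.assoc, sq.w, ← Category.assoc, Scheme.Hom.comp_apply, hy, hy']
  refine ⟨((isRadicialAt_iff_ptsInj f' y').2 hpts').1, ?_⟩
  let T := pullback g (Y.fromSpecResidueField (f x))
  let s : T ⟶ X' := sq.lift (pullback.snd g (Y.fromSpecResidueField (f x)) ≫ inv (Spec.map (f.residueFieldMap x)) ≫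
    X.fromSpecResidueField x) (pullback.fst g (Y.fromSpecResidueField (f x))) (by
      rw [Category.assoc, Category.assoc, ← Scheme.Hom.SpecMap_residueFieldMap_fromSpecResidueField,
        IsIso.inv_hom_id_assoc, pullback.condition])
  have hs : s ≫ f' = pullback.fst g (Y.fromSpecResidueField (f x)) := sq.lift_snd _ _ _
  obtain ⟨c, hc⟩ := eq_desc_comp (Y'.fromSpecResidueField y' ≫ g) (s := f x)
    ((congrArg g (Scheme.fromSpecResidueField_apply y' _)).trans hy')
  let t₀ : Spec (Y'.residueField y') ⟶ T := pullback.lift (Y'.fromSpecResidueField y') c hc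
  have ht₀ : (t₀ ≫ s) ≫ f' = Y'.fromSpecResidueField y' := by rw [Category.assoc, hs, pullback.lift_fst]
  refine ⟨(t₀ ≫ s) (closedPoint (Y'.residueField y')), ?_, ?_, ?_⟩
  · rw [← Scheme.Hom.comp_apply, ht₀]
    exact Scheme.fromSpecResidueField_apply y' _
  · generalize hm : t₀ ≫ s = m at ht₀ ⊢
    obtain ⟨⟨a, θ⟩, rfl⟩ := (Scheme.SpecToEquivOfField (Y'.residueField y') X').symm.surjective m
    change (Spec.map θ ≫ X'.fromSpecResidueField a) ≫ f' = _ at ht₀
    show Function.Bijective (f'.residueFieldMap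
      ((Spec.map θ ≫ X'.fromSpecResidueField a) (closedPoint (Y'.residueField y')))).hom
    rw [fromSpecResidueField_pt]
    have hay : f' a = y' := by
      have := congrArg (fun m => m (closedPoint (Y'.residueField y'))) ht₀
      simp only [Scheme.Hom.comp_apply] at this
      exact ((congrArg f' (Scheme.fromSpecResidueField_apply a _)).symm.trans this).trans
        (Scheme.fromSpecResidueField_apply y' _)
    subst hay
    refine ⟨RingHom.injective _, fun z => ⟨θ.hom z, θ.hom.injective ?_⟩⟩
    rw [Category.assoc, ← Scheme.Hom.SpecMap_residueFieldMap_fromSpecResidueField, ← Category.assoc,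
      ← Spec.map_comp] at ht₀
    have hid : f'.residueFieldMap a ≫ θ = 𝟙 _ := Spec.map_injective (by
      rw [Spec.map_id, ← cancel_mono (Y'.fromSpecResidueField (f' a))]
      exact ht₀.trans (Category.id_comp _).symm)
    exact RingHom.congr_fun (congrArg CommRingCat.Hom.hom hid) (θ.hom z)
  · intro y'' hy'' hgy''
    obtain ⟨t, ht⟩ : y'' ∈ Set.range (pullback.fst g (Y.fromSpecResidueField (f x))) := by
      rw [Scheme.Pullback.range_fst, Scheme.range_fromSpecResidueField]
      exact hgy''
    refine ⟨s t, (?_ : t ⤳ t₀ (closedPoint (Y'.residueField y'))).map s.continuous, ?_⟩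
    · refine (pullback.fst g (Y.fromSpecResidueField (f x))).isEmbedding.isInducing.specializes_iff.1 ?_
      rw [ht, ← Scheme.Hom.comp_apply, pullback.lift_fst]
      exact (Scheme.fromSpecResidueField_apply y' _).symm ▸ hy''
    · rw [← Scheme.Hom.comp_apply, hs, ht]


open CategoryTheory AlgebraicGeometry in
/-- Let f : X → Y be a morphism of schemes whose induced morphism of reduced schemes is birational (f
maps the maximal points of X bijectively onto those of Y, with one-point fibres and trivial residue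
field extensions over the maximal points of Y), g : Y' → Y a flat morphism and f' : X ×_Y Y' → Y'
the base change (any cartesian square). Then the morphism of reduced schemes induced by f' is
birational in the same sense. -/
theorem result {X Y X' Y' : Scheme.{u}} {f : X ⟶ Y} {g : Y' ⟶ Y} [Flat g] {f' : X' ⟶ Y'} {g' : X' ⟶ X}
    (sq : IsPullback g' f' f g) (hf : RadPt.IsBirational f) : RadPt.IsBirational f' := by
  haveI : Flat g' := MorphismProperty.of_isPullback (P := @Flat) sq.flip ‹_›
  have key : ∀ y' : Y', g y' ∈ genericPoints Y → ∃ x ∈ genericPoints X, f x = g y' ∧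
      (∀ a b : X', f' a = y' → f' b = y' → a = b) ∧
      ∃ a : X', f' a = y' ∧ Function.Bijective (f'.residueFieldMap a).hom ∧
        ∀ y'' : Y', y'' ⤳ y' → g y'' = f x → ∃ a' : X', a' ⤳ a ∧ f' a' = y'' := fun y' hy' => by
    obtain ⟨x, hx, hxy⟩ := hf.1.surjOn hy'
    exact ⟨x, hx, hxy, fibre_bc sq x (fun x₁ h1 => (hf.2 _ hy').1 x₁ x (h1.trans hxy) hxy)
      ((hf.2 _ hy').2 x hxy) y' hxy.symm⟩
  have hgen : ∀ a : X', a ∈ genericPoints X' → g (f' a) ∈ genericPoints Y := fun a ha => by
    rw [← Scheme.Hom.comp_apply, ← sq.w, Scheme.Hom.comp_apply]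
    exact hf.1.mapsTo (max_of_flat g' ha)
  refine ⟨⟨fun a ha => ?_, fun a ha b hb hab => ?_, fun y' hy' => ?_⟩, fun y' hy' => ?_⟩
  · obtain ⟨x, hx, hxy, huniq, a₀, ha₀, -, hlift⟩ := key (f' a) (hgen a ha)
    obtain rfl := huniq a a₀ rfl ha₀
    rw [Groth.Agent.BranchInv.mem_genericPoints_iff]
    intro y'' hy''
    obtain ⟨a', ha', rfl⟩ := hlift y'' hy''
      (((Groth.Agent.BranchInv.mem_genericPoints_iff _).1 (hgen a ha) _ (hy''.map g.continuous)).trans hxy.symm)
    rw [(Groth.Agent.BranchInv.mem_genericPoints_iff a).1 ha a' ha']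
  · obtain ⟨x, hx, hxy, huniq, -⟩ := key (f' a) (hgen a ha)
    exact huniq a b rfl hab.symm
  · obtain ⟨x, hx, hxy, huniq, a, ha, -⟩ := key y' (max_of_flat g hy')
    refine ⟨a, ?_, ha⟩
    rw [Groth.Agent.BranchInv.mem_genericPoints_iff] at hy' ⊢
    intro a' ha'
    exact huniq a' a (hy' _ (ha ▸ ha'.map f'.continuous)) ha
  · obtain ⟨x, hx, hxy, huniq, a₀, ha₀, hb, -⟩ := key y' (max_of_flat g hy')
    refine ⟨huniq, fun a ha => ?_⟩
    obtain rfl := huniq a a₀ ha ha₀
    exact hb

end Groth.Agent.S5864
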