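import Groth.Statements.S5867
import Groth.Agent.ZClosLib.DepthCor
-- import your own Groth.Agent.* helpers here

set_option autoImplicit false
universe u
open ZClos

namespace Groth.Agent.S5867

open CategoryTheory CategoryTheory.Limits AlgebraicGeometry in
/-- a) ⇒ d): for a locally Noetherian scheme X, a subset Z of X stable under specialization and a
coherent O_X-module F none of whose associated points lies in Z: if H⁰_{X/Z}(F) is coherent, then
for every closed subset T of X contained in Z the direct image i_*(F|X∖T) along the inclusion i : X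
∖ T → X is coherent. -/
theorem result (X : Scheme.{u}) [IsLocallyNoetherian X] (Z : Set X)
    (hZ : StableUnderSpecialization Z) (F : X.Modules) (hF : Coh.IsCoh F)
    (hass : ∀ x ∈ AssSch.Ass F, x ∉ Z) (hH : Coh.IsCoh ((ZClos.H0 Z).obj F)) (T : ZClos.Cl Z) :
    Coh.IsCoh ((ZClos.resPush T.U).obj F) := by
  haveI : Coh.IsQCoh F := hF.1
  haveI := hH.1
  haveI : Coh.IsQCoh ((ZClos.resPush T.U).obj F) := ZClosLib.isQCoh_resPush F T.U
  refine QCohLib.isCoh_of_finite _ fun W hW => ?_
  haveI := QCohLib.isNoetherianRing_section hW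
  haveI := QCohLib.finite_sections_of_isCoh hH hW
  let ι : Γ((ZClos.resPush T.U).obj F, W) →ₗ[Γ(X, W)] Γ((ZClos.H0 Z).obj F, W) :=
    FlatLocus.appL (Limits.colimit.ι ((ZClos.diagram Z).obj F) T) W
  refine Module.Finite.of_injective ι ((injective_iff_map_eq_zero _).mpr fun s hs => ?_)
  obtain ⟨T', hT, h0⟩ := ZClosLib.inc_eq_zero F hW.isCompact T s hs
  refine AssLib.eq_zero_of_germ_ass (M := F) (V := ZClosLib.IV T.U W) s fun y hy hya => ?_
  have hyI : y ∈ ZClosLib.IV T'.U W := ZClosLib.mem_IV.2 ⟨fun hT' => hass y hya (T'.2 hT'), (ZClosLib.mem_IV.1 hy).2⟩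
  rw [← ZClosLib.germ_res' F (ZClosLib.IV_mono (ZClos.Cl.U_anti hT) le_rfl) y hyI s, h0, map_zero]

end Groth.Agent.S5867
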