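import Groth.Statements.S5869
import Groth.Agent.ZClosLib.CoherenceSpec
-- import your own Groth.Agent.* helpers here

set_option autoImplicit false
universe u
open ZClos

namespace Groth.Agent.S5869

open CategoryTheory CategoryTheory.Limits AlgebraicGeometry in
/-- a) ⇔ b): for a Noetherian ring A with X = Spec A, the following are equivalent: a) for every prime
ideal q of A, writing B = A/q, the ring B^(1) (intersection of the localizations of B at its
height-one primes) is a finite B-algebra; b) for every finite A-module M and every subset Z of X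
stable under specialization such that, for every associated prime p of M not in Z and every prime p'
∈ Z containing p, the image of p' in A/p has height at least 2, the Z-closure H⁰_{X/Z} of the module
M~ is coherent. -/
theorem result (A : Type u) [CommRing A] [IsNoetherianRing A] :
    (∀ (q : Ideal A) [q.IsPrime], EGA4.HeightOneHullFinite (A ⧸ q)) ↔
      ∀ (M : Type u) [AddCommGroup M] [Module A M] [Module.Finite A M]
        (Z : Set (PrimeSpectrum A)), StableUnderSpecialization Z →
        (∀ x : PrimeSpectrum A, x.asIdeal ∈ associatedPrimes A M → x ∉ Z →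
          ∀ y ∈ Z, x.asIdeal ≤ y.asIdeal → (2 : ℕ∞) ≤ (y.asIdeal.map (Ideal.Quotient.mk x.asIdeal)).height) →
        Coh.IsCoh ((ZClos.H0 (X := Spec (CommRingCat.of A)) Z).obj (EGA4.tildeOf A M)) := by
  open Groth.Agent in
  constructor
  · intro ha M _ _ _ Z hZ hc
    refine (ZClosLib.isCoh_H0_iff_fin (R := A) Z M).2 (ZClosLib.fin_of_associatedPrimes (R := A) Z hZ fun p hp => ?_)
    haveI hp' : p.IsPrime := IsAssociatedPrime.isPrime hp
    by_cases hpZ : (⟨p, hp'⟩ : PrimeSpectrum A) ∈ Z
    · exact ZClosLib.fin_quotient_of_mem Z hZ p hpZ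
    · exact ZClosLib.fin_quotient_of_hull Z hZ p hpZ
        (fun y hy hle => hc ⟨p, hp'⟩ hp hpZ y hy hle) (ha p)
  · intro hb q hq
    let Z : Set (PrimeSpectrum A) :=
      {y | q ≤ y.asIdeal ∧ (2 : ℕ∞) ≤ (y.asIdeal.map (Ideal.Quotient.mk q)).height}
    have hZ : StableUnderSpecialization Z := fun x y hxy hx =>
      have hle := (PrimeSpectrum.le_iff_specializes x y).2 hxy
      ⟨hx.1.trans hle, hx.2.trans (Ideal.height_mono (Ideal.map_mono hle))⟩
    have hqZ : (⟨q, hq⟩ : PrimeSpectrum A) ∉ Z := fun h => by
      have h2 := h.2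
      rw [Ideal.map_quotient_self, Ideal.height_eq_zero_iff_eq_bot.2 rfl] at h2
      exact absurd h2 (by decide)
    have hc : ∀ x : PrimeSpectrum A, x.asIdeal ∈ associatedPrimes A (A ⧸ q) → x ∉ Z →
        ∀ y ∈ Z, x.asIdeal ≤ y.asIdeal → (2 : ℕ∞) ≤ (y.asIdeal.map (Ideal.Quotient.mk x.asIdeal)).height := by
      intro x hx _ y hy _
      rw [associatedPrimes.eq_singleton_of_isPrimary hq.isPrimary, Set.mem_singleton_iff, hq.radical] at hx
      rw [hx]
      exact hy.2
    exact ZClosLib.heightOneHullFinite_of_fin (R := A) Z hZ q hqZ (fun y h1 h2 => ⟨h1, h2⟩)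
      ((ZClosLib.isCoh_H0_iff_fin (R := A) Z (A ⧸ q)).1 (hb (A ⧸ q) Z hZ hc))


end Groth.Agent.S5869
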