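import Groth.Statements.S5872
import Groth.Agent.FibEmbLib.Basic
import Groth.Agent.OpenDim.Constr
-- import your own Groth.Agent.* helpers here

set_option autoImplicit false
universe u
open CategoryTheory AlgebraicGeometry
open Cons9

namespace Groth.Agent.S5872

/-- Let S be an integral Noetherian scheme with generic point η, f : X ⟶ S a morphism of finite type and
F a coherent O_X-module; for s in S let F_s be the pullback of F to the scheme-theoretic fibre X_s.
If F_η has no embedded associated point, then there is an open neighbourhood U of η such that for
every s in U the module F_s has no embedded associated point. -/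
theorem result {X S : Scheme.{u}} [IsIntegral S] [IsNoetherian S]
    (f : X ⟶ S) [LocallyOfFiniteType f] [QuasiCompact f]
    (F : X.Modules) [Coh.IsQCoh F] (hF : CohB1.IsFP F)
    (hη : AssSch.NoEmbedded ((Scheme.Modules.pullback (f.fiberι (genericPoint S))).obj F)) :
    ∃ U : S.Opens, genericPoint S ∈ U ∧
      ∀ s ∈ U, AssSch.NoEmbedded ((Scheme.Modules.pullback (f.fiberι s)).obj F) := by
  haveI : LocallyOfFinitePresentation f := by
    rw [HasRingHomProperty.iff_appLE (P := @LocallyOfFinitePresentation)]
    intro W V e
    haveI : IsNoetherianRing ↥Γ(S, W) := IsLocallyNoetherian.component_noetherian W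
    exact RingHom.FinitePresentation.of_finiteType.1
      (HasRingHomProperty.appLE (P := @LocallyOfFiniteType) f ‹_› W V e)
  have hc := Groth.Agent.FibEmbLib.isLocallyConstructible_noEmbedded f F hF
  have hn := Groth.Agent.OpenDim.mem_nhds_of_generizations hc (genericPoint S) fun z hz => by
    have : z = genericPoint S := (hz.antisymm (genericPoint_specializes z)).eq
    rw [this]; exact hη
  obtain ⟨U, hU, hUo, hηU⟩ := mem_nhds_iff.1 hn
  exact ⟨⟨U, hUo⟩, hηU, fun s hs => hU hs⟩

end Groth.Agent.S5872
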