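import Groth.Statements.S5875
import Groth.Agent.FibEmbLib.Components
-- import your own Groth.Agent.* helpers here

set_option autoImplicit false
universe u
open CategoryTheory AlgebraicGeometry
open Cons9

namespace Groth.Agent.S5875

theorem biInter_lc {X : Type*} [TopologicalSpace X] (Φ : Finset ℕ) (E : ℕ → Set X)
    (h : ∀ n, Topology.IsLocallyConstructible (E n)) : Topology.IsLocallyConstructible (⋂ n ∈ Φ, E n) := by
  classical
  induction Φ using Finset.induction with
  | empty =>
    intro x
    exact ⟨Set.univ, Filter.univ_mem, isOpen_univ, by simp [Topology.IsConstructible.univ]⟩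
  | insert a s _ ih => rw [Finset.set_biInter_insert]; exact (h a).inter ih

/-- Let f : X ⟶ S be a morphism of finite presentation (locally of finite presentation, quasi-compact
and quasi-separated) and F a quasi-coherent O_X-module of finite presentation; for s in S let F_s be
the pullback of F to the scheme-theoretic fibre X_s and E'(s) the finite set of dimensions of the
irreducible components of the support of F_s (the points of X_s where the stalk of F_s is nonzero),
i.e. of the maximal associated prime cycles of F_s. Then s ↦ E'(s) is a locally constructible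
function on S: for every finite set Φ of natural numbers, the set of s with E'(s) = Φ is locally
constructible. -/
theorem result {X S : Scheme.{u}} (f : X ⟶ S)
    [LocallyOfFinitePresentation f] [QuasiCompact f] [QuasiSeparated f]
    (F : X.Modules) [Coh.IsQCoh F] (hF : CohB1.IsFP F) (Φ : Finset ℕ) :
    Topology.IsLocallyConstructible {s : S |
      (fun Z : Set ↥(CohB1.support ((Scheme.Modules.pullback (f.fiberι s)).obj F)) => topologicalKrullDim ↥Z) ''
          irreducibleComponents ↥(CohB1.support ((Scheme.Modules.pullback (f.fiberι s)).obj F)) =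
        (fun n : ℕ => (n : WithBot ℕ∞)) '' (Φ : Set ℕ)} := by
  have hsupp : ∀ s, CohB1.support ((Scheme.Modules.pullback (f.fiberι s)).obj F) =
      Groth.Agent.FibreDepth.fibSuppSet f F s := fun s => Set.ext fun z => not_subsingleton_iff_nontrivial
  have hset : {s : S | (fun Z : Set ↥(CohB1.support ((Scheme.Modules.pullback (f.fiberι s)).obj F)) => topologicalKrullDim ↥Z) ''
        irreducibleComponents ↥(CohB1.support ((Scheme.Modules.pullback (f.fiberι s)).obj F)) =
      (fun n : ℕ => (n : WithBot ℕ∞)) '' (Φ : Set ℕ)} =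
    (⋂ n ∈ Φ, {y : S | ∃ k : ℕ, k = n ∧ ∃ Z ∈ irreducibleComponents ↥(Groth.Agent.FibreDepth.fibSuppSet f F y),
      topologicalKrullDim ↥Z = (k : WithBot ℕ∞)}) ∩
    {y : S | ∃ k : ℕ, k ∉ Φ ∧ ∃ Z ∈ irreducibleComponents ↥(Groth.Agent.FibreDepth.fibSuppSet f F y),
      topologicalKrullDim ↥Z = (k : WithBot ℕ∞)}ᶜ := by
    ext s
    simp only [Set.mem_ofPred_eq, Set.mem_inter_iff, Set.mem_iInter₂, Set.mem_compl_iff]
    rw [hsupp s]
    constructor
    · intro h
      refine ⟨fun n hn => ?_, ?_⟩
      · obtain ⟨Z, hZ, hd⟩ := h.symm.le ⟨n, Finset.mem_coe.2 hn, rfl⟩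
        exact ⟨n, rfl, Z, hZ, hd⟩
      · rintro ⟨k, hk, Z, hZ, hd⟩
        obtain ⟨n, hn, hnk⟩ := h.le ⟨Z, hZ, hd⟩
        change (n : WithBot ℕ∞) = (k : WithBot ℕ∞) at hnk
        exact hk ((by exact_mod_cast hnk : n = k) ▸ Finset.mem_coe.1 hn)
    · rintro ⟨h1, h2⟩
      refine Set.Subset.antisymm ?_ ?_
      · rintro v ⟨Z, hZ, rfl⟩
        obtain ⟨x, -, -, hx⟩ := (Groth.Agent.FibreDepth.exists_component_fibre_iff f F hF s
          (fun w => w = topologicalKrullDim ↥Z)).1 ⟨Z, hZ, rfl⟩
        obtain ⟨k, hk⟩ := Groth.Agent.FibreDepth.exists_nat_clDim f F hF x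
        refine ⟨k, Finset.mem_coe.2 (by_contra fun hne => h2 ⟨k, hne, Z, hZ, hx.symm.trans hk⟩), ?_⟩
        exact (hx.symm.trans hk).symm
      · rintro v ⟨n, hn, rfl⟩
        obtain ⟨k, rfl, Z, hZ, hd⟩ := h1 n (Finset.mem_coe.1 hn)
        exact ⟨Z, hZ, hd⟩
  rw [hset]
  exact (biInter_lc Φ _ fun n => Groth.Agent.FibEmbLib.isLocallyConstructible_exists_component f F hF (fun k => k = n)).inter
    (Groth.Agent.CMFlatLib.isLocallyConstructible_compl
      (Groth.Agent.FibEmbLib.isLocallyConstructible_exists_component f F hF (fun k => k ∉ Φ)))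

end Groth.Agent.S5875
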