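import Groth.Statements.S5876
import Groth.Agent.RelSpecLib.Basic
import Groth.Agent.AffLim.Existence

set_option autoImplicit false
set_option linter.style.haveILetI false
set_option backward.isDefEq.respectTransparency false
universe u
open CategoryTheory CategoryTheory.Limits AlgebraicGeometry
open Lim8

namespace Groth.Agent.S5876

/-- Let S be a scheme and (A_j) a filtered direct system of quasi-coherent O_S-algebras, indexed by a
small filtered category, with a colimit cocone with vertex A. Write S_j = Spec(A_j) and S' = Spec(A)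
for the relative spectra, and u_j : S' ⟶ S_j for the morphisms induced by the coprojections A_j ⟶ A.
Then (S', (u_j)) is a limit of the inverse system (S_j) in the category of all schemes (not only of
S-schemes): for every scheme T and every family of morphisms v_j : T ⟶ S_j compatible with the
transition morphisms, there is exactly one morphism w : T ⟶ S' whose composite with each u_j is v_j. -/
theorem result {S : Scheme.{u}} {J : Type u} [SmallCategory J] [IsFiltered J]
    (A : J ⥤ RelSpec.QCAlg S) (c : Cocone A) (hc : IsColimit c)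
    (T : Scheme.{u}) (v : ∀ j : J, T ⟶ (A.obj j).spec)
    (hv : ∀ (j j' : J) (φ : j ⟶ j'), v j' ≫ RelSpec.QCAlg.specMap (A.map φ) = v j) :
    ∃! w : T ⟶ c.pt.spec, ∀ j : J, w ≫ RelSpec.QCAlg.specMap (c.ι.app j) = v j := by
  let D : Jᵒᵖ ⥤ Scheme.{u} :=
    { obj := fun j => (A.obj j.unop).spec
      map := fun φ => RelSpec.QCAlg.specMap (A.map φ.unop)
      map_id := fun j => by
        simp only [unop_id, CategoryTheory.Functor.map_id, Groth.Agent.RelSpecLib.specMap_id]
      map_comp := fun φ ψ => by
        simp only [unop_comp, Functor.map_comp, Groth.Agent.RelSpecLib.specMap_comp] }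
  haveI : ∀ {i j : Jᵒᵖ} (φ : i ⟶ j), IsAffineHom (D.map φ) := fun φ => by
    dsimp [D]; infer_instance
  obtain ⟨L, hL, haff⟩ := Groth.Agent.AffLim.exists_isLimit D
  let j₀ : J := IsFiltered.nonempty.some
  let πL : L.pt ⟶ S := L.π.app (Opposite.op j₀) ≫ (A.obj j₀).π
  haveI : IsAffineHom πL := by
    haveI := haff (Opposite.op j₀)
    exact inferInstanceAs (IsAffineHom (L.π.app (Opposite.op j₀) ≫ (A.obj j₀).π))
  have hw1 : ∀ (j k : J) (φ : j ⟶ k), L.π.app (Opposite.op k) ≫ RelSpec.QCAlg.specMap (A.map φ) =
      L.π.app (Opposite.op j) := fun j k φ => L.w φ.op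
  have wπ : ∀ j : J, L.π.app (Opposite.op j) ≫ (A.obj j).π = πL := fun j => by
    let k := IsFiltered.max j j₀
    show _ = L.π.app (Opposite.op j₀) ≫ (A.obj j₀).π
    rw [← hw1 j k (IsFiltered.leftToMax j j₀), ← hw1 j₀ k (IsFiltered.rightToMax j j₀),
      Category.assoc, Category.assoc, RelSpec.QCAlg.specMap_π, RelSpec.QCAlg.specMap_π]
  let s : Cocone A :=
    { pt := RelSpec.QCAlg.directImage πL
      ι :=
        { app := fun j => ⟨Groth.Agent.RelSpecLib.algMap (A.obj j) πL (L.π.app (Opposite.op j)) (wπ j),
            Groth.Agent.RelSpecLib.str_algMap _ _ _ _⟩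
          naturality := fun j k φ => by
            apply RelSpec.QCAlg.hom_ext
            have h := Groth.Agent.RelSpecLib.algMap_specMap πL (A.map φ) (L.π.app (Opposite.op k)) (wπ k)
            simp only [hw1 j k φ] at h
            simp only [RelSpec.QCAlg.comp_hom, Functor.const_obj_map, RelSpec.QCAlg.id_hom]
            exact h.symm.trans (Category.comp_id _).symm } }
  let θ := hc.desc s
  let m := Groth.Agent.RelSpecLib.lift c.pt πL θ.hom
  have hmπ : m ≫ c.pt.π = πL := Groth.Agent.RelSpecLib.lift_π c.pt πL θ.hom θ.comm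
  have hm : ∀ j, m ≫ RelSpec.QCAlg.specMap (c.ι.app j) = L.π.app (Opposite.op j) := fun j => by
    rw [Groth.Agent.RelSpecLib.lift_specMap, ← RelSpec.QCAlg.comp_hom, hc.fac s j]
    exact Groth.Agent.RelSpecLib.lift_algMap (A.obj j) πL _ (wπ j)
  let cv : Cone D :=
    { pt := T
      π :=
        { app := fun j => v j.unop
          naturality := fun j k φ => by
            simp only [Functor.const_obj_map]
            exact (Category.id_comp _).trans (hv _ _ φ.unop).symm } }
  let cr : Cone D :=
    { pt := c.pt.spec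
      π :=
        { app := fun j => RelSpec.QCAlg.specMap (c.ι.app j.unop)
          naturality := fun j k φ => by
            simp only [Functor.const_obj_map]
            dsimp [D]
            rw [← Groth.Agent.RelSpecLib.specMap_comp, c.w]
            exact Category.id_comp _ } }
  let r := hL.lift cr
  have hr : ∀ j, r ≫ L.π.app (Opposite.op j) = RelSpec.QCAlg.specMap (c.ι.app j) := fun j => hL.fac cr _
  have hrπ : (r ≫ m) ≫ c.pt.π = c.pt.π := by
    show (r ≫ m) ≫ c.pt.π = _
    rw [Category.assoc, hmπ]
    show r ≫ L.π.app (Opposite.op j₀) ≫ (A.obj j₀).π = _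
    rw [reassoc_of% hr j₀, RelSpec.QCAlg.specMap_π]
    rfl
  have hrm : r ≫ m = 𝟙 c.pt.spec := by
    refine Groth.Agent.RelSpecLib.ext_over c.pt c.pt.π hrπ (Category.id_comp _) ?_
    have := hc.hom_ext
      (f := (⟨Groth.Agent.RelSpecLib.algMap c.pt c.pt.π (r ≫ m) hrπ,
          Groth.Agent.RelSpecLib.str_algMap _ _ _ _⟩ : c.pt ⟶ RelSpec.QCAlg.directImage c.pt.π))
      (f' := ⟨Groth.Agent.RelSpecLib.algMap c.pt c.pt.π (𝟙 _) (Category.id_comp _),
          Groth.Agent.RelSpecLib.str_algMap _ _ _ _⟩)
      (fun j => by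
        apply RelSpec.QCAlg.hom_ext
        simp only [RelSpec.QCAlg.comp_hom]
        refine ((Groth.Agent.RelSpecLib.algMap_specMap c.pt.π (c.ι.app j) (r ≫ m) hrπ).symm.trans ?_).trans
          (Groth.Agent.RelSpecLib.algMap_specMap c.pt.π (c.ι.app j) (𝟙 _) (Category.id_comp _))
        congr 1
        rw [Category.assoc, hm, hr, Category.id_comp])
    exact congrArg (fun t => RelSpec.QCAlg.Hom.hom t) this
  refine ⟨hL.lift cv ≫ m, fun j => ?_, fun w hw => ?_⟩
  · rw [Category.assoc, hm]
    exact hL.fac cv _
  · have h1 : w ≫ r = hL.lift cv := hL.hom_ext fun j => by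
      rw [hL.fac cv j, Category.assoc]
      exact (congrArg (w ≫ ·) (hr j.unop)).trans (hw j.unop)
    rw [← h1, Category.assoc, hrm, Category.comp_id]

end Groth.Agent.S5876
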