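import Groth.Statements.S5908
import Groth.Agent.EtAlgEasy.PairLocus
import Groth.Agent.S4787
import Mathlib
-- import your own Groth.Agent.* helpers here

set_option autoImplicit false
universe u
open CategoryTheory AlgebraicGeometry
open ConsPropPair

namespace Groth.Agent.S5908

/-- Form for relations between two schemes: let S = lim S_i be a cofiltered limit of schemes with affine
transition maps, i₀ an index with S_{i₀} quasi-compact, u₀ : X₀ ⟶ S_{i₀} and v₀ : Y₀ ⟶ S_{i₀}
morphisms of finite presentation (locally of finite presentation, quasi-compact and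
quasi-separated), and u : X ⟶ S, v : Y ⟶ S their base changes along S ⟶ S_{i₀} (pullback squares).
Let P(X, Y, k) be an ind-constructible property of pairs of algebraic schemes. Then P holds for the
pair of fibres (X_s, Y_s) over κ(s) for every point s of S if and only if there is an index j over
i₀ such that, for the base changes u_j : X_j ⟶ S_j and v_j : Y_j ⟶ S_j of u₀ and v₀, P holds for the
pair of fibres over every point of S_j. (The published statement is for relations on morphisms and
is extended there, with the same proof, to relations involving several schemes; this row is that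
form. With the relation of being geometrically isomorphic it says: all pairs of fibres X_s, Y_s are
geometrically isomorphic if and only if this already holds at some stage.) -/
theorem result
    {P : ∀ ⦃X Y T : Scheme.{u}⦄, (X ⟶ T) → (Y ⟶ T) → Prop} (hP : ConsPropPair.IsIndConsPair P)
    {I : Type u} [SmallCategory I] [IsCofiltered I]
    (D : I ⥤ Scheme.{u}) (c : Limits.Cone D) (hc : Limits.IsLimit c)
    [∀ (i j : I) (a : i ⟶ j), IsAffineHom (D.map a)] (i₀ : I) [CompactSpace ↥(D.obj i₀)]
    {X₀ Y₀ : Scheme.{u}} (u₀ : X₀ ⟶ D.obj i₀) (v₀ : Y₀ ⟶ D.obj i₀)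
    [LocallyOfFinitePresentation u₀] [QuasiCompact u₀] [QuasiSeparated u₀]
    [LocallyOfFinitePresentation v₀] [QuasiCompact v₀] [QuasiSeparated v₀]
    {X Y : Scheme.{u}} (u : X ⟶ c.pt) (v : Y ⟶ c.pt) (qX : X ⟶ X₀) (qY : Y ⟶ Y₀)
    (hX : IsPullback qX u u₀ (c.π.app i₀)) (hY : IsPullback qY v v₀ (c.π.app i₀)) :
    (∀ s : ↥c.pt, s ∈ ConsPropPair.locusPair P u v) ↔
      ∃ (j : I) (φ : j ⟶ i₀) (Xj Yj : Scheme.{u}) (uj : Xj ⟶ D.obj j) (vj : Yj ⟶ D.obj j)
        (pX : Xj ⟶ X₀) (pY : Yj ⟶ Y₀), IsPullback pX uj u₀ (D.map φ) ∧ IsPullback pY vj v₀ (D.map φ) ∧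
          ∀ t : ↥(D.obj j), t ∈ ConsPropPair.locusPair P uj vj := by
  classical
  open Groth.Agent.EtAlgEasy.PairLocus in
  constructor
  · intro h
    let D' := Over.forget i₀ ⋙ D
    let c' := c.whisker (Over.forget i₀)
    have hc' : Limits.IsLimit c' := (Functor.Initial.isLimitWhiskerEquiv (Over.forget i₀) c).symm hc
    haveI : ∀ (a b : Over i₀) (φ : a ⟶ b), IsAffineHom (D'.map φ) := fun a b φ =>
      inferInstanceAs (IsAffineHom (D.map φ.left))
    let o : Over i₀ := Over.mk (𝟙 i₀)
    haveI : CompactSpace ↥(D'.obj o) := inferInstanceAs (CompactSpace ↥(D.obj i₀))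
    let Fl : ∀ a : Over i₀, Set ↥(D'.obj a) := fun a =>
      ConsPropPair.locusPair P (Limits.pullback.snd u₀ (D.map a.hom)) (Limits.pullback.snd v₀ (D.map a.hom))
    have hF : ∀ a, Fl a = (D.map a.hom) ⁻¹' ConsPropPair.locusPair P u₀ v₀ := fun a =>
      locusPair_preimage hP.1 (IsPullback.of_hasPullback u₀ _) (IsPullback.of_hasPullback v₀ _)
    have hlim : ConsPropPair.locusPair P u v = (c.π.app i₀) ⁻¹' ConsPropPair.locusPair P u₀ v₀ :=
      locusPair_preimage hP.1 hX hY
    have hE1 : ∀ a : Over i₀, ProCons.IsProConstructible (Set.univ : Set ↥(D'.obj a)) := fun a x =>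
      ⟨Set.univ, isOpen_univ, Set.mem_univ x, ∅, by simp, by simp⟩
    have hF1 : ∀ a, ProCons.IsIndConstructible (Fl a) := by
      intro a
      rw [hF a]
      exact Groth.Agent.ProConsLib.isIndConstructible_preimage _ (isIndConstructible_locus hP u₀ v₀)
    have hFm : ∀ (a b : Over i₀) (φ : a ⟶ b), ⇑(D'.map φ) ⁻¹' Fl b ⊆ Fl a := by
      intro a b φ
      rw [hF a, hF b, ← Over.w φ, D.map_comp]
      exact subset_rfl
    obtain ⟨a, -, ha⟩ := (Groth.Agent.S4787.result D' c' hc' o (fun _ => Set.univ) Fl hE1 hF1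
      (fun a b φ => by simp) hFm).1 (fun s _ => Set.mem_iUnion.2 ⟨o, by
        show c'.π.app o s ∈ Fl o
        rw [hF o]
        show D.map (𝟙 i₀) (c.π.app i₀ s) ∈ ConsPropPair.locusPair P u₀ v₀
        rw [← Scheme.Hom.comp_apply, c.w]
        have := h s
        rw [hlim] at this
        exact this⟩)
    exact ⟨a.left, a.hom, _, _, _, _, _, _, IsPullback.of_hasPullback u₀ (D.map a.hom),
      IsPullback.of_hasPullback v₀ (D.map a.hom), fun t => ha a (𝟙 a) (Set.mem_univ t)⟩
  · rintro ⟨j, φ, Xj, Yj, uj, vj, pX, pY, hpX, hpY, ht⟩ s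
    have := ht (c.π.app j s)
    rw [locusPair_preimage hP.1 hpX hpY] at this
    rw [locusPair_preimage hP.1 hX hY]
    show c.π.app i₀ s ∈ ConsPropPair.locusPair P u₀ v₀
    rw [← c.w φ, Scheme.Hom.comp_apply]
    exact this

end Groth.Agent.S5908
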