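import Groth.Statements.S5913
import Groth.Agent.JacobsonCrit.Basic
import Mathlib
-- import your own Groth.Agent.* helpers here

set_option autoImplicit false
universe u
open CategoryTheory AlgebraicGeometry
open EGA43

namespace Groth.Agent.S5913

/-- In the locally Noetherian form: a locally Noetherian scheme X is Jacobson if and only if it has no
subscheme isomorphic to the spectrum of a semi-local integral domain of dimension 1, i.e. there is
no immersion Spec R ⟶ X with R an integral domain having finitely many maximal ideals and Krull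
dimension 1. -/
theorem result (X : Scheme.{u}) [IsLocallyNoetherian X] :
    JacobsonSpace X ↔
      ∀ (R : CommRingCat.{u}) [IsDomain R] (i : Spec R ⟶ X) [IsImmersion i],
        ¬ (Finite (MaximalSpectrum R) ∧ ringKrullDim R = 1) := by
  constructor
  · rintro hX R _ i _ hR
    haveI : IsLocallyNoetherian (Spec R) := LocallyOfFiniteType.isLocallyNoetherian i
    haveI : IsNoetherianRing R := isLocallyNoetherian_Spec.1 inferInstance
    haveI : JacobsonSpace i.coborderRange.toScheme := JacobsonSpace.of_isOpenEmbedding i.coborderRange.ι.isOpenEmbedding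
    haveI : JacobsonSpace (Spec R) := JacobsonSpace.of_isClosedEmbedding i.liftCoborder.isClosedEmbedding
    haveI : IsJacobsonRing R := PrimeSpectrum.isJacobsonRing_iff_jacobsonSpace.2 (inferInstanceAs (JacobsonSpace (Spec R)))
    haveI : (⊥ : Ideal R).IsPrime := Ideal.isPrime_bot
    let e : (↑R ⧸ (⊥ : Ideal R)) ≃+* R := RingEquiv.quotientBot R
    refine ((Groth.Agent.JacobsonCrit.isJacobsonRing_iff R).1 inferInstance ⊥) ⟨?_, (ringKrullDim_eq_of_ringEquiv e).trans hR.2⟩
    haveI := hR.1
    refine Finite.of_injective (fun m : MaximalSpectrum (↑R ⧸ (⊥ : Ideal R)) =>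
      (⟨Ideal.map e m.asIdeal, Ideal.map_isMaximal_of_equiv e⟩ : MaximalSpectrum R)) fun a b h => MaximalSpectrum.ext ?_
    have h2 := congrArg (fun I => Ideal.map e.symm I) (congrArg MaximalSpectrum.asIdeal h)
    have hinj : Function.Injective (Ideal.map (e : (↑R ⧸ (⊥ : Ideal R)) →+* R)) := fun I K hIK => by
      have := congrArg (Ideal.comap (e : (↑R ⧸ (⊥ : Ideal R)) →+* R)) hIK
      erw [Ideal.comap_map_of_bijective _ e.bijective, Ideal.comap_map_of_bijective _ e.bijective] at this
      exact this
    exact hinj (congrArg MaximalSpectrum.asIdeal h)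
  · intro h
    rw [X.affineCover.isOpenCover_opensRange.jacobsonSpace_iff]
    intro j
    have hN : IsLocallyNoetherian (X.affineCover.X j) := inferInstance
    haveI := (isLocallyNoetherian_Spec).1 hN
    suffices JacobsonSpace (X.affineCover.X j) from
      JacobsonSpace.of_isOpenEmbedding (X.affineCover.f j).isoOpensRange.inv.isOpenEmbedding
    show JacobsonSpace (PrimeSpectrum _)
    rw [← PrimeSpectrum.isJacobsonRing_iff_jacobsonSpace, Groth.Agent.JacobsonCrit.isJacobsonRing_iff]
    intro p _
    let g : Spec (CommRingCat.of (_ ⧸ p)) ⟶ X.affineCover.X j := Spec.map (CommRingCat.ofHom (Ideal.Quotient.mk p))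
    haveI : IsClosedImmersion g := IsClosedImmersion.spec_of_surjective _ Ideal.Quotient.mk_surjective
    exact h (CommRingCat.of (_ ⧸ p)) (g ≫ X.affineCover.f j)

end Groth.Agent.S5913
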