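import Groth.Statements.S5917
import Mathlib.Topology.Sheaves.Skyscraper
import Mathlib.Topology.Sheaves.Limits
import Mathlib.Topology.Sheaves.Stalks
import Mathlib.Topology.Sheaves.Functors
import Mathlib.CategoryTheory.Sites.DenseSubsite.SheafEquiv
import Mathlib.CategoryTheory.Sites.Limits
import Mathlib.CategoryTheory.Adjunction.FullyFaithful
import Mathlib.CategoryTheory.Limits.Preserves.Shapes.Products
import Mathlib.Algebra.Category.Grp.FilteredColimits
import Mathlib.Algebra.Category.Grp.Limits
import Mathlib.Algebra.Category.Grp.Zero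

set_option autoImplicit false
universe u
open CategoryTheory
open EGA43

namespace Groth.Agent.S5917

set_option backward.isDefEq.respectTransparency false
set_option backward.isDefEq.respectTransparency.types false
open CategoryTheory.Limits TopologicalSpace Opposite

section
variable {X₀ X : TopCat.{u}} (f : X₀ ⟶ X)

theorem map_le_iff (hb : Function.Bijective (fun U : Opens X => (Opens.map f).obj U)) {U V : Opens X}
    (h : (Opens.map f).obj U ≤ (Opens.map f).obj V) : U ≤ V := by
  have e : (Opens.map f).obj (U ⊓ V) = (Opens.map f).obj U := inf_eq_left.2 h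
  exact inf_eq_left.1 (hb.1 e)

theorem pushforward_isEquivalence (hb : Function.Bijective (fun U : Opens X => (Opens.map f).obj U))
    (C : Type (u + 1)) [Category.{u} C] [HasLimitsOfSize.{u, u} C] :
    (TopCat.Sheaf.pushforward C f).IsEquivalence := by
  let G := Opens.map f
  have : G.Full := ⟨fun {U V} g => ⟨homOfLE (map_le_iff f hb (leOfHom g)), Subsingleton.elim _ _⟩⟩
  have : G.Faithful := ⟨fun _ => Subsingleton.elim _ _⟩
  have : G.EssSurj := ⟨fun W => ⟨(hb.2 W).choose, ⟨eqToIso (hb.2 W).choose_spec⟩⟩⟩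
  have : G.IsCoverDense (Opens.grothendieckTopology X₀) := ⟨fun W => by
    refine (Opens.grothendieckTopology X₀).superset_covering (fun V g _ => ?_) ((Opens.grothendieckTopology X₀).top_mem W)
    obtain ⟨U, hU⟩ := hb.2 W
    dsimp at hU
    exact ⟨⟨U, homOfLE ((leOfHom g).trans hU.ge), homOfLE hU.le, Subsingleton.elim _ _⟩⟩⟩
  have : G.IsDenseSubsite (Opens.grothendieckTopology X) (Opens.grothendieckTopology X₀) :=
    { functorPushforward_mem_iff := fun {U S} => by
        constructor
        · intro h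
          let T : Opens X := sSup {V : Opens X | ∃ g : V ⟶ U, S.arrows g}
          have hle : G.obj U ≤ G.obj T := fun y hy => by
            obtain ⟨W, g, ⟨V, a, c, hSa, -⟩, hyW⟩ := h y hy
            exact (le_sSup (s := {V : Opens X | ∃ g : V ⟶ U, S.arrows g}) ⟨a, hSa⟩ : V ≤ T) (leOfHom c hyW)
          intro x hx
          obtain ⟨V, ⟨g, hg⟩, hxV⟩ := Opens.mem_sSup.1 (map_le_iff f hb hle hx)
          exact ⟨V, g, hg, hxV⟩
        · intro h y hy
          obtain ⟨V, g, hg, hyV⟩ := h (f y) hy
          exact ⟨G.obj V, G.map g, Sieve.image_mem_functorPushforward G S hg, hyV⟩ }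
  exact inferInstanceAs (G.sheafPushforwardContinuous C (Opens.grothendieckTopology X) (Opens.grothendieckTopology X₀)).IsEquivalence

theorem injective_of_isEquivalence {C : Type (u + 1)} [Category.{u} C] [HasTerminal C]
    [(TopCat.Sheaf.pushforward C f).IsEquivalence] (A : C) (hA : IsTerminal A → False) :
    Function.Injective (fun U : Opens X => (Opens.map f).obj U) := by
  classical
  suffices ∀ U V : Opens X, (Opens.map f).obj U ≤ (Opens.map f).obj V → U ≤ V from
    fun U V h => le_antisymm (this U V h.le) (this V U h.ge)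
  intro U V h x hxU
  by_contra hxV
  let S := skyscraperSheaf (C := C) x A
  let e := (TopCat.Sheaf.pushforward C f).objObjPreimageIso S
  let α := (sheafToPresheaf _ _).mapIso e
  let i : U ⊓ V ⟶ U := homOfLE inf_le_left
  have : IsIso ((Opens.map f).map i) := ⟨homOfLE (le_inf le_rfl h), Subsingleton.elim _ _, Subsingleton.elim _ _⟩
  have : IsIso (((TopCat.Sheaf.pushforward C f).obj ((TopCat.Sheaf.pushforward C f).objPreimage S)).1.map i.op) :=
    inferInstanceAs (IsIso (((TopCat.Sheaf.pushforward C f).objPreimage S).1.map ((Opens.map f).map i).op))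
  have hiso : IsIso (S.1.map i.op) := (NatIso.isIso_map_iff α i.op).1 this
  have ht : IsTerminal (S.1.obj (op (U ⊓ V))) := isTerminalSkyscraperSheafObjObjOfNotMem (C := C) (p₀ := x) (fun hx => hxV hx.2)
  have hU : S.1.obj (op U) = A := if_pos hxU
  exact hA ((ht.ofIso (asIso (S.1.map i.op)).symm).ofIso (eqToIso hU))

variable {C : Type (u + 1)} [Category.{u} C] {FC : C → C → Type u} {CC : C → Type u}
  [∀ X Y, FunLike (FC X Y) (CC X) (CC Y)] [ConcreteCategory.{u} C FC]
  [HasColimits C] [HasLimits C] [PreservesFilteredColimits (CategoryTheory.forget C)]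

theorem surjective_of_isEquivalence [(TopCat.Sheaf.pushforward C f).IsEquivalence]
    {G A : C} (a b : G ⟶ A) (g : ToType G) (hab : a g ≠ b g) :
    Function.Surjective (fun U : Opens X => (Opens.map f).obj U) := by
  classical
  intro W
  suffices hcl : ∀ y ∈ W, ∃ U : Opens X, f y ∈ U ∧ (Opens.map f).obj U ≤ W by
    refine ⟨sSup {U : Opens X | (Opens.map f).obj U ≤ W}, le_antisymm (fun y hy => ?_) (fun y hy => ?_)⟩
    · obtain ⟨U, hU, hyU⟩ := Opens.mem_sSup.1 hy
      exact hU hyU
    · obtain ⟨U, hyU, hU⟩ := hcl y hy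
      exact Opens.mem_sSup.2 ⟨U, hU, hyU⟩
  intro y hy
  let Z : Type u := {z : X₀ // z ∉ W}
  let K : Z → X₀.Sheaf C := fun z => skyscraperSheaf z.1 A
  let B : X₀.Sheaf C := ∏ᶜ K
  let ev : ∀ V : Opens X₀, X₀.Sheaf C ⥤ C := fun V => TopCat.Sheaf.forget C X₀ ⋙ (evaluation _ C).obj (op V)
  have hpres : ∀ V, PreservesLimit (Discrete.functor K) (ev V) := fun V => by
    have : PreservesLimitsOfShape (Discrete Z) (TopCat.Sheaf.forget C X₀) :=
      preservesLimitOfShape_of_createsLimitsOfShape_and_hasLimitsOfShape _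
    have h₂ : PreservesLimitsOfShape (Discrete Z) ((evaluation (Opens X₀)ᵒᵖ C).obj (op V)) := inferInstance
    have : PreservesLimit (Discrete.functor K ⋙ TopCat.Sheaf.forget C X₀) ((evaluation (Opens X₀)ᵒᵖ C).obj (op V)) :=
      h₂.preservesLimit
    exact comp_preservesLimit _ _
  let sec : (G ⟶ A) → (G ⟶ B.1.obj (op ⊤)) := fun k =>
    Pi.lift (fun z => k ≫ eqToHom (if_pos (show z.1 ∈ (⊤ : Opens X₀) from trivial)).symm) ≫
      (PreservesProduct.iso (ev ⊤) K).inv
  have hsec : ∀ (k : G ⟶ A) (z : Z),
      sec k ≫ (Pi.π K z).1.app (op ⊤) = k ≫ eqToHom (if_pos (show z.1 ∈ (⊤ : Opens X₀) from trivial)).symm := fun k z => by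
    have e : (PreservesProduct.iso (ev ⊤) K).inv ≫ (ev ⊤).map (Pi.π K z) = Pi.π (fun z => (ev ⊤).obj (K z)) z := by
      rw [Iso.inv_comp_eq, PreservesProduct.iso_hom, piComparison_comp_π]
    exact (Category.assoc _ _ _).trans ((congrArg (_ ≫ ·) e).trans (Pi.lift_π _ _))
  have hW : sec a ≫ B.1.map (homOfLE (le_top : W ≤ ⊤)).op = sec b ≫ B.1.map (homOfLE (le_top : W ≤ ⊤)).op := by
    refine (cancel_mono (PreservesProduct.iso (ev W) K).hom).1 (Pi.hom_ext _ _ fun z => ?_)
    exact (isTerminalSkyscraperSheafObjObjOfNotMem (C := C) (p₀ := z.1) z.2).hom_ext _ _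
  let P : X.Presheaf C := ((TopCat.Sheaf.pushforward C f).obj B).1
  let T : C := P.stalk (f y)
  let η : (TopCat.Sheaf.pushforward C f).obj B ⟶ (TopCat.Sheaf.pushforward C f).obj (skyscraperSheaf y T) :=
    ⟨StalkSkyscraperPresheafAdjunctionAuxs.toSkyscraperPresheaf (f y) (𝟙 T)⟩
  let m := (TopCat.Sheaf.pushforward C f).preimage η
  have hm : m.1.app (op ⊤) = P.germ ⊤ (f y) trivial ≫ eqToHom (if_pos (show f y ∈ (⊤ : Opens X) from trivial)).symm := by
    have e := congrArg (fun k => k.1.app (op ⊤)) ((TopCat.Sheaf.pushforward C f).map_preimage η)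
    refine e.trans ?_
    change (StalkSkyscraperPresheafAdjunctionAuxs.toSkyscraperPresheaf (f y) (𝟙 T)).app (op ⊤) = _
    rw [StalkSkyscraperPresheafAdjunctionAuxs.toSkyscraperPresheaf_app, dif_pos (show f y ∈ (⊤ : Opens X) from trivial), Category.id_comp]
  have : IsIso ((skyscraperSheaf (C := C) y T).1.map (homOfLE (le_top : W ≤ ⊤)).op) := by
    show IsIso ((skyscraperPresheaf y T).map _)
    rw [skyscraperPresheaf_map, dif_pos (show y ∈ (op W).unop from hy)]
    infer_instance
  have hgerm : sec a ≫ P.germ ⊤ (f y) trivial = sec b ≫ P.germ ⊤ (f y) trivial := by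
    have e₁ : sec a ≫ m.1.app (op ⊤) = sec b ≫ m.1.app (op ⊤) := by
      have n := m.1.naturality (homOfLE (le_top : W ≤ ⊤)).op
      refine (cancel_mono ((skyscraperSheaf (C := C) y T).1.map (homOfLE (le_top : W ≤ ⊤)).op)).1 ?_
      refine (Category.assoc _ _ _).trans (((congrArg (sec a ≫ ·) n).symm.trans ?_).trans (Category.assoc _ _ _).symm)
      refine ((Category.assoc _ _ _).symm.trans ?_).trans (congrArg (sec b ≫ ·) n)
      exact (congrArg (· ≫ m.1.app (op W)) hW).trans (Category.assoc _ _ _)
    rw [hm, ← Category.assoc, ← Category.assoc] at e₁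
    exact (cancel_mono _).1 e₁
  obtain ⟨U, hyU, iU, iU', hUeq⟩ := P.germ_eq (f y) (U := ⊤) (V := ⊤) trivial trivial (sec a g) (sec b g)
    ((ConcreteCategory.comp_apply _ _ g).symm.trans ((congrArg (fun k => k g) hgerm).trans (ConcreteCategory.comp_apply _ _ g)))
  refine ⟨U, hyU, fun z hz => ?_⟩
  by_contra hzW
  apply hab
  let j : (op (⊤ : Opens X₀)) ⟶ op ((Opens.map f).obj U) := ((Opens.map f).map iU).op
  have : IsIso ((K ⟨z, hzW⟩).1.map j) := by
    show IsIso ((skyscraperPresheaf z A).map _)
    rw [skyscraperPresheaf_map, dif_pos (show z ∈ (op ((Opens.map f).obj U)).unop from hz)]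
    infer_instance
  have hk : ∀ k : G ⟶ A, (k ≫ eqToHom (if_pos (show z ∈ (⊤ : Opens X₀) from trivial)).symm ≫ (K ⟨z, hzW⟩).1.map j) g =
      (Pi.π K ⟨z, hzW⟩).1.app _ (B.1.map j (sec k g)) := fun k => by
    rw [← ConcreteCategory.comp_apply, ← ConcreteCategory.comp_apply]
    refine congrArg (fun q : G ⟶ (K ⟨z, hzW⟩).1.obj (op ((Opens.map f).obj U)) => q g) ?_
    rw [← Category.assoc, ← hsec k ⟨z, hzW⟩, Category.assoc, ← (Pi.π K ⟨z, hzW⟩).1.naturality]
  have hBj : B.1.map j (sec a g) = B.1.map j (sec b g) := by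
    obtain rfl : iU' = iU := Subsingleton.elim _ _
    exact hUeq
  have := (hk a).trans ((congrArg ((Pi.π K ⟨z, hzW⟩).1.app _) hBj).trans (hk b).symm)
  refine (ConcreteCategory.bijective_of_isIso
    (eqToHom (if_pos (show z ∈ (⊤ : Opens X₀) from trivial)).symm ≫ (K ⟨z, hzW⟩).1.map j)).1 ?_
  exact (ConcreteCategory.comp_apply _ _ g).symm.trans (this.trans (ConcreteCategory.comp_apply _ _ g))

end

/-- (a) ⇔ (c): for a continuous map f : X₀ ⟶ X of topological spaces the following are equivalent: U ↦
f⁻¹(U) is a bijection from the open subsets of X onto those of X₀ (that is, f is a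
quasi-homeomorphism); the inverse image functor f^* from sheaves of sets on X to sheaves of sets on
X₀ is an equivalence of categories; the inverse image functor f^* from sheaves of abelian groups on
X to sheaves of abelian groups on X₀ is an equivalence of categories. (Sheaves are taken with values
in sets, resp. abelian groups, of the universe of the two spaces.) -/
theorem result (X₀ X : TopCat.{u}) (f : X₀ ⟶ X) :
    [Function.Bijective (fun U : TopologicalSpace.Opens X => (TopologicalSpace.Opens.map f).obj U),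
      (TopCat.Sheaf.pullback (Type u) f).IsEquivalence,
      (TopCat.Sheaf.pullback AddCommGrpCat.{u} f).IsEquivalence].TFAE := by
  have push : ∀ (C : Type (u + 1)) [Category.{u} C] [HasLimitsOfSize.{u, u} C],
      Function.Bijective (fun U : TopologicalSpace.Opens X => (TopologicalSpace.Opens.map f).obj U) →
        (TopCat.Sheaf.pushforward C f).IsEquivalence := fun C _ _ h => pushforward_isEquivalence f h C
  tfae_have 1 → 2 := fun h => by
    have := push (Type u) h
    exact (TopCat.Sheaf.pullbackPushforwardAdjunction (Type u) f).isEquivalence_left_of_isEquivalence_right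
  tfae_have 1 → 3 := fun h => by
    have := push AddCommGrpCat.{u} h
    exact (TopCat.Sheaf.pullbackPushforwardAdjunction AddCommGrpCat.{u} f).isEquivalence_left_of_isEquivalence_right
  tfae_have 2 → 1 := fun h => by
    have := (TopCat.Sheaf.pullbackPushforwardAdjunction (Type u) f).isEquivalence_right_of_isEquivalence_left
    refine ⟨injective_of_isEquivalence f (C := Type u) (ULift.{u} Bool) fun ht => ?_,
      surjective_of_isEquivalence f (C := Type u) (G := PUnit) (A := ULift.{u} Bool)
        (TypeCat.ofHom fun _ => ⟨true⟩) (TypeCat.ofHom fun _ => ⟨false⟩) PUnit.unit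
        (fun h => Bool.noConfusion (congrArg ULift.down h))⟩
    exact Bool.noConfusion (congrArg (fun k => (k PUnit.unit).down)
      (ht.hom_ext (TypeCat.ofHom fun _ : PUnit.{u + 1} => (⟨true⟩ : ULift.{u} Bool)) (TypeCat.ofHom fun _ => ⟨false⟩)))
  tfae_have 3 → 1 := fun h => by
    have := (TopCat.Sheaf.pullbackPushforwardAdjunction AddCommGrpCat.{u} f).isEquivalence_right_of_isEquivalence_left
    let A : AddCommGrpCat.{u} := AddCommGrpCat.of (ULift.{u} ℤ)
    refine ⟨injective_of_isEquivalence f (C := AddCommGrpCat.{u}) A fun ht => ?_,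
      surjective_of_isEquivalence f (C := AddCommGrpCat.{u}) (G := A) (A := A) (𝟙 A) 0 (ULift.up 1)
        (fun h => one_ne_zero (α := ℤ) (congrArg ULift.down h))⟩
    exact one_ne_zero (α := ℤ) (congrArg (fun k => (k (ULift.up 1)).down) (ht.hom_ext (𝟙 A) 0))
  tfae_finish

end Groth.Agent.S5917
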