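import Groth.Statements.S5924
import Groth.Agent.OpenDim.Hypersurface
-- import your own Groth.Agent.* helpers here

set_option autoImplicit false
open CategoryTheory AlgebraicGeometry
universe u
open EGA43

namespace Groth.Agent.S5924

/-- Let Y be an irreducible locally Noetherian scheme, f : X ⟶ Y a morphism locally of finite type which
is equidimensional at the point x, and suppose that x is not a maximal point of its fibre f⁻¹(f x),
i.e. some point of the fibre other than x specializes to x. Then there exist an affine open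
neighbourhood U of x and a section g of O_X over U such that g vanishes at x (x is not in the basic
open set of g) while every maximal point of f⁻¹(f x) lying in U is in the basic open set of g. -/
theorem result {X Y : Scheme.{u}} [IrreducibleSpace Y]
    [IsLocallyNoetherian Y] (f : X ⟶ Y) [LocallyOfFiniteType f] (x : X) (hf : EGA43.IsEquidimAt f x)
    (hx : ∃ x' : X, f.base x' = f.base x ∧ x' ≠ x ∧ x ∈ closure ({x'} : Set X)) :
    ∃ U : X.Opens, IsAffineOpen U ∧ x ∈ U ∧ ∃ g : Γ(X, U), x ∉ X.basicOpen g ∧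
      ∀ z : X, f.base z = f.base x → (∀ z' : X, f.base z' = f.base x → z ∈ closure ({z'} : Set X) → z' = z) →
        z ∈ U → z ∈ X.basicOpen g := by
  obtain ⟨c⟩ := Groth.Agent.DimFormulaLib.exists_chart f x
  haveI := c.isNoetherianRing
  haveI : IsNoetherianRing (c.p.asIdeal.Fiber c.B) :=
    Algebra.FiniteType.isNoetherianRing c.p.asIdeal.ResidueField _
  let o := PrimeSpectrum.preimageOrderIsoFiber c.A c.B c.p
  have hfin : {N : PrimeSpectrum (c.p.asIdeal.Fiber c.B) | IsMin N}.Finite := by
    refine ((minimalPrimes.finite_of_isNoetherianRing (c.p.asIdeal.Fiber c.B)).preimage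
      (f := fun N : PrimeSpectrum (c.p.asIdeal.Fiber c.B) => N.asIdeal)
      (fun a _ b _ hab => PrimeSpectrum.ext hab)).subset fun N hN => PrimeSpectrum.isMin_iff.1 hN
  have hcomap : ∀ P : PrimeSpectrum c.B, f (c.j P) = f x ↔
      PrimeSpectrum.comap (algebraMap c.A c.B) P = c.p := fun P => by
    rw [c.apply_j, ← c.hp]
    exact c.i.isOpenEmbedding.injective.eq_iff
  have havoid : ¬ ((c.q.asIdeal : Set c.B) ⊆
      ⋃ N ∈ (↑hfin.toFinset : Set (PrimeSpectrum (c.p.asIdeal.Fiber c.B))), ((o.symm N).1.asIdeal : Set c.B)) := by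
    rw [Ideal.subset_union_prime (o ⟨c.q, rfl⟩) (o ⟨c.q, rfl⟩) (fun i _ _ _ => (o.symm i).1.isPrime)]
    rintro ⟨N, hN, hle⟩
    obtain ⟨x', hfx', hne, hc⟩ := hx
    obtain ⟨P', hP', rfl⟩ := c.exists_le (specializes_iff_mem_closure.2 hc)
    have hPp : PrimeSpectrum.comap (algebraMap c.A c.B) P' = c.p := (hcomap P').1 hfx'
    have hle' : o ⟨P', hPp⟩ ≤ N := by
      rw [← o.apply_symm_apply N]
      exact o.monotone (show P' ≤ (o.symm N).1 from le_trans hP' hle)
    have heq : (o.symm N).1 = P' := by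
      have := le_antisymm hle' ((hfin.mem_toFinset.1 hN) hle')
      rw [← this, o.symm_apply_apply]
    refine hne ?_
    rw [show P' = c.q from le_antisymm hP' (heq ▸ hle), c.hq]
  obtain ⟨gB, hgq, hgN⟩ := Set.not_subset.1 havoid
  refine ⟨c.j ''ᵁ ⊤, (isAffineOpen_top _).image_of_isOpenImmersion c.j, ⟨c.q, trivial, c.hq⟩,
    (c.j.appIso ⊤).inv ((Scheme.ΓSpecIso (CommRingCat.of c.B)).inv gB), ?_, fun z hfz hzmax hzU => ?_⟩
  · rw [← Scheme.image_basicOpen, basicOpen_eq_of_affine]
    rintro ⟨P, hP, hPx⟩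
    obtain rfl := c.j.isOpenEmbedding.injective (hPx.trans c.hq.symm)
    exact hP hgq
  · obtain ⟨P, -, rfl⟩ := hzU
    rw [← Scheme.image_basicOpen, basicOpen_eq_of_affine]
    refine ⟨P, fun hgP => hgN ?_, rfl⟩
    have hPp := (hcomap P).1 hfz
    refine Set.mem_iUnion₂.2 ⟨o ⟨P, hPp⟩, hfin.mem_toFinset.2 fun M hM => ?_, ?_⟩
    · have hle : o.symm M ≤ ⟨P, hPp⟩ := by
        rw [← o.symm_apply_apply ⟨P, hPp⟩]; exact o.symm.monotone hM
      have h1 := hzmax (c.j (o.symm M).1) ((hcomap _).2 (o.symm M).2)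
        (specializes_iff_mem_closure.1 (((PrimeSpectrum.le_iff_specializes _ _).1 hle).map c.j.continuous))
      have h2 : o.symm M = ⟨P, hPp⟩ := Subtype.ext (c.j.isOpenEmbedding.injective h1)
      rw [← h2, o.apply_symm_apply]
    · rw [o.symm_apply_apply]; exact hgP

end Groth.Agent.S5924
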