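import Groth.Statements.S5925
import Groth.Agent.OpenDim.Hypersurface
-- import your own Groth.Agent.* helpers here

set_option autoImplicit false
open CategoryTheory AlgebraicGeometry
universe u
open EGA43

namespace Groth.Agent.S5925

/-- Let Y be an irreducible locally Noetherian scheme, f : X ⟶ Y a morphism locally of finite type which
is equidimensional at the point x, y = f x and e = dim_x(f⁻¹(y)). Let g be a global section of O_X
vanishing at x whose zero set X' contains no maximal point of f⁻¹(y). Then X', with its reduced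
closed subscheme structure, is equidimensional over Y at x; dim_x(X' ∩ f⁻¹(y)) = e − 1; and every
irreducible component of X' containing x has codimension 1 in X, i.e. the local ring of X at its
generic point has Krull dimension 1. (Stated for a global section; the published statement takes g
on an affine open neighbourhood of x, to which this applies after restriction, and its codimension
assertion codim(X', X) = 1 is read for the components of X' through x: a component of the zero set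
not passing through x can be a whole irreducible component of X disjoint from the fibre, of
codimension 0.) -/
theorem result {X Y : Scheme.{u}} [IrreducibleSpace Y]
    [IsLocallyNoetherian Y] (f : X ⟶ Y) [LocallyOfFiniteType f] (x : X) (hf : EGA43.IsEquidimAt f x)
    (g : Γ(X, ⊤)) (hgx : x ∈ X.zeroLocus ({g} : Set Γ(X, ⊤)))
    (hmax : ∀ z : X, f.base z = f.base x → (∀ z' : X, f.base z' = f.base x → z ∈ closure ({z'} : Set X) → z' = z) →
      z ∉ X.zeroLocus ({g} : Set Γ(X, ⊤))) :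
    (∀ w : ↥(Scheme.IdealSheafData.vanishingIdeal ⟨X.zeroLocus ({g} : Set Γ(X, ⊤)), X.zeroLocus_isClosed _⟩).subscheme,
        (Scheme.IdealSheafData.vanishingIdeal ⟨X.zeroLocus ({g} : Set Γ(X, ⊤)), X.zeroLocus_isClosed _⟩).subschemeι.base w = x →
        EGA43.IsEquidimAt ((Scheme.IdealSheafData.vanishingIdeal ⟨X.zeroLocus ({g} : Set Γ(X, ⊤)), X.zeroLocus_isClosed _⟩).subschemeι ≫ f) w) ∧
      FlatMor.localDim ↥(X.zeroLocus ({g} : Set Γ(X, ⊤)) ∩ f.base ⁻¹' {f.base x}) ⟨x, ⟨hgx, rfl⟩⟩ + 1 = FlatMor.fibreDimAt f x ∧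
      ∀ Z ∈ irreducibleComponents ↥(X.zeroLocus ({g} : Set Γ(X, ⊤))), (⟨x, hgx⟩ : ↥(X.zeroLocus ({g} : Set Γ(X, ⊤)))) ∈ Z →
        ∀ ξ : ↥(X.zeroLocus ({g} : Set Γ(X, ⊤))), closure ({ξ} : Set ↥(X.zeroLocus ({g} : Set Γ(X, ⊤)))) = Z →
          ringKrullDim (X.presheaf.stalk (ξ : X)) = 1 := by
  obtain ⟨e, U, hxU, hgen, hw, hdim0⟩ := Groth.Agent.OpenDim.generic_of_isEquidimAt f hf
  let Z0 : Set X := X.zeroLocus ({g} : Set Γ(X, ⊤))
  have hZ0 : IsClosed Z0 := X.zeroLocus_isClosed _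
  have hlt : ∀ z ∈ Z0, f z = f x → z ⤳ x → Groth.Agent.OpenDim.trd f z + 1 ≤ e := fun z hz hfz hzx => by
    obtain ⟨ζ, hfζ, hζz, hζmax⟩ := Groth.Agent.OpenDim.exists_max_in_fibre f z
    have hne : ζ ≠ z := fun heq => hmax ζ (hfζ.trans hfz)
      (fun z' hz' hc => hζmax z' (hz'.trans (hfζ.trans hfz).symm) (specializes_iff_mem_closure.2 hc)) (heq.symm ▸ hz)
    rw [← hw ζ ((hζz.trans hzx).mem_open U.isOpen hxU) hζmax]
    exact Groth.Agent.OpenDim.trd_lt f hζz hne hfζ
  have hξ1 : ∀ ξ ∈ Z0, (∀ z ∈ Z0, z ⤳ ξ → z = ξ) → ξ ⤳ x →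
      ringKrullDim (X.presheaf.stalk ξ) = ((1 : ℕ) : WithBot ℕ∞) ∧ Groth.Agent.OpenDim.trd f ξ + 1 = e ∧
        Groth.Agent.OpenDim.IsMaxPt (f ξ) := fun ξ hξ hξmax hξx => by
    obtain ⟨w, hξw, hwx, hfw, hle⟩ := Groth.Agent.OpenDim.exists_trd_ge f hξx
    have := hlt w (hξw.mem_closed hZ0 hξ) hfw hwx
    exact Groth.Agent.OpenDim.codim_core f hxU hgen hw hξx
      (by exact_mod_cast Groth.Agent.OpenDim.dim_stalk_le_one f g hξ hξmax) (by omega)
  let I := Scheme.IdealSheafData.vanishingIdeal ⟨X.zeroLocus ({g} : Set Γ(X, ⊤)), X.zeroLocus_isClosed _⟩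
  have hrange : Set.range I.subschemeι = Z0 := by
    rw [Scheme.IdealSheafData.range_subschemeι]; rfl
  have hmaxsub : ∀ v : I.subscheme, Groth.Agent.OpenDim.IsMaxPt v →
      ∀ z ∈ Z0, z ⤳ I.subschemeι v → z = I.subschemeι v := fun v hv z hz hzv => by
    obtain ⟨v', rfl⟩ : z ∈ Set.range I.subschemeι := by rw [hrange]; exact hz
    rw [hv v' (I.subschemeι.isEmbedding.isInducing.specializes_iff.1 hzv)]
  have hl : FlatMor.localDim ↥(Z0 ∩ f.base ⁻¹' {f.base x}) ⟨x, ⟨hgx, rfl⟩⟩ =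
      ((e - 1 : ℕ) : WithBot ℕ∞) := by
    refine le_antisymm (Groth.Agent.OpenDim.localDim_inter_le f Z0 hZ0 _ fun z hz hzx => ?_) ?_
    · have := hlt z hz.1 hz.2 hzx
      exact_mod_cast (by omega : Groth.Agent.OpenDim.trd f z ≤ e - 1)
    · obtain ⟨v₀, hv₀⟩ : x ∈ Set.range I.subschemeι := by rw [hrange]; exact hgx
      obtain ⟨v, hv, hvmax⟩ := Groth.Agent.DimFormulaLib.exists_maximal_point v₀
      have hvx : I.subschemeι v ⤳ x := hv₀ ▸ hv.map I.subschemeι.continuous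
      have hvZ : I.subschemeι v ∈ Z0 := by rw [← hrange]; exact ⟨v, rfl⟩
      obtain ⟨-, htr, -⟩ := hξ1 _ hvZ (hmaxsub v hvmax) hvx
      obtain ⟨w, hξw, hwx, hfw, hle⟩ := Groth.Agent.OpenDim.exists_trd_ge f hvx
      refine le_trans ?_ (Groth.Agent.OpenDim.trd_le_localDim_inter f Z0 hZ0 _ (z := w)
        ⟨hξw.mem_closed hZ0 hvZ, hfw⟩ hwx)
      exact_mod_cast (by omega : e - 1 ≤ Groth.Agent.OpenDim.trd f w)
  have he : 1 ≤ e := by
    have := hlt x hgx rfl (specializes_refl x)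
    omega
  refine ⟨fun w hwx => ?_, ?_, fun Z hZ hxZ ξ hξ => ?_⟩
  · refine Groth.Agent.OpenDim.isEquidimAt_of_generic _ w (e - 1) (fun v hv hvw => ?_) ?_
    · have hvx : I.subschemeι v ⤳ x := hwx ▸ hvw.map I.subschemeι.continuous
      obtain ⟨-, htr, hfmax⟩ := hξ1 _ (by rw [← hrange]; exact ⟨v, rfl⟩) (hmaxsub v hv) hvx
      refine ⟨hfmax, ?_⟩
      rw [Groth.Agent.OpenDim.trd_closedImmersion]
      change Groth.Agent.OpenDim.trd f (I.subschemeι v) = e - 1
      omega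
    · refine Groth.Agent.OpenDim.fibreDimAt_le _ fun z hz hzw => ?_
      rw [Groth.Agent.OpenDim.trd_closedImmersion]
      have := hlt (I.subschemeι z) (by rw [← hrange]; exact ⟨z, rfl⟩)
        (by rw [← hwx]; exact hz) (hwx ▸ hzw.map I.subschemeι.continuous)
      exact_mod_cast (by omega : Groth.Agent.OpenDim.trd f (I.subschemeι z) ≤ e - 1)
  · show FlatMor.localDim ↥(Z0 ∩ f.base ⁻¹' {f.base x}) ⟨x, ⟨hgx, rfl⟩⟩ + 1 = _
    rw [hl, hdim0]
    exact_mod_cast (by omega : e - 1 + 1 = e)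
  · have hξx : (ξ : X) ⤳ x :=
      (specializes_iff_mem_closure.2 (hξ.symm ▸ hxZ : (⟨x, hgx⟩ : ↥(X.zeroLocus ({g} : Set Γ(X, ⊤)))) ∈ closure {ξ})).map
        continuous_subtype_val
    refine ((hξ1 _ ξ.2 (fun z hz hzξ => ?_) hξx).1).trans Nat.cast_one
    let z' : ↥(X.zeroLocus ({g} : Set Γ(X, ⊤))) := ⟨z, hz⟩
    have hle : closure ({ξ} : Set ↥(X.zeroLocus ({g} : Set Γ(X, ⊤)))) ⊆ closure {z'} :=
      closure_minimal (Set.singleton_subset_iff.2 (specializes_iff_mem_closure.1 ((subtype_specializes_iff z' ξ).2 hzξ))) isClosed_closure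
    have hge := hZ.2 isIrreducible_singleton.closure (hξ ▸ hle)
    rw [← hξ] at hge
    exact ((specializes_iff_mem_closure.2 (hge (subset_closure rfl))).map continuous_subtype_val |>.antisymm hzξ).eq.symm

end Groth.Agent.S5925
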