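import Groth.Statements.S5927
import Groth.Agent.OpenDim.SectionConst
-- import your own Groth.Agent.* helpers here

set_option autoImplicit false
open CategoryTheory AlgebraicGeometry
universe u
open EGA43

namespace Groth.Agent.S5927

/-- Let Y be a locally Noetherian scheme, f : X ⟶ Y a morphism locally of finite type with a section g :
Y ⟶ X, X_y^0 the connected component of f⁻¹(y) containing g y, every X_y^0 geometrically irreducible
over κ(y), and y₀ a point of Y such that f is universally open at the generic point of X_{y₀}^0.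
Suppose moreover that either (α) the fibre f⁻¹(y₀) is geometrically reduced at g y₀, or (β) dim
f⁻¹(y') = dim X_{y'}^0 for the generic point y' of every irreducible component of Y containing y₀.
Then y ↦ dim X_y^0 is constant on a neighbourhood of y₀. -/
theorem result {X Y : Scheme.{u}} [IsLocallyNoetherian Y] (f : X ⟶ Y)
    [LocallyOfFiniteType f] (g : Y ⟶ X) (hg : g ≫ f = 𝟙 Y)
    (hirr : ∀ y : Y, (∀ (K : Type u) [Field K] [Algebra (IsLocalRing.ResidueField (Y.presheaf.stalk y)) K],
        IsIrreducible ((FBase.bcπ (f.fiberToSpecResidueField y) K ≫ f.fiberι y).base ⁻¹' connectedComponentIn (f.base ⁻¹' {y}) (g.base y))))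
    (y₀ : Y) (hopen : ∀ ξ ∈ connectedComponentIn (f.base ⁻¹' {y₀}) (g.base y₀), connectedComponentIn (f.base ⁻¹' {y₀}) (g.base y₀) ⊆ closure {ξ} → EGA43.IsUnivOpenAt f ξ)
    (hαβ : FBase.IsGeomReducedAt (f.fiberToSpecResidueField (f.base (g.base y₀))) (f.asFiber (g.base y₀)) ∨
      (∀ y' : Y, y₀ ∈ closure {y'} → closure {y'} ∈ irreducibleComponents (Y : Type u) →
        topologicalKrullDim ↥(f.fiber y') = topologicalKrullDim ↥(connectedComponentIn (f.base ⁻¹' {y'}) (g.base y')))) :
    (∃ V ∈ nhds y₀, ∀ z ∈ V, topologicalKrullDim ↥(connectedComponentIn (f.base ⁻¹' {z}) (g.base z)) = topologicalKrullDim ↥(connectedComponentIn (f.base ⁻¹' {y₀}) (g.base y₀))) := by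
  have hirr' := fun y => Groth.Agent.OpenDim.isIrreducible_of_geom f (hirr y)
  have hop : ∀ x ∈ connectedComponentIn (f.base ⁻¹' {y₀}) (g.base y₀), EGA43.IsUnivOpenAt f x :=
    fun x hx => Groth.Agent.OpenDim.univOpenAt_comp_of_generic f g hg y₀ (hirr' y₀) hopen hx
  refine Groth.Agent.OpenDim.exists_nhds_const f g hg hirr' y₀ fun η hη hηy => ?_
  rcases hαβ with hα | hβ
  · exact Groth.Agent.OpenDim.dim_eq_of_generization f g hg hηy (hirr y₀) hop hα
  · exact Groth.Agent.OpenDim.dim_eq_of_maximal f g hg hηy (hirr' y₀) (hirr' η) hop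
      (hβ η (specializes_iff_mem_closure.1 hηy) (Groth.Agent.DimFormulaLib.closure_mem_irreducibleComponents hη))

end Groth.Agent.S5927
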