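import Groth.Statements.S5929
import Groth.Agent.PdFlat.Syzygy
import Mathlib
-- import your own Groth.Agent.* helpers here

set_option autoImplicit false
universe u
open TensorProduct CategoryTheory
open EGA43

namespace Groth.Agent.S5929

theorem flat_compHom {A B : Type u} [CommRing A] [CommRing B] [Algebra A B] (N : Type u) [AddCommGroup N]
    [Module B N] [Module A N] [IsScalarTower A B N] (h : Module.Flat A N) :
    @Module.Flat A N _ _ (Module.compHom N (algebraMap A B)) := by
  have e : (Module.compHom N (algebraMap A B) : Module A N) = ‹Module A N› :=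
    Module.ext' _ _ fun r x => algebraMap_smul B r x
  rw [e]
  exact h

/-- Let A be a commutative ring, B a finitely presented A-algebra which is flat as an A-module, and M a
finitely presented B-module which is flat as an A-module. Then M admits a left resolution by free
B-modules of finite type: there is a projective resolution of M in the category of B-modules (a
chain complex of projective modules with a quasi-isomorphism to M in degree 0) every term of which
is a finitely generated free B-module. -/
theorem result (A B M : Type u) [CommRing A] [CommRing B] [Algebra A B]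
    [Algebra.FinitePresentation A B] [Module.Flat A B] [AddCommGroup M] [Module B M] [Module A M]
    [IsScalarTower A B M] [Module.FinitePresentation B M] [Module.Flat A M] :
    ∃ P : ProjectiveResolution (ModuleCat.of B M),
      ∀ n : ℕ, Module.Finite B (P.complex.X n) ∧ Module.Free B (P.complex.X n) := by
  classical
  have hcov : ∀ K : ModuleCat.{u} B, ∃ (X : ModuleCat.{u} B) (p : X ⟶ K), Function.Surjective p.hom ∧ Module.Free B X ∧
      (Module.Finite B K → Module.Finite B X) ∧
      (letI := Module.compHom K (algebraMap A B); Module.FinitePresentation B K ∧ Module.Flat A K →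
        letI := Module.compHom (LinearMap.ker p.hom) (algebraMap A B)
        Module.FinitePresentation B (LinearMap.ker p.hom) ∧ Module.Flat A (LinearMap.ker p.hom)) := by
    intro K
    by_cases hK : Module.Finite B K
    · haveI := hK
      obtain ⟨n, g, hg⟩ := Module.Finite.exists_fin' B K
      refine ⟨ModuleCat.of B (Fin n → B), ModuleCat.ofHom g, hg, inferInstanceAs (Module.Free B (Fin n → B)),
        fun _ => inferInstanceAs (Module.Finite B (Fin n → B)), ?_⟩
      intro h
      letI := Module.compHom K (algebraMap A B)
      haveI : IsScalarTower A B K := IsScalarTower.of_algebraMap_smul fun _ _ => rfl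
      haveI := h.1
      haveI := h.2
      obtain ⟨h1, h2⟩ := Groth.Agent.PdFlat.finitePresentation_ker (A := A) g hg
      refine ⟨h1, ?_⟩
      exact flat_compHom (LinearMap.ker g) h2
    · exact ⟨ModuleCat.of B (K →₀ B), ModuleCat.ofHom (Finsupp.linearCombination B id), fun m => ⟨Finsupp.single m 1, by simp⟩,
        inferInstanceAs (Module.Free B (K →₀ B)), fun h => absurd h hK, fun h => absurd (by haveI := h.1; infer_instance) hK⟩
  choose cX cp hsurj hfree hfinite hgood using hcov
  let T := Σ (Y X : ModuleCat.{u} B), (X ⟶ Y)
  let step : T → T := fun t => ⟨t.2.1, cX (ModuleCat.of B (LinearMap.ker t.2.2.hom)), cp _ ≫ ModuleCat.ofHom (LinearMap.ker t.2.2.hom).subtype⟩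
  let node : ℕ → T := fun n => Nat.rec ⟨ModuleCat.of B M, cX _, cp _⟩ (fun _ t => step t) n
  let X : ℕ → ModuleCat.{u} B := fun n => (node n).2.1
  let d : ∀ n, X (n + 1) ⟶ X n := fun n => (node (n + 1)).2.2
  have hrange : ∀ n, LinearMap.range (d n).hom = LinearMap.ker (node n).2.2.hom := fun n => by
    show LinearMap.range ((LinearMap.ker (node n).2.2.hom).subtype ∘ₗ (cp (ModuleCat.of B (LinearMap.ker (node n).2.2.hom))).hom) = _
    rw [LinearMap.range_comp, LinearMap.range_eq_top.mpr (hsurj _), Submodule.map_top, Submodule.range_subtype]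
  have hzero : ∀ n, d n ≫ (node n).2.2 = 0 := fun n => ModuleCat.hom_ext (LinearMap.range_le_ker_iff.mp (hrange n).le)
  have hsq : ∀ n, d (n + 1) ≫ d n = 0 := fun n => hzero (n + 1)
  let C := ChainComplex.of X d hsq
  have hinv : ∀ n, Module.Finite B (X n) ∧
      (letI := Module.compHom (LinearMap.ker (node n).2.2.hom) (algebraMap A B)
       Module.FinitePresentation B (LinearMap.ker (node n).2.2.hom) ∧ Module.Flat A (LinearMap.ker (node n).2.2.hom)) := by
    intro n
    induction n with
    | zero =>
      refine ⟨hfinite (ModuleCat.of B M) (inferInstanceAs (Module.Finite B M)), hgood (ModuleCat.of B M) ⟨inferInstanceAs (Module.FinitePresentation B M), ?_⟩⟩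
      exact flat_compHom M inferInstance
    | succ n ih =>
      obtain ⟨ih1, ih2, ih3⟩ := ih
      haveI := ih2
      refine ⟨hfinite (ModuleCat.of B (LinearMap.ker (node n).2.2.hom)) (inferInstanceAs (Module.Finite B (LinearMap.ker (node n).2.2.hom))), ?_⟩
      have h := hgood (ModuleCat.of B (LinearMap.ker (node n).2.2.hom)) ⟨ih2, ih3⟩
      have hk : LinearMap.ker (node (n + 1)).2.2.hom = LinearMap.ker (cp (ModuleCat.of B (LinearMap.ker (node n).2.2.hom))).hom := by
        show LinearMap.ker ((LinearMap.ker (node n).2.2.hom).subtype ∘ₗ (cp (ModuleCat.of B (LinearMap.ker (node n).2.2.hom))).hom) = _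
        exact LinearMap.ker_comp_of_ker_eq_bot _ (Submodule.ker_subtype _)
      rw [hk]
      exact h
  have hfin : ∀ n, Module.Finite B (X n) := fun n => (hinv n).1
  have hfreeX : ∀ n, Module.Free B (X n) := fun n => by cases n <;> exact hfree _
  let π₀ : X 0 ⟶ ModuleCat.of B M := (node 0).2.2
  have hπd : C.d 1 0 ≫ π₀ = 0 := by
    show ChainComplex.of.d X d (0 + 1) 0 ≫ π₀ = 0
    rw [ChainComplex.of_d]; exact hzero 0
  haveI hπe : Epi π₀ := (ModuleCat.epi_iff_surjective _).mpr (hsurj _)
  refine ⟨{ complex := C
            projective := fun n => by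
              haveI := hfreeX n
              exact (IsProjective.iff_projective _).mp (inferInstanceAs (Module.Projective B (X n)))
            π := (ChainComplex.toSingle₀Equiv _ _).symm ⟨π₀, hπd⟩
            quasiIso := ⟨fun n => ?_⟩ }, fun n => ⟨hfin n, hfreeX n⟩⟩
  cases n with
  | zero =>
    rw [ChainComplex.quasiIsoAt₀_iff, ShortComplex.quasiIso_iff_of_zeros']
    · refine (ShortComplex.exact_and_epi_g_iff_of_iso (S₂ := ShortComplex.mk (d 0) π₀ (hzero 0)) ?_).2 ⟨?_, hπe⟩
      · exact ShortComplex.isoMk (Iso.refl _) (Iso.refl _) (Iso.refl _)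
          (by refine (Category.id_comp _).trans ((Category.comp_id _).trans ?_).symm
              exact ChainComplex.of_d X d 0)
          (by refine (Category.id_comp _).trans ((Category.comp_id _).trans ?_).symm
              exact ChainComplex.toSingle₀Equiv_symm_apply_f_zero _ _)
      · exact (ShortComplex.moduleCat_exact_iff_range_eq_ker _).mpr (hrange 0)
    all_goals rfl
  | succ n =>
    rw [quasiIsoAt_iff_exactAt' (hL := ChainComplex.exactAt_succ_single_obj _ _),
      HomologicalComplex.exactAt_iff' _ (n + 2) (n + 1) n (by simp) (by simp)]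
    rw [ShortComplex.moduleCat_exact_iff_range_eq_ker]
    show LinearMap.range (C.d (n + 1 + 1) (n + 1)).hom = LinearMap.ker (C.d (n + 1) n).hom
    rw [show C.d (n + 1 + 1) (n + 1) = d (n + 1) from ChainComplex.of_d X d (n + 1), show C.d (n + 1) n = d n from ChainComplex.of_d X d n]
    exact hrange (n + 1)

end Groth.Agent.S5929
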