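import Groth.Statements.S5930
import Groth.Agent.PdFlat.Main
-- import your own Groth.Agent.* helpers here

set_option autoImplicit false
universe u
open TensorProduct CategoryTheory
open EGA43

namespace Groth.Agent.S5930

/-- Let A be a commutative ring, B a finitely presented A-algebra which is flat as an A-module, and M a
finitely presented B-module which is flat as an A-module. Then the projective dimension of M as a
B-module equals the supremum, over the prime ideals p of A with residue fields κ(p), of the
projective dimensions of the modules (B ⊗_A κ(p)) ⊗_B M over the rings B ⊗_A κ(p). (Projective
dimensions are taken in the respective module categories, with values in WithBot ℕ∞ and the zero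
module of dimension ⊥. The published formula also equates these with the Tor-dimension of M over B;
that equality is not stated here.) -/
theorem result (A B M : Type u) [CommRing A] [CommRing B] [Algebra A B]
    [Algebra.FinitePresentation A B] [Module.Flat A B] [AddCommGroup M] [Module B M] [Module A M]
    [IsScalarTower A B M] [Module.FinitePresentation B M] [Module.Flat A M] :
    projectiveDimension (ModuleCat.of B M) =
      ⨆ p : PrimeSpectrum A, projectiveDimension
        (ModuleCat.of (B ⊗[A] p.asIdeal.ResidueField) ((B ⊗[A] p.asIdeal.ResidueField) ⊗[B] M)) := by
  refine eq_of_forall_ge_iff fun c => ?_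
  rw [iSup_le_iff]
  have key := fun n : ℕ => Groth.Agent.PdFlat.hasPDLT_iff_fibres (A := A) (B := B) n M
  induction c with
  | bot =>
    simp only [le_bot_iff, projectiveDimension_eq_bot_iff, ← hasProjectiveDimensionLT_zero_iff_isZero]
    exact key 0
  | coe c =>
    induction c with
    | top => simp
    | coe n =>
      have h1 : ∀ {R : Type u} [CommRing R] (X : ModuleCat.{u} R),
          projectiveDimension X ≤ ((n : ℕ∞) : WithBot ℕ∞) ↔ HasProjectiveDimensionLT X (n + 1) :=
        fun X => projectiveDimension_le_iff X n
      simp only [h1]
      exact key (n + 1)

end Groth.Agent.S5930
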