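import Groth.Statements.S5936
import Groth.Agent.PdFlat.Main
-- import your own Groth.Agent.* helpers here

set_option autoImplicit false
universe u
open TensorProduct CategoryTheory
open EGA43

namespace Groth.Agent.S5936

/-- Let A be a commutative ring, B a finitely presented A-algebra which is flat as an A-module, and M a
finitely presented B-module which is flat as an A-module. Then the projective dimension of M as a
B-module equals its Tor-dimension, the least n such that Tor_i^B(M, N) = 0 for every i > n and every
B-module N. (Both sides are valued in WithBot ℕ∞, with the zero module of dimension ⊥; Tor_i^B(M, −)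
is the i-th left derived functor of M ⊗_B −. In general only Tor-dimension ≤ projective dimension
holds.) -/
theorem result (A B M : Type u) [CommRing A] [CommRing B] [Algebra A B]
    [Algebra.FinitePresentation A B] [Module.Flat A B] [AddCommGroup M] [Module B M] [Module A M]
    [IsScalarTower A B M] [Module.FinitePresentation B M] [Module.Flat A M] :
    projectiveDimension (ModuleCat.of B M) =
      sInf {n : WithBot ℕ∞ | ∀ i : ℕ, n < i → ∀ N : ModuleCat.{u} B,
        Limits.IsZero (((Tor (ModuleCat.{u} B) i).obj (ModuleCat.of B M)).obj N)} := by
  unfold projectiveDimension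
  refine congrArg sInf (Set.ext fun n => ?_)
  have key := fun j : ℕ => Groth.Agent.PdFlat.hasPDLT_iff_hasTorDimLE (A := A) (B := B) j M
  constructor
  · intro h i hi N
    cases i with
    | zero =>
      haveI : Subsingleton M := (Groth.Agent.PdFlat.hasPDLT_zero_iff M).mp (h 0 hi)
      refine Limits.IsZero.of_iso ?_ (Groth.Agent.TorLib.torIso (ProjectiveResolution.of N) (ModuleCat.of B M) 0)
      refine (HomologicalComplex.exactAt_iff_isZero_homology _ _).mp (HomologicalComplex.ExactAt.of_isZero ?_)
      rw [ModuleCat.isZero_iff_subsingleton]
      show Subsingleton (TensorProduct B M ((ProjectiveResolution.of N).complex.X 0))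
      exact inferInstance
    | succ j =>
      haveI := (key j).mp (h (j + 1) hi) N (j + 1) (Nat.lt_succ_self j)
      exact ModuleCat.isZero_of_subsingleton _
  · intro h i hi
    cases i with
    | zero =>
      rw [Groth.Agent.PdFlat.hasPDLT_zero_iff]
      let N := ModuleCat.of B B
      let P := ProjectiveResolution.of N
      have h0 := (h 0 hi N).of_iso
        ((Groth.Agent.TorLib.torIso P (ModuleCat.of B M) 0) ≪≫ Groth.Agent.TorLib.h0Iso P (ModuleCat.of B M)).symm
      haveI : Subsingleton (TensorProduct B M B) := ModuleCat.subsingleton_of_isZero h0
      exact (TensorProduct.rid B M).symm.injective.subsingleton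
    | succ j =>
      refine (key j).mpr fun Q _ _ q hq => ?_
      have hq' : n < (q : WithBot ℕ∞) := lt_of_lt_of_le hi (by exact_mod_cast hq)
      exact ModuleCat.subsingleton_of_isZero (h q hq' (ModuleCat.of B Q))

end Groth.Agent.S5936
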