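import Groth.Statements.S5937
import Groth.Agent.OmegaUnivLib.Aff
import Groth.Agent.FormalSysLib.Systems
set_option backward.isDefEq.respectTransparency false
-- import your own Groth.Agent.* helpers here

set_option autoImplicit false
universe u
open CategoryTheory CategoryTheory.Limits AlgebraicGeometry
open Unram17

namespace Groth.Agent.S5937

/-- Take a morphism of schemes f : X ⟶ Y and an O_X-module Ω' equipped with a universal Y-derivation d :
O_X → Ω' (so that Ω' is a sheaf of differentials of X over Y). Then f is formally unramified if and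
only if Ω' is a zero object of the category of O_X-modules. -/
theorem result {X Y : Scheme.{u}} (f : X ⟶ Y)
    (Ω' : X.Modules) (d : OmegaSh.Der f Ω') (hd : OmegaSh.IsUniversal d) :
    FormallyUnramified f ↔ IsZero Ω' := by
  constructor
  · intro hf
    haveI := OmegaUnivLib.isQCoh_of_universal hd
    rw [IsZero.iff_id_eq_zero]
    have hsmall : ∀ x : X, ∃ (V : Y.Opens) (U : X.Opens), IsAffineOpen V ∧ IsAffineOpen U ∧ x ∈ U ∧ U ≤ f ⁻¹ᵁ V := by
      intro x
      obtain ⟨_, ⟨V : Y.Opens, hV, rfl⟩, hxV, -⟩ := Y.isBasis_affineOpens.exists_subset_of_mem_open (a := f x) (Set.mem_univ _) isOpen_univ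
      obtain ⟨_, ⟨U : X.Opens, hU, rfl⟩, hxU, hUV⟩ := X.isBasis_affineOpens.exists_subset_of_mem_open (a := x) (u := ↑(f ⁻¹ᵁ V)) hxV (f ⁻¹ᵁ V).2
      exact ⟨V, U, hV, hU, hxU, hUV⟩
    choose V U hV hU hx hUV using hsmall
    refine FormalSys.hom_zero_of_cover _ U hU (fun x _ => TopologicalSpace.Opens.mem_iSup.mpr ⟨x, hx x⟩) fun x s => ?_
    letI := (f.appLE (V x) (U x) (hUV x)).hom.toAlgebra
    haveI : Algebra.FormallyUnramified Γ(Y, V x) Γ(X, U x) := f.formallyUnramified_appLE (hV x) (hU x) (hUV x)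
    haveI : Subsingleton Ω[Γ(X, U x)⁄Γ(Y, V x)] := inferInstance
    obtain ⟨T, hT⟩ := OmegaUnivLib.exists_lin_of_der (V := V x) (U := U x) d (hUV x)
    obtain ⟨t, rfl⟩ := (OmegaUnivLib.bijective_of_universal (hV x) (hU x) (hUV x) hd T hT).2 s
    rw [Subsingleton.elim t 0, map_zero]
    exact map_zero _
  · intro hz
    refine ⟨fun {V} hV {U} hU e => ?_⟩
    letI := (f.appLE V U e).hom.toAlgebra
    obtain ⟨T, hT⟩ := OmegaUnivLib.exists_lin_of_der (V := V) (U := U) d e
    have hinj := (OmegaUnivLib.bijective_of_universal hV hU e hd T hT).1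
    have h0 : ∀ s : Γ(Ω', U), s = 0 := fun s => congr($((IsZero.iff_id_eq_zero Ω').1 hz).app U s)
    haveI : Subsingleton Ω[Γ(X, U)⁄Γ(Y, V)] := ⟨fun a b => hinj ((h0 _).trans (h0 _).symm)⟩
    exact ⟨inferInstance⟩

end Groth.Agent.S5937
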