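import Groth.Statements.S5942
import Groth.Agent.AffLim.DescendFU
-- import your own Groth.Agent.* helpers here

set_option autoImplicit false
universe u
open CategoryTheory AlgebraicGeometry
open Unram17

namespace Groth.Agent.S5942

/-- Let S = lim S_i be a cofiltered limit of schemes with affine transition maps, let X₀ and Y₀ be
schemes locally of finite presentation over a stage S_{i₀}, f₀ : X₀ ⟶ Y₀ an S_{i₀}-morphism, and f :
X ⟶ Y the base change of f₀ along S ⟶ S_{i₀} (base changes are expressed by pullback squares).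
Assume X₀ quasi-compact. Then f is formally unramified if and only if, for some index j over i₀, the
base change f_j : X_j ⟶ Y_j of f₀ along S_j ⟶ S_{i₀} is formally unramified (f and every f_j are
locally of finite presentation, being morphisms between schemes locally of finite presentation over
a common base, so formally unramified means unramified here). This is the case of unramified
morphisms. -/
theorem result {I : Type u} [SmallCategory I] [IsCofiltered I]
    (D : I ⥤ Scheme.{u}) (c : Limits.Cone D) (hc : Limits.IsLimit c)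
    [∀ (i j : I) (f : i ⟶ j), IsAffineHom (D.map f)] (i₀ : I)
    {X₀ Y₀ : Scheme.{u}} (f₀ : X₀ ⟶ Y₀) (g₀ : Y₀ ⟶ D.obj i₀)
    [LocallyOfFinitePresentation g₀] [LocallyOfFinitePresentation (f₀ ≫ g₀)]
    [CompactSpace ↥X₀]
    {X Y : Scheme.{u}} (f : X ⟶ Y) (g : Y ⟶ c.pt) (qY : Y ⟶ Y₀) (qX : X ⟶ X₀)
    (hY : IsPullback qY g g₀ (c.π.app i₀)) (hX : IsPullback qX f f₀ qY) :
    FormallyUnramified f ↔
      ∃ (j : I) (φ : j ⟶ i₀) (Xj Yj : Scheme.{u}) (fj : Xj ⟶ Yj) (gj : Yj ⟶ D.obj j) (pY : Yj ⟶ Y₀)
        (pX : Xj ⟶ X₀), IsPullback pY gj g₀ (D.map φ) ∧ IsPullback pX fj f₀ pY ∧ FormallyUnramified fj := by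
  haveI : LocallyOfFinitePresentation f₀ :=
    Groth.Agent.ASp.locallyOfFinitePresentation_of_comp _ g₀ ‹_› inferInstance
  constructor
  · intro _
    obtain ⟨k, hk⟩ := Groth.Agent.AffLim.exists_formallyUnramified_baseChange' D c hc i₀ f₀ g₀ hY hX
    exact ⟨k.left, k.hom, _, _, (Groth.Agent.AffLim.baseChangeMap D i₀ f₀ g₀).app k,
      Limits.pullback.snd g₀ (D.map k.hom), Limits.pullback.fst g₀ (D.map k.hom),
      Limits.pullback.fst _ _, IsPullback.of_hasPullback _ _,
      Groth.Agent.AffLim.isPullback_baseChangeMap D i₀ f₀ g₀ k, hk⟩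
  · rintro ⟨j, φ, Xj, Yj, fj, gj, pY, pX, h1, h2, hfj⟩
    let k : Over i₀ := Over.mk φ
    have hk : FormallyUnramified ((Groth.Agent.AffLim.baseChangeMap D i₀ f₀ g₀).app k) :=
      (Groth.Agent.AffLim.prop_iff_of_isPullback @FormallyUnramified h2
        (Groth.Agent.AffLim.isPullback_baseChangeMap D i₀ f₀ g₀ k) h1.isoPullback
        h1.isoPullback_hom_fst).mp hfj
    exact (Groth.Agent.AffLim.prop_baseChangeMapLimit D c i₀ f₀ g₀ @FormallyUnramified hY hX).mpr
      (MorphismProperty.of_isPullback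
        (Groth.Agent.AffLim.isPullback_baseChangeMapLimit D c i₀ f₀ g₀ k) hk)

end Groth.Agent.S5942
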