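import Groth.Statements.S5944
import Groth.Agent.FlatStage.Smooth
import Groth.Agent.FlatStage.Given
-- import your own Groth.Agent.* helpers here

set_option autoImplicit false
universe u
open CategoryTheory AlgebraicGeometry
open Unram17

namespace Groth.Agent.S5944

/-- Let S = lim S_i be a cofiltered limit of schemes with affine transition maps, let X₀ and Y₀ be
schemes locally of finite presentation over a stage S_{i₀}, f₀ : X₀ ⟶ Y₀ an S_{i₀}-morphism, and f :
X ⟶ Y the base change of f₀ along S ⟶ S_{i₀} (base changes are expressed by pullback squares). Let x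
be a point of X; for a stage j over i₀ the canonical projection X ⟶ X_j is the morphism rX
determined by its composites to X₀ and to S_j. Then f is etale on some open neighbourhood of x if
and only if, for some index j over i₀, f_j is etale on some open neighbourhood of the image of x in
X_j. This is the case of etale morphisms. -/
theorem result {I : Type u} [SmallCategory I] [IsCofiltered I]
    (D : I ⥤ Scheme.{u}) (c : Limits.Cone D) (hc : Limits.IsLimit c)
    [∀ (i j : I) (f : i ⟶ j), IsAffineHom (D.map f)] (i₀ : I)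
    {X₀ Y₀ : Scheme.{u}} (f₀ : X₀ ⟶ Y₀) (g₀ : Y₀ ⟶ D.obj i₀)
    [LocallyOfFinitePresentation g₀] [LocallyOfFinitePresentation (f₀ ≫ g₀)]
    {X Y : Scheme.{u}} (f : X ⟶ Y) (g : Y ⟶ c.pt) (qY : Y ⟶ Y₀) (qX : X ⟶ X₀)
    (hY : IsPullback qY g g₀ (c.π.app i₀)) (hX : IsPullback qX f f₀ qY) (x : ↥X) :
    (∃ U : X.Opens, x ∈ U ∧ Etale (U.ι ≫ f)) ↔
      ∃ (j : I) (φ : j ⟶ i₀) (Xj Yj : Scheme.{u}) (fj : Xj ⟶ Yj) (gj : Yj ⟶ D.obj j) (pY : Yj ⟶ Y₀)
        (pX : Xj ⟶ X₀) (rX : X ⟶ Xj), IsPullback pY gj g₀ (D.map φ) ∧ IsPullback pX fj f₀ pY ∧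
          rX ≫ pX = qX ∧ rX ≫ fj ≫ gj = f ≫ g ≫ c.π.app j ∧ ∃ V : Xj.Opens, rX.base x ∈ V ∧ Etale (V.ι ≫ fj) := by
  haveI hfp : LocallyOfFinitePresentation f₀ :=
    Groth.Agent.ASp.locallyOfFinitePresentation_of_comp _ g₀ ‹_› inferInstance
  constructor
  · intro h
    obtain ⟨k, -, hk⟩ := Groth.Agent.FlatStage.exists_etaleAt D c i₀ f₀ g₀ hY hX hc x (Over.mk (𝟙 i₀)) h
    refine ⟨k.left, k.hom, _, _, (Groth.Agent.AffLim.baseChangeMap D i₀ f₀ g₀).app k,
      Limits.pullback.snd g₀ (D.map k.hom), Limits.pullback.fst g₀ (D.map k.hom),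
      Limits.pullback.fst _ _, Groth.Agent.FlatStage.vMap D c i₀ (f₀ ≫ g₀) (hX.paste_vert hY) k,
      IsPullback.of_hasPullback _ _, Groth.Agent.AffLim.isPullback_baseChangeMap D i₀ f₀ g₀ k,
      Groth.Agent.FlatStage.vMap_fst _ _ _ _ _ _, ?_, hk⟩
    exact (Category.assoc _ _ _).symm.trans ((congrArg (fun t => t ≫ Limits.pullback.snd g₀ (D.map k.hom))
      (Groth.Agent.FlatStage.xMap_comp D c i₀ g₀ hY f₀ hX k)).trans ((Category.assoc _ _ _).trans
        (congrArg (fun t => f ≫ t) (Groth.Agent.FlatStage.vMap_snd D c i₀ g₀ hY k))))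
  · rintro ⟨j, φ, Xj, Yj, fj, gj, pY, pX, rX, h1, h2, e1, e2, h⟩
    exact Groth.Agent.FlatStage.nhd_of_stage D c i₀ f₀ g₀ hY hX h1 h2 e1 e2 x h

end Groth.Agent.S5944
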