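import Groth.Statements.S5950
import Groth.Agent.NormUPLib.Char
open TopologicalSpace
-- import your own Groth.Agent.* helpers here

set_option autoImplicit false
universe u
open CategoryTheory AlgebraicGeometry
open Unram17

namespace Groth.Agent.S5950

/-- Let X be an integral scheme which has a nonempty (hence dense) open subset at whose points the local
rings are integrally closed, let X' ⟶ X be its normalization, and let f : Y ⟶ X be a morphism of
schemes. Then there is an isomorphism Y ≅ X' over X if and only if: every local ring of Y is an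
integrally closed domain, f is an integral morphism, and there is a dense open subset U of X whose
preimage is dense in Y and such that the restriction f⁻¹(U) ⟶ U of f is an isomorphism. (The
published statement allows X reduced with locally finitely many irreducible components and a dense
normal open subset; this row states the case of an integral X. The quasi-compactness and
quasi-separatedness binders on the generic point always hold and only serve to form the
normalization.) -/
theorem result (X : Scheme.{u}) [IsIntegral X]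
    [QuasiCompact (X.fromSpecStalk (genericPoint X))] [QuasiSeparated (X.fromSpecStalk (genericPoint X))]
    (hV : ∃ V : X.Opens, (V : Set ↥X).Nonempty ∧ ∀ x ∈ V, IsIntegrallyClosed (X.presheaf.stalk x))
    {Y : Scheme.{u}} (f : Y ⟶ X) :
    (∃ e : Y ≅ Curv2.normalization X, e.hom ≫ Curv2.normalizationι X = f) ↔
      Pi1.IsNormalScheme Y ∧ IsIntegralHom f ∧
        ∃ U : X.Opens, Dense (U : Set ↥X) ∧ Dense ((f ⁻¹ᵁ U : Y.Opens) : Set ↥Y) ∧ IsIso (f ∣_ U) := by
  constructor
  · rintro ⟨e, he⟩
    obtain ⟨hY, hf, hirr, hpre, -⟩ := NormUPLib.facts_of_iso f e he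
    haveI := hirr
    obtain ⟨V, ⟨x, hx⟩, hV⟩ := hV
    obtain ⟨_, ⟨U, hU, rfl⟩, hxU, hUV⟩ := X.isBasis_affineOpens.exists_subset_of_mem_open hx V.2
    haveI : Nonempty U := ⟨⟨x, hxU⟩⟩
    refine ⟨hY, hf, U, U.2.dense ⟨x, hxU⟩, (f ⁻¹ᵁ U).2.dense ⟨genericPoint ↥Y, ?_⟩, ?_⟩
    · show f (genericPoint ↥Y) ∈ U
      have h : genericPoint ↥Y ∈ f.base ⁻¹' {genericPoint ↥X} := hpre ▸ rfl
      rw [show f (genericPoint ↥Y) = genericPoint ↥X from h]
      exact (genericPoint_spec ↥X).mem_open_set_iff U.2 |>.2 ⟨x, trivial, hxU⟩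
    · haveI := NormUPLib.isIso_restrict_of_normal hU fun y hy => hV y (hUV hy)
      subst he
      have h1 : IsIso (e.hom ∣_ Curv2.normalizationι X ⁻¹ᵁ U) := by
        have h := IsZariskiLocalAtTarget.restrict (P := MorphismProperty.isomorphisms Scheme.{u})
          (MorphismProperty.isomorphisms.infer_property e.hom) (Curv2.normalizationι X ⁻¹ᵁ U)
        exact h
      rw [morphismRestrict_comp]
      exact IsIso.comp_isIso' h1 inferInstance
  · rintro ⟨hY, hf, U, hUd, hVd, hiso⟩
    haveI := hf
    haveI := hiso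
    haveI : Nonempty U := by
      obtain ⟨x, hx⟩ := hUd.nonempty
      exact ⟨⟨x, hx⟩⟩
    haveI : IrreducibleSpace ↥(U : Scheme.{u}) := inferInstance
    have hirrV : IsIrreducible ((f ⁻¹ᵁ U : Y.Opens) : Set ↥Y) := by
      have h := (IrreducibleSpace.isIrreducible_univ ↥(U : Scheme.{u})).image
        (inv (f ∣_ U) ≫ (f ⁻¹ᵁ U).ι).base ((inv (f ∣_ U) ≫ (f ⁻¹ᵁ U).ι).continuous.continuousOn)
      rwa [Set.image_univ, show Set.range (inv (f ∣_ U) ≫ (f ⁻¹ᵁ U).ι).base = ((f ⁻¹ᵁ U : Y.Opens) : Set ↥Y) from ?_] at h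
      refine Set.Subset.antisymm ?_ fun y hy => ⟨(f ∣_ U) ⟨y, hy⟩, ?_⟩
      · rintro _ ⟨z, rfl⟩
        exact ((inv (f ∣_ U)) z).2
      · show ((f ∣_ U) ≫ inv (f ∣_ U) ≫ (f ⁻¹ᵁ U).ι) ⟨y, hy⟩ = y
        rw [IsIso.hom_inv_id_assoc]
        rfl
    haveI : IrreducibleSpace ↥Y := by
      have h := hirrV.closure
      rw [hVd.closure_eq] at h
      exact irreducibleSpace_def _ |>.2 h
    haveI : ∀ y : Y, _root_.IsReduced (Y.presheaf.stalk y) := fun y => haveI := (hY y).1; inferInstance
    haveI : AlgebraicGeometry.IsReduced Y := isReduced_of_isReduced_stalk Y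
    haveI : IsIntegral Y := isIntegral_of_irreducibleSpace_of_isReduced Y
    obtain ⟨h1, h2⟩ := NormalSch.birational_of_section f U (inv (f ∣_ U) ≫ (f ⁻¹ᵁ U).ι)
      (by rw [Category.assoc, ← morphismRestrict_ι, IsIso.inv_hom_id_assoc])
    exact NormUPLib.exists_iso f hY h1 h2

end Groth.Agent.S5950
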