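import Groth.Statements.S5979
import Groth.Prelude.Def_OmegaPn
import Mathlib

set_option autoImplicit false
universe u
open CategoryTheory CategoryTheory.Limits AlgebraicGeometry TopologicalSpace Opposite
open Nrm16

namespace Groth.Agent.S5979

open CategoryTheory AlgebraicGeometry
set_option backward.isDefEq.respectTransparency false
set_option maxHeartbeats 800000

lemma isIso_pr2_zero {X S : Scheme.{u}} (f : X ⟶ S) : IsIso (PrinPart.pr2 f 0) := by
  have hle : (PrinPart.diagCl f).ker ^ (0 + 1) = (PrinPart.diagCl f).ker := pow_one _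
  haveI : IsIso (Scheme.IdealSheafData.inclusion (PrinPart.ker_pow_succ_le (PrinPart.diagCl f) 0)) := by
    generalize PrinPart.ker_pow_succ_le (PrinPart.diagCl f) 0 = h
    revert h
    rw [hle]
    intro h
    rw [Scheme.IdealSheafData.inclusion_id]
    infer_instance
  haveI : IsIso (PrinPart.toNbhd f 0) := by
    unfold PrinPart.toNbhd PrinPart.toInfNbhd
    infer_instance
  exact IsIso.of_isIso_fac_left (PrinPart.toNbhd_pr2 f 0)

lemma bijective_pullSect {Y X : Scheme.{u}} (g : Y ⟶ X) [IsIso g] (F : X.Modules) (U : X.Opens) :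
    Function.Bijective (OmegaSh.pullSect g F U) := by
  haveI : (Scheme.Modules.pushforward g).IsEquivalence :=
    (CategoryTheory.Equivalence.mk (Scheme.Modules.pushforward g) (Scheme.Modules.pushforward (inv g))
      ((Scheme.Modules.pushforwardId Y).symm ≪≫
        (Scheme.Modules.pushforwardCongr (IsIso.hom_inv_id g)).symm ≪≫
        (Scheme.Modules.pushforwardComp g (inv g)).symm)
      ((Scheme.Modules.pushforwardComp (inv g) g) ≪≫
        Scheme.Modules.pushforwardCongr (IsIso.inv_hom_id g) ≪≫
        Scheme.Modules.pushforwardId X)).isEquivalence_functor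
  haveI : (Scheme.Modules.pullback g).IsEquivalence :=
    (Scheme.Modules.pullbackPushforwardAdjunction g).isEquivalence_left_of_isEquivalence_right
  haveI : IsIso (((Scheme.Modules.pullbackPushforwardAdjunction g).unit.app F).app U) := inferInstance
  exact ConcreteCategory.bijective_of_isIso
    (((Scheme.Modules.pullbackPushforwardAdjunction g).unit.app F).app U)

/-- Let f : X ⟶ S be a morphism of schemes and F an O_X-module. For every open U of X the canonical
operator d^0 : Γ(U, F) ⟶ Γ(U, P^0_{X/S}(F)) is bijective; so P^0_{X/S}(F) is identified with F, and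
P^0_{X/S} with O_X, through d^0. -/
theorem result {X S : Scheme.{u}} (f : X ⟶ S) (F : X.Modules) (U : X.Opens) :
    Function.Bijective (PrinPart.dP f 0 F U) := by
  haveI := isIso_pr2_zero f
  show Function.Bijective ((((Scheme.Modules.pullback (PrinPart.pr2 f 0)).obj F).presheaf.map
      (homOfLE (PrinPart.preimage_pr1 f 0 U).le).op) ∘ (OmegaSh.pullSect (PrinPart.pr2 f 0) F U))
  refine Function.Bijective.comp ?_ (bijective_pullSect (PrinPart.pr2 f 0) F U)
  haveI : IsIso (((Scheme.Modules.pullback (PrinPart.pr2 f 0)).obj F).presheaf.map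
      (homOfLE (PrinPart.preimage_pr1 f 0 U).le).op) := by
    haveI : IsIso (homOfLE (PrinPart.preimage_pr1 f 0 U).le) :=
      ⟨homOfLE (PrinPart.preimage_pr1 f 0 U).ge, Subsingleton.elim _ _, Subsingleton.elim _ _⟩
    infer_instance
  exact ConcreteCategory.bijective_of_isIso _

end Groth.Agent.S5979
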