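import Groth.Statements.S5965
import Mathlib
-- import your own Groth.Agent.* helpers here

set_option autoImplicit false
universe u
open CategoryTheory CategoryTheory.Limits AlgebraicGeometry TopologicalSpace Opposite
open Nrm16

namespace Groth.Agent.S5965

/-- Let g : X ⟶ Y be a morphism locally of finite type with a section f : Y ⟶ X which is a closed
immersion. Then for every n the n-th infinitesimal neighbourhood of Y in X, mapped to Y through its
inclusion into X followed by g, is finite over Y. (The published statement allows any section f and
says that the structure sheaf of the neighbourhood is a quasi-coherent O_Y-algebra which is an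
O_Y-module of finite type; this row assumes f a closed immersion and states the conclusion as
finiteness of the morphism to Y.) -/
theorem result {X Y : Scheme.{u}} (g : X ⟶ Y) [LocallyOfFiniteType g] (f : Y ⟶ X)
    [IsClosedImmersion f] (hf : f ≫ g = 𝟙 Y) (n : ℕ) :
    IsFinite (PrinPart.infNbhdι f n ≫ g) := by
  set h := PrinPart.toInfNbhd f n
  set q := PrinPart.infNbhdι f n ≫ g
  have hcomp : h ≫ q = 𝟙 Y := by
    simp only [h, q, ← Category.assoc, PrinPart.toInfNbhd_ι, hf]
  haveI : IsClosedImmersion (PrinPart.infNbhdι f n) := by unfold PrinPart.infNbhdι; infer_instance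
  have hhs : Function.Surjective h := PrinPart.toInfNbhd_surjective f n
  haveI : Surjective h := ⟨hhs⟩
  haveI hq : UniversallyClosed q := by
    haveI : UniversallyClosed (h ≫ q) := hcomp ▸ inferInstance
    exact UniversallyClosed.of_comp_surjective h q
  have hh : Topology.IsInducing h := by
    refine (Topology.IsInducing.of_comp h.continuous q.continuous ?_)
    rw [show (⇑q ∘ ⇑h) = (id : Y → Y) from funext fun y => by
      show q (h y) = y
      rw [← Scheme.Hom.comp_apply, hcomp]; rfl]
    exact Topology.IsInducing.id
  have hqi : Topology.IsInducing q := by
    have hinv : ∀ z, h (q z) = z := fun z => by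
      obtain ⟨y, rfl⟩ := hhs z
      rw [← Scheme.Hom.comp_apply h q, hcomp]; rfl
    exact (Topology.IsInducing.of_comp q.continuous h.continuous (by
      rw [show (⇑h ∘ ⇑q) = id from funext hinv]; exact Topology.IsInducing.id))
  haveI : IsAffineHom q := isAffineHom_of_isInducing q hqi q.isClosedMap.isClosed_range
  rw [IsFinite.iff_isIntegralHom_and_locallyOfFiniteType, IsIntegralHom.iff_universallyClosed_and_isAffineHom]
  exact ⟨⟨hq, inferInstance⟩, inferInstance⟩

end Groth.Agent.S5965
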