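import Groth.Statements.S5966
import Groth.Agent.SiteBase.FreeMod
import Groth.Agent.S5917
import Mathlib
-- import your own Groth.Agent.* helpers here

set_option autoImplicit false
universe u
open CategoryTheory CategoryTheory.Limits AlgebraicGeometry TopologicalSpace Opposite
open Nrm16

namespace Groth.Agent.S5966

/-- Let f : X ⟶ S be a morphism of schemes and n a natural number. The functor F ↦ P^n_{X/S}(F),
pullback along the second projection of the n-th infinitesimal neighbourhood of the diagonal
followed by pushforward along the first, from O_X-modules to O_X-modules, commutes with all small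
colimits (in particular it is right exact). -/
theorem result {X S : Scheme.{u}} (f : X ⟶ S) (n : ℕ) :
    PreservesColimitsOfSize.{u, u}
      ((Scheme.Modules.pullback (PrinPart.pr2 f n)) ⋙ (Scheme.Modules.pushforward (PrinPart.pr1 f n))) := by
  haveI : PreservesColimitsOfSize.{u, u} (Scheme.Modules.pullback (PrinPart.pr2 f n)) :=
    (Scheme.Modules.pullbackPushforwardAdjunction (PrinPart.pr2 f n)).leftAdjoint_preservesColimits
  set q := PrinPart.pr1 f n
  set h := PrinPart.toNbhd f n
  have hhs : Function.Surjective h := PrinPart.toInfNbhd_surjective _ n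
  have h1 : ∀ x, q (h x) = x := fun x => by
    rw [← Scheme.Hom.comp_apply, PrinPart.toNbhd_pr1]; rfl
  have h2 : ∀ z, h (q z) = z := fun z => by
    obtain ⟨x, rfl⟩ := hhs z
    rw [h1]
  have hb : Function.Bijective (fun U : TopologicalSpace.Opens X => (TopologicalSpace.Opens.map q.base).obj U) := by
    refine ⟨fun U V e => ?_, fun W => ⟨(TopologicalSpace.Opens.map h.base).obj W, ?_⟩⟩
    · ext x
      have := congrArg (fun W : TopologicalSpace.Opens _ => h x ∈ W) e
      have h' : (q (h x) ∈ U) = (q (h x) ∈ V) := this
      rw [h1] at h'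
      exact Iff.of_eq h'
    · apply TopologicalSpace.Opens.ext
      show (fun z => h (q z)) ⁻¹' (W : Set _) = W
      rw [show (fun z => h (q z)) = id from funext h2]
      rfl
  haveI := Groth.Agent.S5917.pushforward_isEquivalence q.base hb AddCommGrpCat.{u}
  haveI : PreservesColimitsOfSize.{u, u} (Scheme.Modules.pushforward q) := by
    refine ⟨fun {J} _ => ?_⟩
    haveI : (SheafOfModules.toSheaf.{u} X.ringCatSheaf).ReflectsIsomorphisms := inferInstance
    haveI : PreservesColimitsOfShape J (SheafOfModules.toSheaf.{u} (PrinPart.nbhd f n).ringCatSheaf) :=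
      Groth.Agent.SiteBase.preservesColimitsOfShape_toSheaf _ J
    have hP : PreservesColimitsOfShape J (TopCat.Sheaf.pushforward AddCommGrpCat.{u} q.base) := inferInstance
    have hC : PreservesColimitsOfShape J
        (Scheme.Modules.pushforward q ⋙ SheafOfModules.toSheaf.{u} X.ringCatSheaf) :=
      @comp_preservesColimitsOfShape _ _ _ _ J _ _ _ (SheafOfModules.toSheaf.{u} (PrinPart.nbhd f n).ringCatSheaf)
        (TopCat.Sheaf.pushforward AddCommGrpCat.{u} q.base) inferInstance hP
    haveI : HasColimitsOfShape J (SheafOfModules.{u} X.ringCatSheaf) :=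
      inferInstanceAs (HasColimitsOfShape J X.Modules)
    haveI : PreservesColimitsOfShape J (SheafOfModules.toSheaf.{u} X.ringCatSheaf) :=
      Groth.Agent.SiteBase.preservesColimitsOfShape_toSheaf _ J
    have hR : ReflectsColimitsOfShape J (SheafOfModules.toSheaf.{u} X.ringCatSheaf) :=
      reflectsColimitsOfShape_of_reflectsIsomorphisms
    exact @preservesColimitsOfShape_of_reflects_of_preserves _ _ _ _ J _ _ _ (Scheme.Modules.pushforward q)
      (SheafOfModules.toSheaf.{u} X.ringCatSheaf) hC hR
  infer_instance

end Groth.Agent.S5966
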