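import Groth.Statements.S5982
import Groth.Agent.RegLimLib.Basic

set_option autoImplicit false
universe u
open CategoryTheory AlgebraicGeometry
open CInt

namespace Groth.Agent.S5982

open CategoryTheory CategoryTheory.Limits AlgebraicGeometry

set_option backward.isDefEq.respectTransparency false
set_option backward.defeqAttrib.useBackward true
set_option linter.style.haveILetI false


/-- Let S = lim S_i be a cofiltered limit of schemes with affine, flat transition maps, such that either
every S_i is locally Noetherian or every transition map is surjective; let S_{i₀} be a quasi-compact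
stage and f_1, …, f_n global sections of the structure sheaf of S_{i₀}. Then the images of the f_k
form a regular sequence for the structure sheaf of S (that is, a weakly regular sequence in Γ(U,
O_S) for every affine open U of S; no condition on the last quotient) if and only if, for some index
j over i₀, their images form a regular sequence for the structure sheaf of S_j in the same sense.
This is the case of the structure sheaf. -/
theorem result {I : Type u} [SmallCategory I] [IsCofiltered I]
    (D : I ⥤ Scheme.{u}) (c : Limits.Cone D) (hc : Limits.IsLimit c)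
    [∀ (i j : I) (f : i ⟶ j), IsAffineHom (D.map f)]
    (hflat : ∀ (i j : I) (f : i ⟶ j), Flat (D.map f))
    (hcase : (∀ i : I, IsLocallyNoetherian (D.obj i)) ∨
      ∀ (i j : I) (f : i ⟶ j), Surjective (D.map f))
    (i₀ : I) [CompactSpace (D.obj i₀)] (fs : List Γ(D.obj i₀, ⊤)) :
    (∀ U : c.pt.affineOpens, RingTheory.Sequence.IsWeaklyRegular Γ(c.pt, U.1)
        (fs.map (fun f => (c.pt.presheaf.map (homOfLE (le_top : U.1 ≤ ⊤)).op).hom ((c.π.app i₀).appTop.hom f)))) ↔
      ∃ (j : I) (φ : j ⟶ i₀), ∀ U : (D.obj j).affineOpens,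
        RingTheory.Sequence.IsWeaklyRegular Γ(D.obj j, U.1)
          (fs.map (fun f => ((D.obj j).presheaf.map (homOfLE (le_top : U.1 ≤ ⊤)).op).hom ((D.map φ).appTop.hom f))) := by
  haveI : ∀ {i j : I} (f : i ⟶ j), IsAffineHom (D.map f) := fun {i j} f => ‹∀ (i j : I) (f : i ⟶ j), IsAffineHom (D.map f)› i j f
  haveI hπ : Flat (c.π.app i₀) := Groth.Agent.AffLim.flat_π D c hc fun j φ => hflat j i₀ φ
  have key : ∀ (T : Scheme.{u}) (g : T ⟶ D.obj i₀) [Flat g],
      (∀ U : T.affineOpens, RingTheory.Sequence.IsWeaklyRegular Γ(T, U.1)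
        (fs.map (fun f => (T.presheaf.map (homOfLE (le_top : U.1 ≤ ⊤)).op).hom (g.appTop.hom f)))) ↔
      ∀ y : T, Groth.Agent.RegLimLib.Reg fs (g y) := fun T g _ => by
    have e : ∀ U : T.Opens, fs.map (fun f => (T.presheaf.map (homOfLE (le_top : U ≤ ⊤)).op).hom (g.appTop.hom f)) =
        Groth.Agent.RegLimLib.res (fs.map g.appTop.hom) U := fun U => by
      rw [Groth.Agent.RegLimLib.res, List.map_map]; rfl
    simp only [e]
    rw [Groth.Agent.RegLimLib.affine_iff]
    exact forall_congr' fun y => Groth.Agent.RegLimLib.reg_iff_of_flat g fs y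
  refine Iff.trans (key c.pt (c.π.app i₀)) ?_
  constructor
  · intro h
    rcases hcase with hN | hS
    · haveI := hN i₀
      obtain ⟨j, φ, hφ⟩ := Groth.Agent.RegLimLib.exists_avoid D c hc i₀ _
        (Groth.Agent.RegLimLib.isOpen_reg fs).isClosed_compl fun s hs => hs (h s)
      haveI := hflat j i₀ φ
      exact ⟨j, φ, (key _ _).2 fun y => not_not.1 (hφ y)⟩
    · haveI := hflat i₀ i₀ (𝟙 i₀)
      refine ⟨i₀, 𝟙 i₀, (key _ _).2 fun y => ?_⟩
      rw [D.map_id]
      -- specialise to a closed point
      let x : D.obj i₀ := y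
      obtain ⟨z, hzx, hz⟩ := IsClosed.exists_closed_singleton (isClosed_closure (s := {x})) ⟨x, subset_closure rfl⟩
      have hsp : x ⤳ z := specializes_iff_mem_closure.2 hzx
      obtain ⟨s, hs⟩ : ∃ s : c.pt, c.π.app i₀ s = z := by
        by_contra hne
        push Not at hne
        obtain ⟨j, φ, hφ⟩ := Groth.Agent.RegLimLib.exists_avoid D c hc i₀ {z} hz fun s hs => hne s hs
        haveI := hS j i₀ φ
        obtain ⟨w, hw⟩ := (D.map φ).surjective z
        exact hφ w hw
      obtain ⟨_, ⟨W, hW, rfl⟩, hzW, -⟩ := (D.obj i₀).isBasis_affineOpens.exists_subset_of_mem_open (Set.mem_univ z) isOpen_univ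
      have hxW : x ∈ W := hsp.mem_open W.2 hzW
      have hz' : Groth.Agent.RegLimLib.Reg fs z := hs ▸ h s
      exact Groth.Agent.RegLimLib.reg_of_specializes hsp hz'
  · rintro ⟨j, φ, hj⟩ s
    haveI := hflat j i₀ φ
    rw [← c.w φ]
    exact (key _ _).1 hj (c.π.app j s)

end Groth.Agent.S5982
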