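import Groth.Statements.S5983
import Groth.Agent.RegImmLimLib.Stage
-- import your own Groth.Agent.* helpers here

set_option autoImplicit false
universe u
open CategoryTheory AlgebraicGeometry
open CInt

namespace Groth.Agent.S5983

open CategoryTheory.Limits Groth.Agent.RegImmLimLib

set_option backward.isDefEq.respectTransparency false
set_option backward.defeqAttrib.useBackward true
set_option linter.style.haveILetI false

/-- Let S = lim S_i be a cofiltered limit of schemes with affine, flat transition maps, S_{i₀} a stage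
and j₀ : X₀ ⟶ S_{i₀} an immersion with X₀ quasi-compact; assume either that every S_i is locally
Noetherian, or that every transition map is surjective and j₀ is locally of finite presentation.
Then the base change X₀ ×_{S_{i₀}} S ⟶ S of j₀ is a regular immersion if and only if, for some index
j over i₀, the base change X₀ ×_{S_{i₀}} S_j ⟶ S_j is a regular immersion. -/
theorem result {I : Type u} [SmallCategory I] [IsCofiltered I]
    (D : I ⥤ Scheme.{u}) (c : Limits.Cone D) (hc : Limits.IsLimit c)
    [∀ (i j : I) (f : i ⟶ j), IsAffineHom (D.map f)]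
    (hflat : ∀ (i j : I) (f : i ⟶ j), Flat (D.map f))
    (i₀ : I) {X₀ : Scheme.{u}} (j₀ : X₀ ⟶ D.obj i₀) [CompactSpace X₀] [IsImmersion j₀]
    (hcase : (∀ i : I, IsLocallyNoetherian (D.obj i)) ∨
      ((∀ (i j : I) (f : i ⟶ j), Surjective (D.map f)) ∧ LocallyOfFinitePresentation j₀)) :
    RegImm.IsRegularImmersion RegImm.Kind.regular (Limits.pullback.snd j₀ (c.π.app i₀)) ↔
      ∃ (j : I) (φ : j ⟶ i₀),
        RegImm.IsRegularImmersion RegImm.Kind.regular (Limits.pullback.snd j₀ (D.map φ)) := by
  haveI : ∀ {i j : I} (f : i ⟶ j), IsAffineHom (D.map f) := fun {i j} f =>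
    ‹∀ (i j : I) (f : i ⟶ j), IsAffineHom (D.map f)› i j f
  let X := pullback j₀ (c.π.app i₀)
  let q : ∀ b : Over i₀, X ⟶ pullback j₀ (D.map b.hom) := fun b =>
    pullback.lift (pullback.fst j₀ (c.π.app i₀)) (pullback.snd j₀ (c.π.app i₀) ≫ c.π.app b.left)
      (by rw [Category.assoc, c.w, pullback.condition])
  have hsq : ∀ {a b : Over i₀} (f : a ⟶ b), IsPullback ((AffLim.baseChange D i₀ j₀).map f)
      (pullback.snd j₀ (D.map a.hom)) (pullback.snd j₀ (D.map b.hom)) (D.map f.left) := fun {a b} f =>
    IsPullback.of_right (by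
      simp only [AffLim.baseChange_map, pullback.lift_fst, pullback.map, Category.comp_id]
      rw [← D.map_comp, Over.w f]
      exact IsPullback.of_hasPullback j₀ (D.map a.hom))
      (by simp) (IsPullback.of_hasPullback j₀ (D.map b.hom))
  constructor
  · rintro ⟨-, hreg⟩
    choose m b hb using fun y : X => exists_stage D c hc hflat i₀ j₀ hcase y (hreg y)
    haveI : IsAffineHom (c.π.app i₀) := isAffineHom_π_app D c hc i₀
    haveI : IsAffineHom (pullback.fst j₀ (c.π.app i₀)) :=
      MorphismProperty.pullback_fst (P := @IsAffineHom) j₀ (c.π.app i₀) inferInstance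
    haveI : CompactSpace X := QuasiCompact.compactSpace_of_compactSpace (pullback.fst j₀ (c.π.app i₀))
    obtain ⟨t, ht⟩ := (isCompact_univ (X := X)).elim_finite_subcover
      (fun y => q (Over.mk (b y)) ⁻¹' {x | RegImm.IsRegularImmersionAt RegImm.Kind.regular
        (pullback.snd j₀ (D.map (b y))) x})
      (fun y => (isOpen_at _ _).preimage (q (Over.mk (b y))).continuous)
      (fun y _ => Set.mem_iUnion.2 ⟨y, hb y⟩)
    classical
    obtain ⟨n, hn⟩ := IsCofiltered.inf_objs_exists (t.image fun y => Over.mk (b y))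
    have hq : ∀ x : X, RegImm.IsRegularImmersionAt RegImm.Kind.regular (pullback.snd j₀ (D.map n.hom)) (q n x) := by
      intro x
      obtain ⟨y, hyt, hyx⟩ := Set.mem_iUnion₂.1 (ht (Set.mem_univ x))
      obtain ⟨f⟩ := hn (Finset.mem_image_of_mem _ hyt)
      haveI := hflat _ _ f.left
      refine at_flat (hsq f) (q n x) ?_
      have e : q n ≫ (AffLim.baseChange D i₀ j₀).map f = q (Over.mk (b y)) := by
        apply pullback.hom_ext <;> simp [q]
      have e2 := congr($e x)
      erw [Scheme.Hom.comp_apply] at e2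
      exact e2 ▸ hyx
    obtain ⟨hbc⟩ := AffLim.nonempty_isLimit_baseChangeCone D c hc i₀ j₀
    obtain ⟨l, φ, hφ⟩ := RegLimLib.exists_avoid (AffLim.baseChange D i₀ j₀) (AffLim.baseChangeCone D c i₀ j₀) hbc n
      {x | ¬ RegImm.IsRegularImmersionAt RegImm.Kind.regular (pullback.snd j₀ (D.map n.hom)) x}
      (isOpen_at _ _).isClosed_compl (fun s hs => hs (by
        have e : (AffLim.baseChangeCone D c i₀ j₀).π.app n = q n := by
          apply pullback.hom_ext <;> simp [q]
        rw [e]
        exact hq s))
    haveI := hflat _ _ φ.left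
    exact ⟨l.left, l.hom, inferInstance, fun y => at_flat (hsq φ) y (not_not.1 (hφ y))⟩
  · rintro ⟨j, φ, -, hreg⟩
    haveI : Flat (c.π.app j) := AffLim.flat_π D c hc fun k ψ => hflat k j ψ
    refine ⟨inferInstance, fun y => at_flat (q := q (Over.mk φ)) (p := c.π.app j) ?_ y (hreg _)⟩
    exact IsPullback.of_right (by
      show IsPullback (q (Over.mk φ) ≫ pullback.fst j₀ (D.map φ)) _ _ (c.π.app j ≫ D.map φ)
      exact (c.w φ).symm ▸ (pullback.lift_fst (f := j₀) (g := D.map φ) (pullback.fst j₀ (c.π.app i₀)) _ _).symm ▸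
        IsPullback.of_hasPullback j₀ (c.π.app i₀))
      (pullback.lift_snd _ _ _) (IsPullback.of_hasPullback j₀ (D.map φ))

end Groth.Agent.S5983
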