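import Groth.Statements.S5985
import Groth.Agent.EtaleSplit.Nbhd
import Groth.Agent.EtaleSplit.HenselSplit
import Groth.Agent.EtaleSplit.Weighting2

set_option autoImplicit false
universe u
open CategoryTheory AlgebraicGeometry
open Unram

namespace Groth.Agent.S5985

set_option backward.isDefEq.respectTransparency false
set_option backward.isDefEq.respectTransparency.types false
set_option maxHeartbeats 800000

open AlgebraicGeometry CategoryTheory in
theorem split_finite_fibre {X Y : Scheme.{u}} (f : X ⟶ Y)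
    [LocallyOfFiniteType f] [IsSeparated f] (y : Y) (hfin : (f ⁻¹' {y}).Finite) :
    ∃ (Y' : Scheme.{u}) (g : Y' ⟶ Y) (y' : Y'), Etale g ∧ g y' = y ∧
      IsIso (g.residueFieldMap y') ∧
      ∃ (V W : (Limits.pullback f g).Opens), IsCompl V W ∧
        IsFinite (V.ι ≫ Limits.pullback.snd f g) ∧
        ∀ x : ↥(Limits.pullback f g), Limits.pullback.snd f g x = y' → x ∈ V := by
  classical
  obtain ⟨n, enum, -, henum⟩ := hfin.fin_param
  have hs : ∀ i, f (enum i) = y := fun i => henum.le ⟨i, rfl⟩
  haveI : LocallyOfFiniteType (f.fiberToSpecResidueField y) := MorphismProperty.pullback_snd _ _ inferInstance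
  haveI : JacobsonSpace (f.fiber y) := LocallyOfFiniteType.jacobsonSpace (f.fiberToSpecResidueField y)
  haveI : Finite (f.fiber y) := by
    haveI := hfin.to_subtype
    exact (f.fiberHomeo y).toEquiv.finite_iff.mpr inferInstance
  have hq : ∀ i, f.QuasiFiniteAt (enum i) := fun i => by
    rw [Scheme.Hom.quasiFiniteAt_iff_isOpen_singleton_asFiber]
    haveI : DiscreteTopology (f.fiber y) := inferInstance
    have key : ∀ z, z = y → DiscreteTopology (f.fiber z) := fun z hz => by subst hz; infer_instance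
    haveI := key _ (hs i)
    exact isOpen_discrete _
  obtain ⟨U, g, t, hg, V, v, hV⟩ := Groth.Agent.EtaleSplit.exists_nbhd_finite_parts f y enum hs hq
  haveI := hg.etale
  haveI : ∀ i, IsFinite ((V i).ι ≫ Limits.pullback.snd f g) := fun i => (hV i).2.1
  let O : (Limits.pullback f g).Opens := ⨆ i, V i
  have hO : IsClosed (O : Set ↥(Limits.pullback f g)) := by
    rw [TopologicalSpace.Opens.coe_iSup]
    exact isClosed_iUnion_of_finite fun i => Groth.Agent.EtaleSplit.isClosed_of_isFinite (Limits.pullback.snd f g) (V i)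
  refine ⟨U, g, t, hg.etale, hg.base_eq, (ConcreteCategory.isIso_iff_bijective _).mpr hg.residue_bijective,
    O, ⟨(O : Set ↥(Limits.pullback f g))ᶜ, hO.isOpen_compl⟩, ?_, ?_, fun x hx => ?_⟩
  · rw [isCompl_iff, disjoint_iff, codisjoint_iff]
    constructor <;> ext z <;> simp [or_not]
  · let V' : Fin n → O.toScheme.Opens := fun i => O.ι ⁻¹ᵁ V i
    haveI : ∀ i, IsFinite ((V' i).ι ≫ O.ι ≫ Limits.pullback.snd f g) := fun i => by
      rw [← Category.assoc, ← morphismRestrict_ι, Category.assoc]
      haveI : IsIso (O.ι ∣_ V i) := by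
        refine (isIso_iff_isOpenImmersion_and_surjective _).mpr ⟨inferInstance, ⟨fun ⟨z, hz⟩ => ⟨⟨⟨z, TopologicalSpace.Opens.mem_iSup.mpr ⟨i, hz⟩⟩, hz⟩, ?_⟩⟩⟩
        apply (V i).ι.isOpenEmbedding.injective
        rw [← Scheme.Hom.comp_apply, morphismRestrict_ι]
        rfl
      infer_instance
    haveI : LocallyQuasiFinite (O.ι ≫ Limits.pullback.snd f g) :=
      LocallyQuasiFinite.of_finite_preimage_singleton _ fun z => by
        have hc : (O.ι ≫ Limits.pullback.snd f g) ⁻¹' {z} ⊆
            ⋃ i, (V' i).ι '' (((V' i).ι ≫ O.ι ≫ Limits.pullback.snd f g) ⁻¹' {z}) := fun w hw => by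
          obtain ⟨i, hi⟩ := TopologicalSpace.Opens.mem_iSup.mp w.2
          exact Set.mem_iUnion.mpr ⟨i, ⟨w, hi⟩, hw, rfl⟩
        exact (Set.finite_iUnion fun i => ((((V' i).ι ≫ O.ι ≫ Limits.pullback.snd f g).finite_preimage_singleton z).image _)).subset hc
    exact Groth.Agent.EtaleSplit.isFinite_of_finite_cover _ V' fun w => by
      obtain ⟨i, hi⟩ := TopologicalSpace.Opens.mem_iSup.mp w.2
      exact ⟨i, hi⟩
  · have hfx : f (Limits.pullback.fst f g x) = y := by
      rw [← Scheme.Hom.comp_apply, Limits.pullback.condition, Scheme.Hom.comp_apply, hx, hg.base_eq]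
    obtain ⟨i, hi⟩ := henum.ge hfx
    have e : x = v i := Groth.Agent.EtaleSplit.eq_of_fst_snd f g t hg.residue_bijective x (v i)
      (hi.symm.trans (hV i).2.2.2.2.1.symm) hx (hV i).2.2.1
    exact TopologicalSpace.Opens.mem_iSup.mpr ⟨i, e ▸ (hV i).1⟩

/-- Let f : X ⟶ Y be separated and locally of finite type, and y a point of Y whose fibre f⁻¹(y) is
finite (hence discrete). Then there are an étale morphism g : Y' ⟶ Y, a point y' of Y' with g(y') =
y inducing an isomorphism of residue fields κ(y) ≅ κ(y'), and two complementary open subschemes V, W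
of X' = X ×_Y Y' such that V ⟶ Y' is finite and W contains no point of X' lying over y'. -/
theorem result {X Y : Scheme.{u}} (f : X ⟶ Y)
    [LocallyOfFiniteType f] [IsSeparated f] (y : Y) (hfin : (f ⁻¹' {y}).Finite) :
    ∃ (Y' : Scheme.{u}) (g : Y' ⟶ Y) (y' : Y'), Etale g ∧ g y' = y ∧
      IsIso (g.residueFieldMap y') ∧
      ∃ (V W : (Limits.pullback f g).Opens), IsCompl V W ∧
        IsFinite (V.ι ≫ Limits.pullback.snd f g) ∧
        ∀ x : ↥(Limits.pullback f g), Limits.pullback.snd f g x = y' → x ∈ V := by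
  exact split_finite_fibre f y hfin

end Groth.Agent.S5985
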