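import Groth.Statements.S5987
import Groth.Agent.DSeqLib.Main
import Groth.Agent.HorizElt.QuasiFin
import Groth.Agent.CMCat.Local
-- import your own Groth.Agent.* helpers here

set_option autoImplicit false
universe u
open EGA418

namespace Groth.Agent.S5987

/-- Let A be a Noetherian local ring and p a prime ideal of A such that the local ring A_p is
Cohen–Macaulay, of dimension s; let t_1, …, t_s be a system of parameters of A_p (elements of its
maximal ideal such that A_p/(t_1, …, t_s) has dimension 0). Then there are elements x_1, …, x_s of p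
which form part of a system of parameters of A, in the sense that dim A/(x_1, …, x_s) + s = dim A,
and elements a_1, …, a_s of A outside p, such that for every i the image of x_i in A_p is congruent
to a_i t_i modulo the ideal (t_1, …, t_{i-1}) A_p. (The published statement asks for the image of
x_i to be congruent to t_i itself; this row allows the factor a_i outside p, which is what the
published proof gives, since it first multiplies each t_i by a unit of A_p to bring it into the
image of A. The published form fails already for s = 1: for A the localization of k[X, Y] at (X, Y),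
p = (X) and t_1 = X/Y, the congruence modulo the zero ideal asks for an element of A with image X/Y
in A_p, and there is none.) -/
theorem result (A : Type u) [CommRing A]
    [IsNoetherianRing A] [IsLocalRing A] (p : Ideal A) [p.IsPrime]
    [LocCoh.IsCohenMacaulayLocalRing (Localization.AtPrime p)] (s : ℕ)
    (hs : ringKrullDim (Localization.AtPrime p) = s) (t : Fin s → Localization.AtPrime p)
    (ht : ∀ i, t i ∈ IsLocalRing.maximalIdeal (Localization.AtPrime p))
    (hsop : ringKrullDim (Localization.AtPrime p ⧸ Ideal.span (Set.range t)) = 0) :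
    ∃ x a : Fin s → A, (∀ i, x i ∈ p) ∧ (∀ i, a i ∉ p) ∧
      ringKrullDim (A ⧸ Ideal.span (Set.range x)) + (s : WithBot ℕ∞) = ringKrullDim A ∧
      ∀ i : Fin s, algebraMap A (Localization.AtPrime p) (x i) -
          algebraMap A (Localization.AtPrime p) (a i) * t i ∈
        Ideal.span (t '' {j : Fin s | j < i}) := by
  classical
  let R := Localization.AtPrime p
  let T : ℕ → Ideal R := fun n => Ideal.span (t '' {j : Fin s | j.val < n})
  have hTm : ∀ n, T n ≤ IsLocalRing.maximalIdeal R := fun n =>
    Ideal.span_le.2 (by rintro _ ⟨j, -, rfl⟩; exact ht j)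
  -- minimal primes of a proper initial segment avoid the next element
  have hmin : ∀ (i : Fin s) (Q : Ideal R), Q ∈ (T i).minimalPrimes → t i ∉ Q := by
    intro i Q hQ htQ
    haveI := hQ.1.1
    have h1 : Q.height ≤ (i.val : ℕ∞) := by
      have hspan : T i = Ideal.span (((Finset.univ.filter fun j : Fin s => j < i).image t : Finset R) : Set R) := by
        rw [Finset.coe_image, Finset.coe_filter]
        simp only [T, Finset.mem_univ, true_and]
        rfl
      rw [hspan] at hQ
      refine (Ideal.height_le_card_of_mem_minimalPrimes_span_finset hQ).trans ?_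
      refine Nat.cast_le.2 (Finset.card_image_le.trans (le_of_eq ?_))
      rw [show (Finset.univ.filter fun j : Fin s => j < i) = Finset.Iio i by ext; simp, Fin.card_Iio]
    obtain ⟨-, h2⟩ := CMCat.height_add_and_cm Q
    haveI : Nontrivial (R ⧸ Q) := Ideal.Quotient.nontrivial_iff.2 (Ideal.IsPrime.ne_top inferInstance)
    haveI : IsLocalRing (R ⧸ Q) := IsLocalRing.of_surjective' (Ideal.Quotient.mk Q) Ideal.Quotient.mk_surjective
    let S : Finset (R ⧸ Q) := (Finset.univ.filter fun j : Fin s => i < j).image fun j => Ideal.Quotient.mk Q (t j)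
    have hS : (S : Set (R ⧸ Q)) ⊆ Ring.jacobson (R ⧸ Q) := by
      intro z hz
      obtain ⟨j, -, rfl⟩ := Finset.mem_image.1 hz
      rw [IsLocalRing.ringJacobson_eq_maximalIdeal]
      rw [← IsLocalRing.map_maximalIdeal_of_surjective (Ideal.Quotient.mk Q) Ideal.Quotient.mk_surjective]
      exact Ideal.mem_map_of_mem _ (ht j)
    have h3 := ringKrullDim_le_ringKrullDim_quotient_add_card S hS
    have h4 : ringKrullDim ((R ⧸ Q) ⧸ Ideal.span (S : Set (R ⧸ Q))) ≤ 0 := by
      let π := (Ideal.Quotient.mk (Ideal.span (S : Set (R ⧸ Q)))).comp (Ideal.Quotient.mk Q)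
      have hπ : Function.Surjective π := Ideal.Quotient.mk_surjective.comp Ideal.Quotient.mk_surjective
      have hle : Ideal.span (Set.range t) ≤ RingHom.ker π := by
        rw [Ideal.span_le]
        rintro _ ⟨j, rfl⟩
        rw [SetLike.mem_coe, RingHom.mem_ker, RingHom.comp_apply]
        rcases lt_trichotomy j i with hji | rfl | hji
        · rw [Ideal.Quotient.eq_zero_iff_mem.2 (hQ.1.2 (Ideal.subset_span ⟨j, hji, rfl⟩)), map_zero]
        · rw [Ideal.Quotient.eq_zero_iff_mem.2 htQ, map_zero]
        · exact Ideal.Quotient.eq_zero_iff_mem.2 (Ideal.subset_span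
            (Finset.mem_image.2 ⟨j, Finset.mem_filter.2 ⟨Finset.mem_univ _, hji⟩, rfl⟩))
      refine le_trans ?_ hsop.le
      exact ringKrullDim_le_of_surjective (Ideal.Quotient.lift _ π hle)
        (Ideal.Quotient.lift_surjective_of_surjective _ _ hπ)
    have h5 : S.card ≤ s - 1 - i.val := by
      refine Finset.card_image_le.trans (le_of_eq ?_)
      rw [show (Finset.univ.filter fun j : Fin s => i < j) = Finset.Ioi i by ext; simp, Fin.card_Ioi]
    have h6 : ringKrullDim (R ⧸ Q) ≤ ((s - 1 - i.val : ℕ) : WithBot ℕ∞) := by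
      refine h3.trans ((add_le_add h4 le_rfl).trans ?_)
      rw [zero_add]
      exact Nat.mono_cast h5
    rw [hs] at h2
    obtain ⟨hQ', hQh⟩ : ∃ k : ℕ, Q.height = k := ⟨_, (ENat.coe_toNat (Ideal.height_ne_top (Ideal.IsPrime.ne_top inferInstance))).symm⟩
    rw [hQh] at h1 h2
    have h7 : (s : WithBot ℕ∞) ≤ ((hQ' + (s - 1 - i.val) : ℕ) : WithBot ℕ∞) := by
      rw [← h2, Nat.cast_add]
      exact add_le_add le_rfl h6
    have h7' : s ≤ hQ' + (s - 1 - i.val) := by exact_mod_cast h7
    have h1' : hQ' ≤ i.val := by exact_mod_cast h1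
    have := i.isLt
    omega
  suffices key : ∀ n, n ≤ s → ∃ x a : Fin s → A, (∀ j : Fin s, j.val < n → x j ∈ p) ∧
      (∀ j : Fin s, j.val < n → a j ∉ p) ∧
      (∀ j : Fin s, j.val < n → algebraMap A R (x j) - algebraMap A R (a j) * t j ∈ T j) ∧
      ringKrullDim (A ⧸ Ideal.span (x '' {j : Fin s | j.val < n})) + (n : WithBot ℕ∞) = ringKrullDim A by
    obtain ⟨x, a, h1, h2, h3, h4⟩ := key s le_rfl
    refine ⟨x, a, fun i => h1 i i.isLt, fun i => h2 i i.isLt, ?_, fun i => h3 i i.isLt⟩
    rwa [show {j : Fin s | j.val < s} = Set.univ from Set.eq_univ_of_forall fun j => j.isLt, Set.image_univ] at h4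
  intro n
  induction n with
  | zero =>
    intro _
    refine ⟨0, 1, fun j h => absurd h (by omega), fun j h => absurd h (by omega), fun j h => absurd h (by omega), ?_⟩
    rw [Nat.cast_zero, add_zero, show {j : Fin s | j.val < 0} = ∅ by simp, Set.image_empty, Ideal.span_empty]
    exact ringKrullDim_eq_of_ringEquiv (RingEquiv.quotientBot A)
  | succ n ih =>
    intro hn
    obtain ⟨x, a, hx, ha, hc, hdim⟩ := ih (by omega)
    let i : Fin s := ⟨n, hn⟩
    let X := Ideal.span (x '' {j : Fin s | j.val < n})
    -- the initial segments generate the same ideal in the local ring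
    have hXT : ∀ m, m ≤ n → (Ideal.span (x '' {j : Fin s | j.val < m})).map (algebraMap A R) = T m := by
      intro m
      induction m with
      | zero => intro _; simp [T]
      | succ m ihm =>
        intro hm
        let k : Fin s := ⟨m, by omega⟩
        have hset : {j : Fin s | j.val < m + 1} = insert k {j : Fin s | j.val < m} := by
          ext j
          simp only [Set.mem_setOf_eq, Set.mem_insert_iff, Fin.ext_iff, k]
          omega
        have hu : IsUnit (algebraMap A R (a k)) :=
          IsLocalization.map_units R (⟨a k, ha k (show m < n by omega)⟩ : p.primeCompl)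
        have hck := hc k (show m < n by omega)
        rw [← ihm (by omega)] at hck
        show _ = Ideal.span (t '' {j : Fin s | j.val < m + 1})
        rw [hset, Set.image_insert_eq, Set.image_insert_eq, Ideal.span_insert, Ideal.span_insert, Ideal.map_sup,
          Ideal.map_span, Set.image_singleton]
        change _ = _ ⊔ T m
        rw [← ihm (by omega)]
        refine le_antisymm (sup_le ?_ le_sup_right) (sup_le ?_ le_sup_right)
        · rw [Ideal.span_singleton_le_iff_mem]
          have := Ideal.add_mem _ (Ideal.mem_sup_right hck : _ ∈ Ideal.span {t k} ⊔ _)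
            (Ideal.mem_sup_left (Ideal.mul_mem_left _ (algebraMap A R (a k)) (Ideal.mem_span_singleton_self (t k))))
          rwa [sub_add_cancel] at this
        · rw [Ideal.span_singleton_le_iff_mem]
          have := Ideal.sub_mem _ (Ideal.mem_sup_left (Ideal.mem_span_singleton_self (algebraMap A R (x k))) :
              _ ∈ Ideal.span {algebraMap A R (x k)} ⊔ _) (Ideal.mem_sup_right hck)
          rw [sub_sub_cancel] at this
          exact (Ideal.unit_mul_mem_iff_mem _ hu).1 this
    obtain ⟨b, u, hbu⟩ := IsLocalization.exists_mk'_eq p.primeCompl (t i)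
    have hb : algebraMap A R b = algebraMap A R u * t i := by
      rw [← hbu, mul_comm, IsLocalization.mk'_spec]
    let D := (T n).comap (algebraMap A R)
    have hDp : D ≤ p := (Ideal.comap_mono (hTm n)).trans (IsLocalization.AtPrime.comap_maximalIdeal R p).le
    have hbp : b ∈ p := by
      rw [← IsLocalization.AtPrime.comap_maximalIdeal R p, Ideal.mem_comap, hb]
      exact Ideal.mul_mem_left _ _ (ht i)
    let S := (X.finite_minimalPrimes_of_isNoetherianRing A).toFinset
    have hS : ∀ Q ∈ S, ¬ D ⊔ Ideal.span {b} ≤ Q := by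
      intro Q hQ hle
      rw [Set.Finite.mem_toFinset] at hQ
      obtain ⟨hDQ, hbQ⟩ := sup_le_iff.1 hle
      rw [Ideal.span_singleton_le_iff_mem] at hbQ
      haveI := hQ.1.1
      obtain ⟨q, hq, hqQ⟩ := Ideal.exists_minimalPrimes_le hDQ
      have hXq : X ≤ q := (Ideal.map_le_iff_le_comap.1 (hXT n le_rfl).le).trans hq.1.2
      have hqQ' : q = Q := le_antisymm hqQ (hQ.2 ⟨hq.1.1, hXq⟩ hqQ)
      obtain ⟨Q', hQ', hQq⟩ := Ideal.exists_minimalPrimes_comap_eq (algebraMap A R) q hq
      haveI := hQ'.1.1
      refine hmin i Q' hQ' ?_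
      have : algebraMap A R b ∈ Q' := by
        rw [← Ideal.mem_comap, hQq, hqQ']; exact hbQ
      rw [hb] at this
      exact (Ideal.unit_mul_mem_iff_mem _ (IsLocalization.map_units R u)).1 this
    -- an element of the coset outside all minimal primes
    obtain ⟨z, hz, hzQ⟩ : ∃ z ∈ D, ∀ Q ∈ S, b + z ∉ Q := by
      let S' := S.filter fun Q => ¬ D ≤ Q
      obtain ⟨z, hz, hzQ⟩ := DSeqLib.exists_add_notMem b D S'
        (fun Q hQ => ((Set.Finite.mem_toFinset _).1 (Finset.mem_filter.1 hQ).1).1.1)
        (fun Q hQ => (Finset.mem_filter.1 hQ).2)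
      refine ⟨z, hz, fun Q hQ hmem => ?_⟩
      by_cases hDQ : D ≤ Q
      · refine hS Q hQ (sup_le hDQ ((Ideal.span_singleton_le_iff_mem _).2 ?_))
        have := Q.sub_mem hmem (hDQ hz)
        rwa [add_sub_cancel_right] at this
      · exact hzQ Q (Finset.mem_filter.2 ⟨hQ, hDQ⟩) hmem
    let y := b + z
    refine ⟨Function.update x i y, Function.update a i u, ?_, ?_, ?_, ?_⟩
    · intro j hj
      rcases eq_or_ne j i with rfl | hne
      · rw [Function.update_self]; exact add_mem hbp (hDp hz)
      · rw [Function.update_of_ne hne]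
        exact hx j (by have : j.val ≠ n := fun h => hne (Fin.ext h); omega)
    · intro j hj
      rcases eq_or_ne j i with rfl | hne
      · rw [Function.update_self]; exact u.2
      · rw [Function.update_of_ne hne]
        exact ha j (by have : j.val ≠ n := fun h => hne (Fin.ext h); omega)
    · intro j hj
      rcases eq_or_ne j i with rfl | hne
      · rw [Function.update_self, Function.update_self, map_add, hb, add_sub_cancel_left]
        exact hz
      · rw [Function.update_of_ne hne, Function.update_of_ne hne]
        exact hc j (by have : j.val ≠ n := fun h => hne (Fin.ext h); omega)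
    have hset : {j : Fin s | j.val < n + 1} = insert i {j : Fin s | j.val < n} := by
      ext j
      simp only [Set.mem_setOf_eq, Set.mem_insert_iff, Fin.ext_iff, i]
      omega
    have hspan : Ideal.span (Function.update x i y '' {j : Fin s | j.val < n + 1}) = X ⊔ Ideal.span {y} := by
      have himg : Function.update x i y '' {j : Fin s | j.val < n} = x '' {j : Fin s | j.val < n} :=
        Set.image_congr fun j hj => Function.update_of_ne (fun h => by rw [h] at hj; exact lt_irrefl n hj) _ _
      rw [hset, Set.image_insert_eq, Function.update_self, himg, Ideal.span_insert, sup_comm]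
    rw [hspan]
    have hXm : X ≤ IsLocalRing.maximalIdeal A := Ideal.span_le.2 (by
      rintro _ ⟨j, hj, rfl⟩; exact IsLocalRing.le_maximalIdeal (Ideal.IsPrime.ne_top inferInstance) (hx j hj))
    haveI : Nontrivial (A ⧸ X) := Ideal.Quotient.nontrivial_iff.2 fun h =>
      (IsLocalRing.maximalIdeal.isMaximal A).ne_top (top_le_iff.1 (h ▸ hXm))
    haveI : IsLocalRing (A ⧸ X) := IsLocalRing.of_surjective' (Ideal.Quotient.mk X) Ideal.Quotient.mk_surjective
    have hym : y ∈ p := add_mem hbp (hDp hz)
    have e : ((A ⧸ X) ⧸ Ideal.span {Ideal.Quotient.mk X y}) ≃+* A ⧸ (X ⊔ Ideal.span {y}) :=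
      (Ideal.quotEquivOfEq (by rw [Ideal.map_span, Set.image_singleton])).trans (DoubleQuot.quotQuotEquivQuotSup X (Ideal.span {y}))
    have hle : ringKrullDim (A ⧸ X ⊔ Ideal.span {y}) + 1 ≤ ringKrullDim (A ⧸ X) := by
      rw [← ringKrullDim_eq_of_ringEquiv e]
      refine HorizElt.ringKrullDim_quotient_succ_le_of_minimalPrimes fun Q hQ hyQ => ?_
      refine hzQ (Q.comap (Ideal.Quotient.mk X)) ?_ hyQ
      rw [Set.Finite.mem_toFinset, Ideal.minimalPrimes_eq_comap]
      exact ⟨Q, hQ, rfl⟩
    have hge : ringKrullDim (A ⧸ X) ≤ ringKrullDim (A ⧸ X ⊔ Ideal.span {y}) + 1 := by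
      rw [← ringKrullDim_eq_of_ringEquiv e]
      refine le_of_le_of_eq (ringKrullDim_le_ringKrullDim_quotient_add_encard {Ideal.Quotient.mk X y} ?_) (by simp)
      rw [Set.singleton_subset_iff, SetLike.mem_coe, IsLocalRing.ringJacobson_eq_maximalIdeal,
        ← IsLocalRing.map_maximalIdeal_of_surjective (Ideal.Quotient.mk X) Ideal.Quotient.mk_surjective]
      exact Ideal.mem_map_of_mem _ (IsLocalRing.le_maximalIdeal (Ideal.IsPrime.ne_top inferInstance) hym)
    rw [← hdim, Nat.cast_add, Nat.cast_one, ← le_antisymm hle hge, add_assoc, add_comm (n : WithBot ℕ∞) 1]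

end Groth.Agent.S5987
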