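import Groth.Statements.S5990
import Groth.Agent.TransRegLib.Sch

set_option autoImplicit false
universe u
open CategoryTheory AlgebraicGeometry
open CInt

namespace Groth.Agent.S5990

open CategoryTheory CategoryTheory.Limits AlgebraicGeometry

set_option backward.isDefEq.respectTransparency false

/-- Let S = lim S_i be a cofiltered limit of schemes with affine transition maps, S_{i₀} a stage, g₀ :
X₀ ⟶ S_{i₀} locally of finite presentation with X₀ quasi-compact, and f_1, …, f_n global sections of
the structure sheaf of X₀. Say that a sequence of global sections of O_X is transversally regular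
relative to a base T (for g : X ⟶ T) when, for every affine open U of X and affine open V of T with
g(U) ⊆ V, its restriction to U is a weakly regular sequence in Γ(U, O_X) all of whose partial
quotients Γ(U, O_X)/(f_1, …, f_j) are flat over Γ(V, O_T). Then the images of the f_k on X₀
×_{S_{i₀}} S are transversally regular relative to S if and only if, for some index j over i₀, their
images on X₀ ×_{S_{i₀}} S_j are transversally regular relative to S_j. This is the case of the
structure sheaf. -/
theorem result {I : Type u} [SmallCategory I]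
    [IsCofiltered I] (D : I ⥤ Scheme.{u}) (c : Limits.Cone D) (hc : Limits.IsLimit c)
    [∀ (i j : I) (f : i ⟶ j), IsAffineHom (D.map f)]
    (i₀ : I) {X₀ : Scheme.{u}} (g₀ : X₀ ⟶ D.obj i₀) [CompactSpace X₀]
    [LocallyOfFinitePresentation g₀] (fs : List Γ(X₀, ⊤)) :
    (∀ (U : (Limits.pullback g₀ (c.π.app i₀)).affineOpens) (V : c.pt.affineOpens)
        (e : U.1 ≤ Limits.pullback.snd g₀ (c.π.app i₀) ⁻¹ᵁ V.1),
        @RegImm.IsTransRegularSeq Γ(c.pt, V.1) Γ(Limits.pullback g₀ (c.π.app i₀), U.1) _ _
          ((Limits.pullback.snd g₀ (c.π.app i₀)).appLE V.1 U.1 e).hom.toAlgebra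
          (fs.map (fun f => ((Limits.pullback g₀ (c.π.app i₀)).presheaf.map
            (homOfLE (le_top : U.1 ≤ ⊤)).op).hom
              ((Limits.pullback.fst g₀ (c.π.app i₀)).appTop.hom f)))) ↔
      ∃ (j : I) (φ : j ⟶ i₀),
        ∀ (U : (Limits.pullback g₀ (D.map φ)).affineOpens) (V : (D.obj j).affineOpens)
          (e : U.1 ≤ Limits.pullback.snd g₀ (D.map φ) ⁻¹ᵁ V.1),
          @RegImm.IsTransRegularSeq Γ(D.obj j, V.1) Γ(Limits.pullback g₀ (D.map φ), U.1) _ _
            ((Limits.pullback.snd g₀ (D.map φ)).appLE V.1 U.1 e).hom.toAlgebra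
            (fs.map (fun f => ((Limits.pullback g₀ (D.map φ)).presheaf.map
              (homOfLE (le_top : U.1 ≤ ⊤)).op).hom
                ((Limits.pullback.fst g₀ (D.map φ)).appTop.hom f))) := by
  haveI : ∀ {i j : I} (f : i ⟶ j), IsAffineHom (D.map f) := fun {i j} f => ‹∀ (i j : I) (f : i ⟶ j), IsAffineHom (D.map f)› i j f
  have key : ∀ {T : Scheme.{u}} (q : T ⟶ D.obj i₀),
      (∀ (U : (Limits.pullback g₀ q).affineOpens) (V : T.affineOpens)
          (e : U.1 ≤ Limits.pullback.snd g₀ q ⁻¹ᵁ V.1),
        @RegImm.IsTransRegularSeq Γ(T, V.1) Γ(Limits.pullback g₀ q, U.1) _ _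
          ((Limits.pullback.snd g₀ q).appLE V.1 U.1 e).hom.toAlgebra
          (fs.map (fun f => ((Limits.pullback g₀ q).presheaf.map
            (homOfLE (le_top : U.1 ≤ ⊤)).op).hom ((Limits.pullback.fst g₀ q).appTop.hom f)))) ↔
      ∀ x, Groth.Agent.TransRegLib.AtPt (Limits.pullback.snd g₀ q)
        (fs.map (Limits.pullback.fst g₀ q).appTop.hom) x := by
    intro T q
    rw [← Groth.Agent.TransRegLib.all_affine_iff]
    refine forall₃_congr fun U V e => ?_
    rw [Groth.Agent.RegLimLib.res, List.map_map]
    rfl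
  refine ((key (T := c.pt) (c.π.app i₀)).trans (Groth.Agent.TransRegLib.forall_atPt_iff D c hc i₀ g₀ fs)).trans ?_
  constructor
  · rintro ⟨k, hk⟩
    exact ⟨k.left, k.hom, (key _).2 hk⟩
  · rintro ⟨j, φ, hj⟩
    exact ⟨CategoryTheory.Over.mk φ, (key _).1 hj⟩

end Groth.Agent.S5990
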