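import Groth.Statements.S5991
import Groth.Agent.EGA418Lib.Exact
-- import your own Groth.Agent.* helpers here

set_option autoImplicit false
universe u
open scoped TensorProduct
open EGA418

namespace Groth.Agent.S5991

/-- Let k be a field, R and S complete Noetherian local k-algebras such that the module of differentials
of the residue field of S over k is finite-dimensional, and let S be a finite R-algebra through a
k-algebra homomorphism R → S. Write m for the maximal ideal of S and complete m-adically. Then the
S-module Ω_{S/R} is m-adically complete (it is its own completion), and the sequence of completed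
modules (S ⊗_R Ω_{R/k})^ ⟶ (Ω_{S/k})^ ⟶ (Ω_{S/R})^ ⟶ 0, induced by the canonical maps S ⊗_R Ω_{R/k}
⟶ Ω_{S/k} ⟶ Ω_{S/R}, is exact: the second map is surjective and its kernel is the image of the
first. -/
theorem result (k R S : Type u) [Field k] [CommRing R] [IsNoetherianRing R]
    [IsLocalRing R] [Algebra k R] [IsAdicComplete (IsLocalRing.maximalIdeal R) R]
    [CommRing S] [IsNoetherianRing S] [IsLocalRing S] [Algebra k S]
    [IsAdicComplete (IsLocalRing.maximalIdeal S) S] [Algebra R S] [IsScalarTower k R S]
    [Module.Finite R S] [Module.Finite (IsLocalRing.ResidueField S) (Ω[IsLocalRing.ResidueField S⁄k])] :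
    IsAdicComplete (IsLocalRing.maximalIdeal S) (Ω[S⁄R]) ∧
      Function.Surjective (AdicCompletion.map (IsLocalRing.maximalIdeal S) (KaehlerDifferential.map k R S S)) ∧
      LinearMap.range (AdicCompletion.map (IsLocalRing.maximalIdeal S) (KaehlerDifferential.mapBaseChange k R S)) =
        LinearMap.ker (AdicCompletion.map (IsLocalRing.maximalIdeal S) (KaehlerDifferential.map k R S S)) := by
  let mR := IsLocalRing.maximalIdeal R
  let mS := IsLocalRing.maximalIdeal S
  have hle : mR.map (algebraMap R S) ≤ mS := by
    rw [Ideal.map_le_iff_le_comap]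
    haveI : Algebra.IsIntegral R S := Algebra.IsIntegral.of_finite R S
    haveI : (mS.comap (algebraMap R S)).IsMaximal := Ideal.isMaximal_comap_of_isIntegral_of_isMaximal mS
    exact (IsLocalRing.eq_maximalIdeal (R := R) inferInstance).ge
  haveI : IsLocalHom (algebraMap R S) := ((IsLocalRing.local_hom_TFAE _).out 0 2).mpr hle
  haveI : IsScalarTower k (IsLocalRing.ResidueField R) (IsLocalRing.ResidueField S) :=
    IsScalarTower.of_algebraMap_eq fun c => by
      rw [IsScalarTower.algebraMap_apply k R (IsLocalRing.ResidueField R),
        ← IsScalarTower.algebraMap_apply R (IsLocalRing.ResidueField R) (IsLocalRing.ResidueField S),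
        IsScalarTower.algebraMap_apply R S (IsLocalRing.ResidueField S), ← IsScalarTower.algebraMap_apply k R S,
        ← IsScalarTower.algebraMap_apply k S (IsLocalRing.ResidueField S)]
  haveI : Module.Finite (IsLocalRing.ResidueField R) (IsLocalRing.ResidueField S) := inferInstance
  haveI : Module.Finite (R ⧸ mR) (Ω[R ⧸ mR⁄k]) :=
    EGA418Lib.finite_kaehler_of_finite_extension k (IsLocalRing.ResidueField R) (IsLocalRing.ResidueField S)
  haveI : Module.Finite (S ⧸ mS) (Ω[S ⧸ mS⁄k]) :=
    ‹Module.Finite (IsLocalRing.ResidueField S) (Ω[IsLocalRing.ResidueField S⁄k])›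
  haveI : Module.Finite R mR := Module.Finite.iff_fg.2 mR.fg_of_isNoetherianRing
  haveI : Module.Finite S mS := Module.Finite.iff_fg.2 mS.fg_of_isNoetherianRing
  haveI : Module.Finite R mR.Cotangent := Module.Finite.of_surjective _ mR.toCotangent_surjective
  haveI : Module.Finite S mS.Cotangent := Module.Finite.of_surjective _ mS.toCotangent_surjective
  haveI : Module.Finite (R ⧸ mR) mR.Cotangent := Module.Finite.of_restrictScalars_finite R _ _
  haveI : Module.Finite (S ⧸ mS) mS.Cotangent := Module.Finite.of_restrictScalars_finite S _ _
  haveI := ComplKaehlerLib.finite_quotient_kaehler (A := k) (B := S) mS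
  haveI := ComplKaehlerLib.finite_quotient_kaehler (A := k) (B := R) mR
  haveI := EGA418Lib.finite_baseChange_mod (S := S) mR mS hle (Ω[R⁄k])
  haveI : Algebra.FiniteType R S := Module.Finite.finiteType S
  refine ⟨FiniteCompleteLib.isAdicComplete_of_finite mS _,
    AdicCompletion.map_surjective mS (KaehlerDifferential.map_surjective k R S),
    EGA418Lib.exact_adicCompletion_of_finite_mod mS _ _ (KaehlerDifferential.exact_mapBaseChange_map k R S)
      (KaehlerDifferential.map_surjective k R S)⟩

end Groth.Agent.S5991
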