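import Groth.Statements.S5992
import Groth.Agent.EGA418Lib.RedExt
-- import your own Groth.Agent.* helpers here

set_option autoImplicit false
universe u
open scoped TensorProduct
open EGA418

namespace Groth.Agent.S5992

/-- Let k be a field of characteristic exponent p such that k is finite over its subfield k^p (the
Frobenius endomorphism of k is a finite ring map), and A a complete Noetherian local k-algebra which
is an integral domain, not a field, whose residue field is a finite extension of k; let n = dim A.
Then there is a finite purely inseparable extension k' of k such that, A' denoting the reduction of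
k' ⊗_k A modulo its nilradical, A' is a local domain and there is a local k'-algebra homomorphism
from the power series ring k'[[T_1, …, T_n]] to A' which is injective, makes A' a finite algebra,
and is unramified at the zero ideal of A' (so the fraction field of A' is a finite separable
extension of that of k'[[T_1, …, T_n]]). -/
theorem result (p : ℕ) (k A : Type u) [Field k]
    [ExpChar k p] (hk : (frobenius k p).Finite) [CommRing A] [IsDomain A] [IsNoetherianRing A] [IsLocalRing A]
    [Algebra k A] [IsAdicComplete (IsLocalRing.maximalIdeal A) A]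
    [Module.Finite k (IsLocalRing.ResidueField A)] (hA : ¬ IsField A) (n : ℕ) (hn : ringKrullDim A = n) :
    ∃ (k' : Type u) (_ : Field k') (_ : Algebra k k'), Module.Finite k k' ∧ IsPurelyInseparable k k' ∧
      ∃ (_ : IsDomain ((k' ⊗[k] A) ⧸ nilradical (k' ⊗[k] A)))
        (_ : IsLocalRing ((k' ⊗[k] A) ⧸ nilradical (k' ⊗[k] A)))
        (_ : Algebra (MvPowerSeries (Fin n) k') ((k' ⊗[k] A) ⧸ nilradical (k' ⊗[k] A)))
        (_ : IsScalarTower k' (MvPowerSeries (Fin n) k') ((k' ⊗[k] A) ⧸ nilradical (k' ⊗[k] A))),
        IsLocalHom (algebraMap (MvPowerSeries (Fin n) k') ((k' ⊗[k] A) ⧸ nilradical (k' ⊗[k] A))) ∧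
        Function.Injective (algebraMap (MvPowerSeries (Fin n) k') ((k' ⊗[k] A) ⧸ nilradical (k' ⊗[k] A))) ∧
        Module.Finite (MvPowerSeries (Fin n) k') ((k' ⊗[k] A) ⧸ nilradical (k' ⊗[k] A)) ∧
        Algebra.IsUnramifiedAt (MvPowerSeries (Fin n) k') (⊥ : Ideal ((k' ⊗[k] A) ⧸ nilradical (k' ⊗[k] A))) := by
  rcases ‹ExpChar k p› with _ | hp
  · -- characteristic zero
    haveI : CharZero k := inferInstance
    refine ⟨k, inferInstance, inferInstance, Module.Finite.self k, inferInstance, ?_⟩
    have hnil : nilradical (k ⊗[k] A) = ⊥ := by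
      refine (eq_bot_iff).2 fun x hx => ?_
      have h := (mem_nilradical.1 hx).map (Algebra.TensorProduct.lid k A).toRingEquiv.toRingHom
      exact Submodule.mem_bot _ |>.2 ((Algebra.TensorProduct.lid k A).injective (h.eq_zero.trans (map_zero _).symm))
    let e : ((k ⊗[k] A) ⧸ nilradical (k ⊗[k] A)) ≃+* A :=
      ((Ideal.quotEquivOfEq hnil).trans (RingEquiv.quotientBot _)).trans (Algebra.TensorProduct.lid k A).toRingEquiv
    haveI : IsDomain ((k ⊗[k] A) ⧸ nilradical (k ⊗[k] A)) := MulEquiv.isDomain A e.toMulEquiv
    haveI : IsLocalRing ((k ⊗[k] A) ⧸ nilradical (k ⊗[k] A)) := e.symm.isLocalRing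
    have hinj : Function.Injective
        (fun a : A => Ideal.Quotient.mk (nilradical (k ⊗[k] A)) ((1 : k) ⊗ₜ[k] a)) := fun a b h => by
      have h' := congrArg e h
      simpa [e] using h'
    obtain ⟨_, _, _, h4, h5⟩ := EGA418Lib.red_props k A k hinj hA hn
    obtain ⟨i1, i2, h⟩ := EGA418Lib.exists_unramified_generic k ((k ⊗[k] A) ⧸ nilradical (k ⊗[k] A)) h4 h5
      (EGA418Lib.finrank_fib_bot_le_charZero k ((k ⊗[k] A) ⧸ nilradical (k ⊗[k] A)) h5)
    exact ⟨inferInstance, inferInstance, i1, i2, h⟩
  · haveI : Fact p.Prime := ⟨hp⟩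
    obtain ⟨k', _, _, hfin, hpi, hM⟩ := EGA418Lib.exists_purelyInseparable k A (FractionRing A) p hn
    haveI := hfin
    haveI := hpi
    haveI : CharP k' p := charP_of_injective_algebraMap (algebraMap k k').injective p
    haveI : ExpChar k' p := ExpChar.prime hp
    haveI := EGA418Lib.isPrime_nilradical p (k := k) (P := k') A
    haveI := EGA418Lib.isLocalRing_red p (k := k) (P := k') A
    obtain ⟨_, _, _, h4, h5⟩ := EGA418Lib.red_props k A k' (EGA418Lib.injective_toRed p A) hA hn
    have hk' : (frobenius k' p).Finite := by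
      refine RingHom.Finite.of_comp_finite (f := algebraMap k k') ?_
      have : (frobenius k' p).comp (algebraMap k k') = (algebraMap k k').comp (frobenius k p) := by
        ext c; simp [frobenius_def]
      rw [this]
      exact RingHom.Finite.comp (RingHom.finite_algebraMap.2 hfin) hk
    obtain ⟨i1, i2, h⟩ := EGA418Lib.exists_unramified_generic k' ((k' ⊗[k] A) ⧸ nilradical (k' ⊗[k] A)) h4 h5
      (EGA418Lib.finrank_fib_bot_le_charP k' ((k' ⊗[k] A) ⧸ nilradical (k' ⊗[k] A)) p hp hk'
        (EGA418Lib.isGeometricallyReduced_red k A k' (FractionRing A) p hM) h5)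
    exact ⟨k', inferInstance, inferInstance, hfin, hpi, inferInstance, inferInstance, i1, i2, h⟩

end Groth.Agent.S5992
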