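import Groth.Statements.S5995
import Groth.Agent.UnramSecLib.Basic
-- import your own Groth.Agent.* helpers here

set_option autoImplicit false
universe u
open CategoryTheory AlgebraicGeometry
open Unram

namespace Groth.Agent.S5995

/-- Let Y be a reduced scheme whose irreducible components form a locally finite family and all of whose
local rings are geometrically unibranch, f : X ⟶ Y a separated, locally of finite type, formally
unramified morphism, and u : U ⟶ X a section of f over a dense open U of Y which cannot be extended: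
whenever v is a section of f over an open V agreeing with u on U ∩ V, V is contained in U (so U is
the domain of definition of the rational section defined by u). Then the image u(U) is an open and
closed subset of X. -/
theorem result {X Y : Scheme.{u}} [IsReduced Y]
    (hcomp : LocallyFinite (fun Z : ↥(irreducibleComponents ↥Y) => (Z : Set ↥Y)))
    (f : X ⟶ Y) [IsSeparated f] [LocallyOfFiniteType f] [FormallyUnramified f]
    (U : Y.Opens) (hU : Dense (U : Set ↥Y)) (u : (U : Scheme.{u}) ⟶ X) (hu : u ≫ f = U.ι)
    (hY : ∀ y : Y, CAlg2.IsGeomUnibranch (Y.presheaf.stalk y))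
    (hmax : ∀ (V : Y.Opens) (v : (V : Scheme.{u}) ⟶ X), v ≫ f = V.ι →
      Y.homOfLE (inf_le_left : U ⊓ V ≤ U) ≫ u = Y.homOfLE (inf_le_right : U ⊓ V ≤ V) ≫ v → V ≤ U) :
    IsOpen (Set.range u) ∧ IsClosed (Set.range u) := by
  haveI := Groth.Agent.UnramSecLib.isOpenImmersion_of_section f u hu
  refine ⟨u.isOpenEmbedding.isOpen_range, isClosed_of_closure_subset fun x hx => ?_⟩
  obtain ⟨V, v, hxV, hv, hagree⟩ := Groth.Agent.UnramSecLib.exists_extension hcomp f U hU u hu x (hY _) hx
  have hxU : f x ∈ U := hmax V v hv hagree hxV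
  let P : X.Opens := f ⁻¹ᵁ U
  have hle : Set.range u ⊆ Set.range P.ι := by
    rintro _ ⟨z, rfl⟩
    rw [Scheme.Opens.range_ι]
    show f (u z) ∈ U
    rw [← Scheme.Hom.comp_apply, hu]
    exact z.2
  let s : (U : Scheme.{u}) ⟶ (P : Scheme.{u}) := IsOpenImmersion.lift P.ι u hle
  have hs : s ≫ P.ι = u := IsOpenImmersion.lift_fac _ _ _
  have hsec : s ≫ (f ∣_ U) = 𝟙 _ := by
    rw [← cancel_mono U.ι, Category.assoc, morphismRestrict_ι, ← Category.assoc, hs, hu, Category.id_comp]
  haveI : IsSeparated (f ∣_ U) := IsZariskiLocalAtTarget.restrict ‹_› U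
  haveI : IsClosedImmersion (s ≫ (f ∣_ U)) := by rw [hsec]; infer_instance
  haveI : IsClosedImmersion s := IsClosedImmersion.of_comp s (f ∣_ U)
  have hr : Set.range u = P.ι '' Set.range s := by
    rw [← Set.range_comp]
    exact congrArg Set.range (funext fun z => by rw [Function.comp_apply, ← Scheme.Hom.comp_apply, hs])
  rw [hr] at hx ⊢
  refine ⟨⟨x, hxU⟩, ?_, rfl⟩
  rw [← s.isClosedEmbedding.isClosed_range.closure_eq, P.ι.isOpenEmbedding.isInducing.closure_eq_preimage_closure_image]
  exact hx

end Groth.Agent.S5995
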