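import Groth.Statements.S5996
import Groth.Agent.UnramSecLib.Basic
-- import your own Groth.Agent.* helpers here

set_option autoImplicit false
universe u
open CategoryTheory AlgebraicGeometry
open Unram

namespace Groth.Agent.S5996

/-- Let Y be a reduced scheme whose irreducible components form a locally finite family, f : X ⟶ Y a
separated, locally of finite type, formally unramified morphism such that f(T) is closed in Y for
every closed irreducible subset T of X, and u : U ⟶ X a section of f over a dense open U of Y. Then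
for every point y of Y whose local ring is geometrically unibranch there are an open V ∋ y and a
section v : V ⟶ X of f agreeing with u on U ∩ V: the rational section defined by u is defined at
every geometrically unibranch point. -/
theorem result {X Y : Scheme.{u}} [IsReduced Y]
    (hcomp : LocallyFinite (fun Z : ↥(irreducibleComponents ↥Y) => (Z : Set ↥Y)))
    (f : X ⟶ Y) [IsSeparated f] [LocallyOfFiniteType f] [FormallyUnramified f]
    (U : Y.Opens) (hU : Dense (U : Set ↥Y)) (u : (U : Scheme.{u}) ⟶ X) (hu : u ≫ f = U.ι)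
    (hcl : ∀ T : Set ↥X, IsClosed T → IsIrreducible T → IsClosed (f '' T))
    (y : Y) (hy : CAlg2.IsGeomUnibranch (Y.presheaf.stalk y)) :
    ∃ (V : Y.Opens) (v : (V : Scheme.{u}) ⟶ X), y ∈ V ∧ v ≫ f = V.ι ∧
      Y.homOfLE (inf_le_left : U ⊓ V ≤ U) ≫ u = Y.homOfLE (inf_le_right : U ⊓ V ≤ V) ≫ v := by
  obtain ⟨η, hη, hgen⟩ := Groth.Agent.UnramSecLib.exists_generic_at y hy
  let W : Y.Opens := ⟨(⋃ Z : {Z : ↥(irreducibleComponents ↥Y) // y ∉ (Z : Set ↥Y)}, (Z.1 : Set ↥Y))ᶜ,
    ((hcomp.comp_injective Subtype.val_injective).isClosed_iUnion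
      fun Z => isClosed_of_mem_irreducibleComponents _ Z.1.2).isOpen_compl⟩
  have hyW : y ∈ W := fun h => by
    obtain ⟨Z, hZ⟩ := Set.mem_iUnion.1 h
    exact Z.2 hZ
  have hWη : ∀ w ∈ W, η ⤳ w := fun w hw => by
    have hC := irreducibleComponent_mem_irreducibleComponents w
    have hyC : y ∈ irreducibleComponent w := by
      by_contra h
      exact hw (Set.mem_iUnion.2 ⟨⟨⟨_, hC⟩, h⟩, mem_irreducibleComponent⟩)
    obtain ⟨ζ, hζ⟩ := QuasiSober.sober hC.1 (isClosed_of_mem_irreducibleComponents _ hC)
    exact (hgen ζ (hζ.specializes hyC)).trans (hζ.specializes mem_irreducibleComponent)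
  have hηU : η ∈ U := by
    obtain ⟨w, hwW, hwU⟩ := hU.inter_open_nonempty _ W.2 ⟨_, hyW⟩
    exact (hWη w hwW).mem_open U.2 hwU
  have hfu : f (u ⟨η, hηU⟩) = η := by
    rw [← Scheme.Hom.comp_apply, hu]
    rfl
  have hT := hcl _ isClosed_closure ((isIrreducible_singleton (x := u ⟨η, hηU⟩)).closure)
  obtain ⟨x, hx, hxy⟩ := hη.mem_closed hT ⟨u ⟨η, hηU⟩, subset_closure rfl, hfu⟩
  obtain rfl : f x = y := hxy
  exact Groth.Agent.UnramSecLib.exists_extension hcomp f U hU u hu x hy
    (closure_mono (Set.singleton_subset_iff.2 (Set.mem_range_self _)) hx)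

end Groth.Agent.S5996
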