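import Groth.Statements.S5998
import Mathlib

set_option autoImplicit false
universe u
open SGA1

namespace Groth.Agent.S5998

lemma li_of_injective {K : Type*} [Ring K] {ι M N Q : Type*} [AddCommGroup M] [Module K M] [AddCommGroup N]
    [Module K N] [AddCommGroup Q] [Module K Q] (f : M →ₗ[K] N) (e : Q ≃ₗ[K] N) (v : ι → M) (w : ι → Q)
    (h : ∀ i, f (v i) = e (w i)) (hf : Function.Injective f) (hv : LinearIndependent K v) :
    LinearIndependent K w := by
  have h1 := hv.map' f (LinearMap.ker_eq_bot.2 hf)
  rw [show f ∘ v = e ∘ w from funext h] at h1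
  exact h1.of_comp e.toLinearMap

lemma injective_of_li {K : Type*} [Ring K] {ι M N Q : Type*} [AddCommGroup M] [Module K M] [AddCommGroup N]
    [Module K N] [AddCommGroup Q] [Module K Q] (f : M →ₗ[K] N) (e : Q ≃ₗ[K] N) (v : ι → M) (w : ι → Q)
    (h : ∀ i, f (v i) = e (w i)) (hv : Submodule.span K (Set.range v) = ⊤) (hw : LinearIndependent K w) :
    Function.Injective f := by
  have h2 : LinearIndependent K (f ∘ v) := by
    rw [show f ∘ v = e ∘ w from funext h]
    exact hw.map' e.toLinearMap e.ker
  rw [← LinearMap.ker_eq_bot, eq_bot_iff]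
  intro z hz
  obtain ⟨l, rfl⟩ := Finsupp.mem_span_range_iff_exists_finsupp.1 (hv ▸ Submodule.mem_top : z ∈ Submodule.span K (Set.range v))
  have h3 : Finsupp.linearCombination K (f ∘ v) l = 0 := by
    rw [← LinearMap.mem_ker.1 hz, Finsupp.linearCombination_apply, map_finsuppSum]
    simp
  rw [linearIndependent_iff.1 h2 l h3]
  simp

open TensorProduct in
/-- Let R be a Noetherian ring, A a smooth R-algebra, I an ideal of A, P a prime ideal of A/I and q its
preimage in A. Then A/I is smooth over R at P (that is, the local ring of A/I at P is formally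
smooth over R) exactly when there are finitely many elements g_1, ..., g_p of I generating the ideal
I·A_q whose differentials dg_i have linearly independent images in κ(q) ⊗_A Ω_{A/R}. -/
theorem result
    (R A : Type u) [CommRing R] [CommRing A] [IsNoetherianRing R] [Algebra R A] [Algebra.Smooth R A]
    (I : Ideal A) (P : Ideal (A ⧸ I)) [P.IsPrime] :
    letI q : Ideal A := P.comap (Ideal.Quotient.mk I)
    Algebra.IsSmoothAt R P ↔ ∃ s : Finset A, (↑s : Set A) ⊆ (I : Set A) ∧
      Ideal.map (algebraMap A (Localization.AtPrime q)) I =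
        Ideal.span ((algebraMap A (Localization.AtPrime q)) '' (↑s : Set A)) ∧
      LinearIndependent q.ResidueField
        (fun g : ↥s => (1 : q.ResidueField) ⊗ₜ[A] KaehlerDifferential.D R A (g : A)) := by
  classical
  let q : Ideal A := P.comap (Ideal.Quotient.mk I)
  show Algebra.IsSmoothAt R P ↔ ∃ s : Finset A, (↑s : Set A) ⊆ (I : Set A) ∧
      Ideal.map (algebraMap A (Localization.AtPrime q)) I =
        Ideal.span ((algebraMap A (Localization.AtPrime q)) '' (↑s : Set A)) ∧
      LinearIndependent q.ResidueField
        (fun g : ↥s => (1 : q.ResidueField) ⊗ₜ[A] KaehlerDifferential.D R A (g : A))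
  let Aq := Localization.AtPrime q
  let S := Localization.AtPrime P
  let K := q.ResidueField
  let π : Aq →+* S := Localization.localRingHom q P (Ideal.Quotient.mk I) rfl
  have hπ : Function.Surjective π :=
    RingHom.surjective_localRingHom_of_surjective _ Ideal.Quotient.mk_surjective P
  letI : Algebra Aq S := π.toAlgebra
  haveI : IsScalarTower R Aq S := IsScalarTower.of_algebraMap_eq fun r => by
    show _ = π (algebraMap R Aq r)
    rw [IsScalarTower.algebraMap_apply R A Aq, Localization.localRingHom_to_map,
      IsScalarTower.algebraMap_apply R (A ⧸ I) S]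
    rfl
  have hker : RingHom.ker (algebraMap Aq S) = I.map (algebraMap A Aq) := by
    show RingHom.ker π = _
    exact (IsLocalization.ker_map (M := q.primeCompl) (S := Aq) S (Ideal.Quotient.mk I) (T := P.primeCompl)
        (Submonoid.map_comap_eq_of_surjective Ideal.Quotient.mk_surjective P.primeCompl)).trans
      (by rw [Ideal.mk_ker])
  have hmax : ∀ a : Aq, π a ∈ IsLocalRing.maximalIdeal S → algebraMap Aq K a = 0 := by
    intro a ha
    refine (IsLocalRing.residue_eq_zero_iff a).2 ?_
    rw [IsLocalRing.mem_maximalIdeal, mem_nonunits_iff] at ha ⊢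
    exact fun hu => ha (hu.map π)
  have hle : RingHom.ker π ≤ RingHom.ker (algebraMap Aq K) := fun a ha =>
    hmax a (by rw [show π a = 0 from ha]; exact Ideal.zero_mem _)
  let ρ : S →+* K := π.liftOfRightInverse (Function.surjInv hπ) (Function.rightInverse_surjInv hπ)
    ⟨algebraMap Aq K, hle⟩
  have hρ : ∀ a, ρ (π a) = algebraMap Aq K a := fun a =>
    RingHom.liftOfRightInverse_comp_apply π _ _ _ a
  letI : Algebra S K := ρ.toAlgebra
  haveI : IsScalarTower Aq S K := IsScalarTower.of_algebraMap_eq fun a => (hρ a).symm
  haveI : IsNoetherianRing A := Algebra.FiniteType.isNoetherianRing R A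
  haveI : IsNoetherianRing Aq := IsLocalization.isNoetherianRing q.primeCompl Aq inferInstance
  haveI : Algebra.EssFiniteType A Aq := Algebra.EssFiniteType.of_isLocalization Aq q.primeCompl
  haveI : Algebra.EssFiniteType R Aq := Algebra.EssFiniteType.comp R A Aq
  haveI : Algebra.FormallySmooth R Aq := inferInstance
  haveI : Module.Free Aq Ω[Aq⁄R] := Module.free_of_flat_of_isLocalRing
  have h3 : IsLocalRing.maximalIdeal S ≤ RingHom.ker (algebraMap S K) := by
    intro x hx
    obtain ⟨a, rfl⟩ := hπ x
    exact (hρ a).trans (hmax a hx)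
  have hcrit : Algebra.IsSmoothAt R P ↔
      Function.Injective (KaehlerDifferential.cotangentComplexBaseChange R S Aq K) :=
    Algebra.FormallySmooth.iff_injective_cotangentComplexBaseChange Aq K hπ
      ((isNoetherianRing_iff_ideal_fg Aq).1 inferInstance _) h3
  rw [hcrit]
  -- comparison of the differentials
  have hb : IsBaseChange K (((TensorProduct.mk Aq K Ω[Aq⁄R] 1).restrictScalars A) ∘ₗ
      KaehlerDifferential.map R R A Aq) :=
    ((isLocalizedModule_iff_isBaseChange q.primeCompl Aq _).mp inferInstance).comp
      (TensorProduct.isBaseChange Aq Ω[Aq⁄R] K)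
  have hj : ∀ g : A, hb.equiv ((1 : K) ⊗ₜ[A] KaehlerDifferential.D R A g) =
      (1 : K) ⊗ₜ[Aq] KaehlerDifferential.D R Aq (algebraMap A Aq g) := by
    intro g
    rw [IsBaseChange.equiv_tmul, one_smul]
    simp
  let J := RingHom.ker (algebraMap Aq S)
  let gen : ↥I → J := fun g => ⟨algebraMap A Aq g.1, by
    show _ ∈ RingHom.ker _
    rw [hker]
    exact Ideal.mem_map_of_mem _ g.2⟩
  let v : ↥I → K ⊗[Aq] J := fun g => (1 : K) ⊗ₜ[Aq] gen g
  have hv : ∀ g, KaehlerDifferential.cotangentComplexBaseChange R S Aq K (v g) =
      hb.equiv ((1 : K) ⊗ₜ[A] KaehlerDifferential.D R A g.1) := by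
    intro g
    rw [hj, KaehlerDifferential.cotangentComplexBaseChange_tmul, one_smul]
    rfl
  have hspan : ∀ t : Set ↥I,
      Submodule.span Aq (gen '' t) = ⊤ ↔ Submodule.span K (v '' t) = ⊤ := by
    intro t
    have hv' : v '' t = (TensorProduct.mk Aq K J 1) '' (gen '' t) := by rw [← Set.image_comp]; rfl
    rw [hv']
    constructor
    · intro h
      rw [eq_top_iff]
      rintro z -
      induction z using TensorProduct.induction_on with
      | zero => exact Submodule.zero_mem _
      | add a b ha hb => exact Submodule.add_mem _ ha hb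
      | tmul c j =>
        rw [show c ⊗ₜ[Aq] j = c • ((1 : K) ⊗ₜ[Aq] j) by rw [TensorProduct.smul_tmul', smul_eq_mul, mul_one]]
        refine Submodule.smul_mem _ _ ?_
        have hj : j ∈ Submodule.span Aq (gen '' t) := h ▸ Submodule.mem_top
        exact Submodule.span_le_restrictScalars Aq K _
          ((Submodule.map_span (TensorProduct.mk Aq K J 1) _).le (Submodule.mem_map_of_mem hj))
    · intro h
      rw [← IsLocalRing.map_tensorProduct_mk_eq_top (R := Aq), Submodule.map_span]
      refine eq_top_iff.2 fun z _ => ?_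
      have hz : z ∈ Submodule.span K (TensorProduct.mk Aq K J 1 '' (gen '' t)) := h ▸ Submodule.mem_top
      rw [← Submodule.restrictScalars_mem Aq, Submodule.restrictScalars_span Aq K IsLocalRing.residue_surjective] at hz
      exact hz
  have hIJ : ∀ t : Set ↥I, Submodule.span Aq (gen '' t) = ⊤ ↔
      Ideal.map (algebraMap A Aq) I = Ideal.span ((algebraMap A Aq) '' (Subtype.val '' t)) := by
    intro t
    rw [← (Submodule.map_injective_of_injective (f := Submodule.subtype J) Subtype.val_injective).eq_iff,
      Submodule.map_top, Submodule.range_subtype, Submodule.map_span, ← hker, Set.image_image,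
      Set.image_image]
    exact eq_comm
  constructor
  · intro hinj
    have htop : Submodule.span K (Set.range v) = ⊤ := by
      rw [← Set.image_univ]
      refine (hspan _).1 ((hIJ _).2 ?_)
      rw [Set.image_univ, Subtype.range_coe_subtype]
      rfl
    obtain ⟨t, htb, hli⟩ : ∃ t : Set ↥I, Submodule.span K (v '' t) = ⊤ ∧
        LinearIndepOn K v t := by
      obtain ⟨t, -, -, ht, hli⟩ := exists_linearIndepOn_extension (linearIndepOn_empty K v) (Set.empty_subset Set.univ)
      refine ⟨t, top_unique ?_, hli⟩
      rw [← htop, Submodule.span_le, ← Set.image_univ]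
      exact ht
    have hfin : t.Finite := by
      haveI : Module.Finite Aq J := Module.Finite.of_fg ((isNoetherianRing_iff_ideal_fg Aq).1 inferInstance _)
      haveI := (hli.linearIndependent).finite
      exact Set.toFinite t
    let s : Finset A := hfin.toFinset.image Subtype.val
    refine ⟨s, ?_, ?_, ?_⟩
    · intro g hg
      obtain ⟨x, -, rfl⟩ := Finset.mem_image.1 hg
      exact x.2
    · rw [Finset.coe_image, Set.Finite.coe_toFinset]
      exact (hIJ t).1 ((hspan t).2 htb)
    · let e : ↥s → t := fun g => ⟨⟨g.1, by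
          obtain ⟨x, -, hx⟩ := Finset.mem_image.1 g.2
          exact hx ▸ x.2⟩, by
          obtain ⟨x, hx, hx'⟩ := Finset.mem_image.1 g.2
          have : (⟨g.1, hx' ▸ x.2⟩ : ↥I) = x := Subtype.ext hx'.symm
          rw [this]
          exact hfin.mem_toFinset.1 hx⟩
      have he : Function.Injective e := fun a b h => Subtype.ext (congrArg (fun z => z.1.1) h)
      exact li_of_injective _ hb.equiv (v ∘ Subtype.val ∘ e) _ (fun g => hv _) hinj
        (hli.linearIndependent.comp e he)
  · rintro ⟨s, hsI, hgen, hli⟩
    let e : ↥s → ↥I := fun g => ⟨g.1, hsI g.2⟩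
    have htop : Submodule.span K (Set.range (v ∘ e)) = ⊤ := by
      rw [Set.range_comp]
      refine (hspan _).1 ((hIJ _).2 ?_)
      rw [hgen, ← Set.range_comp]
      exact congrArg Ideal.span (congrArg _ Subtype.range_coe.symm)
    exact injective_of_li _ hb.equiv (v ∘ e) _ (fun g => hv (e g)) htop hli

end Groth.Agent.S5998
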