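import Groth.Statements.S5999
import Groth.Agent.JacobianLib.Locus
open TensorProduct
-- import your own Groth.Agent.* helpers here

set_option autoImplicit false
universe u
open SGA1

namespace Groth.Agent.S5999

open TensorProduct in
/-- Let R be a Noetherian ring, A an R-algebra of finite type, F an element of A, P a prime ideal of
A/(F) and q its preimage in A, and suppose A is smooth over R at q. Then the hypersurface A/(F) is
smooth over R at P if and only if either F is zero in the local ring A_q (F vanishes on a
neighbourhood of q) or the image dF(q) of the differential of F in κ(q) ⊗_A Ω_{A/R} is nonzero. -/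
theorem result
    (R A : Type u) [CommRing R] [CommRing A] [IsNoetherianRing R] [Algebra R A] [Algebra.FiniteType R A]
    (F : A) (P : Ideal (A ⧸ Ideal.span ({F} : Set A))) [P.IsPrime]
    (hX : Algebra.IsSmoothAt R (P.comap (Ideal.Quotient.mk (Ideal.span ({F} : Set A))))) :
    letI q : Ideal A := P.comap (Ideal.Quotient.mk (Ideal.span ({F} : Set A)))
    Algebra.IsSmoothAt R P ↔ algebraMap A (Localization.AtPrime q) F = 0 ∨
      (1 : q.ResidueField) ⊗ₜ[A] KaehlerDifferential.D R A F ≠ 0 := by
  let q : Ideal A := P.comap (Ideal.Quotient.mk (Ideal.span ({F} : Set A)))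
  let Q := Localization.AtPrime q
  show Algebra.FormallySmooth R (Localization.AtPrime P) ↔ algebraMap A Q F = 0 ∨
      (1 : q.ResidueField) ⊗ₜ[A] KaehlerDifferential.D R A F ≠ 0
  haveI : Algebra.FormallySmooth R Q := hX
  haveI : IsNoetherianRing A := Algebra.FiniteType.isNoetherianRing R A
  haveI : IsNoetherianRing Q := IsLocalization.isNoetherianRing q.primeCompl Q inferInstance
  haveI : Algebra.FormallyEtale A Q := Algebra.FormallyEtale.of_isLocalization q.primeCompl
  letI : Algebra Q (Localization.AtPrime P) :=
    (Localization.localRingHom _ P (algebraMap A (A ⧸ Ideal.span ({F} : Set A))) rfl).toAlgebra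
  obtain ⟨h1, hsurj, hker⟩ :=
    Groth.Agent.JacobianLib.localization_data (R := R) (B := A) Ideal.Quotient.mk_surjective P
  haveI : IsScalarTower R Q (Localization.AtPrime P) := h1
  replace hsurj : Function.Surjective (algebraMap Q (Localization.AtPrime P)) := hsurj
  have hker' : RingHom.ker (algebraMap Q (Localization.AtPrime P)) = Ideal.span {algebraMap A Q F} := by
    refine hker.trans ?_
    refine (congrArg (Ideal.map (algebraMap A Q)) (Ideal.mk_ker (I := Ideal.span ({F} : Set A)))).trans ?_
    rw [Ideal.map_span, Set.image_singleton]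
  have hFq : F ∈ q := by
    show Ideal.Quotient.mk _ F ∈ P
    rw [Ideal.Quotient.eq_zero_iff_mem.2 (Ideal.subset_span (Set.mem_singleton F))]
    exact P.zero_mem
  have hzero : (1 : q.ResidueField) ⊗ₜ[A] KaehlerDifferential.D R A F = 0 ↔
      KaehlerDifferential.D R Q (algebraMap A Q F) ∈
        IsLocalRing.maximalIdeal Q • (⊤ : Submodule Q (Ω[Q⁄R])) := by
    constructor
    · intro h
      obtain ⟨t, ht, htm⟩ := (Groth.Agent.JacobianLib.one_tmul_eq_zero_iff q q.ResidueField
        (Ideal.ker_algebraMap_residueField q) (fun z => by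
          obtain ⟨⟨a, s⟩, has⟩ := IsLocalization.surj (nonZeroDivisors (A ⧸ q)) z
          obtain ⟨a, rfl⟩ := Ideal.Quotient.mk_surjective a
          obtain ⟨s', hs'⟩ := Ideal.Quotient.mk_surjective (s : A ⧸ q)
          refine ⟨a, s', fun h => nonZeroDivisors.ne_zero s.2 (hs' ▸ Ideal.Quotient.eq_zero_iff_mem.2 h), ?_⟩
          rw [IsScalarTower.algebraMap_apply A (A ⧸ q) q.ResidueField, Ideal.Quotient.algebraMap_eq, hs',
            IsScalarTower.algebraMap_apply A (A ⧸ q) q.ResidueField, Ideal.Quotient.algebraMap_eq]
          exact has) (KaehlerDifferential.D R A F)).1 h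
      have hmap : ∀ w ∈ q • (⊤ : Submodule A (Ω[A⁄R])),
          KaehlerDifferential.map R R A Q w ∈ IsLocalRing.maximalIdeal Q • (⊤ : Submodule Q (Ω[Q⁄R])) :=
        fun w hw => by
          refine Submodule.smul_induction_on hw (fun a ha z _ => ?_)
            (fun a b ha hb => by rw [map_add]; exact add_mem ha hb)
          rw [map_smul, ← algebraMap_smul Q a]
          exact Submodule.smul_mem_smul ((IsLocalization.AtPrime.to_map_mem_maximal_iff Q q a).2 ha) Submodule.mem_top
      have h2 := hmap _ htm
      rw [map_smul, KaehlerDifferential.map_D, ← algebraMap_smul Q t] at h2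
      exact (Submodule.smul_mem_iff_of_isUnit _ (IsLocalization.map_units Q (⟨t, ht⟩ : q.primeCompl))).1 h2
    · intro h
      let L : (Ω[Q⁄R]) →ₗ[Q] q.ResidueField ⊗[A] (Ω[A⁄R]) :=
        (KaehlerDifferential.isBaseChange_of_formallyEtale R A Q).lift
          (TensorProduct.mk A q.ResidueField (Ω[A⁄R]) 1)
      have hL : L (KaehlerDifferential.D R Q (algebraMap A Q F)) =
          (1 : q.ResidueField) ⊗ₜ[A] KaehlerDifferential.D R A F := by
        rw [← KaehlerDifferential.map_D R R A Q F]
        exact IsBaseChange.lift_eq _ _ _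
      rw [← hL]
      have hle : IsLocalRing.maximalIdeal Q • (⊤ : Submodule Q (Ω[Q⁄R])) ≤ LinearMap.ker L :=
        Submodule.smul_le.2 fun m hm z _ => by
          rw [LinearMap.mem_ker, map_smul, ← algebraMap_smul q.ResidueField m]
          rw [show algebraMap Q q.ResidueField m = 0 from Ideal.Quotient.eq_zero_iff_mem.2 hm, zero_smul]
      exact hle h
  constructor
  · intro hS
    by_cases hd : (1 : q.ResidueField) ⊗ₜ[A] KaehlerDifferential.D R A F = 0
    · refine Or.inl ?_
      have hfm : ∀ _ : Fin 1, algebraMap A Q F ∈ RingHom.ker (algebraMap Q (Localization.AtPrime P)) :=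
        fun _ => hker'.ge (Ideal.subset_span (Set.mem_singleton _))
      have h2 := Groth.Agent.JacobianLib.mem_of_formallySmooth (R := R) (P := Q) hsurj (fun _ : Fin 1 => algebraMap A Q F) hfm
        (fun _ => 1) (by simpa only [Fin.sum_univ_one, one_smul] using hzero.1 hd)
      rw [pow_two, Fin.sum_univ_one, one_mul] at h2
      have hle : RingHom.ker (algebraMap Q (Localization.AtPrime P)) ≤ IsLocalRing.maximalIdeal Q := by
        rw [hker', Ideal.span_le, Set.singleton_subset_iff]
        exact (IsLocalization.AtPrime.to_map_mem_maximal_iff Q q F).2 hFq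
      have h3 : algebraMap A Q F ∈ IsLocalRing.maximalIdeal Q * Ideal.span {algebraMap A Q F} :=
        sup_le (Ideal.mul_mono_right hker'.le) (Ideal.mul_mono hle hker'.le) h2
      replace h2 := h3
      obtain ⟨m, hm, hm'⟩ := Ideal.mem_mul_span_singleton.1 h2
      have hu : IsUnit (1 - m) := IsLocalRing.isUnit_one_sub_self_of_mem_nonunits m hm
      refine hu.mul_right_eq_zero.1 ?_
      rw [sub_mul, one_mul, hm', sub_self]
    · exact Or.inr hd
  · rintro (h | h)
    · refine Groth.Agent.JacobianLib.formallySmooth_of_minor (R := R) (P := Q) hsurj (fun i : Fin 0 => Fin.elim0 i) ?_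
        (fun i : Fin 0 => Fin.elim0 i) (by simp)
      refine hker'.trans ?_
      rw [h]
      simp
    · obtain ⟨D', hD'⟩ := Groth.Agent.JacobianLib.exists_derivations (R := R) (IsLocalRing.maximalIdeal Q)
        (fun _ : Fin 1 => algebraMap A Q F) fun c hc i => by
          by_contra hci
          simp only [Fin.sum_univ_one] at hc
          rw [Fin.fin_one_eq_zero i] at hci
          exact h (hzero.2 ((Submodule.smul_mem_iff_of_isUnit _ (IsLocalRing.notMem_maximalIdeal.1 hci)).1 hc))
      refine Groth.Agent.JacobianLib.formallySmooth_of_minor (R := R) (P := Q) hsurj (fun _ : Fin 1 => algebraMap A Q F) ?_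
        (fun j => (D' j).liftKaehlerDifferential) ?_
      · rw [hker', Set.range_const]
      · refine (congrArg (fun M => IsUnit (Matrix.det M)) (?_ : _ = Matrix.of fun i j => D' j (algebraMap A Q F))).mpr
          (IsLocalRing.notMem_maximalIdeal.1 hD')
        exact congrArg _ (funext fun i => funext fun j => Derivation.liftKaehlerDifferential_comp_D _ _)

end Groth.Agent.S5999
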