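import Groth.Statements.S6001
import Groth.Agent.EtLocalLib.Completion
import Groth.Agent.GeomLocLib.Completion
import Groth.Agent.EtaleLib.Reduced
import Groth.Agent.RatliffLib.EssFinite
open IsLocalRing
-- import your own Groth.Agent.* helpers here

set_option autoImplicit false
universe u
open SGA1

namespace Groth.Agent.S6001

/-- Let A be a Noetherian local ring which is analytically reduced (its completion has no nonzero
nilpotents), and let B be the local ring at a prime q, lying over the maximal ideal of A, of an
A-algebra C of finite type that is etale over A at q (an etale local homomorphism A ⟶ B). Then B is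
analytically reduced, and in particular reduced. -/
theorem result (A C : Type u) [CommRing A] [IsLocalRing A]
    [IsNoetherianRing A] [CommRing C] [Algebra A C] [Algebra.FiniteType A C] (q : Ideal C) [q.IsPrime]
    (hq : Ideal.comap (algebraMap A C) q = IsLocalRing.maximalIdeal A) (hC : Algebra.IsEtaleAt A q)
    (hA : IsReduced (AdicCompletion (IsLocalRing.maximalIdeal A) A)) :
    IsReduced (AdicCompletion (IsLocalRing.maximalIdeal (Localization.AtPrime q)) (Localization.AtPrime q)) ∧
      IsReduced (Localization.AtPrime q) := by
  let B := Localization.AtPrime q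
  haveI : IsNoetherianRing C := Algebra.FiniteType.isNoetherianRing A C
  haveI : IsNoetherianRing B := IsLocalization.isNoetherianRing q.primeCompl B inferInstance
  haveI : Algebra.FinitePresentation A C := Algebra.FinitePresentation.of_finiteType.mp inferInstance
  haveI : Algebra.EssFiniteType C B := Algebra.EssFiniteType.of_isLocalization B q.primeCompl
  haveI : Algebra.EssFiniteType A B := Algebra.EssFiniteType.comp A C B
  haveI : Algebra.FormallyEtale A B := hC
  haveI : IsLocalHom (algebraMap A B) := ⟨fun a ha => by
    by_contra hne
    have hmem : a ∈ maximalIdeal A := hne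
    rw [← hq, Ideal.mem_comap] at hmem
    rw [IsScalarTower.algebraMap_apply A C B] at ha
    exact ((IsLocalization.AtPrime.to_map_mem_maximal_iff B q _).2 hmem) ha⟩
  haveI : Module.Flat A B := by
    haveI : Algebra.IsEtaleAt A q := hC
    obtain ⟨f, hf, hE⟩ := Algebra.exists_etale_of_isEtaleAt (R := A) q
    letI : Algebra (Localization.Away f) B := (IsLocalization.Away.lift f
      (IsLocalization.map_units B (⟨f, hf⟩ : q.primeCompl) : IsUnit (algebraMap C B f))).toAlgebra
    haveI : IsScalarTower C (Localization.Away f) B := .of_algebraMap_eq fun c =>
      (IsLocalization.Away.lift_eq f _ c).symm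
    haveI : IsScalarTower A (Localization.Away f) B := .of_algebraMap_eq fun a => by
      rw [IsScalarTower.algebraMap_apply A C B, IsScalarTower.algebraMap_apply C (Localization.Away f) B,
        ← IsScalarTower.algebraMap_apply A C (Localization.Away f)]
    haveI : IsLocalization (q.primeCompl.map (algebraMap C (Localization.Away f))) B :=
      IsLocalization.isLocalization_of_submonoid_le (Localization.Away f) B (Submonoid.powers f) q.primeCompl
        (Submonoid.powers_le.2 hf)
    haveI : Module.Flat (Localization.Away f) B :=
      IsLocalization.flat B (q.primeCompl.map (algebraMap C (Localization.Away f)))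
    exact Module.Flat.trans A (Localization.Away f) B
  obtain ⟨alg, htower, hloc, hflat, -⟩ := Groth.Agent.GeomLocLib.exists_completion_algebra A B
  letI := alg
  haveI := htower
  haveI := hloc
  haveI := hflat
  obtain ⟨hfin, hunr⟩ := Groth.Agent.EtLocalLib.formallyUnramified_completion (A := A) (B := B)
  haveI := hfin
  haveI := hunr
  obtain ⟨_, _, _, _, -⟩ := Groth.Agent.RatliffLib.compl_facts A
  let Ah := AdicCompletion (maximalIdeal A) A
  let Bh := AdicCompletion (maximalIdeal B) B
  haveI : Algebra.FiniteType Ah Bh := Module.Finite.finiteType Bh
  haveI : Algebra.FinitePresentation Ah Bh := Algebra.FinitePresentation.of_finiteType.mp inferInstance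
  haveI : Algebra.Etale Ah Bh := Algebra.Etale.of_formallyUnramified_of_flat
  haveI : IsReduced Ah := hA
  haveI hB : IsReduced Bh := Groth.Agent.EtaleLib.isReduced_of_etale (A := Ah) Bh
  refine ⟨hB, ?_⟩
  haveI : Module.FaithfullyFlat B Bh := Groth.Agent.EtLocalLib.faithfullyFlat_completion_self
  exact isReduced_of_injective (algebraMap B Bh) (FaithfulSMul.algebraMap_injective B Bh)

end Groth.Agent.S6001
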