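import Groth.Statements.S6007
import Groth.Agent.DSMapLib.Exact
-- import your own Groth.Agent.* helpers here

set_option autoImplicit false
universe u
open CategoryTheory AlgebraicGeometry MonoidalCategory CartesianMonoidalCategory MonObj GrpObj
open SGA1t

namespace Groth.Agent.S6007

/-- For a scheme S and an integer n ≥ 1 the Kummer sequence 1 → μ_n → G_m → G_m → 1 over S is exact for
the fpqc topology. Here G_m = D_S(Z), μ_n = D_S(Z/n) mapped into G_m by the diagonalisable-group
morphism induced by Z → Z/n, and G_m → G_m is the n-th power map, the character of D_S(Z) attached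
to n; exactness means that both maps are homomorphisms with trivial composite, that (g, z) ↦ (g, gz)
identifies G_m ×_S μ_n with the fibre product of the n-th power map with itself, and that the n-th
power map acquires sections on the members of some fpqc covering family of its target. -/
theorem result {S : Scheme.{u}} (n : ℕ) (hn : 0 < n) :
    NonAbH1.IsExactSeq Scheme.fpqcPrecoverage
      (Red.DSmap S (Int.castAddHom (ZMod n))) (Red.chi S (n : ℤ)) := by
  refine DSMapLib.isExactSeq S (zmultiplesHom ℤ (n : ℤ)) (Int.castAddHom (ZMod n)) ?_ ZMod.intCast_surjective ?_ ?_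
  · intro a b h
    have h' : a * (n : ℤ) = b * (n : ℤ) := by simpa [zmultiplesHom_apply] using h
    exact mul_right_cancel₀ (by exact_mod_cast hn.ne') h'
  · ext
    simp
  · intro a ha
    obtain ⟨c, rfl⟩ := (ZMod.intCast_zmod_eq_zero_iff_dvd a n).1 ha
    exact ⟨c, by simp [zmultiplesHom_apply, mul_comm]⟩

end Groth.Agent.S6007
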