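import Groth.Statements.S6011
-- import your own Groth.Agent.* helpers here

set_option autoImplicit false
universe u
open CategoryTheory AlgebraicGeometry
open SGA1

namespace Groth.Agent.S6011

/-- An S-scheme X with an action of the S-group G is trivial — equivariantly isomorphic over S to G
acting on itself by translation — if and only if it is formally principal homogeneous (a
pseudo-torsor) and admits a section over S. -/
theorem result {S : Scheme.{u}}
    (G X : Over S) [GrpObj G] (a : AlgGrp.Action G X) :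
    Nonempty (NonAbH1.EquivIso (NonAbH1.trivialAction G) a) ↔
      (NonAbH1.IsPseudoTorsorSch a ∧ NonAbH1.HasSectionOver X (𝟙 S)) := by
  open MonoidalCategory CartesianMonoidalCategory MonObj in
  constructor
  · rintro ⟨e⟩
    refine ⟨?_, ⟨η[G].left ≫ e.iso.hom.left, ?_⟩⟩
    · unfold NonAbH1.IsPseudoTorsorSch
      haveI : IsIso (lift (NonAbH1.trivialAction G).act (snd G G)) := NonAbH1.isPseudoTorsorSch_trivialAction G
      have hinv : (G ◁ e.iso.inv) ≫ μ[G] ≫ e.iso.hom = a.act := by
        rw [show μ[G] = (NonAbH1.trivialAction G).act from rfl, e.comm, ← Category.assoc, ← MonoidalCategory.whiskerLeft_comp,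
          e.iso.inv_hom_id, MonoidalCategory.whiskerLeft_id, Category.id_comp]
      have : lift a.act (snd G X) = (G ◁ e.iso.inv) ≫ lift (NonAbH1.trivialAction G).act (snd G G) ≫ (e.iso.hom ⊗ₘ e.iso.hom) := by
        rw [lift_map]
        refine CartesianMonoidalCategory.hom_ext _ _ ?_ ?_
        · simp only [lift_fst, Category.assoc]
          exact hinv.symm
        · simp only [lift_snd, Category.assoc, whiskerLeft_snd_assoc, Iso.inv_hom_id, Category.comp_id]
      rw [this]
      infer_instance
    · rw [Category.assoc, Over.w, Over.w]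
      rfl
  · rintro ⟨hp, s, hs⟩
    haveI : IsIso (lift a.act (snd G X)) := hp
    let o : 𝟙_ (Over S) ⟶ X := Over.homMk s hs
    let φ : G ⟶ X := lift (𝟙 G) (toUnit G ≫ o) ≫ a.act
    let z : X ⟶ G ⊗ X := lift (𝟙 X) (toUnit X ≫ o) ≫ inv (lift a.act (snd G X))
    have hz : z ≫ lift a.act (snd G X) = lift (𝟙 X) (toUnit X ≫ o) := by
      rw [show z = lift (𝟙 X) (toUnit X ≫ o) ≫ inv (lift a.act (snd G X)) from rfl, Category.assoc, IsIso.inv_hom_id,
        Category.comp_id]
    have hz1 : z ≫ a.act = 𝟙 X := by
      have := hz =≫ fst X X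
      simpa using this
    have hz2 : z ≫ snd G X = toUnit X ≫ o := by
      have := hz =≫ snd X X
      simpa using this
    have h1 : φ ≫ z ≫ fst G X = 𝟙 G := by
      have : φ ≫ lift (𝟙 X) (toUnit X ≫ o) = lift (𝟙 G) (toUnit G ≫ o) ≫ lift a.act (snd G X) := by
        rw [comp_lift, comp_lift, lift_snd, Category.comp_id, comp_toUnit_assoc]
      simp only [z, Category.assoc]
      rw [reassoc_of% this]
      simp
    have h2 : (z ≫ fst G X) ≫ φ = 𝟙 X := by
      simp only [φ, comp_lift_assoc, Category.comp_id, comp_toUnit_assoc]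
      rw [← hz2, ← comp_lift z, lift_fst_snd, Category.comp_id, hz1]
    refine ⟨⟨⟨φ, z ≫ fst G X, h1, h2⟩, ?_⟩⟩
    show μ[G] ≫ φ = (G ◁ φ) ≫ a.act
    have h3 : μ[G] ≫ φ = lift (𝟙 (G ⊗ G)) (toUnit _ ≫ o) ≫ (μ[G] ▷ X) ≫ a.act := by
      simp only [φ, comp_lift_assoc, lift_whiskerRight_assoc, Category.comp_id, Category.id_comp, comp_toUnit_assoc]
    rw [h3, a.mul_act, ← Category.assoc, ← Category.assoc]
    congr 1
    refine CartesianMonoidalCategory.hom_ext _ _ ?_ ?_
    · simp
    · simp only [φ, Category.assoc, whiskerLeft_snd, comp_lift_assoc, Category.comp_id, comp_toUnit_assoc]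
      rw [← Category.assoc, ← Category.assoc]
      congr 1
      refine CartesianMonoidalCategory.hom_ext _ _ ?_ ?_ <;> simp

end Groth.Agent.S6011
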