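import Groth.Statements.S6012
import Mathlib.CategoryTheory.FiberedCategory.Fibered

set_option autoImplicit false
open CategoryTheory
universe v₁ v₂ u₁ u₂
open FibCat FibCat.Cleavage

namespace Groth.Agent.S6012

set_option backward.isDefEq.respectTransparency false
set_option backward.isDefEq.respectTransparency.types false
open Functor Functor.Fiber

/-- Let `K` be a cleavage of an arbitrary functor `p : 𝒳 ⥤ 𝒮` (one chosen cartesian lift of every base
morphism at every object over its target; `p` is not assumed fibred). Then `p` is a fibred category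
(composites of cartesian morphisms are cartesian) if and only if, for all composable base morphisms
`g : R ⟶ T` and `f : T ⟶ S`, the comparison natural transformation `c_{f,g}` from `g^* f^*` to
`(fg)^*` determined by `K` is an isomorphism. -/
theorem result (𝒮 : Type u₁) (𝒳 : Type u₂) [Category.{v₁} 𝒮] [Category.{v₂} 𝒳] (p : 𝒳 ⥤ 𝒮) (K : FibCat.Cleavage p) :
    p.IsFibered ↔ ∀ (R S T : 𝒮) (f : T ⟶ S) (g : R ⟶ T), IsIso (K.comp f g) := by
  constructor
  · intro h R S T f g
    have : ∀ a, IsIso ((K.comp f g).app a) := fun a => by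
      let L := K.lift a.2 (g ≫ f)
      let M := K.lift (K.obj_proj a.2 f) g ≫ K.lift a.2 f
      have : p.IsCartesian (g ≫ f) M := inferInstance
      let e := IsCartesian.domainUniqueUpToIso p (g ≫ f) L M
      refine ⟨Fiber.homMk p R (IsCartesian.map p (g ≫ f) M L), ?_, ?_⟩
      · apply Fiber.hom_ext
        exact e.hom_inv_id
      · apply Fiber.hom_ext
        exact e.inv_hom_id
    exact NatIso.isIso_of_isIso_app _
  · intro h
    have := K.isPreFibered
    refine { comp := fun {R S T} g f {b' b a} φ ψ _ _ => ?_ }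
    have ha : p.obj a = T := IsHomLift.codomain_eq p f ψ
    let e₂ := IsCartesian.domainUniqueUpToIso p f (K.lift ha f) ψ
    have : p.IsCartesian g (φ ≫ e₂.hom) := inferInstance
    let e₁ := IsCartesian.domainUniqueUpToIso p g (K.lift (K.obj_proj ha f) g) (φ ≫ e₂.hom)
    have := h R T S f g
    let c := Fiber.fiberInclusion.mapIso (asIso ((K.comp f g).app ⟨a, ha⟩))
    have hc : c.hom ≫ K.lift ha (g ≫ f) = K.lift (K.obj_proj ha f) g ≫ K.lift ha f :=
      IsCartesian.fac p (g ≫ f) (K.lift ha (g ≫ f)) (K.lift (K.obj_proj ha f) g ≫ K.lift ha f)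
    have : p.IsHomLift (𝟙 R) c.hom := ((K.comp f g).app ⟨a, ha⟩).2
    have hk : p.IsCartesian (g ≫ f) (c.hom ≫ K.lift ha (g ≫ f)) := inferInstance
    rw [hc] at hk
    have hk' : p.IsCartesian (g ≫ f) (e₁.hom ≫ K.lift (K.obj_proj ha f) g ≫ K.lift ha f) := inferInstance
    have e : e₁.hom ≫ K.lift (K.obj_proj ha f) g ≫ K.lift ha f = φ ≫ ψ := by
      rw [← Category.assoc, show e₁.hom ≫ K.lift (K.obj_proj ha f) g = φ ≫ e₂.hom from IsCartesian.fac p g _ _,
        Category.assoc, show e₂.hom ≫ K.lift ha f = ψ from IsCartesian.fac p f _ _]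
    exact e ▸ hk'

end Groth.Agent.S6012
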