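import Groth.Statements.S6013
import Mathlib.CategoryTheory.FiberedCategory.Fibered

set_option autoImplicit false
open CategoryTheory
universe v₁ v₂ u₁ u₂
open FibCat FibCat.Cleavage

namespace Groth.Agent.S6013

set_option backward.isDefEq.respectTransparency false
set_option backward.isDefEq.respectTransparency.types false
open Functor Functor.Fiber

/-- Let `p : 𝒳 ⥤ 𝒮` be a fibred category with a cleavage `K`, and let `f : T ⟶ S` be an isomorphism of
the base. Then the inverse-image functor `f^*` of `K`, from the fibre over `S` to the fibre over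
`T`, is an equivalence of categories. -/
theorem result (𝒮 : Type u₁) (𝒳 : Type u₂) [Category.{v₁} 𝒮] [Category.{v₂} 𝒳] (p : 𝒳 ⥤ 𝒮) [p.IsFibered] (K : FibCat.Cleavage p)
    (S T : 𝒮) (f : T ⟶ S) [IsIso f] : (K.inverseImage f).IsEquivalence := by
  have hL : ∀ a : p.Fiber S, IsIso (K.lift a.2 f) := fun a =>
    IsStronglyCartesian.isIso_of_base_isIso p f (K.lift a.2 f)
  have key : ∀ {a b : p.Fiber S} (φ : a ⟶ b),
      fiberInclusion.map ((K.inverseImage f).map φ) ≫ K.lift b.2 f = K.lift a.2 f ≫ fiberInclusion.map φ :=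
    fun φ => IsCartesian.fac p f _ _
  have : (K.inverseImage f).Faithful := ⟨fun {a b φ φ'} h => Fiber.hom_ext (by
    have := hL a
    rw [← cancel_epi (K.lift a.2 f), ← key, ← key, h])⟩
  have : (K.inverseImage f).Full := ⟨fun {a b} ψ => by
    have := hL a
    have := hL b
    have : p.IsHomLift (inv f) (inv (K.lift a.2 f)) := IsHomLift.inv p f (K.lift a.2 f)
    have hψ : p.IsHomLift (𝟙 T) ψ.1 := ψ.2
    have h' : p.IsHomLift (inv f ≫ 𝟙 T ≫ f) (inv (K.lift a.2 f) ≫ ψ.1 ≫ K.lift b.2 f) := inferInstance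
    have : p.IsHomLift (𝟙 S) (inv (K.lift a.2 f) ≫ ψ.1 ≫ K.lift b.2 f) := by simpa using h'
    refine ⟨Fiber.homMk p S (inv (K.lift a.2 f) ≫ ψ.1 ≫ K.lift b.2 f), Fiber.hom_ext ?_⟩
    rw [← cancel_mono (K.lift b.2 f), key]
    exact (congrArg (K.lift a.2 f ≫ ·) rfl).trans (IsIso.hom_inv_id_assoc _ _)⟩
  refine { essSurj := ⟨fun b => ?_⟩ }
  let a : p.Fiber S := ⟨K.obj b.2 (inv f), K.obj_proj _ _⟩
  have := hL a
  have : IsIso (K.lift b.2 (inv f)) := IsStronglyCartesian.isIso_of_base_isIso p (inv f) _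
  let t := K.lift a.2 f ≫ K.lift b.2 (inv f)
  have h' : p.IsHomLift (f ≫ inv f) t := inferInstance
  have : p.IsHomLift (𝟙 T) t := by simpa using h'
  have : IsIso t := inferInstance
  have : p.IsHomLift (𝟙 T) (inv t) := inferInstance
  exact ⟨a, ⟨{ hom := ⟨t, inferInstance⟩, inv := ⟨inv t, inferInstance⟩
               hom_inv_id := Fiber.hom_ext (IsIso.hom_inv_id t), inv_hom_id := Fiber.hom_ext (IsIso.inv_hom_id t) }⟩⟩

end Groth.Agent.S6013
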