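import Groth.Statements.S6017
import Mathlib

set_option autoImplicit false
universe u
open scoped Pointwise
open SGA1

namespace Groth.Agent.S6017

section
variable {G R : Type u} [Group G] [Finite G] [CommRing R] [MulSemiringAction G R]

/-- An element of `R^H` outside `q'` lying in `g q` for all `g ∉ H`. -/
theorem exists_separating (H : Subgroup G) (q : Ideal R) [hq : q.IsPrime] (hD : MulAction.stabilizer G q ≤ H)
    (hincomp : ∀ g : G, g • q ≤ q → g • q = q) :
    ∃ c : R, c ∈ FixedPoints.subring R H ∧ c ∉ q ∧ ∀ g : G, g ∉ H → c ∈ g • q := by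
  classical
  haveI := Fintype.ofFinite G
  have h1 : ∀ g : G, g ∉ H → ∃ a : R, a ∈ g • q ∧ ∀ h : H, (h : G) • a ∉ q := by
    intro g hg
    -- avoid the finitely many primes `h⁻¹ q`
    have hn : ¬ (((g • q : Ideal R) : Set R) ⊆
        ⋃ h ∈ ((Finset.univ : Finset H) : Set H), (((h : G)⁻¹ • q : Ideal R) : Set R)) := by
      intro hsub
      obtain ⟨h, -, hle'⟩ := (Ideal.subset_union_prime (s := (Finset.univ : Finset H))
        (f := fun h : H => ((h : G)⁻¹ • q : Ideal R)) 1 1 (fun h _ _ _ => inferInstance)).1 hsub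
      have h2 : ((h : G) * g) • q ≤ q := by
        rw [mul_smul]
        calc (h : G) • g • q ≤ (h : G) • ((h : G)⁻¹ • q) := Ideal.map_mono hle'
          _ = q := smul_inv_smul _ q
      have h3 : ((h : G) * g) ∈ H := hD (hincomp _ h2)
      exact hg (by simpa using H.mul_mem (H.inv_mem h.2) h3)
    obtain ⟨a, ha, hna⟩ := Set.not_subset.1 hn
    refine ⟨a, ha, fun h hh => hna ?_⟩
    refine Set.mem_iUnion₂.2 ⟨h, Finset.mem_coe.2 (Finset.mem_univ _), ?_⟩
    rw [SetLike.mem_coe, Ideal.mem_inv_pointwise_smul_iff]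
    exact hh
  choose a ha hna using h1
  let b : R := ∏ g : {g : G // g ∉ H}, a g.1 g.2
  have hb : ∀ g, g ∉ H → b ∈ g • q := fun g hg => by
    simp only [b]
    rw [← Finset.mul_prod_erase _ _ (Finset.mem_univ (⟨g, hg⟩ : {g : G // g ∉ H}))]
    exact Ideal.mul_mem_right _ _ (ha g hg)
  have hbq : ∀ h : H, (h : G) • b ∉ q := fun h hh => by
    simp only [b, Finset.smul_prod'] at hh
    obtain ⟨g, -, hg⟩ := hq.prod_mem_iff.1 hh
    exact hna g.1 g.2 h hg
  refine ⟨∏ h : H, (h : G) • b, fun k => ?_, fun hc => ?_, fun g hg => ?_⟩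
  · show (k : G) • (∏ h : H, (h : G) • b) = _
    rw [Finset.smul_prod']
    refine Fintype.prod_equiv (Equiv.mulLeft k) _ _ fun h => ?_
    rw [smul_smul]; rfl
  · obtain ⟨h, -, hh⟩ := hq.prod_mem_iff.1 hc
    exact hbq h hh
  · rw [← Finset.mul_prod_erase _ _ (Finset.mem_univ (1 : H))]
    refine Ideal.mul_mem_right _ _ ?_
    simpa using hb g hg

theorem incomp [Algebra.IsIntegral (FixedPoints.subring R G) R] (q : Ideal R) [q.IsPrime] (g : G)
    (h : g • q ≤ q) : g • q = q := by
  by_contra hne
  have hlt : g • q < q := lt_of_le_of_ne h hne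
  obtain ⟨-, x, hxq, hxg⟩ := Set.ssubset_iff_exists.1 (SetLike.coe_ssubset_coe.2 hlt)
  haveI : (g • q : Ideal R).IsPrime := inferInstance
  refine (Ideal.comap_lt_comap_of_integral_mem_sdiff (R := FixedPoints.subring R G) hlt.le ⟨hxq, hxg⟩
    (Algebra.IsIntegral.isIntegral x)).ne (Ideal.ext fun x => ?_)
  rw [Ideal.mem_comap, Ideal.mem_comap, Ideal.mem_pointwise_smul_iff_inv_smul_mem]
  exact iff_of_eq (congrArg (· ∈ q) (x.2 g⁻¹))

/-- Sum over the cosets of `H`. -/
noncomputable def trace (H : Subgroup G) (r : R) : R :=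
  letI := Fintype.ofFinite (G ⧸ H)
  ∑ x : G ⧸ H, Quotient.out x • r

theorem out_smul (H : Subgroup G) (r : R) (hr : r ∈ FixedPoints.subring R H) (g : G) :
    Quotient.out (QuotientGroup.mk g : G ⧸ H) • r = g • r := by
  obtain ⟨h, hh⟩ := QuotientGroup.mk_out_eq_mul H g
  rw [hh, mul_smul]
  exact congrArg (g • ·) (hr h)

theorem trace_mem (H : Subgroup G) (r : R) (hr : r ∈ FixedPoints.subring R H) :
    trace H r ∈ FixedPoints.subring R G := fun g => by
  letI := Fintype.ofFinite (G ⧸ H)
  show g • trace H r = trace H r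
  rw [trace, Finset.smul_sum]
  refine Fintype.sum_equiv (MulAction.toPerm g) _ _ fun x => ?_
  induction x using QuotientGroup.induction_on with
  | H a => rw [out_smul H r hr, smul_smul, MulAction.toPerm_apply, MulAction.Quotient.smul_mk,
      out_smul H r hr, smul_eq_mul]

theorem trace_sub_mem (H : Subgroup G) (r : R) (hr : r ∈ FixedPoints.subring R H) (I : Ideal R)
    (hI : ∀ g : G, g ∉ H → g • r ∈ I) : trace H r - r ∈ I := by
  classical
  letI := Fintype.ofFinite (G ⧸ H)
  rw [trace, ← Finset.add_sum_erase _ _ (Finset.mem_univ (QuotientGroup.mk (1 : G))), out_smul H r hr, one_smul,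
    add_sub_cancel_left]
  refine sum_mem fun x hx => hI _ fun hmem => (Finset.mem_erase.1 hx).1 ?_
  rw [← QuotientGroup.out_eq' x]
  exact (QuotientGroup.eq (s := H)).2 (by simpa using hmem)

theorem trace_mul_invariant (H : Subgroup G) (r x : R) (hx : x ∈ FixedPoints.subring R G) :
    trace H (r * x) = trace H r * x := by
  letI := Fintype.ofFinite (G ⧸ H)
  rw [trace, trace, Finset.sum_mul]
  exact Finset.sum_congr rfl fun g _ => by rw [smul_mul']; exact congrArg (_ * ·) (hx _)

theorem trace_add (H : Subgroup G) (r x : R) : trace H (r + x) = trace H r + trace H x := by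
  letI := Fintype.ofFinite (G ⧸ H)
  simp only [trace, smul_add, Finset.sum_add_distrib]

end

/-- Stated in affine form, at the level of rings: let a finite group `G` act on a commutative ring `R`;
suppose the ring of invariants `B = R^G` is Noetherian and `R` is a finite `B`-module. Let `q` be a
prime of `R`, let `H` be a subgroup of `G` containing the stabilizer of `q` (the decomposition
group), and put `R' = R^H`, `q' = q ∩ R'`, `p = q ∩ B = q' ∩ B`. Then the local homomorphism `B_p →
R'_{q'}` induces an isomorphism between the completions of these two Noetherian local rings;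
equivalently, and this is the form stated, for every `n` the composite `B_p → R'_{q'} → R'_{q'} /
m_{q'}^n` is surjective and its kernel is exactly `m_p^n`. (The published statement concerns a
prescheme `X` finite over a locally Noetherian `Y = X/G` and the local rings of `Y` and `X/H` at the
images of a point `x`; the assertion is local on `Y` and `X` is affine over `Y`, so it is stated for
`X = Spec R`, `Y = Spec R^G`, `X/H = Spec R^H`. The hypothesis `hle` only records the inclusion `R^G
⊆ R^H`, which always holds.) -/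
theorem result
    (G R : Type u) [Group G] [Finite G] [CommRing R] [MulSemiringAction G R]
    [IsNoetherianRing (FixedPoints.subring R G)] [Module.Finite (FixedPoints.subring R G) R]
    (H : Subgroup G) (q : Ideal R) [q.IsPrime] (hD : MulAction.stabilizer G q ≤ H)
    (hle : FixedPoints.subring R G ≤ FixedPoints.subring R H) (n : ℕ) :
    let q' : Ideal (FixedPoints.subring R H) := Ideal.comap (FixedPoints.subring R H).subtype q
    let φ := Localization.localRingHom (Ideal.comap (Subring.inclusion hle) q') q' (Subring.inclusion hle) rfl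
    Function.Surjective ((Ideal.Quotient.mk (IsLocalRing.maximalIdeal (Localization.AtPrime q') ^ n)).comp φ) ∧
      Ideal.comap φ (IsLocalRing.maximalIdeal (Localization.AtPrime q') ^ n) =
        IsLocalRing.maximalIdeal (Localization.AtPrime (Ideal.comap (Subring.inclusion hle) q')) ^ n := by
  classical
  intro q' φ
  haveI := Fintype.ofFinite G
  let B := FixedPoints.subring R G
  let R' := FixedPoints.subring R H
  haveI : Algebra.IsIntegral B R := inferInstance
  -- `R'` is noetherian and `R` finite over it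
  letI : Algebra B R' := (Subring.inclusion hle).toAlgebra
  haveI : IsScalarTower B R' R := IsScalarTower.of_algebraMap_eq fun x => rfl
  haveI : Module.Finite R' R := Module.Finite.of_restrictScalars_finite B R' R
  let ι : R' →ₗ[B] R :=
    { toFun := fun x => (x : R), map_add' := fun _ _ => rfl
      map_smul' := fun b x => rfl }
  haveI : IsNoetherian B R' := isNoetherian_of_injective ι Subtype.val_injective
  haveI : IsNoetherianRing R' := isNoetherian_of_tower B inferInstance
  haveI : IsNoetherianRing R := IsNoetherianRing.of_finite B R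
  obtain ⟨c, hcH, hcq, hc⟩ := exists_separating H q hD (incomp q)
  -- `g • c` is in the radical of `q' R` for `g ∉ H`
  let J : Ideal R := q'.map (algebraMap R' R)
  have hrad : ∀ g : G, g ∉ H → g • c ∈ J.radical := by
    intro g hg
    rw [Ideal.radical_eq_sInf, Submodule.mem_sInf]
    rintro (P : Ideal R) ⟨hJP, hP⟩
    haveI : P.IsPrime := hP
    haveI : Algebra.IsIntegral R' R := inferInstance
    obtain ⟨Q, hqQ, hQ, hQP⟩ := Ideal.exists_ideal_over_prime_of_isIntegral (R := R') (Ideal.comap (algebraMap R' R) P) q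
      (fun x hx => hJP (Ideal.mem_map_of_mem _ hx))
    haveI := hQ
    haveI : Algebra.IsInvariant R' R H := ⟨fun r hr => ⟨⟨r, hr⟩, rfl⟩⟩
    haveI : SMulCommClass H R' R := ⟨fun h a r => by
      show (h : G) • ((a : R) * r) = (a : R) * ((h : G) • r)
      rw [smul_mul']
      exact congrArg (· * _) (a.2 h)⟩
    obtain ⟨h, hh⟩ := Algebra.IsInvariant.exists_smul_of_under_eq R' R H Q P hQP
    rw [hh]
    refine Ideal.map_mono (f := MulSemiringAction.toRingHom H R h) hqQ (?_ : g • c ∈ (h : G) • q)
    rw [Ideal.mem_pointwise_smul_iff_inv_smul_mem, smul_smul, ← Ideal.mem_inv_pointwise_smul_iff]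
    exact hc _ fun hmem => hg (by simpa [mul_assoc] using H.mul_mem h.2 (H.inv_mem hmem))
  obtain ⟨k, hk⟩ := Ideal.exists_radical_pow_le_of_fg J J.radical.fg_of_isNoetherianRing
  have hgc : ∀ g : G, g ∉ H → ∀ M : ℕ, g • c ^ (k * M) ∈ J ^ M := fun g hg M => by
    rw [smul_pow', pow_mul]
    exact Ideal.pow_mem_pow (hk (Ideal.pow_mem_pow (hrad g hg) k)) M
  -- Artin–Rees
  obtain ⟨k₀, hk₀⟩ := Ideal.exists_pow_inf_eq_pow_smul (I := q') (M := R) (Submodule.map (Algebra.linearMap R' R) ⊤)
  have hAR : ∀ (m : ℕ) (z : R'), (z : R) ∈ J ^ (m + k₀) → z ∈ q' ^ m := fun m z hz => by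
    have h1 : (z : R) ∈ q' ^ (m + k₀) • (⊤ : Submodule R' R) ⊓ Submodule.map (Algebra.linearMap R' R) ⊤ := by
      refine ⟨?_, z, trivial, rfl⟩
      rw [Ideal.smul_top_eq_map, Ideal.map_pow]
      exact hz
    rw [hk₀ _ (Nat.le_add_left _ _), Nat.add_sub_cancel] at h1
    have h2 : (z : R) ∈ Submodule.map (Algebra.linearMap R' R) (q' ^ m • ⊤) := by
      rw [Submodule.map_smul'']
      exact Submodule.smul_mono le_rfl inf_le_right h1
    obtain ⟨w, hw, e⟩ := h2
    rw [smul_eq_mul, Ideal.mul_top] at hw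
    exact (Subtype.ext e : w = z) ▸ hw
  -- approximation by invariants
  have happrox : ∀ (m : ℕ) (r : R'), ∃ t : B,
      Subring.inclusion hle t - ⟨c, hcH⟩ ^ (k * (m + k₀)) * r ∈ q' ^ m := fun m r => by
    have hcr : c ^ (k * (m + k₀)) * (r : R) ∈ FixedPoints.subring R H := mul_mem (pow_mem hcH _) r.2
    refine ⟨⟨trace H _, trace_mem H _ hcr⟩, hAR m _ (trace_sub_mem H _ hcr _ fun g hg => ?_)⟩
    rw [smul_mul']
    exact Ideal.mul_mem_right _ _ (hgc g hg _)
  let L := Localization.AtPrime q'
  let m' := IsLocalRing.maximalIdeal L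
  have hq'map : q'.map (algebraMap R' L) = m' := Localization.AtPrime.map_eq_maximalIdeal
  have hcu : ∀ j, (⟨c, hcH⟩ : R') ^ j ∈ q'.primeCompl := fun j hj =>
    hcq ((inferInstance : q'.IsPrime).mem_of_pow_mem j hj)
  let p := Ideal.comap (Subring.inclusion hle) q'
  have hsurj : ∀ (m : ℕ) (z : L), ∃ y, φ y - z ∈ m' ^ m := by
    intro m z
    rcases Nat.eq_zero_or_pos m with rfl | hm
    · exact ⟨0, by simp⟩
    obtain ⟨⟨r, s⟩, rfl⟩ := IsLocalization.mk'_surjective q'.primeCompl z
    obtain ⟨t, ht⟩ := happrox m r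
    obtain ⟨u, hu⟩ := happrox m s
    have hup : u ∈ p.primeCompl := fun hup => by
      have : (⟨c, hcH⟩ : R') ^ (k * (m + k₀)) * s ∈ q' := by
        simpa using Ideal.sub_mem _ (show Subring.inclusion hle u ∈ q' from hup) (Ideal.pow_le_self hm.ne' hu)
      rcases (inferInstance : q'.IsPrime).mem_or_mem this with h | h
      · exact hcu _ h
      · exact s.2 h
    refine ⟨IsLocalization.mk' _ t ⟨u, hup⟩, ?_⟩
    rw [Localization.localRingHom_mk', ← IsLocalization.mk'_sub]
    refine (IsLocalization.mk'_mem_iff (S := L) (M := q'.primeCompl)).2 ?_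
    rw [← hq'map, ← Ideal.map_pow]
    refine Ideal.mem_map_of_mem _ ?_
    have h2 := Ideal.sub_mem _ (Ideal.mul_mem_right (s : R') _ ht) (Ideal.mul_mem_right r _ hu)
    convert h2 using 1
    ring
  refine ⟨fun z => ?_, ?_⟩
  · obtain ⟨z, rfl⟩ := Ideal.Quotient.mk_surjective z
    obtain ⟨y, hy⟩ := hsurj n z
    exact ⟨y, Ideal.Quotient.eq.2 hy⟩
  haveI : IsLocalHom φ := Localization.isLocalHom_localRingHom _ _ _ _
  let mp := IsLocalRing.maximalIdeal (Localization.AtPrime p)
  have hmle : mp.map φ ≤ m' := ((IsLocalRing.local_hom_TFAE φ).out 0 2).1 ‹_›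
  have hmeq : mp.map φ = m' := by
    refine le_antisymm hmle (Submodule.le_of_le_smul_of_le_jacobson_bot (I := m') (IsNoetherian.noetherian _)
      (IsLocalRing.maximalIdeal_le_jacobson _) ?_)
    intro z hz
    obtain ⟨y, hy⟩ := hsurj 2 z
    have hym : y ∈ mp := fun hu => (show φ y ∈ m' from by
      simpa using Ideal.add_mem _ (Ideal.pow_le_self two_ne_zero hy) hz) (hu.map φ)
    rw [show z = φ y - (φ y - z) by ring]
    refine Submodule.sub_mem _ (Submodule.mem_sup_left (Ideal.mem_map_of_mem φ hym)) (Submodule.mem_sup_right ?_)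
    rw [smul_eq_mul, ← pow_two]
    exact hy
  refine le_antisymm (fun y hy => ?_) (Ideal.map_le_iff_le_comap.1 (by rw [Ideal.map_pow, hmeq]))
  rw [Ideal.mem_comap] at hy
  obtain ⟨⟨x, s⟩, rfl⟩ := IsLocalization.mk'_surjective p.primeCompl y
  rw [Localization.localRingHom_mk', IsLocalization.mk'_mem_iff, show IsLocalRing.maximalIdeal (Localization.AtPrime q') = mp.map φ from hmeq.symm,
    show mp = p.map (algebraMap B (Localization.AtPrime p)) from Localization.AtPrime.map_eq_maximalIdeal.symm,
    ← Ideal.map_pow, ← Ideal.map_pow, Ideal.map_map,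
    show φ.comp (algebraMap B (Localization.AtPrime p)) = (algebraMap R' L).comp (Subring.inclusion hle) from
      RingHom.ext fun b => Localization.localRingHom_to_map _ _ _ rfl b,
    ← Ideal.map_map, IsLocalization.algebraMap_mem_map_algebraMap_iff q'.primeCompl] at hy
  obtain ⟨w, hwc, hw⟩ := hy
  obtain ⟨t, ht⟩ := happrox 1 w
  rw [IsLocalization.mk'_mem_iff, ← Localization.AtPrime.map_eq_maximalIdeal, ← Ideal.map_pow,
    IsLocalization.algebraMap_mem_map_algebraMap_iff p.primeCompl]
  refine ⟨⟨trace H (c ^ (k * (1 + k₀)) * (w : R)), trace_mem H _ (mul_mem (pow_mem hcH _) w.2)⟩, ?_, ?_⟩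
  · intro hmem
    have h2 := trace_sub_mem H (c ^ (k * (1 + k₀)) * (w : R)) (mul_mem (pow_mem hcH _) w.2) (J ^ (1 + k₀)) fun g hg => by
      rw [smul_mul']
      exact Ideal.mul_mem_right _ _ (hgc g hg _)
    have h3 : (Subring.inclusion hle ⟨trace H (c ^ (k * (1 + k₀)) * (w : R)), trace_mem H _ (mul_mem (pow_mem hcH _) w.2)⟩ -
        ⟨c, hcH⟩ ^ (k * (1 + k₀)) * w : R') ∈ q' ^ 1 := hAR 1 _ h2
    rw [pow_one] at h3
    rcases (inferInstance : q'.IsPrime).mem_or_mem (show (⟨c, hcH⟩ : R') ^ (k * (1 + k₀)) * w ∈ q' by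
      simpa using Ideal.sub_mem _ (show Subring.inclusion hle _ ∈ q' from hmem) h3) with h | h
    · exact hcu _ h
    · exact hwc h
  -- the trace carries `(p R')^n` into `p^n`
  have hT : ∀ z : R', z ∈ (p ^ n).map (Subring.inclusion hle) →
      ∀ (j : ℕ), (⟨trace H (c ^ j * (z : R)), trace_mem H _ (mul_mem (pow_mem hcH _) z.2)⟩ : B) ∈ p ^ n := by
    intro z hz
    refine Submodule.span_induction ?_ ?_ ?_ ?_ hz (p := fun z _ =>
      ∀ (z' : R') (j : ℕ), (⟨trace H (c ^ j * ((z' * z : R') : R)), trace_mem H _ (mul_mem (pow_mem hcH _) (z' * z).2)⟩ : B) ∈ p ^ n)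
      |> fun h j => by simpa using h 1 j
    · rintro _ ⟨b, hb, rfl⟩ z' j
      convert Ideal.mul_mem_left (p ^ n) (⟨trace H (c ^ j * (z' : R)), trace_mem H _ (mul_mem (pow_mem hcH _) z'.2)⟩ : B)
        hb using 1
      refine Subtype.ext ?_
      show trace H (c ^ j * ((z' : R) * (b : R))) = trace H (c ^ j * (z' : R)) * (b : R)
      rw [← mul_assoc]
      exact trace_mul_invariant H _ _ b.2
    · intro z' j
      convert (p ^ n).zero_mem using 1
      refine Subtype.ext ?_
      show trace H (c ^ j * ((z' : R) * (0 : R))) = 0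
      simp [trace]
    · intro a b _ _ ha hb z' j
      convert (p ^ n).add_mem (ha z' j) (hb z' j) using 1
      refine Subtype.ext ?_
      show trace H (c ^ j * ((z' : R) * ((a : R) + (b : R)))) = _
      rw [mul_add, mul_add, trace_add]
      rfl
    · intro a b _ hb z' j
      have := hb (z' * a) j
      simpa [mul_assoc] using this
  convert hT _ hw (k * (1 + k₀)) using 1
  refine Subtype.ext ?_
  show trace H (c ^ (k * (1 + k₀)) * (w : R)) * (x : R) = trace H (c ^ (k * (1 + k₀)) * ((w : R) * (x : R)))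
  rw [← mul_assoc]
  exact (trace_mul_invariant H _ _ x.2).symm

end Groth.Agent.S6017
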