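import Groth.Statements.S6019
import Mathlib.CategoryTheory.FiberedCategory.Fibered

set_option autoImplicit false
open CategoryTheory
universe v₁ v₂ u₁ u₂
open FibCat FibCat.Cleavage

namespace Groth.Agent.S6019

set_option backward.isDefEq.respectTransparency false
set_option backward.isDefEq.respectTransparency.types false
open Functor in
theorem exists_lift' {𝒮 : Type u₁} {𝒳 : Type u₂} [Category.{v₁} 𝒮] [Category.{v₂} 𝒳]
    (p : 𝒳 ⥤ 𝒮) [p.IsPreFibered] (R S : 𝒮) (a : 𝒳) (ha : p.obj a = S) (f : R ⟶ S) :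
    ∃ (b : 𝒳) (φ : b ⟶ a), p.IsCartesian f φ ∧
      ∀ h : R = S, f = eqToHom h → ∃ e : b = a, φ = eqToHom e := by
  by_cases hf : ∃ h : R = S, f = eqToHom h
  · obtain ⟨rfl, rfl⟩ := hf
    have : p.IsHomLift (𝟙 R) (𝟙 a) := IsHomLift.id ha
    have : p.IsStronglyCartesian (eqToHom (rfl : R = R)) (𝟙 a) := by
      rw [eqToHom_refl]; exact IsStronglyCartesian.of_isIso p (𝟙 R) (𝟙 a)
    exact ⟨a, 𝟙 a, inferInstance, fun _ _ => ⟨rfl, rfl⟩⟩
  · exact ⟨_, IsPreFibered.pullbackMap ha f, inferInstance, fun h e => absurd ⟨h, e⟩ hf⟩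

/-- A pre-fibred category admits a normalised cleavage: if every base morphism `R ⟶ p(a)` has a
cartesian morphism over it with target `a`, then one cartesian lift can be chosen for every base
morphism at every object over its target in such a way that the chosen lift of each identity `𝟙 S`
at each object `a` over `S` is the identity of `a` (identities are transport morphisms). -/
theorem result (𝒮 : Type u₁) (𝒳 : Type u₂) [Category.{v₁} 𝒮] [Category.{v₂} 𝒳]
    (p : 𝒳 ⥤ 𝒮) [p.IsPreFibered] : ∃ K : FibCat.Cleavage p, K.IsNormalised := by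
  choose b φ h₁ h₂ using exists_lift' p
  exact ⟨{ obj := fun {R S a} ha f => b R S a ha f, lift := fun {R S a} ha f => φ R S a ha f,
           isCartesian := fun {R S a} ha f => h₁ R S a ha f },
    fun S a ha => h₂ S S a ha (𝟙 S) rfl (eqToHom_refl _ _).symm⟩

end Groth.Agent.S6019
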