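import Groth.Statements.S6020
import Mathlib
import Groth.Agent.LocZLib.Flasque


set_option autoImplicit false
universe u
open CategoryTheory CategoryTheory.Limits TopologicalSpace
open LocCohZ

namespace Groth.Agent.S6020

/-- Consider a topological space X carrying a sheaf F of abelian groups, an open subset U whose
complement is the closed set Z, and a natural number N. The local cohomology sheaves ℋ^i_Z(F) are
zero for all i ≤ N exactly when, for each open V of X, restricting H^i(V, F) → H^i(V ∩ U, F) gives a
bijection whenever i < N and an injection when i = N. -/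
theorem result {X : TopCat.{u}} (F : CohTop.Ab X) (U : Opens X) (N : ℕ) :
    (∀ i : ℕ, i ≤ N → IsZero ((LocCohZ.HZsh U i).obj F)) ↔
      ∀ V : Opens X, (∀ i : ℕ, i < N → Function.Bijective (CohTop.res F i (inf_le_left : V ⊓ U ≤ V))) ∧
        Function.Injective (CohTop.res F N (inf_le_left : V ⊓ U ≤ V)) := by
  have key := LocZLib.isZero_HZsh_lt_iff U (N + 1) F
  refine ⟨fun h V => ?_, fun h i hi => key.mpr (fun V i hi => ?_) i (by omega)⟩
  · have hz := key.mp (fun i hi => h i (by omega)) V
    have hinj : ∀ i, i < N + 1 → Function.Injective (CohTop.res F i (inf_le_left : V ⊓ U ≤ V)) := fun i hi => by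
      cases i with
      | zero => exact (LocZLib.injective_res_zero_iff F _).mp (hz 0 hi)
      | succ j => exact ((LocZLib.subsingleton_HZ_succ_iff F j _).mp (hz (j + 1) hi)).2
    exact ⟨fun i hi => ⟨hinj i (by omega), ((LocZLib.subsingleton_HZ_succ_iff F i _).mp (hz (i + 1) (by omega))).1⟩,
      hinj N (by omega)⟩
  · cases i with
    | zero =>
      refine (LocZLib.injective_res_zero_iff F _).mpr ?_
      rcases Nat.eq_zero_or_pos N with rfl | hN
      · exact (h V).2
      · exact ((h V).1 0 hN).1
    | succ j =>
      refine (LocZLib.subsingleton_HZ_succ_iff F j _).mpr ⟨((h V).1 j (by omega)).2, ?_⟩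
      rcases Nat.lt_or_ge (j + 1) N with hlt | hge
      · exact ((h V).1 (j + 1) hlt).1
      · obtain rfl : j + 1 = N := by omega
        exact (h V).2

end Groth.Agent.S6020
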