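import Groth.Statements.S6021
import Mathlib
import Groth.Agent.LocZLib.Flasque


set_option autoImplicit false
universe u
open CategoryTheory CategoryTheory.Limits TopologicalSpace
open LocCohZ

namespace Groth.Agent.S6021

/-- Consider a topological space X carrying an abelian sheaf F, a closed subset Z whose open complement
is U, and a natural number N > 0. Assume that, for each open V of X and each i < N, restricting
H^i(V, F) → H^i(V ∩ U, F) gives a bijection. Then ℋ^i_Z(F), the local cohomology sheaves, are zero
for every i ≤ N (no separate injectivity hypothesis in degree N is needed, since it follows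
automatically). -/
theorem result {X : TopCat.{u}} (F : CohTop.Ab X) (U : Opens X) (N : ℕ) (hN : 0 < N)
    (h : ∀ (V : Opens X) (i : ℕ), i < N → Function.Bijective (CohTop.res F i (inf_le_left : V ⊓ U ≤ V))) :
    ∀ i : ℕ, i ≤ N → IsZero ((LocCohZ.HZsh U i).obj F) := by
  obtain ⟨M, rfl⟩ : ∃ M, N = M + 1 := ⟨N - 1, by omega⟩
  have hz : ∀ (V : Opens X) (i : ℕ), i < M + 1 → Subsingleton (LocCohZ.HZ F i (inf_le_left : V ⊓ U ≤ V)) := fun V i hi => by
    cases i with
    | zero => exact (LocZLib.injective_res_zero_iff F _).mpr (h V 0 hi).1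
    | succ j => exact (LocZLib.subsingleton_HZ_succ_iff F j _).mpr ⟨(h V j (by omega)).2, (h V (j + 1) hi).1⟩
  intro i hi
  rcases Nat.lt_or_ge i (M + 1) with hlt | hge
  · exact (LocZLib.isZero_HZsh_lt_iff U (M + 1) F).mpr hz i hlt
  · obtain rfl : i = M + 1 := by omega
    exact LocZLib.isZero_HZsh_succ_of_surjective U M F hz fun V => (h V M (by omega)).2

end Groth.Agent.S6021
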