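import Groth.Statements.S6024
import Mathlib
import Groth.Agent.LocZLib.Flasque


set_option autoImplicit false
universe u
open CategoryTheory CategoryTheory.Limits TopologicalSpace
open LocCohZ

namespace Groth.Agent.S6024

/-- Consider a topological space X carrying a sheaf of abelian groups F, and assume that H^1_Z(X, F)
vanishes for each closed subset Z of X (writing Z = X − U with U open). Under this assumption, F is
flasque. -/
theorem result {X : TopCat.{u}} (F : CohTop.Ab X)
    (h : ∀ U : Opens X, Subsingleton (LocCohZ.HZc F 1 U)) : TopCat.Sheaf.IsFlasque F := by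
  refine LocZLib.isFlasque_of_surjective F fun {W V} hWV s => ?_
  obtain ⟨a, rfl⟩ := (LocZLib.surjective_res_zero_iff F (le_top : W ≤ ⊤)).mp
    ((LocZLib.subsingleton_HZ_succ_iff F 0 (le_top : W ≤ ⊤)).mp (h W)).1 s
  exact ⟨F.obj.map (homOfLE (le_top : V ≤ ⊤)).op a, (ConcreteCategory.congr_hom (F.obj.map_comp _ _) a).symm⟩

end Groth.Agent.S6024
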