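import Groth.Statements.S6028
import Mathlib


set_option autoImplicit false
universe u
open CategoryTheory CategoryTheory.Limits TopologicalSpace
open LocCohZ

namespace Groth.Agent.S6028

/-- Let X be a topological space and W ⊆ V ⊆ T opens of X; put Z = T − W, Z' = T − V and Z'' = V − W, so
that Z' is closed in Z with complement Z''. Then 0 → ℤ_{Z'',X} → ℤ_{Z,X} → ℤ_{Z',X} → 0 is a short
exact sequence of abelian sheaves on X, where ℤ_{Z,X} = ℤ_T/ℤ_W and the maps are the induced ones. -/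
theorem result {X : TopCat.{u}} {W V T : Opens X} (hWV : W ≤ V) (hVT : V ≤ T) :
    ∃ w : LocCohZ.zqMap (hWV.trans hVT) hWV le_rfl hVT ≫ LocCohZ.zqMap hVT (hWV.trans hVT) hWV le_rfl = 0,
      (ShortComplex.mk _ _ w).ShortExact := by
  let J := Opens.grothendieckTopology X
  let i₁ := CohCx.freeSheafMap J (homOfLE hWV)
  let i₂ := CohCx.freeSheafMap J (homOfLE hVT)
  let i₃ := CohCx.freeSheafMap J (homOfLE (hWV.trans hVT))
  have h₃ : i₃ = i₁ ≫ i₂ := by rw [← CohFree.freeSheafMap_comp]; rfl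
  have hid : ∀ {A : Opens X}, CohCx.freeSheafMap J (homOfLE (le_refl A)) = 𝟙 _ := fun {A} => CohFree.freeSheafMap_id J A
  have hπ₁ : cokernel.π i₁ ≫ LocCohZ.zqMap (hWV.trans hVT) hWV le_rfl hVT = i₂ ≫ cokernel.π i₃ := cokernel.π_desc _ _ _
  have hπ₂ : cokernel.π i₃ ≫ LocCohZ.zqMap hVT (hWV.trans hVT) hWV le_rfl = cokernel.π i₂ :=
    (cokernel.π_desc _ _ _).trans (by rw [hid, Category.id_comp])
  have w : LocCohZ.zqMap (hWV.trans hVT) hWV le_rfl hVT ≫ LocCohZ.zqMap hVT (hWV.trans hVT) hWV le_rfl = 0 := by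
    rw [← cancel_epi (cokernel.π i₁), ← Category.assoc, hπ₁, Category.assoc, hπ₂, cokernel.condition, comp_zero]
  haveI hi₂ : Mono i₂ := (LocCohZ.zqSeq_shortExact hVT).mono_f
  refine ⟨w, ?_⟩
  haveI hm : Mono (LocCohZ.zqMap (hWV.trans hVT) hWV le_rfl hVT) := by
    rw [Preadditive.mono_iff_cancel_zero]
    intro A z hz
    obtain ⟨A', p, hp, y, hy⟩ := surjective_up_to_refinements_of_epi (cokernel.π i₁) z
    have h0 : (y ≫ i₂) ≫ cokernel.π i₃ = 0 := by
      rw [Category.assoc, ← hπ₁, ← Category.assoc, ← hy, Category.assoc, hz, comp_zero]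
    obtain ⟨A'', p', hp', a, ha⟩ := (LocCohZ.zqSeq_shortExact (hWV.trans hVT)).exact.exact_up_to_refinements (y ≫ i₂) h0
    change p' ≫ y ≫ i₂ = a ≫ i₃ at ha
    rw [h₃] at ha
    have ha' : p' ≫ y = a ≫ i₁ :=
      (cancel_mono i₂).mp ((Category.assoc _ _ _).trans (ha.trans (Category.assoc _ _ _).symm))
    haveI := hp
    haveI := hp'
    rw [← cancel_epi (p' ≫ p), comp_zero, Category.assoc, hy]
    exact (Category.assoc _ _ _).symm.trans ((congrArg (· ≫ cokernel.π i₁) ha').trans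
      ((Category.assoc _ _ _).trans ((congrArg (a ≫ ·) (cokernel.condition i₁)).trans comp_zero)))
  haveI : Epi (LocCohZ.zqMap hVT (hWV.trans hVT) hWV le_rfl) := by
    haveI : Epi (cokernel.π i₃ ≫ LocCohZ.zqMap hVT (hWV.trans hVT) hWV le_rfl) := by rw [hπ₂]; infer_instance
    exact epi_of_epi (cokernel.π i₃) _
  exact
    { exact := by
        refine ShortComplex.exact_of_g_is_cokernel _ (CokernelCofork.IsColimit.ofπ' _ _ fun {Z} g hg => ?_)
        have h0 : i₂ ≫ cokernel.π i₃ ≫ g = 0 := by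
          rw [← Category.assoc, ← hπ₁, Category.assoc, hg, comp_zero]
        refine ⟨cokernel.desc i₂ _ h0, ?_⟩
        rw [← cancel_epi (cokernel.π i₃), ← Category.assoc]
        exact (congrArg (· ≫ cokernel.desc i₂ _ h0) hπ₂).trans (cokernel.π_desc _ _ _)
      mono_f := hm
      epi_g := this }

end Groth.Agent.S6028
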