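import Groth.Statements.S6029
import Mathlib
import Groth.Agent.LocZLib.SpecSeq


set_option autoImplicit false
universe u
open CategoryTheory CategoryTheory.Limits TopologicalSpace
open LocCohZ

namespace Groth.Agent.S6029

/-- For a closed subset Z = X − U of a topological space X and an abelian sheaf F on X: there is an E₂
spectral sequence of abelian groups with E₂^{p,q} ≅ H^p(X, ℋ^q_Z(F)) for p, q ≥ 0 (and 0 otherwise),
bounded, abutting with finite filtrations to H^n_Z(X, F) (n ≥ 0; 0 for n < 0). (Existence only: the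
E₂ identifications and the abutment isomorphisms are some isomorphisms, not the canonical maps of a
construction, so edge maps and low-degree exact sequences are not part of this statement.) -/
theorem result {X : TopCat.{u}} (F : CohTop.Ab X) (U : Opens X) :
    ∃ (E : E₂CohomologicalSpectralSequence AddCommGrpCat.{u})
      (a : SpSeq.Abutment E (fun n : ℤ =>
        if 0 ≤ n then AddCommGrpCat.of (LocCohZ.HZc F n.toNat U) else AddCommGrpCat.of PUnit.{u + 1})),
      (∀ n : ℤ, a.IsFinite n) ∧ SpSeq.IsBounded E ∧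
      ∀ p q : ℤ, Nonempty ((E.page 2 le_rfl).X (p, q) ≅
        (if 0 ≤ p ∧ 0 ≤ q then AddCommGrpCat.of (CohTop.HU ((LocCohZ.HZsh U q.toNat).obj F) p.toNat ⊤)
          else AddCommGrpCat.of PUnit.{u + 1})) := by
  refine SpSeqLib.exists_grothendieck (LocCohZ.sectSuppF U)
    (preadditiveCoyoneda.obj (Opposite.op (CohCx.freeSheaf (Opens.grothendieckTopology X) (⊤ : Opens X))))
    (fun Q hQ p => ?_) F (fun n => ?_) (fun n hn => LocZLib.isZero_ite_neg (by omega) _)
    (fun p q => ?_) (fun p q hpq => LocZLib.isZero_ite_neg (by omega) _)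
  · haveI := hQ
    obtain ⟨e⟩ := SpSeqLib.nonempty_rightDerived_coyoneda_iso
      (CohCx.freeSheaf (Opens.grothendieckTopology X) (⊤ : Opens X)) ((LocCohZ.sectSuppF U).obj Q) (p + 1)
    refine IsZero.of_iso ?_ e
    haveI := LocZLib.isFlasque_sectSupp U Q
    haveI : Subsingleton (Abelian.Ext.{u} (CohCx.freeSheaf (Opens.grothendieckTopology X) (⊤ : Opens X)) ((LocCohZ.sectSuppF U).obj Q) (p + 1)) :=
      LocZLib.subsingleton_HU_flasque ⊤ p ((LocCohZ.sectSuppF U).obj Q)
    exact AddCommGrpCat.isZero_of_subsingleton _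
  · obtain ⟨e⟩ := SpSeqLib.nonempty_rightDerived_iso_ext
      (LocCohZ.zq (le_top : U ≤ ⊤)) (LocZLib.suppHomIso U) F n
    exact ⟨e ≪≫ eqToIso (Eq.symm (if_pos (Int.natCast_nonneg n)))⟩
  · obtain ⟨e⟩ := SpSeqLib.nonempty_rightDerived_coyoneda_iso
      (CohCx.freeSheaf (Opens.grothendieckTopology X) (⊤ : Opens X)) (((LocCohZ.sectSuppF U).rightDerived q).obj F) p
    exact ⟨e ≪≫ eqToIso (Eq.symm (if_pos ⟨Int.natCast_nonneg p, Int.natCast_nonneg q⟩))⟩

end Groth.Agent.S6029
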