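import Groth.Statements.S6036
import Groth.Agent.CechOpenLib.SuppInjective

set_option autoImplicit false
universe u
open CategoryTheory CategoryTheory.Limits TopologicalSpace
open LocCohZ

namespace Groth.Agent.S6036

open CategoryTheory CategoryTheory.Limits AlgebraicGeometry

universe v w z u₁

theorem exists_lift {X : TopCat.{u₁}} (U : TopologicalSpace.Opens X)
    (G : CohTop.Ab (TopCat.of ((U : Set X)ᶜ : Set X))) (F : CohTop.Ab X)
    (φ : (CohTop.push (CohCx.inclCompl U)).obj G ⟶ F) :
    ∃ φ', φ' ≫ (Groth.Agent.LocZLib.suppι U).app F = φ :=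
  ⟨kernel.lift _ φ (Groth.Agent.CechOpenLib.comp_unit_eq_zero U G φ), kernel.lift_ι _ _ _⟩

open Groth.Agent.LocZLib in
theorem _root_.Groth.Agent.LocZLib.mono_suppι {X : TopCat.{u₁}} (U : TopologicalSpace.Opens X) (F : CohTop.Ab X) :
    Mono ((suppι U).app F) := inferInstanceAs (Mono (kernel.ι ((outsideUnit U).app F)))

/-- A reflective subcategory which is also coreflective through a subfunctor of the identity. -/
theorem nonempty_adjunction {C : Type v} [Category.{w} C] {D : Type z} [Category.{w} D] {L : C ⥤ D} {R : D ⥤ C}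
    (ad : L ⊣ R) [∀ G, IsIso (ad.counit.app G)] {T : C ⥤ C} (ι : T ⟶ 𝟭 C) (hmono : ∀ F, Mono (ι.app F))
    (hlift : ∀ G F (φ : R.obj G ⟶ F), ∃ φ' : R.obj G ⟶ T.obj F, φ' ≫ ι.app F = φ)
    [∀ F, IsIso (ad.unit.app (T.obj F))] : Nonempty (R ⊣ T ⋙ L) := by
  choose lft hl using hlift
  refine ⟨Adjunction.mkOfHomEquiv
    { homEquiv := fun G F =>
        { toFun := fun φ => inv (ad.counit.app G) ≫ L.map (lft G F φ)
          invFun := fun ψ => R.map ψ ≫ inv (ad.unit.app (T.obj F)) ≫ ι.app F
          left_inv := fun φ => ?_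
          right_inv := fun ψ => ?_ }
      homEquiv_naturality_left_symm := fun g ψ => ?_
      homEquiv_naturality_right := fun {G F F'} φ f => ?_ }⟩
  · dsimp only
    have ht : R.map (inv (ad.counit.app G)) = ad.unit.app (R.obj G) := by
      rw [Functor.map_inv]
      exact IsIso.inv_eq_of_inv_hom_id (ad.right_triangle_components G)
    rw [Functor.map_comp, ht, Category.assoc]
    erw [← ad.unit.naturality_assoc (lft G F φ)]
    simp [hl]
  · dsimp only
    have e : lft G F (R.map ψ ≫ inv (ad.unit.app (T.obj F)) ≫ ι.app F) = R.map ψ ≫ inv (ad.unit.app (T.obj F)) := by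
      haveI := hmono F
      rw [← cancel_mono (ι.app F), hl, Category.assoc]
    rw [e, IsIso.inv_comp_eq, Functor.map_comp, Functor.map_inv, IsIso.comp_inv_eq]
    have h1 : ad.counit.app G ≫ ψ = L.map (R.map ψ) ≫ ad.counit.app (L.obj (T.obj F)) :=
      (ad.counit.naturality ψ).symm
    have h2 := ad.left_triangle_components (T.obj F)
    haveI : IsIso (L.map (ad.unit.app (T.obj F))) := inferInstance
    have h3 : ad.counit.app (L.obj (T.obj F)) ≫ L.map (ad.unit.app (T.obj F)) = 𝟙 _ := by
      rw [← cancel_epi (L.map (ad.unit.app (T.obj F))), ← Category.assoc, h2]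
      exact (Category.id_comp _).trans (Category.comp_id _).symm
    rw [← Category.assoc] at *
    rw [h1, Category.assoc, h3]
    exact (Category.comp_id _).symm
  · simp only [Equiv.coe_fn_symm_mk, Functor.map_comp, Category.assoc]
  · simp only [Equiv.coe_fn_mk, Category.assoc, Functor.comp_map]
    rw [← L.map_comp]
    congr 2
    haveI := hmono F'
    rw [← cancel_mono (ι.app F'), hl, Category.assoc]
    erw [ι.naturality f]
    rw [← Category.assoc, hl]
    rfl

/-- For a closed subset. Let X be a topological space and Z a closed subset with open complement U and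
inclusion i : Z → X. Then i_* : (abelian sheaves on Z) → (abelian sheaves on X) is left adjoint to F
↦ i⁻¹ Γ_Z(F), the sheaf on Z of sections of F supported in Z: Hom(i_* G, F) ≅ Hom(G, i⁻¹ Γ_Z(F))
naturally in G and F. (Existence of an adjunction; for Z closed the extension by zero i_! is i_*.) -/
theorem result {X : TopCat.{u}} (U : Opens X) :
    Nonempty (CohTop.push (CohCx.inclCompl U) ⊣ LocCohZ.sectSuppF U ⋙ CohTop.pull (CohCx.inclCompl U)) := by
  let i := CohCx.inclCompl U
  let ad := TopCat.Sheaf.pullbackPushforwardAdjunction AddCommGrpCat.{u} i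
  haveI hc : ∀ G, IsIso (ad.counit.app G) := Groth.Agent.CechOpenLib.isIso_counit U
  haveI : (TopCat.Sheaf.pushforward AddCommGrpCat.{u} i).Faithful :=
    ⟨fun h => Groth.Agent.CechOpenLib.push_map_injective U h⟩
  haveI : (TopCat.Sheaf.pushforward AddCommGrpCat.{u} i).Full :=
    ⟨fun φ => Groth.Agent.CechOpenLib.push_map_surjective U φ⟩
  haveI hη : ∀ F : CohTop.Ab X, IsIso (ad.unit.app ((LocCohZ.sectSuppF U).obj F)) := fun F =>
    haveI := Groth.Agent.CechOpenLib.isIso_traceHom U F
    ad.isIso_unit_app_of_iso (asIso (Groth.Agent.CechOpenLib.traceHom U F)).symm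
  exact nonempty_adjunction ad (Groth.Agent.LocZLib.suppι U) (fun F => Groth.Agent.LocZLib.mono_suppι U F)
    (exists_lift U)


end Groth.Agent.S6036
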