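import Groth.Statements.S6037
import Mathlib
import Groth.Agent.LocZLib.SpecSeq


set_option autoImplicit false
universe u
open CategoryTheory CategoryTheory.Limits TopologicalSpace
open LocCohZ

namespace Groth.Agent.S6037

/-- Let f : X → Y be a continuous map of topological spaces, Y' a closed subset of Y with open
complement V, X' = f⁻¹(Y') and F an abelian sheaf on X. There is an E₂ spectral sequence of abelian
groups with E₂^{p,q} ≅ H^p_{Y'}(Y, R^q f_* F) for p, q ≥ 0 (0 otherwise), bounded, abutting with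
finite filtrations to H^n_{X'}(X, F). (The published statement is for a morphism of ringed spaces
and records module structures over the global sections of O_Y; here only abelian groups. Existence
only: the E₂ identifications and abutment isomorphisms are some isomorphisms, not the canonical
ones.) -/
theorem result {X Y : TopCat.{u}} (f : X ⟶ Y)
    (V : Opens Y) (F : CohTop.Ab X) :
    ∃ (E : E₂CohomologicalSpectralSequence AddCommGrpCat.{u})
      (a : SpSeq.Abutment E (fun n : ℤ =>
        if 0 ≤ n then AddCommGrpCat.of (LocCohZ.HZc F n.toNat ((Opens.map f).obj V))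
          else AddCommGrpCat.of PUnit.{u + 1})),
      (∀ n : ℤ, a.IsFinite n) ∧ SpSeq.IsBounded E ∧
      ∀ p q : ℤ, Nonempty ((E.page 2 le_rfl).X (p, q) ≅
        (if 0 ≤ p ∧ 0 ≤ q then AddCommGrpCat.of (LocCohZ.HZc ((CohTop.Rpush f q.toNat).obj F) p.toNat V)
          else AddCommGrpCat.of PUnit.{u + 1})) := by
  refine SpSeqLib.exists_grothendieck (CohTop.push f)
    (preadditiveCoyoneda.obj (Opposite.op (LocCohZ.zq (le_top : V ≤ ⊤))))
    (fun Q hQ p => ?_) F (fun n => ?_) (fun n hn => LocZLib.isZero_ite_neg (by omega) _)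
    (fun p q => ?_) (fun p q hpq => LocZLib.isZero_ite_neg (by omega) _)
  · haveI := hQ
    obtain ⟨e⟩ := SpSeqLib.nonempty_rightDerived_coyoneda_iso
      (LocCohZ.zq (le_top : V ≤ ⊤)) ((CohTop.push f).obj Q) (p + 1)
    refine IsZero.of_iso ?_ e
    haveI := LocZLib.isFlasque_injective Q
    haveI : TopCat.Sheaf.IsFlasque ((CohTop.push f).obj Q) := TopCat.Presheaf.IsFlasque.pushforward_isFlasque Q.obj f
    haveI : Subsingleton (Abelian.Ext.{u} (LocCohZ.zq (le_top : V ≤ ⊤)) ((CohTop.push f).obj Q) (p + 1)) :=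
      LocZLib.subsingleton_HZ_flasque ((CohTop.push f).obj Q) (le_top : V ≤ ⊤) p
    exact AddCommGrpCat.isZero_of_subsingleton _
  · obtain ⟨e⟩ := SpSeqLib.nonempty_rightDerived_iso_ext
      (LocCohZ.zq (le_top : (Opens.map f).obj V ≤ ⊤)) (LocZLib.pushHomIso f V) F n
    exact ⟨e ≪≫ eqToIso (Eq.symm (if_pos (Int.natCast_nonneg n)))⟩
  · obtain ⟨e⟩ := SpSeqLib.nonempty_rightDerived_coyoneda_iso
      (LocCohZ.zq (le_top : V ≤ ⊤)) (((CohTop.push f).rightDerived q).obj F) p
    exact ⟨e ≪≫ eqToIso (Eq.symm (if_pos ⟨Int.natCast_nonneg p, Int.natCast_nonneg q⟩))⟩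

end Groth.Agent.S6037
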