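import Groth.Statements.S6038
import Groth.Agent.LocZLib.Basis
import Groth.Agent.LocZLib.DepthCrit
import Groth.Agent.S11625

set_option autoImplicit false
universe u
open CategoryTheory CategoryTheory.Limits TopologicalSpace AlgebraicGeometry
open LocCohZ

namespace Groth.Agent.S6038

open CategoryTheory CategoryTheory.Limits AlgebraicGeometry

theorem subsingleton_HZ_of_dim {X : Scheme.{u}} [IsLocallyNoetherian X] (U : X.Opens) (G : X.Modules) (hG : Coh.IsCoh G)
    (i : ℕ) (hi : ∀ x : X, x ∉ (U : Set X) → ringKrullDim (X.presheaf.stalk x) < (i : WithBot ℕ∞))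
    {V : X.Opens} (hV : IsAffineOpen V) :
    Subsingleton (LocCohZ.HZ (X := X.carrier) (Coh.toAb G) i (inf_le_left : V ⊓ U ≤ V)) := by
  have hWV : V.ι ''ᵁ ⊤ = V := V.ι_image_top
  have hW : IsAffineOpen (V.ι ''ᵁ ⊤) := by rw [hWV]; exact hV
  haveI : IsNoetherianRing Γ(X, V.ι ''ᵁ ⊤) := IsLocallyNoetherian.component_noetherian ⟨_, hW⟩
  obtain ⟨I, key, hmem⟩ := LocZLib.exists_ideal_subsingleton_HZ_iff U G hG hV hW
  rw [key i]
  refine LocCohLib.subsingleton_of_forall_local Γ(G, V.ι ''ᵁ ⊤) i I fun p hp => ?_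
  have hxW : hW.fromSpec p ∈ V.ι ''ᵁ ⊤ := by
    rw [← SetLike.mem_coe, ← hW.range_fromSpec]
    exact ⟨p, rfl⟩
  have hp' : hW.primeIdealOf ⟨hW.fromSpec p, hxW⟩ = p :=
    hW.fromSpec.isOpenEmbedding.injective (hW.fromSpec_primeIdealOf _)
  have hd := hi (hW.fromSpec p) ((hmem _ hxW).2 (by rw [hp']; exact hp))
  letI : Algebra Γ(X, V.ι ''ᵁ ⊤) (X.presheaf.stalk (hW.fromSpec p)) :=
    TopCat.Presheaf.algebra_section_stalk X.presheaf ⟨_, hxW⟩
  haveI : IsLocalization.AtPrime (X.presheaf.stalk (hW.fromSpec p)) p.asIdeal := by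
    have := hW.isLocalization_stalk ⟨_, hxW⟩
    rwa [hp'] at this
  haveI := IsLocalization.isNoetherianRing p.asIdeal.primeCompl (Localization.AtPrime p.asIdeal) inferInstance
  rw [ringKrullDim_eq_of_ringEquiv
    (IsLocalization.algEquiv p.asIdeal.primeCompl (X.presheaf.stalk (hW.fromSpec p))
      (Localization.AtPrime p.asIdeal)).toRingEquiv] at hd
  exact S11625.result _ _ (LocalizedModule p.asIdeal.primeCompl Γ(G, V.ι ''ᵁ ⊤)) i
    ((Module.supportDim_le_ringKrullDim _ _).trans_lt hd)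


/-- In the case F = O_X (where Ext^i_Y(O_X, G) is the local cohomology sheaf ℋ^i_Y(G)). Let X be a
locally Noetherian scheme whose local rings are all regular, Y a closed subset with open complement
U, G a coherent O_X-module with underlying abelian sheaf F, and i a natural number with dim O_{X,x}
< i for every x ∈ Y. Then ℋ^i_Y(F) = 0. -/
theorem result (X : Scheme.{u}) [IsLocallyNoetherian X]
    (hreg : ∀ x : X, IsRegularLocalRing (X.presheaf.stalk x)) (U : X.Opens) (G : X.Modules) (hG : Coh.IsCoh G)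
    (i : ℕ) (hi : ∀ x : X, x ∉ (U : Set X) → ringKrullDim (X.presheaf.stalk x) < (i : WithBot ℕ∞)) :
    IsZero ((LocCohZ.HZsh (X := X.carrier) U i).obj (Coh.toAb G)) := by
  cases i with
  | zero =>
    exact LocZLib.isZero_HZsh_zero_of_basis (X := X.carrier) X.isBasis_affineOpens (Coh.toAb G)
      fun V hV => subsingleton_HZ_of_dim U G hG 0 hi hV
  | succ p =>
    exact LocZLib.isZero_HZsh_succ_of_basis (X := X.carrier) X.isBasis_affineOpens (Coh.toAb G) p
      fun V hV => subsingleton_HZ_of_dim U G hG (p + 1) hi hV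


end Groth.Agent.S6038
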