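import Groth.Statements.S6041
import Mathlib
-- import your own Groth.Agent.* helpers here

set_option autoImplicit false
open CategoryTheory CategoryTheory.Limits AlgebraicGeometry MonoidalCategory
set_option backward.isDefEq.respectTransparency false
universe u
open GrpQ

namespace Groth.Agent.S6041

open Opposite
variable {S : Scheme.{u}}

/-- A map out of a representable sheaf is an element. -/
noncomputable def homEquivElt (V : Over S) (Q : QuotSh.Sh Scheme.fppfPrecoverage S) :
    (QuotSh.rep Scheme.fppfPrecoverage V ⟶ Q) ≃ Q.obj.obj (op V) :=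
  ((sheafificationAdjunction _ _).homEquiv _ _).trans uliftYonedaEquiv.{u + 1}

theorem homEquivElt_comp {V W : Over S} (g : W ⟶ V) (Q : QuotSh.Sh Scheme.fppfPrecoverage S)
    (f : QuotSh.rep Scheme.fppfPrecoverage V ⟶ Q) :
    homEquivElt W Q (QuotSh.repMap Scheme.fppfPrecoverage g ≫ f) = Q.obj.map g.op (homEquivElt V Q f) := by
  change uliftYonedaEquiv.{u + 1} ((sheafificationAdjunction _ _).homEquiv _ _ (_ ≫ f)) = _
  rw [Adjunction.homEquiv_naturality_left]
  exact (uliftYonedaEquiv_naturality ((sheafificationAdjunction _ _).homEquiv _ _ f) g.op).symm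

open CartesianMonoidalCategory in
/-- For schemes and the fppf topology, easy direction: let `s, t : R ⇉ U` be a pair of morphisms of
schemes over `S` (in the source an equivalence relation), `T` a scheme over `S` and `i : Z ⟶ U ×_S
T` such that `Z ⟶ T` is flat, surjective and locally of finite presentation and any two points of
`Z` over the same point of `T` have `R`-related images in `U`. Then the composite `h_Z ⟶ h_U ⟶ U/R`
descends to exactly one section of the fppf quotient sheaf `U/R` over `T`. -/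
theorem result {S : Scheme.{u}} {R U : Over S} (s t : R ⟶ U)
    (T Z : Over S) (i : Z ⟶ U ⊗ T)
    [Flat (i ≫ snd U T).left] [Surjective (i ≫ snd U T).left] [LocallyOfFinitePresentation (i ≫ snd U T).left]
    (hZZ : ∀ (T' : Over S) (z₁ z₂ : T' ⟶ Z), z₁ ≫ i ≫ snd U T = z₂ ≫ i ≫ snd U T →
      ∃ r : T' ⟶ R, r ≫ s = z₁ ≫ i ≫ fst U T ∧ r ≫ t = z₂ ≫ i ≫ fst U T) :
    ∃! σ : QuotSh.rep Scheme.fppfPrecoverage T ⟶ QuotSh.quot Scheme.fppfPrecoverage s t,
      QuotSh.repMap Scheme.fppfPrecoverage (i ≫ fst U T) ≫ QuotSh.quotπ Scheme.fppfPrecoverage s t =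
        QuotSh.repMap Scheme.fppfPrecoverage (i ≫ snd U T) ≫ σ := by
  let Q := QuotSh.quot Scheme.fppfPrecoverage s t
  let q : Z ⟶ T := i ≫ CartesianMonoidalCategory.snd U T
  let y := homEquivElt Z Q (QuotSh.repMap Scheme.fppfPrecoverage (i ≫ CartesianMonoidalCategory.fst U T) ≫ QuotSh.quotπ Scheme.fppfPrecoverage s t)
  have hcov : Sieve.generate (Presieve.singleton q) ∈ QuotSh.J Scheme.fppfPrecoverage S T := by
    rw [GrothendieckTopology.mem_over_iff]
    refine GrothendieckTopology.superset_covering _ ?_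
      (Precoverage.generate_mem_toGrothendieck (Scheme.Hom.singleton_mem_fppfPrecoverage q.left))
    rw [Sieve.generate_le_iff]
    rintro _ _ ⟨⟩
    exact (Sieve.overEquiv_iff _ _).mpr ⟨Z, Over.homMk (𝟙 _) (by simp), q, ⟨⟩, Over.OverMorphism.ext (Category.id_comp _)⟩
  have hQ := (isSheaf_iff_isSheaf_of_type _ _).mp Q.property
  have hsf : Presieve.IsSheafFor Q.obj (Presieve.singleton q) :=
    (Presieve.isSheafFor_iff_generate _).mpr (hQ _ hcov)
  rw [Presieve.isSheafFor_singleton] at hsf
  obtain ⟨x, hx, huniq⟩ := hsf y (fun {W} z₁ z₂ e => by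
    obtain ⟨r, h₁, h₂⟩ := hZZ W z₁ z₂ e
    refine ((homEquivElt_comp z₁ Q _).symm.trans ?_).trans (homEquivElt_comp z₂ Q _)
    congr 1
    rw [← Category.assoc, ← Category.assoc]
    have hf : ∀ z : W ⟶ Z, QuotSh.repMap Scheme.fppfPrecoverage z ≫ QuotSh.repMap Scheme.fppfPrecoverage (i ≫ CartesianMonoidalCategory.fst U T) =
        QuotSh.repMap Scheme.fppfPrecoverage (z ≫ i ≫ CartesianMonoidalCategory.fst U T) := fun z => by
      rw [← Functor.map_comp, ← Functor.whiskerRight_comp, ← yoneda.map_comp]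
    rw [hf, hf, ← h₁, ← h₂]
    have hc : ∀ (a b : W ⟶ U) (r : W ⟶ R) (c : R ⟶ U), r ≫ c = a →
        QuotSh.repMap Scheme.fppfPrecoverage a = QuotSh.repMap Scheme.fppfPrecoverage r ≫ QuotSh.repMap Scheme.fppfPrecoverage c := by
      intro a b r c h
      rw [← Functor.map_comp, ← Functor.whiskerRight_comp, ← yoneda.map_comp, h]
    rw [hc _ (r ≫ t) r s rfl, hc _ (r ≫ s) r t rfl, Category.assoc, Category.assoc, QuotSh.quot_condition])
  refine ⟨(homEquivElt T Q).symm x, ?_, fun σ hσ => ?_⟩
  · refine (homEquivElt Z Q).injective ?_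
    rw [homEquivElt_comp q Q, Equiv.apply_symm_apply]
    exact hx.symm
  · refine (homEquivElt T Q).eq_symm_apply.mpr (huniq _ ?_)
    change Q.obj.map q.op _ = y
    rw [← homEquivElt_comp q Q]
    exact congrArg (homEquivElt Z Q) hσ.symm

end Groth.Agent.S6041
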