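import Groth.Statements.S6043
import Groth.Agent.S10103
import Groth.Agent.ASp.FpqcSheaf
-- import your own Groth.Agent.* helpers here

set_option autoImplicit false
open CategoryTheory CategoryTheory.Limits AlgebraicGeometry MonoidalCategory
universe u
open GrpQ

namespace Groth.Agent.S6043

open CartesianMonoidalCategory in
/-- The comparison of topologies, for an equivalence relation of schemes over a base scheme `S` with
closed graph: let `s, t : R ⇉ U` be an equivalence relation of schemes over `S` with `s` flat,
surjective and locally of finite presentation and `(t, s) : R ⟶ U ×_S U` a closed immersion. Then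
the fppf quotient sheaf `U/R` on schemes over `S` satisfies the sheaf condition for the fpqc
topology. (The published statement takes `R ⟶ U` faithfully flat and quasi-compact and says that its
fpqc quotient sheaf is also the quotient for the canonical topology; this row takes `R ⟶ U` flat,
surjective and locally of finite presentation and says that the fppf quotient sheaf is already an
fpqc sheaf.) -/
theorem result {S : Scheme.{u}} {R U : Over S} (s t : R ⟶ U)
    [IsEquivalenceRelation s t]
    [Flat s.left] [Surjective s.left] [LocallyOfFinitePresentation s.left]
    (hc : IsClosedImmersion (lift t s).left) :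
    Presheaf.IsSheaf (QuotSh.J Scheme.fpqcPrecoverage S)
      (QuotSh.quot Scheme.fppfPrecoverage s t).obj := by
  obtain ⟨e⟩ := IsEquivalenceRelation.nonempty_equivalenceRelation (p₁ := s) (p₂ := t)
  have hσ : e.s ≫ e.s = 𝟙 R := e.right_cancellation _ _
    (by rw [Category.assoc, e.symmetry₁, e.symmetry₂, Category.id_comp])
    (by rw [Category.assoc, e.symmetry₂, e.symmetry₁, Category.id_comp])
  have h : AlgSp.IsEqvRel s t :=
    { injective := fun T r r' h1 h2 => e.right_cancellation r r' h2 h1
      equivalence := fun T =>
        { refl := fun a => ⟨a ≫ e.r, by rw [Category.assoc, e.reflexivity₂, Category.comp_id],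
            by rw [Category.assoc, e.reflexivity₁, Category.comp_id]⟩
          symm := fun {a b} ⟨r, h1, h2⟩ => ⟨r ≫ e.s, by rw [Category.assoc, e.symmetry₂, h2],
            by rw [Category.assoc, e.symmetry₁, h1]⟩
          trans := fun {a b c} ⟨r, h1, h2⟩ ⟨r', h3, h4⟩ => ⟨e.isLimit.lift (PullbackCone.mk r' r (by rw [h2, h3])) ≫ e.t,
            by
              rw [Category.assoc, e.transitivity₂, ← Category.assoc]
              exact (congrArg (· ≫ t) (e.isLimit.fac _ WalkingCospan.right)).trans h1,
            by
              rw [Category.assoc, e.transitivity₁, ← Category.assoc]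
              exact (congrArg (· ≫ s) (e.isLimit.fac _ WalkingCospan.left)).trans h4⟩ } }
  haveI : IsIso e.s := ⟨e.s, hσ, hσ⟩
  haveI : IsIso e.s.left := inferInstanceAs (IsIso ((Over.forget S).map e.s))
  have ht : t.left = e.s.left ≫ s.left := by rw [← Over.comp_left, e.symmetry₁]
  haveI : Flat t.left := ht ▸ inferInstance
  haveI : LocallyOfFinitePresentation t.left := ht ▸ inferInstance
  exact Groth.Agent.ASp.isSheaf_fpqc (S10103.result S s t h)

end Groth.Agent.S6043
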