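import Groth.Statements.S6047
import Groth.Agent.ShfQuotLib.Basic
import Groth.Agent.ShfQuotLib.Descend
import Mathlib.Tactic.Group

set_option autoImplicit false
open CategoryTheory CategoryTheory.Limits MonoidalCategory
universe w v₁ u₁
open ShfCat

namespace Groth.Agent.S6047

open MonObj CartesianMonoidalCategory SemiCartesianMonoidalCategory Groth.Agent.ShfQuotLib

set_option backward.isDefEq.respectTransparency false

open MonObj CartesianMonoidalCategory SemiCartesianMonoidalCategory in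
/-- Let `u : H ⟶ G` be a monomorphism of sheaves of groups on a site identifying `H` with a normal
subgroup sheaf of `G`. Then the quotient sheaf `G/H` (the coequalizer, in sheaves of sets, of the
projection and the multiplication `G × H ⇉ G`) carries exactly one structure of sheaf of groups for
which the canonical map `G ⟶ G/H` is a homomorphism. Stated for sheaves of sets valued in `Type w`
whenever sheafification exists; group sheaves are group objects for the cartesian monoidal
structure. -/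
theorem result {C : Type u₁} [Category.{v₁} C]
    (J : GrothendieckTopology C) [HasSheafify J (Type w)]
    {H G : Sheaf J (Type w)} [hH : GrpObj H] [hG : GrpObj G] (u : H ⟶ G) [Mono u]
    (hu : @IsMonHom (Sheaf J (Type w)) _ _ H G hH.toMonObj hG.toMonObj u)
    (hn : ∀ (Y : Sheaf J (Type w)) (g : Y ⟶ G) (h : Y ⟶ H), ∃ h' : Y ⟶ H, g * (h ≫ u) * g⁻¹ = h' ≫ u) :
    ∃! str : GrpObj (coequalizer (fst G H) ((G ◁ u) ≫ hG.mul)),
      @IsMonHom (Sheaf J (Type w)) _ _ G (coequalizer (fst G H) ((G ◁ u) ≫ hG.mul)) hG.toMonObj str.toMonObj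
        (coequalizer.π (fst G H) ((G ◁ u) ≫ hG.mul)) := by
  haveI := hu
  have cm : ∀ {W : Sheaf J (Type w)} (a : W ⟶ G ⊗ G), a ≫ μ = (a ≫ fst G G) * (a ≫ snd G G) :=
    fun a => by rw [Hom.mul_def, lift_comp_fst_snd]
  haveI := epi_tensorHom (qπ u) (qπ u)
  haveI := epi_tensorHom (qπ u ⊗ₘ qπ u) (qπ u)
  obtain ⟨m, hm⟩ := exists_desc (qπ u ⊗ₘ qπ u) (μ ≫ qπ u) (by
    intro W a b hab
    have h1 := hab =≫ fst _ _
    have h2 := hab =≫ snd _ _
    rw [Category.assoc, Category.assoc, tensorHom_fst, ← Category.assoc, ← Category.assoc] at h1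
    rw [Category.assoc, Category.assoc, tensorHom_snd, ← Category.assoc, ← Category.assoc] at h2
    obtain ⟨k₁, hk₁⟩ := (qπ_eq_iff u hu _ _).1 h1
    obtain ⟨k₂, hk₂⟩ := (qπ_eq_iff u hu _ _).1 h2
    obtain ⟨k', hk'⟩ := hn W (a ≫ snd G G)⁻¹ k₁
    rw [inv_inv] at hk'
    rw [← Category.assoc, ← Category.assoc, qπ_eq_iff u hu]
    refine ⟨k' * k₂, ?_⟩
    rw [cm, cm, hk₁, hk₂, MonObj.mul_comp, ← hk']
    group)
  obtain ⟨i, hi⟩ := exists_desc (qπ u) (ι ≫ qπ u) (by
    intro W g g' hg
    obtain ⟨k, rfl⟩ := (qπ_eq_iff u hu _ _).1 hg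
    obtain ⟨k', hk'⟩ := hn W g k⁻¹
    rw [← Category.assoc, ← Category.assoc, ← Hom.inv_def, ← Hom.inv_def, qπ_eq_iff u hu]
    refine ⟨k', ?_⟩
    rw [← hk', GrpObj.inv_comp]
    group)
  exact existsUnique_grpObj (qπ u) (epi_tensorHom _ _) (epi_tensorHom _ _)
    (epi_whiskerLeft _ _) (epi_whiskerRight _ _) m hm i hi

end Groth.Agent.S6047
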