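import Groth.Statements.S6048
import Groth.Agent.ShfQuotLib.Basic

set_option autoImplicit false
open CategoryTheory CategoryTheory.Limits MonoidalCategory
universe w v₁ u₁
open ShfCat

namespace Groth.Agent.S6048

open CartesianMonoidalCategory SemiCartesianMonoidalCategory Groth.Agent.ShfQuotLib

set_option backward.isDefEq.respectTransparency false

open CartesianMonoidalCategory SemiCartesianMonoidalCategory in
/-- For sheaves of sets on a site with sheafification: let `p₁, p₂ : R ⇉ X` be an equivalence relation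
of sheaves with universally effective quotient `π : X ⟶ X/R` and `Y` a sheaf. (a) A subsheaf `Z ⊆ X
× Y` stable under `R × Y`, covering `Y`, and any two of whose points over the same point of `Y` are
`R`-related, is the pullback of `π` along exactly one `f : Y ⟶ X/R`; (b) every `f : Y ⟶ X/R` arises
in this way. -/
theorem result {C : Type u₁} [Category.{v₁} C]
    (J : GrothendieckTopology C) [HasSheafify J (Type w)]
    {R X : Sheaf J (Type w)} {p₁ p₂ : R ⟶ X}
    (e : UniversallyEffectiveEquivalenceRelation p₁ p₂) (Y : Sheaf J (Type w)) :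
    (∀ (Z : Sheaf J (Type w)) (ι : Z ⟶ X ⊗ Y), Mono ι →
      (∀ (W : Sheaf J (Type w)) (r : W ⟶ R) (y : W ⟶ Y),
        (∃ z : W ⟶ Z, z ≫ ι = lift (r ≫ p₁) y) ↔ (∃ z : W ⟶ Z, z ≫ ι = lift (r ≫ p₂) y)) →
      Epi (ι ≫ snd X Y) →
      (∀ (W : Sheaf J (Type w)) (z₁ z₂ : W ⟶ Z), z₁ ≫ ι ≫ snd X Y = z₂ ≫ ι ≫ snd X Y →
        ∃ r : W ⟶ R, r ≫ p₁ = z₁ ≫ ι ≫ fst X Y ∧ r ≫ p₂ = z₂ ≫ ι ≫ fst X Y) →
      ∃! f : Y ⟶ e.B, IsPullback (ι ≫ fst X Y) (ι ≫ snd X Y) e.π f) ∧
    (∀ f : Y ⟶ e.B, ∃ (Z : Sheaf J (Type w)) (ι : Z ⟶ X ⊗ Y), Mono ι ∧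
      (∀ (W : Sheaf J (Type w)) (r : W ⟶ R) (y : W ⟶ Y),
        (∃ z : W ⟶ Z, z ≫ ι = lift (r ≫ p₁) y) ↔ (∃ z : W ⟶ Z, z ≫ ι = lift (r ≫ p₂) y)) ∧
      Epi (ι ≫ snd X Y) ∧
      (∀ (W : Sheaf J (Type w)) (z₁ z₂ : W ⟶ Z), z₁ ≫ ι ≫ snd X Y = z₂ ≫ ι ≫ snd X Y →
        ∃ r : W ⟶ R, r ≫ p₁ = z₁ ≫ ι ≫ fst X Y ∧ r ≫ p₂ = z₂ ≫ ι ≫ fst X Y) ∧
      IsPullback (ι ≫ fst X Y) (ι ≫ snd X Y) e.π f) := by
  haveI : IsRegularEpi e.π := inferInstance
  haveI : Epi e.π := inferInstance
  refine ⟨fun Z ι hι hst hq hrel => ?_, fun f => ?_⟩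
  · haveI := hι
    haveI := hq
    obtain ⟨f, hf⟩ := exists_desc (ι ≫ snd X Y) ((ι ≫ fst X Y) ≫ e.π) (by
      intro W a b hab
      obtain ⟨r, hr₁, hr₂⟩ := hrel W a b hab
      rw [← Category.assoc, ← Category.assoc b, ← hr₁, ← hr₂, Category.assoc, Category.assoc,
        e.isKernelPair.w])
    refine ⟨f, ?_, fun f' hf' => by rw [← cancel_epi (ι ≫ snd X Y), hf, hf'.w]⟩
    have key : ∀ {W : Sheaf J (Type w)} (x : W ⟶ X) (y : W ⟶ Y), x ≫ e.π = y ≫ f →
        ∃ z : W ⟶ Z, z ≫ ι = lift x y := by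
      intro W x y hxy
      obtain ⟨W', c, _, z, hz⟩ := exists_lift_of_epi (ι ≫ snd X Y) y
      have e1 : (z ≫ ι ≫ fst X Y) ≫ e.π = (c ≫ x) ≫ e.π := by
        rw [Category.assoc, Category.assoc, ← Category.assoc ι, ← hf, ← Category.assoc z, ← hz,
          Category.assoc, Category.assoc, hxy]
      let r := e.isKernelPair.lift _ _ e1
      obtain ⟨z', hz'⟩ := (hst W' r (c ≫ y)).1 ⟨z, by
        rw [show r ≫ p₁ = z ≫ ι ≫ fst X Y from IsPullback.lift_fst _ _ _ _]
        apply CartesianMonoidalCategory.hom_ext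
        · simp
        · rw [lift_snd, Category.assoc, hz]⟩
      rw [show r ≫ p₂ = c ≫ x from IsPullback.lift_snd _ _ _ _, ← comp_lift] at hz'
      obtain ⟨w', hw'⟩ := exists_desc c z' (fun V a b hab => by
        rw [← cancel_mono ι, Category.assoc, Category.assoc, hz', reassoc_of% hab])
      exact ⟨w', by rw [← cancel_epi c, reassoc_of% hw', hz']⟩
    refine IsPullback.of_isLimit (c := PullbackCone.mk _ _ hf.symm) ?_
    refine PullbackCone.IsLimit.mk hf.symm (fun s => (key s.fst s.snd s.condition).choose)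
      (fun s => ?_) (fun s => ?_) (fun s m h1 h2 => ?_)
    · rw [← Category.assoc, (key s.fst s.snd s.condition).choose_spec, lift_fst]
    · rw [← Category.assoc, (key s.fst s.snd s.condition).choose_spec, lift_snd]
    · rw [← cancel_mono ι, (key s.fst s.snd s.condition).choose_spec]
      apply CartesianMonoidalCategory.hom_ext
      · rw [Category.assoc, h1, lift_fst]
      · rw [Category.assoc, h2, lift_snd]
  · let ι := lift (pullback.fst e.π f) (pullback.snd e.π f)
    have hfst : ι ≫ fst X Y = pullback.fst e.π f := lift_fst _ _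
    have hsnd : ι ≫ snd X Y = pullback.snd e.π f := lift_snd _ _
    have hP : IsPullback (ι ≫ fst X Y) (ι ≫ snd X Y) e.π f := by
      rw [hfst, hsnd]; exact IsPullback.of_hasPullback e.π f
    have hmem : ∀ {W : Sheaf J (Type w)} (x : W ⟶ X) (y : W ⟶ Y),
        (∃ z, z ≫ ι = lift x y) ↔ x ≫ e.π = y ≫ f := by
      intro W x y
      constructor
      · rintro ⟨z, hz⟩
        have h1 := hz =≫ fst X Y
        have h2 := hz =≫ snd X Y
        rw [Category.assoc, hfst, lift_fst] at h1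
        rw [Category.assoc, hsnd, lift_snd] at h2
        rw [← h1, ← h2, Category.assoc, Category.assoc, pullback.condition]
      · intro h
        exact ⟨pullback.lift x y h, by rw [comp_lift, pullback.lift_fst, pullback.lift_snd]⟩
    refine ⟨pullback e.π f, ι, ⟨fun a b hab => ?_⟩, fun W r y => ?_, ?_, fun W z₁ z₂ hz => ?_, hP⟩
    · apply pullback.hom_ext
      · have := hab =≫ fst X Y
        simpa only [Category.assoc, hfst] using this
      · have := hab =≫ snd X Y
        simpa only [Category.assoc, hsnd] using this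
    · rw [hmem, hmem, Category.assoc, Category.assoc, e.isKernelPair.w]
    · rw [hsnd]; exact epi_snd_of_isPullback (IsPullback.of_hasPullback e.π f)
    · have h : (z₁ ≫ ι ≫ fst X Y) ≫ e.π = (z₂ ≫ ι ≫ fst X Y) ≫ e.π := by
        rw [Category.assoc, Category.assoc, Category.assoc, Category.assoc]
        rw [← Category.assoc ι, hP.w, ← Category.assoc, hz, Category.assoc]
      exact ⟨e.isKernelPair.lift _ _ h, IsPullback.lift_fst _ _ _ _, IsPullback.lift_snd _ _ _ _⟩

end Groth.Agent.S6048
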