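import Groth.Statements.S6051
import Groth.Agent.ShfQuotLib.Basic
import Groth.Agent.ShfQuotLib.Descend

set_option autoImplicit false
open CategoryTheory CategoryTheory.Limits MonoidalCategory
universe w v₁ u₁
open ShfCat

namespace Groth.Agent.S6051

open MonObj CartesianMonoidalCategory SemiCartesianMonoidalCategory Groth.Agent.ShfQuotLib

set_option backward.isDefEq.respectTransparency false

open MonObj CartesianMonoidalCategory SemiCartesianMonoidalCategory in
/-- Let `u : H ⟶ G` be a monomorphism of sheaves of groups on a site and `G/H` the quotient sheaf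
(coequalizer in sheaves of sets of the projection and the multiplication `G × H ⇉ G`), with `π : G ⟶
G/H`. Then `G/H` carries exactly one action of `G` (a unital, associative morphism `G × G/H ⟶ G/H`)
for which `π` is equivariant for the action of `G` on itself by left translations. Stated for
sheaves of sets in `Type w` with sheafification. (The published statement adds that this structure
is functorial in the pair `(G, H)`; that clause is not stated here.) -/
theorem result {C : Type u₁} [Category.{v₁} C]
    (J : GrothendieckTopology C) [HasSheafify J (Type w)]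
    {H G : Sheaf J (Type w)} [hH : GrpObj H] [hG : GrpObj G] (u : H ⟶ G) [Mono u]
    (hu : @IsMonHom (Sheaf J (Type w)) _ _ H G hH.toMonObj hG.toMonObj u) :
    ∃! act : G ⊗ coequalizer (fst G H) ((G ◁ u) ≫ hG.mul) ⟶ coequalizer (fst G H) ((G ◁ u) ≫ hG.mul),
      (hG.one ▷ coequalizer (fst G H) ((G ◁ u) ≫ hG.mul)) ≫ act =
          (λ_ (coequalizer (fst G H) ((G ◁ u) ≫ hG.mul))).hom ∧
        (hG.mul ▷ coequalizer (fst G H) ((G ◁ u) ≫ hG.mul)) ≫ act =
          (α_ G G (coequalizer (fst G H) ((G ◁ u) ≫ hG.mul))).hom ≫ (G ◁ act) ≫ act ∧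
        hG.mul ≫ coequalizer.π (fst G H) ((G ◁ u) ≫ hG.mul) =
          (G ◁ coequalizer.π (fst G H) ((G ◁ u) ≫ hG.mul)) ≫ act := by
  haveI := hu
  have cm : ∀ {W : Sheaf J (Type w)} (a : W ⟶ G ⊗ G), a ≫ μ = (a ≫ fst G G) * (a ≫ snd G G) :=
    fun a => by rw [Hom.mul_def, lift_comp_fst_snd]
  haveI := epi_whiskerLeft (qπ u) G
  obtain ⟨act, hact⟩ := exists_desc (G ◁ qπ u) (μ ≫ qπ u) (by
    intro W a b hab
    have h1 := hab =≫ fst _ _
    have h2 := hab =≫ snd _ _
    rw [Category.assoc, Category.assoc, whiskerLeft_fst] at h1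
    rw [Category.assoc, Category.assoc, whiskerLeft_snd, ← Category.assoc, ← Category.assoc] at h2
    obtain ⟨k, hk⟩ := (qπ_eq_iff u hu _ _).1 h2
    rw [← Category.assoc, ← Category.assoc, qπ_eq_iff u hu]
    refine ⟨k, ?_⟩
    rw [cm, cm, hk, h1, _root_.mul_assoc])
  exact existsUnique_act (qπ u) (epi_whiskerLeft _ _) (epi_whiskerLeft _ _)
    (epi_whiskerLeft _ _) act hact

end Groth.Agent.S6051
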