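import Groth.Statements.S6054
import Groth.Agent.ShfQuotLib.Basic

set_option autoImplicit false
open CategoryTheory CategoryTheory.Limits MonoidalCategory
universe w v₁ u₁
open ShfCat

namespace Groth.Agent.S6054

open MonObj CartesianMonoidalCategory SemiCartesianMonoidalCategory Groth.Agent.ShfQuotLib

set_option backward.isDefEq.respectTransparency false

open MonObj CartesianMonoidalCategory SemiCartesianMonoidalCategory in
/-- Let `G` be a sheaf of groups on a site, `K ⊆ G` a subgroup sheaf and `H ⊆ K` a subgroup sheaf normal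
in `K`. With `G/H`, `K/H`, `G/K` the quotient sheaves, the right action of `K/H` on `G/H` induced by
multiplication is free, and the canonical map `G/H ⟶ G/K` identifies `G/K` with the quotient
`(G/H)/(K/H)` (it is a coequalizer of the projection and the action). Sheaves of sets in `Type w`
with sheafification; the action and the map `G/H ⟶ G/K` are pinned by their compatibility with `G ×
K ⟶ G ⟶ G/H` and with `G ⟶ G/K`. (The published statement adds that for `K` normal in `G` the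
identification respects the group structures; that clause is not stated.) -/
theorem result {C : Type u₁} [Category.{v₁} C]
    (J : GrothendieckTopology C) [HasSheafify J (Type w)]
    {H K G : Sheaf J (Type w)} [hH : GrpObj H] [hK : GrpObj K] [hG : GrpObj G]
    (h : H ⟶ K) (k : K ⟶ G) [Mono h] [Mono k]
    (hh : @IsMonHom (Sheaf J (Type w)) _ _ H K hH.toMonObj hK.toMonObj h)
    (hk : @IsMonHom (Sheaf J (Type w)) _ _ K G hK.toMonObj hG.toMonObj k)
    (hn : ∀ (Y : Sheaf J (Type w)) (x : Y ⟶ K) (y : Y ⟶ H), ∃ y' : Y ⟶ H, x * (y ≫ h) * x⁻¹ = y' ≫ h)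
    (act : coequalizer (fst G H) ((G ◁ (h ≫ k)) ≫ hG.mul) ⊗ coequalizer (fst K H) ((K ◁ h) ≫ hK.mul) ⟶
      coequalizer (fst G H) ((G ◁ (h ≫ k)) ≫ hG.mul))
    (hact : (coequalizer.π (fst G H) ((G ◁ (h ≫ k)) ≫ hG.mul) ⊗ₘ coequalizer.π (fst K H) ((K ◁ h) ≫ hK.mul)) ≫ act =
      (G ◁ k) ≫ hG.mul ≫ coequalizer.π (fst G H) ((G ◁ (h ≫ k)) ≫ hG.mul))
    (qbar : coequalizer (fst G H) ((G ◁ (h ≫ k)) ≫ hG.mul) ⟶ coequalizer (fst G K) ((G ◁ k) ≫ hG.mul))
    (hq : coequalizer.π (fst G H) ((G ◁ (h ≫ k)) ≫ hG.mul) ≫ qbar = coequalizer.π (fst G K) ((G ◁ k) ≫ hG.mul)) :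
    Mono (lift act (fst _ _)) ∧
    ∃ wq : fst _ _ ≫ qbar = act ≫ qbar, Nonempty (IsColimit (Cofork.ofπ qbar wq)) := by
  haveI := hh
  haveI := hk
  have hhk : IsMonHom (h ≫ k) := inferInstance
  haveI := epi_tensorHom (qπ (h ≫ k)) (qπ h)
  have cm : ∀ {W : Sheaf J (Type w)} (g : W ⟶ G) (x : W ⟶ K),
      lift (g ≫ qπ (h ≫ k)) (x ≫ qπ h) ≫ act = (g * (x ≫ k)) ≫ qπ (h ≫ k) := fun g x => by
    rw [← lift_map, Category.assoc, hact, ← Category.assoc, lift_whiskerLeft, ← Category.assoc,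
      Hom.mul_def]
  have hq' : ∀ {W : Sheaf J (Type w)} (g : W ⟶ G), g ≫ qπ k = (g ≫ qπ (h ≫ k)) ≫ qbar := fun g => by
    rw [Category.assoc, hq]
  refine ⟨⟨fun {W} a b hab => ?_⟩, ?_⟩
  · have e1 := hab =≫ fst _ _
    have e2 := hab =≫ snd _ _
    rw [Category.assoc, Category.assoc, lift_fst] at e1
    rw [Category.assoc, Category.assoc, lift_snd] at e2
    obtain ⟨W₁, c₁, _, g, x, hg, hx⟩ :=
      exists_lift_of_epi₂ (qπ (h ≫ k)) (qπ h) (a ≫ fst _ _) (a ≫ snd _ _)
    obtain ⟨W₂, c₂, _, x', hx'⟩ := exists_lift_of_epi (qπ h) (c₁ ≫ b ≫ snd _ _)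
    haveI : Epi (c₂ ≫ c₁) := epi_comp _ _
    rw [← cancel_epi (c₂ ≫ c₁)]
    have ha : (c₂ ≫ c₁) ≫ a = lift ((c₂ ≫ g) ≫ qπ (h ≫ k)) ((c₂ ≫ x) ≫ qπ h) := by
      apply CartesianMonoidalCategory.hom_ext
      · rw [lift_fst, Category.assoc, Category.assoc, Category.assoc, hg]
      · rw [lift_snd, Category.assoc, Category.assoc, Category.assoc, hx]
    have hb : (c₂ ≫ c₁) ≫ b = lift ((c₂ ≫ g) ≫ qπ (h ≫ k)) (x' ≫ qπ h) := by
      apply CartesianMonoidalCategory.hom_ext
      · rw [lift_fst, Category.assoc, Category.assoc, Category.assoc, ← e2, hg]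
      · rw [lift_snd, Category.assoc, Category.assoc, hx']
    have e3 : ((c₂ ≫ c₁) ≫ a) ≫ act = ((c₂ ≫ c₁) ≫ b) ≫ act := by
      simp only [Category.assoc, e1]
    rw [ha, hb, cm, cm, qπ_eq_iff (h ≫ k) hhk] at e3
    obtain ⟨y, hy⟩ := e3
    rw [ha, hb]
    congr 1
    rw [qπ_eq_iff h hh]
    refine ⟨y, ?_⟩
    rw [← cancel_mono k, MonObj.mul_comp, Category.assoc y h k]
    rw [_root_.mul_assoc] at hy
    exact mul_left_cancel hy
  · have wq : fst _ _ ≫ qbar = act ≫ qbar := by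
      rw [← cancel_epi (qπ (h ≫ k) ⊗ₘ qπ h), ← Category.assoc, tensorHom_fst, Category.assoc, hq,
        reassoc_of% hact, hq, coequalizer.condition, Category.assoc]
    haveI : Epi qbar := epi_of_epi_fac hq
    refine ⟨wq, ⟨Cofork.IsColimit.mk' _ fun s => ?_⟩⟩
    have hφ : fst G K ≫ qπ (h ≫ k) ≫ s.π = mulr k ≫ qπ (h ≫ k) ≫ s.π := by
      have := (qπ (h ≫ k) ⊗ₘ qπ h) ≫= s.condition
      rw [← Category.assoc, tensorHom_fst, reassoc_of% hact, Category.assoc] at this
      exact this.trans (Category.assoc _ _ _).symm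
    have fac : qbar ≫ coequalizer.desc _ hφ = s.π := by
      rw [← cancel_epi (qπ (h ≫ k)), ← Category.assoc, hq]
      exact coequalizer.π_desc _ hφ
    refine ⟨coequalizer.desc _ hφ, fac, fun {m} hm => ?_⟩
    rw [← cancel_epi qbar, fac]
    exact hm

end Groth.Agent.S6054
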