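import Groth.Statements.S6055
import Groth.Agent.ShfQuotLib.Basic

set_option autoImplicit false
open CategoryTheory CategoryTheory.Limits MonoidalCategory
universe w v₁ u₁
open ShfCat

namespace Groth.Agent.S6055

open MonObj CartesianMonoidalCategory SemiCartesianMonoidalCategory Groth.Agent.ShfQuotLib

set_option backward.isDefEq.respectTransparency false

open MonObj CartesianMonoidalCategory SemiCartesianMonoidalCategory in
/-- Let `G` be a sheaf of groups on a site, `H, L ⊆ G` subgroup sheaves and `π : G ⟶ G/H` the quotient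
sheaf map. Then the pair `L × (H ∩ L) ⇉ L` (projection, right multiplication) is the kernel pair of
`L ⟶ G ⟶ G/H`, so that the image of `L` in `G/H` is the quotient sheaf `L/(H ∩ L)`. Sheaves of sets
in `Type w` with sheafification; `H ∩ L` is the fibre product `H ×_G L`. (The published statement
assumes `H` normal and also identifies this image with `(L·H)/H`; normality is not needed for the
part stated here.) -/
theorem result {C : Type u₁} [Category.{v₁} C]
    (J : GrothendieckTopology C) [HasSheafify J (Type w)]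
    {H L G : Sheaf J (Type w)} [hH : GrpObj H] [hL : GrpObj L] [hG : GrpObj G]
    (u : H ⟶ G) (l : L ⟶ G) [Mono u] [Mono l]
    (hu : @IsMonHom (Sheaf J (Type w)) _ _ H G hH.toMonObj hG.toMonObj u)
    (hl : @IsMonHom (Sheaf J (Type w)) _ _ L G hL.toMonObj hG.toMonObj l) :
    IsKernelPair (l ≫ coequalizer.π (fst G H) ((G ◁ u) ≫ hG.mul))
      (fst L (pullback u l)) ((L ◁ pullback.snd u l) ≫ hL.mul) := by
  haveI := hu
  haveI := hl
  have cm : ∀ {W : Sheaf J (Type w)} (a : W ⟶ L ⊗ pullback u l),
      a ≫ (L ◁ pullback.snd u l) ≫ hL.mul = (a ≫ fst _ _) * (a ≫ snd _ _ ≫ pullback.snd u l) :=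
    fun a => by
      rw [← Category.assoc a (snd _ _), Hom.mul_def, ← lift_whiskerLeft, lift_comp_fst_snd,
        Category.assoc]
  have hw : fst L (pullback u l) ≫ l ≫ qπ u =
      ((L ◁ pullback.snd u l) ≫ hL.mul) ≫ l ≫ qπ u := by
    rw [← Category.assoc, ← Category.assoc, qπ_eq_iff u hu]
    refine ⟨snd L _ ≫ pullback.fst u l, ?_⟩
    have := cm (𝟙 _)
    rw [Category.id_comp, Category.id_comp, Category.id_comp] at this
    rw [this, MonObj.mul_comp, Category.assoc, Category.assoc, pullback.condition]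
  refine IsPullback.of_isLimit (c := PullbackCone.mk _ _ hw) ?_
  have key : ∀ s : PullbackCone (l ≫ qπ u) (l ≫ qπ u), ∃! a : s.pt ⟶ L ⊗ pullback u l,
      a ≫ fst _ _ = s.fst ∧ a ≫ (L ◁ pullback.snd u l) ≫ hL.mul = s.snd := by
    intro s
    have h := s.condition
    rw [← Category.assoc, ← Category.assoc, qπ_eq_iff u hu] at h
    obtain ⟨k, hk⟩ := h
    have hk' : k ≫ u = (s.fst⁻¹ * s.snd) ≫ l := by
      rw [MonObj.mul_comp, GrpObj.inv_comp, hk, inv_mul_cancel_left]
    refine ⟨lift s.fst (pullback.lift k (s.fst⁻¹ * s.snd) hk'), ⟨lift_fst _ _, ?_⟩, ?_⟩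
    · rw [cm, lift_fst, lift_snd_assoc, pullback.lift_snd, mul_inv_cancel_left]
    · rintro a ⟨h1, h2⟩
      rw [cm, h1] at h2
      have h3 : a ≫ snd _ _ ≫ pullback.snd u l = s.fst⁻¹ * s.snd := by
        rw [← h2, inv_mul_cancel_left]
      apply CartesianMonoidalCategory.hom_ext
      · rw [h1, lift_fst]
      · rw [lift_snd, ← cancel_mono (pullback.snd u l), Category.assoc, h3, pullback.lift_snd]
  exact PullbackCone.IsLimit.mk hw (fun s => (key s).choose) (fun s => (key s).choose_spec.1.1)
    (fun s => (key s).choose_spec.1.2) (fun s a h1 h2 => (key s).choose_spec.2 a ⟨h1, h2⟩)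

end Groth.Agent.S6055
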