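import Groth.Statements.S6056
import Groth.Agent.GrpQuotLib.Kernel
import Groth.Agent.FpqcDesc.Stalk
import Groth.Agent.FppfSrc.Scheme
-- import your own Groth.Agent.* helpers here

set_option autoImplicit false
open CategoryTheory CategoryTheory.Limits AlgebraicGeometry MonoidalCategory
universe u
open RedSub

namespace Groth.Agent.S6056

/-- An fppf covering is an epimorphism. -/
theorem epi_of_cover {S : Scheme.{u}} {T' T : Over S} (c : T' ⟶ T) [Surjective c.left] [Flat c.left]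
    [LocallyOfFinitePresentation c.left] : Epi c := by
  haveI := SchDesc.IsFpqc.of_locallyOfFinitePresentation c.left
  exact ⟨fun _ _ h => Over.OverMorphism.ext ((cancel_epi c.left).1 (congrArg CommaMorphism.left h))⟩

open MonObj CartesianMonoidalCategory SemiCartesianMonoidalCategory in
/-- For group schemes and fppf quotients: let `K ⊆ G` be a subgroup scheme and `H ⊆ K` a subgroup scheme
normal in `K`; suppose `G/H` is represented by `q_H : G ⟶ Q_H` and `K/H` by a homomorphism `K ⟶ K'`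
of group schemes, and let `act : Q_H ×_S K' ⟶ Q_H` be the right action induced by the multiplication
of `G`. Then: (i) if `G/K` is represented by `q_K : G ⟶ Q_K`, the map `Q_H ⟶ Q_K` under `G` is an
fppf covering whose kernel pair is `Q_H ×_S K' ⇉ Q_H` (projection, action), i.e. `Q_K =
(G/H)/(K/H)`; (ii) conversely, if `p : Q_H ⟶ Y` is an fppf covering with that kernel pair, then `q_H
≫ p` represents `G/K`. -/
theorem result {S : Scheme.{u}} {H K G QH Kb : Over S}
    [hH : GrpObj H] [hK : GrpObj K] [hG : GrpObj G] [hKb : GrpObj Kb]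
    (h : H ⟶ K) (k : K ⟶ G) [Mono h] [Mono k] [IsMonHom h] [IsMonHom k]
    (hn : AlgGrp.IsNormalHom h)
    (qH : G ⟶ QH) (hqH : RedSub.IsQuotient (h ≫ k) qH)
    (qKb : K ⟶ Kb) [IsMonHom qKb] (hqKb : RedSub.IsQuotient h qKb)
    (act : QH ⊗ Kb ⟶ QH) (hact : (qH ⊗ₘ qKb) ≫ act = (G ◁ k) ≫ μ[G] ≫ qH) :
    (∀ (QK : Over S) (qK : G ⟶ QK), RedSub.IsQuotient k qK →
      ∀ qbar : QH ⟶ QK, qH ≫ qbar = qK →
        Surjective qbar.left ∧ Flat qbar.left ∧ LocallyOfFinitePresentation qbar.left ∧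
          IsPullback (fst QH Kb) act qbar qbar) ∧
    (∀ (Y : Over S) (p : QH ⟶ Y),
      Surjective p.left → Flat p.left → LocallyOfFinitePresentation p.left →
      IsPullback (fst QH Kb) act p p → RedSub.IsQuotient k (qH ≫ p)) := by
  obtain ⟨hs1, hf1, hp1, hsqH⟩ := hqH
  obtain ⟨hs2, hf2, hp2, hsqb⟩ := hqKb
  haveI := hs1
  haveI := hf1
  haveI := hp1
  haveI := hs2
  haveI := hf2
  haveI := hp2
  -- compatibility of the action with points
  have hA : ∀ {T : Over S} (x : T ⟶ G) (κ : T ⟶ K), lift (x ≫ qH) (κ ≫ qKb) ≫ act = (x * (κ ≫ k)) ≫ qH := by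
    intro T x κ
    rw [← lift_map, Category.assoc, hact, lift_whiskerLeft_assoc, ← Category.assoc]
    rfl
  have hH : ∀ {T : Over S} (x y : T ⟶ G), x ≫ qH = y ≫ qH → ∃ n : T ⟶ H, y = x * ((n ≫ h) ≫ k) := by
    intro T x y e
    have h1 := hsqH.lift_snd x y e
    have h2 := hsqH.lift_fst x y e
    refine ⟨hsqH.lift x y e ≫ snd G H, ?_⟩
    have h3 : hsqH.lift x y e = lift x (hsqH.lift x y e ≫ snd G H) :=
      CartesianMonoidalCategory.hom_ext _ _ (by rw [h2, lift_fst]) (by rw [lift_snd])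
    rw [h3, lift_whiskerLeft_assoc] at h1
    rw [Category.assoc]
    exact h1.symm
  have hK : ∀ {T : Over S} (κ : T ⟶ K) (n : T ⟶ H), (κ * (n ≫ h)) ≫ qKb = κ ≫ qKb := by
    intro T κ n
    have h1 := congrArg (lift κ n ≫ ·) hsqb.w
    simp only [lift_fst_assoc, lift_whiskerLeft_assoc, Category.assoc] at h1
    exact (Category.assoc _ _ _).trans h1.symm
  -- two points with the same action
  haveI hmono : Mono (lift (fst QH Kb) act) := ⟨fun {T} a b e => by
    have e1 : a ≫ fst QH Kb = b ≫ fst QH Kb := by simpa using congrArg (· ≫ fst QH QH) e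
    have e2 : a ≫ act = b ≫ act := by simpa using congrArg (· ≫ snd QH QH) e
    obtain ⟨T₁, t₁, x, _, _, _, ex⟩ := GrpQuotLib.exists_lift_cover qH (a ≫ fst QH Kb)
    obtain ⟨T₂, t₂, κ₁, _, _, _, eκ₁⟩ := GrpQuotLib.exists_lift_cover qKb (t₁ ≫ a ≫ snd QH Kb)
    obtain ⟨T₃, t₃, κ₂, _, _, _, eκ₂⟩ := GrpQuotLib.exists_lift_cover qKb (t₂ ≫ t₁ ≫ b ≫ snd QH Kb)
    haveI := epi_of_cover t₁
    haveI := epi_of_cover t₂
    haveI := epi_of_cover t₃
    rw [← cancel_epi t₁, ← cancel_epi t₂, ← cancel_epi t₃]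
    have ea : t₃ ≫ t₂ ≫ t₁ ≫ a = lift ((t₃ ≫ t₂ ≫ x) ≫ qH) ((t₃ ≫ κ₁) ≫ qKb) :=
      CartesianMonoidalCategory.hom_ext _ _ (by simp [ex]) (by simp [eκ₁])
    have eb : t₃ ≫ t₂ ≫ t₁ ≫ b = lift ((t₃ ≫ t₂ ≫ x) ≫ qH) (κ₂ ≫ qKb) :=
      CartesianMonoidalCategory.hom_ext _ _ (by simp [← e1, ex]) (by simp [eκ₂])
    have e4 : (t₃ ≫ t₂ ≫ t₁ ≫ a) ≫ act = (t₃ ≫ t₂ ≫ t₁ ≫ b) ≫ act := by simp [e2]
    rw [ea, eb, hA, hA] at e4
    obtain ⟨n, hn⟩ := hH _ _ e4
    have e5 : κ₂ = (t₃ ≫ κ₁) * (n ≫ h) := by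
      rw [← cancel_mono k, MonObj.mul_comp]
      exact mul_left_cancel (hn.trans (_root_.mul_assoc _ _ _))
    rw [ea, eb, e5, hK]⟩
  haveI : Mono (lift (fst QH Kb) act).left := inferInstanceAs (Mono ((Over.forget S).map (lift (fst QH Kb) act)))
  haveI : Mono k.left := inferInstanceAs (Mono ((Over.forget S).map k))
  constructor
  · rintro QK qK ⟨hs, hf, hp, hsq⟩ qbar hbar
    haveI := hs
    haveI := hf
    haveI := hp
    have hl : qH.left ≫ qbar.left = qK.left := by rw [← Over.comp_left, hbar]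
    haveI : Surjective (qH.left ≫ qbar.left) := by rw [hl]; exact hs
    haveI : Flat (qH.left ≫ qbar.left) := by rw [hl]; exact hf
    haveI : LocallyOfFinitePresentation (qH.left ≫ qbar.left) := by rw [hl]; exact hp
    refine ⟨Surjective.of_comp qH.left qbar.left, Groth.Agent.FlatDescStalk.flat_of_comp qH.left qbar.left,
      FppfSrc.locallyOfFinitePresentation_of_precomp_fppf qH.left qbar.left, ?_⟩
    have hw : fst QH Kb ≫ qbar = act ≫ qbar := by
      obtain ⟨T₁, t₁, x, _, _, _, ex⟩ := GrpQuotLib.exists_lift_cover qH (fst QH Kb)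
      obtain ⟨T₂, t₂, κ, _, _, _, eκ⟩ := GrpQuotLib.exists_lift_cover qKb (t₁ ≫ snd QH Kb)
      haveI := epi_of_cover t₁
      haveI := epi_of_cover t₂
      rw [← cancel_epi t₁, ← cancel_epi t₂]
      have e : t₂ ≫ t₁ = lift ((t₂ ≫ x) ≫ qH) (κ ≫ qKb) :=
        CartesianMonoidalCategory.hom_ext _ _ (by simp [ex]) (by simp [eκ])
      rw [← Category.assoc, ← Category.assoc t₂ t₁, e, lift_fst_assoc, ← Category.assoc (lift _ _), hA,
        Category.assoc, Category.assoc, hbar, Category.assoc, hbar]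
      have h1 := congrArg (lift (t₂ ≫ x) κ ≫ ·) hsq.w
      simp only [lift_fst_assoc, lift_whiskerLeft_assoc, Category.assoc] at h1
      exact (Category.assoc _ _ _).symm.trans (h1.trans (Category.assoc _ _ _).symm)
    have key : ∀ {T : Over S} (a b : T ⟶ QH), a ≫ qbar = b ≫ qbar →
        ∃ z : T ⟶ QH ⊗ Kb, z ≫ lift (fst QH Kb) act = lift a b := by
      intro T a b e
      obtain ⟨T₁, t₁, x, _, _, _, ex⟩ := GrpQuotLib.exists_lift_cover qH a
      obtain ⟨T₂, t₂, y, _, _, _, ey⟩ := GrpQuotLib.exists_lift_cover qH (t₁ ≫ b)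
      haveI : Surjective (t₂ ≫ t₁).left := by rw [Over.comp_left]; infer_instance
      haveI : Flat (t₂ ≫ t₁).left := by rw [Over.comp_left]; infer_instance
      haveI : LocallyOfFinitePresentation (t₂ ≫ t₁).left := by rw [Over.comp_left]; infer_instance
      have e' : (t₂ ≫ x) ≫ qK = y ≫ qK := by
        rw [← hbar, Category.assoc, ← reassoc_of% ex, ← reassoc_of% ey, e]
      let κ := hsq.lift _ _ e' ≫ snd G K
      have hy : (t₂ ≫ x) * (κ ≫ k) = y := by
        have h3 : hsq.lift _ _ e' = lift (t₂ ≫ x) κ :=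
          CartesianMonoidalCategory.hom_ext _ _ (by rw [hsq.lift_fst, lift_fst]) (by rw [lift_snd])
        have h2 := hsq.lift_snd _ _ e'
        rw [h3, lift_whiskerLeft_assoc] at h2
        exact h2
      refine GrpQuotLib.exists_lift_of_cover (lift (fst QH Kb) act) (t₂ ≫ t₁)
        (lift ((t₂ ≫ x) ≫ qH) (κ ≫ qKb)) (lift a b) ?_
      rw [comp_lift, comp_lift, lift_fst, hA, hy, Category.assoc, ← ex, Category.assoc, ← ey]
      simp
    exact ⟨⟨hw⟩, ⟨PullbackCone.isLimitAux' _ fun c => ⟨(key c.fst c.snd c.condition).choose,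
      ((congrArg (_ ≫ ·) (lift_fst (fst QH Kb) act).symm).trans ((Category.assoc _ _ _).symm.trans
        ((congrArg (· ≫ fst QH QH) (key c.fst c.snd c.condition).choose_spec).trans (lift_fst _ _)))),
      ((congrArg (_ ≫ ·) (lift_snd (fst QH Kb) act).symm).trans ((Category.assoc _ _ _).symm.trans
        ((congrArg (· ≫ snd QH QH) (key c.fst c.snd c.condition).choose_spec).trans (lift_snd _ _)))),
      fun {m} h1 h2 => (cancel_mono (lift (fst QH Kb) act)).1
        ((CartesianMonoidalCategory.hom_ext _ _ (by rw [Category.assoc, lift_fst, lift_fst]; exact h1)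
          (by rw [Category.assoc, lift_snd, lift_snd]; exact h2) : m ≫ lift (fst QH Kb) act = lift c.fst c.snd).trans
          (key c.fst c.snd c.condition).choose_spec.symm)⟩⟩⟩
  · intro Y p hs hf hp hsq
    haveI := hs
    haveI := hf
    haveI := hp
    refine ⟨by rw [Over.comp_left]; infer_instance, by rw [Over.comp_left]; infer_instance,
      by rw [Over.comp_left]; infer_instance, ?_⟩
    have hw : fst G K ≫ qH ≫ p = ((G ◁ k) ≫ μ[G]) ≫ qH ≫ p := by
      have e := hA (fst G K) (snd G K)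
      have e' := congrArg (lift (fst G K ≫ qH) (snd G K ≫ qKb) ≫ ·) hsq.w
      simp only [lift_fst_assoc, Category.assoc] at e'
      rw [← Category.assoc (lift _ _), e, Category.assoc] at e'
      rw [e']
      congr 1
    haveI : Mono (lift (fst G K) ((G ◁ k) ≫ μ[G])) := ⟨fun {T} a b e => by
      have e1 : a ≫ fst G K = b ≫ fst G K := by simpa using congrArg (· ≫ fst G G) e
      have e2 : a ≫ (G ◁ k) ≫ μ[G] = b ≫ (G ◁ k) ≫ μ[G] := by simpa using congrArg (· ≫ snd G G) e
      have d : ∀ c : T ⟶ G ⊗ K, c ≫ (G ◁ k) ≫ μ[G] = (c ≫ fst G K) * ((c ≫ snd G K) ≫ k) := fun c => by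
        conv_lhs => rw [← Category.comp_id c, ← lift_fst_snd, comp_lift, lift_whiskerLeft_assoc]
        rfl
      rw [d, d, e1] at e2
      exact CartesianMonoidalCategory.hom_ext _ _ e1 ((cancel_mono k).1 (mul_left_cancel e2))⟩
    have key : ∀ {T : Over S} (x y : T ⟶ G), x ≫ qH ≫ p = y ≫ qH ≫ p → ∃ κ : T ⟶ K, x * (κ ≫ k) = y := by
      intro T x y e
      have e' : (x ≫ qH) ≫ p = (y ≫ qH) ≫ p := by rw [Category.assoc, Category.assoc]; exact e
      let kb := hsq.lift _ _ e' ≫ snd QH Kb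
      have hkb : lift (x ≫ qH) kb ≫ act = y ≫ qH := by
        have h3 : hsq.lift _ _ e' = lift (x ≫ qH) kb :=
          CartesianMonoidalCategory.hom_ext _ _ (by rw [hsq.lift_fst, lift_fst]) (by rw [lift_snd])
        rw [← h3]
        exact hsq.lift_snd _ _ e'
      obtain ⟨T₁, t₁, κ₀, _, _, _, eκ⟩ := GrpQuotLib.exists_lift_cover qKb kb
      have e1 : ((t₁ ≫ x) * (κ₀ ≫ k)) ≫ qH = (t₁ ≫ y) ≫ qH := by
        rw [← hA, ← eκ, Category.assoc t₁ x, ← comp_lift, Category.assoc, hkb, Category.assoc]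
      obtain ⟨n, hn⟩ := hH _ _ e1
      obtain ⟨κ, hκ⟩ := GrpQuotLib.exists_lift_of_cover k t₁ (κ₀ * (n ≫ h)) (x⁻¹ * y) (by
        rw [MonObj.mul_comp, MonObj.comp_mul, GrpObj.comp_inv, hn, _root_.mul_assoc, _root_.inv_mul_cancel_left])
      exact ⟨κ, by rw [hκ, _root_.mul_inv_cancel_left]⟩
    exact ⟨⟨hw⟩, ⟨PullbackCone.isLimitAux' _ fun c => ⟨lift c.fst (key c.fst c.snd c.condition).choose,
      lift_fst _ _,
      ((lift_whiskerLeft_assoc _ _ _ _).trans (key c.fst c.snd c.condition).choose_spec),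
      fun {m} h1 h2 => (cancel_mono (lift (fst G K) ((G ◁ k) ≫ μ[G]))).1 (by
        refine CartesianMonoidalCategory.hom_ext _ _ ?_ ?_
        · rw [Category.assoc, Category.assoc, lift_fst, lift_fst]; exact h1
        · rw [Category.assoc, Category.assoc, lift_snd, lift_whiskerLeft_assoc]
          exact h2.trans (key c.fst c.snd c.condition).choose_spec.symm)⟩⟩⟩

end Groth.Agent.S6056
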