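import Groth.Statements.S6057


set_option autoImplicit false
open CategoryTheory
universe v₁ u₁
open ShfCat

namespace Groth.Agent.S6057

set_option backward.isDefEq.respectTransparency false
set_option backward.isDefEq.respectTransparency.types false
open Opposite

theorem over_mem {C : Type u₁} [Category.{v₁} C] (J : GrothendieckTopology C) {S : C} (T : Over S) {R : Sieve T.left}
    (hR : R ∈ J T.left) : (Sieve.overEquiv T).symm R ∈ (J.over S) T :=
  (GrothendieckTopology.mem_over_iff _ _).2 (by simpa using hR)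

theorem over_arrow {C : Type u₁} [Category.{v₁} C] {S : C} (T : Over S) (R : Sieve T) {W : C} {g : W ⟶ T.left}
    (hg : Sieve.overEquiv T R g) : R (Over.homMk g : Over.mk (g ≫ T.hom) ⟶ T) := by
  obtain ⟨W', a, b, ha, rfl⟩ := hg
  let d : Over.mk ((b ≫ (Over.forget S).map a) ≫ T.hom) ⟶ W' := Over.homMk b (by simp)
  have : (Over.homMk (b ≫ (Over.forget S).map a) : Over.mk ((b ≫ (Over.forget S).map a) ≫ T.hom) ⟶ T) = d ≫ a := by
    ext; simp [d]
  rw [this]
  exact R.downward_closed ha d

/-- Let `S` be an object whose representable presheaf is a sheaf for `J` and `φ : F ⟶ h_S` a morphism of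
presheaves of sets. The relative presheaf on `C/S` (sections of `F` over `T` lying over the given `T
⟶ S`) is separated (resp. a sheaf) for the induced topology on `C/S` if and only if `F` is separated
(resp. a sheaf). -/
theorem result {C : Type u₁} [Category.{v₁} C] (J : GrothendieckTopology C)
    {S : C} (hS : Presieve.IsSheaf J (yoneda.obj S)) {F : Cᵒᵖ ⥤ Type v₁} (φ : F ⟶ yoneda.obj S) :
    (Presieve.IsSeparated (J.over S) (ShfCat.relPsh φ) ↔ Presieve.IsSeparated J F) ∧
    (Presieve.IsSheaf (J.over S) (ShfCat.relPsh φ) ↔ Presieve.IsSheaf J F) := by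
  have hsep : Presieve.IsSeparated J F → Presieve.IsSeparated (J.over S) (ShfCat.relPsh φ) := fun hF T R hR x t₁ t₂ h₁ h₂ => by
    refine Subtype.ext ((hF _ ((GrothendieckTopology.mem_over_iff _ _).1 hR)).ext fun W g hg => ?_)
    exact congrArg Subtype.val ((h₁ _ (over_arrow T R hg)).trans (h₂ _ (over_arrow T R hg)).symm)
  have hsep' : Presieve.IsSeparated (J.over S) (ShfCat.relPsh φ) → Presieve.IsSeparated J F := fun hF X R hR x t₁ t₂ h₁ h₂ => by
    have e : φ.app (op X) t₁ = φ.app (op X) t₂ := (hS.isSeparated R hR).ext fun W g hg => by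
      rw [← NatTrans.naturality_apply, ← NatTrans.naturality_apply, h₁ g hg, h₂ g hg]
    let T := Over.mk (φ.app (op X) t₁)
    let s₁ : (ShfCat.relPsh φ).obj (op T) := ⟨t₁, rfl⟩
    let s₂ : (ShfCat.relPsh φ).obj (op T) := ⟨t₂, e.symm⟩
    have : s₁ = s₂ := (hF _ (over_mem J T hR)).ext fun W g hg =>
      Subtype.ext ((h₁ g.left hg).trans (h₂ g.left hg).symm)
    exact congrArg Subtype.val this
  refine ⟨⟨hsep', hsep⟩, ⟨fun hF X R hR x hx => ?_, fun hF T R hR x hx => ?_⟩⟩
  · let z : Presieve.FamilyOfElements (yoneda.obj S) R.arrows := fun W g hg => φ.app (op W) (x g hg)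
    have hz : z.Compatible := fun W₁ W₂ V g₁ g₂ f₁ f₂ h₁ h₂ e => by
      simp only [z, ← NatTrans.naturality_apply, hx g₁ g₂ h₁ h₂ e]
    obtain ⟨h, hh, -⟩ := hS R hR z hz
    let T := Over.mk h
    let y : Presieve.FamilyOfElements (ShfCat.relPsh φ) ((Sieve.overEquiv T).symm R).arrows := fun W g hg =>
      ⟨x g.left hg, ((hh g.left hg).symm.trans (Over.w g))⟩
    have hy : y.Compatible := fun W₁ W₂ V g₁ g₂ f₁ f₂ h₁ h₂ e =>
      Subtype.ext (hx g₁.left g₂.left h₁ h₂ ((Over.comp_left _ _ _ g₁ f₁).symm.trans ((congrArg (fun k => k.left) e).trans (Over.comp_left _ _ _ g₂ f₂))))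
    obtain ⟨t, ht, -⟩ := hF _ (over_mem J T hR) y hy
    have ha : x.IsAmalgamation t.1 := fun W g hg =>
      congrArg Subtype.val (ht (Over.homMk g : Over.mk (g ≫ h) ⟶ T) hg)
    exact ⟨t.1, ha, fun s hs => (hsep' hF.isSeparated R hR) x s t.1 hs ha⟩
  · let R' := Sieve.overEquiv T R
    let y : Presieve.FamilyOfElements F R'.arrows := fun W g hg => (x _ (over_arrow T R hg)).1
    have hy : y.Compatible := fun W₁ W₂ V g₁ g₂ f₁ f₂ h₁ h₂ e => by
      let V' := Over.mk (g₁ ≫ f₁ ≫ T.hom)
      exact congrArg Subtype.val (hx (Over.homMk g₁ : V' ⟶ Over.mk (f₁ ≫ T.hom))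
        (Over.homMk g₂ (by simp [V', reassoc_of% e]) : V' ⟶ Over.mk (f₂ ≫ T.hom)) (over_arrow T R h₁) (over_arrow T R h₂)
        (by ext; exact e))
    obtain ⟨t, ht, -⟩ := hF _ ((GrothendieckTopology.mem_over_iff _ _).1 hR) y hy
    have hφ : φ.app (op T.left) t = T.hom :=
      (hS.isSeparated _ ((GrothendieckTopology.mem_over_iff _ _).1 hR)).ext fun W g hg => by
        rw [← NatTrans.naturality_apply, ht g hg]
        exact (x _ (over_arrow T R hg)).2
    have ha : x.IsAmalgamation (⟨t, hφ⟩ : (ShfCat.relPsh φ).obj (op T)) := fun W g hg => Subtype.ext <| by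
      have h' : R' g.left := Sieve.image_mem_functorPushforward (Over.forget S) R hg
      refine (ht g.left h').trans ?_
      let c : W ⟶ Over.mk (g.left ≫ T.hom) := Over.homMk (𝟙 _) (by simp)
      have := congrArg Subtype.val (hx c (𝟙 W) (over_arrow T R h') hg (by ext; simp [c]))
      simpa [c, ShfCat.relPsh_map_val, y] using this
    exact ⟨_, ha, fun s hs => (hsep hF.isSeparated R hR) x s _ hs ha⟩

end Groth.Agent.S6057
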