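import Groth.Statements.S6070
import Groth.Agent.SmoothHomLift.Subgroup
import Groth.Agent.RigidMult.Apps

set_option autoImplicit false
set_option backward.isDefEq.respectTransparency false
set_option backward.isDefEq.respectTransparency.types false
set_option maxHeartbeats 800000
set_option synthInstance.maxHeartbeats 400000
set_option linter.style.haveILetI false
open CategoryTheory MonoidalCategory CartesianMonoidalCategory MonObj GrpObj AlgebraicGeometry
universe u
open SGA3x

namespace Groth.Agent.S6070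

theorem bc_map_pow {S S' : Scheme.{u}} (b : S' ⟶ S) {X Y : Over S} [GrpObj Y] (a : X ⟶ Y) :
    ∀ n : ℕ, (Over.pullback b).map (a ^ n) = ((Over.pullback b).map a : _ ⟶ Red.bc b Y) ^ n
  | 0 => by rw [pow_zero, pow_zero]; exact Functor.map_one _
  | n + 1 => by rw [pow_succ, pow_succ, Functor.map_mul, bc_map_pow b a n]

/-- In lifting form: what formal smoothness of the morphism H ↦ ₙH of the functor of multiplicative
subgroups means. Let S = Spec R be affine, J a nilpotent ideal of R, S₀ = Spec (R/J), n a natural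
number and G an S-group which is smooth over S. Let j₀ : H₀ ⟶ G₀ = G ×_S S₀ be a sub-group-scheme (a
homomorphism which is an immersion) of multiplicative type (fpqc-locally isomorphic, as a group, to
diagonalisable groups D(M), M allowed to vary and taken in Type 0), and l : L ⟶ G a sub-group-scheme
of multiplicative type whose base change to S₀ is the n-torsion of H₀ inside G₀: a point of G₀
factors through L ×_S S₀ if and only if it is j₀(h) for a point h of H₀ with h^n = 1. Then there is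
a sub-group-scheme j : H ⟶ G of multiplicative type whose base change to S₀ coincides with H₀ as a
subgroup of G₀ (an isomorphism compatible with the maps to G₀) and whose n-torsion is L: a point of
G factors through L if and only if it is j(h) for a point h of H with h^n = 1. -/
theorem result {R : Type u} [CommRing R] (J : Ideal R) (hJ : IsNilpotent J) (n : ℕ)
    (G : Over (Spec (CommRingCat.of R))) [GrpObj G] (hG : Smooth G.hom)
    (H₀ : Over (Spec (CommRingCat.of (R ⧸ J)))) [GrpObj H₀]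
    (hH₀ : TwC.Locally (Spec (CommRingCat.of (R ⧸ J))) TwC.Topology.fpqc (fun S' f => ∃ (M : Type) (_ : AddCommGroup M), Nonempty (Grp.mk (Red.bc f H₀) ≅ Grp.mk (Red.DS S' M))))
    (j₀ : H₀ ⟶ Red.bc (Spec.map (CommRingCat.ofHom (Ideal.Quotient.mk J))) G) [IsMonHom j₀] [IsImmersion j₀.left]
    (L : Over (Spec (CommRingCat.of R))) [GrpObj L] (hL : TwC.Locally (Spec (CommRingCat.of R)) TwC.Topology.fpqc (fun S' f => ∃ (M : Type) (_ : AddCommGroup M), Nonempty (Grp.mk (Red.bc f L) ≅ Grp.mk (Red.DS S' M))))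
    (l : L ⟶ G) [IsMonHom l] [IsImmersion l.left]
    (hL0 : ∀ (X : Over (Spec (CommRingCat.of (R ⧸ J)))) (g : X ⟶ Red.bc (Spec.map (CommRingCat.ofHom (Ideal.Quotient.mk J))) G),
      (∃ y : X ⟶ Red.bc (Spec.map (CommRingCat.ofHom (Ideal.Quotient.mk J))) L, y ≫ (Over.pullback (Spec.map (CommRingCat.ofHom (Ideal.Quotient.mk J)))).map l = g) ↔
        ∃ h : X ⟶ H₀, h ^ n = 1 ∧ h ≫ j₀ = g) :
    ∃ (H : Over (Spec (CommRingCat.of R))) (_ : GrpObj H) (j : H ⟶ G), IsMonHom j ∧ IsImmersion j.left ∧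
      TwC.Locally (Spec (CommRingCat.of R)) TwC.Topology.fpqc (fun S' f => ∃ (M : Type) (_ : AddCommGroup M), Nonempty (Grp.mk (Red.bc f H) ≅ Grp.mk (Red.DS S' M))) ∧
      (∃ φ : Red.bc (Spec.map (CommRingCat.ofHom (Ideal.Quotient.mk J))) H ≅ H₀, φ.hom ≫ j₀ = (Over.pullback (Spec.map (CommRingCat.ofHom (Ideal.Quotient.mk J)))).map j) ∧
      ∀ (X : Over (Spec (CommRingCat.of R))) (g : X ⟶ G),
        (∃ y : X ⟶ L, y ≫ l = g) ↔ ∃ h : X ⟶ H, h ^ n = 1 ∧ h ≫ j = g := by
  haveI : Smooth G.hom := hG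
  let R₀ := R ⧸ J
  let q : Spec (CommRingCat.of R₀) ⟶ Spec (CommRingCat.of R) := SmoothHomLift.bq R R₀
  obtain ⟨A, _, _, hA, hft, f, φg, hf, hfi, hfg⟩ := SmoothHomLift.exists_subgroup_lift J hJ hH₀ j₀
  let H := (Spec (CommRingCat.of A)).asOver (Spec (CommRingCat.of R))
  obtain ⟨T, _, ti, hti, htm, hT, htp⟩ := SmoothHomLift.exists_torsion_subgroup hA hft n
  haveI : Mono f := (Over.forget _).mono_of_mono_map (inferInstanceAs (Mono f.left))
  haveI : Mono l := (Over.forget _).mono_of_mono_map (inferInstanceAs (Mono l.left))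
  haveI : IsMonHom φg.hom.hom.hom := φg.hom.hom.isMonHom_hom
  haveI : IsMonHom φg.inv.hom.hom := φg.inv.hom.isMonHom_hom
  have hinv : φg.inv.hom.hom ≫ φg.hom.hom.hom = 𝟙 H₀ := congrArg (fun k => k.hom.hom) φg.inv_hom_id
  haveI : Mono j₀ := (Over.forget _).mono_of_mono_map (inferInstanceAs (Mono j₀.left))
  -- `T` and `L` agree over the closed subscheme
  have hc : FixedSmooth.Contain l (ti ≫ f) (1 : RigidMult.closedPt (R := CommRingCat.of R) J ⟶ G) := by
    obtain ⟨h, hn, hh⟩ := (hL0 (Red.bc q L) ((Over.pullback q).map l)).1 ⟨𝟙 _, Category.id_comp _⟩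
    let h' : Red.bc q L ⟶ Red.bc q H := h ≫ φg.inv.hom.hom
    have hn' : ((FixedSmooth.adjEquiv q H (Red.bc q L)).symm h') ^ n = 1 := by
      rw [← map_pow, ← MonObj.pow_comp, hn, MonObj.one_comp, map_one]
    obtain ⟨y, hy⟩ := (htp _ _).1 hn'
    refine RigidMult.contain_one_of_map q l (ti ≫ f) (FixedSmooth.adjEquiv q T _ y) ?_
    rw [← FixedSmooth.adjEquiv_comp q, ← Category.assoc, FixedSmooth.adjEquiv_comp q (G := G) f, hy,
      MulEquiv.apply_symm_apply, ← hfg]
    simp only [h', Category.assoc]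
    rw [reassoc_of% hinv]
    exact hh
  have hc' : FixedSmooth.Contain (ti ≫ f) l (1 : RigidMult.closedPt (R := CommRingCat.of R) J ⟶ G) := by
    have hn : ((Over.pullback q).map ti ≫ φg.hom.hom.hom) ^ n = 1 := by
      rw [← MonObj.pow_comp]
      have h1 : ((Over.pullback q).map ti : _ ⟶ Red.bc q H) ^ n = 1 := by
        rw [← bc_map_pow, (htp T ti).2 ⟨𝟙 T, Category.id_comp _⟩]
        exact Functor.map_one _
      rw [h1, MonObj.one_comp]
    obtain ⟨y, hy⟩ := (hL0 (Red.bc q T) ((Over.pullback q).map (ti ≫ f))).2 ⟨_, hn, by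
      rw [Category.assoc, hfg]; exact ((Over.pullback q).map_comp ti f).symm⟩
    exact RigidMult.contain_one_of_map q (ti ≫ f) l y hy
  obtain ⟨g, hg, φ, hφ⟩ := RigidMult.exists_conjBy (R := CommRingCat.of R) hL hT J hJ l (ti ≫ f) 1 hc
    (by rw [inv_one]; exact hc')
  -- conjugation by the inverse of `g`
  let c : G ⟶ G := (toUnit G ≫ g)⁻¹ * 𝟙 G * (toUnit G ≫ g)
  let c' : G ⟶ G := (toUnit G ≫ g) * 𝟙 G * (toUnit G ≫ g)⁻¹
  have hcomp : ∀ {X : Over (Spec (CommRingCat.of R))} (x : X ⟶ G),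
      x ≫ c = (toUnit X ≫ g)⁻¹ * x * (toUnit X ≫ g) := fun {X} x => by
    simp only [c, MonObj.comp_mul, GrpObj.comp_inv, comp_toUnit_assoc, Category.comp_id]
  have hcomp' : ∀ {X : Over (Spec (CommRingCat.of R))} (x : X ⟶ G),
      x ≫ c' = (toUnit X ≫ g) * x * (toUnit X ≫ g)⁻¹ := fun {X} x => by
    simp only [c', MonObj.comp_mul, GrpObj.comp_inv, comp_toUnit_assoc, Category.comp_id]
  haveI : IsMonHom c := by
    refine { one_hom := ?_, mul_hom := ?_ }
    · rw [hcomp, show (η : 𝟙_ _ ⟶ G) = 1 by rw [MonObj.one_eq_one], _root_.mul_one, inv_mul_cancel]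
    · rw [hcomp, show ((c ⊗ₘ c) ≫ μ) = (fst G G ≫ c) * (snd G G ≫ c) by
        show _ = lift _ _ ≫ μ
        rw [← lift_map, lift_fst_snd, Category.id_comp], hcomp, hcomp,
        show (μ : G ⊗ G ⟶ G) = fst G G * snd G G by
          show μ = lift _ _ ≫ μ
          rw [lift_fst_snd, Category.id_comp]]
      group
  haveI : IsIso c := ⟨c', by rw [hcomp']; simp only [c]; group, by rw [hcomp]; simp only [c']; group⟩
  haveI : IsIso c.left := (Over.forget _).map_isIso c
  have hcf : (Over.pullback q).map c = 𝟙 (Red.bc q G) := by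
    have h1 : ((Over.pullback q).map (toUnit G ≫ g) : Red.bc q G ⟶ Red.bc q G) = 1 := by
      apply (FixedSmooth.adjEquiv q G (Red.bc q G)).symm.injective
      rw [map_one]
      let k : (Over.map q).obj (Red.bc q G) ⟶ RigidMult.closedPt (R := CommRingCat.of R) J :=
        Over.homMk (Red.bc q G).hom (by rfl)
      have e : (FixedSmooth.adjEquiv q G (Red.bc q G)).symm
          ((Over.pullback q).map (toUnit G ≫ g) : Red.bc q G ⟶ Red.bc q G) =
          k ≫ toUnit (RigidMult.closedPt (R := CommRingCat.of R) J) ≫ g := by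
        show ((Over.mapPullbackAdj q).homEquiv (Red.bc q G) G).symm ((Over.pullback q).map (toUnit G ≫ g)) = _
        rw [Adjunction.homEquiv_counit]
        refine ((Over.mapPullbackAdj q).counit.naturality (toUnit G ≫ g)).trans ?_
        show (Over.mapPullbackAdj q).counit.app G ≫ toUnit G ≫ g = _
        rw [← Category.assoc, ← Category.assoc k]
        congr 1
        exact toUnit_unique _ _
      rw [e, hg]
      exact MonObj.comp_one k
    simp only [c]
    rw [Functor.map_mul, Functor.map_mul, Functor.map_inv', h1, inv_one, _root_.one_mul, _root_.mul_one]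
    exact (Over.pullback q).map_id G
  haveI : IsImmersion (f ≫ c).left := by rw [Over.comp_left]; infer_instance
  have hl : l = φ.hom ≫ ti ≫ f ≫ c := by
    have : φ.hom ≫ ti ≫ f ≫ c = ((toUnit L ≫ g) * l * (toUnit L ≫ g)⁻¹) ≫ c := by
      rw [hφ]; simp only [Category.assoc]
    rw [this, hcomp]
    group
  refine ⟨H, inferInstance, f ≫ c, inferInstance, inferInstance,
    WeilClosedLib.IsMultTypeLoc.of_isMultTypeFT (HopfKer.isMultTypeFT_spec hA hft),
    ⟨(Grp.forget _).mapIso φg, ?_⟩, fun X g' => ?_⟩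
  · show _ = (Over.pullback q).map (f ≫ c)
    rw [Functor.map_comp, hcf]
    exact hfg.trans (Category.comp_id _).symm
  constructor
  · rintro ⟨y, rfl⟩
    refine ⟨y ≫ φ.hom ≫ ti, (htp _ _).2 ⟨y ≫ φ.hom, Category.assoc _ _ _⟩, ?_⟩
    rw [hl]
    simp only [Category.assoc]
  · rintro ⟨h, hn, rfl⟩
    obtain ⟨z, rfl⟩ := (htp _ _).1 hn
    refine ⟨z ≫ φ.inv, ?_⟩
    rw [hl]
    simp

end Groth.Agent.S6070
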