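import Groth.Statements.S6072
import Groth.Agent.MultType.LiftIsotrivial
import Groth.Agent.S2969
-- import your own Groth.Agent.* helpers here

set_option autoImplicit false
universe u
open TensorProduct SGA3b
open SGA3b

namespace Groth.Agent.S6072

/-- Let R be a henselian local ring with residue field k and H₀ = Spec C₀ a k-group of multiplicative
type which is finite over k. Then H₀ lifts to R: there is an R-group H = Spec C of multiplicative
type, finite over R and isotrivial, together with an isomorphism of k-groups H ×_R k ≅ H₀, i.e. a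
bialgebra isomorphism k ⊗_R C ≅ C₀ (existence of an isomorphism; the lift is determined up to
isomorphism only). (Affine group schemes over an affine base are taken in Hopf-algebra form; base
change is the tensor product.) -/
theorem result (R : Type u) [CommRing R] [HenselianLocalRing R]
    (C₀ : Type u) [CommRing C₀] [HopfAlgebra (IsLocalRing.ResidueField R) C₀] [Module.Finite (IsLocalRing.ResidueField R) C₀]
    (h₀ : IsMultType (IsLocalRing.ResidueField R) C₀) :
    ∃ (C : Type u) (_ : CommRing C) (_ : HopfAlgebra R C), Module.Finite R C ∧ IsIsotrivial R C ∧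
      Nonempty ((IsLocalRing.ResidueField R ⊗[R] C) ≃ₐc[IsLocalRing.ResidueField R] C₀) := by
  classical
  let k := IsLocalRing.ResidueField R
  haveI : Algebra.FiniteType k C₀ := inferInstance
  obtain ⟨k', _, _, _, _, hd⟩ := Groth.Agent.S2969.result k C₀ inferInstance h₀
  haveI : Algebra.FormallyEtale k k' := Algebra.FormallyEtale.of_isSeparable k k'
  haveI : Algebra.FinitePresentation k k' := Algebra.FinitePresentation.of_finiteType.1 inferInstance
  haveI : Algebra.Etale k k' := {}
  obtain ⟨M, _, -, ⟨e⟩⟩ := hd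
  have h0 : IsIsotrivial k C₀ := ⟨k', inferInstance, inferInstance, inferInstance, inferInstance, inferInstance,
    M, inferInstance, ⟨e⟩⟩
  haveI : HenselianRing R (IsLocalRing.maximalIdeal R) := inferInstance
  obtain ⟨C, _, _, hC, ⟨ε⟩⟩ :=
    @MultType.exists_isotrivial_lift R _ (IsLocalRing.maximalIdeal R) _ C₀ _ (inferInstance : HopfAlgebra k C₀) h0
  refine ⟨C, inferInstance, inferInstance, ?_, hC, ⟨ε⟩⟩
  obtain ⟨S, _, _, _, _, hff, N, _, ⟨eS⟩⟩ := hC
  have ε' : (k ⊗[R] C) ≃ₐc[k] C₀ := ε
  haveI : Module.Finite k (k ⊗[R] C) := Module.Finite.equiv ε'.symm.toAlgEquiv.toLinearEquiv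
  let T := k ⊗[R] S
  haveI : Nontrivial T := by
    haveI : Module.FaithfullyFlat k T := inferInstance
    exact (FaithfulSMul.algebraMap_injective k T).nontrivial
  let e₁ : T ⊗[k] (k ⊗[R] C) ≃ₐc[T] T ⊗[R] C := MultType.cbc k T
  haveI : Module.Finite T (T ⊗[R] C) := Module.Finite.equiv e₁.toAlgEquiv.toLinearEquiv
  letI : Algebra S T := (Algebra.TensorProduct.includeRight : S →ₐ[R] T).toRingHom.toAlgebra
  haveI : IsScalarTower R S T :=
    IsScalarTower.of_algebraMap_eq fun r => ((Algebra.TensorProduct.includeRight : S →ₐ[R] T).commutes r).symm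
  let e₂ : T ⊗[S] (S ⊗[R] C) ≃ₐc[T] T ⊗[R] C := MultType.cbc S T
  haveI : Module.Finite T (T ⊗[S] (S ⊗[R] C)) := Module.Finite.equiv e₂.symm.toAlgEquiv.toLinearEquiv
  haveI : Module.Finite T (MonoidAlgebra T N) :=
    Module.Finite.equiv (MultType.scalarEquiv T eS).toAlgEquiv.toLinearEquiv
  haveI hN : Finite N := Module.Finite.finite_basis (MonoidAlgebra.basis N T)
  haveI : Module.Finite S (MonoidAlgebra S N) := Module.Finite.of_basis (MonoidAlgebra.basis N S)
  haveI : Module.Finite S (S ⊗[R] C) := Module.Finite.equiv eS.symm.toAlgEquiv.toLinearEquiv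
  exact Module.Finite.of_finite_tensorProduct_of_faithfullyFlat S

end Groth.Agent.S6072
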