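import Groth.Statements.S6076
import Groth.Agent.ProConsLib.Spectral
import Groth.Agent.FlatLocus.FibreCrit
import Mathlib.AlgebraicGeometry.Morphisms.FinitePresentation

set_option autoImplicit false
universe u
open CategoryTheory CategoryTheory.Limits MonoidalCategory CartesianMonoidalCategory MonObj GrpObj AlgebraicGeometry
open SGA3

namespace Groth.Agent.S6076

open Topology

section
variable {S : Scheme.{u}} (X H : Over S) [GrpObj H] (f : X ⟶ H)

/-- The `n`-fold product of `X` over `S`. -/
noncomputable def pw : ℕ → Over S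
  | 0 => 𝟙_ (Over S)
  | n + 1 => X ⊗ pw n

/-- The projections. -/
noncomputable def pr : (n : ℕ) → Fin n → (pw X n ⟶ X)
  | 0 => Fin.elim0
  | n + 1 => Fin.cases (fst X (pw X n)) fun j => snd X (pw X n) ≫ pr n j

theorem exists_lift (T : Over S) : ∀ (n : ℕ) (x : Fin n → (T ⟶ X)), ∃ τ : T ⟶ pw X n, ∀ j, τ ≫ pr X n j = x j
  | 0, _ => ⟨toUnit T, fun j => j.elim0⟩
  | n + 1, x => by
    obtain ⟨τ, hτ⟩ := exists_lift T n fun j => x j.succ
    refine ⟨lift (x 0) τ, fun j => ?_⟩
    induction j using Fin.cases with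
    | zero => exact lift_fst _ _
    | succ j =>
      show lift (x 0) τ ≫ snd X (pw X n) ≫ pr X n j = _
      rw [lift_snd_assoc, hτ]

theorem locallyOfFinitePresentation_pw [LocallyOfFinitePresentation X.hom] :
    ∀ n, LocallyOfFinitePresentation (pw X n).hom
  | 0 => by
    show LocallyOfFinitePresentation (𝟙 S)
    infer_instance
  | n + 1 => by
    haveI := locallyOfFinitePresentation_pw n
    show LocallyOfFinitePresentation (pullback.fst X.hom (pw X n).hom ≫ X.hom)
    infer_instance

theorem comp_prod {T T' : Over S} (τ : T ⟶ T') : ∀ l : List (T' ⟶ H), τ ≫ l.prod = (l.map (τ ≫ ·)).prod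
  | [] => by simp [MonObj.comp_one]
  | a :: l => by simp [MonObj.comp_mul, comp_prod τ l]

theorem comp_word {T T' : Over S} (τ : T ⟶ T') {n : ℕ} (x : Fin n → (T' ⟶ X)) (ε : Fin n → Bool) :
    τ ≫ ((List.ofFn fun j : Fin n => if ε j then x j ≫ f else (x j ≫ f)⁻¹).prod : T' ⟶ H) =
      (List.ofFn fun j : Fin n => if ε j then (τ ≫ x j) ≫ f else ((τ ≫ x j) ≫ f)⁻¹).prod := by
  rw [comp_prod, List.map_ofFn]
  congr 2
  funext j
  simp only [Function.comp_apply]
  cases ε j <;> simp [GrpObj.comp_inv]

end

/-- (iii) ⟹ (iv): let S be a scheme, X an S-scheme which is flat and locally of finite presentation over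
S, H an S-group scheme locally of finite presentation over S with reduced fibres and quasi-compact
underlying space, and f : X → H an S-morphism. Say that a point h of H lies under a word of length n
in f when there are an S-scheme T, a point p of T, T-valued points x_1, …, x_n of X and signs such
that the T-valued point f(x_1)^{±1} ⋯ f(x_n)^{±1} of H maps p to h. If every point of H lies under
some word in f, then there is a natural number n such that every point of H lies under a word of
length at most n. (The published statement concludes with words of one fixed length n and an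
fppf-covering word morphism; for the constant group of order two over a field and f the non-trivial
point, the points under words of length n alternate between the two points of H, so only the bound
on the length is stated here, and the covering assertion is not stated.) -/
theorem result (S : Scheme.{u}) (X H : Over S) [GrpObj H]
    [Flat X.hom] [LocallyOfFinitePresentation X.hom] [LocallyOfFinitePresentation H.hom]
    (hred : ∀ s : S, IsReduced (H.hom.fiber s)) [CompactSpace H.left] (f : X ⟶ H)
    (hsurj : ∀ h : H.left, ∃ (n : ℕ) (T : Over S) (p : T.left) (x : Fin n → (T ⟶ X)) (ε : Fin n → Bool),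
      ((List.ofFn fun j : Fin n => if ε j then x j ≫ f else (x j ≫ f)⁻¹).prod : T ⟶ H).left.base p = h) :
    ∃ n : ℕ, ∀ h : H.left, ∃ (m : ℕ) (_ : m ≤ n) (T : Over S) (p : T.left) (x : Fin m → (T ⟶ X)) (ε : Fin m → Bool),
      ((List.ofFn fun j : Fin m => if ε j then x j ≫ f else (x j ≫ f)⁻¹).prod : T ⟶ H).left.base p = h := by
  classical
  let E : ℕ → Set ↥H.left := fun n => {h | ∃ (m : ℕ) (_ : m ≤ n) (T : Over S) (p : T.left) (x : Fin m → (T ⟶ X)) (ε : Fin m → Bool),
      ((List.ofFn fun j : Fin m => if ε j then x j ≫ f else (x j ≫ f)⁻¹).prod : T ⟶ H).left.base p = h}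
  have hmono : ∀ {a b}, a ≤ b → E a ⊆ E b := fun {a b} hab h ⟨m, hm, rest⟩ => ⟨m, hm.trans hab, rest⟩
  have key : ∀ (V : H.left.Opens), IsAffineOpen V → ∀ h : ↥(V : Scheme.{u}), ∃ (n : ℕ) (C : Set ↥(V : Scheme.{u})),
      IsConstructible C ∧ h ∈ C ∧ ∀ c ∈ C, (V.ι c : ↥H.left) ∈ E n := by
    intro V hV h
    obtain ⟨n, T, p, x, ε, hp⟩ := hsurj (V.ι h)
    obtain ⟨τ, hτ⟩ := exists_lift X T n x
    let ω : pw X n ⟶ H := (List.ofFn fun j : Fin n => if ε j then pr X n j ≫ f else (pr X n j ≫ f)⁻¹).prod
    have hω : (τ ≫ ω).left.base p = V.ι h := by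
      rw [show τ ≫ ω = _ from comp_word X H f τ (pr X n) ε]
      simp only [hτ]
      exact hp
    let W : (pw X n).left.Opens := ω.left ⁻¹ᵁ V
    have hqW : τ.left p ∈ W := by
      show ω.left (τ.left p) ∈ V
      rw [show ω.left (τ.left p) = V.ι h from hω]
      exact h.2
    obtain ⟨A, hA, hqA, hAW⟩ := exists_isAffineOpen_mem_and_subset hqW
    haveI := locallyOfFinitePresentation_pw X n
    haveI : LocallyOfFinitePresentation ω.left := by
      haveI : LocallyOfFinitePresentation (ω.left ≫ H.hom) := by rw [Over.w ω]; infer_instance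
      exact Groth.Agent.FlatLocus.locallyOfFinitePresentation_of_comp ω.left H.hom
    haveI : IsAffine (V : Scheme.{u}) := hV
    haveI : IsAffine (A : Scheme.{u}) := hA
    let g : (A : Scheme.{u}) ⟶ (V : Scheme.{u}) := ω.left.resLE V A hAW
    haveI : LocallyOfFinitePresentation g := inferInstance
    haveI : QuasiCompact g := inferInstance
    refine ⟨n, g '' Set.univ, g.isConstructible_image IsConstructible.univ, ⟨⟨τ.left p, hqA⟩, trivial, ?_⟩, ?_⟩
    · apply V.ι.isOpenEmbedding.injective
      rw [← Scheme.Hom.comp_apply, show g ≫ V.ι = A.ι ≫ ω.left from Scheme.Hom.resLE_comp_ι _ _]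
      exact hω
    · rintro _ ⟨a, -, rfl⟩
      refine ⟨n, le_rfl, pw X n, A.ι a, pr X n, ε, ?_⟩
      rw [← Scheme.Hom.comp_apply g V.ι, show g ≫ V.ι = A.ι ≫ ω.left from Scheme.Hom.resLE_comp_ι _ _]
      rfl
  have aff : ∀ (V : H.left.Opens), IsAffineOpen V → ∃ n, ∀ x : ↥H.left, x ∈ V → x ∈ E n := by
    intro V hV
    haveI : IsAffine (V : Scheme.{u}) := hV
    haveI : SpectralSpace ↥(V : Scheme.{u}) := { }
    choose n C hC hmem hCE using key V hV
    obtain ⟨σ, hσ⟩ := @IsCompact.elim_finite_subcover _ (constructibleTopology ↥(V : Scheme.{u})) Set.univ _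
      (Groth.Agent.SpectralLib.isCompact_C_of_isClosed (@isClosed_univ _ (constructibleTopology ↥(V : Scheme.{u})))) C
      (fun h => (Groth.Agent.SpectralLib.isClopen_C_of_isConstructible (hC h)).2)
      (fun h _ => Set.mem_iUnion.2 ⟨h, hmem h⟩)
    refine ⟨σ.sup n, fun x hx => ?_⟩
    obtain ⟨h, hh, hxC⟩ := Set.mem_iUnion₂.1 (hσ (Set.mem_univ (⟨x, hx⟩ : ↥(V : Scheme.{u}))))
    exact hmono (Finset.le_sup (f := n) hh) (hCE h _ hxC)
  choose N hN using fun V : {V : H.left.Opens // IsAffineOpen V} => aff V.1 V.2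
  obtain ⟨σ, hσ⟩ := isCompact_univ.elim_finite_subcover (fun V : {V : H.left.Opens // IsAffineOpen V} => (V.1 : Set ↥H.left))
    (fun V => V.1.isOpen) (fun x _ => by
      obtain ⟨A, hA, hxA, -⟩ := exists_isAffineOpen_mem_and_subset (x := x) (U := ⊤) trivial
      exact Set.mem_iUnion.2 ⟨⟨A, hA⟩, hxA⟩)
  refine ⟨σ.sup N, fun h => ?_⟩
  obtain ⟨V, hV, hhV⟩ := Set.mem_iUnion₂.1 (hσ (Set.mem_univ h))
  exact hmono (Finset.le_sup (f := N) hV) (hN V h hhV)

end Groth.Agent.S6076
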