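import Groth.Statements.S6078
import Groth.Agent.CommSpreadLib.Main
-- import your own Groth.Agent.* helpers here

set_option autoImplicit false
set_option backward.isDefEq.respectTransparency false
set_option backward.isDefEq.respectTransparency.types false
set_option linter.style.haveILetI false
set_option linter.unusedSectionVars false
universe u
open CategoryTheory CategoryTheory.Limits MonoidalCategory CartesianMonoidalCategory MonObj GrpObj AlgebraicGeometry
open SGA3

namespace Groth.Agent.S6078

/-- Case (G, H) = H: let S be an integral scheme with generic point η, G an S-group scheme and h : H → G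
a normal subgroup scheme of G, with G and H of finite presentation over S and with smooth generic
fibres G_η, H_η. Suppose that (G_η, H_η) = H_η: the subgroup H_η is contained in every closed
subgroup scheme of G_η through which the morphism G_η ×_{κ(η)} H_η → G_η, (g, x) ↦ g h(x) g⁻¹
h(x)⁻¹, factors (H_η itself is such a subgroup since H is normal). Then there is a nonempty open
subset U of S such that for every s ∈ U the same holds on the fibre at s: H_s is contained in every
closed subgroup scheme of G_s through which G_s ×_{κ(s)} H_s → G_s, (g, x) ↦ g h(x) g⁻¹ h(x)⁻¹,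
factors. -/
theorem result (S : Scheme.{u}) [IsIntegral S] (G H : Over S) [GrpObj G] [GrpObj H]
    [LocallyOfFinitePresentation G.hom] [QuasiCompact G.hom] [QuasiSeparated G.hom]
    [LocallyOfFinitePresentation H.hom] [QuasiCompact H.hom] [QuasiSeparated H.hom]
    (h : H ⟶ G) [IsMonHom h] [IsImmersion h.left] (hN : AlgGrp.IsNormalHom h)
    (hsmG : Smooth (Red.bc (S.fromSpecResidueField (genericPoint S)) G).hom) (hsmH : Smooth (Red.bc (S.fromSpecResidueField (genericPoint S)) H).hom)
    (hgen : (∀ (K : Over (Spec (S.residueField (genericPoint S)))) (_ : GrpObj K) (j : K ⟶ (Red.bc (S.fromSpecResidueField (genericPoint S)) G)), IsMonHom j → IsClosedImmersion j.left →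
        (∃ c : (Red.bc (S.fromSpecResidueField (genericPoint S)) G) ⊗ (Red.bc (S.fromSpecResidueField (genericPoint S)) H) ⟶ K, c ≫ j = (((fst (Red.bc (S.fromSpecResidueField (genericPoint S)) G) (Red.bc (S.fromSpecResidueField (genericPoint S)) H)) * ((snd (Red.bc (S.fromSpecResidueField (genericPoint S)) G) (Red.bc (S.fromSpecResidueField (genericPoint S)) H)) ≫ ((Over.pullback (S.fromSpecResidueField (genericPoint S))).map h)) * (fst (Red.bc (S.fromSpecResidueField (genericPoint S)) G) (Red.bc (S.fromSpecResidueField (genericPoint S)) H))⁻¹ * ((snd (Red.bc (S.fromSpecResidueField (genericPoint S)) G) (Red.bc (S.fromSpecResidueField (genericPoint S)) H)) ≫ ((Over.pullback (S.fromSpecResidueField (genericPoint S))).map h))⁻¹ : (Red.bc (S.fromSpecResidueField (genericPoint S)) G) ⊗ (Red.bc (S.fromSpecResidueField (genericPoint S)) H) ⟶ (Red.bc (S.fromSpecResidueField (genericPoint S)) G)))) → ∃ m : (Red.bc (S.fromSpecResidueField (genericPoint S)) H) ⟶ K, m ≫ j = ((Over.pullback (S.fromSpecResidueField (genericPoint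 S))).map h))) :
    ∃ U : S.Opens, (U : Set S).Nonempty ∧ ∀ s : U,
      (∀ (K : Over (Spec (S.residueField (s : S)))) (_ : GrpObj K) (j : K ⟶ (Red.bc (S.fromSpecResidueField (s : S)) G)), IsMonHom j → IsClosedImmersion j.left →
        (∃ c : (Red.bc (S.fromSpecResidueField (s : S)) G) ⊗ (Red.bc (S.fromSpecResidueField (s : S)) H) ⟶ K, c ≫ j = (((fst (Red.bc (S.fromSpecResidueField (s : S)) G) (Red.bc (S.fromSpecResidueField (s : S)) H)) * ((snd (Red.bc (S.fromSpecResidueField (s : S)) G) (Red.bc (S.fromSpecResidueField (s : S)) H)) ≫ ((Over.pullback (S.fromSpecResidueField (s : S))).map h)) * (fst (Red.bc (S.fromSpecResidueField (s : S)) G) (Red.bc (S.fromSpecResidueField (s : S)) H))⁻¹ * ((snd (Red.bc (S.fromSpecResidueField (s : S)) G) (Red.bc (S.fromSpecResidueField (s : S)) H)) ≫ ((Over.pullback (S.fromSpecResidueField (s : S))).map h))⁻¹ : (Red.bc (S.fromSpecResidueField (s : S)) G) ⊗ (Red.bc (S.fromSpecResidueField (s : S)) H) ⟶ (Red.bc (S.fromSpecResidueField (s : S)) G)))) → ∃ m : (Red.bc (S.fromSpecResidueField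 (s : S)) H) ⟶ K, m ≫ j = ((Over.pullback (S.fromSpecResidueField (s : S))).map h)) := by
  let η₀ := genericPoint S
  let σ := S.fromSpecResidueField η₀
  have hid : AlgGrp.IsNormalHom (𝟙 G) := fun T g n => ⟨g * (n ≫ 𝟙 G) * g⁻¹, (Category.comp_id _).symm⟩
  haveI : IsImmersion (CommaMorphism.left (𝟙 G)) := inferInstanceAs (IsImmersion (𝟙 G.left))
  obtain ⟨V, hV, hVs⟩ := CommSpreadLib.exists_smooth_open H hsmH
  obtain ⟨Ls, U₁, hU₁, h1η, hout⟩ := CommSpreadLib.exists_comm_spread G G H (𝟙 G) h hsmG hsmH (Or.inr ⟨hid, hN⟩) V hV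
  let f : PUnit.{1} → (G ⊗ H ⟶ G) := fun _ => CommSpreadLib.commS G G H (𝟙 G) h
  obtain ⟨D, hD, d, hd, hdc, -, -, -, hr, hf, -⟩ := hout σ (CommSpreadLib.thru_generic h1η)
  letI := hD
  haveI := hd
  haveI := hdc
  obtain ⟨q, hq⟩ := hf PUnit.unit
  obtain ⟨m, hm⟩ := hgen D hD d hd hdc ⟨Functor.LaxMonoidal.μ (Over.pullback σ) G H ≫ q, by
    rw [Category.assoc, hq]
    simp [CommSpreadLib.commS, σ, η₀, Functor.map_mul, Functor.map_inv', MonObj.comp_mul, GrpObj.comp_inv,
      Functor.Monoidal.μ_fst, Functor.Monoidal.μ_snd_assoc]⟩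
  have hgen' : ∀ p : H.left, H.hom p = η₀ → h.left p ∈ CommSpreadLib.eset f Ls := fun p hp => by
    obtain ⟨x, hx⟩ : p ∈ Set.range (pullback.fst H.hom σ) := by
      rw [Scheme.Pullback.range_fst, Scheme.range_fromSpecResidueField]
      exact hp
    have hmem : ((Over.pullback σ).map h).left x ∈ CommSpreadLib.eset (fun j => (Over.pullback σ).map (f j)) Ls :=
      hr.le (CommSpreadLib.range_subset_of_comp hm ⟨x, rfl⟩)
    rw [CommSpreadLib.eset_bc σ f Ls] at hmem
    have e : pullback.fst G.hom σ (((Over.pullback σ).map h).left x) = h.left p :=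
      (congrArg (fun φ => φ x) (GenSubLib.isPullback_map σ h).w).trans (congrArg h.left hx)
    exact e ▸ Set.mem_preimage.1 hmem
  haveI := fun _ : PUnit.{1} => (CommSpreadLib.props_tensor G H)
  have hlc : Topology.IsLocallyConstructible (h.left ⁻¹' CommSpreadLib.eset f Ls) := by
    simp only [CommSpreadLib.eset, Set.preimage_iUnion, ← Finset.mem_coe]
    refine Topology.IsLocallyConstructible.biUnion Ls.finite_toSet fun l _ => ?_
    haveI hl : ∀ _ : PUnit.{1}, LocallyOfFinitePresentation (G ⊗ H).hom := fun _ => (CommSpreadLib.props_tensor G H).1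
    haveI hc : ∀ _ : PUnit.{1}, QuasiCompact (G ⊗ H).hom := fun _ => (CommSpreadLib.props_tensor G H).2
    obtain ⟨_, _⟩ := @CommSpreadLib.props_word S G _ PUnit.{1} (fun _ => G ⊗ H) _ _ hl hc f l
    haveI : LocallyOfFinitePresentation (pullback.fst h.left (GenSubLib.word f l).left) :=
      MorphismProperty.pullback_fst _ _ ‹_›
    haveI : QuasiCompact (pullback.fst h.left (GenSubLib.word f l).left) := MorphismProperty.pullback_fst _ _ ‹_›
    rw [← Scheme.Pullback.range_fst, ← Set.image_univ]
    exact (pullback.fst h.left (GenSubLib.word f l).left).isLocallyConstructible_image Topology.IsLocallyConstructible.univ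
  obtain ⟨U₂, h2η, h2⟩ := CommSpreadLib.exists_open_avoid
    (H.hom.isLocallyConstructible_image (CommSpreadLib.isLocallyConstructible_compl hlc))
    (by rintro ⟨p, hp, hpη⟩; exact hp (hgen' p hpη))
  refine ⟨U₁ ⊓ U₂, ⟨η₀, h1η, h2η⟩, fun s K _ j hj hjc ⟨c, hc⟩ => ?_⟩
  let τ := S.fromSpecResidueField (s : S)
  have hτ : CommSpreadLib.Thru V τ := by
    refine ⟨IsOpenImmersion.lift V.ι _ ?_, IsOpenImmersion.lift_fac _ _ _⟩
    rw [Scheme.Opens.range_ι, Scheme.range_fromSpecResidueField]
    exact Set.singleton_subset_iff.2 (hU₁ s.2.1)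
  haveI : Smooth (Red.bc τ H).hom := hτ.prop @Smooth H hVs
  haveI := AVLib.geometricallyReduced_of_smooth (Red.bc τ H).hom
  haveI := GenSubLib.isReduced_self (Red.bc τ H)
  refine GenSubLib.exists_lift_of_range j ((Over.pullback τ).map h) ?_
  rintro _ ⟨x, rfl⟩
  refine CommSpreadLib.wordSet_subset_range j (fun i => (Over.pullback τ).map (f i))
    (fun _ => ⟨inv (Functor.LaxMonoidal.μ (Over.pullback τ) G H) ≫ c, ?_⟩) ?_
  · rw [Category.assoc, hc, IsIso.inv_comp_eq]
    simp [f, τ, CommSpreadLib.commS, Functor.map_mul, Functor.map_inv', MonObj.comp_mul, GrpObj.comp_inv,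
      Functor.Monoidal.μ_fst, Functor.Monoidal.μ_snd_assoc]
  · refine CommSpreadLib.eset_subset_wordSet _ Ls ?_
    rw [CommSpreadLib.eset_bc τ f Ls]
    have e : pullback.fst G.hom τ (((Over.pullback τ).map h).left x) = h.left (pullback.fst H.hom τ x) :=
      congrArg (fun φ => φ x) (GenSubLib.isPullback_map τ h).w
    refine Set.mem_preimage.2 (e.symm ▸ ?_)
    by_contra hne
    refine h2 (s : S) s.2.2 ⟨pullback.fst H.hom τ x, hne, ?_⟩
    rw [← Scheme.Hom.comp_apply, pullback.condition, Scheme.Hom.comp_apply]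
    exact Scheme.fromSpecResidueField_apply _ _

end Groth.Agent.S6078
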