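import Groth.Statements.S6079
import Groth.Agent.CommSpreadLib.Main
-- import your own Groth.Agent.* helpers here

set_option autoImplicit false
set_option backward.isDefEq.respectTransparency false
set_option backward.isDefEq.respectTransparency.types false
set_option linter.style.haveILetI false
set_option linter.unusedSectionVars false
universe u
open CategoryTheory CategoryTheory.Limits MonoidalCategory CartesianMonoidalCategory MonObj GrpObj AlgebraicGeometry
open SGA3

namespace Groth.Agent.S6079

/-- Existence of D' and its fibres: let S be an integral scheme with generic point η, G an S-group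
scheme of finite presentation over S, and a : A → G, b : B → G two subgroup schemes of G
(homomorphisms which are immersions) of finite presentation over S whose generic fibres A_η, B_η are
smooth. Suppose that either (a) A_η is connected, or (b) A and B are normal in G. Then there are a
nonempty open subset U of S and a closed subgroup scheme d : D → G|_U, of finite presentation over U
with smooth fibres, having connected fibres in case (a) and normal in G|_U in case (b), such that
for every s ∈ U the fibre D_s → G_s is the commutator subgroup scheme (A_s, B_s): the smallest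
closed subgroup scheme of G_s through which A_s ×_{κ(s)} B_s → G_s, (x, y) ↦ a(x) b(y) a(x)⁻¹
b(y)⁻¹, factors. (The published statement also asserts that D represents the fppf sheaf associated
to the presheaf of commutator subgroups of A|_U and B|_U in G|_U; that assertion is not stated
here.) -/
theorem result (S : Scheme.{u}) [IsIntegral S] (G A B : Over S) [GrpObj G] [GrpObj A] [GrpObj B]
    [LocallyOfFinitePresentation G.hom] [QuasiCompact G.hom] [QuasiSeparated G.hom]
    [LocallyOfFinitePresentation A.hom] [QuasiCompact A.hom] [QuasiSeparated A.hom]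
    [LocallyOfFinitePresentation B.hom] [QuasiCompact B.hom] [QuasiSeparated B.hom]
    (a : A ⟶ G) [IsMonHom a] [IsImmersion a.left] (b : B ⟶ G) [IsMonHom b] [IsImmersion b.left]
    (hsmA : Smooth (Red.bc (S.fromSpecResidueField (genericPoint S)) A).hom) (hsmB : Smooth (Red.bc (S.fromSpecResidueField (genericPoint S)) B).hom)
    (hcase : ConnectedSpace (Red.bc (S.fromSpecResidueField (genericPoint S)) A).left ∨ (AlgGrp.IsNormalHom a ∧ AlgGrp.IsNormalHom b)) :
    ∃ U : S.Opens, (U : Set S).Nonempty ∧
      ∃ (D : Over (U : Scheme.{u})) (_ : GrpObj D) (d : D ⟶ (Red.bc U.ι G)), IsMonHom d ∧ IsClosedImmersion d.left ∧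
        LocallyOfFinitePresentation D.hom ∧ QuasiCompact D.hom ∧ QuasiSeparated D.hom ∧
        (∀ s : (U : Scheme.{u}), Smooth (D.hom.fiberToSpecResidueField s)) ∧
        (ConnectedSpace (Red.bc (S.fromSpecResidueField (genericPoint S)) A).left → ∀ s : (U : Scheme.{u}), ConnectedSpace (D.hom.fiber s)) ∧
        (AlgGrp.IsNormalHom a ∧ AlgGrp.IsNormalHom b → AlgGrp.IsNormalHom d) ∧
        ∀ s : (U : Scheme.{u}),
          (∃ c : (Red.bc ((U : Scheme.{u}).fromSpecResidueField s) (Red.bc U.ι A)) ⊗ (Red.bc ((U : Scheme.{u}).fromSpecResidueField s) (Red.bc U.ι B)) ⟶ (Red.bc ((U : Scheme.{u}).fromSpecResidueField s) D), c ≫ ((Over.pullback ((U : Scheme.{u}).fromSpecResidueField s)).map d) = (((fst (Red.bc ((U : Scheme.{u}).fromSpecResidueField s) (Red.bc U.ι A)) (Red.bc ((U : Scheme.{u}).fromSpecResidueField s) (Red.bc U.ι B))) ≫ ((Over.pullback ((U : Scheme.{u}).fromSpecResidueField s)).map ((Over.pullback U.ι).map a))) * ((snd (Red.bc ((U : Scheme.{u}).fromSpecResidueField s) (Red.bc U.ι A)) (Red.bc ((U : Scheme.{u}).fromSpecResidueField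 s) (Red.bc U.ι B))) ≫ ((Over.pullback ((U : Scheme.{u}).fromSpecResidueField s)).map ((Over.pullback U.ι).map b))) * ((fst (Red.bc ((U : Scheme.{u}).fromSpecResidueField s) (Red.bc U.ι A)) (Red.bc ((U : Scheme.{u}).fromSpecResidueField s) (Red.bc U.ι B))) ≫ ((Over.pullback ((U : Scheme.{u}).fromSpecResidueField s)).map ((Over.pullback U.ι).map a)))⁻¹ * ((snd (Red.bc ((U : Scheme.{u}).fromSpecResidueField s) (Red.bc U.ι A)) (Red.bc ((U : Scheme.{u}).fromSpecResidueField s) (Red.bc U.ι B))) ≫ ((Over.pullback ((U : Scheme.{u}).fromSpecResidueField s)).map ((Over.pullback U.ι).map b)))⁻¹)) ∧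
          ∀ (Γ' : Over (Spec ((U : Scheme.{u}).residueField s))) (_ : GrpObj Γ') (i' : Γ' ⟶ (Red.bc ((U : Scheme.{u}).fromSpecResidueField s) (Red.bc U.ι G))), IsMonHom i' → IsClosedImmersion i'.left →
            (∃ c' : (Red.bc ((U : Scheme.{u}).fromSpecResidueField s) (Red.bc U.ι A)) ⊗ (Red.bc ((U : Scheme.{u}).fromSpecResidueField s) (Red.bc U.ι B)) ⟶ Γ', c' ≫ i' = (((fst (Red.bc ((U : Scheme.{u}).fromSpecResidueField s) (Red.bc U.ι A)) (Red.bc ((U : Scheme.{u}).fromSpecResidueField s) (Red.bc U.ι B))) ≫ ((Over.pullback ((U : Scheme.{u}).fromSpecResidueField s)).map ((Over.pullback U.ι).map a))) * ((snd (Red.bc ((U : Scheme.{u}).fromSpecResidueField s) (Red.bc U.ι A)) (Red.bc ((U : Scheme.{u}).fromSpecResidueField s) (Red.bc U.ι B))) ≫ ((Over.pullback ((U : Scheme.{u}).fromSpecResidueField s)).map ((Over.pullback U.ι).map b))) * ((fst (Red.bc ((U : Scheme.{u}).fromSpecResidueField s) (Red.bc U.ι A)) (Red.bc ((U : Scheme.{u}).fromSpecResidueField s) (Red.bc U.ι B))) ≫ ((Over.pullback ((U : Scheme.{u}).fromSpecResidueField s)).map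 ((Over.pullback U.ι).map a)))⁻¹ * ((snd (Red.bc ((U : Scheme.{u}).fromSpecResidueField s) (Red.bc U.ι A)) (Red.bc ((U : Scheme.{u}).fromSpecResidueField s) (Red.bc U.ι B))) ≫ ((Over.pullback ((U : Scheme.{u}).fromSpecResidueField s)).map ((Over.pullback U.ι).map b)))⁻¹)) → ∃ j : (Red.bc ((U : Scheme.{u}).fromSpecResidueField s) D) ⟶ Γ', j ≫ i' = ((Over.pullback ((U : Scheme.{u}).fromSpecResidueField s)).map d) := by
  obtain ⟨Uc, hUc, hc⟩ : ∃ Uc : S.Opens, genericPoint S ∈ Uc ∧
      (ConnectedSpace (Red.bc (S.fromSpecResidueField (genericPoint S)) A).left →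
        GeometricallyConnected (Red.bc Uc.ι A).hom) := by
    by_cases h : ConnectedSpace (Red.bc (S.fromSpecResidueField (genericPoint S)) A).left
    · have hgc : GeometricallyConnected (Red.bc (S.fromSpecResidueField (genericPoint S)) A).hom := by
        haveI : LocallyOfFiniteType (Red.bc (S.fromSpecResidueField (genericPoint S)) A).hom :=
          MorphismProperty.pullback_snd _ _ (inferInstance : LocallyOfFiniteType A.hom)
        exact GenSubLib.geometricallyConnected_of_rational η[Red.bc (S.fromSpecResidueField (genericPoint S)) A]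
      obtain ⟨V, hV, hVc⟩ := S0420.result A.hom hgc
      refine ⟨V, CommSpreadLib.genericPoint_mem_of_nonempty hV, fun _ => ?_⟩
      show GeometricallyConnected (pullback.snd A.hom V.ι)
      rw [← (isPullback_morphismRestrict A.hom V).flip.isoPullback_inv_snd]
      exact MorphismProperty.RespectsIso.precomp @GeometricallyConnected _ _ hVc
    · exact ⟨⊤, trivial, fun h' => absurd h' h⟩
  obtain ⟨Ls, U, hUle, hη, H⟩ := CommSpreadLib.exists_comm_spread G A B a b hsmA hsmB hcase Uc hUc
  obtain ⟨D, hD, d, hd, hdc, hDs, hDq, hDqs, hr, hf, hn⟩ := H U.ι (CommSpreadLib.thru_ι U)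
  letI := hD
  haveI := hd
  haveI := hdc
  haveI := hDs
  refine ⟨U, ⟨_, hη⟩, D, hD, d, hd, hdc, inferInstance, hDq, hDqs, fun s => ?_, fun hconn s => ?_, hn, fun s => ?_⟩
  · exact MorphismProperty.pullback_snd _ _ hDs
  all_goals
    let σ := (U : Scheme.{u}).fromSpecResidueField s
    let f'' := fun _ : PUnit.{1} => (Over.pullback σ).map ((Over.pullback U.ι).map (CommSpreadLib.commS G A B a b))
    obtain ⟨e, he⟩ := CommSpreadLib.commS_bc₂ G A B a b U.ι σ
    let aσ := (Over.pullback σ).map ((Over.pullback U.ι).map a)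
    let bσ := (Over.pullback σ).map ((Over.pullback U.ι).map b)
    let cm := GenSubLib.commMap aσ bσ
    have hr' : Set.range ((Over.pullback σ).map d).left = CommSpreadLib.eset f'' Ls := by
      rw [CommSpreadLib.range_map_eq, hr]
      exact (CommSpreadLib.eset_bc σ _ Ls).symm
    have hf' : ∀ j, ∃ q, q ≫ (Over.pullback σ).map d = f'' j := fun j => by
      obtain ⟨q, hq⟩ := hf j
      exact ⟨(Over.pullback σ).map q, by rw [← Functor.map_comp, hq]⟩
    have hws : Set.range ((Over.pullback σ).map d).left = GenSubLib.wordSet (fun _ : PUnit.{1} => cm) := by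
      rw [CommSpreadLib.eq_wordSet_of_out f'' Ls ((Over.pullback σ).map d) hr' hf']
      exact (CommSpreadLib.wordSet_iso f'' (fun _ : PUnit.{1} => cm) (fun _ => e) fun _ => he).symm
    haveI : IsClosedImmersion ((Over.pullback σ).map d).left :=
      MorphismProperty.of_isPullback (GenSubLib.isPullback_map σ d).flip hdc
  · haveI : GeometricallyConnected (Red.bc U.ι A).hom :=
      ((CommSpreadLib.thru_ι U).mono hUle).prop @GeometricallyConnected A (hc hconn)
    haveI : GeometricallyConnected (Red.bc σ (Red.bc U.ι A)).hom :=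
      MorphismProperty.pullback_snd _ _ (inferInstance : GeometricallyConnected (Red.bc U.ι A).hom)
    haveI : ConnectedSpace (Red.bc σ (Red.bc U.ι A)).left := by
      haveI : Subsingleton ↥(Spec ((U : Scheme.{u}).residueField s)) :=
        inferInstanceAs (Subsingleton (PrimeSpectrum ((U : Scheme.{u}).residueField s)))
      haveI : Nonempty ↥(Spec ((U : Scheme.{u}).residueField s)) := ⟨IsLocalRing.closedPoint _⟩
      exact GeometricallyConnected.connectedSpace_of_subsingleton (f := (Red.bc σ (Red.bc U.ι A)).hom)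
    have h := GenSubLib.isConnected_wordSet_commMap aσ bσ
    rw [← hws, ← Set.image_univ] at h
    show ConnectedSpace (Red.bc σ D).left
    rw [connectedSpace_iff_univ]
    exact ⟨⟨η[Red.bc σ D].left (IsLocalRing.closedPoint _), trivial⟩,
      ((Over.pullback σ).map d).left.isClosedEmbedding.isInducing.isPreconnected_image.1 h.isPreconnected⟩
  · haveI : Smooth (Red.bc σ D).hom := MorphismProperty.pullback_snd _ _ hDs
    refine ⟨?_, fun Γ' _ i' hi' hc' hfac => CommSpreadLib.min_of_range (fun _ : PUnit.{1} => cm)
      ((Over.pullback σ).map d) hws.le Γ' i' fun _ => hfac⟩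
    obtain ⟨q, hq⟩ := hf' PUnit.unit
    exact ⟨e.hom ≫ q, by rw [Category.assoc, hq]; exact he⟩

end Groth.Agent.S6079
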