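import Groth.Statements.S6081
import Groth.Agent.SubHopfRep

set_option autoImplicit false
universe u
open TensorProduct
open SGA3

namespace Groth.Agent.S6081

open TensorProduct Groth.Agent.SubHopfRep

/-- A matrix corepresentation from a finite projective comodule mapping equivariantly to the regular one. -/
theorem exists_matrix_of_comodule {R : Type u} [CommRing R] {A : Type u} [CommRing A] [HopfAlgebra R A]
    {D : Type u} [AddCommGroup D] [Module R D] [Module.Finite R D] [Module.Projective R D]
    (ρD : D →ₗ[R] D ⊗[R] A)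
    (hDassoc : (TensorProduct.assoc R D A A).toLinearMap ∘ₗ ρD.rTensor A ∘ₗ ρD =
      (Coalgebra.comul (R := R)).lTensor D ∘ₗ ρD)
    (hDcounit : (Coalgebra.counit (R := R)).lTensor D ∘ₗ ρD = (TensorProduct.mk R D R).flip 1)
    (ι : D →ₗ[R] A) (hequiv : Coalgebra.comul (R := R) ∘ₗ ι = ι.rTensor A ∘ₗ ρD) :
    ∃ (d : ℕ) (a : Matrix (Fin d) (Fin d) A),
      (∀ i j, CoalgebraStruct.comul (R := R) (a i j) = ∑ l, a i l ⊗ₜ[R] a l j) ∧
      (∀ i j, CoalgebraStruct.counit (R := R) (a i j) = if i = j then 1 else 0) ∧
      ∀ v ∈ LinearMap.range ι, v ∈ Submodule.span R (Set.range fun q : Fin d × Fin d => a q.1 q.2) := by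
  classical
  -- a free comodule
  obtain ⟨d, r, hr⟩ := Module.Finite.exists_fin' R D
  obtain ⟨s, hs⟩ := Module.projective_lifting_property r LinearMap.id hr
  let P := Fin d → R
  have hrs : ∀ x, r (s x) = x := fun x => LinearMap.congr_fun hs x
  let T : P →ₗ[R] P ⊗[R] A := (TensorProduct.mk R P A).flip 1 ∘ₗ (LinearMap.id - s ∘ₗ r)
  let ρP : P →ₗ[R] P ⊗[R] A := s.rTensor A ∘ₗ ρD ∘ₗ r + T
  have hT : ∀ v, T v = (v - s (r v)) ⊗ₜ 1 := fun v => rfl
  have hρP : ∀ v, ρP v = s.rTensor A (ρD (r v)) + (v - s (r v)) ⊗ₜ 1 := fun v => rfl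
  have hρs : ρP ∘ₗ s = s.rTensor A ∘ₗ ρD := LinearMap.ext fun x => by
    simp only [LinearMap.comp_apply, hρP, hrs, sub_self, TensorProduct.zero_tmul, add_zero]
  have hPassoc : ∀ v, TensorProduct.assoc R P A A (ρP.rTensor A (ρP v)) =
      (Coalgebra.comul (R := R)).lTensor P (ρP v) := by
    intro v
    have h0 : ρP (v - s (r v)) = (v - s (r v)) ⊗ₜ 1 := by
      rw [hρP, map_sub, hrs, sub_self, map_zero, map_zero, map_zero, zero_add, sub_zero]
    rw [hρP v, map_add, map_add, map_add, ← LinearMap.rTensor_comp_apply, hρs, LinearMap.rTensor_comp_apply,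
      assoc_rTensor_rTensor, lTensor_rTensor']
    rw [show TensorProduct.assoc R D A A (ρD.rTensor A (ρD (r v))) = (Coalgebra.comul (R := R)).lTensor D (ρD (r v))
      from LinearMap.congr_fun hDassoc (r v)]
    rw [LinearMap.rTensor_tmul, h0, TensorProduct.assoc_tmul, LinearMap.lTensor_tmul, Bialgebra.comul_one,
      Algebra.TensorProduct.one_def]
  have hPcounit : ∀ v, (Coalgebra.counit (R := R)).lTensor P (ρP v) = v ⊗ₜ 1 := by
    intro v
    rw [hρP, map_add, lTensor_rTensor', show (Coalgebra.counit (R := R)).lTensor D (ρD (r v)) = r v ⊗ₜ 1 from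
      LinearMap.congr_fun hDcounit (r v), LinearMap.rTensor_tmul, LinearMap.lTensor_tmul, Bialgebra.counit_one,
      ← TensorProduct.add_tmul, add_sub_cancel]
  have hPequiv : ∀ v, Coalgebra.comul (R := R) (ι (r v)) = (ι ∘ₗ r).rTensor A (ρP v) := by
    intro v
    rw [hρP, map_add, ← LinearMap.rTensor_comp_apply, LinearMap.comp_assoc, hs, LinearMap.comp_id,
      show Coalgebra.comul (R := R) (ι (r v)) = ι.rTensor A (ρD (r v)) from LinearMap.congr_fun hequiv (r v),
      LinearMap.rTensor_tmul, LinearMap.comp_apply, map_sub, hrs, sub_self, map_zero, TensorProduct.zero_tmul,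
      add_zero]
  -- the matrix
  let e : Fin d → P := fun j => Pi.single j 1
  let π : Fin d → (P ⊗[R] A →ₗ[R] A) := fun l =>
    (TensorProduct.lid R A).toLinearMap ∘ₗ (LinearMap.proj l : P →ₗ[R] R).rTensor A
  have hπ : ∀ l (x : P) (b : A), π l (x ⊗ₜ b) = x l • b := fun _ _ _ => rfl
  have hdec : ∀ z : P ⊗[R] A, ∑ l, e l ⊗ₜ π l z = z := by
    intro z
    induction z using TensorProduct.induction_on with
    | zero => simp
    | add a b ha hb => simp only [map_add, TensorProduct.tmul_add, Finset.sum_add_distrib, ha, hb]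
    | tmul x b =>
      conv_rhs => rw [pi_eq_sum_univ' x, TensorProduct.sum_tmul]
      refine Finset.sum_congr rfl fun l _ => ?_
      rw [hπ, TensorProduct.tmul_smul, TensorProduct.smul_tmul']
  let a : Matrix (Fin d) (Fin d) A := fun l j => π l (ρP (e j))
  refine ⟨d, a, fun l j => ?_, fun l j => ?_, fun v hv => ?_⟩
  · have h1 := congrArg (fun z => TensorProduct.lid R (A ⊗[R] A)
      ((LinearMap.proj l : P →ₗ[R] R).rTensor (A ⊗[R] A) z)) (hPassoc (e j))
    have e1 : ∀ z : P ⊗[R] A, TensorProduct.lid R (A ⊗[R] A) ((LinearMap.proj l : P →ₗ[R] R).rTensor (A ⊗[R] A)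
        ((Coalgebra.comul (R := R)).lTensor P z)) = Coalgebra.comul (R := R) (π l z) := by
      intro z
      induction z using TensorProduct.induction_on with
      | zero => simp
      | add p q hp hq => simp only [map_add, hp, hq]
      | tmul p q => simp [hπ]
    have e2 : ∀ z : P ⊗[R] A, TensorProduct.lid R (A ⊗[R] A) ((LinearMap.proj l : P →ₗ[R] R).rTensor (A ⊗[R] A)
        (TensorProduct.assoc R P A A (ρP.rTensor A z))) = (π l ∘ₗ ρP).rTensor A z := by
      intro z
      induction z using TensorProduct.induction_on with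
      | zero => simp
      | add p q hp hq => simp only [map_add, hp, hq]
      | tmul p q =>
        simp only [LinearMap.rTensor_tmul, LinearMap.comp_apply]
        generalize ρP p = X
        induction X using TensorProduct.induction_on with
        | zero => simp
        | add x y hx hy => simp only [TensorProduct.add_tmul, map_add, hx, hy]
        | tmul x y => simp [hπ, TensorProduct.smul_tmul']
    rw [e1, e2] at h1
    refine h1.symm.trans ?_
    conv_lhs => rw [← hdec (ρP (e j))]
    simp only [map_sum, LinearMap.rTensor_tmul, LinearMap.comp_apply]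
    rfl
  · have e1 : ∀ z : P ⊗[R] A, TensorProduct.lid R R ((LinearMap.proj l : P →ₗ[R] R).rTensor R
        ((Coalgebra.counit (R := R)).lTensor P z)) = Coalgebra.counit (R := R) (π l z) := by
      intro z
      induction z using TensorProduct.induction_on with
      | zero => simp
      | add p q hp hq => simp only [map_add, hp, hq]
      | tmul p q => simp [hπ]
    have h1 := e1 (ρP (e j))
    rw [hPcounit] at h1
    refine h1.symm.trans ?_
    simp [e, Pi.single_apply]
  · obtain ⟨x, rfl⟩ := hv
    rw [← hrs x]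
    generalize s x = x
    rw [pi_eq_sum_univ' x, map_sum, map_sum]
    refine Submodule.sum_mem _ fun j _ => ?_
    rw [map_smul, map_smul]
    refine Submodule.smul_mem _ _ ?_
    have h1 := hPequiv (e j)
    conv_rhs at h1 => rw [← hdec (ρP (e j))]
    have h2 := congrArg (fun z => TensorProduct.lid R A ((Coalgebra.counit (R := R)).rTensor A z)) h1
    simp only [Coalgebra.rTensor_counit_comul, TensorProduct.lid_tmul, one_smul, map_sum, LinearMap.rTensor_tmul,
      LinearMap.comp_apply] at h2
    rw [h2]
    exact Submodule.sum_mem _ fun l _ => Submodule.smul_mem _ _ (Submodule.subset_span ⟨(l, j), rfl⟩)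

/-- Let R be a Noetherian ring and A a commutative Hopf algebra over R which is flat and of finite type
as an R-algebra, so that G = Spec A is an affine flat R-group scheme of finite type. Suppose that
the pair (G, Spec R) has the equivariant resolution property: for every A-comodule F which is
finitely generated as an R-module there are an A-comodule E which is finitely generated and
projective as an R-module and a surjective R-linear map E → F compatible with the coactions. Then
there are a natural number d and a d × d matrix (a_ij) of elements of A with Δ(a_ij) = Σ_l a_il ⊗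
a_lj and ε(a_ij) = δ_ij (a matrix corepresentation, i.e. a homomorphism G → GL_{d,R}) whose
determinant is a unit, such that A is generated as an R-algebra by the entries a_ij together with
the inverse of det(a_ij): G is a closed subgroup scheme of GL_{d,R}. (The published statement is
over a Noetherian scheme S, with G-equivariant coherent modules; this row is its assertion (ii), the
case S affine, in Hopf-algebra form.) -/
theorem result (R : Type u) [CommRing R] [IsNoetherianRing R]
    (A : Type u) [CommRing A] [HopfAlgebra R A] [Module.Flat R A] [Algebra.FiniteType R A]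
    (hRE : ∀ (F : Type u) [AddCommGroup F] [Module R F] [HopfRep.Comod R A F] [Module.Finite R F],
      ∃ (E : Type u) (_ : AddCommGroup E) (_ : Module R E) (_ : HopfRep.Comod R A E) (π : E →ₗ[R] F),
        Module.Finite R E ∧ Module.Projective R E ∧ Function.Surjective π ∧
        HopfRep.Comod.coact (k := R) (A := A) ∘ₗ π = π.rTensor A ∘ₗ HopfRep.Comod.coact (k := R) (A := A) (V := E)) :
    ∃ (d : ℕ) (a : Matrix (Fin d) (Fin d) A),
      (∀ i j, CoalgebraStruct.comul (R := R) (a i j) = ∑ l, a i l ⊗ₜ[R] a l j) ∧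
      (∀ i j, CoalgebraStruct.counit (R := R) (a i j) = if i = j then 1 else 0) ∧
      ∃ u : A, u * a.det = 1 ∧ Algebra.adjoin R (Set.range (fun p : Fin d × Fin d => a p.1 p.2) ∪ {u}) = ⊤ := by
  classical
  obtain ⟨F, hF⟩ := (inferInstance : Algebra.FiniteType R A).out
  obtain ⟨W, hWfin, hFW, hWst⟩ := exists_stable (R := R) F
  let i := W.subtype
  have hinj : ∀ (B : Type u) [AddCommGroup B] [Module R B] [Module.Flat R B], Function.Injective (i.rTensor B) :=
    fun B _ _ _ => Module.Flat.rTensor_preserves_injective_linearMap _ W.injective_subtype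
  choose c hc using fun w : W => hWst w w.2
  let ρW : W →ₗ[R] W ⊗[R] A :=
    { toFun := c
      map_add' := fun x y => hinj A (by rw [map_add, hc, hc, hc, Submodule.coe_add, map_add])
      map_smul' := fun r x => hinj A (by rw [map_smul, RingHom.id_apply, hc, hc, Submodule.coe_smul, map_smul]) }
  have hρW : ∀ w, i.rTensor A (ρW w) = Coalgebra.comul (R := R) (w : A) := hc
  have hWassoc : (TensorProduct.assoc R W A A).toLinearMap ∘ₗ ρW.rTensor A ∘ₗ ρW =
      (Coalgebra.comul (R := R)).lTensor W ∘ₗ ρW := LinearMap.ext fun w => by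
    refine hinj (A ⊗[R] A) ?_
    simp only [LinearMap.comp_apply, LinearEquiv.coe_coe]
    rw [← assoc_rTensor_rTensor, ← lTensor_rTensor', hρW, ← LinearMap.rTensor_comp_apply,
      show (i.rTensor A) ∘ₗ ρW = Coalgebra.comul (R := R) ∘ₗ i from LinearMap.ext hρW,
      LinearMap.rTensor_comp_apply, hρW, Coalgebra.coassoc_apply]
  have hWcounit : (Coalgebra.counit (R := R)).lTensor W ∘ₗ ρW = (TensorProduct.mk R W R).flip 1 :=
    LinearMap.ext fun w => by
    refine hinj R ?_
    simp only [LinearMap.comp_apply]
    rw [← lTensor_rTensor', hρW, Coalgebra.lTensor_counit_comul]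
    rfl
  letI : HopfRep.Comod R A ↥W := { coact := ρW, coassoc := hWassoc, counit_comp := hWcounit }
  obtain ⟨E, iE1, iE2, iE3, π, hEfin, hEproj, hπs, hπ⟩ := hRE ↥W
  let ρE : E →ₗ[R] E ⊗[R] A := HopfRep.Comod.coact (k := R) (A := A)
  have hequiv : Coalgebra.comul (R := R) ∘ₗ (i ∘ₗ π) = (i ∘ₗ π).rTensor A ∘ₗ ρE := LinearMap.ext fun x => by
    simp only [LinearMap.comp_apply]
    rw [LinearMap.rTensor_comp_apply, ← show ρW (π x) = π.rTensor A (ρE x) from LinearMap.congr_fun hπ x, hρW]
    rfl
  obtain ⟨d, a, h1, h2, h3⟩ := exists_matrix_of_comodule ρE HopfRep.Comod.coassoc HopfRep.Comod.counit_comp (i ∘ₗ π) hequiv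
  obtain ⟨u, hu⟩ := exists_inv_det a h1 h2
  refine ⟨d, a, h1, h2, u, hu, top_le_iff.1 ?_⟩
  rw [← hF]
  refine Algebra.adjoin_le fun v hv => ?_
  obtain ⟨x, hx⟩ := hπs ⟨v, hFW hv⟩
  refine (Submodule.span_le (p := Subalgebra.toSubmodule (Algebra.adjoin R
    (Set.range (fun p : Fin d × Fin d => a p.1 p.2) ∪ {u})))).2 ?_ (h3 v ⟨x, congrArg Subtype.val hx⟩)
  exact fun y hy => Algebra.subset_adjoin (Set.mem_union_left _ hy)

end Groth.Agent.S6081
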