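import Groth.Statements.S6082
import Groth.Agent.RegDual
import Groth.Agent.SubHopfRep

set_option autoImplicit false
universe u
open TensorProduct
open SGA3

namespace Groth.Agent.S6082

open TensorProduct Groth.Agent.SubHopfRep

section
variable (R : Type u) [CommRing R] (C : Type u) [AddCommGroup C] [Module R C] [Coalgebra R C]

/-- The cofree coaction on `P ⊗ C`. -/
noncomputable def cofree (P : Type u) [AddCommGroup P] [Module R P] : P ⊗[R] C →ₗ[R] (P ⊗[R] C) ⊗[R] C :=
  (TensorProduct.assoc R P C C).symm.toLinearMap ∘ₗ (Coalgebra.comul (R := R)).lTensor P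

variable {R C}

theorem assoc_rTensor_rTensor' {M N : Type u} [AddCommGroup M] [Module R M] [AddCommGroup N] [Module R N]
    {B D : Type u} [AddCommGroup B] [Module R B] [AddCommGroup D] [Module R D]
    (f : M →ₗ[R] N) (z : (M ⊗[R] B) ⊗[R] D) :
    TensorProduct.assoc R N B D ((f.rTensor B).rTensor D z) = f.rTensor (B ⊗[R] D) (TensorProduct.assoc R M B D z) := by
  induction z using TensorProduct.induction_on with
  | zero => simp
  | add a b ha hb => simp only [map_add, ha, hb]
  | tmul x c =>
    induction x using TensorProduct.induction_on with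
    | zero => simp
    | add a b ha hb => simp only [TensorProduct.add_tmul, map_add, ha, hb]
    | tmul a b => simp

theorem cofree_nat {M N : Type u} [AddCommGroup M] [Module R M] [AddCommGroup N] [Module R N]
    (f : M →ₗ[R] N) (z : M ⊗[R] C) : (f.rTensor C).rTensor C (cofree R C M z) = cofree R C N (f.rTensor C z) := by
  apply (TensorProduct.assoc R N C C).injective
  simp only [cofree, LinearMap.comp_apply, LinearEquiv.coe_coe]
  rw [assoc_rTensor_rTensor', LinearEquiv.apply_symm_apply, LinearEquiv.apply_symm_apply, lTensor_rTensor']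

theorem counit_cofree {M : Type u} [AddCommGroup M] [Module R M] (z : M ⊗[R] C) :
    (Coalgebra.counit (R := R)).lTensor (M ⊗[R] C) (cofree R C M z) = z ⊗ₜ 1 := by
  induction z using TensorProduct.induction_on with
  | zero => simp
  | add a b ha hb => simp only [map_add, ha, hb, TensorProduct.add_tmul]
  | tmul m c =>
    simp only [cofree, LinearMap.comp_apply, LinearEquiv.coe_coe, LinearMap.lTensor_tmul]
    have key : ∀ y : C ⊗[R] C, (Coalgebra.counit (R := R)).lTensor (M ⊗[R] C) ((TensorProduct.assoc R M C C).symm (m ⊗ₜ y)) =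
        (TensorProduct.assoc R M C R).symm (m ⊗ₜ (Coalgebra.counit (R := R)).lTensor C y) := by
      intro y
      induction y using TensorProduct.induction_on with
      | zero => simp
      | add a b ha hb => simp only [map_add, TensorProduct.tmul_add, ha, hb]
      | tmul a b => simp
    rw [key, Coalgebra.lTensor_counit_comul]
    simp

theorem assoc_cofree {M : Type u} [AddCommGroup M] [Module R M] (z : M ⊗[R] C) :
    TensorProduct.assoc R (M ⊗[R] C) C C ((cofree R C M).rTensor C (cofree R C M z)) =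
      (Coalgebra.comul (R := R)).lTensor (M ⊗[R] C) (cofree R C M z) := by
  induction z using TensorProduct.induction_on with
  | zero => simp
  | add a b ha hb => simp only [map_add, ha, hb]
  | tmul m c =>
    simp only [cofree, LinearMap.comp_apply, LinearEquiv.coe_coe, LinearMap.lTensor_tmul]
    let J : C ⊗[R] (C ⊗[R] C) →ₗ[R] (M ⊗[R] C) ⊗[R] (C ⊗[R] C) :=
      (TensorProduct.assoc R M C (C ⊗[R] C)).symm.toLinearMap ∘ₗ TensorProduct.mk R M _ m
    have e1 : ∀ y : C ⊗[R] C, TensorProduct.assoc R (M ⊗[R] C) C C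
        (((TensorProduct.assoc R M C C).symm.toLinearMap ∘ₗ (Coalgebra.comul (R := R)).lTensor M).rTensor C
          ((TensorProduct.assoc R M C C).symm (m ⊗ₜ y))) =
        J (TensorProduct.assoc R C C C ((Coalgebra.comul (R := R)).rTensor C y)) := by
      intro y
      induction y using TensorProduct.induction_on with
      | zero => simp
      | add a b ha hb => simp only [map_add, TensorProduct.tmul_add, ha, hb]
      | tmul a b =>
        simp only [TensorProduct.assoc_symm_tmul, LinearMap.rTensor_tmul, LinearMap.comp_apply, LinearEquiv.coe_coe,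
          LinearMap.lTensor_tmul]
        generalize Coalgebra.comul (R := R) a = X
        induction X using TensorProduct.induction_on with
        | zero => simp
        | add p q hp hq => simp only [map_add, TensorProduct.tmul_add, TensorProduct.add_tmul, hp, hq]
        | tmul p q => simp [J]
    have e2 : ∀ y : C ⊗[R] C, (Coalgebra.comul (R := R)).lTensor (M ⊗[R] C) ((TensorProduct.assoc R M C C).symm (m ⊗ₜ y)) =
        J ((Coalgebra.comul (R := R)).lTensor C y) := by
      intro y
      induction y using TensorProduct.induction_on with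
      | zero => simp
      | add a b ha hb => simp only [map_add, TensorProduct.tmul_add, ha, hb]
      | tmul a b => simp [J]
    rw [e1, e2, Coalgebra.coassoc_apply]

variable (F : Type u) [AddCommGroup F] [Module R F] [HopfRep.Comod R C F]

/-- The retraction of the coaction. -/
noncomputable def ret : F ⊗[R] C →ₗ[R] F := (TensorProduct.rid R F).toLinearMap ∘ₗ (Coalgebra.counit (R := R)).lTensor F

theorem ret_coact (v : F) : ret F (HopfRep.Comod.coact (k := R) (A := C) v) = v := by
  have := LinearMap.congr_fun (HopfRep.Comod.counit_comp (k := R) (A := C) (V := F)) v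
  simp only [ret, LinearMap.comp_apply, LinearEquiv.coe_coe] at this ⊢
  rw [this]; simp

/-- The cobar differential, whose kernel is the image of the coaction. -/
noncomputable def cobar : F ⊗[R] C →ₗ[R] F ⊗[R] (C ⊗[R] C) :=
  (TensorProduct.assoc R F C C).toLinearMap ∘ₗ (HopfRep.Comod.coact (k := R) (A := C)).rTensor C -
    (Coalgebra.comul (R := R)).lTensor F

theorem cobar_coact (v : F) : cobar F (HopfRep.Comod.coact (k := R) (A := C) v) = 0 := by
  have := LinearMap.congr_fun (HopfRep.Comod.coassoc (k := R) (A := C) (V := F)) v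
  simp only [cobar, LinearMap.sub_apply, LinearMap.comp_apply] at this ⊢
  rw [this, sub_self]

theorem eq_coact_of_cobar {z : F ⊗[R] C} (hz : cobar F z = 0) :
    z = HopfRep.Comod.coact (k := R) (A := C) (ret F z) := by
  let K : F ⊗[R] (C ⊗[R] C) →ₗ[R] F ⊗[R] C :=
    ((TensorProduct.rid R C).toLinearMap ∘ₗ (Coalgebra.counit (R := R)).lTensor C).lTensor F
  have h1 : ∀ y : F ⊗[R] C, K (TensorProduct.assoc R F C C ((HopfRep.Comod.coact (k := R) (A := C)).rTensor C y)) =
      HopfRep.Comod.coact (k := R) (A := C) (ret F y) := by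
    intro y
    induction y using TensorProduct.induction_on with
    | zero => simp
    | add a b ha hb => simp only [map_add, ha, hb]
    | tmul v c =>
      simp only [LinearMap.rTensor_tmul, ret, LinearMap.comp_apply, LinearEquiv.coe_coe, LinearMap.lTensor_tmul,
        TensorProduct.rid_tmul, map_smul]
      generalize (HopfRep.Comod.coact (k := R) (A := C)) v = X
      induction X using TensorProduct.induction_on with
      | zero => simp
      | add p q hp hq => simp only [map_add, TensorProduct.add_tmul, hp, hq, smul_add]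
      | tmul p q => simp [K, TensorProduct.tmul_smul]
  have h2 : ∀ y : F ⊗[R] C, K ((Coalgebra.comul (R := R)).lTensor F y) = y := by
    intro y
    induction y using TensorProduct.induction_on with
    | zero => simp
    | add a b ha hb => simp only [map_add, ha, hb]
    | tmul v c => simp [K, Coalgebra.lTensor_counit_comul]
  have h := congrArg K hz
  rw [map_zero, cobar, LinearMap.sub_apply, map_sub, LinearMap.comp_apply, LinearEquiv.coe_coe, h1, h2, sub_eq_zero] at h
  exact h.symm

variable {P : Type u} [AddCommGroup P] [Module R P] (φ : P →ₗ[R] F)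

/-- Equivariance of `ret ∘ φ` on the preimage of the image of the coaction. -/
theorem coact_ret {z : P ⊗[R] C} (hz : cobar F (φ.rTensor C z) = 0) :
    (φ.rTensor C).rTensor C (cofree R C P z) =
      (HopfRep.Comod.coact (k := R) (A := C)).rTensor C (HopfRep.Comod.coact (k := R) (A := C) (ret F (φ.rTensor C z))) ∧
    HopfRep.Comod.coact (k := R) (A := C) (ret F (φ.rTensor C z)) =
      (ret F ∘ₗ φ.rTensor C).rTensor C (cofree R C P z) := by
  have h1 : (φ.rTensor C).rTensor C (cofree R C P z) =
      (HopfRep.Comod.coact (k := R) (A := C)).rTensor C (HopfRep.Comod.coact (k := R) (A := C) (ret F (φ.rTensor C z))) := by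
    rw [cofree_nat]
    conv_lhs => rw [eq_coact_of_cobar F hz]
    apply (TensorProduct.assoc R F C C).injective
    simp only [cofree, LinearMap.comp_apply, LinearEquiv.coe_coe, LinearEquiv.apply_symm_apply]
    exact (LinearMap.congr_fun (HopfRep.Comod.coassoc (k := R) (A := C) (V := F)) _).symm
  refine ⟨h1, ?_⟩
  rw [LinearMap.rTensor_comp_apply, h1, ← LinearMap.rTensor_comp_apply,
    show ret F ∘ₗ HopfRep.Comod.coact (k := R) (A := C) = LinearMap.id from LinearMap.ext (ret_coact F),
    LinearMap.rTensor_id, LinearMap.id_apply]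

theorem rTensor_prod_eq_zero {A B D : Type u} [AddCommGroup A] [Module R A] [AddCommGroup B] [Module R B]
    [AddCommGroup D] [Module R D] (f : D →ₗ[R] A) (g : D →ₗ[R] B) (z : D ⊗[R] C)
    (hf : f.rTensor C z = 0) (hg : g.rTensor C z = 0) : (f.prod g).rTensor C z = 0 := by
  apply (TensorProduct.prodLeft R R A B C).injective
  have key : ∀ y : D ⊗[R] C, TensorProduct.prodLeft R R A B C ((f.prod g).rTensor C y) = (f.rTensor C y, g.rTensor C y) := by
    intro y
    induction y using TensorProduct.induction_on with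
    | zero => simp only [map_zero]; rfl
    | add a b ha hb => simp only [map_add, ha, hb, Prod.mk_add_mk]
    | tmul a b => simp
  rw [key, hf, hg, map_zero]; rfl

/-- A finite stable submodule of `P ⊗ C` covering `F`. -/
theorem exists_cover [IsNoetherianRing R] [Module.Flat R C] [Module.Finite R F] (hφ : Function.Surjective φ) :
    ∃ (W : Type u) (_ : AddCommGroup W) (_ : Module R W) (i : W →ₗ[R] P ⊗[R] C) (ρW : W →ₗ[R] W ⊗[R] C),
      Function.Injective i ∧ Module.Finite R W ∧
      (TensorProduct.assoc R W C C).toLinearMap ∘ₗ ρW.rTensor C ∘ₗ ρW = (Coalgebra.comul (R := R)).lTensor W ∘ₗ ρW ∧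
      (Coalgebra.counit (R := R)).lTensor W ∘ₗ ρW = (TensorProduct.mk R W R).flip 1 ∧
      (∀ w, i.rTensor C (ρW w) = cofree R C P (i w)) ∧
      (∀ w : W, cobar F (φ.rTensor C (i w)) = 0) ∧
      Function.Surjective (ret F ∘ₗ φ.rTensor C ∘ₗ i) := by
  classical
  obtain ⟨n, v, hv⟩ := Submodule.fg_iff_exists_fin_generating_family.1 (Module.Finite.fg_top : (⊤ : Submodule R F).FG)
  choose z hz using fun j => LinearMap.rTensor_surjective C hφ (HopfRep.Comod.coact (k := R) (A := C) (v j))
  let X : P ⊗[R] C →ₗ[R] F ⊗[R] (C ⊗[R] C) := cobar F ∘ₗ φ.rTensor C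
  choose S hS using fun y : P ⊗[R] C => TensorProduct.exists_finset (cofree R C P y)
  let M : Submodule R (P ⊗[R] C) := Submodule.span R ↑(((Finset.univ.image z).biUnion S).image Prod.fst)
  let h1 : P ⊗[R] C →ₗ[R] ((P ⊗[R] C) ⧸ M) ⊗[R] C := M.mkQ.rTensor C ∘ₗ cofree R C P
  let h := h1.prod X
  have hinj : ∀ (B : Type u) [AddCommGroup B] [Module R B] [Module.Flat R B],
      Function.Injective ((LinearMap.ker h).subtype.rTensor B) :=
    fun B _ _ _ => Module.Flat.rTensor_preserves_injective_linearMap _ (LinearMap.ker h).injective_subtype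
  have hle : LinearMap.ker h ≤ M := by
    intro w hw
    have hw' : M.mkQ.rTensor C (cofree R C P w) = 0 := congrArg Prod.fst (LinearMap.mem_ker.1 hw)
    have e : TensorProduct.rid R ((P ⊗[R] C) ⧸ M) ((Coalgebra.counit (R := R)).lTensor _ (M.mkQ.rTensor C (cofree R C P w))) = M.mkQ w := by
      rw [lTensor_rTensor', counit_cofree]; simp
    rw [hw', map_zero, map_zero] at e
    exact (Submodule.Quotient.mk_eq_zero M).1 e.symm
  have hst : ∀ w ∈ LinearMap.ker h, cofree R C P w ∈ LinearMap.range ((LinearMap.ker h).subtype.rTensor C) := by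
    intro w hw
    refine (Module.Flat.rTensor_exact C h.exact_subtype_ker_map _).1 (rTensor_prod_eq_zero _ _ _ ?_ ?_)
    · apply (TensorProduct.assoc R ((P ⊗[R] C) ⧸ M) C C).injective
      rw [map_zero, LinearMap.rTensor_comp_apply, assoc_rTensor_rTensor', assoc_cofree, ← lTensor_rTensor']
      rw [show M.mkQ.rTensor C (cofree R C P w) = 0 from congrArg Prod.fst (LinearMap.mem_ker.1 hw), map_zero]
    · rw [LinearMap.rTensor_comp_apply, (coact_ret F φ (congrArg Prod.snd (LinearMap.mem_ker.1 hw))).1,
        ← LinearMap.rTensor_comp_apply,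
        show cobar F ∘ₗ HopfRep.Comod.coact (k := R) (A := C) = 0 from LinearMap.ext (cobar_coact F),
        LinearMap.rTensor_zero, LinearMap.zero_apply]
  choose c hc using fun w : LinearMap.ker h => hst w w.2
  let ρW : LinearMap.ker h →ₗ[R] LinearMap.ker h ⊗[R] C :=
    { toFun := c
      map_add' := fun x y => hinj C (by rw [map_add, hc, hc, hc, Submodule.coe_add, map_add])
      map_smul' := fun r x => hinj C (by rw [map_smul, RingHom.id_apply, hc, hc, Submodule.coe_smul, map_smul]) }
  have hρ : ∀ w, (LinearMap.ker h).subtype.rTensor C (ρW w) = cofree R C P w := hc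
  have hzmem : ∀ j, z j ∈ LinearMap.ker h := fun j => by
    rw [LinearMap.mem_ker]
    refine Prod.ext ?_ ?_
    · show M.mkQ.rTensor C (cofree R C P (z j)) = 0
      rw [hS (z j), map_sum]
      refine Finset.sum_eq_zero fun i hi => ?_
      rw [LinearMap.rTensor_tmul, Submodule.mkQ_apply, (Submodule.Quotient.mk_eq_zero M).2
        (Submodule.subset_span (Finset.mem_coe.2 (Finset.mem_image_of_mem _ (Finset.mem_biUnion.2
          ⟨z j, Finset.mem_image_of_mem _ (Finset.mem_univ j), hi⟩)))), TensorProduct.zero_tmul]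
    · show cobar F (φ.rTensor C (z j)) = 0
      rw [hz, cobar_coact]
  refine ⟨↥(LinearMap.ker h), inferInstance, inferInstance, (LinearMap.ker h).subtype, ρW, (LinearMap.ker h).injective_subtype,
    ?_, ?_, ?_, hρ, fun w => congrArg Prod.snd (LinearMap.mem_ker.1 w.2), ?_⟩
  · haveI : Module.Finite R M := Module.Finite.iff_fg.2 ⟨_, rfl⟩
    exact Module.Finite.of_injective (Submodule.inclusion hle) (Submodule.inclusion_injective hle)
  · refine LinearMap.ext fun w => hinj (C ⊗[R] C) ?_
    simp only [LinearMap.comp_apply, LinearEquiv.coe_coe]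
    rw [← assoc_rTensor_rTensor', ← lTensor_rTensor', hρ, ← LinearMap.rTensor_comp_apply,
      show ((LinearMap.ker h).subtype.rTensor C) ∘ₗ ρW = cofree R C P ∘ₗ (LinearMap.ker h).subtype from LinearMap.ext hρ,
      LinearMap.rTensor_comp_apply, hρ, assoc_cofree]
  · refine LinearMap.ext fun w => hinj R ?_
    simp only [LinearMap.comp_apply]
    rw [← lTensor_rTensor', hρ, counit_cofree]
    rfl
  · rw [← LinearMap.range_eq_top, eq_top_iff, ← hv, Submodule.span_le]
    rintro _ ⟨j, rfl⟩
    refine ⟨⟨z j, hzmem j⟩, ?_⟩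
    simp only [LinearMap.comp_apply, Submodule.subtype_apply]
    rw [hz, ret_coact]

theorem assoc_image {W D : Type u} [AddCommGroup W] [Module R W] [AddCommGroup D] [Module R D] (η : W →ₗ[R] D)
    (ρW : W →ₗ[R] W ⊗[R] C) (ρD : D →ₗ[R] D ⊗[R] C) (hρ : ρD ∘ₗ η = η.rTensor C ∘ₗ ρW)
    (hW : (TensorProduct.assoc R W C C).toLinearMap ∘ₗ ρW.rTensor C ∘ₗ ρW = (Coalgebra.comul (R := R)).lTensor W ∘ₗ ρW)
    (hWu : (Coalgebra.counit (R := R)).lTensor W ∘ₗ ρW = (TensorProduct.mk R W R).flip 1) :
    ((Coalgebra.comul (R := R)).lTensor D ∘ₗ ρD) ∘ₗ η = ((TensorProduct.assoc R D C C).toLinearMap ∘ₗ ρD.rTensor C ∘ₗ ρD) ∘ₗ η ∧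
      ((TensorProduct.mk R D R).flip 1) ∘ₗ η = ((Coalgebra.counit (R := R)).lTensor D ∘ₗ ρD) ∘ₗ η := by
  constructor <;> refine LinearMap.ext fun w => ?_
  · have e := LinearMap.congr_fun hW w
    simp only [LinearMap.comp_apply, LinearEquiv.coe_coe] at e ⊢
    rw [show ρD (η w) = η.rTensor C (ρW w) from LinearMap.congr_fun hρ w, ← LinearMap.rTensor_comp_apply, hρ,
      LinearMap.rTensor_comp_apply, assoc_rTensor_rTensor', lTensor_rTensor', e]
  · have e := LinearMap.congr_fun hWu w
    simp only [LinearMap.comp_apply] at e ⊢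
    rw [show ρD (η w) = η.rTensor C (ρW w) from LinearMap.congr_fun hρ w, lTensor_rTensor', e]
    rfl

theorem finish [IsRegularRing R] (hdim : ringKrullDim R ≤ 2) [Module.Flat R C]
    {F1 Q P W : Type u} [AddCommGroup F1] [Module R F1] [HopfRep.Comod R C F1] [AddCommGroup Q] [Module R Q] [Module.Flat R Q]
    [AddCommGroup P] [Module R P] [Module.Flat R P] [AddCommGroup W] [Module R W] [Module.Finite R W]
    (j : F1 →ₗ[R] Q) (hj : Function.Injective j) (φ : P →ₗ[R] F1) (i : W →ₗ[R] P ⊗[R] C)
    (ρW : W →ₗ[R] W ⊗[R] C)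
    (hWassoc : (TensorProduct.assoc R W C C).toLinearMap ∘ₗ ρW.rTensor C ∘ₗ ρW = (Coalgebra.comul (R := R)).lTensor W ∘ₗ ρW)
    (hWcounit : (Coalgebra.counit (R := R)).lTensor W ∘ₗ ρW = (TensorProduct.mk R W R).flip 1)
    (hρW : ∀ w, i.rTensor C (ρW w) = cofree R C P (i w))
    (hX : ∀ w, cobar F1 (φ.rTensor C (i w)) = 0)
    (hs : Function.Surjective (ret F1 ∘ₗ φ.rTensor C ∘ₗ i)) :
    ∃ (V : Type u) (_ : AddCommGroup V) (_ : Module R V) (_ : HopfRep.Comod R C V) (ψ : V →ₗ[R] F1),
      Module.Finite R V ∧ Module.Projective R V ∧ Function.Surjective ψ ∧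
      HopfRep.Comod.coact (k := R) (A := C) ∘ₗ ψ = ψ.rTensor C ∘ₗ HopfRep.Comod.coact (k := R) (A := C) (V := V) := by
  haveI := Groth.Agent.RegDual.projective_dual hdim W
  haveI : Module.Finite R (Module.Dual R W) := by
    obtain ⟨m, π, hπ⟩ := Module.Finite.exists_fin' R W
    exact Module.Finite.of_injective π.dualMap (LinearMap.dualMap_injective_of_surjective hπ)
  let D := Module.Dual R (Module.Dual R W)
  let η : W →ₗ[R] D := Module.Dual.eval R W
  have hext : ∀ (N : Type u) [AddCommGroup N] [Module R N] [Module.Flat R N] (g : W →ₗ[R] N),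
      ∃! G : D →ₗ[R] N, G ∘ₗ η = g := fun N _ _ _ g => Groth.Agent.RegDual.existsUnique_extend W N g
  obtain ⟨ρD, hρD, -⟩ := hext (D ⊗[R] C) (η.rTensor C ∘ₗ ρW)
  obtain ⟨ι, hι, -⟩ := hext (P ⊗[R] C) i
  have himg := assoc_image (W := W) (D := D) η ρW ρD hρD hWassoc hWcounit
  have hDassoc : (TensorProduct.assoc R D C C).toLinearMap ∘ₗ ρD.rTensor C ∘ₗ ρD =
      (Coalgebra.comul (R := R)).lTensor D ∘ₗ ρD :=
    (hext (D ⊗[R] (C ⊗[R] C)) _).unique rfl himg.1
  have hDcounit : (Coalgebra.counit (R := R)).lTensor D ∘ₗ ρD = (TensorProduct.mk R D R).flip 1 :=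
    (hext (D ⊗[R] R) _).unique rfl himg.2
  have hequiv : ι.rTensor C ∘ₗ ρD = cofree R C P ∘ₗ ι := by
    refine (hext ((P ⊗[R] C) ⊗[R] C) _).unique rfl (LinearMap.ext fun w => ?_)
    simp only [LinearMap.comp_apply]
    rw [show ρD (η w) = η.rTensor C (ρW w) from LinearMap.congr_fun hρD w, ← LinearMap.rTensor_comp_apply, hι, hρW,
      show ι (η w) = i w from LinearMap.congr_fun hι w]
  have hker : ∀ x, cobar F1 (φ.rTensor C (ι x)) = 0 := by
    intro x
    apply Module.Flat.rTensor_preserves_injective_linearMap (M := C ⊗[R] C) _ hj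
    rw [map_zero]
    have h0 : (j.rTensor (C ⊗[R] C) ∘ₗ cobar F1 ∘ₗ φ.rTensor C) ∘ₗ ι = 0 :=
      (hext (Q ⊗[R] (C ⊗[R] C)) _).unique rfl (LinearMap.ext fun w => by
        simp only [LinearMap.comp_apply, LinearMap.zero_apply]
        rw [show ι (η w) = i w from LinearMap.congr_fun hι w, hX w, map_zero])
    exact LinearMap.congr_fun h0 x
  refine ⟨D, inferInstance, inferInstance, { coact := ρD, coassoc := hDassoc, counit_comp := hDcounit },
    ret F1 ∘ₗ φ.rTensor C ∘ₗ ι, inferInstance, inferInstance, ?_, LinearMap.ext fun x => ?_⟩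
  · intro y
    obtain ⟨w, rfl⟩ := hs y
    exact ⟨η w, by simp only [LinearMap.comp_apply]; rw [show ι (η w) = i w from LinearMap.congr_fun hι w]⟩
  · simp only [LinearMap.comp_apply]
    rw [(coact_ret F1 φ (hker x)).2, ← show ι.rTensor C (ρD x) = cofree R C P (ι x) from LinearMap.congr_fun hequiv x,
      ← LinearMap.rTensor_comp_apply]
    rfl

/-- Every finite comodule is covered by a finite comodule embedded in a flat module. -/
theorem exists_cover_flat [IsNoetherianRing R] [Module.Flat R C] (F : Type u) [AddCommGroup F] [Module R F]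
    [HopfRep.Comod R C F] [Module.Finite R F] :
    ∃ (W : Type u) (_ : AddCommGroup W) (_ : Module R W) (_ : HopfRep.Comod R C W) (Q : Type u) (_ : AddCommGroup Q)
      (_ : Module R Q) (j : W →ₗ[R] Q) (ψ : W →ₗ[R] F), Module.Flat R Q ∧ Function.Injective j ∧ Module.Finite R W ∧
        Function.Surjective ψ ∧
        HopfRep.Comod.coact (k := R) (A := C) ∘ₗ ψ = ψ.rTensor C ∘ₗ HopfRep.Comod.coact (k := R) (A := C) (V := W) := by
  obtain ⟨n, φ, hφ⟩ := Module.Finite.exists_fin' R F
  obtain ⟨W, iW1, iW2, i, ρW, hinj, hfin, ha, hu, hρ, hX, hs⟩ := exists_cover (C := C) F φ hφ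
  refine ⟨W, iW1, iW2, { coact := ρW, coassoc := ha, counit_comp := hu }, (Fin n → R) ⊗[R] C,
    inferInstance, inferInstance, i, ret F ∘ₗ φ.rTensor C ∘ₗ i, inferInstance, hinj, hfin, hs,
    LinearMap.ext fun x => ?_⟩
  simp only [LinearMap.comp_apply]
  refine ((coact_ret F φ (hX x)).2).trans ?_
  rw [← hρ x, ← LinearMap.rTensor_comp_apply]
  rfl

theorem exists_proj_cover [IsRegularRing R] (hdim : ringKrullDim R ≤ 2) [Module.Flat R C]
    (F1 Q : Type u) [AddCommGroup F1] [Module R F1] [HopfRep.Comod R C F1] [Module.Finite R F1]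
    [AddCommGroup Q] [Module R Q] [Module.Flat R Q] (j : F1 →ₗ[R] Q) (hj : Function.Injective j) :
    ∃ (V : Type u) (_ : AddCommGroup V) (_ : Module R V) (_ : HopfRep.Comod R C V) (ψ : V →ₗ[R] F1),
      Module.Finite R V ∧ Module.Projective R V ∧ Function.Surjective ψ ∧
      HopfRep.Comod.coact (k := R) (A := C) ∘ₗ ψ = ψ.rTensor C ∘ₗ HopfRep.Comod.coact (k := R) (A := C) (V := V) := by
  obtain ⟨n, φ, hφ⟩ := Module.Finite.exists_fin' R F1
  obtain ⟨W, iW1, iW2, i, ρW, hinj, hfin, ha, hu, hρ, hX, hs⟩ := exists_cover (C := C) F1 φ hφ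
  exact finish hdim j hj φ i ρW ha hu hρ hX hs

end

/-- Let R be a Noetherian regular ring of Krull dimension at most 2, C a (coassociative, counital)
R-coalgebra which is projective as an R-module, and F a right C-comodule which is finitely generated
as an R-module. Then F is a quotient of a C-comodule which is finitely generated and projective as
an R-module: there are such a comodule V and a surjective R-linear map V → F compatible with the
coactions. -/
theorem result (R : Type u) [CommRing R] [IsRegularRing R]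
    (hdim : ringKrullDim R ≤ 2) (C : Type u) [AddCommGroup C] [Module R C] [Coalgebra R C] [Module.Projective R C]
    (F : Type u) [AddCommGroup F] [Module R F] [HopfRep.Comod R C F] [Module.Finite R F] :
    ∃ (V : Type u) (_ : AddCommGroup V) (_ : Module R V) (_ : HopfRep.Comod R C V) (φ : V →ₗ[R] F),
      Module.Finite R V ∧ Module.Projective R V ∧ Function.Surjective φ ∧ HopfRep.Comod.coact (k := R) (A := C) ∘ₗ φ = φ.rTensor C ∘ₗ HopfRep.Comod.coact (k := R) (A := C) (V := V) := by
  classical
  obtain ⟨W, iW1, iW2, iW3, Q, iQ1, iQ2, j, ψ₁, hQ, hj, hWf, hs₁, he₁⟩ := exists_cover_flat (R := R) (C := C) F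
  obtain ⟨V, iV1, iV2, iV3, ψ₂, hVf, hVp, hψs, hψe⟩ := exists_proj_cover (C := C) hdim W Q j hj
  refine ⟨V, iV1, iV2, iV3, ψ₁ ∘ₗ ψ₂, hVf, hVp, hs₁.comp hψs, ?_⟩
  rw [← LinearMap.comp_assoc, he₁, LinearMap.comp_assoc, hψe, ← LinearMap.comp_assoc, ← LinearMap.rTensor_comp]

end Groth.Agent.S6082
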