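import Groth.Statements.S6084
import Groth.Agent.GrpQuotLib.OnePointGrp
import Groth.Agent.ASp.FppfSrcLocal
-- import your own Groth.Agent.* helpers here

set_option autoImplicit false
universe u
open CategoryTheory CategoryTheory.Limits MonoidalCategory CartesianMonoidalCategory MonObj GrpObj AlgebraicGeometry
open SGA3

namespace Groth.Agent.S6084

/-- Let k be a perfect field, G a group scheme locally of finite type over k and u : F → G a
homomorphism of k-group schemes which is a closed immersion and surjective on underlying spaces,
with F reduced (so F is G_red with its group structure). Let p : G → X be a k-morphism which is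
flat, surjective and locally of finite presentation and makes the square formed by (f, g) ↦ u(f) ·
g, the second projection F ×_k G → G and p (twice) cartesian (X is the quotient of G by F acting by
left translations). Then X is the spectrum of a finite local k-algebra with residue field k: X is
affine, its underlying space is a single point at which the structure morphism induces an
isomorphism of residue fields, and the ring of global sections of X is finite over k. -/
theorem result (k : Type u) [Field k] [PerfectField k]
    (F G : Over (Spec (CommRingCat.of k))) [GrpObj F] [GrpObj G] [LocallyOfFiniteType G.hom] [IsReduced F.left]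
    (u : F ⟶ G) [IsMonHom u] [IsClosedImmersion u.left] [Surjective u.left]
    (X : Over (Spec (CommRingCat.of k))) (p : G ⟶ X) [Flat p.left] [Surjective p.left] [LocallyOfFinitePresentation p.left]
    (hp : IsPullback ((u ▷ G) ≫ μ[G]) (snd F G) p p) :
    IsAffine X.left ∧ (∃ x : X.left, (Set.univ : Set X.left) = {x} ∧ IsIso (X.hom.residueFieldMap x)) ∧
      ((Scheme.ΓSpecIso (CommRingCat.of k)).inv ≫ X.hom.appTop).hom.Finite := by
  haveI : Subsingleton ↥X.left := GrpQuotLib.subsingleton_of_isPullback F G X u p hp.w
  let pt : ↥(𝟙_ (Over (Spec (CommRingCat.of k)))).left := (IsLocalRing.closedPoint k : ↥(Spec (CommRingCat.of k)))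
  let o : ↥X.left := (η[G] ≫ p).left pt
  haveI : IsAffine X.left := by
    haveI : IsAffine (⊤ : X.left.Opens).toScheme := IsAffineOpen.of_subsingleton Set.subsingleton_of_subsingleton
    exact IsAffine.of_isIso (Scheme.topIso X.left).inv
  haveI : LocallyOfFiniteType (p.left ≫ X.hom) := by rw [Over.w p]; infer_instance
  haveI : LocallyOfFinitePresentation (p.left ≫ X.hom) := LocallyOfFinitePresentation.iff_locallyOfFiniteType.mpr inferInstance
  haveI : LocallyOfFinitePresentation X.hom := FppfSrc.locallyOfFinitePresentation_of_precomp_fppf p.left X.hom
  refine ⟨‹_›, ⟨o, Set.eq_singleton_iff_unique_mem.mpr ⟨trivial, fun y _ => Subsingleton.elim y o⟩,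
    GrpQuotLib.isIso_residueFieldMap X (η[G] ≫ p) pt⟩, GrpQuotLib.finite_of_subsingleton X⟩

end Groth.Agent.S6084
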