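import Groth.Statements.S6088
import Groth.Agent.SubgrpStageLib

set_option autoImplicit false
set_option backward.isDefEq.respectTransparency false
set_option backward.isDefEq.respectTransparency.types false
universe u
open CategoryTheory CategoryTheory.Limits MonoidalCategory CartesianMonoidalCategory MonObj GrpObj AlgebraicGeometry
open SGA3

namespace Groth.Agent.S6088

/-- Let S be the limit of a cofiltered system (S_i) of quasi-compact quasi-separated schemes with affine
transition morphisms, j an index and u_j : H_j → G_j a homomorphism of S_j-group schemes of finite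
presentation over S_j; write u and u_i for its base changes to S and to S_i. Then u is a
monomorphism with H normal in G (for every S-scheme T, conjugates of T-points of H by T-points of G
are T-points of H) if and only if there is an index i over j such that u_i is a monomorphism with
H_i normal in G_i; and u is a monomorphism with H central in G (every T-point of H commutes with
every T-point of G) if and only if there is an index i over j with the same property for u_i. (The
published statement starts from a homomorphism u of S-groups of finite presentation and first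
descends it to some u_j; this row starts from u_j. The published setting takes all S_i affine over a
fixed quasi-compact quasi-separated S_0.) -/
theorem result {I : Type u} [SmallCategory I] [IsCofiltered I]
    (D : I ⥤ Scheme.{u}) (c : Limits.Cone D) (hc : Limits.IsLimit c)
    [∀ (i i' : I) (f : i ⟶ i'), IsAffineHom (D.map f)] [∀ i, CompactSpace (D.obj i)] [∀ i, QuasiSeparatedSpace (D.obj i)]
    (j : I) (Gj Hj : Over (D.obj j)) [GrpObj Gj] [GrpObj Hj]
    [LocallyOfFinitePresentation Gj.hom] [QuasiCompact Gj.hom] [QuasiSeparated Gj.hom]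
    [LocallyOfFinitePresentation Hj.hom] [QuasiCompact Hj.hom] [QuasiSeparated Hj.hom]
    (uj : Hj ⟶ Gj) [IsMonHom uj] :
    ((Mono ((Over.pullback (c.π.app j)).map uj) ∧ AlgGrp.IsNormalHom ((Over.pullback (c.π.app j)).map uj)) ↔
      ∃ (i : I) (f : i ⟶ j), Mono ((Over.pullback (D.map f)).map uj) ∧ AlgGrp.IsNormalHom ((Over.pullback (D.map f)).map uj)) ∧
    ((Mono ((Over.pullback (c.π.app j)).map uj) ∧ (∀ (T : Over c.pt) (g : T ⟶ (Red.bc (c.π.app j) Gj)) (n : T ⟶ (Red.bc (c.π.app j) Hj)), g * (n ≫ ((Over.pullback (c.π.app j)).map uj)) = (n ≫ ((Over.pullback (c.π.app j)).map uj)) * g)) ↔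
      ∃ (i : I) (f : i ⟶ j), Mono ((Over.pullback (D.map f)).map uj) ∧ (∀ (T : Over (D.obj i)) (g : T ⟶ (Red.bc (D.map f) Gj)) (n : T ⟶ (Red.bc (D.map f) Hj)), g * (n ≫ ((Over.pullback (D.map f)).map uj)) = (n ≫ ((Over.pullback (D.map f)).map uj)) * g)) := by
  haveI : LocallyOfFinitePresentation uj.left :=
    ASp.locallyOfFinitePresentation_of_comp uj.left Gj.hom (by rw [Over.w uj]; infer_instance) inferInstance
  haveI : QuasiCompact uj.left := by
    haveI : QuasiCompact (uj.left ≫ Gj.hom) := by rw [Over.w uj]; infer_instance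
    exact QuasiCompact.of_comp uj.left Gj.hom
  haveI : QuasiSeparated uj.left := by
    haveI : QuasiSeparated (uj.left ≫ Gj.hom) := by rw [Over.w uj]; infer_instance
    exact QuasiSeparated.of_comp uj.left Gj.hom
  haveI : QuasiCompact (Gj ⊗ Hj).hom :=
    (inferInstance : QuasiCompact (Limits.pullback.fst Gj.hom Hj.hom ≫ Gj.hom))
  haveI : QuasiSeparated (Gj ⊗ Hj).hom :=
    (inferInstance : QuasiSeparated (Limits.pullback.fst Gj.hom Hj.hom ≫ Gj.hom))
  haveI : LocallyOfFinitePresentation (Gj ⊗ Gj).hom :=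
    (inferInstance : LocallyOfFinitePresentation (Limits.pullback.fst Gj.hom Gj.hom ≫ Gj.hom))
  let Δ := SubgrpStage.diag Gj
  have hΔ : Δ.left = pullback.diagonal Gj.hom := by
    apply Limits.pullback.hom_ext <;> simp [Δ, SubgrpStage.diag]
  haveI : LocallyOfFinitePresentation Δ.left :=
    ASp.locallyOfFinitePresentation_of_comp Δ.left (Gj ⊗ Gj).hom (by rw [Over.w Δ]; infer_instance) inferInstance
  haveI : QuasiCompact Δ.left := by rw [hΔ]; infer_instance
  haveI : QuasiSeparated Δ.left := by rw [hΔ]; infer_instance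
  haveI : Mono Δ.left := by rw [hΔ]; infer_instance
  haveI : Mono ((Over.pullback (c.π.app j)).map Δ).left := SubgrpStage.mono_pullback_left _ _
  have hmono : ∀ [Mono ((Over.pullback (c.π.app j)).map uj)],
      ∃ k : Over j, ∀ (l : Over j) (_ : l ⟶ k), Mono ((Over.pullback (D.map l.hom)).map uj) := by
    intro _
    exact SubgrpStage.exists_mono_stage D c hc j uj
  refine ⟨⟨fun ⟨hm, hn⟩ => ?_, fun ⟨i, f, hm, hn⟩ => ?_⟩, ⟨fun ⟨hm, hn⟩ => ?_, fun ⟨i, f, hm, hn⟩ => ?_⟩⟩
  · obtain ⟨k₁, hk₁⟩ := hmono
    obtain ⟨k₂, hk₂⟩ := SubgrpStage.exists_isIso' D c hc j uj _ ((SubgrpStage.isNormalAfter_iff _ _).2 hn)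
    let l := IsCofiltered.min k₁ k₂
    haveI := hk₂ l (IsCofiltered.minToRight k₁ k₂)
    exact ⟨l.left, l.hom, hk₁ l (IsCofiltered.minToLeft k₁ k₂),
      (SubgrpStage.isNormalAfter_iff _ _).1 (SubgrpStage.factor_of_isIso D j uj _ l)⟩
  · haveI := hm
    exact ⟨SubgrpStage.mono_limit D c f uj, (SubgrpStage.isNormalAfter_iff _ _).1
      (SubgrpStage.factor_limit D c f uj _ ((SubgrpStage.isNormalAfter_iff _ _).2 hn))⟩
  · obtain ⟨k₁, hk₁⟩ := hmono
    obtain ⟨k₂, hk₂⟩ := SubgrpStage.exists_isIso' D c hc j Δ _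
      ((SubgrpStage.eq_iff_factor _ _ _).1 ((SubgrpStage.central_iff _ uj).2 hn))
    let l := IsCofiltered.min k₁ k₂
    haveI := hk₂ l (IsCofiltered.minToRight k₁ k₂)
    exact ⟨l.left, l.hom, hk₁ l (IsCofiltered.minToLeft k₁ k₂),
      (SubgrpStage.central_iff _ uj).1 ((SubgrpStage.eq_iff_factor _ _ _).2 (SubgrpStage.factor_of_isIso D j Δ _ l))⟩
  · haveI := hm
    exact ⟨SubgrpStage.mono_limit D c f uj, (SubgrpStage.central_iff _ uj).1 ((SubgrpStage.eq_iff_factor _ _ _).2
      (SubgrpStage.factor_limit D c f Δ _ ((SubgrpStage.eq_iff_factor _ _ _).1 ((SubgrpStage.central_iff _ uj).2 hn))))⟩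

end Groth.Agent.S6088
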