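import Groth.Statements.S6089
import Groth.Agent.Neutral.HomFlat
import Groth.Agent.FpqcDesc.Stalk
-- import your own Groth.Agent.* helpers here

set_option autoImplicit false
set_option backward.isDefEq.respectTransparency false
set_option linter.style.haveILetI false
set_option maxHeartbeats 1600000
universe u
open CategoryTheory CategoryTheory.Limits MonoidalCategory CartesianMonoidalCategory MonObj GrpObj AlgebraicGeometry
open SGA3

namespace Groth.Agent.S6089

open Limits

theorem homeo_image_connectedComponent {X Y : Type*} [TopologicalSpace X] [TopologicalSpace Y] (e : X ≃ₜ Y) (x : X) :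
    e '' connectedComponent x = connectedComponent (e x) := by
  refine Set.Subset.antisymm (e.continuous.image_connectedComponent_subset x) fun y hy => ⟨e.symm y, ?_, e.apply_symm_apply y⟩
  have := e.symm.continuous.image_connectedComponent_subset (e x) ⟨y, hy, rfl⟩
  rwa [e.symm_apply_apply] at this

variable {k : Type u} [Field k]

theorem exists_lift_reduced {F' G G' : Over (Spec (CommRingCat.of k))} [IsReduced F'.left]
    (w : F' ⟶ G) (b : G' ⟶ G) [IsClosedImmersion b.left] [Surjective b.left] : ∃ l : F' ⟶ G', l ≫ b = w := by
  haveI : IsClosedImmersion (pullback.fst w.left b.left) := MorphismProperty.pullback_fst _ _ inferInstance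
  haveI : Surjective (pullback.fst w.left b.left) := MorphismProperty.pullback_fst _ _ inferInstance
  haveI : IsIso (pullback.fst w.left b.left) := isIso_of_isClosedImmersion_of_surjective _
  have e : (inv (pullback.fst w.left b.left) ≫ pullback.snd w.left b.left) ≫ b.left = w.left := by
    rw [Category.assoc, ← pullback.condition, IsIso.inv_hom_id_assoc]
  refine ⟨Over.homMk (inv (pullback.fst w.left b.left) ≫ pullback.snd w.left b.left) ?_, Over.OverMorphism.ext e⟩
  rw [← Over.w b, ← Category.assoc]
  show ((inv (pullback.fst w.left b.left) ≫ pullback.snd w.left b.left) ≫ b.left) ≫ G.hom = F'.hom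
  rw [e, Over.w w]

/-- Let k be a perfect field and u : F → G a homomorphism of k-group schemes locally of finite type over
k. Let a : F' → F and b : G' → G be homomorphisms which are closed immersions, surjective on
underlying spaces, with F' and G' reduced (the subgroups F_red and G_red), let p : F → X and q : G →
Y be k-morphisms which are flat, surjective and locally of finite presentation and make the squares
formed by (f', f) ↦ a(f') · f, the second projection, p, p (and likewise for b, q) cartesian (the
quotients of F and G by the left actions of F_red and G_red), and let v : X → Y satisfy p v = u q.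
Then u is flat if and only if (ii) holds: the neutral component of G (the connected component of the
unit point) is contained in the closure of the image under u of the neutral component of F, and v is
flat. -/
theorem result (k : Type u) [Field k] [PerfectField k]
    (F G F' G' : Over (Spec (CommRingCat.of k))) [GrpObj F] [GrpObj G] [GrpObj F'] [GrpObj G']
    [LocallyOfFiniteType F.hom] [LocallyOfFiniteType G.hom] (u : F ⟶ G) [IsMonHom u]
    [IsReduced F'.left] (a : F' ⟶ F) [IsMonHom a] [IsClosedImmersion a.left] [Surjective a.left]
    [IsReduced G'.left] (b : G' ⟶ G) [IsMonHom b] [IsClosedImmersion b.left] [Surjective b.left]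
    (X Y : Over (Spec (CommRingCat.of k))) (p : F ⟶ X) [Flat p.left] [Surjective p.left] [LocallyOfFinitePresentation p.left]
    (hp : IsPullback ((a ▷ F) ≫ μ[F]) (snd F' F) p p)
    (q : G ⟶ Y) [Flat q.left] [Surjective q.left] [LocallyOfFinitePresentation q.left]
    (hq : IsPullback ((b ▷ G) ≫ μ[G]) (snd G' G) q q)
    (v : X ⟶ Y) (hv : p ≫ v = u ≫ q) :
    Flat u.left ↔
      ((∀ p₀ : (𝟙_ (Over (Spec (CommRingCat.of k)))).left, connectedComponent ((η[G] : (𝟙_ (Over (Spec (CommRingCat.of k)))) ⟶ G).left.base p₀) ⊆
          closure (u.left.base '' connectedComponent ((η[F] : (𝟙_ (Over (Spec (CommRingCat.of k)))) ⟶ F).left.base p₀))) ∧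
        Flat v.left) := by
  let pt : ↥(Spec (CommRingCat.of k)) := IsLocalRing.closedPoint k
  haveI : Mono b.left := inferInstance
  haveI : LocallyOfFiniteType F'.hom := by rw [← Over.w a]; infer_instance
  haveI : LocallyOfFiniteType G'.hom := by rw [← Over.w b]; infer_instance
  obtain ⟨u', hu'⟩ := exists_lift_reduced (a ≫ u) b
  haveI : Mono b := ⟨fun g h e => Over.OverMorphism.ext ((cancel_mono b.left).1
    (by rw [← Over.comp_left, e, Over.comp_left]))⟩
  haveI : IsMonHom u' :=
    { one_hom := by rw [← cancel_mono b, Category.assoc, hu', IsMonHom.one_hom b, IsMonHom.one_hom_assoc a, IsMonHom.one_hom u]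
      mul_hom := by
        rw [← cancel_mono b, Category.assoc, hu', IsMonHom.mul_hom_assoc a, IsMonHom.mul_hom u, Category.assoc,
          IsMonHom.mul_hom b, ← Category.assoc, ← Category.assoc]
        congr 1
        rw [MonoidalCategory.tensorHom_comp_tensorHom, MonoidalCategory.tensorHom_comp_tensorHom, hu'] }
  -- neutral components
  have hunit : ∀ {A B : Over (Spec (CommRingCat.of k))} [GrpObj A] [GrpObj B] (f : A ⟶ B) [IsMonHom f],
      f.left (GrpSchLib.unitPt A) = GrpSchLib.unitPt B := fun f _ =>
    congrArg (fun m : 𝟙_ (Over (Spec (CommRingCat.of k))) ⟶ _ => m.left (IsLocalRing.closedPoint k)) (IsMonHom.one_hom f)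
  have haN : a.left '' SGA3x.neutralSet F' = SGA3x.neutralSet F := by
    rw [Neutral.neutralSet_field, Neutral.neutralSet_field, ← hunit a]
    exact homeo_image_connectedComponent
      ((a.left.isClosedEmbedding.isEmbedding.toHomeomorphOfSurjective a.left.surjective)) _
  have hbN : b.left '' SGA3x.neutralSet G' = SGA3x.neutralSet G := by
    rw [Neutral.neutralSet_field, Neutral.neutralSet_field, ← hunit b]
    exact homeo_image_connectedComponent
      ((b.left.isClosedEmbedding.isEmbedding.toHomeomorphOfSurjective b.left.surjective)) _
  -- forgetting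
  have hp' := hp.map (Over.forget _)
  have hq' := hq.map (Over.forget _)
  simp only [Over.forget_map] at hp' hq'
  have hv' : p.left ≫ v.left = u.left ≫ q.left := by rw [← Over.comp_left, hv, Over.comp_left]
  constructor
  · intro hu
    haveI := hu
    refine ⟨fun p₀ => ?_, ?_⟩
    · obtain rfl : p₀ = pt := Subsingleton.elim (α := PrimeSpectrum k) _ _
      rw [show connectedComponent (η[G].left pt) = SGA3x.neutralSet G from (Neutral.neutralSet_field (G := G)).symm,
        show connectedComponent (η[F].left pt) = SGA3x.neutralSet F from (Neutral.neutralSet_field (G := F)).symm,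
        Neutral.image_neutralSet_field_of_flat u]
      exact subset_closure
    · haveI : Flat (p.left ≫ v.left) := by rw [hv']; infer_instance
      exact FlatDescStalk.flat_of_comp p.left v.left
  · rintro ⟨hd, hvf⟩
    haveI := hvf
    -- the reduced homomorphism is flat
    have hd' : SGA3x.neutralSet G ⊆ closure (u.left '' SGA3x.neutralSet F) := by
      rw [Neutral.neutralSet_field (G := G), Neutral.neutralSet_field (G := F)]
      exact hd pt
    haveI : Flat u'.left := by
      obtain ⟨ξ, hξ⟩ := QuasiSober.sober (Neutral.isIrreducible_neutralSet (G := G'))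
        (by rw [Neutral.neutralSet_field]; exact isClosed_connectedComponent)
      obtain ⟨ζ, hζ⟩ := QuasiSober.sober (Neutral.isIrreducible_neutralSet (G := F'))
        (by rw [Neutral.neutralSet_field]; exact isClosed_connectedComponent)
      have hmax : MonoFibre.IsMaxPt ξ := fun y hy => by
        have hyN : y ∈ SGA3x.neutralSet G' := hy.mem_open Neutral.isOpen_neutralSet_field hξ.mem
        exact (hy.antisymm (hξ.specializes hyN)).eq
      have hsp : u'.left ζ ⤳ ξ := by
        refine b.left.isClosedEmbedding.isEmbedding.isInducing.specializes_iff.1 ?_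
        rw [← Scheme.Hom.comp_apply, ← Over.comp_left, hu', Over.comp_left, Scheme.Hom.comp_apply,
          specializes_iff_mem_closure]
        refine closure_minimal ?_ isClosed_closure (hd' (hbN ▸ ⟨ξ, hξ.mem, rfl⟩))
        rw [← haN]
        rintro _ ⟨_, ⟨w, hw, rfl⟩, rfl⟩
        exact (((hζ.specializes hw).map a.left.continuous).map u.left.continuous).mem_closure
      have hx := hmax _ hsp
      haveI : Flat F'.hom := inferInstance
      refine MonoFibre.flat_hom_of_flat_at u' ⟨ζ, ?_⟩
      have hf := MonoFibre.isField_stalk_of_isMaxPt (hx.symm ▸ hmax : MonoFibre.IsMaxPt (u'.left ζ))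
      letI := hf.toField
      letI : Algebra (G'.left.presheaf.stalk (u'.left ζ)) (F'.left.presheaf.stalk ζ) := (u'.left.stalkMap ζ).hom.toAlgebra
      exact (inferInstance : Module.Flat (G'.left.presheaf.stalk (u'.left ζ)) (F'.left.presheaf.stalk ζ))
    -- squares
    let S₀ := Spec (CommRingCat.of k)
    have h₁ : IsPullback (u' ▷ F).left (fst F' F).left (fst G' F).left u'.left := by
      refine IsPullback.of_right (h₁₂ := (snd G' F).left) (v₁₃ := F.hom) (h₂₂ := G'.hom) ?_ ?_ ?_
      · rw [← Over.comp_left, whiskerRight_snd, Over.w u']
        exact (IsPullback.of_hasPullback F'.hom F.hom).flip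
      · rw [← Over.comp_left, whiskerRight_fst, Over.comp_left]
      · exact (IsPullback.of_hasPullback G'.hom F.hom).flip
    have h₂ : IsPullback (G' ◁ u).left (snd G' F).left (snd G' G).left u.left := by
      refine IsPullback.of_right (h₁₂ := (fst G' G).left) (v₁₃ := G'.hom) (h₂₂ := G.hom) ?_ ?_
        (IsPullback.of_hasPullback G'.hom G.hom)
      · rw [← Over.comp_left, whiskerLeft_fst, Over.w u]
        exact IsPullback.of_hasPullback G'.hom F.hom
      · rw [← Over.comp_left, whiskerLeft_snd, Over.comp_left]
    have h₃ : IsPullback ((G' ◁ u).left ≫ ((b ▷ G) ≫ μ[G]).left) (snd G' F).left q.left (p.left ≫ v.left) := by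
      rw [hv']
      exact h₂.paste_horiz hq'
    let π : (G' ⊗ F).left ⟶ pullback v.left q.left :=
      pullback.lift ((snd G' F).left ≫ p.left) ((G' ◁ u).left ≫ ((b ▷ G) ≫ μ[G]).left)
        (by rw [Category.assoc]; exact h₃.w.symm)
    have h₄ : IsPullback π (snd G' F).left (pullback.fst v.left q.left) p.left := by
      refine IsPullback.of_right (h₁₂ := pullback.snd v.left q.left) (v₁₃ := q.left) (h₂₂ := v.left) ?_ ?_ ?_
      · simp only [π, pullback.lift_snd]
        exact h₃
      · simp only [π, pullback.lift_fst]
      · exact (IsPullback.of_hasPullback v.left q.left).flip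
    haveI : Flat π := MorphismProperty.of_isPullback h₄.flip ‹Flat p.left›
    haveI : Flat (u' ▷ F).left := MorphismProperty.of_isPullback h₁.flip ‹Flat u'.left›
    let m : (F' ⊗ F).left ⟶ F.left := ((a ▷ F) ≫ μ[F]).left
    haveI : Flat m := MorphismProperty.of_isPullback hp'.flip ‹Flat p.left›
    haveI : Surjective m := MorphismProperty.of_isPullback hp'.flip ‹Surjective p.left›
    let θ : F.left ⟶ pullback v.left q.left := pullback.lift p.left u.left hv'
    have hmθ : m ≫ θ = (u' ▷ F).left ≫ π := by
      apply pullback.hom_ext
      · simp only [θ, π, Category.assoc, pullback.lift_fst]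
        simp only [m, ← Category.assoc, ← Over.comp_left, whiskerRight_snd]
        rw [hp.w]
      · simp only [θ, π, Category.assoc, pullback.lift_snd, m, ← Over.comp_left]
        congr 1
        rw [IsMonHom.mul_hom u, MonoidalCategory.tensorHom_def, Category.assoc, ← comp_whiskerRight_assoc,
          whisker_exchange_assoc, ← comp_whiskerRight_assoc, hu']
    haveI : Flat (m ≫ θ) := by rw [hmθ]; infer_instance
    haveI : Flat θ := FlatDescStalk.flat_of_comp m θ
    haveI : Flat (pullback.snd v.left q.left) := MorphismProperty.pullback_snd _ _ ‹Flat v.left›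
    rw [← pullback.lift_snd p.left u.left hv']
    show Flat (θ ≫ pullback.snd v.left q.left)
    infer_instance

end Groth.Agent.S6089
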