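import Groth.Statements.S6120

-- import your own Groth.Agent.* helpers here

set_option autoImplicit false
open CategoryTheory CategoryTheory.Limits Opposite
universe w v₁ v₂ u₁ u₂
open SGA4

namespace Groth.Agent.S6120

/-- Let `I` be a category with a family of objects `i α` (`α : A`) such that every binary product `i α ⨯
i β` exists in `I` and every object of `I` admits a morphism to some `i α`. Let `F : Iᵒᵖ ⥤ C` be a
functor, and assume that `C` has equalizers and that the products `∏ F (i α)` and `∏ F (i α ⨯ i β)`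
exist in `C`. Then the limit of `F` exists, the canonical map `lim F ⟶ ∏ F (i α)` is a monomorphism,
and a map `t : T ⟶ ∏ F (i α)` factors through `lim F` exactly when its composites with the two maps
`∏ F (i α) ⇉ ∏ F (i α ⨯ i β)` induced by the two projections agree: `lim F` is the equalizer of that
pair. (The published statement assumes that `C` has all limits of the size of `A`; only equalizers
and the two products named are assumed here, which is what the equalizer construction uses.) -/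
theorem result
    {I : Type u₁} [Category.{v₁} I] {C : Type u₂} [Category.{v₂} C] {A : Type w} (i : A → I)
    [∀ α β, HasBinaryProduct (i α) (i β)]
    (hcov : ∀ j : I, ∃ α, Nonempty (j ⟶ i α))
    (F : Iᵒᵖ ⥤ C) [HasEqualizers C]
    [HasProduct (fun α => F.obj (op (i α)))]
    [HasProduct (fun p : A × A => F.obj (op (i p.1 ⨯ i p.2)))] :
    HasLimit F ∧ ∀ [HasLimit F],
      Mono (Pi.lift (fun α => limit.π F (op (i α)))) ∧
      ∀ (T : C) (t : T ⟶ ∏ᶜ (fun α => F.obj (op (i α)))),
        (∃ s : T ⟶ limit F, s ≫ Pi.lift (fun α => limit.π F (op (i α))) = t) ↔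
        t ≫ Pi.lift (fun p : A × A =>
            Pi.π (fun α => F.obj (op (i α))) p.1 ≫ F.map (prod.fst : i p.1 ⨯ i p.2 ⟶ i p.1).op) =
        t ≫ Pi.lift (fun p : A × A =>
            Pi.π (fun α => F.obj (op (i α))) p.2 ≫ F.map (prod.snd : i p.1 ⨯ i p.2 ⟶ i p.2).op) := by
  let P := ∏ᶜ (fun α => F.obj (op (i α)))
  let c₁ := Pi.lift (fun p : A × A =>
    Pi.π (fun α => F.obj (op (i α))) p.1 ≫ F.map (prod.fst : i p.1 ⨯ i p.2 ⟶ i p.1).op)
  let c₂ := Pi.lift (fun p : A × A =>
    Pi.π (fun α => F.obj (op (i α))) p.2 ≫ F.map (prod.snd : i p.1 ⨯ i p.2 ⟶ i p.2).op)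
  choose α φ using fun j : I => (hcov j)
  let φ' := fun j => (φ j).some
  have indep : ∀ {T : C} (t : T ⟶ P), t ≫ c₁ = t ≫ c₂ → ∀ (j : I) (a b : A) (f : j ⟶ i a)
      (g : j ⟶ i b), t ≫ Pi.π _ a ≫ F.map f.op = t ≫ Pi.π _ b ≫ F.map g.op := by
    intro T t ht j a b f g
    let proj : (∏ᶜ fun p : A × A => F.obj (op (i p.1 ⨯ i p.2))) ⟶ F.obj (op j) :=
      Pi.π (fun p : A × A => F.obj (op (i p.1 ⨯ i p.2))) (a, b) ≫ F.map (prod.lift f g).op
    have e₁ : c₁ ≫ proj = Pi.π (fun α => F.obj (op (i α))) a ≫ F.map f.op := by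
      rw [Pi.lift_π_assoc, Category.assoc, ← F.map_comp, ← op_comp, prod.lift_fst]
    have e₂ : c₂ ≫ proj = Pi.π (fun α => F.obj (op (i α))) b ≫ F.map g.op := by
      rw [Pi.lift_π_assoc, Category.assoc, ← F.map_comp, ← op_comp, prod.lift_snd]
    calc t ≫ Pi.π (fun α => F.obj (op (i α))) a ≫ F.map f.op = t ≫ c₁ ≫ proj := by rw [e₁]
      _ = t ≫ c₂ ≫ proj := by rw [← Category.assoc, ht, Category.assoc]
      _ = t ≫ Pi.π (fun α => F.obj (op (i α))) b ≫ F.map g.op := by rw [e₂]
  let cone : ∀ {T : C} (t : T ⟶ P), t ≫ c₁ = t ≫ c₂ → Cone F := fun {T} t ht =>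
    { pt := T
      π :=
        { app := fun j => t ≫ Pi.π _ (α j.unop) ≫ F.map (φ' j.unop).op
          naturality := fun j k f => by
            dsimp
            rw [Category.id_comp, Category.assoc, Category.assoc,
              indep t ht k.unop (α k.unop) (α j.unop) (φ' k.unop) (f.unop ≫ φ' j.unop),
              op_comp, F.map_comp, Quiver.Hom.op_unop] } }
  have cone_π : ∀ {T : C} (t : T ⟶ P) (ht : t ≫ c₁ = t ≫ c₂) (a : A),
      (cone t ht).π.app (op (i a)) = t ≫ Pi.π _ a := by
    intro T t ht a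
    change t ≫ Pi.π _ (α (i a)) ≫ F.map (φ' (i a)).op = _
    rw [indep t ht (i a) _ a _ (𝟙 (i a))]
    simp
  have sπ : ∀ (s : Cone F) (j : Iᵒᵖ), s.π.app (op (i (α j.unop))) ≫ F.map (φ' j.unop).op = s.π.app j :=
    fun s j => s.w (φ' j.unop).op
  have hs : ∀ s : Cone F, Pi.lift (fun a => s.π.app (op (i a))) ≫ c₁ =
      Pi.lift (fun a => s.π.app (op (i a))) ≫ c₂ := by
    intro s
    refine Pi.hom_ext _ _ fun p => ?_
    simp [c₁, c₂]
  let K := cone (equalizer.ι c₁ c₂) (equalizer.condition c₁ c₂)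
  have hK : IsLimit K :=
    { lift := fun s => equalizer.lift _ (hs s)
      fac := fun s j => by
        change equalizer.lift _ (hs s) ≫ equalizer.ι c₁ c₂ ≫ _ = _
        rw [equalizer.lift_ι_assoc, Pi.lift_π_assoc]
        exact sπ s j
      uniq := fun s m hm => by
        refine equalizer.hom_ext (Pi.hom_ext _ _ fun a => ?_)
        rw [equalizer.lift_ι, Category.assoc, Pi.lift_π, ← hm (op (i a))]
        exact (congrArg (m ≫ ·) (cone_π (equalizer.ι c₁ c₂) (equalizer.condition c₁ c₂) a)).symm }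
  refine ⟨⟨⟨⟨K, hK⟩⟩⟩, fun {_} => ⟨⟨fun {T} u v e => limit.hom_ext fun j => ?_⟩, fun T t => ?_⟩⟩
  · have h := congrArg (fun z => z ≫ Pi.π _ (α j.unop) ≫ F.map (φ' j.unop).op) e
    simpa [← sπ (limit.cone F) j] using h
  · constructor
    · rintro ⟨s, rfl⟩
      rw [Category.assoc, Category.assoc]
      exact congrArg (s ≫ ·) (hs (limit.cone F))
    · intro ht
      refine ⟨limit.lift F (cone t ht), Pi.hom_ext _ _ fun a => ?_⟩
      simp [cone_π]

end Groth.Agent.S6120
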