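import Groth.Statements.S6121
import Mathlib

set_option autoImplicit false
open CategoryTheory
universe v₁ v₂ u₁ u₂
open SGA4

namespace Groth.Agent.S6121

/-- For a fibered functor `p : E ⥤ B` (every morphism of `B` has a cartesian lift with prescribed
codomain, and cartesian morphisms compose), `p` reflects isomorphisms if and only if every fibre
category of `p` (objects over `b`, morphisms lying over the identity of `b`) is a groupoid. -/
theorem result
    {B : Type u₁} [Category.{v₁} B] {E : Type u₂} [Category.{v₂} E] (p : E ⥤ B) [p.IsFibered] :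
    p.ReflectsIsomorphisms ↔ ∀ b : B, IsGroupoid (p.Fiber b) := by
  constructor
  · intro hp b
    constructor
    intro x y u
    haveI := u.2
    have : IsIso (p.map u.1) := by
      rw [IsHomLift.fac' p (𝟙 b) u.1]; infer_instance
    have hiso : IsIso u.1 := isIso_of_reflects_iso u.1 p
    have h2 : p.IsHomLift (𝟙 b) (inv u.1) := IsHomLift.lift_id_inv_isIso p b u.1
    refine ⟨⟨⟨inv u.1, h2⟩, ?_, ?_⟩⟩ <;> apply Subtype.ext
    · exact IsIso.hom_inv_id u.1
    · exact IsIso.inv_hom_id u.1
  · intro h
    constructor
    intro x y u hu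
    let ψ := Functor.IsPreFibered.pullbackMap (p := p) (rfl : p.obj y = p.obj y) (p.map u)
    have : IsIso ψ := Functor.IsStronglyCartesian.isIso_of_base_isIso p (p.map u) ψ
    let χ := Functor.IsCartesian.map p (p.map u) ψ u
    have hb : p.obj (Functor.IsPreFibered.pullbackObj (p := p) (rfl : p.obj y = p.obj y) (p.map u)) = p.obj x := Functor.IsPreFibered.pullbackObj_proj _ _
    have := (h (p.obj x)).all_isIso (Functor.Fiber.homMk p (p.obj x) χ)
    have : IsIso χ := Functor.map_isIso Functor.Fiber.fiberInclusion (Functor.Fiber.homMk p (p.obj x) χ)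
    rw [← Functor.IsCartesian.fac p (p.map u) ψ u]
    exact IsIso.comp_isIso

end Groth.Agent.S6121
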