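import Groth.Statements.S6122
import Mathlib

set_option autoImplicit false
open CategoryTheory
universe v₁ v₂ u₁ u₂
open SGA4

namespace Groth.Agent.S6122

/-- For a fibered functor `p : E ⥤ B` (every morphism of `B` has a cartesian lift with prescribed
codomain, and cartesian morphisms compose), `p` is faithful if and only if every fibre category of
`p` (objects over `b`, morphisms lying over the identity of `b`) has at most one morphism between
any two objects. -/
theorem result
    {B : Type u₁} [Category.{v₁} B] {E : Type u₂} [Category.{v₂} E] (p : E ⥤ B) [p.IsFibered] :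
    p.Faithful ↔ ∀ (b : B) (x y : p.Fiber b), Subsingleton (x ⟶ y) := by
  constructor
  · intro _ b x y
    constructor
    intro u v
    exact Functor.Fiber.hom_ext (p.map_injective (by
      rw [IsHomLift.fac' p (𝟙 b) (Functor.Fiber.fiberInclusion.map u), IsHomLift.fac' p (𝟙 b) (Functor.Fiber.fiberInclusion.map v)]))
  · intro h
    constructor
    intro x y u v huv
    let ψ := Functor.IsPreFibered.pullbackMap (p := p) (rfl : p.obj y = p.obj y) (p.map u)
    have hl : p.IsHomLift (p.map u) v := by rw [huv]; exact IsHomLift.map p v
    let u' := Functor.IsCartesian.map p (p.map u) ψ u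
    let v' := Functor.IsCartesian.map p (p.map u) ψ v
    have hb : p.obj (Functor.IsPreFibered.pullbackObj (p := p) (rfl : p.obj y = p.obj y) (p.map u)) = p.obj x := Functor.IsPreFibered.pullbackObj_proj _ _
    let A : p.Fiber (p.obj x) := Functor.Fiber.mk (rfl : p.obj x = p.obj x)
    let B : p.Fiber (p.obj x) := Functor.Fiber.mk hb
    have := (h (p.obj x) A B).elim (Functor.Fiber.homMk p (p.obj x) u') (Functor.Fiber.homMk p (p.obj x) v')
    have e : u' = v' := congrArg Subtype.val this
    rw [← Functor.IsCartesian.fac p (p.map u) ψ u, ← Functor.IsCartesian.fac p (p.map u) ψ v]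
    exact congrArg (· ≫ ψ) e

end Groth.Agent.S6122
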