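import Groth.Statements.S6124
import Mathlib.CategoryTheory.Limits.Shapes.Diagonal

set_option autoImplicit false
open CategoryTheory CategoryTheory.Limits Opposite
universe w v₁ v₂ u₁ u₂
open SGA4

namespace Groth.Agent.S6124

/-- Let `E` have pullbacks, let `P` be a detecting family of objects of `E` (a morphism `f` is
invertible as soon as every map out of an object of `P` factors uniquely through `f`), and let `φ i
: E ⥤ E' i` be functors preserving pullbacks. Then the `φ i` jointly reflect isomorphisms if and
only if, for every `X` with `P X` and every subobject `X'` of `X` other than `⊤`, some `φ i` takes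
the inclusion `X' ⟶ X` to a morphism that is not invertible. -/
theorem result
    {E : Type u₁} [Category.{v₁} E] [HasPullbacks E] (P : ObjectProperty E) (hP : P.IsDetecting)
    {κ : Type w} {E' : κ → Type u₂} [∀ k, Category.{v₂} (E' k)] (φ : ∀ k, E ⥤ E' k)
    [∀ k, PreservesLimitsOfShape WalkingCospan (φ k)] :
    (∀ ⦃X Y : E⦄ (f : X ⟶ Y), (∀ k, IsIso ((φ k).map f)) → IsIso f) ↔
      ∀ (X : E), P X → ∀ (X' : Subobject X), X' ≠ ⊤ → ∃ k, ¬ IsIso ((φ k).map X'.arrow) := by
  constructor
  · intro h X _ X' hX'
    by_contra hk
    push_neg at hk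
    have := h X'.arrow hk
    exact hX' (Subobject.eq_top_of_isIso_arrow X')
  intro h
  have hmono : ∀ {Q A : E} (m : Q ⟶ A) [Mono m], P A → (∀ k, IsIso ((φ k).map m)) → IsIso m := by
    intro Q A m _ hA hm
    by_contra hni
    obtain ⟨k, hk⟩ := h A hA (Subobject.mk m) fun e => hni ((Subobject.isIso_iff_mk_eq_top m).2 e)
    refine hk ?_
    rw [← Subobject.underlyingIso_hom_comp_eq_mk m, Functor.map_comp]
    have := hm k
    infer_instance
  intro X Y f hf
  have hu : ∀ {A : E}, P A → ∀ h₁ h₂ : A ⟶ X, h₁ ≫ f = h₂ ≫ f → h₁ = h₂ := by
    intro A hA h₁ h₂ e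
    have : IsIso (pullback.snd (pullback.diagonal f) (pullback.lift h₁ h₂ e)) := by
      refine hmono _ hA fun k => ?_
      have hd : IsIso ((φ k).map (pullback.diagonal f)) := by
        have := hf k
        have : IsIso ((φ k).map (pullback.fst f f)) :=
          ((IsPullback.of_hasPullback f f).map (φ k)).flip.isIso_snd_of_isIso
        have : IsIso ((φ k).map (pullback.diagonal f) ≫ (φ k).map (pullback.fst f f)) := by
          rw [← Functor.map_comp, pullback.diagonal_fst]
          infer_instance
        exact IsIso.of_isIso_comp_right _ ((φ k).map (pullback.fst f f))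
      exact ((IsPullback.of_hasPullback (pullback.diagonal f) (pullback.lift h₁ h₂ e)).map (φ k)).isIso_snd_of_isIso
    have c := pullback.condition (f := pullback.diagonal f) (g := pullback.lift h₁ h₂ e)
    have c1 := congrArg (fun z => z ≫ pullback.fst f f) c
    have c2 := congrArg (fun z => z ≫ pullback.snd f f) c
    simp only [Category.assoc, pullback.diagonal_fst, pullback.diagonal_snd, pullback.lift_fst, pullback.lift_snd,
      Category.comp_id] at c1 c2
    exact (cancel_epi (pullback.snd (pullback.diagonal f) (pullback.lift h₁ h₂ e))).1 (c1.symm.trans c2)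
  have hdiag : IsIso (pullback.diagonal f) := hP _ fun A hA g =>
    have e := hu hA (g ≫ pullback.fst f f) (g ≫ pullback.snd f f) (by simp [pullback.condition])
    ⟨g ≫ pullback.fst f f, pullback.hom_ext (by simp) (by simp [e]),
      fun h' hh => (cancel_mono (pullback.diagonal f)).1 (hh.trans (pullback.hom_ext (by simp) (by simp [e])))⟩
  have : Mono f := (pullback.isIso_diagonal_iff f).1 hdiag
  refine hP _ fun A hA g => ?_
  have : IsIso (pullback.snd f g) := by
    refine hmono _ hA fun k => ?_
    have := hf k
    exact ((IsPullback.of_hasPullback f g).map (φ k)).isIso_snd_of_isIso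
  exact ⟨inv (pullback.snd f g) ≫ pullback.fst f g, by simp [pullback.condition],
    fun h' hh => (cancel_mono f).1 (hh.trans (by simp [pullback.condition]))⟩

end Groth.Agent.S6124
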