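import Groth.Statements.S6126

-- import your own Groth.Agent.* helpers here

set_option autoImplicit false
open CategoryTheory CategoryTheory.Limits
universe v₁ u₁
open SGA4

namespace Groth.Agent.S6126

/-- Let `E` be a category with `v₁`-small hom-sets admitting a separating family of objects `G t`
indexed by a `v₁`-small type, in which every object admits a monomorphism into an injective object.
Assume that each coproduct `G t ⨿ G t` exists and that every morphism out of `G t ⨿ G t` factors as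
an effective epimorphism followed by a monomorphism. Then `E` admits a coseparating family of
injective objects indexed by a `v₁`-small type. (The published statement moreover bounds the size of
this family in terms of the hom-sets `Hom (G t', G t ⨿ G t)`; only existence is stated here. The
published statement speaks of generating and cogenerating families; its proof uses and produces
joint faithfulness of maps out of, resp. into, the family, which is the sense taken here.) -/
theorem result
    {E : Type u₁} [Category.{v₁} E] {ι : Type v₁} (G : ι → E)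
    (hG : (ObjectProperty.ofObj G).IsSeparating)
    [EnoughInjectives E] [∀ t, HasBinaryCoproduct (G t) (G t)]
    (hfac : ∀ (t : ι) (X : E) (f : G t ⨿ G t ⟶ X),
      ∃ (Y : E) (e : G t ⨿ G t ⟶ Y) (m : Y ⟶ X), EffectiveEpi e ∧ Mono m ∧ e ≫ m = f) :
    ∃ (κ : Type v₁) (H : κ → E),
      (∀ k, Injective (H k)) ∧ (ObjectProperty.ofObj H).IsCoseparating := by
  classical
  let Rel : ∀ t, Type v₁ := fun t => Σ s, (G s ⟶ G t ⨿ G t) × (G s ⟶ G t ⨿ G t)
  let ker : ∀ {t} {Y : E} (e : G t ⨿ G t ⟶ Y), Set (Rel t) := fun e => {p | p.2.1 ≫ e = p.2.2 ≫ e}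
  let κ : Type v₁ := Σ t, {R : Set (Rel t) //
    ∃ (Y : E) (e : G t ⨿ G t ⟶ Y), EffectiveEpi e ∧ ker e = R}
  refine ⟨κ, fun k => Injective.under k.2.2.choose, fun k => inferInstance, fun X Y f g h => ?_⟩
  refine hG _ _ fun T hT p => ?_
  obtain ⟨t, rfl⟩ := (ObjectProperty.ofObj_iff _ _).1 hT
  obtain ⟨Q, e, m, he, hm, hfac⟩ := hfac t Y (coprod.desc (p ≫ f) (p ≫ g))
  let k : κ := ⟨t, ker e, Q, e, he, rfl⟩
  let Q' := k.2.2.choose
  let e' : G t ⨿ G t ⟶ Q' := k.2.2.choose_spec.choose
  have he' : EffectiveEpi e' := k.2.2.choose_spec.choose_spec.1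
  have hker : ker e' = ker e := k.2.2.choose_spec.choose_spec.2
  have hco : ∀ {A B : E} (a : G t ⨿ G t ⟶ A) (b : G t ⨿ G t ⟶ B), ker a = ker b →
      ∀ {Z : E} (g₁ g₂ : Z ⟶ G t ⨿ G t), g₁ ≫ a = g₂ ≫ a → g₁ ≫ b = g₂ ≫ b := by
    intro A B a b hab Z g₁ g₂ hh
    refine hG _ _ fun T hT r => ?_
    obtain ⟨s, rfl⟩ := (ObjectProperty.ofObj_iff _ _).1 hT
    have : (⟨s, r ≫ g₁, r ≫ g₂⟩ : Rel t) ∈ ker a := by
      change (r ≫ g₁) ≫ a = (r ≫ g₂) ≫ a
      simp [hh]
    rw [hab] at this
    have h' : (r ≫ g₁) ≫ b = (r ≫ g₂) ≫ b := this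
    simpa using h'
  let φ : Q ⟶ Q' := EffectiveEpi.desc e e' (hco e e' hker.symm)
  let ψ : Q' ⟶ Q := EffectiveEpi.desc e' e (hco e' e hker)
  have hφ : e ≫ φ = e' := EffectiveEpi.fac e _ _
  have hψ : e' ≫ ψ = e := EffectiveEpi.fac e' _ _
  let σ : Q ⟶ Injective.under Q' := φ ≫ Injective.ι Q'
  have hh := h (Injective.under Q') (ObjectProperty.ofObj_apply _ k) (Injective.factorThru σ m)
  have key : (coprod.inl ≫ e) ≫ φ = (coprod.inr ≫ e) ≫ φ := by
    rw [← cancel_mono (Injective.ι Q')]
    have h₁ : (coprod.inl ≫ e) ≫ σ = p ≫ f ≫ Injective.factorThru σ m := by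
      rw [← coprod.inl_desc_assoc (p ≫ f) (p ≫ g) (Injective.factorThru σ m) |>.trans
        (Category.assoc _ _ _), ← hfac]
      simp
    have h₂ : (coprod.inr ≫ e) ≫ σ = p ≫ g ≫ Injective.factorThru σ m := by
      rw [← coprod.inr_desc_assoc (p ≫ f) (p ≫ g) (Injective.factorThru σ m) |>.trans
        (Category.assoc _ _ _), ← hfac]
      simp
    simpa [σ, hh] using h₁.trans ((congrArg (p ≫ ·) hh).trans h₂.symm)
  have key' : coprod.inl ≫ e = coprod.inr ≫ e := by
    have := key =≫ ψ
    have h3 : φ ≫ ψ = 𝟙 Q := by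
      rw [← cancel_epi e, reassoc_of% hφ, hψ, Category.comp_id]
    simpa [h3] using this
  calc p ≫ f = coprod.inl ≫ e ≫ m := by rw [hfac, coprod.inl_desc]
    _ = coprod.inr ≫ e ≫ m := by rw [reassoc_of% key']
    _ = p ≫ g := by rw [hfac, coprod.inr_desc]

end Groth.Agent.S6126
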