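import Groth.Statements.S6127
import Mathlib.CategoryTheory.Sites.Canonical
import Mathlib.CategoryTheory.Limits.Preserves.Shapes.Pullbacks
import Mathlib.CategoryTheory.Limits.Preserves.Shapes.Equalizers

set_option autoImplicit false
open CategoryTheory CategoryTheory.Limits Opposite
universe u
open SGA4

namespace Groth.Agent.S6127

set_option backward.isDefEq.respectTransparency false
set_option backward.isDefEq.respectTransparency.types false
open Opposite

theorem isIso_iff_isSheafFor {C : Type u} [SmallCategory C] (P : ObjectProperty (Cᵒᵖ ⥤ Type u)) [Reflective P.ι]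
    {X : C} (S : Sieve X) :
    IsIso ((reflector P.ι).map S.functorInclusion) ↔ ∀ Z, P Z → Presieve.IsSheafFor Z S.arrows := by
  let adj := reflectorAdjunction P.ι
  rw [isIso_iff_coyoneda_map_bijective]
  have key : ∀ T : P.FullSubcategory, Function.Bijective (fun x : (reflector P.ι).obj (yoneda.obj X) ⟶ T =>
      (reflector P.ι).map S.functorInclusion ≫ x) ↔ Presieve.IsSheafFor T.obj S.arrows := fun T => by
    rw [Presieve.isSheafFor_iff_yonedaSheafCondition, Presieve.YonedaSheafCondition,
      ← Function.Bijective.of_comp_iff' (adj.homEquiv S.functor T).bijective]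
    have e : (adj.homEquiv S.functor T) ∘ (fun x : (reflector P.ι).obj (yoneda.obj X) ⟶ T =>
        (reflector P.ι).map S.functorInclusion ≫ x) =
        (fun g : yoneda.obj X ⟶ T.obj => S.functorInclusion ≫ g) ∘ (adj.homEquiv (yoneda.obj X) T) := by
      funext x
      exact adj.homEquiv_naturality_left _ _
    rw [e, Function.Bijective.of_comp_iff _ (adj.homEquiv (yoneda.obj X) T).bijective, Function.bijective_iff_existsUnique]
    rfl
  exact ⟨fun h Z hZ => (key ⟨Z, hZ⟩).1 (h _), fun h T => (key T).2 (h _ T.property)⟩

theorem isPullback_functorPullback {C : Type u} [SmallCategory C] {X Y : C} (S : Sieve X) (f : Y ⟶ X) :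
    IsPullback ({ app := fun Z => TypeCat.ofHom fun g => ⟨g.1 ≫ f, g.2⟩ } : (S.pullback f).functor ⟶ S.functor)
      (S.pullback f).functorInclusion S.functorInclusion (yoneda.map f) := by
  refine ⟨⟨rfl⟩, ⟨PullbackCone.IsLimit.mk _ (fun s => { app := fun Z => TypeCat.ofHom (fun w => ⟨s.snd.app Z w, ?_⟩), naturality := fun Z Z' g => ?_ }) (fun s => ?_) (fun s => ?_) (fun s m h1 h2 => ?_)⟩⟩
  · have := congrArg (fun k => k.app Z w) s.condition
    change S.arrows (s.snd.app Z w ≫ f)
    rw [show s.snd.app Z w ≫ f = (s.fst.app Z w).1 from this.symm]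
    exact (s.fst.app Z w).2
  · ext w
    apply Subtype.ext
    exact NatTrans.naturality_apply s.snd g w
  · ext Z w
    exact Subtype.ext (congrArg (fun k => k.app Z w) s.condition).symm
  · ext Z w
    rfl
  · ext Z w
    exact Subtype.ext (congrArg (fun k => k.app Z w) h2)

theorem isIso_map_pullback {C : Type u} [SmallCategory C] (P : ObjectProperty (Cᵒᵖ ⥤ Type u)) [Reflective P.ι]
    [PreservesFiniteLimits (reflector P.ι)] {X Y : C} (S : Sieve X) (f : Y ⟶ X)
    (h : IsIso ((reflector P.ι).map S.functorInclusion)) :
    IsIso ((reflector P.ι).map (S.pullback f).functorInclusion) :=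
  ((isPullback_functorPullback S f).map (reflector P.ι)).isIso_snd_of_isIso

/-- Let `C` be a small category and `P` a strictly full subcategory of the category of presheaves of
sets on `C` whose inclusion admits a left adjoint (a reflector) preserving finite limits. Call a
sieve `S` on `X` covering when the reflector inverts the inclusion of `S`, viewed as a subpresheaf,
into the presheaf represented by `X`. Then these covering sieves form a Grothendieck topology `J` on
`C`, and a presheaf lies in `P` if and only if it is a sheaf for `J`. (This is the half of the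
correspondence between topologies on `C` and such reflective subcategories that produces the
topology; the topology is pinned down by its covering sieves.) -/
theorem result
    {C : Type u} [SmallCategory C] (P : ObjectProperty (Cᵒᵖ ⥤ Type u))
    [P.IsClosedUnderIsomorphisms] [Reflective P.ι] [PreservesFiniteLimits (reflector P.ι)] :
    ∃ J : GrothendieckTopology C,
      (∀ (X : C) (S : Sieve X), S ∈ J X ↔ IsIso ((reflector P.ι).map S.functorInclusion)) ∧
      ∀ F : Cᵒᵖ ⥤ Type u, P F ↔ Presieve.IsSheaf J F := by
  let L := reflector P.ι
  let adj := reflectorAdjunction P.ι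
  let J : GrothendieckTopology C := Sheaf.finestTopology {Z | P Z}
  have hJ : ∀ (X : C) (S : Sieve X), S ∈ J X ↔ IsIso (L.map S.functorInclusion) := by
    intro X S
    refine ⟨fun h => (isIso_iff_isSheafFor P S).2 fun Z hZ => Sheaf.sheaf_for_finestTopology _ hZ S h, fun h => ?_⟩
    exact Sheaf.mem_finestTopology_of_forall_isSheafFor fun Z hZ Y f =>
      (isIso_iff_isSheafFor P _).1 (isIso_map_pullback P S f h) Z hZ
  refine ⟨J, hJ, fun F => ⟨fun hF X S hS => (isIso_iff_isSheafFor P S).1 ((hJ X S).1 hS) F hF, fun hF => ?_⟩⟩
  let η := adj.unit.app F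
  have hinj : ∀ (X : C) (x y : F.obj (op X)), η.app (op X) x = η.app (op X) y → x = y := by
    intro X x y e
    let S : Sieve X :=
      { arrows := fun V f => F.map f.op x = F.map f.op y
        downward_closed := fun {V W f} h g => by simp only [op_comp, Functor.map_comp_apply, h] }
    have w : S.functorInclusion ≫ yonedaEquiv.symm x = S.functorInclusion ≫ yonedaEquiv.symm y := by
      ext V f
      exact f.2
    have hl : IsLimit (Fork.ofι S.functorInclusion w) := Fork.IsLimit.mk _
      (fun s => { app := fun V => TypeCat.ofHom fun z => ⟨s.ι.app V z, congrArg (fun k => k.app V z) s.condition⟩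
                  naturality := fun V V' g => by ext z; apply Subtype.ext; exact NatTrans.naturality_apply s.ι g z })
      (fun s => by ext V z; rfl)
      (fun s m hm => by ext V z; exact Subtype.ext (congrArg (fun k => k.app V z) hm))
    have hxy : L.map (yonedaEquiv.symm x) = L.map (yonedaEquiv.symm y) := by
      have e2 : yonedaEquiv.symm x ≫ η = yonedaEquiv.symm y ≫ η :=
        yonedaEquiv.injective (by
          rw [yonedaEquiv_comp, yonedaEquiv_comp, Equiv.apply_symm_apply, Equiv.apply_symm_apply]
          exact e)
      refine (adj.homEquiv _ _).injective ?_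
      rw [adj.homEquiv_unit, adj.homEquiv_unit]
      exact (adj.unit.naturality (yonedaEquiv.symm x)).symm.trans (e2.trans (adj.unit.naturality (yonedaEquiv.symm y)))
    have hiso : IsIso (L.map S.functorInclusion) :=
      isIso_limit_cone_parallelPair_of_eq hxy (isLimitForkMapOfIsLimit L w hl)
    exact (hF S ((hJ X S).2 hiso)).isSeparatedFor.ext fun V f hf => hf
  have hη : IsIso (L.map η) := by
    have : IsIso (adj.counit.app (L.obj F)) := inferInstance
    refine ⟨adj.counit.app (L.obj F), adj.left_triangle_components F, (cancel_mono (adj.counit.app (L.obj F))).1 ?_⟩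
    exact (Category.assoc _ _ _).trans ((congrArg (_ ≫ ·) (adj.left_triangle_components F)).trans
      ((Category.comp_id _).trans (Category.id_comp _).symm))
  have : IsIso η := by
    refine (NatTrans.isIso_iff_isIso_app _).2 fun ⟨X⟩ => (isIso_iff_bijective _).2 ⟨hinj X, fun z => ?_⟩
    let S : Sieve X :=
      { arrows := fun V f => ∃ a, η.app (op V) a = (L.obj F).obj.map f.op z
        downward_closed := fun {V W f} ⟨a, ha⟩ g => ⟨F.map g.op a,
          (NatTrans.naturality_apply η g.op a).trans ((congrArg ((L.obj F).obj.map g.op) ha).trans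
            (Functor.map_comp_apply (L.obj F).obj f.op g.op z).symm)⟩ }
    let fst : S.functor ⟶ F :=
      { app := fun V => TypeCat.ofHom fun f => f.2.choose
        naturality := fun V V' g => by
          ext f
          refine hinj _ _ _ ?_
          let f' : S.functor.obj V' := S.functor.map g f
          exact f'.2.choose_spec.trans ((Functor.map_comp_apply (L.obj F).obj f.1.op g z).trans
            ((congrArg ((L.obj F).obj.map g) f.2.choose_spec).symm.trans (NatTrans.naturality_apply η g _).symm)) }
    have hp : IsPullback fst S.functorInclusion η (yonedaEquiv.symm z) := by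
      refine ⟨⟨by ext V f; exact f.2.choose_spec⟩, ⟨PullbackCone.IsLimit.mk _ (fun s => { app := fun V => TypeCat.ofHom (fun w => ⟨s.snd.app V w, ⟨s.fst.app V w, congrArg (fun k => k.app V w) s.condition⟩⟩), naturality := fun V V' g => ?_ })
        (fun s => ?_) (fun s => ?_) (fun s m h1 h2 => ?_)⟩⟩
      · ext w; apply Subtype.ext; exact NatTrans.naturality_apply s.snd g w
      · ext V w
        let w' : S.functor.obj V := ⟨s.snd.app V w, ⟨s.fst.app V w, congrArg (fun k => k.app V w) s.condition⟩⟩
        exact hinj _ _ _ (w'.2.choose_spec.trans (congrArg (fun k => k.app V w) s.condition).symm)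
      · ext V w; rfl
      · ext V w; exact Subtype.ext (congrArg (fun k => k.app V w) h2)
    have hS : S ∈ J X := (hJ X S).2 (hp.map L).isIso_snd_of_isIso
    refine ⟨yonedaEquiv ((hF S hS).extend fst), ?_⟩
    have := ((isIso_iff_isSheafFor P S).1 ((hJ X S).1 hS) _ (L.obj F).property).hom_ext
      ((hF S hS).extend fst ≫ η) (yonedaEquiv.symm z) (by rw [Presieve.IsSheafFor.functorInclusion_comp_extend_assoc]; exact hp.w)
    exact (yonedaEquiv_comp _ _).symm.trans ((congrArg yonedaEquiv this).trans (Equiv.apply_symm_apply _ _))
  exact P.prop_of_iso (asIso η).symm (L.obj F).property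

end Groth.Agent.S6127
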