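import Groth.Statements.S6128
import Groth.Agent.ToposFinLib.Cover

set_option autoImplicit false
open CategoryTheory
universe u
open SGA4

namespace Groth.Agent.S6128

set_option backward.isDefEq.respectTransparency false
set_option backward.isDefEq.respectTransparency.types false
open Opposite Groth.Agent.ToposFinLib

/-- The sieve of morphisms whose image, composed with a given morphism, lies in a sieve. -/
def tSieve {C : Type u} [SmallCategory C] {C' : Type u} [SmallCategory C'] (u : C ⥤ C') {W : C} {X : C'}
    (R : Sieve X) (φ : u.obj W ⟶ X) : Sieve W where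
  arrows _ g := R (u.map g ≫ φ)
  downward_closed {V V' g} h k := by
    have := R.downward_closed h (u.map k)
    simpa using this

/-- Let `u : C ⥤ C'` be a functor between small sites. If the right Kan extension along `u` of the
underlying presheaf of every sheaf of sets on `C` is a sheaf on `C'`, then `u` is cocontinuous: for
every object `Y` of `C` and every covering sieve `R` of `u Y`, the sieve of morphisms `g : Z ⟶ Y`
with `u g ∈ R` covers `Y`. -/
theorem result
    {C : Type u} [SmallCategory C] {C' : Type u} [SmallCategory C']
    (J : GrothendieckTopology C) (J' : GrothendieckTopology C') (u : C ⥤ C')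
    (h : ∀ G : Sheaf J (Type u), Presheaf.IsSheaf J' ((u.op.ran).obj G.obj)) :
    u.IsCocontinuous J J' := by
  refine ⟨fun {Y R} hR => ?_⟩
  let P := yoneda.obj (u.obj Y)
  let a : u.op ⋙ P ⟶ (omega J).obj :=
    { app := fun W => TypeCat.ofHom fun φ => ⟨J.close (tSieve u R φ), J.close_isClosed _⟩
      naturality := fun W V f => by
        ext φ
        refine Subtype.ext ?_
        change J.close (tSieve u R (u.map f.unop ≫ φ)) = (J.close (tSieve u R φ)).pullback f.unop
        rw [← J.pullback_close]
        congr 1
        ext U g
        simp [tSieve] }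
  let b : u.op ⋙ P ⟶ (omega J).obj :=
    { app := fun W => TypeCat.ofHom fun _ => ⟨(⊤ : Sieve W.unop), fun _ _ _ => trivial⟩
      naturality := fun W V f => by
        ext φ
        exact Subtype.ext (Sieve.pullback_top).symm }
  let adj := u.op.ranAdjunction (Type u)
  let wl := (Functor.whiskeringLeft Cᵒᵖ C'ᵒᵖ (Type u)).obj u.op
  have hab : wl.map R.functorInclusion ≫ a = wl.map R.functorInclusion ≫ b := by
    ext W φ
    obtain ⟨φ, hφ⟩ := φ
    refine Subtype.ext ?_
    change J.close (tSieve u R φ) = (⊤ : Sieve W.unop)
    rw [J.close_eq_top_iff_mem]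
    refine J.superset_covering (fun V g _ => ?_) (J.top_mem _)
    exact R.downward_closed hφ (u.map g)
  have hs : Presieve.IsSheafFor (u.op.ran.obj (omega J).obj) R.arrows :=
    (isSheaf_iff_isSheaf_of_type _ _).1 (h (omega J)) R hR
  have e : adj.homEquiv P _ a = adj.homEquiv P _ b := by
    refine hs.hom_ext _ _ ?_
    rw [← adj.homEquiv_naturality_left, ← adj.homEquiv_naturality_left]
    exact congrArg _ hab
  have e2 := congrArg (fun z : u.op ⋙ P ⟶ (omega J).obj => (z.app (op Y) (𝟙 (u.obj Y))).val) ((adj.homEquiv P _).injective e)
  change J.close (tSieve u R (𝟙 (u.obj Y))) = (⊤ : Sieve Y) at e2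
  rw [J.close_eq_top_iff_mem] at e2
  refine J.superset_covering (fun V g hg => ?_) e2
  simpa [tSieve] using hg

end Groth.Agent.S6128
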