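import Groth.Statements.S6129
import Mathlib.CategoryTheory.Comma.Over.Basic
import Mathlib.CategoryTheory.Subfunctor.Basic
import Mathlib.CategoryTheory.Limits.Shapes.Pullback.IsPullback.Basic

set_option autoImplicit false
open CategoryTheory CategoryTheory.Limits
universe u
open SGA4

namespace Groth.Agent.S6129

set_option backward.isDefEq.respectTransparency false
set_option backward.isDefEq.respectTransparency.types false
open Opposite

section
variable {C : Type u} [SmallCategory C] {C' : Type u} [SmallCategory C'] (u : C ⥤ C')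
  (hu : ∀ X : C, (Over.post (X := X) u).Full)

include hu in
theorem exists_slice_lift {X Y Y' : C} (m : Y ⟶ Y') (a : X ⟶ Y') (g : u.obj X ⟶ u.obj Y)
    (e : g ≫ u.map m = u.map a) : ∃ h : X ⟶ Y, h ≫ m = a ∧ u.map h = g := by
  have := hu Y'
  let k : (Over.post (X := Y') u).obj (Over.mk a) ⟶ (Over.post (X := Y') u).obj (Over.mk m) := Over.homMk g e
  refine ⟨((Over.post (X := Y') u).preimage k).left, Over.w _, ?_⟩
  exact congrArg CommaMorphism.left ((Over.post (X := Y') u).map_preimage k)

variable (H : Cᵒᵖ ⥤ Type u)

open Classical in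
noncomputable def val {X Y : C} (φ : u.obj X ⟶ u.obj Y) (x : H.obj (op Y)) : Option (H.obj (op X)) :=
  if h : ∃ a : X ⟶ Y, u.map a = φ then some (H.map h.choose.op x) else none

theorem val_map [u.Faithful] {X Y : C} (a : X ⟶ Y) (x : H.obj (op Y)) : val u H (u.map a) x = some (H.map a.op x) := by
  have h : ∃ a' : X ⟶ Y, u.map a' = u.map a := ⟨a, rfl⟩
  rw [val, dif_pos h]
  rw [u.map_injective h.choose_spec]

include hu in
theorem val_nat [u.Faithful] {X Y Y' : C} (m : Y ⟶ Y') (φ : u.obj X ⟶ u.obj Y) (x : H.obj (op Y')) :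
    val u H (φ ≫ u.map m) x = val u H φ (H.map m.op x) := by
  by_cases h : ∃ a, u.map a = φ
  · obtain ⟨a, rfl⟩ := h
    rw [← u.map_comp, val_map, val_map, op_comp, Functor.map_comp_apply]
  · have h2 : ¬ ∃ a, u.map a = φ ≫ u.map m := fun ⟨a, ha⟩ =>
      let ⟨b, _, hb⟩ := exists_slice_lift u hu m a φ ha.symm
      h ⟨b, hb⟩
    rw [val, val, dif_neg h, dif_neg h2]

/-- Functions assigning to a map from the image of an object an optional section. -/
def retrPresheaf : C'ᵒᵖ ⥤ Type u where
  obj Z := ∀ X : C, (u.obj X ⟶ Z.unop) → Option (H.obj (op X))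
  map f := TypeCat.ofHom fun t X φ => t X (φ ≫ f.unop)
  map_id Z := by refine ConcreteCategory.hom_ext _ _ fun t => ?_; funext X φ; exact congrArg (t X) (Category.comp_id φ)
  map_comp f g := by refine ConcreteCategory.hom_ext _ _ fun t => ?_; funext X φ; exact congrArg (t X) (Category.assoc φ g.unop f.unop).symm

noncomputable def retrHom [u.Faithful] : H ⟶ u.op ⋙ retrPresheaf u H where
  app Y := TypeCat.ofHom fun x X φ => val u H φ x
  naturality Y Y' m := by
    refine ConcreteCategory.hom_ext _ _ fun x => ?_
    funext X φ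
    exact (val_nat u hu H m.unop φ x).symm

theorem exists_rep (Z : C'ᵒᵖ) (z : (u.op.lan.obj H).obj Z) :
    ∃ (X : C) (φ : Z.unop ⟶ u.obj X) (x : H.obj (op X)),
      z = (u.op.lan.obj H).map φ.op (((u.op.lanAdjunction (Type u)).unit.app H).app (op X) x) := by
  let adj := u.op.lanAdjunction (Type u)
  let G : Subfunctor (u.op.lan.obj H) :=
    { obj := fun Z => {z | ∃ (X : C) (φ : Z.unop ⟶ u.obj X) (x : H.obj (op X)),
        z = (u.op.lan.obj H).map φ.op ((adj.unit.app H).app (op X) x)}
      map := fun {Z Z'} f z ⟨X, φ, x, e⟩ => ⟨X, f.unop ≫ φ, x, by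
        rw [e, ← Functor.map_comp_apply]
        rfl⟩ }
  let η' : H ⟶ u.op ⋙ G.toFunctor :=
    { app := fun Y => TypeCat.ofHom fun x => ⟨(adj.unit.app H).app Y x, Y.unop, 𝟙 _, x, by simp⟩
      naturality := fun Y Y' m => by
        ext x
        apply Subtype.ext
        exact NatTrans.naturality_apply (adj.unit.app H) m x }
  have e : (adj.homEquiv _ _).symm η' ≫ G.ι = 𝟙 _ := by
    refine (adj.homEquiv _ _).injective ?_
    rw [adj.homEquiv_naturality_right, Equiv.apply_symm_apply, adj.homEquiv_id]
    rfl
  have e' := congrArg (fun k => k.app Z z) e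
  obtain ⟨X, φ, x, hx⟩ := (((adj.homEquiv _ _).symm η').app Z z).2
  exact ⟨X, φ, x, e'.symm.trans hx⟩

variable [u.Faithful]

include hu in
theorem retr_apply {X Y : C} (φ : u.obj X ⟶ u.obj Y) (x : H.obj (op Y)) :
    (((u.op.lanAdjunction (Type u)).homEquiv _ _).symm (retrHom u hu H)).app (op (u.obj X))
      ((u.op.lan.obj H).map φ.op (((u.op.lanAdjunction (Type u)).unit.app H).app (op Y) x)) X (𝟙 (u.obj X)) =
    val u H φ x := by
  let adj := u.op.lanAdjunction (Type u)
  let v := (adj.homEquiv _ _).symm (retrHom u hu H)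
  have h := (adj.homEquiv _ _).apply_symm_apply (retrHom u hu H)
  rw [adj.homEquiv_unit] at h
  have h1 : v.app (op (u.obj Y)) ((adj.unit.app H).app (op Y) x) = fun X φ => val u H φ x :=
    congrArg (fun k => k.app (op Y) x) h
  refine (congrFun (congrFun (NatTrans.naturality_apply v φ.op _) X) _).trans ?_
  rw [h1]
  exact congrArg (fun k => val u H k x) (Category.id_comp φ)

include hu in
theorem unit_injective (X : C) : Function.Injective (((u.op.lanAdjunction (Type u)).unit.app H).app (op X)) := by
  intro x y e
  have h : ∀ x, ((u.op.lan.obj H).map (𝟙 (u.obj X)).op (((u.op.lanAdjunction (Type u)).unit.app H).app (op X) x)) =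
      ((u.op.lanAdjunction (Type u)).unit.app H).app (op X) x := fun x => by simp
  have h1 := retr_apply u hu H (𝟙 (u.obj X)) x
  have h2 := retr_apply u hu H (𝟙 (u.obj X)) y
  rw [h] at h1 h2
  rw [e] at h1
  have h3 := h1.symm.trans h2
  rw [← u.map_id, val_map, val_map, Option.some_inj] at h3
  simpa using h3

include hu in
theorem exists_preimage {K : Cᵒᵖ ⥤ Type u} (α : H ⟶ K) (X : C) (z : (u.op.lan.obj H).obj (op (u.obj X))) (y : K.obj (op X))
    (e : (u.op.lan.map α).app _ z = ((u.op.lanAdjunction (Type u)).unit.app K).app (op X) y) :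
    ∃ x : H.obj (op X), ((u.op.lanAdjunction (Type u)).unit.app H).app (op X) x = z ∧ α.app (op X) x = y := by
  let adj := u.op.lanAdjunction (Type u)
  obtain ⟨Y, φ, x, rfl⟩ := exists_rep u H _ z
  have nat : ∀ (Y : C) (x : H.obj (op Y)), (u.op.lan.map α).app (op (u.obj Y)) ((adj.unit.app H).app (op Y) x) =
      (adj.unit.app K).app (op Y) (α.app (op Y) x) := fun Y x =>
    (congrArg (fun k => k.app (op Y) x) (adj.unit.naturality α)).symm
  have e1 : (u.op.lan.obj K).map φ.op ((adj.unit.app K).app (op Y) (α.app (op Y) x)) =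
      (u.op.lan.obj K).map (𝟙 (u.obj X)).op ((adj.unit.app K).app (op X) y) := by
    rw [← nat, ← NatTrans.naturality_apply]
    refine e.trans ?_
    simp
    rfl
  have e2 := retr_apply u hu K φ (α.app (op Y) x)
  rw [show ((u.op.lan.obj K).map φ.op (((u.op.lanAdjunction (Type u)).unit.app K).app (op Y) (α.app (op Y) x))) = _ from e1] at e2
  have e3 := e2.symm.trans (retr_apply u hu K (𝟙 (u.obj X)) y)
  rw [← u.map_id, val_map] at e3
  obtain ⟨a, ha⟩ : ∃ a : X ⟶ Y, u.map a = φ := by
    by_contra hn
    rw [val, dif_neg hn] at e3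
    simp at e3
  subst ha
  rw [val_map, Option.some_inj] at e3
  refine ⟨H.map a.op x, NatTrans.naturality_apply (adj.unit.app H) a.op x, ?_⟩
  rw [NatTrans.naturality_apply, e3]
  simp

end

/-- Let `u : C ⥤ C'` be a faithful functor between small categories such that for every object `X` of
`C` the induced functor on over-categories `C/X ⥤ C'/u X` is full and faithful. Then the left Kan
extension functor `u_!` on presheaves of sets is faithful, the unit `H ⟶ u^* u_! H` of the
adjunction `u_! ⊣ u^*` is a monomorphism for every presheaf `H`, and for every morphism of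
presheaves `α : H ⟶ K` the naturality square of the unit at `α` (with sides `α` and `u^* u_! α`) is
cartesian. (The published statement assumes only the condition on the slice functors, and its proof
uses that `u` is faithful; the slice condition alone does not suffice: for a nontrivial group viewed
as a one-object category mapping to the point every slice functor is an equivalence, while `u_!` is
the orbit-set functor on `G`-sets, which is not faithful, and the unit `G ⟶ G/G` is not a
monomorphism. So `u` is taken faithful here.) -/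
theorem result
    {C : Type u} [SmallCategory C] {C' : Type u} [SmallCategory C'] (u : C ⥤ C') [u.Faithful]
    (hu : ∀ X : C, (Over.post (X := X) u).Full ∧ (Over.post (X := X) u).Faithful) :
    (u.op.lan : (Cᵒᵖ ⥤ Type u) ⥤ (C'ᵒᵖ ⥤ Type u)).Faithful ∧
    (∀ H : Cᵒᵖ ⥤ Type u, Mono ((u.op.lanAdjunction (Type u)).unit.app H)) ∧
    ∀ (H K : Cᵒᵖ ⥤ Type u) (α : H ⟶ K),
      IsPullback ((u.op.lanAdjunction (Type u)).unit.app H) α
        (((Functor.whiskeringLeft Cᵒᵖ C'ᵒᵖ (Type u)).obj u.op).map (u.op.lan.map α))
        ((u.op.lanAdjunction (Type u)).unit.app K) := by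
  have hf := fun X => (hu X).1
  have hmono : ∀ H : Cᵒᵖ ⥤ Type u, Mono ((u.op.lanAdjunction (Type u)).unit.app H) := fun H => by
    have : ∀ X, Mono (((u.op.lanAdjunction (Type u)).unit.app H).app X) := fun ⟨X⟩ =>
      (mono_iff_injective _).2 (unit_injective u hf H X)
    exact NatTrans.mono_of_mono_app _
  refine ⟨⟨fun {H K φ ψ} e => ?_⟩, hmono, fun H K α => ?_⟩
  · have := hmono K
    refine (cancel_mono ((u.op.lanAdjunction (Type u)).unit.app K)).1 ?_
    exact ((u.op.lanAdjunction (Type u)).unit.naturality φ).trans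
      ((congrArg (fun k => (u.op.lanAdjunction (Type u)).unit.app H ≫ ((Functor.whiskeringLeft Cᵒᵖ C'ᵒᵖ (Type u)).obj u.op).map k) e).trans
        ((u.op.lanAdjunction (Type u)).unit.naturality ψ).symm)
  · refine ⟨⟨((u.op.lanAdjunction (Type u)).unit.naturality α).symm⟩, ⟨PullbackCone.IsLimit.mk _ (fun s =>
      { app := fun X => TypeCat.ofHom (fun w => (exists_preimage u hf H α X.unop (s.fst.app X w) (s.snd.app X w)
          (congrArg (fun k => k.app X w) s.condition)).choose), naturality := fun X X' g => ?_ })
      (fun s => ?_) (fun s => ?_) (fun s m h1 _ => ?_)⟩⟩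
    · ext w
      refine unit_injective u hf H X'.unop ?_
      refine (exists_preimage u hf H α X'.unop _ _ (congrArg (fun k => k.app X' (s.pt.map g w)) s.condition)).choose_spec.1.trans ?_
      refine Eq.trans ?_ (NatTrans.naturality_apply ((u.op.lanAdjunction (Type u)).unit.app H) g _).symm
      refine (NatTrans.naturality_apply s.fst g w).trans (congrArg _ ?_)
      exact (exists_preimage u hf H α X.unop _ _ (congrArg (fun k => k.app X w) s.condition)).choose_spec.1.symm
    · ext X w
      exact (exists_preimage u hf H α X.unop _ _ (congrArg (fun k => k.app X w) s.condition)).choose_spec.1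
    · ext X w
      exact (exists_preimage u hf H α X.unop _ _ (congrArg (fun k => k.app X w) s.condition)).choose_spec.2
    · ext X w
      refine unit_injective u hf H X.unop ?_
      exact (congrArg (fun k => k.app X w) h1).trans (exists_preimage u hf H α X.unop _ _ (congrArg (fun k => k.app X w) s.condition)).choose_spec.1.symm

end Groth.Agent.S6129
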