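import Groth.Statements.S6131
import Mathlib
-- import your own Groth.Agent.* helpers here

set_option autoImplicit false
open CategoryTheory CategoryTheory.Limits
universe u
open SGA4

namespace Groth.Agent.S6131

/-- For a small site `(C, J)` and an object `X` of `C`, the sheaf associated to the presheaf represented
by `X` is an initial object of the category of sheaves of sets if and only if the empty sieve covers
`X`. -/
theorem result
    {C : Type u} [SmallCategory C] (J : GrothendieckTopology C) (X : C) :
    Nonempty (IsInitial ((presheafToSheaf J (Type u)).obj (yoneda.obj X))) ↔ (⊥ : Sieve X) ∈ J X := by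
  let A := sheafificationAdjunction J (Type u)
  constructor
  · rintro ⟨h⟩
    let Ω : Sheaf J (Type u) := ⟨(Functor.closedSieves J).toFunctor,
      (isSheaf_iff_isSheaf_of_type J _).2 (classifier_isSheaf J)⟩
    rw [← J.close_eq_top_iff_mem]
    let s : Ω.obj.obj ⟨X⟩ := ⟨J.close ⊥, J.close_isClosed ⊥⟩
    let t : Ω.obj.obj ⟨X⟩ := ⟨(⊤ : Sieve X), fun Y f _ => trivial⟩
    have hst : s = t := by
      let e : Ω.obj.obj ⟨X⟩ ≃ ((presheafToSheaf J (Type u)).obj (yoneda.obj X) ⟶ Ω) :=
        ((A.homEquiv (yoneda.obj X) Ω).trans yonedaEquiv).symm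
      exact e.injective (h.hom_ext _ _)
    exact (congrArg (fun z : {S : Sieve X // J.IsClosed S} => z.1) hst :)
  · intro hbot
    have key : ∀ (F : Sheaf J (Type u)), Nonempty (Unique (F.obj.obj ⟨X⟩)) := by
      intro F
      have hF : Presieve.IsSheafFor F.obj (⊥ : Sieve X).arrows :=
        (isSheaf_iff_isSheaf_of_type J _).1 F.property _ hbot
      obtain ⟨x, _, hx⟩ := hF (fun _ _ h => False.elim h) (fun _ _ _ _ _ _ _ h _ _ => False.elim h)
      exact ⟨⟨⟨x⟩, fun y => hx y fun _ _ h => False.elim h⟩⟩
    haveI : ∀ F : Sheaf J (Type u),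
        Unique ((presheafToSheaf J (Type u)).obj (yoneda.obj X) ⟶ F) := fun F =>
      @Equiv.unique _ _ (key F).some ((A.homEquiv (yoneda.obj X) F).trans yonedaEquiv)
    exact ⟨IsInitial.ofUnique _⟩

end Groth.Agent.S6131
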