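import Groth.Statements.S6134
import Groth.Agent.ToposFinLib.Cover

set_option autoImplicit false
open CategoryTheory CategoryTheory.Limits
universe u
open SGA4

namespace Groth.Agent.S6134

set_option backward.isDefEq.respectTransparency false
set_option backward.isDefEq.respectTransparency.types false
open Groth.Agent.ToposFinLib
open Opposite

/-- Criterion for sheaves of representables to form a coproduct. -/
theorem cofan_iff {C : Type u} [SmallCategory C] {K : GrothendieckTopology C} {X : C} {ι : Type u}
    (Y : ι → C) (s : ∀ i, Y i ⟶ X) :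
    Nonempty (IsColimit (Cofan.mk ((presheafToSheaf K (Type u)).obj (yoneda.obj X))
      (fun i => (presheafToSheaf K (Type u)).map (yoneda.map (s i))))) ↔
    ∀ (Z : Sheaf K (Type u)) (z : ∀ i, Z.obj.obj (op (Y i))), ∃! x : Z.obj.obj (op X), ∀ i, Z.obj.map (s i).op x = z i := by
  constructor
  · rintro ⟨h⟩ Z z
    obtain ⟨x, hx⟩ := el.surjective (Cofan.IsColimit.desc h fun i => el (z i))
    have hx' : ∀ i, Z.obj.map (s i).op x = z i := fun i => el.injective (by
      rw [← el_map, hx]
      exact Cofan.IsColimit.fac h (fun i => el (z i)) i)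
    refine ⟨x, hx', fun x' h' => el.injective (Cofan.IsColimit.hom_ext h _ _ fun i => ?_)⟩
    exact (el_map x' (s i)).trans ((congrArg el ((h' i).trans (hx' i).symm)).trans (el_map x (s i)).symm)
  · intro h
    choose x hx hu using fun (Z : Sheaf K (Type u)) (t : ∀ i, ToposFin.eps K (Y i) ⟶ Z) => h Z fun i => el.symm (t i)
    refine ⟨Cofan.IsColimit.mk _ (fun c => el (x c.pt c.inj)) (fun c i => ?_) (fun c m hm => ?_)⟩
    · exact (el_map _ _).trans ((congrArg el (hx c.pt c.inj i)).trans (el.apply_symm_apply _))
    · obtain ⟨y, rfl⟩ := el.surjective m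
      refine congrArg el (hu c.pt c.inj y fun i => el.injective ?_)
      exact (el_map _ _).symm.trans ((hm i).trans (el.apply_symm_apply _).symm)

/-- Let `C` be a small category with topologies `J ≤ J'` (every `J`-covering sieve is `J'`-covering),
`X` an object and `s i : Y i ⟶ X` a family of morphisms. If the associated `J`-sheaf of the presheaf
represented by `X`, with the maps induced by the `s i`, is a coproduct of the associated `J`-sheaves
of the `Y i` (in sheaves of sets), then the same holds for `J'`. -/
theorem result
    {C : Type u} [SmallCategory C] {J J' : GrothendieckTopology C} (hJ : J ≤ J')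
    {X : C} {ι : Type u} (Y : ι → C) (s : ∀ i, Y i ⟶ X)
    (h : Nonempty (IsColimit (Cofan.mk ((presheafToSheaf J (Type u)).obj (yoneda.obj X))
      (fun i => (presheafToSheaf J (Type u)).map (yoneda.map (s i)))))) :
    Nonempty (IsColimit (Cofan.mk ((presheafToSheaf J' (Type u)).obj (yoneda.obj X))
      (fun i => (presheafToSheaf J' (Type u)).map (yoneda.map (s i))))) := by
  rw [cofan_iff] at h ⊢
  intro Z z
  exact h ⟨Z.obj, (isSheaf_iff_isSheaf_of_type _ _).2
    (Presieve.isSheaf_of_le _ hJ ((isSheaf_iff_isSheaf_of_type _ _).1 Z.property))⟩ z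

end Groth.Agent.S6134
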