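import Groth.Statements.S6135
import Groth.Agent.ToposFinLib.IndLan

set_option autoImplicit false
open CategoryTheory CategoryTheory.Limits
universe u
open SGA4

namespace Groth.Agent.S6135

set_option backward.isDefEq.respectTransparency false
set_option backward.isDefEq.respectTransparency.types false
open Groth.Agent.ToposFinLib

/-- Faithful case. Let `u : C ⥤ C'` be a functor between small categories and `u_!` the left Kan
extension functor on presheaves of sets, whose restriction to ind-objects (presheaves that are small
filtered colimits of representables) is the induced functor `Ind C ⥤ Ind C'`. Then `u` is faithful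
if and only if `u_!` is injective on morphisms between ind-representable presheaves. -/
theorem result
    {C : Type u} [SmallCategory C] {C' : Type u} [SmallCategory C'] (u : C ⥤ C') :
    u.Faithful ↔ ∀ (F G : Cᵒᵖ ⥤ Type u), IsIndObject F → IsIndObject G →
      Function.Injective (fun φ : F ⟶ G => (u.op.lan : (Cᵒᵖ ⥤ Type u) ⥤ (C'ᵒᵖ ⥤ Type u)).map φ) := by
  refine ⟨fun _ F G _ hG => lanMap_injective u F hG, fun h => ⟨fun {A B f g} e => yoneda.map_injective
    (h _ _ (isIndObject_yoneda A) (isIndObject_yoneda B) ?_)⟩⟩
  have hi : IsIso (lanYonedaHom u B) := inferInstanceAs (IsIso (lanYonedaIso u B).hom)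
  exact (cancel_mono (lanYonedaHom u B)).1 (by rw [lanYonedaHom_naturality, lanYonedaHom_naturality, e])

end Groth.Agent.S6135
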