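import Groth.Statements.S6136
import Groth.Agent.ToposFinLib.IndLan

set_option autoImplicit false
open CategoryTheory CategoryTheory.Limits
universe u
open SGA4

namespace Groth.Agent.S6136

set_option backward.isDefEq.respectTransparency false
set_option backward.isDefEq.respectTransparency.types false
open Groth.Agent.ToposFinLib

/-- Fully faithful case. Let `u : C ⥤ C'` be a functor between small categories and `u_!` the left Kan
extension functor on presheaves of sets, whose restriction to ind-representable presheaves is the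
induced functor `Ind C ⥤ Ind C'`. Then `u` is full and faithful if and only if `u_!` is bijective on
morphisms between ind-representable presheaves. -/
theorem result
    {C : Type u} [SmallCategory C] {C' : Type u} [SmallCategory C'] (u : C ⥤ C') :
    (u.Full ∧ u.Faithful) ↔ ∀ (F G : Cᵒᵖ ⥤ Type u), IsIndObject F → IsIndObject G →
      Function.Bijective (fun φ : F ⟶ G => (u.op.lan : (Cᵒᵖ ⥤ Type u) ⥤ (C'ᵒᵖ ⥤ Type u)).map φ) := by
  refine ⟨fun ⟨_, _⟩ F G _ hG => ⟨lanMap_injective u F hG, lanMap_surjective u F hG⟩, fun h => ?_⟩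
  have hi : ∀ B, IsIso (lanYonedaHom u B) := fun B => inferInstanceAs (IsIso (lanYonedaIso u B).hom)
  refine ⟨⟨fun {A B} g => ?_⟩, ⟨fun {A B f g} e => yoneda.map_injective
    ((h _ _ (isIndObject_yoneda A) (isIndObject_yoneda B)).1 ?_)⟩⟩
  · have := hi A; have := hi B
    obtain ⟨φ, hφ⟩ := (h _ _ (isIndObject_yoneda A) (isIndObject_yoneda B)).2
      (lanYonedaHom u A ≫ yoneda.map g ≫ inv (lanYonedaHom u B))
    obtain ⟨f, rfl⟩ := yoneda.map_surjective φ
    refine ⟨f, yoneda.map_injective ((cancel_epi (lanYonedaHom u A)).1 ?_)⟩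
    rw [← lanYonedaHom_naturality]
    simp only at hφ
    rw [hφ]
    simp
  · have := hi B
    exact (cancel_mono (lanYonedaHom u B)).1 (by rw [lanYonedaHom_naturality, lanYonedaHom_naturality, e])

end Groth.Agent.S6136
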