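import Groth.Statements.S6137
import Mathlib.CategoryTheory.Limits.Elements
import Mathlib.CategoryTheory.Limits.Constructions.WeaklyInitial
import Mathlib.CategoryTheory.Limits.Types.Colimits
import Mathlib.CategoryTheory.Limits.Yoneda
import Mathlib.CategoryTheory.Limits.FunctorCategory.Basic

set_option autoImplicit false
open CategoryTheory CategoryTheory.Limits
universe v u
open SGA4

namespace Groth.Agent.S6137

set_option backward.isDefEq.respectTransparency false
set_option backward.isDefEq.respectTransparency.types false

/-- Let `C` be a category with `v`-small hom-sets admitting all `v`-small limits, and `F : C ⥤ Type v` a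
functor. Then `F` is corepresentable if and only if it is pro-representable (viewed as a presheaf on
`Cᵒᵖ` it is an ind-object, i.e. a small filtered colimit of corepresentable functors) and preserves
all `v`-small limits. -/
theorem result
    {C : Type u} [Category.{v} C] [HasLimitsOfSize.{v, v} C] (F : C ⥤ Type v) :
    F.IsCorepresentable ↔
      IsIndObject (unopUnop C ⋙ F) ∧ PreservesLimitsOfSize.{v, v} F := by
  constructor
  · intro h
    let e := h.has_corepresentation.choose_spec.some
    let X := h.has_corepresentation.choose
    let i : coyoneda.obj (Opposite.op X) ≅ F := NatIso.ofComponents (fun Y => e.homEquiv.toIso)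
      (fun g => by ext f; exact e.homEquiv_comp g f)
    refine ⟨(isIndObject_yoneda (Opposite.op X)).map (NatIso.ofComponents
      (fun Y => (Quiver.Hom.opEquiv.symm.trans e.homEquiv).toIso)
      (fun g => by ext f; exact e.homEquiv_comp g.unop.unop f.unop)
        : yoneda.obj (Opposite.op X) ≅ unopUnop C ⋙ F).hom, preservesLimits_of_natIso i⟩
  · rintro ⟨h, hp⟩
    let P := h.presentation
    have hH : HasInitial F.Elements := by
      have : HasLimitsOfSize.{v, v} F.Elements := ⟨fun _ _ => inferInstance⟩
      let ex : ∀ i : P.I, F.obj (P.F.obj i).unop := fun i =>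
        (P.ι.app i).app (Opposite.op (P.F.obj i)) (𝟙 (P.F.obj i))
      have hw : ∀ A : F.Elements, ∃ i, Nonempty ((F.elementsMk (P.F.obj i).unop (ex i)) ⟶ A) := fun A => by
        let A' := Opposite.op (Opposite.op A.1)
        obtain ⟨i, f, hf⟩ := Types.jointly_surjective_of_isColimit
          (isColimitOfPreserves ((evaluation Cᵒᵖᵒᵖ (Type v)).obj A') P.coconeIsColimit) A.2
        let g : A.1 ⟶ A.1 := 𝟙 _
        refine ⟨i, ⟨⟨(f : Opposite.op A.1 ⟶ P.F.obj i).unop, ?_⟩⟩⟩
        refine Eq.trans ?_ hf
        refine (NatTrans.naturality_apply (P.ι.app i) (Quiver.Hom.op (f : Opposite.op A.1 ⟶ P.F.obj i)) (𝟙 (P.F.obj i))).symm.trans ?_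
        exact congrArg ((P.ι.app i).app A') (Category.comp_id f)
      obtain ⟨T, hT⟩ := has_weakly_initial_of_weakly_initial_set_and_hasProducts hw
      exact hasInitial_of_weakly_initial_and_hasWideEqualizers hT
    exact Functor.Elements.isCorepresentable_of_hasInitial F

end Groth.Agent.S6137
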