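import Groth.Statements.S6138
import Mathlib.CategoryTheory.Limits.Shapes.Opposites.Equalizers
import Mathlib.CategoryTheory.Limits.Preserves.Shapes.Equalizers
import Mathlib.CategoryTheory.Limits.Shapes.RegularMono
import Mathlib.CategoryTheory.Limits.Types.Equalizers

set_option autoImplicit false
open CategoryTheory CategoryTheory.Limits Opposite
universe v u
open SGA4

namespace Groth.Agent.S6138

/-- Let `C` have coequalizers and pullbacks, let `F` be a presheaf of sets on `C` taking coequalizers of
`C` to equalizers, and let `u ∈ F(X)`, viewed as a morphism `h_X ⟶ F`. Then this morphism is a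
monomorphism (the map `v ↦ F(v)(u)` is injective on `Hom(Y, X)` for every `Y`) if and only if `u` is
minimal: whenever `u = F(p)(u')` for an effective epimorphism `p : X ⟶ X'` and some `u' ∈ F(X')`,
`p` is an isomorphism. (Coequalizers are used for one implication and pullbacks for the other; both
are assumed here.) -/
theorem result
    {C : Type u} [Category.{v} C] [HasCoequalizers C] [HasPullbacks C]
    (F : Cᵒᵖ ⥤ Type v) [PreservesLimitsOfShape WalkingParallelPair F]
    {X : C} (u : F.obj (op X)) :
    (∀ (Y : C) (v v' : Y ⟶ X), F.map v.op u = F.map v'.op u → v = v') ↔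
      ∀ (X' : C) (p : X ⟶ X') (u' : F.obj (op X')),
        EffectiveEpi p → F.map p.op u' = u → IsIso p := by
  constructor
  · intro h X' p u' hp hu'
    have : Mono p := ⟨fun v w e => h _ v w (by rw [← hu', ← Functor.map_comp_apply, ← Functor.map_comp_apply,
      ← op_comp, ← op_comp, e])⟩
    exact isIso_of_mono_of_strongEpi p
  · intro h Y v v' e
    let q := coequalizer.π v v'
    have hq : EffectiveEpi q := inferInstance
    have hc : IsColimit (Cofork.ofπ q (coequalizer.condition v v')) := coequalizerIsCoequalizer v v'
    have hl : IsLimit (Fork.ofι q.op (by rw [← op_comp, ← op_comp, coequalizer.condition]) : Fork v.op v'.op) :=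
      Cofork.isColimitOfπEquivIsLimitOp q q (coequalizer.condition v v') _ rfl hc
    have hF := isLimitForkMapOfIsLimit F _ hl
    obtain ⟨u', hu', -⟩ := Types.unique_of_type_equalizer _ _ hF u e
    have := h _ q u' hq hu'
    exact (cancel_mono q).1 (coequalizer.condition v v')

end Groth.Agent.S6138
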