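import Groth.Statements.S6139
-- import your own Groth.Agent.* helpers here

set_option autoImplicit false
open CategoryTheory CategoryTheory.Limits
universe v u
open SGA4

namespace Groth.Agent.S6139

/-- For an object `X` of a category `C`, the empty sieve on `X` is covering for the canonical topology
of `C` (the finest topology for which every representable presheaf is a sheaf) if and only if `X` is
a strict initial object: `X` is initial and every morphism with target `X` is an isomorphism. (The
source phrases the first condition as: for some topology coarser than the canonical one the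
associated sheaf of `h_X` is initial; that sheaf is initial exactly when the empty sieve covers `X`,
and coverage by the empty sieve passes to the finer canonical topology.) -/
theorem result
    {C : Type u} [Category.{v} C] (X : C) :
    (⊥ : Sieve X) ∈ Sheaf.canonicalTopology C X ↔
      (Nonempty (IsInitial X) ∧ ∀ (Y : C) (f : Y ⟶ X), IsIso f) := by
  have hbot : ∀ {Y : C} (f : Y ⟶ X), (Sieve.pullback f (⊥ : Sieve X)) = ⊥ := fun f => by
    ext Z g; exact Iff.rfl
  constructor
  · intro h
    have key : ∀ {Y : C}, (Y ⟶ X) → Nonempty (IsInitial Y) := by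
      intro Y f
      have hu : ∀ W : C, ∃! t : Y ⟶ W, True := by
        intro W
        have hs := Sheaf.isSheaf_yoneda_obj W ((⊥ : Sieve X).pullback f)
          (GrothendieckTopology.pullback_stable _ f h)
        rw [hbot] at hs
        obtain ⟨t, -, ht⟩ := hs (fun Z g hg => False.elim hg) (fun Z₁ Z₂ W' g₁ g₂ f₁ f₂ h₁ => False.elim h₁)
        exact ⟨t, trivial, fun t' _ => ht t' (fun Z g hg => False.elim hg)⟩
      exact ⟨IsInitial.ofUniqueHom (fun W => (hu W).choose) fun W m => (hu W).choose_spec.2 m trivial⟩
    obtain ⟨hX⟩ := key (𝟙 X)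
    refine ⟨⟨hX⟩, fun Y f => ?_⟩
    obtain ⟨hY⟩ := key f
    exact ⟨hX.to Y, hY.hom_ext _ _, hX.hom_ext _ _⟩
  · rintro ⟨⟨hX⟩, hiso⟩
    refine Sheaf.mem_finestTopology_of_forall_isSheafFor ?_
    rintro _ ⟨W, rfl⟩ Y f
    haveI := hiso Y f
    intro x _
    refine ⟨f ≫ hX.to W, fun Z g hg => False.elim hg, fun t _ => ?_⟩
    show t = f ≫ hX.to W
    rw [← hX.hom_ext (inv f ≫ t) (hX.to W)]
    simp

end Groth.Agent.S6139
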