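import Groth.Statements.S6140
import Groth.Agent.ToposFinLib.Local
import Mathlib.CategoryTheory.Sites.EffectiveEpimorphic
import Mathlib.CategoryTheory.Limits.Preserves.Shapes.Equalizers

set_option autoImplicit false
open CategoryTheory CategoryTheory.Limits
universe u
open SGA4

namespace Groth.Agent.S6140

set_option backward.isDefEq.respectTransparency false
set_option backward.isDefEq.respectTransparency.types false
open Opposite Groth.Agent.ToposFinLib

section
variable {C : Type u} [SmallCategory C]

/-- The classes of a relation given by a pair of morphisms, as a presheaf. -/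
def relQuot {R X : C} (p₁ p₂ : R ⟶ X) : Cᵒᵖ ⥤ Type u where
  obj T := Quot (fun a b : T.unop ⟶ X => ∃ f : T.unop ⟶ R, f ≫ p₁ = a ∧ f ≫ p₂ = b)
  map g := TypeCat.ofHom (Quot.map (fun a => g.unop ≫ a) fun a b ⟨f, h₁, h₂⟩ => ⟨g.unop ≫ f, by simp [h₁], by simp [h₂]⟩)
  map_id T := by
    refine ConcreteCategory.hom_ext _ _ fun q => ?_
    obtain ⟨x, rfl⟩ := Quot.exists_rep q
    exact congrArg (Quot.mk _) (Category.id_comp x)
  map_comp f g := by
    refine ConcreteCategory.hom_ext _ _ fun q => ?_
    obtain ⟨x, rfl⟩ := Quot.exists_rep q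
    exact congrArg (Quot.mk _) (Category.assoc g.unop f.unop x)

theorem pullback_generateSingleton [HasPullbacks C] {X B W : C} (π : X ⟶ B) (f : W ⟶ B) :
    (Sieve.generateSingleton π).pullback f = Sieve.generateSingleton (pullback.snd π f) := by
  ext V g
  constructor
  · rintro ⟨k, hk⟩
    exact ⟨pullback.lift k g hk, pullback.lift_snd _ _ _⟩
  · rintro ⟨k, rfl⟩
    exact ⟨k ≫ pullback.fst π f, by simp [pullback.condition]⟩

end

/-- Let `C` be a small category with pullbacks, `p₁ p₂ : R ⇉ X` an equivalence relation in `C` admitting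
a coequalizer cofork `c`, and `ε` the canonical functor to sheaves of sets for the canonical
topology of `C`. Then the equivalence relation is effective and universal (`R` is the kernel pair of
the quotient map, which is a coequalizer all of whose base changes are effective epimorphisms) if
and only if `ε` takes `c` to a coequalizer of `ε p₁, ε p₂`. (For a small category every topology has
a small topologically generating family, so both implications of the published statement apply. The
published statement asks only that the quotient map have all base changes; this row assumes that `C`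
has all pullbacks.) -/
theorem result
    {C : Type u} [SmallCategory C] [HasPullbacks C] {R X : C} (p₁ p₂ : R ⟶ X)
    (hR : SGA4.IsEquivRel p₁ p₂) (c : Cofork p₁ p₂) (hc : IsColimit c) :
    SGA4.IsEffectiveUniversalEquivRel p₁ p₂ ↔
      Nonempty (IsColimit ((yoneda ⋙ presheafToSheaf (Sheaf.canonicalTopology C) (Type u)).mapCocone c)) := by
  let J := Sheaf.canonicalTopology C
  let G := yoneda ⋙ presheafToSheaf J (Type u)
  constructor
  · rintro ⟨B, π, hk, hp, hu⟩
    let i : c.pt ≅ B := hc.coconePointUniqueUpToIso hp.isLimitFork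
    have hi : c.π ≫ i.hom = π := hc.comp_coconePointUniqueUpToIso_hom hp.isLimitFork WalkingParallelPair.one
    have hS : Sieve.generateSingleton π ∈ J B := by
      refine Sheaf.mem_finestTopology_of_forall_isSheafFor ?_
      rintro P ⟨Y, rfl⟩ W f
      rw [pullback_generateSingleton, ← Sieve.generateSingleton_eq]
      exact (Sieve.EffectiveEpimorphic.iff_forall_isSheafFor_yoneda _).1
        ((Sieve.effectiveEpimorphic_singleton _).2 (hu W f)) Y
    have hS' : Sieve.generateSingleton c.π ∈ J c.pt := by
      refine J.superset_covering (fun W g hg => ?_) (J.pullback_stable i.hom hS)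
      obtain ⟨k, hk'⟩ := hg
      exact ⟨k, by rw [← cancel_mono i.hom, Category.assoc, hi, hk']⟩
    have key : ∀ (Z : ToposFin.Sh J) (x : Z.obj.obj (op X)), Z.obj.map p₁.op x = Z.obj.map p₂.op x →
        ∃! b : Z.obj.obj (op c.pt), Z.obj.map c.π.op b = x := by
      intro Z x hx
      have hZ := (isSheaf_iff_isSheaf_of_type J Z.obj).1 Z.property _ hS'
      let fam : Presieve.FamilyOfElements Z.obj (Sieve.generateSingleton c.π).arrows :=
        fun W g hg => Z.obj.map hg.choose.op x
      have hagree : ∀ {W : C} (a b : W ⟶ X), a ≫ c.π = b ≫ c.π → Z.obj.map a.op x = Z.obj.map b.op x := by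
        intro W a b e
        have e' : a ≫ π = b ≫ π := by rw [← hi, reassoc_of% e]
        rw [← hk.lift_fst a b e', op_comp, Functor.map_comp_apply, hx, ← Functor.map_comp_apply, ← op_comp,
          hk.lift_snd a b e']
      have hc' : fam.Compatible := by
        intro W₁ W₂ V g₁ g₂ f₁ f₂ h₁ h₂ e
        simp only [fam, ← Functor.map_comp_apply, ← op_comp]
        exact hagree _ _ (by rw [Category.assoc, Category.assoc, h₁.choose_spec, h₂.choose_spec, e])
      obtain ⟨b, hb, hu'⟩ := hZ fam hc'
      have hπ : (Sieve.generateSingleton c.π).arrows c.π := ⟨𝟙 _, Category.id_comp _⟩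
      have hb' : Z.obj.map c.π.op b = x := (hb c.π hπ).trans
        ((hagree _ (𝟙 X) (hπ.choose_spec.trans (Category.id_comp _).symm)).trans (by simp))
      refine ⟨b, hb', fun b' hb'' => hZ.isSeparatedFor.ext fun W g hg => ?_⟩
      obtain ⟨k, rfl⟩ := hg
      rw [op_comp, Functor.map_comp_apply, Functor.map_comp_apply, hb'', hb']
    choose desc hdesc hdu using key
    have wt : ∀ (s : Cofork (G.map p₁) (G.map p₂)),
        s.pt.obj.map p₁.op (el.symm s.π) = s.pt.obj.map p₂.op (el.symm s.π) := fun s => by
      apply el.injective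
      rw [← el_map, ← el_map, Equiv.apply_symm_apply]
      exact s.condition
    have h : IsColimit (Cofork.ofπ (G.map c.π) (by rw [← G.map_comp, ← G.map_comp, c.condition]) :
        Cofork (G.map p₁) (G.map p₂)) := by
      refine Cofork.IsColimit.mk _ (fun s => el (desc s.pt (el.symm s.π) (wt s))) (fun s => ?_) (fun s m hm => ?_)
      · exact (el_map _ _).trans ((congrArg el (hdesc s.pt _ (wt s))).trans (el.apply_symm_apply _))
      · obtain ⟨y, rfl⟩ := el.surjective m
        refine congrArg el (hdu s.pt _ (wt s) y (el.injective ?_))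
        exact ((el_map _ _).symm.trans hm).trans (el.apply_symm_apply _).symm
    exact ⟨((isColimitMapCoconeCoforkEquiv G c.condition).symm h).ofIsoColimit
      ((Cocones.functoriality _ G).mapIso c.isoCoforkOfπ.symm)⟩
  · rintro ⟨h⟩
    have h' : IsColimit (Cofork.ofπ (G.map c.π) (by rw [← G.map_comp, ← G.map_comp, c.condition]) :
        Cofork (G.map p₁) (G.map p₂)) :=
      isColimitMapCoconeCoforkEquiv G c.condition (h.ofIsoColimit ((Cocones.functoriality _ G).mapIso c.isoCoforkOfπ))
    have hS : Sieve.generateSingleton c.π ∈ J c.pt := by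
      refine J.superset_covering ?_ (mem_of_cov_eps_map (J := J) (fun _ : PUnit.{u + 1} => c.π)
        fun Z a b e => Cofork.IsColimit.hom_ext h' (e PUnit.unit))
      rintro W g ⟨_, a, b, ⟨⟩, rfl⟩
      exact ⟨a, rfl⟩
    let tq : ToposFin.eps J X ⟶ (presheafToSheaf J (Type u)).obj (relQuot p₁ p₂) :=
      el ((toSheafify J (relQuot p₁ p₂)).app (op X) (Quot.mk _ (𝟙 X)))
    have htq : ∀ {T : C} (a : T ⟶ X), G.map a ≫ tq = el ((toSheafify J (relQuot p₁ p₂)).app (op T) (Quot.mk _ a)) := by
      intro T a
      refine (el_map _ a).trans (congrArg el ?_)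
      refine (NatTrans.naturality_apply (toSheafify J (relQuot p₁ p₂)) a.op _).symm.trans ?_
      exact congrArg _ (congrArg (Quot.mk _) (Category.comp_id a))
    have hpull : IsPullback p₁ p₂ c.π c.π := by
      have ex : ∀ {T : C} (f g : T ⟶ X), f ≫ c.π = g ≫ c.π → ∃ k : T ⟶ R, k ≫ p₁ = f ∧ k ≫ p₂ = g := by
        intro T f g e
        have w : G.map p₁ ≫ tq = G.map p₂ ≫ tq := by
          rw [htq, htq, Quot.sound ⟨𝟙 R, Category.id_comp _, Category.id_comp _⟩]
        have e1 : G.map f ≫ tq = G.map g ≫ tq := by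
          rw [← Cofork.IsColimit.π_desc' h' tq w]
          simp only [Cofork.π_ofπ, ← Category.assoc, ← G.map_comp, e]
        rw [htq, htq] at e1
        have hS' := Presheaf.equalizerSieve_mem J (toSheafify J (relQuot p₁ p₂)) _ _ (el.injective e1)
        have hex : ∀ ⦃W : C⦄ (w : W ⟶ T), Presheaf.equalizerSieve (F := relQuot p₁ p₂) (Quot.mk _ f) (Quot.mk _ g) w →
            ∃ k : W ⟶ R, k ≫ p₁ = w ≫ f ∧ k ≫ p₂ = w ≫ g := fun W w hw =>
          (hR W).2.eqvGen_iff.1 (Quot.eqvGen_exact (hw : Quot.mk _ (w ≫ f) = Quot.mk _ (w ≫ g)))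
        let fam : Presieve.FamilyOfElements (yoneda.obj R)
            (Presheaf.equalizerSieve (F := relQuot p₁ p₂) (Quot.mk _ f) (Quot.mk _ g)).arrows :=
          fun W w hw => (hex w hw).choose
        have hc' : fam.Compatible := by
          intro W₁ W₂ V g₁ g₂ f₁ f₂ h₁ h₂ e2
          refine (hR V).1 (Prod.ext ?_ ?_)
          · change (g₁ ≫ (hex f₁ h₁).choose) ≫ p₁ = (g₂ ≫ (hex f₂ h₂).choose) ≫ p₁
            rw [Category.assoc, Category.assoc, (hex f₁ h₁).choose_spec.1, (hex f₂ h₂).choose_spec.1, reassoc_of% e2]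
          · change (g₁ ≫ (hex f₁ h₁).choose) ≫ p₂ = (g₂ ≫ (hex f₂ h₂).choose) ≫ p₂
            rw [Category.assoc, Category.assoc, (hex f₁ h₁).choose_spec.2, (hex f₂ h₂).choose_spec.2, reassoc_of% e2]
        obtain ⟨k, hk, -⟩ := Sheaf.isSheaf_yoneda_obj R _ hS' fam hc'
        refine ⟨k, ((Sheaf.isSheaf_yoneda_obj X).isSeparated _ hS').ext fun W w hw => ?_,
          ((Sheaf.isSheaf_yoneda_obj X).isSeparated _ hS').ext fun W w hw => ?_⟩
        · change w ≫ k ≫ p₁ = w ≫ f
          rw [← Category.assoc, show w ≫ k = (hex w hw).choose from hk w hw, (hex w hw).choose_spec.1]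
        · change w ≫ k ≫ p₂ = w ≫ g
          rw [← Category.assoc, show w ≫ k = (hex w hw).choose from hk w hw, (hex w hw).choose_spec.2]
      exact ⟨⟨c.condition⟩, ⟨PullbackCone.IsLimit.mk _ (fun s => (ex s.fst s.snd s.condition).choose)
        (fun s => (ex s.fst s.snd s.condition).choose_spec.1) (fun s => (ex s.fst s.snd s.condition).choose_spec.2)
        (fun s m h₁ h₂ => (hR s.pt).1 (Prod.ext (h₁.trans (ex s.fst s.snd s.condition).choose_spec.1.symm)
          (h₂.trans (ex s.fst s.snd s.condition).choose_spec.2.symm)))⟩⟩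
    obtain ⟨r, hr₁, hr₂⟩ := (hR X).2.refl (𝟙 X)
    have key : ∀ s : PushoutCocone p₁ p₂, s.inl = s.inr := fun s => by
      have := congrArg (fun z => r ≫ z) s.condition
      simpa [reassoc_of% hr₁, reassoc_of% hr₂] using this
    have key' : ∀ s : PushoutCocone p₁ p₂, p₁ ≫ s.inl = p₂ ≫ s.inl := fun s => by
      rw [s.condition, key s]
    refine ⟨c.pt, c.π, hpull, ⟨⟨c.condition⟩, ⟨PushoutCocone.IsColimit.mk _
      (fun s => Cofork.IsColimit.desc hc s.inl (key' s)) (fun s => Cofork.IsColimit.π_desc' hc _ (key' s))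
      (fun s => (Cofork.IsColimit.π_desc' hc _ (key' s)).trans (key s))
      (fun s m h₁ _ => Cofork.IsColimit.hom_ext hc (h₁.trans (Cofork.IsColimit.π_desc' hc _ (key' s)).symm))⟩⟩,
      fun W f => (Sieve.effectiveEpimorphic_singleton _).1 ?_⟩
    refine (Sieve.EffectiveEpimorphic.iff_forall_isSheafFor_yoneda _).2 fun Y => ?_
    rw [Sieve.generateSingleton_eq]
    have h := J.pullback_stable f hS
    rw [pullback_generateSingleton] at h
    exact Sheaf.isSheaf_yoneda_obj Y _ h

end Groth.Agent.S6140
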