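import Groth.Statements.S6142
import Groth.Agent.ToposFinLib.Local

set_option autoImplicit false
open CategoryTheory
universe u
open SGA4

namespace Groth.Agent.S6142

set_option backward.isDefEq.respectTransparency false
set_option backward.isDefEq.respectTransparency.types false
open Opposite Groth.Agent.ToposFinLib

/-- Let `u : C ⥤ C'` be a continuous and cocontinuous functor between small sites whose topologies are
subcanonical. If the left adjoint `u_!` of the restriction functor `u^*` on sheaves of sets is full
and faithful, then `u` is full and faithful. -/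
theorem result
    {C : Type u} [SmallCategory C] {C' : Type u} [SmallCategory C']
    (J : GrothendieckTopology C) (K : GrothendieckTopology C') [J.Subcanonical] [K.Subcanonical]
    (u : C ⥤ C') [u.IsContinuous J K] [u.IsCocontinuous J K]
    (h : (u.sheafPullback (Type u) J K).Full ∧ (u.sheafPullback (Type u) J K).Faithful) :
    u.Full ∧ u.Faithful := by
  obtain ⟨h1, h2⟩ := h
  let adj := u.sheafAdjunctionContinuous (Type u) J K
  let R := u.sheafPushforwardContinuous (Type u) J K
  let L := u.sheafPullback (Type u) J K
  have sJ : ∀ (X : C), IsIso (toSheafify J (yoneda.obj X)) := fun X =>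
    isIso_toSheafify _ (GrothendieckTopology.Subcanonical.isSheaf_of_isRepresentable (J := J) _ |> (isSheaf_iff_isSheaf_of_type _ _).2)
  have sK : ∀ (X : C'), IsIso (toSheafify K (yoneda.obj X)) := fun X =>
    isIso_toSheafify _ (GrothendieckTopology.Subcanonical.isSheaf_of_isRepresentable (J := K) _ |> (isSheaf_iff_isSheaf_of_type _ _).2)
  have key : ∀ A B : C, Function.Bijective (u.map : (A ⟶ B) → (u.obj A ⟶ u.obj B)) := by
    intro A B
    let idK : (ToposFin.eps K (u.obj B)).obj.obj (op (u.obj B)) :=
      (toSheafify K (yoneda.obj (u.obj B))).app _ (𝟙 (u.obj B))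
    let η : ToposFin.eps J B ⟶ R.obj (ToposFin.eps K (u.obj B)) := el (X := R.obj (ToposFin.eps K (u.obj B))) idK
    let e : L.obj (ToposFin.eps J B) ⟶ ToposFin.eps K (u.obj B) := (adj.homEquiv _ _).symm η
    let z := el.symm (adj.homEquiv (ToposFin.eps J B) (L.obj (ToposFin.eps J B)) (𝟙 _))
    let e' : ToposFin.eps K (u.obj B) ⟶ L.obj (ToposFin.eps J B) := el (U := u.obj B) z
    have he : IsIso e := by
      refine ⟨e', (adj.homEquiv _ _).injective ?_, ?_⟩
      · rw [adj.homEquiv_naturality_right, Equiv.apply_symm_apply]
        have h4 : e'.hom.app _ idK = z := el.injective (by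
          rw [← el_comp]
          have : el idK = 𝟙 (ToposFin.eps K (u.obj B)) := (map_yoneda_eq_el (𝟙 (u.obj B))).symm.trans (by simp)
          rw [this, Category.id_comp])
        refine (el_comp (X := R.obj (ToposFin.eps K (u.obj B))) idK (R.map e')).trans ?_
        refine (congrArg (el (X := R.obj (L.obj (ToposFin.eps J B)))) h4).trans ?_
        exact el.apply_symm_apply _
      · obtain ⟨w, hw⟩ := el.surjective (𝟙 (ToposFin.eps K (u.obj B)))
        rw [← hw]
        refine (el_comp (X := L.obj (ToposFin.eps J B)) (U := u.obj B) z e).trans (congrArg el ?_)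
        have h3 : η = el (X := R.obj (ToposFin.eps K (u.obj B))) (e.hom.app _ z) := by
          refine Eq.trans ?_ (el_comp (X := R.obj (L.obj (ToposFin.eps J B))) z (R.map e))
          rw [el.apply_symm_apply, ← adj.homEquiv_naturality_right, Category.id_comp, Equiv.apply_symm_apply]
        have h5 : idK = w := el.injective ((map_yoneda_eq_el (𝟙 (u.obj B))).symm.trans (by simp [hw]))
        exact (el.injective h3).symm.trans h5
    have hη : IsIso η := by
      have : η = adj.unit.app _ ≫ R.map e :=
        ((adj.homEquiv _ _).apply_symm_apply η).symm.trans (adj.homEquiv_unit _ _ _)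
      rw [this]
      have : IsIso (adj.unit.app (ToposFin.eps J B)) := inferInstance
      infer_instance
    let σ : (A ⟶ B) → (ToposFin.eps J B).obj.obj (op A) := fun f => (toSheafify J (yoneda.obj B)).app (op A) f
    let τ : (u.obj A ⟶ u.obj B) → (ToposFin.eps K (u.obj B)).obj.obj (op (u.obj A)) :=
      fun g => (toSheafify K (yoneda.obj (u.obj B))).app (op (u.obj A)) g
    have hσ : Function.Bijective σ := by
      have := sJ B
      exact (isIso_iff_bijective _).1 (inferInstance : IsIso ((toSheafify J (yoneda.obj B)).app (op A)))
    have hτ : Function.Bijective τ := by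
      have := sK (u.obj B)
      exact (isIso_iff_bijective _).1 (inferInstance : IsIso ((toSheafify K (yoneda.obj (u.obj B))).app (op (u.obj A))))
    have hb : Function.Bijective (η.hom.app (op A)) :=
      (isIso_iff_bijective _).1 (inferInstance : IsIso (((sheafToPresheaf J (Type u)).map η).app (op A)))
    have hsq : ∀ f, η.hom.app (op A) (σ f) = τ (u.map f) := fun f => by
      apply el.injective
      rw [← el_comp, show el (σ f) = (presheafToSheaf J (Type u)).map (yoneda.map f) from (map_yoneda_eq_el f).symm]
      refine (el_map (X := R.obj (ToposFin.eps K (u.obj B))) idK f).trans (congrArg el ?_)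
      refine (NatTrans.naturality_apply (toSheafify K (yoneda.obj (u.obj B))) (u.map f).op _).symm.trans ?_
      exact congrArg _ (Category.comp_id (u.map f))
    refine ⟨fun f g e => hσ.1 (hb.1 (by rw [hsq, hsq, e])), fun g => ?_⟩
    obtain ⟨s, hs⟩ := hb.2 (τ g)
    obtain ⟨f, rfl⟩ := hσ.2 s
    exact ⟨f, hτ.1 ((hsq f).symm.trans hs)⟩
  exact ⟨⟨fun g => (key _ _).2 g⟩, ⟨fun e => (key _ _).1 e⟩⟩

end Groth.Agent.S6142
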