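import Groth.Statements.S6143
import Groth.Agent.S6132
import Groth.Agent.ToposFinLib.Local

set_option autoImplicit false
open CategoryTheory CategoryTheory.Limits
universe u
open SGA4

namespace Groth.Agent.S6143

set_option backward.isDefEq.respectTransparency false
set_option backward.isDefEq.respectTransparency.types false
open Opposite Groth.Agent.ToposFinLib

section
variable {C : Type u} [SmallCategory C]

theorem mem_ofArrows {X : C} {ι : Type u} {Y : ι → C} {s : ∀ i, Y i ⟶ X} {W : C} {g : W ⟶ X} :
    Sieve.ofArrows Y s g ↔ ∃ (i : ι) (k : W ⟶ Y i), k ≫ s i = g := by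
  constructor
  · rintro ⟨_, k, _, ⟨i⟩, rfl⟩
    exact ⟨i, k, rfl⟩
  · rintro ⟨i, k, rfl⟩
    exact ⟨_, k, _, ⟨i⟩, rfl⟩

/-- Amalgamation along a disjoint covering family of monomorphisms. -/
theorem existsUnique_of_disjoint {X : C} {ι : Type u} {Y : ι → C} {s : ∀ i, Y i ⟶ X}
    (hcov : Sieve.ofArrows Y s ∈ Sheaf.canonicalTopology C X) (hmono : ∀ i, Mono (s i))
    (hdisj : ∀ i j, i ≠ j → ∀ (V : C) (a : V ⟶ Y i) (b : V ⟶ Y j), a ≫ s i = b ≫ s j →
      (⊥ : Sieve V) ∈ Sheaf.canonicalTopology C V) (Z : C) (z : ∀ i, Y i ⟶ Z) : ∃! d : X ⟶ Z, ∀ i, s i ≫ d = z i := by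
  refine (Presieve.isSheafFor_arrows_iff (yoneda.obj Z) s).1
    ((Sheaf.isSheaf_yoneda_obj Z).isSheafFor (J := Sheaf.canonicalTopology C) _ hcov) z ?_
  intro i j V gi gj w
  by_cases hij : i = j
  · subst hij
    have := hmono i
    rw [(cancel_mono (s i)).1 w]
  · exact ((Sheaf.isSheaf_yoneda_obj Z).isSeparated _ (hdisj i j hij V gi gj w)).ext fun W f hf => False.elim hf

end

/-- Let `C` be a small category, `X` an object and `s i : Y i ⟶ X` a family of morphisms all of whose
base changes exist. Then the associated sheaf of `h_X` for the canonical topology, with the maps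
induced by the `s i`, is a coproduct of the associated sheaves of the `h_{Y i}` (in sheaves of sets
for the canonical topology) if and only if `X` is a disjoint universal coproduct of the `Y i` in
`C`: the cofan `(X, s)` is a colimit, the injections of a coproduct of the family are monomorphisms
with pairwise pullbacks initial, and the colimit is stable under base change. (The source asks for
the coproduct decomposition after sheafification for some topology coarser than the canonical one;
this is equivalent to asking it for the canonical topology itself.) -/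
theorem result
    {C : Type u} [SmallCategory C] {X : C} {ι : Type u} (Y : ι → C) (s : ∀ i, Y i ⟶ X)
    [∀ (i : ι) (Z : C) (g : Z ⟶ X), HasPullback (s i) g] :
    Nonempty (IsColimit (Cofan.mk
        ((presheafToSheaf (Sheaf.canonicalTopology C) (Type u)).obj (yoneda.obj X))
        (fun i => (presheafToSheaf (Sheaf.canonicalTopology C) (Type u)).map (yoneda.map (s i))))) ↔
      (Nonempty (IsColimit (Cofan.mk X s)) ∧ CoproductDisjoint Y ∧
        IsUniversalColimit (Cofan.mk X s)) := by
  let J := Sheaf.canonicalTopology C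
  constructor
  · rintro ⟨h⟩
    have hinj : ∀ {V W : C} (a b : V ⟶ W), (presheafToSheaf J (Type u)).map (yoneda.map a) =
        (presheafToSheaf J (Type u)).map (yoneda.map b) → a = b := fun {V W} a b e => by
      rw [map_yoneda_eq_el, map_yoneda_eq_el] at e
      have : IsIso (toSheafify J (yoneda.obj W)) :=
        isIso_toSheafify _ ((isSheaf_iff_isSheaf_of_type _ _).2 (Sheaf.isSheaf_yoneda_obj W))
      exact ((isIso_iff_bijective _).1 (inferInstance : IsIso ((toSheafify J (yoneda.obj W)).app (op V)))).1 (el.injective e)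
    have hcov : Sieve.ofArrows Y s ∈ J X := mem_of_cov_eps_map s fun Z a b e => Cofan.IsColimit.hom_ext h _ _ e
    have hmono : ∀ i, Mono (s i) := fun i => ⟨fun a b e => hinj a b (by
      have : Mono ((presheafToSheaf J (Type u)).map (yoneda.map (s i))) := mono_inj h i
      refine (cancel_mono ((presheafToSheaf J (Type u)).map (yoneda.map (s i)))).1 ?_
      rw [← Functor.map_comp, ← Functor.map_comp, ← Functor.map_comp, ← Functor.map_comp, e])⟩
    have hinit : ∀ i j, i ≠ j → ∀ (V : C) (a : V ⟶ Y i) (b : V ⟶ Y j), a ≫ s i = b ≫ s j →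
        Nonempty (IsInitial (ToposFin.eps J V)) := fun i j hij V a b e =>
      isInitial_of_inj_eq h i (k := j) (Ne.symm hij) ((presheafToSheaf J (Type u)).map (yoneda.map a))
        ((presheafToSheaf J (Type u)).map (yoneda.map b)) (by
          change _ ≫ (presheafToSheaf J (Type u)).map (yoneda.map (s i)) = _ ≫ (presheafToSheaf J (Type u)).map (yoneda.map (s j))
          rw [← Functor.map_comp, ← Functor.map_comp, ← Functor.map_comp, ← Functor.map_comp, e])
    have hdisj : ∀ i j, i ≠ j → ∀ (V : C) (a : V ⟶ Y i) (b : V ⟶ Y j), a ≫ s i = b ≫ s j → (⊥ : Sieve V) ∈ J V :=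
      fun i j hij V a b e => by
        obtain ⟨hI⟩ := hinit i j hij V a b e
        refine J.superset_covering ?_ (mem_of_cov_eps_map (U := V) (V := fun k : PEmpty.{u + 1} => V) (fun k => k.elim)
          fun Z a b _ => hI.hom_ext a b)
        rintro W f ⟨_, _, _, ⟨k⟩, _⟩
        exact k.elim
    choose desc hdesc hu using existsUnique_of_disjoint hcov hmono hdisj
    let hc : IsColimit (Cofan.mk X s) := Cofan.IsColimit.mk _ (fun t => desc t.pt t.inj) (fun t i => hdesc t.pt t.inj i)
      (fun t m hm => hu t.pt t.inj m hm)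
    refine ⟨⟨hc⟩, ?_, ?_⟩
    · have : ∀ i, Mono ((Cofan.mk X s).inj i) := hmono
      refine CoproductDisjoint.of_cofan hc (fun {i j} _ => pullback.cone (s i) (s j)) (fun {i j} _ => pullback.isLimit (s i) (s j))
        fun {i j} hij => ?_
      have hb := hdisj i j hij (pullback (s i) (s j)) _ _ pullback.condition
      have hz : ∀ Z : C, ∃! m : pullback (s i) (s j) ⟶ Z, True := fun Z => by
        obtain ⟨m, -, hm⟩ := Sheaf.isSheaf_yoneda_obj Z _ hb (fun _ _ hf => False.elim hf)
          (fun _ _ _ _ _ _ _ h₁ => False.elim h₁)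
        exact ⟨m, trivial, fun m' _ => hm m' fun _ _ hf => False.elim hf⟩
      exact IsInitial.ofUniqueHom (fun Z => (hz Z).choose) fun Z m => (hz Z).choose_spec.2 m trivial
    · intro F' c' α f hw _ hpb
      have hcov' : Sieve.ofArrows (fun i : ι => F'.obj ⟨i⟩) (fun i => c'.ι.app ⟨i⟩) ∈ J c'.pt := by
        refine J.superset_covering (fun W g hg => ?_) (J.pullback_stable f hcov)
        obtain ⟨i, k, hk⟩ := mem_ofArrows.1 hg
        exact mem_ofArrows.2 ⟨i, (hpb ⟨i⟩).lift g k hk.symm, (hpb ⟨i⟩).lift_fst _ _ _⟩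
      have hmono' : ∀ i : ι, Mono (c'.ι.app ⟨i⟩) := fun i => ⟨fun a b e => by
        have := hmono i
        refine (hpb ⟨i⟩).hom_ext e ((cancel_mono (s i)).1 ?_)
        have w := (hpb ⟨i⟩).w
        change _ = α.app ⟨i⟩ ≫ s i at w
        rw [Category.assoc, Category.assoc, ← w, reassoc_of% e]⟩
      have hdisj' : ∀ i j : ι, i ≠ j → ∀ (V : C) (a : V ⟶ F'.obj ⟨i⟩) (b : V ⟶ F'.obj ⟨j⟩),
          a ≫ c'.ι.app ⟨i⟩ = b ≫ c'.ι.app ⟨j⟩ → (⊥ : Sieve V) ∈ J V := fun i j hij V a b e => by
        refine hdisj i j hij V (a ≫ α.app ⟨i⟩) (b ≫ α.app ⟨j⟩) ?_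
        have wi := (hpb ⟨i⟩).w; have wj := (hpb ⟨j⟩).w
        change _ = α.app ⟨i⟩ ≫ s i at wi
        change _ = α.app ⟨j⟩ ≫ s j at wj
        rw [Category.assoc, Category.assoc, ← wi, ← wj, reassoc_of% e]
      choose desc' hdesc' hu' using existsUnique_of_disjoint hcov' hmono' hdisj'
      exact ⟨{ desc := fun t => desc' t.pt fun i => t.ι.app ⟨i⟩
               fac := fun t j => hdesc' t.pt (fun i => t.ι.app ⟨i⟩) j.as
               uniq := fun t m hm => hu' t.pt (fun i => t.ι.app ⟨i⟩) m fun i => hm ⟨i⟩ }⟩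
  · rintro ⟨⟨hc⟩, hd, hu⟩
    have hmono : ∀ i, Mono (s i) := fun i => hd.mono_inj hc i
    have hpb : ∀ {W : C} (g : W ⟶ X), Nonempty (IsColimit (Cofan.mk W fun i => pullback.snd (s i) g)) := fun {W} g =>
      hu (Cofan.mk W fun i => pullback.snd (s i) g) (Discrete.natTrans fun i => pullback.fst (s i.as) g) g
        (by ext i; exact pullback.condition) (NatTrans.Equifibered.of_discrete _)
        (fun i => (IsPullback.of_hasPullback (s i.as) g).flip)
    have hcov : Sieve.ofArrows Y s ∈ J X := by
      refine Sheaf.mem_finestTopology_of_forall_isSheafFor ?_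
      rintro P ⟨Z, rfl⟩ W g
      obtain ⟨hW⟩ := hpb g
      have e : (Sieve.ofArrows Y s).pullback g = Sieve.ofArrows _ (fun i => pullback.snd (s i) g) := by
        ext V k
        constructor
        · intro hk
          obtain ⟨i, m, hm⟩ := mem_ofArrows.1 hk
          exact mem_ofArrows.2 ⟨i, pullback.lift m k hm, pullback.lift_snd _ _ _⟩
        · intro hk
          obtain ⟨i, m, rfl⟩ := mem_ofArrows.1 hk
          exact mem_ofArrows.2 ⟨i, m ≫ pullback.fst (s i) g, by simp [pullback.condition]⟩
      rw [e, Sieve.ofArrows, ← Presieve.isSheafFor_iff_generate, Presieve.isSheafFor_arrows_iff]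
      intro x _
      exact ⟨Cofan.IsColimit.desc hW x, fun i => Cofan.IsColimit.fac hW x i,
        fun t ht => Cofan.IsColimit.hom_ext hW _ _ fun i => (ht i).trans (Cofan.IsColimit.fac hW x i).symm⟩
    refine Groth.Agent.S6132.result J Y s hcov hmono fun i j hij => ?_
    obtain ⟨hI⟩ := hd.nonempty_isInitial_of_ne hc hij (pullback.cone (s i) (s j)) (pullback.isLimit (s i) (s j))
    refine Sheaf.mem_finestTopology_of_forall_isSheafFor ?_
    rintro P ⟨Z, rfl⟩ W f x _
    refine ⟨f ≫ hI.to Z, fun _ _ hf => False.elim hf, fun a _ => ?_⟩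
    change a = f ≫ hI.to Z
    generalize f ≫ hI.to Z = b
    classical
    let g : W ⟶ X := (f ≫ pullback.fst (s i) (s j)) ≫ s i
    obtain ⟨hW⟩ := hpb g
    have iso : ∀ (k : ι) (m : W ⟶ Y k), m ≫ s k = g → IsIso (pullback.snd (s k) g) := fun k m hm => by
      have := hmono k
      have : IsSplitEpi (pullback.snd (s k) g) := IsSplitEpi.mk' ⟨pullback.lift m (𝟙 W) (by simp [hm]), by simp⟩
      exact isIso_of_mono_of_isSplitEpi _
    have := iso i (f ≫ pullback.fst (s i) (s j)) rfl
    have := iso j (f ≫ pullback.snd (s i) (s j)) (by simp [g, pullback.condition])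
    let d : W ⟶ Z := Cofan.IsColimit.desc hW fun k => pullback.snd (s k) g ≫ if k = i then a else b
    have ha : d = a := (cancel_epi (pullback.snd (s i) g)).1
      ((Cofan.IsColimit.fac hW (fun k => pullback.snd (s k) g ≫ if k = i then a else b) i).trans (by simp))
    have hb : d = b := (cancel_epi (pullback.snd (s j) g)).1
      ((Cofan.IsColimit.fac hW (fun k => pullback.snd (s k) g ≫ if k = i then a else b) j).trans (by simp [Ne.symm hij]))
    exact ha.symm.trans hb

end Groth.Agent.S6143
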