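import Groth.Statements.S6144
import Mathlib.CategoryTheory.Limits.Shapes.Diagonal
import Mathlib.Logic.Small.Set

set_option autoImplicit false
open CategoryTheory CategoryTheory.Limits
universe w v u
open SGA4

namespace Groth.Agent.S6144

/-- Let `E` be a category with `v`-small hom-sets and pullbacks, admitting a detecting family of objects
indexed by a `v`-small type (maps out of the family jointly reflect isomorphisms). Then every
detecting family `Y : I → E`, indexed by an arbitrary type, contains a detecting subfamily indexed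
by a `v`-small subset of `I`. -/
theorem result
    {E : Type u} [Category.{v} E] [HasPullbacks E] {κ : Type v} (G : κ → E)
    (hG : (ObjectProperty.ofObj G).IsDetecting) {I : Type w} (Y : I → E)
    (hY : (ObjectProperty.ofObj Y).IsDetecting) :
    ∃ J : Set I, Small.{v} J ∧ (ObjectProperty.ofObj (fun j : J => Y j)).IsDetecting := by
  classical
  have : LocallySmall.{v} E := inferInstance
  have : WellPowered.{v} E := wellPowered_of_isDetecting hG
  let T : Type _ := Σ k, {X' : Subobject (G k) // X' ≠ ⊤}
  have hT : ∀ p : T, ∃ i, ∃ g : Y i ⟶ G p.1, ¬ p.2.1.Factors g := by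
    rintro ⟨k, X', hX'⟩
    by_contra hc
    push_neg at hc
    have : IsIso X'.arrow := hY _ fun A hA g => by
      obtain ⟨i⟩ := hA
      exact ⟨X'.factorThru g (hc i g), Subobject.factorThru_arrow _ _ _,
        fun h' hh => (cancel_mono X'.arrow).1 (hh.trans (Subobject.factorThru_arrow _ _ _).symm)⟩
    exact hX' (Subobject.eq_top_of_isIso_arrow X')
  choose i g hg using hT
  refine ⟨Set.range i, small_range i, fun X Z f hf => ?_⟩
  have hmem : ∀ p : T, ObjectProperty.ofObj (fun j : Set.range i => Y j) (Y (i p)) := fun p =>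
    ObjectProperty.ofObj_apply (fun j : Set.range i => Y j) ⟨i p, p, rfl⟩
  have hmono : ∀ {Q : E} {k : κ} (m : Q ⟶ G k) [Mono m],
      (∀ p : T, ∀ t : Y (i p) ⟶ G k, ∃ t', t' ≫ m = t) → IsIso m := by
    intro Q k m _ hm
    by_contra hni
    let p : T := ⟨k, Subobject.mk m, fun e => hni ((Subobject.isIso_iff_mk_eq_top m).2 e)⟩
    exact hg p ((Subobject.mk_factors_iff m (g p)).2 (hm p (g p)))
  have hu : ∀ {k : κ} (h₁ h₂ : G k ⟶ X), h₁ ≫ f = h₂ ≫ f → h₁ = h₂ := by
    intro k h₁ h₂ e
    have : IsIso (pullback.snd (pullback.diagonal f) (pullback.lift h₁ h₂ e)) := hmono _ fun p t => by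
      have et : t ≫ h₁ = t ≫ h₂ := (hf _ (hmem p) (t ≫ h₁ ≫ f)).unique (Category.assoc t h₁ f) (by rw [Category.assoc, e])
      exact ⟨pullback.lift (t ≫ h₁) t (pullback.hom_ext (by simp [pullback.lift_fst]) (by simp [et, pullback.lift_snd])), pullback.lift_snd _ _ _⟩
    have c := pullback.condition (f := pullback.diagonal f) (g := pullback.lift h₁ h₂ e)
    have c1 := congrArg (fun z => z ≫ pullback.fst f f) c
    have c2 := congrArg (fun z => z ≫ pullback.snd f f) c
    simp only [Category.assoc, pullback.diagonal_fst, pullback.diagonal_snd, pullback.lift_fst, pullback.lift_snd,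
      Category.comp_id] at c1 c2
    exact (cancel_epi (pullback.snd (pullback.diagonal f) (pullback.lift h₁ h₂ e))).1 (c1.symm.trans c2)
  have hdiag : IsIso (pullback.diagonal f) := hG _ fun A hA w => by
    obtain ⟨k⟩ := hA
    have e := hu (w ≫ pullback.fst f f) (w ≫ pullback.snd f f) (by simp [pullback.condition])
    exact ⟨w ≫ pullback.fst f f, pullback.hom_ext (by simp) (by simp [e]),
      fun h' hh => (cancel_mono (pullback.diagonal f)).1 (hh.trans (pullback.hom_ext (by simp) (by simp [e])))⟩
  have : Mono f := (pullback.isIso_diagonal_iff f).1 hdiag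
  refine hG _ fun A hA w => ?_
  obtain ⟨k⟩ := hA
  have : IsIso (pullback.snd f w) := hmono _ fun p t => by
    obtain ⟨t', ht', -⟩ := hf _ (hmem p) (t ≫ w)
    exact ⟨pullback.lift t' t ht', pullback.lift_snd _ _ _⟩
  exact ⟨inv (pullback.snd f w) ≫ pullback.fst f w, by simp [pullback.condition],
    fun h' hh => (cancel_mono f).1 (hh.trans (by simp [pullback.condition]))⟩

end Groth.Agent.S6144
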