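import Groth.Statements.S6159
import Groth.Agent.GiraudLib.SheafTopos
-- import your own Groth.Agent.* helpers here

set_option autoImplicit false
universe u
open CategoryTheory
open SGA4

namespace Groth.Agent.S6159

open CategoryTheory.Limits in
/-- Sheaf topoi on small sites (C, J), (D, K), each with its canonical topology: a functor f from
sheaves of sets on C to sheaves of sets on D commutes with all u-small colimits if and only if it is
continuous, i.e. composition with f carries every sheaf of sets for the canonical topology of the
target to a sheaf for the canonical topology of the source. (Continuity is Mathlib's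
`Functor.IsContinuous`: on these large sites it tests sheaves with values in the next universe,
`Type (u+1)`, which is the source's choice of a larger universe for the test sheaves; the hom
universe is u. The equivalence of both conditions with f being a left adjoint is a separate result,
not stated here.) -/
theorem result {C D : Type u} [SmallCategory C] [SmallCategory D]
    (J : GrothendieckTopology C) (K : GrothendieckTopology D) (f : Sheaf J (Type u) ⥤ Sheaf K (Type u)) :
    PreservesColimitsOfSize.{u, u} f ↔
      f.IsContinuous.{u} (Sheaf.canonicalTopology (Sheaf J (Type u))) (Sheaf.canonicalTopology (Sheaf K (Type u))) := by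
  let G := Groth.Agent.GiraudLib.sheafAxioms J
  let G' := Groth.Agent.GiraudLib.sheafAxioms K
  constructor
  · intro hf
    haveI := preservesLimitsOfSize_op f
    refine ⟨fun P => ?_⟩
    haveI := Groth.Agent.GiraudLib.Axioms.SmallGlue.preservesLimits
      ((Groth.Agent.GiraudLib.Axioms.smallGlue_iff_isSheaf (G := G')).2
        ((isSheaf_iff_isSheaf_of_type _ _).1 P.property))
    exact (Groth.Agent.GiraudLib.Axioms.smallGlue_iff_isSheaf (G := G)).1
      (Groth.Agent.GiraudLib.Axioms.smallGlue_of_preservesLimits (f.op ⋙ P.obj))
  · intro hf
    refine G.preservesColimits_of_smallGlue f fun Y => ?_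
    exact (Groth.Agent.GiraudLib.Axioms.smallGlue_iff_isSheaf (G := G)).2
      (f.op_comp_isSheaf_of_types (Sheaf.canonicalTopology (Sheaf J (Type u)))
        (Sheaf.canonicalTopology (Sheaf K (Type u)))
        (⟨yoneda.obj Y, (isSheaf_iff_isSheaf_of_type _ _).2 (Sheaf.isSheaf_yoneda_obj Y)⟩ :
          Sheaf (Sheaf.canonicalTopology (Sheaf K (Type u))) (Type u)))

end Groth.Agent.S6159
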