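import Groth.Statements.S6164
import Groth.Agent.SpSeqLib.SiteDerived
import Groth.Agent.SiteBase.FamilyCechApps
-- import your own Groth.Agent.* helpers here

set_option autoImplicit false
universe u
open CategoryTheory
open CohSite

namespace Groth.Agent.S6164

open CategoryTheory.Limits in
/-- Existence form of the spectral sequence of a covering; abelian sheaves on a small site with fibre
products: for a covering family (U_i -> X) and an abelian sheaf M there is a bounded E_2 spectral
sequence of abelian groups with E_2^{p,q} isomorphic to the Cech cohomology group H^p((U_i -> X),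
H^q(M)) of the family with coefficients in the presheaf V |-> H^q(V, M), for p, q >= 0 and zero
otherwise, with abutment data whose filtrations are finite on H^n(X, M) (n >= 0; zero for n < 0).
The E_2 identifications and abutment isomorphisms are asserted to exist only, not pinned to the
canonical maps, so edge maps are not part of this statement. -/
theorem result {C : Type u} [SmallCategory C] [HasPullbacks C]
    (J : GrothendieckTopology C) (M : Sheaf J AddCommGrpCat.{u}) {X : C} {ι : Type u} (Y : ι → Over X)
    (hY : Sieve.ofArrows (fun i => (Y i).left) (fun i => (Y i).hom) ∈ J X) :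
    ∃ (E : E₂CohomologicalSpectralSequence AddCommGrpCat.{u})
      (a : SpSeq.Abutment E (fun n : ℤ =>
        if 0 ≤ n then AddCommGrpCat.of (CohSite.HU M n.toNat X) else AddCommGrpCat.of PUnit.{u + 1})),
      (∀ n, a.IsFinite n) ∧ SpSeq.IsBounded E ∧
      ∀ p q : ℤ, Nonempty ((E.page 2 le_rfl).X (p, q) ≅
        (if 0 ≤ p ∧ 0 ≤ q then CohCx.cechH (M.cohomologyPresheaf q.toNat) Y p.toNat
         else AddCommGrpCat.of PUnit.{u + 1})) := by
  
  let R : Cᵒᵖ ⥤ Type u := (Sieve.ofArrows (fun i => (Y i).left) (fun i => (Y i).hom)).functor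
  let kX : (presheafToSheaf J (Type u)).obj R ≅ SiteBase.shYoneda J X :=
    haveI : IsIso ((presheafToSheaf J (Type u)).map
        (Sieve.ofArrows (fun i => (Y i).left) (fun i => (Y i).hom)).functorInclusion) :=
      haveI : Presheaf.IsLocallySurjective J
          (Sieve.ofArrows (fun i => (Y i).left) (fun i => (Y i).hom)).functorInclusion :=
        ⟨fun {V} (s : V ⟶ X) => J.superset_covering
          (fun W g hg => ⟨⟨g ≫ s, hg⟩, rfl⟩) (J.pullback_stable s hY)⟩
      haveI := Presheaf.isLocallyInjective_of_injective J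
        (Sieve.ofArrows (fun i => (Y i).left) (fun i => (Y i).hom)).functorInclusion
        (fun V a b h => Subtype.ext h)
      (J.W_iff _).1 (J.W_of_isLocallyBijective _)
    asIso ((presheafToSheaf J (Type u)).map
      (Sieve.ofArrows (fun i => (Y i).left) (fun i => (Y i).hom)).functorInclusion)
  let G : Sheaf (⊥ : GrothendieckTopology C) AddCommGrpCat.{u} :=
    (presheafToSheaf _ AddCommGrpCat.{u}).obj (R ⋙ AddCommGrpCat.free.{u})
  let G' : Sheaf J AddCommGrpCat.{u} :=
    (presheafToSheaf J AddCommGrpCat.{u}).obj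
      (((presheafToSheaf J (Type u)).obj R).obj ⋙ AddCommGrpCat.free.{u})
  haveI := CategoryTheory.isIso_toSheafify (⊥ : GrothendieckTopology C)
    (Presheaf.isSheaf_bot (R ⋙ AddCommGrpCat.free.{u}))
  haveI : (sheafToPresheaf (⊥ : GrothendieckTopology C) AddCommGrpCat.{u}).IsEquivalence :=
    (sheafBotEquivalence AddCommGrpCat.{u}).isEquivalence_functor
  let i₁ : (sheafToPresheaf _ _).obj G ≅ R ⋙ AddCommGrpCat.free.{u} :=
    (asIso (CategoryTheory.toSheafify (⊥ : GrothendieckTopology C) _)).symm
  let i₂ : (SiteBase.fromBot J).obj G ≅ G' :=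
    (presheafToSheaf J AddCommGrpCat.{u}).mapIso i₁ ≪≫
      ((presheafToSheafCompComposeAndSheafifyIso J AddCommGrpCat.free.{u}).app R).symm
  haveI : (SiteBase.fromBot J).Additive :=
    (SiteBase.fromBotAdj J).left_adjoint_additive
  let e : SiteBase.toBot J ⋙ preadditiveCoyoneda.obj (Opposite.op G) ≅
      preadditiveCoyoneda.obj (Opposite.op G') :=
    NatIso.ofComponents
      (fun F => AddEquiv.toAddCommGrpIso
        (((SiteBase.fromBotAdj J).homAddEquiv G F).symm.trans
          { toFun := fun f => i₂.inv ≫ f
            invFun := fun f => i₂.hom ≫ f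
            left_inv := fun f => i₂.hom_inv_id_assoc f
            right_inv := fun f => i₂.inv_hom_id_assoc f
            map_add' := fun _ _ => Preadditive.comp_add _ _ _ _ _ _ }))
      (fun {F F'} g => by
        ext f
        show i₂.inv ≫ ((SiteBase.fromBotAdj J).homEquiv G F').symm (f ≫ (SiteBase.toBot J).map g) =
          (i₂.inv ≫ ((SiteBase.fromBotAdj J).homEquiv G F).symm f) ≫ g
        rw [Adjunction.homEquiv_naturality_right_symm, Category.assoc])
  refine SpSeqLib.exists_grothendieck (SiteBase.toBot J) (preadditiveCoyoneda.obj (Opposite.op G))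
    (SpSeqLib.isAcyclicFor_of_preservesInjective _ _ fun I hI =>
      haveI := hI; SiteBase.injective_toBot J I) M
    (fun n => ?_) (fun n hn => ?_) (fun p q => ?_) (fun p q h => ?_)
  · obtain ⟨j⟩ := SpSeqLib.nonempty_rightDerived_iso_ext G' e M n
    let b := ((Abelian.extFunctor n).mapIso ((SiteBase.freeShFun J).mapIso kX).op).app M
    exact ⟨j ≪≫ b.symm ≪≫ (SiteBase.HKYonedaEquiv M n X).symm.toAddCommGrpIso ≪≫ eqToIso (by simp; rfl)⟩
  · rw [if_neg (by omega)]
    exact SpSeqLib.isZero_punit
  · let R' := injectiveResolution M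
    let k : ((SiteBase.toBot J).rightDerived q).obj M ≅
        ⟨M.cohomologyPresheaf q, Presheaf.isSheaf_bot _⟩ :=
      (fullyFaithfulSheafToPresheaf (⊥ : GrothendieckTopology C) AddCommGrpCat.{u}).preimageIso
        ((sheafToPresheaf _ _).mapIso (R'.isoRightDerivedObj (SiteBase.toBot J) q) ≪≫
          (((((SiteBase.toBot J).mapHomologicalComplex _).obj R'.cocomplex).sc q).mapHomologyIso
            (sheafToPresheaf _ _)).symm ≪≫
          SiteBase.homologyPresheafIso R' q)
    obtain ⟨j⟩ := SpSeqLib.nonempty_rightDerived_coyoneda_iso G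
      ((((SiteBase.toBot J).rightDerived q).obj M)) p
    obtain ⟨c⟩ := SiteBase.nonempty_cech_equiv_sieve Y (M.cohomologyPresheaf q) p
    exact ⟨j ≪≫ ((Abelian.extFunctor p).obj (Opposite.op G)).mapIso k ≪≫
      c.symm.toAddCommGrpIso ≪≫ eqToIso (by simp)⟩
  · rw [if_neg (by omega)]
    exact SpSeqLib.isZero_punit

end Groth.Agent.S6164
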