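import Groth.Statements.S6166
import Groth.Agent.SiteBase.PullbackAb
import Groth.Agent.SiteBase.Basic
import Mathlib.CategoryTheory.Sites.EpiMono

set_option autoImplicit false
universe u
open CategoryTheory CategoryTheory.Limits
open CohSite

namespace Groth.Agent.S6166

open CategoryTheory.Limits in
theorem shortExact_push {C D : Type u} [SmallCategory C] [SmallCategory D]
    (J : GrothendieckTopology C) (K : GrothendieckTopology D) (u : D ⥤ C) [u.IsContinuous K J]
    (S : ShortComplex (Sheaf J AddCommGrpCat.{u})) (hS : S.ShortExact)
    (hF : ∀ (U : C) (q : ℕ), Subsingleton (CohSite.HU S.X₁ (q + 1) U)) :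
    (S.map (CohSite.push J K u)).ShortExact := by
  haveI : (CohSite.push J K u).IsRightAdjoint := (u.sheafAdjunctionContinuous _ K J).isRightAdjoint
  haveI := hS.mono_f
  haveI : Epi (S.map (CohSite.push J K u)).g := by
    rw [← Sheaf.isLocallySurjective_iff_epi']
    exact Presheaf.isLocallySurjective_of_surjective K _
      (fun V => Groth.Agent.SiteBase.sections_surjective hS (u.obj V.unop) (hF _ 0))
  haveI : Mono (S.map (CohSite.push J K u)).f := inferInstanceAs (Mono ((CohSite.push J K u).map S.f))
  exact
    { exact := ShortComplex.exact_of_f_is_kernel _ (Limits.isLimitForkMapOfIsLimit' (CohSite.push J K u) _ hS.exact.fIsKernel) }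

/-- Let u : D -> C be a continuous functor between small sites with exact pullback on sheaves of sets (a
morphism of topoi), and take the topologically generating families to be all objects of C, resp. of
D, so that the inverse image of the second lies in the first. For an abelian sheaf F on C: if H^q(U,
F) = 0 for all objects U of C and all q > 0, then H^q(V, u_* F) = 0 for all objects V of D and all q
> 0, where u_* F = F o u. -/
theorem result {C D : Type u} [SmallCategory C] [SmallCategory D]
    (J : GrothendieckTopology C) (K : GrothendieckTopology D) (u : D ⥤ C) [u.IsContinuous K J]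
    [PreservesFiniteLimits (u.sheafPullback (Type u) K J)] (F : Sheaf J AddCommGrpCat.{u})
    (hF : ∀ (U : C) (q : ℕ), Subsingleton (CohSite.HU F (q + 1) U)) (V : D) (q : ℕ) :
    Subsingleton (CohSite.HU ((CohSite.push J K u).obj F) (q + 1) V) := by
  induction q generalizing F with
  | zero =>
    obtain ⟨S, hS, hF₁, hI⟩ := Groth.Agent.SiteBase.exists_injective_presentation F
    subst hF₁
    haveI := hI
    haveI : Injective (S.map (CohSite.push J K u)).X₂ := Groth.Agent.SiteBase.injective_push J K u S.X₂
    refine Groth.Agent.SiteBase.subsingleton_one (shortExact_push J K u S hS hF) V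
      (Groth.Agent.SiteBase.subsingleton_of_injective V _ 0) ?_
    exact Groth.Agent.SiteBase.sections_surjective hS (u.obj V) (hF _ 0)
  | succ q ih =>
    obtain ⟨S, hS, hF₁, hI⟩ := Groth.Agent.SiteBase.exists_injective_presentation F
    subst hF₁
    haveI := hI
    haveI : Injective (S.map (CohSite.push J K u)).X₂ := Groth.Agent.SiteBase.injective_push J K u S.X₂
    refine Groth.Agent.SiteBase.subsingleton_shift (shortExact_push J K u S hS hF) V (q + 1)
      (Groth.Agent.SiteBase.subsingleton_of_injective V _ (q + 1)) (ih S.X₃ fun U p => ?_)
    exact Groth.Agent.SiteBase.subsingleton_quot hS U (p + 1)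
      (Groth.Agent.SiteBase.subsingleton_of_injective U _ p) (hF U (p + 1))

end Groth.Agent.S6166
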