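import Groth.Statements.S6167
import Groth.Agent.FPLocal.FlatFactor
-- import your own Groth.Agent.* helpers here

set_option autoImplicit false
universe u
open CategoryTheory
open ModSite

namespace Groth.Agent.S6167

/-- Ringed site (C, O), small, with commutative structure sheaf: a morphism from an O-module of finite
presentation (Mathlib's notion: over some family of objects covering every object, a cokernel of a
map of finite free modules) to a flat O-module factors, locally on the site, through a finite free
module: for every object X there is a covering family (Y_i -> X) and for each i a factorisation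
F|Y_i -> (O|Y_i)^n -> H|Y_i of the restricted morphism. -/
theorem result {C : Type u} [SmallCategory C] {J : GrothendieckTopology C}
    (O : Sheaf J CommRingCat.{u}) (F H : ModSite.Mod O) [F.IsFinitePresentation] (hH : ModSite.IsFlat H)
    (φ : F ⟶ H) (X : C) :
    ∃ (ι : Type u) (Y : ι → C) (g : ∀ i, Y i ⟶ X), Sieve.ofArrows Y g ∈ J X ∧
      ∀ i, ∃ (n : ℕ) (a : (ModSite.restr O (Y i)).obj F ⟶ SheafOfModules.free (ULift.{u} (Fin n)))
        (b : SheafOfModules.free (ULift.{u} (Fin n)) ⟶ (ModSite.restr O (Y i)).obj H),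
        a ≫ b = (ModSite.restr O (Y i)).map φ := by
  obtain ⟨q, hq⟩ := SheafOfModules.IsFinitePresentation.exists_quasicoherentData F
  have key : ∀ ⦃V : C⦄ (g : V ⟶ X), (Sieve.ofObjects q.X X).arrows g →
      ∃ T ∈ J V, ∀ ⦃W : C⦄ (k : W ⟶ V), T.arrows k →
        ∃ (n : ℕ) (a : (ModSite.restr O W).obj F ⟶ SheafOfModules.free (ULift.{u} (Fin n)))
          (b : SheafOfModules.free (ULift.{u} (Fin n)) ⟶ (ModSite.restr O W).obj H),
          a ≫ b = (ModSite.restr O W).map φ := fun V g hg => by
    obtain ⟨i, ⟨f⟩⟩ := (Sieve.mem_ofObjects_iff ..).mp hg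
    exact @FPLocal.exists_sieve_factor _ _ _ O _ _ hH φ _ _ f (q.presentation i)
      (hq.isFinite_presentation i)
  choose T hT hQ using key
  have hS := J.bind_covering (q.coversTop X) fun V g hg => hT g hg
  refine ⟨Σ W : C, {g : W ⟶ X // (Sieve.bind (Sieve.ofObjects q.X X).arrows T).arrows g},
    fun p => p.1, fun p => p.2.1, J.superset_covering (fun W g hg => ?_) hS, fun p => ?_⟩
  · exact (Sieve.mem_ofArrows_iff ..).mpr ⟨⟨W, g, hg⟩, 𝟙 W, (Category.id_comp g).symm⟩
  · obtain ⟨W, g, V, k, g', hg', hk, -⟩ := p
    exact hQ g' hg' k hk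

end Groth.Agent.S6167
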