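import Groth.Statements.S6170
import Groth.Agent.SiteBase.Projection
-- import your own Groth.Agent.* helpers here

set_option autoImplicit false
universe u
open CategoryTheory
open ModSite

namespace Groth.Agent.S6170

/-- Ringed topos of sheaves on a small site with commutative structure sheaf O: the sections of the
internal hom Hom_O(M, N) over an object X form a group isomorphic to Hom_{O|X}(j_X^* M, j_X^* N).
Existence of an additive isomorphism only (the source's is canonical); the internal-hom binder
always holds. -/
theorem result {C : Type u} [SmallCategory C] {J : GrothendieckTopology C} (O : Sheaf J CommRingCat.{u})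
    (M N : ModSite.Mod O) [ModSite.HasSheafHom M] (X : C) :
    Nonempty (ModSite.sect ((ModSite.sheafHom M).obj N) X ≃+ ((ModSite.restr O X).obj M ⟶ (ModSite.restr O X).obj N)) := by
  let e₀ : (ModSite.freeOn O X ⟶ (ModSite.sheafHom M).obj N) ≃+
      ((ModSite.restr O X).obj M ⟶ (ModSite.restr O X).obj N) :=
    { toEquiv := ((ModSite.sheafHomAdj M).homEquiv (ModSite.freeOn O X) N).symm.trans
        ((Iso.homFromEquiv (Groth.Agent.SiteBase.ExtZeroPre.freeOnTensorIso O X M)).trans
          ((ModSite.extZeroAdj O X).homEquiv _ N))
      map_add' := fun a b => by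
        haveI : ((ModSite.tensorBi O).flip.obj M).Additive :=
          Groth.Agent.ModTensor.additive_tensorBi_flip O M
        simp only [Equiv.toFun_as_coe, Equiv.trans_apply, Iso.homFromEquiv_apply,
          Adjunction.homEquiv_counit, Adjunction.homEquiv_unit, Functor.map_add,
          Preadditive.add_comp, Preadditive.comp_add] }
  let e₁ : (ModSite.freeOn O X ⟶ (ModSite.sheafHom M).obj N) ≃+
      ModSite.sect ((ModSite.sheafHom M).obj N) X :=
    { toEquiv := Groth.Agent.SiteBase.FreeOn.freeOnEquiv O X _
      map_add' := fun a b => by
        show Groth.Agent.SiteBase.FreeOn.freeOnEquiv O X _ (a + b) = _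
        simp only [Groth.Agent.SiteBase.FreeOn.freeOnEquiv, Equiv.trans_apply,
          Adjunction.homEquiv_unit, Functor.map_add, Preadditive.comp_add]
        rfl }
  exact ⟨e₁.symm.trans e₀⟩

end Groth.Agent.S6170
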