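import Groth.Statements.S6173
import Mathlib.CategoryTheory.Sites.Point.Map
import Mathlib.CategoryTheory.Sites.Point.Conservative
import Mathlib.CategoryTheory.Sites.LocallyBijective
import Mathlib.CategoryTheory.Sites.CoversTop.Basic

set_option autoImplicit false
universe u
open CategoryTheory
open SGA4

namespace Groth.Agent.S6173

set_option backward.isDefEq.respectTransparency false
set_option backward.isDefEq.respectTransparency.types false
open Opposite Limits

/-- Second assertion (topos of sheaves on a small site (C, J); E/X_i the induced topoi, modelled by the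
sites (C/X_i, J/X_i); 'enough points' = a small conservative family of points, equivalently all
fibre functors together are conservative): if (X_i) is a family of objects covering the final object
and every E/X_i has enough points, then E has enough points. (The first assertion, that E/X inherits
enough points from E, is Mathlib's instance.) -/
theorem result {C : Type u} [SmallCategory C] (J : GrothendieckTopology C) {ι : Type u}
    (X : ι → C) (hX : J.CoversTop X) (h : ∀ i, GrothendieckTopology.HasEnoughPoints.{u} (J.over (X i))) :
    GrothendieckTopology.HasEnoughPoints.{u} J := by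
  choose P hsmall hP using fun i => (h i).exists_objectProperty
  have := hsmall
  let F : ∀ i, Over (X i) ⥤ C := fun i => Over.forget (X i)
  let Q : ObjectProperty (GrothendieckTopology.Point.{u} J) :=
    ObjectProperty.ofObj (fun ψ : Σ i, (P i).FullSubcategory => ψ.2.obj.map (F ψ.1) J)
  refine ⟨⟨Q, inferInstance, ⟨⟨fun {G H} f hf => ?_⟩⟩⟩⟩
  have hiso : ∀ i, IsIso (((F i).sheafPushforwardContinuous (Type u) (J.over (X i)) J).map f) := fun i => by
    rw [(hP i).jointlyReflectIsomorphisms_type.isIso_iff]
    intro Φ
    have := hf ⟨_, ⟨(⟨i, Φ⟩ : Σ i, (P i).FullSubcategory)⟩⟩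
    exact ((MorphismProperty.isomorphisms (Type u)).arrow_mk_iso_iff
      (((Functor.mapArrowFunctor _ _).mapIso (Φ.obj.sheafFiberMapIso (A := Type u) (F i) J)).app (Arrow.mk f))).1 this
  have hbij : ∀ (i : ι) (W : C) (_ : W ⟶ X i), Function.Bijective (f.hom.app (op W)) := fun i W a => by
    have := hiso i
    exact (isIso_iff_bijective _).1 (inferInstance : IsIso
      (((sheafToPresheaf (J.over (X i)) (Type u)).map (((F i).sheafPushforwardContinuous (Type u) (J.over (X i)) J).map f)).app
        (op (Over.mk a))))
  have hinj : Sheaf.IsLocallyInjective f := ⟨fun {W} x y e => by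
    refine J.superset_covering (fun V g hg => ?_) (hX W.unop)
    obtain ⟨i, ⟨a⟩⟩ := hg
    refine (hbij i V a).1 ?_
    rw [NatTrans.naturality_apply, NatTrans.naturality_apply, e]⟩
  have hsurj : Sheaf.IsLocallySurjective f := ⟨fun {W} z => by
    refine J.superset_covering (fun V g hg => ?_) (hX W)
    obtain ⟨i, ⟨a⟩⟩ := hg
    exact (hbij i V a).2 _⟩
  exact (Sheaf.isLocallyBijective_iff_isIso f).1 ⟨hinj, hsurj⟩

end Groth.Agent.S6173
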