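import Groth.Statements.S6176
import Groth.Agent.ToposLib.Open
-- import your own Groth.Agent.* helpers here

set_option autoImplicit false
universe u
open CategoryTheory
open SGA4

namespace Groth.Agent.S6176

open CategoryTheory.Limits in
/-- The clause on products (topos of sheaves of sets on a small site; j : E/U -> E the open embedding
defined by an open U, i.e. a subobject of the final object, so that j_! is the forgetful functor
from objects over U): j_! commutes with products indexed by a nonempty u-small set. (Commutation
with fibre products and cofiltered limits, the other clauses, holds for the forgetful functor of any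
slice.) -/
theorem result {C : Type u} [SmallCategory C] (J : GrothendieckTopology C)
    (U : Sheaf J (Type u)) (hU : SGA4.IsOpen U) (I : Type u) [Nonempty I] :
    PreservesLimitsOfShape (Discrete I) (Over.forget U) := by
  refine ⟨fun {D} => ⟨fun {c} hc => ⟨?_⟩⟩⟩
  let i₀ : Discrete I := ⟨Classical.arbitrary I⟩
  have key : ∀ s : Cone (D ⋙ Over.forget U), ∃ l : s.pt ⟶ c.pt.left,
      (∀ j, l ≫ (c.π.app j).left = s.π.app j) ∧
        ∀ l' : s.pt ⟶ c.pt.left, (∀ j, l' ≫ (c.π.app j).left = s.π.app j) → l' = l := by
    intro s
    let S : Cone D :=
      { pt := Over.mk (s.π.app i₀ ≫ (D.obj i₀).hom)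
        π :=
          { app := fun j => Over.homMk (s.π.app j) (Groth.Agent.ToposLib.open_hom_ext hU _ _)
            naturality := fun j j' f => by
              obtain rfl : j = j' := Discrete.ext (Discrete.eq_of_hom f)
              have hf : f = 𝟙 j := Subsingleton.elim _ _
              subst hf
              simp } }
    refine ⟨(hc.lift S).left, fun j => congrArg CommaMorphism.left (hc.fac S j), fun l' hl' => ?_⟩
    exact congrArg CommaMorphism.left (hc.uniq S
      (Over.homMk l' (Groth.Agent.ToposLib.open_hom_ext hU _ _)) fun j => Over.OverMorphism.ext (hl' j))
  exact
    { lift := fun s => (key s).choose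
      fac := fun s j => (key s).choose_spec.1 j
      uniq := fun s m hm => (key s).choose_spec.2 m hm }

end Groth.Agent.S6176
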