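import Groth.Statements.S6181
import Groth.Agent.EtPtsLib.FiniteStalk
-- import your own Groth.Agent.* helpers here

set_option autoImplicit false
open CategoryTheory CategoryTheory.Limits AlgebraicGeometry Opposite
set_option backward.isDefEq.respectTransparency false
universe u
open EtDesc

namespace Groth.Agent.S6181

/-- Let f : X -> Y be a finite morphism of schemes, Ω an algebraically closed field and η : Spec Ω -> Y
a geometric point. The functor F ↦ (f_* F)_η on etale sheaves of sets on X is isomorphic to the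
product, over the geometric points ξ : Spec Ω -> X lying over η, of the fibre functors F ↦ F_ξ. (The
published statement gives a canonical isomorphism and indexes the product by the points of the
geometric fibre over a separable closure of the residue field; this row asserts only that an
isomorphism of functors exists and indexes the product by the Ω-valued points of X over η, which for
Ω algebraically closed correspond to those points.) -/
theorem result {X Y : Scheme.{u}} (f : X ⟶ Y) [IsFinite f]
    {Ω : Type u} [Field Ω] [IsAlgClosed Ω] (η : Spec (CommRingCat.of Ω) ⟶ Y) :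
    Nonempty (EtDesc.pushSh f ⋙ (Scheme.pointSmallEtale η).sheafFiber (A := Type (u + 1)) ≅
      ∏ᶜ fun ξ : {ξ : Spec (CommRingCat.of Ω) ⟶ X // ξ ≫ f = η} =>
        ((Scheme.pointSmallEtale ξ.1).sheafFiber (A := Type (u + 1)) : EtDesc.Sh X ⥤ Type (u + 1))) := by
  haveI : Finite {ξ : Spec (CommRingCat.of Ω) ⟶ X // ξ ≫ f = η} := EtPtsLib.finite_gpts f η
  haveI hp : ∀ F : EtDesc.Sh X, IsIso (EtPtsLib.fibreProd f η F.obj) := fun F =>
    ConcreteCategory.isIso_iff_bijective _ |>.2 (EtPtsLib.bijective_fibreProd f η F.obj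
      ((isSheaf_iff_isSheaf_of_type _ _).1 ((sheafCompose X.smallEtaleTopology (forget (Type (u + 1)))).obj F).2))
  refine ⟨NatIso.ofComponents (fun F => (asIso (EtPtsLib.fibreProd f η F.obj)) ≪≫ (piObjIso (fun ξ : {ξ : Spec (CommRingCat.of Ω) ⟶ X // ξ ≫ f = η} => ((Scheme.pointSmallEtale ξ.1).sheafFiber (A := Type (u + 1)) : EtDesc.Sh X ⥤ Type (u + 1))) F).symm) fun {F G} a => ?_⟩
  have key : (Scheme.pointSmallEtale η).presheafFiber.map (Functor.whiskerLeft (EtCoh.bc f).op a.hom) ≫
      EtPtsLib.fibreProd f η G.obj = EtPtsLib.fibreProd f η F.obj ≫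
        Limits.Pi.map fun ξ : EtaleSplit.GPts f η => (Scheme.pointSmallEtale ξ.1).presheafFiber.map a.hom := by
    refine Pi.hom_ext _ _ fun ξ => ?_
    simp only [EtPtsLib.fibreProd, Category.assoc, Pi.lift_π, Limits.Pi.map_π, Pi.lift_π_assoc]
    refine (Scheme.pointSmallEtale η).presheafFiber_hom_ext fun U l => ?_
    rw [GrothendieckTopology.Point.toPresheafFiber_naturality_assoc, EtPtsLib.toPresheafFiber_pushStalkAt,
      ← Category.assoc, EtPtsLib.toPresheafFiber_pushStalkAt, GrothendieckTopology.Point.toPresheafFiber_naturality]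
    rfl
  rw [Iso.trans_hom, asIso_hom, Iso.trans_hom, asIso_hom, Iso.symm_hom, Iso.symm_hom]
  erw [reassoc_of% key]
  rw [Category.assoc]
  congr 1
  rw [Iso.comp_inv_eq, Category.assoc, Iso.eq_inv_comp]
  refine Pi.hom_ext _ _ fun ξ => ?_
  simp
  erw [piObjIso_hom_comp_π_assoc, piObjIso_hom_comp_π]
  exact ((Pi.π (fun ξ : {ξ : Spec (CommRingCat.of Ω) ⟶ X // ξ ≫ f = η} =>
    ((Scheme.pointSmallEtale ξ.1).sheafFiber (A := Type (u + 1)) : EtDesc.Sh X ⥤ Type (u + 1))) ξ).naturality a).symm

end Groth.Agent.S6181
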