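import Groth.Statements.S6182
import Groth.Agent.ToposFinLib.Alg

set_option autoImplicit false
open CategoryTheory CategoryTheory.Limits Opposite
universe u
open ToposFin

namespace Groth.Agent.S6182

set_option backward.isDefEq.respectTransparency false
set_option backward.isDefEq.respectTransparency.types false
open Groth.Agent.ToposFinLib

/-- Let (C, J) and (D, K) be small sites with fibre products in which every object is quasi-compact, and
G : C -> D a continuous functor whose inverse-image functor on sheaves of sets f^* (the sheaf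
pullback along G, from sheaves on C to sheaves on D) preserves finite limits, so that G is a
morphism of sites and f a morphism of topoi. Then f is coherent: f^* sends quasi-compact objects to
quasi-compact objects and quasi-separated objects to quasi-separated objects. -/
theorem result {C D : Type u} [SmallCategory C] [SmallCategory D]
    [HasPullbacks C] [HasPullbacks D] (J : GrothendieckTopology C) (K : GrothendieckTopology D)
    (hC : ∀ X : C, ToposFin.IsQCSite J X) (hD : ∀ Y : D, ToposFin.IsQCSite K Y)
    (G : C ⥤ D) [Functor.IsContinuous G J K] [PreservesFiniteLimits (G.sheafPullback (Type u) J K)] :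
    (∀ X : ToposFin.Sh J, ToposFin.IsQC X → ToposFin.IsQC ((G.sheafPullback (Type u) J K).obj X)) ∧
      (∀ X : ToposFin.Sh J, ToposFin.IsQS X → ToposFin.IsQS ((G.sheafPullback (Type u) J K).obj X)) := by
  let adj := G.sheafAdjunctionContinuous (Type u) J K
  let R := G.sheafPushforwardContinuous (Type u) J K
  let ev : ∀ X : C, ToposFin.Sh K ⥤ Type u := fun X =>
    sheafToPresheaf K (Type u) ⋙ (evaluation Dᵒᵖ (Type u)).obj (op (G.obj X))
  have iso : ∀ X : C, Nonempty (eps K (G.obj X) ≅ (G.sheafPullback (Type u) J K).obj (eps J X)) := fun X =>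
    ⟨Functor.CorepresentableBy.uniqueUpToIso (F := ev X)
      { homEquiv := (el (U := G.obj X)).symm
        homEquiv_comp := fun g f => by
          obtain ⟨x, rfl⟩ := el.surjective f
          rw [el_comp]
          exact (Equiv.symm_apply_apply _ _).trans (congrArg _ (Equiv.symm_apply_apply _ _).symm) }
      { homEquiv := fun {Z} => (adj.homEquiv (eps J X) Z).trans (el (X := R.obj Z) (U := X)).symm
        homEquiv_comp := fun {Z Z'} g f => by
          simp only [Equiv.trans_apply]
          rw [adj.homEquiv_naturality_right]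
          obtain ⟨x, hx⟩ := el.surjective (adj.homEquiv (eps J X) Z f)
          rw [← hx, el_comp]
          exact (Equiv.symm_apply_apply _ _).trans (congrArg _ (Equiv.symm_apply_apply _ _).symm) }⟩
  have hcoh : ∀ A : ToposFin.Sh J, (∃ X, A = eps J X) → IsCoherent ((G.sheafPullback (Type u) J K).obj A) := by
    rintro _ ⟨X, rfl⟩
    exact isCoherent_of_iso (iso X).some (isCoherent_eps hD _)
  have hgen : ∀ X : ToposFin.Sh J, ∃ (ι : Type u) (F : ι → ToposFin.Sh J) (π : ∀ i, F i ⟶ X),
      (∀ i, ∃ U, F i = eps J U) ∧ Cov π := gen_eps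
  have hE' : HasQCGenerators K :=
    hasQCGenerators_of_gen (P := fun A => ∃ U, A = eps K U) (fun _ ⟨_, e⟩ => e ▸ isQC_eps (hD _)) gen_eps
  have hqc : ∀ X : ToposFin.Sh J, IsQC X → IsQC ((G.sheafPullback (Type u) J K).obj X) := fun X hX => by
    obtain ⟨κ, _, W, w, hW, hw⟩ := exists_cover_of_finite (P := fun A => ∃ U, A = eps J U) hgen hX
    exact isQC_of_finite_cov (cov_map_of_adj adj hw) fun k => (hcoh _ (hW k)).1
  refine ⟨hqc, fun X hX => ?_⟩
  obtain ⟨ι, F, π, hF, hπ⟩ := hgen X
  refine isQS_of_cov (cov_map_of_adj adj hπ) (fun i => (hcoh _ (hF i)).2) fun i => ?_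
  refine isQCHom_of_cov hE' _ (cov_map_of_adj adj hπ) fun j => isQCHom_of_isQS _ ?_ (hcoh _ (hF j)).2
  refine isQC_of_iso ((IsPullback.of_hasPullback (π i) (π j)).map (G.sheafPullback (Type u) J K)).isoPullback
    (hqc _ ?_)
  obtain ⟨U, hU⟩ := hF i
  obtain ⟨V, hV⟩ := hF j
  exact hX _ _ (π i) (π j) (hU ▸ isQC_eps (hC U)) (hV ▸ isQC_eps (hC V))

end Groth.Agent.S6182
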