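import Groth.Statements.S6185
import Groth.Agent.BigSiteLib.Basic
import Groth.Prelude.Def_EtCore

set_option autoImplicit false
open CategoryTheory CategoryTheory.Limits AlgebraicGeometry Opposite
universe u
open BigSite

namespace Groth.Agent.S6185

/-- For a scheme X and an abelian sheaf F on the big etale site of X, the cohomology groups H^p(X_et,
F|) of the restriction of F to the small etale site and H^p of F on the big etale site are
isomorphic for every p. Existence of an additive isomorphism only (the published statement asserts
that the canonical comparison homomorphism is an isomorphism; that map is not named here). -/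
theorem result (X : Scheme.{u})
    (F : BigSite.Ab Scheme.etalePrecoverage X) (p : ℕ) :
    Nonempty (EtCoh.H X ((BigSite.resEt Scheme.etalePrecoverage X).obj F) p ≃+
      BigSite.H Scheme.etalePrecoverage X F p) := by
  haveI := Groth.Agent.BigSiteLib.preservesFiniteColimits_resEt Scheme.etalePrecoverage X
  haveI := Groth.Agent.BigSiteLib.preservesMonomorphisms_piEtPull Scheme.etalePrecoverage X
  haveI : PreservesFiniteLimits (EtFppf.a X) := inferInstanceAs (PreservesFiniteLimits (Scheme.Etale.forget X))
  exact Groth.Agent.BigSiteLib.nonempty_H_pushforward_equiv (EtFppf.a X)
    (BigSite.piEtAdj Scheme.etalePrecoverage X) (EtCore.topIsTerminal X) Over.mkIdTerminal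
    (IsTerminal.uniqueUpToIso (IsTerminal.isTerminalObj (EtFppf.a X) _ (EtCore.topIsTerminal X)) Over.mkIdTerminal)
    F p

end Groth.Agent.S6185
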