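import Groth.Statements.S6194
import Groth.Agent.DerSchH7.PerfPoint
-- import your own Groth.Agent.* helpers here

set_option autoImplicit false
set_option backward.isDefEq.respectTransparency false
universe u
open CategoryTheory CategoryTheory.Limits AlgebraicGeometry
attribute [local instance] HasDerivedCategory.standard
open KSix

namespace Groth.Agent.S6194

/-- Let X be a scheme such that, at every point x, every module over the local ring of X at x has finite
tor dimension (for instance a regular scheme), and let E ∈ D(O_X), given by a cochain complex F,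
have bounded cohomology. Then E is pseudo-coherent if and only if E is perfect. (The published
statement is for a ringed topos with enough points; this row is the case of schemes.) -/
theorem result {X : Scheme.{u}}
    (hX : ∀ (x : X) (M : Type u) [AddCommGroup M] [Module (X.presheaf.stalk x) M], DRing.HasFiniteTorDim (X.presheaf.stalk x) M)
    (F : CochainComplex X.Modules ℤ) (c d : ℤ) [(DCoh.toD X F).IsGE c] [(DCoh.toD X F).IsLE d] :
    (∀ m : ℤ, DCoh.IsPseudoCoherentD m (DCoh.toD X F)) ↔ DCoh.IsPerfect (DCoh.toD X F) := by
  refine ⟨fun hpc => ?_, fun h m => ((DCohLib.isPerfect_iff_pc _).1 h).1 m⟩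
  refine DCohLib.isPerfect_of_local fun x => ?_
  haveI : F.IsGE c := (DerivedCategory.isGE_Q_obj_iff F c).1 inferInstance
  haveI : F.IsLE d := (DerivedCategory.isLE_Q_obj_iff F d).1 inferInstance
  let G := ((DerSch.stalkFunctor X x).mapHomologicalComplex (ComplexShape.up ℤ)).obj F
  have hb : ∀ i : ℤ, i < c ∨ d < i → Subsingleton (Dual.HD (X.presheaf.stalk x) (DRing.toD G) i) := by
    intro i hi
    have h0 : IsZero (F.homology i) := (HomologicalComplex.exactAt_iff_isZero_homology _ _).1
      (hi.elim ((CochainComplex.isGE_iff F c).1 inferInstance i) ((CochainComplex.isLE_iff F d).1 inferInstance i))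
    exact ModuleCat.subsingleton_of_isZero (((DerSch.stalkFunctor X x).map_isZero h0).of_iso
      ((DerivedCategory.homologyFunctorFactors _ i).app G ≪≫
        (F.sc i).mapHomologyIso (DerSch.stalkFunctor X x)))
  obtain ⟨a₀, b, hamp⟩ := (DRingLib.hasFiniteTorDimCx_iff_bounded (hX x) (DRing.toD G)).2 ⟨c, d, hb⟩
  haveI : F.IsGE (min a₀ c) := F.isGE_of_ge (min a₀ c) c (min_le_right _ _)
  obtain ⟨U, j, hj, y, hy, hP⟩ := DerSchH7.exists_perfOn_nhd (a := min a₀ c) (b := b) x (hpc _)
    (DRingLib.hasTorAmplitudeIn_mono (min_le_left _ _) le_rfl hamp)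
  exact ⟨U, j, hj, y, hy, hP⟩

end Groth.Agent.S6194
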