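import Groth.Statements.S6195
import Groth.Agent.RelPCLib.StalkIso

set_option autoImplicit false
set_option backward.isDefEq.respectTransparency false
set_option maxHeartbeats 1000000
universe u
open CategoryTheory CategoryTheory.Limits AlgebraicGeometry
attribute [local instance] HasDerivedCategory.standard
open KSix

namespace Groth.Agent.S6195

open Groth.Agent.DRingLib Groth.Agent.DCohLib Groth.Agent.DerSchH7 Groth.Agent.RelPCLib

/-- Isomorphic stalk objects stay isomorphic after restriction to an open neighbourhood. -/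
theorem nonempty_stalk_restrict_iso {Z X : Scheme.{u}} (j : Z ⟶ X) [IsOpenImmersion j] (z : Z)
    {E F : CochainComplex X.Modules ℤ}
    (e : Nonempty (DRing.toD (((stkF (j.base z)).mapHomologicalComplex (ComplexShape.up ℤ)).obj E) ≅
      DRing.toD (((stkF (j.base z)).mapHomologicalComplex (ComplexShape.up ℤ)).obj F))) :
    Nonempty (DRing.toD (((stkF z).mapHomologicalComplex (ComplexShape.up ℤ)).obj ((resCx j).obj E)) ≅
      DRing.toD (((stkF z).mapHomologicalComplex (ComplexShape.up ℤ)).obj ((resCx j).obj F))) := by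
  obtain ⟨e⟩ := e
  let φ := (j.stalkMap z).hom
  let ψ := (inv (j.stalkMap z)).hom
  have hψ : RingHom.id _ = φ.comp ψ := (congrArg CommRingCat.Hom.hom (IsIso.inv_hom_id (j.stalkMap z))).symm
  let η : ModuleCat.restrictScalars.{u} φ ⋙ ModuleCat.restrictScalars.{u} ψ ≅ 𝟭 _ :=
    (ModuleCat.restrictScalarsComp' ψ φ _ hψ).symm ≪≫ ModuleCat.restrictScalarsId' _ rfl
  let ηc : ∀ M : CochainComplex (ModuleCat.{u} (Z.presheaf.stalk z)) ℤ,
      (DTen.resCx ψ).obj ((DTen.resCx φ).obj M) ≅ M :=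
    fun M => HomologicalComplex.Hom.isoOfComponents (fun q => η.app (M.X q))
      (fun i j _ => (η.hom.naturality (M.d i j)).symm)
  let t : ∀ K : CochainComplex X.Modules ℤ,
      DRing.toD (((stkF z).mapHomologicalComplex (ComplexShape.up ℤ)).obj ((resCx j).obj K)) ≅
        (DRing.restrictD ψ).obj (DRing.toD (((stkF (j.base z)).mapHomologicalComplex (ComplexShape.up ℤ)).obj K)) :=
    fun K => DerivedCategory.Q.mapIso
        ((ηc (((stkF z).mapHomologicalComplex (ComplexShape.up ℤ)).obj ((resCx j).obj K))).symm ≪≫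
          (DTen.resCx ψ).mapIso ((stalkCxOverResIso j z ((resCx j).obj K)).symm ≪≫ restrictStalkCxIso j z K)) ≪≫
      ((DTen.resFactors ψ).app _).symm
  exact ⟨t E ≪≫ (DRing.restrictD ψ).mapIso e ≪≫ (t F).symm⟩

/-- Let X be a scheme, x ∈ X, and E, F cochain complexes of O_X-modules whose images in D(O_X) have
bounded cohomology and are pseudo-coherent. If the complexes of stalks E_x and F_x are isomorphic in
the derived category of the local ring of X at x, then x has an open neighbourhood U over which the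
restrictions of E and F become isomorphic in D(O_U). (The published statement is for a point of a
ringed topos; this row is the case of schemes.) -/
theorem result {X : Scheme.{u}} (x : X)
    (E F : CochainComplex X.Modules ℤ) (c d : ℤ) [(DCoh.toD X E).IsGE c] [(DCoh.toD X E).IsLE d]
    [(DCoh.toD X F).IsGE c] [(DCoh.toD X F).IsLE d]
    (hE : ∀ m : ℤ, DCoh.IsPseudoCoherentD m (DCoh.toD X E)) (hF : ∀ m : ℤ, DCoh.IsPseudoCoherentD m (DCoh.toD X F))
    (hx : Nonempty (DRing.toD (((DerSch.stalkFunctor X x).mapHomologicalComplex (ComplexShape.up ℤ)).obj E) ≅ DRing.toD (((DerSch.stalkFunctor X x).mapHomologicalComplex (ComplexShape.up ℤ)).obj F))) :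
    ∃ U : X.Opens, x ∈ U ∧
      Nonempty (DerivedCategory.Q.obj ((DCoh.restrictCx U).obj E) ≅ DerivedCategory.Q.obj ((DCoh.restrictCx U).obj F)) := by
  haveI : E.IsGE c := (DerivedCategory.isGE_Q_obj_iff E c).1 ‹(DCoh.toD X E).IsGE c›
  haveI : F.IsGE c := (DerivedCategory.isGE_Q_obj_iff F c).1 ‹(DCoh.toD X F).IsGE c›
  haveI : F.IsLE d := (DerivedCategory.isLE_Q_obj_iff F d).1 ‹(DCoh.toD X F).IsLE d›
  obtain ⟨W, hxW, P, α, hPz, hPf, hα⟩ := exists_free_approx (m := c - 1) (b := max c d) (by omega) (hE (c - 1))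
    (fun q hq => DerivedCategory.isZero_of_isLE (DCoh.toD X E) d q (by omega)) x
  have hPs : DCoh.IsStrictlyPerfect P := ⟨⟨c - 1, max c d, hPz⟩, fun q => by
    obtain ⟨n, ⟨i⟩⟩ := hPf q
    exact isFinLocFree_iso i.symm (isFinLocFree_freeMod n)⟩
  obtain ⟨V, hxV, β, hβ⟩ := exists_open_represent hPs (α ≫ (restrictDQ W.ι E).hom) (⟨x, hxW⟩ : W)
  have hm : MIso (c - 1) (DerivedCategory.Q.map β) := by
    rw [show DerivedCategory.Q.map β = (restrictDQ V.ι P).inv ≫
        (DCoh.restrictD V.ι).map (α ≫ (restrictDQ W.ι E).hom) ≫ (restrictDQ V.ι ((resCx W.ι).obj E)).hom by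
      rw [hβ]; simp [restrictDQ]]
    exact (mIso_of_isIso _ _).comp (((hα.comp (mIso_of_isIso _ _)).restrict V.ι).comp (mIso_of_isIso _ _))
  have hge : ∀ K : CochainComplex X.Modules ℤ, K.IsGE c → ((resCx V.ι).obj ((resCx W.ι).obj K)).IsGE c :=
    fun K hK => (CochainComplex.isGE_iff _ _).2 fun i hi =>
      exactAt_resCx V.ι (exactAt_resCx W.ι ((CochainComplex.isGE_iff K c).1 hK i hi))
  haveI := hge E inferInstance
  haveI := hge F inferInstance
  haveI : ((resCx V.ι).obj ((resCx W.ι).obj F)).IsLE d := (CochainComplex.isLE_iff _ _).2 fun i hi =>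
    exactAt_resCx V.ι (exactAt_resCx W.ι ((CochainComplex.isLE_iff F d).1 inferInstance i hi))
  obtain ⟨e⟩ := nonempty_stalk_restrict_iso V.ι (⟨⟨x, hxW⟩, hxV⟩ : V)
    (nonempty_stalk_restrict_iso W.ι (⟨x, hxW⟩ : W) hx)
  obtain ⟨Z, j, hj, z, hz, ⟨i⟩⟩ := exists_iso_of_approx (P := (resCx V.ι).obj P)
    (a := c - 1) (b := max c d) (c := c) (d := d)
    (fun q hq => isZero_resCx V.ι (hPz q hq))
    (fun q => by
      obtain ⟨n, ⟨l⟩⟩ := hPf q
      exact ⟨n, ⟨(Scheme.Modules.restrictFunctor V.ι).mapIso l ≪≫ restrictFreeMod V.ι n⟩⟩)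
    β hm (F := (resCx V.ι).obj ((resCx W.ι).obj F))
    (fun m => isPseudoCoherentD_iso ((DCoh.restrictD V.ι).mapIso (restrictDQ W.ι F) ≪≫ restrictDQ V.ι _)
      (isPseudoCoherentD_restrict V.ι (isPseudoCoherentD_restrict W.ι (hF m)))) ⟨⟨x, hxW⟩, hxV⟩ e
  let t := fun K : CochainComplex X.Modules ℤ =>
    (restrictDComp j (V.ι ≫ W.ι)).app (DCoh.toD X K) ≪≫
      (DCoh.restrictD j).mapIso ((restrictDComp V.ι W.ι).app (DCoh.toD X K) ≪≫
        (DCoh.restrictD V.ι).mapIso (restrictDQ W.ι K) ≪≫ restrictDQ V.ι _)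
  obtain ⟨U, hU, ⟨u⟩⟩ := exists_opens_iso (j ≫ V.ι ≫ W.ι) z (t E ≪≫ i ≪≫ (t F).symm)
  refine ⟨U, ?_, ⟨(restrictDQ U.ι E).symm ≪≫ u ≪≫ restrictDQ U.ι F⟩⟩
  have : (j ≫ V.ι ≫ W.ι).base z = x := by
    show W.ι.base (V.ι.base (j.base z)) = x
    rw [hz]
    rfl
  rwa [this] at hU

end Groth.Agent.S6195
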