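import Groth.Statements.S6201
import Groth.Agent.RelPCLib.Comp

set_option autoImplicit false
universe u
open CategoryTheory CategoryTheory.Limits AlgebraicGeometry
attribute [local instance] HasDerivedCategory.standard
open KSix

set_option backward.isDefEq.respectTransparency false

namespace Groth.Agent.S6201

open Groth.Agent.RelPCLib Groth.Agent.DCohLib

/-- Let f : X ⟶ Y be a closed immersion, g : Y ⟶ Z a smooth morphism, n an integer and E a cochain
complex of O_X-modules. Then E is n-pseudo-coherent relative to the composite f ≫ g : X ⟶ Z
(relative pseudo-coherence in its chart form: affine-locally on source and base, the direct image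
along a closed immersion into an affine space over the base is n-pseudo-coherent) if and only if the
termwise direct image f_* E, which computes Rf_* E for a closed immersion, is n-pseudo-coherent on Y
in the absolute sense. (The published statement presents this equivalence as one of three properties
characterising the class of n-pseudo-coherent objects relative to a morphism locally of finite type;
this row takes that class in its chart form and asserts the equivalence with the
closed-immersion-into-smooth test.) -/
theorem result {X Y Z : Scheme.{u}} (f : X ⟶ Y) [IsClosedImmersion f]
    (g : Y ⟶ Z) [Smooth g] (n : ℤ) (E : CochainComplex X.Modules ℤ) :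
    DerSch.IsPseudoCoherentRel (f ≫ g) n (DCoh.toD X E) ↔
      DCoh.IsPseudoCoherentD n (DCoh.toD Y (((Scheme.Modules.pushforward f).mapHomologicalComplex (ComplexShape.up ℤ)).obj E)) := by
  refine ((rel_comp_iff g f (fun V W h hV hW => pcHom_appLE_of_flat g hV hW h) n _).symm.trans
    (rel_closed_iff f n _)).trans ?_
  exact ⟨isPseudoCoherentD_iso (pushDQ f E), isPseudoCoherentD_iso (pushDQ f E).symm⟩

end Groth.Agent.S6201
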