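import Groth.Statements.S6204
import Groth.Agent.RelPCLib.Basic

set_option autoImplicit false
universe u
open CategoryTheory CategoryTheory.Limits AlgebraicGeometry
attribute [local instance] HasDerivedCategory.standard
open KSix

set_option backward.isDefEq.respectTransparency false

namespace Groth.Agent.S6204

open Groth.Agent.RelPCLib Groth.Agent.DCohLib

open CategoryTheory.Pretriangulated in
/-- Let f : X ⟶ Y be locally of finite type, n an integer, and E ⟶ F ⟶ G ⟶ E⟦1⟧ a distinguished triangle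
of D(O_X); all pseudo-coherence is relative to f, in chart form. If E is (n+1)-pseudo-coherent and F
is n-pseudo-coherent then G is n-pseudo-coherent; if E and G are n-pseudo-coherent then so is F; if
F is n-pseudo-coherent and G is (n-1)-pseudo-coherent then E is n-pseudo-coherent. -/
theorem result {X Y : Scheme.{u}} (f : X ⟶ Y) [LocallyOfFiniteType f] (n : ℤ)
    (T : Triangle (DCoh.D X)) (hT : T ∈ distinguishedTriangles) :
    (DerSch.IsPseudoCoherentRel f (n + 1) T.obj₁ → DerSch.IsPseudoCoherentRel f n T.obj₂ →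
        DerSch.IsPseudoCoherentRel f n T.obj₃) ∧
      (DerSch.IsPseudoCoherentRel f n T.obj₁ → DerSch.IsPseudoCoherentRel f n T.obj₃ →
        DerSch.IsPseudoCoherentRel f n T.obj₂) ∧
      (DerSch.IsPseudoCoherentRel f n T.obj₂ → DerSch.IsPseudoCoherentRel f (n - 1) T.obj₃ →
        DerSch.IsPseudoCoherentRel f n T.obj₁) := by
  refine ⟨fun h1 h2 => ?_, fun h1 h3 => ?_, fun h2 h3 => ?_⟩
  all_goals refine rel_of_cpc f fun U V hle hU hV k φ hφ => ?_
  all_goals haveI := isClosedImmersion_emb hU hφ.1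
  all_goals rw [cpc_iff]
  · exact isPseudoCoherentD_obj₃ _ ((pushD (emb U φ)).map_distinguished _ ((DCoh.restrictD U.ι).map_distinguished T hT))
      ((cpc_iff _ _ φ).1 (cpc_of_rel f h1 hU hV hφ)) ((cpc_iff _ _ φ).1 (cpc_of_rel f h2 hU hV hφ))
  · exact isPseudoCoherentD_obj₂ _ ((pushD (emb U φ)).map_distinguished _ ((DCoh.restrictD U.ι).map_distinguished T hT))
      ((cpc_iff _ _ φ).1 (cpc_of_rel f h1 hU hV hφ)) ((cpc_iff _ _ φ).1 (cpc_of_rel f h3 hU hV hφ))
  · have := isPseudoCoherentD_obj₁ (m := n - 1) _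
      ((pushD (emb U φ)).map_distinguished _ ((DCoh.restrictD U.ι).map_distinguished T hT))
      (by rw [sub_add_cancel]; exact (cpc_iff _ _ φ).1 (cpc_of_rel f h2 hU hV hφ))
      ((cpc_iff _ _ φ).1 (cpc_of_rel f h3 hU hV hφ))
    rwa [sub_add_cancel] at this

end Groth.Agent.S6204
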