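import Groth.Statements.S6212
import Groth.Agent.RelPCLib.PerfNhd

set_option autoImplicit false
set_option backward.isDefEq.respectTransparency false
universe u
open CategoryTheory CategoryTheory.Limits AlgebraicGeometry
attribute [local instance] HasDerivedCategory.standard
open KSix

namespace Groth.Agent.S6212

open Groth.Agent.DRingLib Groth.Agent.DCohLib Groth.Agent.DTenLib Groth.Agent.DerSchH7 Groth.Agent.RelPCLib

/-- Perfect amplitude on an open of an open. -/
theorem perfAmplitude_image {X Y : Scheme.{u}} (f : X ⟶ Y) (F : CochainComplex X.Modules ℤ) (a b : ℤ)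
    (U : X.Opens) (U' : (U : Scheme.{u}).Opens)
    (h : DerSch.HasPerfAmplitudeRel (U'.ι ≫ U.ι ≫ f) a b ((resCx U'.ι).obj ((resCx U.ι).obj F))) :
    DerSch.HasPerfAmplitudeRel ((U.ι ''ᵁ U').ι ≫ f) a b ((resCx (U.ι ''ᵁ U').ι).obj F) := by
  refine ⟨fun m => ?_, fun z => ?_⟩
  · have h1 := rel_restrict (U.ι.isoImage U').inv (U'.ι ≫ U.ι ≫ f) (h.1 m)
    have hinv : (U.ι.isoImage U').inv ≫ U'.ι ≫ U.ι = (U.ι ''ᵁ U').ι := Scheme.Hom.isoImage_inv_ι U.ι U'
    have h2 : (U.ι.isoImage U').inv ≫ U'.ι ≫ U.ι ≫ f = (U.ι ''ᵁ U').ι ≫ f := by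
      simpa only [Category.assoc] using congrArg (fun k => k ≫ f) hinv
    rw [h2] at h1
    exact rel_of_iso _
      ((DCoh.restrictD (U.ι.isoImage U').inv).mapIso
          ((restrictDQ U'.ι _).symm ≪≫ (DCoh.restrictD U'.ι).mapIso (restrictDQ U.ι F).symm) ≪≫
        (DCoh.restrictD (U.ι.isoImage U').inv).mapIso ((restrictDComp U'.ι U.ι).app _).symm ≪≫
        ((restrictDComp (U.ι.isoImage U').inv (U'.ι ≫ U.ι)).symm ≪≫ restrictDCongr hinv).app _ ≪≫
        restrictDQ (U.ι ''ᵁ U').ι F) h1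
  · obtain ⟨z', hz', hzz⟩ := z.2
    refine (hasTorAmplitudeAt_open_iff (U.ι ''ᵁ U').ι f F a b z).2 ?_
    rw [show (U.ι ''ᵁ U').ι.base z = U.ι.base z' from hzz.symm]
    exact (hasTorAmplitudeAt_open_iff U.ι f F a b z').1
      ((hasTorAmplitudeAt_open_iff U'.ι (U.ι ≫ f) _ a b ⟨z', hz'⟩).1 (h.2 ⟨z', hz'⟩))

/-- Let f : X ⟶ Y be locally of finite type, F a cochain complex of O_X-modules, a and b integers and x
a point of X. The following are equivalent: (i) on some open neighbourhood U of x, F|_U has perfect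
amplitude in [a, b] relative to U ⟶ Y (pseudo-coherent relative to the morphism in chart form, and
of tor amplitude in [a, b] stalkwise over the local rings of Y); (ii) on some open neighbourhood U
of x, F|_U is (a-1)-pseudo-coherent relative to U ⟶ Y and its cohomology sheaves vanish outside [a,
b], and the complex of stalks F_x over the local ring of Y at f x has tor amplitude in [a, b]. -/
theorem result {X Y : Scheme.{u}} (f : X ⟶ Y)
    [LocallyOfFiniteType f] (F : CochainComplex X.Modules ℤ) (a b : ℤ) (x : X) :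
    (∃ U : X.Opens, x ∈ U ∧ DerSch.HasPerfAmplitudeRel (U.ι ≫ f) a b ((DCoh.restrictCx U).obj F)) ↔
      ((∃ U : X.Opens, x ∈ U ∧
          DerSch.IsPseudoCoherentRel (U.ι ≫ f) (a - 1) (DCoh.toD (U : Scheme.{u}) ((DCoh.restrictCx U).obj F)) ∧
          ∀ i : ℤ, i < a ∨ b < i → IsZero (DCoh.HD (DCoh.toD (U : Scheme.{u}) ((DCoh.restrictCx U).obj F)) i)) ∧
        DerSch.HasTorAmplitudeAt f a b F x) := by
  constructor
  · rintro ⟨U, hxU, hpc, hamp⟩
    exact ⟨⟨U, hxU, hpc (a - 1), fun i hi => isZero_HD_of_hasTorAmplitude (U.ι ≫ f) hamp i hi⟩,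
      (hasTorAmplitudeAt_open_iff U.ι f F a b ⟨x, hxU⟩).1 (hamp ⟨x, hxU⟩)⟩
  · rintro ⟨⟨U, hxU, hpc, hz⟩, hamp⟩
    have hex : ∀ i : ℤ, i < a ∨ b < i → HomologicalComplex.ExactAt ((resCx U.ι).obj F) i := fun i hi =>
      (HomologicalComplex.exactAt_iff_isZero_homology _ _).2
        ((hz i hi).of_iso ((DerivedCategory.homologyFunctorFactors _ i).app _).symm)
    haveI : CochainComplex.IsGE ((resCx U.ι).obj F) a :=
      (CochainComplex.isGE_iff _ _).2 fun i hi => hex i (Or.inl hi)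
    haveI : CochainComplex.IsLE ((resCx U.ι).obj F) b :=
      (CochainComplex.isLE_iff _ _).2 fun i hi => hex i (Or.inr hi)
    obtain ⟨U', hxU', hU'⟩ := exists_perfAmplitude_nhd (U.ι ≫ f) ((resCx U.ι).obj F) (⟨x, hxU⟩ : U) hpc
      ((hasTorAmplitudeAt_open_iff U.ι f F a b ⟨x, hxU⟩).2 hamp)
    exact ⟨U.ι ''ᵁ U', ⟨⟨x, hxU⟩, hxU', rfl⟩, perfAmplitude_image f F a b U U' hU'⟩

end Groth.Agent.S6212
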