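import Groth.Statements.S6217
import Groth.Agent.RelPCLib.SmoothPush
import Groth.Agent.RelPCLib.Comp

set_option autoImplicit false
universe u
open CategoryTheory CategoryTheory.Limits AlgebraicGeometry
attribute [local instance] HasDerivedCategory.standard
open KSix

set_option backward.isDefEq.respectTransparency false

namespace Groth.Agent.S6217

open Groth.Agent.RelPCLib Groth.Agent.DCohLib

/-- Let i : X ⟶ Y be a closed immersion, g : Y ⟶ S smooth, and F a cochain complex of O_X-modules. Then
F is perfect relative to i ≫ g (pseudo-coherent relative to it in chart form, and locally on X of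
finite stalkwise tor amplitude over the local rings of S) if and only if the termwise direct image
i_* F, which computes Ri_* F, is perfect on Y in the absolute sense. -/
theorem result {X Y S : Scheme.{u}} (i : X ⟶ Y) [IsClosedImmersion i]
    (g : Y ⟶ S) [Smooth g] (F : CochainComplex X.Modules ℤ) :
    DerSch.IsPerfectRel (i ≫ g) F ↔ DCoh.IsPerfect (DCoh.toD Y (((Scheme.Modules.pushforward i).mapHomologicalComplex (ComplexShape.up ℤ)).obj F)) := by
  rw [isPerfect_iff_pc]
  have key : ∀ m : ℤ, DerSch.IsPseudoCoherentRel (i ≫ g) m (DCoh.toD X F) ↔ DCoh.IsPseudoCoherentD m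
      (DCoh.toD Y (((Scheme.Modules.pushforward i).mapHomologicalComplex (ComplexShape.up ℤ)).obj F)) := fun m =>
    (rel_comp_iff g i (fun V W h hV hW => pcHom_appLE_of_flat g hV hW h) m _).symm.trans
      ((rel_closed_iff i m _).trans ⟨isPseudoCoherentD_iso (pushDQ i F), isPseudoCoherentD_iso (pushDQ i F).symm⟩)
  exact ⟨fun h => ⟨fun m => (key m).1 (h.1 m), locHasFiniteTorDim_pushforward_smooth i g F h.2⟩,
    fun h => ⟨fun m => (key m).2 (h.1 m), locFiniteTorAmplitude_of_pushforward i g F h.2⟩⟩

end Groth.Agent.S6217
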