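import Groth.Statements.S6218
import Groth.Agent.RelPCLib.Comp
import Groth.Agent.DerSchH7.PerfAmp
import Groth.Agent.S6191

set_option autoImplicit false
universe u
open CategoryTheory CategoryTheory.Limits AlgebraicGeometry
attribute [local instance] HasDerivedCategory.standard
open KSix

set_option backward.isDefEq.respectTransparency false

namespace Groth.Agent.S6218

open Groth.Agent.RelPCLib Groth.Agent.DCohLib

/-- Let i : X ⟶ Y be a closed immersion, g : Y ⟶ S smooth, a and b integers, and F a cochain complex of
O_X-modules such that the termwise direct image i_* F has perfect amplitude in [a, b] on Y in the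
absolute sense (locally isomorphic in D to a complex of finite locally free modules placed in [a,
b]). Then F has perfect amplitude in [a, b] relative to i ≫ g (pseudo-coherent relative to it in
chart form, with stalkwise tor amplitude in [a, b] over the local rings of S). -/
theorem result {X Y S : Scheme.{u}} (i : X ⟶ Y) [IsClosedImmersion i]
    (g : Y ⟶ S) [Smooth g] (a b : ℤ) (F : CochainComplex X.Modules ℤ)
    (hF : KSix.HasPerfectAmplitudeIn a b (DCoh.toD Y (((Scheme.Modules.pushforward i).mapHomologicalComplex (ComplexShape.up ℤ)).obj F))) :
    DerSch.HasPerfAmplitudeRel (i ≫ g) a b F := by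
  obtain ⟨hpc, hfl⟩ := (Groth.Agent.DerSchH7.hasPerfectAmplitudeIn_iff _ a b).1 hF
  refine ⟨fun m => ?_, Groth.Agent.S6191.result i g F a b hfl⟩
  refine (rel_comp_iff g i (fun V W h hV hW => pcHom_appLE_of_flat g hV hW h) m _).1 ((rel_closed_iff i m _).2 ?_)
  exact isPseudoCoherentD_iso (pushDQ i F).symm (((isPerfect_iff_pc _).1 (isPerfect_of_flatAmplitude a b hfl hpc)).1 m)

end Groth.Agent.S6218
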