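import Groth.Statements.S6224
import Groth.Agent.TwistShriek.RelPush
import Groth.Agent.DCohMore.PerfHom
-- import your own Groth.Agent.* helpers here

set_option autoImplicit false
set_option backward.isDefEq.respectTransparency false
set_option maxHeartbeats 800000
set_option synthInstance.maxHeartbeats 200000
universe u
open CategoryTheory CategoryTheory.Limits AlgebraicGeometry
open Groth.Agent
attribute [local instance] HasDerivedCategory.standard
open KSix

namespace Groth.Agent.S6224

/-- Case of a Noetherian base: let S be a Noetherian scheme, p : X ⟶ S and q : Y ⟶ S of finite type, f :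
X ⟶ Y proper with f ≫ q = p, N a natural number such that R^i f_* M = 0 for every i above N and
every quasi-coherent O_X-module M, a and b integers, and F a cochain complex of O_X-modules whose
class in D(O_X) has bounded cohomology and which has perfect amplitude in [a, b] relative to p
(pseudo-coherent relative to p in chart form, stalkwise tor amplitude in [a, b] over the local rings
of S). Then, Rf_* being assumed to exist, Rf_* F has perfect amplitude in [a, b + N] relative to q:
every cochain complex representing it does. -/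
theorem result {X Y S : Scheme.{u}} [IsNoetherian S]
    (p : X ⟶ S) (q : Y ⟶ S) [LocallyOfFiniteType p] [QuasiCompact p] [LocallyOfFiniteType q] [QuasiCompact q]
    (f : X ⟶ Y) [IsProper f] (w : f ≫ q = p) [DCoh.HasRpush f] (N : ℕ)
    (hN : ∀ M : X.Modules, Coh.IsQCoh M → ∀ i : ℤ, (N : ℤ) < i → IsZero (DCoh.HD ((DCoh.Rpush f).obj (DCoh.inD X M)) i))
    (F : CochainComplex X.Modules ℤ) (c d : ℤ) [(DCoh.toD X F).IsGE c] [(DCoh.toD X F).IsLE d]
    (a b : ℤ) (hF : DerSch.HasPerfAmplitudeRel p a b F) :
    ∀ F' : CochainComplex Y.Modules ℤ, Nonempty (DCoh.toD Y F' ≅ (DCoh.Rpush f).obj (DCoh.toD X F)) →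
      DerSch.HasPerfAmplitudeRel q a (b + N) F' := by
    rintro F' ⟨e⟩
    haveI : IsLocallyNoetherian X := LocallyOfFiniteType.isLocallyNoetherian p
    have hqc : DCoh.IsQCohD (DerivedCategory.Q.obj F) := fun i =>
      (TensorCohLib.isCohD_of_pc _ (fun k => (TwistShriek.rel_iff_abs p k _).1 (hF.1 k)) i).1
    obtain ⟨hge, hle⟩ := TwistShriek.isGE_isLE_of_hasTorAmplitude p F hF.2
    haveI := hge
    haveI := hle
    haveI : ((DCoh.Rpush f).obj (DerivedCategory.Q.obj F)).IsLE (b + N) :=
      TwistShriek.isLE_rpush_of_modules f N _ a b fun i j hj => hN _ (hqc i) j hj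
    exact ⟨fun m => (TwistShriek.rel_iff_abs q m _).2 (DCohLib.isPseudoCoherentD_iso e.symm
        ((TwistShriek.rel_iff_abs q m _).1 (TwistShriek.relAll_rpush_proper p q f _ a hF.1 m))),
      TwistShriek.hasTorAmplitudeD_rpush p q f w F hqc hF.2 (c := b + N) F' ⟨e⟩⟩

end Groth.Agent.S6224
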