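import Groth.Statements.S6226
import Groth.Agent.RelPCLib.BaseChange

set_option autoImplicit false
universe u
open CategoryTheory CategoryTheory.Limits AlgebraicGeometry
attribute [local instance] HasDerivedCategory.standard
open KSix

set_option backward.isDefEq.respectTransparency false

namespace Groth.Agent.S6226

open Groth.Agent.RelPCLib Groth.Agent.DCohLib

/-- Last clause: for a flat base change: let f : X ⟶ Y be locally of finite type and n-pseudo-coherent
(O_X placed in degree 0 is n-pseudo-coherent relative to f, chart form) and h : Y' ⟶ Y flat. Then
the base change X ×_Y Y' ⟶ Y' of f is n-pseudo-coherent. (The published statement assumes only that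
X and Y' are tor-independent over Y; this row takes h flat, which implies that condition.) -/
theorem result {X Y Y' : Scheme.{u}} (f : X ⟶ Y) [LocallyOfFiniteType f] (n : ℤ)
    (hf : DerSch.IsNPseudoCoherent f n) (h : Y' ⟶ Y) [Flat h] :
    DerSch.IsNPseudoCoherent (pullback.snd f h) n := by
  exact rel_of_iso (pullback.snd f h)
    (((Scheme.Modules.pullback (pullback.fst f h)).mapDerivedCategory.mapIso
        ((DerivedCategory.singleFunctorIsoCompQ _ 0).app _).symm) ≪≫
      ((Scheme.Modules.pullback (pullback.fst f h)).mapDerivedCategorySingleFunctor 0).app _ ≪≫
      (DerivedCategory.singleFunctor _ 0).mapIso (pullStructureIso (pullback.fst f h)) ≪≫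
      (DerivedCategory.singleFunctorIsoCompQ _ 0).app _)
    (rel_baseChange (pullback.fst f h) (IsPullback.of_hasPullback f h) hf)

end Groth.Agent.S6226
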