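import Groth.Statements.S6227
import Groth.Agent.RelPCLib.Descent

set_option autoImplicit false
universe u
open CategoryTheory CategoryTheory.Limits AlgebraicGeometry
attribute [local instance] HasDerivedCategory.standard
open KSix

set_option backward.isDefEq.respectTransparency false

namespace Groth.Agent.S6227

open Groth.Agent.RelPCLib Groth.Agent.DCohLib

/-- Last clause: sufficiency: let f : X ⟶ Y be locally of finite type and h : Y' ⟶ Y flat, surjective
and quasi-compact. If the base change X ×_Y Y' ⟶ Y' of f is n-pseudo-coherent (structure sheaf
placed in degree 0 n-pseudo-coherent relative to it, chart form), then f is n-pseudo-coherent. (The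
published statement takes h faithfully flat, that is flat and surjective; this row also takes h
quasi-compact: for A an infinite product of copies of the field with two elements and I its ideal of
finitely supported sequences, the closed immersion Spec A/I ⟶ Spec A is not locally of finite
presentation, hence not (-1)-pseudo-coherent, while its base change along the flat, surjective,
non-quasi-compact disjoint union of the spectra of all local rings of A is an open and closed
immersion, so descent fails without quasi-compactness.) -/
theorem result {X Y Y' : Scheme.{u}} (f : X ⟶ Y) [LocallyOfFiniteType f] (n : ℤ)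
    (h : Y' ⟶ Y) [Flat h] [Surjective h] [QuasiCompact h] (hf' : DerSch.IsNPseudoCoherent (pullback.snd f h) n) :
    DerSch.IsNPseudoCoherent f n := by
  refine rel_of_flat_cover f (fun _ : Unit => h) (fun _ => pullback.fst f h) (fun _ => pullback.snd f h)
    (fun _ => IsPullback.of_hasPullback f h) (fun V hV => exists_affines_of_quasiCompact h hV) ?_
    fun _ => rel_of_iso (pullback.snd f h)
      (((Scheme.Modules.pullback (pullback.fst f h)).mapDerivedCategory.mapIso
          ((DerivedCategory.singleFunctorIsoCompQ _ 0).app _).symm) ≪≫
        ((Scheme.Modules.pullback (pullback.fst f h)).mapDerivedCategorySingleFunctor 0).app _ ≪≫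
        (DerivedCategory.singleFunctor _ 0).mapIso (pullStructureIso (pullback.fst f h)) ≪≫
        (DerivedCategory.singleFunctorIsoCompQ _ 0).app _).symm hf'
  refine Groth.Agent.TildeD.isQCohD_of_iso
    ((DerivedCategory.singleFunctorIsoCompQ X.Modules 0).app (Coh.structureModule X)) fun i => ?_
  by_cases hi : i = 0
  · subst hi
    exact isQCoh_of_iso' ((DerivedCategory.singleFunctorCompHomologyFunctorIso X.Modules 0).app _).symm
      CohBase.isQCoh_structureModule
  · exact isQCoh_of_isZero' (isZero_HD_inD _ hi)

end Groth.Agent.S6227
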