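import Groth.Statements.S6233
import Groth.Agent.RelPCLib.FibAmp
import Groth.Agent.DRingLib.WeaklyEtaleAmp
import Groth.Agent.S6212

set_option autoImplicit false
set_option backward.isDefEq.respectTransparency false
universe u
open CategoryTheory CategoryTheory.Limits AlgebraicGeometry
attribute [local instance] HasDerivedCategory.standard
open KSix

namespace Groth.Agent.S6233

open Groth.Agent.DRingLib Groth.Agent.DCohLib Groth.Agent.DTenLib Groth.Agent.DerSchH7 Groth.Agent.RelPCLib

/-- Criterion of relative perfection by fibres: let f : X ⟶ Y and g : Y ⟶ S with f ≫ g = h, f and h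
locally of finite type, g flat and locally of finite presentation; let x be a point of X with y = f
x and s = g y, F a cochain complex of O_X-modules whose class has bounded above cohomology, and a, b
integers. Write O_{Y_s,y} for the quotient of the local ring O_{Y,y} by the ideal generated by the
maximal ideal of O_{S,s} (the local ring at y of the fibre Y_s), and F_x for the complex of stalks
of F at x as a complex of O_{Y,y}-modules; the derived base change along O_{Y,y} → O_{Y_s,y} is
assumed to exist. Then the following are equivalent: (i) on some open neighbourhood of x, F has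
perfect amplitude in [a, b] relative to h (chart-form pseudo-coherence and stalkwise tor amplitude),
and F_x ⊗^L O_{Y_s,y} has tor amplitude in [a, b] over O_{Y_s,y}; (ii) on some open neighbourhood of
x, F has perfect amplitude in [a, b] relative to f. -/
theorem result {X Y S : Scheme.{u}} (f : X ⟶ Y) (g : Y ⟶ S)
    (h : X ⟶ S) (w : f ≫ g = h) [LocallyOfFiniteType f] [LocallyOfFiniteType h] [Flat g] [LocallyOfFinitePresentation g]
    (x : X) (F : CochainComplex X.Modules ℤ) (c : ℤ) [(DCoh.toD X F).IsLE c] (a b : ℤ)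
    [DRing.HasLBaseChange (Ideal.Quotient.mk (Ideal.map (g.stalkMap (f.base x)).hom
      (IsLocalRing.maximalIdeal (S.presheaf.stalk (g.base (f.base x))))))] :
    ((∃ U : X.Opens, x ∈ U ∧ DerSch.HasPerfAmplitudeRel (U.ι ≫ h) a b ((DCoh.restrictCx U).obj F)) ∧
        DRing.HasTorAmplitudeIn
          ((Y.presheaf.stalk (f.base x)) ⧸ Ideal.map (g.stalkMap (f.base x)).hom
            (IsLocalRing.maximalIdeal (S.presheaf.stalk (g.base (f.base x))))) a b
          ((DRing.LBaseChange (Ideal.Quotient.mk (Ideal.map (g.stalkMap (f.base x)).hom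
            (IsLocalRing.maximalIdeal (S.presheaf.stalk (g.base (f.base x))))))).obj
            (DRing.toD ((DerSch.stalkCxOver f x).obj F)))) ↔
      (∃ U : X.Opens, x ∈ U ∧ DerSch.HasPerfAmplitudeRel (U.ι ≫ f) a b ((DCoh.restrictCx U).obj F)) := by
  subst w
  constructor
  · rintro ⟨⟨U, hxU, hpc, hamp⟩, hfib⟩
    have hpc' : DerSch.IsPseudoCoherentRel (U.ι ≫ f) (a - 1) (DCoh.toD _ ((DCoh.restrictCx U).obj F)) := by
      refine (rel_comp_iff g (U.ι ≫ f) (fun V W h hV hW => pcHom_appLE_of_flat g hV hW h) _ _).2 ?_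
      rw [Category.assoc]
      exact hpc (a - 1)
    have hz := fun i hi => isZero_HD_of_hasTorAmplitude (U.ι ≫ f ≫ g) hamp i hi
    haveI : CochainComplex.IsGE ((resCx U.ι).obj F) a := (CochainComplex.isGE_iff _ _).2 fun i hi =>
      (HomologicalComplex.exactAt_iff_isZero_homology _ _).2
        ((hz i (Or.inl hi)).of_iso ((DerivedCategory.homologyFunctorFactors _ i).app _).symm)
    haveI : CochainComplex.IsLE ((resCx U.ι).obj F) b := (CochainComplex.isLE_iff _ _).2 fun i hi =>
      (HomologicalComplex.exactAt_iff_isZero_homology _ _).2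
        ((hz i (Or.inr hi)).of_iso ((DerivedCategory.homologyFunctorFactors _ i).app _).symm)
    have hx : FibAt g a b f F x :=
      ⟨amp_of_iso (DerivedCategory.Q.mapIso (stalkCxOverCompIso f g x F) ≪≫
          ((DTen.resFactors _).app _).symm)
          ((hasTorAmplitudeAt_open_iff U.ι (f ≫ g) F a b ⟨x, hxU⟩).1 (hamp ⟨x, hxU⟩)), hfib⟩
    have h1 := amp_of_comp_fibre (U.ι ≫ f) g ((resCx U.ι).obj F) (⟨x, hxU⟩ : U) hpc'
      (fibAt_open U.ι f (z := ⟨x, hxU⟩) hx)
    exact (Groth.Agent.S6212.result f F a b x).2 ⟨⟨U, hxU, hpc', hz⟩,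
      (hasTorAmplitudeAt_open_iff U.ι f F a b ⟨x, hxU⟩).1 h1⟩
  · rintro ⟨U, hxU, hpc, hamp⟩
    refine ⟨⟨U, hxU, fun m => ?_, fun z => ?_⟩,
      hasTorAmplitudeIn_lbc _ ((hasTorAmplitudeAt_open_iff U.ι f F a b ⟨x, hxU⟩).1 (hamp ⟨x, hxU⟩))⟩
    · have h1 := (rel_comp_iff g (U.ι ≫ f) (fun V W h hV hW => pcHom_appLE_of_flat g hV hW h) m _).1 (hpc m)
      rw [Category.assoc] at h1
      exact h1
    · have h1 : DerSch.HasTorAmplitudeAt ((U.ι ≫ f) ≫ g) a b ((DCoh.restrictCx U).obj F) z :=
        amp_of_iso ((DTen.resFactors _).app _ ≪≫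
          DerivedCategory.Q.mapIso (stalkCxOverCompIso (U.ι ≫ f) g z _).symm)
          (amp_restrict_of_flat _ (Flat.stalkMap g _) (hamp z))
      rw [Category.assoc] at h1
      exact h1

end Groth.Agent.S6233
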