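import Groth.Statements.S6234
import Groth.Agent.TwistShriek.ProjRel
import Groth.Agent.DerSchH7.RelQCoh
-- import your own Groth.Agent.* helpers here

set_option autoImplicit false
set_option backward.isDefEq.respectTransparency false
set_option maxHeartbeats 800000
set_option synthInstance.maxHeartbeats 200000
universe u
open CategoryTheory CategoryTheory.Limits AlgebraicGeometry
open Groth.Agent
attribute [local instance] HasDerivedCategory.standard
open KSix

namespace Groth.Agent.S6234

/-- Case of a projective morphism: let S be a scheme, q : Y ⟶ S locally of finite type, i : X ⟶ P^r_Y a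
closed immersion with f : X ⟶ Y the composite with the projection, and F a cochain complex of
O_X-modules whose class in D(O_X) has bounded cohomology and which is perfect relative to f ≫ q : X
⟶ S (pseudo-coherent relative to it in chart form, and locally on X of finite stalkwise tor
amplitude over the local rings of S). Then, Rf_* being assumed to exist, Rf_* F is perfect relative
to q: every cochain complex representing it is. (The published statement allows any projective
S-morphism, a closed immersion into P(M) with M quasi-coherent of finite type on Y; this row takes M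
free of rank r + 1.) -/
theorem result {X Y S : Scheme.{u}} (q : Y ⟶ S)
    [LocallyOfFiniteType q] (r : ℕ) (i : X ⟶ CohB1.ProjSpaceOver r Y) [IsClosedImmersion i]
    [DCoh.HasRpush (i ≫ CohB1.ProjSpaceOver.toBase r Y)]
    (F : CochainComplex X.Modules ℤ) (c d : ℤ) [(DCoh.toD X F).IsGE c] [(DCoh.toD X F).IsLE d]
    (hF : DerSch.IsPerfectRel ((i ≫ CohB1.ProjSpaceOver.toBase r Y) ≫ q) F) :
    ∀ F' : CochainComplex Y.Modules ℤ,
      Nonempty (DCoh.toD Y F' ≅ (DCoh.Rpush (i ≫ CohB1.ProjSpaceOver.toBase r Y)).obj (DCoh.toD X F)) →
        DerSch.IsPerfectRel q F' := by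
  rintro F' ⟨e⟩
  haveI := TwistShriek.isProper_toBase' (r := r) (Y := Y)
  haveI : QuasiCompact (i ≫ CohB1.ProjSpaceOver.toBase r Y) := inferInstance
  haveI : QuasiSeparated (i ≫ CohB1.ProjSpaceOver.toBase r Y) := inferInstance
  refine ⟨fun m => RelPCLib.rel_of_iso q e.symm (TwistShriek.rel_rpush_proj q i _ hF.1 m), ?_⟩
  exact TwistShriek.locFiniteTorAmplitudeD_rpush _ q _ rfl F (Groth.Agent.DerSchH7.isQCohD_of_relAll hF.1) hF.2 F' ⟨e⟩

end Groth.Agent.S6234
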