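import Groth.Statements.S6245
import Groth.Agent.RelPCLib.StalkTensExact
-- import your own Groth.Agent.* helpers here

set_option autoImplicit false
universe u
open CategoryTheory CategoryTheory.Limits AlgebraicGeometry
attribute [local instance] HasDerivedCategory.standard
open KSix

set_option backward.isDefEq.respectTransparency false

namespace Groth.Agent.S6245

open Groth.Agent.DCohLib Groth.Agent.RelPCLib

/-- Let X be a scheme, p an integer, x a point of X and E ∈ D⁻(O_X), given by a cochain complex F, a
p-pseudo-coherent object; let F_x be the complex of stalks of F at x, a complex of modules over the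
local ring O_{X,x}. The derived tensor products with F_x and with the restrictions of F to the opens
of X being assumed to exist: if the functor M ↦ H^p(M ⊗^L F_x) on O_{X,x}-modules is right exact,
then x has an open neighbourhood U such that the functor M ↦ H^p(M ⊗^L (F restricted to U)) from
O_U-modules to O_U-modules is right exact. (The published statement is for a point of a locally
ringed topos and writes the functors as M ↦ H^p(E_x ⊗^L M) and M ↦ H^p(E|_U ⊗^L M); this row is the
case of a scheme, with the derived tensor products taken with the complex as the fixed right-hand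
factor.) -/
theorem result {X : Scheme.{u}} (F : CochainComplex X.Modules ℤ)
    (e : ℤ) [(DCoh.toD X F).IsLE e] (p : ℤ) (hE : DCoh.IsPseudoCoherentD p (DCoh.toD X F)) (x : X)
    [DRing.HasLTensorCx (X.presheaf.stalk x) (((DerSch.stalkFunctor X x).mapHomologicalComplex (ComplexShape.up ℤ)).obj F)]
    [PreservesFiniteColimits (DerivedCategory.singleFunctor (ModuleCat.{u} (X.presheaf.stalk x)) 0 ⋙ DRing.LTensorCx (X.presheaf.stalk x) (((DerSch.stalkFunctor X x).mapHomologicalComplex (ComplexShape.up ℤ)).obj F) ⋙ DerivedCategory.homologyFunctor (ModuleCat.{u} (X.presheaf.stalk x)) p)]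
    [∀ U : X.Opens, DCoh.HasLTensorCx ((DCoh.restrictCx U).obj F)] :
    ∃ U : X.Opens, x ∈ U ∧ PreservesFiniteColimits (DerivedCategory.singleFunctor (U : Scheme.{u}).Modules 0 ⋙ DCoh.LTensorCx ((DCoh.restrictCx U).obj F) ⋙ DerivedCategory.homologyFunctor (U : Scheme.{u}).Modules p) := by
  have hflat : ∀ n, FlatMod.IsFlat (((resX X).obj F).X n) := isFlat_resX F
  have hS0 := shortExact_testSC x
  haveI : Epi ((stkF x).map (testSC x).g) := haveI := hS0.epi_g; inferInstance
  let Φ := DerivedCategory.singleFunctor (ModuleCat.{u} (X.presheaf.stalk x)) 0 ⋙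
    DRing.LTensorCx (X.presheaf.stalk x) (((stkF x).mapHomologicalComplex (ComplexShape.up ℤ)).obj F) ⋙
      DerivedCategory.homologyFunctor (ModuleCat.{u} (X.presheaf.stalk x)) p
  haveI : PreservesFiniteColimits Φ := ‹_›
  have he : Epi (Φ.map ((stkF x).map (testSC x).g)) := inferInstance
  let θ := stkLTensorIso x F p
  have he' : Epi ((stkF x).map ((hT ((resX X).obj F) p).map (testSC x).g)) :=
    ((MorphismProperty.epimorphisms _).arrow_mk_iso_iff
      (Arrow.isoMk (θ.app _) (θ.app _) (θ.hom.naturality (testSC x).g).symm)).2 he
  obtain ⟨V, hxV, hV⟩ := exists_nhd_mono_hT F (p + 1) (by rwa [add_sub_cancel_right]) x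
    ((epi_stalk_hT_iff hflat hS0 x p (p + 1) rfl).1 he')
  refine ⟨V, hxV, ?_⟩
  let P := (resCx V.ι).obj ((resX X).obj F)
  have hP := isKFlat_resCx_resX V.ι F
  let ψ := homologyTensorIso ((DCoh.restrictCx V).obj F) P ((resCx V.ι).map ((resXπ X).app F))
    (by haveI := quasiIso_resXπ (X := X) F; infer_instance) hP.1 p
  suffices PreservesFiniteColimits (hT P p) from preservesFiniteColimits_of_natIso ψ.symm
  rw [Functor.preservesFiniteColimits_iff_forall_exact_map_and_epi]
  intro S hS
  refine ⟨(shortExact_tlF_map hP.2 hS).homology_exact₂ p, ?_⟩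
  have := epi_hT_pred hP.2 hS (p + 1) (hV S hS)
  rwa [add_sub_cancel_right] at this

end Groth.Agent.S6245
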