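import Groth.Statements.S6248
import Groth.Agent.DCohLib.HDirExact

set_option autoImplicit false
set_option backward.isDefEq.respectTransparency false
set_option maxHeartbeats 800000
universe u
open CategoryTheory CategoryTheory.Limits AlgebraicGeometry
attribute [local instance] HasDerivedCategory.standard
open KSix

namespace Groth.Agent.S6248

/-- Let Y be a Noetherian scheme, f : X ⟶ Y a proper morphism, p an integer, and E ∈ D^b(O_X), given by
a cochain complex F, perfect relative to f (pseudo-coherent relative to f in chart form and locally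
on X of finite stalkwise tor amplitude over the local rings of Y). The derived functors Lf^*, − ⊗^L
F and Rf_* and the derived pullbacks to the points Spec κ(y) ⟶ Y being assumed to exist: if the
functor M ↦ R^p f_*(Lf^* M ⊗^L F) is exact on the full subcategory of quasi-coherent O_Y-modules
(preserves finite limits and finite colimits there), then R^p f_*(E) = H^p(Rf_* E) is a finite
locally free O_Y-module and the function y ↦ dim_{κ(y)} H^p(Rf_* E ⊗^L κ(y)) is locally constant on
Y. (The published statement is for a proper morphism of quasi-compact schemes with Y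
quasi-separated, under the finiteness property for proper pseudo-coherent direct images, which holds
over a Noetherian base; it writes the functor as M ↦ R^p f_*(E ⊗_Y^L M) with E ⊗_Y^L M = E ⊗^L Lf^*
M, and this row takes the derived tensor product with F as the fixed right-hand factor.) -/
theorem result {X Y : Scheme.{u}} [IsNoetherian Y]
    (f : X ⟶ Y) [IsProper f] (F : CochainComplex X.Modules ℤ) (a b : ℤ) [(DCoh.toD X F).IsGE a]
    [(DCoh.toD X F).IsLE b] (hF : DerSch.IsPerfectRel f F) (p : ℤ) [DCoh.HasLpull f]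
    [DCoh.HasLTensorCx F] [DCoh.HasRpush f]
    [PreservesFiniteLimits ((QCohCat.isQCoh Y).ι ⋙ DerivedCategory.singleFunctor Y.Modules 0 ⋙ DCoh.Lpull f ⋙ DCoh.LTensorCx F ⋙ DCoh.Rpush f ⋙ DerivedCategory.homologyFunctor Y.Modules p)]
    [PreservesFiniteColimits ((QCohCat.isQCoh Y).ι ⋙ DerivedCategory.singleFunctor Y.Modules 0 ⋙ DCoh.Lpull f ⋙ DCoh.LTensorCx F ⋙ DCoh.Rpush f ⋙ DerivedCategory.homologyFunctor Y.Modules p)]
    [∀ y : Y, DCoh.HasLpull (Y.fromSpecResidueField y)] :
    FlatMod.IsFinLocFree (DCoh.HD ((DCoh.Rpush f).obj (DCoh.toD X F)) p) ∧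
      IsLocallyConstant (fun y : Y => PerfD.betti ((DCoh.Rpush f).obj (DCoh.toD X F)) y p) := by
  obtain ⟨G, hG, ⟨eG⟩, ⟨θ⟩⟩ := Groth.Agent.DCohLib.exists_hdir_model f F a hF.1 p
  let P := (Groth.Agent.DCohLib.resX Y).obj G
  let π := (Groth.Agent.DCohLib.resXπ Y).app G
  let ι := (QCohCat.isQCoh Y).ι
  let ψ := θ ≪≫ Functor.isoWhiskerLeft ι (Groth.Agent.DCohLib.homologyTensorIso G P π
    (Groth.Agent.DCohLib.quasiIso_resXπ G) (Groth.Agent.DCohLib.isKFlat_resX G) p)
  have hb : ∀ y, PerfD.betti (DCoh.toD Y G) y p = PerfD.betti ((DCoh.Rpush f).obj (DCoh.toD X F)) y p :=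
    fun y => Groth.Agent.DCohLib.betti_congr eG y p
  haveI := preservesFiniteLimits_of_natIso ψ
  haveI := preservesFiniteColimits_of_natIso ψ
  have h := Groth.Agent.DCohLib.flf_homology_of_exact G p (hG (p - 1)) (fun x => by
      obtain ⟨h₁, h₂, -⟩ := Groth.Agent.DCohLib.isQCoh_testSC x
      let A : QCohCat.QCoh Y := ⟨_, h₁⟩
      let B : QCohCat.QCoh Y := ⟨_, h₂⟩
      let g : A ⟶ B := ObjectProperty.homMk (Groth.Agent.DCohLib.testSC x).f
      haveI : Mono g := ι.mono_of_mono_map (Groth.Agent.DCohLib.shortExact_testSC x).mono_f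
      exact inferInstanceAs (Mono ((ι ⋙ Groth.Agent.DCohLib.hT P p).map g))) (fun x => by
      obtain ⟨-, h₂, h₃⟩ := Groth.Agent.DCohLib.isQCoh_testSC x
      let A : QCohCat.QCoh Y := ⟨_, h₂⟩
      let B : QCohCat.QCoh Y := ⟨_, h₃⟩
      let g : A ⟶ B := ObjectProperty.homMk (Groth.Agent.DCohLib.testSC x).g
      haveI : Epi g := ι.epi_of_epi_map (Groth.Agent.DCohLib.shortExact_testSC x).epi_g
      exact inferInstanceAs (Epi ((ι ⋙ Groth.Agent.DCohLib.hT P p).map g)))
  exact ⟨Groth.Agent.DCohLib.isFinLocFree_iso ((DerivedCategory.homologyFunctor Y.Modules p).mapIso eG) h.1,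
    by simpa only [hb] using h.2⟩

end Groth.Agent.S6248
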