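import Groth.Statements.S6249
import Groth.Agent.DerSchH7.SiteCrit
-- import your own Groth.Agent.* helpers here

set_option autoImplicit false
set_option backward.isDefEq.respectTransparency false
universe u
open CategoryTheory CategoryTheory.Limits AlgebraicGeometry
attribute [local instance] HasDerivedCategory.standard
open KSix

namespace Groth.Agent.S6249

/-- Let (C, J, O) be a small site with a sheaf of commutative rings O, Mod(O) the category of O-modules,
E ∈ D⁻(O) given by a cochain complex, and p an integer. Then, the derived tensor product − ⊗^L_O E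
being assumed to exist, the functor M ↦ H^p(M ⊗^L E) from Mod(O) to Mod(O) is right exact if and
only if the functor M ↦ H^{p+1}(M ⊗^L E) is left exact. (The published statement is for a
commutative ringed topos and writes E ⊗^L M; this row is the topos of sheaves on a small site, with
the derived tensor product taken with E as the fixed right-hand factor.) -/
theorem result {C : Type u} [SmallCategory C]
    {J : GrothendieckTopology C} (O : Sheaf J CommRingCat.{u}) (E : CochainComplex (ModSite.Mod O) ℤ)
    (e : ℤ) [(DerivedCategory.Q.obj E).IsLE e] (p : ℤ) [ModSite.HasLTensorCx E] :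
    PreservesFiniteColimits (DerivedCategory.singleFunctor (ModSite.Mod O) 0 ⋙ ModSite.LTensorCx E ⋙ DerivedCategory.homologyFunctor (ModSite.Mod O) p) ↔
      PreservesFiniteLimits (DerivedCategory.singleFunctor (ModSite.Mod O) 0 ⋙ ModSite.LTensorCx E ⋙ DerivedCategory.homologyFunctor (ModSite.Mod O) (p + 1)) := by
  let E' := (DCohLib.resF O).obj E
  haveI : ModSite.HasLTensorCx E' := DerSchH7.hasLTensorCx_site O E'
  obtain ⟨α⟩ := DerSchH7.nonempty_siteLTensor_of_qis O (E := E) (E' := E') ((DCohLib.resFπ O).app E)
    (DCohLib.quasiIso_resFπ O E)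
  have key : ∀ i : ℤ, Nonempty (DerivedCategory.singleFunctor (ModSite.Mod O) 0 ⋙ ModSite.LTensorCx E ⋙
      DerivedCategory.homologyFunctor (ModSite.Mod O) i ≅ DerSchH7.termTensor O E' ⋙
      HomologicalComplex.homologyFunctor (ModSite.Mod O) (ComplexShape.up ℤ) i) := fun i => by
    obtain ⟨β⟩ := DerSchH7.nonempty_homologyTensorIso O E' (DCohLib.isKFlat_resF O E) i
    exact ⟨Functor.isoWhiskerLeft _ (Functor.isoWhiskerRight α.symm _) ≪≫ β⟩
  obtain ⟨e₁⟩ := key p
  obtain ⟨e₂⟩ := key (p + 1)
  have h := DerSchH7.preservesFiniteColimits_termTensor_iff_limits O E' (DCohLib.isFlat_resF O E) p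
  constructor
  · intro h1
    haveI := h1
    haveI := h.1 (preservesFiniteColimits_of_natIso e₁)
    exact preservesFiniteLimits_of_natIso e₂.symm
  · intro h1
    haveI := h1
    haveI := h.2 (preservesFiniteLimits_of_natIso e₂)
    exact preservesFiniteColimits_of_natIso e₁.symm

end Groth.Agent.S6249
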