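import Groth.Statements.S6251
import Groth.Agent.DCohLib.HDirExact
import Groth.Agent.TwistShriek.ProjRel
import Groth.Agent.DerSchH7.RelQCoh

set_option autoImplicit false
set_option backward.isDefEq.respectTransparency false
set_option maxHeartbeats 800000
universe u
open CategoryTheory CategoryTheory.Limits AlgebraicGeometry
attribute [local instance] HasDerivedCategory.standard
open KSix

namespace Groth.Agent.S6251

/-- Let Y be a quasi-compact quasi-separated scheme, r a natural number, i : X ⟶ P^r_Y a closed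
immersion with f : X ⟶ Y its composite with the projection, p an integer, and E ∈ D^b(O_X), given by
a cochain complex F, perfect relative to f (pseudo-coherent relative to f in chart form and locally
on X of finite stalkwise tor amplitude over the local rings of Y). The derived functors Lf^*, − ⊗^L
F and Rf_* and the derived pullbacks to the points Spec κ(y) ⟶ Y being assumed to exist: if the
functor M ↦ R^p f_*(Lf^* M ⊗^L F) is exact on the full subcategory of quasi-coherent O_Y-modules
(preserves finite limits and finite colimits there), then H^p(Rf_* E) is a finite locally free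
O_Y-module and the function y ↦ dim_{κ(y)} H^p(Rf_* E ⊗^L κ(y)) is locally constant on Y. (The
published statement is for a proper morphism of quasi-compact schemes with Y quasi-separated, under
the finiteness property for proper pseudo-coherent direct images, which holds for projective
morphisms; it allows a closed immersion into P(M) with M quasi-coherent of finite type on Y, and
this row takes M free of rank r + 1; it writes the functor as M ↦ R^p f_*(E ⊗^L Lf^* M), and this
row takes the derived tensor product with F as the fixed right-hand factor.) -/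
theorem result {X Y : Scheme.{u}} [CompactSpace Y]
    [QuasiSeparatedSpace Y] (r : ℕ) (i : X ⟶ CohB1.ProjSpaceOver r Y) [IsClosedImmersion i]
    (F : CochainComplex X.Modules ℤ) (a b : ℤ) [(DCoh.toD X F).IsGE a] [(DCoh.toD X F).IsLE b]
    (hF : DerSch.IsPerfectRel (i ≫ CohB1.ProjSpaceOver.toBase r Y) F) (p : ℤ) [DCoh.HasLpull (i ≫ CohB1.ProjSpaceOver.toBase r Y)]
    [DCoh.HasLTensorCx F] [DCoh.HasRpush (i ≫ CohB1.ProjSpaceOver.toBase r Y)]
    [PreservesFiniteLimits ((QCohCat.isQCoh Y).ι ⋙ DerivedCategory.singleFunctor Y.Modules 0 ⋙ DCoh.Lpull (i ≫ CohB1.ProjSpaceOver.toBase r Y) ⋙ DCoh.LTensorCx F ⋙ DCoh.Rpush (i ≫ CohB1.ProjSpaceOver.toBase r Y) ⋙ DerivedCategory.homologyFunctor Y.Modules p)]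
    [PreservesFiniteColimits ((QCohCat.isQCoh Y).ι ⋙ DerivedCategory.singleFunctor Y.Modules 0 ⋙ DCoh.Lpull (i ≫ CohB1.ProjSpaceOver.toBase r Y) ⋙ DCoh.LTensorCx F ⋙ DCoh.Rpush (i ≫ CohB1.ProjSpaceOver.toBase r Y) ⋙ DerivedCategory.homologyFunctor Y.Modules p)]
    [∀ y : Y, DCoh.HasLpull (Y.fromSpecResidueField y)] :
    FlatMod.IsFinLocFree (DCoh.HD ((DCoh.Rpush (i ≫ CohB1.ProjSpaceOver.toBase r Y)).obj (DCoh.toD X F)) p) ∧
      IsLocallyConstant (fun y : Y => PerfD.betti ((DCoh.Rpush (i ≫ CohB1.ProjSpaceOver.toBase r Y)).obj (DCoh.toD X F)) y p) := by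
  have hq : DCoh.IsQCohD (DCoh.toD X F) := Groth.Agent.DerSchH7.isQCohD_of_relAll hF.1
  have hpc : ∀ m, DCoh.IsPseudoCoherentD m ((DCoh.Rpush (i ≫ CohB1.ProjSpaceOver.toBase r Y)).obj (DCoh.toD X F)) :=
    fun m => (Groth.Agent.RelPCLib.rel_id_iff m _).1 (Groth.Agent.TwistShriek.rel_rpush_proj (𝟙 Y) i _
      (by rw [Category.comp_id]; exact hF.1) m)
  obtain ⟨G, hG, ⟨eG⟩, ⟨θ⟩⟩ := Groth.Agent.DCohLib.exists_hdir_model_of_pc
    (i ≫ CohB1.ProjSpaceOver.toBase r Y) F hq hpc p
  let P := (Groth.Agent.DCohLib.resX Y).obj G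
  let π := (Groth.Agent.DCohLib.resXπ Y).app G
  let ι := (QCohCat.isQCoh Y).ι
  let ψ := θ ≪≫ Functor.isoWhiskerLeft ι (Groth.Agent.DCohLib.homologyTensorIso G P π
    (Groth.Agent.DCohLib.quasiIso_resXπ G) (Groth.Agent.DCohLib.isKFlat_resX G) p)
  have hb : ∀ y, PerfD.betti (DCoh.toD Y G) y p = PerfD.betti ((DCoh.Rpush (i ≫ CohB1.ProjSpaceOver.toBase r Y)).obj (DCoh.toD X F)) y p :=
    fun y => Groth.Agent.DCohLib.betti_congr eG y p
  haveI := preservesFiniteLimits_of_natIso ψ
  haveI := preservesFiniteColimits_of_natIso ψ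
  have h := Groth.Agent.DCohLib.flf_homology_of_exact G p (hG (p - 1)) (fun x => by
      obtain ⟨h₁, h₂, -⟩ := Groth.Agent.DCohLib.isQCoh_testSC x
      let A : QCohCat.QCoh Y := ⟨_, h₁⟩
      let B : QCohCat.QCoh Y := ⟨_, h₂⟩
      let g : A ⟶ B := ObjectProperty.homMk (Groth.Agent.DCohLib.testSC x).f
      haveI : Mono g := ι.mono_of_mono_map (Groth.Agent.DCohLib.shortExact_testSC x).mono_f
      exact inferInstanceAs (Mono ((ι ⋙ Groth.Agent.DCohLib.hT P p).map g))) (fun x => by
      obtain ⟨-, h₂, h₃⟩ := Groth.Agent.DCohLib.isQCoh_testSC x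
      let A : QCohCat.QCoh Y := ⟨_, h₂⟩
      let B : QCohCat.QCoh Y := ⟨_, h₃⟩
      let g : A ⟶ B := ObjectProperty.homMk (Groth.Agent.DCohLib.testSC x).g
      haveI : Epi g := ι.epi_of_epi_map (Groth.Agent.DCohLib.shortExact_testSC x).epi_g
      exact inferInstanceAs (Epi ((ι ⋙ Groth.Agent.DCohLib.hT P p).map g)))
  exact ⟨Groth.Agent.DCohLib.isFinLocFree_iso ((DerivedCategory.homologyFunctor Y.Modules p).mapIso eG) h.1,
    by simpa only [hb] using h.2⟩

end Groth.Agent.S6251
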