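import Groth.Statements.S6252
import Groth.Agent.DCohLib.HDirExact

set_option autoImplicit false
set_option backward.isDefEq.respectTransparency false
set_option maxHeartbeats 800000
universe u
open CategoryTheory CategoryTheory.Limits AlgebraicGeometry
attribute [local instance] HasDerivedCategory.standard
open KSix

namespace Groth.Agent.S6252

/-- Let Y be a Noetherian reduced scheme, f : X ⟶ Y a proper morphism, p an integer, and E ∈ D^b(O_X),
given by a cochain complex F, perfect relative to f (pseudo-coherent relative to f in chart form and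
locally on X of finite stalkwise tor amplitude over the local rings of Y). The derived functors
Lf^*, − ⊗^L F and Rf_* and the derived pullbacks to the points Spec κ(y) ⟶ Y being assumed to exist:
if the function y ↦ dim_{κ(y)} H^p(Rf_* E ⊗^L κ(y)) is locally constant on Y, then the functor M ↦
R^p f_*(Lf^* M ⊗^L F) is exact on the full subcategory of quasi-coherent O_Y-modules (preserves
finite limits and finite colimits there). (The published statement is for a proper morphism of
quasi-compact schemes under the finiteness property for proper pseudo-coherent direct images, which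
holds over a Noetherian base; it writes the functor as M ↦ R^p f_*(E ⊗^L Lf^* M), and this row takes
the derived tensor product with F as the fixed right-hand factor.) -/
theorem result {X Y : Scheme.{u}} [IsNoetherian Y]
    [IsReduced Y] (f : X ⟶ Y) [IsProper f] (F : CochainComplex X.Modules ℤ) (a b : ℤ)
    [(DCoh.toD X F).IsGE a] [(DCoh.toD X F).IsLE b] (hF : DerSch.IsPerfectRel f F) (p : ℤ)
    [DCoh.HasLpull f] [DCoh.HasLTensorCx F] [DCoh.HasRpush f]
    [∀ y : Y, DCoh.HasLpull (Y.fromSpecResidueField y)]
    (hc : IsLocallyConstant (fun y : Y => PerfD.betti ((DCoh.Rpush f).obj (DCoh.toD X F)) y p)) :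
    PreservesFiniteLimits ((QCohCat.isQCoh Y).ι ⋙ DerivedCategory.singleFunctor Y.Modules 0 ⋙ DCoh.Lpull f ⋙ DCoh.LTensorCx F ⋙ DCoh.Rpush f ⋙ DerivedCategory.homologyFunctor Y.Modules p) ∧ PreservesFiniteColimits ((QCohCat.isQCoh Y).ι ⋙ DerivedCategory.singleFunctor Y.Modules 0 ⋙ DCoh.Lpull f ⋙ DCoh.LTensorCx F ⋙ DCoh.Rpush f ⋙ DerivedCategory.homologyFunctor Y.Modules p) := by
  obtain ⟨G, hG, ⟨eG⟩, ⟨θ⟩⟩ := Groth.Agent.DCohLib.exists_hdir_model f F a hF.1 p
  let P := (Groth.Agent.DCohLib.resX Y).obj G
  let π := (Groth.Agent.DCohLib.resXπ Y).app G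
  let ι := (QCohCat.isQCoh Y).ι
  let ψ := θ ≪≫ Functor.isoWhiskerLeft ι (Groth.Agent.DCohLib.homologyTensorIso G P π
    (Groth.Agent.DCohLib.quasiIso_resXπ G) (Groth.Agent.DCohLib.isKFlat_resX G) p)
  have hb : ∀ y, PerfD.betti (DCoh.toD Y G) y p = PerfD.betti ((DCoh.Rpush f).obj (DCoh.toD X F)) y p :=
    fun y => Groth.Agent.DCohLib.betti_congr eG y p
  let H := Groth.Agent.DCohLib.hT P p
  have hc' : IsLocallyConstant (fun y : Y => PerfD.betti (DCoh.toD Y G) y p) := by simpa only [hb] using hc
  have hH : ∀ S : ShortComplex Y.Modules, S.ShortExact → (S.map H).ShortExact := fun S hS =>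
    Groth.Agent.DCohLib.shortExact_hT_of_betti G
      (@asIso _ _ _ _ _ (Groth.Agent.DCohLib.isIso_Q_resXπ G)) p (hG (p - 1)) hc' hS
  haveI : PreservesFiniteLimits H := H.preservesFiniteLimits_iff_forall_exact_map_and_mono.2
    fun S hS => ⟨(hH S hS).exact, (hH S hS).mono_f⟩
  haveI : PreservesFiniteColimits H := H.preservesFiniteColimits_iff_forall_exact_map_and_epi.2
    fun S hS => ⟨(hH S hS).exact, (hH S hS).epi_g⟩
  haveI : PreservesFiniteLimits (ι ⋙ H) := comp_preservesFiniteLimits _ _
  haveI : PreservesFiniteColimits (ι ⋙ H) := comp_preservesFiniteColimits _ _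
  exact ⟨preservesFiniteLimits_of_natIso ψ.symm, preservesFiniteColimits_of_natIso ψ.symm⟩

end Groth.Agent.S6252
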