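import Groth.Statements.S6262
import Groth.Agent.RelPCLib.ExtTensor
import Groth.Agent.DCohMore.RelAmp
import Groth.Agent.DerSchH7.RelQCoh

set_option autoImplicit false
universe u
open CategoryTheory CategoryTheory.Limits AlgebraicGeometry
attribute [local instance] HasDerivedCategory.standard
open KSix

set_option backward.isDefEq.respectTransparency false

namespace Groth.Agent.S6262

open Groth.Agent.RelPCLib

/-- Flat second factor: let S be a scheme and, for i = 1, 2, f_i : X_i ⟶ Y_i a morphism of S-schemes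
(structure morphisms q_i : Y_i ⟶ S), with X₂ and Y₂ flat over S; let X = X₁ ×_S X₂ and Y = Y₁ ×_S Y₂
be given by pullback squares, with projections p₁ : X ⟶ X₁, p₂ : X ⟶ X₂, and f : X ⟶ Y the morphism
compatible with the projections; assume f₁ and f₂ locally of finite type. Let E_i be a cochain
complex of O_{X_i}-modules with perfect amplitude in [a_i, b_i] relative to f_i (pseudo-coherent
relative to f_i in chart form and of stalkwise tor amplitude in [a_i, b_i] over the local rings of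
Y_i). The external derived tensor product E₁ ⊗^L_S E₂ = Lp₁^* E₁ ⊗^L Lp₂^* E₂ is written, the
derived pullbacks being assumed to exist, as Lp₁^* E₁ ⊗^L K₂ for any cochain complex K₂ representing
Lp₂^* E₂ for which the derived tensor product exists. Then E₁ ⊗^L_S E₂ has perfect amplitude in [a₁
+ a₂, b₁ + b₂] relative to f: every cochain complex representing it does; in particular f-perfect
when E₁, E₂ are f₁-, f₂-perfect. (The published statement assumes only that X₁, X₂ and Y₁, Y₂ are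
tor-independent over S; this row takes X₂ and Y₂ flat over S, which implies both conditions.) -/
theorem result {S X₁ Y₁ X₂ Y₂ X Y : Scheme.{u}} (f₁ : X₁ ⟶ Y₁) (q₁ : Y₁ ⟶ S)
    (f₂ : X₂ ⟶ Y₂) (q₂ : Y₂ ⟶ S) [Flat q₂] [Flat (f₂ ≫ q₂)]
    (pX₁ : X ⟶ X₁) (pX₂ : X ⟶ X₂) (hX : IsPullback pX₁ pX₂ (f₁ ≫ q₁) (f₂ ≫ q₂))
    (pY₁ : Y ⟶ Y₁) (pY₂ : Y ⟶ Y₂) (hY : IsPullback pY₁ pY₂ q₁ q₂)
    (f : X ⟶ Y) (hf₁ : f ≫ pY₁ = pX₁ ≫ f₁) (hf₂ : f ≫ pY₂ = pX₂ ≫ f₂)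
    [LocallyOfFiniteType f₁] [LocallyOfFiniteType f₂]
    (E₁ : CochainComplex X₁.Modules ℤ) (a₁ b₁ : ℤ) (h₁ : DerSch.HasPerfAmplitudeRel f₁ a₁ b₁ E₁)
    (E₂ : CochainComplex X₂.Modules ℤ) (a₂ b₂ : ℤ) (h₂ : DerSch.HasPerfAmplitudeRel f₂ a₂ b₂ E₂)
    [DCoh.HasLpull pX₁] [DCoh.HasLpull pX₂] :
    ∀ (K₂ : CochainComplex X.Modules ℤ) [DCoh.HasLTensorCx K₂],
      Nonempty (DCoh.toD X K₂ ≅ (DCoh.Lpull pX₂).obj (DCoh.toD X₂ E₂)) →
        ∀ K : CochainComplex X.Modules ℤ, Nonempty (DCoh.toD X K ≅ ((DCoh.LTensorCx K₂).obj ((DCoh.Lpull pX₁).obj (DCoh.toD X₁ E₁)))) →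
          DerSch.HasPerfAmplitudeRel f (a₁ + a₂) (b₁ + b₂) K := by
  intro K₂ _ e₂ K e
  obtain ⟨e₂⟩ := e₂
  obtain ⟨e⟩ := e
  haveI : (DCoh.toD X₁ E₁).IsLE b₁ := (DerivedCategory.isLE_Q_obj_iff _ _).2 ((CochainComplex.isLE_iff _ _).2 fun i hi =>
    Groth.Agent.DCohMore.exactAt_of_hasTorAmplitude h₁.2 i (Or.inr hi))
  haveI : (DCoh.toD X₂ E₂).IsLE b₂ := (DerivedCategory.isLE_Q_obj_iff _ _).2 ((CochainComplex.isLE_iff _ _).2 fun i hi =>
    Groth.Agent.DCohMore.exactAt_of_hasTorAmplitude h₂.2 i (Or.inr hi))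
  refine ⟨fun m => rel_of_iso f e.symm ?_,
    hasTorAmplitudeD_externalTensor f₁ q₁ f₂ q₂ hX hY hf₁ hf₂ E₁ h₁.2 E₂ h₂.2 K₂ e₂ K ⟨e⟩⟩
  have h := (rel_externalTensor f₁ q₁ f₂ q₂ hX hY hf₁ hf₂ E₁ (a₁ := m - b₂) (b₁ := b₁)
    (Groth.Agent.DerSchH7.isQCohD_of_relAll h₁.1) (h₁.1 _) E₂ (a₂ := m - b₁) (b₂ := b₂)
    (Groth.Agent.DerSchH7.isQCohD_of_relAll h₂.1) (h₂.1 _) K₂ e₂).1
  rwa [show max (m - b₂ + b₂) (m - b₁ + b₁) = m by omega] at h

end Groth.Agent.S6262
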