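import Groth.Statements.S6263

set_option autoImplicit false
universe u
open CAlg

namespace Groth.Agent.S6263

/-- For a ring map R → S and a finite S-module N which is flat as an R-module, generalizations lift
along the map from the support of N (a subset of Spec S) to Spec R: if p ≤ p' are primes of R and q'
is a prime of S in the support of N whose inverse image in R is p', then some prime q ≤ q' of S lies
in the support of N and has inverse image p. -/
theorem result {R S : Type u} [CommRing R] [CommRing S] [Algebra R S] (N : Type u) [AddCommGroup N] [Module S N] [Module R N] [IsScalarTower R S N] [Module.Finite S N] [Module.Flat R N] (p p' : Ideal R) [p.IsPrime] [p'.IsPrime] (hle : p ≤ p') (q' : PrimeSpectrum S) (hq' : q' ∈ Module.support S N) (hover : q'.asIdeal.under R = p') : ∃ q : PrimeSpectrum S, q ≤ q' ∧ q ∈ Module.support S N ∧ q.asIdeal.under R = p := by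
  let I : Ideal S := p.map (algebraMap R S)
  let K : Submodule S N := I • ⊤
  have hIq : I ≤ q'.asIdeal := Ideal.map_le_iff_le_comap.mpr (hle.trans hover.ge)
  have hsupp : q' ∈ Module.support S (N ⧸ K) := by
    rw [Module.support_quotient]; exact ⟨hq', hIq⟩
  obtain ⟨z, hz⟩ := Module.mem_support_iff'.mp hsupp
  have htors : ∀ s ∉ p, ∀ w : N ⧸ K, algebraMap R S s • w = 0 → w = 0 := by
    intro s hs w hw
    obtain ⟨y, rfl⟩ := K.mkQ_surjective w
    rw [← map_smul, Submodule.mkQ_apply, Submodule.Quotient.mk_eq_zero] at hw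
    rw [Submodule.mkQ_apply, Submodule.Quotient.mk_eq_zero]
    have hres : K.restrictScalars R = p • (⊤ : Submodule R N) := by
      rw [Submodule.restrictScalars_map_smul_eq, Submodule.restrictScalars_top]
    rw [← Submodule.restrictScalars_mem R, hres] at hw ⊢
    rw [algebraMap_smul] at hw
    let f : R ⧸ p →ₗ[R] R ⧸ p := LinearMap.lsmul R (R ⧸ p) s
    have hf : Function.Injective f := by
      rw [injective_iff_map_eq_zero]
      intro c hc
      obtain ⟨r, rfl⟩ := Ideal.Quotient.mk_surjective c
      have hc' : Ideal.Quotient.mk p (s * r) = 0 := hc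
      rw [Ideal.Quotient.eq_zero_iff_mem] at hc' ⊢
      exact (Ideal.IsPrime.mem_or_mem inferInstance hc').resolve_left hs
    have hinj := Module.Flat.rTensor_preserves_injective_linearMap (M := N) f hf
    let e := TensorProduct.quotTensorEquivQuotSMul N p
    have h1 : f.rTensor N ((Ideal.Quotient.mk p 1) ⊗ₜ[R] y) = 0 := by
      apply e.injective
      rw [LinearMap.rTensor_tmul, map_zero]
      show e (Ideal.Quotient.mk p (s * 1) ⊗ₜ[R] y) = 0
      rw [TensorProduct.quotTensorEquivQuotSMul_mk_tmul, mul_one]
      exact (Submodule.Quotient.mk_eq_zero _).mpr hw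
    have h2 := congrArg e ((map_eq_zero_iff _ hinj).mp h1)
    rw [TensorProduct.quotTensorEquivQuotSMul_mk_tmul, map_zero, one_smul, Submodule.Quotient.mk_eq_zero] at h2
    exact h2
  let T := Algebra.algebraMapSubmonoid S p.primeCompl ⊔ q'.asIdeal.primeCompl
  let A := (Submodule.span S {z}).annihilator
  obtain ⟨q, hq, hAq, hdisj⟩ := Ideal.exists_le_prime_disjoint A T (by
    rw [Set.disjoint_left]
    intro x hxA hxT
    obtain ⟨_, ⟨s, hs, rfl⟩, t, ht, rfl⟩ := Submonoid.mem_sup.mp hxT
    have h0 := (Submodule.mem_annihilator_span_singleton _ _).mp hxA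
    rw [mul_smul] at h0
    exact hz t ht (htors s hs _ h0))
  have hqle : q ≤ q'.asIdeal := fun x hx => by_contra fun h => Set.disjoint_left.mp hdisj hx (Submonoid.mem_sup_right h)
  refine ⟨⟨q, hq⟩, hqle, ?_, ?_⟩
  · obtain ⟨y, rfl⟩ := K.mkQ_surjective z
    rw [Module.mem_support_iff_exists_annihilator]
    refine ⟨y, le_trans (fun x hx => ?_) hAq⟩
    rw [Submodule.mem_annihilator_span_singleton] at hx ⊢
    rw [← map_smul, hx, map_zero]
  · refine le_antisymm (fun r hr => by_contra fun h => Set.disjoint_left.mp hdisj hr (Submonoid.mem_sup_left ⟨r, h, rfl⟩)) ?_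
    intro r hr
    refine hAq ((Submodule.mem_annihilator_span_singleton _ _).mpr ?_)
    obtain ⟨y, rfl⟩ := K.mkQ_surjective z
    rw [← map_smul, Submodule.mkQ_apply, Submodule.Quotient.mk_eq_zero]
    exact Submodule.smul_mem_smul (Ideal.mem_map_of_mem _ hr) Submodule.mem_top

end Groth.Agent.S6263
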