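import Groth.Statements.S6264

set_option autoImplicit false
universe u
open CAlg

namespace Groth.Agent.S6264

/-- Let R → S be a ring map with the going-up property and p a prime of R such that exactly one prime q
of S lies over p. Then the localization S_p of S at the image of R - p is a localization of S at q,
i.e. S_p = S_q. -/
theorem result {R S : Type u} [CommRing R] [CommRing S] [Algebra R S] [Algebra.HasGoingUp R S] (p : Ideal R) [p.IsPrime] (q : Ideal S) [q.IsPrime] [q.LiesOver p] (huniq : ∀ q' : Ideal S, q'.IsPrime → q'.under R = p → q' = q) : IsLocalization.AtPrime (Localization (Algebra.algebraMapSubmonoid S p.primeCompl)) q := by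
  have hmax : ∀ q' : Ideal S, q'.IsPrime → Disjoint (↑(Algebra.algebraMapSubmonoid S p.primeCompl) : Set S) q' → q' ≤ q := by
    intro q' hq' hd
    have h1 : q'.under R ≤ p := fun r hr => by_contra fun hrp => Set.disjoint_left.mp hd ⟨r, hrp, rfl⟩ hr
    rcases h1.lt_or_eq with h2 | h2
    · obtain ⟨Q, hQ, hQp, hQl⟩ := Algebra.HasGoingUp.exists_ideal_ge_liesOver_of_lt q' h2
      exact huniq Q hQp hQl.over.symm ▸ hQ
    · exact le_of_eq (huniq q' hq' h2)
  refine IsLocalization.isLocalization_of_is_exists_mul_mem _ (Algebra.algebraMapSubmonoid S p.primeCompl) q.primeCompl ?_ ?_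
  · rintro _ ⟨r, hr, rfl⟩ hrq
    exact hr (Ideal.LiesOver.over (p := p) (P := q) ▸ hrq)
  · rintro ⟨x, hx⟩
    by_contra hc
    push Not at hc
    obtain ⟨q', hq', hle, hd⟩ := Ideal.exists_le_prime_disjoint (Ideal.span {x}) (Algebra.algebraMapSubmonoid S p.primeCompl) (by
      rw [Set.disjoint_left]
      intro y hy hyM
      obtain ⟨m, rfl⟩ := Ideal.mem_span_singleton'.mp hy
      exact hc m hyM)
    exact hx (hmax q' hq' hd.symm (hle (Ideal.mem_span_singleton_self x)))

end Groth.Agent.S6264
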