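import Groth.Statements.S6265

set_option autoImplicit false
universe u
open CAlg

namespace Groth.Agent.S6265

/-- Let R → S be a ring map with the going-down property such that over every prime of R lies at most
one prime of S, and let p be a prime of R and q a prime of S above it. Then the localization S_p of
S at the image of R - p is a localization of S at q, i.e. S_p = S_q. -/
theorem result {R S : Type u} [CommRing R] [CommRing S] [Algebra R S] [Algebra.HasGoingDown R S] (hinj : ∀ q₁ q₂ : Ideal S, q₁.IsPrime → q₂.IsPrime → q₁.under R = q₂.under R → q₁ = q₂) (p : Ideal R) [p.IsPrime] (q : Ideal S) [q.IsPrime] [q.LiesOver p] : IsLocalization.AtPrime (Localization (Algebra.algebraMapSubmonoid S p.primeCompl)) q := by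
  have hmax : ∀ q' : Ideal S, q'.IsPrime → Disjoint (↑(Algebra.algebraMapSubmonoid S p.primeCompl) : Set S) q' → q' ≤ q := by
    intro q' hq' hd
    have h1 : q'.under R ≤ p := fun r hr => by_contra fun hrp => Set.disjoint_left.mp hd ⟨r, hrp, rfl⟩ hr
    obtain ⟨P, hP, hPp, hPl⟩ := Ideal.exists_ideal_le_liesOver_of_le (p := q'.under R) (q := p) q h1
    rw [hinj q' P hq' hPp hPl.over]
    exact hP
  refine IsLocalization.isLocalization_of_is_exists_mul_mem _ (Algebra.algebraMapSubmonoid S p.primeCompl) q.primeCompl ?_ ?_
  · rintro _ ⟨r, hr, rfl⟩ hrq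
    exact hr (Ideal.LiesOver.over (p := p) (P := q) ▸ hrq)
  · rintro ⟨x, hx⟩
    by_contra hc
    push Not at hc
    obtain ⟨q', hq', hle, hd⟩ := Ideal.exists_le_prime_disjoint (Ideal.span {x}) (Algebra.algebraMapSubmonoid S p.primeCompl) (by
      rw [Set.disjoint_left]
      intro y hy hyM
      obtain ⟨m, rfl⟩ := Ideal.mem_span_singleton'.mp hy
      exact hc m hyM)
    exact hx (hmax q' hq' hd.symm (hle (Ideal.mem_span_singleton_self x)))

end Groth.Agent.S6265
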