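import Groth.Statements.S6267
import Groth.Agent.CAlgBasics.MittagLefflerApps
import Groth.Agent.CAlgBasics.UnivInj

set_option autoImplicit false
universe u
open CAlg

namespace Groth.Agent.S6267

/-- Let R be a ring and f : M → M' a map of R-modules with M' flat. Then f is universally injective
exactly when, for each finitely generated ideal I of R, the induced map M ⊗ R/I → M' ⊗ R/I (that is,
M/IM → M'/IM') is injective. -/
theorem result {R : Type u} [CommRing R] {M M' : Type u} [AddCommGroup M] [Module R M] [AddCommGroup M'] [Module R M'] [Module.Flat R M'] (f : M →ₗ[R] M') : CAlgX.UniversallyInjective R f ↔ ∀ I : Ideal R, I.FG → Function.Injective (f.rTensor (R ⧸ I)) := by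
  refine ⟨fun h I _ => h (R ⧸ I), fun H => ?_⟩
  have hf : Function.Injective f := by
    intro a b hab
    apply ((TensorProduct.tensorQuotEquivQuotSMul M (⊥ : Ideal R)).symm.injective.comp
      (show Function.Injective (Submodule.Quotient.mk (p := ((⊥ : Ideal R) • ⊤ : Submodule R M))) from fun p q h => by
        rw [Submodule.Quotient.eq, Submodule.bot_smul, Submodule.mem_bot, sub_eq_zero] at h; exact h))
    apply H ⊥ Submodule.fg_bot
    simp only [Function.comp_apply, TensorProduct.tensorQuotEquivQuotSMul_symm_mk, LinearMap.rTensor_tmul, hab]
  haveI := Groth.Agent.CAlgBasics.flat_coker_of_injective_rTensor_quotient (LinearMap.exact_map_mkQ_range f)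
    (Submodule.mkQ_surjective _) H
  exact Groth.Agent.CAlgBasics.universallyInjective_of_flat_coker hf (LinearMap.exact_map_mkQ_range f)
    (Submodule.mkQ_surjective _)

end Groth.Agent.S6267
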