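import Groth.Statements.S6271
import Mathlib

set_option autoImplicit false
universe u
open scoped TensorProduct
open CAlg

namespace Groth.Agent.S6271

/-- Let R be a ring, I ⊆ R a locally nilpotent ideal (every element of I is nilpotent) and P̄ a finite
projective R/I-module. Then there is a finite projective R-module P such that P/IP (that is, R/I ⊗
P) is isomorphic to P̄ as an R/I-module. -/
theorem result {R : Type u} [CommRing R] (I : Ideal R) (hI : ∀ x ∈ I, IsNilpotent x) (Pb : Type u) [AddCommGroup Pb] [Module (R ⧸ I) Pb] [Module.Projective (R ⧸ I) Pb] [Module.Finite (R ⧸ I) Pb] : ∃ (P : Type u) (_ : AddCommGroup P) (_ : Module R P), Module.Projective R P ∧ Module.Finite R P ∧ Nonempty (((R ⧸ I) ⊗[R] P) ≃ₗ[R ⧸ I] Pb) := by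
  classical
  obtain ⟨n, p, hp⟩ := Module.Finite.exists_fin' (R ⧸ I) Pb
  obtain ⟨i, hi⟩ := Module.projective_lifting_property p LinearMap.id hp
  have hip : ∀ y, p (i y) = y := fun y => LinearMap.congr_fun hi y
  let mk : R →+* R ⧸ I := Ideal.Quotient.mk I
  let F : Matrix (Fin n) (Fin n) R →+* Matrix (Fin n) (Fin n) (R ⧸ I) := mk.mapMatrix
  have hFs : Function.Surjective F := fun A => by
    choose B hB using fun a b => Ideal.Quotient.mk_surjective (A a b)
    exact ⟨B, Matrix.ext fun a b => hB a b⟩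
  have hnil : ∀ x ∈ RingHom.ker F, IsNilpotent x := by
    intro x hx
    let J : Ideal R := Ideal.span (Set.range fun ab : Fin n × Fin n => x ab.1 ab.2)
    have hJI : J ≤ nilradical R := Ideal.span_le.mpr <| by
      rintro _ ⟨⟨a, b⟩, rfl⟩
      exact hI _ (Ideal.Quotient.eq_zero_iff_mem.mp ((Matrix.ext_iff.mpr (RingHom.mem_ker.mp hx)) a b))
    obtain ⟨k, hk⟩ := Ideal.exists_pow_le_of_le_radical_of_fg (J := (⊥ : Ideal R)) hJI
      (Submodule.fg_span (Set.finite_range _))
    have hpow : ∀ m a b, (x ^ m) a b ∈ J ^ m := by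
      intro m
      induction m with
      | zero => simp
      | succ m ih =>
        intro a b
        rw [show x ^ (m + 1) = x ^ m * x from pow_succ x m, pow_succ]
        change (Matrix.of fun i j => ∑ c, (x ^ m) i c * x c j) a b ∈ _
        rw [Matrix.of_apply]
        exact Ideal.sum_mem _ fun c _ => Ideal.mul_mem_mul (J := J) (ih a c) (Ideal.subset_span (s := Set.range fun ab : Fin n × Fin n => x ab.1 ab.2) ⟨(c, b), rfl⟩)
    exact ⟨k, Matrix.ext fun a b => Ideal.mem_bot.mp (hk (hpow k a b))⟩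
  let E : Matrix (Fin n) (Fin n) (R ⧸ I) := LinearMap.toMatrix' (i ∘ₗ p)
  have hE : IsIdempotentElem E := by
    change E * E = E
    rw [← LinearMap.toMatrix'_comp]
    congr 1
    exact LinearMap.ext fun v => by simp [hip]
  obtain ⟨e, he, hFe⟩ := exists_isIdempotentElem_eq_of_ker_isNilpotent F hnil E (hFs E) hE
  let T : (Fin n → R) →ₗ[R] (Fin n → R) := Matrix.toLin' e
  have hTT : ∀ v, T (T v) = T v := fun v => by
    simp only [T, Matrix.toLin'_apply, Matrix.mulVec_mulVec]
    rw [he.eq]
  let π : (Fin n → R) →ₗ[R] LinearMap.range T := T.rangeRestrict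
  have hπ : ∀ x : LinearMap.range T, π x = x := by
    rintro ⟨_, v, rfl⟩
    exact Subtype.ext (hTT v)
  haveI : Module.Projective R (LinearMap.range T) :=
    Module.Projective.of_split (LinearMap.range T).subtype π (LinearMap.ext hπ)
  letI : Module R Pb := Module.compHom Pb mk
  haveI : IsScalarTower R (R ⧸ I) Pb := IsScalarTower.of_algebraMap_smul fun _ _ => rfl
  let red : (Fin n → R) →ₗ[R] (Fin n → R ⧸ I) := (Algebra.linearMap R (R ⧸ I)).compLeft (Fin n)
  have hred : ∀ v, red (T v) = i (p (red v)) := by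
    intro v
    change red (Matrix.toLin' e v) = (i ∘ₗ p) (red v)
    rw [show i ∘ₗ p = Matrix.toLin' E from (Matrix.toLin'_toMatrix' _).symm, ← hFe]
    funext a
    simp only [Matrix.toLin'_apply]
    exact RingHom.map_mulVec mk e v a
  let Φ : (R ⧸ I) ⊗[R] LinearMap.range T →ₗ[R ⧸ I] Pb :=
    ((p.restrictScalars R) ∘ₗ red ∘ₗ (LinearMap.range T).subtype).liftBaseChange (R ⧸ I)
  let Ψ : Pb →ₗ[R ⧸ I] (R ⧸ I) ⊗[R] LinearMap.range T :=
    (Fintype.linearCombination (R ⧸ I) fun j => (1 : R ⧸ I) ⊗ₜ[R] π (Pi.single j 1)) ∘ₗ i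
  have hsum : ∀ v, ∑ j, red v j • ((1 : R ⧸ I) ⊗ₜ[R] π (Pi.single j 1)) = (1 : R ⧸ I) ⊗ₜ[R] π v := by
    intro v
    conv_rhs => rw [pi_eq_sum_univ' v, map_sum, TensorProduct.tmul_sum]
    refine Finset.sum_congr rfl fun j _ => ?_
    rw [map_smul, TensorProduct.tmul_smul]
    exact algebraMap_smul (R ⧸ I) (v j) _
  refine ⟨LinearMap.range T, inferInstance, inferInstance, inferInstance, Module.Finite.range T,
    ⟨LinearEquiv.ofLinearMap Φ Ψ (LinearMap.ext fun y => ?_) (LinearMap.ext fun z => ?_)⟩⟩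
  · obtain ⟨v, hv⟩ : ∃ v, red v = i y := by
      choose v hv using fun j => Ideal.Quotient.mk_surjective (i y j)
      exact ⟨v, funext hv⟩
    simp only [LinearMap.comp_apply, LinearMap.id_apply, Ψ, Fintype.linearCombination_apply, ← hv]
    rw [hsum]
    simp only [Φ, LinearMap.liftBaseChange_tmul, one_smul, LinearMap.comp_apply, LinearMap.restrictScalars_apply,
      Submodule.subtype_apply, π]
    change p (red (T v)) = y
    rw [hred, hip, hv, hip]
  · induction z with
    | zero => simp
    | add a b ha hb => simp only [map_add, ha, hb]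
    | tmul c x =>
      have hc : c ⊗ₜ[R] x = c • ((1 : R ⧸ I) ⊗ₜ[R] x) := by rw [TensorProduct.smul_tmul', smul_eq_mul, mul_one]
      rw [hc, map_smul, map_smul, LinearMap.id_apply]
      congr 1
      simp only [LinearMap.comp_apply, Φ, LinearMap.liftBaseChange_tmul, one_smul, Ψ,
        Fintype.linearCombination_apply, LinearMap.restrictScalars_apply, Submodule.subtype_apply]
      rw [← hred, hsum]
      congr 1
      change T.rangeRestrict (T x) = x
      obtain ⟨x, v, rfl⟩ := x
      exact Subtype.ext (by simp [hTT])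

end Groth.Agent.S6271
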