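import Groth.Statements.S6272
import Groth.Agent.CAlgBasics.ProjModIdeal

set_option autoImplicit false
universe u
open scoped TensorProduct
open CAlg

namespace Groth.Agent.S6272

/-- Over a ring R, take two ideals I and J meeting in zero (I ∩ J = 0) and an R-module P. If the
R/I-module P/IP (that is, R/I ⊗ P) and the R/J-module P/JP (that is, R/J ⊗ P) are both projective,
then P itself is projective over R. -/
theorem result {R : Type u} [CommRing R] (I J : Ideal R) (hIJ : I ⊓ J = ⊥) (P : Type u) [AddCommGroup P] [Module R P] (hI : Module.Projective (R ⧸ I) ((R ⧸ I) ⊗[R] P)) (hJ : Module.Projective (R ⧸ J) ((R ⧸ J) ⊗[R] P)) : Module.Projective R P := by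
  classical
  let π : (P →₀ R) →ₗ[R] P := Finsupp.linearCombination R id
  have hπ : Function.Surjective π := Finsupp.linearCombination_id_surjective R P
  let F := P →₀ R
  have surjQ : ∀ A : Ideal R, Function.Surjective ((A • ⊤ : Submodule R F).mapQ (A • ⊤ : Submodule R P) π (Groth.Agent.CAlgBasics.map_smul_top_le A π)) := fun A y => by
    obtain ⟨m, rfl⟩ := Submodule.mkQ_surjective _ y
    obtain ⟨v, rfl⟩ := hπ m
    exact ⟨Submodule.Quotient.mk v, rfl⟩
  obtain ⟨sI, hsI⟩ := Groth.Agent.CAlgBasics.exists_lift_of_projective_mod I hI _ (surjQ I)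
    (Groth.Agent.CAlgBasics.smul_quotient_smul_top_eq_zero I) (I • ⊤ : Submodule R P).mkQ
  obtain ⟨sJ, hsJ⟩ := Groth.Agent.CAlgBasics.exists_lift_of_projective_mod J hJ _ (surjQ J)
    (Groth.Agent.CAlgBasics.smul_quotient_smul_top_eq_zero J) (J • ⊤ : Submodule R P).mkQ
  let πJ := (J • ⊤ : Submodule R F).mapQ (J • ⊤ : Submodule R P) π (Groth.Agent.CAlgBasics.map_smul_top_le J π)
  let πK := ((I ⊔ J) • ⊤ : Submodule R F).mapQ ((I ⊔ J) • ⊤ : Submodule R P) π (Groth.Agent.CAlgBasics.map_smul_top_le (I ⊔ J) π)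
  let qI := Submodule.factor (show (I • ⊤ : Submodule R F) ≤ (I ⊔ J) • ⊤ from Submodule.smul_mono_left le_sup_left)
  let qJ := Submodule.factor (show (J • ⊤ : Submodule R F) ≤ (I ⊔ J) • ⊤ from Submodule.smul_mono_left le_sup_right)
  let δ : P →ₗ[R] LinearMap.ker πK := (qI.comp sI - qJ.comp sJ).codRestrict _ fun p => by
    obtain ⟨a, ha⟩ := Submodule.mkQ_surjective _ (sI p)
    obtain ⟨b, hb⟩ := Submodule.mkQ_surjective _ (sJ p)
    have h1 := LinearMap.congr_fun hsI p
    have h2 := LinearMap.congr_fun hsJ p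
    rw [LinearMap.comp_apply, ← ha] at h1
    rw [LinearMap.comp_apply, ← hb] at h2
    rw [LinearMap.mem_ker, LinearMap.sub_apply, LinearMap.comp_apply, LinearMap.comp_apply, ← ha, ← hb]
    show Submodule.Quotient.mk (π (a - b)) = 0
    rw [Submodule.Quotient.mk_eq_zero, map_sub, Submodule.sup_smul, show π a - π b = (π a - p) - (π b - p) by abel]
    exact sub_mem (Submodule.mem_sup_left ((Submodule.Quotient.eq _).mp h1)) (Submodule.mem_sup_right ((Submodule.Quotient.eq _).mp h2))
  let g : LinearMap.ker πJ →ₗ[R] LinearMap.ker πK := qJ.restrict fun x hx => by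
    obtain ⟨a, rfl⟩ := Submodule.mkQ_surjective _ x
    rw [LinearMap.mem_ker] at hx ⊢
    show Submodule.Quotient.mk (π a) = 0
    rw [Submodule.Quotient.mk_eq_zero, Submodule.sup_smul]
    exact Submodule.mem_sup_right ((Submodule.Quotient.mk_eq_zero _).mp hx)
  have hg : Function.Surjective g := by
    rintro ⟨y, hy⟩
    obtain ⟨x, rfl⟩ := Submodule.mkQ_surjective _ y
    have h1 : π x ∈ ((I ⊔ J) • ⊤ : Submodule R P) := (Submodule.Quotient.mk_eq_zero _).mp hy
    rw [Submodule.sup_smul, Submodule.mem_sup] at h1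
    obtain ⟨u, hu, w, hw, huw⟩ := h1
    have himg : (I • ⊤ : Submodule R P) = Submodule.map π (I • ⊤) := by
      rw [Submodule.map_smul'', Submodule.map_top, LinearMap.range_eq_top.mpr hπ]
    rw [himg] at hu
    obtain ⟨a, ha, rfl⟩ := hu
    refine ⟨⟨Submodule.Quotient.mk (x - a), ?_⟩, Subtype.ext ?_⟩
    · show Submodule.Quotient.mk (π (x - a)) = 0
      rw [Submodule.Quotient.mk_eq_zero, map_sub, ← huw, add_sub_cancel_left]
      exact hw
    · show Submodule.Quotient.mk (x - a) = Submodule.Quotient.mk x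
      rw [Submodule.Quotient.eq, sub_sub_cancel_left]
      exact neg_mem (Submodule.smul_mono_left le_sup_left ha)
  obtain ⟨δ', hδ'⟩ := Groth.Agent.CAlgBasics.exists_lift_of_projective_mod J hJ g hg
    (fun r hr y => Subtype.ext (Groth.Agent.CAlgBasics.smul_quotient_smul_top_eq_zero J r hr y.1)) δ
  let sJ' : P →ₗ[R] F ⧸ (J • ⊤ : Submodule R F) := sJ + (LinearMap.ker πJ).subtype.comp δ'
  let Ψ : F →ₗ[R] (F ⧸ (I • ⊤ : Submodule R F)) × (F ⧸ (J • ⊤ : Submodule R F)) :=
    (I • ⊤ : Submodule R F).mkQ.prod (J • ⊤ : Submodule R F).mkQ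
  have hΨ : Function.Injective Ψ := by
    rw [injective_iff_map_eq_zero]
    intro v hv
    have hv : v ∈ (I • ⊤ : Submodule R F) ∧ v ∈ (J • ⊤ : Submodule R F) :=
      ⟨(Submodule.Quotient.mk_eq_zero _).mp (congrArg Prod.fst hv), (Submodule.Quotient.mk_eq_zero _).mp (congrArg Prod.snd hv)⟩
    ext i
    have hc : ∀ A : Ideal R, v ∈ (A • ⊤ : Submodule R F) → v i ∈ A := fun A h =>
      Submodule.smul_induction_on h (fun r hr z _ => by rw [Finsupp.smul_apply, smul_eq_mul]; exact Ideal.mul_mem_right _ _ hr) (fun a b ha hb => by rw [Finsupp.add_apply]; exact add_mem ha hb)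
    have h := Submodule.mem_inf.mpr ⟨hc I hv.1, hc J hv.2⟩
    rw [hIJ, Submodule.mem_bot] at h
    exact h
  have hmem : ∀ p, (sI p, sJ' p) ∈ LinearMap.range Ψ := by
    intro p
    obtain ⟨a, ha⟩ := Submodule.mkQ_surjective _ (sI p)
    obtain ⟨b, hb⟩ := Submodule.mkQ_surjective _ (sJ' p)
    have h1 : qI (sI p) = qJ (sJ' p) := by
      have := congrArg Subtype.val (LinearMap.congr_fun hδ' p)
      simp only [g, δ, LinearMap.comp_apply, LinearMap.coe_restrict_apply, LinearMap.codRestrict_apply, LinearMap.sub_apply] at this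
      simp only [sJ', LinearMap.add_apply, LinearMap.comp_apply, map_add, Submodule.coe_subtype]
      rw [this]; abel
    rw [← ha, ← hb] at h1
    have h2 := (Submodule.Quotient.eq _).mp h1
    rw [Submodule.sup_smul, Submodule.mem_sup] at h2
    obtain ⟨i, hi, j, hj, hij⟩ := h2
    refine ⟨a - i, Prod.ext ?_ ?_⟩
    · show Submodule.Quotient.mk (a - i) = sI p
      rw [← ha, Submodule.mkQ_apply, Submodule.Quotient.eq, sub_sub_cancel_left]
      exact neg_mem hi
    · show Submodule.Quotient.mk (a - i) = sJ' p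
      rw [← hb, Submodule.mkQ_apply, Submodule.Quotient.eq, show a - i - b = j by rw [show a - i - b = (LinearMap.id (R := R) a - LinearMap.id (R := R) b) - i by simp; abel]; simp only [LinearMap.id_apply] at *; rw [← hij]; abel]
      exact hj
  let s : P →ₗ[R] F := (LinearEquiv.ofInjective Ψ hΨ).symm.toLinearMap.comp ((sI.prod sJ').codRestrict _ hmem)
  have hs : ∀ p, Ψ (s p) = (sI p, sJ' p) := fun p => by
    simp only [s, LinearMap.comp_apply, LinearEquiv.coe_coe, LinearEquiv.ofInjective_symm_apply, LinearMap.codRestrict_apply]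
    rfl
  let d : P →ₗ[R] P := π.comp s - LinearMap.id
  have hdI : ∀ p, d p ∈ (I • ⊤ : Submodule R P) := fun p => by
    have h1 := LinearMap.congr_fun hsI p
    have e1 : Submodule.Quotient.mk (s p) = sI p := congrArg Prod.fst (hs p)
    rw [LinearMap.comp_apply, ← e1] at h1
    exact (Submodule.Quotient.eq _).mp h1
  have hdJ : ∀ p, d p ∈ (J • ⊤ : Submodule R P) := fun p => by
    have h1 := LinearMap.congr_fun hsJ p
    have h2 : πJ (sJ' p) = πJ (sJ p) := by
      simp only [sJ', LinearMap.add_apply, LinearMap.comp_apply, map_add, Submodule.coe_subtype, LinearMap.mem_ker.mp (δ' p).2, add_zero]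
    rw [LinearMap.comp_apply] at h1
    have h3 : πJ (sJ' p) = Submodule.Quotient.mk p := h2.trans h1
    have e2 : Submodule.Quotient.mk (s p) = sJ' p := congrArg Prod.snd (hs p)
    rw [← e2] at h3
    exact (Submodule.Quotient.eq _).mp h3
  have hdd : ∀ p, d (d p) = 0 := fun p => by
    have h1 : d (d p) ∈ (I • ⊤ : Submodule R P).map d := Submodule.mem_map_of_mem (hdI p)
    rw [Submodule.map_smul''] at h1
    have h2 := (Submodule.smul_mono le_rfl (show Submodule.map d ⊤ ≤ (J • ⊤ : Submodule R P) from fun y ⟨z, _, hz⟩ => hz ▸ hdJ z)) h1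
    rw [← Submodule.mul_smul] at h2
    have h3 := Submodule.smul_mono_left Ideal.mul_le_inf h2
    rwa [hIJ, Submodule.bot_smul, Submodule.mem_bot] at h3
  refine Module.Projective.of_split (s.comp (LinearMap.id - d)) π (LinearMap.ext fun p => ?_)
  have h1 : π (s (p - d p)) = d (p - d p) + (p - d p) := by simp [d]
  simp only [LinearMap.comp_apply, LinearMap.sub_apply, LinearMap.id_apply]
  rw [h1, map_sub, hdd, sub_zero, add_sub_cancel]

end Groth.Agent.S6272
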