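import Groth.Statements.S6273

set_option autoImplicit false
universe u
open CAlg

namespace Groth.Agent.S6273

/-- Let R be a ring, S ⊆ R a multiplicative subset and A = S⁻¹R. If the image of Spec(A) → Spec(R) is
closed, then the localization map R → A is surjective; in particular A is isomorphic to R/I for the
ideal I = ker(R → A). -/
theorem result {R : Type u} [CommRing R] (S : Submonoid R) (A : Type u) [CommRing A] [Algebra R A] [IsLocalization S A] (hcl : IsClosed (Set.range (PrimeSpectrum.comap (algebraMap R A)))) : Function.Surjective (algebraMap R A) := by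
  have key : ∀ p : PrimeSpectrum R, p ∈ PrimeSpectrum.zeroLocus (RingHom.ker (algebraMap R A) : Set R) → Disjoint (S : Set R) p.asIdeal := by
    intro p hp
    have h1 : p ∈ closure (Set.range (PrimeSpectrum.comap (algebraMap R A))) := by
      rw [PrimeSpectrum.closure_range_comap]; exact hp
    rw [hcl.closure_eq, PrimeSpectrum.localization_comap_range A S] at h1
    exact h1
  intro a
  obtain ⟨⟨r, s⟩, rfl⟩ := IsLocalization.exists_mk'_eq S a |>.imp (fun x h => h) |> fun h => (⟨⟨h.choose, h.choose_spec.choose⟩, h.choose_spec.choose_spec⟩ : ∃ x : R × S, IsLocalization.mk' A x.1 x.2 = a)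
  have hu : IsUnit (Ideal.Quotient.mk (RingHom.ker (algebraMap R A)) (s : R)) := by
    by_contra hnu
    obtain ⟨m, hm, hsm⟩ := exists_max_ideal_of_mem_nonunits hnu
    haveI := hm.isPrime
    refine Set.disjoint_left.mp (key ⟨m.comap (Ideal.Quotient.mk _), inferInstance⟩ ?_) s.2 hsm
    intro x hx
    simp [Ideal.Quotient.eq_zero_iff_mem.mpr hx]
  obtain ⟨t, ht⟩ := hu.exists_right_inv
  obtain ⟨t, rfl⟩ := Ideal.Quotient.mk_surjective t
  refine ⟨r * t, ?_⟩
  rw [← map_mul, ← map_one (Ideal.Quotient.mk (RingHom.ker (algebraMap R A))), Ideal.Quotient.mk_eq_mk_iff_sub_mem, RingHom.mem_ker, map_sub, map_one, sub_eq_zero, map_mul] at ht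
  rw [eq_comm, IsLocalization.mk'_eq_iff_eq_mul, map_mul, mul_assoc, mul_comm (algebraMap R A t), ht, mul_one]

end Groth.Agent.S6273
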