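import Groth.Statements.S6274
import Mathlib

set_option autoImplicit false
universe u
open CAlg

namespace Groth.Agent.S6274

/-- Let R be a ring, S ⊆ R a multiplicative subset and A = S⁻¹R, and assume the image of Spec(A) →
Spec(R) is closed. If Spec(R) is a Noetherian topological space (which holds when R is Noetherian)
or S is finitely generated as a monoid, then R is isomorphic to A × R' for some ring R', by an
isomorphism whose first component is the localization map R → A. -/
theorem result {R : Type u} [CommRing R] (S : Submonoid R) (A : Type u) [CommRing A] [Algebra R A] [IsLocalization S A] (hcl : IsClosed (Set.range (PrimeSpectrum.comap (algebraMap R A)))) (h : TopologicalSpace.NoetherianSpace (PrimeSpectrum R) ∨ S.FG) : ∃ (R' : Type u) (_ : CommRing R') (e : R ≃+* A × R'), ∀ x : R, (e x).1 = algebraMap R A x := by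
  classical
  have hr : Set.range (PrimeSpectrum.comap (algebraMap R A)) = {p | Disjoint (S : Set R) p.asIdeal} :=
    PrimeSpectrum.localization_comap_range A S
  have hopen : IsOpen (Set.range (PrimeSpectrum.comap (algebraMap R A))) := by
    rcases h with h | ⟨T, hT⟩
    · haveI := h
      refine PrimeSpectrum.isOpen_of_stableUnderGeneralization_of_isConstructible ?_ ?_
      · intro p q hpq hp
        rw [hr] at hp ⊢
        exact hp.mono_right ((PrimeSpectrum.le_iff_specializes q p).mpr hpq)
      · have : IsRetrocompact (Set.range (PrimeSpectrum.comap (algebraMap R A)))ᶜ :=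
          fun _ _ _ => TopologicalSpace.NoetherianSpace.isCompact _
        simpa using (this.isConstructible hcl.isOpen_compl).compl
    · rw [hr, show {p : PrimeSpectrum R | Disjoint (S : Set R) p.asIdeal} = PrimeSpectrum.basicOpen (∏ x ∈ T, x) by
        ext p
        simp only [Set.mem_setOf_eq, SetLike.mem_coe, PrimeSpectrum.mem_basicOpen, Ideal.IsPrime.prod_mem_iff, not_exists, not_and]
        refine ⟨fun hd x hx hxp => Set.disjoint_left.mp hd (hT ▸ Submonoid.subset_closure hx) hxp, fun hT' => Set.disjoint_left.mpr fun s hs => ?_⟩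
        have hs' : s ∈ Submonoid.closure (T : Set R) := hT.symm ▸ hs
        induction hs' using Submonoid.closure_induction with
        | mem x hx => exact hT' x hx
        | one => exact p.asIdeal.ne_top_iff_one.mp p.isPrime.ne_top
        | mul x y hx' hy' hx hy => exact fun h => (p.isPrime.mem_or_mem h).elim (hx (hT ▸ hx')) (hy (hT ▸ hy'))]
      exact (PrimeSpectrum.basicOpen _).2
  obtain ⟨e, he, hes⟩ := PrimeSpectrum.isClopen_iff.mp ⟨hcl, hopen⟩
  have hA : algebraMap R A e = 1 := by
    refine IsIdempotentElem.iff_eq_one_of_isUnit ?_ |>.mp (he.map (algebraMap R A))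
    by_contra hu
    obtain ⟨q, hq, hqe⟩ := exists_max_ideal_of_mem_nonunits (a := algebraMap R A e) hu
    have : PrimeSpectrum.comap (algebraMap R A) ⟨q, hq.isPrime⟩ ∈ (PrimeSpectrum.basicOpen e : Set (PrimeSpectrum R)) := hes ▸ ⟨_, rfl⟩
    exact this hqe
  have hS : ∀ s ∈ S, ∃ t, e = s * t := fun s hs => by
    have h1 : PrimeSpectrum.basicOpen e ≤ PrimeSpectrum.basicOpen s := fun p hp => by
      have : p ∈ Set.range (PrimeSpectrum.comap (algebraMap R A)) := hes ▸ hp
      rw [hr] at this
      exact Set.disjoint_left.mp this hs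
    obtain ⟨n, hn⟩ := (PrimeSpectrum.basicOpen_le_basicOpen_iff e s).mp h1
    obtain ⟨t, ht⟩ := Ideal.mem_span_singleton.mp hn
    refine ⟨e * t, ?_⟩
    rw [mul_left_comm, ← ht, ← pow_succ', he.pow_succ_eq]
  let φ : R →+* A × (R ⧸ Ideal.span {e}) := (algebraMap R A).prod (Ideal.Quotient.mk _)
  have hφ : Function.Bijective φ := by
    refine ⟨(injective_iff_map_eq_zero φ).mpr fun x hx => ?_, fun y => ?_⟩
    · obtain ⟨h1, h2⟩ := Prod.mk_eq_zero.mp hx
      obtain ⟨⟨s, hs⟩, hsx⟩ := (IsLocalization.map_eq_zero_iff S A x).mp h1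
      obtain ⟨y, rfl⟩ := Ideal.mem_span_singleton.mp (Ideal.Quotient.eq_zero_iff_mem.mp h2)
      obtain ⟨t, ht⟩ := hS s hs
      have hsx' : s * (e * y) = 0 := hsx
      calc e * y = e * (e * y) := by rw [← mul_assoc, he.eq]
        _ = t * (s * (e * y)) := by rw [ht]; ring
        _ = 0 := by rw [hsx', mul_zero]
    · obtain ⟨a, y⟩ := y
      obtain ⟨r, ⟨s, hs⟩, rfl⟩ := IsLocalization.exists_mk'_eq S a
      obtain ⟨y, rfl⟩ := Ideal.Quotient.mk_surjective y
      obtain ⟨t, ht⟩ := hS s hs
      refine ⟨e * (r * t) + (1 - e) * y, Prod.ext ?_ ?_⟩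
      · show algebraMap R A _ = _
        rw [IsLocalization.eq_mk'_iff_mul_eq, map_add, map_mul, map_mul, map_mul, map_sub, map_one, hA, one_mul, sub_self,
          zero_mul, add_zero, ← map_mul, ← map_mul, mul_assoc, mul_comm t, ← ht, map_mul, hA, mul_one]
      · refine Ideal.Quotient.eq.mpr (Ideal.mem_span_singleton.mpr ⟨r * t - y, ?_⟩)
        ring
  exact ⟨R ⧸ Ideal.span {e}, inferInstance, RingEquiv.ofBijective φ hφ, fun _ => rfl⟩

end Groth.Agent.S6274
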