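import Groth.Statements.S6275

set_option autoImplicit false
universe u
open CAlg

namespace Groth.Agent.S6275

/-- Let R be a Noetherian ring and p ⊆ R a prime. Then there is f ∈ R, f ∉ p, such that R_f → R_p is
injective; equivalently every x ∈ R mapping to zero in R_p maps to zero in R_f. (The cases of a
domain and of a reduced ring with finitely many minimal primes are not included here.) -/
theorem result {R : Type u} [CommRing R] [IsNoetherianRing R] (p : Ideal R) [p.IsPrime] : ∃ f : R, f ∉ p ∧ ∀ x : R, algebraMap R (Localization.AtPrime p) x = 0 → algebraMap R (Localization.Away f) x = 0 := by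
  obtain ⟨s, hs⟩ := (IsNoetherian.noetherian (RingHom.ker (algebraMap R (Localization.AtPrime p))) : Submodule.FG _)
  have hx : ∀ x ∈ s, ∃ f : R, f ∉ p ∧ f * x = 0 := by
    intro x hx
    have : algebraMap R (Localization.AtPrime p) x = 0 := RingHom.mem_ker.mp (hs ▸ Submodule.subset_span hx)
    obtain ⟨f, hf⟩ := (IsLocalization.map_eq_zero_iff p.primeCompl _ x).mp this
    exact ⟨f, f.2, hf⟩
  choose F hF hF' using hx
  refine ⟨∏ x : s, F x.1 x.2, fun h => ?_, fun x hx => ?_⟩
  · obtain ⟨y, -, hy⟩ := Ideal.IsPrime.prod_mem_iff.mp h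
    exact hF y.1 y.2 hy
  · have : x ∈ Submodule.span R (s : Set R) := by rw [hs]; exact RingHom.mem_ker.mpr hx
    refine (IsLocalization.map_eq_zero_iff (Submonoid.powers (∏ x : s, F x.1 x.2)) _ x).mpr ⟨⟨_, Submonoid.mem_powers _⟩, ?_⟩
    induction this using Submodule.span_induction with
    | mem y hy =>
      obtain ⟨c, hc⟩ := Finset.dvd_prod_of_mem (fun x : s => F x.1 x.2) (Finset.mem_univ ⟨y, hy⟩)
      simp only at hc ⊢
      rw [hc, mul_right_comm, hF' y hy, zero_mul]
    | zero => simp
    | add a b _ _ ha hb =>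
      have ha := ha (RingHom.mem_ker.mp (hs ▸ ‹a ∈ Submodule.span R (s : Set R)›))
      have hb := hb (RingHom.mem_ker.mp (hs ▸ ‹b ∈ Submodule.span R (s : Set R)›))
      simp only at ha hb ⊢
      rw [mul_add, ha, hb, add_zero]
    | smul c a h ha =>
      have ha := ha (RingHom.mem_ker.mp (hs ▸ h))
      simp only at ha ⊢
      rw [smul_eq_mul, mul_left_comm, ha, mul_zero]

end Groth.Agent.S6275
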