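import Groth.Statements.S6281

set_option autoImplicit false
universe u
open CAlg

namespace Groth.Agent.S6281

/-- For an R-algebra S and an S-module M, flatness of S over R follows once M is both flat over R and
faithfully flat over S. -/
theorem result {R S : Type u} [CommRing R] [CommRing S] [Algebra R S] (M : Type u) [AddCommGroup M] [Module S M] [Module R M] [IsScalarTower R S M] [Module.Flat R M] [Module.FaithfullyFlat S M] : Module.Flat R S := by
  rw [Module.Flat.iff_lTensor_preserves_injective_linearMap]
  intro N N' _ _ _ _ f hf
  have h : Function.Injective ((f.baseChange S).lTensor M) := by
    let a := TensorProduct.AlgebraTensorModule.cancelBaseChange R S S M N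
    let b := TensorProduct.AlgebraTensorModule.cancelBaseChange R S S M N'
    have e : ⇑b ∘ ⇑((f.baseChange S).lTensor M) = ⇑(f.lTensor M) ∘ ⇑a := by
      funext z
      induction z with
      | zero => simp
      | tmul x y =>
        induction y with
        | zero => simp
        | tmul s n => simp [a, b]
        | add u v hu hv => simp_all [TensorProduct.tmul_add]
      | add u v hu hv => simp_all
    refine Function.Injective.of_comp (f := b) ?_
    rw [e]
    exact (Module.Flat.lTensor_preserves_injective_linearMap f hf).comp a.injective
  exact (Module.FaithfullyFlat.lTensor_injective_iff_injective S M (f.baseChange S)).mp h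

end Groth.Agent.S6281
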