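import Groth.Statements.S6285
import Mathlib

set_option autoImplicit false
universe u
open CAlg

namespace Groth.Agent.S6285

/-- For a ring R and an R-module M of finite presentation, the support Supp(M) is closed in Spec(R), and
its complement in Spec(R) is quasi-compact. -/
theorem result (R : Type u) [CommRing R] (M : Type u) [AddCommGroup M] [Module R M] [Module.FinitePresentation R M] : IsClosed (Module.support R M) ∧ IsCompact (Module.support R M)ᶜ := by
  classical
  refine ⟨Module.isClosed_support, ?_⟩
  obtain ⟨n, π, hπ⟩ := Module.Finite.exists_fin' R M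
  obtain ⟨s, hs⟩ := Module.FinitePresentation.fg_ker π hπ
  let A : s → (Fin n → R) := fun i => i.1
  have hA : Submodule.span R (Set.range A) = LinearMap.ker π := by
    rw [← hs]; exact congrArg (Submodule.span R) Subtype.range_coe
  let D : (Fin n → s) → R := fun σ => Matrix.det (fun j => A (σ j))
  let J : Ideal R := Ideal.span (Set.range D)
  have hann : J ≤ Module.annihilator R M := by
    rw [Ideal.span_le]
    rintro _ ⟨σ, rfl⟩
    rw [SetLike.mem_coe, Module.mem_annihilator]
    intro m
    obtain ⟨v, rfl⟩ := hπ m
    rw [← map_smul, ← LinearMap.mem_ker, ← hA]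
    let N : Matrix (Fin n) (Fin n) R := fun j => A (σ j)
    have hv : D σ • v = ∑ j, (∑ i, v i * N.adjugate i j) • N j := by
      have h1 := Matrix.vecMul_vecMul v N.adjugate N
      rw [Matrix.adjugate_mul, Matrix.vecMul_smul, Matrix.vecMul_one] at h1
      show N.det • v = _
      rw [← h1]
      ext c
      simp [Matrix.vecMul, dotProduct, Finset.sum_apply]
    rw [hv]
    exact Submodule.sum_mem _ fun j _ => Submodule.smul_mem _ _ (Submodule.subset_span ⟨σ j, rfl⟩)
  have hsup : ∀ p : PrimeSpectrum R, J ≤ p.asIdeal → p ∈ Module.support R M := by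
    intro p hJ
    by_contra hp
    rw [Module.notMem_support_iff'] at hp
    choose u hu hu' using fun j => hp (π (Pi.single j 1))
    let U := ∏ j, u j
    have hU : U ∉ p.asIdeal := fun h => by obtain ⟨j, -, hj⟩ := p.2.prod_mem_iff.mp h; exact hu j hj
    have hrow : ∀ j, ∃ c : s → R, ∑ i, c i • A i = U • (Pi.single j 1 : Fin n → R) := by
      intro j
      refine (Submodule.mem_span_range_iff_exists_fun R).mp ?_
      rw [hA, LinearMap.mem_ker, map_smul]
      obtain ⟨c, hc⟩ := Finset.dvd_prod_of_mem u (Finset.mem_univ j)
      rw [show U = u j * c from hc, mul_comm, mul_smul, hu', smul_zero]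
    choose c hc using hrow
    have hdet : U ^ n ∈ J := by
      have h1 : Matrix.det (fun j => U • (Pi.single j 1 : Fin n → R)) = U ^ n := by
        have : (fun j => U • (Pi.single j 1 : Fin n → R)) = U • (1 : Matrix (Fin n) (Fin n) R) := by
          ext i j; simp [Matrix.one_apply, Pi.single_apply, eq_comm]
        rw [this, Matrix.det_smul, Matrix.det_one, mul_one, Fintype.card_fin]
      rw [← h1, show (fun j => U • (Pi.single j 1 : Fin n → R)) = (fun j => ∑ i, c j i • A i) from funext fun j => (hc j).symm]
      show (Matrix.detRowAlternating : (Fin n → R) [⋀^Fin n]→ₗ[R] R).toMultilinearMap (fun j => ∑ i, c j i • A i) ∈ J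
      rw [MultilinearMap.map_sum]
      refine Ideal.sum_mem _ fun σ _ => ?_
      rw [MultilinearMap.map_smul_univ, smul_eq_mul]
      exact Ideal.mul_mem_left _ _ (Ideal.subset_span ⟨σ, rfl⟩)
    exact hU (p.2.mem_of_pow_mem _ (hJ hdet))
  have heq : Module.support R M = PrimeSpectrum.zeroLocus (J : Set R) := by
    ext p
    exact ⟨fun h => hann.trans (Module.annihilator_le_of_mem_support h), fun h => hsup p h⟩
  rw [heq]
  exact (PrimeSpectrum.isCompact_isOpen_iff_ideal.mpr ⟨J, ⟨Finset.univ.image D, by simp [J, Ideal.span]⟩, rfl⟩).1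

end Groth.Agent.S6285
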