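import Groth.Statements.S6286
import Mathlib

set_option autoImplicit false
universe u
open scoped TensorProduct
open CAlg

namespace Groth.Agent.S6286

/-- Let k be a field, R and S k-algebras, S' ⊆ S a k-subalgebra and f ∈ R ⊗ₖ S', with image f again in R
⊗ₖ S. Then the images in Spec(R) of Spec((R ⊗ₖ S)_f) and of Spec((R ⊗ₖ S')_f) coincide: a prime p of
R is the contraction of a prime of R ⊗ₖ S not containing f if and only if it is the contraction of a
prime of R ⊗ₖ S' not containing f. -/
theorem result (k : Type u) [Field k] (R S : Type u) [CommRing R] [Algebra k R] [CommRing S] [Algebra k S] (S' : Subalgebra k S) (f : R ⊗[k] S') (p : PrimeSpectrum R) : (∃ q : PrimeSpectrum (R ⊗[k] S), Algebra.TensorProduct.map (AlgHom.id k R) S'.val f ∉ q.asIdeal ∧ q.asIdeal.comap (algebraMap R (R ⊗[k] S)) = p.asIdeal) ↔ (∃ q' : PrimeSpectrum (R ⊗[k] S'), f ∉ q'.asIdeal ∧ q'.asIdeal.comap (algebraMap R (R ⊗[k] S')) = p.asIdeal) := by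
  let κ := p.asIdeal.ResidueField
  let res : R →ₐ[k] κ := IsScalarTower.toAlgHom k R κ
  have hker : RingHom.ker res.toRingHom = p.asIdeal := p.asIdeal.ker_algebraMap_residueField
  have key : ∀ (T : Type u) [CommRing T] [Algebra k T] (g : R ⊗[k] T),
      (∃ q : PrimeSpectrum (R ⊗[k] T), g ∉ q.asIdeal ∧ q.asIdeal.comap (algebraMap R (R ⊗[k] T)) = p.asIdeal) ↔
        ¬ IsNilpotent (Algebra.TensorProduct.map res (AlgHom.id k T) g) := by
    intro T _ _ g
    constructor
    · rintro ⟨q, hq, hqp⟩ hnil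
      let π : R ⊗[k] T →ₐ[k] (R ⊗[k] T) ⧸ q.asIdeal := Ideal.Quotient.mkₐ k q.asIdeal
      let ι : R ⊗[k] T →ₐ[k] q.asIdeal.ResidueField := IsScalarTower.toAlgHom k _ _
      let j : κ →ₐ[k] q.asIdeal.ResidueField :=
        Ideal.ResidueField.mapₐ p.asIdeal q.asIdeal (Algebra.TensorProduct.includeLeft : R →ₐ[k] R ⊗[k] T) hqp.symm
      have h : (Algebra.TensorProduct.lift j (ι.comp Algebra.TensorProduct.includeRight) (fun _ _ => mul_comm _ _)).comp
          (Algebra.TensorProduct.map res (AlgHom.id k T)) = ι := by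
        refine Algebra.TensorProduct.ext' fun r t => ?_
        rw [AlgHom.comp_apply, Algebra.TensorProduct.map_tmul, Algebra.TensorProduct.lift_tmul, AlgHom.comp_apply]
        show j (algebraMap R κ r) * ι ((1 : R) ⊗ₜ t) = _
        rw [Ideal.ResidueField.mapₐ_apply, Ideal.ResidueField.map_algebraMap]
        show ι (r ⊗ₜ (1 : T)) * _ = _
        rw [← map_mul, Algebra.TensorProduct.tmul_mul_tmul, mul_one, one_mul]
      have h2 := hnil.map (Algebra.TensorProduct.lift j (ι.comp Algebra.TensorProduct.includeRight) (fun _ _ => mul_comm _ _))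
      rw [← AlgHom.comp_apply, h] at h2
      exact hq (Ideal.algebraMap_residueField_eq_zero.mp h2.eq_zero)
    · intro hn
      rw [nilpotent_iff_mem_prime] at hn
      push Not at hn
      obtain ⟨Q, hQ, hgQ⟩ := hn
      refine ⟨⟨Q.comap (Algebra.TensorProduct.map res (AlgHom.id k T)).toRingHom, Ideal.IsPrime.comap _⟩, hgQ, ?_⟩
      have hc : (Algebra.TensorProduct.map res (AlgHom.id k T)).toRingHom.comp (algebraMap R (R ⊗[k] T)) =
          (algebraMap κ (κ ⊗[k] T)).comp res.toRingHom := RingHom.ext fun r => by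
        show Algebra.TensorProduct.map res (AlgHom.id k T) (r ⊗ₜ 1) = res r ⊗ₜ (1 : T)
        rw [Algebra.TensorProduct.map_tmul, map_one]
      haveI : (Q.comap (algebraMap κ (κ ⊗[k] T))).IsPrime := Ideal.IsPrime.comap _
      rw [Ideal.comap_comap, hc, ← Ideal.comap_comap, (Ideal.eq_bot_of_prime (Q.comap (algebraMap κ (κ ⊗[k] T))))]
      exact hker
  rw [key, key]
  have hcomm : Algebra.TensorProduct.map res (AlgHom.id k S) (Algebra.TensorProduct.map (AlgHom.id k R) S'.val f) =
      Algebra.TensorProduct.map (AlgHom.id k κ) S'.val (Algebra.TensorProduct.map res (AlgHom.id k S') f) := by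
    rw [← AlgHom.comp_apply, ← AlgHom.comp_apply, ← Algebra.TensorProduct.map_comp, ← Algebra.TensorProduct.map_comp]
    rfl
  rw [hcomm, IsNilpotent.map_iff]
  exact Module.Flat.lTensor_preserves_injective_linearMap (M := κ) S'.val.toLinearMap Subtype.val_injective

end Groth.Agent.S6286
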