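import Groth.Statements.S6287

set_option autoImplicit false
universe u
open CAlg

namespace Groth.Agent.S6287

/-- Let (A_i) be a directed system of valuation rings. Then the colimit A = colim A_i is a valuation
ring (in particular a domain). -/
theorem result {ι : Type u} [Preorder ι] [Nonempty ι] [IsDirected ι (· ≤ ·)] (G : ι → Type u) [∀ i, CommRing (G i)] [∀ i, IsDomain (G i)] [∀ i, ValuationRing (G i)] (f : ∀ i j, i ≤ j → G i →+* G j) [DirectedSystem G fun i j h => f i j h] : ∃ _ : IsDomain (Ring.DirectLimit G fun i j h => f i j h), ValuationRing (Ring.DirectLimit G fun i j h => f i j h) := by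
  have key : ∀ a b : Ring.DirectLimit G fun i j h => f i j h, ∃ i x y, a = Ring.DirectLimit.of G (fun i j h => f i j h) i x ∧ b = Ring.DirectLimit.of G (fun i j h => f i j h) i y := by
    intro a b
    obtain ⟨i, x, rfl⟩ := Ring.DirectLimit.exists_of a
    obtain ⟨j, y, rfl⟩ := Ring.DirectLimit.exists_of b
    obtain ⟨k, hik, hjk⟩ := exists_ge_ge i j
    exact ⟨k, f i k hik x, f j k hjk y, (Ring.DirectLimit.of_f hik x).symm, (Ring.DirectLimit.of_f hjk y).symm⟩
  haveI : Nontrivial (Ring.DirectLimit G fun i j h => f i j h) := by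
    refine ⟨⟨0, 1, fun h => ?_⟩⟩
    obtain ⟨i⟩ := ‹Nonempty ι›
    rw [← map_one (Ring.DirectLimit.of G (fun i j h => f i j h) i)] at h
    obtain ⟨j, hij, hj⟩ := Ring.DirectLimit.of.zero_exact h.symm
    simp at hj
  haveI hd : IsDomain (Ring.DirectLimit G fun i j h => f i j h) := by
    haveI : NoZeroDivisors (Ring.DirectLimit G fun i j h => f i j h) := ⟨fun {a b} hab => by
      obtain ⟨i, x, y, rfl, rfl⟩ := key a b
      rw [← map_mul] at hab
      obtain ⟨j, hij, hj⟩ := Ring.DirectLimit.of.zero_exact hab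
      rw [map_mul] at hj
      rcases mul_eq_zero.mp hj with h | h
      · left; rw [← Ring.DirectLimit.of_f hij x, h, map_zero]
      · right; rw [← Ring.DirectLimit.of_f hij y, h, map_zero]⟩
    exact NoZeroDivisors.to_isDomain _
  refine ⟨hd, { toPreValuationRing := ⟨fun a b => ?_⟩ }⟩
  obtain ⟨i, x, y, rfl, rfl⟩ := key a b
  obtain ⟨c, hc | hc⟩ := PreValuationRing.cond x y
  · exact ⟨Ring.DirectLimit.of G (fun i j h => f i j h) i c, Or.inl (by rw [← map_mul, hc])⟩
  · exact ⟨Ring.DirectLimit.of G (fun i j h => f i j h) i c, Or.inr (by rw [← map_mul, hc])⟩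

end Groth.Agent.S6287
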