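import Groth.Statements.S6288
import Mathlib

set_option autoImplicit false
universe u
open CAlg

namespace Groth.Agent.S6288

/-- Let L/K be an algebraic extension of fields and B ⊆ L a valuation ring with fraction field L which
is not a field. Then A = K ∩ B is a valuation ring of K (automatic) which is again not a field, i.e.
A ≠ K. -/
theorem result (K L : Type u) [Field K] [Field L] [Algebra K L] [Algebra.IsAlgebraic K L] (B : ValuationSubring L) (hB : B ≠ ⊤) : B.comap (algebraMap K L) ≠ ⊤ := by
  intro h
  apply hB
  rw [eq_top_iff]
  intro x _
  have hx : IsIntegral K x := Algebra.IsIntegral.isIntegral x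
  letI : Algebra K B := (RingHom.codRestrict (algebraMap K L) B.toSubring (fun a => by
    have : a ∈ B.comap (algebraMap K L) := h ▸ ValuationSubring.mem_top a
    exact this)).toAlgebra
  haveI : IsScalarTower K B L := IsScalarTower.of_algebraMap_eq (fun _ => rfl)
  have : IsIntegral B x := hx.tower_top
  obtain ⟨y, hy⟩ := IsIntegrallyClosed.isIntegral_iff.mp this
  exact hy ▸ y.2

end Groth.Agent.S6288
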