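import Groth.Statements.S6289

set_option autoImplicit false
universe u
open CAlg

namespace Groth.Agent.S6289

/-- Let A' be a valuation ring with residue field K and A ⊆ K a valuation ring with fraction field K.
Then the subring C of A' consisting of the elements whose residue class lies in A is a valuation
ring. -/
theorem result (A' : Type u) [CommRing A'] [IsDomain A'] [ValuationRing A'] (A : ValuationSubring (IsLocalRing.ResidueField A')) : ValuationRing (A.toSubring.comap (IsLocalRing.residue A')) := by
  let π := IsLocalRing.residue A'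
  refine { toPreValuationRing := ⟨?_⟩ }
  have key : ∀ a b : A.toSubring.comap π, (a : A') ∣ b → ∃ c : A.toSubring.comap π, a * c = b ∨ b * c = a := by
    rintro a b ⟨c, hc⟩
    rcases A.mem_or_inv_mem (π c) with h | h
    · exact ⟨⟨c, h⟩, Or.inl (Subtype.ext hc.symm)⟩
    · by_cases h0 : π c = 0
      · exact ⟨⟨c, by show π c ∈ A; rw [h0]; exact A.zero_mem⟩, Or.inl (Subtype.ext hc.symm)⟩
      · obtain ⟨u, rfl⟩ : IsUnit c := by
          rwa [IsLocalRing.residue_eq_zero_iff, IsLocalRing.mem_maximalIdeal, mem_nonunits_iff, not_not] at h0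
        refine ⟨⟨↑u⁻¹, ?_⟩, Or.inr (Subtype.ext ?_)⟩
        · show π ↑u⁻¹ ∈ A
          rwa [map_units_inv]
        · simp [hc]
  intro a b
  obtain ⟨c, hc | hc⟩ := PreValuationRing.cond (a : A') b
  · exact key a b ⟨c, hc.symm⟩
  · obtain ⟨c', h⟩ := key b a ⟨c, hc.symm⟩
    exact ⟨c', h.symm⟩

end Groth.Agent.S6289
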