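import Groth.Statements.S6290
import Mathlib

set_option autoImplicit false
universe u
open CAlg

namespace Groth.Agent.S6290

/-- Let R be a Noetherian ring, I ⊆ R an ideal, M a finite R-module and N = ⋂ₙ IⁿM. Then for every prime
p ⊇ I there is f ∈ R, f ∉ p, with N_f = 0, i.e. every element of N is annihilated by some power of
f. -/
theorem result {R : Type u} [CommRing R] [IsNoetherianRing R] (I : Ideal R) (M : Type u) [AddCommGroup M] [Module R M] [Module.Finite R M] (p : Ideal R) [p.IsPrime] (hIp : I ≤ p) : ∃ f : R, f ∉ p ∧ ∀ x ∈ (⨅ n : ℕ, I ^ n • (⊤ : Submodule R M)), ∃ k : ℕ, f ^ k • x = 0 := by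
  classical
  let N := ⨅ n : ℕ, I ^ n • (⊤ : Submodule R M)
  have hx : ∀ x : N, ∃ r : R, r ∉ p ∧ r • (x : M) = 0 := fun x => by
    obtain ⟨⟨a, ha⟩, hax⟩ := (I.mem_iInf_smul_pow_eq_bot_iff x.1).mp x.2
    refine ⟨1 - a, fun h => (inferInstance : p.IsPrime).ne_top ((Ideal.eq_top_iff_one _).mpr ?_), ?_⟩
    · simpa using add_mem h (hIp ha)
    · rw [sub_smul, one_smul]
      exact sub_eq_zero.mpr hax.symm
  choose r hr hr0 using hx
  obtain ⟨G, hG⟩ := IsNoetherian.noetherian N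
  have hGN : ∀ g ∈ G, g ∈ N := fun g hg => hG ▸ Submodule.subset_span hg
  refine ⟨∏ g : G, r ⟨g.1, hGN g.1 g.2⟩, ?_, fun x hxN => ⟨1, ?_⟩⟩
  · intro h
    obtain ⟨g, -, hg⟩ := (Ideal.IsPrime.prod_mem_iff (p := p)).mp h
    exact hr _ hg
  · rw [pow_one]
    have hxG : x ∈ Submodule.span R (G : Set M) := hG.symm ▸ hxN
    clear hxN
    induction hxG using Submodule.span_induction with
    | mem g hg =>
      rw [← Finset.prod_erase_mul _ _ (Finset.mem_univ (⟨g, hg⟩ : G)), mul_smul, hr0 ⟨g, hGN g hg⟩, smul_zero]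
    | zero => rw [smul_zero]
    | add u v _ _ hu hv => rw [smul_add, hu, hv, add_zero]
    | smul c u _ hu => rw [smul_comm, hu, smul_zero]
end Groth.Agent.S6290
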