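import Groth.Statements.S6292
import Mathlib

set_option autoImplicit false
universe u
open CAlg

namespace Groth.Agent.S6292

/-- Let R be a ring and m ⊆ R a finitely generated maximal ideal (for instance R Noetherian). If M is a
finite R-module with mⁿM = 0 for some n, then M has finite length. -/
theorem result {R : Type u} [CommRing R] (m : Ideal R) [m.IsMaximal] (hm : m.FG) (M : Type u) [AddCommGroup M] [Module R M] [Module.Finite R M] (n : ℕ) (hn : m ^ n • (⊤ : Submodule R M) = ⊥) : IsFiniteLength R M := by
  induction n generalizing M with
  | zero =>
    have : Subsingleton M := (Submodule.subsingleton_iff R).mp (subsingleton_of_bot_eq_top (by simpa using hn.symm))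
    exact .of_subsingleton
  | succ n ih =>
    let K : Submodule R M := m • ⊤
    haveI : Module.Finite R K := Module.Finite.iff_fg.mpr (Submodule.FG.smul hm Module.Finite.fg_top)
    have hK : IsFiniteLength R K := by
      refine ih K (Submodule.map_injective_of_injective K.injective_subtype ?_)
      rw [Submodule.map_bot, Submodule.map_smul'', Submodule.map_top, Submodule.range_subtype, ← hn, pow_succ, Submodule.mul_smul]
    letI : Field (R ⧸ m) := Ideal.Quotient.field m
    obtain ⟨hKN, hKA⟩ := isFiniteLength_iff_isNoetherian_isArtinian.mp hK
    haveI : Module.Finite (R ⧸ m) (M ⧸ K) := Module.Finite.of_restrictScalars_finite R _ _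
    have hq : IsFiniteLength R (M ⧸ K) := by
      rw [← Module.length_ne_top_iff, Module.length_eq_of_surjective (S := R) (R := R ⧸ m) Ideal.Quotient.mk_surjective]
      exact Module.length_ne_top
    obtain ⟨_, _⟩ := isFiniteLength_iff_isNoetherian_isArtinian.mp hq
    exact isFiniteLength_iff_isNoetherian_isArtinian.mpr
      ⟨isNoetherian_of_range_eq_ker K.subtype K.mkQ (by simp), isArtinian_of_range_eq_ker K.subtype K.mkQ (by simp)⟩

end Groth.Agent.S6292
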