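import Groth.Statements.S6294
import Mathlib

set_option autoImplicit false
universe u
open CAlg

namespace Groth.Agent.S6294

/-- Let R be a ring with finitely many minimal primes q₁, …, q_t, and assume that the zerodivisors of R
are precisely the elements of q₁ ∪ … ∪ q_t. Then Q(R), the total ring of fractions of R, equals
R_{q₁} × … × R_{q_t}: the diagonal map R → ∏ R_{q_i} is a localization of R at its non-zerodivisors. -/
theorem result {R : Type u} [CommRing R] {ι : Type} [Fintype ι] (q : ι → Ideal R) [∀ i, (q i).IsPrime] (hinj : Function.Injective q) (hmin : ∀ P : Ideal R, P ∈ minimalPrimes R ↔ P ∈ Set.range q) (hzd : ∀ x : R, x ∈ nonZeroDivisors R ↔ ∀ i, x ∉ q i) : IsLocalization (nonZeroDivisors R) (∀ i, Localization.AtPrime (q i)) := by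
  classical
  have hq : ∀ i j, q i ≤ q j → i = j := fun i j hij => hinj (le_antisymm hij
    (((hmin (q j)).mpr ⟨j, rfl⟩).2 ⟨inferInstance, bot_le⟩ hij))
  constructor
  constructor
  · rintro ⟨x, hx⟩
    exact Pi.isUnit_iff.mpr fun i => IsLocalization.map_units (Localization.AtPrime (q i)) (⟨x, (hzd x).mp hx i⟩ : (q i).primeCompl)
  · intro z
    choose a b hab using fun i => IsLocalization.exists_mk'_eq (q i).primeCompl (z i)
    have he : ∀ i, ∃ e : R, e ∉ q i ∧ ∀ j, j ≠ i → algebraMap R (Localization.AtPrime (q j)) e = 0 := by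
      intro i
      have h0 : ∀ j, j ≠ i → ∃ e : R, e ∉ q i ∧ algebraMap R (Localization.AtPrime (q j)) e = 0 := by
        intro j hj
        obtain ⟨g, hgj, hgi⟩ := Set.not_subset.mp fun hle => hj (hq j i hle)
        obtain ⟨t, ht, n, htn⟩ : ∃ t ∉ q j, ∃ n, t * g ^ n = 0 := by
          have hnil : IsNilpotent (algebraMap R (Localization.AtPrime (q j)) g) := by
            rw [← mem_nilradical, nilradical_eq_sInf, Ideal.mem_sInf]
            intro P hP
            have hle : P.comap (algebraMap R (Localization.AtPrime (q j))) ≤ q j := by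
              have := Ideal.comap_mono (f := algebraMap R (Localization.AtPrime (q j))) (IsLocalRing.le_maximalIdeal hP.ne_top)
              exact this.trans (IsLocalization.AtPrime.under_maximalIdeal _ (q j)).le
            haveI : P.IsPrime := hP
            exact ((hmin (q j)).mpr ⟨j, rfl⟩).2 ⟨inferInstance, bot_le⟩ hle hgj
          obtain ⟨n, hn⟩ := hnil
          rw [← map_pow, IsLocalization.map_eq_zero_iff (q j).primeCompl] at hn
          obtain ⟨t, ht⟩ := hn
          exact ⟨t, t.2, n, ht⟩
        refine ⟨g ^ n, fun h => hgi (Ideal.IsPrime.mem_of_pow_mem inferInstance n h), ?_⟩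
        rw [IsLocalization.map_eq_zero_iff (q j).primeCompl]
        exact ⟨⟨t, ht⟩, htn⟩
      choose e he1 he2 using h0
      refine ⟨∏ j : {j // j ≠ i}, e j.1 j.2, fun h => ?_, fun j hj => ?_⟩
      · obtain ⟨j, -, hj⟩ := ((Ideal.IsPrime.prod_mem_iff (p := q i))).mp h
        exact he1 _ _ hj
      · rw [map_prod]
        exact Finset.prod_eq_zero (Finset.mem_univ ⟨j, hj⟩) (he2 j hj)
    choose e he1 he2 using he
    let den := ∑ i, e i * (b i : R)
    let num := ∑ i, e i * a i
    have hsum : ∀ (c : ι → R) (j), algebraMap R (Localization.AtPrime (q j)) (∑ i, e i * c i) =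
        algebraMap R (Localization.AtPrime (q j)) (e j * c j) := fun c j => by
      rw [map_sum]
      exact Finset.sum_eq_single j (fun i _ hi => by rw [map_mul, he2 i j (Ne.symm hi), zero_mul]) (by simp)
    have hden : den ∈ nonZeroDivisors R := (hzd _).mpr fun j hj => by
      have h1 : IsUnit (algebraMap R (Localization.AtPrime (q j)) den) := by
        rw [hsum (fun i => (b i : R)) j]
        exact IsLocalization.map_units (Localization.AtPrime (q j))
          (⟨e j * b j, (q j).primeCompl.mul_mem (he1 j) (b j).2⟩ : (q j).primeCompl)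
      exact (IsLocalization.AtPrime.isUnit_to_map_iff (Localization.AtPrime (q j)) (q j) den).mp h1 hj
    refine ⟨(num, ⟨den, hden⟩), funext fun j => ?_⟩
    show z j * algebraMap R (Localization.AtPrime (q j)) den = algebraMap R (Localization.AtPrime (q j)) num
    rw [hsum (fun i => (b i : R)) j, hsum a j, ← hab j, map_mul, map_mul, mul_left_comm, IsLocalization.mk'_spec]
  · intro x y hxy
    have h0 : ∀ i, algebraMap R (Localization.AtPrime (q i)) (x - y) = 0 := fun i => by
      rw [map_sub, sub_eq_zero]; exact congrFun hxy i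
    have hex : ∀ i, ∃ c ∉ q i, c * (x - y) = 0 := fun i => by
      obtain ⟨⟨c, hc⟩, h⟩ := (IsLocalization.map_eq_zero_iff (q i).primeCompl _ _).mp (h0 i)
      exact ⟨c, hc, h⟩
    let J : Ideal R := Ideal.span {c | c * (x - y) = 0}
    have hJ : ¬ ∃ i ∈ (Finset.univ : Finset ι), J ≤ q i := fun ⟨i, _, hi⟩ => by
      obtain ⟨c, hc, hc0⟩ := hex i
      exact hc (hi (Ideal.subset_span hc0))
    obtain ⟨c, hcJ, hc⟩ : ∃ c ∈ J, ∀ i, c ∉ q i := by
      by_contra hno
      push Not at hno
      rcases isEmpty_or_nonempty ι with hι | ⟨⟨i0⟩⟩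
      · exact IsEmpty.false (hno 0 J.zero_mem).choose
      exact hJ ((Ideal.subset_union_prime (s := Finset.univ) (f := q) i0 i0 (fun i _ _ _ => inferInstance)).mp
        fun c hc => by simpa using hno c hc)
    have hcz : c * (x - y) = 0 := by
      clear hc
      induction hcJ using Submodule.span_induction with
      | mem w hw => exact hw
      | zero => rw [zero_mul]
      | add u v _ _ hu hv => rw [add_mul, hu, hv, add_zero]
      | smul r u _ hu => rw [smul_eq_mul, mul_assoc, hu, mul_zero]
    refine ⟨⟨c, (hzd c).mpr hc⟩, ?_⟩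
    show c * x = c * y
    rw [← sub_eq_zero, ← mul_sub]; exact hcz
end Groth.Agent.S6294
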