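import Groth.Statements.S6297
import Mathlib

set_option autoImplicit false
universe u
open CAlg

namespace Groth.Agent.S6297

/-- Let R be a ring, m ≤ n, A an n × m matrix over R and J the ideal generated by the m × m minors of A.
(1) For every f ∈ J there is an m × n matrix B with BA = f · 1. (2) If BA = f · 1 for some m × n
matrix B, then f^m ∈ J. -/
theorem result {R : Type u} [CommRing R] {n m : ℕ} (hmn : m ≤ n) (A : Matrix (Fin n) (Fin m) R) : (∀ f ∈ CAlgX.minorIdeal A m, ∃ B : Matrix (Fin m) (Fin n) R, B * A = f • (1 : Matrix (Fin m) (Fin m) R)) ∧ (∀ (f : R) (B : Matrix (Fin m) (Fin n) R), B * A = f • (1 : Matrix (Fin m) (Fin m) R) → f ^ m ∈ CAlgX.minorIdeal A m) := by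
  classical
  constructor
  · intro f hf
    unfold CAlgX.minorIdeal at hf
    induction hf using Submodule.span_induction with
    | mem f hf =>
      obtain ⟨⟨φ, ψ⟩, rfl⟩ := hf
      let A' := A.submatrix φ id
      let P : Matrix (Fin m) (Fin n) R := (1 : Matrix (Fin n) (Fin n) R).submatrix φ id
      have hP : P * A = A' := by
        ext i j
        simp [P, A', Matrix.mul_apply, Matrix.one_apply]
      let D := (1 : Matrix (Fin m) (Fin m) R).submatrix id ψ
      have hD : A.submatrix φ ψ = A' * D := by
        ext i j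
        simp [D, A', Matrix.mul_apply, Matrix.one_apply]
      refine ⟨D.det • (A'.adjugate * P), ?_⟩
      show D.det • (A'.adjugate * P) * A = (A.submatrix φ ψ).det • 1
      rw [Matrix.smul_mul, Matrix.mul_assoc, hP, Matrix.adjugate_mul, smul_smul, hD, Matrix.det_mul, mul_comm]
    | zero => exact ⟨0, by simp⟩
    | add a b _ _ ha hb =>
      obtain ⟨B, hB⟩ := ha
      obtain ⟨B', hB'⟩ := hb
      exact ⟨B + B', by rw [Matrix.add_mul, hB, hB', add_smul]⟩
    | smul r a _ ha =>
      obtain ⟨B, hB⟩ := ha
      exact ⟨r • B, by rw [Matrix.smul_mul, hB, smul_smul, smul_eq_mul]⟩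
  · intro f B hB
    have hdet : (B * A).det = f ^ m := by rw [hB, Matrix.det_smul, Matrix.det_one, mul_one, Fintype.card_fin]
    rw [← hdet]
    have hrow : (B * A : Matrix (Fin m) (Fin m) R) = fun i => ∑ k, B i k • A k := by
      funext i j
      simp [Matrix.mul_apply]
    rw [hrow]
    show Matrix.detRowAlternating (fun i => ∑ k, B i k • A k) ∈ _
    rw [← AlternatingMap.coe_multilinearMap, MultilinearMap.map_sum]
    refine Ideal.sum_mem _ fun φ _ => ?_
    rw [MultilinearMap.map_smul_univ, smul_eq_mul]
    exact Ideal.mul_mem_left _ _ (Ideal.subset_span ⟨(φ, id), rfl⟩)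
end Groth.Agent.S6297
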