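import Groth.Statements.S6298
import Mathlib

set_option autoImplicit false
universe u
open CAlg

namespace Groth.Agent.S6298

/-- Let R be a ring, x ∈ R, I ⊆ R an ideal and p₁, …, p_r prime ideals such that for each i the coset x
+ I is not contained in p_i. Then there is y ∈ I with x + y ∉ p_i for all i. -/
theorem result {R : Type u} [CommRing R] (x : R) (I : Ideal R) {r : ℕ} (p : Fin r → Ideal R) [∀ i, (p i).IsPrime] (h : ∀ i, ∃ y ∈ I, x + y ∉ p i) : ∃ y ∈ I, ∀ i, x + y ∉ p i := by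
  classical
  rcases r.eq_zero_or_pos with rfl | hr
  · exact ⟨0, I.zero_mem, fun i => i.elim0⟩
  let T := Finset.univ.filter (fun i => x ∉ p i ∧ ∀ j, p i ≤ p j → p i = p j)
  let J := I ⊓ T.inf p
  let M := Finset.univ.filter (fun i => x ∈ p i ∧ ∀ j, p i ≤ p j → p i = p j)
  have hJ : ¬ ((J : Set R) ⊆ ⋃ i ∈ (↑M : Set (Fin r)), p i) := by
    rw [Ideal.subset_union_prime ⟨0, hr⟩ ⟨0, hr⟩ (fun i _ _ _ => inferInstance)]
    rintro ⟨i, hi, hle⟩
    simp only [M, Finset.mem_filter, Finset.mem_univ, true_and] at hi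
    rcases (Ideal.IsPrime.inf_le inferInstance).mp hle with hle | hle
    · obtain ⟨y, hy, hy'⟩ := h i
      exact hy' (add_mem hi.1 (hle hy))
    · obtain ⟨j, hj, hji⟩ := (Ideal.IsPrime.inf_le' inferInstance).mp hle
      simp only [T, Finset.mem_filter, Finset.mem_univ, true_and] at hj
      exact hj.1 ((hj.2 i hji).symm ▸ hi.1)
  obtain ⟨y, hy, hy'⟩ := Set.not_subset.mp hJ
  have hy2 : y ∈ I ∧ ∀ j ∈ T, y ∈ p j := by simpa [J] using hy
  refine ⟨y, hy2.1, fun i hxy => ?_⟩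
  obtain ⟨k, hk, hmax⟩ := Finset.exists_maximalFor p (Finset.univ.filter (fun j => p i ≤ p j)) ⟨i, by simp⟩
  simp only [Finset.mem_filter, Finset.mem_univ, true_and] at hk hmax
  have hkm : ∀ j, p k ≤ p j → p k = p j := fun j hj => le_antisymm hj (hmax (hk.trans hj) hj)
  by_cases hxk : x ∈ p k
  · exact hy' (Set.mem_biUnion (show k ∈ (↑M : Set (Fin r)) by simpa [M] using ⟨hxk, hkm⟩) (by simpa using sub_mem (hk hxy) hxk))
  · have : y ∈ p k := hy2.2 k (by simpa [T] using ⟨hxk, hkm⟩)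
    exact hxk (by simpa using sub_mem (hk hxy) this)

end Groth.Agent.S6298
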