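import Groth.Statements.S6301
import Mathlib

set_option autoImplicit false
universe u
open CAlg

namespace Groth.Agent.S6301

/-- An R-module M is flat exactly when, for every finitely presented R-module P and every surjective
R-module map N → M, the induced map Hom_R(P, N) → Hom_R(P, M) is surjective (modules P, N taken in
the same universe). -/
theorem result {R : Type u} [CommRing R] (M : Type u) [AddCommGroup M] [Module R M] : Module.Flat R M ↔ ∀ (P : Type u) [AddCommGroup P] [Module R P], Module.FinitePresentation R P → ∀ (N : Type u) [AddCommGroup N] [Module R N] (g : N →ₗ[R] M), Function.Surjective g → ∀ h : P →ₗ[R] M, ∃ h' : P →ₗ[R] N, g.comp h' = h := by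
  constructor
  · intro hM P _ _ hP N _ _ g hg h
    obtain ⟨k, a, b, hab⟩ := Module.Flat.exists_factorization_of_finitePresentation h
    obtain ⟨b', hb'⟩ := Module.projective_lifting_property g b hg
    exact ⟨b'.comp a, by rw [← LinearMap.comp_assoc, hb', hab]⟩
  · intro H
    classical
    refine Module.Flat.of_forall_exists_factorization fun {l f x} hxf => ?_
    haveI : Module.FinitePresentation R ((Fin l →₀ R) ⧸ R ∙ f) :=
      Module.finitePresentation_of_surjective (R ∙ f).mkQ (R ∙ f).mkQ_surjective
        (by rw [Submodule.ker_mkQ]; exact Submodule.fg_span_singleton f)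
    obtain ⟨h', hh'⟩ := H _ inferInstance (M →₀ R) (Finsupp.linearCombination R id)
      (Finsupp.linearCombination_id_surjective R M) ((R ∙ f).liftQ x (by simpa [Submodule.span_singleton_le_iff_mem] using hxf))
    let a₀ := h'.comp (R ∙ f).mkQ
    let s : Finset M := Finset.univ.biUnion fun i : Fin l => (a₀ (Finsupp.single i 1)).support
    have hs : ∀ v, a₀ v ∈ Finsupp.supported R R (↑s : Set M) := by
      intro v
      induction v using Finsupp.induction_linear with
      | zero => simp
      | add u w hu hw => rw [map_add]; exact add_mem hu hw
      | single i c =>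
        rw [← mul_one c, ← smul_eq_mul, ← Finsupp.smul_single, map_smul]
        refine Submodule.smul_mem _ _ ?_
        rw [Finsupp.mem_supported]
        exact Finset.coe_subset.mpr (Finset.subset_biUnion_of_mem (fun i : Fin l => (a₀ (Finsupp.single i 1)).support) (Finset.mem_univ i))
    let e := (Finsupp.supportedEquivFinsupp (M := R) (R := R) (↑s : Set M)).trans (Finsupp.domLCongr (s.equivFin))
    refine ⟨s.card, e.toLinearMap.comp (a₀.codRestrict _ hs),
      ((Finsupp.linearCombination R id).comp (Finsupp.supported R R (↑s : Set M)).subtype).comp e.symm.toLinearMap, ?_, ?_⟩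
    · refine LinearMap.ext fun v => ?_
      have := LinearMap.congr_fun hh' ((R ∙ f).mkQ v)
      simp only [LinearMap.coe_comp, Function.comp_apply, LinearEquiv.coe_coe, LinearEquiv.symm_apply_apply, LinearMap.codRestrict_apply, Submodule.coe_subtype]
      simp only [Submodule.mkQ_apply, LinearMap.coe_comp, Function.comp_apply, Submodule.liftQ_apply] at this
      exact this.symm
    · have : a₀ f = 0 := by simp [a₀, Submodule.Quotient.mk_eq_zero _ |>.mpr (Submodule.mem_span_singleton_self f)]
      simp [Subtype.ext_iff, this]

end Groth.Agent.S6301
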