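import Groth.Statements.S6302
import Groth.Agent.CAlgBasics.MittagLefflerApps
import Groth.Agent.CAlgBasics.UnivInj

set_option autoImplicit false
universe u
open CAlg

namespace Groth.Agent.S6302

/-- Let 0 → M₁ → M₂ → M₃ → 0 be a short exact sequence of R-modules with M₃ of finite presentation. If
the sequence is universally exact (its first map is universally injective) then it is split: M₂ → M₃
admits a section. (The converse, split implies universally exact, is elementary and not stated.) -/
theorem result {R : Type u} [CommRing R] {M₁ M₂ M₃ : Type u} [AddCommGroup M₁] [Module R M₁] [AddCommGroup M₂] [Module R M₂] [AddCommGroup M₃] [Module R M₃] [Module.FinitePresentation R M₃] (f : M₁ →ₗ[R] M₂) (g : M₂ →ₗ[R] M₃) (hexact : Function.Exact f g) (hg : Function.Surjective g) (hf : CAlgX.UniversallyInjective R f) : ∃ s : M₃ →ₗ[R] M₂, g.comp s = LinearMap.id := by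
  haveI : Module.FinitePresentation R (M₂ ⧸ LinearMap.range f) :=
    Module.FinitePresentation.of_equiv
      ((Submodule.quotEquivOfEq _ _ hexact.linearMap_ker_eq.symm) ≪≫ₗ g.quotKerEquivOfSurjective hg).symm
  obtain ⟨r, hr⟩ := Groth.Agent.CAlgBasics.exists_comp_eq_of_dominates f LinearMap.id fun Q _ _ z hz => by
    rw [LinearMap.mem_ker] at hz ⊢
    rw [(injective_iff_map_eq_zero _).mp (hf Q) z hz, map_zero]
  have hker : LinearMap.ker g ≤ LinearMap.ker (LinearMap.id - f ∘ₗ r) := fun x hx => by
    obtain ⟨m, rfl⟩ := (hexact x).mp hx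
    have : r (f m) = m := (LinearMap.congr_fun hr m).symm
    simp [this]
  refine ⟨(LinearMap.ker g).liftQ _ hker ∘ₗ (g.quotKerEquivOfSurjective hg).symm.toLinearMap, LinearMap.ext fun z => ?_⟩
  obtain ⟨x, rfl⟩ := hg z
  have : (g.quotKerEquivOfSurjective hg).symm (g x) = Submodule.Quotient.mk x := by
    rw [LinearEquiv.symm_apply_eq]; rfl
  simp [this, show g (f (r x)) = 0 from (hexact _).mpr ⟨_, rfl⟩]

end Groth.Agent.S6302
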