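import Groth.Statements.S6303
import Mathlib

set_option autoImplicit false
universe u
open CAlg

namespace Groth.Agent.S6303

/-- Let R be a ring, I, J ⊆ R ideals and M a flat R-module. Then IM ∩ JM = (I ∩ J)M. -/
theorem result {R : Type u} [CommRing R] (I J : Ideal R) (M : Type u) [AddCommGroup M] [Module R M] [Module.Flat R M] : (I • (⊤ : Submodule R M)) ⊓ (J • ⊤) = (I ⊓ J) • (⊤ : Submodule R M) := by
  refine le_antisymm ?_ (le_inf (Submodule.smul_mono_left inf_le_left) (Submodule.smul_mono_left inf_le_right))
  intro m hm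
  let f : R →ₗ[R] (R ⧸ I) × (R ⧸ J) := (Submodule.mkQ I).prod (Submodule.mkQ J)
  have hex : Function.Exact (Submodule.subtype (I ⊓ J)) f := by
    intro x; simp [f, Ideal.Quotient.eq_zero_iff_mem]
  have hex' := Module.Flat.rTensor_exact M hex
  have h0 : f.rTensor M ((TensorProduct.lid R M).symm m) = 0 := by
    have e1 : ∀ K : Ideal R, m ∈ K • (⊤ : Submodule R M) → (Submodule.mkQ K).rTensor M ((TensorProduct.lid R M).symm m) = 0 := by
      intro K hK
      refine Submodule.smul_induction_on hK (fun r hr x _ => ?_) (fun x y hx hy => by rw [map_add, map_add, hx, hy, add_zero])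
      simp [Ideal.Quotient.eq_zero_iff_mem.mpr hr, TensorProduct.smul_tmul']
    apply (TensorProduct.prodLeft R R (R ⧸ I) (R ⧸ J) M).injective
    rw [map_zero]
    have := e1 I hm.1
    have := e1 J hm.2
    simp_all [f]
  obtain ⟨t, ht⟩ := (hex' _).mp h0
  have : m = TensorProduct.lid R M ((Submodule.subtype (I ⊓ J)).rTensor M t) := by rw [ht]; simp
  rw [this]
  clear ht this
  induction t with
  | zero => simp
  | tmul x y => simpa using Submodule.smul_mem_smul x.2 Submodule.mem_top
  | add x y hx hy => rw [map_add, map_add]; exact add_mem hx hy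

end Groth.Agent.S6303
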