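import Groth.Statements.S6306
import Mathlib

set_option autoImplicit false
universe u
open CAlg

namespace Groth.Agent.S6306

/-- Let R be a nonzero ring such that every nonzero prime ideal of R contains a non-zerodivisor. Then R
is a domain. -/
theorem result (R : Type u) [CommRing R] [Nontrivial R] (h : ∀ p : Ideal R, p.IsPrime → p ≠ ⊥ → ∃ x ∈ p, x ∈ nonZeroDivisors R) : IsDomain R := by
  by_cases hp : (⊥ : Ideal R).IsPrime
  · haveI : NoZeroDivisors R := ⟨fun {a b} hab => hp.mem_or_mem (by simpa using hab)⟩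
    exact NoZeroDivisors.to_isDomain R
  · exfalso
    obtain ⟨p, hp'⟩ := Ideal.nonempty_minimalPrimes (I := (⊥ : Ideal R)) bot_ne_top
    haveI := hp'.1.1
    obtain ⟨x, hx, hx'⟩ := h p hp'.1.1 (fun e => hp (e ▸ hp'.1.1))
    exact Set.disjoint_left.mp (Ideal.disjoint_nonZeroDivisors_of_mem_minimalPrimes hp') hx hx'

end Groth.Agent.S6306
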