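import Groth.Statements.S6310
import Mathlib

set_option autoImplicit false
universe u
open CAlg

namespace Groth.Agent.S6310

/-- Let R be a ring, S ⊆ R a multiplicative subset, I ⊆ R an ideal and M a finite R-module. If x₁, …,
x_r ∈ M have images generating S⁻¹(M/IM) as an S⁻¹R-module, then there is f ∈ S + I (f = s + i with
s ∈ S, i ∈ I) such that x₁, …, x_r generate M_f as an R_f-module. -/
theorem result {R : Type u} [CommRing R] (S : Submonoid R) (I : Ideal R) (M : Type u) [AddCommGroup M] [Module R M] [Module.Finite R M] {r : ℕ} (x : Fin r → M) (hx : Submodule.span (Localization S) (Set.range fun j => LocalizedModule.mkLinearMap S (M ⧸ (I • (⊤ : Submodule R M))) (Submodule.Quotient.mk (x j))) = ⊤) : ∃ (s : R) (i : R), s ∈ S ∧ i ∈ I ∧ Submodule.span (Localization.Away (s + i)) (Set.range fun j => LocalizedModule.mkLinearMap (Submonoid.powers (s + i)) M (x j)) = ⊤ := by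
  classical
  let N : Submodule R M := Submodule.span R (Set.range x)
  let q := (I • (⊤ : Submodule R M)).mkQ
  let g := LocalizedModule.mkLinearMap S (M ⧸ (I • (⊤ : Submodule R M)))
  have hex : ∀ m : M, ∃ t ∈ S, t • m ∈ N ⊔ I • ⊤ := fun m => by
    have hm : g (q m) ∈ Submodule.span (Localization S) (Set.range fun j => g (q (x j))) := hx.symm.le trivial
    rw [show (Set.range fun j => g (q (x j))) = g '' (q '' Set.range x) by
        rw [← Set.range_comp, ← Set.range_comp]; rfl,
      ← Submodule.localized'_span (Localization S) S g, Submodule.mem_localized'] at hm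
    obtain ⟨z, hz, s, hzs⟩ := hm
    rw [← IsLocalizedModule.mk'_one S g (q m), IsLocalizedModule.mk'_eq_mk'_iff] at hzs
    obtain ⟨c, hc⟩ := hzs
    rw [← Submodule.map_span] at hz
    obtain ⟨n, hn, rfl⟩ := hz
    refine ⟨(c : R) * s, S.mul_mem c.2 s.2, ?_⟩
    simp only [one_smul, Submonoid.smul_def] at hc
    have h1 : q ((((c : R) * s)) • m - (c : R) • n) = 0 := by
      rw [map_sub, map_smul, map_smul, mul_smul, sub_eq_zero]
      first
        | exact hc
        | exact hc.symm
    have h2 := (Submodule.Quotient.mk_eq_zero _).mp h1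
    have := add_mem (Submodule.mem_sup_right (S := N) h2) (Submodule.mem_sup_left (T := I • (⊤ : Submodule R M)) (N.smul_mem (c : R) hn))
    rwa [sub_add_cancel] at this
  obtain ⟨G, hG⟩ := (Module.Finite.fg_top : (⊤ : Submodule R M).FG)
  choose t ht htm using hex
  let s := ∏ y ∈ G, t y
  have hs : s ∈ S := prod_mem fun y _ => ht y
  have hsm : ∀ m : M, s • m ∈ N ⊔ I • ⊤ := fun m => by
    have hm : m ∈ Submodule.span R (G : Set M) := hG ▸ Submodule.mem_top
    induction hm using Submodule.span_induction with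
    | mem y hy =>
      show (∏ y ∈ G, t y) • y ∈ _
      rw [← Finset.prod_erase_mul _ _ hy, mul_smul]
      exact Submodule.smul_mem _ _ (htm y)
    | zero => simp
    | add a b _ _ ha hb => rw [smul_add]; exact add_mem ha hb
    | smul r a _ ha => rw [smul_comm]; exact Submodule.smul_mem _ r ha
  -- determinant trick on `M ⧸ N`
  have himage : Submodule.map ((s • LinearMap.id : (M ⧸ N) →ₗ[R] (M ⧸ N))) ⊤ ≤ I • ⊤ := by
    rintro _ ⟨z, -, rfl⟩
    obtain ⟨m, rfl⟩ := Submodule.Quotient.mk_surjective _ z
    have h := Submodule.mem_map_of_mem (f := N.mkQ) (hsm m)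
    rw [Submodule.map_sup, Submodule.map_smul'', Submodule.map_top, Submodule.range_mkQ,
      Submodule.mkQ_map_self, bot_sup_eq] at h
    exact h
  obtain ⟨P, hPm, -, hPc, hP⟩ := LinearMap.exists_monic_and_coeff_mem_pow_and_aeval_eq_zero_of_range_le_smul R
    (s • LinearMap.id : Module.End R (M ⧸ N)) I (by rw [← Submodule.map_top]; exact himage)
  let d := P.eval s
  have hdM : ∀ m : M, d • m ∈ N := fun m => by
    have h := LinearMap.congr_fun hP (N.mkQ m)
    have haev : Polynomial.aeval (s • LinearMap.id : (M ⧸ N) →ₗ[R] (M ⧸ N)) P = d • LinearMap.id := by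
      rw [show (s • LinearMap.id : (M ⧸ N) →ₗ[R] (M ⧸ N)) = algebraMap R (Module.End R (M ⧸ N)) s from rfl,
        Polynomial.aeval_algebraMap_apply]
      rfl
    rw [haev, LinearMap.smul_apply, LinearMap.id_apply, LinearMap.zero_apply, ← map_smul] at h
    exact (Submodule.Quotient.mk_eq_zero _).mp h
  have hdS : d - s ^ P.natDegree ∈ I := by
    show P.eval s - _ ∈ I
    rw [Polynomial.eval_eq_sum_range, Finset.sum_range_succ, Polynomial.Monic.coeff_natDegree hPm, one_mul,
      add_sub_cancel_right]
    refine Ideal.sum_mem _ fun j hj => I.mul_mem_right _ ?_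
    have hj' := Finset.mem_range.mp hj
    exact (Ideal.pow_le_self (Nat.sub_ne_zero_of_lt hj')) (hPc j)
  refine ⟨s ^ P.natDegree, d - s ^ P.natDegree, pow_mem hs _, hdS, ?_⟩
  rw [add_sub_cancel]
  rw [eq_top_iff]
  intro z _
  obtain ⟨⟨m, u⟩, rfl⟩ := IsLocalizedModule.mk'_surjective (Submonoid.powers d) (LocalizedModule.mkLinearMap (Submonoid.powers d) M) z
  rw [show (Set.range fun j => LocalizedModule.mkLinearMap (Submonoid.powers d) M (x j)) =
      LocalizedModule.mkLinearMap (Submonoid.powers d) M '' Set.range x by rw [← Set.range_comp]; rfl,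
    ← Submodule.localized'_span (Localization.Away d) (Submonoid.powers d), Submodule.mem_localized']
  refine ⟨d • m, hdM m, ⟨d, Submonoid.mem_powers d⟩ * u, ?_⟩
  exact IsLocalizedModule.mk'_cancel_left (LocalizedModule.mkLinearMap (Submonoid.powers d) M) m ⟨d, Submonoid.mem_powers d⟩ u
end Groth.Agent.S6310
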