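import Groth.Statements.S6311
import Mathlib

set_option autoImplicit false
universe u
open CategoryTheory
open CAlg

namespace Groth.Agent.S6311

/-- Let R be a local ring. Then K₀(R), the Grothendieck group of the category of finite projective
R-modules, is isomorphic to ℤ via the rank; precisely, there is an isomorphism K₀(R) ≅ ℤ of abelian
groups sending the class [R] to 1 (such an isomorphism is then unique, K₀(R) being generated by
[R]). -/
theorem result (R : Type u) [CommRing R] [IsLocalRing R] : ∃ e : KZero.K0sub (fun M : ModuleCat.{u} R => Module.Finite R M ∧ Module.Projective R M) ≃+ ℤ, e (KZero.clSub (fun M : ModuleCat.{u} R => Module.Finite R M ∧ Module.Projective R M) (ModuleCat.of R R)) = 1 := by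
  classical
  let P : ObjectProperty (ModuleCat.{u} R) := fun M => Module.Finite R M ∧ Module.Projective R M
  have hfree : ∀ (M : ModuleCat.{u} R), P M → Module.Free R M := fun M hM => by
    haveI := hM.1
    haveI := hM.2
    exact Module.free_of_flat_of_isLocalRing
  let φ₀ : FreeAbelianGroup (Subtype P) →+ ℤ := FreeAbelianGroup.lift fun X => (Module.finrank R X.1 : ℤ)
  have hrel : KZero.relSub P ≤ φ₀.ker := by
    rw [KZero.relSub, AddSubgroup.closure_le]
    rintro _ ⟨S, h₁, h₂, h₃, hS, rfl⟩
    haveI := hfree _ h₁
    haveI := hfree _ h₃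
    haveI := h₁.1
    haveI := h₃.1
    obtain ⟨l, hl⟩ := Module.projective_lifting_property S.g.hom LinearMap.id hS.moduleCat_surjective_g
    have hex := (ShortComplex.ShortExact.moduleCat_exact_iff_function_exact _).mp hS.exact
    let e := (Function.Exact.splitSurjectiveEquiv hex hS.moduleCat_injective_f ⟨l, hl⟩).1
    simp only [SetLike.mem_coe, AddMonoidHom.mem_ker, map_sub, φ₀, FreeAbelianGroup.lift_apply_of]
    rw [e.finrank_eq, Module.finrank_prod]
    push_cast
    ring
  let φ := QuotientAddGroup.lift _ φ₀ hrel
  have hR : P (ModuleCat.of R R) := ⟨inferInstanceAs (Module.Finite R R), inferInstanceAs (Module.Projective R R)⟩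
  set g : KZero.K0sub P := KZero.clSub P (ModuleCat.of R R) with hg
  have hφg : φ g = 1 := by
    rw [hg, KZero.clSub, dif_pos hR]
    show φ₀ (FreeAbelianGroup.of _) = 1
    rw [FreeAbelianGroup.lift_apply_of]
    simp
  have hcl : ∀ X : Subtype P, (QuotientAddGroup.mk (FreeAbelianGroup.of X) : KZero.K0sub P) = (Module.finrank R X.1 : ℤ) • g := by
    have hadd : ∀ (X Y Z : Subtype P) (f : X.1 →ₗ[R] Y.1) (h : Y.1 →ₗ[R] Z.1) (hf : Function.Injective f) (hh : Function.Surjective h)
        (he : Function.Exact f h), (QuotientAddGroup.mk (FreeAbelianGroup.of Y) : KZero.K0sub P) =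
          QuotientAddGroup.mk (FreeAbelianGroup.of X) + QuotientAddGroup.mk (FreeAbelianGroup.of Z) := by
      intro X Y Z f h hf hh he
      let S := ShortComplex.mk (ModuleCat.ofHom f) (ModuleCat.ofHom h) (ModuleCat.hom_ext he.linearMap_comp_eq_zero)
      have hS : S.ShortExact := ShortComplex.ShortExact.mk'
        ((ShortComplex.ShortExact.moduleCat_exact_iff_function_exact S).mpr he)
        ((ModuleCat.mono_iff_injective _).mpr hf) ((ModuleCat.epi_iff_surjective _).mpr hh)
      have hm : FreeAbelianGroup.of Y - FreeAbelianGroup.of X - FreeAbelianGroup.of Z ∈ KZero.relSub P :=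
        AddSubgroup.subset_closure ⟨S, X.2, Y.2, Z.2, hS, rfl⟩
      have := (QuotientAddGroup.eq_zero_iff _).mpr hm
      rw [QuotientAddGroup.mk_sub, QuotientAddGroup.mk_sub, sub_sub, sub_eq_zero] at this
      exact this
    intro X
    induction hn : Module.finrank R X.1 generalizing X with
    | zero =>
      haveI := hfree _ X.2
      haveI := X.2.1
      haveI : Subsingleton X.1 := (Module.finrank_eq_zero_iff_of_free R X.1).mp hn
      have h := hadd X X X 0 LinearMap.id (fun a b _ => Subsingleton.elim a b) Function.surjective_id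
        (fun a => ⟨fun _ => ⟨0, Subsingleton.elim _ _⟩, fun _ => Subsingleton.elim _ _⟩)
      simpa using h.symm
    | succ n ih =>
      haveI := hfree _ X.2
      haveI := X.2.1
      let e := (Module.finBasisOfFinrankEq R X.1 hn).equivFun
      have hF : P (ModuleCat.of R (Fin n → R)) := ⟨inferInstanceAs (Module.Finite R (Fin n → R)), inferInstanceAs (Module.Projective R (Fin n → R))⟩
      have h := hadd ⟨_, hR⟩ X ⟨_, hF⟩ (e.symm.toLinearMap ∘ₗ LinearMap.single R (fun _ : Fin (n + 1) => R) 0)
        (LinearMap.funLeft R R Fin.succ ∘ₗ e.toLinearMap) (e.symm.injective.comp fun a b hab => by simpa using congrFun hab (0 : Fin (n + 1)))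
        ((LinearMap.funLeft_surjective_of_injective R R Fin.succ (Fin.succ_injective n)).comp e.surjective)
        (fun a => ⟨fun ha => ⟨e a 0, ?_⟩, ?_⟩)
      · rw [h, ih ⟨_, hF⟩ (Module.finrank_fin_fun R), hg, KZero.clSub, dif_pos hR, Nat.cast_succ, add_zsmul, one_zsmul, add_comm]
      · refine e.injective (funext fun i => ?_)
        refine Fin.cases ?_ ?_ i
        · simp
        · intro i
          have h2 := congrFun ha i
          simp only [LinearMap.comp_apply, LinearMap.funLeft_apply, LinearEquiv.coe_coe, Pi.zero_apply] at h2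
          simp only [LinearMap.comp_apply, LinearEquiv.coe_coe, LinearEquiv.apply_symm_apply, LinearMap.coe_single]
          rw [Pi.single_eq_of_ne (Fin.succ_ne_zero i)]
          exact h2.symm
      · rintro ⟨c, rfl⟩
        funext i
        simp only [LinearMap.comp_apply, LinearEquiv.coe_coe, LinearEquiv.apply_symm_apply, LinearMap.funLeft_apply, LinearMap.coe_single]
        exact Pi.single_eq_of_ne (Fin.succ_ne_zero i) c
  let e : KZero.K0sub P ≃+ ℤ := AddEquiv.ofBijective φ ⟨?_, fun k => ⟨k • g, by rw [map_zsmul, hφg, smul_eq_mul, mul_one]⟩⟩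
  · exact ⟨e, hφg⟩
  · rw [injective_iff_map_eq_zero]
    have hx : ∀ x, x = (φ x) • g := by
      intro x
      induction x using QuotientAddGroup.induction_on with
      | H a =>
        induction a using FreeAbelianGroup.induction_on with
        | zero => simp
        | of X =>
          show _ = φ₀ (FreeAbelianGroup.of X) • g
          rw [FreeAbelianGroup.lift_apply_of]
          exact hcl X
        | neg X hX => simp [hX.symm]
        | add a b ha hb =>
          rw [QuotientAddGroup.mk_add, map_add, add_zsmul, ← ha, ← hb]
    intro x hx0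
    rw [hx x, hx0, zero_zsmul]
end Groth.Agent.S6311
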