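import Groth.Statements.S6312
import Mathlib

set_option autoImplicit false
universe u
open CAlg

namespace Groth.Agent.S6312

/-- Let R be a ring, M an R-module and S ⊆ R a multiplicative subset. Then length_{S⁻¹R}(S⁻¹M) ≤
length_R(M). -/
theorem result {R : Type u} [CommRing R] (S : Submonoid R) (M : Type u) [AddCommGroup M] [Module R M] : Module.length (Localization S) (LocalizedModule S M) ≤ Module.length R M := by
  rw [← WithBot.coe_le_coe, Module.coe_length, Module.coe_length]
  refine Order.krullDim_le_of_strictMono
    (fun N => Submodule.comap (LocalizedModule.mkLinearMap S M) (N.restrictScalars R)) fun N N' hlt => ?_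
  have gi := Submodule.localized'gi (Localization S) S (LocalizedModule.mkLinearMap S M)
  exact lt_of_le_of_ne (fun x hx => hlt.le hx) fun he => hlt.ne (by
    rw [← gi.l_u_eq N, ← gi.l_u_eq N']
    exact congrArg _ he)
end Groth.Agent.S6312
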