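import Groth.Statements.S6313
import Mathlib
import Groth.Agent.TorLib.Basic
import Groth.Agent.CAlgBasics.UnivInj

set_option autoImplicit false
universe u
open CategoryTheory
open CAlg

namespace Groth.Agent.S6313
open scoped TensorProduct

/-- For a ring R and an R-module M, flatness of M over R is equivalent to the vanishing of Tor₁ᴿ(M, R/I)
for every finitely generated ideal I ⊆ R. -/
theorem result (R : Type u) [CommRing R] (M : Type u) [AddCommGroup M] [Module R M] : Module.Flat R M ↔ ∀ I : Ideal R, I.FG → Limits.IsZero (((CategoryTheory.Tor (ModuleCat.{u} R) 1).obj (ModuleCat.of R M)).obj (ModuleCat.of R (R ⧸ I))) := by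
  obtain ⟨F, _, _, _, g, hg⟩ : ∃ (F : Type u) (_ : AddCommGroup F) (_ : Module R F) (_ : Module.Flat R F) (g : F →ₗ[R] M), Function.Surjective g :=
    ⟨M →₀ R, inferInstance, inferInstance, inferInstance, Finsupp.linearCombination R id, fun m => ⟨Finsupp.single m 1, by simp⟩⟩
  have hex := g.exact_subtype_ker_map
  have hinj : Function.Injective (LinearMap.ker g).subtype := Subtype.val_injective
  have htor : ∀ I : Ideal R, Limits.IsZero (((CategoryTheory.Tor (ModuleCat.{u} R) 1).obj (ModuleCat.of R M)).obj (ModuleCat.of R (R ⧸ I))) ↔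
      Function.Injective ((LinearMap.ker g).subtype.rTensor (R ⧸ I)) := fun I => by
    rw [ModuleCat.isZero_iff_subsingleton]
    refine (Groth.Agent.TorLib.torOneEquivKer (A := R) (K := LinearMap.ker g) (F := F) (M := M) (f := (LinearMap.ker g).subtype) (g := g) (R ⧸ I) hinj hg hex).toEquiv.subsingleton_congr.trans ?_
    rw [Submodule.subsingleton_iff_eq_bot]
    exact LinearMap.ker_eq_bot (f := (LinearMap.ker g).subtype.rTensor (R ⧸ I))
  refine ⟨fun hF I _ => (htor I).mpr (by haveI := hF; exact Groth.Agent.CAlgBasics.rTensor_injective_of_flat_quotient (f := (LinearMap.ker g).subtype) (g := g) hinj hex hg (R ⧸ I)), fun h => ?_⟩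
  exact Groth.Agent.CAlgBasics.flat_coker_of_injective_rTensor_quotient (f := (LinearMap.ker g).subtype) (g := g) hex hg fun I hI => (htor I).mp (h I hI)
end Groth.Agent.S6313
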