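import Groth.Statements.S6321
import Mathlib

set_option autoImplicit false
universe u
open CAlg

namespace Groth.Agent.S6321

/-- Let R be a ring and (Sᵢ, φᵢⱼ) a directed system of faithfully flat R-algebras whose transition maps
are R-algebra maps. Then S = colim Sᵢ is a faithfully flat R-algebra: for any index i the composite
R → Sᵢ → S is faithfully flat. -/
theorem result {R : Type u} [CommRing R] {ι : Type u} [Preorder ι] [Nonempty ι] [IsDirected ι (· ≤ ·)] (G : ι → Type u) [∀ i, CommRing (G i)] [∀ i, Algebra R (G i)] (f : ∀ i j, i ≤ j → G i →+* G j) [DirectedSystem G fun i j h => f i j h] (hcompat : ∀ i j (h : i ≤ j), (f i j h).comp (algebraMap R (G i)) = algebraMap R (G j)) (hff : ∀ i, (algebraMap R (G i)).FaithfullyFlat) (i : ι) : ((Ring.DirectLimit.of G (fun i j h => f i j h) i).comp (algebraMap R (G i))).FaithfullyFlat := by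
  classical
  let S := Ring.DirectLimit G fun i j h => f i j h
  let o : ∀ j, G j →+* S := fun j => Ring.DirectLimit.of G (fun i j h => f i j h) j
  have hof : ∀ a b (hab : a ≤ b) (x : G a), o b (f a b hab x) = o a x := fun a b hab x => Ring.DirectLimit.of_f hab x
  have hbase : ∀ j (r : R), o j (algebraMap R (G j) r) = o i (algebraMap R (G i) r) := fun j r => by
    obtain ⟨k, hik, hjk⟩ := directed_of (· ≤ ·) i j
    rw [← hof j k hjk, ← hof i k hik, ← RingHom.comp_apply (f j k hjk), ← RingHom.comp_apply (f i k hik),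
      hcompat, hcompat]
  letI : Algebra R S := ((o i).comp (algebraMap R (G i))).toAlgebra
  have halg : ∀ j (r : R), algebraMap R S r = o j (algebraMap R (G j) r) := fun j r => (hbase j r).symm
  have hflat : ∀ j, Module.FaithfullyFlat R (G j) := fun j => RingHom.faithfullyFlat_algebraMap_iff.mp (hff j)
  have hlift : ∀ {l : ℕ} (x : Fin l → S), ∃ j, ∃ y : Fin l → G j, ∀ a, o j (y a) = x a := by
    intro l x
    choose j0 y0 hy0 using fun a => Ring.DirectLimit.exists_of (x a)
    obtain ⟨J, hJ⟩ := Finite.exists_le j0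
    exact ⟨J, fun a => f (j0 a) J (hJ a) (y0 a), fun a => (hof _ _ _ _).trans (hy0 a)⟩
  show Module.FaithfullyFlat R S
  rw [Module.FaithfullyFlat.iff_flat_and_ideal_smul_eq_top]
  refine ⟨?_, fun m hm => ?_⟩
  · rw [Module.Flat.iff_forall_isTrivialRelation]
    intro l r x hrel
    obtain ⟨j, y, hy⟩ := hlift x
    have h0 : o j (∑ a, r a • y a) = 0 := by
      rw [map_sum, ← hrel]
      refine Finset.sum_congr rfl fun a _ => ?_
      rw [Algebra.smul_def, map_mul, hy, Algebra.smul_def, halg j]
    obtain ⟨k, hjk, hk⟩ := Ring.DirectLimit.of.zero_exact h0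
    haveI := hflat k
    have hk' : ∑ a, r a • f j k hjk (y a) = 0 := by
      rw [← hk, map_sum]
      refine Finset.sum_congr rfl fun a _ => ?_
      rw [Algebra.smul_def, Algebra.smul_def, map_mul, ← RingHom.comp_apply (f j k hjk), hcompat]
    obtain ⟨n, a', z, hz, ha⟩ := (Module.Flat.iff_forall_isTrivialRelation (R := R) (M := G k)).mp inferInstance
      (f := r) (x := fun a => f j k hjk (y a)) hk'
    refine ⟨n, a', fun b => o k (z b), fun a => ?_, ha⟩
    have hza : f j k hjk (y a) = ∑ b, a' a b • z b := hz a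
    rw [← hy a, ← hof j k hjk, hza, map_sum]
    refine Finset.sum_congr rfl fun b _ => ?_
    rw [Algebra.smul_def, map_mul, Algebra.smul_def, halg k]
  · have h1 : (1 : S) ∈ m • (⊤ : Submodule R S) := hm.symm.le Submodule.mem_top
    have key : ∀ s ∈ m • (⊤ : Submodule R S), ∃ j, ∃ y ∈ m • (⊤ : Submodule R (G j)), o j y = s := by
      intro s hs
      refine Submodule.smul_induction_on hs (fun c hc t _ => ?_) fun u v hu hv => ?_
      · obtain ⟨j, y, rfl⟩ := Ring.DirectLimit.exists_of t
        refine ⟨j, c • y, Submodule.smul_mem_smul hc trivial, ?_⟩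
        rw [Algebra.smul_def, map_mul, Algebra.smul_def, halg j]
      · obtain ⟨j, y, hy, rfl⟩ := hu
        obtain ⟨k, z, hz, rfl⟩ := hv
        obtain ⟨l, hjl, hkl⟩ := directed_of (· ≤ ·) j k
        have hmap : ∀ a b (hab : a ≤ b), ∀ w ∈ m • (⊤ : Submodule R (G a)), f a b hab w ∈ m • (⊤ : Submodule R (G b)) := by
          intro a b hab w hw
          refine Submodule.smul_induction_on hw (fun c hc t _ => ?_) fun p q hp hq => ?_
          · rw [Algebra.smul_def c t, map_mul, ← RingHom.comp_apply (f a b hab), hcompat, ← Algebra.smul_def]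
            exact Submodule.smul_mem_smul hc trivial
          · rw [map_add]; exact add_mem hp hq
        exact ⟨l, _, add_mem (hmap j l hjl y hy) (hmap k l hkl z hz), by rw [map_add, hof, hof]⟩
    obtain ⟨j, y, hy, hy1⟩ := key 1 h1
    obtain ⟨k, hjk, hk⟩ := Ring.DirectLimit.of.zero_exact (show o j (y - 1) = 0 by rw [map_sub, hy1, map_one, sub_self])
    rw [map_sub, map_one, sub_eq_zero] at hk
    haveI := hflat k
    refine (Module.FaithfullyFlat.iff_flat_and_ideal_smul_eq_top R (G k)).mp inferInstance |>.2 m ?_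
    have h2 : (1 : G k) ∈ m • (⊤ : Submodule R (G k)) := by
      rw [← hk]
      refine Submodule.smul_induction_on hy (fun c hc t _ => ?_) fun p q hp hq => ?_
      · rw [Algebra.smul_def c t, map_mul, ← RingHom.comp_apply (f j k hjk), hcompat, ← Algebra.smul_def]
        exact Submodule.smul_mem_smul hc trivial
      · rw [map_add]; exact add_mem hp hq
    rw [Ideal.smul_top_eq_map] at h2 ⊢
    rw [Submodule.restrictScalars_mem] at h2
    rw [Submodule.restrictScalars_eq_top_iff]
    exact (Ideal.eq_top_iff_one _).mpr h2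
end Groth.Agent.S6321
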