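import Groth.Statements.S6322
import Mathlib.CategoryTheory.Abelian.Projective.Resolution
import Mathlib.Algebra.Category.ModuleCat.Projective
-- import your own Groth.Agent.* helpers here

set_option autoImplicit false
universe u
open CategoryTheory
open CAlg

namespace Groth.Agent.S6322

section
open CategoryTheory CategoryTheory.Category CategoryTheory.Limits HomologicalComplex ChainComplex
set_option backward.isDefEq.respectTransparency false
set_option backward.defeqAttrib.useBackward true
set_option backward.isDefEq.respectTransparency.types false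

variable {C : Type*} [Category C] [Abelian C] {M N : C} {F Q : ChainComplex C ℕ}
  (εN : Q ⟶ (ChainComplex.single₀ C).obj N) [QuasiIso εN]

include εN in
theorem exact_succ (n : ℕ) : (ShortComplex.mk _ _ (Q.d_comp_d (n + 2) (n + 1) n)).Exact :=
  ((HomologicalComplex.exactAt_iff' _ (n + 2) (n + 1) n) (by simp only [prev]; rfl)
    (by simp)).1 (by
      rw [← quasiIsoAt_iff_exactAt' εN (n + 1) (ChainComplex.exactAt_succ_single_obj _ _)]
      infer_instance)

omit [QuasiIso εN] in
theorem d_comp_zero : Q.d 1 0 ≫ εN.f 0 = 0 := by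
  rw [← εN.comm 1 0, single_obj_d, comp_zero]

noncomputable def isCokernel : IsColimit (CokernelCofork.ofπ _ (d_comp_zero εN)) := by
  refine IsColimit.ofIsoColimit (Q.opcyclesIsCokernel 1 0 (by simp)) ?_
  refine Cofork.ext (Q.isoHomologyι₀.symm ≪≫ isoOfQuasiIsoAt εN 0 ≪≫
    singleObjHomologySelfIso _ _ _) ?_
  rw [← cancel_mono (singleObjHomologySelfIso (ComplexShape.down ℕ) 0 _).inv,
    ← cancel_mono (ChainComplex.isoHomologyι₀ _).hom]
  dsimp
  simp only [isoHomologyι₀_inv_naturality_assoc, p_opcyclesMap_assoc, single₀_obj_zero, assoc,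
    Iso.hom_inv_id, comp_id, isoHomologyι_inv_hom_id, singleObjHomologySelfIso_inv_homologyι,
    singleObjOpcyclesSelfIso_hom, single₀ObjXSelf, Iso.refl_inv, id_comp]

theorem exact₀ : (ShortComplex.mk _ _ (d_comp_zero εN)).Exact :=
  ShortComplex.exact_of_g_is_cokernel _ (isCokernel εN)

theorem epi₀ : Epi (εN.f 0) := epi_of_isColimit_cofork (isCokernel εN)

variable [∀ n, Projective (F.X n)] (εF : F ⟶ (ChainComplex.single₀ C).obj M) (g : M ⟶ N)

theorem lift_exists : ∃ φ : F ⟶ Q, φ ≫ εN = εF ≫ (ChainComplex.single₀ C).map g := by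
  haveI := epi₀ εN
  let f0 : F.X 0 ⟶ Q.X 0 := Projective.factorThru (εF.f 0 ≫ ((ChainComplex.single₀ C).map g).f 0) (εN.f 0)
  let f1 : F.X 1 ⟶ Q.X 1 := (exact₀ εN).liftFromProjective (F.d 1 0 ≫ f0) (by
    simp only [f0, Category.assoc, Projective.factorThru_comp]
    rw [← Category.assoc, d_comp_zero εF, zero_comp])
  have w1 : f1 ≫ Q.d 1 0 = F.d 1 0 ≫ f0 := (exact₀ εN).liftFromProjective_comp _ _
  refine ⟨ChainComplex.mkHom F Q f0 f1 w1 fun n ⟨a, b, w⟩ =>
    ⟨(exact_succ εN n).liftFromProjective (F.d (n + 2) (n + 1) ≫ b) (by simp [w]),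
      (exact_succ εN n).liftFromProjective_comp _ _⟩, ?_⟩
  apply HomologicalComplex.to_single_hom_ext
  simp [f0]

theorem homotopy_exists (α β : F ⟶ Q) (h : α ≫ εN = β ≫ εN) : Nonempty (Homotopy α β) := by
  have comm : (α - β) ≫ εN = 0 := by rw [Preadditive.sub_comp, h, sub_self]
  generalize hf : α - β = f at comm
  let z0 : F.X 0 ⟶ Q.X 1 := (exact₀ εN).liftFromProjective (f.f 0)
    (congr_fun (congr_arg HomologicalComplex.Hom.f comm) 0)
  have hz0 : z0 ≫ Q.d 1 0 = f.f 0 := (exact₀ εN).liftFromProjective_comp _ _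
  let z1 : F.X 1 ⟶ Q.X 2 := (exact_succ εN 0).liftFromProjective (f.f 1 - F.d 1 0 ≫ z0)
    (by rw [Preadditive.sub_comp, Category.assoc, HomologicalComplex.Hom.comm, hz0, sub_self])
  have hz1 : z1 ≫ Q.d 2 1 = f.f 1 - F.d 1 0 ≫ z0 := (exact_succ εN 0).liftFromProjective_comp _ _
  have H : Homotopy f 0 := Homotopy.mkInductive _ z0 (by rw [hz0]) z1 (by rw [hz1]; abel) fun n ⟨a, b, w⟩ =>
    ⟨(exact_succ εN (n + 1)).liftFromProjective (f.f (n + 2) - F.d _ _ ≫ b) (by simp [w]), by
      rw [(exact_succ εN (n + 1)).liftFromProjective_comp]; abel⟩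
  exact ⟨Homotopy.equivSubZero.invFun (hf ▸ H)⟩

end


/-- Let R be a ring, M → N a map of R-modules, N• → N a resolution (a chain complex with a
quasi-isomorphism onto N placed in degree 0) and … → F₁ → F₀ → M a complex with every Fᵢ free (F• a
chain complex with an augmentation to M in degree 0, exactness not required). Then (1) there is a
map of complexes F• → N• compatible with M → N through the augmentations, and (2) any two such maps
are homotopic. -/
theorem result (R : Type u) [CommRing R] (M N : ModuleCat.{u} R) (g : M ⟶ N) (F Nc : ChainComplex (ModuleCat.{u} R) ℕ) (hF : ∀ i, Module.Free R (F.X i)) (εF : F ⟶ (ChainComplex.single₀ (ModuleCat.{u} R)).obj M) (εN : Nc ⟶ (ChainComplex.single₀ (ModuleCat.{u} R)).obj N) [QuasiIso εN] : (∃ φ : F ⟶ Nc, φ ≫ εN = εF ≫ (ChainComplex.single₀ (ModuleCat.{u} R)).map g) ∧ ∀ α β : F ⟶ Nc, α ≫ εN = εF ≫ (ChainComplex.single₀ (ModuleCat.{u} R)).map g → β ≫ εN = εF ≫ (ChainComplex.single₀ (ModuleCat.{u} R)).map g → Nonempty (Homotopy α β) := by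
  haveI : ∀ n, CategoryTheory.Projective (F.X n) := fun n => by
    haveI := hF n
    haveI : Module.Projective R (F.X n) := Module.Projective.of_free
    exact (IsProjective.iff_projective _).1 ‹_›
  exact ⟨lift_exists εN εF g, fun α β hα hβ => homotopy_exists εN α β (hα.trans hβ.symm)⟩

end Groth.Agent.S6322
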