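import Groth.Statements.S6324
import Mathlib

set_option autoImplicit false
universe u
open CAlg

namespace Groth.Agent.S6324

/-- Let R → S be a ring map, I ⊆ R an ideal and A = Σ Iⁿtⁿ ⊆ R[t] the Rees algebra of I. For s ∈ S,
being integral over I is equivalent to s·t ∈ S[t] being integral over A (via A ⊆ R[t] → S[t]). -/
theorem result {R S : Type u} [CommRing R] [CommRing S] [Algebra R S] (I : Ideal R) (s : S) : W4stkalgebra1.IsIntegralOverIdeal I s ↔ ((Polynomial.mapRingHom (algebraMap R S)).comp (reesAlgebra I).val.toRingHom).IsIntegralElem (Polynomial.C s * Polynomial.X) := by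
  classical
  set φ := (Polynomial.mapRingHom (algebraMap R S)).comp (reesAlgebra I).val.toRingHom with hφ
  constructor
  · rintro ⟨P, hP, hc, he⟩
    let n := P.natDegree
    have hmem : ∀ j : Fin n, Polynomial.monomial (n - j) (P.coeff j) ∈ reesAlgebra I := fun j =>
      reesAlgebra.monomial_mem.mpr (hc j j.2)
    refine ⟨Polynomial.X ^ n + ∑ j : Fin n, Polynomial.C (⟨_, hmem j⟩ : reesAlgebra I) * Polynomial.X ^ (j : ℕ), ?_, ?_⟩
    · refine Polynomial.monic_X_pow_add ?_
      refine lt_of_le_of_lt (Polynomial.degree_sum_le _ _) ((Finset.sup_lt_iff (WithBot.bot_lt_coe n)).mpr fun j _ => ?_)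
      exact lt_of_le_of_lt (Polynomial.degree_C_mul_X_pow_le _ _) (WithBot.coe_lt_coe.mpr j.2)
    · have hsum : s ^ n + ∑ j : Fin n, algebraMap R S (P.coeff j) * s ^ (j : ℕ) = 0 := by
        rw [← he, Polynomial.eval₂_eq_sum_range, Finset.sum_range_succ, hP.coeff_natDegree, map_one, one_mul, add_comm]
        rw [Finset.sum_range fun i => algebraMap R S (P.coeff i) * s ^ i]
      simp only [Polynomial.eval₂_add, Polynomial.eval₂_X_pow, Polynomial.eval₂_finsetSum, Polynomial.eval₂_mul,
        Polynomial.eval₂_C, mul_pow, ← map_pow]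
      have hterm : ∀ j : Fin n, φ ⟨_, hmem j⟩ * (Polynomial.C (s ^ (j : ℕ)) * Polynomial.X ^ (j : ℕ)) =
          Polynomial.C (algebraMap R S (P.coeff j) * s ^ (j : ℕ)) * Polynomial.X ^ n := fun j => by
        have h1 : φ ⟨_, hmem j⟩ = Polynomial.C (algebraMap R S (P.coeff j)) * Polynomial.X ^ (n - (j : ℕ)) := by
          simp [hφ, ← Polynomial.C_mul_X_pow_eq_monomial]
        rw [h1, map_mul, mul_mul_mul_comm, ← pow_add, Nat.sub_add_cancel j.2.le]
      rw [Finset.sum_congr rfl fun j _ => hterm j, ← Finset.sum_mul, ← add_mul, ← map_sum, ← map_add, hsum, map_zero, zero_mul]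
  · rintro ⟨Q, hQ, he⟩
    let n := Q.natDegree
    let P : Polynomial R := Polynomial.X ^ n + ∑ j : Fin n, Polynomial.C ((Q.coeff j).1.coeff (n - j)) * Polynomial.X ^ (j : ℕ)
    have hdeg : (∑ j : Fin n, Polynomial.C ((Q.coeff j).1.coeff (n - j)) * Polynomial.X ^ (j : ℕ)).degree < (n : WithBot ℕ) := by
      refine lt_of_le_of_lt (Polynomial.degree_sum_le _ _) ((Finset.sup_lt_iff (WithBot.bot_lt_coe n)).mpr fun j _ => ?_)
      exact lt_of_le_of_lt (Polynomial.degree_C_mul_X_pow_le _ _) (WithBot.coe_lt_coe.mpr j.2)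
    rcases subsingleton_or_nontrivial R with hR | hR
    · refine ⟨1, Polynomial.monic_one, fun j hj => by simp at hj, ?_⟩
      haveI := (algebraMap R S).codomain_trivial
      exact Subsingleton.elim _ _
    have hPn : P.natDegree = n := Polynomial.natDegree_eq_of_degree_eq_some (by
      rw [Polynomial.degree_add_eq_left_of_degree_lt (by rwa [Polynomial.degree_X_pow]), Polynomial.degree_X_pow])
    have hPc : ∀ j, j < n → P.coeff j = (Q.coeff j).1.coeff (n - j) := fun j hj => by
      simp only [P, Polynomial.coeff_add, Polynomial.coeff_X_pow, hj.ne, if_false, zero_add, Polynomial.finsetSum_coeff,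
        Polynomial.coeff_C_mul, mul_ite, mul_one, mul_zero]
      exact (Finset.sum_eq_single (⟨j, hj⟩ : Fin n) (fun b _ hb => if_neg fun h => hb (Fin.ext h.symm)) (by simp)).trans (by simp)
    refine ⟨P, Polynomial.monic_X_pow_add hdeg, fun j hj => ?_, ?_⟩
    · rw [hPn] at hj ⊢
      rw [hPc j hj]
      exact (Q.coeff j).2 (n - j)
    · have h1 := congrArg (fun F : Polynomial S => F.coeff n) he
      simp only [Polynomial.coeff_zero, Polynomial.eval₂_eq_sum_range, Polynomial.finsetSum_coeff] at h1
      rw [Finset.sum_range_succ] at h1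
      simp only [P, Polynomial.eval₂_add, Polynomial.eval₂_X_pow, Polynomial.eval₂_finsetSum, Polynomial.eval₂_mul,
        Polynomial.eval₂_C]
      rw [← h1]
      rw [Finset.sum_range, add_comm]
      congr 1
      · refine Finset.sum_congr rfl fun j _ => ?_
        rw [mul_pow, ← map_pow, mul_left_comm, Polynomial.coeff_C_mul, Polynomial.coeff_mul_X_pow', if_pos j.2.le]
        simp [hφ, Polynomial.coeff_map, mul_comm]
      · rw [hQ.coeff_natDegree, map_one, one_mul, mul_pow, ← map_pow, Polynomial.coeff_C_mul, Polynomial.coeff_X_pow, if_pos rfl, mul_one]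
end Groth.Agent.S6324
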