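import Groth.Statements.S6325
import Mathlib
import Groth.Agent.S6324

set_option autoImplicit false
universe u
open CAlg

namespace Groth.Agent.S6325

/-- Let R → S be a ring map and I ⊆ R an ideal. The elements of S integral over I form an R-submodule of
S; moreover, the product s s' is integral over I for any s ∈ S integral over R and any s' ∈ S
integral over I. -/
theorem result {R S : Type u} [CommRing R] [CommRing S] [Algebra R S] (I : Ideal R) : (∃ N : Submodule R S, ∀ s : S, s ∈ N ↔ W4stkalgebra1.IsIntegralOverIdeal I s) ∧ (∀ s s' : S, IsIntegral R s → W4stkalgebra1.IsIntegralOverIdeal I s' → W4stkalgebra1.IsIntegralOverIdeal I (s * s')) := by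
  let φ := (Polynomial.mapRingHom (algebraMap R S)).comp (reesAlgebra I).val.toRingHom
  letI : Algebra (reesAlgebra I) (Polynomial S) := φ.toAlgebra
  have hiff : ∀ s : S, W4stkalgebra1.IsIntegralOverIdeal I s ↔ IsIntegral (reesAlgebra I) (Polynomial.C s * Polynomial.X) :=
    fun s => Groth.Agent.S6324.result I s
  have hC : ∀ s : S, IsIntegral R s → IsIntegral (reesAlgebra I) (Polynomial.C s) := by
    rintro s ⟨P, hP, hPs⟩
    refine ⟨P.map (algebraMap R (reesAlgebra I)), hP.map _, ?_⟩
    rw [Polynomial.eval₂_map, show (algebraMap (reesAlgebra I) (Polynomial S)).comp (algebraMap R (reesAlgebra I)) =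
      (Polynomial.C).comp (algebraMap R S) from RingHom.ext fun r => by simp [RingHom.algebraMap_toAlgebra, φ],
      ← Polynomial.hom_eval₂, hPs, map_zero]
  have hmul : ∀ s s' : S, IsIntegral R s → W4stkalgebra1.IsIntegralOverIdeal I s' → W4stkalgebra1.IsIntegralOverIdeal I (s * s') := fun s s' hs hs' => by
    rw [hiff] at hs' ⊢
    rw [map_mul, mul_assoc]
    exact (hC s hs).mul hs'
  refine ⟨⟨{ carrier := {s | W4stkalgebra1.IsIntegralOverIdeal I s}
             zero_mem' := (hiff 0).mpr (by simpa using isIntegral_zero)
             add_mem' := fun {a b} ha hb => (hiff _).mpr (by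
               rw [map_add, add_mul]; exact ((hiff a).mp ha).add ((hiff b).mp hb))
             smul_mem' := fun r s hs => by
               show W4stkalgebra1.IsIntegralOverIdeal I (r • s)
               rw [Algebra.smul_def]
               exact hmul _ s isIntegral_algebraMap hs }, fun s => Iff.rfl⟩, hmul⟩
end Groth.Agent.S6325
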