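import Groth.Statements.S6326
import Mathlib

set_option autoImplicit false
universe u
open CategoryTheory CategoryTheory.Limits
open CAlg

namespace Groth.Agent.S6326

/-- Let R be a ring and N an R-module such that whenever M is the colimit of a filtered diagram (Mᵢ) of
R-modules (indexed by a filtered category in the same universe), the comparison map colim Hom_R(N,
Mᵢ) → Hom_R(N, M) is injective. Then N is finitely generated. (The implication from finite
generation back to this injectivity also holds; only the characterizing direction is stated here.) -/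
theorem result (R : Type u) [CommRing R] (N : Type u) [AddCommGroup N] [Module R N] (h : ∀ (J : Type u) [SmallCategory J] [IsFiltered J] (F : J ⥤ ModuleCat.{u} R), Function.Injective (colimit.post F (coyoneda.obj (Opposite.op (ModuleCat.of R N))))) : Module.Finite R N := by
  classical
  refine ⟨?_⟩
  let q : ∀ s : Finset N, N →ₗ[R] N ⧸ Submodule.span R (s : Set N) := fun s => Submodule.mkQ _
  let F : Finset N ⥤ ModuleCat.{u} R :=
    { obj := fun s => ModuleCat.of R (N ⧸ Submodule.span R (s : Set N))
      map := fun {s t} h => ModuleCat.ofHom (Submodule.mapQ _ _ LinearMap.id (Submodule.span_mono (Finset.coe_subset.mpr (leOfHom h))))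
      map_id := fun s => by ext; rfl
      map_comp := fun f g => by ext; rfl }
  let T := coyoneda.obj (Opposite.op (ModuleCat.of R N))
  let u0 : (F ⋙ T).obj ∅ := ModuleCat.ofHom (q ∅)
  let v0 : (F ⋙ T).obj ∅ := (0 : ModuleCat.of R N ⟶ F.obj ∅)
  have hpost : ∀ w : (F ⋙ T).obj ∅, colimit.post F T (colimit.ι (F ⋙ T) ∅ w) = T.map (colimit.ι F ∅) w := fun w =>
    ConcreteCategory.congr_hom (colimit.ι_post F T ∅) w
  have heq : colimit.ι (F ⋙ T) ∅ u0 = colimit.ι (F ⋙ T) ∅ v0 := by
    refine h (Finset N) F ?_
    rw [hpost, hpost]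
    show u0 ≫ colimit.ι F ∅ = v0 ≫ colimit.ι F ∅
    apply ModuleCat.hom_ext
    refine LinearMap.ext fun m => ?_
    have h1 := ConcreteCategory.congr_hom (colimit.w F (homOfLE (Finset.empty_subset {m}) : (∅ : Finset N) ⟶ {m})) (q ∅ m)
    have h2 : F.map (homOfLE (Finset.empty_subset {m}) : (∅ : Finset N) ⟶ {m}) (q ∅ m) = 0 :=
      (Submodule.Quotient.mk_eq_zero _).mpr (Submodule.subset_span (by simp))
    show colimit.ι F ∅ (q ∅ m) = colimit.ι F ∅ 0
    rw [map_zero, ← h1]
    show colimit.ι F {m} (F.map _ (q ∅ m)) = 0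
    rw [h2, map_zero]
  obtain ⟨k, f, g, hfg⟩ := (Types.FilteredColimit.colimit_eq_iff (F ⋙ T)).mp heq
  refine ⟨k, eq_top_iff.mpr fun m _ => ?_⟩
  have h3 : (u0 ≫ F.map f).hom m = (v0 ≫ F.map g).hom m := by rw [show u0 ≫ F.map f = v0 ≫ F.map g from hfg]
  exact (Submodule.Quotient.mk_eq_zero _).mp (h3.trans (map_zero (F.map g).hom))
end Groth.Agent.S6326
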