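import Groth.Statements.S6329
import Mathlib
import Groth.Agent.LenLib.Basic

set_option autoImplicit false
universe u
open CAlg

namespace Groth.Agent.S6329

/-- Let R be a ring, M an R-module and 0 = M₀ ⊂ M₁ ⊂ … ⊂ Mₙ = M a maximal chain of submodules (a
composition series; each Mᵢ/Mᵢ₋₁ is simple, of the form R/mᵢ with mᵢ = (Mᵢ₋₁ : Mᵢ) maximal). Then
for every maximal ideal m of R the number of indices i with mᵢ = m equals length_{R_m}(M_m). -/
theorem result {R : Type u} [CommRing R] (M : Type u) [AddCommGroup M] [Module R M] (s : CompositionSeries (Submodule R M)) (h0 : s.head = ⊥) (h1 : s.last = ⊤) (m : Ideal R) [m.IsMaximal] : ((Finset.univ.filter fun i : Fin s.length => (s i.castSucc).colon (s i.succ : Set M) = m).card : ℕ∞) = Module.length (Localization.AtPrime m) (LocalizedModule m.primeCompl M) := by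
  classical
  have key : ∀ k : Fin (s.length + 1), ((Finset.univ.filter fun i : Fin s.length => (i : ℕ) < k ∧ (s i.castSucc).colon (s i.succ : Set M) = m).card : ℕ∞) =
      Groth.Agent.LenLib.locLength m (s k) := by
    intro k
    induction k using Fin.induction with
    | zero =>
      haveI : Subsingleton (s 0) := by
        rw [show s 0 = ⊥ from h0]; infer_instance
      rw [Groth.Agent.LenLib.locLength_of_subsingleton]
      simp
    | succ i ih =>
      have hcov : s i.castSucc ⋖ s i.succ := s.step i
      have hsimple := (covBy_iff_quot_is_simple hcov.le).mp hcov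
      have hI : ∃ I : Ideal R, I.IsMaximal ∧ Nonempty ((↥(s i.succ) ⧸ Submodule.comap (s i.succ).subtype (s i.castSucc)) ≃ₗ[R] R ⧸ I) :=
        isSimpleModule_iff_quot_maximal.mp hsimple
      obtain ⟨I, hI, ⟨e⟩⟩ := hI
      have hIeq : (s i.castSucc).colon (s i.succ : Set M) = I := by
        ext r
        rw [Submodule.mem_colon]
        constructor
        · intro hr
          obtain ⟨y, hy⟩ := Submodule.Quotient.mk_surjective _ (e.symm 1)
          refine Ideal.Quotient.eq_zero_iff_mem.mp ?_
          have : (r • e.symm 1) = 0 := by
            rw [← hy, ← Submodule.Quotient.mk_smul, Submodule.Quotient.mk_eq_zero]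
            exact hr _ y.2
          have h2 := congrArg e this
          rwa [map_zero, map_smul, e.apply_symm_apply, Algebra.smul_def, mul_one] at h2
        · intro hr y hy
          have : r • (Submodule.Quotient.mk ⟨y, hy⟩ : ↥(s i.succ) ⧸ Submodule.comap (s i.succ).subtype (s i.castSucc)) = 0 := by
            apply e.injective
            rw [map_smul, map_zero]
            obtain ⟨a, ha⟩ := Ideal.Quotient.mk_surjective (e (Submodule.Quotient.mk ⟨y, hy⟩))
            rw [← ha]
            exact Ideal.Quotient.eq_zero_iff_mem.mpr (I.mul_mem_right a hr)
          rw [← Submodule.Quotient.mk_smul, Submodule.Quotient.mk_eq_zero] at this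
          exact this
      have hadd := Groth.Agent.LenLib.locLength_exact m (Submodule.comap (s i.succ).subtype (s i.castSucc)).subtype
        (Submodule.mkQ _) Subtype.val_injective (Submodule.mkQ_surjective _) (LinearMap.exact_subtype_mkQ _)
      rw [hadd, Groth.Agent.LenLib.locLength_congr m (Submodule.comapSubtypeEquivOfLe hcov.le), ← ih,
        Groth.Agent.LenLib.locLength_congr m e, Groth.Agent.LenLib.locLength_quot m I]
      have hsplit : (Finset.univ.filter fun j : Fin s.length => (j : ℕ) < i.succ ∧ (s j.castSucc).colon (s j.succ : Set M) = m) =
          if I = m then insert i (Finset.univ.filter fun j : Fin s.length => (j : ℕ) < i.castSucc ∧ (s j.castSucc).colon (s j.succ : Set M) = m)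
          else Finset.univ.filter fun j : Fin s.length => (j : ℕ) < i.castSucc ∧ (s j.castSucc).colon (s j.succ : Set M) = m := by
        ext j
        by_cases hj : j = i
        · subst hj
          split_ifs with h <;> simp [hIeq, h]
        · have : (j : ℕ) ≠ i := fun h => hj (Fin.ext h)
          split_ifs with h
          · simp only [Finset.mem_filter, Finset.mem_univ, true_and, Finset.mem_insert, hj, false_or, Fin.val_succ, Fin.val_castSucc]
            exact and_congr_left fun _ => by omega
          · simp only [Finset.mem_filter, Finset.mem_univ, true_and, Fin.val_succ, Fin.val_castSucc]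
            exact and_congr_left fun _ => by omega
      rw [hsplit]
      split_ifs with h
      · rw [Finset.card_insert_of_notMem (by simp)]; push_cast; rfl
      · simp
  have h := key (Fin.last s.length)
  rw [show s (Fin.last s.length) = ⊤ from h1, Groth.Agent.LenLib.locLength_congr m Submodule.topEquiv] at h
  refine Eq.trans ?_ h
  congr 2
  ext j
  simp
end Groth.Agent.S6329
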