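import Groth.Statements.S6330
import Groth.Agent.CokerProj.Loci

set_option autoImplicit false
universe u
open scoped TensorProduct
open CAlg

namespace Groth.Agent.S6330

/-- Let R be a ring and φ : P₁ → P₂ a map of finite projective R-modules. The set W of primes p of R
such that φ ⊗ κ(p) is surjective is open, and for every f ∈ R with D(f) ⊆ W the map (P₁)_f → (P₂)_f
is surjective and Ker(φ)_f is a finite projective module over R_f. -/
theorem result {R : Type u} [CommRing R] {P₁ P₂ : Type u} [AddCommGroup P₁] [Module R P₁] [AddCommGroup P₂] [Module R P₂] [Module.Finite R P₁] [Module.Projective R P₁] [Module.Finite R P₂] [Module.Projective R P₂] (φ : P₁ →ₗ[R] P₂) : IsOpen {p : PrimeSpectrum R | Function.Surjective (φ.lTensor p.asIdeal.ResidueField)} ∧ ∀ f : R, (↑(PrimeSpectrum.basicOpen f) : Set (PrimeSpectrum R)) ⊆ {p : PrimeSpectrum R | Function.Surjective (φ.lTensor p.asIdeal.ResidueField)} → Function.Surjective (LocalizedModule.map (Submonoid.powers f) φ) ∧ Module.Finite (Localization.Away f) (LocalizedModule (Submonoid.powers f) (LinearMap.ker φ)) ∧ Module.Projective (Localization.Away f) (LocalizedModule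 (Submonoid.powers f) (LinearMap.ker φ)) := by
  simp_rw [Groth.Agent.CokerProj.lTensor_surjective_iff]
  refine ⟨(Module.isClosed_support (R := R) (M := P₂ ⧸ LinearMap.range φ)).isOpen_compl,
    fun f hf ↦ ?_⟩
  set S := Submonoid.powers f
  have hs : Function.Surjective (LocalizedModule.map S φ) :=
    Groth.Agent.CokerProj.map_powers_surjective φ f fun p hp ↦
      (Groth.Agent.CokerProj.map_surjective_iff_notMem_support φ p).2 (hf hp)
  set i := LocalizedModule.map S (LinearMap.ker φ).subtype
  have hi : Function.Injective i := LocalizedModule.map_injective S _ Subtype.val_injective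
  have hex : Function.Exact i (LocalizedModule.map S φ) :=
    LocalizedModule.map_exact S _ _ (LinearMap.exact_subtype_ker_map φ)
  have : Module.Projective (Localization.Away f) (LocalizedModule S P₂) :=
    Module.projective_of_isLocalizedModule S (LocalizedModule.mkLinearMap S P₂)
  have : Module.Projective (Localization.Away f) (LocalizedModule S P₁) :=
    Module.projective_of_isLocalizedModule S (LocalizedModule.mkLinearMap S P₁)
  obtain ⟨l, hl⟩ := ((Function.Exact.split_tfae hex hi hs).out 0 1).mp
    (Module.projective_lifting_property (LocalizedModule.map S φ) LinearMap.id hs)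
  refine ⟨hs, ?_, Module.Projective.of_split i l hl⟩
  exact Module.Finite.of_surjective l (fun x ↦ ⟨i x, LinearMap.congr_fun hl x⟩)

end Groth.Agent.S6330
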