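import Groth.Statements.S6331
import Mathlib

set_option autoImplicit false
universe u
open CAlg

namespace Groth.Agent.S6331

/-- Let R be a ring, I ⊆ R an ideal all of whose elements are nilpotent, and n ≥ 1 an integer whose
image in R/I is invertible. Then (1) raising to the n-th power is a bijection of the subset 1 + I of
R onto itself: for every y ∈ I there is exactly one x ∈ I with (1 + x)ⁿ = 1 + y; (2) a unit u of R
has an n-th root in R exactly when the residue class of u has an n-th root in R/I. -/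
theorem result {R : Type u} [CommRing R] (I : Ideal R) (hI : ∀ x ∈ I, IsNilpotent x) (n : ℕ) (hn : 1 ≤ n) (hinv : IsUnit ((n : ℕ) : R ⧸ I)) : (∀ y ∈ I, ∃! x : R, x ∈ I ∧ (1 + x) ^ n = 1 + y) ∧ (∀ u : Rˣ, (∃ v : R, v ^ n = (u : R)) ↔ ∃ w : R ⧸ I, w ^ n = Ideal.Quotient.mk I (u : R)) := by
  have hle : I ≤ nilradical R := fun x hx => mem_nilradical.mpr (hI x hx)
  have hun : ∀ a b : R, a - b ∈ I → IsUnit a → IsUnit b := fun a b hab ha => by
    have := IsNilpotent.isUnit_add_left_of_commute ((hI _ hab).neg) ha (Commute.all _ _)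
    simpa using this
  obtain ⟨c, hc⟩ := hinv.exists_right_inv
  obtain ⟨c, rfl⟩ := Ideal.Quotient.mk_surjective c
  have hnu : IsUnit (n : R) := by
    have h1 : IsUnit ((n : R) * c) := hun 1 _ (by
      rw [← Ideal.Quotient.eq_zero_iff_mem, map_sub, map_mul, map_natCast, hc, map_one, sub_self]) isUnit_one
    exact isUnit_of_mul_isUnit_left h1
  have hroot : ∀ u w : R, IsUnit u → w ^ n - u ∈ I → ∃! x : R, x - w ∈ I ∧ x ^ n = u := by
    intro u w hu hw
    have hwu : IsUnit w := (isUnit_pow_iff (Nat.one_le_iff_ne_zero.mp hn)).mp (hun u _ (by simpa using I.neg_mem hw) hu)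
    let P : Polynomial R := Polynomial.X ^ n - Polynomial.C u
    have hd : IsUnit (Polynomial.aeval w P.derivative) := by
      simp only [P, Polynomial.derivative_sub, Polynomial.derivative_C, sub_zero, Polynomial.derivative_X_pow,
        map_mul, Polynomial.aeval_C, map_pow, Polynomial.aeval_X]
      exact (by simpa using hnu.mul (hwu.pow (n - 1)))
    obtain ⟨x, ⟨hx1, hx2⟩, huniq⟩ := Polynomial.existsUnique_nilpotent_sub_and_aeval_eq_zero
      (P := P) (x := w) (by simpa [P] using hI _ hw) hd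
    have hx3 : x ^ n = u := by simpa [P, sub_eq_zero] using hx2
    refine ⟨x, ⟨?_, hx3⟩, fun z hz => huniq z ⟨?_, by simp [P, hz.2]⟩⟩
    · -- `x - w` times a unit is `x ^ n - w ^ n`
      have hgeom : (∑ i ∈ Finset.range n, x ^ i * w ^ (n - 1 - i)) * (x - w) = x ^ n - w ^ n :=
        geom_sum₂_mul x w n
      have hxw : IsNilpotent (x - w) := by simpa using hx1.neg
      have hsum : IsUnit (∑ i ∈ Finset.range n, x ^ i * w ^ (n - 1 - i)) := by
        have h2 : Ideal.Quotient.mk (nilradical R) x = Ideal.Quotient.mk (nilradical R) w :=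
          Ideal.Quotient.eq.mpr (mem_nilradical.mpr hxw)
        have h3 : (∑ i ∈ Finset.range n, x ^ i * w ^ (n - 1 - i)) - (n : R) * w ^ (n - 1) ∈ nilradical R := by
          rw [← Ideal.Quotient.eq, map_sum, map_mul, map_natCast, map_pow]
          rw [Finset.sum_congr rfl (g := fun _ => Ideal.Quotient.mk (nilradical R) w ^ (n - 1)) fun i hi => by
            rw [map_mul, map_pow, map_pow, h2, ← pow_add]
            congr 1
            have := Finset.mem_range.mp hi
            omega]
          simp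
        simpa using IsNilpotent.isUnit_add_left_of_commute (mem_nilradical.mp h3) (hnu.mul (hwu.pow (n - 1))) (Commute.all _ _)
      have h4 : (∑ i ∈ Finset.range n, x ^ i * w ^ (n - 1 - i)) * (x - w) ∈ I := by
        rw [hgeom, hx3]
        simpa using I.neg_mem hw
      exact (Ideal.unit_mul_mem_iff_mem I hsum).mp h4
    · simpa using (hI _ hz.1).neg
  refine ⟨fun y hy => ?_, fun u => ⟨fun ⟨v, hv⟩ => ⟨Ideal.Quotient.mk I v, by rw [← map_pow, hv]⟩, fun ⟨w, hw⟩ => ?_⟩⟩
  · obtain ⟨x, ⟨hx1, hx2⟩, huniq⟩ := hroot (1 + y) 1 (hun 1 _ (by simpa using I.neg_mem hy) isUnit_one)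
      (by simpa using I.neg_mem hy)
    refine ⟨x - 1, ⟨hx1, by simpa using hx2⟩, fun z hz => ?_⟩
    have := huniq (1 + z) ⟨by simpa using hz.1, hz.2⟩
    rw [← this]; ring
  · obtain ⟨w, rfl⟩ := Ideal.Quotient.mk_surjective w
    obtain ⟨x, ⟨-, hx⟩, -⟩ := hroot u w u.isUnit (Ideal.Quotient.eq.mp (by rw [map_pow]; exact hw))
    exact ⟨x, hx⟩
end Groth.Agent.S6331
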