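import Groth.Statements.S6332
import Mathlib.RingTheory.Trace.Basic
import Mathlib.FieldTheory.Galois.Basic
import Mathlib.GroupTheory.SpecificGroups.Cyclic

set_option autoImplicit false
universe u
open Fields

namespace Groth.Agent.S6332

open IntermediateField in
/-- Let L/K be a finite Galois extension of fields of characteristic p > 0 whose degree equals the prime
p (equivalently, the Galois group is cyclic of order p). Then there is an element z of L with z ^ p
- z in K which generates L over K. -/
theorem result {K L : Type u} [Field K] [Field L] [Algebra K L] (p : ℕ)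
    [Fact p.Prime] [CharP K p] [FiniteDimensional K L] [IsGalois K L]
    (hdeg : Module.finrank K L = p) :
    ∃ z : L, z ^ p - z ∈ Set.range (algebraMap K L) ∧ K⟮z⟯ = ⊤ := by
  classical
  have hp : p.Prime := Fact.out
  haveI : CharP L p := charP_of_injective_algebraMap (algebraMap K L).injective p
  have hcard : Nat.card (L ≃ₐ[K] L) = p := (IsGalois.card_aut_eq_finrank K L).trans hdeg
  haveI : Nontrivial (L ≃ₐ[K] L) := Finite.one_lt_card_iff_nontrivial.1 (hcard ▸ hp.one_lt)
  obtain ⟨σ, hσ1⟩ := exists_ne (1 : L ≃ₐ[K] L)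
  have hgen : ∀ τ : L ≃ₐ[K] L, τ ∈ Subgroup.zpowers σ := fun τ => mem_zpowers_of_prime_card hcard hσ1
  have hord : orderOf σ = p := by
    rw [← hcard]; exact orderOf_eq_card_of_forall_mem_zpowers hgen
  obtain ⟨θ, hθ⟩ := Algebra.trace_surjective K L 1
  have hsum : ∑ i ∈ Finset.range p, (σ ^ i) θ = 1 := by
    rw [← map_one (algebraMap K L), ← hθ, trace_eq_sum_automorphisms θ]
    refine Finset.sum_bij (fun i _ => σ ^ i) (fun i _ => Finset.mem_univ _) (fun i hi j hj h => ?_) (fun τ _ => ?_) (fun i _ => rfl)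
    · rw [← hord] at hi hj
      exact pow_injOn_Iio_orderOf (Finset.mem_range.1 hi) (Finset.mem_range.1 hj) h
    · obtain ⟨i, hi, he⟩ := (mem_zpowers_iff_mem_range_orderOf).1 (hgen τ) |> Finset.mem_image.1
      exact ⟨i, hord ▸ hi, he⟩
  set z : L := -∑ i ∈ Finset.range p, (i : L) * (σ ^ i) θ
  have hz : σ z = z + 1 := by
    have e : σ (∑ i ∈ Finset.range p, (i : L) * (σ ^ i) θ) = ∑ i ∈ Finset.range p, (i : L) * (σ ^ (i + 1)) θ := by
      rw [map_sum]
      exact Finset.sum_congr rfl fun i _ => by rw [map_mul, map_natCast, pow_succ']; rfl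
    have e2 : ∑ i ∈ Finset.range p, (((i + 1 : ℕ) : L) * (σ ^ (i + 1)) θ - (i : L) * (σ ^ i) θ) = 0 := by
      rw [Finset.sum_range_sub (fun i : ℕ => (i : L) * (σ ^ i) θ)]
      simp
    have e3 : ∑ i ∈ Finset.range p, (σ ^ (i + 1)) θ = 1 := by
      have := congrArg σ hsum
      rw [map_sum, map_one] at this
      rw [← this]
      exact Finset.sum_congr rfl fun i _ => by rw [pow_succ']; rfl
    rw [Finset.sum_sub_distrib] at e2
    simp only [Nat.cast_succ, add_mul, one_mul, Finset.sum_add_distrib] at e2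
    rw [e3] at e2
    rw [show z = -∑ i ∈ Finset.range p, (i : L) * (σ ^ i) θ from rfl, map_neg, e]
    linear_combination -e2
  have hfix : σ (z ^ p - z) = z ^ p - z := by
    rw [map_sub, map_pow, hz, add_pow_char, one_pow]
    ring
  refine ⟨z, ?_, ?_⟩
  · rw [IsGalois.mem_range_algebraMap_iff_fixed]
    intro τ
    obtain ⟨i, -, rfl⟩ := (mem_zpowers_iff_mem_range_orderOf).1 (hgen τ) |> Finset.mem_image.1
    induction i with
    | zero => rfl
    | succ i ih => rw [pow_succ, AlgEquiv.mul_apply, hfix, ih]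
  · haveI := IntermediateField.isSimpleOrder_of_finrank_prime K L (hdeg ▸ hp)
    refine (IsSimpleOrder.eq_bot_or_eq_top _).resolve_left fun hbot => ?_
    rw [IntermediateField.adjoin_simple_eq_bot_iff, IntermediateField.mem_bot] at hbot
    obtain ⟨c, hc⟩ := hbot
    rw [← hc, AlgEquiv.commutes, left_eq_add] at hz
    exact one_ne_zero hz

end Groth.Agent.S6332
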