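import Groth.Statements.S6334
import Mathlib

set_option autoImplicit false
universe u
open Fields

namespace Groth.Agent.S6334

open IntermediateField Polynomial in
theorem tower_step {F E : Type u} [Field F] [Field E] [Algebra F E] (p : ℕ)
    [Fact p.Prime] [CharP F p] [FiniteDimensional F E] [IsPurelyInseparable F E]
    (K : IntermediateField F E) :
    ∀ m, Module.finrank K E ≤ m → ∃ (n : ℕ) (a : Fin n → E), K ⊔ adjoin F (Set.range a) = ⊤ ∧
      (∀ i : Fin n, a i ^ p ∈ K ⊔ adjoin F (a '' {j | j < i}) ∧
        a i ∉ K ⊔ adjoin F (a '' {j | j < i})) ∧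
      Module.finrank K E = p ^ n := by
  classical
  intro m
  induction m generalizing K with
  | zero => intro h; exact absurd h (by have := Module.finrank_pos (R := K) (M := E); omega)
  | succ m ih =>
    intro hm
    by_cases hK : K = ⊤
    · refine ⟨0, Fin.elim0, by simp [hK], fun i => i.elim0, ?_⟩
      subst hK
      simp
    · have hp : p.Prime := Fact.out
      haveI : ExpChar F p := ExpChar.prime hp
      obtain ⟨x, hx⟩ : ∃ x : E, x ∉ K := by
        by_contra h
        push Not at h
        exact hK (eq_top_iff.2 fun y _ => h y)
      have hex : ∃ k : ℕ, x ^ p ^ k ∈ K := by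
        obtain ⟨k, c, hc⟩ := IsPurelyInseparable.pow_mem F p x
        exact ⟨k, hc ▸ K.algebraMap_mem c⟩
      obtain ⟨a, ha, hap⟩ : ∃ a : E, a ∉ K ∧ a ^ p ∈ K := by
        have hk := Nat.find_spec hex
        match hfind : Nat.find hex with
        | 0 => rw [hfind, pow_zero, pow_one] at hk; exact absurd hk hx
        | k + 1 =>
          refine ⟨x ^ p ^ k, Nat.find_min hex (by omega), ?_⟩
          rw [hfind] at hk
          rwa [← pow_mul, ← pow_succ]
      have hirr : Irreducible (X ^ p - C (⟨a ^ p, hap⟩ : K)) := by
        apply X_pow_sub_C_irreducible_of_prime hp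
        intro b hb
        haveI : CharP E p := charP_of_injective_algebraMap (algebraMap F E).injective p
        haveI : ExpChar E p := ExpChar.prime hp
        apply ha
        have h1 : (b : E) ^ p = a ^ p := congrArg Subtype.val hb
        have h2 : (b : E) = a := frobenius_inj E p h1
        exact h2 ▸ b.2
      have hmin : minpoly K a = X ^ p - C (⟨a ^ p, hap⟩ : K) := by
        refine (minpoly.eq_of_irreducible_of_monic hirr ?_ (monic_X_pow_sub_C _ hp.ne_zero)).symm
        simp [IntermediateField.algebraMap_apply]
      set K' : IntermediateField F E := K ⊔ F⟮a⟯ with hK'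
      have hfr : Module.finrank K E = p * Module.finrank K' E := by
        have h2 : K'= IntermediateField.restrictScalars F K⟮a⟯ := by
          rw [hK', restrictScalars_adjoin_eq_sup]
        have h3 := Module.finrank_mul_finrank K K⟮a⟯ E
        rw [adjoin.finrank (IsIntegral.of_finite K a), hmin, natDegree_X_pow_sub_C] at h3
        rw [← h3, h2]
        rfl
      have hlt : Module.finrank K' E ≤ m := by
        have := Module.finrank_pos (R := K') (M := E)
        have h2 := hp.two_le
        nlinarith
      obtain ⟨n, b, hb1, hb2, hb3⟩ := ih K' hlt
      refine ⟨n + 1, Fin.cons a b, ?_, ?_, ?_⟩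
      · rw [Fin.range_cons, Set.insert_eq, adjoin_union, ← sup_assoc]
        exact hb1
      · intro i
        refine Fin.cases ?_ (fun i => ?_) i
        · have : (Fin.cons a b : Fin (n+1) → E) '' {j | j < 0} = ∅ := by simp
          rw [this, adjoin_empty, sup_bot_eq]
          exact ⟨by simpa using hap, by simpa using ha⟩
        · have h1 : (Fin.cons a b : Fin (n+1) → E) '' {j | j < i.succ} =
              {a} ∪ b '' {j | j < i} := by
            ext y
            simp only [Set.mem_image, Set.mem_setOf_eq, Set.mem_union, Set.mem_singleton_iff]
            constructor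
            · rintro ⟨j, hj, rfl⟩
              induction j using Fin.cases with
              | zero => left; simp
              | succ j => right; exact ⟨j, by simpa using hj, by simp⟩
            · rintro (rfl | ⟨j, hj, rfl⟩)
              · exact ⟨0, Fin.succ_pos i, by simp⟩
              · exact ⟨j.succ, by simpa using hj, by simp⟩
          rw [h1, adjoin_union, ← sup_assoc, Fin.cons_succ]
          exact hb2 i
      · rw [hfr, hb3, pow_succ']

open IntermediateField in
/-- Let E/F be a finite purely inseparable extension of fields of characteristic p > 0. Then there are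
elements a_1, ..., a_n of E generating E over F such that for each i the p-th power of a_i lies in
F(a_1, ..., a_{i-1}) while a_i itself does not (so each step adjoins a p-th root and has degree p);
in particular [E : F] = p ^ n. -/
theorem result {F E : Type u} [Field F] [Field E] [Algebra F E] (p : ℕ)
    [Fact p.Prime] [CharP F p] [FiniteDimensional F E] [IsPurelyInseparable F E] :
    ∃ (n : ℕ) (a : Fin n → E), adjoin F (Set.range a) = ⊤ ∧
      (∀ i : Fin n, a i ^ p ∈ adjoin F (a '' {j | j < i}) ∧ a i ∉ adjoin F (a '' {j | j < i})) ∧
      Module.finrank F E = p ^ n := by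
  obtain ⟨n, a, h1, h2, h3⟩ := tower_step p (⊥ : IntermediateField F E) _ le_rfl
  refine ⟨n, a, by simpa using h1, fun i => by simpa using h2 i, ?_⟩
  rw [← h3, IntermediateField.finrank_bot']

end Groth.Agent.S6334
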