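import Groth.Statements.S6335
import Mathlib.FieldTheory.PurelyInseparable.PerfectClosure

set_option autoImplicit false
universe u
open Fields

namespace Groth.Agent.S6335

/-- Let K be a field of characteristic p > 0, L/K a separable algebraic extension and a an element of L.
If a is a root of a polynomial P over K which is separable (pairwise distinct roots in an algebraic
closure) and all of whose coefficients are p-th powers in K, then a is a p-th power in L. (Part (1),
the case where P is the minimal polynomial of a, is a special case.) -/
theorem result {K L : Type u} [Field K] [Field L] [Algebra K L]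
    (p : ℕ) [Fact p.Prime] [CharP K p] [Algebra.IsSeparable K L] (a : L) (P : Polynomial K)
    (hroot : Polynomial.aeval a P = 0) (hsep : P.Separable) (hcoeff : ∀ i : ℕ, ∃ b : K, b ^ p = P.coeff i) :
    ∃ c : L, c ^ p = a := by
  haveI : CharP L p := charP_of_injective_algebraMap (algebraMap K L).injective p
  let K0 : Subfield K := (frobenius K p).fieldRange
  letI : Algebra K0 L := ((algebraMap K L).comp K0.subtype).toAlgebra
  haveI : CharP K0 p := (RingHom.charP_iff K0.subtype K0.subtype.injective p).2 inferInstance
  haveI : ExpChar K0 p := ExpChar.prime Fact.out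
  obtain ⟨P0, hP0⟩ : ∃ P0 : Polynomial K0, P0.map K0.subtype = P := by
    rw [← Polynomial.mem_lifts, Polynomial.lifts_iff_coeff_lifts]
    exact fun i => ⟨⟨P.coeff i, hcoeff i⟩, rfl⟩
  have hP0sep : P0.Separable := by
    rw [← Polynomial.separable_map K0.subtype, hP0]; exact hsep
  have hsepa : IsSeparable K0 a := by
    refine hP0sep.of_dvd (minpoly.dvd _ _ ?_)
    rw [Polynomial.aeval_def, show algebraMap K0 L = (algebraMap K L).comp K0.subtype from rfl,
      ← Polynomial.eval₂_map, hP0]
    exact hroot
  have h := IntermediateField.adjoin_simple_eq_adjoin_pow_expChar_pow_of_isSeparable K0 L hsepa p 1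
  have hsub : IntermediateField.adjoin K0 ({a ^ p ^ 1} : Set L) ≤
      (frobenius L p).fieldRange.toIntermediateField (fun x => by
        obtain ⟨b, hb⟩ := x.2
        exact ⟨algebraMap K L b, by rw [frobenius_def, ← map_pow]; exact congrArg (algebraMap K L) hb⟩) := by
    rw [IntermediateField.adjoin_simple_le_iff, pow_one]
    exact ⟨a, rfl⟩
  obtain ⟨c, hc⟩ := hsub (h ▸ IntermediateField.mem_adjoin_simple_self K0 a)
  exact ⟨c, hc⟩

end Groth.Agent.S6335
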