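import Groth.Statements.S6336
import Mathlib

set_option autoImplicit false
universe u
open Fields

namespace Groth.Agent.S6336

open IntermediateField Polynomial in
/-- With an added hypothesis: let L/K be a finite extension of degree e generated by a single element a
whose e-th power lies in K, and assume that the polynomial X ^ e - 1 splits into linear factors over
K (so every e-th root of unity of any extension of K already lies in K; this holds when K contains a
primitive e-th root of unity, and when e is a power of the characteristic). Then every intermediate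
field of L/K is generated by a ^ d for some divisor d of e. (The published statement has no
hypothesis on roots of unity; for K the rationals and a a primitive 8-th root of unity, e = 4 and a
^ 4 = -1, the intermediate field generated by a + a⁻¹, a square root of 2, is none of K(a), K(a ^
2), K(a ^ 4); the published proof uses that the e-th roots of unity met are fixed by the
automorphisms it constructs, which the splitting hypothesis guarantees.) -/
theorem result {K L : Type u} [Field K] [Field L] [Algebra K L]
    [FiniteDimensional K L] (a : L) (ha : K⟮a⟯ = ⊤)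
    (hpow : a ^ Module.finrank K L ∈ Set.range (algebraMap K L))
    (hroots : (X ^ Module.finrank K L - 1 : K[X]).Splits) (L' : IntermediateField K L) :
    ∃ d : ℕ, d ∣ Module.finrank K L ∧ L' = K⟮a ^ d⟯ := by
  classical
  have hint : IsIntegral L' a := .of_finite L' a
  let g := minpoly L' a
  let m := g.natDegree
  let e := Module.finrank K L
  have he : 0 < e := Module.finrank_pos
  obtain ⟨c, hc⟩ := hpow
  -- every root of `X^e - c` in `L` is a multiple of `a` by an element of `K`
  by_cases ha0 : a = 0
  · refine ⟨e, dvd_rfl, ?_⟩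
    subst ha0
    rw [adjoin_simple_eq_bot_iff.2 (zero_mem _)] at ha
    rw [zero_pow he.ne', adjoin_simple_eq_bot_iff.2 (zero_mem _), eq_bot_iff, ha]
    exact le_top
  have hsplit : ((X : L[X]) ^ e - C (algebraMap K L c)).Splits := by
    have h1 : ((X : L[X]) ^ e - 1).Splits := by
      have := hroots.map (algebraMap K L)
      rwa [Polynomial.map_sub, Polynomial.map_pow, map_X, Polynomial.map_one] at this
    have h2 := h1.comp_of_natDegree_le_one (g := C a⁻¹ * X) ((natDegree_C_mul_le _ _).trans natDegree_X_le)
    have h3 : ((X : L[X]) ^ e - C (algebraMap K L c)) = C (a ^ e) * ((X ^ e - 1 : L[X]).comp (C a⁻¹ * X)) := by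
      rw [sub_comp, X_pow_comp, one_comp, mul_pow, ← C_pow, mul_sub, ← mul_assoc, ← C_mul, ← mul_pow,
        mul_inv_cancel₀ ha0, one_pow, C_1, one_mul, mul_one, hc]
    rw [h3]
    exact (Splits.C _).mul h2
  have hdvd : g.map (algebraMap L' L) ∣ (X : L[X]) ^ e - C (algebraMap K L c) := by
    have h0 : g ∣ X ^ e - C (algebraMap K L' c) := minpoly.dvd _ _ (by
      simp only [map_sub, map_pow, aeval_X, aeval_C, ← IsScalarTower.algebraMap_apply]
      rw [hc, sub_self])
    have := Polynomial.map_dvd (algebraMap L' L) h0
    rwa [Polynomial.map_sub, Polynomial.map_pow, map_X, map_C, ← IsScalarTower.algebraMap_apply] at this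
  have hne : (X : L[X]) ^ e - C (algebraMap K L c) ≠ 0 := X_pow_sub_C_ne_zero he _
  have hgs : (g.map (algebraMap L' L)).Splits := hsplit.of_dvd hne hdvd
  have hmon : (g.map (algebraMap L' L)).Monic := (minpoly.monic hint).map _
  have hroot : ∀ r ∈ (g.map (algebraMap L' L)).roots, ∃ z : K, r = algebraMap K L z * a := fun r hr => by
    have h1 : r ∈ ((X : L[X]) ^ e - C (algebraMap K L c)).roots := Multiset.mem_of_le (roots.le_of_dvd hne hdvd) hr
    rw [mem_roots hne, IsRoot, eval_sub, eval_pow, eval_X, eval_C, sub_eq_zero, hc] at h1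
    have h2 : ((X : L[X]) ^ e - 1).IsRoot (r / a) := by
      simp [IsRoot, div_pow, h1, pow_ne_zero _ ha0, div_self, sub_eq_zero]
      exact div_self (pow_ne_zero _ ha0)
    have hne1 : ((X : L[X]) ^ e - 1) ≠ 0 := by
      rw [← C_1]; exact X_pow_sub_C_ne_zero he _
    have h3 : r / a ∈ ((X ^ e - 1 : K[X]).map (algebraMap K L)).roots := by
      rw [Polynomial.map_sub, Polynomial.map_pow, map_X, Polynomial.map_one, mem_roots hne1]; exact h2
    rw [show (X ^ e - 1 : K[X]) = X ^ Module.finrank K L - 1 from rfl, hroots.roots_map, Multiset.mem_map] at h3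
    obtain ⟨z, -, hz⟩ := h3
    exact ⟨z, by rw [hz, div_mul_cancel₀ _ ha0]⟩
  have hcard : (g.map (algebraMap L' L)).roots.card = m := by
    rw [← hgs.natDegree_eq_card_roots, natDegree_map]
  have hprod : ∃ z : K, (g.map (algebraMap L' L)).roots.prod = algebraMap K L z * a ^ m := by
    rw [← hcard]
    revert hroot
    generalize (g.map (algebraMap L' L)).roots = s
    intro hs
    induction s using Multiset.induction_on with
    | empty => exact ⟨1, by simp⟩
    | cons x s ih =>
      obtain ⟨z, hz⟩ := ih fun r hr => hs r (Multiset.mem_cons_of_mem hr)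
      obtain ⟨w, rfl⟩ := hs x (Multiset.mem_cons_self _ _)
      exact ⟨w * z, by rw [Multiset.prod_cons, hz, Multiset.card_cons, map_mul, pow_succ]; ring⟩
  obtain ⟨z, hz⟩ := hprod
  have hcoeff := hgs.coeff_zero_eq_prod_roots_of_monic hmon
  rw [coeff_map, natDegree_map, hz] at hcoeff
  have hg0 : g.coeff 0 ≠ 0 := minpoly.coeff_zero_ne_zero hint ha0
  have hz0 : algebraMap K L z ≠ 0 := fun h => hg0 ((map_eq_zero (algebraMap L' L)).1 (by rw [hcoeff, h, zero_mul, mul_zero]))
  have ham : a ^ m ∈ L' := by
    have h1 : a ^ m = ((-1 : L) ^ m * algebraMap K L z)⁻¹ * algebraMap L' L (g.coeff 0) := by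
      rw [hcoeff, ← mul_assoc ((-1 : L) ^ m), inv_mul_cancel_left₀ (mul_ne_zero (pow_ne_zero _ (neg_ne_zero.2 one_ne_zero)) hz0)]
    rw [h1]
    exact L'.mul_mem (L'.inv_mem (L'.mul_mem (pow_mem (L'.neg_mem L'.one_mem) _) (L'.algebraMap_mem z))) (g.coeff 0).2
  have hgen : L'⟮a⟯ = ⊤ := by
    refine restrictScalars_injective K ?_
    rw [restrictScalars_top, eq_top_iff, ← ha, adjoin_simple_le_iff]
    exact mem_adjoin_simple_self L' a
  have hm : Module.finrank L' L = m := by
    show _ = (minpoly L' a).natDegree
    rw [← adjoin.finrank hint, hgen, finrank_top']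
  refine ⟨m, ?_, ?_⟩
  · rw [← hm]; exact ⟨Module.finrank K L', (mul_comm _ _).trans (Module.finrank_mul_finrank K L' L) |>.symm⟩
  · refine (IntermediateField.eq_of_le_of_finrank_le (adjoin_simple_le_iff.2 ham) ?_).symm
    let E := K⟮a ^ m⟯
    have h1 : Module.finrank E L ≤ m := by
      have hgen' : E⟮a⟯ = ⊤ := by
        refine restrictScalars_injective K ?_
        rw [restrictScalars_top, eq_top_iff, ← ha, adjoin_simple_le_iff]
        exact mem_adjoin_simple_self E a
      rw [← finrank_top' (F := E) (E := L), ← hgen', adjoin.finrank (.of_finite E a)]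
      have hmpos : 0 < m := minpoly.natDegree_pos hint
      refine (natDegree_le_of_dvd (minpoly.dvd E a (p := X ^ m - C (AdjoinSimple.gen K (a ^ m))) ?_) (X_pow_sub_C_ne_zero hmpos _)).trans_eq natDegree_X_pow_sub_C
      simp only [map_sub, map_pow, aeval_X, aeval_C]
      exact sub_eq_zero.2 (AdjoinSimple.algebraMap_gen K (a ^ m)).symm
    have h2 := Module.finrank_mul_finrank K L' L
    have h3 := Module.finrank_mul_finrank K E L
    rw [hm] at h2
    have hm0 : 0 < m := minpoly.natDegree_pos hint
    refine Nat.le_of_mul_le_mul_right ?_ hm0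
    rw [h2, ← h3]
    exact Nat.mul_le_mul_left _ h1

end Groth.Agent.S6336
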