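import Groth.Statements.S6337
import Groth.Agent.CAlgBasics.MittagLefflerApps
import Groth.Agent.CAlgBasics.UnivInj

set_option autoImplicit false
universe u
open CAlg

namespace Groth.Agent.S6337

/-- A direct sum of modules is Mittag-Leffler if and only if each summand is Mittag-Leffler. -/
theorem result (R : Type u) [CommRing R] {ι : Type u} (M : ι → Type u)
    [∀ i, AddCommGroup (M i)] [∀ i, Module R (M i)] :
    CAlg.IsMittagLeffler R (DirectSum ι M) ↔ ∀ i, CAlg.IsMittagLeffler R (M i) := by
  classical
  constructor
  · intro h i κ Q _ _
    have hinj : ∀ {X : Type u} [AddCommGroup X] [Module R X],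
        Function.Injective ((DirectSum.lof R ι M i).rTensor X) := fun {X} _ _ a b hab => by
      have := congrArg ((DirectSum.component R ι M i).rTensor X) hab
      rw [← LinearMap.rTensor_comp_apply, ← LinearMap.rTensor_comp_apply,
        show (DirectSum.component R ι M i) ∘ₗ DirectSum.lof R ι M i = LinearMap.id from
          LinearMap.ext fun x => DirectSum.component.lof_self R i x] at this
      simpa using this
    refine (injective_iff_map_eq_zero _).mpr fun x hx => ?_
    apply hinj
    rw [map_zero]
    refine (injective_iff_map_eq_zero _).mp (h κ Q) _ (funext fun k => ?_)
    rw [Groth.Agent.CAlgBasics.piRightHom_rTensor, hx]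
    simp
  · intro h κ Q _ _
    refine (injective_iff_map_eq_zero _).mpr fun x hx => ?_
    apply (TensorProduct.directSumLeft R R M (∀ k, Q k)).injective
    rw [map_zero]
    refine DirectSum.ext_component R fun i => ?_
    rw [map_zero]
    have key : DirectSum.component R ι _ i (TensorProduct.directSumLeft R R M (∀ k, Q k) x) =
        (DirectSum.component R ι M i).rTensor _ x := by
      clear hx
      induction x with
      | zero => simp
      | tmul a b =>
        induction a using DirectSum.induction_on with
        | zero => simp
        | of j m =>
          rw [← DirectSum.lof_eq_of R, TensorProduct.directSumLeft_tmul_lof, LinearMap.rTensor_tmul]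
          by_cases hij : j = i
          · subst hij; simp
          · simp [DirectSum.component.of, hij]
        | add p q hp hq => simp only [TensorProduct.add_tmul, map_add, hp, hq]
      | add a b ha hb => simp only [map_add, ha, hb]
    rw [key]
    refine (injective_iff_map_eq_zero _).mp (h i κ Q) _ (funext fun k => ?_)
    rw [Groth.Agent.CAlgBasics.piRightHom_rTensor, hx]
    simp

end Groth.Agent.S6337
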