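import Groth.Statements.S6340
import Groth.Agent.CAlgBasics.MittagLefflerApps
import Groth.Agent.CAlgBasics.UnivInj

set_option autoImplicit false
universe u
open CAlg

namespace Groth.Agent.S6340

/-- Let M₁ → M₂ → M₃ → 0 be exact with M₁ finitely generated; if M₂ is Mittag-Leffler then so is M₃.
Equivalently, as stated here: the quotient of a Mittag-Leffler module by a finitely generated
submodule is Mittag-Leffler. -/
theorem result (R : Type u) [CommRing R] {M : Type u} [AddCommGroup M] [Module R M]
    (N : Submodule R M) (hN : N.FG) (hM : CAlg.IsMittagLeffler R M) :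
    CAlg.IsMittagLeffler R (M ⧸ N) := by
  intro ι Q _ _
  refine (injective_iff_map_eq_zero _).mpr fun x hx => ?_
  obtain ⟨y, rfl⟩ := LinearMap.rTensor_surjective (∀ i, Q i) N.mkQ_surjective x
  haveI : Module.Finite R N := Module.Finite.iff_fg.mpr hN
  have h1 : ∀ i, ∃ z : TensorProduct R N (Q i), N.subtype.rTensor (Q i) z = TensorProduct.piRightHom R R M Q y i := by
    intro i
    refine (rTensor_exact (Q i) (LinearMap.exact_subtype_mkQ N) N.mkQ_surjective _).mp ?_
    rw [← Groth.Agent.CAlgBasics.piRightHom_rTensor, hx, Pi.zero_apply]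
  choose z hz using h1
  obtain ⟨w, hw⟩ := Groth.Agent.CAlgBasics.piRightHom_surjective (R := R) N Q z
  have h2 : y = N.subtype.rTensor (∀ i, Q i) w := by
    apply hM ι Q
    funext i
    rw [Groth.Agent.CAlgBasics.piRightHom_rTensor, hw, hz]
  rw [h2, ← LinearMap.rTensor_comp_apply, (LinearMap.exact_subtype_mkQ N).linearMap_comp_eq_zero]
  simp

end Groth.Agent.S6340
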