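import Groth.Statements.S6341
import Groth.Agent.CAlgBasics.MittagLefflerApps
import Groth.Agent.CAlgBasics.UnivInj

set_option autoImplicit false
universe u
open CAlg

namespace Groth.Agent.S6341

/-- The colimit of a directed system of Mittag-Leffler modules with universally injective transition
maps is Mittag-Leffler. -/
theorem result (R : Type u) [CommRing R] {ι : Type u}
    [Preorder ι] [IsDirected ι (· ≤ ·)] [DecidableEq ι] (G : ι → Type u) [∀ i, AddCommGroup (G i)]
    [∀ i, Module R (G i)] (f : ∀ i j, i ≤ j → G i →ₗ[R] G j) [DirectedSystem G fun i j h => f i j h]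
    (hf : ∀ i j (h : i ≤ j), CAlgX.UniversallyInjective R (f i j h))
    (hG : ∀ i, CAlg.IsMittagLeffler R (G i)) :
    CAlg.IsMittagLeffler R (Module.DirectLimit G f) := by
  classical
  intro κ Q _ _
  refine (injective_iff_map_eq_zero _).mpr fun x hx => ?_
  rcases isEmpty_or_nonempty ι with h0 | h0
  · have hid : (LinearMap.id : Module.DirectLimit G f →ₗ[R] Module.DirectLimit G f) = 0 :=
      Module.DirectLimit.hom_ext fun i => isEmptyElim i
    have := LinearMap.congr_fun (congrArg (LinearMap.rTensor (∀ k, Q k)) hid) x
    rw [LinearMap.rTensor_id, LinearMap.rTensor_zero] at this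
    exact this
  let e := TensorProduct.directLimitLeft f (∀ k, Q k)
  obtain ⟨i, y, hy⟩ := Module.DirectLimit.exists_of (e x)
  have hxy : x = (Module.DirectLimit.of R ι G f i).rTensor (∀ k, Q k) y := by
    apply e.injective
    rw [← hy]
    clear hy hx
    induction y with
    | zero => simp
    | tmul a b => simp [e]
    | add a b ha hb => simp only [map_add, ha, hb]
  suffices y = 0 by rw [hxy, this, map_zero]
  refine (injective_iff_map_eq_zero _).mp (hG i κ Q) _ (funext fun k => ?_)
  have h1 : (Module.DirectLimit.of R ι G f i).rTensor (Q k) (TensorProduct.piRightHom R R (G i) Q y k) = 0 := by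
    rw [← Groth.Agent.CAlgBasics.piRightHom_rTensor, ← hxy, hx, Pi.zero_apply]
  generalize TensorProduct.piRightHom R R (G i) Q y k = z at h1 ⊢
  have h2 : Module.DirectLimit.of R ι (fun j => TensorProduct R (G j) (Q k))
      (fun a b hab => (f a b hab).rTensor (Q k)) i z = 0 := by
    have := congrArg (TensorProduct.directLimitLeft f (Q k)) h1
    rw [map_zero] at this
    rw [← this]
    clear this h1
    induction z with
    | zero => simp
    | tmul a b => simp
    | add a b ha hb => simp only [map_add, ha, hb]
  obtain ⟨j, hij, hj⟩ := Module.DirectLimit.of.zero_exact h2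
  exact hf i j hij (Q k) (hj.trans (map_zero _).symm)

end Groth.Agent.S6341
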