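import Groth.Statements.S6342
import Groth.Agent.CAlgBasics.MittagLefflerApps
import Groth.Agent.CAlgBasics.UnivInj

set_option autoImplicit false
universe u
open CAlg

namespace Groth.Agent.S6342

/-- Let R → S be a ring map such that S is Mittag-Leffler as an R-module, and let M be an S-module which
is flat and Mittag-Leffler over S. Then M is Mittag-Leffler as an R-module. -/
theorem result (R S : Type u) [CommRing R] [CommRing S] [Algebra R S]
    (M : Type u) [AddCommGroup M] [Module S M] [Module R M] [IsScalarTower R S M]
    (hS : CAlg.IsMittagLeffler R S) [Module.Flat S M] (hM : CAlg.IsMittagLeffler S M) :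
    CAlg.IsMittagLeffler R M := by
  intro ι Q _ _
  refine (injective_iff_map_eq_zero _).mpr fun x hx => ?_
  let c := fun (X : Type u) (_ : AddCommGroup X) (_ : Module R X) =>
    TensorProduct.AlgebraTensorModule.cancelBaseChange R S S M X
  obtain ⟨y, rfl⟩ := (TensorProduct.AlgebraTensorModule.cancelBaseChange R S S M (∀ i, Q i)).surjective x
  let Φ : TensorProduct R S (∀ i, Q i) →ₗ[S] ∀ i, TensorProduct R S (Q i) := TensorProduct.piRightHom R S S Q
  have hΦ : Function.Injective Φ := fun a b hab => hS ι Q hab
  have h1 : TensorProduct.piRightHom S S M (fun i => TensorProduct R S (Q i)) (Φ.lTensor M y) = 0 := by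
    funext i
    apply (TensorProduct.AlgebraTensorModule.cancelBaseChange R S S M (Q i)).injective
    rw [Pi.zero_apply, map_zero]
    have hx' := congrFun hx i
    rw [Pi.zero_apply] at hx'
    rw [← hx']
    clear hx hx'
    induction y with
    | zero => simp
    | tmul m st =>
      induction st with
      | zero => simp
      | tmul s t => simp [Φ]
      | add a b ha hb => simp only [TensorProduct.tmul_add, map_add, Pi.add_apply, ha, hb]
    | add a b ha hb => simp only [map_add, Pi.add_apply, ha, hb]
  have h2 := (injective_iff_map_eq_zero _).mp (hM ι (fun i => TensorProduct R S (Q i))) _ h1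
  rw [(injective_iff_map_eq_zero _).mp (Module.Flat.lTensor_preserves_injective_linearMap (M := M) Φ hΦ) y h2, map_zero]

end Groth.Agent.S6342
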