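import Groth.Statements.S6345
import Groth.Agent.CAlgBasics.MittagLefflerApps

set_option autoImplicit false
universe u
open CAlg

namespace Groth.Agent.S6345

/-- Let I be a finitely generated ideal of a commutative ring R and M an R/I-module. Then M is
Mittag-Leffler over R if and only if it is Mittag-Leffler over R/I. -/
theorem result (R : Type u) [CommRing R] (I : Ideal R) (hI : I.FG)
    (M : Type u) [AddCommGroup M] [Module (R ⧸ I) M] [Module R M] [IsScalarTower R (R ⧸ I) M] :
    CAlg.IsMittagLeffler R M ↔ CAlg.IsMittagLeffler (R ⧸ I) M := by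
  haveI : Module.FinitePresentation R (R ⧸ I) :=
    Module.finitePresentation_of_surjective (Submodule.mkQ I) (Submodule.mkQ_surjective _) (by rwa [Submodule.ker_mkQ])
  exact ⟨fun h => Groth.Agent.CAlgBasics.isMittagLeffler_of_quotient I h,
    fun h => Groth.Agent.CAlgBasics.isMittagLeffler_restrictScalars (R ⧸ I) h⟩

end Groth.Agent.S6345
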