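import Groth.Statements.S6348
import Groth.Agent.CAlgBasics.MittagLefflerApps
import Groth.Agent.CAlgBasics.UnivInj

set_option autoImplicit false
universe u
open scoped TensorProduct
open CAlg

namespace Groth.Agent.S6348

/-- For a ring map R → S and a Mittag-Leffler R-module M, the S-module S ⊗_R M is Mittag-Leffler. (The
companion parts on flat modules, projective modules and direct sums of countably generated modules
are standard base-change facts.) -/
theorem result (R S : Type u) [CommRing R] [CommRing S] [Algebra R S] (M : Type u)
    [AddCommGroup M] [Module R M] (hM : CAlg.IsMittagLeffler R M) :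
    CAlg.IsMittagLeffler S (S ⊗[R] M) := by
  intro ι Q _ _
  letI : ∀ i, Module R (Q i) := fun i => Module.compHom (Q i) (algebraMap R S)
  haveI : ∀ i, IsScalarTower R S (Q i) := fun i => IsScalarTower.of_algebraMap_smul fun _ _ => rfl
  refine (injective_iff_map_eq_zero _).mpr fun x hx => ?_
  obtain ⟨T, rfl⟩ := TensorProduct.exists_finset x
  let e : ∀ (X : Type u) [AddCommGroup X] [Module S X] [Module R X] [IsScalarTower R S X],
      TensorProduct S (TensorProduct R S M) X ≃ₗ[R] TensorProduct R M X := fun X _ _ _ _ =>
    ((TensorProduct.comm S (TensorProduct R S M) X).restrictScalars R) ≪≫ₗ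
      ((TensorProduct.AlgebraTensorModule.cancelBaseChange R S S X M).restrictScalars R) ≪≫ₗ
        TensorProduct.comm R X M
  have key : ∀ (z : TensorProduct S (TensorProduct R S M) (∀ i, Q i)) (i : ι),
      TensorProduct.piRightHom R R M Q (e (∀ i, Q i) z) i = e (Q i) (TensorProduct.piRightHom S S _ Q z i) := by
    intro z i
    induction z with
    | zero => simp
    | tmul sm q =>
      induction sm with
      | zero => simp
      | tmul s m => simp [e]
      | add a b ha hb => simp only [TensorProduct.add_tmul, map_add, Pi.add_apply, ha, hb]
    | add a b ha hb => simp only [map_add, Pi.add_apply, ha, hb]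
  apply (e (∀ i, Q i)).injective
  rw [map_zero]
  refine (injective_iff_map_eq_zero _).mp (hM ι Q) _ (funext fun i => ?_)
  rw [key, hx]
  simp

end Groth.Agent.S6348
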