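import Groth.Statements.S6353
import Groth.Agent.FlatGenStable.Basic

set_option autoImplicit false
universe u
open CAlg

namespace Groth.Agent.S6353

open PrimeSpectrum in
/-- For a commutative ring R, I ↦ V(I) is a bijection between pure ideals (R/I flat over R) and closed
subsets of Spec R stable under generalization. Stated here as: V(I) is stable under generalization
for I pure, and every closed generalization-stable subset is V(I) for some pure I (injectivity on
pure ideals being the standard fact that pure ideals with the same zero locus coincide). -/
theorem result (R : Type u) [CommRing R] :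
    (∀ I : Ideal R, I.Pure → StableUnderGeneralization (zeroLocus (I : Set R))) ∧
      ∀ Z : Set (PrimeSpectrum R), IsClosed Z → StableUnderGeneralization Z →
        ∃ I : Ideal R, I.Pure ∧ zeroLocus (I : Set R) = Z := by
  refine ⟨fun I hI ↦ ?_, fun Z hc hg ↦ ?_⟩
  · have : Module.Flat R (R ⧸ I) := hI
    have h : zeroLocus (I : Set R) =
        {p : PrimeSpectrum R | 1 ≤ Module.rankAtStalk (R ⧸ I) p} := by
      ext p
      rw [Set.mem_ofPred_eq, Nat.one_le_iff_ne_zero, ← Nat.pos_iff_ne_zero,
        Module.rankAtStalk_pos_iff_mem_support, Module.support_eq_zeroLocus,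
        Ideal.annihilator_quotient]
    rw [h]
    exact Groth.Agent.FlatGenStable.stableUnderGeneralization_rankAtStalk 1
  · obtain ⟨I, hI⟩ := (PrimeSpectrum.isClosed_iff_zeroLocus_ideal Z).1 hc
    exact ⟨_, Groth.Agent.FlatGenStable.flat_quotient_pureIdeal hI hg,
      Groth.Agent.FlatGenStable.zeroLocus_pureIdeal hI hg⟩

end Groth.Agent.S6353
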