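import Groth.Statements.S6354

set_option autoImplicit false
universe u
open CAlg

namespace Groth.Agent.S6354

open PrimeSpectrum in

open PrimeSpectrum in
/-- For an ideal I of a commutative ring R these four conditions are equivalent: (1) I is finitely
generated and pure; (2) I = (e) for some idempotent e; (3) I is pure with V(I) open in Spec R; (4)
R/I is projective as an R-module. -/
theorem result (R : Type u) [CommRing R] (I : Ideal R) :
    List.TFAE [I.Pure ∧ I.FG, ∃ e : R, IsIdempotentElem e ∧ I = Ideal.span {e},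
      I.Pure ∧ IsOpen (zeroLocus (I : Set R)), Module.Projective R (R ⧸ I)] := by
  have mk : ∀ e : R, IsIdempotentElem e → (Ideal.span {e}).Pure ∧ (Ideal.span {e}).FG ∧ IsOpen (zeroLocus ((Ideal.span {e} : Ideal R) : Set R)) := by
    intro e he
    have hfg : (Ideal.span {e}).FG := ⟨{e}, by simp [Submodule.span]⟩
    refine ⟨Ideal.Pure.of_isIdempotentElem hfg ?_, hfg, ?_⟩
    · show Ideal.span {e} * Ideal.span {e} = Ideal.span {e}
      rw [Ideal.span_singleton_mul_span_singleton, he.eq]
    · rw [zeroLocus_span, zeroLocus_eq_basicOpen_of_isIdempotentElem e he]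
      exact (basicOpen (1 - e)).2
  tfae_have 1 → 2 := fun ⟨h1, h2⟩ => by
    haveI := h1
    exact (Ideal.isIdempotentElem_iff_of_fg I h2).mp (Ideal.isIdempotentElem_of_pure I)
  tfae_have 2 → 3 := fun ⟨e, he, hI⟩ => hI ▸ ⟨(mk e he).1, (mk e he).2.2⟩
  tfae_have 3 → 2 := by
    rintro ⟨h1, h2⟩
    obtain ⟨e, he, hz⟩ := isClopen_iff_zeroLocus.mp ⟨isClosed_zeroLocus (I : Set R), h2⟩
    haveI := h1
    haveI := (mk e he).1
    exact ⟨e, he, Ideal.zeroLocus_inj_of_pure.mp (by rw [hz, zeroLocus_span])⟩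
  tfae_have 2 → 1 := fun ⟨e, he, hI⟩ => hI ▸ ⟨(mk e he).1, (mk e he).2.1⟩
  tfae_have 2 → 4 := by
    rintro ⟨e, he, rfl⟩
    refine Module.Projective.of_split (Submodule.liftQ (Ideal.span {e}) (LinearMap.mulRight R (1 - e)) ?_) (Submodule.mkQ (Ideal.span {e})) ?_
    · intro x hx
      obtain ⟨a, rfl⟩ := Ideal.mem_span_singleton'.mp hx
      simp [mul_assoc, mul_sub, he.eq]
    · apply Submodule.linearMap_qext
      apply LinearMap.ext_ring
      have he0 := Ideal.Quotient.eq_zero_iff_mem.mpr (Ideal.mem_span_singleton_self e)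
      show Ideal.Quotient.mk (Ideal.span {e}) (1 * (1 - e)) = 1
      simp [he0]
  tfae_have 4 → 2 := by
    intro h
    obtain ⟨s, hs⟩ := Module.projective_lifting_property (Submodule.mkQ I) LinearMap.id (Submodule.mkQ_surjective I)
    have h1 : ∀ v, Submodule.mkQ I (s v) = v := LinearMap.congr_fun hs
    let u := s (Submodule.mkQ I 1)
    have hu : ∀ x ∈ I, x * u = 0 := by
      intro x hx
      have : Submodule.mkQ I x = 0 := by simpa [Ideal.Quotient.eq_zero_iff_mem] using hx
      rw [← smul_eq_mul, ← map_smul, ← map_smul, smul_eq_mul, mul_one, this, map_zero]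
    have hu1 : 1 - u ∈ I := by
      rw [← Submodule.Quotient.mk_eq_zero, Submodule.Quotient.mk_sub, sub_eq_zero]
      exact (h1 (Submodule.mkQ I 1)).symm
    refine ⟨1 - u, ?_, le_antisymm (fun x hx => ?_) ((Ideal.span_singleton_le_iff_mem _).mpr hu1)⟩
    · show (1 - u) * (1 - u) = 1 - u
      linear_combination (-1 : R) * hu _ hu1
    · exact Ideal.mem_span_singleton'.mpr ⟨x, by linear_combination (-1 : R) * hu x hx⟩
  tfae_finish

end Groth.Agent.S6354
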