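import Groth.Statements.S6362
import Mathlib

set_option autoImplicit false
universe u
open scoped TensorProduct
open Fields

namespace Groth.Agent.S6362

/-- Let K/F be a finite separable extension and L/F an extension with L algebraically closed. Then the
L-algebra map K ⊗_F L → ∏_σ L, indexed by the F-algebra maps σ : K → L and sending a ⊗ b to (σ(a)
b)_σ, is an isomorphism; stated as bijectivity of that map. -/
theorem result {F K L : Type u} [Field F] [Field K] [Field L]
    [Algebra F K] [Algebra F L] [FiniteDimensional F K] [Algebra.IsSeparable F K] [IsAlgClosed L] :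
    Function.Bijective (fun x : K ⊗[F] L => fun σ : K →ₐ[F] L =>
      Algebra.TensorProduct.lift σ (AlgHom.id F L) (fun a b => Commute.all (σ a) b) x) := by
  classical
  let Φ : L ⊗[F] K →ₐ[L] ((K →ₐ[F] L) → L) :=
    Algebra.TensorProduct.lift (Algebra.ofId L _)
      ({ toFun := fun a σ => σ a, map_one' := by funext σ; simp, map_mul' := by intro a b; funext σ; simp, map_zero' := by funext σ; simp, map_add' := by intro a b; funext σ; simp, commutes' := by intro a; funext σ; simp } : K →ₐ[F] ((K →ₐ[F] L) → L)) (fun _ _ => Commute.all _ _)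
  have hcomm : (fun x : K ⊗[F] L => fun σ : K →ₐ[F] L =>
      Algebra.TensorProduct.lift σ (AlgHom.id F L) (fun a b => Commute.all (σ a) b) x)
      = Φ ∘ (Algebra.TensorProduct.comm F K L) := by
    funext x
    induction x using TensorProduct.induction_on with
    | zero => ext σ; simp
    | tmul a b =>
      ext σ
      refine (Algebra.TensorProduct.lift_tmul σ (AlgHom.id F L) (fun _ _ => Commute.all _ _) a b).trans ?_
      simp [Φ, mul_comm]
    | add x y hx hy =>
      funext σ
      simp only [Function.comp_apply, map_add] at hx hy ⊢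
      rw [Pi.add_apply, ← congrFun hx σ, ← congrFun hy σ]
  rw [hcomm]
  refine Function.Bijective.comp ?_ (Algebra.TensorProduct.comm F K L).bijective
  have hd : Module.finrank L (L ⊗[F] K) = Module.finrank L ((K →ₐ[F] L) → L) := by
    rw [Module.finrank_baseChange, Module.finrank_fintype_fun_eq_card,
      ← AlgHom.card F K L]
  have hsurj : Function.Surjective Φ.toLinearMap := by
    rw [← LinearMap.range_eq_top]
    by_contra hne
    obtain ⟨f, hf0, hf⟩ := Submodule.exists_le_ker_of_lt_top _ (lt_top_iff_ne_top.2 hne)
    have hli := linearIndependent_algHom_toLinearMap F K L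
    rw [Fintype.linearIndependent_iff] at hli
    apply hf0
    apply (Pi.basisFun L (K →ₐ[F] L)).ext
    intro σ
    simp only [Pi.basisFun_apply, LinearMap.zero_apply]
    refine hli (fun τ => f (Pi.single τ 1)) (LinearMap.ext fun a => ?_) σ
    have h1 : f (Φ (1 ⊗ₜ a)) = 0 := by
      exact LinearMap.mem_ker.1 (hf ⟨1 ⊗ₜ a, rfl⟩)
    have h2 : Φ (1 ⊗ₜ a) = ∑ τ, (τ a) • Pi.single τ (1 : L) := by
      funext τ
      simp [Φ, Pi.single_apply]
    rw [h2] at h1
    simpa [mul_comm] using h1
  exact ⟨(LinearMap.injective_iff_surjective_of_finrank_eq_finrank hd).2 hsurj, hsurj⟩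

end Groth.Agent.S6362
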