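import Groth.Statements.S6363
import Mathlib

set_option autoImplicit false
universe u
open scoped TensorProduct
open Fields

namespace Groth.Agent.S6363

theorem result {K L M : Type u} [Field K] [Field L] [Field M]
    [Algebra K L] [Algebra K M] [Algebra L M] [IsScalarTower K L M] [FiniteDimensional K L]
    [IsNormalClosure K L M] :
    ∃ f : (⨂[K] _ : Fin (Field.finSepDegree K L), L) →ₐ[K] M, Function.Surjective f := by
  classical
  have hn := (Algebra.IsAlgebraic.isNormalClosure_iff (F := K) (K := L) (L := M)).1 inferInstance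
  have hcard : Field.finSepDegree K L = Nat.card (L →ₐ[K] M) :=
    Field.finSepDegree_eq_of_adjoin_splits (F := K) (E := L) (K := M) (S := Set.univ) (IntermediateField.adjoin_univ K L) fun x _ =>
      ⟨Algebra.IsIntegral.isIntegral x, hn.1 x⟩
  have : Fintype (L →ₐ[K] M) := minpoly.AlgHom.fintype K L M
  let e : Fin (Field.finSepDegree K L) ≃ (L →ₐ[K] M) :=
    (finCongr (hcard.trans Nat.card_eq_fintype_card)).trans (Fintype.equivFin _).symm
  let g : MultilinearMap K (fun _ : Fin (Field.finSepDegree K L) => L) M :=
    (MultilinearMap.mkPiAlgebra K (Fin (Field.finSepDegree K L)) M).compLinearMap (fun i => (e i).toLinearMap)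
  refine ⟨PiTensorProduct.liftAlgHom g (by simp [g]) (fun x y => by simp [g, Finset.prod_mul_distrib]), ?_⟩
  set f := PiTensorProduct.liftAlgHom g (by simp [g]) (fun x y => by simp [g, Finset.prod_mul_distrib])
  have : Normal K M := IsNormalClosure.normal (K := L)
  let S : IntermediateField K M := Subalgebra.toIntermediateField f.range fun x hx =>
    Subalgebra.inv_mem_of_algebraic f.range (x := ⟨x, hx⟩)
      ((Algebra.IsAlgebraic.isAlgebraic (R := K) x))
  have hS : S = ⊤ := by
    rw [eq_top_iff, ← hn.2, normalClosure_le_iff]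
    rintro φ _ ⟨a, rfl⟩
    refine ⟨PiTensorProduct.tprod K (Function.update 1 (e.symm φ) a), ?_⟩
    change PiTensorProduct.lift g (PiTensorProduct.tprod K (Function.update 1 (e.symm φ) a)) = φ a
    rw [PiTensorProduct.lift.tprod]
    simp only [g, MultilinearMap.compLinearMap_apply, MultilinearMap.mkPiAlgebra_apply]
    rw [Finset.prod_eq_single (e.symm φ)] <;> simp +contextual
  intro m
  have : m ∈ S := hS ▸ trivial
  exact this

end Groth.Agent.S6363
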