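import Groth.Statements.S6364
import Mathlib.LinearAlgebra.Matrix.Charpoly.Minpoly
import Mathlib.LinearAlgebra.Charpoly.ToMatrix
import Mathlib.FieldTheory.IntermediateField.Adjoin.Basic

set_option autoImplicit false
universe u
open Fields

namespace Groth.Agent.S6364

open IntermediateField in
/-- Let L/K be a finite extension and a ∈ L with minimal polynomial P over K. Then P ^ e, with e = [L :
K(a)], is the characteristic polynomial of multiplication by a (the K-linear map x ↦ a x on L), and
e · deg P = [L : K]. -/
theorem result {K L : Type u} [Field K] [Field L] [Algebra K L] [FiniteDimensional K L]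
    (a : L) :
    (Algebra.lmul K L a).charpoly = minpoly K a ^ Module.finrank K⟮a⟯ L ∧
      Module.finrank K⟮a⟯ L * (minpoly K a).natDegree = Module.finrank K L := by
  classical
  have hai : IsIntegral K a := IsIntegral.of_finite K a
  let pb := IntermediateField.adjoin.powerBasis hai
  let c := Module.finBasis K⟮a⟯ L
  refine ⟨?_, ?_⟩
  · have hga : algebraMap K⟮a⟯ L (IntermediateField.AdjoinSimple.gen K a) = a := IntermediateField.AdjoinSimple.algebraMap_gen K a
    have hblock : ∀ M : Matrix (Fin pb.dim) (Fin pb.dim) K,
        (Matrix.blockDiagonal fun _ : Fin (Module.finrank K⟮a⟯ L) => M).charpoly = M.charpoly ^ Module.finrank K⟮a⟯ L := by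
      intro M
      have h : (Matrix.blockDiagonal fun _ : Fin (Module.finrank K⟮a⟯ L) => M).charmatrix =
          Matrix.blockDiagonal fun _ => M.charmatrix := by
        ext ⟨i, k⟩ ⟨j, l⟩ : 2
        rcases eq_or_ne k l with rfl | hkl
        · rcases eq_or_ne i j with rfl | hij
          · simp [Matrix.charmatrix_apply_eq, Matrix.blockDiagonal_apply_eq]
          · rw [Matrix.charmatrix_apply_ne _ _ _ (by simpa using hij), Matrix.blockDiagonal_apply_eq,
              Matrix.blockDiagonal_apply_eq, Matrix.charmatrix_apply_ne _ _ _ hij]
        · rw [Matrix.charmatrix_apply_ne _ _ _ (by simp [hkl]), Matrix.blockDiagonal_apply_ne _ _ _ hkl,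
            Matrix.blockDiagonal_apply_ne _ _ _ hkl, Polynomial.C_0, neg_zero]
      rw [Matrix.charpoly, h, Matrix.det_blockDiagonal, Finset.prod_const, Finset.card_fin, Matrix.charpoly]
    rw [← LinearMap.charpoly_toMatrix _ (pb.basis.smulTower c)]
    show (Algebra.leftMulMatrix (pb.basis.smulTower c) a).charpoly = _
    rw [show Algebra.leftMulMatrix (pb.basis.smulTower c) a = Algebra.leftMulMatrix (pb.basis.smulTower c) (algebraMap K⟮a⟯ L (IntermediateField.AdjoinSimple.gen K a)) from congrArg _ hga.symm]
    rw [Algebra.smulTower_leftMulMatrix_algebraMap]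
    refine (hblock _).trans ?_
    rw [show IntermediateField.AdjoinSimple.gen K a = pb.gen from rfl, charpoly_leftMulMatrix]
    congr 1
    exact IntermediateField.minpoly_gen K a
  · rw [← IntermediateField.adjoin.finrank hai, mul_comm, Module.finrank_mul_finrank]

end Groth.Agent.S6364
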