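import Groth.Statements.S6369
import Mathlib


set_option autoImplicit false
universe u
open CAlg

namespace Groth.Agent.S6369

/-- (1) ⇒ (3): let R be a domain such that every nonzero ideal is a product of nonzero prime ideals,
uniquely up to permutation of the factors. Then R is Noetherian, integrally closed and of dimension
at most one, i.e. a Dedekind domain in the Noetherian sense. (The converse and the description by
discrete valuation rings at maximal ideals are the standard equivalences.) -/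
theorem result (R : Type u) [CommRing R] [IsDomain R]
    (h : ∀ I : Ideal R, I ≠ ⊥ → ∃! s : Multiset (Ideal R), (∀ p ∈ s, p.IsPrime ∧ p ≠ ⊥) ∧ s.prod = I) :
    IsDedekindDomain R := by
  classical
  have cancel : ∀ I J K : Ideal R, I ≠ ⊥ → I * J = I * K → J = K := by
    intro I J K hI hJK
    rcases eq_or_ne J ⊥ with rfl | hJ
    · rw [Ideal.mul_bot, eq_comm, ← Submodule.zero_eq_bot, mul_eq_zero] at hJK
      exact ((hJK.resolve_left hI).symm)
    rcases eq_or_ne K ⊥ with rfl | hK
    · rw [Ideal.mul_bot, ← Submodule.zero_eq_bot, mul_eq_zero] at hJK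
      exact hJK.resolve_left hI
    obtain ⟨a, ⟨ha, rfl⟩, -⟩ := h I hI
    obtain ⟨b, ⟨hb, rfl⟩, -⟩ := h J hJ
    obtain ⟨c, ⟨hc, rfl⟩, -⟩ := h K hK
    obtain ⟨s, -, hu⟩ := h (a.prod * b.prod) (mul_ne_zero hI hJ)
    have hab : a + b = s := hu _ ⟨fun p hp => (Multiset.mem_add.mp hp).elim (ha p) (hb p), Multiset.prod_add a b⟩
    have hac : a + c = s := hu _ ⟨fun p hp => (Multiset.mem_add.mp hp).elim (ha p) (hc p),
      (Multiset.prod_add a c).trans hJK.symm⟩
    rw [add_left_cancel (hab.trans hac.symm)]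
  have fgQ : ∀ (Q K : Ideal R) (a : R), a ≠ 0 → Q * K = Ideal.span {a} → Q.FG := by
    intro Q K a ha hQK
    obtain ⟨T, hT, hT'⟩ := Submodule.mem_span_finite_of_mem_span (R := R) (S := {z : R | ∃ q ∈ Q, ∃ k ∈ K, q * k = z})
      (x := a) (by
        have : a ∈ Q * K := hQK ▸ Ideal.mem_span_singleton_self a
        refine Submodule.mul_induction_on this (fun m hm n hn => Submodule.subset_span ⟨m, hm, n, hn, rfl⟩) fun x y hx hy => add_mem hx hy)
    choose q hq k hk hqk using fun z : T => hT z.2
    refine ⟨Finset.univ.image q, le_antisymm (Submodule.span_le.mpr fun z hz => ?_) fun x hx => ?_⟩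
    · obtain ⟨i, -, rfl⟩ := Finset.mem_image.mp hz
      exact hq i
    · have hmem : x * a ∈ Ideal.span {a} * Ideal.span (Finset.univ.image q : Set R) := by
        suffices ∀ w ∈ Submodule.span R (T : Set R), x * w ∈ Ideal.span {a} * Ideal.span (Finset.univ.image q : Set R) from
          this a hT'
        intro w hw
        refine Submodule.span_induction (fun z hz => ?_) (by simp) (fun y z _ _ hy hz => by rw [mul_add]; exact add_mem hy hz)
          (fun r z _ hz => by rw [smul_eq_mul, mul_left_comm]; exact Ideal.mul_mem_left _ _ hz) hw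
        have h1 : k ⟨z, hz⟩ * x ∈ Ideal.span {a} := by
          rw [← hQK, mul_comm (k _) x]; exact Ideal.mul_mem_mul hx (hk _)
        have := Ideal.mul_mem_mul h1 (Ideal.subset_span (Finset.mem_coe.mpr (Finset.mem_image_of_mem q (Finset.mem_univ (⟨z, hz⟩ : T)))) :
          q ⟨z, hz⟩ ∈ Ideal.span (Finset.univ.image q : Set R))
        rw [show k ⟨z, hz⟩ * x * q ⟨z, hz⟩ = x * (q ⟨z, hz⟩ * k ⟨z, hz⟩) by ring, hqk] at this
        exact this
      obtain ⟨w, hw, hwx⟩ := Ideal.mem_span_singleton_mul.mp hmem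
      rw [mul_comm x a] at hwx
      exact mul_left_cancel₀ ha hwx ▸ hw
  have hdiv : ∀ (I J : Ideal R) (a : R), a ≠ 0 → I * Ideal.span {a} = J * Ideal.span {a} → I = J := fun I J a ha hIJ => by
    rw [mul_comm I, mul_comm J] at hIJ
    exact cancel _ _ _ (by simpa using ha) hIJ
  have hcube : ∀ a b : R, a ≠ 0 → a * b ∈ Ideal.span {a} ^ 2 ⊔ Ideal.span {b} ^ 2 := by
    intro a b ha
    have hne : Ideal.span {a} ⊔ Ideal.span {b} ≠ ⊥ := fun h0 => ha (by
      have : a ∈ Ideal.span {a} ⊔ Ideal.span {b} := Ideal.mem_sup_left (Ideal.mem_span_singleton_self a)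
      rwa [h0, Ideal.mem_bot] at this)
    have heq : (Ideal.span {a} ⊔ Ideal.span {b}) * (Ideal.span {a} ^ 2 ⊔ Ideal.span {b} ^ 2) =
        (Ideal.span {a} ⊔ Ideal.span {b}) * ((Ideal.span {a} ⊔ Ideal.span {b}) * (Ideal.span {a} ⊔ Ideal.span {b})) := by
      simp only [← Submodule.add_eq_sup]
      ring_nf
      have : ∀ X : Ideal R, X * 3 = X := fun X => by
        have h3 : (3 : Ideal R) = 1 := by
          rw [show (3 : Ideal R) = 1 + 1 + 1 by norm_num, Submodule.add_eq_sup, Submodule.add_eq_sup, sup_idem, sup_idem]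
        rw [h3, mul_one]
      simp only [this]
    rw [cancel _ _ _ hne heq]
    exact Ideal.mul_mem_mul (Ideal.mem_sup_left (Ideal.mem_span_singleton_self a)) (Ideal.mem_sup_right (Ideal.mem_span_singleton_self b))
  have hint : ∀ a b : R, a ≠ 0 → IsIntegral R (algebraMap R (FractionRing R) b / algebraMap R (FractionRing R) a) → a ∣ b := by
    intro a b ha hi
    obtain ⟨p, hp, hp0⟩ := hi
    have ha' : algebraMap R (FractionRing R) a ≠ 0 := by simpa using ha
    have hbn : b ^ p.natDegree ∈ Ideal.span {a} * (Ideal.span {a} ⊔ Ideal.span {b}) ^ (p.natDegree - 1) := by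
      rw [Polynomial.eval₂_eq_sum_range, Finset.sum_range_succ, hp.coeff_natDegree, map_one, one_mul, add_comm,
        add_eq_zero_iff_eq_neg] at hp0
      have : b ^ p.natDegree = -∑ i ∈ Finset.range p.natDegree, a * (p.coeff i * (b ^ i * a ^ (p.natDegree - 1 - i))) := by
        apply IsFractionRing.injective R (FractionRing R)
        rw [div_pow, div_eq_iff (pow_ne_zero _ ha')] at hp0
        rw [map_pow, hp0, map_neg, map_sum, neg_mul, Finset.sum_mul]
        refine congrArg _ (Finset.sum_congr rfl fun i hi => ?_)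
        have hi' := Finset.mem_range.mp hi
        rw [div_pow, map_mul, map_mul, map_mul, map_pow, map_pow]
        rw [show p.natDegree = i + ((p.natDegree - 1 - i) + 1) by omega, pow_add]
        rw [show i + (p.natDegree - 1 - i + 1) - 1 - i = p.natDegree - 1 - i by omega]
        field_simp
        ring
      rw [this]
      refine neg_mem (sum_mem fun i hi => Ideal.mul_mem_mul (Ideal.mem_span_singleton_self a) (Ideal.mul_mem_left _ _ ?_))
      have hi' := Finset.mem_range.mp hi
      rw [show p.natDegree - 1 = i + (p.natDegree - 1 - i) by omega, pow_add]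
      rw [show i + (p.natDegree - 1 - i) - i = p.natDegree - 1 - i by omega]
      exact Ideal.mul_mem_mul (Ideal.pow_mem_pow (Ideal.mem_sup_right (Ideal.mem_span_singleton_self b)) _)
        (Ideal.pow_mem_pow (Ideal.mem_sup_left (Ideal.mem_span_singleton_self a)) _)
    have hn : 0 < p.natDegree := by
      by_contra h0
      rw [not_lt, Nat.le_zero] at h0
      rw [hp.natDegree_eq_zero.mp h0, Polynomial.eval₂_one] at hp0
      exact one_ne_zero hp0
    have hpow : ∀ m, (Ideal.span {a} ⊔ Ideal.span {b}) ^ (m + 1) ≤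
        Ideal.span {a} * (Ideal.span {a} ⊔ Ideal.span {b}) ^ m ⊔ Ideal.span {b ^ (m + 1)} := fun m => by
      induction m with
      | zero => simp
      | succ m ih =>
        rw [pow_succ' _ (m + 1), Ideal.sup_mul]
        refine sup_le le_sup_left ((Ideal.mul_mono_right ih).trans ?_)
        rw [Ideal.mul_sup, Ideal.span_singleton_mul_span_singleton, ← pow_succ' b (m + 1), mul_left_comm]
        refine sup_le_sup (Ideal.mul_mono_right ?_) le_rfl
        rw [pow_succ' _ m]
        exact Ideal.mul_mono_left le_sup_right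
    obtain ⟨m, hm⟩ : ∃ m, p.natDegree = m + 1 := ⟨p.natDegree - 1, by omega⟩
    rw [hm, Nat.add_sub_cancel] at hbn
    have hle : (Ideal.span {a} ⊔ Ideal.span {b}) ^ m * (Ideal.span {a} ⊔ Ideal.span {b}) =
        (Ideal.span {a} ⊔ Ideal.span {b}) ^ m * Ideal.span {a} := by
      refine le_antisymm ?_ (Ideal.mul_mono_right le_sup_left)
      rw [← pow_succ, mul_comm _ (Ideal.span {a})]
      exact (hpow m).trans (sup_le le_rfl ((Ideal.span_singleton_le_iff_mem _).mpr hbn))
    have hne : (Ideal.span {a} ⊔ Ideal.span {b}) ^ m ≠ ⊥ := pow_ne_zero m fun h0 => ha (by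
      have : a ∈ Ideal.span {a} ⊔ Ideal.span {b} := Ideal.mem_sup_left (Ideal.mem_span_singleton_self a)
      rwa [h0, Submodule.zero_eq_bot, Ideal.mem_bot] at this)
    rw [← Ideal.mem_span_singleton, ← cancel _ _ _ hne hle]
    exact Ideal.mem_sup_right (Ideal.mem_span_singleton_self b)
  have hmax : ∀ (Q K : Ideal R) (a : R), a ≠ 0 → Q.IsPrime → Q * K = Ideal.span {a} → Q.IsMaximal := by
    intro Q K a ha hQ hQK
    obtain ⟨M, hM, hQM⟩ := Ideal.exists_le_maximal Q hQ.ne_top
    by_contra hne
    obtain ⟨m, hmM, hmQ⟩ : ∃ m ∈ M, m ∉ Q := by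
      by_contra hc
      push_neg at hc
      exact hne (le_antisymm hQM hc ▸ hM)
    have key : ∀ q ∈ Q, ∃ s : R, s ∉ M ∧ s * q ∈ Ideal.span {m} * Q := by
      intro q hq
      have hm0 : m ≠ 0 := fun h0 => hmQ (h0 ▸ Q.zero_mem)
      obtain ⟨u, hu, v, hv, huv⟩ := Submodule.mem_sup.mp (hcube m q hm0)
      rw [Ideal.span_singleton_pow, Ideal.mem_span_singleton] at hu hv
      obtain ⟨x, rfl⟩ := hu
      obtain ⟨y, rfl⟩ := hv
      have hz : m ∣ y * q := by
        apply hint m (y * q) hm0
        have hm' : algebraMap R (FractionRing R) m ≠ 0 := by simpa using hm0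
        refine ⟨Polynomial.X ^ 2 - Polynomial.X + Polynomial.C (x * y), by monicity!, ?_⟩
        have hK := congrArg (algebraMap R (FractionRing R)) huv
        simp only [map_add, map_mul, map_pow] at hK
        simp only [Polynomial.eval₂_add, Polynomial.eval₂_sub, Polynomial.eval₂_X_pow, Polynomial.eval₂_X,
          Polynomial.eval₂_C]
        simp only [map_mul]
        field_simp
        linear_combination (algebraMap R (FractionRing R) y) * hK
      obtain ⟨z, hz⟩ := hz
      have hq1 : (1 - z) * q = x * m := mul_left_cancel₀ hm0 (by linear_combination huv.symm + q * hz)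
      have hz' : z ∈ Q := (hQ.mem_or_mem (show m * z ∈ Q from hz ▸ Q.mul_mem_left y hq)).resolve_left hmQ
      have hxQ : x ∈ Q := (hQ.mem_or_mem (show x * m ∈ Q from hq1 ▸ Q.mul_mem_left _ hq)).resolve_right hmQ
      refine ⟨1 - z, fun h1 => hM.ne_top ((Ideal.eq_top_iff_one M).mpr ?_), ?_⟩
      · simpa using add_mem h1 (hQM hz')
      · rw [hq1, mul_comm x]
        exact Ideal.mul_mem_mul (Ideal.mem_span_singleton_self m) hxQ
    choose s hsM hs using key
    obtain ⟨T, hT⟩ := fgQ Q K a ha hQK
    let S := ∏ t : T, s t (hT ▸ Submodule.subset_span t.2)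
    have hSM : S ∉ M := fun hSM => by
      obtain ⟨t, -, ht⟩ := (hM.isPrime.prod_mem_iff).mp hSM
      exact hsM _ _ ht
    have hle : Ideal.span {S} * Q ≤ Ideal.span {m} * Q := by
      refine Ideal.span_singleton_mul_le_iff.mpr fun q hq => ?_
      rw [← hT] at hq
      refine Submodule.span_induction (fun t ht => ?_) (by simp) (fun y z _ _ hy hz => by rw [mul_add]; exact add_mem hy hz)
        (fun r z _ hz => by rw [smul_eq_mul, mul_left_comm]; exact Ideal.mul_mem_left _ _ hz) hq
      obtain ⟨c, hc⟩ := Finset.dvd_prod_of_mem (fun t : T => s t (hT ▸ Submodule.subset_span t.2)) (Finset.mem_univ ⟨t, ht⟩)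
      change (∏ t : T, s t _) * t ∈ _
      rw [hc, mul_right_comm]
      exact Ideal.mul_mem_right _ _ (hs _ _)
    have hQ0 : Q ≠ ⊥ := fun h0 => ha (by
      have := hQK ▸ Ideal.mem_span_singleton_self a
      simpa [h0] using this)
    have heq : Q * (Ideal.span {S} ⊔ Ideal.span {m}) = Q * Ideal.span {m} := by
      rw [Ideal.mul_sup, mul_comm Q, mul_comm Q]
      exact sup_eq_right.mpr hle
    exact hSM ((Ideal.span_singleton_le_iff_mem M).mpr hmM
      (cancel _ _ _ hQ0 heq ▸ Ideal.mem_sup_left (Ideal.mem_span_singleton_self S)))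
  have hpr : ∀ P : Ideal R, P ≠ ⊥ → P.IsPrime → P.IsMaximal ∧ P.FG := by
    intro P hP0 hP
    obtain ⟨a, haP, ha⟩ := Submodule.exists_mem_ne_zero_of_ne_bot hP0
    obtain ⟨s, ⟨hs, hsp⟩, -⟩ := h (Ideal.span {a}) (by simpa using ha)
    obtain ⟨Q, hQs, hQP⟩ := hP.multiset_prod_le.mp (hsp.le.trans ((Ideal.span_singleton_le_iff_mem P).mpr haP))
    obtain ⟨K, rfl⟩ := Multiset.exists_cons_of_mem hQs
    rw [Multiset.prod_cons] at hsp
    have hQm := hmax Q _ a ha (hs Q hQs).1 hsp
    rw [← hQm.eq_of_le hP.ne_top hQP]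
    exact ⟨hQm, fgQ Q _ a ha hsp⟩
  rw [isDedekindDomain_iff R (FractionRing R)]
  refine ⟨inferInstance, IsNoetherianRing.of_prime_ne_bot fun P hP h0 => (hpr P h0 hP).2,
    ⟨fun h0 hP => (hpr _ h0 hP).1⟩, fun {x} hx => ?_⟩
  obtain ⟨b, a, ha, rfl⟩ := IsFractionRing.div_surjective (A := R) x
  obtain ⟨c, rfl⟩ := hint a b (nonZeroDivisors.ne_zero ha) hx
  refine ⟨c, ?_⟩
  rw [map_mul, mul_div_cancel_left₀]
  simpa using nonZeroDivisors.ne_zero ha

end Groth.Agent.S6369
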