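import Groth.Statements.S6370
import Mathlib
import Groth.Agent.DomDVR.KrullAkizuki

set_option autoImplicit false
universe u
open CAlg

namespace Groth.Agent.S6370

/-- For a one-dimensional Noetherian domain A with fraction field K, a finite field extension L of K
(separable or not) and B the integral closure of A in L: B is a Dedekind domain, Spec B → Spec A is
surjective and has finite fibres, and at every maximal ideal Q of B the residue field B/Q is finite
over A/(Q ∩ A). -/
theorem result (A K L B : Type u) [CommRing A] [IsDomain A]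
    [IsNoetherianRing A] (hdim : ringKrullDim A = 1) [Field K] [Algebra A K] [IsFractionRing A K]
    [Field L] [Algebra K L] [FiniteDimensional K L] [Algebra A L] [IsScalarTower A K L]
    [CommRing B] [IsDomain B] [Algebra A B] [Algebra B L] [IsScalarTower A B L] [IsIntegralClosure B A L] :
    IsDedekindDomain B ∧ Function.Surjective (PrimeSpectrum.comap (algebraMap A B)) ∧
      (∀ p : PrimeSpectrum A, (PrimeSpectrum.comap (algebraMap A B) ⁻¹' {p}).Finite) ∧
      ∀ Q : Ideal B, Q.IsMaximal → Module.Finite (A ⧸ Q.comap (algebraMap A B)) (B ⧸ Q) := by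
  classical
  haveI : Algebra.IsIntegral A B := IsIntegralClosure.isIntegral_algebra A L
  haveI : Ring.KrullDimLE 1 A := Ring.krullDimLE_iff.mpr hdim.le
  haveI : Algebra.IsAlgebraic K L := Algebra.IsAlgebraic.of_finite K L
  let bK := Module.finBasis K L
  obtain ⟨c, hc, hcb⟩ := exists_integral_multiples A K (Finset.univ.image bK)
  have hcK : algebraMap A K c ≠ 0 := fun h => hc (IsFractionRing.injective A K (h.trans (map_zero _).symm))
  have hinjAL : Function.Injective (algebraMap A L) := by
    rw [IsScalarTower.algebraMap_eq A K L]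
    exact (algebraMap K L).injective.comp (IsFractionRing.injective A K)
  let C : Subalgebra A L := Algebra.adjoin A ((Finset.univ.image fun i => c • bK i : Finset L) : Set L)
  have hint : ∀ x ∈ ((Finset.univ.image fun i => c • bK i : Finset L) : Set L), IsIntegral A x := by
    intro x hx
    obtain ⟨i, -, rfl⟩ := Finset.mem_image.mp (Finset.mem_coe.mp hx)
    exact hcb _ (Finset.mem_image_of_mem _ (Finset.mem_univ i))
  haveI : Module.Finite A C := Algebra.finite_adjoin_of_finite_of_isIntegral (Finset.finite_toSet _) hint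
  haveI : IsNoetherianRing C := isNoetherianRing_of_fg (Subalgebra.fg_adjoin_finset _)
  haveI : Algebra.IsIntegral A C := Algebra.IsIntegral.of_finite A C
  have hinjAC : Function.Injective (algebraMap A C) := fun x y h => hinjAL (congrArg Subtype.val h)
  haveI : FaithfulSMul A C := (faithfulSMul_iff_algebraMap_injective A C).mpr hinjAC
  have hmaxof : ∀ (T : Type u) [CommRing T] [IsDomain T] [Algebra A T] [Algebra.IsIntegral A T],
      Function.Injective (algebraMap A T) → ∀ P : Ideal T, P ≠ ⊥ → P.IsPrime → P.IsMaximal := by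
    intro T _ _ _ _ hT P hP0 hP
    refine Ideal.isMaximal_of_isIntegral_of_isMaximal_comap (R := A) P ?_
    refine (Ring.krullDimLE_one_iff.mp ‹Ring.KrullDimLE 1 A› _ (Ideal.IsPrime.comap _)).resolve_left fun hmin => ?_
    rw [IsDomain.minimalPrimes_eq_singleton_bot, Set.mem_singleton_iff] at hmin
    haveI : FaithfulSMul A T := (faithfulSMul_iff_algebraMap_injective A T).mpr hT
    exact hP0 (Ideal.eq_bot_of_comap_eq_bot (R := A) hmin)
  haveI : Ring.KrullDimLE 1 C := Ring.krullDimLE_one_iff.mpr fun P hP => by
    by_cases h0 : P = ⊥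
    · left; rw [IsDomain.minimalPrimes_eq_singleton_bot, h0]; rfl
    · right; exact hmaxof C hinjAC P h0 hP
  haveI : IsFractionRing C L := by
    refine IsFractionRing.of_field C L fun x => ?_
    obtain ⟨d, hd⟩ := IsLocalization.exist_integer_multiples_of_finite (nonZeroDivisors A)
      (fun i => bK.repr x i)
    choose z hz using hd
    have hsum : algebraMap A L (c * d.1) * x =
        ((∑ i, z i • ⟨c • bK i, Algebra.subset_adjoin (Finset.mem_coe.mpr
          (Finset.mem_image_of_mem _ (Finset.mem_univ i)))⟩ : C) : L) := by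
      conv_lhs => rw [← bK.sum_repr x]
      rw [Finset.mul_sum, AddSubmonoidClass.coe_finset_sum]
      refine Finset.sum_congr rfl fun i _ => ?_
      show algebraMap A L (c * d.1) * (bK.repr x i • bK i) = z i • c • bK i
      rw [← algebraMap_smul K (z i) (c • bK i), hz i, Algebra.smul_def, Algebra.smul_def,
        Algebra.smul_def, Algebra.smul_def, map_mul, map_mul, ← IsScalarTower.algebraMap_apply]
      ring
    refine ⟨∑ i, z i • ⟨c • bK i, Algebra.subset_adjoin (Finset.mem_coe.mpr
      (Finset.mem_image_of_mem _ (Finset.mem_univ i)))⟩, algebraMap A C (c * d.1), ?_⟩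
    rw [show algebraMap C L (algebraMap A C (c * d.1)) = algebraMap A L (c * d.1) from rfl,
      eq_comm, div_eq_iff (fun h => mul_ne_zero hc (nonZeroDivisors.ne_zero d.2)
        (hinjAL (h.trans (map_zero _).symm))), mul_comm x]
    exact hsum.symm
  -- the integral closure as a subalgebra over the finite algebra
  have hCint : ∀ x : C, IsIntegral A (x : L) := fun x =>
    (Algebra.IsIntegral.isIntegral x).map C.val
  have hiff : ∀ x : L, IsIntegral C x ↔ IsIntegral A x :=
    fun x => ⟨fun h => isIntegral_trans (R := A) x h, fun h => h.tower_top⟩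
  let R' : Subalgebra C L := integralClosure C L
  haveI : IsIntegralClosure R' A L :=
    { algebraMap_injective := Subtype.val_injective
      isIntegral_iff := fun {x} => ⟨fun h => ⟨⟨x, (hiff x).mpr h⟩, rfl⟩,
        fun ⟨y, hy⟩ => hy ▸ (hiff y.1).mp y.2⟩ }
  let e : B ≃ₐ[A] R' := IsIntegralClosure.equiv A B L R'
  have hdd : IsDedekindDomain R' := Groth.Agent.DomDVR.isDedekindDomain_integralClosure
  have hinjAB : Function.Injective (algebraMap A B) := fun x y h => hinjAL (by
    rw [IsScalarTower.algebraMap_apply A B L, h, ← IsScalarTower.algebraMap_apply])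
  haveI : IsFractionRing B L := IsIntegralClosure.isFractionRing_of_finite_extension A K L B
  haveI hnB : IsNoetherianRing B := by
    haveI := hdd
    exact isNoetherianRing_of_ringEquiv R' e.toRingEquiv.symm
  have hdB : IsDedekindDomain B := (isDedekindDomain_iff B L).mpr
    ⟨inferInstance, hnB, ⟨fun {P} hP0 hP => hmaxof B hinjAB P hP0 hP⟩, fun {x} hx =>
      (IsIntegralClosure.isIntegral_iff (A := B)).mp (isIntegral_trans (R := A) x hx)⟩
  haveI : FaithfulSMul A B := (faithfulSMul_iff_algebraMap_injective A B).mpr hinjAB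
  -- quotients by nonzero base elements are finite
  have hfin : ∀ (a : A) (I : Ideal R'), a ≠ 0 → algebraMap A R' a ∈ I →
      Module.Finite C (R' ⧸ I) ∧ IsArtinian C (R' ⧸ I) := fun a I ha haI => by
    have h := isFiniteLength_iff_isNoetherian_isArtinian.mp
      (Groth.Agent.DomDVR.isFiniteLength_quotient R' (a := algebraMap A C a)
        (fun h0 => ha (hinjAC (h0.trans (map_zero _).symm))) I haI)
    haveI := h.1
    exact ⟨Module.IsNoetherian.finite C _, h.2⟩
  refine ⟨hdB, ?_, ?_, ?_⟩
  · intro p
    obtain ⟨Q, hQp⟩ := Ideal.exists_ideal_over_prime_of_isIntegral_of_isDomain (S := B) p.asIdeal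
      (by rw [(RingHom.injective_iff_ker_eq_bot _).mp hinjAB]; exact bot_le)
    obtain ⟨hQ, hQp⟩ := hQp
    exact ⟨⟨Q, hQ⟩, PrimeSpectrum.ext hQp⟩
  · intro p
    by_cases hp : p.asIdeal = ⊥
    · refine (Set.finite_singleton (⟨⊥, Ideal.isPrime_bot⟩ : PrimeSpectrum B)).subset fun Q hQ => ?_
      rw [Set.mem_preimage, Set.mem_singleton_iff] at hQ
      refine Set.mem_singleton_iff.mpr (PrimeSpectrum.ext ?_)
      exact Ideal.eq_bot_of_comap_eq_bot (R := A) (congrArg PrimeSpectrum.asIdeal hQ |>.trans hp)
    obtain ⟨a, hap, ha⟩ := Submodule.exists_mem_ne_zero_of_ne_bot hp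
    let I : Ideal R' := Ideal.span {algebraMap A R' a}
    obtain ⟨-, hart⟩ := hfin a I ha (Ideal.mem_span_singleton_self _)
    haveI : IsArtinianRing (R' ⧸ I) := by
      haveI := hart
      haveI : IsArtinian R' (R' ⧸ I) := isArtinian_of_tower C inferInstance
      exact isArtinian_of_tower R' inferInstance
    let g : PrimeSpectrum (R' ⧸ I) → PrimeSpectrum B := fun Q =>
      PrimeSpectrum.comap ((Ideal.Quotient.mk I).comp e.toRingEquiv.toRingHom) Q
    letI : CommRing (R' ⧸ I) := Ideal.Quotient.commRing I
    haveI : Finite (PrimeSpectrum (R' ⧸ I)) := inferInstance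
    refine (Set.finite_range g).subset fun Q hQ => ?_
    rw [Set.mem_preimage, Set.mem_singleton_iff] at hQ
    let Q' : Ideal R' := Q.asIdeal.comap e.symm.toRingEquiv.toRingHom
    have hIQ : I ≤ Q' := by
      rw [Ideal.span_singleton_le_iff_mem]
      show e.symm (algebraMap A R' a) ∈ Q.asIdeal
      rw [e.symm.commutes]
      rw [← hQ] at hap
      exact hap
    haveI : Q'.IsPrime := Ideal.IsPrime.comap _
    have hQ'' : (Q'.map (Ideal.Quotient.mk I)).IsPrime :=
      Ideal.map_isPrime_of_surjective Ideal.Quotient.mk_surjective (by rw [Ideal.mk_ker]; exact hIQ)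
    refine ⟨⟨_, hQ''⟩, PrimeSpectrum.ext ?_⟩
    show (Q'.map (Ideal.Quotient.mk I)).comap ((Ideal.Quotient.mk I).comp e.toRingEquiv.toRingHom) = Q.asIdeal
    rw [← Ideal.comap_comap, Ideal.comap_map_of_surjective _ Ideal.Quotient.mk_surjective,
      ← RingHom.ker_eq_comap_bot, Ideal.mk_ker, sup_eq_left.mpr hIQ]
    ext z
    show e.symm (e z) ∈ Q.asIdeal ↔ z ∈ Q.asIdeal
    rw [e.symm_apply_apply]
  · intro Q hQ
    haveI := hQ
    have hne : Q.comap (algebraMap A B) ≠ ⊥ := by
      intro h0
      have h1 : Q = ⊥ := Ideal.eq_bot_of_comap_eq_bot (R := A) h0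
      have h2 : IsField B := Ring.isField_iff_maximal_bot.mpr (h1 ▸ hQ)
      have h3 : IsField A := isField_of_isIntegral_of_isField hinjAB h2
      rw [ringKrullDim_eq_zero_of_isField h3] at hdim
      exact zero_ne_one hdim
    obtain ⟨a, haQ, ha⟩ := Submodule.exists_mem_ne_zero_of_ne_bot hne
    let I : Ideal R' := Q.comap e.symm.toRingEquiv.toRingHom
    have haI : algebraMap A R' a ∈ I := by
      show e.symm (algebraMap A R' a) ∈ Q
      rw [e.symm.commutes]
      exact haQ
    obtain ⟨hfinC, -⟩ := hfin a I ha haI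
    haveI := hfinC
    haveI : Module.Finite A (R' ⧸ I) := Module.Finite.trans C _
    let Φ : (R' ⧸ I) →ₐ[A] B ⧸ Q :=
      Ideal.Quotient.liftₐ I ((Ideal.Quotient.mkₐ A Q).comp e.symm.toAlgHom)
        fun z hz => Ideal.Quotient.eq_zero_iff_mem.mpr hz
    haveI : Module.Finite A (B ⧸ Q) := Module.Finite.of_surjective Φ.toLinearMap fun z => by
      obtain ⟨z, rfl⟩ := Ideal.Quotient.mk_surjective z
      exact ⟨Ideal.Quotient.mk I (e z), by
        show Ideal.Quotient.mk Q (e.symm (e z)) = _
        rw [e.symm_apply_apply]⟩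
    exact Module.Finite.of_restrictScalars_finite A _ _

end Groth.Agent.S6370
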