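import Groth.Statements.S6371

set_option autoImplicit false
universe u
open CAlg

namespace Groth.Agent.S6371

/-- A ring map R → S is an epimorphism of rings if and only if for every prime p of R the localized map
R_p → S_p is an epimorphism, where S_p is S localized at the image of R ∖ p. -/
theorem result (R S : Type u) [CommRing R] [CommRing S] [Algebra R S] :
    Algebra.IsEpi R S ↔ ∀ (p : Ideal R) [p.IsPrime],
      Algebra.IsEpi (Localization.AtPrime p) (Localization (Algebra.algebraMapSubmonoid S p.primeCompl)) := by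
  constructor
  · intro h p _
    let Rp := Localization.AtPrime p
    let Sp := Localization (Algebra.algebraMapSubmonoid S p.primeCompl)
    rw [Algebra.isEpi_iff_forall_one_tmul_eq]
    intro a
    let ι : S →ₗ[R] Sp := (IsScalarTower.toAlgHom R S Sp).toLinearMap
    let Φ : TensorProduct R S S →ₗ[R] TensorProduct Rp Sp Sp :=
      TensorProduct.lift (((TensorProduct.mk Rp Sp Sp).restrictScalars₁₂ R R).compl₁₂ ι ι)
    obtain ⟨⟨s, ⟨_, u, hu, rfl⟩⟩, e⟩ := IsLocalization.surj (Algebra.algebraMapSubmonoid S p.primeCompl) a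
    have h0 := congrArg Φ ((Algebra.isEpi_iff_forall_one_tmul_eq R S).mp inferInstance s)
    simp only [Φ, ι, TensorProduct.lift.tmul, LinearMap.compl₁₂_apply, LinearMap.restrictScalars₁₂_apply_apply, TensorProduct.mk_apply, AlgHom.toLinearMap_apply, map_one, IsScalarTower.toAlgHom_apply] at h0
    obtain ⟨v, hv⟩ := IsLocalization.map_units Rp (⟨u, hu⟩ : p.primeCompl)
    have ha : a = (↑v⁻¹ : Rp) • algebraMap S Sp s := by
      rw [← e, Algebra.smul_def, ← IsScalarTower.algebraMap_apply R S Sp, IsScalarTower.algebraMap_apply R Rp Sp, ← show (v : Rp) = algebraMap R Rp u from hv, mul_comm a, ← mul_assoc, ← map_mul, Units.inv_mul, map_one, one_mul]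
    rw [ha, TensorProduct.tmul_smul, ← TensorProduct.smul_tmul', h0]
  · intro h
    rw [Algebra.isEpi_iff_forall_one_tmul_eq]
    intro s
    set x : TensorProduct R S S := (1 : S) ⊗ₜ[R] s - s ⊗ₜ[R] (1 : S) with hx
    rw [← sub_eq_zero, ← hx, ← Submodule.span_singleton_eq_bot (R := R), ← Submodule.annihilator_eq_top_iff]
    by_contra hne
    obtain ⟨m, hm, hle⟩ := Ideal.exists_le_maximal _ hne
    let Rp := Localization.AtPrime m
    let Sp := Localization (Algebra.algebraMapSubmonoid S m.primeCompl)
    let ι : S →ₗ[R] Sp := (IsScalarTower.toAlgHom R S Sp).toLinearMap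
    haveI : IsLocalizedModule m.primeCompl ι := by
      exact (isLocalizedModule_iff_isLocalization (S := m.primeCompl) (Aₛ := Sp)).mpr inferInstance
    have h0 := (Algebra.isEpi_iff_forall_one_tmul_eq Rp Sp).mp (h m) (algebraMap S Sp s)
    haveI : TensorProduct.CompatibleSMul R Rp Sp Sp := IsLocalization.tensorProduct_compatibleSMul m.primeCompl ..
    have h1 := congrArg (TensorProduct.equivOfCompatibleSMul R Rp Rp Sp Sp) h0
    have h2 : TensorProduct.map ι ι x = 0 := by
      rw [hx, map_sub, TensorProduct.map_tmul, TensorProduct.map_tmul, sub_eq_zero]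
      simp only [ι, AlgHom.toLinearMap_apply, map_one, IsScalarTower.toAlgHom_apply]
      exact h1
    obtain ⟨u, hu⟩ := (IsLocalizedModule.eq_zero_iff m.primeCompl (TensorProduct.map ι ι)).mp h2
    exact u.2 (hle ((Submodule.mem_annihilator_span_singleton _ _).mpr hu))

end Groth.Agent.S6371
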