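import Groth.Statements.S6372
import Mathlib

set_option autoImplicit false
universe u
open CAlg

namespace Groth.Agent.S6372

/-- A faithfully flat epimorphism of rings is an isomorphism: if R → S is faithfully flat and an
epimorphism in the category of rings then it is bijective. -/
theorem result (R S : Type u) [CommRing R] [CommRing S] [Algebra R S]
    [Module.FaithfullyFlat R S] [Algebra.IsEpi R S] : Function.Bijective (algebraMap R S) := by
  refine ⟨FaithfulSMul.algebraMap_injective R S, ?_⟩
  apply (Module.FaithfullyFlat.lTensor_surjective_iff_surjective R S (Algebra.linearMap R S)).mp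
  intro t
  refine ⟨(Algebra.TensorProduct.rid R R S).symm (TensorProduct.lift (LinearMap.mul R S) t), ?_⟩
  apply Algebra.IsEpi.injective_lift_mul
  simp

end Groth.Agent.S6372
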