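import Groth.Statements.S6373

set_option autoImplicit false
universe u
open CAlg

namespace Groth.Agent.S6373

/-- If k is a field and k → S is an epimorphism of rings, then S is the zero ring or k → S is an
isomorphism. -/
theorem result (k S : Type u) [Field k] [CommRing S] [Algebra k S] [Algebra.IsEpi k S] :
    Subsingleton S ∨ Function.Bijective (algebraMap k S) := by
  rcases subsingleton_or_nontrivial S with h | h
  · exact Or.inl h
  · right
    refine ⟨(algebraMap k S).injective, ?_⟩
    apply (Module.FaithfullyFlat.lTensor_surjective_iff_surjective k S (Algebra.linearMap k S)).mp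
    intro t
    refine ⟨(Algebra.TensorProduct.rid k k S).symm (TensorProduct.lift (LinearMap.mul k S) t), ?_⟩
    apply Algebra.IsEpi.injective_lift_mul
    simp

end Groth.Agent.S6373
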