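import Groth.Statements.S6374
import Groth.Agent.S6373

set_option autoImplicit false
universe u
open CAlg

namespace Groth.Agent.S6374

/-- For an epimorphism of rings R → S, the induced map Spec S → Spec R is injective and induces trivial
residue field extensions; stated in the form the proof gives: for every prime p of R the fibre ring
S ⊗_R κ(p) is either zero or κ(p) → S ⊗_R κ(p) is bijective, together with injectivity of Spec S →
Spec R. -/
theorem result (R S : Type u) [CommRing R] [CommRing S] [Algebra R S]
    [Algebra.IsEpi R S] :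
    Function.Injective (PrimeSpectrum.comap (algebraMap R S)) ∧
      ∀ (p : Ideal R) [p.IsPrime],
        Subsingleton (p.Fiber S) ∨ Function.Bijective (algebraMap p.ResidueField (p.Fiber S)) := by
  have hepi : ∀ (p : Ideal R) [p.IsPrime], Algebra.IsEpi p.ResidueField (p.Fiber S) := by
    intro p _
    rw [Algebra.isEpi_iff_forall_one_tmul_eq]
    intro a
    induction a using TensorProduct.induction_on with
    | zero => simp
    | tmul k s =>
      let ι : S →ₗ[R] p.Fiber S := (Algebra.TensorProduct.includeRight (R := R) (A := p.ResidueField) (B := S)).toLinearMap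
      let Φ : TensorProduct R S S →ₗ[R] TensorProduct p.ResidueField (p.Fiber S) (p.Fiber S) :=
        TensorProduct.lift (((TensorProduct.mk p.ResidueField (p.Fiber S) (p.Fiber S)).restrictScalars₁₂ R R).compl₁₂ ι ι)
      have h0 := congrArg Φ ((Algebra.isEpi_iff_forall_one_tmul_eq R S).mp inferInstance s)
      simp only [Φ, ι, TensorProduct.lift.tmul, LinearMap.compl₁₂_apply, LinearMap.restrictScalars₁₂_apply_apply, TensorProduct.mk_apply, AlgHom.toLinearMap_apply, map_one, Algebra.TensorProduct.includeRight_apply] at h0
      rw [show k ⊗ₜ[R] s = k • ((1 : p.ResidueField) ⊗ₜ[R] s) by simp [TensorProduct.smul_tmul'],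
        TensorProduct.tmul_smul, ← TensorProduct.smul_tmul', h0]
    | add a b ha hb => rw [TensorProduct.tmul_add, TensorProduct.add_tmul, ha, hb]
  have key : ∀ (p : Ideal R) [p.IsPrime], Subsingleton (p.Fiber S) ∨ Function.Bijective (algebraMap p.ResidueField (p.Fiber S)) := by
    intro p _
    haveI := hepi p
    exact Groth.Agent.S6373.result p.ResidueField (p.Fiber S)
  refine ⟨fun q₁ q₂ h => ?_, key⟩
  let p := PrimeSpectrum.comap (algebraMap R S) q₁
  have hsub : Subsingleton (PrimeSpectrum (p.asIdeal.Fiber S)) := by
    rcases key p.asIdeal with h' | h'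
    · exact ⟨fun a b => (a.2.ne_top (Subsingleton.elim _ _)).elim⟩
    · exact (PrimeSpectrum.comapEquiv (RingEquiv.ofBijective _ h')).toEquiv.subsingleton_congr.mp inferInstance
  haveI := (PrimeSpectrum.preimageEquivFiber R S p).subsingleton_congr.mpr hsub
  exact congrArg Subtype.val (Subsingleton.elim (α := PrimeSpectrum.comap (algebraMap R S) ⁻¹' {p}) ⟨q₁, rfl⟩ ⟨q₂, h.symm⟩)

end Groth.Agent.S6374
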