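import Groth.Statements.S6375
import Mathlib


set_option autoImplicit false
universe u
open CAlg

namespace Groth.Agent.S6375

/-- For an infinite source ring: if R → S is an epimorphism of rings with R infinite, then |S| ≤ |R| as
cardinals. (For finite R the published statement also asserts |S| ≤ |R|, but its proof only gives
that S is countable and omits the rest, so that case is not included.) -/
theorem result (R S : Type u) [CommRing R] [CommRing S] [Algebra R S] [Algebra.IsEpi R S]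
    [Infinite R] : Cardinal.mk S ≤ Cardinal.mk R := by
  classical
  have hdata : ∀ s : S, ∃ (k l : ℕ) (A : Fin 2 ⊕ Fin k → Fin l → R) (e : Fin 2 ⊕ Fin k → S) (y : Fin l → S),
      e (Sum.inl 0) = 1 ∧ e (Sum.inl 1) = s ∧ (∀ i, Sum.elim ![-s, 1] 0 i = ∑ j, A i j • y j) ∧ ∀ j, ∑ i, A i j • e i = 0 := by
    intro s
    have h0 : (1 : S) ⊗ₜ[R] (-s) + s ⊗ₜ[R] (1 : S) = 0 := by
      rw [TensorProduct.tmul_neg, ← (Algebra.isEpi_iff_forall_one_tmul_eq R S).mp inferInstance s, neg_add_cancel]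
    let N : Submodule R S := Submodule.span R {1, s}
    have h1N : (1 : S) ∈ N := Submodule.subset_span (by simp)
    have hsN : s ∈ N := Submodule.subset_span (by simp)
    obtain ⟨N', hN', hle, heq⟩ := Submodule.FG.exists_rTensor_fg_inclusion_eq (M := S)
      (Submodule.fg_span (Set.toFinite {1, s}) : N.FG)
      (x := (⟨1, h1N⟩ : N) ⊗ₜ[R] (-s) + (⟨s, hsN⟩ : N) ⊗ₜ[R] (1 : S)) (y := 0) (by simpa using h0)
    obtain ⟨k, g, hg⟩ := Submodule.fg_iff_exists_fin_generating_family.mp hN'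
    have hgm : ∀ i, g i ∈ N' := fun i => hg ▸ Submodule.subset_span (Set.mem_range_self i)
    let m : Fin 2 ⊕ Fin k → N' := Sum.elim ![⟨1, hle h1N⟩, ⟨s, hle hsN⟩] fun i => ⟨g i, hgm i⟩
    have hspan : Submodule.span R (Set.range m) = ⊤ := by
      refine Submodule.map_injective_of_injective N'.subtype_injective ?_
      rw [Submodule.map_span, Submodule.map_top, Submodule.range_subtype]
      refine le_antisymm (Submodule.span_le.mpr ?_) (hg.symm.trans_le (Submodule.span_mono ?_))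
      · rintro _ ⟨_, ⟨i, rfl⟩, rfl⟩
        exact (m i).2
      · rintro _ ⟨i, rfl⟩
        exact ⟨m (Sum.inr i), Set.mem_range_self _, rfl⟩
    obtain ⟨l, A, y, hy, he⟩ := TensorProduct.vanishesTrivially_of_sum_tmul_eq_zero R
      (m := m) (n := Sum.elim ![-s, 1] (0 : Fin k → S)) hspan (by
        rw [map_zero, map_add, LinearMap.rTensor_tmul, LinearMap.rTensor_tmul] at heq
        rw [Fintype.sum_sum_type, Fin.sum_univ_two]
        simpa [m, Submodule.inclusion_apply] using heq)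
    exact ⟨k, l, A, fun i => m i, y, rfl, rfl, hy, fun j => by simpa using congrArg N'.subtype (he j)⟩
  let P : S → (Σ kl : ℕ × ℕ, Fin 2 ⊕ Fin kl.1 → Fin kl.2 → R) → Prop := fun s d =>
    ∃ (e : Fin 2 ⊕ Fin d.1.1 → S) (y : Fin d.1.2 → S), e (Sum.inl 0) = 1 ∧ e (Sum.inl 1) = s ∧
      (∀ i, Sum.elim ![-s, 1] 0 i = ∑ j, d.2 i j • y j) ∧ ∀ j, ∑ i, d.2 i j • e i = 0
  have hP : ∀ s, ∃ d, P s d := fun s => by
    obtain ⟨k, l, A, e, y, h⟩ := hdata s
    exact ⟨⟨(k, l), A⟩, e, y, h⟩
  choose F hPF using hP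
  have hF : Function.Injective F := fun s t hst => by
    obtain ⟨e₀, -, h10, hs, -, h0⟩ := hPF s
    obtain ⟨-, y₁, -, -, h1, -⟩ := (hst.symm ▸ hPF t : P t (F s))
    have hT : ∑ i, e₀ i * Sum.elim ![-t, 1] (0 : Fin (F s).1.1 → S) i = 0 := by
      simp only [h1, Finset.mul_sum]
      rw [Finset.sum_comm]
      refine Finset.sum_eq_zero fun j _ => ?_
      calc ∑ i, e₀ i * ((F s).2 i j • y₁ j) = (∑ i, (F s).2 i j • e₀ i) * y₁ j := by
            rw [Finset.sum_mul]; exact Finset.sum_congr rfl fun i _ => by simp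
        _ = 0 := by rw [h0, zero_mul]
    rw [Fintype.sum_sum_type, Fin.sum_univ_two] at hT
    simp [h10, hs] at hT
    linear_combination hT
  calc Cardinal.mk S ≤ Cardinal.mk (Σ kl : ℕ × ℕ, Fin 2 ⊕ Fin kl.1 → Fin kl.2 → R) := Cardinal.mk_le_of_injective hF
    _ ≤ Cardinal.mk R := by
      rw [Cardinal.mk_sigma]
      refine (Cardinal.sum_le_lift_mk_mul_iSup.{0, u} _).trans ?_
      refine (mul_le_mul' (b := Cardinal.mk R) ?_ (ciSup_le' fun kl => ?_)).trans (Cardinal.mul_eq_self (Cardinal.aleph0_le_mk R)).le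
      · simpa using Cardinal.aleph0_le_mk R
      · rw [← Cardinal.mk_congr (Equiv.curry _ _ _), Cardinal.mk_arrow, Cardinal.lift_id', Cardinal.mk_fintype ((Fin 2 ⊕ Fin kl.1) × Fin kl.2)]
        rw [Cardinal.lift_natCast, Cardinal.power_natCast]
        exact Cardinal.power_nat_le (Cardinal.aleph0_le_mk R)

end Groth.Agent.S6375
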