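import Groth.Statements.S6377
import Mathlib
import Groth.Agent.TorVanLib.Basic
import Groth.Agent.TorLib.Balance
-- import your own Groth.Agent.* helpers here

set_option autoImplicit false
universe u
open CategoryTheory
open scoped TensorProduct
open CAlg

namespace Groth.Agent.S6377

open scoped TensorProduct
open Groth.Agent.TorLib Groth.Agent.TorVanLib

/-- Let A be a ring, M an A-module and I = (f_1, ..., f_r) an ideal generated by r ≥ 1 elements. If (1)
M_{f_i} is flat over A_{f_i} for each i, (2) M/IM is flat over A/I, and (3) Tor_i^A(M, A/I) = 0 for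
i = 1, ..., r + 1, then M is flat over A. (The published statement adds the same with 'faithfully
flat', whose proof it omits; that variant is not included.) -/
theorem result (A : Type u) [CommRing A] (M : Type u) [AddCommGroup M]
    [Module A M] {r : ℕ} (hr : 1 ≤ r) (f : Fin r → A)
    (h1 : ∀ i, Module.Flat (Localization.Away (f i)) (LocalizedModule (Submonoid.powers (f i)) M))
    (h2 : Module.Flat (A ⧸ Ideal.span (Set.range f)) ((A ⧸ Ideal.span (Set.range f)) ⊗[A] M))
    (h3 : ∀ i : ℕ, 1 ≤ i → i ≤ r + 1 →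
      Limits.IsZero (((CategoryTheory.Tor (ModuleCat.{u} A) i).obj (ModuleCat.of A M)).obj (ModuleCat.of A (A ⧸ Ideal.span (Set.range f))))) :
    Module.Flat A M := by
  classical
  let P := projectiveResolution (ModuleCat.of A M)
  let Mo : ModuleCat.{u} A := ModuleCat.of A M
  let I : Ideal A := Ideal.span (Set.range f)
  have hB : ∀ i, i + 1 ≤ r + 1 → V P (i + 1) (A ⧸ I) := by
    intro i hi
    rw [V_iff]
    exact ((h3 (i + 1) (by omega) hi).of_iso
      (((Groth.Agent.TorLib.torBalance A (i + 1)).app (ModuleCat.of A (A ⧸ I))).app (ModuleCat.of A M))).of_iso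
        (torIso P _ (i + 1)).symm
  have hkill : ∀ i, i + 1 ≤ r + 1 → ∀ (N : Type u) [AddCommGroup N] [Module A N],
      (∀ x : N, ∀ a ∈ I, a • x = 0) → V P (i + 1) N := by
    intro i hi N _ _ hN
    have htor : Module.IsTorsionBySet A N (I : Set A) := fun x a => hN x a a.2
    letI : Module (A ⧸ I) N := htor.module
    haveI : IsScalarTower A (A ⧸ I) N := htor.isScalarTower
    exact V_algebra P (A ⧸ I) hB i hi N
  have hpow : ∀ (j : ℕ) i, i + 1 ≤ r + 1 → ∀ (N : Type u) [AddCommGroup N] [Module A N],
      (∀ x : N, ∀ a ∈ I ^ j, a • x = 0) → V P (i + 1) N := by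
    intro j
    induction j with
    | zero =>
      intro i hi N _ _ hN
      exact hkill i hi N fun x a ha => by
        have := hN x 1 (by simp); rw [one_smul] at this; rw [this, smul_zero]
    | succ j ih =>
      intro i hi N _ _ hN
      let S : Submodule A N := Submodule.torsionBySet A N (I : Set A)
      refine V_mid P S.injective_subtype S.mkQ_surjective (LinearMap.exact_subtype_mkQ S) (i + 1)
        (hkill i hi S fun x a ha => Subtype.ext ((Submodule.mem_torsionBySet_iff _ _).mp x.2 ⟨a, ha⟩))
        (ih i hi (N ⧸ S) ?_)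
      intro x a ha
      obtain ⟨x, rfl⟩ := S.mkQ_surjective x
      rw [← map_smul, Submodule.mkQ_apply, Submodule.Quotient.mk_eq_zero, Submodule.mem_torsionBySet_iff]
      rintro ⟨b, hb⟩
      rw [← mul_smul]
      exact hN x _ (by rw [pow_succ']; exact Ideal.mul_mem_mul hb ha)
  let Q : ℕ → Prop := fun j => ∀ (N : Type u) [AddCommGroup N] [Module A N],
    (∀ x : N, ∀ l : Fin r, (l : ℕ) < j → ∃ n : ℕ, f l ^ n • x = 0) → ∀ i, i + 1 ≤ j + 1 → V P (i + 1) N
  have hQr : Q r := by
    intro N _ _ hN i hi
    let S : ℕ → Submodule A N := fun j => Submodule.torsionBySet A N ((I ^ j : Ideal A) : Set A)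
    refine V_union P i N S ?_ ?_ (fun j => hpow j i hi (S j) fun x a ha =>
      Subtype.ext ((Submodule.mem_torsionBySet_iff _ _).mp x.2 ⟨a, ha⟩))
    · exact fun a b hab => Submodule.torsionBySet_le_torsionBySet_of_subset (Ideal.pow_le_pow_right hab)
    · intro x
      have hle : I ≤ (Ideal.torsionOf A N x).radical := by
        refine Ideal.span_le.mpr ?_
        rintro _ ⟨l, rfl⟩
        obtain ⟨n, hn⟩ := hN x l l.2
        exact ⟨n, by rwa [Ideal.mem_torsionOf_iff]⟩
      obtain ⟨j, hj⟩ := Ideal.exists_pow_le_of_le_radical_of_fg hle (Submodule.fg_span (Set.finite_range f))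
      exact ⟨j, (Submodule.mem_torsionBySet_iff _ _).mpr fun a => (Ideal.mem_torsionOf_iff _ _).mp (hj a.2)⟩
  have hstep : ∀ j, j < r → Q (j + 1) → Q j := by
    intro j hj hQ N _ _ hN i hi
    let l₀ : Fin r := ⟨j, hj⟩
    let Nf := LocalizedModule (Submonoid.powers (f l₀)) N
    let φ : N →ₗ[A] Nf := LocalizedModule.mkLinearMap (Submonoid.powers (f l₀)) N
    haveI : Module.Flat (Localization.Away (f l₀)) (Localization.Away (f l₀) ⊗[A] M) := by
      haveI := h1 l₀
      exact Module.Flat.of_linearEquiv (LocalizedModule.equivTensorProduct (Submonoid.powers (f l₀)) M).symm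
    have hNf : ∀ i, V P (i + 1) Nf := fun i => by
      haveI : Module.Flat A (Localization.Away (f l₀)) := IsLocalization.flat _ (Submonoid.powers (f l₀))
      exact V_algebra P (Localization.Away (f l₀)) (k := i + 1)
        (fun m _ => V_of_flat P m _) i le_rfl Nf
    have hker : ∀ x : LinearMap.ker φ, ∀ l : Fin r, (l : ℕ) < j + 1 → ∃ n : ℕ, f l ^ n • x = 0 := by
      intro x l hl
      rcases Nat.lt_succ_iff_lt_or_eq.mp hl with hl | hl
      · obtain ⟨n, hn⟩ := hN x.1 l hl
        exact ⟨n, Subtype.ext hn⟩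
      · obtain rfl : l = l₀ := Fin.ext hl
        obtain ⟨⟨_, n, rfl⟩, hs⟩ := (IsLocalizedModule.eq_zero_iff (Submonoid.powers (f l₀)) φ).mp x.2
        exact ⟨n, Subtype.ext hs⟩
    have hcok : ∀ x : Nf ⧸ LinearMap.range φ, ∀ l : Fin r, (l : ℕ) < j + 1 → ∃ n : ℕ, f l ^ n • x = 0 := by
      intro x l hl
      obtain ⟨y, rfl⟩ := (LinearMap.range φ).mkQ_surjective x
      obtain ⟨⟨m, s⟩, hy⟩ := IsLocalizedModule.surj (Submonoid.powers (f l₀)) φ y
      rcases Nat.lt_succ_iff_lt_or_eq.mp hl with hl | hl
      · obtain ⟨n, hn⟩ := hN m l hl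
        refine ⟨n, ?_⟩
        rw [← map_smul]
        have : f l ^ n • y = 0 := by
          apply IsLocalizedModule.smul_injective φ s
          simp only [smul_zero]
          rw [smul_comm, hy, ← map_smul, hn, map_zero]
        rw [this, map_zero]
      · obtain rfl : l = l₀ := Fin.ext hl
        obtain ⟨n, hn⟩ := s.2
        refine ⟨n, ?_⟩
        rw [← map_smul, Submodule.mkQ_apply, Submodule.Quotient.mk_eq_zero]
        refine ⟨m, ?_⟩
        exact hy.symm.trans (congrArg (· • y) hn.symm)
    have hIm : V P (i + 1) (LinearMap.range φ) :=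
      V_left P (LinearMap.range φ).injective_subtype (LinearMap.range φ).mkQ_surjective
        (LinearMap.exact_subtype_mkQ _) (i + 1) (hQ _ hcok (i + 1) (by omega)) (hNf i)
    refine V_mid P (LinearMap.ker φ).injective_subtype φ.surjective_rangeRestrict ?_ (i + 1)
      (hQ _ hker i (by omega)) hIm
    intro x
    simp [← LinearMap.mem_ker]
  have hQ0 : ∀ d, d ≤ r → Q (r - d) := by
    intro d
    induction d with
    | zero => exact fun _ => hQr
    | succ d ih =>
      intro hd
      have := ih (by omega)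
      refine hstep _ (by omega) ?_
      rwa [show r - (d + 1) + 1 = r - d by omega]
  rw [Module.Flat.iff_rTensor_injective']
  intro J
  have hJ : V P 1 (A ⧸ J) := by
    have := hQ0 r le_rfl
    rw [Nat.sub_self] at this
    exact this (A ⧸ J) (fun _ l hl => absurd hl (Nat.not_lt_zero _)) 0 le_rfl
  haveI : Subsingleton (DRing.Tor A 1 (A ⧸ J) M) :=
    ModuleCat.subsingleton_of_isZero (((V_iff P 1 _).mp hJ).of_iso (torIso P _ 1))
  have hs := (torOneEquivKer J.subtype J.mkQ M J.injective_subtype J.mkQ_surjective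
    (LinearMap.exact_subtype_mkQ J)).symm.toEquiv.subsingleton
  rw [← LinearMap.ker_eq_bot]
  exact Submodule.subsingleton_iff_eq_bot.mp hs

end Groth.Agent.S6377
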