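import Groth.Statements.S6378
import Mathlib
import Groth.Agent.TorLib.Basic

set_option autoImplicit false
universe u
open CategoryTheory
open CAlg

namespace Groth.Agent.S6378
open scoped TensorProduct

/-- Let (R, m, κ) be a local ring and M an R-module with Tor_1^R(κ, M) = 0. Then Tor_1^R(N, M) = 0 for
every finite length R-module N. -/
theorem result (R : Type u) [CommRing R] [IsLocalRing R]
    (M : Type u) [AddCommGroup M] [Module R M]
    (h : Limits.IsZero (((CategoryTheory.Tor (ModuleCat.{u} R) 1).obj (ModuleCat.of R (IsLocalRing.ResidueField R))).obj (ModuleCat.of R M)))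
    (N : Type u) [AddCommGroup N] [Module R N] (hN : IsFiniteLength R N) :
    Limits.IsZero (((CategoryTheory.Tor (ModuleCat.{u} R) 1).obj (ModuleCat.of R N)).obj (ModuleCat.of R M)) := by
  let P := CategoryTheory.projectiveResolution (ModuleCat.of R M)
  have hcongr : ∀ (A B : Type u) [AddCommGroup A] [Module R A] [AddCommGroup B] [Module R B] (_ : A ≃ₗ[R] B),
      Limits.IsZero (((CategoryTheory.Tor (ModuleCat.{u} R) 1).obj (ModuleCat.of R A)).obj (ModuleCat.of R M)) →
      Limits.IsZero (((CategoryTheory.Tor (ModuleCat.{u} R) 1).obj (ModuleCat.of R B)).obj (ModuleCat.of R M)) :=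
    fun A B _ _ _ _ e hA => hA.of_iso (((CategoryTheory.Tor (ModuleCat.{u} R) 1).mapIso e.toModuleIso).app _).symm
  induction hN with
  | of_subsingleton =>
    rw [ModuleCat.isZero_iff_subsingleton]
    exact Groth.Agent.TorLib.subsingleton_tor_of_flat _ M 0
  | @of_simple_quotient X _ _ K _ hK ih =>
    obtain ⟨I, hI, ⟨e⟩⟩ := isSimpleModule_iff_quot_maximal.mp (inferInstance : IsSimpleModule R (X ⧸ K))
    rw [IsLocalRing.eq_maximalIdeal hI] at e
    have h3 := hcongr (IsLocalRing.ResidueField R) (X ⧸ K) e.symm h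
    have hS := Groth.Agent.TorLib.shortExact_mk K.subtype K.mkQ K.injective_subtype K.mkQ_surjective (LinearMap.exact_subtype_mkQ K)
    have h1 := ih.of_iso (Groth.Agent.TorLib.torIso P (ModuleCat.of R K) 1).symm
    have h2 := h3.of_iso (Groth.Agent.TorLib.torIso P (ModuleCat.of R (X ⧸ K)) 1).symm
    refine Limits.IsZero.of_iso ?_ (Groth.Agent.TorLib.torIso P (ModuleCat.of R X) 1)
    exact ((Groth.Agent.TorLib.cxSeq_shortExact P hS).homology_exact₂ 1).isZero_of_both_zeros (h1.eq_of_src _ _) (h2.eq_of_tgt _ _)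
end Groth.Agent.S6378
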