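import Groth.Statements.S6385
import Groth.Agent.DimFormulaLib.LocalDim
import Groth.Agent.GrSegreLib.Dim
-- import your own Groth.Agent.* helpers here

set_option autoImplicit false
universe u
open CAlg

namespace Groth.Agent.S6385

open DimFormulaLib in
theorem exists_g {k S : Type u} [Field k] [CommRing S] [Algebra k S] [Algebra.FiniteType k S] (q : Ideal S) [q.IsPrime] :
    ∃ g : S, g ∉ q ∧ ∀ g' : S, g' ∉ q → ringKrullDim (Localization.Away g) ≤ ringKrullDim (Localization.Away g') := by
  haveI : IsNoetherianRing S := Algebra.FiniteType.isNoetherianRing k S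
  obtain ⟨g, hg, hmin⟩ := exists_open_dim_le (p := (⟨q, inferInstance⟩ : PrimeSpectrum S))
  refine ⟨g, hg, fun g' hg' => ?_⟩
  haveI : Algebra.FiniteType k (Localization.Away g) :=
    Algebra.FiniteType.trans ‹Algebra.FiniteType k S› (IsLocalization.finiteType_of_monoid_fg (Submonoid.powers g) _)
  haveI : Algebra.FiniteType k (Localization.Away g') :=
    Algebra.FiniteType.trans ‹Algebra.FiniteType k S› (IsLocalization.finiteType_of_monoid_fg (Submonoid.powers g') _)
  refine ringKrullDim_le_of_forall_minimal k (Localization.Away g) _ fun P' hP' n hn => ?_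
  haveI : P'.IsPrime := hP'.1.1
  let P := P'.comap (algebraMap S (Localization.Away g))
  have hd := ((IsLocalization.isPrime_iff_isPrime_disjoint (Submonoid.powers g) (Localization.Away g) P').1 inferInstance).2
  have hPg : g ∉ P := fun h => Set.disjoint_left.1 hd ⟨1, pow_one g⟩ h
  have hPmin : P ∈ minimalPrimes S := by
    refine ⟨⟨inferInstance, bot_le⟩, fun Q ⟨hQ, _⟩ hle => ?_⟩
    haveI := hQ
    have hdQ : Disjoint (Submonoid.powers g : Set S) Q := hd.mono_right hle
    have h1 := hP'.2 ⟨IsLocalization.isPrime_of_isPrime_disjoint (Submonoid.powers g) (Localization.Away g) Q hQ hdQ, bot_le⟩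
      ((Ideal.map_mono hle).trans Ideal.map_comap_le)
    exact (Ideal.comap_mono h1).trans (IsLocalization.under_map_of_isPrime_disjoint (Submonoid.powers g) (Localization.Away g) hQ hdQ).le
  have hPq : P ≤ q := hmin P hPmin hPg
  obtain ⟨m, hm⟩ := exists_nat_trdeg_quotient k S P
  obtain ⟨P'', hP'', hc, hn''⟩ := trdeg_away k S hPg hm
  obtain rfl : P'' = P' := by
    rw [← IsLocalization.map_under (Submonoid.powers g) (Localization.Away g) P'',
      ← IsLocalization.map_under (Submonoid.powers g) (Localization.Away g) P']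
    exact congrArg _ hc
  obtain rfl : n = m := by rw [hn] at hn''; exact_mod_cast hn''
  obtain ⟨R, hR, -, hRn⟩ := trdeg_away k S (show g' ∉ P from fun h => hg' (hPq h)) hm
  rw [← ringKrullDim_eq_trdeg k n hRn]
  exact ringKrullDim_quotient_le R

/-- Let k be a field, S a finite type k-algebra, q a prime of S and x the corresponding point of X =
Spec S. Then there is g ∈ S, g ∉ q, such that dim S_g equals dim_x X — the minimum of dim S_{g'}
over all g' ∉ q — and, writing d for this dimension, a finite injective k-algebra map from the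
polynomial ring k[y_1, ..., y_d] to S_g. -/
theorem result (k S : Type u) [Field k] [CommRing S] [Algebra k S]
    [Algebra.FiniteType k S] (q : Ideal S) [q.IsPrime] :
    ∃ (g : S) (d : ℕ), g ∉ q ∧ ringKrullDim (Localization.Away g) = d ∧
      (∀ g' : S, g' ∉ q → ringKrullDim (Localization.Away g) ≤ ringKrullDim (Localization.Away g')) ∧
      ∃ φ : MvPolynomial (Fin d) k →ₐ[k] Localization.Away g, Function.Injective φ ∧ φ.toRingHom.Finite := by
  obtain ⟨g, hg, hmin⟩ := exists_g (k := k) q
  haveI : Algebra.FiniteType k (Localization.Away g) :=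
    Algebra.FiniteType.trans ‹Algebra.FiniteType k S› (IsLocalization.finiteType_of_monoid_fg (Submonoid.powers g) _)
  have hdq : Disjoint (Submonoid.powers g : Set S) q := Set.disjoint_left.2 fun x ⟨n, hn⟩ hx =>
    hg (‹q.IsPrime›.mem_of_pow_mem n (show g ^ n ∈ q by rwa [show g ^ n = x from hn]))
  haveI : Nontrivial (Localization.Away g) :=
    have hp := (IsLocalization.isPrime_of_isPrime_disjoint (Submonoid.powers g) (Localization.Away g) q ‹_› hdq).ne_top
    nontrivial_of_ne 0 1 fun h => hp ((Ideal.eq_top_iff_one _).2 (h ▸ Ideal.zero_mem _))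
  obtain ⟨d, φ, hinj, hfin⟩ := exists_finite_inj_algHom_of_fg k (Localization.Away g)
  refine ⟨g, d, hg, ?_, hmin, φ, hinj, hfin⟩
  rw [← GrSegreLib.ringKrullDim_eq_of_integral_injective φ.toRingHom hinj (RingHom.IsIntegral.of_finite hfin),
    MvPolynomial.ringKrullDim_of_isNoetherianRing, ringKrullDim_eq_zero_of_field, zero_add, Nat.card_fin]

end Groth.Agent.S6385
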