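import Groth.Statements.S6386
import Mathlib

set_option autoImplicit false
universe u
open CAlg

namespace Groth.Agent.S6386

/-- The key step of its proof: let A be a ring, κ = max(|A|, ℵ₀), and B a flat A-algebra. Then every
A-subalgebra E ⊆ B with at most κ elements lies inside a flat A-subalgebra B' ⊆ B with at most κ
elements. Consequently B is the filtered colimit (union) of its flat A-subalgebras of cardinality at
most κ. -/
theorem result (A B : Type u) [CommRing A] [CommRing B] [Algebra A B]
    [Module.Flat A B] (E : Subalgebra A B) (hE : Cardinal.mk E ≤ max (Cardinal.mk A) Cardinal.aleph0) :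
    ∃ B' : Subalgebra A B, E ≤ B' ∧ Module.Flat A B' ∧ Cardinal.mk B' ≤ max (Cardinal.mk A) Cardinal.aleph0 := by
  classical
  set κ := max (Cardinal.mk A) Cardinal.aleph0 with hκ
  have hκ0 : Cardinal.aleph0 ≤ κ := le_max_right _ _
  have hκA : Cardinal.mk A ≤ κ := le_max_left _ _
  let Rel : Subalgebra A B → Type u := fun E =>
    Σ l : ℕ, {p : (Fin l → A) × (Fin l → E) // ∑ i, p.1 i • ((p.2 i : E) : B) = 0}
  have hRel : ∀ (E : Subalgebra A B) (r : Rel E),
      Module.IsTrivialRelation r.2.1.1 (fun i => ((r.2.1.2 i : E) : B)) := fun E r =>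
    Module.Flat.isTrivialRelation_of_sum_smul_eq_zero r.2.2
  choose k a y hy using hRel
  let next : Subalgebra A B → Subalgebra A B := fun E => Algebra.adjoin A ((E : Set B) ∪ ⋃ r : Rel E, Set.range (y E r))
  have hnext : ∀ E : Subalgebra A B, Cardinal.mk E ≤ κ → Cardinal.mk (next E) ≤ κ := fun E hE => by
    have h1 : Cardinal.mk (Rel E) ≤ κ := by
      have hl : ∀ l : ℕ, Cardinal.mk ((Fin l → A) × (Fin l → E)) ≤ κ := fun l => by
        rw [Cardinal.mk_prod, Cardinal.lift_id, Cardinal.lift_id, Cardinal.mk_pi, Cardinal.mk_pi, Cardinal.prod_const,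
          Cardinal.prod_const, Cardinal.mk_fin, Cardinal.lift_natCast, Cardinal.lift_uzero, Cardinal.lift_uzero,
          Cardinal.power_natCast, Cardinal.power_natCast]
        have hA : Cardinal.mk A ^ l ≤ κ := (pow_le_pow_left' hκA l).trans (Cardinal.power_nat_le hκ0)
        have hE' : Cardinal.mk E ^ l ≤ κ := (pow_le_pow_left' hE l).trans (Cardinal.power_nat_le hκ0)
        exact (mul_le_mul' hA hE').trans (Cardinal.mul_eq_self hκ0).le
      rw [Cardinal.mk_sigma]
      refine (Cardinal.sum_le_lift_mk_mul_iSup_lift _).trans ?_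
      rw [Cardinal.mk_nat, Cardinal.lift_aleph0]
      refine (mul_le_mul' hκ0 (ciSup_le' fun l => ?_)).trans (Cardinal.mul_eq_self hκ0).le
      rw [Cardinal.lift_uzero]
      exact (Cardinal.mk_subtype_le _).trans (hl l)
    have h2 : Cardinal.mk (⋃ r : Rel E, Set.range (y E r) : Set B) ≤ κ :=
      (Cardinal.mk_iUnion_le _).trans ((mul_le_mul' h1 (ciSup_le' fun r =>
        (Cardinal.le_aleph0_iff_set_countable.2 (Set.countable_range _)).trans hκ0)).trans (Cardinal.mul_eq_self hκ0).le)
    refine (Algebra.cardinalMk_adjoin_le A _).trans (max_le (max_le hκA ?_) hκ0)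
    exact (Cardinal.mk_union_le _ _).trans ((add_le_add hE h2).trans (Cardinal.add_eq_self hκ0).le)
  let F : ℕ → Subalgebra A B := fun n => next^[n] E
  have hF : ∀ n, Cardinal.mk (F n) ≤ κ := fun n => by
    induction n with
    | zero => exact hE
    | succ n ih => simp only [F, Function.iterate_succ_apply']; exact hnext _ ih
  have hmono : Monotone F := monotone_nat_of_le_succ fun n => by
    simp only [F, Function.iterate_succ_apply']
    exact fun x hx => Algebra.subset_adjoin (Or.inl hx)
  have hdir : Directed (· ≤ ·) F := hmono.directed_le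
  have hcoe : ((⨆ n, F n : Subalgebra A B) : Set B) = ⋃ n, (F n : Set B) := Subalgebra.coe_iSup_of_directed hdir
  refine ⟨⨆ n, F n, le_iSup F 0, Module.Flat.of_forall_isTrivialRelation fun {l f x} hfx => ?_, ?_⟩
  · have hx : ∀ i, ∃ n, (x i : B) ∈ F n := fun i => Set.mem_iUnion.1 (hcoe ▸ (x i).2)
    choose n hn using hx
    set N := Finset.univ.sup n
    have hxN : ∀ i, (x i : B) ∈ F N := fun i => hmono (Finset.le_sup (Finset.mem_univ i)) (hn i)
    let r : Rel (F N) := ⟨l, ⟨(f, fun i => ⟨x i, hxN i⟩), by simpa using congrArg Subtype.val hfx⟩⟩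
    obtain ⟨h1, h2⟩ := hy (F N) r
    have hyF : ∀ j, y (F N) r j ∈ ⨆ n, F n := fun j => le_iSup F (N + 1) <| by
      simp only [F, Function.iterate_succ_apply']
      exact Algebra.subset_adjoin (Or.inr (Set.mem_iUnion.2 ⟨r, j, rfl⟩))
    exact ⟨k (F N) r, a (F N) r, fun j => ⟨y (F N) r j, hyF j⟩, fun i => Subtype.ext (by simpa using h1 i), h2⟩
  · show Cardinal.mk ((⨆ n, F n : Subalgebra A B) : Set B) ≤ κ
    rw [hcoe]
    refine Cardinal.mk_iUnion_le_lift.{u, 0} (fun n => (F n : Set B)) |> fun h => ?_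
    rw [Cardinal.lift_id', Cardinal.mk_nat, Cardinal.lift_aleph0] at h
    refine h.trans ((mul_le_mul' hκ0 (ciSup_le' fun n => ?_)).trans (Cardinal.mul_eq_self hκ0).le)
    rw [Cardinal.lift_id']
    exact hF n

end Groth.Agent.S6386
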