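import Groth.Statements.S6387
import Mathlib
import Groth.Agent.LocFlat.Basic

set_option autoImplicit false
universe u
open CategoryTheory
open CAlg

namespace Groth.Agent.S6387

open TensorProduct in
theorem step {R S P N M : Type u} [CommRing R] [CommRing S] [IsLocalRing R] [IsLocalRing S] [IsNoetherianRing S]
    [Algebra R S] [IsLocalHom (algebraMap R S)] [AddCommGroup P] [Module S P]
    [AddCommGroup N] [Module S N] [Module.Finite S N]
    [AddCommGroup M] [Module R M] [Module S M] [IsScalarTower R S M] [Module.Flat R M]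
    [Module R N] [IsScalarTower R S N]
    (d' : P →ₗ[S] N) (d : N →ₗ[S] M) (hdd : d ∘ₗ d' = 0)
    (h : ∀ x : N, d x ∈ (IsLocalRing.maximalIdeal R).map (algebraMap R S) • (⊤ : Submodule S M) →
      ∃ y : P, x - d' y ∈ (IsLocalRing.maximalIdeal R).map (algebraMap R S) • (⊤ : Submodule S N)) :
    LinearMap.ker d = LinearMap.range d' ∧ Module.Flat R (M ⧸ LinearMap.range d) := by
  have hle : LinearMap.range d' ≤ LinearMap.ker d := LinearMap.range_le_ker_iff.2 hdd
  let u : (N ⧸ LinearMap.range d') →ₗ[S] M := Submodule.liftQ _ d hle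
  let m := IsLocalRing.maximalIdeal R
  have hu : Function.Injective ((u.restrictScalars R).lTensor (IsLocalRing.ResidueField R)) := by
    rw [injective_iff_map_eq_zero]
    intro z hz
    obtain ⟨q, rfl⟩ : ∃ q, (quotTensorEquivQuotSMul (N ⧸ LinearMap.range d') m).symm (Submodule.Quotient.mk q) = z :=
      ⟨_, by
        rw [show Submodule.Quotient.mk (Submodule.Quotient.mk_surjective _ (quotTensorEquivQuotSMul _ m z)).choose =
          quotTensorEquivQuotSMul _ m z from (Submodule.Quotient.mk_surjective _ (quotTensorEquivQuotSMul _ m z)).choose_spec,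
          LinearEquiv.symm_apply_apply]⟩
    obtain ⟨x, rfl⟩ := Submodule.Quotient.mk_surjective _ q
    rw [quotTensorEquivQuotSMul_symm_mk] at hz ⊢
    have hz' : (quotTensorEquivQuotSMul M m) ((1 : R ⧸ m) ⊗ₜ[R] d x) = 0 := by
      rw [show ((1 : R ⧸ m) ⊗ₜ[R] d x) = (0 : (R ⧸ m) ⊗[R] M) from hz, map_zero]
    rw [quotTensorEquivQuotSMul_mk_one_tmul, Submodule.Quotient.mk_eq_zero] at hz'
    obtain ⟨y, hy⟩ := h x (by
      rw [← Submodule.restrictScalars_mem R, Ideal.smul_restrictScalars]
      exact hz')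
    refine (quotTensorEquivQuotSMul (N ⧸ LinearMap.range d') m).map_eq_zero_iff.1 ?_
    rw [quotTensorEquivQuotSMul_mk_one_tmul, Submodule.Quotient.mk_eq_zero]
    rw [← Submodule.restrictScalars_mem R, Ideal.smul_restrictScalars] at hy
    have e : (Submodule.Quotient.mk x : N ⧸ LinearMap.range d') = Submodule.Quotient.mk (x - d' y) :=
      (Submodule.Quotient.eq _).2 ⟨y, (sub_sub_self x (d' y)).symm⟩
    rw [e]
    have := Submodule.mem_map_of_mem (f := (LinearMap.range d').mkQ.restrictScalars R) hy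
    rw [Submodule.map_smul''] at this
    exact Submodule.smul_mono le_rfl le_top this
  obtain ⟨h1, h2⟩ := Groth.Agent.LocFlat.injective_and_flat_of_residue (S := S) (u.restrictScalars R) hu
  refine ⟨le_antisymm (fun x hx => (Submodule.Quotient.mk_eq_zero _).1 (h1 ?_)) hle, ?_⟩
  · rw [map_zero]; exact hx
  · haveI := h2
    refine Module.Flat.of_linearEquiv (M := M ⧸ LinearMap.range (u.restrictScalars R)) ?_
    refine (Submodule.Quotient.restrictScalarsEquiv R (LinearMap.range d)).symm.trans (Submodule.quotEquivOfEq _ _ ?_)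
    ext x
    constructor
    · rintro ⟨y, rfl⟩; exact ⟨Submodule.Quotient.mk y, rfl⟩
    · rintro ⟨q, rfl⟩
      obtain ⟨y, rfl⟩ := Submodule.Quotient.mk_surjective _ q
      exact ⟨y, rfl⟩


/-- Let R and S be Noetherian local rings, R → S a local ring map, and m the maximal ideal of R. Take a
bounded complex F_e → … → F_1 → F_0 of finitely generated S-modules, zero to the left of F_e (a
chain complex C with C_j = 0 for j > e) such that every F_j is flat over R and the complex 0 →
F_e/mF_e → … → F_0/mF_0 (C tensored over S with S/mS) is exact at F_e, …, F_1. Then 0 → F_e → … →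
F_0 is exact at F_e, …, F_1 and the cokernel of F_1 → F_0 (the homology of C in degree 0) is flat
over R. -/
theorem result {R S : Type u} [CommRing R] [CommRing S]
    [IsLocalRing R] [IsLocalRing S] [IsNoetherianRing R] [IsNoetherianRing S] [Algebra R S]
    [IsLocalHom (algebraMap R S)] (C : ChainComplex (ModuleCat.{u} S) ℕ) (e : ℕ)
    (hzero : ∀ j, e < j → Limits.IsZero (C.X j)) (hfin : ∀ j, Module.Finite S (C.X j))
    (hflat : ∀ j, Module.Flat R ((ModuleCat.restrictScalars (algebraMap R S)).obj (C.X j)))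
    (hex : ∀ j, 1 ≤ j → j ≤ e →
      (((MonoidalCategory.tensorLeft
          (ModuleCat.of S (S ⧸ (IsLocalRing.maximalIdeal R).map (algebraMap R S)))).mapHomologicalComplex
          (ComplexShape.down ℕ)).obj C).ExactAt j) :
    (∀ j, 1 ≤ j → j ≤ e → C.ExactAt j) ∧
      Module.Flat R ((ModuleCat.restrictScalars (algebraMap R S)).obj (C.homology 0)) := by
  classical
  letI inst : ∀ j, Module R (C.X j) := fun j => Module.compHom (C.X j) (algebraMap R S)
  haveI : ∀ j, IsScalarTower R S (C.X j) := fun j => IsScalarTower.of_algebraMap_smul fun _ _ => rfl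
  haveI : ∀ j, Module.Flat R (C.X j) := hflat
  haveI := hfin
  let J := (IsLocalRing.maximalIdeal R).map (algebraMap R S)
  have hA : ∀ i, LinearMap.ker (C.d (i + 1) i).hom = LinearMap.range (C.d (i + 2) (i + 1)).hom ∧
      Module.Flat R (C.X i ⧸ LinearMap.range (C.d (i + 1) i).hom) := by
    intro i
    refine step (C.d (i + 2) (i + 1)).hom (C.d (i + 1) i).hom ?_ fun x hx => ?_
    · rw [← ModuleCat.hom_comp, C.d_comp_d]; rfl
    · by_cases hi : i + 1 ≤ e
      · have hE := hex (i + 1) (Nat.succ_pos i) hi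
        rw [HomologicalComplex.exactAt_iff' _ (i + 2) (i + 1) i (by simp) (by simp), ShortComplex.moduleCat_exact_iff] at hE
        have h0 : LinearMap.lTensor (S ⧸ J) (C.d (i + 1) i).hom ((1 : S ⧸ J) ⊗ₜ[S] x) = 0 := by
          refine (TensorProduct.quotTensorEquivQuotSMul (C.X i) J).injective ?_
          rw [LinearMap.lTensor_tmul, TensorProduct.quotTensorEquivQuotSMul_mk_one_tmul, map_zero, Submodule.Quotient.mk_eq_zero]
          exact hx
        obtain ⟨w, hw⟩ := hE ((1 : S ⧸ J) ⊗ₜ[S] x) h0
        obtain ⟨q, hq⟩ := Submodule.Quotient.mk_surjective _ (TensorProduct.quotTensorEquivQuotSMul (C.X (i + 2)) J w)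
        refine ⟨q, ?_⟩
        rw [← Submodule.Quotient.eq]
        have hw' : LinearMap.lTensor (S ⧸ J) (C.d (i + 2) (i + 1)).hom w = (1 : S ⧸ J) ⊗ₜ[S] x := hw
        rw [(TensorProduct.quotTensorEquivQuotSMul (C.X (i + 2)) J).eq_symm_apply.2 hq.symm,
          TensorProduct.quotTensorEquivQuotSMul_symm_mk, LinearMap.lTensor_tmul] at hw'
        have := congrArg (TensorProduct.quotTensorEquivQuotSMul (C.X (i + 1)) J) hw'
        rw [TensorProduct.quotTensorEquivQuotSMul_mk_one_tmul, TensorProduct.quotTensorEquivQuotSMul_mk_one_tmul] at this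
        exact this.symm
      · haveI := ModuleCat.subsingleton_of_isZero (hzero (i + 1) (by omega))
        exact ⟨0, by rw [Subsingleton.elim x 0, map_zero, sub_zero]; exact zero_mem _⟩
  refine ⟨fun j hj _ => ?_, ?_⟩
  · obtain ⟨i, rfl⟩ : ∃ i, j = i + 1 := ⟨j - 1, by omega⟩
    rw [HomologicalComplex.exactAt_iff' _ (i + 2) (i + 1) i (by simp) (by simp), ShortComplex.moduleCat_exact_iff]
    intro x hx
    have : x ∈ LinearMap.ker (C.d (i + 1) i).hom := hx
    rw [(hA i).1] at this
    exact this
  · let Sc := C.sc' 1 0 0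
    have hg : LinearMap.ker Sc.g.hom = ⊤ := by
      rw [LinearMap.ker_eq_top]
      show (C.d 0 0).hom = 0
      rw [C.shape 0 0 (by simp)]; rfl
    let e₁ : C.homology 0 ≃ₗ[S] (LinearMap.ker Sc.g.hom ⧸ LinearMap.range Sc.moduleCatToCycles) :=
      ((C.homologyIsoSc' 1 0 0 (by simp) (by simp)) ≪≫ Sc.moduleCatHomologyIso).toLinearEquiv
    let e₂ : (LinearMap.ker Sc.g.hom ⧸ LinearMap.range Sc.moduleCatToCycles) ≃ₗ[S] (C.X 0 ⧸ LinearMap.range (C.d 1 0).hom) :=
      Submodule.Quotient.equiv _ _ (LinearEquiv.ofTop _ hg) (by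
        rw [← LinearMap.range_comp]
        congr 1)
    haveI := (hA 0).2
    letI : Module R (C.homology 0) := Module.compHom _ (algebraMap R S)
    haveI : IsScalarTower R S (C.homology 0) := IsScalarTower.of_algebraMap_smul fun _ _ => rfl
    exact Module.Flat.of_linearEquiv ((e₁.trans e₂).restrictScalars R)

end Groth.Agent.S6387
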