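import Groth.Statements.S6388
import Groth.Agent.CAlgBasics.MittagLefflerApps
import Groth.Agent.CAlgBasics.UnivInj

set_option autoImplicit false
universe u
open CAlg

namespace Groth.Agent.S6388

/-- Let f : M → N and g : M → M' be maps of R-modules and let N' be their pushout, realised as the
quotient of M' × N by the submodule of elements (g x, -f x). Then g dominates f — for every module Q
the kernel of f ⊗ id_Q is contained in the kernel of g ⊗ id_Q — if and only if the canonical map M'
→ N' is universally injective. -/
theorem result (R : Type u) [CommRing R] {M N M' : Type u}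
    [AddCommGroup M] [Module R M] [AddCommGroup N] [Module R N] [AddCommGroup M'] [Module R M']
    (f : M →ₗ[R] N) (g : M →ₗ[R] M') :
    (∀ (Q : Type u) [AddCommGroup Q] [Module R Q], LinearMap.ker (f.rTensor Q) ≤ LinearMap.ker (g.rTensor Q)) ↔
      CAlgX.UniversallyInjective R
        ((LinearMap.range (g.prod (-f))).mkQ ∘ₗ LinearMap.inl R M' N) := by
  constructor
  · intro H Q _ _
    refine (injective_iff_map_eq_zero _).mpr fun w hw => ?_
    rw [LinearMap.rTensor_comp_apply] at hw
    obtain ⟨z, hz⟩ := (rTensor_exact Q (LinearMap.exact_map_mkQ_range (g.prod (-f))) (Submodule.mkQ_surjective _) _).mp hw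
    have h1 := congrArg ((LinearMap.fst R M' N).rTensor Q) hz
    have h2 := congrArg ((LinearMap.snd R M' N).rTensor Q) hz
    rw [← LinearMap.rTensor_comp_apply, ← LinearMap.rTensor_comp_apply] at h1 h2
    rw [LinearMap.fst_prod, LinearMap.fst_comp_inl, LinearMap.rTensor_id_apply] at h1
    rw [LinearMap.snd_prod, LinearMap.snd_comp_inl, LinearMap.rTensor_zero, LinearMap.zero_apply,
      LinearMap.rTensor_neg, LinearMap.neg_apply, neg_eq_zero] at h2
    rw [← h1]
    exact H Q h2
  · intro H Q _ _ z hz
    rw [LinearMap.mem_ker] at hz ⊢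
    apply H Q
    rw [map_zero, ← LinearMap.rTensor_comp_apply]
    have : ((LinearMap.range (g.prod (-f))).mkQ ∘ₗ LinearMap.inl R M' N) ∘ₗ g =
        ((LinearMap.range (g.prod (-f))).mkQ ∘ₗ LinearMap.inr R M' N) ∘ₗ f := by
      refine LinearMap.ext fun m => ?_
      simp only [LinearMap.comp_apply, Submodule.mkQ_apply, Submodule.Quotient.eq]
      exact ⟨m, by simp⟩
    rw [this, LinearMap.rTensor_comp_apply, hz, map_zero]

end Groth.Agent.S6388
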