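import Groth.Statements.S6389
import Mathlib


set_option autoImplicit false
universe u
open CAlg

namespace Groth.Agent.S6389

/-- Let (M_s)_{s ∈ S} be a direct sum dévissage of an R-module M: an increasing family of submodules
indexed by a well-ordered set S with M_s = ⋃_{t<s} M_t at every index s that is not a successor (in
particular the first term is 0), ⋃_s M_s = M, and M_s a direct summand of M_t whenever t is the
successor of s. Then M is isomorphic to the direct sum, over the successor steps s ⋖ t, of the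
quotients M_t/M_s (existence of an isomorphism; the map in the source depends on chosen
complements). -/
theorem result (R : Type u) [CommRing R] (M : Type u)
    [AddCommGroup M] [Module R M] (S : Type u) [LinearOrder S] [WellFoundedLT S] (Mf : S → Submodule R M)
    (hmono : Monotone Mf) :
    (∀ s : S, Order.IsSuccPrelimit s → Mf s = ⨆ t : {t : S // t < s}, Mf t.1) →
      (⨆ s, Mf s) = ⊤ →
      (∀ s t : S, s ⋖ t → ∃ C : Submodule R M, Mf s ⊓ C = ⊥ ∧ Mf s ⊔ C = Mf t) →
      Nonempty (M ≃ₗ[R] DirectSum {p : S × S // p.1 ⋖ p.2}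
        fun p => ↥(Mf p.1.2) ⧸ Submodule.comap (Mf p.1.2).subtype (Mf p.1.1)) := by
  classical
  intro hlim htop hsplit
  let P := {p : S × S // p.1 ⋖ p.2}
  have h' : ∀ p : P, ∃ C : Submodule R M, Mf p.1.1 ⊓ C = ⊥ ∧ Mf p.1.1 ⊔ C = Mf p.1.2 :=
    fun p => hsplit _ _ p.2
  choose C hC1 hC2 using h'
  have hCle : ∀ p : P, C p ≤ Mf p.1.2 := fun p => (le_sup_right).trans (hC2 p).le
  have hspan : ∀ t : S, Mf t ≤ ⨆ p, C p := by
    intro t
    induction t using WellFoundedLT.induction with
    | ind t ih =>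
      by_cases ht : Order.IsSuccPrelimit t
      · rw [hlim t ht]
        exact iSup_le fun u => ih u.1 u.2
      · obtain ⟨s, hs⟩ := Order.not_isSuccPrelimit_iff_exists_covBy.1 ht
        rw [← hC2 ⟨(s, t), hs⟩]
        exact sup_le (ih s hs.lt) (le_iSup C _)
  have hpinj : ∀ p q : P, p.1.2 = q.1.2 → p = q := fun p q h =>
    Subtype.ext (Prod.ext (p.2.unique_left (h ▸ q.2)) h)
  let L := DFinsupp.lsum ℕ (fun p => (C p).subtype)
  have hinj : Function.Injective L := by
    rw [injective_iff_map_eq_zero]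
    intro v hv
    by_contra hne
    have hsupp : v.support.Nonempty := Finset.nonempty_iff_ne_empty.2
      (fun h => hne (DFinsupp.support_eq_empty.1 h))
    obtain ⟨p₀, hp₀, hmax⟩ := Finset.exists_max_image v.support (fun p => p.1.2) hsupp
    have hsum : ∑ p ∈ v.support, (v p : M) = 0 := by
      rw [← hv]
      simp only [L, DFinsupp.lsum_apply_apply, DFinsupp.sumAddHom_apply]
      rfl
    rw [← Finset.add_sum_erase _ _ hp₀] at hsum
    have hrest : ∑ p ∈ v.support.erase p₀, (v p : M) ∈ Mf p₀.1.1 := by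
      refine Submodule.sum_mem _ (fun p hp => ?_)
      have hlt : p.1.2 < p₀.1.2 := lt_of_le_of_ne (hmax p (Finset.mem_of_mem_erase hp))
        (fun h => Finset.ne_of_mem_erase hp (hpinj _ _ h))
      have hle : p.1.2 ≤ p₀.1.1 := not_lt.1 (fun h => p₀.2.2 h hlt)
      exact hmono hle (hCle p (v p).2)
    have h0 : (v p₀ : M) ∈ Mf p₀.1.1 ⊓ C p₀ := by
      refine ⟨?_, (v p₀).2⟩
      rw [eq_neg_of_add_eq_zero_left hsum]
      exact Submodule.neg_mem _ hrest
    rw [hC1, Submodule.mem_bot] at h0
    exact DFinsupp.mem_support_iff.1 hp₀ (Subtype.ext h0)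
  have hsur : Function.Surjective L := by
    rw [← LinearMap.range_eq_top, ← Submodule.iSup_eq_range_dfinsupp_lsum, eq_top_iff, ← htop]
    exact iSup_le hspan
  let eP : ∀ p : P, C p ≃ₗ[R] (↥(Mf p.1.2) ⧸ Submodule.comap (Mf p.1.2).subtype (Mf p.1.1)) :=
    fun p => LinearEquiv.ofBijective
      (Submodule.mkQ _ ∘ₗ Submodule.inclusion (hCle p)) (by
        constructor
        · rw [injective_iff_map_eq_zero]
          intro x hx
          have h1 : (x : M) ∈ Mf p.1.1 ⊓ C p := ⟨(Submodule.Quotient.mk_eq_zero (Submodule.comap (Mf p.1.2).subtype (Mf p.1.1)) (x := Submodule.inclusion (hCle p) x)).1 hx, x.2⟩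
          rw [hC1, Submodule.mem_bot] at h1
          exact Subtype.ext h1
        · intro q
          obtain ⟨y, rfl⟩ := Submodule.mkQ_surjective _ q
          obtain ⟨a, ha, c, hc, hac⟩ := Submodule.mem_sup.1 ((hC2 p).ge y.2)
          refine ⟨⟨c, hc⟩, (Submodule.Quotient.eq _).2 ?_⟩
          show (c : M) - (y : M) ∈ Mf p.1.1
          rw [← hac, sub_add_cancel_right]
          exact Submodule.neg_mem _ ha)
  exact ⟨(LinearEquiv.ofBijective L ⟨hinj, hsur⟩).symm.trans
    (DFinsupp.mapRange.linearEquiv eP)⟩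

end Groth.Agent.S6389
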