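import Groth.Statements.S6390
import Mathlib
-- import your own Groth.Agent.* helpers here

set_option autoImplicit false
set_option backward.isDefEq.respectTransparency false
set_option maxHeartbeats 800000
set_option synthInstance.maxHeartbeats 200000
universe u
open scoped Classical
open CAlg

namespace Groth.Agent.S6390

theorem cg_iff {R : Type u} [CommRing R] {M : Type u} [AddCommGroup M] [Module R M] (L : Submodule R M) :
    CAlg.IsCountablyGenerated R L ↔ ∃ s : Set M, s.Countable ∧ Submodule.span R s = L := by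
  constructor
  · rintro ⟨s, hs, hspan⟩
    exact ⟨L.subtype '' s, hs.image _, by rw [← Submodule.map_span, hspan, Submodule.map_top, Submodule.range_subtype]⟩
  · rintro ⟨s, hs, rfl⟩
    exact ⟨Subtype.val ⁻¹' s, hs.preimage Subtype.val_injective, Submodule.span_span_coe_preimage⟩

/-- The quotient by a complement is generated like the complement. -/
theorem cg_quot_iff {R : Type u} [CommRing R] {M : Type u} [AddCommGroup M] [Module R M] {P T C : Submodule R M}
    (h1 : P ⊓ C = ⊥) (h2 : P ⊔ C = T) :
    CAlg.IsCountablyGenerated R (↥T ⧸ Submodule.comap T.subtype P) ↔ CAlg.IsCountablyGenerated R C := by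
  have hC : C ≤ T := h2 ▸ le_sup_right
  let φ : C →ₗ[R] ↥T ⧸ Submodule.comap T.subtype P := (Submodule.mkQ _).comp (Submodule.inclusion hC)
  have hb : Function.Bijective φ := by
    refine ⟨(injective_iff_map_eq_zero φ).2 fun x hx => ?_, fun q => ?_⟩
    · have h : (x : M) ∈ P ⊓ C := ⟨((Submodule.Quotient.mk_eq_zero _).1 hx : Submodule.inclusion hC x ∈ Submodule.comap T.subtype P), x.2⟩
      rw [h1, Submodule.mem_bot] at h
      exact Subtype.ext h
    · obtain ⟨⟨z, hz⟩, rfl⟩ := Submodule.Quotient.mk_surjective _ q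
      obtain ⟨a, ha, b, hb, rfl⟩ := Submodule.mem_sup.1 (h2.symm ▸ hz)
      refine ⟨⟨b, hb⟩, (Submodule.Quotient.eq _).2 ?_⟩
      show b - (a + b) ∈ P
      rw [sub_add_cancel_right]
      exact P.neg_mem ha
  let e := LinearEquiv.ofBijective φ hb
  constructor
  · rintro ⟨s, hs, hspan⟩
    exact ⟨e.symm.toLinearMap '' s, hs.image _, by rw [← Submodule.map_span, hspan, Submodule.map_top, LinearEquiv.range]⟩
  · rintro ⟨s, hs, hspan⟩
    exact ⟨e.toLinearMap '' s, hs.image _, by rw [← Submodule.map_span, hspan, Submodule.map_top, LinearEquiv.range]⟩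


/-- An R-module M is a direct sum of countably generated modules if and only if it admits a Kaplansky
dévissage, i.e. an increasing family of submodules (M_s) indexed by a well-ordered set S with M_s =
⋃_{t<s} M_t at non-successor indices (so the first term is 0), ⋃_s M_s = M, and, whenever t is the
successor of s, M_s a direct summand of M_t with M_t/M_s countably generated. -/
theorem result (R : Type u) [CommRing R] (M : Type u)
    [AddCommGroup M] [Module R M] :
    (∃ (ι : Type u) (N : ι → Submodule R M), DirectSum.IsInternal N ∧ ∀ i, CAlg.IsCountablyGenerated R (N i)) ↔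
      ∃ (S : Type u) (_ : LinearOrder S) (_ : WellFoundedLT S) (Mf : S → Submodule R M), Monotone Mf ∧
        (∀ s : S, Order.IsSuccPrelimit s → Mf s = ⨆ t : {t : S // t < s}, Mf t.1) ∧
        (⨆ s, Mf s) = ⊤ ∧
        (∀ s t : S, s ⋖ t → ∃ C : Submodule R M, Mf s ⊓ C = ⊥ ∧ Mf s ⊔ C = Mf t ∧
          CAlg.IsCountablyGenerated R (↥(Mf t) ⧸ Submodule.comap (Mf t).subtype (Mf s))) := by
    classical
    constructor
    · rintro ⟨ι, N, hN, hc⟩
      have htopN : iSup N = ⊤ := hN.submodule_iSup_eq_top
      have hindN : iSupIndep N := hN.submodule_iSupIndep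
      obtain ⟨_, hwo⟩ := exists_wellFoundedLT ι
      refine ⟨WithTop ι, inferInstance, inferInstance, fun s => ⨆ j : {j : ι // (j : WithTop ι) < s}, N j.1, ?_, ?_, ?_, ?_⟩
      · intro a b hab
        exact iSup_le fun j => le_iSup_of_le (⟨j.1, j.2.trans_le hab⟩ : {j : ι // (j : WithTop ι) < b}) le_rfl
      · refine fun s hs => le_antisymm (iSup_le fun j => ?_) (iSup_le fun t => iSup_le fun j =>
          le_iSup_of_le (⟨j.1, j.2.trans t.2⟩ : {j : ι // (j : WithTop ι) < s}) le_rfl)
        obtain ⟨t, h1, h2⟩ := (not_covBy_iff j.2).1 (hs _)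
        exact le_iSup_of_le (⟨t, h2⟩ : {t // t < s}) (le_iSup_of_le (⟨j.1, h1⟩ : {j : ι // (j : WithTop ι) < t}) le_rfl)
      · refine le_antisymm le_top ((le_of_eq htopN.symm).trans (iSup_le fun i => ?_))
        exact le_iSup_of_le ⊤ (le_iSup_of_le (⟨i, WithTop.coe_lt_top i⟩ : {j : ι // (j : WithTop ι) < ⊤}) le_rfl)
      · intro s t hst
        obtain ⟨i, rfl⟩ : ∃ i : ι, (i : WithTop ι) = s := WithTop.ne_top_iff_exists.1 (ne_top_of_lt hst.lt)
        have h1 : (⨆ j : {j : ι // (j : WithTop ι) < i}, N j.1) ⊓ N i = ⊥ :=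
          ((hindN i).symm.mono_left (iSup_le fun j : {j : ι // (j : WithTop ι) < i} =>
            le_iSup₂ (f := fun k (_ : k ≠ i) => N k) j.1 (ne_of_lt (WithTop.coe_lt_coe.1 j.2)))).eq_bot
        have h2 : (⨆ j : {j : ι // (j : WithTop ι) < i}, N j.1) ⊔ N i = ⨆ j : {j : ι // (j : WithTop ι) < t}, N j.1 := by
          refine le_antisymm (sup_le (iSup_le fun j => le_iSup_of_le (⟨j.1, j.2.trans hst.lt⟩ : {j : ι // (j : WithTop ι) < t}) le_rfl)
            (le_iSup_of_le (⟨i, hst.lt⟩ : {j : ι // (j : WithTop ι) < t}) le_rfl)) (iSup_le fun j => ?_)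
          rcases (le_of_not_gt fun h => hst.2 h j.2 : (j.1 : WithTop ι) ≤ i).lt_or_eq with h | h
          · exact le_sup_of_le_left (le_iSup_of_le (⟨j.1, h⟩ : {j : ι // (j : WithTop ι) < i}) le_rfl)
          · rw [WithTop.coe_inj.1 h]; exact le_sup_right
        exact ⟨N i, h1, h2, (cg_quot_iff h1 h2).2 (hc i)⟩
    · rintro ⟨S, _, _, Mf, hmono, hlim, htop, hsucc⟩
      choose C h1 h2 h3 using hsucc
      let ι := {p : S × S // p.1 ⋖ p.2}
      let N : ι → Submodule R M := fun p => C p.1.1 p.1.2 p.2
      have hle : ∀ p : ι, N p ≤ Mf p.1.2 := fun p => le_sup_right.trans (h2 _ _ p.2).le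
      have hgen : ∀ t, Mf t ≤ ⨆ p : ι, N p := fun t => by
        induction t using WellFoundedLT.induction with
        | ind t ih =>
          by_cases ht : Order.IsSuccPrelimit t
          · rw [hlim t ht]
            exact iSup_le fun u => ih u.1 u.2
          · obtain ⟨s, hs⟩ := not_forall.1 ht
            rw [not_not] at hs
            rw [← h2 s t hs]
            exact sup_le (ih s hs.lt) (le_iSup N (⟨(s, t), hs⟩ : ι))
      refine ⟨ι, N, @DirectSum.isInternal_submodule_of_iSupIndep_of_iSup_eq_top _ _ _ (fun a b => Classical.propDecidable (a = b)) _ _ _ N ?_ ?_, fun p => ?_⟩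
      · refine (iSupIndep_iff_finsetSum_eq_zero_imp_eq_zero N).2 fun F v hv hsum => ?_
        induction F using Finset.strongInduction with
        | _ F ih =>
          intro p hp
          obtain ⟨q, hq, hmax⟩ := F.exists_max_image (fun p : ι => p.1.2) ⟨p, hp⟩
          have hrest : ∑ x ∈ F.erase q, v x ∈ Mf q.1.1 := Submodule.sum_mem _ fun x hx => by
            have hne := Finset.ne_of_mem_erase hx
            have hxF := Finset.mem_of_mem_erase hx
            refine hmono ?_ (hle x (hv x hxF))
            by_contra hn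
            have he : x.1.2 = q.1.2 := ((hmax x hxF).lt_or_eq).resolve_left fun h => q.2.2 (lt_of_not_ge hn) h
            refine hne (Subtype.ext (Prod.ext ?_ he))
            rcases lt_trichotomy x.1.1 q.1.1 with h | h | h
            · exact absurd (he ▸ q.2.lt) (x.2.2 h)
            · exact h
            · exact absurd (he ▸ x.2.lt) (q.2.2 h)
          have hz : v q = 0 := by
            have h0 : v q + ∑ x ∈ F.erase q, v x = 0 := by rw [Finset.add_sum_erase _ _ hq, hsum]
            have hm : v q ∈ Mf q.1.1 ⊓ N q := ⟨by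
              rw [eq_neg_of_add_eq_zero_left h0]; exact Submodule.neg_mem _ hrest, hv q hq⟩
            rw [show Mf q.1.1 ⊓ N q = ⊥ from h1 _ _ q.2, Submodule.mem_bot] at hm
            exact hm
          by_cases hpq : p = q
          · rw [hpq, hz]
          · refine ih (F.erase q) (Finset.erase_ssubset hq) (fun x hx => hv x (Finset.mem_of_mem_erase hx)) ?_ p
              (Finset.mem_erase.2 ⟨hpq, hp⟩)
            rw [Finset.sum_erase _ hz, hsum]
      · exact eq_top_iff.2 (htop ▸ iSup_le hgen)
      · exact (cg_quot_iff (h1 _ _ p.2) (h2 _ _ p.2)).1 (h3 _ _ p.2)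

end Groth.Agent.S6390
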