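import Groth.Statements.S6392
import Groth.Agent.CAlgBasics.MittagLefflerApps

set_option autoImplicit false
universe u
open CAlg

namespace Groth.Agent.S6392

/-- Suppose M is the colimit of finitely presented R-modules G_i along a directed system over a nonempty
directed index set (transition maps f_ij), and M is both Mittag-Leffler and countably generated.
Then some countable directed subset I' of the indices already computes M: the canonical map from the
colimit of the G_i with i ∈ I' to M is bijective. -/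
theorem result (R : Type u) [CommRing R]
    {ι : Type u} [Preorder ι] [IsDirected ι (· ≤ ·)] [Nonempty ι] [DecidableEq ι] (G : ι → Type u)
    [∀ i, AddCommGroup (G i)] [∀ i, Module R (G i)] [∀ i, Module.FinitePresentation R (G i)]
    (f : ∀ i j, i ≤ j → G i →ₗ[R] G j) [DirectedSystem G fun i j h => f i j h]
    (hML : CAlg.IsMittagLeffler R (Module.DirectLimit G f))
    (hc : CAlg.IsCountablyGenerated R (Module.DirectLimit G f)) :
    ∃ I' : Set ι, I'.Countable ∧ DirectedOn (· ≤ ·) I' ∧
      Function.Bijective (Module.DirectLimit.lift R I' (fun i : I' => G i.1)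
        (fun (i j : I') (h : i ≤ j) => f i.1 j.1 h)
        (fun i : I' => Module.DirectLimit.of R ι G f i.1)
        (fun (i j : I') (h : i ≤ j) (x : G i.1) => Module.DirectLimit.of_f)) := by
  classical
  obtain ⟨s, hs, hspan⟩ := hc
  choose J hJ hfac using (Groth.Agent.CAlgBasics.isMittagLeffler_directLimit_iff (f := f)).mp hML
  choose lift_i lift_x hlift using fun m : Module.DirectLimit G f => Module.DirectLimit.exists_of m
  choose ub hub1 hub2 using fun i j : ι => exists_ge_ge i j
  obtain ⟨i₀⟩ := ‹Nonempty ι›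
  let step : Set ι → Set ι := fun S => S ∪ J '' S ∪ (fun p : ι × ι => ub p.1 p.2) '' (S ×ˢ S)
  let T : ℕ → Set ι := fun n => Nat.rec (motive := fun _ => Set ι) (insert i₀ (lift_i '' s)) (fun _ S => step S) n
  have hT : ∀ n, (T n).Countable := by
    intro n
    induction n with
    | zero => exact (hs.image _).insert _
    | succ n ih => exact (ih.union (ih.image _)).union ((ih.prod ih).image _)
  have hmono : Monotone T := monotone_nat_of_le_succ fun n x hx => Or.inl (Or.inl hx)
  let I' : Set ι := ⋃ n, T n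
  have hJI : ∀ i ∈ I', J i ∈ I' := fun i hi => by
    obtain ⟨n, hn⟩ := Set.mem_iUnion.mp hi
    exact Set.mem_iUnion.mpr ⟨n + 1, Or.inl (Or.inr ⟨i, hn, rfl⟩)⟩
  have hdir : DirectedOn (· ≤ ·) I' := fun i hi j hj => by
    obtain ⟨n, hn⟩ := Set.mem_iUnion.mp hi
    obtain ⟨n', hn'⟩ := Set.mem_iUnion.mp hj
    exact ⟨ub i j, Set.mem_iUnion.mpr ⟨max n n' + 1,
      Or.inr ⟨(i, j), ⟨hmono (le_max_left n n') hn, hmono (le_max_right n n') hn'⟩, rfl⟩⟩, hub1 i j, hub2 i j⟩
  haveI : IsDirectedOrder I' := ⟨fun a b => by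
    obtain ⟨c, hc, h1, h2⟩ := hdir a.1 a.2 b.1 b.2
    exact ⟨⟨c, hc⟩, h1, h2⟩⟩
  haveI : Nonempty I' := ⟨⟨i₀, Set.mem_iUnion.mpr ⟨0, Or.inl rfl⟩⟩⟩
  haveI : DirectedSystem (fun i : I' => G i.1) fun (i j : I') (h : i ≤ j) => f i.1 j.1 h :=
    { map_self := fun i x => DirectedSystem.map_self' (f := f) x
      map_map := fun _ _ _ hij hjk x => DirectedSystem.map_map (f := fun i j h => f i j h) hij hjk x }
  refine ⟨I', Set.countable_iUnion hT, hdir, ?_, ?_⟩
  · refine (injective_iff_map_eq_zero _).mpr fun z hz => ?_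
    obtain ⟨i, x, rfl⟩ := Module.DirectLimit.exists_of z
    rw [Module.DirectLimit.lift_of] at hz
    obtain ⟨k, hik, hk⟩ := Module.DirectLimit.of.zero_exact (f := f) hz
    obtain ⟨h, hh⟩ := hfac i.1 k hik
    have h0 : f i.1 (J i.1) (hJ i.1) x = 0 := by
      rw [hh, LinearMap.comp_apply, hk, map_zero]
    have := Module.DirectLimit.of_f (R := R) (G := fun i : I' => G i.1)
      (f := fun (i j : I') (h : i ≤ j) => f i.1 j.1 h) (i := i) (j := ⟨J i.1, hJI _ i.2⟩) (hij := hJ i.1) (x := x)
    rw [← this]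
    change Module.DirectLimit.of R I' (fun i : I' => G i.1) _ ⟨J i.1, hJI _ i.2⟩ (f i.1 (J i.1) (hJ i.1) x) = 0
    rw [h0, map_zero]
  · rw [← LinearMap.range_eq_top, ← top_le_iff, ← hspan, Submodule.span_le]
    intro m hm
    exact ⟨Module.DirectLimit.of R I' (fun i : I' => G i.1) _
      ⟨lift_i m, Set.mem_iUnion.mpr ⟨0, Or.inr ⟨m, hm, rfl⟩⟩⟩ (lift_x m),
      by rw [Module.DirectLimit.lift_of]; exact hlift m⟩

end Groth.Agent.S6392
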