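import Groth.Statements.S6404
import Mathlib
import Groth.Agent.RepOne.Grpd

set_option autoImplicit false
open CategoryTheory
universe v u
open FibCat

namespace Groth.Agent.S6404

section
open CategoryTheory Groth.Agent.ASt
variable {C : Type u} [Category.{v} C] {𝒳 : BasedCategory.{v, max u v} C}

set_option backward.isDefEq.respectTransparency false in
set_option backward.isDefEq.respectTransparency.types false in
theorem isFibGrpd_inertia [FibCat.IsFibGrpd 𝒳.p] : FibCat.IsFibGrpd (FibCat.inertia (FibCat.toSelf 𝒳)).p := by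
  refine ⟨fun {x V} f => ?_, fun {y x} φ => ?_⟩
  · let φ := pullHom x.pt rfl f
    have hα : 𝒳.p.map x.aut.hom = 𝟙 _ := x.map_aut
    let a := facMap φ (φ ≫ x.aut.hom) (𝟙 _) (by simp [φ, hα])
    have ha : 𝒳.p.map a = eqToHom rfl := map_facMap _ _ _ _
    have := isIso_of_vert a ha
    let y : (FibCat.inertia (FibCat.toSelf 𝒳)).obj := ⟨pull x.pt rfl f, asIso a, ha⟩
    refine ⟨y, (⟨φ, facMap_comp φ (φ ≫ x.aut.hom) (𝟙 _) (by simp [φ, hα])⟩ : FibCat.InertiaObj.Hom y x), ?_⟩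
    exact isHomLift_of_map (𝒳 := FibCat.inertia (FibCat.toSelf 𝒳)) _ (pull_base x.pt rfl f) rfl (map_pullHom x.pt rfl f)
  · refine { universal_property' := fun {z} g ψ hψ => ?_ }
    have hg : g ≫ 𝒳.p.map φ.hom = 𝒳.p.map ψ.hom := IsHomLift.eq_of_isHomLift (FibCat.inertia (FibCat.toSelf 𝒳)).p (g ≫ (FibCat.inertia (FibCat.toSelf 𝒳)).p.map φ) ψ
    obtain ⟨χ, ⟨h1, h2⟩, hu⟩ := existsUnique_fac φ.hom ψ.hom g hg
    have hz : 𝒳.p.map z.aut.hom = 𝟙 _ := z.map_aut
    have hy : 𝒳.p.map y.aut.hom = 𝟙 _ := y.map_aut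
    have hc : z.aut.hom ≫ χ = χ ≫ y.aut.hom := by
      refine hom_ext φ.hom (by simp [hz, hy]) ?_
      rw [Category.assoc, h2, ψ.comm, Category.assoc, φ.comm, ← Category.assoc, h2]
    refine ⟨⟨χ, hc⟩, ⟨isHomLift_of_map (𝒳 := FibCat.inertia (FibCat.toSelf 𝒳)) _ rfl rfl
      ((show (FibCat.inertia (FibCat.toSelf 𝒳)).p.map (⟨χ, hc⟩ : z ⟶ y) = g from h1).trans (by simp)),
      FibCat.InertiaObj.hom_ext h2⟩, fun χ' ⟨hl, h3⟩ => FibCat.InertiaObj.hom_ext (hu χ'.hom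
        ⟨(IsHomLift.eq_of_isHomLift (FibCat.inertia (FibCat.toSelf 𝒳)).p g χ').symm, congrArg (fun t => t.hom) h3⟩)⟩

end

/-- The inertia of a category fibred in groupoids over `C` is fibred in groupoids over `C`. -/
theorem result {C : Type u} [Category.{v} C] {𝒳 : BasedCategory.{v, max u v} C} (h𝒳 : FibCat.IsFibGrpd 𝒳.p) :
    FibCat.IsFibGrpd (FibCat.inertia (FibCat.toSelf 𝒳)).p := by
  haveI := h𝒳
  exact isFibGrpd_inertia

end Groth.Agent.S6404
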