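import Groth.Statements.S6406
import Mathlib
import Groth.Agent.RepOne.Grpd

set_option autoImplicit false
open CategoryTheory
universe v u
open FibCat

namespace Groth.Agent.S6406

section
open CategoryTheory Groth.Agent.ASt
variable {C : Type u} [Category.{v} C]

set_option backward.isDefEq.respectTransparency false in
set_option backward.isDefEq.respectTransparency.types false in
theorem isFibSet_ofPsh (P : Cᵒᵖ ⥤ Type (max u v)) : FibCat.IsFibSet (Stk.ofPsh P).p := by
  refine ⟨Stk.isFibGrpd_ofPsh P, fun U => { subsingleton := fun a b => ⟨fun f g => ?_⟩, eq_of_hom := fun {a b} f => ?_ }⟩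
  · refine Subtype.ext ((Stk.EltObj.forget P).map_injective ?_)
    exact (Groth.Agent.RepOne.fiber_map (𝒳 := Stk.ofPsh P) f).trans (Groth.Agent.RepOne.fiber_map (𝒳 := Stk.ofPsh P) g).symm
  · obtain ⟨⟨A, s⟩, ha⟩ := a
    obtain ⟨⟨B, t⟩, hb⟩ := b
    have h1 : f.1.hom = eqToHom _ := Groth.Agent.RepOne.fiber_map (𝒳 := Stk.ofPsh P) f
    have h2 := f.1.map_sec
    obtain rfl : A = U := ha
    obtain rfl : B = A := hb
    rw [h1] at h2
    simp at h2
    subst h2
    rfl

end

/-- A category fibred in setoids over `C` admits an equivalence over `C` to a category fibred in sets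
over `C`. (The target is taken in the same universes as the slices `C/U`; its morphism sets are
essentially as small as those of `C`.) -/
theorem result {C : Type u} [Category.{v} C] {𝒳 : BasedCategory.{v, max u v} C} (h𝒳 : FibCat.IsFibSetoid 𝒳.p) :
    ∃ (𝒴 : BasedCategory.{v, max u v} C) (F : 𝒳 ⥤ᵇ 𝒴), FibCat.IsFibSet 𝒴.p ∧ FibCat.IsEquivOver F := by
  haveI := h𝒳.1
  haveI := Groth.Agent.RepOne.faithful_of_thin h𝒳.2
  exact ⟨Stk.ofPsh (Groth.Agent.ASt.Cl 𝒳), Groth.Agent.ASt.toPsh 𝒳, isFibSet_ofPsh _, Groth.Agent.ASt.isEquivOver_toPsh⟩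

end Groth.Agent.S6406
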