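import Groth.Statements.S6407
import Mathlib
import Groth.Agent.RepOne.Grpd

set_option autoImplicit false
open CategoryTheory
universe v u
open FibCat

namespace Groth.Agent.S6407

section
open CategoryTheory Groth.Agent.ASt
variable {C : Type u} [Category.{v} C] {𝒳 𝒴 : BasedCategory.{v, max u v} C}

set_option backward.isDefEq.respectTransparency false in
set_option backward.isDefEq.respectTransparency.types false in
theorem nonempty_unique_iso [FibCat.IsFibGrpd 𝒴.p] [𝒴.p.Faithful] (f g : 𝒳 ⥤ᵇ 𝒴)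
    (hfg : ∀ (U : C) (x : 𝒳.p.Fiber U), Nonempty ((FibCat.fiberFunctor f U).obj x ≅ (FibCat.fiberFunctor g U).obj x)) :
    Nonempty (Unique (f ≅ g)) := by
  let i : ∀ a : 𝒳.obj, f.obj a ≅ g.obj a := fun a =>
    Functor.Fiber.fiberInclusion.mapIso (hfg (𝒳.p.obj a) (Functor.Fiber.mk rfl)).some
  have hi : ∀ a, 𝒴.p.map (i a).hom = eqToHom ((f.w_obj a).trans (g.w_obj a).symm) :=
    fun a => Groth.Agent.RepOne.fiber_map (hfg (𝒳.p.obj a) (Functor.Fiber.mk rfl)).some.hom
  have key : ∀ α β : f ⟶ g, α = β := fun α β => BasedNatTrans.ext _ _ (NatTrans.ext (funext fun a =>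
    𝒴.p.map_injective ((map_app f g α a).trans (map_app f g β a).symm)))
  refine ⟨{ default := BasedNatIso.mkNatIso (NatIso.ofComponents i (fun {a b} m => 𝒴.p.map_injective (by
      simp [map_w, hi]))) (fun a => isHomLift_id_of_map _ (f.w_obj a) (hi a)), uniq := fun e => Iso.ext (key _ _) }⟩

end

/-- For categories `𝒳, 𝒴` fibred in setoids over `C` and functors `f, g : 𝒳 ⟶ 𝒴` over `C` that agree on
isomorphism classes of objects of each fibre category, there is a unique 2-isomorphism `f ≅ g` over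
`C`. -/
theorem result {C : Type u} [Category.{v} C] {𝒳 𝒴 : BasedCategory.{v, max u v} C} (h𝒳 : FibCat.IsFibSetoid 𝒳.p) (h𝒴 : FibCat.IsFibSetoid 𝒴.p) (f g : 𝒳 ⥤ᵇ 𝒴)
    (hfg : ∀ (U : C) (x : 𝒳.p.Fiber U), Nonempty ((FibCat.fiberFunctor f U).obj x ≅ (FibCat.fiberFunctor g U).obj x)) :
    Nonempty (Unique (f ≅ g)) := by
  haveI := h𝒴.1
  haveI := Groth.Agent.RepOne.faithful_of_thin h𝒴.2
  exact nonempty_unique_iso f g hfg

end Groth.Agent.S6407
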