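import Groth.Statements.S6408
import Mathlib
import Groth.Agent.RepOne.Grpd

set_option autoImplicit false
open CategoryTheory
universe v u
open FibCat

namespace Groth.Agent.S6408

section
open CategoryTheory Groth.Agent.ASt
variable {C : Type u} [Category.{v} C] {𝒳 𝒴 : BasedCategory.{v, max u v} C}

set_option backward.isDefEq.respectTransparency false in
set_option backward.isDefEq.respectTransparency.types false in
theorem eq_of_twoMor [FibCat.IsFibGrpd 𝒴.p] (hd : ∀ U : C, IsDiscrete (𝒴.p.Fiber U))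
    {F G : 𝒳 ⥤ᵇ 𝒴} (α : F ⟶ G) : ∃ h : F = G, α = eqToHom h := by
  haveI : 𝒴.p.Faithful := Groth.Agent.RepOne.faithful_of_thin fun U a b => (hd U).subsingleton a b
  have hobj : ∀ a, F.obj a = G.obj a := fun a => by
    have := hd (𝒳.p.obj a)
    exact congrArg Subtype.val ((hd (𝒳.p.obj a)).eq_of_hom
      (Groth.Agent.RepOne.vertHom (F.w_obj a) (G.w_obj a) (α.toNatTrans.app a) (map_app F G α a)))
  have h : F = G := basedFunctor_ext (CategoryTheory.Functor.ext hobj fun a b m => 𝒴.p.map_injective (by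
    simp [map_w, eqToHom_map]))
  subst h
  exact ⟨rfl, BasedNatTrans.ext _ _ (NatTrans.ext (funext fun a => 𝒴.p.map_injective ((map_app F F α a).trans
    (map_app F F (𝟙 F) a).symm)))⟩

end

/-- Between categories fibred in sets over `C` the only 2-morphisms over `C` are identities. -/
theorem result {C : Type u} [Category.{v} C] {𝒳 𝒴 : BasedCategory.{v, max u v} C} (h𝒳 : FibCat.IsFibSet 𝒳.p) (h𝒴 : FibCat.IsFibSet 𝒴.p) {F G : 𝒳 ⥤ᵇ 𝒴} (α : F ⟶ G) :
    ∃ h : F = G, α = eqToHom h := by
  haveI := h𝒴.1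
  exact eq_of_twoMor h𝒴.2 α

end Groth.Agent.S6408
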