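import Groth.Statements.S6413
import Mathlib
import Groth.Agent.RepOne.Grpd

set_option autoImplicit false
open CategoryTheory
universe v u
open FibCat

namespace Groth.Agent.S6413

section
open CategoryTheory Groth.Agent.ASt
variable {C : Type u} [Category.{v} C] {𝒳 𝒴 : BasedCategory.{v, max u v} C}

set_option backward.isDefEq.respectTransparency false in
set_option backward.isDefEq.respectTransparency.types false in
theorem isFibGrpd_snd [FibCat.IsFibGrpd 𝒳.p] [FibCat.IsFibGrpd 𝒴.p] (F : 𝒳 ⥤ᵇ 𝒴) :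
    FibCat.IsFibGrpd (FibCat.fpSnd F (BasedFunctor.id 𝒴)).toFunctor := by
  refine ⟨fun {x V} f => ?_, fun {y x} φ => { universal_property' := fun {z} g ψ hψ => ?_ }⟩
  · have hb := fp_snd_base x
    have hi := fp_iso_map x
    let k : 𝒴.p.obj V ⟶ 𝒳.p.obj x.obj.fst := 𝒴.p.map f ≫ eqToHom hb
    let a := pull x.obj.fst rfl k
    let i := facMap f (F.map (pullHom x.obj.fst rfl k) ≫ x.obj.iso.hom)
      (eqToHom ((F.w_obj a).trans (pull_base _ _ _))) (by
        simp [map_w, hi, k, a]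
        try rfl)
    have him : 𝒴.p.map i = eqToHom _ := map_facMap _ _ _ _
    have hic : i ≫ f = F.map (pullHom x.obj.fst rfl k) ≫ x.obj.iso.hom := facMap_comp _ _ _ _
    have := isIso_of_vert i him
    let m : (FibCat.fp F (BasedFunctor.id 𝒴)).obj := fpMk a V (pull_base _ _ _).symm (asIso i) him
    refine ⟨m, fpHomMk (m := m) (n := x) (pullHom x.obj.fst rfl k) f hic.symm, ?_⟩
    exact IsHomLift.of_fac' _ _ _ rfl rfl (by simp [fpHomMk, FibCat.fpSnd]; try rfl)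
  · have e : g ≫ φ.hom.snd = ψ.hom.snd :=
      IsHomLift.eq_of_isHomLift (FibCat.fpSnd F (BasedFunctor.id 𝒴)).toFunctor
        (g ≫ (FibCat.fpSnd F (BasedFunctor.id 𝒴)).map φ) ψ
    let k : 𝒳.p.obj z.obj.fst ⟶ 𝒳.p.obj y.obj.fst :=
      eqToHom (fp_snd_base z).symm ≫ 𝒴.p.map g ≫ eqToHom (fp_snd_base y)
    have ek : k ≫ 𝒳.p.map φ.hom.fst = 𝒳.p.map ψ.hom.fst := by
      have h := congrArg (fun t => 𝒴.p.map t) e
      simp only [Functor.map_comp, fp_map_snd] at h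
      rw [← cancel_epi (eqToHom (fp_snd_base z)), ← cancel_mono (eqToHom (fp_snd_base x).symm)]
      simpa [k] using h
    obtain ⟨a, ⟨ha1, ha2⟩, hu⟩ := existsUnique_fac φ.hom.fst ψ.hom.fst k ek
    have w : F.map a ≫ y.obj.iso.hom = z.obj.iso.hom ≫ g := by
      refine hom_ext φ.hom.snd (by simp [map_w, ha1, k, fp_iso_map]) ?_
      rw [Category.assoc, Category.assoc, e]
      have w1 : F.map φ.hom.fst ≫ x.obj.iso.hom = y.obj.iso.hom ≫ φ.hom.snd := φ.hom.w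
      rw [← w1, ← Category.assoc, ← F.map_comp, ha2]
      exact ψ.hom.w
    refine ⟨fpHomMk a g w, ⟨IsHomLift.of_fac' _ _ _ rfl rfl (by simp [fpHomMk, FibCat.fpSnd]; try rfl),
      fp_hom_ext ha2 e⟩, fun χ ⟨hl, h2⟩ => ?_⟩
    have hg : g = χ.hom.snd := IsHomLift.eq_of_isHomLift (FibCat.fpSnd F (BasedFunctor.id 𝒴)).toFunctor g χ
    refine fp_hom_ext (hu _ ⟨?_, congrArg (fun t => t.hom.fst) h2⟩) hg.symm
    simp [k, hg, fp_map_snd]

end

/-- For `𝒳, 𝒴` fibred in groupoids over `C` and `F : 𝒳 ⟶ 𝒴` over `C`, the projection `𝒳 ×_{F, 𝒴, id} 𝒴 ⟶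
𝒴` is a category fibred in groupoids over `𝒴`. -/
theorem result {C : Type u} [Category.{v} C] {𝒳 𝒴 : BasedCategory.{v, max u v} C} (h𝒳 : FibCat.IsFibGrpd 𝒳.p) (h𝒴 : FibCat.IsFibGrpd 𝒴.p) (F : 𝒳 ⥤ᵇ 𝒴) :
    FibCat.IsFibGrpd (FibCat.fpSnd F (BasedFunctor.id 𝒴)).toFunctor := by
  haveI := h𝒳; haveI := h𝒴
  exact isFibGrpd_snd F

end Groth.Agent.S6413
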