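import Groth.Statements.S6414
import Mathlib

set_option autoImplicit false
open CategoryTheory
universe v₁ u₁ v₂ u₂ v₃ u₃
open FibCat

namespace Groth.Agent.S6414

/-- A morphism that is strongly cartesian with respect to `F : 𝒜 ⥤ ℬ` and whose image is strongly
cartesian with respect to `G : ℬ ⥤ 𝒞` is strongly cartesian with respect to `F ⋙ G`. -/
theorem result {𝒜 : Type u₁} [Category.{v₁} 𝒜] {ℬ : Type u₂} [Category.{v₂} ℬ] {𝒞 : Type u₃} [Category.{v₃} 𝒞] (F : 𝒜 ⥤ ℬ) (G : ℬ ⥤ 𝒞) {x y : 𝒜} (φ : x ⟶ y)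
    [F.IsStronglyCartesian (F.map φ) φ] [G.IsStronglyCartesian (G.map (F.map φ)) (F.map φ)] :
    (F ⋙ G).IsStronglyCartesian ((F ⋙ G).map φ) φ := by
  have hl : (F ⋙ G).IsHomLift ((F ⋙ G).map φ) φ := IsHomLift.map _ _
  constructor
  intro a g φ' hφ'
  have e : G.map (F.map φ') = g ≫ G.map (F.map φ) := by
    have := IsHomLift.fac' (F ⋙ G) (g ≫ (F ⋙ G).map φ) φ'
    simpa using this
  have : G.IsHomLift (g ≫ G.map (F.map φ)) (F.map φ') := by rw [← e]; exact IsHomLift.map _ _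
  let k := Functor.IsStronglyCartesian.map G (G.map (F.map φ)) (F.map φ) (rfl : g ≫ G.map (F.map φ) = _) (F.map φ')
  have hk : k ≫ F.map φ = F.map φ' := Functor.IsStronglyCartesian.fac _ _ _ _ _
  have : F.IsHomLift (k ≫ F.map φ) φ' := by rw [hk]; exact IsHomLift.map _ _
  let χ := Functor.IsStronglyCartesian.map F (F.map φ) φ (rfl : k ≫ F.map φ = _) φ'
  refine ⟨χ, ⟨?_, Functor.IsStronglyCartesian.fac _ _ _ _ _⟩, ?_⟩
  · have h1 := IsHomLift.fac' F k χ
    have h2 := IsHomLift.fac' G g k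
    have : (F ⋙ G).map χ = g := by
      simp only [Functor.comp_map]
      simp at h1 h2
      rw [h1, h2]
    rw [← this]; exact IsHomLift.map _ _
  · rintro m ⟨hm, hm2⟩
    have h1 := IsHomLift.fac' (F ⋙ G) g m
    simp at h1
    have : G.IsHomLift g (F.map m) := by rw [← h1]; exact IsHomLift.map _ _
    have hk' : F.map m = k := Functor.IsStronglyCartesian.map_uniq G _ _ _ _ _ (by rw [← F.map_comp, hm2])
    have : F.IsHomLift k m := by rw [← hk']; exact IsHomLift.map _ _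
    exact Functor.IsStronglyCartesian.map_uniq F _ _ _ _ _ hm2

end Groth.Agent.S6414
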