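import Groth.Statements.S6417
import Mathlib

set_option autoImplicit false
open CategoryTheory CategoryTheory.Limits
universe v₁ u₁ v₂ u₂
open FibCat

namespace Groth.Agent.S6417

/-- For `p : 𝒮 ⥤ C`, a strongly cartesian `φ : x ⟶ y`, any `ψ : z ⟶ y`, and a strongly cartesian `a : w
⟶ z` lying over the second projection of `p x ×_{p y} p z`, the object `w` is a fibre product `x ×_y
z`: there is `b : w ⟶ x` over the first projection with `(b, a)` a pullback square. -/
theorem result {𝒮 : Type u₁} [Category.{v₁} 𝒮] {C : Type u₂} [Category.{v₂} C] (p : 𝒮 ⥤ C) {x y z w : 𝒮} (φ : x ⟶ y) (ψ : z ⟶ y)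
    [p.IsStronglyCartesian (p.map φ) φ] [HasPullback (p.map φ) (p.map ψ)] (a : w ⟶ z)
    [p.IsStronglyCartesian (pullback.snd (p.map φ) (p.map ψ)) a] :
    ∃ b : w ⟶ x, p.IsHomLift (pullback.fst (p.map φ) (p.map ψ)) b ∧ IsPullback b a φ ψ := by
  have hπ : p.IsHomLift (pullback.fst (p.map φ) (p.map ψ) ≫ p.map φ) (a ≫ ψ) := by
    rw [pullback.condition]
    infer_instance
  let b := Functor.IsStronglyCartesian.map p (p.map φ) φ (rfl : _ = pullback.fst (p.map φ) (p.map ψ) ≫ p.map φ) (a ≫ ψ)
  have hb : b ≫ φ = a ≫ ψ := Functor.IsStronglyCartesian.fac p (p.map φ) φ rfl (a ≫ ψ)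
  refine ⟨b, inferInstance, ⟨⟨hb⟩, ⟨PullbackCone.IsLimit.mk hb (fun s => ?_) (fun s => ?_) (fun s => ?_) (fun s m h1 h2 => ?_)⟩⟩⟩
  · refine Functor.IsStronglyCartesian.map p (pullback.snd (p.map φ) (p.map ψ)) a
      (g := pullback.lift (p.map s.fst) (p.map s.snd) (by rw [← p.map_comp, ← p.map_comp, s.condition]))
      (f' := p.map s.snd) (pullback.lift_snd _ _ _).symm s.snd
  · let g := pullback.lift (p.map s.fst) (p.map s.snd) (by rw [← p.map_comp, ← p.map_comp, s.condition])
    have hlb : p.IsHomLift (pullback.fst (p.map φ) (p.map ψ)) b := inferInstance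
    let r := Functor.IsStronglyCartesian.map p (pullback.snd (p.map φ) (p.map ψ)) a (g := g)
      (f' := p.map s.snd) (pullback.lift_snd _ _ _).symm s.snd
    have hr : p.IsHomLift g r :=
      Functor.IsStronglyCartesian.map_isHomLift p (pullback.snd (p.map φ) (p.map ψ)) a (pullback.lift_snd _ _ _).symm s.snd
    have hc : p.IsHomLift (g ≫ pullback.fst (p.map φ) (p.map ψ)) (r ≫ b) := inferInstance
    have e : g ≫ pullback.fst (p.map φ) (p.map ψ) = p.map s.fst := pullback.lift_fst _ _ _
    rw [e] at hc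
    refine Functor.IsStronglyCartesian.ext p (p.map φ) φ (p.map s.fst) ?_
    rw [Category.assoc, hb, Functor.IsStronglyCartesian.fac_assoc, s.condition]
  · exact Functor.IsStronglyCartesian.fac ..
  · have hlb : p.IsHomLift (pullback.fst (p.map φ) (p.map ψ)) b := inferInstance
    have hm : p.IsHomLift (pullback.lift (p.map s.fst) (p.map s.snd) (by rw [← p.map_comp, ← p.map_comp, s.condition])) m := by
      have e1 := IsHomLift.fac p (pullback.fst (p.map φ) (p.map ψ)) b
      have e2 := IsHomLift.fac p (pullback.snd (p.map φ) (p.map ψ)) a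
      refine IsHomLift.of_fac' p _ m rfl (IsHomLift.domain_eq p (pullback.snd (p.map φ) (p.map ψ)) a) ?_
      rw [← cancel_mono (eqToHom (IsHomLift.domain_eq p (pullback.snd (p.map φ) (p.map ψ)) a))]
      simp only [eqToHom_refl, Category.id_comp, Category.assoc, eqToHom_trans, Category.comp_id]
      refine (pullback.hom_ext ?_ ?_)
      · rw [pullback.lift_fst, ← h1, p.map_comp, e1]; simp [IsHomLift.fac' p (pullback.fst (p.map φ) (p.map ψ)) b]
      · rw [pullback.lift_snd, ← h2, p.map_comp]; simp [IsHomLift.fac' p (pullback.snd (p.map φ) (p.map ψ)) a]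
    exact Functor.IsStronglyCartesian.map_uniq p _ a _ s.snd m h2

end Groth.Agent.S6417
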