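import Groth.Statements.S6418
import Mathlib

set_option autoImplicit false
open CategoryTheory
universe v₁ u₁ v₂ u₂
open FibCat

namespace Groth.Agent.S6418

/-- If `p' : 𝒮 ⥤ C/U` composed with the forgetful functor `C/U ⥤ C` is a fibred category, then so is
`p'`. -/
theorem result {𝒮 : Type u₁} [Category.{v₁} 𝒮] {C : Type u₂} [Category.{v₂} C] {U : C} (p' : 𝒮 ⥤ Over U) [(p' ⋙ Over.forget U).IsFibered] : p'.IsFibered := by
  have key : ∀ {a b : 𝒮} (R : Over U) (f : R ⟶ p'.obj a) (φ : b ⟶ a),
      (p' ⋙ Over.forget U).IsHomLift f.left φ → p'.IsHomLift f φ := by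
    intro a b R f φ h
    have h1 : (p'.obj b).left = R.left := IsHomLift.domain_eq (p' ⋙ Over.forget U) f.left φ
    have h2 := IsHomLift.fac' (p' ⋙ Over.forget U) f.left φ
    obtain ⟨l, ⟨⟨⟩⟩, hom⟩ := R
    change (p'.obj b).left = l at h1
    subst h1
    simp at h2
    have h3 : hom = (p'.obj b).hom := by
      rw [← Over.w (p'.map φ), h2]; exact (Over.w f).symm
    subst h3
    have : f = p'.map φ := Over.OverMorphism.ext h2.symm
    subst this
    exact IsHomLift.map _ _
  apply Functor.IsFibered.of_exists_isStronglyCartesian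
  intro a R f
  obtain ⟨b, φ, hc⟩ := Functor.IsPreFibered.exists_isCartesian' (p := p' ⋙ Over.forget U) (a := a) f.left
  have hs : (p' ⋙ Over.forget U).IsStronglyCartesian f.left φ := @Functor.IsFibered.isStronglyCartesian_of_isCartesian _ _ _ _ _ _ _ _ _ _ _ _ hc
  have hl : p'.IsHomLift f φ := key R f φ hs.toIsHomLift
  refine ⟨_, φ, ?_⟩
  constructor
  intro a' g φ' hφ'
  have e := IsHomLift.fac' p' (g ≫ f) φ'
  have : (p' ⋙ Over.forget U).IsHomLift (g.left ≫ f.left) φ' := by
    have h : (p' ⋙ Over.forget U).map φ' = g.left ≫ f.left := by simp at e; simp [e]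
    rw [← h]; exact IsHomLift.map _ _
  refine ⟨Functor.IsStronglyCartesian.map (p' ⋙ Over.forget U) f.left φ (rfl : g.left ≫ f.left = _) φ', ⟨?_, Functor.IsStronglyCartesian.fac _ _ _ _ _⟩, ?_⟩
  · apply IsHomLift.of_fac' p' _ _ rfl (IsHomLift.domain_eq p' f φ)
    apply Over.OverMorphism.ext
    have := IsHomLift.fac' (p' ⋙ Over.forget U) g.left (Functor.IsStronglyCartesian.map (p' ⋙ Over.forget U) f.left φ (rfl : g.left ≫ f.left = _) φ')
    simpa [Over.eqToHom_left] using this
  · rintro m ⟨hm, hm2⟩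
    have e' := IsHomLift.fac' p' g m
    have : (p' ⋙ Over.forget U).IsHomLift g.left m := by
      apply IsHomLift.of_fac' (p' ⋙ Over.forget U) _ _ rfl (IsHomLift.domain_eq (p' ⋙ Over.forget U) f.left φ)
      rw [Functor.comp_map, Over.forget_map, e']; simp [Over.eqToHom_left]
    exact Functor.IsStronglyCartesian.map_uniq _ _ _ _ _ _ hm2

end Groth.Agent.S6418
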