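import Groth.Statements.S6421
import Mathlib

set_option autoImplicit false
open CategoryTheory CategoryTheory.Limits
universe v u
open FibCat

namespace Groth.Agent.S6421

section
open CategoryTheory CategoryTheory.Limits
variable {X : Type*} {Y : Type*} {Z : Type*} {A : Type*} {B : Type*} {C' : Type*}
  [Category X] [Category Y] [Category Z] [Category A] [Category B] [Category C']
  {H : X ⥤ Z} {I : Y ⥤ Z} {F : A ⥤ C'} {G : B ⥤ C'}

theorem map_iso (ψ : CatCospanTransform H I F G) (a : CategoricalPullback H I) :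
    ((FibCat.categoricalPullbackMap ψ).obj a).iso.hom = ψ.squareLeft.iso.inv.app a.fst ≫
      ψ.base.map a.iso.hom ≫ ψ.squareRight.iso.hom.app a.snd := by
  simp [FibCat.categoricalPullbackMap]
  try rfl

theorem map_full (ψ : CatCospanTransform H I F G) [ψ.left.Full] [ψ.right.Full] [ψ.base.Faithful] :
    (FibCat.categoricalPullbackMap ψ).Full := by
  refine ⟨fun {a b} h => ?_⟩
  let f₁ : a.fst ⟶ b.fst := ψ.left.preimage h.fst
  have h1 : ψ.left.map f₁ = h.fst := ψ.left.map_preimage _
  let f₂ : a.snd ⟶ b.snd := ψ.right.preimage h.snd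
  have h2 : ψ.right.map f₂ = h.snd := ψ.right.map_preimage _
  refine ⟨{ fst := f₁, snd := f₂, w := ψ.base.map_injective ?_ }, CategoricalPullback.hom_ext h1 h2⟩
  let L := ψ.squareLeft.iso
  let R := ψ.squareRight.iso
  have hw : F.map (ψ.left.map f₁) ≫ L.inv.app b.fst ≫ ψ.base.map b.iso.hom ≫ R.hom.app b.snd =
      (L.inv.app a.fst ≫ ψ.base.map a.iso.hom ≫ R.hom.app a.snd) ≫ G.map (ψ.right.map f₂) := by
    have := h.w
    rw [← h1, ← h2, map_iso, map_iso] at this
    exact this
  have n1 : ψ.base.map (H.map f₁) ≫ L.hom.app b.fst = L.hom.app a.fst ≫ F.map (ψ.left.map f₁) :=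
    L.hom.naturality f₁
  have n2 : ψ.base.map (I.map f₂) ≫ R.hom.app b.snd = R.hom.app a.snd ≫ G.map (ψ.right.map f₂) :=
    R.hom.naturality f₂
  rw [Functor.map_comp, Functor.map_comp, ← cancel_mono (R.hom.app b.snd), Category.assoc, Category.assoc, n2,
    ← cancel_epi (L.inv.app a.fst)]
  simp only [Category.assoc] at hw
  rw [← hw]
  have n3 : L.inv.app a.fst ≫ ψ.base.map (H.map f₁) = F.map (ψ.left.map f₁) ≫ L.inv.app b.fst :=
    (L.inv.naturality f₁).symm
  simpa only [Category.assoc] using congrArg (fun t => t ≫ ψ.base.map b.iso.hom ≫ R.hom.app b.snd) n3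

end

/-- For a 2-commutative morphism of cospans of categories whose outer functors `X ⥤ A`, `Y ⥤ B` are
fully faithful and whose middle functor `Z ⥤ C` is faithful, the induced functor `X ×_Z Y ⥤ A ×_C B`
is fully faithful. -/
theorem result {X Y Z A B C : Type u} [Category.{v} X] [Category.{v} Y] [Category.{v} Z] [Category.{v} A] [Category.{v} B] [Category.{v} C] {H : X ⥤ Z} {I : Y ⥤ Z} {F : A ⥤ C} {G : B ⥤ C} (ψ : CatCospanTransform H I F G) [ψ.left.Full] [ψ.left.Faithful] [ψ.right.Full] [ψ.right.Faithful] [ψ.base.Faithful] :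
    (FibCat.categoricalPullbackMap ψ).Full ∧ (FibCat.categoricalPullbackMap ψ).Faithful := by
  exact ⟨map_full ψ, ⟨fun {a b f g} h => CategoricalPullback.hom_ext
    (ψ.left.map_injective (congrArg (fun t => t.fst) h)) (ψ.right.map_injective (congrArg (fun t => t.snd) h))⟩⟩

end Groth.Agent.S6421
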