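import Groth.Statements.S6423
import Mathlib

open CategoryTheory CategoryTheory.Limits

set_option autoImplicit false
open CategoryTheory CategoryTheory.Limits
universe v u
open CatLim

namespace Groth.Agent.S6423

/-- (2) ⇒ (1): a category with equalizers and fibre products has all finite connected limits. -/
theorem result {C : Type u} [Category.{v} C] [HasEqualizers C] [HasPullbacks C]
    (J : Type) [SmallCategory J] [FinCategory J] [IsConnected J] : HasLimitsOfShape J C := by
  classical
  haveI : Fintype J := FinCategory.fintypeObj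
  constructor
  intro F
  let A := Σ p : J × J, p.1 ⟶ p.2
  -- stage: objects in S are placed, arrows in E are respected
  let Stage : Finset J → Finset A → Prop := fun S E => ∃ (P : C) (π : ∀ j ∈ S, P ⟶ F.obj j),
    (∀ a ∈ E, ∃ (h₁ : a.1.1 ∈ S) (h₂ : a.1.2 ∈ S), π _ h₁ ≫ F.map a.2 = π _ h₂) ∧
    ∀ s : Cone F, ∃! l : s.pt ⟶ P, ∀ j h, l ≫ π j h = s.π.app j
  obtain ⟨j₀⟩ : Nonempty J := inferInstance
  have h0 : Stage {j₀} ∅ := by
    refine ⟨F.obj j₀, fun j h => eqToHom (by rw [Finset.mem_singleton.mp h]), by simp, fun s => ⟨s.π.app j₀, fun j h => ?_, fun l hl => ?_⟩⟩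
    · obtain rfl := Finset.mem_singleton.mp h; simp
    · simpa using hl j₀ (Finset.mem_singleton_self _)
  have hgrow : ∀ S, j₀ ∈ S → S ≠ Finset.univ → Stage S ∅ → ∃ k ∉ S, Stage (insert k S) ∅ := by
    intro S hj0 hne hS
    obtain ⟨a, b, u, hab⟩ : ∃ (a b : J) (_ : a ⟶ b), ¬ (a ∈ S ↔ b ∈ S) := by
      by_contra hc
      push Not at hc
      exact hne (Finset.eq_univ_iff_forall.mpr fun j =>
        induct_on_objects {j | j ∈ S} hj0 (fun {x y} f => hc x y f) j)
    obtain ⟨P, π, -, hl⟩ := hS
    by_cases ha : a ∈ S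
    · have hb : b ∉ S := fun hb => hab ⟨fun _ => hb, fun _ => ha⟩
      refine ⟨b, hb, P, fun j h => if hj : j ∈ S then π j hj else π a ha ≫ F.map u ≫ eqToHom (by rw [(Finset.mem_insert.mp h).resolve_right hj]), by simp, fun s => ?_⟩
      obtain ⟨l, hl1, hl2⟩ := hl s
      refine ⟨l, fun j h => ?_, fun m hm => hl2 m fun j hj => by simpa [hj] using hm j (Finset.mem_insert_of_mem hj)⟩
      dsimp only
      split
      · exact hl1 j _
      · obtain rfl := (Finset.mem_insert.mp h).resolve_right (by assumption)
        simp [reassoc_of% (hl1 a ha)]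
    · have hb : b ∈ S := by by_contra hb; exact hab ⟨fun h => absurd h ha, fun h => absurd h hb⟩
      refine ⟨a, ha, pullback (π b hb) (F.map u), fun j h => if hj : j ∈ S then pullback.fst _ _ ≫ π j hj else pullback.snd _ _ ≫ eqToHom (by rw [(Finset.mem_insert.mp h).resolve_right hj]), by simp, fun s => ?_⟩
      obtain ⟨l, hl1, hl2⟩ := hl s
      refine ⟨pullback.lift l (s.π.app a) (by rw [hl1, s.w]), fun j h => ?_, fun m hm => ?_⟩
      · dsimp only
        split
        · exact (pullback.lift_fst_assoc _ _ _ _).trans (hl1 j _)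
        · obtain rfl := (Finset.mem_insert.mp h).resolve_right (by assumption)
          exact (congrArg (_ ≫ ·) (Category.comp_id _)).trans (pullback.lift_snd _ _ _)
      · apply pullback.hom_ext
        · rw [pullback.lift_fst]
          exact hl2 _ fun j hj => by simpa [hj] using hm j (Finset.mem_insert_of_mem hj)
        · rw [pullback.lift_snd]
          simpa [ha] using hm a (Finset.mem_insert_self _ _)
  have huniv : Stage Finset.univ ∅ := by
    suffices ∀ n S, j₀ ∈ S → (Finset.univ \ S).card ≤ n → Stage S ∅ → Stage Finset.univ ∅ from this _ _ (Finset.mem_singleton_self j₀) le_rfl h0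
    intro n
    induction n with
    | zero =>
      intro S _ hc hS
      have : S = Finset.univ := Finset.eq_univ_iff_forall.mpr fun j => by
        by_contra hj
        exact Finset.notMem_empty j (Finset.card_eq_zero.mp (Nat.le_zero.mp hc) ▸ Finset.mem_sdiff.mpr ⟨Finset.mem_univ j, hj⟩)
      exact this ▸ hS
    | succ n ih =>
      intro S hj0 hc hS
      by_cases h : S = Finset.univ
      · exact h ▸ hS
      obtain ⟨k, hk, hS'⟩ := hgrow S hj0 h hS
      refine ih _ (Finset.mem_insert_of_mem hj0) ?_ hS'
      have : (Finset.univ \ insert k S).card < (Finset.univ \ S).card := by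
        rw [Finset.sdiff_insert]
        exact Finset.card_erase_lt_of_mem (Finset.mem_sdiff.mpr ⟨Finset.mem_univ k, hk⟩)
      omega
  have hE : ∀ E : Finset A, Stage Finset.univ E := by
    intro E
    induction E using Finset.induction_on with
    | empty => exact huniv
    | @insert a E _ ih =>
      obtain ⟨P, π, hπ, hl⟩ := ih
      let p := π a.1.1 (Finset.mem_univ _) ≫ F.map a.2
      let q := π a.1.2 (Finset.mem_univ _)
      refine ⟨equalizer p q, fun j h => equalizer.ι p q ≫ π j h, fun x hx => ⟨Finset.mem_univ _, Finset.mem_univ _, ?_⟩, fun s => ?_⟩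
      · rcases Finset.mem_insert.mp hx with rfl | hx
        · simpa [p, q] using equalizer.condition p q
        · obtain ⟨_, _, hxe⟩ := hπ x hx
          rw [Category.assoc, hxe]
      · obtain ⟨l, hl1, hl2⟩ := hl s
        refine ⟨equalizer.lift l (by simp [p, q, reassoc_of% hl1, hl1]), fun j h => by simp [hl1], fun m hm => ?_⟩
        apply equalizer.hom_ext
        rw [equalizer.lift_ι]
        exact hl2 _ fun j hj => by simpa using hm j hj
  obtain ⟨P, π, hπ, hl⟩ := hE Finset.univ
  have hnat : ∀ (j k : J) (u : j ⟶ k), 𝟙 P ≫ π k (Finset.mem_univ k) = π j (Finset.mem_univ j) ≫ F.map u := fun j k u => by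
    obtain ⟨_, _, h⟩ := hπ ⟨(j, k), u⟩ (Finset.mem_univ _)
    simpa using h.symm
  let c : Cone F := ⟨P, { app := fun j => π j (Finset.mem_univ j), naturality := hnat }⟩
  choose l hl1 hl2 using hl
  exact ⟨⟨⟨c, { lift := l, fac := fun s j => hl1 s j _, uniq := fun s m hm => hl2 s m fun j _ => hm j }⟩⟩⟩

end Groth.Agent.S6423
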