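import Groth.Statements.S6424
import Mathlib

open CategoryTheory CategoryTheory.Limits

set_option autoImplicit false
open CategoryTheory CategoryTheory.Limits
universe v u
open CatLim

namespace Groth.Agent.S6424

/-- (2) ⇒ (1): a category with products of pairs and equalizers has all finite nonempty limits. -/
theorem result {C : Type u} [Category.{v} C] [HasBinaryProducts C] [HasEqualizers C]
    (J : Type) [SmallCategory J] [FinCategory J] [Nonempty J] : HasLimitsOfShape J C := by
  have hfin : ∀ (n : ℕ) (f : Fin (n + 1) → C), HasLimit (Discrete.functor f) := by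
    intro n
    induction n with
    | zero =>
      intro f
      have : Subsingleton (Fin (0 + 1)) := inferInstanceAs (Subsingleton (Fin 1))
      exact ⟨⟨⟨Fan.mk (f 0) fun i => eqToHom (congrArg f (Subsingleton.elim 0 i)),
        Fan.IsLimit.mk _ (fun s => s.proj 0)
          (fun s i => by obtain rfl := Subsingleton.elim i 0; simp)
          (fun s m hm => by simpa using hm 0)⟩⟩⟩
    | succ n ih =>
      intro f
      have := ih fun i => f i.succ
      exact ⟨⟨⟨_, extendFanIsLimit f (limit.isLimit _) (limit.isLimit (pair (f 0) _))⟩⟩⟩
  have hall : ∀ (β : Type) [Finite β] [Nonempty β] (f : β → C), HasLimit (Discrete.functor f) := by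
    intro β _ _ f
    obtain ⟨n, ⟨e⟩⟩ := Finite.exists_equiv_fin β
    cases n with
    | zero => exact (IsEmpty.false (e (Classical.arbitrary β))).elim
    | succ n =>
      have := hfin n (f ∘ e.symm)
      exact hasLimit_of_iso (F := (Discrete.equivalence e).functor ⋙ Discrete.functor (f ∘ e.symm)) (Discrete.natIso fun i => eqToIso (by simp))
  constructor
  intro F
  have := hall J F.obj
  have : Nonempty (Σ p : J × J, p.1 ⟶ p.2) := ⟨⟨(Classical.arbitrary J, Classical.arbitrary J), 𝟙 _⟩⟩
  have : Fintype J := FinCategory.fintypeObj
  have := hall (Σ p : J × J, p.1 ⟶ p.2) (fun f => F.obj f.1.2)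
  exact hasLimit_of_equalizer_and_product F

end Groth.Agent.S6424
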