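import Groth.Statements.S6425
import Mathlib
-- import your own Groth.Agent.* helpers here

set_option autoImplicit false
open CategoryTheory CategoryTheory.Limits
universe v
open CatLim

namespace Groth.Agent.S6425

/-- Over an index category in which any two objects map to a common object, the comparison map `colim (M
× N) → colim M × colim N` for diagrams of sets is surjective. -/
theorem result {I : Type v} [SmallCategory I]
    (hI : ∀ x y : I, ∃ (z : I) (_ : x ⟶ z) (_ : y ⟶ z), True) (M N : I ⥤ Type v) :
    Function.Surjective (prodComparison (colim : (I ⥤ Type v) ⥤ Type v) M N) := by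
  intro p
  obtain ⟨x, m, hm⟩ := Types.jointly_surjective' (prod.fst (X := colimit M) (Y := colimit N) p)
  obtain ⟨y, n, hn⟩ := Types.jointly_surjective' (prod.snd (X := colimit M) (Y := colimit N) p)
  obtain ⟨z, a, b, -⟩ := hI x y
  let E := (CategoryTheory.evaluation I (Type v)).obj z
  let e := PreservesLimitPair.iso E M N
  obtain ⟨t, ht⟩ : ∃ t : E.obj M ⨯ E.obj N, prod.fst (X := E.obj M) (Y := E.obj N) t = M.map a m ∧
      prod.snd (X := E.obj M) (Y := E.obj N) t = N.map b n :=
    ⟨(Types.binaryProductIso _ _).inv (M.map a m, N.map b n),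
      by simp [E], by simp [E]⟩
  refine ⟨colimit.ι (M ⨯ N) z (e.inv t), ?_⟩
  apply (Types.binaryProductIso _ _).toEquiv.injective
  have h1 : ∀ q : colim.obj M ⨯ colim.obj N, (Types.binaryProductIso _ _).toEquiv q =
      (prod.fst (X := colim.obj M) (Y := colim.obj N) q, prod.snd (X := colim.obj M) (Y := colim.obj N) q) := by
    intro q
    apply Prod.ext
    · exact ConcreteCategory.congr_hom (Types.binaryProductIso_hom_comp_fst _ _) q
    · exact ConcreteCategory.congr_hom (Types.binaryProductIso_hom_comp_snd _ _) q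
  rw [h1, h1]
  apply Prod.ext
  · show (prodComparison colim M N ≫ prod.fst) (colimit.ι (M ⨯ N) z (e.inv t)) = _
    rw [prodComparison_fst]
    show (colimit.ι (M ⨯ N) z ≫ colim.map prod.fst) (e.inv t) = _
    rw [show colimit.ι (M ⨯ N) z ≫ colim.map (prod.fst : M ⨯ N ⟶ M) = _ from colimit.ι_map _ _]
    show colimit.ι M z ((e.inv ≫ E.map prod.fst) t) = _
    rw [PreservesLimitPair.iso_inv_fst, ht.1]
    exact (ConcreteCategory.congr_hom (colimit.w M a) m).trans hm
  · show (prodComparison colim M N ≫ prod.snd) (colimit.ι (M ⨯ N) z (e.inv t)) = _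
    rw [prodComparison_snd]
    show (colimit.ι (M ⨯ N) z ≫ colim.map prod.snd) (e.inv t) = _
    rw [show colimit.ι (M ⨯ N) z ≫ colim.map (prod.snd : M ⨯ N ⟶ N) = _ from colimit.ι_map _ _]
    show colimit.ι N z ((e.inv ≫ E.map prod.snd) t) = _
    rw [PreservesLimitPair.iso_inv_snd, ht.2]
    exact (ConcreteCategory.congr_hom (colimit.w N b) n).trans hn

end Groth.Agent.S6425
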