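import Groth.Statements.S6426
-- import your own Groth.Agent.* helpers here

set_option autoImplicit false
open CategoryTheory CategoryTheory.Limits
universe v
open CatLim

namespace Groth.Agent.S6426

/-- Over a nonempty index category in which any two objects map to a common object, the set-theoretic
colimit of a diagram of abelian groups surjects onto its colimit in abelian groups. (The published
statement does not require the index category to be nonempty; this row assumes it, because for the
empty index category the colimit of sets is empty while the colimit of abelian groups is the zero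
group.) -/
theorem result {I : Type v} [SmallCategory I] [Nonempty I]
    (hI : ∀ x y : I, ∃ (z : I) (_ : x ⟶ z) (_ : y ⟶ z), True) (M : I ⥤ AddCommGrpCat.{v}) :
    Function.Surjective (colimit.post M (forget AddCommGrpCat.{v})) := by
  let R : Set (colimit M : AddCommGrpCat.{v}) := Set.range (colimit.post M (forget AddCommGrpCat.{v}))
  have hR : ∀ x, x ∈ R ↔ ∃ (i : I) (m : M.obj i), colimit.ι M i m = x := by
    intro x
    constructor
    · rintro ⟨y, rfl⟩
      obtain ⟨i, m, rfl⟩ := Types.jointly_surjective' y
      exact ⟨i, m, (ConcreteCategory.congr_hom (colimit.ι_post M (forget AddCommGrpCat.{v}) i) m).symm⟩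
    · rintro ⟨i, m, rfl⟩
      exact ⟨_, ConcreteCategory.congr_hom (colimit.ι_post M (forget AddCommGrpCat.{v}) i) m⟩
  let H : AddSubgroup (colimit M : AddCommGrpCat.{v}) :=
    { carrier := R
      zero_mem' := (hR 0).2 ⟨Classical.arbitrary I, 0, map_zero (colimit.ι M _).hom⟩
      neg_mem' := fun {x} hx => by
        obtain ⟨i, m, rfl⟩ := (hR x).1 hx
        exact (hR _).2 ⟨i, -m, map_neg (colimit.ι M i).hom m⟩
      add_mem' := fun {x y} hx hy => by
        obtain ⟨i, m, rfl⟩ := (hR x).1 hx
        obtain ⟨j, n, rfl⟩ := (hR y).1 hy
        obtain ⟨z, a, b, -⟩ := hI i j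
        refine (hR _).2 ⟨z, M.map a m + M.map b n, ?_⟩
        rw [map_add, ← ConcreteCategory.comp_apply, ← ConcreteCategory.comp_apply, colimit.w, colimit.w] }
  have hq : AddCommGrpCat.ofHom (QuotientAddGroup.mk' H) = 0 := by
    refine colimit.hom_ext fun i => ?_
    ext m
    show QuotientAddGroup.mk' H (colimit.ι M i m) = 0
    exact (QuotientAddGroup.eq_zero_iff _).2 ((hR _).2 ⟨i, m, rfl⟩)
  intro x
  exact (QuotientAddGroup.eq_zero_iff (N := H) x).1 (ConcreteCategory.congr_hom hq x)

end Groth.Agent.S6426
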