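import Groth.Statements.S6427
-- import your own Groth.Agent.* helpers here

set_option autoImplicit false
open CategoryTheory CategoryTheory.Limits
universe v
open CatLim

namespace Groth.Agent.S6427

/-- Over an index category in which every pair of morphisms with common source can be completed to a
commutative square, colimits of sets preserve injective morphisms of diagrams. -/
theorem result {I : Type v} [SmallCategory I]
    (hI : ∀ ⦃x y z : I⦄ (f : x ⟶ y) (g : x ⟶ z), ∃ (w : I) (f' : y ⟶ w) (g' : z ⟶ w), f ≫ f' = g ≫ g')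
    {M N : I ⥤ Type v} (φ : M ⟶ N) (hφ : ∀ i, Function.Injective (φ.app i)) :
    Function.Injective (colimMap φ) := by
  intro p q hpq
  obtain ⟨x, m, rfl⟩ := Types.jointly_surjective' p
  obtain ⟨y, n, rfl⟩ := Types.jointly_surjective' q
  have h : colimit.ι N x (φ.app x m) = colimit.ι N y (φ.app y n) :=
    (ConcreteCategory.congr_hom (colimit.ι_map φ x) m).symm.trans
      (hpq.trans (ConcreteCategory.congr_hom (colimit.ι_map φ y) n))
  let r : (Σ i, N.obj i) → (Σ i, N.obj i) → Prop := fun s t =>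
    ∃ (w : I) (f : s.1 ⟶ w) (g : t.1 ⟶ w), N.map f s.2 = N.map g t.2
  have hr : r ⟨x, φ.app x m⟩ ⟨y, φ.app y n⟩ := by
    have h' := Types.colimit_eq h
    generalize (⟨x, φ.app x m⟩ : Σ i, N.obj i) = s, (⟨y, φ.app y n⟩ : Σ i, N.obj i) = t at h'
    induction h' with
    | rel s t hst =>
      obtain ⟨f, hf⟩ := hst
      exact ⟨_, f, 𝟙 _, by simp [hf]⟩
    | refl s => exact ⟨_, 𝟙 _, 𝟙 _, rfl⟩
    | symm s t _ ih =>
      obtain ⟨w, f, g, hfg⟩ := ih
      exact ⟨w, g, f, hfg.symm⟩
    | trans s t r _ _ ih₁ ih₂ =>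
      obtain ⟨w, f, g, hfg⟩ := ih₁
      obtain ⟨w', f', g', hfg'⟩ := ih₂
      obtain ⟨u, a, b, hab⟩ := hI g f'
      refine ⟨u, f ≫ a, g' ≫ b, ?_⟩
      simp only [Functor.map_comp, ConcreteCategory.comp_apply, hfg, ← hfg']
      rw [← ConcreteCategory.comp_apply, ← ConcreteCategory.comp_apply, ← N.map_comp, ← N.map_comp, hab]
  obtain ⟨w, f, g, hfg⟩ := hr
  have h2 : M.map f m = M.map g n := hφ w (((ConcreteCategory.congr_hom (φ.naturality f) m)).trans
    (hfg.trans (ConcreteCategory.congr_hom (φ.naturality g) n).symm))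
  calc colimit.ι M x m = colimit.ι M w (M.map f m) := (ConcreteCategory.congr_hom (colimit.w M f) m).symm
    _ = colimit.ι M w (M.map g n) := by rw [h2]
    _ = colimit.ι M y n := ConcreteCategory.congr_hom (colimit.w M g) n

end Groth.Agent.S6427
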