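import Groth.Statements.S6428
import Mathlib.CategoryTheory.IsConnected
import Mathlib.CategoryTheory.FiberedCategory.Fiber

set_option autoImplicit false
open CategoryTheory CategoryTheory.Limits
universe v₁ u₁ v₂ u₂ v₃ u₃
open CatLim

namespace Groth.Agent.S6428

section

variable {I : Type u₁} [Category.{v₁} I] {I' : Type u₂} [Category.{v₂} I'] {C : Type u₃} [Category.{v₃} C]
variable {F : I ⥤ I'} (h1 : ∀ x' : I', IsConnected (F.Fiber x'))
variable (h2 : ∀ ⦃x' y' : I'⦄ (α' : x' ⟶ y'), ∃ (x y : I) (hx : F.obj x = x') (hy : F.obj y = y') (α : x ⟶ y), F.map α = eqToHom hx ≫ α' ≫ eqToHom hy.symm)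
variable {M : I' ⥤ C} (c : Cocone (F ⋙ M))

noncomputable def sel (h1 : ∀ x' : I', IsConnected (F.Fiber x')) (x' : I') : F.Fiber x' :=
  (h1 x').is_nonempty.some

noncomputable def comp0 (x' : I') : M.obj x' ⟶ c.pt :=
  eqToHom (congrArg M.obj (sel h1 x').2.symm) ≫ c.ι.app (sel h1 x').1

theorem comp0_eq {x' : I'} (a : I) (ha : F.obj a = x') :
    comp0 h1 c x' = eqToHom (congrArg M.obj ha.symm) ≫ c.ι.app a := by
  have := h1 x'
  refine constant_of_preserves_morphisms (J := F.Fiber x')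
    (fun b => eqToHom (congrArg M.obj b.2.symm) ≫ c.ι.app b.1) ?_ (sel h1 x') ⟨a, ha⟩
  intro b b' φ
  have hl := φ.2
  have e : F.map φ.1 = eqToHom (b.2.trans b'.2.symm) := by
    simpa using IsHomLift.fac' F (𝟙 x') φ.1
  rw [← c.w φ.1, Functor.comp_map, e, eqToHom_map, eqToHom_trans_assoc]

noncomputable def extCocone : Cocone M where
  pt := c.pt
  ι :=
    { app := fun x' => comp0 h1 c x'
      naturality := fun x' y' α' => by
        obtain ⟨x, y, hx, hy, α, e⟩ := h2 α'
        have e' : α' = eqToHom hx.symm ≫ F.map α ≫ eqToHom hy := by simp [e]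
        rw [comp0_eq h1 c y hy, comp0_eq h1 c x hx, e', Functor.map_comp, Functor.map_comp]
        simp [eqToHom_map, ← c.w α] }

theorem ext_app (a : I) : (extCocone h1 h2 c).ι.app (F.obj a) = c.ι.app a := by
  change comp0 h1 c (F.obj a) = _
  rw [comp0_eq h1 c a rfl]
  simp

theorem surj_obj (h1 : ∀ x' : I', IsConnected (F.Fiber x')) (x' : I') : ∃ a, F.obj a = x' :=
  ⟨_, (sel h1 x').2⟩

include h1 h2 in
theorem hasColimit_down [HasColimit (F ⋙ M)] : HasColimit M := by
  refine ⟨⟨extCocone h1 h2 (colimit.cocone (F ⋙ M)),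
    { desc := fun s => colimit.desc (F ⋙ M) (s.whisker F), fac := fun s x' => ?_, uniq := fun s m hm => ?_ }⟩⟩
  · obtain ⟨a, rfl⟩ := surj_obj h1 x'
    rw [ext_app]
    exact colimit.ι_desc (s.whisker F) a
  · refine colimit.hom_ext (F := F ⋙ M) fun a => ?_
    refine Eq.trans ?_ (colimit.ι_desc (s.whisker F) a).symm
    have := hm (F.obj a)
    rw [ext_app] at this
    exact this

include h1 h2 in
theorem hasColimit_up [HasColimit M] : HasColimit (F ⋙ M) := by
  refine ⟨⟨(colimit.cocone M).whisker F,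
    { desc := fun s => colimit.desc M (extCocone h1 h2 s), fac := fun s a => ?_, uniq := fun s m hm => ?_ }⟩⟩
  · exact (colimit.ι_desc (extCocone h1 h2 s) (F.obj a)).trans (ext_app h1 h2 s a)
  · refine colimit.hom_ext (F := M) fun x' => ?_
    obtain ⟨a, rfl⟩ := surj_obj h1 x'
    exact (hm a).trans ((colimit.ι_desc (extCocone h1 h2 s) (F.obj a)).trans (ext_app h1 h2 s a)).symm

include h1 h2 in
theorem isIso_pre [HasColimit (F ⋙ M)] [HasColimit M] : IsIso (colimit.pre M F) := by
  refine ⟨⟨colimit.desc M (extCocone h1 h2 (colimit.cocone (F ⋙ M))),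
    colimit.hom_ext fun a => ?_, colimit.hom_ext fun x' => ?_⟩⟩
  · erw [reassoc_of% (colimit.ι_pre M F a)]
    exact (colimit.ι_desc (extCocone h1 h2 (colimit.cocone (F ⋙ M))) (F.obj a)).trans
      ((ext_app h1 h2 (colimit.cocone (F ⋙ M)) a).trans (Category.comp_id _).symm)
  · obtain ⟨a, rfl⟩ := surj_obj h1 x'
    erw [reassoc_of% (colimit.ι_desc (extCocone h1 h2 (colimit.cocone (F ⋙ M))) (F.obj a))]
    rw [ext_app]
    exact (colimit.ι_pre M F a).trans (Category.comp_id _).symm

end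

/-- If `F : I ⥤ I'` has connected fibre categories and is surjective on morphisms, then for every
diagram `M : I' ⥤ C` the colimit of `F ⋙ M` exists if and only if that of `M` does, and the
canonical comparison between them is then an isomorphism. -/
theorem result {I : Type u₁} [Category.{v₁} I] {I' : Type u₂} [Category.{v₂} I'] {C : Type u₃} [Category.{v₃} C] (F : I ⥤ I')
    (h1 : ∀ x' : I', IsConnected (F.Fiber x'))
    (h2 : ∀ ⦃x' y' : I'⦄ (α' : x' ⟶ y'), ∃ (x y : I) (hx : F.obj x = x') (hy : F.obj y = y') (α : x ⟶ y), F.map α = eqToHom hx ≫ α' ≫ eqToHom hy.symm)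
    (M : I' ⥤ C) :
    (HasColimit (F ⋙ M) ↔ HasColimit M) ∧ ∀ [HasColimit (F ⋙ M)] [HasColimit M], IsIso (colimit.pre M F) := by
  exact ⟨⟨fun _ => hasColimit_down h1 h2, fun _ => hasColimit_up h1 h2⟩, isIso_pre h1 h2⟩

end Groth.Agent.S6428
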