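import Groth.Statements.S6430
import Mathlib
import Groth.Agent.RepOne.Cart

set_option autoImplicit false
open CategoryTheory
universe v₂ u₂ v u
open FibCat

namespace Groth.Agent.S6430

section
open CategoryTheory Groth.Agent.RepOne
variable {C : Type u} [Category.{v} C]

set_option backward.isDefEq.respectTransparency false in
set_option backward.isDefEq.respectTransparency.types false in
theorem isFibGrpd_cart (𝒳 : BasedCategory.{v₂, u₂} C) [𝒳.p.IsFibered] :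
    FibCat.IsFibGrpd (FibCat.cartSubProj 𝒳.p) := by
  refine ⟨fun {x V} f => ?_, fun {y x} φ => ?_⟩
  · obtain ⟨a, φ, ha, hc, e⟩ := cart_lift x.obj f
    refine ⟨⟨a⟩, ⟨φ, hc⟩, IsHomLift.of_fac' (FibCat.cartSubProj 𝒳.p) f _ ha rfl ?_⟩
    exact e.trans (by simp)
  · refine { universal_property' := fun {z} g ψ hψ => ?_ }
    have hg : g ≫ 𝒳.p.map φ.1 = 𝒳.p.map ψ.1 :=
      IsHomLift.eq_of_isHomLift (FibCat.cartSubProj 𝒳.p) (g ≫ (FibCat.cartSubProj 𝒳.p).map φ) ψ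
    have hφ : 𝒳.p.IsStronglyCartesian (𝒳.p.map φ.1) φ.1 := φ.2
    have hψc : 𝒳.p.IsStronglyCartesian (𝒳.p.map ψ.1) ψ.1 := ψ.2
    obtain ⟨χ, ⟨h1, h2⟩, hu⟩ := cart_fac hφ ψ.1 g hg
    have hχ : FibCat.cartMor 𝒳.p χ := by
      have : 𝒳.p.IsStronglyCartesian (𝒳.p.map χ ≫ 𝒳.p.map φ.1) (χ ≫ φ.1) := by
        rw [← Functor.map_comp, h2]; exact hψc
      exact Functor.IsStronglyCartesian.of_comp (p := 𝒳.p) (g := 𝒳.p.map φ.1) (ψ := φ.1)
    refine ⟨⟨χ, hχ⟩, ⟨IsHomLift.of_fac' (FibCat.cartSubProj 𝒳.p) g _ rfl rfl (h1.trans (by simp)), by ext; exact h2⟩,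
      fun χ' ⟨hl, h3⟩ => by
        ext
        exact hu χ'.1 ⟨(IsHomLift.eq_of_isHomLift (FibCat.cartSubProj 𝒳.p) g χ').symm, congrArg (fun t => t.1) h3⟩⟩

end

/-- For a fibred category `p : 𝒮 ⥤ C`, the wide subcategory of `𝒮` on the strongly cartesian morphisms
is fibred in groupoids over `C`. -/
theorem result {C : Type u} [Category.{v} C] {𝒮 : Type u₂} [Category.{v₂} 𝒮] (p : 𝒮 ⥤ C) [p.IsFibered] :
    FibCat.IsFibGrpd (FibCat.cartSubProj p) := by
  exact @isFibGrpd_cart C _ (BasedCategory.ofFunctor p) ‹p.IsFibered›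

end Groth.Agent.S6430
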