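import Groth.Statements.S6433
import Mathlib

set_option autoImplicit false
open CategoryTheory
universe v u v' u'
open CatLoc

namespace Groth.Agent.S6433

/-- For a left multiplicative system `W` and a localization functor `L`, any finite family of morphisms
`L X_i ⟶ L Y` admits a common denominator: some `s : Y ⟶ Y'` in `W` and morphisms `f_i : X_i ⟶ Y'`
with `g_i = L(s)⁻¹ L(f_i)`. -/
theorem result {C : Type u} [Category.{v} C] {D : Type u'} [Category.{v'} D] (W : MorphismProperty C) (L : C ⥤ D) [L.IsLocalization W] [W.HasLeftCalculusOfFractions]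
    {ι : Type} [Finite ι] (X : ι → C) (Y : C) (g : ∀ i, L.obj (X i) ⟶ L.obj Y) :
    ∃ (Y' : C) (s : Y ⟶ Y') (_ : W s) (f : ∀ i, X i ⟶ Y'), ∀ i, g i ≫ L.map s = L.map (f i) := by
  classical
  have hi := Localization.inverts L W
  suffices h : ∀ S : Finset ι, ∃ (Y' : C) (s : Y ⟶ Y') (_ : W s), ∀ i ∈ S, ∃ f : X i ⟶ Y', g i ≫ L.map s = L.map f by
    haveI := Fintype.ofFinite ι
    obtain ⟨Y', s, hs, hf⟩ := h Finset.univ
    choose f hf using fun i => hf i (Finset.mem_univ i)
    exact ⟨Y', s, hs, f, hf⟩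
  intro S
  induction S using Finset.induction_on with
  | empty => exact ⟨Y, 𝟙 Y, W.id_mem _, by simp⟩
  | @insert i S hi' ih =>
    obtain ⟨Y', s, hs, hf⟩ := ih
    obtain ⟨α, hα⟩ := Localization.exists_leftFraction L W (g i)
    obtain ⟨ψ, hψ⟩ := (MorphismProperty.RightFraction.mk α.s α.hs s).exists_leftFraction
    refine ⟨_, s ≫ ψ.s, W.comp_mem _ _ hs ψ.hs, ?_⟩
    intro k hk
    rcases Finset.mem_insert.mp hk with rfl | hk
    · refine ⟨α.f ≫ ψ.f, ?_⟩
      have : s ≫ ψ.s = α.s ≫ ψ.f := hψ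
      rw [this, hα, L.map_comp, L.map_comp, ← Category.assoc, α.map_comp_map_s]
    · obtain ⟨f', hf'⟩ := hf k hk
      exact ⟨f' ≫ ψ.s, by rw [L.map_comp, L.map_comp, ← Category.assoc, hf']⟩

end Groth.Agent.S6433
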