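import Groth.Statements.S6434
import Mathlib
import Groth.Agent.S6433

open CategoryTheory CategoryTheory.Limits

set_option autoImplicit false
open CategoryTheory
universe v u v' u'
open CatLoc

namespace Groth.Agent.S6434

/-- The localization functor at a left multiplicative system commutes with finite colimits. -/
theorem result {C : Type u} [Category.{v} C] {D : Type u'} [Category.{v'} D] (W : MorphismProperty C) (L : C ⥤ D) [L.IsLocalization W] [W.HasLeftCalculusOfFractions] :
    Limits.PreservesFiniteColimits L := by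
  classical
  refine ⟨fun J _ _ => ⟨fun {K} => ⟨fun {c} hc => ⟨?_⟩⟩⟩⟩
  haveI : Fintype J := FinCategory.fintypeObj
  have hi := Localization.inverts L W
  have key : ∀ {Y : C} (S : Finset J) (a b : ∀ j, K.obj j ⟶ Y), (∀ j ∈ S, L.map (a j) = L.map (b j)) →
      ∃ (Y' : C) (t : Y ⟶ Y') (_ : W t), ∀ j ∈ S, a j ≫ t = b j ≫ t := by
    intro Y S a b
    induction S using Finset.induction_on with
    | empty => exact fun _ => ⟨Y, 𝟙 Y, W.id_mem _, by simp⟩
    | @insert j S hj ih =>
      intro hab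
      obtain ⟨Y', t, ht, h1⟩ := ih fun k hk => hab k (Finset.mem_insert_of_mem hk)
      obtain ⟨Y'', r, hr, h2⟩ := (MorphismProperty.map_eq_iff_postcomp L W (a j ≫ t) (b j ≫ t)).mp
        (by rw [L.map_comp, L.map_comp, hab j (Finset.mem_insert_self j S)])
      refine ⟨Y'', t ≫ r, W.comp_mem _ _ ht hr, fun k hk => ?_⟩
      rcases Finset.mem_insert.mp hk with rfl | hk
      · simpa using h2
      · rw [← Category.assoc, h1 k hk, Category.assoc]
  have : L.EssSurj := Localization.essSurj L W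
  have glue : ∀ s : Cocone (K ⋙ L), ∃! m : L.obj c.pt ⟶ s.pt, ∀ j, L.map (c.ι.app j) ≫ m = s.ι.app j := by
    intro s
    let e := L.objObjPreimageIso s.pt
    obtain ⟨Y', σ, hσ, f, hf⟩ := Groth.Agent.S6433.result W L K.obj (L.objPreimage s.pt) fun j => s.ι.app j ≫ e.inv
    let pairs : Finset (Σ p : J × J, p.1 ⟶ p.2) := Finset.univ
    have hall : ∀ (S : Finset (Σ p : J × J, p.1 ⟶ p.2)), ∃ (Y'' : C) (t : Y' ⟶ Y'') (_ : W t),
        ∀ q ∈ S, K.map q.2 ≫ f q.1.2 ≫ t = f q.1.1 ≫ t := by
      intro S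
      induction S using Finset.induction_on with
      | empty => exact ⟨Y', 𝟙 _, W.id_mem _, by simp⟩
      | @insert q S hq ih =>
        obtain ⟨Y'', t, ht, h1⟩ := ih
        have hL : L.map (K.map q.2 ≫ f q.1.2) = L.map (f q.1.1) := by
          rw [L.map_comp, ← hf, ← hf]
          have := s.w q.2
          simp only [Functor.comp_obj, Functor.comp_map] at this
          rw [← this]; simp only [Category.assoc]
        obtain ⟨Y₃, r, hr, h2⟩ := (MorphismProperty.map_eq_iff_postcomp L W (K.map q.2 ≫ f q.1.2 ≫ t) (f q.1.1 ≫ t)).mp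
          (by rw [← Category.assoc, L.map_comp (_ ≫ _) t, hL, L.map_comp])
        refine ⟨Y₃, t ≫ r, W.comp_mem _ _ ht hr, fun x hx => ?_⟩
        rcases Finset.mem_insert.mp hx with rfl | hx
        · simpa using h2
        · simpa using congrArg (· ≫ r) (h1 x hx)
    obtain ⟨Y'', t, ht, h1⟩ := hall pairs
    have hnat : ∀ (j j' : J) (u : j ⟶ j'), K.map u ≫ f j' ≫ t = (f j ≫ t) ≫ 𝟙 Y'' := fun j j' u => by
      simpa using h1 ⟨(j, j'), u⟩ (Finset.mem_univ _)
    let cf : Cocone K := ⟨Y'', { app := fun j => f j ≫ t, naturality := hnat }⟩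
    have := hi _ (W.comp_mem _ _ hσ ht)
    refine ⟨L.map (hc.desc cf) ≫ inv (L.map (σ ≫ t)) ≫ e.hom, fun j => ?_, fun m hm => ?_⟩
    · rw [← L.map_comp_assoc, hc.fac, L.map_comp, ← hf]
      have hh : inv (L.map (σ ≫ t)) = inv (L.map (σ ≫ t)) := rfl
      simp only [Category.assoc]
      rw [← L.map_comp_assoc σ t, IsIso.hom_inv_id_assoc, Iso.inv_hom_id, Category.comp_id]
    · obtain ⟨α, hα⟩ := Localization.exists_leftFraction L W (m ≫ e.inv)
      obtain ⟨β, hβ⟩ := (MorphismProperty.RightFraction.mk α.s α.hs (σ ≫ t)).exists_leftFraction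
      have hst : (σ ≫ t) ≫ β.s = α.s ≫ β.f := hβ
      have heq : ∀ j ∈ (Finset.univ : Finset J), L.map (c.ι.app j ≫ hc.desc cf ≫ β.s) = L.map (c.ι.app j ≫ α.f ≫ β.f) := by
        intro j _
        have h2 : L.map α.f = m ≫ e.inv ≫ L.map α.s := by
          rw [← Category.assoc, hα, α.map_comp_map_s]
        rw [← Category.assoc, hc.fac, L.map_comp, L.map_comp (c.ι.app j), L.map_comp α.f, h2]
        simp only [Category.assoc]
        rw [← L.map_comp α.s, ← hst, ← Category.assoc (L.map (c.ι.app j)), hm j]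
        simp only [cf, L.map_comp, ← hf, Category.assoc]
      obtain ⟨Z, r, hr, h3⟩ := key _ _ _ heq
      have h4 : hc.desc cf ≫ β.s ≫ r = α.f ≫ β.f ≫ r := hc.hom_ext fun j => by simpa using h3 j (Finset.mem_univ j)
      have hm' : m ≫ e.inv = L.map (hc.desc cf) ≫ inv (L.map (σ ≫ t)) := by
        have := hi _ (W.comp_mem _ _ (W.comp_mem _ _ (W.comp_mem _ _ hσ ht) β.hs) hr)
        rw [← cancel_mono (L.map (((σ ≫ t) ≫ β.s) ≫ r))]
        conv_lhs => rw [hα, hst, Category.assoc, L.map_comp α.s, ← Category.assoc, α.map_comp_map_s, ← L.map_comp, ← h4]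
        conv_rhs => rw [Category.assoc (σ ≫ t) β.s r, L.map_comp (σ ≫ t), Category.assoc, IsIso.inv_hom_id_assoc, ← L.map_comp]
      rw [← Category.assoc, ← hm', Category.assoc, Iso.inv_hom_id, Category.comp_id]
  choose m hm huniq using glue
  exact { desc := m, fac := hm, uniq := fun s m' hm' => huniq s m' hm' }

end Groth.Agent.S6434
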