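import Groth.Statements.S6435
import Mathlib

set_option autoImplicit false
open CategoryTheory
universe v u v' u'
open CatLoc

namespace Groth.Agent.S6435

/-- For a multiplicative system `W` (left and right calculus of fractions) with localization functor
`L`, a morphism `f` becomes an isomorphism under `L` if and only if `g ∘ f ∈ W` and `f ∘ h ∈ W` for
some `g, h`. -/
theorem result {C : Type u} [Category.{v} C] {D : Type u'} [Category.{v'} D] (W : MorphismProperty C) (L : C ⥤ D) [L.IsLocalization W] [W.HasLeftCalculusOfFractions] [W.HasRightCalculusOfFractions]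
    {X Y : C} (f : X ⟶ Y) :
    IsIso (L.map f) ↔ ∃ (Z Z' : C) (g : Y ⟶ Z) (h : Z' ⟶ X), W (f ≫ g) ∧ W (h ≫ f) := by
  have hi := Localization.inverts L W
  constructor
  · intro hf
    obtain ⟨α, hα⟩ := Localization.exists_leftFraction L W (inv (L.map f))
    have e : L.map (f ≫ α.f) = L.map α.s := by
      rw [L.map_comp, ← α.map_comp_map_s L hi, ← hα, ← Category.assoc, IsIso.hom_inv_id, Category.id_comp]
    obtain ⟨Z, t, ht, ht'⟩ := (MorphismProperty.map_eq_iff_postcomp L W _ _).mp e
    obtain ⟨β, hβ⟩ := Localization.exists_rightFraction L W (inv (L.map f))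
    have e' : L.map (β.f ≫ f) = L.map β.s := by
      rw [L.map_comp, ← β.map_s_comp_map L hi, ← hβ, Category.assoc, IsIso.inv_hom_id, Category.comp_id]
    obtain ⟨Z', r, hr, hr'⟩ := (MorphismProperty.map_eq_iff_precomp L W _ _).mp e'
    refine ⟨Z, Z', α.f ≫ t, r ≫ β.f, ?_, ?_⟩
    · rw [← Category.assoc, ht']; exact W.comp_mem _ _ α.hs ht
    · rw [Category.assoc, hr']; exact W.comp_mem _ _ hr β.hs
  · rintro ⟨Z, Z', g, h, hg, hh⟩
    have h1 : IsIso (L.map f ≫ L.map g) := by rw [← L.map_comp]; exact hi _ hg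
    have h2 : IsIso (L.map h ≫ L.map f) := by rw [← L.map_comp]; exact hi _ hh
    have : IsSplitEpi (L.map f) := IsSplitEpi.mk' ⟨inv (L.map h ≫ L.map f) ≫ L.map h, by rw [Category.assoc, IsIso.inv_hom_id]⟩
    have : Mono (L.map f) := by
      have : Mono (L.map f ≫ L.map g) := inferInstance
      exact mono_of_mono (L.map f) (L.map g)
    exact isIso_of_mono_of_isSplitEpi _

end Groth.Agent.S6435
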