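import Groth.Statements.S6437
import Mathlib.CategoryTheory.Limits.Types.Colimits
import Mathlib.CategoryTheory.Limits.Types.Limits
import Mathlib.CategoryTheory.IsConnected
import Mathlib.CategoryTheory.FinCategory.Basic
import Mathlib.Data.Fintype.Sigma
import Mathlib.Data.Fintype.Prod
import Mathlib.CategoryTheory.Limits.FunctorCategory.Basic

set_option autoImplicit false
open CategoryTheory CategoryTheory.Limits
universe v
open CatLim

namespace Groth.Agent.S6437

section

variable {I : Type v} [SmallCategory I]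
variable (h1 : ∀ ⦃w x y : I⦄ (a : w ⟶ x) (b : w ⟶ y), ∃ (z : I) (c : x ⟶ z) (d : y ⟶ z), a ≫ c = b ≫ d)
variable (h2 : ∀ ⦃x y : I⦄ (a b : x ⟶ y), ∃ (z : I) (c : y ⟶ z), a ≫ c = b ≫ c)

def UB (i i' : I) : Prop := ∃ k : I, Nonempty (i ⟶ k) ∧ Nonempty (i' ⟶ k)

include h1 in
theorem ub_trans {a b c : I} (p : UB a b) (q : UB b c) : UB a c := by
  obtain ⟨k, ⟨f⟩, ⟨g⟩⟩ := p
  obtain ⟨l, ⟨f'⟩, ⟨g'⟩⟩ := q
  obtain ⟨z, u, w, -⟩ := h1 g f'
  exact ⟨z, ⟨f ≫ u⟩, ⟨g' ≫ w⟩⟩

include h1 in
theorem colim_eq (F : I ⥤ Type v) {i i' : I} {x : F.obj i} {x' : F.obj i'}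
    (h : colimit.ι F i x = colimit.ι F i' x') :
    ∃ (k : I) (a : i ⟶ k) (b : i' ⟶ k), F.map a x = F.map b x' := by
  let R : (Σ i, F.obj i) → (Σ i, F.obj i) → Prop := fun p q =>
    ∃ (k : I) (a : p.1 ⟶ k) (b : q.1 ⟶ k), F.map a p.2 = F.map b q.2
  have hR : ∀ p q, Relation.EqvGen F.ColimitTypeRel p q → R p q := by
    intro p q hpq
    induction hpq with
    | rel p q r =>
      obtain ⟨f, hf⟩ := r
      exact ⟨q.1, f, 𝟙 _, by simp [hf]⟩
    | refl p => exact ⟨p.1, 𝟙 _, 𝟙 _, rfl⟩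
    | symm p q _ ih =>
      obtain ⟨k, a, b, e⟩ := ih
      exact ⟨k, b, a, e.symm⟩
    | trans p q r _ _ ih ih' =>
      obtain ⟨k, a, b, e⟩ := ih
      obtain ⟨l, a', b', e'⟩ := ih'
      obtain ⟨z, u, w, hz⟩ := h1 b a'
      refine ⟨z, a ≫ u, b' ≫ w, ?_⟩
      rw [Functor.map_comp_apply, e, ← Functor.map_comp_apply, hz, Functor.map_comp_apply, e',
        ← Functor.map_comp_apply]
  exact hR _ _ (Types.colimit_eq h)

include h1 h2 in
theorem colim_eq_same (F : I ⥤ Type v) {i : I} {x x' : F.obj i}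
    (h : colimit.ι F i x = colimit.ι F i x') : ∃ (k : I) (e : i ⟶ k), F.map e x = F.map e x' := by
  obtain ⟨k, a, b, e⟩ := colim_eq h1 F h
  obtain ⟨z, c, hc⟩ := h2 a b
  exact ⟨z, a ≫ c, by rw [Functor.map_comp_apply, e, ← Functor.map_comp_apply, ← hc]⟩

include h1 h2 in
theorem colim_eq_family {A : Type*} [Finite A] (F : A → (I ⥤ Type v)) {k : I} (x x' : ∀ a, (F a).obj k)
    (h : ∀ a, colimit.ι (F a) k (x a) = colimit.ι (F a) k (x' a)) :
    ∃ (k' : I) (e : k ⟶ k'), ∀ a, (F a).map e (x a) = (F a).map e (x' a) := by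
  classical
  have := Fintype.ofFinite A
  suffices H : ∀ S : Finset A, ∃ (k' : I) (e : k ⟶ k'), ∀ a ∈ S, (F a).map e (x a) = (F a).map e (x' a) by
    obtain ⟨k', e, he⟩ := H Finset.univ
    exact ⟨k', e, fun a => he a (Finset.mem_univ a)⟩
  intro S
  induction S using Finset.induction_on with
  | empty => exact ⟨k, 𝟙 k, by simp⟩
  | @insert a S _ ih =>
    obtain ⟨k', e, he⟩ := ih
    obtain ⟨k'', e', he'⟩ := colim_eq_same h1 h2 (F a) (x := (F a).map e (x a)) (x' := (F a).map e (x' a))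
      (by rw [colimit.w_apply, colimit.w_apply, h a])
    refine ⟨k'', e ≫ e', fun b hb => ?_⟩
    rw [Functor.map_comp_apply, Functor.map_comp_apply]
    rcases Finset.mem_insert.mp hb with rfl | hb
    · exact he'
    · rw [he b hb]

include h1 in
theorem exists_ub {J : Type*} [Finite J] (i : J → I) (h : ∀ j j', UB (i j) (i j')) (j₀ : J) :
    ∃ k : I, ∀ j, Nonempty (i j ⟶ k) := by
  classical
  have := Fintype.ofFinite J
  suffices H : ∀ S : Finset J, ∃ k : I, Nonempty (i j₀ ⟶ k) ∧ ∀ j ∈ S, Nonempty (i j ⟶ k) by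
    obtain ⟨k, -, hk⟩ := H Finset.univ
    exact ⟨k, fun j => hk j (Finset.mem_univ j)⟩
  intro S
  induction S using Finset.induction_on with
  | empty => exact ⟨i j₀, ⟨𝟙 _⟩, by simp⟩
  | @insert a S _ ih =>
    obtain ⟨k, ⟨f⟩, hk⟩ := ih
    obtain ⟨l, ⟨g⟩, ⟨g'⟩⟩ := h j₀ a
    obtain ⟨z, u, w, -⟩ := h1 f g
    refine ⟨z, ⟨f ≫ u⟩, fun b hb => ?_⟩
    rcases Finset.mem_insert.mp hb with rfl | hb
    · exact ⟨g' ≫ w⟩
    · exact (hk b hb).map (· ≫ u)

include h1 h2 in
theorem preservesLimits_colim (J : Type) [SmallCategory J] [FinCategory J] [IsConnected J] :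
    PreservesLimitsOfShape J (colim : (I ⥤ Type v) ⥤ Type v) := by
  refine ⟨fun {K} => preservesLimit_of_preserves_limit_cone (limit.isLimit K) ?_⟩
  refine ((Types.isLimit_iff _).2 fun s hs => ?_).some
  obtain ⟨j₀⟩ := (inferInstance : Nonempty J)
  have hev : ∀ i, ∀ t ∈ (K ⋙ (evaluation I (Type v)).obj i).sections,
      ∃! x : (limit K).obj i, ∀ j, (limit.π K j).app i x = t j := fun i =>
    (Types.isLimit_iff _).1 ⟨isLimitOfPreserves ((evaluation I (Type v)).obj i) (limit.isLimit K)⟩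
  choose ι' x hx using fun j => Types.jointly_surjective' (s j)
  have hf : ∀ {j j' : J} (f : j ⟶ j'),
      colimit.ι (K.obj j') (ι' j) ((K.map f).app (ι' j) (x j)) = colimit.ι (K.obj j') (ι' j') (x j') := by
    intro j j' f
    have : colimMap (K.map f) (s j) = s j' := hs f
    rw [hx j', ← this, ← hx j]
    exact (colimit.ι_map_apply (K.map f) (ι' j) (x j)).symm
  have hub : ∀ j j', UB (ι' j) (ι' j') :=
    equiv_relation (fun j j' => UB (ι' j) (ι' j'))
      ⟨fun _ => ⟨_, ⟨𝟙 _⟩, ⟨𝟙 _⟩⟩, fun ⟨k, a, b⟩ => ⟨k, b, a⟩, fun p q => ub_trans h1 p q⟩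
      fun {j j'} f => by
        obtain ⟨k, a, b, -⟩ := colim_eq h1 (K.obj j') (hf f)
        exact ⟨k, ⟨a⟩, ⟨b⟩⟩
  obtain ⟨k, hk⟩ := exists_ub h1 ι' hub j₀
  let a : ∀ j, ι' j ⟶ k := fun j => (hk j).some
  let A := Σ p : J × J, (p.1 ⟶ p.2)
  have : Finite A := inferInstanceAs (Finite (Σ p : J × J, (p.1 ⟶ p.2)))
  obtain ⟨k', e, he⟩ := colim_eq_family h1 h2 (A := A) (fun q => K.obj q.1.2)
    (fun q => (K.map q.2).app k ((K.obj q.1.1).map (a q.1.1) (x q.1.1)))
    (fun q => (K.obj q.1.2).map (a q.1.2) (x q.1.2)) (fun ⟨⟨j, j'⟩, f⟩ => by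
      show colimit.ι (K.obj j') k ((K.map f).app k ((K.obj j).map (a j) (x j))) =
        colimit.ι (K.obj j') k ((K.obj j').map (a j') (x j'))
      rw [NatTrans.naturality_apply, colimit.w_apply, colimit.w_apply, hf f])
  let y : ∀ j, (K.obj j).obj k' := fun j => (K.obj j).map e ((K.obj j).map (a j) (x j))
  obtain ⟨z, hz, -⟩ := hev k' y fun {j j'} f => by
    show (K.map f).app k' (y j) = y j'
    have := he ⟨(j, j'), f⟩
    rw [NatTrans.naturality_apply]
    exact this
  refine ⟨colimit.ι (limit K) k' z, fun j => ?_, fun w hw => ?_⟩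
  · show colimMap (limit.π K j) (colimit.ι (limit K) k' z) = s j
    rw [colimit.ι_map_apply, hz j, colimit.w_apply, colimit.w_apply, hx j]
  · obtain ⟨i, v', rfl⟩ := Types.jointly_surjective' w
    have hj : ∀ j, colimit.ι (K.obj j) i ((limit.π K j).app i v') =
        colimit.ι (K.obj j) k' ((limit.π K j).app k' z) := fun j => by
      rw [hz j, colimit.w_apply, colimit.w_apply, hx j, ← hw j]
      exact (colimit.ι_map_apply (limit.π K j) i v').symm
    obtain ⟨l, b, c, -⟩ := colim_eq h1 (K.obj j₀) (hj j₀)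
    obtain ⟨l', e', he'⟩ := colim_eq_family h1 h2 (fun j => K.obj j)
      (fun j => (K.obj j).map b ((limit.π K j).app i v')) (fun j => (K.obj j).map c ((limit.π K j).app k' z))
      (fun j => by rw [colimit.w_apply, colimit.w_apply, hj j])
    let v1 := (limit K).map e' ((limit K).map b v')
    let z1 := (limit K).map e' ((limit K).map c z)
    have : v1 = z1 := by
      refine (hev l' (fun j => (limit.π K j).app l' z1) fun {p q} f => ?_).unique (fun j => ?_) fun j => rfl
      · show (K.map f).app l' ((limit.π K p).app l' z1) = (limit.π K q).app l' z1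
        rw [← limit.w K f]
        rfl
      · simp only [v1, z1, NatTrans.naturality_apply]
        exact he' j
    calc colimit.ι (limit K) i v' = colimit.ι (limit K) l' v1 := by simp only [v1, colimit.w_apply]
      _ = colimit.ι (limit K) k' z := by rw [this]; simp only [z1, colimit.w_apply]

end

/-- Over an index category in which spans can be completed to commutative squares and parallel pairs can
be coequalized (a disjoint union of filtered categories), colimits of sets commute with finite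
connected limits. -/
theorem result {I : Type v} [SmallCategory I]
    (h1 : ∀ ⦃w x y : I⦄ (a : w ⟶ x) (b : w ⟶ y), ∃ (z : I) (c : x ⟶ z) (d : y ⟶ z), a ≫ c = b ≫ d)
    (h2 : ∀ ⦃x y : I⦄ (a b : x ⟶ y), ∃ (z : I) (c : y ⟶ z), a ≫ c = b ≫ c)
    (J : Type) [SmallCategory J] [FinCategory J] [IsConnected J] :
    PreservesLimitsOfShape J (colim : (I ⥤ Type v) ⥤ Type v) := by
  exact preservesLimits_colim h1 h2 J

end Groth.Agent.S6437
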