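import Groth.Statements.S6438
import Groth.Agent.FinFinalLib.Basic
-- import your own Groth.Agent.* helpers here

set_option autoImplicit false
open CategoryTheory
universe v u
open CatLim

namespace Groth.Agent.S6438

/-- A category with finitely many objects whose morphisms are generated under composition by finitely
many of them receives a functor from a finite category which is both final and initial, the finite
category being connected (resp. nonempty) exactly when the given one is. (The published statement
says that limits and colimits of every diagram are computed after restriction along the functor;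
this is expressed here through finality and initiality.) -/
theorem result {I : Type u} [Category.{v} I] [Finite I]
    (gen : Finset (Σ x y : I, x ⟶ y))
    (hgen : ∀ P : MorphismProperty I, P.IsMultiplicative → (∀ a ∈ gen, P a.2.2) → P = ⊤) :
    ∃ (J : Type) (_ : SmallCategory J) (_ : FinCategory J) (F : J ⥤ I),
      F.Final ∧ F.Initial ∧ (IsConnected J ↔ IsConnected I) ∧ (Nonempty J ↔ Nonempty I) := by
  classical
  haveI : Fintype I := Fintype.ofFinite I
  let e := (Fintype.equivFin I).symm
  let g := gen.equivFin.symm
  let G : FinFinalLib.Gen I :=
    { n := Fintype.card I
      m := gen.card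
      X := e
      hX := e.bijective
      src := fun a => e.symm (g a).1.1
      tgt := fun a => e.symm (g a).1.2.1
      arr := fun a => eqToHom (e.apply_symm_apply _) ≫ (g a).1.2.2 ≫ eqToHom (e.apply_symm_apply _).symm
      gen := fun P hP h => hgen P hP fun a ha => by
        obtain ⟨k, hk⟩ := g.surjective ⟨a, ha⟩
        have h1 := h k
        have key : ∀ {x y x' y' : I} (hx : x' = x) (hy : y' = y) (f : x ⟶ y),
            P (eqToHom hx ≫ f ≫ eqToHom hy.symm) → P f := by
          intro x y x' y' hx hy f hf
          subst hx hy
          simpa using hf
        have := key (e.apply_symm_apply _) (e.apply_symm_apply _) _ h1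
        rw [hk] at this
        exact this }
  haveI := FinFinalLib.final G
  haveI := FinFinalLib.initial G
  refine ⟨FinFinalLib.J G, inferInstance, inferInstance, FinFinalLib.functor G, inferInstance,
    inferInstance, Functor.isConnected_iff_of_final (FinFinalLib.functor G), ⟨fun ⟨p⟩ => ⟨(FinFinalLib.functor G).obj p⟩,
      fun ⟨i⟩ => ⟨.pt (e.symm i) true⟩⟩⟩

end Groth.Agent.S6438
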