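import Groth.Statements.S6439
import Mathlib
import Groth.Agent.ASt.Calc

set_option autoImplicit false
open CategoryTheory
universe v u
open FibCat

namespace Groth.Agent.S6439

section
open CategoryTheory Bicategory
variable {B : Type*} [Bicategory B]

theorem precomp_isEquivalence {a b : B} (c : B) (f : a ⟶ b) (g : b ⟶ a) (eta : f ≫ g ≅ 𝟙 a) (eps : g ≫ f ≅ 𝟙 b) :
    (precomp c f).IsEquivalence :=
  (CategoryTheory.Equivalence.mk (precomp c f) (precomp c g)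
    (NatIso.ofComponents (fun x => (λ_ x).symm ≪≫ whiskerRightIso eps.symm x ≪≫ α_ g f x) (fun {x y} m => by
      simp [Bicategory.precomp, Bicategory.postcomp, Iso.trans_hom]
      rw [leftUnitor_inv_naturality_assoc, whisker_exchange_assoc, associator_naturality_right]))
    (NatIso.ofComponents (fun x => (α_ f g x).symm ≪≫ whiskerRightIso eta x ≪≫ λ_ x) (fun {x y} m => by
      simp [Bicategory.precomp, Bicategory.postcomp, Iso.trans_hom]
      rw [associator_inv_naturality_right_assoc, whisker_exchange_assoc, leftUnitor_naturality]))).isEquivalence_functor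

theorem postcomp_isEquivalence {b c : B} (a : B) (f : b ⟶ c) (g : c ⟶ b) (eta : f ≫ g ≅ 𝟙 b) (eps : g ≫ f ≅ 𝟙 c) :
    (postcomp a f).IsEquivalence :=
  (CategoryTheory.Equivalence.mk (postcomp a f) (postcomp a g)
    (NatIso.ofComponents (fun x => (ρ_ x).symm ≪≫ whiskerLeftIso x eta.symm ≪≫ (α_ x f g).symm) (fun {x y} m => by
      simp [Bicategory.precomp, Bicategory.postcomp, Iso.trans_hom]
      rw [rightUnitor_inv_naturality_assoc, ← whisker_exchange_assoc, associator_inv_naturality_left]))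
    (NatIso.ofComponents (fun x => α_ x g f ≪≫ whiskerLeftIso x eps ≪≫ ρ_ x) (fun {x y} m => by
      simp [Bicategory.precomp, Bicategory.postcomp, Iso.trans_hom]
      rw [associator_naturality_left_assoc, ← whisker_exchange_assoc, rightUnitor_naturality]))).isEquivalence_functor

end

/-- For categories fibred in groupoids over `C` and equivalences `φ : 𝒮₁ ⟶ 𝒮₂`, `ψ : 𝒮₃ ⟶ 𝒮₄` over `C`,
the functor `α ↦ ψ ∘ α ∘ φ` between the categories of functors over `C` is an equivalence of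
categories. -/
theorem result {C : Type u} [Category.{v} C] {𝒮₁ 𝒮₂ 𝒮₃ 𝒮₄ : BasedCategory.{v, max u v} C}
    (h₁ : FibCat.IsFibGrpd 𝒮₁.p) (h₂ : FibCat.IsFibGrpd 𝒮₂.p) (h₃ : FibCat.IsFibGrpd 𝒮₃.p) (h₄ : FibCat.IsFibGrpd 𝒮₄.p)
    (φ : 𝒮₁ ⟶ 𝒮₂) (ψ : 𝒮₃ ⟶ 𝒮₄) (hφ : FibCat.IsEquivOver φ) (hψ : FibCat.IsEquivOver ψ) :
    (Bicategory.precomp 𝒮₃ φ ⋙ Bicategory.postcomp 𝒮₁ ψ).IsEquivalence := by
  obtain ⟨φ', ⟨a₁⟩, ⟨a₂⟩⟩ := hφ
  obtain ⟨ψ', ⟨b₁⟩, ⟨b₂⟩⟩ := hψ
  haveI : (Bicategory.precomp 𝒮₃ φ).IsEquivalence := precomp_isEquivalence 𝒮₃ φ φ' a₁ a₂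
  haveI : (Bicategory.postcomp 𝒮₁ ψ).IsEquivalence := postcomp_isEquivalence 𝒮₁ ψ ψ' b₁ b₂
  infer_instance

end Groth.Agent.S6439
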