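import Groth.Statements.S6442
import Mathlib.CategoryTheory.Sites.EpiMono
import Mathlib.CategoryTheory.Sites.LocallySurjective
import Mathlib.CategoryTheory.Sites.Equivalence

set_option autoImplicit false
open CategoryTheory CategoryTheory.Limits Opposite
universe u
open SiteMisc

namespace Groth.Agent.S6442

/-- An object `U` of a site is weakly contractible, i.e. for every covering sieve `S` the sheafified map
`(∐_{V → U ∈ S} h_V)^# ⟶ h_U^#` has a section, if and only if taking sections over `U` turns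
epimorphisms of sheaves of sets into surjections. (Coverings are taken as covering sieves; the
coproduct is formed in presheaves and then sheafified.) -/
theorem result {C : Type u} [SmallCategory C] (J : GrothendieckTopology C) (U : C) :
    (∀ S : Sieve U, S ∈ J U →
      IsSplitEpi ((presheafToSheaf J (Type u)).map
        (Sigma.desc (fun i : (Σ V : C, {f : V ⟶ U // S f}) => yoneda.map i.2.1) :
          (∐ fun i : (Σ V : C, {f : V ⟶ U // S f}) => yoneda.obj i.1) ⟶ yoneda.obj U))) ↔
    ∀ (F G : Sheaf J (Type u)) (φ : F ⟶ G), Epi φ → Function.Surjective (φ.hom.app (op U)) := by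
  let adj := sheafificationAdjunction J (Type u)
  constructor
  · intro h F G φ hφ t
    have hs : Sheaf.IsLocallySurjective φ := (Sheaf.isLocallySurjective_iff_epi φ).2 hφ
    let S := Presheaf.imageSieve φ.hom t
    have hS : S ∈ J U := Presheaf.imageSieve_mem J φ.hom t
    obtain ⟨⟨σ, hσ⟩⟩ := (h S hS).exists_splitEpi
    have hpre : ∀ i : (Σ V : C, {f : V ⟶ U // S f}), ∃ s : F.obj.obj (op i.1), φ.hom.app (op i.1) s = G.obj.map i.2.1.op t :=
      fun i => i.2.2
    choose s hs' using hpre
    let d : (∐ fun i : (Σ V : C, {f : V ⟶ U // S f}) => yoneda.obj i.1) ⟶ F.obj :=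
      Sigma.desc fun i => yonedaEquiv.symm (s i)
    let d' := (adj.homEquiv _ F).symm d
    let t' := (adj.homEquiv _ G).symm (yonedaEquiv.symm t)
    have key : d' ≫ φ = (presheafToSheaf J (Type u)).map
        (Sigma.desc (fun i : (Σ V : C, {f : V ⟶ U // S f}) => yoneda.map i.2.1) :
          (∐ fun i : (Σ V : C, {f : V ⟶ U // S f}) => yoneda.obj i.1) ⟶ yoneda.obj U) ≫ t' := by
      rw [← Adjunction.homEquiv_naturality_right_symm, ← Adjunction.homEquiv_naturality_left_symm]
      congr 1
      refine Sigma.hom_ext _ _ fun i => yonedaEquiv.injective ?_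
      have e1 := (Sigma.ι_desc (fun i => yonedaEquiv.symm (s i)) i :
        Sigma.ι (fun i : (Σ V : C, {f : V ⟶ U // S f}) => yoneda.obj i.1) i ≫ d = _)
      have e2 := Sigma.ι_desc (f := fun i : (Σ V : C, {f : V ⟶ U // S f}) => yoneda.obj i.1)
        (fun i => (yoneda.map i.2.1 : yoneda.obj i.1 ⟶ yoneda.obj U)) i
      erw [reassoc_of% e1, reassoc_of% e2]
      rw [yonedaEquiv_comp, Equiv.apply_symm_apply, ← yonedaEquiv_naturality, Equiv.apply_symm_apply]
      exact hs' i
    refine ⟨yonedaEquiv (adj.homEquiv _ F (σ ≫ d')), ?_⟩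
    rw [← yonedaEquiv_comp]
    have : adj.homEquiv _ F (σ ≫ d') ≫ φ.hom = adj.homEquiv _ G ((σ ≫ d') ≫ φ) :=
      (adj.homEquiv_naturality_right (σ ≫ d') φ).symm
    rw [this, Category.assoc, key, reassoc_of% hσ, Equiv.apply_symm_apply, Equiv.apply_symm_apply]
  · intro h S hS
    set q : (∐ fun i : (Σ V : C, {f : V ⟶ U // S f}) => yoneda.obj i.1) ⟶ yoneda.obj U :=
      Sigma.desc (fun i : (Σ V : C, {f : V ⟶ U // S f}) => yoneda.map i.2.1)
    have hq : Presheaf.IsLocallySurjective J q := ⟨fun {V} g => by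
      refine J.superset_covering ?_ (J.pullback_stable (show V ⟶ U from g) hS)
      intro W f hf
      let i : (Σ V : C, {f : V ⟶ U // S f}) := ⟨W, f ≫ (show V ⟶ U from g), hf⟩
      refine ⟨(Sigma.ι (fun i : (Σ V : C, {f : V ⟶ U // S f}) => yoneda.obj i.1) i).app (op W) (𝟙 W), ?_⟩
      rw [← NatTrans.comp_app_apply, Sigma.ι_desc]
      exact Category.id_comp _⟩
    have he : Epi ((presheafToSheaf J (Type u)).map q) := (Sheaf.isLocallySurjective_iff_epi _).1
      ((Presheaf.isLocallySurjective_presheafToSheaf_map_iff J q).2 hq)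
    obtain ⟨e, hee⟩ := h _ _ _ he (yonedaEquiv (adj.unit.app (yoneda.obj U)))
    refine ⟨⟨⟨(adj.homEquiv _ _).symm (yonedaEquiv.symm e), (adj.homEquiv _ _).injective ?_⟩⟩⟩
    rw [adj.homEquiv_naturality_right, Equiv.apply_symm_apply]
    refine yonedaEquiv.injective ?_
    rw [Adjunction.homEquiv_unit]
    show yonedaEquiv (yonedaEquiv.symm e ≫ ((presheafToSheaf J (Type u)).map q).hom) = _
    rw [yonedaEquiv_comp, Equiv.apply_symm_apply]
    refine hee.trans ?_
    simp

end Groth.Agent.S6442
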