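import Groth.Statements.S6443
import Groth.Agent.RepOne.Slices
import Groth.Agent.RepOne.Grpd
import Groth.Agent.ASt.FibMaps

set_option autoImplicit false
open CategoryTheory
universe v u
open FibCat

namespace Groth.Agent.S6443

section

set_option backward.isDefEq.respectTransparency false
set_option backward.isDefEq.respectTransparency.types false

open Groth.Agent.ASt Groth.Agent.RepOne

variable {C : Type u} [Category.{v} C]

def topHom {U V : C} (y : FibCat.overCat U ⥤ᵇ FibCat.overCat V) : U ⟶ V :=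
  eqToHom (y.w_obj (ov (𝟙 U))).symm ≫ (y.obj (ov (𝟙 U))).hom

theorem slice_hom' {U V : C} (y : FibCat.overCat U ⥤ᵇ FibCat.overCat V) (g : (FibCat.overCat U).obj) :
    (y.obj g).hom = eqToHom (y.w_obj g) ≫ g.hom ≫ topHom y :=
  slice_hom y g

noncomputable def sliceIso {U V : C} (y : FibCat.overCat U ⥤ᵇ FibCat.overCat V) : y ≅ mapF (topHom y) :=
  BasedNatIso.mkNatIso (NatIso.ofComponents
    (fun g => Over.isoMk (eqToIso (y.w_obj g)) (slice_hom' y g).symm)
    (fun {g g'} m => Over.OverMorphism.ext (by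
      show (y.map m).left ≫ eqToHom (y.w_obj g') = eqToHom (y.w_obj g) ≫ m.left
      have h : (y.map m).left = eqToHom (y.w_obj g) ≫ m.left ≫ eqToHom (y.w_obj g').symm := map_w y m
      rw [h]
      simp)))
    (fun g => isHomLift_id_of_map _ (y.w_obj g) (e := y.w_obj g) rfl)

theorem topHom_comp {U V W : C} (y : FibCat.overCat U ⥤ᵇ FibCat.overCat V)
    (z : FibCat.overCat V ⥤ᵇ FibCat.overCat W) :
    topHom (BasedFunctor.comp y z) = topHom y ≫ topHom z := by
  show eqToHom _ ≫ (z.obj (y.obj (ov (𝟙 U)))).hom = (eqToHom _ ≫ (y.obj (ov (𝟙 U))).hom) ≫ topHom z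
  rw [slice_hom' z (y.obj (ov (𝟙 U))), Category.assoc, eqToHom_trans_assoc]

theorem topHom_id (U : C) : topHom (BasedFunctor.id (FibCat.overCat U)) = 𝟙 U :=
  Category.id_comp _

theorem topHom_congr {U V : C} {y z : FibCat.overCat U ⥤ᵇ FibCat.overCat V} (α : y ≅ z) :
    topHom y = topHom z := by
  have h : (α.hom.toNatTrans.app (ov (𝟙 U))).left =
      eqToHom ((y.w_obj _).trans (z.w_obj _).symm) := map_app y z α.hom _
  unfold topHom
  rw [← Over.w (α.hom.toNatTrans.app (ov (𝟙 U))), h, eqToHom_trans_assoc]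

end

/-- If a category `𝒮` fibred in groupoids over `C` is represented by `X` via `j : 𝒮 ⟶ C/X` and by `X'`
via `j' : 𝒮 ⟶ C/X'` (equivalences over `C`), then there is an isomorphism `X' ≅ X` under which `j'`
becomes 2-isomorphic to `j` over `C`. -/
theorem result {C : Type u} [Category.{v} C] {𝒮 : BasedCategory.{v, max u v} C} (h𝒮 : FibCat.IsFibGrpd 𝒮.p)
    {X X' : C} (j : 𝒮 ⥤ᵇ FibCat.overCat X) (j' : 𝒮 ⥤ᵇ FibCat.overCat X') (hj : FibCat.IsEquivOver j) (hj' : FibCat.IsEquivOver j') :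
    ∃ e : X' ≅ X, Nonempty (BasedFunctor.comp j' (⟨Over.map e.hom, Over.mapForget_eq e.hom⟩ : FibCat.overCat X' ⥤ᵇ FibCat.overCat X) ≅ j) := by
  obtain ⟨G', hG', ⟨α'⟩, ⟨β'⟩⟩ := Groth.Agent.ASt.isEquivOver_symm hj'
  obtain ⟨G, hG, ⟨α⟩, ⟨β⟩⟩ := Groth.Agent.ASt.isEquivOver_symm hj
  let E := BasedFunctor.comp G' j
  let E' := BasedFunctor.comp G j'
  have h1 : Nonempty (BasedFunctor.comp E E' ≅ BasedFunctor.id _) :=
    ⟨Groth.Agent.ASt.wR (Groth.Agent.ASt.wL G' α) j' ≪≫ β'⟩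
  have h2 : Nonempty (BasedFunctor.comp E' E ≅ BasedFunctor.id _) :=
    ⟨Groth.Agent.ASt.wR (Groth.Agent.ASt.wL G α') j ≪≫ β⟩
  obtain ⟨i1⟩ := h1
  obtain ⟨i2⟩ := h2
  let e : X' ≅ X :=
    { hom := topHom E
      inv := topHom E'
      hom_inv_id := by rw [← topHom_comp, topHom_congr i1, topHom_id]
      inv_hom_id := by rw [← topHom_comp, topHom_congr i2, topHom_id] }
  refine ⟨e, ⟨?_⟩⟩
  exact Groth.Agent.ASt.wL j' (sliceIso E).symm ≪≫ Groth.Agent.ASt.wR α' j

end Groth.Agent.S6443
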