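import Groth.Statements.S6446
import Mathlib.CategoryTheory.Limits.Types.Filtered

set_option autoImplicit false
open CategoryTheory CategoryTheory.Limits Opposite
universe v u
open CatLim

namespace Groth.Agent.S6446

set_option linter.deprecated false

/-- (2) ⇒ (1): over a filtered index category, a diagram `M` with a cocone `(X, M_i → X)` inducing
bijections `colim_i Mor(W, M_i) → Mor(W, X)` for all `W` is essentially constant as an ind-object
with value `X`. -/
theorem result {I : Type v} [SmallCategory I] [IsFiltered I] {C : Type u} [Category.{v} C]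
    (M : I ⥤ C) (c : Cocone M)
    (h : ∀ W : C, Function.Bijective (colimit.desc (M ⋙ coyoneda.obj (op W)) ((coyoneda.obj (op W)).mapCocone c))) :
    CatLim.IsEssConstInd M c := by
  obtain ⟨e, he⟩ := (h c.pt).2 (𝟙 c.pt)
  obtain ⟨i, s, rfl⟩ := Types.jointly_surjective' e
  have hs : s ≫ c.ι.app i = 𝟙 c.pt := by
    rw [← he]
    exact (Types.Colimit.ι_desc_apply (M ⋙ coyoneda.obj (op c.pt)) ((coyoneda.obj (op c.pt)).mapCocone c) i s).symm
  refine ⟨i, s, hs, fun j => ?_⟩
  let u : M.obj j ⟶ M.obj i := c.ι.app j ≫ (show c.pt ⟶ M.obj i from s)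
  have hx : colimit.ι (M ⋙ coyoneda.obj (op (M.obj j))) i u =
      colimit.ι (M ⋙ coyoneda.obj (op (M.obj j))) j (𝟙 _) := by
    refine (h (M.obj j)).1 ?_
    refine (Types.Colimit.ι_desc_apply (M ⋙ coyoneda.obj (op (M.obj j)))
      ((coyoneda.obj (op (M.obj j))).mapCocone c) i u).trans (Eq.trans ?_
      (Types.Colimit.ι_desc_apply (M ⋙ coyoneda.obj (op (M.obj j)))
        ((coyoneda.obj (op (M.obj j))).mapCocone c) j (𝟙 (M.obj j))).symm)
    show (c.ι.app j ≫ s) ≫ c.ι.app i = 𝟙 _ ≫ c.ι.app j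
    rw [Category.assoc, hs]
    exact (Category.comp_id _).trans (Category.id_comp _).symm
  obtain ⟨k, a, b, hk⟩ := (Types.FilteredColimit.colimit_eq_iff (M ⋙ coyoneda.obj (op (M.obj j)))).1 hx
  refine ⟨k, a, b, ?_⟩
  have hk' : (c.ι.app j ≫ s) ≫ M.map a = 𝟙 _ ≫ M.map b := hk
  rw [Category.id_comp, Category.assoc] at hk'
  exact hk'.symm

end Groth.Agent.S6446
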