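import Groth.Statements.S6447
import Mathlib.CategoryTheory.Limits.Shapes.Pullback.Categorical.Basic

set_option autoImplicit false
open CategoryTheory CategoryTheory.Limits
universe v u
open FibCat

namespace Groth.Agent.S6447

/-- For a 2-fibre product `U = X ×_Y V` of categories, the square formed by `U ⟶ X`, the diagonals `U ⟶
U ×_V U`, `X ⟶ X ×_Y X` and the induced functor `U ×_V U ⟶ X ×_Y X` is 2-cartesian. (The filling
2-isomorphism is the one whose two components at every object are identities; it exists and is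
unique with that property.) -/
theorem result {X Y V : Type u} [Category.{v} X] [Category.{v} Y] [Category.{v} V] (p : X ⥤ Y) (q : V ⥤ Y) :
    ∃ e, (∀ u, (e.hom.app u).fst = 𝟙 _ ∧ (e.hom.app u).snd = 𝟙 _) ∧ FibCat.IsTwoCart
      (CategoricalPullback.π₁ p q)
      ((CategoricalPullback.CatCommSqOver.toFunctorToCategoricalPullback (CategoricalPullback.π₂ p q) (CategoricalPullback.π₂ p q) (CategoricalPullback p q)).obj ⟨𝟭 _, 𝟭 _, Iso.refl _⟩)
      ((CategoricalPullback.CatCommSqOver.toFunctorToCategoricalPullback p p X).obj ⟨𝟭 _, 𝟭 _, Iso.refl _⟩)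
      (FibCat.categoricalPullbackMap (⟨CategoricalPullback.π₁ p q, q, CategoricalPullback.π₁ p q, ⟨(CatCommSq.iso (CategoricalPullback.π₁ p q) (CategoricalPullback.π₂ p q) p q).symm⟩, ⟨(CatCommSq.iso (CategoricalPullback.π₁ p q) (CategoricalPullback.π₂ p q) p q).symm⟩⟩ : CatCospanTransform (CategoricalPullback.π₂ p q) (CategoricalPullback.π₂ p q) p p))
      e := by
  let T : CatCospanTransform (CategoricalPullback.π₂ p q) (CategoricalPullback.π₂ p q) p p :=
    ⟨CategoricalPullback.π₁ p q, q, CategoricalPullback.π₁ p q, ⟨(CatCommSq.iso (CategoricalPullback.π₁ p q) (CategoricalPullback.π₂ p q) p q).symm⟩, ⟨(CatCommSq.iso (CategoricalPullback.π₁ p q) (CategoricalPullback.π₂ p q) p q).symm⟩⟩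
  let L := (CategoricalPullback.CatCommSqOver.toFunctorToCategoricalPullback (CategoricalPullback.π₂ p q) (CategoricalPullback.π₂ p q) (CategoricalPullback p q)).obj ⟨𝟭 _, 𝟭 _, Iso.refl _⟩
  let Δ := (CategoricalPullback.CatCommSqOver.toFunctorToCategoricalPullback p p X).obj ⟨𝟭 _, 𝟭 _, Iso.refl _⟩
  let M := FibCat.categoricalPullbackMap T
  have hM : ∀ z, (M.obj z).iso.hom = z.fst.iso.hom ≫ q.map z.iso.hom ≫ z.snd.iso.inv := fun z => by
    show 𝟙 _ ≫ z.fst.iso.hom ≫ 𝟙 _ ≫ q.map (𝟙 _ ≫ z.iso.hom ≫ 𝟙 _) ≫ 𝟙 _ ≫ z.snd.iso.inv ≫ 𝟙 _ = _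
    erw [Category.id_comp, Category.id_comp, Category.id_comp, Category.id_comp, Category.comp_id, Category.comp_id]
  let e : CategoricalPullback.π₁ p q ⋙ Δ ≅ L ⋙ M :=
    NatIso.ofComponents (fun u => CategoricalPullback.mkIso (Iso.refl _) (Iso.refl _) (by
      show p.map (𝟙 _) ≫ (M.obj (L.obj u)).iso.hom = 𝟙 _ ≫ p.map (𝟙 _)
      rw [hM, CategoryTheory.Functor.map_id]
      show 𝟙 _ ≫ u.iso.hom ≫ q.map (𝟙 _) ≫ u.iso.inv = _
      rw [CategoryTheory.Functor.map_id, Category.id_comp, Category.id_comp, Category.id_comp, Iso.hom_inv_id]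
      rfl))
      (fun {u u'} f => CategoricalPullback.hom_ext
        ((Category.comp_id _).trans (Category.id_comp _).symm)
        ((Category.comp_id _).trans (Category.id_comp _).symm))
  refine ⟨e, fun u => ⟨rfl, rfl⟩, ?_⟩
  let Φ := (CategoricalPullback.CatCommSqOver.toFunctorToCategoricalPullback Δ M _).obj ⟨CategoricalPullback.π₁ p q, L, e⟩
  show Φ.IsEquivalence
  have : Φ.Faithful := ⟨fun {u u'} f g h => congrArg (fun t => t.snd.fst) h⟩
  have : Φ.Full := ⟨fun {u u'} t => by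
    have h1 : t.fst ≫ 𝟙 _ = 𝟙 _ ≫ t.snd.fst.fst := congrArg (fun s => s.fst) t.w
    have h2 : t.fst ≫ 𝟙 _ = 𝟙 _ ≫ t.snd.snd.fst := congrArg (fun s => s.snd) t.w
    have h3 : t.snd.fst.snd ≫ 𝟙 _ = 𝟙 _ ≫ t.snd.snd.snd := t.snd.w
    simp only [Category.comp_id, Category.id_comp] at h1 h2 h3
    have e12 : t.snd.fst = t.snd.snd := CategoricalPullback.hom_ext (h1.symm.trans h2) h3
    exact ⟨t.snd.fst, CategoricalPullback.hom_ext h1.symm (CategoricalPullback.hom_ext rfl e12)⟩⟩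
  have : Φ.EssSurj := ⟨fun z => by
    obtain ⟨x, ⟨u₁, u₂, θ⟩, φ⟩ := z
    let a : x ≅ u₁.fst := (CategoricalPullback.π₁ p p).mapIso φ
    let b : x ≅ u₂.fst := (CategoricalPullback.π₂ p p).mapIso φ
    have w : p.map a.hom ≫ (M.obj ⟨u₁, u₂, θ⟩).iso.hom = 𝟙 _ ≫ p.map b.hom := φ.hom.w
    let i : u₁ ≅ u₂ := CategoricalPullback.mkIso (a.symm ≪≫ b) θ (by
      rw [hM, Category.id_comp] at w
      show p.map (a.inv ≫ b.hom) ≫ u₂.iso.hom = u₁.iso.hom ≫ q.map θ.hom
      rw [Functor.map_comp, ← w]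
      erw [Category.assoc, Category.assoc, Category.assoc, Category.assoc, Iso.inv_hom_id, Category.comp_id,
        ← Functor.map_comp_assoc, a.inv_hom_id, CategoryTheory.Functor.map_id, Category.id_comp]
      rfl)
    refine ⟨u₁, ⟨CategoricalPullback.mkIso a.symm (CategoricalPullback.mkIso (Iso.refl _) i ?_) ?_⟩⟩
    · show (CategoricalPullback.π₂ p q).map (𝟙 u₁) ≫ θ.hom = 𝟙 _ ≫ θ.hom
      rw [CategoryTheory.Functor.map_id]
    · refine CategoricalPullback.hom_ext ?_ ?_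
      · show a.inv ≫ a.hom = 𝟙 _ ≫ 𝟙 _
        simp
      · show a.inv ≫ b.hom = 𝟙 _ ≫ a.inv ≫ b.hom
        simp⟩
  exact { }

end Groth.Agent.S6447
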