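import Groth.Statements.S6455
import Groth.Agent.CycLib.C1

set_option autoImplicit false
universe u
open CategoryTheory AlgebraicGeometry
open Cyc

namespace Groth.Agent.S6455

open CategoryTheory CategoryTheory.Limits AlgebraicGeometry

theorem secDivFun_one {X : Scheme.{u}} [IsLocallyNoetherian X] {δ : X → ℤ} (hδ : Cyc.IsDimFun X δ) (ξ x : X) :
    Cyc.secDivFun δ (Coh.structureModule X) ξ (CycLib.mkF _ ξ (ParaFLib.oneG ξ)) x = 0 := by
  by_cases h : ξ ⤳ x ∧ δ x + 1 = δ ξ
  swap
  · exact dif_neg h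
  obtain ⟨h, hd⟩ := h
  have e : (Coh.structureModule X).presheaf.stalkSpecializes h (ParaFLib.oneG x) = ParaFLib.oneG ξ :=
    TopCat.Presheaf.germ_stalkSpecializes_apply (Coh.structureModule X).presheaf (U := ⊤) trivial h _
  have := CycLib.secOrdAt_eq hδ h hd (ParaFLib.bijective_oneG x) (by rw [e]; exact ParaFLib.bijective_oneG ξ) (1 : X.presheaf.stalk ξ)
  rw [e, one_smul, map_one, CycLib.ordAt_one hδ h hd] at this
  rw [CycLib.secDivFun_of h hd, this]

/-- c_1(O_X) ∩ α = 0 in CH_k(X) for every (k + 1)-cycle α: computed with any nonzero rational sections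
of the structure sheaf, the k-cycle c_1(O_X) ∩ α is rationally equivalent to zero. Here L(ξ) =
L_ξ/𝔪_ξ L_ξ is the space of rational sections of L on the closure of ξ, div_{L|W}(s) and c_1(L) ∩ α
are computed as coefficient functions from chosen nonzero rational sections (Cyc.secDivFun,
Cyc.c1CapFun), and results are compared up to rational equivalence for any cycles with those
coefficients. A pair (X, δ) with Cyc.IsSetup plays the role of a scheme locally of finite type over
the base (S, δ) (X locally Noetherian with universally catenary local rings, δ a dimension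
function). -/
theorem result (X : Scheme.{u}) (δ : X → ℤ) (hX : Cyc.IsSetup X δ) (k : ℤ) (α : AlgebraicCycle X ℤ) (hα : α ∈ Cyc.Zk X δ (k + 1)) (s : (ξ : X) → Cyc.secFibre (Coh.structureModule X) ξ) (hs : ∀ ξ, s ξ ≠ 0) (γ : AlgebraicCycle X ℤ) (hγ : ⇑γ = Cyc.c1CapFun δ (Coh.structureModule X) ⇑α s) : Cyc.RatEquivZero δ k γ := by
  haveI := hX.1
  have hL : PicF.IsInvertible (Coh.structureModule X) :=
    fun _ => ⟨⊤, trivial, ⟨DCohLib.restrictUnit _⟩⟩
  have hne : ∀ ξ : X, CycLib.mkF (Coh.structureModule X) ξ (ParaFLib.oneG ξ) ≠ 0 := fun ξ e => by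
    have := (CycLib.smul_mkF_eq_zero_iff (ParaFLib.bijective_oneG ξ) 1).1 (by rw [one_smul]; exact e)
    rw [map_one] at this
    exact one_ne_zero this
  have h0 : ⇑(0 : AlgebraicCycle X ℤ) = Cyc.c1CapFun δ (Coh.structureModule X) ⇑α
      (fun ξ => CycLib.mkF _ ξ (ParaFLib.oneG ξ)) := by
    funext x
    simp [Cyc.c1CapFun, secDivFun_one hX.2.2]
  have := CycLib.ratEquiv_c1Cap hX.2.2 hL hα hne hs h0 hγ
  rwa [Cyc.RatEquiv, sub_zero] at this


end Groth.Agent.S6455
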