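import Groth.Statements.S6458
import Groth.Agent.S6459
import Mathlib.RingTheory.Ideal.KrullsHeightTheorem

set_option autoImplicit false
universe u
open CategoryTheory AlgebraicGeometry
open Cyc

namespace Groth.Agent.S6458

/-- Let X be integral with generic point η and ξ the generic point of an irreducible component of an
effective Cartier divisor on X; locally: g ∈ 𝔪_ξ ⊂ O_{X,ξ} is nonzero and O_{X,ξ}/(g) is
zero-dimensional. Then dim_δ of the closure of ξ is dim_δ(X) − 1, i.e. δ(ξ) = δ(η) − 1. Here a pair
(X, δ) with Cyc.IsSetup plays the role of a scheme locally of finite type over the base (S, δ) (X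
locally Noetherian with universally catenary local rings, δ a dimension function). -/
theorem result (X : Scheme.{u}) [IsIntegral X] (δ : X → ℤ) (hX : Cyc.IsSetup X δ) (ξ : X) (g : ↑(X.presheaf.stalk ξ)) (hg0 : g ≠ 0) (hgm : g ∈ IsLocalRing.maximalIdeal (X.presheaf.stalk ξ)) (hdim : ringKrullDim (↑(X.presheaf.stalk ξ) ⧸ Ideal.span {g}) = 0) : δ ξ = δ (genericPoint X) - 1 := by
  haveI := hX.1
  refine (S6459.result X δ hX ξ).1 (le_antisymm ?_ ?_)
  · refine (ringKrullDim_le_ringKrullDim_quotient_add_card (R := X.presheaf.stalk ξ) {g} ?_).trans ?_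
    · rw [Finset.coe_singleton, Set.singleton_subset_iff, SetLike.mem_coe, IsLocalRing.ringJacobson_eq_maximalIdeal]
      exact hgm
    · rw [Finset.coe_singleton, hdim]
      simp
  · have hF : ¬ IsField (X.presheaf.stalk ξ) := fun hF => hg0 (by
      rw [IsLocalRing.isField_iff_maximalIdeal_eq.1 hF] at hgm
      exact hgm)
    have h0 : ringKrullDim (X.presheaf.stalk ξ) ≠ 0 := fun h0 => by
      haveI : Ring.KrullDimLE 0 (X.presheaf.stalk ξ) := Ring.krullDimLE_iff.2 (by rw [h0]; rfl)
      exact hF Ring.KrullDimLE.isField_of_isDomain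
    rw [ringKrullDim_stalk_eq_coheight] at h0 ⊢
    exact WithBot.coe_le_coe.2 (Order.one_le_iff_pos.2 (pos_iff_ne_zero.2 (fun e => h0 (by rw [e]; rfl))))

end Groth.Agent.S6458
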