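import Groth.Statements.S6462
import Groth.Agent.CycLib.DeltaHeight
import Groth.Agent.CycLib.Div
import Groth.Agent.DimFormulaLib.FibrePoints
import Mathlib.Topology.JacobsonSpace

set_option autoImplicit false
universe u
open CategoryTheory AlgebraicGeometry
open Cyc

namespace Groth.Agent.S6462

open CategoryTheory CategoryTheory.Limits AlgebraicGeometry

open Groth.Agent Groth.Agent.CycLib

/-- Assume in addition that X is Jacobson and δ(x) = 0 for every closed point x. For a point ξ of X with
closure Z (an integral closed subscheme whose generic point is ξ) one then has δ(ξ) = dim Z = dim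
O_{Z,z} for every closed point z of Z; here Z is the closure of ξ and O_{Z,z} = O_{X,z}/𝔭_ξ
(Cyc.LocQuot). (The published statement takes X locally of finite type over a Jacobson base with δ
zero on the base's closed points; this row assumes instead that X is Jacobson and δ vanishes on the
closed points of X, which follows from the published hypotheses.) Here a pair (X, δ) with
Cyc.IsSetup plays the role of a scheme locally of finite type over the base (S, δ) (X locally
Noetherian with universally catenary local rings, δ a dimension function). -/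
theorem result (X : Scheme.{u}) [JacobsonSpace X] (δ : X → ℤ) (hX : Cyc.IsSetup X δ) (h0 : ∀ x : X, IsClosed ({x} : Set X) → δ x = 0) (ξ : X) : (topologicalKrullDim ↥(closure ({ξ} : Set X)) = ((δ ξ).toNat : WithBot ℕ∞) ∧ 0 ≤ δ ξ) ∧ ∀ (z : X) (h : ξ ⤳ z), IsClosed ({z} : Set X) → ringKrullDim (Cyc.LocQuot z ξ h) = ((δ ξ).toNat : WithBot ℕ∞) := by
  have hδ := hX.2.2
  haveI := hX.1
  have hclosed : ∀ x : X, ∃ z : X, x ⤳ z ∧ IsClosed ({z} : Set X) := fun x => by
    obtain ⟨z, hz, hz'⟩ := nonempty_inter_closedPoints (Z := closure ({x} : Set X)) ⟨x, subset_closure rfl⟩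
      isClosed_closure.isLocallyClosed
    exact ⟨z, specializes_iff_mem_closure.2 hz, hz'⟩
  have hnn : ∀ x : X, 0 ≤ δ x := fun x => by
    obtain ⟨z, hz, hz'⟩ := hclosed x
    have := delta_le hδ hz
    rw [h0 z hz'] at this
    exact this
  have hlow : ∀ (D : ℕ) (x : X), δ x = D → (D : ℕ∞) ≤ Order.height x := by
    intro D
    induction D using Nat.strong_induction_on with | _ D ih => ?_
    intro x hx
    rcases Nat.eq_zero_or_pos D with rfl | hD
    · simp
    obtain ⟨z, hz, hz'⟩ := hclosed x
    have hne : x ≠ z := fun e => by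
      have := h0 z hz'
      rw [← e, hx] at this
      omega
    obtain ⟨v, ⟨w, hw, hwx, rfl⟩, hmax⟩ := Int.exists_greatest_of_bdd
      (P := fun v => ∃ w, x ⤳ w ∧ x ≠ w ∧ δ w = v) ⟨δ x, fun v ⟨w, hw, hne', e⟩ => e ▸ (hδ x w hw hne').1.le⟩
      ⟨_, z, hz, hne, rfl⟩
    have hstep := (hδ x w hw hwx).2 fun y hy1 hy2 => by
      by_contra hcon
      push Not at hcon
      have h1 := (hδ y w hy2 hcon.2).1
      have h2 := hmax _ ⟨y, hy1, hcon.1.symm, rfl⟩
      omega
    obtain ⟨E, hE⟩ : ∃ E : ℕ, δ w = E := ⟨(δ w).toNat, (Int.toNat_of_nonneg (hnn w)).symm⟩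
    have hlt : w < x := ⟨hw, fun h => hwx ((hw.antisymm h).eq)⟩
    refine le_trans ?_ (Order.height_add_one_le hlt)
    refine le_trans ?_ (add_le_add (ih E (by omega) w hE) le_rfl)
    exact_mod_cast (show D ≤ E + 1 by omega)
  have hup : ∀ (D : ℕ) (x : X), δ x = D → Order.height x ≤ (D : ℕ∞) := by
    intro D
    induction D using Nat.strong_induction_on with | _ D ih => ?_
    intro x hx
    refine Order.height_le_coe_iff.2 fun w hw => ?_
    have h1 := (hδ x w hw.1 fun e => hw.2 (e ▸ le_rfl)).1
    have h2 := hnn w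
    refine lt_of_le_of_lt (ih (δ w).toNat (by omega) w (Int.toNat_of_nonneg h2).symm) ?_
    exact_mod_cast (show (δ w).toNat < D by omega)
  refine ⟨⟨?_, hnn ξ⟩, fun z h hz => ?_⟩
  · have e : δ ξ = ((δ ξ).toNat : ℤ) := (Int.toNat_of_nonneg (hnn ξ)).symm
    rw [DimFormulaLib.topologicalKrullDim_closure_singleton, le_antisymm (hup _ ξ e) (hlow _ ξ e)]
    rfl
  · rw [(ringKrullDim_locQuot hδ h).2, h0 z hz, sub_zero]

end Groth.Agent.S6462
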