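import Groth.Statements.S6463
import Groth.Agent.PicTrivLib.UnivApp
-- import your own Groth.Agent.* helpers here

set_option autoImplicit false
universe u
open CategoryTheory CategoryTheory.Limits AlgebraicGeometry
open MonoidalCategory CartesianMonoidalCategory
open PicF

namespace Groth.Agent.S6463

/-- For a field k and a smooth projective curve X over k that has a k-rational point σ, the conditions
under which the Picard functor is computed through the section are met: f : X → Spec k is flat,
proper and of finite presentation with a section, and O_T → f_{T,*} O_{X_T} is an isomorphism for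
every scheme T over k. Only the last assertion is stated (the others are part of the hypotheses or
immediate): for every t : T → Spec k, the sheaf map of the base change X ×_k T → T is an
isomorphism. Proper replaces projective (they agree for curves over a field). -/
theorem result (k : Type u) [Field k] (X : Scheme.{u}) (f : X ⟶ Spec (CommRingCat.of k)) (hX : Curve.IsSmoothProperCurve k X f) (σ : Spec (CommRingCat.of k) ⟶ X) (hσ : σ ≫ f = 𝟙 (Spec (CommRingCat.of k))) (T : Scheme.{u}) (t : T ⟶ Spec (CommRingCat.of k)) : IsIso (pullback.snd f t).c := by
  obtain ⟨hp, -, hint, -⟩ := hX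
  haveI := hp; haveI := hint
  haveI : Subsingleton ↥(Spec (CommRingCat.of k)) := inferInstanceAs (Subsingleton (PrimeSpectrum k))
  haveI : IsNoetherianRing (CommRingCat.of k) := inferInstanceAs (IsNoetherianRing k)
  haveI : IsLocallyNoetherian (Spec (CommRingCat.of k)) := inferInstance
  have hk : ∀ y : Spec (CommRingCat.of k), Function.Bijective (algebraMap ((Spec (CommRingCat.of k)).residueField y) Γ(f.fiber y, ⊤)) := fun y => by
    haveI : Surjective ((Spec (CommRingCat.of k)).fromSpecResidueField y) :=
      ⟨fun z => ⟨IsLocalRing.closedPoint _, Subsingleton.elim _ _⟩⟩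
    haveI : IsClosedImmersion ((Spec (CommRingCat.of k)).fromSpecResidueField y) :=
      IsClosedImmersion.of_isPreimmersion _ (by
        rw [Set.range_eq_univ.2 ((Spec (CommRingCat.of k)).fromSpecResidueField y).surjective]
        exact isClosed_univ)
    haveI : IsIso ((Spec (CommRingCat.of k)).fromSpecResidueField y) := isIso_of_isClosedImmersion_of_surjective _
    haveI : IsIso (f.fiberι y) := inferInstanceAs (IsIso (pullback.fst f _))
    haveI : Nonempty ↥(f.fiber y) := ⟨(inv (f.fiberι y)) (Classical.arbitrary _)⟩
    haveI : IsIntegral (f.fiber y) := isIntegral_of_isOpenImmersion (f.fiberι y)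
    let g := f.fiberToSpecResidueField y
    haveI : IsProper g := MorphismProperty.of_isPullback (P := @IsProper) (IsPullback.of_hasPullback f _) inferInstance
    let s : 𝟙_ (Over (Spec (CommRingCat.of ((Spec (CommRingCat.of k)).residueField y)))) ⟶ Over.mk g :=
      Over.homMk (pullback.lift ((Spec (CommRingCat.of k)).fromSpecResidueField y ≫ σ) (𝟙 _)
        (by rw [Category.assoc, hσ, Category.comp_id, Category.id_comp])) (pullback.lift_snd _ _ _)
    haveI : IsIntegral (Over.mk g).left := ‹IsIntegral (f.fiber y)›
    haveI : UniversallyClosed (Over.mk g).hom := inferInstanceAs (UniversallyClosed g)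
    exact MonoFibre.Rigidity.bijective_of_ratPt s
  haveI : Flat f := inferInstance
  exact @NatIso.isIso_of_isIso_app _ _ _ _ _ _ (pullback.snd f t).c fun U => PicTrivLib.isIso_app_univ f hk T t U.unop

end Groth.Agent.S6463
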