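import Groth.Statements.S6465
import Groth.Agent.CycLib.Closed

set_option autoImplicit false
universe u
open CategoryTheory AlgebraicGeometry
open Cyc

namespace Groth.Agent.S6465

open CategoryTheory CategoryTheory.Limits AlgebraicGeometry

set_option backward.isDefEq.respectTransparency false
set_option backward.defeqAttrib.useBackward true
set_option linter.style.haveILetI false


/-- Let (L, s, i : D → X) be a triple defining a Gysin map. Then i^* i_* : CH_k(D) → CH_{k−1}(D) sends
the class of a k-cycle α on D to c_1(L|_D) ∩ α: the (k − 1)-cycle i^*(i_* α) is rationally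
equivalent on D to c_1(i^*L) ∩ α computed with any nonzero rational sections. Here i : D → X is the
zero scheme of a global section s of the invertible module L (Cyc.IsZeroSchemeOf), the Gysin map i^*
: Z_{k+1}(X) → CH_k(D) is computed on coefficient functions as c_1(L) ∩ − with the rational sections
taken to be s where it is nonzero and a nonzero fallback elsewhere (Cyc.gysinChoice), restricted to
the points of D, and classes on D are compared up to rational equivalence on D for the restricted
dimension function; (X, δ) with Cyc.IsSetup stands for a scheme locally of finite type over the base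
(S, δ). -/
theorem result (X D : Scheme.{u}) (δ : X → ℤ) (hX : Cyc.IsSetup X δ) (L : X.Modules) (hL : PicF.IsInvertible L) (s : L.presheaf.obj (Opposite.op ⊤)) (i : D ⟶ X) [IsClosedImmersion i] (hD : Cyc.IsZeroSchemeOf i L s) (k : ℤ) (α : AlgebraicCycle D ℤ) (hα : α ∈ Cyc.Zk D (fun d => δ (i d)) k) (w : (ξ : X) → Cyc.secFibre L ξ) (hw : ∀ ξ, w ξ ≠ 0) (t : (d : D) → Cyc.secFibre ((Scheme.Modules.pullback i).obj L) d) (ht : ∀ d, t d ≠ 0) (ζ₁ ζ₂ : AlgebraicCycle D ℤ) (h₁ : ∀ d, ζ₁ d = Cyc.c1CapFun δ L ⇑(AlgebraicCycle.map i (fun d => δ (i d)) δ α) (Cyc.gysinChoice L s w) (i d)) (h₂ : ⇑ζ₂ = Cyc.c1CapFun (fun d => δ (i d)) ((Scheme.Modules.pullback i).obj L) ⇑α t) : Cyc.RatEquiv (fun d => δ (i d)) (k - 1) ζ₁ ζ₂ := by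
  classical
  obtain ⟨hXn, -, hδ⟩ := hX
  haveI := CycLib.isLocallyNoetherian_closed i
  have hr : ∀ x, (AlgebraicCycle.map i (fun d => δ (i d)) δ α) x ≠ 0 → x ∈ Set.range i := fun x hx => by
    by_contra hn
    exact hx (CycLib.map_closed_apply_of_notMem i α hn)
  have hsec : ∀ d : D, Cyc.gysinChoice L s w (i d) = w (i d) := fun d => by
    have hd : i d ∈ Set.range i := ⟨d, rfl⟩
    rw [hD.1] at hd
    unfold Cyc.gysinChoice
    refine if_neg (not_not.2 ?_)
    exact hd
  have hα' : α ∈ Cyc.Zk D (fun d => δ (i d)) (k - 1 + 1) := fun d hd => hα d (by omega)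
  refine CycLib.ratEquiv_c1Cap (CycLib.isDimFun_closed i hδ) (AmpleLib.isInvertible_pullback i hL) hα' ht
    (fun d => CycLib.pullFib_ne_zero i L hL (hw (i d))) (γ := ζ₂) (γ' := ζ₁) h₂ (funext fun d => ?_)
  rw [h₁ d, CycLib.c1CapFun_closed i hδ hL _ hr]
  refine finsum_congr fun η => ?_
  beta_reduce
  rw [hsec η, CycLib.map_closed_apply]

end Groth.Agent.S6465
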