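import Groth.Statements.S6466
import Groth.Agent.CycLib.C1Cycle

set_option autoImplicit false
universe u
open CategoryTheory AlgebraicGeometry
open Cyc

namespace Groth.Agent.S6466

open CategoryTheory CategoryTheory.Limits AlgebraicGeometry

open Groth.Agent

/-- Let (L, s, i : D → X) be a triple defining a Gysin map and N an invertible O_X-module. Then
i^*(c_1(N) ∩ α) = c_1(i^*N) ∩ i^*α in CH_{k−2}(D) for every k-cycle α on X: with β any (k − 1)-cycle
with the coefficients of c_1(N) ∩ α (any nonzero sections v) and γ = i^*α as a coefficient function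
on D, the cycles i^*β and c_1(i^*N) ∩ γ (any nonzero sections t of i^*N) are rationally equivalent
on D. Here i : D → X is the zero scheme of a global section s of the invertible module L
(Cyc.IsZeroSchemeOf), the Gysin map i^* : Z_{k+1}(X) → CH_k(D) is computed on coefficient functions
as c_1(L) ∩ − with the rational sections taken to be s where it is nonzero and a nonzero fallback
elsewhere (Cyc.gysinChoice), restricted to the points of D, and classes on D are compared up to
rational equivalence on D for the restricted dimension function; (X, δ) with Cyc.IsSetup stands for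
a scheme locally of finite type over the base (S, δ). -/
theorem result (X D : Scheme.{u}) (δ : X → ℤ) (hX : Cyc.IsSetup X δ) (L N : X.Modules) (hL : PicF.IsInvertible L) (hN : PicF.IsInvertible N) (s : L.presheaf.obj (Opposite.op ⊤)) (i : D ⟶ X) [IsClosedImmersion i] (hD : Cyc.IsZeroSchemeOf i L s) (k : ℤ) (α : AlgebraicCycle X ℤ) (hα : α ∈ Cyc.Zk X δ k) (w : (ξ : X) → Cyc.secFibre L ξ) (hw : ∀ ξ, w ξ ≠ 0) (v : (ξ : X) → Cyc.secFibre N ξ) (hv : ∀ ξ, v ξ ≠ 0) (t : (d : D) → Cyc.secFibre ((Scheme.Modules.pullback i).obj N) d) (ht : ∀ d, t d ≠ 0) (β : AlgebraicCycle X ℤ) (hβ : ⇑β = Cyc.c1CapFun δ N ⇑α v) (γ : D → ℤ) (hγ : γ = fun d => Cyc.c1CapFun δ L ⇑α (Cyc.gysinChoice L s w) (i d)) (ζ₁ ζ₂ : AlgebraicCycle D ℤ) (h₁ : ∀ d, ζ₁ d = Cyc.c1CapFun δ L ⇑β (Cyc.gysinChoice L s w) (i d)) (h₂ : ⇑ζ₂ = Cyc.c1CapFun (fun d => δ (i d)) ((Scheme.Modules.pullback i).obj N) γ t) : Cyc.RatEquiv (fun d => δ (i d)) (k - 2) ζ₁ ζ₂ := by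
  classical
  haveI := hX.1
  haveI := CycLib.isLocallyNoetherian_closed i
  have hδ := hX.2.2
  have hα' : α ∈ Cyc.Zk X δ (k - 2 + 2) := by rw [sub_add_cancel]; exact hα
  let A := CycLib.c1Cycle hδ hL α (Cyc.gysinChoice L s w)
  have hA : ∀ x, A x ≠ 0 → x ∈ Set.range i := fun x hx => by
    obtain ⟨ξ, hξ⟩ := CycLib.exists_ne_zero_finsum hx
    exact CycLib.mem_range_of_gysin hδ hL hD (right_ne_zero_of_mul hξ)
  let g := CycLib.restrictCycle i A
  have hg : g ∈ Cyc.Zk D (fun d => δ (i d)) (k - 2 + 1) := fun d hd =>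
    CycLib.c1CapFun_eq_zero_of_ne (k := k - 2 + 1) (a := ⇑α) (fun ξ hξ => hα ξ (by omega)) _ hd
  let Z := CycLib.restrictCycle i (CycLib.c1Cycle hδ hN A v)
  have hZ : ⇑Z = Cyc.c1CapFun (fun d => δ (i d)) ((Scheme.Modules.pullback i).obj N) ⇑g
      (fun d => CycLib.pullFib i N d (v (i d))) := funext fun d => CycLib.c1CapFun_closed i hδ hN ⇑A hA v d
  refine CycLib.ratEquiv_trans (β := Z) (CycLib.gysin_c1Cap_comm hX hL hN hD hw hα' v hv ζ₁ Z
    (fun d => by rw [h₁, hβ]) (fun d => rfl)) ?_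
  exact CycLib.ratEquiv_c1Cap (CycLib.isDimFun_closed i hδ) (AmpleLib.isInvertible_pullback i hN) hg ht
    (fun d => CycLib.pullFib_ne_zero i N hN (hv _)) (γ := ζ₂) (γ' := Z) (h₂.trans (by rw [hγ]; rfl)) hZ


end Groth.Agent.S6466
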