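import Groth.Statements.S6467
import Groth.Agent.K0Fam.Periodic
import Groth.Agent.CycLib.Div

set_option autoImplicit false
universe u
open CategoryTheory AlgebraicGeometry
open Cyc

namespace Groth.Agent.S6467

open CategoryTheory CategoryTheory.Limits AlgebraicGeometry

open Groth.Agent
set_option backward.isDefEq.respectTransparency false

/-- Let F be a coherent O_X-module with dim_δ Supp(F) ≤ k + 1 and φ, ψ : F → F with φ ∘ ψ = 0 = ψ ∘ φ (a
2-periodic complex) whose cohomology sheaves H^0 = ker ψ / im φ and H^1 = ker φ / im ψ (for the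
complex … → F →^φ F →^ψ F →^φ F → …) are supported in δ-dimension ≤ k. Then [H^0]_k ∼_rat [H^1]_k as
k-cycles on X (for any cycles with these coefficient functions, Cyc.sheafFun). Support conditions
are phrased through nontrivial stalks. Here a pair (X, δ) with Cyc.IsSetup plays the role of a
scheme locally of finite type over the base (S, δ) (X locally Noetherian with universally catenary
local rings, δ a dimension function). -/
theorem result (X : Scheme.{u}) (δ : X → ℤ) (hX : Cyc.IsSetup X δ) (k : ℤ) (F : X.Modules) (hF : Coh.IsCoh F) (hdim : ∀ x : X, Nontrivial (F.presheaf.stalk x) → δ x ≤ k + 1) (φ ψ : F ⟶ F) (hφψ : φ ≫ ψ = 0) (hψφ : ψ ≫ φ = 0) (h0 : ∀ x : X, Nontrivial ((ShortComplex.mk φ ψ hφψ).homology.presheaf.stalk x) → δ x ≤ k) (h1 : ∀ x : X, Nontrivial ((ShortComplex.mk ψ φ hψφ).homology.presheaf.stalk x) → δ x ≤ k) (γ₀ γ₁ : AlgebraicCycle X ℤ) (hγ₀ : ⇑γ₀ = Cyc.sheafFun δ k (ShortComplex.mk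 φ ψ hφψ).homology) (hγ₁ : ⇑γ₁ = Cyc.sheafFun δ k (ShortComplex.mk ψ φ hψφ).homology) : Cyc.RatEquiv δ k γ₀ γ₁ := by
  haveI := hX.1
  have hδ := hX.2.2
  let S₀ := ShortComplex.mk φ ψ hφψ
  let S₁ := ShortComplex.mk ψ φ hψφ
  have hF' : Cyc.CohLe δ (k + 1) F := ⟨hF, hdim⟩
  have hH0 : Cyc.CohLe δ k S₀.homology := ⟨K0Fam.isCoh_homology S₀ hF hF hF, h0⟩
  have hH1 : Cyc.CohLe δ k S₁.homology := ⟨K0Fam.isCoh_homology S₁ hF hF hF, h1⟩
  let α := γ₀ - γ₁
  have hα : α ∈ Cyc.Zk X δ k := fun x hx => by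
    show γ₀ x - γ₁ x = 0
    rw [hγ₀, hγ₁, Cyc.sheafFun, Cyc.sheafFun, if_neg hx, if_neg hx, sub_zero]
  refine K0Fam.ratEquivZero_of_q_eq hδ α hα ?_
  have hp : ∀ x, 0 < α x → α x ≠ 0 := fun x hx => hx.ne'
  have hn : ∀ x, 0 < (-⇑α) x → α x ≠ 0 := fun x hx e => by
    rw [Pi.neg_apply, e, neg_zero] at hx
    exact lt_irrefl _ hx
  have hP := K0Fam.cohLe_cycle hδ hα hp
  have hN : Cyc.CohLe δ k (Cyc.cycleSheafNeg ⇑α) := K0Fam.cohLe_cycle hδ hα hn
  have hfun : Cyc.sheafFun δ k S₀.homology + Cyc.sheafFun δ k (Cyc.cycleSheafNeg ⇑α) =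
      Cyc.sheafFun δ k S₁.homology + Cyc.sheafFun δ k (Cyc.cycleSheafPos ⇑α) := funext fun x => by
    rw [Pi.add_apply, Pi.add_apply, show Cyc.cycleSheafNeg ⇑α = Cyc.cycleSheafPos (-⇑α) from rfl,
      K0Fam.sheafFun_cycle hδ hα hn x, K0Fam.sheafFun_cycle hδ hα hp x, Pi.neg_apply]
    have hx' : α x = Cyc.sheafFun δ k S₀.homology x - Cyc.sheafFun δ k S₁.homology x := by
      show γ₀ x - γ₁ x = _
      rw [hγ₀, hγ₁]
    by_cases hx : δ x = k
    · rw [if_pos hx, if_pos hx]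
      omega
    · rw [if_neg hx, if_neg hx, Cyc.sheafFun, Cyc.sheafFun, if_neg hx, if_neg hx]
  have hk : k ≤ k + 1 := by omega
  have hq := congrArg (K0Fam.up δ hk (k - 1)) (show K0Fam.q δ k (k - 1) (S₀.homology ⊞ Cyc.cycleSheafNeg ⇑α) =
      K0Fam.q δ k (k - 1) (S₁.homology ⊞ Cyc.cycleSheafPos ⇑α) from
    K0Fam.q_eq_of_sheafFun hX (K0Fam.cohLe_biprod hH0 hN) (K0Fam.cohLe_biprod hH1 hP)
      (by rw [K0Fam.sheafFun_biprod hX hH0 hN, K0Fam.sheafFun_biprod hX hH1 hP, hfun]))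
  rw [K0Fam.q_biprod _ hH0 hN, K0Fam.q_biprod _ hH1 hP, map_add, map_add, K0Fam.up_q hk _ hH0, K0Fam.up_q hk _ hH1,
    K0Fam.up_q hk _ hN, K0Fam.up_q hk _ hP, K0Fam.q_homology S₀ hF' hF' hF, K0Fam.q_homology S₁ hF' hF' hF,
    add_comm (K0Fam.q δ (k + 1) (k - 1) (Limits.kernel S₁.g))] at hq
  exact (add_left_cancel hq).symm


end Groth.Agent.S6467
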