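import Groth.Statements.S6469
import Groth.Agent.K0Fam.Pair
import Groth.Agent.CycLib.P1Rat

set_option autoImplicit false
universe u
open CategoryTheory AlgebraicGeometry
open Cyc

namespace Groth.Agent.S6469

open CategoryTheory CategoryTheory.Limits AlgebraicGeometry

open Groth.Agent CategoryTheory.Limits
set_option backward.isDefEq.respectTransparency false

/-- Let L be invertible and F coherent with dim_δ Supp(F) ≤ k + 1. Then [F ⊗ L] − [F] ∈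
K_0(Coh_{≤k+1}(X)/Coh_{≤k−1}(X)) lies in the image B_k(X) of K_0(Coh_{≤k}/Coh_{≤k−1}) and
corresponds to c_1(L) ∩ [F]_{k+1} under B_k(X) ≅ CH_k(X): for any k-cycle γ with the coefficients of
c_1(L) ∩ [F]_{k+1} (any nonzero rational sections), [F ⊗ L] − [F] = [⊕_{n_Z>0} O_Z^{n_Z}] −
[⊕_{n_Z<0} O_Z^{−n_Z}] where γ = Σ n_Z [Z]. Tensor product: CohB1.tensorMod; K_0 model:
Cyc.K0CohQuot. Here a pair (X, δ) with Cyc.IsSetup plays the role of a scheme locally of finite type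
over the base (S, δ) (X locally Noetherian with universally catenary local rings, δ a dimension
function). -/
theorem result (X : Scheme.{u}) (δ : X → ℤ) (hX : Cyc.IsSetup X δ) (k : ℤ) (L : X.Modules) (hL : PicF.IsInvertible L) (F : X.Modules) (hF : Coh.IsCoh F) (hdim : ∀ x : X, Nontrivial (F.presheaf.stalk x) → δ x ≤ k + 1) (s : (ξ : X) → Cyc.secFibre L ξ) (hs : ∀ ξ, s ξ ≠ 0) (γ : AlgebraicCycle X ℤ) (hγk : γ ∈ Cyc.Zk X δ k) (hγ : ⇑γ = Cyc.c1CapFun δ L (Cyc.sheafFun δ (k + 1) F) s) : Cyc.toK0CohQuot δ (k + 1) (k - 1) (CohB1.tensorMod F L) - Cyc.toK0CohQuot δ (k + 1) (k - 1) F = Cyc.toK0CohQuot δ (k + 1) (k - 1) (Cyc.cycleSheafPos ⇑γ) - Cyc.toK0CohQuot δ (k + 1) (k - 1) (Cyc.cycleSheafNeg ⇑γ) := by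
  classical
  haveI := hX.1
  have hδ := hX.2.2
  have hk : k ≤ k + 1 := by omega
  let D₀ : FreeAbelianGroup (Subtype (Cyc.CohLe δ (k + 1))) →+ Cyc.K0CohQuot δ (k + 1) (k - 1) :=
    FreeAbelianGroup.lift fun M => K0Fam.q δ (k + 1) (k - 1) (CohB1.tensorMod M.1 L) - K0Fam.q δ (k + 1) (k - 1) M.1
  have hrel : KZero.relSub (Cyc.CohLe δ (k + 1)) ≤ D₀.ker := by
    refine (AddSubgroup.closure_le _).2 ?_
    rintro x ⟨T, h₁, h₂, h₃, hT, rfl⟩
    show D₀ _ = 0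
    simp only [D₀, map_sub, FreeAbelianGroup.lift_apply_of]
    have e : K0Fam.q δ (k + 1) (k - 1) (CohB1.tensorMod T.X₂ L) = K0Fam.q δ (k + 1) (k - 1) (CohB1.tensorMod T.X₁ L) +
        K0Fam.q δ (k + 1) (k - 1) (CohB1.tensorMod T.X₃ L) :=
      K0Fam.q_add (S := T.map (CurveLib.tensR L)) (CurveLib.shortExact_tensR hT (CurveLib.freeAt_one_of_isInvertible hL))
        (K0Fam.cohLe_twist hL h₁) (K0Fam.cohLe_twist hL h₂) (K0Fam.cohLe_twist hL h₃)
    rw [e, K0Fam.q_add hT h₁ h₂ h₃]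
    abel
  let D₁ : KZero.K0sub (Cyc.CohLe δ (k + 1)) →+ Cyc.K0CohQuot δ (k + 1) (k - 1) := QuotientAddGroup.lift _ D₀ hrel
  have hlow : AddSubgroup.closure {c : KZero.K0sub (Cyc.CohLe δ (k + 1)) | ∃ G : X.Modules, Cyc.CohLe δ k G ∧
      c = KZero.clSub (Cyc.CohLe δ (k + 1)) G} ≤ D₁.ker := by
    rw [AddSubgroup.closure_le]
    rintro c ⟨G, hG, rfl⟩
    show D₁ _ = 0
    rw [K0ResLib.clSub_of (K0Fam.cohLe_mono hk hG)]
    refine (FreeAbelianGroup.lift_apply_of _ _).trans ?_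
    rw [← K0Fam.up_q hk (k - 1) hG, ← K0Fam.up_q hk (k - 1) (K0Fam.cohLe_twist hL hG),
      K0Fam.q_eq_of_sheafFun hX (K0Fam.cohLe_twist hL hG) hG (K0Fam.sheafFun_twist hL G), sub_self]
  let D : Cyc.K0CohQuot δ (k + 1) k →+ Cyc.K0CohQuot δ (k + 1) (k - 1) := QuotientAddGroup.lift _ D₁ hlow
  have hD : ∀ G : X.Modules, Cyc.CohLe δ (k + 1) G → D (K0Fam.q δ (k + 1) k G) =
      K0Fam.q δ (k + 1) (k - 1) (CohB1.tensorMod G L) - K0Fam.q δ (k + 1) (k - 1) G := fun G hG => by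
    rw [K0Fam.q, Cyc.toK0CohQuot, K0ResLib.clSub_of hG]
    exact FreeAbelianGroup.lift_apply_of
      (fun M : Subtype (Cyc.CohLe δ (k + 1)) =>
        K0Fam.q δ (k + 1) (k - 1) (CohB1.tensorMod M.1 L) - K0Fam.q δ (k + 1) (k - 1) M.1) ⟨G, hG⟩
  have hFl : Cyc.CohLe δ (k + 1) F := ⟨hF, hdim⟩
  let a := Cyc.sheafFun δ (k + 1) F
  let C : AlgebraicCycle X ℤ := CycLib.P1Rat.sheafCycle (δ := δ) (k := k + 1) hF
  have hC : C ∈ Cyc.Zk X δ (k + 1) := fun x hx => if_neg hx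
  have ha : ∀ x, 0 < a x → C x ≠ 0 := fun x hx => hx.ne'
  have e1 : K0Fam.q δ (k + 1) k F = K0Fam.q δ (k + 1) k (Cyc.cycleSheafPos a) := by
    have h := K0Fam.q_eq_cycle hδ hFl
    rwa [show k + 1 - 1 = k by omega] at h
  have key : K0Fam.q δ (k + 1) (k - 1) (CohB1.tensorMod F L) - K0Fam.q δ (k + 1) (k - 1) F =
      K0Fam.q δ (k + 1) (k - 1) (Cyc.cycleSheafPos ⇑γ) - K0Fam.q δ (k + 1) (k - 1) (Cyc.cycleSheafNeg ⇑γ) := by
    rw [← hD F hFl, e1, hD _ (K0Fam.cohLe_cycle hδ hC ha)]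
    have hpos : Cyc.cycleSheafPos a = ∐ fun j : K0Fam.CIdx a => Cyc.closureStructureSheaf j.1.1 := rfl
    rw [hpos, K0Fam.q_iso (K0Fam.sigmaTwistIso (L := L) _) (K0Fam.cohLe_twist hL (K0Fam.cohLe_cycle hδ hC ha))]
    refine K0Fam.q_pair hL hX (fun j : K0Fam.CIdx a => j.1.1) (fun j => K0Fam.delta_cycle hδ hC ha j.1.2)
      (K0Fam.locFin_cycle C a ha) (fun j => s j.1.1) (fun j => hs _) γ hγk fun x _ => ?_
    rw [hγ]
    show ∑ᶠ η : X, a η * Cyc.secDivFun δ L η (s η) x = _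
    have hfin := (K0Fam.locFin_cycle C a ha).finite_mem x
    let S : Finset {ζ : X // 0 < a ζ} := (hfin.image Sigma.fst).toFinset
    rw [finsum_eq_sum_of_support_subset (fun j : K0Fam.CIdx a => Cyc.secDivFun δ L j.1.1 (s j.1.1) x)
        (s := S.sigma fun _ => Finset.univ) ?_,
      finsum_eq_sum_of_support_subset (fun η : X => a η * Cyc.secDivFun δ L η (s η) x)
        (s := S.map (Function.Embedding.subtype _)) ?_, Finset.sum_map, Finset.sum_sigma]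
    · refine Finset.sum_congr rfl fun ζ _ => ?_
      show a ζ.1 * Cyc.secDivFun δ L ζ.1 (s ζ.1) x = ∑ _i : Fin (a ζ.1).toNat, Cyc.secDivFun δ L ζ.1 (s ζ.1) x
      rw [Finset.sum_const, Finset.card_univ, Fintype.card_fin, nsmul_eq_mul, Int.toNat_of_nonneg ζ.2.le]
    · intro η hη
      have hpos' : 0 < a η := lt_of_le_of_ne (by
        simp only [a, Cyc.sheafFun]; split_ifs <;> omega) (left_ne_zero_of_mul hη).symm
      have hsp := (CycLib.specializes_of_secDivFun_ne_zero (right_ne_zero_of_mul hη)).1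
      refine Finset.mem_coe.2 (Finset.mem_map.2 ⟨⟨η, hpos'⟩, (hfin.image Sigma.fst).mem_toFinset.2
        ⟨⟨⟨η, hpos'⟩, ⟨0, show 0 < (a η).toNat by omega⟩⟩, specializes_iff_mem_closure.1 hsp, rfl⟩, rfl⟩)
    · intro j hj
      exact Finset.mem_coe.2 (Finset.mem_sigma.2 ⟨(hfin.image Sigma.fst).mem_toFinset.2
        ⟨j, specializes_iff_mem_closure.1 (CycLib.specializes_of_secDivFun_ne_zero hj).1, rfl⟩, Finset.mem_univ _⟩)
  exact key


end Groth.Agent.S6469
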