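import Groth.Statements.S6470
import Groth.Agent.ChiCycLib.Additive
import Groth.Agent.ChiCycLib.Vanish
import Groth.Agent.ChiCycLib.Points

set_option autoImplicit false
set_option backward.isDefEq.respectTransparency false
set_option linter.style.haveILetI false
universe u
open CategoryTheory CategoryTheory.Limits AlgebraicGeometry
attribute [local instance] HasDerivedCategory.standard
open IntMult

namespace Groth.Agent.S6470

open Groth.Agent Groth.Agent.ChiCycLib Groth.Agent.CycLib

/-- Let X be a nonsingular variety of dimension n and F, G coherent O_X-modules. Suppose the support of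
F has dimension at most r, the support of G has dimension at most s, and the two supports meet in a
set whose dimension does not exceed r + s − n. Then [F]_r and [G]_s intersect properly and [F]_r ·
[G]_s = Σ_p (−1)^p [Tor_p^{O_X}(F, G)]_{r+s−n}; the right side is written through stalks: its
coefficient at ζ with δ(ζ) = r + s − n is Σ_p (−1)^p length_{O_{X,ζ}} Tor_p^{O_{X,ζ}}(F_ζ, G_ζ)
(IntMult.chi), the stalk of the Tor sheaf being the Tor of the stalks. Support bounds are phrased
through nontrivial stalks. Here X is a nonsingular variety over the algebraically closed field K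
(smooth, separated, quasi-compact, integral) with dimension function δ (transcendence degree over K,
recorded by Cyc.DeltaCompat to Spec K with value 0, together with Cyc.IsSetup) and n = dim X = δ of
the generic point; cycles are coefficient functions X → ℤ, proper intersection is
IntMult.IntersectProperly and α · β is the Tor-formula intersection product on coefficient functions
(IntMult.interProd). -/
theorem result (K : Type u) [Field K] [IsAlgClosed K] (X : Scheme.{u}) (f : X ⟶ Spec (CommRingCat.of K)) [Smooth f] [IsSeparated f] [QuasiCompact f] [IsIntegral X] (δ : X → ℤ) (hX : Cyc.IsSetup X δ) (hδ : Cyc.DeltaCompat f δ (fun _ => 0)) (n : ℤ) (hn : δ (genericPoint X) = n) (F G : X.Modules) (hF : Coh.IsCoh F) (hG : Coh.IsCoh G) (r s : ℤ) (hr : ∀ x : X, Nontrivial (F.presheaf.stalk x) → δ x ≤ r) (hs : ∀ x : X, Nontrivial (G.presheaf.stalk x) → δ x ≤ s) (hrs : ∀ x : X, Nontrivial (F.presheaf.stalk x) → Nontrivial (G.presheaf.stalk x) → δ x ≤ r + s - n) : IntMult.IntersectProperly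 δ n (Cyc.sheafFun δ r F) (Cyc.sheafFun δ s G) ∧ ∀ ζ : X, IntMult.interProd δ n (Cyc.sheafFun δ r F) (Cyc.sheafFun δ s G) ζ = if δ ζ = r + s - n then IntMult.chi ↑(X.presheaf.stalk ζ) ↑(F.presheaf.stalk ζ) ↑(G.presheaf.stalk ζ) else 0 := by
  classical
  haveI := hX.1
  haveI := hF.1
  haveI := hG.1
  have hδ' := hX.2.2
  refine ⟨fun ξ η ζ hα hβ hξ hη => ?_, fun ζ => ?_⟩
  · obtain ⟨h1, h1'⟩ := sheafFun_ne_zero hα
    obtain ⟨h2, h2'⟩ := sheafFun_ne_zero hβ
    rw [h1, h2]
    exact hrs ζ (nontrivial_stalk_of_specializes hF hξ h1') (nontrivial_stalk_of_specializes hG hη h2')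
  by_cases hζ : δ ζ = r + s - n
  swap
  · rw [if_neg hζ]
    refine finsum_eq_zero_of_forall_eq_zero fun p => ?_
    by_contra hne
    obtain ⟨h1, -⟩ := sheafFun_ne_zero (left_ne_zero_of_mul (left_ne_zero_of_mul hne))
    obtain ⟨h2, -⟩ := sheafFun_ne_zero (right_ne_zero_of_mul (left_ne_zero_of_mul hne))
    have h3 := p.2.2.2
    omega
  rw [if_pos hζ]
  haveI := Groth.Agent.ASp.isRegularLocalRing_stalk_of_smooth_field f ζ
  haveI := finite_stalk hF ζ
  haveI := finite_stalk hG ζ
  obtain ⟨a, ha, -⟩ := dim_stalk f hδ ζ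
  let A := X.presheaf.stalk ζ
  let M := F.presheaf.stalk ζ
  let N := G.presheaf.stalk ζ
  let pt : PrimeSpectrum A → X := fun P => X.fromSpecStalk ζ P
  have hinj : Function.Injective pt := (X.fromSpecStalk ζ).isEmbedding.injective
  have hspec : ∀ P, pt P ⤳ ζ := fun P => fromSpecStalk_specializes P
  have hfinS : ∀ (H : X.Modules), Coh.IsCoh H → ∀ k : ℤ, (∀ x : X, Nontrivial (H.presheaf.stalk x) → δ x ≤ k) →
      {P : PrimeSpectrum A | δ (pt P) = k ∧ P ∈ Module.support A (H.presheaf.stalk ζ)}.Finite ∧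
        ∀ P : PrimeSpectrum A, δ (pt P) = k → ∀ Q ∈ Module.support A (H.presheaf.stalk ζ),
          Q.asIdeal ≤ P.asIdeal → Q = P := by
    intro H hH k hk
    haveI := hH.1
    haveI := finite_stalk hH ζ
    have hmin : ∀ P : PrimeSpectrum A, δ (pt P) = k → ∀ Q ∈ Module.support A (H.presheaf.stalk ζ),
        Q.asIdeal ≤ P.asIdeal → Q = P := fun P hP Q hQ hle => by
      by_contra hne
      have h1 := (hδ' (pt Q) (pt P) ((fromSpecStalk_specializes_iff Q P).2 hle) (hinj.ne hne)).1
      have h2 : δ (pt Q) ≤ k := hk _ ((mem_support_iff_nontrivial Q).1 hQ)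
      omega
    refine ⟨?_, hmin⟩
    let J := Module.annihilator A (H.presheaf.stalk ζ)
    haveI : Finite J.minimalPrimes := (Ideal.finite_minimalPrimes_of_isNoetherianRing _ J).to_subtype
    refine Set.Finite.subset ((Set.finite_range fun R : J.minimalPrimes =>
      (⟨R.1, R.2.1.1⟩ : PrimeSpectrum A))) fun P hP => ?_
    refine ⟨⟨P.asIdeal, ⟨P.2, Module.mem_support_iff_of_finite.1 hP.2⟩, fun R hR hRP => ?_⟩, rfl⟩
    exact (congrArg PrimeSpectrum.asIdeal (hmin P hP.1 ⟨R, hR.1⟩ (Module.mem_support_iff_of_finite.2 hR.2) hRP)).ge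
  obtain ⟨hfS, hSmin⟩ := hfinS F hF r hr
  obtain ⟨hfT, hTmin⟩ := hfinS G hG s hs
  let S := hfS.toFinset
  let T := hfT.toFinset
  have hSmem : ∀ {P}, P ∈ S ↔ δ (pt P) = r ∧ P ∈ Module.support A M := fun {P} => hfS.mem_toFinset
  have hTmem : ∀ {P}, P ∈ T ↔ δ (pt P) = s ∧ P ∈ Module.support A N := fun {P} => hfT.mem_toFinset
  have hFpt : ∀ {P : PrimeSpectrum A}, P ∈ Module.support A M → Nontrivial (F.presheaf.stalk (pt P)) :=
    fun {P} h => (mem_support_iff_nontrivial P).1 h
  have hGpt : ∀ {P : PrimeSpectrum A}, P ∈ Module.support A N → Nontrivial (G.presheaf.stalk (pt P)) :=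
    fun {P} h => (mem_support_iff_nontrivial P).1 h
  have hcommon : ∀ (x y t : X), Nontrivial (F.presheaf.stalk x) → Nontrivial (G.presheaf.stalk y) → x ⤳ t → y ⤳ t →
      t ⤳ ζ → t = ζ := fun x y t hx hy hxt hyt htz => by
    by_contra hne
    have h1 := hrs t (nontrivial_stalk_of_specializes hF hxt hx) (nontrivial_stalk_of_specializes hG hyt hy)
    have h2 := (hδ' t ζ htz hne).1
    omega
  have hmult : ∀ p q : PrimeSpectrum A, IntMult.mult (IntMult.ptIdeal (pt p)) (IntMult.ptIdeal (pt q)) ζ =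
      IntMult.chi A (A ⧸ p.asIdeal) (A ⧸ q.asIdeal) := fun p q => by
    rw [IntMult.mult, stalkIdeal_ptIdeal_fromSpecStalk p, stalkIdeal_ptIdeal_fromSpecStalk q,
      Groth.Agent.DiagRedLib.chi_comm]
  have hfinite : ∀ p ∈ Module.support A M, p ∈ Module.support A N → p.asIdeal.IsMaximal := fun p hp hq => by
    have h1 := hcommon _ _ (pt p) (hFpt hp) (hGpt hq) specializes_rfl specializes_rfl (hspec p)
    rw [show p = IsLocalRing.closedPoint A from hinj (h1.trans Scheme.fromSpecStalk_closedPoint.symm)]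
    exact IsLocalRing.maximalIdeal.isMaximal A
  have key := devissage_chi ha M N S T (fun p hp => (hSmem.1 hp).2) (fun p hp => (hTmem.1 hp).2)
    (fun p hp => hSmin p (hSmem.1 hp).1) (fun p hp => hTmin p (hTmem.1 hp).1) hfinite
    (fun p hp q hq hor => by
      rw [← hmult]
      refine mult_eq_zero f hδ _ _ ζ (hspec p) (hspec q) (fun t h1 h2 h3 => hcommon _ _ t (hFpt hp) (hGpt hq) h1 h2 h3) ?_
      have h1 := hr _ (hFpt hp)
      have h2 := hs _ (hGpt hq)
      rcases hor with h | h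
      · have : δ (pt p) ≠ r := fun e => h (hSmem.2 ⟨e, hp⟩)
        omega
      · have : δ (pt q) ≠ s := fun e => h (hTmem.2 ⟨e, hq⟩)
        omega)
  rw [key, ← Finset.sum_product']
  let ι : (S ×ˢ T : Finset _) → {p : X × X // p.1 ⤳ ζ ∧ p.2 ⤳ ζ ∧ δ p.1 + δ p.2 - n = δ ζ} := fun i =>
    ⟨(pt i.1.1, pt i.1.2), hspec _, hspec _, by
      obtain ⟨h1, h2⟩ := Finset.mem_product.1 i.2
      show δ (pt i.1.1) + δ (pt i.1.2) - n = δ ζ
      rw [(hSmem.1 h1).1, (hTmem.1 h2).1, hζ]⟩
  have hι : Function.Injective ι := fun i j h => by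
    have h' := congrArg Subtype.val h
    exact Subtype.ext (Prod.ext (hinj (congrArg Prod.fst h')) (hinj (congrArg Prod.snd h')))
  rw [IntMult.interProd, finsum_eq_sum_of_support_subset _ (s := (S ×ˢ T).attach.map ⟨ι, hι⟩) ?_, Finset.sum_map]
  · refine Eq.trans (Finset.sum_congr rfl fun i _ => ?_) (Finset.sum_attach (S ×ˢ T)
      (fun x => ChiCycLib.lp x.1 M * ChiCycLib.lp x.2 N * IntMult.chi A (A ⧸ x.1.asIdeal) (A ⧸ x.2.asIdeal)))
    obtain ⟨h1, h2⟩ := Finset.mem_product.1 i.2
    show Cyc.sheafFun δ r F (pt i.1.1) * Cyc.sheafFun δ s G (pt i.1.2) *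
      IntMult.mult (IntMult.ptIdeal (pt i.1.1)) (IntMult.ptIdeal (pt i.1.2)) ζ = _
    rw [hmult, Cyc.sheafFun, Cyc.sheafFun, if_pos (hSmem.1 h1).1, if_pos (hTmem.1 h2).1, ChiCycLib.lp, ChiCycLib.lp, length_localized_stalk,
      length_localized_stalk]
  · intro p hp
    obtain ⟨h1, h1'⟩ := sheafFun_ne_zero (left_ne_zero_of_mul (left_ne_zero_of_mul hp))
    obtain ⟨h2, h2'⟩ := sheafFun_ne_zero (right_ne_zero_of_mul (left_ne_zero_of_mul hp))
    obtain ⟨P, hP⟩ := exists_fromSpecStalk p.2.1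
    obtain ⟨Q, hQ⟩ := exists_fromSpecStalk p.2.2.1
    refine Finset.mem_coe.2 (Finset.mem_map.2 ⟨⟨(P, Q), Finset.mem_product.2 ⟨hSmem.2 ⟨?_, ?_⟩, hTmem.2 ⟨?_, ?_⟩⟩⟩,
      Finset.mem_attach _ _, Subtype.ext (Prod.ext hP hQ)⟩)
    · show δ (X.fromSpecStalk ζ P) = r
      rw [hP, h1]
    · exact (mem_support_iff_nontrivial P).2 (by rw [hP]; exact h1')
    · show δ (X.fromSpecStalk ζ Q) = s
      rw [hQ, h2]
    · exact (mem_support_iff_nontrivial Q).2 (by rw [hQ]; exact h2')

end Groth.Agent.S6470
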