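import Groth.Statements.S6471
import Groth.Agent.ChiCycLib.Pull
import Groth.Agent.CycLib.Shift

set_option autoImplicit false
set_option backward.isDefEq.respectTransparency false
set_option linter.style.haveILetI false
universe u
open CategoryTheory CategoryTheory.Limits AlgebraicGeometry
attribute [local instance] HasDerivedCategory.standard
open IntMult

namespace Groth.Agent.S6471

open Groth.Agent Groth.Agent.CycLib Groth.Agent.ChiCycLib

/-- For a flat morphism f : X → Y between nonsingular varieties, with e = dim X − dim Y (every fibre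
component has dimension e), and coherent O_Y-modules F, G whose supports have dimension at most r
and s and meet in dimension at most r + s − dim Y, the cycles of the pulled-back modules,
[f^*F]_{r+e} and [f^*G]_{s+e}, meet properly, and pulling back the product [F]_r · [G]_s along f
gives their product: f^*([F]_r · [G]_s) = [f^*F]_{r+e} · [f^*G]_{s+e}, coefficientwise (f^* on
cycles is Cyc.pullFun with relative dimension e, f^* on modules is Mathlib's
Scheme.Modules.pullback). Here X is a nonsingular variety over the algebraically closed field K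
(smooth, separated, quasi-compact, integral) with dimension function δ (transcendence degree over K,
recorded by Cyc.DeltaCompat to Spec K with value 0, together with Cyc.IsSetup) and n = dim X = δ of
the generic point; cycles are coefficient functions X → ℤ, proper intersection is
IntMult.IntersectProperly and α · β is the Tor-formula intersection product on coefficient functions
(IntMult.interProd). The same holds for Y with δY and m = dim Y. -/
theorem result (K : Type u) [Field K] [IsAlgClosed K] (X Y : Scheme.{u}) (f : X ⟶ Y) (gX : X ⟶ Spec (CommRingCat.of K)) (gY : Y ⟶ Spec (CommRingCat.of K)) (hf : f ≫ gY = gX) [Smooth gX] [IsSeparated gX] [QuasiCompact gX] [IsIntegral X] [Smooth gY] [IsSeparated gY] [QuasiCompact gY] [IsIntegral Y] [Flat f] (δX : X → ℤ) (δY : Y → ℤ) (hX : Cyc.IsSetup X δX) (hY : Cyc.IsSetup Y δY) (hδX : Cyc.DeltaCompat gX δX (fun _ => 0)) (hδY : Cyc.DeltaCompat gY δY (fun _ => 0)) (hδ : Cyc.DeltaCompat f δX δY) (n m : ℤ) (hn : δX (genericPoint X) = n) (hm : δY (genericPoint Y) = m) (e : ℕ) (he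 : (e : ℤ) = n - m) (hrel : Cyc.HasRelDim f e) (F G : Y.Modules) (hF : Coh.IsCoh F) (hG : Coh.IsCoh G) (r s : ℤ) (hr : ∀ y : Y, Nontrivial (F.presheaf.stalk y) → δY y ≤ r) (hs : ∀ y : Y, Nontrivial (G.presheaf.stalk y) → δY y ≤ s) (hrs : ∀ y : Y, Nontrivial (F.presheaf.stalk y) → Nontrivial (G.presheaf.stalk y) → δY y ≤ r + s - m) : IntMult.IntersectProperly δX n (Cyc.sheafFun δX (r + e) ((Scheme.Modules.pullback f).obj F)) (Cyc.sheafFun δX (s + e) ((Scheme.Modules.pullback f).obj G)) ∧ Cyc.pullFun f δX δY e (IntMult.interProd δY m (Cyc.sheafFun δY r F) (Cyc.sheafFun δY s G)) = IntMult.interProd δX n (Cyc.sheafFun δX (r + e) ((Scheme.Modules.pullback f).obj F)) (Cyc.sheafFun δX (s + e) ((Scheme.Modules.pullback f).obj G)) := by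
  subst hf
  haveI := hX.1
  haveI := hY.1
  haveI : LocallyOfFiniteType (f ≫ gY) := inferInstance
  haveI := locallyOfFiniteType_of_comp f gY
  have hsh := IsShift.of_relDim hX hY e hrel hδ
  have hfin : ∀ (H : Y.Modules), Coh.IsCoh H → ∀ k : ℤ, (∀ x : Y, Nontrivial (H.presheaf.stalk x) → δY x ≤ k) →
      ∀ y : Y, {p : PrimeSpectrum (Y.presheaf.stalk y) | Cyc.sheafFun δY k H (Y.fromSpecStalk y p) ≠ 0}.Finite := by
    intro H hH k hk y
    haveI := hH.1
    haveI := finite_stalk hH y
    let J := Module.annihilator (Y.presheaf.stalk y) (H.presheaf.stalk y)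
    haveI : Finite J.minimalPrimes := (Ideal.finite_minimalPrimes_of_isNoetherianRing _ J).to_subtype
    refine Set.Finite.subset ((Set.finite_range fun R : J.minimalPrimes =>
      (⟨R.1, R.2.1.1⟩ : PrimeSpectrum (Y.presheaf.stalk y)))) fun P hP => ?_
    obtain ⟨hPk, hPn⟩ := sheafFun_ne_zero hP
    refine ⟨⟨P.asIdeal, ⟨P.2, Module.mem_support_iff_of_finite.1 ((mem_support_iff_nontrivial P).2 hPn)⟩,
      fun R hR hRP => ?_⟩, rfl⟩
    by_contra hne
    let Q : PrimeSpectrum (Y.presheaf.stalk y) := ⟨R, hR.1⟩
    have h1 := hk _ ((mem_support_iff_nontrivial Q).1 (Module.mem_support_iff_of_finite.2 hR.2))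
    have hQne : Q ≠ P := fun h => hne (h ▸ le_refl Q.asIdeal)
    have h2 := (hY.2.2 _ _ ((fromSpecStalk_specializes_iff Q P).2 hRP)
      ((Y.fromSpecStalk y).isEmbedding.injective.ne hQne)).1
    omega
  have hprop : IntMult.IntersectProperly δY m (Cyc.sheafFun δY r F) (Cyc.sheafFun δY s G) := by
    intro ξ η ζ hα hβ hξ hη
    obtain ⟨h1, h1'⟩ := sheafFun_ne_zero hα
    obtain ⟨h2, h2'⟩ := sheafFun_ne_zero hβ
    rw [h1, h2]
    exact hrs ζ (nontrivial_stalk_of_specializes hF hξ h1') (nontrivial_stalk_of_specializes hG hη h2')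
  have key := ChiCycLib.pullFun_interProd f (f ≫ gY) gY hX.2.2 hY.2.2 hδX hn he hsh (r := r) (s := s)
    (Cyc.sheafFun δY r F) (Cyc.sheafFun δY s G) (fun y h => (sheafFun_ne_zero h).1) (fun y h => (sheafFun_ne_zero h).1)
    (hfin F hF r hr) (hfin G hG s hs) hprop
  rwa [(sheafFun_pullback hsh hX.2.2 hY.2.2 hF hr).2, (sheafFun_pullback hsh hX.2.2 hY.2.2 hG hs).2] at key

end Groth.Agent.S6471
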