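import Groth.Statements.S6472
import Groth.Agent.RatPtSmooth.Main
import Groth.Agent.S2768
import Groth.Agent.RegIdealLib.Immersion
-- import your own Groth.Agent.* helpers here

set_option autoImplicit false
universe u
open CategoryTheory CategoryTheory.Limits AlgebraicGeometry
open IntMult

namespace Groth.Agent.S6472

/-- Let X be a nonsingular variety of dimension n over the algebraically closed field K. Then Δ : X → X
×_K X, the diagonal, is regular of codimension n as an immersion (RegImm.IsRegularImmersionOfCodim
of kind regular: an immersion which, around every point, in an affine open where it is closed, is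
cut out by a regular sequence of length n). Nonsingular variety: X → Spec K smooth, separated,
quasi-compact, X integral; n = Krull dimension of X. -/
theorem result (K : Type u) [Field K] [IsAlgClosed K] (X : Scheme.{u}) (f : X ⟶ Spec (CommRingCat.of K)) [Smooth f] [IsSeparated f] [QuasiCompact f] [IsIntegral X] (n : ℕ) (hn : topologicalKrullDim X = n) : RegImm.IsRegularImmersionOfCodim RegImm.Kind.regular n (pullback.diagonal f) := by
  haveI := LocallyOfFiniteType.jacobsonSpace f
  haveI : Subsingleton ↥(Spec (CommRingCat.of K)) := inferInstanceAs (Subsingleton (PrimeSpectrum K))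
  have hK : topologicalKrullDim ↥(Spec (CommRingCat.of K)) = ((0 : ℕ) : WithBot ℕ∞) :=
    (PrimeSpectrum.topologicalKrullDim_eq_ringKrullDim (R := K)).trans (by rw [ringKrullDim_eq_zero_of_field]; rfl)
  haveI : SmoothOfRelativeDimension n f :=
    Groth.Agent.RatPtSmooth.smoothOfRelativeDimension_of_closedPoints f (𝟙 _) f (Category.comp_id f) hn hK n (Nat.add_zero n)
      fun x _ => by
        have hx : x ∈ f.smoothLocus := by rw [Scheme.Hom.smoothLocus_eq_top]; trivial
        exact hx
  haveI : SmoothOfRelativeDimension n (pullback.snd f f) :=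
    haveI := smoothOfRelativeDimension_isStableUnderBaseChange.{u} (n := n)
    MorphismProperty.pullback_snd (P := @SmoothOfRelativeDimension n) _ _ inferInstance
  let q := pullback.snd f f ≫ f
  haveI : SmoothOfRelativeDimension (n + n) q := smoothOfRelativeDimension_comp n n (pullback.snd f f) f
  haveI : Smooth q := SmoothOfRelativeDimension.smooth (n + n) q
  haveI : IsLocallyNoetherian (pullback f f) := LocallyOfFiniteType.isLocallyNoetherian q
  let Δ := pullback.diagonal f
  have hreg : RegImm.IsRegularImmersion RegImm.Kind.regular Δ := Groth.Agent.RegIdealLib.isRegularImmersion_of_regular Δ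
    (fun x => Groth.Agent.ASp.isRegularLocalRing_stalk_of_smooth_field q x)
    (fun z => Groth.Agent.ASp.isRegularLocalRing_stalk_of_smooth_field f z)
  refine ⟨hreg.1, fun z => ?_⟩
  obtain ⟨U, hzU, hc, rs, hrs, hker⟩ := hreg.2 z
  refine ⟨U, hzU, hc, rs, ?_, hrs, hker⟩
  obtain ⟨w, hwU, hw⟩ := nonempty_inter_closedPoints (Z := ((Δ ⁻¹ᵁ U.1 : X.Opens) : Set X)) ⟨z, hzU⟩
    (Δ ⁻¹ᵁ U.1).2.isLocallyClosed
  have hΔw : IsClosed ({Δ w} : Set ↥(pullback f f)) := by
    rw [← Set.image_singleton]
    exact (IsClosedImmersion.base_closed (f := Δ)).isClosedMap _ hw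
  let B := (pullback f f).presheaf.stalk (Δ w)
  letI : Algebra Γ(pullback f f, U.1) B := TopCat.Presheaf.algebra_section_stalk (pullback f f).presheaf ⟨Δ w, hwU⟩
  haveI := U.2.isLocalization_stalk ⟨Δ w, hwU⟩
  haveI : Module.Flat Γ(pullback f f, U.1) B := IsLocalization.flat _ (U.2.primeIdealOf ⟨Δ w, hwU⟩).asIdeal.primeCompl
  have hk : RingHom.ker (Δ.stalkMap w).hom = Ideal.ofList (rs.map (algebraMap Γ(pullback f f, U.1) B)) := by
    rw [Groth.Agent.RegIdealLib.ker_stalkMap Δ U.2 hc w hwU, hker, Ideal.map_ofList]
    rfl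
  have hrs' : RingTheory.Sequence.IsRegular B (rs.map (algebraMap Γ(pullback f f, U.1) B)) := by
    refine ⟨RingTheory.Sequence.IsWeaklyRegular.of_flat (S := B) (show RingTheory.Sequence.IsRegular Γ(pullback f f, U.1) rs from hrs).toIsWeaklyRegular, ?_⟩
    intro htop
    rw [← hk, smul_eq_mul, Ideal.mul_top] at htop
    exact RingHom.ker_ne_top (Δ.stalkMap w).hom htop.symm
  haveI : IsNoetherianRing B := inferInstance
  have h := ringKrullDim_add_length_eq_ringKrullDim_of_isRegular _ hrs'
  rw [List.length_map, ← hk, ringKrullDim_eq_of_ringEquiv (RingHom.quotientKerEquivOfSurjective (Δ.stalkMap_surjective w)),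
    ← Groth.Agent.DimFormulaLib.localDim_eq_of_isClosed q _ hΔw, ← Groth.Agent.DimFormulaLib.localDim_eq_of_isClosed f _ hw,
    Groth.Agent.S2768.localDim_eq (n + n) q, Groth.Agent.S2768.localDim_eq n f] at h
  have : n + rs.length = n + n := by exact_mod_cast h
  omega

end Groth.Agent.S6472
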