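import Groth.Statements.S6473
import Groth.Agent.DimFormulaLib.Field
import Groth.Agent.DimFormulaLib.FibrePoints
import Groth.Agent.GenIrredLib.EquidimQF
import Groth.Agent.FlatDim.Trdeg
import Groth.Agent.RelDivLib.ImmBC
import Groth.Agent.RegIdealLib.Immersion

set_option autoImplicit false
universe u
open CategoryTheory CategoryTheory.Limits AlgebraicGeometry
open IntMult

namespace Groth.Agent.S6473

/-- Let f : X → Y be a morphism of varieties over K which is a regular immersion of codimension c, and Z
⊂ Y a closed subvariety of dimension d. Then each irreducible component T of f⁻¹(Z) = X ×_Y Z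
satisfies dim T ≥ d − c; stated as d ≤ dim T + c. Varieties: integral, separated, of finite type
over the algebraically closed field K. (The published statement takes f to be a closed immersion,
regular immersions being closed there; this row allows any immersion cut out, locally on Y where it
is closed, by a regular sequence of length c, the bound being local on Y. The published statement
also has a second part, for local complete intersection morphisms of a given relative dimension,
which this row does not state.) -/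
theorem result (K : Type u) [Field K] [IsAlgClosed K] (X Y Z : Scheme.{u}) (gX : X ⟶ Spec (CommRingCat.of K)) (gY : Y ⟶ Spec (CommRingCat.of K)) [IsSeparated gX] [LocallyOfFiniteType gX] [QuasiCompact gX] [IsIntegral X] [IsSeparated gY] [LocallyOfFiniteType gY] [QuasiCompact gY] [IsIntegral Y] (f : X ⟶ Y) (hf : f ≫ gY = gX) (c : ℕ) (hreg : RegImm.IsRegularImmersionOfCodim RegImm.Kind.regular c f) (ι : Z ⟶ Y) [IsClosedImmersion ι] [IsIntegral Z] (d : ℕ) (hd : topologicalKrullDim Z = d) (T : Set ↥(pullback f ι)) (hT : T ∈ irreducibleComponents ↥(pullback f ι)) : ((d : ℕ) : WithBot ℕ∞) ≤ topologicalKrullDim ↥T + c := by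
  let P := pullback f ι
  let i' : P ⟶ Z := pullback.snd f ι
  haveI : IsImmersion f := hreg.1
  haveI : IsImmersion i' := MorphismProperty.pullback_snd f ι inferInstance
  haveI : LocallyOfFiniteType i' := inferInstance
  haveI : LocallyQuasiFinite i' := inferInstance
  let gZ : Z ⟶ Spec (CommRingCat.of K) := ι ≫ gY
  have hTc : IsClosed T := isClosed_of_mem_irreducibleComponents T hT
  obtain ⟨t, ht⟩ := QuasiSober.sober hT.1 hTc
  have htT : closure ({t} : Set P) = T := ht.def
  have hmax : ∀ w : P, w ⤳ t → w = t := fun w hw => by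
    have h1 : T ⊆ closure ({w} : Set P) := by
      rw [← htT]; exact closure_minimal (Set.singleton_subset_iff.2 (specializes_iff_mem_closure.1 hw)) isClosed_closure
    have h2 : closure ({w} : Set P) ⊆ T := hT.2 isIrreducible_singleton.closure h1
    exact (hw.antisymm (ht.specializes (h2 (subset_closure rfl)))).eq
  obtain ⟨a, s, ha, hs, hloc, -⟩ := Groth.Agent.DimFormulaLib.field_dims gZ (i' t)
  obtain ⟨-, s', -, hs', -, hh'⟩ := Groth.Agent.DimFormulaLib.field_dims (i' ≫ gZ) t
  have hss : s' = s := by
    rw [Groth.Agent.FlatDim.resTrdegAt_comp, Groth.Agent.GenIrredLib.resTrdegAt_locallyQuasiFinite i', add_zero, hs] at hs'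
    exact_mod_cast hs'.symm
  subst hss
  have hdimT : topologicalKrullDim ↥T = (s' : WithBot ℕ∞) := by
    rw [← htT, Groth.Agent.DimFormulaLib.topologicalKrullDim_closure_singleton, hh']
    rfl
  -- the dimension of the ambient local ring
  obtain ⟨U, hzU, hc, rs, hlen, -, hker⟩ := hreg.2 (pullback.fst f ι t)
  have hιt : ι (i' t) = f (pullback.fst f ι t) := by
    rw [← Scheme.Hom.comp_apply, ← Scheme.Hom.comp_apply, pullback.condition]
  have hV : IsAffineOpen (ι ⁻¹ᵁ U.1) := U.2.preimage ι
  have hzV : i' t ∈ ι ⁻¹ᵁ U.1 := show ι (i' t) ∈ U.1 by rw [hιt]; exact hzU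
  obtain ⟨hc', hk'⟩ := Groth.Agent.RelDivLib.closed_and_ker_pullback (IsPullback.of_hasPullback f ι) U.2 hc hV le_rfl
  let O := Z.presheaf.stalk (i' t)
  let ρ : Γ(Y, U.1) →+* O := (Z.presheaf.germ (ι ⁻¹ᵁ U.1) (i' t) hzV).hom.comp (ι.appLE U.1 (ι ⁻¹ᵁ U.1) le_rfl).hom
  have hkerO : RingHom.ker (i'.stalkMap t).hom = Ideal.ofList (rs.map ρ) := by
    rw [Groth.Agent.RegIdealLib.ker_stalkMap i' hV hc' t hzV, hk', hker, Ideal.map_map, Ideal.map_ofList]
  haveI : IsLocallyNoetherian Z := LocallyOfFiniteType.isLocallyNoetherian gZ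
  haveI : IsLocallyNoetherian P := LocallyOfFiniteType.isLocallyNoetherian (i' ≫ gZ)
  have hdim0 : Ring.KrullDimLE 0 (P.presheaf.stalk t) := by
    refine Ring.krullDimLE_iff.2 (le_of_eq ?_)
    rw [AlgebraicGeometry.ringKrullDim_stalk_eq_coheight]
    have h0 : Order.coheight t = 0 := Order.coheight_eq_zero.2 fun w hw => (hmax w (Scheme.le_iff_specializes.1 hw)).le
    rw [h0]
    rfl
  have hmin : IsLocalRing.maximalIdeal O ∈ (RingHom.ker (i'.stalkMap t).hom).minimalPrimes := by
    refine ⟨⟨inferInstance, IsLocalRing.le_maximalIdeal (RingHom.ker_ne_top _)⟩, fun p hp _ => ?_⟩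
    haveI := hp.1
    haveI : (p.map (i'.stalkMap t).hom).IsPrime :=
      Ideal.map_isPrime_of_surjective (i'.stalkMap_surjective t) hp.2
    have hmx : (p.map (i'.stalkMap t).hom).IsMaximal := Ideal.isMaximal_of_isPrime _
    have hcm := Ideal.comap_map_of_surjective (i'.stalkMap t).hom (i'.stalkMap_surjective t) p
    rw [← RingHom.ker_eq_comap_bot, sup_eq_left.2 hp.2] at hcm
    rw [← hcm]
    haveI := hmx
    exact (IsLocalRing.eq_maximalIdeal (Ideal.comap_isMaximal_of_surjective _ (i'.stalkMap_surjective t))).ge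
  have hac : (a : ℕ∞) ≤ c := by
    have h1 := Ideal.height_le_spanRank_toENat_of_mem_minimalPrimes _ _ hmin
    have h2 : (Ideal.ofList (rs.map ρ)).spanRank ≤ (c : Cardinal) := by
      refine (Submodule.spanRank_span_le_card _).trans ?_
      classical
      refine le_trans ?_ (Nat.cast_le.2 (((rs.map ρ).toFinset_card_le).trans (le_of_eq ((List.length_map _).trans hlen))))
      refine le_trans (Cardinal.mk_le_mk_of_subset (fun r hr => List.mem_toFinset.2 hr)) ?_
      exact le_of_eq (Cardinal.mk_coe_finset)
    rw [hkerO] at h1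
    have h3 := h1.trans (Cardinal.toENat.monotone' h2)
    have hc0 : Cardinal.toENat (c : Cardinal.{u}) = (c : ℕ∞) := Cardinal.toENat_nat c
    replace h3 := h3.trans (le_of_eq hc0)
    have h4 := IsLocalRing.maximalIdeal_height_eq_ringKrullDim (R := O)
    rw [ha] at h4
    have h5 : (IsLocalRing.maximalIdeal O).height = (a : ℕ∞) := by exact_mod_cast h4
    rwa [← h5]
  have hda : (d : WithBot ℕ∞) ≤ ((a + s' : ℕ) : WithBot ℕ∞) := by
    rw [← hloc, ← hd]
    refine le_iInf fun W => ?_
    exact (Groth.Agent.DimFormulaLib.topologicalKrullDim_opens gZ W.1 ⟨_, W.2⟩).ge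
  have ha' : a ≤ c := by exact_mod_cast hac
  rw [hdimT]
  have : d ≤ a + s' := by exact_mod_cast hda
  exact_mod_cast (show d ≤ s' + c by omega)

end Groth.Agent.S6473
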