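import Groth.Statements.S6475
import Groth.Agent.CycLib.IntChain
import Groth.Agent.S1899


set_option autoImplicit false
universe u
open CategoryTheory AlgebraicGeometry
open Cyc

namespace Groth.Agent.S6475

open CategoryTheory CategoryTheory.Limits AlgebraicGeometry

open Groth.Agent

/-- Let X be proper over a field k, Z ⊂ X a closed subscheme of dimension d and L_1, …, L_d invertible
O_X-modules. Then the intersection number (L_1 ⋯ L_d · Z) equals deg(c_1(L_1) ∩ … ∩ c_1(L_d) ∩
[Z]_d). The left side is FGA.intNum (alternating sum of Euler characteristics of (⊗_{i∈I} M_i) ⊗ O_Z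
with M_i inverse to L_i, which is the number defined through the numerical polynomial); the right
side iterates Cyc.c1CapFun with any nonzero rational sections starting from [Z]_d and takes
ChowOps.deg of the resulting 0-cycle. Dimension function: transcendence degree over k. The caps are
applied starting with L_1 (innermost), the reverse of the displayed order; the degree does not
depend on the order. (The published statement also gives deg_L(Z) = deg(c_1(L)^d ∩ [Z]_d) for an
ample L, the case L_1 = … = L_d = L; this row does not restate it.) -/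
theorem result (k : Type u) [Field k] (X : Scheme.{u}) [X.Over (Spec (CommRingCat.of k))] [IsProper (X ↘ Spec (CommRingCat.of k))] (δ : X → ℤ) (hX : Cyc.IsSetup X δ) (hδ : Cyc.DeltaCompat (X ↘ Spec (CommRingCat.of k)) δ (fun _ => 0)) (Z : Scheme.{u}) (ι : Z ⟶ X) [IsClosedImmersion ι] (d : ℕ) (hd : topologicalKrullDim Z = d) (L M : Fin d → X.Modules) (hL : ∀ i, PicF.IsInvertible (L i)) (hM : ∀ i, Nonempty (CohB1.tensorMod (M i) (L i) ≅ Coh.structureModule X)) (s : (i : Fin d) → (ξ : X) → Cyc.secFibre (L i) ξ) (hs : ∀ i ξ, s i ξ ≠ 0) (γ : ℕ → X → ℤ) (hγ0 : γ 0 = Cyc.subschemeFun δ d ι) (hγs : ∀ (i : ℕ) (h : i < d), γ (i + 1) = Cyc.c1CapFun δ (L ⟨i, h⟩) (γ i) (s ⟨i, h⟩)) (α : AlgebraicCycle X ℤ) (hα : ⇑α = γ d) : FGA.intNum k X d M ((Coh.push ι).obj (Coh.structureModule Z)) = ChowOps.deg (X ↘ Spec (CommRingCat.of k)) δ α := by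
  classical
  haveI := EulerIneqLib.isNoetherian_proper (X := X) k
  have hMi : ∀ i, PicF.IsInvertible (M i) := fun i => (hM i).elim fun e => AmpleLib.isInvertible_of_tensor_iso e
  have hF : Coh.IsCoh ((Coh.push ι).obj (Coh.structureModule Z)) := by
    haveI := CycLib.isLocallyNoetherian_closed ι
    exact DevLib.isCoh_pushforward_closed ι (DevLib.isCoh_structureModule Z)
  have hdr : topologicalKrullDim (Set.range ι) ≤ (d : WithBot ℕ∞) :=
    (ι.isEmbedding.toHomeomorph.symm.isEmbedding.isInducing.topologicalKrullDim_le).trans hd.le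
  have hsupp : CohB1.support ((Coh.push ι).obj (Coh.structureModule Z)) ⊆ Set.range ι :=
    IntLib.support_pushforward_subset ι _
  have hdF : topologicalKrullDim (CohB1.support ((Coh.push ι).obj (Coh.structureModule Z))) ≤ (d : WithBot ℕ∞) :=
    (Topology.IsEmbedding.inclusion hsupp).isInducing.topologicalKrullDim_le.trans hdr
  have hdim : ∀ z : Z, δ (ι z) ≤ (d : ℤ) := fun z => by
    obtain ⟨t, ht, htd⟩ := CycLib.delta_dim k δ hδ (ι z)
    have h1 : topologicalKrullDim (closure ({ι z} : Set X)) ≤ (d : WithBot ℕ∞) :=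
      (Topology.IsEmbedding.inclusion (closure_minimal (Set.singleton_subset_iff.2 (Set.mem_range_self z))
        ι.isClosedEmbedding.isClosed_range)).isInducing.topologicalKrullDim_le.trans hdr
    rw [htd] at h1
    rw [ht]
    exact_mod_cast h1
  have hγ : γ 0 = Cyc.sheafFun δ d ((Coh.push ι).obj (Coh.structureModule Z)) :=
    hγ0.trans (Groth.Agent.S1899.result X Z δ hX ι d hdim)
  have hfin : (Function.support (γ 0)).Finite := by
    refine (DegDevLib.finite_top_points (DevLib.isClosed_support hF) hdF).subset fun x hx => ?_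
    rw [Function.mem_support, hγ, Cyc.sheafFun] at hx
    split_ifs at hx with h2
    · refine ⟨fun hsub => hx ?_, CycLib.dim_closure_eq k hδ x h2⟩
      haveI : Subsingleton (((Coh.push ι).obj (Coh.structureModule Z)).presheaf.stalk x) := hsub
      simp [Module.length_eq_zero]
    · exact absurd rfl hx
  obtain ⟨hfd, hdd, he⟩ := CycLib.pairing_chain k hδ d L M hL hMi hM s hs γ hfin (fun ξ hξ => by
    by_contra h
    exact hξ (by rw [hγ, Cyc.sheafFun, if_neg h])) hγs
  rw [CycLib.intNum_eq_pairing k hF hdF M hMi, (CycLib.pairing_eq_finsum k hδ M hMi hF hdF).2, ← hγ, he]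
  rw [← hα] at hfd hdd ⊢
  change _ = ∑ᶠ x ∈ (X ↘ Spec (CommRingCat.of k)) ⁻¹' {IsLocalRing.closedPoint k},
    α x * (AlgebraicCycle.mapCoeff (X ↘ Spec (CommRingCat.of k)) δ (fun _ => (0 : ℤ)) x : ℤ)
  rw [show (X ↘ Spec (CommRingCat.of k)) ⁻¹' {IsLocalRing.closedPoint k} = Set.univ from
    Set.eq_univ_of_forall fun x => Subsingleton.elim (α := PrimeSpectrum k) _ _, finsum_mem_univ]
  refine finsum_congr fun x => ?_
  by_cases hx : α x = 0
  · rw [hx, zero_mul, zero_mul]
  · rw [CycLib.pairing_compMod_one k hδ (hdd x hx), AlgebraicCycle.mapCoeff, if_pos (hdd x hx)]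

end Groth.Agent.S6475
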