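import Groth.Statements.S6476
import Groth.Agent.S16234

set_option autoImplicit false
universe u v
open CycAlg

namespace Groth.Agent.S6476

section

variable {A : Type u} [CommRing A] [IsNoetherianRing A] [IsLocalRing A] {M : Type v} [AddCommGroup M] [Module A M] [Module.Finite A M]

theorem finiteLength_coker (hdim : Module.supportDim A M = 1) (f : M →ₗ[A] M) (hf : Function.Injective f) :
    IsFiniteLength A (M ⧸ LinearMap.range f) := by
  refine (Groth.Agent.S16234.result A _).1 fun p hp => ?_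
  by_contra hmax
  refine hp |> fun h => (Module.notMem_support_iff'.2 ?_) h
  intro n
  obtain ⟨x, rfl⟩ := Submodule.mkQ_surjective _ n
  let S := p.asIdeal.primeCompl
  have hpm : p.asIdeal < IsLocalRing.maximalIdeal A :=
    lt_of_le_of_ne (IsLocalRing.le_maximalIdeal p.isPrime.ne_top)
      fun e => hmax (e ▸ IsLocalRing.maximalIdeal.isMaximal A)
  have hfin : IsFiniteLength (Localization.AtPrime p.asIdeal) (LocalizedModule S M) := by
    refine (Groth.Agent.S16234.result _ _).1 fun Q hQ => ?_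
    by_contra hQm
    obtain ⟨z, hz⟩ := Module.mem_support_iff'.1 hQ
    obtain ⟨⟨y, s⟩, rfl⟩ := IsLocalizedModule.mk'_surjective S (LocalizedModule.mkLinearMap S M) z
    let q : PrimeSpectrum A := PrimeSpectrum.comap (algebraMap A (Localization.AtPrime p.asIdeal)) Q
    have hq : q ∈ Module.support A M := by
      refine Module.mem_support_iff'.2 ⟨y, fun r hr hry => hz (algebraMap A _ r) hr ?_⟩
      simp only [Function.uncurry_apply_pair, algebraMap_smul]
      rw [← IsLocalizedModule.mk'_smul, hry, IsLocalizedModule.mk'_zero]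
    have hqp : q.asIdeal < p.asIdeal := by
      refine lt_of_le_of_ne (fun r hr => ?_) fun e => hQm ?_
      · have h1 : algebraMap A (Localization.AtPrime p.asIdeal) r ∈ IsLocalRing.maximalIdeal _ :=
          IsLocalRing.le_maximalIdeal Q.isPrime.ne_top hr
        rwa [IsLocalization.AtPrime.to_map_mem_maximal_iff (Localization.AtPrime p.asIdeal) p.asIdeal r] at h1
      · have : Q.asIdeal = IsLocalRing.maximalIdeal (Localization.AtPrime p.asIdeal) := by
          rw [← IsLocalization.map_comap S (Localization.AtPrime p.asIdeal) Q.asIdeal,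
            ← IsLocalization.map_comap S (Localization.AtPrime p.asIdeal) (IsLocalRing.maximalIdeal (Localization.AtPrime p.asIdeal)),
            IsLocalization.AtPrime.under_maximalIdeal (Localization.AtPrime p.asIdeal) p.asIdeal]
          exact congrArg _ e
        rw [this]
        exact IsLocalRing.maximalIdeal.isMaximal _
    have hp' : p ∈ Module.support A M := Module.mem_support_mono hqp.le hq
    have hm' : IsLocalRing.closedPoint A ∈ Module.support A M := Module.mem_support_mono hpm.le hp'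
    let l : LTSeries (Module.support A M) := LTSeries.mk 2 ![⟨q, hq⟩, ⟨p, hp'⟩, ⟨IsLocalRing.closedPoint A, hm'⟩]
      (Fin.strictMono_iff_lt_succ.2 fun i => by
        fin_cases i
        · exact Subtype.mk_lt_mk.2 hqp
        · exact Subtype.mk_lt_mk.2 hpm)
    have h2 := Order.LTSeries.length_le_krullDim l
    rw [show Order.krullDim (Module.support A M) = 1 from hdim] at h2
    have : l.length = 2 := rfl
    rw [this] at h2
    exact absurd h2 (by norm_cast)
  obtain ⟨-, hart⟩ := isFiniteLength_iff_isNoetherian_isArtinian.1 hfin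
  let F := LinearMap.extendScalarsOfIsLocalization S (Localization.AtPrime p.asIdeal)
    (IsLocalizedModule.map S (LocalizedModule.mkLinearMap S M) (LocalizedModule.mkLinearMap S M) f)
  have hF : Function.Injective F := IsLocalizedModule.map_injective S _ _ f hf
  obtain ⟨z, hz⟩ := IsArtinian.surjective_of_injective_endomorphism F hF (LocalizedModule.mkLinearMap S M x)
  obtain ⟨⟨y, s⟩, rfl⟩ := IsLocalizedModule.mk'_surjective S (LocalizedModule.mkLinearMap S M) z
  have h' : IsLocalizedModule.mk' (LocalizedModule.mkLinearMap S M) (f y) s =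
      IsLocalizedModule.mk' (LocalizedModule.mkLinearMap S M) x (1 : S) := by
    rw [IsLocalizedModule.mk'_one, ← IsLocalizedModule.map_mk' S (LocalizedModule.mkLinearMap S M) (LocalizedModule.mkLinearMap S M)]
    exact hz
  obtain ⟨t, ht⟩ := (IsLocalizedModule.mk'_eq_mk'_iff (LocalizedModule.mkLinearMap S M) _ _ _ _).1 h'
  have ht' : (t : A) • (f y) = ((t : A) * (s : A)) • x ∨ ((t : A) * (s : A)) • x = (t : A) • (f y) := by
    simp only [Submonoid.smul_def, one_smul, mul_smul] at ht ⊢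
    first | exact Or.inl ht | exact Or.inr ht | exact Or.inl ht.symm
  refine ⟨(t : A) * (s : A), ?_, ?_⟩
  · exact (t * s).2
  · show ((t : A) * (s : A)) • Submodule.mkQ _ x = 0
    rw [← map_smul, Submodule.mkQ_apply, Submodule.Quotient.mk_eq_zero]
    rcases ht' with e | e
    · rw [← e]; exact ⟨(t : A) • y, map_smul f _ _⟩
    · rw [e]; exact ⟨(t : A) • y, map_smul f _ _⟩

end

/-- Let A be a Noetherian local ring, M a finite A-module of dimension 1, and φ, ψ : M → M injective
with φ(ψ(M)) = ψ(φ(M)) (e.g. φ, ψ commute). Then length_A(M/φψM) is finite and (M/φψM, φ, ψ) is an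
exact (2, 1)-periodic complex; here φ', ψ' denote the endomorphisms of M/φψM induced by φ and ψ, and
exactness says both cohomology modules (CycAlg.perH) are trivial. -/
theorem result {A : Type u} [CommRing A] [IsNoetherianRing A] [IsLocalRing A] {M : Type v} [AddCommGroup M] [Module A M] [Module.Finite A M] (hdim : Module.supportDim A M = 1) (φ ψ : M →ₗ[A] M) (hφ : Function.Injective φ) (hψ : Function.Injective ψ) (hcomm : Submodule.map φ (LinearMap.range ψ) = Submodule.map ψ (LinearMap.range φ)) (φ' ψ' : (M ⧸ LinearMap.range (φ ∘ₗ ψ)) →ₗ[A] (M ⧸ LinearMap.range (φ ∘ₗ ψ))) (hφ' : φ' ∘ₗ (LinearMap.range (φ ∘ₗ ψ)).mkQ = (LinearMap.range (φ ∘ₗ ψ)).mkQ ∘ₗ φ) (hψ' : ψ' ∘ₗ (LinearMap.range (φ ∘ₗ ψ)).mkQ = (LinearMap.range (φ ∘ₗ ψ)).mkQ ∘ₗ ψ) : Module.length A (M ⧸ LinearMap.range (φ ∘ₗ ψ)) < ⊤ ∧ CycAlg.IsPeriodic φ' ψ' ∧ Subsingleton (CycAlg.perH φ' ψ') ∧ Subsingleton (CycAlg.perH ψ' φ') := by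
  have hr : LinearMap.range (ψ ∘ₗ φ) = LinearMap.range (φ ∘ₗ ψ) := by
    rw [LinearMap.range_comp, LinearMap.range_comp, hcomm]
  refine ⟨?_, ⟨?_, ?_⟩, ?_, ?_⟩
  · exact Module.length_ne_top_iff.2 (finiteLength_coker hdim (φ ∘ₗ ψ) (hφ.comp hψ)) |>.lt_top
  · refine LinearMap.ext fun z => ?_
    obtain ⟨x, rfl⟩ := Submodule.mkQ_surjective _ z
    show φ' (ψ' ((LinearMap.range (φ ∘ₗ ψ)).mkQ x)) = 0
    rw [show ψ' ((LinearMap.range (φ ∘ₗ ψ)).mkQ x) = _ from LinearMap.congr_fun hψ' x]
    erw [show φ' ((LinearMap.range (φ ∘ₗ ψ)).mkQ (ψ x)) = _ from LinearMap.congr_fun hφ' (ψ x)]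
    exact (Submodule.Quotient.mk_eq_zero _).2 ⟨x, rfl⟩
  · refine LinearMap.ext fun z => ?_
    obtain ⟨x, rfl⟩ := Submodule.mkQ_surjective _ z
    show ψ' (φ' ((LinearMap.range (φ ∘ₗ ψ)).mkQ x)) = 0
    rw [show φ' ((LinearMap.range (φ ∘ₗ ψ)).mkQ x) = _ from LinearMap.congr_fun hφ' x]
    erw [show ψ' ((LinearMap.range (φ ∘ₗ ψ)).mkQ (φ x)) = _ from LinearMap.congr_fun hψ' (φ x)]
    exact (Submodule.Quotient.mk_eq_zero _).2 (hr ▸ ⟨x, rfl⟩)
  · rw [Submodule.Quotient.subsingleton_iff, eq_top_iff]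
    rintro ⟨z, hz⟩ -
    obtain ⟨x, rfl⟩ := Submodule.mkQ_surjective _ z
    have h0 : (LinearMap.range (φ ∘ₗ ψ)).mkQ (φ x) = 0 := (LinearMap.congr_fun hφ' x).symm.trans hz
    obtain ⟨y, hy⟩ := (Submodule.Quotient.mk_eq_zero _).1 h0
    obtain rfl : ψ y = x := hφ hy
    exact ⟨(LinearMap.range (φ ∘ₗ ψ)).mkQ y, LinearMap.congr_fun hψ' y⟩
  · rw [Submodule.Quotient.subsingleton_iff, eq_top_iff]
    rintro ⟨z, hz⟩ -
    obtain ⟨x, rfl⟩ := Submodule.mkQ_surjective _ z
    have h0 : (LinearMap.range (φ ∘ₗ ψ)).mkQ (ψ x) = 0 := (LinearMap.congr_fun hψ' x).symm.trans hz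
    obtain ⟨y, hy⟩ := hr.symm ▸ (Submodule.Quotient.mk_eq_zero _).1 h0
    obtain rfl : φ y = x := hψ hy
    exact ⟨(LinearMap.range (φ ∘ₗ ψ)).mkQ y, LinearMap.congr_fun hφ' y⟩

end Groth.Agent.S6476
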