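import Groth.Statements.S6480
import Groth.Agent.S1833
import Groth.Agent.S1852
import Groth.Agent.KeyLemmaLib.Local

set_option autoImplicit false
universe u
open CycAlg IsLocalRing nonZeroDivisors
open scoped Pointwise

namespace Groth.Agent.S6480

/-- Index of a submodule contained in the image of an injective endomorphism. -/
theorem length_quot_split {A : Type u} [CommRing A] {M : Type u} [AddCommGroup M] [Module A M]
    (f : M →ₗ[A] M) (hf : Function.Injective f) (N : Submodule A M) (hN : N ≤ LinearMap.range f) :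
    Module.length A (M ⧸ N) =
      Module.length A (M ⧸ N.comap f) + Module.length A (M ⧸ LinearMap.range f) := by
  refine Module.length_eq_add_of_exact (Submodule.mapQ (N.comap f) N f le_rfl) (Submodule.factor hN) ?_
    (Submodule.factor_surjective _) ?_
  · refine (injective_iff_map_eq_zero _).2 fun z hz => ?_
    obtain ⟨x, rfl⟩ := Submodule.Quotient.mk_surjective _ z
    rw [Submodule.mapQ_apply, Submodule.Quotient.mk_eq_zero] at hz
    exact (Submodule.Quotient.mk_eq_zero _).2 hz
  · intro z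
    obtain ⟨x, rfl⟩ := Submodule.Quotient.mk_surjective _ z
    constructor
    · intro hz
      obtain ⟨y, rfl⟩ := (Submodule.Quotient.mk_eq_zero (LinearMap.range f)).1 hz
      exact ⟨Submodule.Quotient.mk y, rfl⟩
    · rintro ⟨w, hw⟩
      obtain ⟨y, rfl⟩ := Submodule.Quotient.mk_surjective _ w
      rw [← hw]
      exact (Submodule.Quotient.mk_eq_zero (LinearMap.range f)).2 ⟨y, rfl⟩

/-- Let A be a Noetherian local ring of dimension 1, a, b ∈ A nonzerodivisors, A without embedded
primes, M a finite A-module without embedded associated primes and with Supp(M) = Spec(A). Put I =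
{x ∈ A | x·(a/b) ∈ A}, and write 𝔮_1, …, 𝔮_t for the minimal prime ideals of A. The conclusion is
that M contains (a/b)IM, and that the difference length_A(M/(a/b)IM) minus length_A(M/IM) equals the
sum over i of length_{A_{𝔮_i}}(M_{𝔮_i}) multiplied by ord_{A/𝔮_i}(a/b). Encoding: I is the ideal
quotient (bA : aA); '(a/b)IM ⊂ M' is aIM ⊆ bM; (a/b)IM is the submodule of m with bm ∈ aIM (b acts
injectively on M); ord_{A/𝔮}(a/b) is CycAlg.ordFrac on κ(𝔮) = Frac(A/𝔮); lengths are truncated to ℕ
(they are finite here). -/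
theorem result {A : Type u} [CommRing A] [IsNoetherianRing A] [IsLocalRing A] (hA : ringKrullDim A = 1) {M : Type u} [AddCommGroup M] [Module A M] [Module.Finite A M] (a b : A) (ha : a ∈ nonZeroDivisors A) (hb : b ∈ nonZeroDivisors A) (hAemb : ∀ p ∈ associatedPrimes A A, p ∈ minimalPrimes A) (hMemb : ∀ p ∈ associatedPrimes A M, p ∈ minimalPrimes A) (hsupp : Module.support A M = Set.univ) (I : Ideal A) (hI : I = (Ideal.span {b}).colon (Ideal.span {a})) (P : Submodule A M) (hP : P = Submodule.comap (LinearMap.lsmul A M b) ((Ideal.span {a} * I) • (⊤ : Submodule A M))) : (Ideal.span {a} * I) • (⊤ : Submodule A M) ≤ LinearMap.range (LinearMap.lsmul A M b) ∧ ((Module.length A (M ⧸ P)).toNat : ℤ) - ((Module.length A (M ⧸ I • (⊤ : Submodule A M))).toNat : ℤ) = ∑ᶠ (q : PrimeSpectrum A) (_ : q.asIdeal ∈ minimalPrimes A), ((Module.length (Localization.AtPrime q.asIdeal) (LocalizedModule q.asIdeal.primeCompl M)).toNat : ℤ) * CycAlg.ordFrac (A ⧸ q.asIdeal) q.asIdeal.ResidueField (algebraMap A q.asIdeal.ResidueField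 a / algebraMap A q.asIdeal.ResidueField b) := by
  classical
  haveI : Ring.KrullDimLE 1 A := Ring.krullDimLE_iff.2 hA.le
  have hnm : ∀ q ∈ minimalPrimes A, q ≠ maximalIdeal A := fun q hq h => by
    haveI := hq.1.1
    have h1 := IsLocalRing.maximalIdeal_height_eq_ringKrullDim (R := A)
    rw [hA, ← h, (Ideal.height_eq_zero_iff (I := q)).2 hq] at h1
    exact absurd h1 (by norm_cast)
  have hmin : ∀ q : PrimeSpectrum A, q.asIdeal ≠ maximalIdeal A → q.asIdeal ∈ minimalPrimes A := fun q hq => by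
    have hlt : q.asIdeal < maximalIdeal A := lt_of_le_of_ne (le_maximalIdeal q.isPrime.ne_top) hq
    have h := Ideal.height_strict_mono_of_isPrime hlt
    have h1 : (maximalIdeal A).height = 1 := by
      have h2 := IsLocalRing.maximalIdeal_height_eq_ringKrullDim (R := A)
      rw [hA] at h2
      exact WithBot.coe_inj.1 h2
    rw [h1, Order.lt_one_iff, Ideal.height_eq_zero_iff] at h
    exact h
  have hnot : ∀ {x : A}, x ∈ A⁰ → ∀ q ∈ minimalPrimes A, x ∉ q := fun hx q hq h =>
    Set.disjoint_left.1 (Ideal.disjoint_nonZeroDivisors_of_mem_minimalPrimes hq) h hx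
  have hinjM : ∀ {x : A}, x ∈ A⁰ → Function.Injective (LinearMap.lsmul A M x) := fun {x} hx =>
    (injective_iff_map_eq_zero _).2 fun z hz => by
      by_contra hz0
      have h1 : x ∈ {r : A | ∃ w : M, w ≠ 0 ∧ r • w = 0} := ⟨z, hz0, hz⟩
      rw [← biUnion_associatedPrimes_eq_zero_divisors] at h1
      simp only [Set.mem_iUnion, SetLike.mem_coe, exists_prop] at h1
      obtain ⟨p, hp, hxp⟩ := h1
      exact hnot hx p (hMemb p hp) hxp
  have hfinT : {q : PrimeSpectrum A | q.asIdeal ∈ minimalPrimes A}.Finite :=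
    (minimalPrimes.finite_of_isNoetherianRing A).preimage fun p _ q _ h => PrimeSpectrum.ext h
  let T := hfinT.toFinset
  have hT : ∀ q, q ∈ T ↔ q.asIdeal ∈ minimalPrimes A := fun q => hfinT.mem_toFinset
  haveI hdq : ∀ q : PrimeSpectrum A, Ring.KrullDimLE 1 (A ⧸ q.asIdeal) := fun q =>
    Ring.krullDimLE_iff.2 ((ringKrullDim_quotient_le q.asIdeal).trans hA.le)
  have hord : ∀ {x : A}, x ∈ A⁰ → ∀ q ∈ T, Ideal.Quotient.mk q.asIdeal x ≠ 0 := fun hx q hq h =>
    hnot hx _ ((hT q).1 hq) (Ideal.Quotient.eq_zero_iff_mem.1 h)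
  have hlq : ∀ q ∈ T, Module.length (Localization.AtPrime q.asIdeal)
      (LocalizedModule q.asIdeal.primeCompl M) ≠ ⊤ := fun q hq =>
    S1852.length_loc_ne_top q fun p _ hp =>
      PrimeSpectrum.ext (le_antisymm hp (((hT q).1 hq).2 ⟨p.isPrime, bot_le⟩ hp))
  -- the length of M / xM
  have hkey : ∀ {x : A}, x ∈ A⁰ → Module.length A (M ⧸ LinearMap.range (LinearMap.lsmul A M x)) =
      ((∑ q ∈ T, (Ring.ord (A ⧸ q.asIdeal) (Ideal.Quotient.mk q.asIdeal x)).toNat *
        (Module.length (Localization.AtPrime q.asIdeal) (LocalizedModule q.asIdeal.primeCompl M)).toNat : ℕ) : ℕ∞) := by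
    intro x hx
    obtain ⟨-, h⟩ := S1833.length_quot_eq x (Set.univ : Set (PrimeSpectrum A)) T
      (fun q => by rw [hT]; exact ⟨fun h => ⟨trivial, hnm _ h⟩, fun h => hmin q h.2⟩)
      (fun q _ hxq => by_contra fun hne => hnot hx _ (hmin q hne) hxq)
      (fun P hP q hq hle => PrimeSpectrum.ext (le_antisymm hle (((hT q).1 hq).2 ⟨P.isPrime, bot_le⟩ hle)))
      M (Set.subset_univ _)
    have hk : SopLenLib.mulKer x M = ⊥ := LinearMap.ker_eq_bot.2 (hinjM hx)
    rw [hk, Module.length_bot, zero_add] at h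
    refine h.trans ?_
    rw [S1833.wLen, Nat.cast_sum]
    refine Finset.sum_congr rfl fun q hq => ?_
    rw [Nat.cast_mul, ENat.coe_toNat (Ring.ord_ne_top (mem_nonZeroDivisors_of_ne_zero (hord hx q hq))),
      ENat.coe_toNat (hlq q hq)]
  let fa := LinearMap.lsmul A M a
  let fb := LinearMap.lsmul A M b
  let N : Submodule A M := (Ideal.span {a} * I) • ⊤
  have hNa : N = (I • (⊤ : Submodule A M)).map fa := by
    show (Ideal.span {a} * I) • (⊤ : Submodule A M) = _
    rw [← smul_eq_mul, Submodule.smul_assoc, Submodule.ideal_span_singleton_smul]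
    rfl
  have hNa' : N ≤ LinearMap.range fa := hNa ▸ LinearMap.map_le_range
  have hIa : N.comap fa = I • ⊤ := by rw [hNa, Submodule.comap_map_eq_of_injective (hinjM ha)]
  have hNb : N ≤ LinearMap.range fb := by
    rw [hNa, Submodule.map_le_iff_le_comap, Submodule.smul_le]
    intro x hx m _
    rw [hI, Submodule.mem_colon] at hx
    obtain ⟨c, hc⟩ := Ideal.mem_span_singleton'.1 (hx a (Ideal.mem_span_singleton_self a))
    refine ⟨c • m, ?_⟩
    show b • c • m = a • x • m
    rw [smul_smul, smul_smul, mul_comm b, hc, smul_eq_mul, mul_comm x]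
  refine ⟨hNb, ?_⟩
  have h1 := length_quot_split fa (hinjM ha) N hNa'
  have h2 := length_quot_split fb (hinjM hb) N hNb
  rw [hIa, hkey ha] at h1
  rw [← hP, hkey hb] at h2
  have hbI : Ideal.span {b} ≤ I := by
    rw [hI]
    intro x hx
    exact Submodule.mem_colon.2 fun y _ => Ideal.mul_mem_right y _ hx
  have hfI : Module.length A (M ⧸ I • (⊤ : Submodule A M)) ≠ ⊤ := by
    have hle : LinearMap.range fb ≤ I • ⊤ := by
      rintro _ ⟨m, rfl⟩
      exact Submodule.smul_mem_smul (hbI (Ideal.mem_span_singleton_self b)) Submodule.mem_top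
    refine ne_top_of_le_ne_top ?_ (Module.length_le_of_surjective (Submodule.factor hle) (Submodule.factor_surjective _))
    rw [hkey hb]; exact ENat.coe_ne_top _
  have hfN : Module.length A (M ⧸ N) ≠ ⊤ := by
    rw [h1]; exact WithTop.add_ne_top.2 ⟨hfI, ENat.coe_ne_top _⟩
  have hfP : Module.length A (M ⧸ P) ≠ ⊤ := (WithTop.add_ne_top.1 (h2 ▸ hfN)).1
  have h3 := congrArg ENat.toNat (h2.symm.trans h1)
  rw [ENat.toNat_add hfP (ENat.coe_ne_top _), ENat.toNat_add hfI (ENat.coe_ne_top _), ENat.toNat_natCast,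
    ENat.toNat_natCast] at h3
  rw [finsum_cond_eq_sum_of_cond_iff (t := T) _ fun {q} _ => (hT q).symm]
  have hterm : ∀ q ∈ T, CycAlg.ordFrac (A ⧸ q.asIdeal) q.asIdeal.ResidueField
      (algebraMap A q.asIdeal.ResidueField a / algebraMap A q.asIdeal.ResidueField b) =
        ((Ring.ord (A ⧸ q.asIdeal) (Ideal.Quotient.mk q.asIdeal a)).toNat : ℤ) -
          ((Ring.ord (A ⧸ q.asIdeal) (Ideal.Quotient.mk q.asIdeal b)).toNat : ℤ) := fun q hq => by
    rw [IsScalarTower.algebraMap_apply A (A ⧸ q.asIdeal) q.asIdeal.ResidueField a,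
      IsScalarTower.algebraMap_apply A (A ⧸ q.asIdeal) q.asIdeal.ResidueField b]
    exact OrdDet.ordFrac_div _ _ (hord ha q hq) (hord hb q hq)
  have h4 := congrArg (fun n : ℕ => (n : ℤ)) h3
  simp only [Nat.cast_add, Nat.cast_sum, Nat.cast_mul] at h4
  rw [Finset.sum_congr rfl fun q hq => congrArg (_ * ·) (hterm q hq)]
  rw [Finset.sum_congr rfl fun q _ => mul_comm _ _]
  simp only [sub_mul, Finset.sum_sub_distrib]
  linarith

end Groth.Agent.S6480
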