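import Groth.Statements.S6481
import Groth.Agent.KeyLemmaLib.Extend

set_option autoImplicit false
universe u
open CycAlg IsLocalRing TensorProduct nonZeroDivisors

namespace Groth.Agent.S6481

/-- Let (A, 𝔪) be a 2-dimensional Noetherian local ring, t ∈ 𝔪 a nonzerodivisor with V(t) = {𝔪, 𝔮_1, …,
𝔮_r}, and A_{𝔮_i} ⊂ B_i finite ring extensions with B_i/A_{𝔮_i} annihilated by a power of t and with
t a nonzerodivisor on each B_i. Then A admits some finite extension A ⊂ B whose quotient B/A is
killed by some power of t, such that for every i the localization B_{𝔮_i} = B ⊗_A A_{𝔮_i} is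
isomorphic to B_i (existence of an A_{𝔮_i}-algebra isomorphism; B itself is only asserted to exist).
(The published statement allows any finite ring extensions A_{𝔮_i} ⊂ B_i; this row asks t to be a
nonzerodivisor on each B_i, the case its proof treats, where B_i sits inside t^{-n}A_{𝔮_i}. The
published statement also makes B local with the same residue field as A; this row omits that
clause.) Finite extension with quotient killed by a power of t: CycAlg.IsFinExt with the ideal (t). -/
theorem result (A : Type u) [CommRing A] [IsNoetherianRing A] [IsLocalRing A] (hA : ringKrullDim A = 2) (t : A) (ht : t ∈ IsLocalRing.maximalIdeal A) (htnz : t ∈ nonZeroDivisors A) (r : ℕ) (q : Fin r → Ideal A) (hq : ∀ i, (q i).IsPrime) (hinj : Function.Injective q) (hqm : ∀ i, q i ≠ IsLocalRing.maximalIdeal A) (htq : ∀ i, t ∈ q i) (hV : ∀ p : Ideal A, p.IsPrime → t ∈ p → p = IsLocalRing.maximalIdeal A ∨ ∃ i, p = q i) (B : Fin r → Type u) [∀ i, CommRing (B i)] [∀ i, Algebra (Localization.AtPrime (q i)) (B i)] (hB : ∀ i, CycAlg.IsFinExt (Localization.AtPrime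 (q i)) (B i) (Ideal.span {algebraMap A (Localization.AtPrime (q i)) t})) (htB : ∀ i, IsSMulRegular (B i) (algebraMap A (Localization.AtPrime (q i)) t)) : ∃ (C : Type u) (_ : CommRing C) (_ : Algebra A C), CycAlg.IsFinExt A C (Ideal.span {t}) ∧ ∀ i, Nonempty (TensorProduct A (Localization.AtPrime (q i)) C ≃ₐ[Localization.AtPrime (q i)] B i) := by
  classical
  have hmax : (maximalIdeal A).height = 2 := by
    have h := IsLocalRing.maximalIdeal_height_eq_ringKrullDim (R := A)
    rw [hA] at h
    exact WithBot.coe_inj.1 h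
  let P : ULift.{u} (Fin r) → Ideal A := fun j => q j.down
  haveI hP : ∀ j, (P j).IsPrime := fun j => hq j.down
  have hh : ∀ j, (P j).height ≤ 1 := fun j => by
    have hlt : P j < maximalIdeal A :=
      lt_of_le_of_ne (IsLocalRing.le_maximalIdeal (hP j).ne_top) (hqm j.down)
    have h := Ideal.height_strict_mono_of_isPrime hlt
    rw [hmax, show (2 : ℕ∞) = 1 + 1 from (one_add_one_eq_two (R := ℕ∞)).symm,
      ENat.lt_add_one_iff ENat.one_ne_top] at h
    exact h
  haveI : ∀ j, Ring.KrullDimLE 1 (Localization.AtPrime (P j)) := fun j => by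
    refine Ring.krullDimLE_iff.2 ?_
    rw [IsLocalization.AtPrime.ringKrullDim_eq_height (P j) (Localization.AtPrime (P j))]
    exact WithBot.coe_le_coe.2 (hh j)
  have hinc : ∀ i j, P i ≤ P j → i = j := fun i j hle => by
    rcases hle.lt_or_eq with hlt | heq
    · have h := (Ideal.height_strict_mono_of_isPrime hlt).trans_le (hh j)
      rw [ENat.lt_one_iff_eq_zero, Ideal.height_eq_zero_iff] at h
      exact absurd htnz (Set.disjoint_left.1 (Ideal.disjoint_nonZeroDivisors_of_mem_minimalPrimes h) (htq i.down))
    · exact ULift.ext _ _ (hinj heq)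
  have htm : ∀ j, algebraMap A (Localization.AtPrime (P j)) t ∈ maximalIdeal (Localization.AtPrime (P j)) := fun j => by
    rw [← Localization.AtPrime.map_eq_maximalIdeal]
    exact Ideal.mem_map_of_mem _ (htq j.down)
  have htl : ∀ j, algebraMap A (Localization.AtPrime (P j)) t ∈ (Localization.AtPrime (P j))⁰ := fun j =>
    IsLocalization.map_nonZeroDivisors_le (P j).primeCompl _ ⟨t, htnz, rfl⟩
  haveI : ∀ j, IsNoetherianRing (Localization.AtPrime (P j)) := fun j =>
    IsLocalization.isNoetherianRing (P j).primeCompl _ inferInstance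
  have hB' : ∀ j : ULift.{u} (Fin r), CycAlg.IsFinExt (Localization.AtPrime (P j)) (B j.down)
      (maximalIdeal (Localization.AtPrime (P j))) := fun j => by
    obtain ⟨h1, h2, N, h3⟩ := hB j.down
    obtain ⟨K, hK⟩ := Groth.Agent.TameLib.Reg.exists_pow_le
      (R := Localization.AtPrime (P j)) ⟨inferInstance, _, htm j, htl j⟩ (pow_mem (htl j) N)
    refine ⟨h1, h2, K, fun x hx b => h3 x ?_ b⟩
    rw [Ideal.span_singleton_pow]
    exact hK hx
  have hemb : ∀ j : ULift.{u} (Fin r), ∃ f : B j.down →ₐ[Localization.AtPrime (P j)]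
      TameLib.TQ (Localization.AtPrime (P j)), Function.Injective f := fun j =>
    TameLib.exists_embedding (htm j) (htl j) (hB' j) fun x hx =>
      (htB j.down).right_eq_zero_of_smul ((Algebra.smul_def _ x).trans hx)
  choose f hf using hemb
  let e : ∀ j, B j.down ≃ₐ[Localization.AtPrime (P j)] (f j).range := fun j => AlgEquiv.ofInjective (f j) (hf j)
  have hR : ∀ j, CycAlg.IsFinExt (Localization.AtPrime (P j)) (f j).range
      (maximalIdeal (Localization.AtPrime (P j))) := fun j => by
    obtain ⟨h1, h2, N, h3⟩ := hB' j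
    refine ⟨fun x y hxy => h1 ((e j).injective (by rw [AlgEquiv.commutes, AlgEquiv.commutes]; exact hxy)),
      Module.Finite.equiv (e j).toLinearEquiv, N, fun x hx z => ?_⟩
    obtain ⟨a, ha⟩ := h3 x hx ((e j).symm z)
    refine ⟨a, ?_⟩
    have h := congrArg (e j) ha
    rwa [AlgEquiv.commutes, map_smul, AlgEquiv.apply_symm_apply] at h
  obtain ⟨C, hC, ⟨N, hN⟩, g, hg⟩ := KeyLemmaLib.exists_extension P htnz (fun j => htq j.down) hinc
    (fun j => (f j).range) hR
  refine ⟨C, inferInstance, inferInstance, ⟨fun x y hxy => IsFractionRing.injective A (TameLib.TQ A)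
    (congrArg Subtype.val hxy), hC, N, fun x hx z => ?_⟩, fun i => ?_⟩
  · rw [Ideal.span_singleton_pow] at hx
    obtain ⟨c, rfl⟩ := Ideal.mem_span_singleton'.1 hx
    obtain ⟨a, ha⟩ := hN z
    refine ⟨c * a, Subtype.ext ?_⟩
    show algebraMap A (TameLib.TQ A) (c * a) = (c * t ^ N) • (z : TameLib.TQ A)
    rw [map_mul, ← ha, Algebra.smul_def, map_mul, mul_assoc]
  · let j : ULift.{u} (Fin r) := ⟨i⟩
    let Aq := Localization.AtPrime (P j)
    let ψ : C →ₐ[A] (f j).range := g j
    have hloc : IsLocalizedModule (P j).primeCompl ψ.toLinearMap := by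
      refine ⟨fun s => ?_, fun z => ?_, fun {x y} hxy => ?_⟩
      · rw [Module.End.isUnit_iff]
        have hu : IsUnit (algebraMap A (f j).range s) := by
          rw [IsScalarTower.algebraMap_apply A Aq (f j).range]
          exact (IsLocalization.map_units Aq s).map _
        rw [show ⇑(algebraMap A (Module.End A (f j).range) (s : A)) = fun b => (hu.unit : (f j).range) * b from
          funext fun b => Algebra.smul_def (s : A) b]
        exact hu.unit.mulLeft.bijective
      · obtain ⟨s, hs, x, hx⟩ := (hg j).2 z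
        exact ⟨⟨x, ⟨s, hs⟩⟩, ((Algebra.smul_def s z).trans hx.symm)⟩
      · obtain ⟨s, hs, hsx⟩ := (hg j).1 (x - y) (by rw [map_sub]; exact sub_eq_zero.2 hxy)
        refine ⟨⟨s, hs⟩, ?_⟩
        rw [mul_sub, sub_eq_zero] at hsx
        exact ((Algebra.smul_def s x).trans hsx).trans (Algebra.smul_def s y).symm
    let h : Aq ⊗[A] C →ₐ[Aq] (f j).range :=
      Algebra.TensorProduct.lift (Algebra.ofId Aq (f j).range) ψ fun _ _ => Commute.all _ _
    have hb := (isLocalizedModule_iff_isBaseChange (P j).primeCompl Aq ψ.toLinearMap).1 hloc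
    have he : ∀ x, h x = hb.equiv x := fun x => by
      induction x using TensorProduct.induction_on with
      | zero => rw [map_zero, map_zero]
      | add x y hx hy => rw [map_add, map_add, hx, hy]
      | tmul x c => rw [IsBaseChange.equiv_tmul, Algebra.smul_def]; rfl
    have hbij : Function.Bijective h := by
      rw [show (h : _ → (f j).range) = hb.equiv from funext he]
      exact hb.equiv.bijective
    exact ⟨(AlgEquiv.ofBijective h hbij).trans (e j).symm⟩

end Groth.Agent.S6481
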