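import Groth.Statements.S6483
import Groth.Agent.CycLib.Envelope

set_option autoImplicit false
universe u
open CategoryTheory AlgebraicGeometry
open CategoryTheory.Limits
open Cyc

namespace Groth.Agent.S6483

open CategoryTheory CategoryTheory.Limits AlgebraicGeometry

open Groth.Agent Groth.Agent.CycLib
set_option backward.isDefEq.respectTransparency false

/-- Let f : Y → X be an envelope and p, q : Y ×_X Y → Y the two projections. If a k-cycle β on Y has
f_*β ∼_rat 0 on X, then β ∼_rat p_*γ − q_*γ for some k-cycle γ on Y ×_X Y. Together with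
surjectivity of f_* and f_* p_* = f_* q_*, this is the exact sequence CH_k(Y ×_X Y) → CH_k(Y) →
CH_k(X) → 0. An envelope is a proper, completely decomposed morphism (every point of the target has
a point over it with trivial residue field extension; this prelude's Cyc.IsCompletelyDecomposed).
Here a pair (X, δ) with Cyc.IsSetup plays the role of a scheme locally of finite type over the base
(S, δ) (X locally Noetherian with universally catenary local rings, δ a dimension function), and
Cyc.DeltaCompat records that the dimension function upstairs is the induced one. -/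
theorem result (X Y : Scheme.{u}) (δ : X → ℤ) (δY : Y → ℤ) (hX : Cyc.IsSetup X δ) (hY : Cyc.IsSetup Y δY) (f : Y ⟶ X) [IsProper f] (hcd : Cyc.IsCompletelyDecomposed f) (hδ : Cyc.DeltaCompat f δY δ) (δ2 : ↥(pullback f f) → ℤ) (h2 : Cyc.IsSetup (pullback f f) δ2) (hδ2 : Cyc.DeltaCompat (pullback.fst f f) δ2 δY) (k : ℤ) (β : AlgebraicCycle Y ℤ) (hβ : β ∈ Cyc.Zk Y δY k) (h0 : Cyc.RatEquivZero δ k (AlgebraicCycle.map f δY δ β)) : ∃ γ : AlgebraicCycle (pullback f f) ℤ, γ ∈ Cyc.Zk (pullback f f) δ2 k ∧ Cyc.RatEquiv δY k β (AlgebraicCycle.map (pullback.fst f f) δ2 δY γ - AlgebraicCycle.map (pullback.snd f f) δ2 δY γ) := by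
  classical
  haveI := hX.1
  haveI := hY.1
  choose σ hσ hres using hcd
  obtain ⟨F, hF⟩ := (ratEquivZero_iff _).1 h0
  have key : ∀ (a : X) (g : X.residueField a), g ≠ 0 → ∀ (y : Y) (_ : f y = a),
      Function.Surjective (f.residueFieldMap y).hom → ∃ g' : Y.residueField y, g' ≠ 0 ∧
        ∀ x, Cyc.divFun δ (f y) (Cyc.normGen f y g') x = Cyc.divFun δ a g x := by
    rintro _ g hg y rfl hs
    refine ⟨f.residueFieldMap y g, fun e => hg ((f.residueFieldMap y).hom.injective (e.trans (map_zero _).symm)),
      fun x => ?_⟩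
    rw [normGen_residueFieldMap f y hs]
  choose g hg hgdiv using fun i => key (F.ξ i) (F.f i) (F.hf i) (σ (F.ξ i)) (hσ _) (hres _)
  let G : Fam δY k :=
    { ι := F.ι
      ξ := fun i => σ (F.ξ i)
      f := g
      hξ := fun i => by rw [S6482.delta_eq f δY δ hδ _ (hres _), hσ, F.hξ]
      hf := hg
      fin := fun y => by
        obtain ⟨U, hU, hy, hfin⟩ := F.fin (f y)
        refine ⟨f ⁻¹' U, hU.preimage f.continuous, hy, hfin.subset fun i ⟨z, hz, hzU⟩ => ⟨f z, ?_, hzU⟩⟩
        rw [← hσ (F.ξ i)]
        exact specializes_iff_mem_closure.1 ((specializes_iff_mem_closure.2 hz).map f.continuous) }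
  let β1 : AlgebraicCycle Y ℤ := β - G.cycle hY.2.2
  have hβ1 : ∀ x, AlgebraicCycle.map f δY δ β1 x = 0 := fun x => by
    rw [map_sub_apply, map_cycle f hY hX hδ G x, hF, sub_eq_zero]
    refine finsum_congr fun i => ?_
    rw [if_pos (S6482.delta_eq f δY δ hδ _ (hres _))]
    exact (hgdiv i x).symm
  have hk : ∀ y, β1 y ≠ 0 → δY y = k := fun y hy => by
    by_contra hne
    refine hy ?_
    show β y - G.cycle hY.2.2 y = 0
    rw [hβ y hne, zero_sub, neg_eq_zero]
    refine finsum_eq_zero_of_forall_eq_zero fun i => ?_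
    by_contra h
    exact hne (by have := (specializes_of_divFun_ne_zero h).2; rw [G.hξ i] at this; omega)
  choose τ hτ1 hτ2 hτ3 using fun y : Y => exists_pair_point f (y := y) (y' := σ (f y)) (hσ _) (hres _)
  let γ := S6482.liftCycle (pullback.fst f f) τ β1
  refine ⟨γ, fun z hz => ?_, ?_⟩
  · show (if τ (pullback.fst f f z) = z then β1 (pullback.fst f f z) else 0) = 0
    split_ifs with h
    · by_contra hne
      refine hz ?_
      rw [S6482.delta_eq (pullback.fst f f) δ2 δY hδ2 z (by rw [← h]; exact hτ3 _), hk _ hne]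
    · rfl
  have hmap1 : ∀ y, AlgebraicCycle.map (pullback.fst f f) δ2 δY γ y = β1 y := fun y => by
    rw [map_apply_eq_sum (pullback.fst f f) γ y {τ y} fun z hz hne => ?_, Finset.sum_singleton,
      Set.indicator_of_mem (show τ y ∈ pullback.fst f f ⁻¹' {y} from hτ1 y)]
    · show (if τ (pullback.fst f f (τ y)) = τ y then β1 (pullback.fst f f (τ y)) else 0) * _ = _
      rw [if_pos (by rw [hτ1]), AlgebraicCycle.mapCoeff, if_pos (S6482.delta_eq _ δ2 δY hδ2 _ (hτ3 y)),
        S6482.residueDegree_eq_one _ _ (hτ3 y), hτ1]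
      simp
    · change (if τ (pullback.fst f f z) = z then β1 (pullback.fst f f z) else 0) ≠ 0 at hne
      rw [Finset.mem_singleton]
      by_contra h
      exact hne (if_neg fun e => h (by rw [← e, hz]))
  have hmap2 : ∀ y', AlgebraicCycle.map (pullback.snd f f) δ2 δY γ y' = 0 := fun y' => by
    let s := (finite_window f β1 (f y')).toFinset
    have hs : ∀ z, pullback.snd f f z = y' → γ z ≠ 0 → z ∈ s.image τ := fun z hz hne => by
      change (if τ (pullback.fst f f z) = z then β1 (pullback.fst f f z) else 0) ≠ 0 at hne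
      split_ifs at hne with h
      · refine Finset.mem_image.2 ⟨pullback.fst f f z, (finite_window f β1 (f y')).mem_toFinset.2 ⟨?_, hne⟩, h⟩
        show f (pullback.fst f f z) = f y'
        rw [← hz]
        exact congr($(pullback.condition (f := f) (g := f)) z)
      · exact absurd rfl hne
    rw [map_apply_eq_sum (pullback.snd f f) γ y' _ hs,
      Finset.sum_image (fun a _ b _ e => by rw [← hτ1 a, e, hτ1])]
    by_cases hy' : σ (f y') = y'
    swap
    · refine Finset.sum_eq_zero fun y hy => Set.indicator_of_notMem (fun h => hy' ?_) _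
      have h' : σ (f y) = y' := (hτ2 y).symm.trans h
      rw [← h', hσ]
    refine Eq.trans (Finset.sum_congr rfl fun y hy => ?_)
      ((map_apply_eq_sum f β1 (f y') s fun y hy hne => (finite_window f β1 (f y')).mem_toFinset.2 ⟨hy, hne⟩).symm.trans
        (hβ1 (f y')))
    have hfy : f y = f y' := ((finite_window f β1 (f y')).mem_toFinset.1 hy).1
    have hsnd : pullback.snd f f (τ y) = y' := by rw [hτ2, hfy, hy']
    rw [Set.indicator_of_mem (show τ y ∈ pullback.snd f f ⁻¹' {y'} from hsnd),
      Set.indicator_of_mem (show y ∈ f ⁻¹' {f y'} from hfy)]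
    show (if τ (pullback.fst f f (τ y)) = τ y then β1 (pullback.fst f f (τ y)) else 0) * _ = _
    rw [if_pos (by rw [hτ1]), hτ1]
    congr 1
    rw [Nat.cast_inj]
    have hdeg : (pullback.snd f f).residueDegree (τ y) = f.residueDegree y := by
      have h := WeilCohLib.residueDegree_congr (pullback.condition (f := f) (g := f)) (τ y)
      rw [WeilCohLib.residueDegree_comp', WeilCohLib.residueDegree_comp', S6482.residueDegree_eq_one _ _ (hτ3 y),
        hτ1, hsnd, mul_one, S6482.residueDegree_eq_one f y' (by rw [← hy']; exact hres _), one_mul] at h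
      exact h.symm
    unfold AlgebraicCycle.mapCoeff
    rw [hdeg, S6482.delta_eq _ δ2 δY hδ2 _ (hτ3 y), hτ1]
    have e1 : δY ((pullback.snd f f).base (τ y)) = δ (f.base y) := by
      show δY (pullback.snd f f (τ y)) = δ (f y)
      rw [hsnd, hfy, S6482.delta_eq f δY δ hδ y' (by rw [← hy']; exact hres _)]
    rw [e1]
  have e : AlgebraicCycle.map (pullback.fst f f) δ2 δY γ - AlgebraicCycle.map (pullback.snd f f) δ2 δY γ = β1 :=
    Function.locallyFinsuppWithin.ext fun y => by
      show AlgebraicCycle.map (pullback.fst f f) δ2 δY γ y - AlgebraicCycle.map (pullback.snd f f) δ2 δY γ y = β1 y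
      rw [hmap1, hmap2, sub_zero]
  rw [e]
  show Cyc.RatEquivZero δY k (β - (β - G.cycle hY.2.2))
  rw [sub_sub_cancel]
  exact G.ratEquivZero hY.2.2

end Groth.Agent.S6483
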