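import Groth.Statements.S6485
import Mathlib

set_option autoImplicit false
universe u
open IntMult

namespace Groth.Agent.S6485

theorem result (k : Type u) [Field k] (n : ℕ) (hn : 1 ≤ n) : Irreducible (Matrix.mvPolynomialX (Fin n) (Fin n) k).det := by
  classical
  set D := (Matrix.mvPolynomialX (Fin n) (Fin n) k).det with hD
  have evalD : ∀ M : Matrix (Fin n) (Fin n) k,
      MvPolynomial.eval (fun p : Fin n × Fin n => M p.1 p.2) D = M.det := by
    intro M
    rw [hD, RingHom.map_det]
    congr 1
    ext a b
    simp [Matrix.mvPolynomialX_apply]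
  have hvar : ∀ i j : Fin n, (i, j) ∈ D.vars := by
    intro i j
    by_contra hn'
    let M : Matrix (Fin n) (Fin n) k := (Equiv.swap i j).permMatrix k
    have h1 : M.det ≠ 0 := by
      rw [show M.det = _ from Matrix.det_permutation _, Equiv.Perm.sign_swap']; split_ifs <;> simp
    let M' : Matrix (Fin n) (Fin n) k := Matrix.updateRow M i 0
    have h2 : M'.det = 0 := Matrix.det_eq_zero_of_row_eq_zero i (by simp [M'])
    refine h1 ?_
    rw [← h2, ← evalD M, ← evalD M']
    refine MvPolynomial.eval₂Hom_congr' rfl ?_ rfl
    rintro ⟨a, b⟩ hab -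
    by_cases ha : a = i
    · subst ha
      have hb : b ≠ j := fun hb => hn' (hb ▸ hab)
      simp [M', M, Equiv.Perm.permMatrix, PEquiv.toMatrix_apply, Equiv.swap_apply_left, hb.symm]
    · simp [M', Matrix.updateRow_ne ha]
  constructor
  · intro hu
    rw [MvPolynomial.isUnit_iff_eq_C_of_isReduced] at hu
    obtain ⟨c, -, hc⟩ := hu
    have := hvar ⟨0, by omega⟩ ⟨0, by omega⟩
    rw [hc] at this; simp at this
  · intro f g hfg
    have free : ∀ (P : Fin n × Fin n → Prop) [DecidablePred P],
        (∀ t : Polynomial (MvPolynomial (Fin n × Fin n) k),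
          MvPolynomial.aeval (fun p => if P p then Polynomial.C (MvPolynomial.X p) * t
            else Polynomial.C (MvPolynomial.X p)) D = Polynomial.C D * t) →
        (∀ p, P p → p ∉ f.vars) ∨ (∀ p, P p → p ∉ g.vars) := by
      intro P _ hP
      let φ : MvPolynomial (Fin n × Fin n) k →ₐ[k] Polynomial (MvPolynomial (Fin n × Fin n) k) :=
        MvPolynomial.aeval (fun p => if P p then Polynomial.C (MvPolynomial.X p) * Polynomial.X
            else Polynomial.C (MvPolynomial.X p))
      have hf1 : ∀ a, (φ a).eval 1 = a := by
        intro a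
        induction a using MvPolynomial.induction_on with
        | C c => simp [φ, ← MvPolynomial.algebraMap_eq]
        | add p q hp hq => simp [hp, hq]
        | mul_X p q hp =>
          rw [map_mul, Polynomial.eval_mul, hp]
          by_cases hq : P q <;> simp [φ, hq]
      have hf0 : ∀ a, (φ a).eval 0 =
          MvPolynomial.bind₁ (fun p => if P p then 0 else MvPolynomial.X p) a := by
        intro a
        induction a using MvPolynomial.induction_on with
        | C c => simp [φ, ← MvPolynomial.algebraMap_eq]
        | add p q hp hq => simp [hp, hq]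
        | mul_X p q hp =>
          rw [map_mul, Polynomial.eval_mul, hp]
          by_cases hq : P q <;> simp [φ, hq]
      have hdeg : ∀ a, (φ a).natDegree = 0 → ∀ p, P p → p ∉ a.vars := by
        intro a ha p hp hmem
        have e : MvPolynomial.bind₁ (fun p => if P p then 0 else MvPolynomial.X p) a = a := by
          rw [← hf0, Polynomial.eq_C_of_natDegree_eq_zero ha]
          conv_rhs => rw [← hf1 a, Polynomial.eq_C_of_natDegree_eq_zero ha]
          simp
        rw [← e] at hmem
        obtain ⟨q, -, hq⟩ := MvPolynomial.mem_vars_bind₁ _ _ hmem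
        split_ifs at hq with hPq
        · simp at hq
        · simp at hq; exact hPq (hq ▸ hp)
      have hD0 : D ≠ 0 := by
        intro h0; have := hvar ⟨0, by omega⟩ ⟨0, by omega⟩; simp [h0] at this
      have e : φ f * φ g = Polynomial.C D * Polynomial.X := by
        rw [← map_mul, ← hfg]; exact hP _
      have hne : φ f * φ g ≠ 0 := by rw [e]; simp [hD0]
      have hsum : (φ f).natDegree + (φ g).natDegree = 1 := by
        rw [← Polynomial.natDegree_mul (left_ne_zero_of_mul hne) (right_ne_zero_of_mul hne), e,
          Polynomial.natDegree_C_mul hD0, Polynomial.natDegree_X]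
      rcases Nat.eq_zero_or_pos (φ f).natDegree with h | h
      · exact Or.inl (hdeg f h)
      · exact Or.inr (hdeg g (by omega))
    have hrow : ∀ i : Fin n, (∀ j, (i, j) ∉ f.vars) ∨ (∀ j, (i, j) ∉ g.vars) := by
      intro i
      have := free (fun p => p.1 = i) (by
        intro t
        rw [hD, AlgHom.map_det]
        have : (MvPolynomial.aeval (fun p : Fin n × Fin n => if p.1 = i then Polynomial.C (MvPolynomial.X p) * t
            else Polynomial.C (MvPolynomial.X p) : _ → Polynomial (MvPolynomial (Fin n × Fin n) k))).mapMatrix
            (Matrix.mvPolynomialX (Fin n) (Fin n) k) =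
            Matrix.updateRow ((Matrix.mvPolynomialX (Fin n) (Fin n) k).map Polynomial.C) i
              (t • ((Matrix.mvPolynomialX (Fin n) (Fin n) k).map Polynomial.C) i) := by
          refine Matrix.ext fun a b => ?_
          by_cases ha : a = i <;>
            simp [ha, Matrix.mvPolynomialX_apply, Matrix.updateRow_apply, mul_comm]
        rw [this, Matrix.det_updateRow_smul, Matrix.updateRow_eq_self, RingHom.map_det, mul_comm]
        simp [RingHom.mapMatrix_apply, hD])
      exact this.imp (fun h j => h (i, j) rfl) (fun h j => h (i, j) rfl)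
    have hcol : ∀ j : Fin n, (∀ i, (i, j) ∉ f.vars) ∨ (∀ i, (i, j) ∉ g.vars) := by
      intro j
      have := free (fun p => p.2 = j) (by
        intro t
        rw [hD, AlgHom.map_det]
        have : (MvPolynomial.aeval (fun p : Fin n × Fin n => if p.2 = j then Polynomial.C (MvPolynomial.X p) * t
            else Polynomial.C (MvPolynomial.X p) : _ → Polynomial (MvPolynomial (Fin n × Fin n) k))).mapMatrix
            (Matrix.mvPolynomialX (Fin n) (Fin n) k) =
            Matrix.updateCol ((Matrix.mvPolynomialX (Fin n) (Fin n) k).map Polynomial.C) j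
              (t • (fun a => ((Matrix.mvPolynomialX (Fin n) (Fin n) k).map Polynomial.C) a j)) := by
          refine Matrix.ext fun a b => ?_
          by_cases hb : b = j <;>
            simp [hb, Matrix.mvPolynomialX_apply, Matrix.updateCol_apply, mul_comm]
        rw [this, Matrix.det_updateCol_smul, Matrix.updateCol_eq_self, RingHom.map_det, mul_comm]
        simp [RingHom.mapMatrix_apply, hD])
      exact this.imp (fun h i => h (i, j) rfl) (fun h i => h (i, j) rfl)
    have hmem : ∀ i j, (i, j) ∈ f.vars ∨ (i, j) ∈ g.vars := fun i j =>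
      Finset.mem_union.1 (MvPolynomial.vars_mul f g (hfg ▸ hvar i j))
    have hD0 : f * g ≠ 0 := by
      intro h0; have := hvar ⟨0, by omega⟩ ⟨0, by omega⟩; rw [hfg, h0] at this; simp at this
    have mkunit : ∀ a : MvPolynomial (Fin n × Fin n) k, a ≠ 0 → (∀ p, p ∉ a.vars) → IsUnit a := by
      intro a ha hv
      have : a.vars = ∅ := Finset.eq_empty_of_forall_notMem hv
      rw [MvPolynomial.vars_eq_empty_iff_eq_C.1 this] at ha ⊢
      exact IsUnit.map _ (isUnit_iff_ne_zero.2 fun h => ha (by simp [h]))
    rcases hcol ⟨0, by omega⟩ with hc | hc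
    · refine Or.inl (mkunit f (left_ne_zero_of_mul hD0) ?_)
      rintro ⟨i, j⟩
      rcases hrow i with hr | hr
      · exact hr j
      · rcases hmem i ⟨0, by omega⟩ with h | h
        · exact absurd h (hc i)
        · exact absurd h (hr _)
    · refine Or.inr (mkunit g (right_ne_zero_of_mul hD0) ?_)
      rintro ⟨i, j⟩
      rcases hrow i with hr | hr
      · rcases hmem i ⟨0, by omega⟩ with h | h
        · exact absurd h (hr _)
        · exact absurd h (hc i)
      · exact hr j

end Groth.Agent.S6485
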