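import Groth.Statements.S6494
import Groth.Agent.ChiCycLib.Sect
import Groth.Agent.CycLib.PB.FibCycle
import Groth.Agent.S6450

set_option autoImplicit false
set_option linter.style.haveILetI false
set_option backward.isDefEq.respectTransparency false
universe u
open CategoryTheory CategoryTheory.Limits AlgebraicGeometry
attribute [local instance] HasDerivedCategory.standard
open IntMult

namespace Groth.Agent.S6494

/-- Let X → P be a closed immersion of nonsingular varieties and C' ⊂ P × P^1 a closed subvariety of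
dimension r + 1 with (1) the fibre C = C'_0 of dimension r (C' → P^1 dominant), (2) C' and X × P^1
intersecting properly, (3) [C]_r and X intersecting properly. Then, with α = [C]_r · X and β = C' ·
(X × P^1), one has α = pr_{X,*}(β · (X × 0)). Stated on P × P^1: α = pr_*((C' · (X × P^1)) · (P ×
0)) as cycles on P. (The published statement takes the product of β with X × 0 on X × P^1 and pushes
it forward along X × P^1 → X; this row takes the product of C′ · (X × P^1) with P × 0 on P × P^1 and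
pushes it forward along P × P^1 → P, which is the same cycle on P.) Encoding: P × P^1 =
CohB1.ProjSpaceOver 1 P with projection pr and zero section P1.sect P 0; dimension functions δP, δ'
(transcendence degree); C'_0 is the pullback of C' along the zero section and [C]_r its r-cycle
(Cyc.subschemeFun); X × P^1 and P × 0 enter as the prime cycles of their generic points; products
are IntMult.interProd on P (dim N_P) and on P × P^1 (dim N_P + 1). Here P and X are nonsingular
varieties over the algebraically closed field K (smooth, separated, quasi-compact, integral), δP is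
the dimension function on P (transcendence degree over K, recorded by Cyc.DeltaCompat to Spec K with
value 0, together with Cyc.IsSetup), N_P = δP of the generic point of P and n = δP of the generic
point of X; proper intersection is IntMult.IntersectProperly / IntMult.ProperInt and products are
IntMult.interProd. -/
theorem result (K : Type u) [Field K] [IsAlgClosed K] (P : Scheme.{u}) (fP : P ⟶ Spec (CommRingCat.of K)) [Smooth fP] [IsSeparated fP] [QuasiCompact fP] [IsIntegral P] (δP : P → ℤ) (hP : Cyc.IsSetup P δP) (hδP : Cyc.DeltaCompat fP δP (fun _ => 0)) (NP : ℕ) (hNP : δP (genericPoint P) = NP) (δ' : ↥(CohB1.ProjSpaceOver 1 P) → ℤ) (hP' : Cyc.IsSetup (CohB1.ProjSpaceOver 1 P) δ') (hδ' : Cyc.DeltaCompat (CohB1.ProjSpaceOver.toBase 1 P) δ' δP) [QuasiCompact (CohB1.ProjSpaceOver.toBase 1 P)] (X : Scheme.{u}) (fX : X ⟶ Spec (CommRingCat.of K)) [Smooth fX] [IsSeparated fX] [QuasiCompact fX] [IsIntegral X] (ι : X ⟶ P) [IsClosedImmersion ι] (hι : ι ≫ fP = fX)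 (n : ℕ) (hn : δP (ι (genericPoint X)) = n) (ζX : ↥(CohB1.ProjSpaceOver 1 P)) (hζ1 : CohB1.ProjSpaceOver.toBase 1 P ζX = ι (genericPoint X)) (hζ2 : δ' ζX = n + 1) (C' : Scheme.{u}) [IsIntegral C'] (ι' : C' ⟶ CohB1.ProjSpaceOver 1 P) [IsClosedImmersion ι'] (r : ℕ) (hr : δ' (ι' (genericPoint C')) = r + 1) (hC0 : ∀ w : ↥(pullback ι' (P1.sect P 0)), δP (pullback.snd ι' (P1.sect P 0) w) ≤ r) (hC0ne : Nonempty ↥(pullback ι' (P1.sect P 0))) (h2 : IntMult.ProperInt (closure {ι' (genericPoint C')}) (⇑(CohB1.ProjSpaceOver.toBase 1 P) ⁻¹' Set.range ⇑ι) (NP + 1) (r + 1) (n + 1)) (h3 : IntMult.IntersectProperly δP NP (Cyc.subschemeFun δP r (pullback.snd ι' (P1.sect P 0))) (Set.indicator {ι (genericPoint X)} 1)) (B : AlgebraicCycle (CohB1.ProjSpaceOver 1 P) ℤ) (hB : ⇑B = IntMult.interProd δ' (NP + 1) (IntMult.interProd δ' (NP + 1) (Set.indicator {ι' (genericPoint C')} 1) (Set.indicator {ζX} 1)) (Set.indicator {P1.sect P 0 (genericPoint P)} 1)) : ⇑(AlgebraicCycle.map (CohB1.ProjSpaceOver.toBase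 1 P) δ' δP B) = IntMult.interProd δP NP (Cyc.subschemeFun δP r (pullback.snd ι' (P1.sect P 0))) (Set.indicator {ι (genericPoint X)} 1) := by
  classical
  haveI := hP.1
  haveI := hP'.1
  haveI : CompactSpace P := QuasiCompact.compactSpace_of_compactSpace fP
  haveI : IsNoetherian P := {}
  have H : ChiCycLib.Base fP δP δ' (NP : ℤ) := ⟨‹_›, ‹_›, ‹_›, hP, hδP, hNP, hδ'⟩
  haveI := ChiCycLib.smooth_pr (X := P)
  haveI : IsProper (CohB1.ProjSpaceOver.toBase 1 P) := MorphismProperty.pullback_snd _ _ inferInstance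
  haveI := H.intP
  have hδ'' := H.hδP
  have hgenP : δ' (genericPoint ↥(CohB1.ProjSpaceOver 1 P)) = (NP : ℤ) + 1 := H.delta_genP
  set c := ι' (genericPoint C') with hc
  set D := P1.sect P 0 (genericPoint P) with hD
  set ξ := ι (genericPoint X) with hξ
  have hDδ : δ' D = NP := by rw [hD, H.delta_sect, hNP]
  have hone : ∀ {Z : Scheme.{u}} (a : Z), Set.indicator {a} (1 : Z → ℤ) a ≠ 0 := fun {Z} a => by
    rw [Set.indicator_of_mem (Set.mem_singleton a)]
    exact one_ne_zero
  have hmem : ∀ {Z : Scheme.{u}} {a b : Z}, Set.indicator {a} (1 : Z → ℤ) b ≠ 0 → b = a := fun {Z a b} h =>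
    Set.mem_singleton_iff.1 (Set.mem_of_indicator_ne_zero h)
  -- the fibre
  have hC0' : ∀ x : P, P1.sect P 0 x ∈ Set.range ι' → δP x ≤ r := by
    rintro x ⟨w, hw⟩
    obtain ⟨z, -, hz⟩ := Scheme.Pullback.exists_preimage_pullback w x hw
    exact hz ▸ hC0 z
  have hnot : c ∉ Set.range (P1.sect P 0) := by
    rintro ⟨x, hx⟩
    have h1 := hC0' x ⟨_, hx.symm⟩
    have h2 : δP x = r + 1 := by rw [← H.delta_sect 0 x, hx, hr]
    omega
  have hαfin : (Function.support (Cyc.subschemeFun δP r (pullback.snd ι' (P1.sect P 0)))).Finite := by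
    refine ChiCycLib.finite_maximal (pullback.snd ι' (P1.sect P 0)).isClosedEmbedding.isClosed_range _
      (fun x hx => (IMultLib.mem_of_subschemeFun_ne_zero _ hx).2) fun x hx x' hx' hxx' => ?_
    by_contra hne
    have h1 := (hP.2.2 _ _ hxx' hne).1
    obtain ⟨z, rfl⟩ := hx'
    have h2 := hC0 z
    have h3 := (IMultLib.mem_of_subschemeFun_ne_zero _ hx).1
    omega
  let α : AlgebraicCycle P ℤ := CycLib.PB.cycleOfFinite _ hαfin
  have hαr : α ∈ Cyc.Zk P δP r := fun x hx => if_neg hx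
  -- proper intersections on the line
  have hle : ∀ t, ζX ⤳ t → ξ ⤳ CohB1.ProjSpaceOver.toBase 1 P t := fun t ht => by
    have := ht.map (CohB1.ProjSpaceOver.toBase 1 P).continuous
    rwa [hζ1] at this
  have hcz : ∀ t, c ⤳ t → ζX ⤳ t → δ' t ≤ δ' c + δ' ζX - ((NP : ℤ) + 1) := by
    intro t h1 h2'
    let T : Set ↥(CohB1.ProjSpaceOver 1 P) := closure {c} ∩ ⇑(CohB1.ProjSpaceOver.toBase 1 P) ⁻¹' Set.range ι
    have hTc : IsClosed T :=
      isClosed_closure.inter (ι.isClosedEmbedding.isClosed_range.preimage (CohB1.ProjSpaceOver.toBase 1 P).continuous)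
    have htT : t ∈ T := ⟨specializes_iff_mem_closure.1 h1,
      (hle t h2').mem_closed ι.isClosedEmbedding.isClosed_range ⟨_, rfl⟩⟩
    obtain ⟨hn', hdim⟩ := h2 ⟨t, htT⟩
    obtain ⟨m, hm, -, -, hmc⟩ := IMultLib.delta_facts (CohB1.ProjSpaceOver.toBase 1 P ≫ fP) hδ'' t
    have hsub : closure ({t} : Set ↥(CohB1.ProjSpaceOver 1 P)) ⊆ T :=
      closure_minimal (Set.singleton_subset_iff.2 htT) hTc
    have hmono : topologicalKrullDim ↥(closure ({t} : Set ↥(CohB1.ProjSpaceOver 1 P))) ≤ topologicalKrullDim ↥T :=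
      (Topology.IsEmbedding.inclusion hsub).isInducing.topologicalKrullDim_le
    rw [hmc] at hmono
    have hb : m ≤ r + 1 + (n + 1) - (NP + 1) := by exact_mod_cast hmono.trans hdim
    rw [hm, hr, hζ2]
    omega
  have hDc : ∀ t, D ⤳ t → c ⤳ t → δ' t ≤ δ' D + δ' c - ((NP : ℤ) + 1) := by
    intro t h1 h2'
    obtain ⟨x, rfl⟩ := h1.mem_closed (P1.sect P 0).isClosedEmbedding.isClosed_range ⟨_, rfl⟩
    have h4 := hC0' x (h2'.mem_closed ι'.isClosedEmbedding.isClosed_range ⟨_, rfl⟩)
    rw [H.delta_sect, hDδ, hr]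
    omega
  have hDz : ∀ t, D ⤳ t → ζX ⤳ t → δ' t ≤ δ' D + δ' ζX - ((NP : ℤ) + 1) := by
    intro t h1 h2'
    obtain ⟨x, rfl⟩ := h1.mem_closed (P1.sect P 0).isClosedEmbedding.isClosed_range ⟨_, rfl⟩
    have h4 := hle _ h2'
    rw [show CohB1.ProjSpaceOver.toBase 1 P (P1.sect P 0 x) = x from ChiCycLib.pr_sect 0 x] at h4
    have h5 := CycLib.delta_le hP.2.2 h4
    rw [H.delta_sect, hDδ, hζ2]
    omega
  have htriple : ∀ t, D ⤳ t → c ⤳ t → ζX ⤳ t → δ' t ≤ δ' D + δ' c + δ' ζX - 2 * ((NP : ℤ) + 1) := by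
    intro t h1 h2' h4'
    obtain ⟨x, rfl⟩ := h1.mem_closed (P1.sect P 0).isClosedEmbedding.isClosed_range ⟨_, rfl⟩
    obtain ⟨x', hx', hcx', hd'⟩ := H.exists_component 0 h2' hnot
    have hx'r : δP x' = r := by omega
    have hne := (H.interProd_sect 0 ι' hr hnot x' hx'r).2 hcx'
    have h4 := hle _ h4'
    rw [show CohB1.ProjSpaceOver.toBase 1 P (P1.sect P 0 x) = x from ChiCycLib.pr_sect 0 x] at h4
    have h5 := h3 x' ξ x hne (hone ξ) hx' h4
    rw [H.delta_sect, hDδ, hr, hζ2]
    omega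
  have hprop : ∀ {a b : ↥(CohB1.ProjSpaceOver 1 P)}, (∀ t, a ⤳ t → b ⤳ t → δ' t ≤ δ' a + δ' b - ((NP : ℤ) + 1)) →
      IntMult.IntersectProperly δ' ((NP : ℤ) + 1) (Set.indicator {a} 1) (Set.indicator {b} 1) := by
    intro a b h x y t hx hy hxt hyt
    rw [hmem hx] at hxt ⊢
    rw [hmem hy] at hyt ⊢
    exact h t hxt hyt
  let G := IntMult.interProd δ' ((NP : ℤ) + 1) (Set.indicator {D} 1) (Set.indicator {c} 1)
  have hB' : ⇑B = IntMult.interProd δ' ((NP : ℤ) + 1) G (Set.indicator {ζX} 1) := by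
    rw [hB, ChiCycLib.interProd_comm _ (Set.indicator {D} 1)]
    exact S6450.result K _ (CohB1.ProjSpaceOver.toBase 1 P ≫ fP) δ' hP' hδ'' ((NP : ℤ) + 1) hgenP D c ζX
      (hprop hDc) (hprop hcz) (hprop hDz) htriple
  have hGrange : ∀ {t}, G t ≠ 0 → t ∈ Set.range (P1.sect P 0) ∧ δ' t = r := fun {t} h => by
    obtain ⟨a, b, ha, hb, hat, hbt, hd⟩ := ChiCycLib.interProd_ne_zero h
    rw [hmem ha] at hat hd
    rw [hmem hb] at hd
    exact ⟨hat.mem_closed (P1.sect P 0).isClosedEmbedding.isClosed_range ⟨_, rfl⟩, by omega⟩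
  have hG : ∀ x, G (P1.sect P 0 x) = α x := fun x => by
    show G (P1.sect P 0 x) = Cyc.subschemeFun δP r (pullback.snd ι' (P1.sect P 0)) x
    by_cases hx : δP x = r
    · exact (H.interProd_sect 0 ι' hr hnot x hx).1
    · rw [Cyc.subschemeFun, if_neg hx]
      by_contra hne
      exact hx (by rw [← H.delta_sect 0 x]; exact (hGrange hne).2)
  have hBrange : ∀ {t}, B t ≠ 0 → t ∈ Set.range (P1.sect P 0) ∧ δ' t = (r : ℤ) + n - NP := fun {t} h => by
    rw [hB'] at h
    obtain ⟨a, b, ha, hb, hat, -, hd⟩ := ChiCycLib.interProd_ne_zero h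
    obtain ⟨h1, h2'⟩ := hGrange ha
    rw [hmem hb] at hd
    exact ⟨hat.mem_closed (P1.sect P 0).isClosedEmbedding.isClosed_range h1, by omega⟩
  funext d
  obtain ⟨-, hpd, hcoef⟩ := CycLib.P1Rat.delta_sect hδ' 0 d
  rw [CycLib.map_apply_eq_sum _ _ d {P1.sect P 0 d} fun x hx hne => by
      obtain ⟨x', rfl⟩ := (hBrange hne).1
      rw [show CohB1.ProjSpaceOver.toBase 1 P (P1.sect P 0 x') = x' from ChiCycLib.pr_sect 0 x'] at hx
      rw [hx]
      exact Finset.mem_singleton_self _,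
    Finset.sum_singleton,
    Set.indicator_of_mem (show P1.sect P 0 d ∈ CohB1.ProjSpaceOver.toBase 1 P ⁻¹' {d} from hpd), hcoef, Nat.cast_one,
    mul_one]
  show B (P1.sect P 0 d) = IntMult.interProd δP NP ⇑α (Set.indicator {ξ} 1) d
  by_cases hd : δP d = (r : ℤ) + n - NP
  · rw [hB', ← hζ1]
    refine H.interProd_sect_gen 0 α hαr hG (fun t ht => by_contra fun h => ht (hGrange h).1) ζX ?_ d ?_
    · show δ' ζX = δP (CohB1.ProjSpaceOver.toBase 1 P ζX) + 1
      rw [hζ1, hn, hζ2]
    · show δP d = r + δP (CohB1.ProjSpaceOver.toBase 1 P ζX) - NP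
      rw [hζ1, hn, hd]
  · have h1 : B (P1.sect P 0 d) = 0 := by_contra fun h => hd (by rw [← H.delta_sect 0 d]; exact (hBrange h).2)
    have h2' : IntMult.interProd δP NP ⇑α (Set.indicator {ξ} 1) d = 0 := by_contra fun h => by
      obtain ⟨a, b, ha, hb, -, -, hab⟩ := ChiCycLib.interProd_ne_zero h
      rw [hmem hb, hn] at hab
      have h4 : δP a = r := by_contra fun e => ha (hαr _ e)
      exact hd (by omega)
    rw [h1, h2']

end Groth.Agent.S6494
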