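import Groth.Statements.S6495
import Groth.Agent.CycLib.LimPoint

set_option autoImplicit false
universe u
open CategoryTheory AlgebraicGeometry
open Cyc

namespace Groth.Agent.S6495

open CategoryTheory CategoryTheory.Limits AlgebraicGeometry

open Groth.Agent
set_option backward.isDefEq.respectTransparency false

/-- Surjectivity of colim Z_k(X_i) → Z_k(X'): every k-cycle α' on the limit X' is g_i^*α for some i and
some k-cycle α on X_i, where g_i : X' → X_i is the projection and g_i^* the shift-0 base-change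
pullback on coefficient functions. Setting: a directed inverse system (X_i) of quasi-compact schemes
with affine flat transition morphisms and limit X' (a limit cone), each X_i and X' carrying a
dimension function with Cyc.IsSetup, and every transition map and every projection X' → X_i shifting
the dimension functions by c = 0 at generic points of fibres, so that the base-change pullbacks g^*
are Cyc.pullFun with shift 0. (The published statement takes X_i and X′ to be the base changes of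
one quasi-compact scheme of finite type over a base S along S_i → S and lim S_i → S; this row allows
any such inverse system.) -/
theorem result (I : Type u) [Preorder I] [IsDirected I (fun a b => a ≤ b)] [Nonempty I] (D : Iᵒᵖ ⥤ Scheme.{u}) (c : Limits.Cone D) (hc : Limits.IsLimit c) (haff : ∀ (i j : Iᵒᵖ) (f : i ⟶ j), IsAffineHom (D.map f)) (hflat : ∀ (i j : Iᵒᵖ) (f : i ⟶ j), Flat (D.map f)) (hqc : ∀ i, CompactSpace ↥(D.obj i)) (δ : (i : Iᵒᵖ) → ↥(D.obj i) → ℤ) (δ' : ↥c.pt → ℤ) (hset : ∀ i, Cyc.IsSetup (D.obj i) (δ i)) (hset' : Cyc.IsSetup c.pt δ') (hshift : ∀ (i j : Iᵒᵖ) (f : i ⟶ j) (x : ↥(D.obj i)), (∀ y, D.map f y = D.map f x → y ⤳ x → y = x) → δ i x = δ j (D.map f x)) (hflat' : ∀ i, Flat (c.π.app i)) (hshift' : ∀ (i : Iᵒᵖ) (x : ↥c.pt), (∀ y, c.π.app i y = c.π.app i x → y ⤳ x → y = x) → δ' x = δ i (c.π.app i x)) (k : ℤ) (α' : AlgebraicCycle c.pt ℤ) (hα' : α' ∈ Cyc.Zk c.pt δ' k) : ∃ (i : Iᵒᵖ) (α : AlgebraicCycle (D.obj i) ℤ), α ∈ Cyc.Zk (D.obj i) (δ i) k ∧ Cyc.pullFun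 (c.π.app i) δ' (δ i) 0 ⇑α = ⇑α' := by
  classical
  haveI : IsCofiltered Iᵒᵖ := inferInstance
  haveI : ∀ (a b : Iᵒᵖ) (f : a ⟶ b), IsAffineHom (D.map f) := haff
  haveI : IsLocallyNoetherian c.pt := hset'.1
  haveI : ∀ i, CompactSpace (D.obj i) := hqc
  haveI : CompactSpace c.pt := Scheme.compactSpace_of_isLimit D c hc
  let T : Set c.pt := Function.support α'
  have hT : T.Finite := by
    simpa using α'.locallyFiniteSupport.finite_inter_support_of_isCompact isCompact_univ
  choose J hJ using fun x : c.pt => CycLib.exists_stage_point D c hc x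
  obtain ⟨k₀, hk₀⟩ := IsCofiltered.inf_objs_exists (insert (Classical.arbitrary Iᵒᵖ) (hT.toFinset.image J))
  let π : c.pt ⟶ D.obj k₀ := c.π.app k₀
  have hmax : ∀ x₀ ∈ T, (∀ y : c.pt, π y = π x₀ → x₀ ⤳ y) ∧
      CycLib.fibIdeal π x₀ = IsLocalRing.maximalIdeal (c.pt.presheaf.stalk x₀) := fun x₀ hx₀ => by
    obtain ⟨g⟩ := hk₀ (Finset.mem_insert_of_mem (Finset.mem_image_of_mem J (hT.mem_toFinset.2 hx₀)))
    exact hJ x₀ k₀ g
  have hM : ∀ x₀ ∈ T, δ' x₀ = δ k₀ (π x₀) := fun x₀ hx₀ =>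
    hshift' k₀ x₀ fun w hw hwx => ((hwx.antisymm ((hmax x₀ hx₀).1 w hw)).eq)
  have hinj : Set.InjOn π T := fun a ha b hb e =>
    (((hmax a ha).1 b e.symm).antisymm ((hmax b hb).1 a e)).eq
  let F : D.obj k₀ → ℤ := fun z => if h : ∃ x₀ ∈ T, π x₀ = z then α' h.choose else 0
  have hF : ∀ x₀ ∈ T, F (π x₀) = α' x₀ := fun x₀ hx₀ => by
    have h : ∃ x ∈ T, π x = π x₀ := ⟨x₀, hx₀, rfl⟩
    show (if h : ∃ x ∈ T, π x = π x₀ then α' h.choose else 0) = _
    rw [dif_pos h, hinj h.choose_spec.1 hx₀ h.choose_spec.2]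
  have hsupp : Function.support F ⊆ π '' T := fun z hz => by
    by_contra h
    exact hz (dif_neg h)
  let α : AlgebraicCycle (D.obj k₀) ℤ :=
    { toFun := F
      supportWithinDomain' := Set.subset_univ _
      supportLocallyFiniteWithinDomain' := fun z _ =>
        ⟨Set.univ, Filter.univ_mem, ((hT.image π).subset hsupp).subset Set.inter_subset_right⟩ }
  refine ⟨k₀, α, fun z hz => ?_, funext fun (y : c.pt) => ?_⟩
  · show F z = 0
    by_contra h
    obtain ⟨x₀, hx₀, rfl⟩ := hsupp h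
    exact hx₀ (hα' x₀ (by rw [hM x₀ hx₀]; exact hz))
  show Cyc.pullFun π δ' (δ k₀) 0 ⇑α y = α' y
  rw [CycLib.pullFun_apply]
  by_cases hy : y ∈ T
  · rw [if_pos (by rw [hM y hy, add_zero]), (hmax y hy).2]
    show F (π y) * _ = _
    haveI : IsSimpleModule (c.pt.presheaf.stalk y)
        (c.pt.presheaf.stalk y ⧸ IsLocalRing.maximalIdeal (c.pt.presheaf.stalk y)) :=
      isSimpleModule_iff_isCoatom.2 (IsLocalRing.maximalIdeal.isMaximal _).out
    rw [hF y hy, Module.length_eq_one]
    simp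
  · have h0 : α' y = 0 := not_not.1 hy
    rw [h0]
    split_ifs with hd
    swap
    · rfl
    show F (π y) * _ = _
    by_contra hne
    obtain ⟨x₀, hx₀, hxy⟩ := hsupp (left_ne_zero_of_mul hne)
    have h1 := (hset'.2.2 x₀ y ((hmax x₀ hx₀).1 y hxy.symm) fun e => hy (e ▸ hx₀)).1
    rw [hM x₀ hx₀, hxy] at h1
    rw [add_zero] at hd
    exact absurd hd h1.ne


end Groth.Agent.S6495
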