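import Groth.Statements.S6499
import Groth.Agent.EtAlgEasy.PrinPartPush
import Groth.Agent.PullbackMod.SuppClosed

set_option autoImplicit false
universe u
open CategoryTheory AlgebraicGeometry
open Cyc

namespace Groth.Agent.S6499

/-- Suppose X and Y are schemes locally of finite type over the base, and π : X → Y is a morphism
between them that is finite. Then π_* sends Coh_{≤k}(X) into Coh_{≤k}(Y): for F coherent on X with
dim_δ Supp(F) ≤ k, the direct image π_*F is coherent with dim_δ Supp(π_*F) ≤ k (Cyc.CohLe).
(Exactness of π_* and the commutative diagram with the cycle maps are not restated; the latter is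
the existing compatibility of [−]_k with π_*.) Here a pair (X, δ) with Cyc.IsSetup plays the role of
a scheme locally of finite type over the base (S, δ) (X locally Noetherian with universally catenary
local rings, δ a dimension function), and Cyc.DeltaCompat records that the dimension function
upstairs is the induced one. -/
theorem result (X Y : Scheme.{u}) (δX : X → ℤ) (δY : Y → ℤ) (hX : Cyc.IsSetup X δX) (hY : Cyc.IsSetup Y δY) (π : X ⟶ Y) [IsFinite π] (hδ : Cyc.DeltaCompat π δX δY) (k : ℤ) (F : X.Modules) (hF : Cyc.CohLe δX k F) : Cyc.CohLe δY k ((Coh.push π).obj F) := by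
  haveI := hY.1
  haveI := hX.1
  refine ⟨EtAlgEasy.PrinPartPush.isCoh_pushforward_finite π hF.1, fun y hy => ?_⟩
  have hcl : IsClosed (π.base '' CohB1.support F) :=
    π.isClosedMap _ (PullbackMod.isClosed_support_of_isFT hF.1.2)
  have hmem : y ∈ π.base '' CohB1.support F := by
    by_contra hout
    haveI := hy
    refine not_subsingleton (((Coh.push π).obj F).presheaf.stalk y) (subsingleton_of_forall_eq 0 fun z => ?_)
    obtain ⟨V, hyV, m, rfl⟩ := TopCat.Presheaf.exists_germ_eq ((Coh.push π).obj F).presheaf z
    let O : Y.Opens := ⟨_, hcl.isOpen_compl⟩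
    have hle : V ⊓ O ≤ V := inf_le_left
    rw [← TopCat.Presheaf.germ_res_apply _ (homOfLE hle) y ⟨hyV, hout⟩ m]
    convert map_zero (((Coh.push π).obj F).presheaf.germ (V ⊓ O) y ⟨hyV, hout⟩).hom using 2
    refine TopCat.Presheaf.section_ext (⟨F.presheaf, F.isSheaf⟩ : TopCat.Sheaf Ab X) (π ⁻¹ᵁ (V ⊓ O)) _ _ fun x hx => ?_
    haveI : Subsingleton (F.presheaf.stalk x) := by
      by_contra h
      exact hx.2 ⟨x, h, rfl⟩
    exact Subsingleton.elim _ _
  obtain ⟨x, hx, rfl⟩ := hmem
  obtain ⟨n, -, hn⟩ := hδ x
  have := hF.2 x (not_subsingleton_iff_nontrivial.1 hx)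
  omega


end Groth.Agent.S6499
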