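import Groth.Statements.S6500
import Groth.Agent.S14414
import Groth.Agent.S0563
import Groth.Agent.ASp.GeomRedEt
import Groth.Agent.FibreComp.DimSpace

set_option autoImplicit false
universe u
open CategoryTheory CategoryTheory.Limits AlgebraicGeometry
attribute [local instance] HasDerivedCategory.standard
open IntMult

namespace Groth.Agent.S6500

/-- Let X be a nonsingular variety of dimension n and F, G coherent O_X-modules. The Tor sheaves
Tor_p^{O_X}(F, G), whose stalks are Tor_p^{O_{X,x}}(F_x, G_x), are nonzero only for p ∈ {0, …, n}: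
for every point x and every p > n, Tor_p^{O_{X,x}}(F_x, G_x) = 0. (Coherence of the Tor sheaves and
the support statement are not restated.) Nonsingular variety: X → Spec K smooth, separated,
quasi-compact, X integral, K algebraically closed; n = dim X. -/
theorem result (K : Type u) [Field K] [IsAlgClosed K] (X : Scheme.{u}) (f : X ⟶ Spec (CommRingCat.of K)) [Smooth f] [IsSeparated f] [QuasiCompact f] [IsIntegral X] (n : ℕ) (hn : topologicalKrullDim X = n) (F G : X.Modules) (hF : Coh.IsCoh F) (hG : Coh.IsCoh G) (x : X) (p : ℕ) (hp : n < p) : Subsingleton (DRing.Tor ↑(X.presheaf.stalk x) p ↑(F.presheaf.stalk x) ↑(G.presheaf.stalk x)) := by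
  haveI := Groth.Agent.ASp.isRegularLocalRing_stalk_of_smooth_field f x
  haveI : IsLocalRing (X.presheaf.stalk x) := inferInstance
  have hle : ringKrullDim (X.presheaf.stalk x) ≤ (n : WithBot ℕ∞) :=
    hn ▸ Groth.Agent.FibreComp.ringKrullDim_stalk_le_topologicalKrullDim x
  obtain ⟨d, hd⟩ : ∃ d : ℕ, ringKrullDim (X.presheaf.stalk x) = d := ⟨_, (IsRegularLocalRing.spanFinrank_maximalIdeal (R := X.presheaf.stalk x)).symm⟩
  have hdn : d ≤ n := by rw [hd] at hle; exact_mod_cast hle
  haveI : HasProjectiveDimensionLE (ModuleCat.of (X.presheaf.stalk x) ↑(G.presheaf.stalk x)) d :=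
    Groth.Agent.S0563.result _ d hd _
  exact ModuleCat.subsingleton_of_isZero (Groth.Agent.S14414.result _ (ModuleCat.of _ ↑(F.presheaf.stalk x))
    (ModuleCat.of _ ↑(G.presheaf.stalk x)) d p (by omega))

end Groth.Agent.S6500
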