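import Groth.Statements.S6501
import Mathlib
-- import your own Groth.Agent.* helpers here

set_option autoImplicit false
universe u
open DPow

namespace Groth.Agent.S6501

/-- Let A be a commutative ring whose additive group is torsion free and I an ideal of A. Then I carries
at most one divided power structure, and it carries one if and only if I is generated by a set S
such that for every x in S and every n ≥ 1 the power x^n lies in the ideal generated by the products
of n! with elements of I. -/
theorem result {A : Type u} [CommRing A] [IsAddTorsionFree A] (I : Ideal A) :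
    Subsingleton (DividedPowers I) ∧
    (Nonempty (DividedPowers I) ↔ ∃ S : Set A, Ideal.span S = I ∧
      ∀ x ∈ S, ∀ n : ℕ, 1 ≤ n → x ^ n ∈ Ideal.span {(Nat.factorial n : A)} * I) := by
  classical
  have cancel : ∀ (n : ℕ) {a b : A}, (n.factorial : A) * a = (n.factorial : A) * b → a = b := fun n {a b} h =>
    nsmul_right_injective (Nat.factorial_ne_zero n) (by simpa [nsmul_eq_mul] using h)
  refine ⟨⟨fun γ γ' => DividedPowers.ext γ γ' fun n {x} hx => cancel n (by
    rw [γ.factorial_mul_dpow_eq_pow hx, γ'.factorial_mul_dpow_eq_pow hx])⟩, ⟨fun ⟨γ⟩ => ⟨I, Ideal.span_eq I, fun x hx n hn => ?_⟩, ?_⟩⟩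
  · rw [← γ.factorial_mul_dpow_eq_pow hx]
    exact Ideal.mul_mem_mul (Ideal.mem_span_singleton_self _) (γ.dpow_mem (by omega) hx)
  rintro ⟨S, hS, hpow⟩
  have key : ∀ x ∈ I, ∀ n : ℕ, ∃ y, (1 ≤ n → y ∈ I) ∧ (n.factorial : A) * y = x ^ n := fun x hx => by
    rw [← hS] at hx
    induction hx using Submodule.span_induction with
    | mem x hx =>
      intro n
      rcases Nat.eq_zero_or_pos n with rfl | hn
      · exact ⟨1, by omega, by simp⟩
      · obtain ⟨y, hy, e⟩ := Ideal.mem_span_singleton_mul.1 (hpow x hx n hn)
        exact ⟨y, fun _ => hy, e⟩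
    | zero => exact fun n => ⟨0 ^ n, fun hn => by rw [zero_pow (by omega)]; exact zero_mem _, by
        rcases Nat.eq_zero_or_pos n with rfl | hn <;> simp [zero_pow, *, Nat.ne_of_gt]⟩
    | smul a x _ hx =>
      intro n
      obtain ⟨y, hy, e⟩ := hx n
      exact ⟨a ^ n * y, fun hn => I.mul_mem_left _ (hy hn), by rw [smul_eq_mul, mul_pow, ← e]; ring⟩
    | add x z _ _ hx hz =>
      intro n
      choose f hf e1 using hx
      choose g hg e2 using hz
      refine ⟨∑ k ∈ Finset.range (n + 1), f k * g (n - k), fun hn => Ideal.sum_mem _ fun k hk => ?_, ?_⟩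
      · rcases Nat.eq_zero_or_pos k with rfl | h
        · exact I.mul_mem_left _ (hg _ (by omega))
        · exact I.mul_mem_right _ (hf _ h)
      · rw [add_pow, Finset.mul_sum]
        refine Finset.sum_congr rfl fun k hk => ?_
        have hk' : k ≤ n := Nat.lt_succ_iff.1 (Finset.mem_range.1 hk)
        rw [← e1, ← e2, ← Nat.choose_mul_factorial_mul_factorial hk']
        push_cast; ring
  choose d hd hde using key
  let dp : ℕ → A → A := fun n x => if hx : x ∈ I then d x hx n else 0
  have hdp : ∀ {n x}, x ∈ I → (n.factorial : A) * dp n x = x ^ n := fun {n x} hx => by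
    simp only [dp, dif_pos hx]; exact hde x hx n
  have hmem : ∀ {n x}, n ≠ 0 → x ∈ I → dp n x ∈ I := fun {n x} hn hx => by
    simp only [dp, dif_pos hx]; exact hd x hx n (by omega)
  refine ⟨⟨dp, fun hx => dif_neg hx, fun {x} hx => cancel 0 (by rw [hdp hx]; simp), fun {x} hx => cancel 1 (by rw [hdp hx]; simp),
    fun hn hx => hmem hn hx, fun {n x y} hx hy => cancel n ?_, fun {n a x} hx => cancel n ?_, fun {m n x} hx => cancel m (cancel n ?_),
    fun {m n x} hn hx => cancel (m * n) ?_⟩⟩
  · rw [hdp (add_mem hx hy), (Commute.all x y).add_pow', Finset.mul_sum]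
    refine Finset.sum_congr rfl fun k hk => ?_
    rw [Finset.HasAntidiagonal.mem_antidiagonal] at hk
    subst hk
    rw [← hdp hx, ← hdp hy, nsmul_eq_mul, ← Nat.add_choose_mul_factorial_mul_factorial, Nat.choose_symm_add]
    push_cast; ring
  · rw [hdp (I.mul_mem_left a hx), mul_pow, ← hdp hx]; ring
  · have e : ((m + n).factorial : A) = ((m + n).choose m : A) * m.factorial * n.factorial := by
      rw [← Nat.add_choose_mul_factorial_mul_factorial m n, Nat.choose_symm_add]; push_cast; ring
    have e1 := hdp (n := m) hx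
    have e2 := hdp (n := n) hx
    have e3 := hdp (n := m + n) hx
    rw [pow_add, ← e1, ← e2] at e3
    linear_combination dp (m + n) x * e - e3
  · have e : ((m * n).factorial : A) = (Nat.uniformBell m n : A) * (n.factorial : A) ^ m * m.factorial := by
      rw [← Nat.uniformBell_mul_eq m hn]; push_cast; ring
    have e1 := hdp (n := m) (hmem hn hx)
    have e2 := hdp (n := n) hx
    have e3 := hdp (n := m * n) hx
    rw [mul_comm m n, pow_mul, ← e2, mul_pow, ← e1, mul_comm n m] at e3
    linear_combination dp m (dp n x) * e - (Nat.uniformBell m n : A) * e3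

end Groth.Agent.S6501
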