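import Groth.Statements.S6502
-- import your own Groth.Agent.* helpers here
import Groth.Agent.CIFlatLib.Basic

set_option autoImplicit false
universe u
open LCI

namespace Groth.Agent.S6502

/-- A Noetherian ring A is a local complete intersection (every localization A_p at a prime is a
complete intersection, that is, its completion is a regular complete local ring modulo a regular
sequence) exactly when, for each maximal ideal m of A, the localization A_m is itself a complete
intersection. -/
theorem result {A : Type u} [CommRing A] [IsNoetherianRing A] :
    (∀ (p : Ideal A) [p.IsPrime], Pi1.IsCompleteIntersection (Localization.AtPrime p)) ↔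
    (∀ (m : Ideal A) [m.IsMaximal], Pi1.IsCompleteIntersection (Localization.AtPrime m)) := by
  refine ⟨fun h m _ => h m, fun h p _ => ?_⟩
  obtain ⟨m, hm, hpm⟩ := Ideal.exists_le_maximal p (Ideal.IsPrime.ne_top ‹_›)
  haveI : (p.map (algebraMap A (Localization.AtPrime m))).IsPrime :=
    IsLocalization.isPrime_of_isPrime_disjoint m.primeCompl _ p ‹_›
      (Set.disjoint_left.2 fun x hx hx' => hx (hpm hx'))
  have hcomap : (p.map (algebraMap A (Localization.AtPrime m))).comap (algebraMap A (Localization.AtPrime m)) = p :=
    IsLocalization.under_map_of_isPrime_disjoint m.primeCompl _ ‹_› (Set.disjoint_left.2 fun x hx hx' => hx (hpm hx'))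
  have e : Localization.AtPrime ((p.map (algebraMap A (Localization.AtPrime m))).comap
      (algebraMap A (Localization.AtPrime m))) ≃ₐ[A] Localization.AtPrime (p.map (algebraMap A (Localization.AtPrime m))) :=
    IsLocalization.localizationLocalizationAtPrimeIsoLocalization m.primeCompl _
  have h1 := (CIFlatLib.isCI_congr e.symm.toRingEquiv).1
    (CIFlatLib.isCI_atPrime (h m) (p.map (algebraMap A (Localization.AtPrime m))))
  have key : ∀ (I : Ideal A) [I.IsPrime], I = p → Pi1.IsCompleteIntersection (Localization.AtPrime I) →
      Pi1.IsCompleteIntersection (Localization.AtPrime p) := by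
    intro I _ e h
    subst e
    exact h
  exact key _ hcomap h1

end Groth.Agent.S6502
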