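import Groth.Statements.S6507
import Groth.Agent.HyperLib.Refine
import Groth.Agent.HyperLib.Descent
-- import your own Groth.Agent.* helpers here

set_option autoImplicit false
universe u
set_option backward.isDefEq.respectTransparency false
open CategoryTheory
open Hyper

namespace Groth.Agent.S6507

open Opposite CategoryTheory.Limits in
/-- With presheaves taken on the localized site C/X: let C be a small site with fibre products, X an
object, K a hypercovering of X and n ≥ 0. Let u : P → F(K_n) be a morphism of presheaves of sets on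
C/X, where F(K_n) is the coproduct of the presheaves represented by the members of the family K_n,
and assume u is locally surjective. Then there exist a hypercovering L of X and a morphism f : L → K
such that F(f_n) : F(L_n) → F(K_n) factors through u. -/
theorem result {C : Type u} [SmallCategory C] [HasPullbacks C]
    (J : GrothendieckTopology C) (X : C)
    [∀ (n : ℕ) (F : (SimplexCategory.Truncated n)ᵒᵖ ⥤ Limits.FormalCoproduct.{u} (Over X)),
      (SimplexCategory.Truncated.inclusion n).op.HasRightKanExtension F]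
    (K : SimplicialObject (FormalCoproduct.{u} (Over X))) (hK : Hyper.IsHypercovering J X K) (n : ℕ)
    (P : (Over X)ᵒᵖ ⥤ Type u) (u : P ⟶ FormalCoproduct.yoneda.obj (K.obj (op (SimplexCategory.mk n))))
    (hu : Presheaf.IsLocallySurjective (J.over X) u) :
    ∃ (L : SimplicialObject (FormalCoproduct.{u} (Over X))) (f : L ⟶ K)
      (g : FormalCoproduct.yoneda.obj (L.obj (op (SimplexCategory.mk n))) ⟶ P),
      Hyper.IsHypercovering J X L ∧ g ≫ u = FormalCoproduct.yoneda.map (f.app (op (SimplexCategory.mk n))) := by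
  choose w hw using fun p : (Σ Y : Over X, P.obj (op Y)) =>
    Groth.Agent.HyperLib.elt_surjective (u.app (op p.1) p.2)
  let W : FormalCoproduct.{u} (Over X) := ⟨Σ Y : Over X, P.obj (op Y), fun p => p.1⟩
  let v : W ⟶ K.obj (op (SimplexCategory.mk n)) :=
    ⟨fun p => (w p).f PUnit.unit, fun p => (w p).φ PUnit.unit⟩
  have hv : Groth.Agent.HyperLib.Cov (J.over X) v := by
    intro Y t
    refine GrothendieckTopology.superset_covering _ ?_ (hu.imageSieve_mem (Groth.Agent.HyperLib.elt t))
    rintro Z k ⟨s, hs⟩
    refine ⟨FormalCoproduct.Hom.fromIncl (Y := W) ⟨Z, s⟩ (𝟙 Z),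
      Groth.Agent.HyperLib.elt_injective ?_⟩
    rw [← Groth.Agent.HyperLib.map_elt, ← hs, ← hw ⟨Z, s⟩]
    refine congrArg Groth.Agent.HyperLib.elt (Groth.Agent.HyperLib.incl_hom_ext rfl ?_)
    exact (Category.comp_id _).trans (Category.id_comp _)
  haveI : HasTerminal (Over X) := Over.mkIdTerminal.hasTerminal
  haveI : HasFiniteLimits (FormalCoproduct.{u} (Over X)) := hasFiniteLimits_of_hasTerminal_and_pullbacks
  have h0 : ∀ U : Over X, Groth.Agent.HyperLib.vertexSieve K U ∈ J.over X U := fun U => by
    rw [GrothendieckTopology.mem_over_iff]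
    refine J.superset_covering ?_ (J.pullback_stable U.hom hK.1)
    intro Z k hk
    obtain ⟨i, a, ha⟩ := (Sieve.mem_ofArrows_iff _ _ _).1 hk
    exact (Sieve.overEquiv_iff _ _).2 ⟨FormalCoproduct.Hom.fromIncl i (Over.homMk a ha.symm)⟩
  have hL : Hyper.IsHypercovering J X (Groth.Agent.HyperLib.refine' K v) := by
    refine ⟨?_, fun q => (Groth.Agent.HyperLib.cov_refine K v (J.over X) hv
      (fun r => Groth.Agent.HyperLib.cov_of_isSRCovering _ (hK.2 r)) q).isSRCovering⟩
    have h := Groth.Agent.HyperLib.vertexSieve_refine K v (J.over X) hv h0 (Over.mk (𝟙 X))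
    rw [GrothendieckTopology.mem_over_iff] at h
    refine J.superset_covering ?_ h
    intro Z k hk
    obtain ⟨a⟩ := (Sieve.overEquiv_iff _ _).1 hk
    refine (Sieve.mem_ofArrows_iff _ _ _).2 ⟨a.f PUnit.unit, (a.φ PUnit.unit).left, ?_⟩
    exact (Category.comp_id k).symm.trans (Over.w (a.φ PUnit.unit)).symm
  let π : FormalCoproduct.yoneda.obj W ⟶ P := Sigma.desc fun p => yonedaEquiv.symm p.2
  have hπ : π ≫ u = FormalCoproduct.yoneda.map v := by
    refine Sigma.hom_ext _ _ fun p => ?_
    refine (Category.assoc _ _ _).symm.trans ?_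
    erw [Sigma.ι_desc, Sigma.ι_desc]
    apply yonedaEquiv.injective
    rw [yonedaEquiv_comp, Equiv.apply_symm_apply]
    refine (hw p).symm.trans ?_
    change _ = (Sigma.ι (fun i => yoneda.obj ((K.obj (op (SimplexCategory.mk n))).obj i)) _).app _
      ((yoneda.map (v.φ p)).app _ (𝟙 _))
    exact congrArg _ (Category.id_comp _).symm
  refine ⟨_, Groth.Agent.HyperLib.refineMap K v,
    FormalCoproduct.yoneda.map (Groth.Agent.HyperLib.refineLift K v) ≫ π, hL, ?_⟩
  rw [Category.assoc, hπ, ← Functor.map_comp, Groth.Agent.HyperLib.refineLift_comp]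

end Groth.Agent.S6507
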