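import Groth.Statements.S6517
import Groth.Agent.DCohLib.LocHtp

set_option autoImplicit false
universe u
open CategoryTheory
open DCoh

namespace Groth.Agent.S6517

open AlgebraicGeometry in
/-- Schemes; bounded finite-locally-free reading of strictly perfect: if f : X → Y is a morphism and F a
strictly perfect complex of O_Y-modules, then f^*F (pullback applied termwise) is a strictly perfect
complex of O_X-modules. -/
theorem result {X Y : Scheme.{u}} (f : X ⟶ Y) (F : CochainComplex Y.Modules ℤ)
    (hF : DCoh.IsStrictlyPerfect F) :
    DCoh.IsStrictlyPerfect (((Scheme.Modules.pullback f).mapHomologicalComplex (ComplexShape.up ℤ)).obj F) := by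
  obtain ⟨⟨a, b, hab⟩, h⟩ := hF
  exact ⟨⟨a, b, fun i hi => (Scheme.Modules.pullback f).map_isZero (hab i hi)⟩,
    fun i => Groth.Agent.PullbackMod.isFinLocFree_pullback f _ (h i)⟩

end Groth.Agent.S6517
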