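import Groth.Statements.S6523
import Groth.Agent.BrownRep.Grothendieck
import Mathlib

set_option autoImplicit false
universe v u u'
open CategoryTheory
open CohDer

namespace Groth.Agent.S6523

open CategoryTheory.Limits CategoryTheory.Pretriangulated in
/-- Let A be a Grothendieck abelian category, D a pretriangulated category whose morphism types live in
the same universe as those of D(A), and F : D(A) → D an exact functor of triangulated categories
which transforms direct sums (small coproducts) into direct sums. Then F has a right adjoint (which
is then exact as well). Stated as: F is a left adjoint. (With morphism types of D in a larger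
universe the assertion fails by a cardinality argument; the published proof applies Brown
representability to the functors W ↦ Hom(F(W), Y), which must take values in small abelian groups.) -/
theorem result {A : Type u} [Category.{v} A] [Abelian A]
    [IsGrothendieckAbelian.{v} A] [HasDerivedCategory.{v} A]
    {D : Type u'} [Category.{v} D] [Preadditive D] [HasZeroObject D] [HasShift D ℤ]
    [∀ n : ℤ, (shiftFunctor D n).Additive] [Pretriangulated D]
    (F : DerivedCategory A ⥤ D) [F.CommShift ℤ] [F.IsTriangulated]
    [∀ (ι : Type v), PreservesColimitsOfShape (Discrete ι) F] :
    F.IsLeftAdjoint := by
  haveI := Groth.Agent.BrownRep.hasCoproducts_derivedCategory (A := A)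
  haveI := hasColimitsOfShape_of_equivalence (C := DerivedCategory A)
    (Discrete.equivalence (Equiv.ulift.{v} (α := ℕ)))
  exact Groth.Agent.BrownRep.isLeftAdjoint_of_representable
    (fun H => Groth.Agent.BrownRep.isRepresentable_derivedCategory H) F

end Groth.Agent.S6523
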