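import Groth.Statements.S6524
import Groth.Agent.SiteBase.InjectiveCriterion
import Groth.Agent.SiteBase.Basic
-- import your own Groth.Agent.* helpers here

set_option autoImplicit false
universe u
open CategoryTheory
open CohSite

namespace Groth.Agent.S6524

/-- Let (C, J) be a small site and I an abelian sheaf. Suppose that for every object X of C, every
abelian subsheaf S of the free abelian sheaf Z_X^# on X (given as a monomorphism S → Z_X^#) and
every morphism S → I, the morphism extends to Z_X^# → I. Then I is an injective abelian sheaf. -/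
theorem result {C : Type u} [SmallCategory C]
    (J : GrothendieckTopology C) (I : Sheaf J AddCommGrpCat.{u})
    (h : ∀ (X : C) (S : Sheaf J AddCommGrpCat.{u}) (i : S ⟶ CohCx.freeSheaf J X) [Mono i] (φ : S ⟶ I),
      ∃ ψ : CohCx.freeSheaf J X ⟶ I, i ≫ ψ = φ) :
    Injective I := by
  refine Groth.Agent.SiteBase.injective_of_extend.{u} I (CohCx.freeSheaf J) ?_
    fun X {S} i _ φ => h X S i φ
  intro A B p _ hp
  by_contra hc
  push Not at hc
  apply hp
  haveI : Sheaf.IsLocallySurjective p := by
    refine ⟨fun {U} s => GrothendieckTopology.superset_covering _ (fun V i _ => ?_)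
      (GrothendieckTopology.top_mem _ U)⟩
    obtain ⟨a, ha⟩ := hc U ((Groth.Agent.SiteBase.secEquiv U B).symm s)
    have h1 := congrArg (Groth.Agent.SiteBase.secEquiv U B) ha
    rw [Equiv.apply_symm_apply] at h1
    refine ⟨A.obj.map i.op (Groth.Agent.SiteBase.secEquiv U A a), ?_⟩
    rw [NatTrans.naturality_apply]
    exact congrArg (B.obj.map i.op) ((Groth.Agent.SiteBase.secEquiv_comp U a p).symm.trans h1)
  haveI := Sheaf.epi_of_isLocallySurjective p
  exact isIso_of_mono_of_epi p

end Groth.Agent.S6524
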