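import Groth.Statements.S6525
import Groth.Agent.HyperLib.Descent
-- import your own Groth.Agent.* helpers here

set_option autoImplicit false
universe u
set_option backward.isDefEq.respectTransparency false
open CategoryTheory
open Hyper

namespace Groth.Agent.S6525

open Opposite CategoryTheory.Limits in
/-- For a hypercovering K of the final object of the topos (Verdier's sense) on a small site with
equalizers, fibre products and binary products and every abelian sheaf F the Čech cohomology group
Ȟ^0(K, F) is isomorphic to H^0(F), the group of global sections (the limit of F over the site).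
Existence of an isomorphism only. -/
theorem result {C : Type u} [SmallCategory C]
    [HasEqualizers C] [HasPullbacks C] [HasBinaryProducts C]
    (J : GrothendieckTopology C) (K : SimplicialObject (FormalCoproduct.{u} C))
    [∀ (n : ℕ) (F : (SimplexCategory.Truncated n)ᵒᵖ ⥤ Limits.FormalCoproduct.{u} C),
      (SimplexCategory.Truncated.inclusion n).op.HasRightKanExtension F]
    (hK : Hyper.IsHypercoveringSite J K) (F : Sheaf J AddCommGrpCat.{u}) :
    Nonempty ((Hyper.cechCxSite K F.obj).homology 0 ≅ limit F.obj) := by
  refine Groth.Agent.HyperLib.cech_homology_zero J K F.obj F.2 (fun U => ?_) (fun Y t₀ t₁ => ?_)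
  · let P0 := FormalCoproduct.yoneda.obj (K.obj (op (SimplexCategory.mk 0)))
    haveI hu : Unique ((⊤_ (Cᵒᵖ ⥤ Type u)).obj (op U)) := Types.isTerminalEquivUnique _
      (IsTerminal.isTerminalObj ((evaluation _ _).obj (op U)) _ terminalIsTerminal)
    refine J.superset_covering ?_ (hK.1.imageSieve_mem hu.default)
    rintro Z k ⟨t, -⟩
    obtain ⟨a, -⟩ := Groth.Agent.HyperLib.elt_surjective t
    exact ⟨a⟩
  · let P0 := FormalCoproduct.yoneda.obj (K.obj (op (SimplexCategory.mk 0)))
    let e := FunctorToTypes.binaryProductIso P0 P0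
    let s := e.inv.app (op Y) (Groth.Agent.HyperLib.elt t₀, Groth.Agent.HyperLib.elt t₁)
    refine ⟨_, hK.2.1.imageSieve_mem s, ?_⟩
    rintro Z k ⟨t, ht⟩
    obtain ⟨a, rfl⟩ := Groth.Agent.HyperLib.elt_surjective t
    refine ⟨a, Groth.Agent.HyperLib.elt_injective ?_, Groth.Agent.HyperLib.elt_injective ?_⟩
    · rw [← Groth.Agent.HyperLib.elt_comp, ← Groth.Agent.HyperLib.map_elt]
      have h := congrArg ((prod.fst : P0 ⨯ P0 ⟶ P0).app (op Z)) ht
      rw [← ConcreteCategory.comp_apply, ← NatTrans.comp_app, prod.lift_fst] at h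
      refine h.trans ((NatTrans.naturality_apply (prod.fst : P0 ⨯ P0 ⟶ P0) k.op s).trans ?_)
      exact congrArg _ (ConcreteCategory.congr_hom
        (NatTrans.congr_app (FunctorToTypes.binaryProductIso_inv_comp_fst P0 P0) (op Y)) _)
    · rw [← Groth.Agent.HyperLib.elt_comp, ← Groth.Agent.HyperLib.map_elt]
      have h := congrArg ((prod.snd : P0 ⨯ P0 ⟶ P0).app (op Z)) ht
      rw [← ConcreteCategory.comp_apply, ← NatTrans.comp_app, prod.lift_snd] at h
      refine h.trans ((NatTrans.naturality_apply (prod.snd : P0 ⨯ P0 ⟶ P0) k.op s).trans ?_)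
      exact congrArg _ (ConcreteCategory.congr_hom
        (NatTrans.congr_app (FunctorToTypes.binaryProductIso_inv_comp_snd P0 P0) (op Y)) _)

end Groth.Agent.S6525
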