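import Groth.Statements.S6526
import Groth.Agent.HyperLib.SSeq
-- import your own Groth.Agent.* helpers here

set_option autoImplicit false
universe u
set_option backward.isDefEq.respectTransparency false
open CategoryTheory
open Hyper

namespace Groth.Agent.S6526

open Opposite CategoryTheory.Limits in
/-- Existence form, for a hypercovering K of the final object of the topos in Verdier's sense, on a
small site with equalizers, fibre products and binary products: for an abelian sheaf F there is a
bounded E_2 spectral sequence of abelian groups with E_2^{p,q} isomorphic to the Čech cohomology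
group Ȟ^p(K, H^q(F)) of the presheaf U ↦ H^q(U, F), for p, q ≥ 0 and zero otherwise, together with
abutment data whose filtrations are finite on the global cohomology groups H^n(F) (zero for n < 0).
The E_2 identifications and the abutment isomorphisms are asserted to exist only, not pinned to the
maps of the construction, so edge maps are not part of this statement. -/
theorem result {C : Type u} [SmallCategory C]
    [HasEqualizers C] [HasPullbacks C] [HasBinaryProducts C]
    (J : GrothendieckTopology C) (K : SimplicialObject (FormalCoproduct.{u} C))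
    [∀ (n : ℕ) (F : (SimplexCategory.Truncated n)ᵒᵖ ⥤ Limits.FormalCoproduct.{u} C),
      (SimplexCategory.Truncated.inclusion n).op.HasRightKanExtension F]
    (hK : Hyper.IsHypercoveringSite J K) (F : Sheaf J AddCommGrpCat.{u}) :
    ∃ (E : E₂CohomologicalSpectralSequence AddCommGrpCat.{u})
      (a : SpSeq.Abutment E (fun n : ℤ => if 0 ≤ n then AddCommGrpCat.of (Sheaf.H F n.toNat) else AddCommGrpCat.of PUnit.{u + 1})),
      (∀ n, a.IsFinite n) ∧ SpSeq.IsBounded E ∧
      ∀ p q : ℤ, Nonempty ((E.page 2 le_rfl).X (p, q) ≅
        (if 0 ≤ p ∧ 0 ≤ q then (Hyper.cechCxSite K (Sheaf.cohomologyPresheaf F q.toNat)).homology p.toNat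
         else AddCommGrpCat.of PUnit.{u + 1})) := by
  let T := sheafToPresheaf J AddCommGrpCat.{u} ⋙ HyperLib.cochF K
  haveI : T.Additive := inferInstance
  refine SpSeqLib.exists_grothendieck T HyperLib.CxDerived.Z0
    (fun I hI p => ?_) F (fun n => ?_) (fun n hn => ?_) (fun p q => ?_) (fun p q h => ?_)
  · haveI := hI
    obtain ⟨e⟩ := HyperLib.CxDerived.nonempty_rightDerived_iso (T.obj I) (p + 1)
    exact IsZero.of_iso (HyperLib.isZero_homology_of_cocycles (HyperLib.cochains K I.obj) p fun x hx =>
      HyperLib.exists_coboundary (HyperLib.fills_of_site hK) (HyperLib.vertexSieve_of_site hK) I x hx) e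
  · obtain ⟨j⟩ := SpSeqLib.nonempty_rightDerived_iso_ext (HyperLib.cstZ J)
      (HyperLib.cyclesIsoCoyoneda K hK) F n
    exact ⟨j ≪≫ eqToIso (by simp)⟩
  · rw [if_neg (by omega)]
    exact SpSeqLib.isZero_punit
  · obtain ⟨j⟩ := HyperLib.CxDerived.nonempty_rightDerived_iso ((T.rightDerived q).obj F) p
    let R' := injectiveResolution F
    let k : (T.rightDerived q).obj F ≅ (HyperLib.cochF K).obj (F.cohomologyPresheaf q) :=
      R'.isoRightDerivedObj T q ≪≫
        ((SiteBase.presheafCx R').sc q).mapHomologyIso (HyperLib.cochF K) ≪≫
        (HyperLib.cochF K).mapIso (SiteBase.homologyPresheafIso R' q)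
    exact ⟨j ≪≫ (HomologicalComplex.homologyFunctor _ _ p).mapIso k ≪≫ eqToIso (by simp)⟩
  · rw [if_neg (by omega)]
    exact SpSeqLib.isZero_punit


end Groth.Agent.S6526
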