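import Groth.Statements.S6530
import Mathlib.RingTheory.AdicCompletion.Algebra
import Mathlib.RingTheory.DividedPowers.DPMorphism
import Mathlib.Tactic.LinearCombination

set_option autoImplicit false
universe u
open DPow

namespace Groth.Agent.S6530

section Helpers
open Finset
variable {A : Type u} [CommRing A] {I : Ideal A}

theorem dpow_congr (γ : DividedPowers I) (p : A) (t : ℕ) (ht : Ideal.span {p} ^ t ≤ I) {M : ℕ} {a b : A} (ha : a ∈ I)
    (h : b - a ∈ Ideal.span {p} ^ (M + t)) (n : ℕ) : γ.dpow n b - γ.dpow n a ∈ Ideal.span {p} ^ M := by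
  simp only [Ideal.span_singleton_pow] at h ht ⊢
  obtain ⟨c, hc⟩ := Ideal.mem_span_singleton'.1 h
  have hpt : p ^ t ∈ I := ht (Ideal.mem_span_singleton_self _)
  have hb : b = a + p ^ M * c * p ^ t := by linear_combination -hc
  have hmem : p ^ M * c * p ^ t ∈ I := I.mul_mem_left _ hpt
  rw [hb, γ.dpow_add ha hmem, ← Finset.sum_erase_add _ _ (show (n, 0) ∈ antidiagonal n by simp),
    γ.dpow_zero hmem, mul_one, add_sub_cancel_right]
  refine sum_mem fun k hk => ?_
  rw [Finset.mem_erase, HasAntidiagonal.mem_antidiagonal] at hk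
  have hk2 : k.2 ≠ 0 := fun h0 => hk.1 (Prod.ext (by omega) h0)
  rw [γ.dpow_mul hpt]
  refine Ideal.mul_mem_left _ _ (Ideal.mul_mem_right _ _ (Ideal.pow_mem_of_mem _ ?_ _ (Nat.pos_of_ne_zero hk2)))
  exact Ideal.mul_mem_right _ _ (Ideal.mem_span_singleton_self _)

theorem factor_evalₐ {P : Ideal A} {M N : ℕ} (h : M ≤ N) (x : AdicCompletion P A) :
    Ideal.Quotient.factor (Ideal.pow_le_pow_right (I := P) h) (AdicCompletion.evalₐ P N x) = AdicCompletion.evalₐ P M x := by
  obtain ⟨r, rfl⟩ := AdicCompletion.mk_surjective P A x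
  rw [AdicCompletion.evalₐ_mk, AdicCompletion.evalₐ_mk, Ideal.Quotient.factor_mk]
  exact AdicCompletion.Ideal.mk_eq_mk P h r

theorem exists_dp (γ : DividedPowers I) (p : A) (t : ℕ) (ht : Ideal.span {p} ^ t ≤ I) :
    ∃ δ : DividedPowers (RingHom.ker ((Ideal.Quotient.factor ht).comp
      (AdicCompletion.evalₐ (Ideal.span {p}) t).toRingHom)),
      γ.IsDPMorphism δ (algebraMap A (AdicCompletion (Ideal.span {p}) A)) := by
  classical
  let P := Ideal.span {p}
  let K := RingHom.ker ((Ideal.Quotient.factor ht).comp (AdicCompletion.evalₐ P t).toRingHom)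
  choose rep hrep using fun (x : AdicCompletion P A) (N : ℕ) =>
    Ideal.Quotient.mk_surjective (AdicCompletion.evalₐ P N x)
  have hmemI : ∀ {x}, x ∈ K → ∀ {N a}, t ≤ N → Ideal.Quotient.mk (P ^ N) a = AdicCompletion.evalₐ P N x → a ∈ I := by
    intro x hx N a hN ha
    rw [← Ideal.Quotient.eq_zero_iff_mem]
    have h : Ideal.Quotient.factor ht (AdicCompletion.evalₐ P t x) = 0 := RingHom.mem_ker.1 hx
    rw [← factor_evalₐ hN x, ← ha, Ideal.Quotient.factor_mk, Ideal.Quotient.factor_mk] at h
    exact h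
  have key : ∀ {x}, x ∈ K → ∀ (n M N : ℕ) (a : A), M + t ≤ N → Ideal.Quotient.mk (P ^ N) a = AdicCompletion.evalₐ P N x →
      Ideal.Quotient.mk (P ^ M) (γ.dpow n a) = Ideal.Quotient.mk (P ^ M) (γ.dpow n (rep x (M + t))) := by
    intro x hx n M N a hN ha
    refine Ideal.Quotient.eq.2 (dpow_congr γ p t ht (hmemI hx (Nat.le_add_left t M) (hrep x _)) ?_ n)
    refine Ideal.Quotient.eq.1 ?_
    rw [hrep, ← factor_evalₐ hN x, ← ha, Ideal.Quotient.factor_mk]
  have hex : ∀ x ∈ K, ∀ n, ∃ y : AdicCompletion P A, ∀ M N a, M + t ≤ N →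
      Ideal.Quotient.mk (P ^ N) a = AdicCompletion.evalₐ P N x →
        AdicCompletion.evalₐ P M y = Ideal.Quotient.mk (P ^ M) (γ.dpow n a) := by
    intro x hx n
    refine ⟨AdicCompletion.mk P A (AdicCompletion.AdicCauchySequence.mk P A (fun M => γ.dpow n (rep x (M + t))) fun M => ?_),
      fun M N a hN ha => ?_⟩
    · rw [SModEq.def]
      exact Ideal.Quotient.eq.2 (by
        simpa using Ideal.Quotient.eq.1 (key hx n M (M + 1 + t) _ (by omega) (hrep x _)).symm)
    · rw [AdicCompletion.evalₐ_mk]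
      exact (key hx n M N a hN ha).symm
  choose D hD using hex
  let dp : ℕ → AdicCompletion P A → AdicCompletion P A := fun n x => if hx : x ∈ K then D x hx n else 0
  have hdp : ∀ {x}, x ∈ K → ∀ (n M N : ℕ) (a : A), M + t ≤ N → Ideal.Quotient.mk (P ^ N) a = AdicCompletion.evalₐ P N x →
      AdicCompletion.evalₐ P M (dp n x) = Ideal.Quotient.mk (P ^ M) (γ.dpow n a) := fun {x} hx n => by
    simp only [dp, dif_pos hx]; exact hD x hx n
  have hmem : ∀ {n x}, n ≠ 0 → x ∈ K → dp n x ∈ K := fun {n x} hn hx => by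
    rw [RingHom.mem_ker]
    show Ideal.Quotient.factor ht (AdicCompletion.evalₐ P t (dp n x)) = 0
    rw [hdp hx n t _ _ le_rfl (hrep x _), Ideal.Quotient.factor_mk, Ideal.Quotient.eq_zero_iff_mem]
    exact γ.dpow_mem hn (hmemI hx (Nat.le_add_left t t) (hrep x _))
  have ext : ∀ {u v : AdicCompletion P A}, (∀ M, AdicCompletion.evalₐ P M u = AdicCompletion.evalₐ P M v) → u = v :=
    fun h => AdicCompletion.ext_evalₐ h
  have lift : ∀ (x : AdicCompletion P A) {M N : ℕ}, M ≤ N → Ideal.Quotient.mk (P ^ M) (rep x N) = AdicCompletion.evalₐ P M x := by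
    intro x M N h
    rw [← factor_evalₐ h x, ← hrep x N, Ideal.Quotient.factor_mk]
  have hI : ∀ {x}, x ∈ K → ∀ M, rep x (M + t) ∈ I := fun {x} hx M => hmemI hx (Nat.le_add_left t M) (hrep x _)
  let δ : DividedPowers K :=
    { dpow := dp
      dpow_null := fun {n x} hx => dif_neg hx
      dpow_zero := fun {x} hx => ext fun M => by
        rw [hdp hx 0 M _ _ le_rfl (hrep x _), γ.dpow_zero (hI hx M), map_one, map_one]
      dpow_one := fun {x} hx => ext fun M => by
        rw [hdp hx 1 M _ _ le_rfl (hrep x _), γ.dpow_one (hI hx M), lift x (Nat.le_add_right M t)]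
      dpow_mem := hmem
      dpow_add := fun {n x y} hx hy => ext fun M => by
        have h : Ideal.Quotient.mk (P ^ (M + t)) (rep x (M + t) + rep y (M + t)) = AdicCompletion.evalₐ P (M + t) (x + y) := by
          rw [map_add, map_add, hrep, hrep]
        rw [hdp (add_mem hx hy) n M _ _ le_rfl h, γ.dpow_add (hI hx M) (hI hy M), map_sum, map_sum]
        exact Finset.sum_congr rfl fun k _ => by
          rw [map_mul, map_mul, hdp hx k.1 M _ _ le_rfl (hrep x _), hdp hy k.2 M _ _ le_rfl (hrep y _)]
      dpow_mul := fun {n a x} hx => ext fun M => by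
        have h : Ideal.Quotient.mk (P ^ (M + t)) (rep a (M + t) * rep x (M + t)) = AdicCompletion.evalₐ P (M + t) (a * x) := by
          rw [map_mul, map_mul, hrep, hrep]
        rw [hdp (Ideal.mul_mem_left _ _ hx) n M _ _ le_rfl h, γ.dpow_mul (hI hx M), map_mul, map_mul, map_pow, map_pow,
          hdp hx n M _ _ le_rfl (hrep x _), lift a (Nat.le_add_right M t)]
      mul_dpow := fun {m n x} hx => ext fun M => by
        rw [map_mul, map_mul, map_natCast, hdp hx m M _ _ le_rfl (hrep x _), hdp hx n M _ _ le_rfl (hrep x _),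
          hdp hx (m + n) M _ _ le_rfl (hrep x _), ← map_mul, γ.mul_dpow (hI hx M), map_mul, map_natCast]
      dpow_comp := fun {m n x} hn hx => ext fun M => by
        have h : Ideal.Quotient.mk (P ^ (M + t)) (γ.dpow n (rep x (M + t + t))) = AdicCompletion.evalₐ P (M + t) (dp n x) :=
          (hdp hx n (M + t) _ _ le_rfl (hrep x _)).symm
        rw [hdp (hmem hn hx) m M _ _ le_rfl h, map_mul, map_natCast,
          hdp hx (m * n) M (M + t + t) _ (Nat.le_add_right _ _) (hrep x _),
          γ.dpow_comp hn (hI hx (M + t)), map_mul, map_natCast] }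
  refine ⟨δ, ?_, fun {n} a ha => ext fun M => ?_⟩
  · rw [Ideal.map_le_iff_le_comap]
    intro a ha
    rw [Ideal.mem_comap, RingHom.mem_ker]
    show Ideal.Quotient.factor ht (AdicCompletion.evalₐ P t (algebraMap A _ a)) = 0
    rw [AlgHom.commutes, Ideal.Quotient.algebraMap_eq, Ideal.Quotient.factor_mk, Ideal.Quotient.eq_zero_iff_mem]
    exact ha
  · have hK : algebraMap A (AdicCompletion P A) a ∈ K := by
      rw [RingHom.mem_ker]
      show Ideal.Quotient.factor ht (AdicCompletion.evalₐ P t (algebraMap A _ a)) = 0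
      rw [AlgHom.commutes, Ideal.Quotient.algebraMap_eq, Ideal.Quotient.factor_mk, Ideal.Quotient.eq_zero_iff_mem]
      exact ha
    show AdicCompletion.evalₐ P M (dp n (algebraMap A _ a)) = AdicCompletion.evalₐ P M (algebraMap A _ (γ.dpow n a))
    rw [hdp hK n M (M + t) a le_rfl (AlgHom.commutes _ a).symm, AlgHom.commutes]
    rfl

end Helpers

/-- Let (A, I, γ) be a divided power ring and p a prime number with p^t A ⊆ I for some t ≥ 0, so that p
is nilpotent in A/I. Let A^∧ be the p-adic completion of A and π : A^∧ → A/I the composite of the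
evaluation A^∧ → A/p^tA with the projection A/p^tA → A/I. Then π is surjective, and there is a
divided power structure on Ker(π) (this kernel is the p-adic completion of I) such that the
canonical map A → A^∧ is a homomorphism of divided power rings. -/
theorem result {A : Type u} [CommRing A] {I : Ideal A}
    (γ : DividedPowers I) (p : ℕ) [Fact p.Prime] (t : ℕ) (ht : Ideal.span {(p : A)} ^ t ≤ I) :
    Function.Surjective ((Ideal.Quotient.factor ht).comp
      (AdicCompletion.evalₐ (Ideal.span {(p : A)}) t).toRingHom) ∧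
    ∃ δ : DividedPowers (RingHom.ker ((Ideal.Quotient.factor ht).comp
      (AdicCompletion.evalₐ (Ideal.span {(p : A)}) t).toRingHom)),
      γ.IsDPMorphism δ (algebraMap A (AdicCompletion (Ideal.span {(p : A)}) A)) := by
  exact ⟨(Ideal.Quotient.factor_surjective ht).comp (AdicCompletion.surjective_evalₐ _ t), exists_dp γ _ t ht⟩

end Groth.Agent.S6530
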