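import Mathlib
import Mathlib
import Groth.Agent.WEField.TorDim
import Groth.Statements.S6532

set_option autoImplicit false
universe u
open LCI

namespace Groth.Agent.S6532
set_option backward.isDefEq.respectTransparency false

open MvPolynomial
open scoped TensorProduct

section Complex

variable {Q : Type u} [CommRing Q] (a : Q) (J : Ideal Q)

/-- A stage of the construction: the index type of a free module and the submodule to be hit. -/
structure Stage (Q : Type u) [CommRing Q] : Type (u + 1) where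
  idx : Type u
  K : Submodule Q (idx →₀ Q)

/-- The stages of a complex of free modules which is exact modulo `a`, starting with `J`. -/
noncomputable def stage : ℕ → Stage Q
  | 0 => ⟨PUnit.{u + 1}, Submodule.comap (Finsupp.lapply PUnit.unit) J⟩
  | i + 1 => ⟨↥(stage i).K,
      (LinearMap.range (a • (LinearMap.id : ((stage i).idx →₀ Q) →ₗ[Q] _))).comap
        (Finsupp.linearCombination Q (Subtype.val : ↥(stage i).K → _))⟩

/-- The free modules. -/
abbrev G (i : ℕ) : Type u := (stage a J i).idx →₀ Q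

/-- The differential. -/
noncomputable def d (i : ℕ) : G a J (i + 1) →ₗ[Q] G a J i :=
  Finsupp.linearCombination Q (Subtype.val : ↥(stage a J i).K → _)

lemma range_d (i : ℕ) : LinearMap.range (d a J i) = (stage a J i).K := by
  rw [d, Finsupp.range_linearCombination]
  exact (congrArg _ Subtype.range_coe_subtype).trans (Submodule.span_eq _)

lemma mem_K_succ {i : ℕ} {x : G a J (i + 1)} :
    x ∈ (stage a J (i + 1)).K ↔ ∃ y, d a J i x = a • y :=
  ⟨fun ⟨y, hy⟩ => ⟨y, hy.symm⟩, fun ⟨y, hy⟩ => ⟨y, hy.symm⟩⟩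

lemma mem_K_zero {x : G a J 0} : x ∈ (stage a J 0).K ↔ x PUnit.unit ∈ J := Iff.rfl

lemma smul_mem_K (ha : a ∈ J) : ∀ (i : ℕ) (y : G a J i), a • y ∈ (stage a J i).K
  | 0, y => by
    rw [mem_K_zero, Finsupp.smul_apply, smul_eq_mul]
    exact J.mul_mem_right _ ha
  | i + 1, y => (mem_K_succ a J).2 ⟨d a J i y, map_smul _ _ _⟩

lemma exists_dd (i : ℕ) (x : G a J (i + 1 + 1)) : ∃ y, d a J i (d a J (i + 1) x) = a • y :=
  (mem_K_succ a J).1 (range_d a J (i + 1) ▸ LinearMap.mem_range_self _ x)

/-- A linear map `θ` with `d ∘ d = a • θ`. -/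
noncomputable def theta (i : ℕ) : G a J (i + 1 + 1) →ₗ[Q] G a J i :=
  Finsupp.linearCombination Q fun b => (exists_dd a J i (Finsupp.single b 1)).choose

lemma dd (i : ℕ) (x : G a J (i + 1 + 1)) : d a J i (d a J (i + 1) x) = a • theta a J i x := by
  induction x using Finsupp.induction_linear with
  | zero => simp
  | add x y hx hy => simp [hx, hy]
  | single b c =>
    rw [← Finsupp.smul_single_one, map_smul, map_smul, map_smul, smul_comm a c]
    congr 1
    rw [theta, Finsupp.linearCombination_single, one_smul]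
    exact (exists_dd a J i (Finsupp.single b 1)).choose_spec

/-- Applying `d ∘ d` to an element killed by `a` gives zero. -/
lemma dd_eq_zero (i : ℕ) {x : G a J (i + 1 + 1)} (h : a • x = 0) :
    d a J i (d a J (i + 1) x) = 0 := by
  rw [dd, ← map_smul, h, map_zero]

variable {m : ℕ} (r' f' : Fin m → Q) (g : Q)

/-- The exterior algebra on `m` generators. -/
abbrev E (Q : Type u) [CommRing Q] (m : ℕ) : Type u := ExteriorAlgebra Q (Fin m → Q)

/-- The linear form given by the sequence `f'`. -/
noncomputable def phi : Module.Dual Q (Fin m → Q) := ∑ j, f' j • LinearMap.proj j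

lemma phi_apply (v : Fin m → Q) : phi f' v = ∑ j, v j * f' j := by
  simp [phi, mul_comm]

/-- The Koszul differential. -/
noncomputable def dK : E Q m →ₗ[Q] E Q m :=
  CliffordAlgebra.contractLeft (Q := (0 : QuadraticForm Q (Fin m → Q))) (phi f')

/-- Multiplication by the cycle `r'`. -/
noncomputable def mulZ : E Q m →ₗ[Q] E Q m :=
  LinearMap.mulLeft Q (ExteriorAlgebra.ι Q r')

lemma dK_dK (x : E Q m) : dK f' (dK f' x) = 0 := CliffordAlgebra.contractLeft_contractLeft (phi f') x

lemma mulZ_mulZ (x : E Q m) : mulZ r' (mulZ r' x) = 0 := by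
  simp only [mulZ, LinearMap.mulLeft_apply, ← _root_.mul_assoc, ExteriorAlgebra.ι_sq_zero, zero_mul]

lemma dK_ι_mul (v : Fin m → Q) (x : E Q m) :
    dK f' (ExteriorAlgebra.ι Q v * x) = phi f' v • x - ExteriorAlgebra.ι Q v * dK f' x :=
  CliffordAlgebra.contractLeft_ι_mul (phi f') v x

lemma dK_mulZ (hsum : ∑ j, r' j * f' j = a * g) (x : E Q m) :
    mulZ r' (dK f' x) + dK f' (mulZ r' x) = (a * g) • x := by
  simp only [mulZ, LinearMap.mulLeft_apply, dK_ι_mul, phi_apply, hsum]
  abel

/-- The augmentation. -/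
noncomputable def eps : E Q m →ₐ[Q] Q := ExteriorAlgebra.algebraMapInv

lemma eps_ι (v : Fin m → Q) : eps (ExteriorAlgebra.ι Q v) = 0 := by
  simp [eps, ExteriorAlgebra.algebraMapInv]

lemma eps_dK (hf' : ∀ j, f' j ∈ J) (x : E Q m) : eps (dK f' x) ∈ J := by
  induction x using CliffordAlgebra.left_induction with
  | algebraMap c =>
    rw [show dK f' (algebraMap Q (E Q m) c) = 0 from CliffordAlgebra.contractLeft_algebraMap _ (phi f') c,
      map_zero]
    exact J.zero_mem
  | add x y hx hy => rw [map_add, map_add]; exact J.add_mem hx hy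
  | ι_mul x v _ =>
    rw [show CliffordAlgebra.ι _ v * x = ExteriorAlgebra.ι Q v * x from rfl, dK_ι_mul, map_sub,
      map_mul, eps_ι, zero_mul, sub_zero, map_smul, smul_eq_mul]
    refine J.mul_mem_right _ ?_
    rw [phi_apply]
    exact J.sum_mem fun j _ => J.mul_mem_left _ (hf' j)

/-- The boundary prescribed for the next step of the comparison map. -/
noncomputable def bd {i : ℕ} (Φ : ℕ → (E Q m →ₗ[Q] G a J i)) : ℕ → (E Q m →ₗ[Q] G a J i)
  | 0 => Φ 0 ∘ₗ dK f'
  | n + 1 => Φ (n + 1) ∘ₗ dK f' + Φ n ∘ₗ mulZ r'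

/-- The comparison map in degree zero. -/
noncomputable def phi0 : ℕ → (E Q m →ₗ[Q] G a J 0)
  | 0 => Finsupp.lsingle (R := Q) PUnit.unit ∘ₗ eps.toLinearMap
  | _ + 1 => 0

/-- The coordinate in degree zero. -/
noncomputable def ev0 : G a J 0 →ₗ[Q] Q := Finsupp.lapply PUnit.unit

lemma ev0_phi0 (x : E Q m) : ev0 a J (phi0 a J 0 x) = eps x := Finsupp.single_eq_same

lemma bd_phi0 (hf' : ∀ j, f' j ∈ J) (n : ℕ) (x : E Q m) :
    bd a J r' f' (phi0 a J) n x ∈ (stage a J 0).K := by
  show ev0 a J (bd a J r' f' (phi0 a J) n x) ∈ J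
  match n with
  | 0 =>
    show ev0 a J (phi0 a J 0 (dK f' x)) ∈ J
    rw [ev0_phi0]
    exact eps_dK J f' hf' x
  | 1 =>
    show ev0 a J ((0 : G a J 0) + phi0 a J 0 (mulZ r' x)) ∈ J
    rw [zero_add, ev0_phi0, mulZ, LinearMap.mulLeft_apply, map_mul, eps_ι, zero_mul]
    exact J.zero_mem
  | _ + 2 =>
    show ev0 a J ((0 : G a J 0) + 0) ∈ J
    rw [add_zero, map_zero]
    exact J.zero_mem

lemma exists_step (hsum : ∑ j, r' j * f' j = a * g) {i : ℕ}
    (Φ : ℕ → (E Q m →ₗ[Q] G a J i)) (hΦ : ∀ n x, bd a J r' f' Φ n x ∈ (stage a J i).K) :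
    ∃ Ψ : ℕ → (E Q m →ₗ[Q] G a J (i + 1)), (∀ n, d a J i ∘ₗ Ψ n = bd a J r' f' Φ n) ∧
      ∀ n x, bd a J r' f' Ψ n x ∈ (stage a J (i + 1)).K := by
  let b := (Pi.basisFun Q (Fin m)).ExteriorAlgebra
  have hpre : ∀ n s, ∃ y, d a J i y = bd a J r' f' Φ n (b s) := fun n s => by
    have h := hΦ n (b s)
    rw [← range_d] at h
    exact h
  choose y hy using hpre
  have hΨ : ∀ n, d a J i ∘ₗ b.constr Q (y n) = bd a J r' f' Φ n := fun n =>
    b.ext fun s => by rw [LinearMap.comp_apply, Module.Basis.constr_basis]; exact hy n s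
  refine ⟨fun n => b.constr Q (y n), hΨ, fun n x => (mem_K_succ a J).2 ?_⟩
  have hd : ∀ n x, d a J i (b.constr Q (y n) x) = bd a J r' f' Φ n x := fun n x =>
    LinearMap.congr_fun (hΨ n) x
  match n with
  | 0 =>
    refine ⟨0, ?_⟩
    simp only [bd, hd, LinearMap.comp_apply, dK_dK, map_zero, smul_zero]
  | 1 =>
    refine ⟨g • Φ 0 x, ?_⟩
    simp only [bd, hd, LinearMap.comp_apply, LinearMap.add_apply, map_add, dK_dK, map_zero,
      zero_add]
    rw [← map_add, dK_mulZ a r' f' g hsum, map_smul, smul_smul]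
  | n + 2 =>
    refine ⟨g • Φ (n + 1) x, ?_⟩
    simp only [bd, hd, LinearMap.comp_apply, LinearMap.add_apply, map_add, dK_dK, mulZ_mulZ,
      map_zero, zero_add, add_zero]
    rw [← map_add, dK_mulZ a r' f' g hsum, map_smul, smul_smul]

variable (hsum : ∑ j, r' j * f' j = a * g) (hf' : ∀ j, f' j ∈ J)

/-- The comparison map from the Tate complex. -/
noncomputable def Phi : (i : ℕ) →
    {Φ : ℕ → (E Q m →ₗ[Q] G a J i) // ∀ n x, bd a J r' f' Φ n x ∈ (stage a J i).K}
  | 0 => ⟨phi0 a J, bd_phi0 a J r' f' hf'⟩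
  | i + 1 => ⟨(exists_step a J r' f' g hsum (Phi i).1 (Phi i).2).choose,
      (exists_step a J r' f' g hsum (Phi i).1 (Phi i).2).choose_spec.2⟩

lemma d_Phi (i n : ℕ) (x : E Q m) :
    d a J i ((Phi a J r' f' g hsum hf' (i + 1)).1 n x) =
      bd a J r' f' (Phi a J r' f' g hsum hf' i).1 n x :=
  LinearMap.congr_fun ((exists_step a J r' f' g hsum (Phi a J r' f' g hsum hf' i).1
    (Phi a J r' f' g hsum hf' i).2).choose_spec.1 n) x

/-- The cycles corresponding to the divided powers. -/
noncomputable def u' (n : ℕ) : G a J (2 * n) := (Phi a J r' f' g hsum hf' (2 * n)).1 n 1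

lemma ev0_u'_zero : ev0 a J (u' a J r' f' g hsum hf' 0) = 1 :=
  (ev0_phi0 a J (1 : E Q m)).trans (map_one _)

lemma dK_one : dK f' (1 : E Q m) = 0 :=
  CliffordAlgebra.contractLeft_one _ (phi f')

lemma d_u' (n : ℕ) : d a J (2 * n + 1) (u' a J r' f' g hsum hf' (n + 1)) =
    (Phi a J r' f' g hsum hf' (2 * n + 1)).1 n (ExteriorAlgebra.ι Q r') := by
  refine (d_Phi a J r' f' g hsum hf' (2 * n + 1) (n + 1) 1).trans ?_
  simp [bd, dK_one, mulZ]

lemma dd_u' (n : ℕ) : d a J (2 * n) (d a J (2 * n + 1) (u' a J r' f' g hsum hf' (n + 1))) =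
    a • g • u' a J r' f' g hsum hf' n := by
  rw [d_u', d_Phi]
  have hz : dK f' (ExteriorAlgebra.ι Q r') = (a * g) • (1 : E Q m) := by
    have h := dK_ι_mul f' r' (1 : E Q m)
    rw [_root_.mul_one, dK_one, mul_zero, sub_zero, phi_apply, hsum] at h
    exact h
  match n with
  | 0 =>
    show (Phi a J r' f' g hsum hf' 0).1 0 (dK f' (ExteriorAlgebra.ι Q r')) = _
    rw [hz, map_smul, smul_smul]
    rfl
  | n + 1 =>
    simp [bd, hz, mulZ, ExteriorAlgebra.ι_sq_zero, smul_smul, u']

include hsum hf' in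
/-- Descend from degree `2 n` to degree zero. -/
lemma descend (n : ℕ) : ∀ (c : Q) (y : G a J (2 * n + 1)),
    a • (c • u' a J r' f' g hsum hf' n - d a J (2 * n) y) = 0 →
      ∃ z : G a J 1, a * (c * g ^ n - ev0 a J (d a J 0 z)) = 0 := by
  induction n with
  | zero =>
    intro c y h
    refine ⟨y, ?_⟩
    have h0 := congrArg (ev0 a J) h
    rw [map_zero, map_smul, map_sub, map_smul, ev0_u'_zero, smul_eq_mul, smul_eq_mul,
      _root_.mul_one] at h0
    rw [pow_zero, _root_.mul_one]
    exact h0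
  | succ n ih =>
    intro c y h
    have h2 := dd_eq_zero a J (2 * n) (x := c • u' a J r' f' g hsum hf' (n + 1) - d a J (2 * n + 1 + 1) y) h
    rw [map_sub, map_sub, map_smul, map_smul, dd_u'] at h2
    rw [dd a J (2 * n + 1) y, map_smul, smul_comm c a, ← smul_sub, smul_smul c g] at h2
    obtain ⟨z, hz⟩ := ih (c * g) _ h2
    exact ⟨z, by rw [pow_succ', ← _root_.mul_assoc]; exact hz⟩

end Complex

/-- A linear map of a module with flat cokernel reflects membership in `I • ⊤`. -/
lemma mem_smul_top_of_flat {R T F C : Type u} [CommRing R] [AddCommGroup T] [Module R T]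
    [AddCommGroup F] [Module R F] [AddCommGroup C] [Module R C] (I : Ideal R) (j : T →ₗ[R] F)
    (q : F →ₗ[R] C) [Module.Flat R C] (hj : Function.Injective j) (hq : Function.Surjective q)
    (hjq : Function.Exact j q) {x : T} (hx : j x ∈ I • (⊤ : Submodule R F)) :
    x ∈ I • (⊤ : Submodule R T) := by
  have h1 : (1 : R ⧸ I) ⊗ₜ[R] j x = 0 := by
    apply (TensorProduct.quotTensorEquivQuotSMul F I).injective
    rw [map_zero, ← map_one (Ideal.Quotient.mk I),
      TensorProduct.quotTensorEquivQuotSMul_mk_tmul, one_smul]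
    exact (Submodule.Quotient.mk_eq_zero _).2 hx
  have h2 : (1 : R ⧸ I) ⊗ₜ[R] x = 0 := by
    apply LinearMap.lTensor_injective_of_exact_of_flat q hq j hj hjq (R ⧸ I)
    rw [LinearMap.lTensor_tmul, h1, map_zero]
  have h3 := congrArg (TensorProduct.quotTensorEquivQuotSMul T I) h2
  rw [map_zero, ← map_one (Ideal.Quotient.mk I),
    TensorProduct.quotTensorEquivQuotSMul_mk_tmul, one_smul] at h3
  exact (Submodule.Quotient.mk_eq_zero _).1 h3

lemma hasTorDimLE_mono {A M : Type u} [CommRing A] [AddCommGroup M] [Module A M] {d e : ℕ}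
    (hde : d ≤ e) (h : DRing.HasTorDimLE A d M) : DRing.HasTorDimLE A e M :=
  fun N _ _ p hp => h N p (lt_of_le_of_lt hde hp)


/-- Let R' → R be a surjection of Noetherian rings whose kernel is generated by a single element f and
has square zero; let I ⊆ R be the image of the annihilator of f. Let S = R[x_1, …, x_n]/(f_1, …,
f_m) and let ∑ r_j f_j = 0 be a relation in R[x_1, …, x_n] such that (1) every coefficient of every
r_j lies in I, and (2) there are lifts r'_j, f'_j in R'[x_1, …, x_n] and an element g with ∑ r'_j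
f'_j = f g, where g maps to a non-nilpotent element of S/IS. Under these hypotheses, the
Tor-dimension of S over R is infinite (so S fails to be a perfect R-algebra). -/
theorem result {R' R : Type u} [CommRing R'] [CommRing R]
    [IsNoetherianRing R'] [IsNoetherianRing R] (π : R' →+* R) (hπ : Function.Surjective π)
    (f : R') (hker : RingHom.ker π = Ideal.span {f}) (hf : f * f = 0)
    {n m : ℕ} (fs r : Fin m → MvPolynomial (Fin n) R) (hrel : ∑ j, r j * fs j = 0)
    (h1 : ∀ (j : Fin m) (d : Fin n →₀ ℕ),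
      MvPolynomial.coeff d (r j) ∈ ((Ideal.span {f}).annihilator).map π)
    (r' f' : Fin m → MvPolynomial (Fin n) R') (g : MvPolynomial (Fin n) R')
    (hr' : ∀ j, MvPolynomial.map π (r' j) = r j) (hf' : ∀ j, MvPolynomial.map π (f' j) = fs j)
    (hsum : ∑ j, r' j * f' j = MvPolynomial.C f * g)
    (hg : ¬ IsNilpotent (Ideal.Quotient.mk
      (Ideal.span (Set.range fs) ⊔ (((Ideal.span {f}).annihilator).map π).map MvPolynomial.C)
      (MvPolynomial.map π g))) :
    ¬ DRing.HasFiniteTorDim R (MvPolynomial (Fin n) R ⧸ Ideal.span (Set.range fs)) := by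
  rintro ⟨d₀, hd⟩
  let P := MvPolynomial (Fin n) R
  let p : MvPolynomial (Fin n) R' →+* P := MvPolynomial.map π
  let a : MvPolynomial (Fin n) R' := C f
  let J : Ideal (MvPolynomial (Fin n) R') := (Ideal.span (Set.range fs)).comap p
  let I : Ideal R := ((Ideal.span {f}).annihilator).map π
  have hp : Function.Surjective p := MvPolynomial.map_surjective π hπ
  have hker' : ∀ c, p c = 0 → ∃ e, c = a * e := by
    intro c hc
    have h : c ∈ RingHom.ker p := hc
    rw [MvPolynomial.ker_map, hker, Ideal.map_span, Set.image_singleton, Ideal.mem_span_singleton] at h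
    exact h
  have hpa : p a = 0 := by
    show MvPolynomial.map π (C f) = 0
    rw [MvPolynomial.map_C, show π f = 0 from (hker.symm ▸ Ideal.mem_span_singleton_self f : f ∈ RingHom.ker π),
      map_zero]
  have haa : a * a = 0 := by show C f * C f = 0; rw [← map_mul, hf, map_zero]
  have haJ : a ∈ J := by show p a ∈ Ideal.span (Set.range fs); rw [hpa]; exact zero_mem _
  have hfJ : ∀ j, f' j ∈ J := fun j => by
    show p (f' j) ∈ Ideal.span (Set.range fs)
    rw [show p (f' j) = fs j from hf' j]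
    exact Ideal.subset_span ⟨j, rfl⟩
  have hI : ∀ c : R', f * c = 0 → π c ∈ I := fun c hc => Ideal.mem_map_of_mem π
    ((Submodule.mem_annihilator_span_singleton f c).2 (by rw [smul_eq_mul, _root_.mul_comm, hc]))
  have hI' : ∀ b ∈ I, ∃ c, π c = b ∧ f * c = 0 := by
    intro b hb
    obtain ⟨c, hc, rfl⟩ := (Ideal.mem_map_iff_of_surjective π hπ).1 hb
    exact ⟨c, rfl, by
      rw [_root_.mul_comm]; exact (Submodule.mem_annihilator_span_singleton f c).1 hc⟩
  have har : ∀ j, a * r' j = 0 := by
    intro j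
    ext e
    rw [MvPolynomial.coeff_C_mul, coeff_zero]
    obtain ⟨c, hc, hfc⟩ := hI' _ (h1 j e)
    have hmem : coeff e (r' j) - c ∈ RingHom.ker π := by
      rw [RingHom.mem_ker, map_sub, ← MvPolynomial.coeff_map, hr', hc, sub_self]
    rw [hker, Ideal.mem_span_singleton] at hmem
    obtain ⟨w, hw⟩ := hmem
    rw [show coeff e (r' j) = c + f * w from by rw [← hw]; ring, mul_add, hfc, ← _root_.mul_assoc, hf,
      zero_mul, add_zero]
  let G' := G a J
  let d' := d a J
  let F : ℕ → Type u := fun i => (stage a J i).idx →₀ P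
  let red : ∀ i, G' i →+ F i := fun i => Finsupp.mapRange.addMonoidHom p.toAddMonoidHom
  have red_smul : ∀ i (c : MvPolynomial (Fin n) R') (x : G' i), red i (c • x) = p c • red i x := by
    intro i c x
    ext b : 1
    show p ((c • x) b) = p c * p (x b)
    rw [Finsupp.smul_apply, smul_eq_mul, map_mul]
  have red_surj : ∀ i, Function.Surjective (red i) := fun i =>
    Finsupp.mapRange_surjective _ (map_zero p) hp
  have red_ker : ∀ i (x : G' i), red i x = 0 → ∃ y, x = a • y := by
    intro i x hx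
    induction x using Finsupp.induction with
    | zero => exact ⟨0, (smul_zero _).symm⟩
    | single_add b c x hb hc ih =>
      have h : ∀ b', p ((Finsupp.single b c + x) b') = 0 := fun b' => DFunLike.congr_fun hx b'
      have hcb := h b
      rw [Finsupp.add_apply, Finsupp.single_eq_same, Finsupp.notMem_support_iff.1 hb, add_zero] at hcb
      obtain ⟨e, rfl⟩ := hker' c hcb
      obtain ⟨y, rfl⟩ := ih (by
        rw [map_add, show red i (Finsupp.single b (a * e)) = 0 from by
          show Finsupp.mapRange p (map_zero p) (Finsupp.single b (a * e)) = 0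
          rw [Finsupp.mapRange_single, map_mul, hpa, zero_mul, Finsupp.single_zero], zero_add] at hx
        exact hx)
      exact ⟨Finsupp.single b e + y, by rw [smul_add, Finsupp.smul_single, smul_eq_mul]⟩
  let D : ∀ i, F (i + 1) →ₗ[P] F i := fun i =>
    Finsupp.linearCombination P fun k => red i (Subtype.val k)
  have hD : ∀ i (x : G' (i + 1)), D i (red (i + 1) x) = red i (d' i x) := by
    intro i x
    induction x using Finsupp.induction_linear with
    | zero => simp
    | add x y hx hy => simp only [map_add, hx, hy]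
    | single b c =>
      rw [show red (i + 1) (Finsupp.single b c) = Finsupp.single b (p c) from
        Finsupp.mapRange_single (hf := map_zero p)]
      show Finsupp.linearCombination P _ _ = red i (Finsupp.linearCombination _ _ _)
      rw [Finsupp.linearCombination_single, Finsupp.linearCombination_single, red_smul]
  have hexact : ∀ i, Function.Exact (D (i + 1)) (D i) := by
    intro i x
    obtain ⟨x, rfl⟩ := red_surj (i + 1) x
    constructor
    · intro h
      rw [hD] at h
      obtain ⟨y, hy⟩ := red_ker i _ h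
      have hx : x ∈ LinearMap.range (d a J (i + 1)) := by
        rw [range_d]; exact (mem_K_succ a J).2 ⟨y, hy⟩
      obtain ⟨z, hz⟩ := hx
      exact ⟨red (i + 2) z, by rw [hD]; exact congrArg (red (i + 1)) hz⟩
    · rintro ⟨w, hw⟩
      obtain ⟨w, rfl⟩ := red_surj (i + 2) w
      rw [← hw, hD, hD, show d' i (d' (i + 1) w) = a • theta a J i w from dd a J i w, red_smul,
        hpa, zero_smul]
  -- the syzygies
  let T : ℕ → Type u := fun i => F i ⧸ (LinearMap.range (D i)).restrictScalars R
  let q : ∀ i, F i →ₗ[R] T i := fun i => ((LinearMap.range (D i)).restrictScalars R).mkQ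
  let jj : ∀ i, T (i + 1) →ₗ[R] F i := fun i => Submodule.liftQ _ ((D i).restrictScalars R)
    (fun x hx => ((hexact i x).2 hx))
  have hjq : ∀ i x, jj i (q (i + 1) x) = D i x := fun i x => rfl
  have hjinj : ∀ i, Function.Injective (jj i) := by
    intro i
    refine (injective_iff_map_eq_zero _).2 fun t ht => ?_
    obtain ⟨x, rfl⟩ := Submodule.mkQ_surjective _ t
    exact (Submodule.Quotient.mk_eq_zero _).2 ((hexact i x).1 ht)
  have hjrange : ∀ i, LinearMap.range (jj i) = (LinearMap.range (D i)).restrictScalars R := by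
    intro i
    rw [show jj i = Submodule.liftQ _ _ _ from rfl, Submodule.range_liftQ]
    rfl
  have hjex : ∀ i, Function.Exact (jj i) (q i) := by
    intro i
    rw [LinearMap.exact_iff, hjrange i]
    exact Submodule.ker_mkQ _
  -- the augmentation onto `S`
  let aug : F 0 →ₗ[R] (MvPolynomial (Fin n) R ⧸ Ideal.span (Set.range fs)) :=
    ((Ideal.span (Set.range fs)).mkQ.restrictScalars R).comp
      ((Finsupp.lapply PUnit.unit : F 0 →ₗ[P] P).restrictScalars R)
  have haugsurj : Function.Surjective aug := fun s => by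
    obtain ⟨c, rfl⟩ := Submodule.mkQ_surjective _ s
    exact ⟨Finsupp.single PUnit.unit c, congrArg _ Finsupp.single_eq_same⟩
  have haugex : Function.Exact (jj 0) aug := by
    rw [LinearMap.exact_iff, hjrange 0]
    ext x
    obtain ⟨x, rfl⟩ := red_surj 0 x
    have hJ : aug (red 0 x) = 0 ↔ x ∈ (stage a J 0).K := Submodule.Quotient.mk_eq_zero _
    rw [LinearMap.mem_ker, Submodule.restrictScalars_mem, hJ, ← range_d]
    constructor
    · rintro ⟨z, rfl⟩
      exact ⟨red 1 z, hD 0 z⟩
    · rintro ⟨w, hw⟩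
      obtain ⟨w, rfl⟩ := red_surj 1 w
      rw [hD] at hw
      obtain ⟨y, hy⟩ := red_ker 0 (d' 0 w - x) (by rw [map_sub, hw, sub_self])
      rw [show x = d' 0 w - a • y from by rw [← hy]; abel, range_d]
      exact sub_mem (range_d a J 0 ▸ LinearMap.mem_range_self _ w) (smul_mem_K a J haJ 0 y)
  haveI hflatF : ∀ i, Module.Flat R (F i) := fun i => inferInstance
  have hT : ∀ i, DRing.HasTorDimLE R (d₀ - (i + 1)) (T (i + 1)) := by
    intro i
    induction i with
    | zero =>
      exact WEField.torDim_shift_down _ _ _ (jj 0) aug (hjinj 0) haugsurj haugex _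
        (hasTorDimLE_mono (by omega) hd)
    | succ i ih =>
      exact WEField.torDim_shift_down _ _ _ (jj (i + 1)) (q (i + 1)) (hjinj _)
        (Submodule.mkQ_surjective _) (hjex _) _ (hasTorDimLE_mono (by omega) ih)
  have hTflat : ∀ i, d₀ ≤ i + 1 → Module.Flat R (T (i + 1)) := fun i hi =>
    WEField.flat_of_torOne _ _ _ (jj (i + 1)) (q (i + 1)) (hjinj _)
      (Submodule.mkQ_surjective _) (hjex _) (by simpa [Nat.sub_eq_zero_of_le hi] using hT i)
  -- coefficients in `I`
  have mem_IF : ∀ i (y : G' i), a • y = 0 → red i y ∈ I • (⊤ : Submodule R (F i)) := by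
    intro i y hy
    rw [← Finsupp.sum_single (red i y)]
    refine sum_mem fun b _ => ?_
    show Finsupp.single b (p (y b)) ∈ I • (⊤ : Submodule R (F i))
    rw [MvPolynomial.as_sum (p (y b)), Finsupp.single_finsetSum]
    refine sum_mem fun e _ => ?_
    rw [show monomial e (coeff e (p (y b))) = (coeff e (p (y b))) • monomial e (1 : R) from by
      rw [MvPolynomial.smul_monomial, smul_eq_mul, _root_.mul_one], ← Finsupp.smul_single]
    refine Submodule.smul_mem_smul ?_ trivial
    rw [MvPolynomial.coeff_map]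
    apply hI
    rw [← MvPolynomial.coeff_C_mul, show C f * y b = (a • y) b from rfl, hy]
    exact MvPolynomial.coeff_zero e
  have of_mem_IF : ∀ i (x : F i), x ∈ I • (⊤ : Submodule R (F i)) →
      ∃ y, red i y = x ∧ a • y = 0 := by
    intro i x hx
    refine Submodule.smul_induction_on hx (fun b hb x _ => ?_) (fun x y hx hy => ?_)
    ·
      obtain ⟨c, rfl, hc⟩ := hI' b hb
      obtain ⟨x, rfl⟩ := red_surj i x
      refine ⟨(C c : MvPolynomial (Fin n) R') • x, ?_, ?_⟩
      · rw [red_smul, show p (C c) = algebraMap R P (π c) from MvPolynomial.map_C _ _,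
          algebraMap_smul]
      · rw [smul_smul, show a * C c = 0 from by show C f * C c = 0; rw [← map_mul, hc, map_zero],
          zero_smul]
    · obtain ⟨x', rfl, hx'⟩ := hx
      obtain ⟨y', rfl, hy'⟩ := hy
      exact ⟨x' + y', map_add _ _ _, by rw [smul_add, hx', hy', add_zero]⟩
  -- the top of the descent
  let N := d₀ + 1
  let U := u' a J r' f' g hsum hfJ
  haveI := hTflat (2 * d₀) (by omega)
  have hdU : a • d' (2 * d₀ + 1) (U N) = 0 := by
    show a • d a J (2 * d₀ + 1) (u' a J r' f' g hsum hfJ (d₀ + 1)) = 0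
    rw [d_u', ← map_smul, ← map_smul, show a • r' = 0 from funext har, map_zero, map_zero]
  have hcls : jj (2 * d₀ + 1) (q (2 * d₀ + 2) (red (2 * d₀ + 2) (U N))) ∈
      I • (⊤ : Submodule R (F (2 * d₀ + 1))) := by
    rw [hjq, hD]
    exact mem_IF _ _ hdU
  have hcls' := mem_smul_top_of_flat I (jj (2 * d₀ + 1)) (q (2 * d₀ + 1)) (hjinj _)
    (Submodule.mkQ_surjective _) (hjex _) hcls
  rw [show (⊤ : Submodule R (T (2 * d₀ + 2))) = (⊤ : Submodule R (F (2 * d₀ + 2))).map (q _) from
    (by rw [Submodule.map_top]; exact (Submodule.range_mkQ _).symm), ← Submodule.map_smul''] at hcls'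
  obtain ⟨v, hv, hvx⟩ := hcls'
  obtain ⟨w, hw⟩ := (Submodule.Quotient.eq _).1 hvx.symm
  obtain ⟨w, rfl⟩ := red_surj (2 * d₀ + 3) w
  rw [hD] at hw
  obtain ⟨v', hv', hav⟩ := of_mem_IF _ v hv
  obtain ⟨y, hy⟩ := red_ker _ (U N - d' (2 * d₀ + 2) w - v') (by
    show red (2 * d₀ + 2) (U N - d' (2 * d₀ + 2) w - v') = 0
    rw [map_sub, map_sub, hw, hv']; abel)
  have htop : a • ((1 : MvPolynomial (Fin n) R') • U N - d a J (2 * N) w) = 0 := by
    rw [one_smul, show U N - d a J (2 * N) w = a • y + v' from eq_add_of_sub_eq hy, smul_add, hav,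
      smul_smul, haa, zero_smul, add_zero]
  obtain ⟨z, hz⟩ := descend a J r' f' g hsum hfJ N 1 w htop
  rw [_root_.one_mul] at hz
  apply hg
  refine ⟨N, ?_⟩
  rw [← map_pow, Ideal.Quotient.eq_zero_iff_mem, ← map_pow,
    show g ^ N = (g ^ N - ev0 a J (d a J 0 z)) + ev0 a J (d a J 0 z) from (sub_add_cancel _ _).symm,
    map_add]
  refine Submodule.add_mem _ (Ideal.mem_sup_right ?_) (Ideal.mem_sup_left ?_)
  · rw [MvPolynomial.mem_map_C_iff]
    intro e
    rw [MvPolynomial.coeff_map]
    apply hI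
    rw [← MvPolynomial.coeff_C_mul, show C f * _ = 0 from hz, coeff_zero]
  · have hmem : d a J 0 z ∈ (stage a J 0).K := range_d a J 0 ▸ LinearMap.mem_range_self _ z
    exact (mem_K_zero a J).1 hmem

end Groth.Agent.S6532
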