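import Groth.Statements.S6537
import Groth.Agent.H1ZeroLib.Square

set_option autoImplicit false
universe u
open CategoryTheory CategoryTheory.Limits AlgebraicGeometry
open Curves Opposite
open Groth.Agent.PullbackMod Groth.Agent.DCohLib Groth.Agent.AmpleLib Groth.Agent.H1ZeroLib

namespace Groth.Agent.S6537

/-- Let X be proper over the field k, of dimension one, with H^0(X, O_X) = k, and let L be an invertible
O_X-module generated by its global sections, with H^1(X, L) = 0 and L ample. Then the tensor square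
L^{⊗2} is very ample on X over k: some closed immersion i : X → P^n_k over k has i^* O(1) ≅ L^{⊗2}. -/
theorem result (k : Type u) [Field k] (X : Scheme.{u}) [X.Over (Spec (CommRingCat.of k))]
    [IsProper (X ↘ (Spec (CommRingCat.of k)))] (hdim : topologicalKrullDim X = 1)
    (h0 : Module.finrank k (Coh.HH X (Coh.structureModule X) 0) = 1) (L : X.Modules) (hL : PicF.IsInvertible L)
    (hgg : Curv2.IsGloballyGenerated L) (h1 : Subsingleton (Coh.HH X L 1)) (hample : CohB1.IsAmple L) :
    ∃ (n : ℕ) (i : X ⟶ CohB1.ProjSpace n k), IsClosedImmersion i ∧ i ≫ CohB1.ProjSpace.toSpec n k = X ↘ (Spec (CommRingCat.of k)) ∧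
      Nonempty ((Scheme.Modules.pullback i).obj (Twist.twistProjSpace n k 1) ≅ CohB1.tensorPow L 2) := by
  haveI := EulerIneqLib.isNoetherian_proper (X := X) k
  let e : CohB1.tensorMod L L ≅ CohB1.tensorPow L 2 :=
    haveI := isIso_pairLeft_one L
    ((DCoh.tensorBi (X := X)).mapIso (asIso (pairLeft (Coh.structureModule X) L (1 : Γ(X, ⊤))))).app L
  have hA : CohB1.IsAmple (tmod L L) := AmpleLib.isAmple_tensor hample hample
  haveI := EulerIneqLib.finite_HH (k := k) (CurveLib.isCoh_of_isInvertible hA.1) 0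
  obtain ⟨r, σ, hσ⟩ := exists_fin_genLocus (k := k) hL hgg
  let b := Module.finBasis k (Coh.HH X (tmod L L) 0)
  let s : Fin (r * r + Module.finrank k (Coh.HH X (tmod L L) 0) + 1) → (Coh.structureModule X ⟶ tmod L L) :=
    Fin.snoc (Fin.append (fun p => DCohLib.secHom (tmod L L)
      (pairS L L (sec (σ (finProdFinEquiv.symm p).2)) (sec (σ (finProdFinEquiv.symm p).1))))
      fun i => DCohLib.secHom (tmod L L) (CurveLib.secOf (tmod L L) (b i))) 0
  refine exists_closedImmersion_of_va k (X ↘ Spec (CommRingCat.of k)) (AmpleEmb.isRelVeryAmplePn_of_iso e ?_)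
  refine isRelVeryAmplePn_of_embGen (X ↘ Spec (CommRingCat.of k)) hA.1 s
    (embGen_of_mul (X ↘ Spec (CommRingCat.of k)) hA s (fun j z => ?_) (fun x => ?_) fun v => ?_)
  · obtain ⟨τ, hτ⟩ := surjective_mul_sq (k := k) hdim.le hL hgg h1 σ hσ j z
    refine ⟨Fin.snoc (Fin.append (fun p => τ (finProdFinEquiv.symm p).1 (finProdFinEquiv.symm p).2) fun _ => 0) 0, ?_⟩
    have hz : ∀ c : Γ(tmod L L, ⊤), pairS (CohB1.tensorPow (tmod L L) (j + 1)) (tmod L L) 0 c = 0 := fun c =>
      map_zero (AddMonoidHom.mk' (fun v => pairS (CohB1.tensorPow (tmod L L) (j + 1)) (tmod L L) v c)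
        fun v v' => pairS_add_left v v' _)
    rw [Fin.sum_univ_castSucc, Fin.sum_univ_add]
    simp only [s, Fin.snoc_castSucc, Fin.snoc_last, Fin.append_left, Fin.append_right, hz, Finset.sum_const_zero,
      add_zero, AmpleLib.sec_secHom]
    refine Eq.trans ?_ hτ
    rw [← Fintype.sum_prod_type']
    exact Fintype.sum_equiv finProdFinEquiv.symm _ _ fun p => rfl
  · obtain ⟨i, hi⟩ := hσ x
    refine ⟨(Fin.castAdd _ (finProdFinEquiv (i, i))).castSucc, ?_⟩
    simp only [s, Fin.snoc_castSucc, Fin.append_left, Equiv.symm_apply_apply]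
    rw [AmpleLib.mem_genLocus_iff hA.1, AmpleLib.sec_secHom]
    obtain ⟨U, hx, hU⟩ : ∃ U : X.Opens, x ∈ U ∧ ParaFLib.Gen U (AmpleLib.resT (sec (σ i)) U) :=
      AmpleLib.mem_genLocus_iff'.1 hi
    have hg := AmpleLib.gen_pairS hU hU
    have : x ∈ CohB1.genLocus (tmod L L) (DCohLib.secHom (tmod L L) (pairS L L (sec (σ i)) (sec (σ i)))) :=
      AmpleLib.mem_genLocus_iff'.2 ⟨U, hx, by rw [AmpleLib.sec_secHom, AmpleLib.resT, res_pairS]; exact hg⟩
    rw [AmpleLib.mem_genLocus_iff hA.1, AmpleLib.sec_secHom] at this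
    exact this
  · let c := b.repr ((CurveLib.secOf (tmod L L)).symm v)
    refine ⟨Fin.snoc (Fin.append (fun _ : Fin (r * r) => (0 : Γ(Spec (CommRingCat.of k), ⊤)))
      fun i => (Scheme.ΓSpecIso (CommRingCat.of k)).inv (c i)) 0, ?_⟩
    rw [Fin.sum_univ_castSucc, Fin.sum_univ_add]
    simp only [s, Fin.snoc_castSucc, Fin.snoc_last, Fin.append_left, Fin.append_right, map_zero, zero_smul,
      Finset.sum_const_zero, zero_add, add_zero, AmpleLib.sec_secHom]
    conv_lhs => rw [← (CurveLib.secOf (tmod L L)).apply_symm_apply v, ← b.sum_repr ((CurveLib.secOf (tmod L L)).symm v), map_sum]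
    refine Finset.sum_congr rfl fun i _ => ?_
    rw [CurveLib.secOf_smul]
    rfl

end Groth.Agent.S6537
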