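import Groth.Statements.S6538
import Groth.Agent.TwistShriek.CurveSetup
import Groth.Agent.TwistShriek.CurveConn
import Groth.Agent.TwistShriek.SplitTensor
import Groth.Agent.S3638
import Groth.Agent.CMRegLib.Seq
-- import your own Groth.Agent.* helpers here

set_option autoImplicit false
set_option backward.isDefEq.respectTransparency false
set_option maxHeartbeats 800000
set_option synthInstance.maxHeartbeats 200000
universe u
open CategoryTheory CategoryTheory.Limits AlgebraicGeometry
open Groth.Agent Groth.Agent.TwistShriek
attribute [local instance] HasDerivedCategory.standard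
open Curves

namespace Groth.Agent.S6538

/-- Let X be proper over the field k, of dimension one, with H^0(X, O_X) = k, and let ω_X be its
dualizing module (the degree -1 cohomology sheaf of f^! O for the structure morphism f, assuming
Rf_* on D_QCoh and its right adjoint exist). If L is an invertible O_X-module generated by its
global sections and L is not isomorphic to O_X, then ω_X ⊗ L has no first cohomology: H^1(X, ω_X ⊗
L) = 0. -/
theorem result (k : Type u) [Field k] (X : Scheme.{u}) [X.Over (Spec (CommRingCat.of k))] [IsProper (X ↘ (Spec (CommRingCat.of k)))] (hdim : topologicalKrullDim X = 1)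
    (h0 : Module.finrank k (Coh.HH X (Coh.structureModule X) 0) = 1)
    [DCoh.HasRpush (X ↘ (Spec (CommRingCat.of k)))] (h : DCoh.RpushPreservesQCoh (X ↘ (Spec (CommRingCat.of k)))) [DCoh.HasShriek (X ↘ (Spec (CommRingCat.of k))) h]
    (OY : DCoh.DQCoh (Spec (CommRingCat.of k))) (hOY : Nonempty (OY.obj ≅ DCoh.inD (Spec (CommRingCat.of k)) (Coh.structureModule (Spec (CommRingCat.of k)))))
    (L : X.Modules) (hL : PicF.IsInvertible L) (hgg : Curv2.IsGloballyGenerated L) (hnt : IsEmpty (L ≅ Coh.structureModule X)) :
    Subsingleton (Coh.HH X (CohB1.tensorMod (DCoh.dualizingMod (X ↘ (Spec (CommRingCat.of k))) h OY 1) L) 1) := by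
    obtain ⟨tr, hω, hfin, hle⟩ := exists_pair_dualizingMod k X h OY hOY hdim.le
    haveI := hfin
    haveI := EulerIneqLib.isNoetherian_proper (X := X) k
    have h38 := (Groth.Agent.S3638.result k X (X ↘ Spec (CommRingCat.of k)) 1 hdim h
      (DCoh.shriek _ h) (DCoh.shriekAdj _ h) OY hOY).1
    let ω := DCoh.dualizingMod (X ↘ Spec (CommRingCat.of k)) h OY 1
    haveI : Coh.IsQCoh ω := hω.1
    have hωc : Coh.IsCoh ω := h38.1
    haveI : Nonempty X := by
      by_contra hne
      rw [not_nonempty_iff] at hne
      haveI : IsEmpty (TopologicalSpace.IrreducibleCloseds X) := ⟨fun Z => hne.elim Z.isIrreducible.nonempty.some⟩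
      have hb : topologicalKrullDim X = ⊥ := Order.krullDim_eq_bot
      rw [hb] at hdim
      exact absurd hdim (by decide)
    haveI := connectedSpace_of_h0 k h0
    have hsupp : ∀ x : X, Nontrivial (ω.presheaf.stalk x) := fun x => by
      obtain ⟨Z, hZ, hxZ⟩ := exists_mem_irreducibleComponents_subset_of_isIrreducible {x} isIrreducible_singleton
      exact h38.2.2.ge (Set.mem_iUnion₂.2 ⟨Z, ⟨hZ, dim_irreducibleComponent k hdim hZ⟩, hxZ rfl⟩)
    have hq : Coh.IsQCoh (CohB1.tensorMod ω L) :=
      (CMRegLib.isCoh_tensor_inv hωc hL).1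
    refine subsingleton_HH_of_hom_eq_zero k hω _ hq fun u => ?_
    refine eq_zero_of_forall_mulS hgg u fun s => ?_
    let ρ := AmpleLib.unitR ω
    rcases exists_retraction k hω (hle.trans h0.le) (ρ.inv ≫ CurveLib.mulS ω s) with ⟨r, hr⟩ | h'
    · suffices e : L ≅ Coh.structureModule X from hnt.elim e
      have hv : CurveLib.mulS ω s ≫ r ≫ ρ.inv = 𝟙 _ := by
        rw [← cancel_epi ρ.inv, ← Category.assoc, ← Category.assoc, hr]
        exact (Category.id_comp _).trans (Category.comp_id _).symm
      haveI : IsIso s := (PullbackMod.isIso_iff_stalk s).2 fun x => by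
        haveI := hsupp x
        haveI := ExtVanLib.finite_stalk ω hωc x
        exact CurveLib.bijective_stalkLin_of_mem_genLocus hL (mem_genLocus_of_split hL s _ hv x)
      exact (asIso s).symm
    · have hu := h' u
      rw [Category.assoc] at hu
      exact (cancel_epi ρ.inv).1 (hu.trans comp_zero.symm)

end Groth.Agent.S6538
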