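import Groth.Statements.S6542
import Groth.Agent.CurveP1Lib.Rational

set_option autoImplicit false
universe u
open CategoryTheory CategoryTheory.Limits AlgebraicGeometry
attribute [local instance] Curv2.resAlgebra
open Curves

namespace Groth.Agent.S6542

/-- Let X be a proper curve over the field k (proper, integral, of dimension one). If H^1(X, O_X) = 0
and there are closed points x_1, ..., x_n of X whose local rings are normal and whose residue-field
degrees over k have greatest common divisor 1, then X is isomorphic to P^1_k over k. -/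
theorem result (k : Type u) [Field k] (X : Scheme.{u}) [X.Over (Spec (CommRingCat.of k))]
    [IsIntegral X] [IsProper (X ↘ (Spec (CommRingCat.of k)))] (hdim : topologicalKrullDim X = 1)
    (h1 : Subsingleton (Coh.HH X (Coh.structureModule X) 1))
    (s : Finset X) (hcl : ∀ x ∈ s, IsClosed ({x} : Set X)) (hn : ∀ x ∈ s, IsIntegrallyClosed (X.presheaf.stalk x))
    (hgcd : s.gcd (fun x => Module.finrank k (X.residueField x)) = 1) :
    ∃ e : X ≅ CohB1.ProjSpace 1 k, e.hom ≫ CohB1.ProjSpace.toSpec 1 k = X ↘ (Spec (CommRingCat.of k)) := by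
  classical
  have hmem : ∀ x ∈ s, (Module.finrank k (X.residueField x) : ℤ) ∈ CurveP1Lib.degrees (k := k) (X := X) hdim.le :=
    fun x hx => CurveP1Lib.residue_mem_degrees hdim x (hcl x hx) (hn x hx)
  have key : ∀ t : Finset X, t ⊆ s →
      ((t.gcd fun x => Module.finrank k (X.residueField x) : ℕ) : ℤ) ∈ CurveP1Lib.degrees (k := k) (X := X) hdim.le := by
    intro t
    induction t using Finset.induction_on with
    | empty => intro _; simp [zero_mem]
    | insert a t ha ih =>
      intro hsub
      rw [Finset.gcd_insert, gcd_eq_nat_gcd, Nat.gcd_eq_gcd_ab]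
      refine add_mem ?_ ?_
      · rw [mul_comm, ← smul_eq_mul]
        exact zsmul_mem (hmem a (hsub (Finset.mem_insert_self a t))) _
      · rw [mul_comm, ← smul_eq_mul]
        exact zsmul_mem (ih fun b hb => hsub (Finset.mem_insert_of_mem hb)) _
  have h1' := key s subset_rfl
  rw [hgcd] at h1'
  obtain ⟨L, hL, hdeg⟩ := h1'
  haveI := h1
  exact CurveP1Lib.exists_iso_P1_of_genus_zero hdim Module.finrank_zero_of_subsingleton hL (by exact_mod_cast hdeg)


end Groth.Agent.S6542
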