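import Groth.Statements.S6543
import Groth.Agent.SubAdjLib.GorDeg
import Groth.Agent.CurveP1Lib.DegOne
import Groth.Agent.AmpleEmb.Inverse
import Groth.Agent.CurveLib.CurveVanish

set_option autoImplicit false
universe u
open CategoryTheory CategoryTheory.Limits AlgebraicGeometry
open Curves

namespace Groth.Agent.S6543

/-- Let X be a proper curve over the field k (proper, integral, of dimension one) with H^0(X, O_X) = k,
genus 0 and Gorenstein local rings. If X has an invertible O_X-module of odd degree, then X is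
isomorphic to P^1_k over k. -/
theorem result (k : Type u) [Field k] (X : Scheme.{u}) [X.Over (Spec (CommRingCat.of k))]
    [IsIntegral X] [IsProper (X ↘ (Spec (CommRingCat.of k)))] (hdim : topologicalKrullDim X = 1)
    (h0 : Module.finrank k (Coh.HH X (Coh.structureModule X) 0) = 1) (hg : Curv2.genus k X = 0) (hgor : ∀ x : X, LocCoh.IsGorensteinLocalRing (X.presheaf.stalk x))
    (L : X.Modules) (hL : PicF.IsInvertible L) (hodd : Odd (Curv2.deg k X L 1)) :
    ∃ e : X ≅ CohB1.ProjSpace 1 k, e.hom ≫ CohB1.ProjSpace.toSpec 1 k = X ↘ (Spec (CommRingCat.of k)) := by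
  obtain ⟨Ω, hΩ, hdΩ⟩ := Groth.Agent.SubAdjLib.exists_invertible_deg_omega k hdim hgor h0
  rw [hg] at hdΩ
  obtain ⟨N, hN, ⟨eN⟩⟩ := Groth.Agent.AmpleEmb.exists_isInverseOf hΩ
  have hdN : Curv2.deg k X N 1 = 2 := by
    have h1 := Groth.Agent.CurveLib.deg_tensor_add (k := k) hdim.le hΩ hN
    rw [Groth.Agent.CurveLib.deg_iso (k := k) eN, Groth.Agent.CurveLib.deg_structureModule] at h1
    omega
  obtain ⟨m, hm⟩ := hodd
  have key : ∀ (P : X.Modules), PicF.IsInvertible P → ∀ a : ℕ, Curv2.deg k X P 1 * a + Curv2.deg k X L 1 = 1 →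
      ∃ e : X ≅ CohB1.ProjSpace 1 k, e.hom ≫ CohB1.ProjSpace.toSpec 1 k = X ↘ (Spec (CommRingCat.of k)) := by
    intro P hP a hPa
    haveI : Module.Finite k (Coh.HH X (Coh.structureModule X) 1) :=
      haveI := Groth.Agent.EulerIneqLib.isNoetherian_proper (X := X) k
      Groth.Agent.EulerIneqLib.finite_HH (k := k) (Groth.Agent.DevLib.isCoh_structureModule X) 1
    refine Groth.Agent.CurveP1Lib.exists_iso_P1_of_genus_zero hdim hg
      (L := CohB1.tensorMod (CohB1.tensorPow P a) L)
      (Groth.Agent.AmpleLib.isInvertible_tensor (Groth.Agent.AmpleLib.isInvertible_tensorPow hP a) hL) ?_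
    rw [Groth.Agent.CurveLib.deg_tensor_add (k := k) hdim.le (Groth.Agent.AmpleLib.isInvertible_tensorPow hP a) hL,
      Groth.Agent.CurveLib.deg_tensorPow (k := k) hdim.le hP a]
    linarith
  rcases le_or_gt 0 m with h | h
  · obtain ⟨a, rfl⟩ := Int.eq_ofNat_of_zero_le h
    exact key Ω hΩ a (by rw [hm, hdΩ]; push_cast; ring)
  · obtain ⟨a, ha⟩ := Int.eq_ofNat_of_zero_le (neg_nonneg.2 h.le)
    exact key N hN a (by rw [hm, hdN, ← ha]; ring)

end Groth.Agent.S6543
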