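import Groth.Statements.S6544
import Groth.Agent.CurveP1Lib.DegOne
import Groth.Agent.CurveFF.CanGen
import Groth.Agent.AmpleEmb.Inverse
import Groth.Agent.S1536
import Groth.Agent.AVLib.GeomInt
import Groth.Agent.VBLib.DegZero
import Groth.Agent.CurveLib.CurveVanish
import Groth.Agent.GeomIrred.Scheme

set_option autoImplicit false
universe u
open CategoryTheory CategoryTheory.Limits AlgebraicGeometry
open Curves

namespace Groth.Agent.S6544

/-- Let X be a proper curve over the field k (proper, integral, of dimension one) which is smooth and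
geometrically irreducible over k, of genus 0. If X has an invertible O_X-module of odd degree, then
X is isomorphic to P^1_k over k. -/
theorem result (k : Type u) [Field k] (X : Scheme.{u}) [X.Over (Spec (CommRingCat.of k))]
    [IsIntegral X] [IsProper (X ↘ (Spec (CommRingCat.of k)))] (hdim : topologicalKrullDim X = 1)
    [Smooth (X ↘ (Spec (CommRingCat.of k)))] [GeometricallyIrreducible (X ↘ (Spec (CommRingCat.of k)))] (hg : Curv2.genus k X = 0)
    (L : X.Modules) (hL : PicF.IsInvertible L) (hodd : Odd (Curv2.deg k X L 1)) :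
    ∃ e : X ≅ CohB1.ProjSpace 1 k, e.hom ≫ CohB1.ProjSpace.toSpec 1 k = X ↘ (Spec (CommRingCat.of k)) := by
  haveI := Groth.Agent.VBLib.isRegCurve_of_smooth k (X := X) hdim.le
  haveI := Groth.Agent.AVLib.geometricallyReduced_of_smooth (X ↘ Spec (CommRingCat.of k))
  haveI := GeomIrred.geometricallyConnected_of_geometricallyIrreducible (X ↘ Spec (CommRingCat.of k))
  have h0 := Groth.Agent.S1536.result k X
  have hΩ := Groth.Agent.CurveFF.omega_invertible_of_smooth k hdim h0
  obtain ⟨hdΩ, -⟩ := Groth.Agent.CurveFF.omega_deg_h0 k hdim h0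
  set Ω := Groth.Agent.CurveFF.om k X
  obtain ⟨N, hN, ⟨eN⟩⟩ := Groth.Agent.AmpleEmb.exists_isInverseOf hΩ
  have hdN : Curv2.deg k X N 1 = 2 := by
    have h1 := Groth.Agent.CurveLib.deg_tensor_add (k := k) hdim.le hΩ hN
    rw [Groth.Agent.CurveLib.deg_iso (k := k) eN, Groth.Agent.CurveLib.deg_structureModule] at h1
    rw [hdΩ, hg] at h1
    omega
  obtain ⟨m, hm⟩ := hodd
  have key : ∀ (P : X.Modules), PicF.IsInvertible P → ∀ a : ℕ, Curv2.deg k X P 1 * a + Curv2.deg k X L 1 = 1 →
      ∃ e : X ≅ CohB1.ProjSpace 1 k, e.hom ≫ CohB1.ProjSpace.toSpec 1 k = X ↘ (Spec (CommRingCat.of k)) := by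
    intro P hP a hPa
    haveI : Module.Finite k (Coh.HH X (Coh.structureModule X) 1) :=
      haveI := Groth.Agent.EulerIneqLib.isNoetherian_proper (X := X) k
      Groth.Agent.EulerIneqLib.finite_HH (k := k) (Groth.Agent.DevLib.isCoh_structureModule X) 1
    refine Groth.Agent.CurveP1Lib.exists_iso_P1_of_genus_zero hdim hg
      (L := CohB1.tensorMod (CohB1.tensorPow P a) L)
      (Groth.Agent.AmpleLib.isInvertible_tensor (Groth.Agent.AmpleLib.isInvertible_tensorPow hP a) hL) ?_
    rw [Groth.Agent.CurveLib.deg_tensor_add (k := k) hdim.le (Groth.Agent.AmpleLib.isInvertible_tensorPow hP a) hL,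
      Groth.Agent.CurveLib.deg_tensorPow (k := k) hdim.le hP a]
    linarith
  rcases le_or_gt 0 m with h | h
  · obtain ⟨a, rfl⟩ := Int.eq_ofNat_of_zero_le h
    exact key Ω hΩ a (by rw [hm, hdΩ, hg]; push_cast; ring)
  · obtain ⟨a, ha⟩ := Int.eq_ofNat_of_zero_le (neg_nonneg.2 h.le)
    exact key N hN a (by rw [hm, hdN, ← ha]; ring)

end Groth.Agent.S6544
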