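import Groth.Statements.S6551
import Groth.Agent.FlatStage.Smooth
import Groth.Agent.FlatStage.Given
import Groth.Agent.NodePtLib.MaxOpen
import Groth.Agent.S1592
import Groth.Agent.S1593
import Groth.Agent.S1595
import Groth.Agent.S7912

set_option autoImplicit false
universe u
open CategoryTheory AlgebraicGeometry
open Curves

namespace Groth.Agent.S6551

open CategoryTheory CategoryTheory.Limits AlgebraicGeometry

open Groth.Agent
set_option backward.isDefEq.respectTransparency false
set_option backward.defeqAttrib.useBackward true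

/-- Nodal families as a morphism property. -/
def nodalP : MorphismProperty Scheme.{u} := fun _ _ f => Curv2.IsNodalFamily f

instance : (nodalP.{u}).RespectsIso := by
  apply MorphismProperty.RespectsIso.mk
  · intro X Y Z e f hf
    exact S1592.result f hf e.hom
  · intro X Y Z e f hf
    exact S1595.result e.hom f hf

instance : (nodalP.{u}).IsStableUnderBaseChange :=
  MorphismProperty.IsStableUnderBaseChange.mk' (fun X Y S f g _ hg => by
    rw [← pullbackSymmetry_hom_comp_snd f g]
    exact (MorphismProperty.cancel_left_of_respectsIso nodalP.{u} _ _).2 (S7912.result g hg f))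


/-- Let S = lim S_i be the limit of a cofiltered system of schemes with affine transition morphisms, i₀
an index with S_{i₀} quasi-compact and quasi-separated, and f₀ : X₀ → Y₀ a morphism of quasi-compact
quasi-separated schemes over S_{i₀} which is locally of finite presentation. Write f : X → Y for the
pullback of f₀ along S → S_{i₀}. Assuming f to be at-worst-nodal, with relative dimension 1, there
exists an index i mapping to i₀ for which the pullback f_i : X_i → Y_i of f₀ to S_i is likewise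
at-worst-nodal of relative dimension 1. -/
theorem result {I : Type u} [SmallCategory I] [IsCofiltered I]
    (D : I ⥤ Scheme.{u}) (c : Limits.Cone D) (hc : Limits.IsLimit c)
    [∀ (i j : I) (f : i ⟶ j), IsAffineHom (D.map f)] (i₀ : I) [CompactSpace (D.obj i₀)]
    [QuasiSeparatedSpace (D.obj i₀)] {X₀ Y₀ : Scheme.{u}} (f₀ : X₀ ⟶ Y₀) (g₀ : Y₀ ⟶ D.obj i₀)
    [CompactSpace X₀] [QuasiSeparatedSpace X₀] [CompactSpace Y₀] [QuasiSeparatedSpace Y₀]
    {X Y : Scheme.{u}} (f : X ⟶ Y) (g : Y ⟶ c.pt) (qY : Y ⟶ Y₀) (qX : X ⟶ X₀)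
    (hY : IsPullback qY g g₀ (c.π.app i₀)) (hX : IsPullback qX f f₀ qY) [LocallyOfFinitePresentation f₀]
    (hf : Curv2.IsNodalFamily f) :
    ∃ (i : I) (φ : i ⟶ i₀) (Xi Yi : Scheme.{u}) (fi : Xi ⟶ Yi) (gi : Yi ⟶ D.obj i) (pY : Yi ⟶ Y₀)
      (pX : Xi ⟶ X₀), IsPullback pY gi g₀ (D.map φ) ∧ IsPullback pX fi f₀ pY ∧ Curv2.IsNodalFamily fi := by
  haveI : Flat f := hf.1
  haveI : LocallyOfFinitePresentation f := hf.2.1
  obtain ⟨k₁, hk₁⟩ := FlatStage.exists_flat D c i₀ f₀ g₀ (f := f) hY hX hc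
  haveI := FlatStage.lfp_app D i₀ f₀ g₀ k₁
  obtain ⟨k, hk⟩ := FlatStage.exists_all_points D c i₀ f₀ g₀ (f := f) hY hX hc
    (fun k z => ∃ U : ((AffLim.baseChange D i₀ (f₀ ≫ g₀)).obj k).Opens,
      z ∈ U ∧ nodalP (U.ι ≫ (AffLim.baseChangeMap D i₀ f₀ g₀).app k))
    (fun k => isOpen_iff_forall_mem_open.mpr fun z ⟨U, hz, hU⟩ =>
      ⟨U, fun z' hz' => ⟨U, hz', hU⟩, U.2, hz⟩)
    (fun {l k} a z hz =>
      FlatLocus.exists_nhd_of_isPullback (AffLim.isPullback_baseChangeMap_map D i₀ f₀ g₀ a) z hz)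
    (fun x => by
      refine ⟨k₁, ?_⟩
      let fk := (AffLim.baseChangeMap D i₀ f₀ g₀).app k₁
      have sq := FlatStage.isPullback_vMap D c i₀ f₀ g₀ (f := f) hY hX k₁
      let v := FlatStage.vMap D c i₀ g₀ hY k₁
      let e := sq.isoPullback
      have he : pullback.fst fk v (e.hom x) =
          FlatStage.vMap D c i₀ (f₀ ≫ g₀) (hX.paste_vert hY) k₁ x := by
        rw [← Scheme.Hom.comp_apply, sq.isoPullback_hom_fst]
      have hsq : IsPullback e.inv (pullback.snd fk v) f (𝟙 Y) :=
        IsPullback.of_horiz_isIso ⟨by simp [e, fk, v]⟩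
      obtain ⟨V, hV, hVf⟩ := FlatLocus.exists_nhd_of_isPullback (P := nodalP) hsq (e.hom x)
        ⟨⊤, trivial, S1592.result f hf _⟩
      haveI : Flat fk := hk₁
      haveI : LocallyOfFinitePresentation fk := FlatStage.lfp_app D i₀ f₀ g₀ k₁
      obtain ⟨U, hU, hUf⟩ := NodePtLib.exists_nodalOpen fk
      refine ⟨U, ?_, hUf⟩
      rw [← he]
      show pullback.fst fk v (e.hom x) ∈ (U : Set _)
      rw [hU]
      exact NodePtLib.nodalPt_fst fk v (NodePtLib.nodalPt_of_family (pullback.snd fk v) V hVf hV))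
  choose U hU hs using hk
  refine ⟨k.left, k.hom, _, _, (AffLim.baseChangeMap D i₀ f₀ g₀).app k,
    Limits.pullback.snd g₀ (D.map k.hom), Limits.pullback.fst g₀ (D.map k.hom),
    Limits.pullback.fst _ _, IsPullback.of_hasPullback _ _,
    AffLim.isPullback_baseChangeMap D i₀ f₀ g₀ k, ?_⟩
  exact S1593.result _ _ (fun z => (U z).toScheme) (fun z => (U z).ι)
    (fun z => ⟨z, ⟨z, hU z⟩, rfl⟩) hs

end Groth.Agent.S6551
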