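import Groth.Statements.S6556
import Mathlib
import Groth.Agent.InsepLenLib.Scheme
import Groth.Agent.InsepLenLib.Ring
import Groth.Agent.CycLib.EulerPts
import Groth.Agent.CycLib.DivPull
import Groth.Agent.GeomIrred.CurvPoint

set_option autoImplicit false
universe u
open CategoryTheory CategoryTheory.Limits AlgebraicGeometry
attribute [local instance] Curv2.resAlgebra
open Curves

namespace Groth.Agent.S6556

open CategoryTheory CategoryTheory.Limits AlgebraicGeometry

set_option backward.isDefEq.respectTransparency false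
set_option backward.defeqAttrib.useBackward true
set_option linter.style.haveILetI false

set_option maxHeartbeats 1600000

open TopologicalSpace TensorProduct

/-- The local rings of `Ω ⊗ K` have as length the inseparable degree. -/
theorem length_localization_tensor (k Ω K : Type u) [Field k] [Field Ω] [Field K] [Algebra k Ω] [IsAlgClosed Ω]
    [Algebra k K] [Module.Finite k K] (P : Ideal (Ω ⊗[k] K)) [P.IsPrime] :
    (Module.length (Localization.AtPrime P) (Localization.AtPrime P)).toNat = Field.finInsepDegree k K := by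
  haveI : IsArtinianRing (Ω ⊗[k] K) := isArtinian_of_tower Ω inferInstance
  haveI hPmax : P.IsMaximal := IsArtinianRing.isMaximal_of_isPrime P
  letI := Ideal.Quotient.field P
  haveI : Module.Finite Ω ((Ω ⊗[k] K) ⧸ P) := inferInstance
  have hbij : Function.Bijective (algebraMap Ω ((Ω ⊗[k] K) ⧸ P)) :=
    IsAlgClosed.algebraMap_bijective_of_isIntegral
  let rP : Ω ≃ₐ[Ω] ((Ω ⊗[k] K) ⧸ P) := AlgEquiv.ofBijective (Algebra.ofId _ _) hbij
  let Ks := separableClosure k K
  let φ : Ks →+* Ω := rP.symm.toRingHom.comp ((Ideal.Quotient.mk P).comp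
    ((Algebra.TensorProduct.includeRight : K →ₐ[k] Ω ⊗[k] K).toRingHom.comp (algebraMap Ks K)))
  letI : Algebra Ks Ω := φ.toAlgebra
  have hφ : ∀ s : Ks, Ideal.Quotient.mk P (φ s ⊗ₜ[k] (1 : K)) = Ideal.Quotient.mk P ((1 : Ω) ⊗ₜ[k] (s : K)) :=
    fun s => (rP.apply_symm_apply (Ideal.Quotient.mk P ((1 : Ω) ⊗ₜ[k] (s : K))) :)
  haveI : IsScalarTower k Ks Ω := IsScalarTower.of_algebraMap_eq fun c => by
    refine hbij.1 ?_
    show _ = algebraMap Ω ((Ω ⊗[k] K) ⧸ P) (φ (algebraMap k Ks c))
    refine Eq.trans ?_ (hφ (algebraMap k Ks c)).symm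
    show Ideal.Quotient.mk P (algebraMap k Ω c ⊗ₜ[k] (1 : K)) = _
    rw [Algebra.algebraMap_eq_smul_one (A := Ω), smul_tmul, ← Algebra.algebraMap_eq_smul_one]
    rfl
  haveI : Algebra.IsSeparable k Ks := separableClosure.isSeparable k K
  haveI : IsPurelyInseparable Ks K := separableClosure.isPurelyInseparable k K
  haveI : Module.Finite Ks K := Module.Finite.of_restrictScalars_finite k Ks K
  let D := Ω ⊗[Ks] K
  haveI : Subsingleton (PrimeSpectrum D) := by
    haveI := InsepLenLib.subsingleton_spectrum Ks K Ω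
    exact (PrimeSpectrum.isHomeomorph_comap_of_bijective
      (Algebra.TensorProduct.comm Ks K Ω).toRingEquiv.bijective).injective.subsingleton
  haveI : Nontrivial D := (Algebra.TensorProduct.includeLeft_injective (S := Ks) (A := Ω) (B := K)
    (algebraMap Ks K).injective).nontrivial
  haveI : IsLocalRing D := by
    obtain ⟨m, hm⟩ := Ideal.exists_maximal D
    exact IsLocalRing.of_unique_max_ideal ⟨m, hm, fun J hJ =>
      congrArg PrimeSpectrum.asIdeal (Subsingleton.elim (⟨J, hJ.isPrime⟩ : PrimeSpectrum D) ⟨m, hm.isPrime⟩)⟩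
  let ψ : Ω ⊗[k] K →ₐ[k] D := Algebra.TensorProduct.lift
    ((Algebra.TensorProduct.includeLeft : Ω →ₐ[Ks] D).restrictScalars k)
    ((Algebra.TensorProduct.includeRight : K →ₐ[Ks] D).restrictScalars k) fun _ _ => Commute.all _ _
  have hψ : ∀ a b, ψ (a ⊗ₜ[k] b) = a ⊗ₜ[Ks] b := fun a b => by simp [ψ, D]
  have hψs : Function.Surjective ψ := fun y => by
    induction y using TensorProduct.induction_on with
    | zero => exact ⟨0, map_zero _⟩
    | tmul a b => exact ⟨a ⊗ₜ b, hψ a b⟩
    | add y y' hy hy' =>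
      obtain ⟨z, rfl⟩ := hy
      obtain ⟨z', rfl⟩ := hy'
      exact ⟨z + z', map_add _ _ _⟩
  let L := Localization.AtPrime P
  let q : Ω ⊗[k] K →+* L := algebraMap _ _
  have hrel : ∀ s : Ks, q (φ s ⊗ₜ[k] (1 : K)) = q ((1 : Ω) ⊗ₜ[k] (s : K)) := fun s => by
    let g := minpoly k s
    let iΩ : Ω →ₐ[k] Ω ⊗[k] K := Algebra.TensorProduct.includeLeft
    let iK : K →ₐ[k] Ω ⊗[k] K := Algebra.TensorProduct.includeRight
    let qa : Ω ⊗[k] K →ₐ[k] L := IsScalarTower.toAlgHom k _ L
    let G := g.map (algebraMap k L)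
    let c := qa (iΩ (φ s))
    let x := qa (iK (s : K))
    have hc : G.eval c = 0 := by
      rw [Polynomial.eval_map, ← Polynomial.aeval_def]
      rw [show c = (qa.comp (iΩ.comp (IsScalarTower.toAlgHom k Ks Ω))) s from rfl, Polynomial.aeval_algHom_apply,
        minpoly.aeval, map_zero]
    have hx : G.eval x = 0 := by
      rw [Polynomial.eval_map, ← Polynomial.aeval_def]
      rw [show x = (qa.comp (iK.comp (IsScalarTower.toAlgHom k Ks K))) s from rfl, Polynomial.aeval_algHom_apply,
        minpoly.aeval, map_zero]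
    obtain ⟨w, hw⟩ := Polynomial.binomExpansion G c (x - c)
    rw [add_sub_cancel, hx, hc] at hw
    have hm : x - c ∈ IsLocalRing.maximalIdeal L := by
      have h1 : iK (s : K) - iΩ (φ s) ∈ P := Ideal.Quotient.eq.1 (hφ s).symm
      rw [← map_sub]
      exact (IsLocalization.AtPrime.to_map_mem_maximal_iff L P _).2 h1
    have hd : IsUnit (G.derivative.eval c) := by
      have h1 : (G.derivative.eval c) = qa (iΩ (Polynomial.aeval (φ s) g.derivative)) := by
        rw [Polynomial.derivative_map, Polynomial.eval_map, ← Polynomial.aeval_def]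
        rw [show c = (qa.comp iΩ) (φ s) from rfl, Polynomial.aeval_algHom_apply]
        rfl
      rw [h1]
      refine ((Ne.isUnit ?_).map iΩ).map qa
      rw [show φ s = IsScalarTower.toAlgHom k Ks Ω s from rfl, Polynomial.aeval_algHom_apply]
      exact (map_ne_zero _).2 ((Algebra.IsSeparable.isSeparable k s).aeval_derivative_ne_zero (minpoly.aeval k s))
    have hu : IsUnit (G.derivative.eval c + w * (x - c)) := by
      by_contra h
      exact (IsLocalRing.notMem_maximalIdeal.2 hd) ((Ideal.add_mem_iff_left _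
        (Ideal.mul_mem_left _ w hm)).1 ((IsLocalRing.mem_maximalIdeal _).2 h))
    have h0 : (G.derivative.eval c + w * (x - c)) * (x - c) = 0 := by linear_combination -hw
    exact (sub_eq_zero.1 (hu.mul_right_eq_zero.1 h0)).symm
  let f₁ : Ω →ₐ[Ks] L :=
    { (q.comp (Algebra.TensorProduct.includeLeft : Ω →ₐ[k] Ω ⊗[k] K).toRingHom) with commutes' := fun s => rfl }
  let f₂ : K →ₐ[Ks] L :=
    { (q.comp (Algebra.TensorProduct.includeRight : K →ₐ[k] Ω ⊗[k] K).toRingHom) with commutes' := fun s => (hrel s).symm }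
  let χ : D →ₐ[Ks] L := Algebra.TensorProduct.lift f₁ f₂ fun _ _ => Commute.all _ _
  have hχψ : ∀ z, χ (ψ z) = q z := fun z => by
    induction z using TensorProduct.induction_on with
    | zero => rw [map_zero, map_zero, map_zero]
    | tmul a b =>
      rw [hψ]
      refine (Algebra.TensorProduct.lift_tmul f₁ f₂ _ a b).trans ?_
      show q (a ⊗ₜ 1) * q (1 ⊗ₜ b) = _
      rw [← map_mul, Algebra.TensorProduct.tmul_mul_tmul, mul_one, one_mul]
    | add y y' hy hy' => simp only [map_add, hy, hy']
  have hunit : ∀ z : P.primeCompl, IsUnit (ψ z.1) := fun z => by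
    by_contra h
    have h1 : (⟨(IsLocalRing.maximalIdeal L).comap χ.toRingHom, Ideal.IsPrime.comap _⟩ : PrimeSpectrum D) =
        IsLocalRing.closedPoint D := Subsingleton.elim _ _
    have h2 : ψ z.1 ∈ (IsLocalRing.maximalIdeal L).comap χ.toRingHom := by
      rw [show (IsLocalRing.maximalIdeal L).comap χ.toRingHom = IsLocalRing.maximalIdeal D from
        congrArg PrimeSpectrum.asIdeal h1]
      exact h
    have h3 : q z.1 ∈ IsLocalRing.maximalIdeal L := hχψ z.1 ▸ h2
    exact z.2 ((IsLocalization.AtPrime.to_map_mem_maximal_iff L P _).1 h3)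
  let θ : L →+* D := IsLocalization.lift (g := ψ.toRingHom) hunit
  have h12 : χ.toRingHom.comp θ = RingHom.id L := IsLocalization.ringHom_ext P.primeCompl (RingHom.ext fun z => by
    show χ (θ (q z)) = q z
    rw [show θ (q z) = ψ z from IsLocalization.lift_eq hunit z, hχψ])
  have h21 : θ.comp χ.toRingHom = RingHom.id D := RingHom.ext fun y => by
    obtain ⟨z, rfl⟩ := hψs y
    show θ (χ (ψ z)) = ψ z
    rw [hχψ]
    exact IsLocalization.lift_eq hunit z
  rw [InsepLenLib.length_ringEquiv (RingEquiv.ofRingHom θ χ.toRingHom h21 h12)]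
  have h := CycLib.finrank_eq_length_mul Ω (R := D) D
  rw [Module.finrank_baseChange] at h
  have hres : Module.finrank Ω (D ⧸ IsLocalRing.maximalIdeal D) = 1 := by
    letI := Ideal.Quotient.field (IsLocalRing.maximalIdeal D)
    rw [← (LinearEquiv.ofBijective (Algebra.linearMap Ω (D ⧸ IsLocalRing.maximalIdeal D))
      IsAlgClosed.algebraMap_bijective_of_isIntegral).finrank_eq, Module.finrank_self]
  rw [hres, mul_one] at h
  exact h.symm


/-- Let X be a smooth curve over the field k (integral, separated, of finite type and smooth over k, of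
dimension one), k̄ an algebraic closure of k, x̄ ∈ X_{k̄} a closed point and x ∈ X its image. Then
the ramification index of the extension of discrete valuation rings O_{X,x} → O_{X_{k̄}, x̄} (the
length of O_{X_{k̄},x̄} modulo the ideal generated by the maximal ideal of O_{X,x}) equals the
inseparable degree [κ(x) : k]_i. -/
theorem result (k : Type u) [Field k] (X : Scheme.{u}) [X.Over (Spec (CommRingCat.of k))]
    [IsIntegral X] [IsSeparated (X ↘ (Spec (CommRingCat.of k)))] [LocallyOfFiniteType (X ↘ (Spec (CommRingCat.of k)))] [QuasiCompact (X ↘ (Spec (CommRingCat.of k)))] (hdX : topologicalKrullDim X = 1) [Smooth (X ↘ (Spec (CommRingCat.of k)))]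
    (xb : Curv2.bc k X (AlgebraicClosure k)) (hxb : IsClosed ({xb} : Set (Curv2.bc k X (AlgebraicClosure k)))) :
    letI := ((Curv2.bcFst k X (AlgebraicClosure k)).stalkMap xb).hom.toAlgebra
    Ideal.ramificationIdx (IsLocalRing.maximalIdeal ((Curv2.bc k X (AlgebraicClosure k)).presheaf.stalk xb))
        (X.presheaf.stalk (Curv2.bcFst k X (AlgebraicClosure k) xb)) =
      Field.finInsepDegree k (X.residueField (Curv2.bcFst k X (AlgebraicClosure k) xb)) := by
  letI := ((Curv2.bcFst k X (AlgebraicClosure k)).stalkMap xb).hom.toAlgebra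
  let B := Curv2.bc k X (AlgebraicClosure k)
  let π := Curv2.bcFst k X (AlgebraicClosure k)
  show Ideal.ramificationIdx (IsLocalRing.maximalIdeal (B.presheaf.stalk xb)) (X.presheaf.stalk (π xb)) = _
  haveI : IsIntegralHom π := MorphismProperty.pullback_fst _ _ (IsIntegralHom.SpecMap_iff.2
    (algebraMap_isIntegral_iff.2 inferInstance))
  have hcl : IsClosed ({π xb} : Set X) := by
    rw [← Set.image_singleton]
    exact π.isClosedMap _ hxb
  haveI : Module.Finite k (X.residueField (π xb)) := by
    haveI : IsClosedImmersion (X.fromSpecResidueField (π xb)) := isClosed_singleton_iff_isClosedImmersion.1 hcl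
    have h2 : (CommRingCat.ofHom (Curv2.resMap k X (π xb))).hom.FiniteType :=
      (HasRingHomProperty.Spec_iff (P := @LocallyOfFiniteType)).1 (by rw [GeomIrred.spec_resMap]; infer_instance)
    haveI : Algebra.FiniteType k (X.residueField (π xb)) := RingHom.finiteType_algebraMap.1 h2
    exact finite_of_finite_type_of_isJacobsonRing k _
  haveI : IsLocallyNoetherian B := LocallyOfFiniteType.isLocallyNoetherian (Curv2.bcSnd k X (AlgebraicClosure k))
  let K := X.residueField (π xb)
  let Ω := AlgebraicClosure k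
  have h1 := (IsPullback.of_hasPullback π (X.fromSpecResidueField (π xb))).paste_horiz
    (IsPullback.of_hasPullback (X ↘ Spec (CommRingCat.of k)) (Spec.map (CommRingCat.ofHom (algebraMap k Ω)))).flip
  rw [← GeomIrred.spec_resMap] at h1
  let e : π.fiber (π xb) ≅ Spec (CommRingCat.of (Ω ⊗[k] K)) := h1.isoPullback ≪≫ pullbackSpecIso k Ω K
  obtain ⟨z, hz⟩ : ∃ z : π.fiber (π xb), π.fiberι (π xb) z = xb :=
    ⟨(π.fiberHomeo (π xb)).symm ⟨xb, rfl⟩, congrArg Subtype.val ((π.fiberHomeo (π xb)).apply_symm_apply ⟨xb, rfl⟩)⟩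
  have h4 := CycLib.length_stalk_fiber π (π xb) z
  rw [hz, ← InsepLenLib.length_ringEquiv (asIso (e.hom.stalkMap z)).commRingCatIsoToRingEquiv] at h4
  have h5 := InsepLenLib.length_ringEquiv (StructureSheaf.stalkIso (Ω ⊗[k] K) (e.hom z)).toRingEquiv
  have h6 := length_localization_tensor k Ω K (e.hom z).asIdeal
  let S := B.presheaf.stalk xb
  let Sq := Localization.AtPrime (IsLocalRing.maximalIdeal S)
  let a : S ≃+* Sq := (IsLocalization.atUnits S (IsLocalRing.maximalIdeal S).primeCompl (S := Sq)
    (fun x hx => of_not_not fun h => hx ((IsLocalRing.mem_maximalIdeal x).2 h))).toRingEquiv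
  rw [Ideal.ramificationIdx_def, ← h6]
  refine congrArg ENat.toNat (Eq.trans ?_ (h4.symm.trans ?_))
  · refine CycLib.length_quot_ringEquiv a (CycLib.fibIdeal π xb) _ ?_
    rw [CycLib.fibIdeal, Ideal.map_map, IsScalarTower.algebraMap_eq (X.presheaf.stalk (π xb)) S Sq]
    congr 1
    exact IsLocalRing.maximalIdeal_comap (π.stalkMap xb).hom
  · first
      | exact h5
      | exact h5.symm

end Groth.Agent.S6556
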