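import Groth.Statements.S6563
import Groth.Agent.CurveGlueLib.Proj
import Groth.Agent.ProperFin.Chow

set_option autoImplicit false
universe u
open CategoryTheory CategoryTheory.Limits AlgebraicGeometry
open Curves

namespace Groth.Agent.S6563

open CategoryTheory CategoryTheory.Limits AlgebraicGeometry

set_option backward.isDefEq.respectTransparency false
set_option backward.defeqAttrib.useBackward true
set_option linter.style.haveILetI false


/-- Let k be a field and f : X → Y a morphism over k of varieties over k, with X a curve (integral,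
separated and of finite type over k, of dimension one) and Y proper over k (and integral). Then f
extends over a projective completion of X: there are a projective curve X̄ over k (integral, of
dimension one, admitting a closed immersion over k into some P^n_k), an open immersion j : X → X̄
over k and a k-morphism g : X̄ → Y with g ∘ j = f. -/
theorem result (k : Type u) [Field k]
    (X Y : Scheme.{u}) [X.Over (Spec (CommRingCat.of k))] [Y.Over (Spec (CommRingCat.of k))]
    [IsIntegral X] [IsSeparated (X ↘ (Spec (CommRingCat.of k)))] [LocallyOfFiniteType (X ↘ (Spec (CommRingCat.of k)))] [QuasiCompact (X ↘ (Spec (CommRingCat.of k)))] (hdX : topologicalKrullDim X = 1)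
    [IsIntegral Y] [IsProper (Y ↘ (Spec (CommRingCat.of k)))]
    (f : X ⟶ Y) (hf : f ≫ (Y ↘ (Spec (CommRingCat.of k))) = X ↘ (Spec (CommRingCat.of k))) :
    ∃ (Xb : Scheme.{u}) (_ : Xb.Over (Spec (CommRingCat.of k))) (j : X ⟶ Xb) (g : Xb ⟶ Y),
      IsOpenImmersion j ∧ j ≫ g = f ∧ j ≫ (Xb ↘ (Spec (CommRingCat.of k))) = X ↘ (Spec (CommRingCat.of k)) ∧ g ≫ (Y ↘ (Spec (CommRingCat.of k))) = Xb ↘ (Spec (CommRingCat.of k)) ∧
      IsIntegral Xb ∧ topologicalKrullDim Xb = 1 ∧
      ∃ (n : ℕ) (i : Xb ⟶ CohB1.ProjSpace n k), IsClosedImmersion i ∧ i ≫ CohB1.ProjSpace.toSpec n k = Xb ↘ (Spec (CommRingCat.of k)) := by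
  obtain ⟨d, Xc, c, j, hc, hj, hjc, -, -, -, -, -⟩ :=
    CurveGlueLib.exists_completion k (X ↘ Spec (CommRingCat.of k)) hdX.le
  let qc := c ≫ CohB1.ProjSpace.toSpec d k
  haveI : IsProper (CohB1.ProjSpace.toSpec d k) := inferInstance
  haveI : IsProper qc := inferInstance
  let qY := Y ↘ Spec (CommRingCat.of k)
  let i : X ⟶ pullback qc qY := pullback.lift j f (by rw [hjc, hf])
  haveI : IsImmersion (i ≫ pullback.fst qc qY) := by
    rw [pullback.lift_fst]; infer_instance
  haveI : IsImmersion i := IsImmersion.of_comp i (pullback.fst qc qY)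
  haveI : IsNoetherian X := CurveGlueLib.isNoetherian_of_field k (X ↘ Spec (CommRingCat.of k))
  haveI : QuasiCompact i := inferInstance
  haveI : IsIntegral i.image := ProperFin.isIntegral_image i
  let qb : i.image ⟶ Spec (CommRingCat.of k) := i.imageι ≫ pullback.fst qc qY ≫ qc
  haveI : IsProper (pullback.fst qc qY) := MorphismProperty.pullback_fst (P := @IsProper) _ _ inferInstance
  haveI : IsProper qb := inferInstance
  letI : i.image.Over (Spec (CommRingCat.of k)) := ⟨qb⟩
  have hdense : Dense (Set.range i.toImage.base) := i.toImage.denseRange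
  have hle : topologicalKrullDim i.image ≤ 1 := by
    refine (CurveGlueLib.dim_le_of_dense k qb i.toImage.opensRange hdense).trans ?_
    exact (IsHomeomorph.topologicalKrullDim_eq _ i.toImage.isoOpensRange.hom.homeomorph.isHomeomorph).symm.le.trans hdX.le
  have hge : 1 ≤ topologicalKrullDim i.image :=
    hdX.ge.trans (i.toImage.isOpenEmbedding.isInducing.topologicalKrullDim_le)
  obtain ⟨n, e, he, -, heq⟩ := CurveGlueLib.exists_immersion k qb hle
  haveI : IsProper (e ≫ CohB1.ProjSpace.toSpec n k) := by rw [heq]; infer_instance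
  haveI : IsProper e := IsProper.of_comp e (CohB1.ProjSpace.toSpec n k)
  haveI : IsClosedImmersion e := IsClosedImmersion.of_isPreimmersion e e.isClosedMap.isClosed_range
  refine ⟨i.image, ⟨qb⟩, i.toImage, i.imageι ≫ pullback.snd qc qY, inferInstance, ?_, ?_, ?_,
    inferInstance, le_antisymm hle hge, n, e, inferInstance, heq⟩
  · rw [i.toImage_imageι_assoc, pullback.lift_snd]
  · show i.toImage ≫ qb = _
    rw [i.toImage_imageι_assoc, pullback.lift_fst_assoc]
    exact hjc
  · show (i.imageι ≫ pullback.snd qc qY) ≫ qY = qb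
    rw [Category.assoc, ← pullback.condition]

end Groth.Agent.S6563
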