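import Groth.Statements.S6564


set_option autoImplicit false
universe u
open CategoryTheory CategoryTheory.Limits AlgebraicGeometry
open Curves

namespace Groth.Agent.S6564

/-- Let X be proper over the field k of dimension at most 1. If X has a g^r_d (an invertible module L of
degree d with an ordered family of r + 1 global sections linearly independent over k), then X has a
g^s_d for every 0 ≤ s ≤ r. -/
theorem result (k : Type u) [Field k] (X : Scheme.{u}) [X.Over (Spec (CommRingCat.of k))] [IsProper (X ↘ (Spec (CommRingCat.of k)))] (hdim : topologicalKrullDim X ≤ 1)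
    (d r : ℕ) (L : X.Modules) (σ : Fin (r + 1) → LinSer.Sect X L) (hL : LinSer.IsLinSer k X L d r σ)
    (s : ℕ) (hs : s ≤ r) :
    ∃ (L' : X.Modules) (τ : Fin (s + 1) → LinSer.Sect X L'), LinSer.IsLinSer k X L' d s τ := by
  classical
  let e : Fin (s + 1) → Fin (r + 1) := Fin.castLE (by omega)
  refine ⟨L, σ ∘ e, hL.1, hL.2.1, fun c hc => ?_⟩
  let c' : Fin (r + 1) → k := fun i => if h : (i : ℕ) < s + 1 then c ⟨i, h⟩ else 0
  have hinj : Function.Injective e := Fin.castLE_injective _
  have hsum : (∑ i, (Coh.toGlobal (X ↘ Spec (CommRingCat.of k)) (c' i)) • σ i) = 0 := by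
    rw [← hc]
    refine (Finset.sum_of_injOn e hinj.injOn (fun _ _ => Finset.mem_univ _) (fun i _ hi => ?_) (fun i _ => ?_)).symm
    · have hi' : ¬ (i : ℕ) < s + 1 := fun h => hi ⟨⟨i, h⟩, Finset.mem_coe.mpr (Finset.mem_univ _), Fin.ext rfl⟩
      simp only [c', dif_neg hi', map_zero, zero_smul]
    · have hlt : ((e i : Fin (r + 1)) : ℕ) < s + 1 := i.2
      simp only [c', dif_pos hlt]
      rfl
  funext j
  have := congrFun (hL.2.2 c' hsum) (e j)
  have hlt : ((e j : Fin (r + 1)) : ℕ) < s + 1 := j.2
  simp only [c', dif_pos hlt] at this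
  exact this


end Groth.Agent.S6564
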