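import Groth.Statements.S6567
import Groth.Agent.TwistShriek.GlobGen
import Groth.Agent.CurveLib.CurveVanish

set_option autoImplicit false
universe u
open CategoryTheory CategoryTheory.Limits AlgebraicGeometry
attribute [local instance] HasDerivedCategory.standard
open Curves

namespace Groth.Agent.S6567

open CategoryTheory CategoryTheory.Limits AlgebraicGeometry

set_option backward.isDefEq.respectTransparency false
set_option linter.style.haveILetI false
set_option maxHeartbeats 1600000
open Groth.Agent Groth.Agent.DCohLib Groth.Agent.PullbackMod Groth.Agent.ParaFLib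
attribute [local instance] HasDerivedCategory.standard
/-- Let X be proper over the field k, of dimension one, with H^0(X, O_X) = k, and ω_X its dualizing
module (the degree -1 cohomology sheaf of f^! O for the structure morphism f, assuming Rf_* on
D_QCoh and its right adjoint exist). Suppose ω_X → F → Q → 0 is exact, with F and Q coherent
O_X-modules, where Q has zero-dimensional support and dim_k H^0(X, Q) ≥ 2, and suppose no nonzero
submodule Q' ⊆ F maps injectively into Q. Then the global sections of F together map onto Q: for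
some index type ι and some map p from the free module O_X^{(ι)} to F, the composite O_X^{(ι)} → F →
Q is an epimorphism. -/
theorem result (k : Type u) [Field k] (X : Scheme.{u}) [X.Over (Spec (CommRingCat.of k))] [IsProper (X ↘ (Spec (CommRingCat.of k)))] (hdim : topologicalKrullDim X = 1)
    (h0 : Module.finrank k (Coh.HH X (Coh.structureModule X) 0) = 1)
    [DCoh.HasRpush (X ↘ (Spec (CommRingCat.of k)))] (h : DCoh.RpushPreservesQCoh (X ↘ (Spec (CommRingCat.of k)))) [DCoh.HasShriek (X ↘ (Spec (CommRingCat.of k))) h]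
    (OY : DCoh.DQCoh (Spec (CommRingCat.of k))) (hOY : Nonempty (OY.obj ≅ DCoh.inD (Spec (CommRingCat.of k)) (Coh.structureModule (Spec (CommRingCat.of k)))))
    (F Q : X.Modules) (hF : Coh.IsCoh F) (hQ : Coh.IsCoh Q)
    (f : DCoh.dualizingMod (X ↘ (Spec (CommRingCat.of k))) h OY 1 ⟶ F) (g : F ⟶ Q) [Epi g] (w : f ≫ g = 0) (hex : (ShortComplex.mk f g w).Exact)
    (hQ0 : topologicalKrullDim (CohB1.support Q) ≤ 0) (hQ2 : 2 ≤ Module.finrank k (Coh.HH X Q 0))
    (hno : ∀ (Q' : X.Modules) (i : Q' ⟶ F), Mono i → Mono (i ≫ g) → IsZero Q') :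
    ∃ (ι : Type u) (p : (SheafOfModules.free ι : X.Modules) ⟶ F), Epi (p ≫ g) := by
  classical
  haveI := EulerIneqLib.isNoetherian_proper (X := X) k
  have hd1 : topologicalKrullDim X ≤ 1 := hdim.le
  let ω := DCoh.dualizingMod (X ↘ (Spec (CommRingCat.of k))) h OY 1
  obtain ⟨tr, htr, hfin, hle⟩ := TwistShriek.exists_pair_dualizingMod k X h OY hOY (by rw [hdim, Nat.cast_one])
  haveI := hfin
  haveI := hF.1
  haveI := hQ.1
  haveI := EulerIneqLib.finite_HH (k := k) hF 0
  have hQc : IsClosed (CohB1.support Q) := PullbackMod.isClosed_support_of_isFT hQ.2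
  let n := Module.finrank k (Coh.HH X F 0)
  let b := Module.finBasis k (Coh.HH X F 0)
  let p : (∐ fun _ : Fin n => Coh.structureModule X) ⟶ F :=
    Sigma.desc fun i => DCohLib.secHom F (CurveLib.secOf F (b i))
  by_contra hgen
  have hp : ¬ Epi (p ≫ g) := fun hp => by
    let p' : (SheafOfModules.free (ULift.{u} (Fin n)) : X.Modules) ⟶ F :=
      Sigma.desc fun i => DCohLib.secHom F (CurveLib.secOf F (b i.down))
    let σ₀ : (∐ fun _ : Fin n => Coh.structureModule X) ⟶ (SheafOfModules.free (ULift.{u} (Fin n)) : X.Modules) :=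
      Sigma.desc fun i : Fin n => Sigma.ι (fun _ : ULift.{u} (Fin n) => Coh.structureModule X) ⟨i⟩
    have hfac : σ₀ ≫ p' = p := Sigma.hom_ext _ _ fun i => by
      simp [σ₀, p, p']
    refine hgen ⟨ULift.{u} (Fin n), p', ?_⟩
    rw [← hfac, Category.assoc] at hp
    exact @epi_of_epi _ _ _ _ _ σ₀ (p' ≫ g) hp
  obtain ⟨-, hR⟩ := QCohLib.isCoh_kernel_cokernel (p ≫ g)
    (CMRegLib.isCoh_sigma_fin _ fun _ => DevLib.isCoh_structureModule X) hQ
  haveI := hR.1
  let q := cokernel.π (p ≫ g)
  let π : F ⟶ cokernel (p ≫ g) := g ≫ q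
  haveI : Epi π := epi_comp _ _
  have hpπ : p ≫ π = 0 := (Category.assoc _ _ _).symm.trans (cokernel.condition (p ≫ g))
  have hRs : CohB1.support (cokernel (p ≫ g)) ⊆ CohB1.support Q := fun x hx hs => hx
    (subsingleton_of_forall_eq 0 fun z => by
      obtain ⟨u, rfl⟩ := (PullbackMod.epi_iff_stalk q).1 inferInstance x z
      rw [hs.elim u 0, map_zero])
  have hK : Coh.IsCoh (kernel π) := (QCohLib.isCoh_kernel_cokernel π hF hR).1
  haveI := hK.1
  have hkill : CurveLib.hMap (k := k) π 0 = 0 := b.ext fun i => (CurveLib.secOf (cokernel (p ≫ g))).injective (by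
    rw [LinearMap.zero_apply, map_zero, CurveLib.secOf_hMap]
    have h5 : DCohLib.secHom F (CurveLib.secOf F (b i)) ≫ π = 0 := by
      rw [← Sigma.ι_desc (fun i => DCohLib.secHom F (CurveLib.secOf F (b i))) i, Category.assoc]
      show Sigma.ι _ i ≫ p ≫ π = 0
      rw [hpπ, comp_zero]
    have h6 := congrArg AmpleLib.sec h5
    exact ((congrArg (π.app ⊤) (AmpleLib.sec_secHom (CurveLib.secOf F (b i))).symm).trans h6).trans rfl)
  let S' : ShortComplex X.Modules := ShortComplex.mk (kernel.ι π) π (kernel.condition π)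
  have hS' : S'.ShortExact :=
    { exact := ShortComplex.exact_of_f_is_kernel _ (kernelIsKernel π), mono_f := inferInstance, epi_g := inferInstance }
  have h0K : Module.finrank k (Coh.HH X F 0) ≤ Module.finrank k (Coh.HH X (kernel π) 0) := by
    haveI := EulerIneqLib.finite_HH (k := k) hK 0
    have hr : LinearMap.range (CurveLib.hMap (k := k) S'.f 0) = ⊤ := by
      rw [CurveLib.range_hMap_f hS']
      exact LinearMap.ker_eq_top.2 hkill
    exact LinearMap.finrank_le_finrank_of_surjective (f := CurveLib.hMap (k := k) S'.f 0)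
      (LinearMap.range_eq_top.1 hr)
  haveI := EulerIneqLib.finite_HH (k := k) hR 0
  have hh1 : Module.finrank k (Coh.HH X (cokernel (p ≫ g)) 0) ≤ Module.finrank k (Coh.HH X (kernel π) 1) := by
    have e1 : Curv2.euler k X F = Curv2.euler k X (kernel π) + Curv2.euler k X (cokernel (p ≫ g)) :=
      CurveLib.euler_shortExact hS' hK hF hR
    haveI := CurveLib.subsingleton_HH_of_support (cokernel (p ≫ g)) hQc hRs (d := 0) hQ0 one_pos
    have := CurveLib.euler_eq_sub (k := k) (M := cokernel (p ≫ g)) hd1
    rw [Module.finrank_zero_of_subsingleton (M := Coh.HH X (cokernel (p ≫ g)) 1)] at this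
    have := CurveLib.euler_eq_sub (k := k) (M := kernel π) hd1
    have := CurveLib.euler_eq_sub (k := k) (M := F) hd1
    omega
  have ht : 0 < Module.finrank k (Coh.HH X (cokernel (p ≫ g)) 0) := by
    by_contra h5
    haveI : Subsingleton (Coh.HH X (cokernel (p ≫ g)) 0) :=
      Module.finrank_zero_iff.1 (by omega : Module.finrank k _ = 0)
    exact hp (Preadditive.epi_of_isZero_cokernel _ (DCohLib.isZero_of_stalks fun x =>
      CurveLib.subsingleton_stalk_of_H0 hQc hQ0 (cokernel (p ≫ g)) hRs x))
  have hfπ : f ≫ π = 0 := by rw [← Category.assoc, w, zero_comp]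
  let f' : ω ⟶ kernel π := kernel.lift π f hfπ
  have hf' : f' ≫ kernel.ι π = f := kernel.lift_ι _ _ _
  have hsplit : ∀ x : X, ∀ z : F.presheaf.stalk x, stalkLin g x z = 0 → ∃ y, stalkLin f x y = z := fun x z hz =>
    (DCohLib.exact_stalkLin _ hex x z).1 hz
  rcases TwistShriek.exists_retraction k htr (hle.trans h0.le) f' with ⟨r, hr⟩ | hz
  · let i : kernel r ⟶ F := kernel.ι r ≫ kernel.ι π
    haveI : Mono i := mono_comp _ _
    have hig : Mono (i ≫ g) := (PullbackMod.mono_iff_stalk _).2 fun x => (injective_iff_map_eq_zero _).2 fun z hz' => by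
      rw [stalkLin_comp, LinearMap.comp_apply] at hz'
      obtain ⟨y, hy⟩ := hsplit x _ hz'
      have hy' : stalkLin f' x y = stalkLin (kernel.ι r) x z :=
        (PullbackMod.mono_iff_stalk (kernel.ι π)).1 inferInstance x (by
          rw [← LinearMap.comp_apply, ← stalkLin_comp, hf', hy, stalkLin_comp, LinearMap.comp_apply])
      have hy0 : y = 0 := by
        have e2 := congrArg (stalkLin r x) hy'
        rw [← LinearMap.comp_apply, ← stalkLin_comp, hr, stalkLin_id, LinearMap.id_apply,
          ← LinearMap.comp_apply, ← stalkLin_comp, kernel.condition, (eq_zero_iff_stalk _).1 rfl x,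
          LinearMap.zero_apply] at e2
        exact e2
      refine (PullbackMod.mono_iff_stalk (kernel.ι r)).1 inferInstance x ?_
      rw [← hy', hy0, map_zero, map_zero]
    haveI : Mono r := Preadditive.mono_of_isZero_kernel r (hno (kernel r) i inferInstance hig)
    haveI : IsSplitEpi r := IsSplitEpi.mk' ⟨f', hr⟩
    haveI : IsIso r := isIso_of_mono_of_isSplitEpi r
    have hrf : r ≫ f' = 𝟙 (kernel π) := by
      rw [← cancel_mono r, Category.assoc, hr, Category.comp_id, Category.id_comp]
    -- all sections factor through the dualizing module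
    have hpg : p ≫ g = 0 := by
      rw [← kernel.lift_ι π p hpπ, ← Category.comp_id (kernel.lift π p hpπ), ← hrf]
      simp only [Category.assoc, reassoc_of% hf', w, comp_zero]
    have hR0 : Module.finrank k (Coh.HH X Q 0) = Module.finrank k (Coh.HH X (cokernel (p ≫ g)) 0) := by
      let e : cokernel (p ≫ g) ≅ Q := cokernelIsoOfEq hpg ≪≫ cokernelZeroIsoTarget
      exact (LinearEquiv.ofBijective _ (CurveLib.hMap_bijective_iso (k := k) e.symm 0)).finrank_eq
    have h1 : Module.finrank k (Coh.HH X (kernel π) 1) = Module.finrank k (Coh.HH X ω 1) :=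
      (LinearEquiv.ofBijective _ (CurveLib.hMap_bijective_iso (k := k) (asIso r) 1)).finrank_eq
    have h2 : Module.finrank k (Coh.HH X ω 1) ≤ 1 := hle.trans h0.le
    omega
  · haveI : Subsingleton (Coh.HH X (kernel π) 1) := by
      refine TwistShriek.subsingleton_HH_of_hom_eq_zero k htr _ hK.1 fun u => ?_
      obtain ⟨-, hC⟩ := QCohLib.isQCoh_image f' htr.1 hK.1
      have hCs : CohB1.support (cokernel f') ⊆ CohB1.support Q := fun x hx hs => hx
        (subsingleton_of_forall_eq 0 fun z => by
          obtain ⟨v, rfl⟩ := (PullbackMod.epi_iff_stalk (cokernel.π f')).1 inferInstance x z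
          obtain ⟨y, hy⟩ := hsplit x (stalkLin (kernel.ι π) x v) (hs.elim _ _)
          have hy' : stalkLin f' x y = v :=
            (PullbackMod.mono_iff_stalk (kernel.ι π)).1 inferInstance x (by
              rw [← LinearMap.comp_apply, ← stalkLin_comp, hf', hy])
          rw [← hy', ← LinearMap.comp_apply, ← stalkLin_comp, cokernel.condition, (eq_zero_iff_stalk _).1 rfl x,
            LinearMap.zero_apply])
      haveI := CurveLib.subsingleton_HH_of_support (cokernel f') hQc hCs (d := 0) hQ0 one_pos
      haveI := hC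
      rw [← cokernel.π_desc f' u (hz u), TwistShriek.hom_eq_zero_of_subsingleton_HH k htr _ hC
        (cokernel.desc f' u (hz u)), comp_zero]
    rw [Module.finrank_zero_of_subsingleton (M := Coh.HH X (kernel π) 1)] at hh1
    omega

end Groth.Agent.S6567
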