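import Groth.Statements.S6570
import Groth.Agent.NodePtLib.Synt

set_option autoImplicit false
universe u
open CategoryTheory CategoryTheory.Limits AlgebraicGeometry
attribute [local instance] HasDerivedCategory.standard
open Curves

namespace Groth.Agent.S6570

open CategoryTheory CategoryTheory.Limits AlgebraicGeometry

open Groth.Agent NodePtLib
set_option backward.isDefEq.respectTransparency false

/-- Let f : X → S be a quasi-separated morphism of schemes (so that Ω_{X/S} can be taken as the conormal
sheaf of the diagonal). The following are equivalent: (1) f is flat, locally of finite presentation,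
and every nonempty fibre is equidimensional of dimension 1 with at-worst-nodal singularities; (2) f
is syntomic of relative dimension 1, and Sing(f) → S is unramified, where Sing(f) ⊆ X denotes the
closed subscheme whose ideal sheaf is the first Fitting ideal of Ω_{X/S}. (The published statement
does not assume f quasi-separated; this row does.) -/
theorem result {X S : Scheme.{u}} (f : X ⟶ S) [QuasiSeparated f] :
    Curv2.IsNodalFamily f ↔
      (Synt.IsSyntomicMor f ∧ (∀ x : X, Dual3.localFibreDim f x = 1) ∧
        FormallyUnramified ((Fitt.sheafIdeal (Omega.sheaf f) 1).subschemeι ≫ f)) := by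
  refine ⟨fun h => ?_, fun ⟨h1, h2, h3⟩ => family_of_syntomic f h1 h2 h3⟩
  haveI := h.2.1
  exact ⟨syntomic_of_family f h,
    fun x => (EtaleLocal.localFibreDim_eq f x).trans (EtaleLocal.fibreDimAt_of_comps f (fun s => (h.2.2 s).1) x),
    formallyUnramified_jac f h⟩

end Groth.Agent.S6570
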