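import Groth.Statements.S6574
import Groth.Agent.NodeMinorLib.Main
import Groth.Agent.FiniteCompleteLib.Basic
import Groth.Agent.QGorLib.Depth
-- import your own Groth.Agent.* helpers here

set_option autoImplicit false
set_option backward.isDefEq.respectTransparency false
set_option linter.style.haveILetI false
set_option maxHeartbeats 1000000
universe u
open IsLocalRing Groth.Agent
open Curves

namespace Groth.Agent.S6574

variable {k : Type u} [Field k] {n : ℕ}

local notation "A" => MvPowerSeries (Fin n) k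

theorem isLocalRing_quot {J : Ideal (MvPowerSeries (Fin n) k)} (hJ : J ≤ maximalIdeal A) : IsLocalRing (A ⧸ J) := by
  haveI : Nontrivial (A ⧸ J) :=
    Ideal.Quotient.nontrivial_iff.mpr (ne_top_of_le_ne_top (maximalIdeal.isMaximal A).ne_top hJ)
  exact IsLocalRing.of_surjective' _ Ideal.Quotient.mk_surjective

theorem map_max {J : Ideal (MvPowerSeries (Fin n) k)} [IsLocalRing (A ⧸ J)] :
    (maximalIdeal A).map (Ideal.Quotient.mk J) = maximalIdeal (A ⧸ J) := by
  refine IsLocalRing.map_maximalIdeal_of_surjective (Ideal.Quotient.mk J) Ideal.Quotient.mk_surjective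

theorem max_eq_sup {J : Ideal (MvPowerSeries (Fin n) k)} (hJ : J ≤ maximalIdeal A) [IsLocalRing (A ⧸ J)]
    (S : Set (MvPowerSeries (Fin n) k)) :
    maximalIdeal A = Ideal.span S ⊔ J ↔ maximalIdeal (A ⧸ J) = Ideal.span (Ideal.Quotient.mk J '' S) := by
  rw [← Ideal.map_span, ← map_max]
  constructor
  · intro h
    rw [h, Ideal.map_sup, Ideal.map_quotient_self, sup_bot_eq]
  · intro h
    have h1 := congrArg (Ideal.comap (Ideal.Quotient.mk J)) h
    rw [Ideal.comap_map_of_surjective _ Ideal.Quotient.mk_surjective,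
      Ideal.comap_map_of_surjective _ Ideal.Quotient.mk_surjective, ← RingHom.ker_eq_comap_bot, Ideal.mk_ker,
      sup_eq_left.2 hJ] at h1
    exact h1

theorem one_le_depth_iff {J : Ideal (MvPowerSeries (Fin n) k)} (hJ : J ≤ maximalIdeal A) [IsLocalRing (A ⧸ J)] :
    1 ≤ LocCoh.depth A (A ⧸ J) ↔ ∃ t ∈ maximalIdeal (A ⧸ J), t ∈ nonZeroDivisors (A ⧸ J) := by
  haveI : Nontrivial (A ⧸ J) := inferInstance
  have hne := CAlgBasics.maximalIdeal_smul_top_ne_top (R := A) (M := A ⧸ J)
  rw [LocCoh.depth, show (1 : ℕ∞) = ((1 : ℕ) : ℕ∞) from rfl, Depth.le_idealDepth_iff hne]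
  constructor
  · rintro ⟨rs, hlen, hmem, hreg⟩
    obtain ⟨r, rfl⟩ := List.length_eq_one_iff.1 hlen
    refine ⟨Ideal.Quotient.mk J r, map_max (J := J) ▸ Ideal.mem_map_of_mem _ (hmem r (by simp)), ?_⟩
    rw [RingTheory.Sequence.isWeaklyRegular_singleton_iff] at hreg
    refine mem_nonZeroDivisors_iff_right.2 fun z hz => hreg ?_
    show r • z = r • 0
    rw [smul_zero]
    obtain ⟨z, rfl⟩ := Ideal.Quotient.mk_surjective z
    rw [← map_mul, mul_comm] at hz
    exact hz
  · rintro ⟨t, ht, htd⟩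
    obtain ⟨r, rfl⟩ := Ideal.Quotient.mk_surjective t
    refine ⟨[r], rfl, ?_, ?_⟩
    · intro r' hr'
      rw [List.mem_singleton.1 hr']
      by_contra hcon
      exact (mem_maximalIdeal _).1 ht ((notMem_maximalIdeal.1 hcon).map _)
    · rw [RingTheory.Sequence.isWeaklyRegular_singleton_iff]
      intro z z' hzz
      refine sub_eq_zero.1 (mem_nonZeroDivisors_iff_right.1 htd _ ?_)
      have h : r • (z - z') = 0 := by rw [smul_sub]; exact sub_eq_zero.2 hzz
      obtain ⟨w, hw⟩ := Ideal.Quotient.mk_surjective (z - z')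
      rw [← hw] at h ⊢
      rw [← map_mul, mul_comm]
      exact h

/-- The form is nonzero. -/
theorem qSeries_ne_zero (a b c : k) (hΔ : 4 * a * c - b ^ 2 ≠ 0) : NodePtLib.qSeries a b c ≠ 0 := fun h0 => by
  classical
  rw [NodePtLib.qSeries, mul_assoc (MvPowerSeries.C b), MvPowerSeries.X_pow_eq, MvPowerSeries.X_pow_eq,
    MvPowerSeries.X_def, MvPowerSeries.X_def, MvPowerSeries.monomial_mul_monomial, mul_one] at h0
  have hx2 := congrArg (MvPowerSeries.coeff (Finsupp.single (0 : Fin 2) 2)) h0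
  have hy2 := congrArg (MvPowerSeries.coeff (Finsupp.single (1 : Fin 2) 2)) h0
  have hxy2 := congrArg (MvPowerSeries.coeff (Finsupp.single (0 : Fin 2) 1 + Finsupp.single (1 : Fin 2) 1)) h0
  simp [MvPowerSeries.coeff_monomial, MvPowerSeries.coeff_C_mul,
    Finsupp.ext_iff, Fin.forall_fin_two] at hx2 hy2 hxy2
  exact hΔ (by rw [hx2, hxy2]; ring)

/-- Let k be a field, A = k[[x_1, …, x_n]], and I = (f_1, …, f_m) ⊆ m_A. The following are equivalent:
(1) A/I is a node in the algebraic sense: A/I ≅ k[[u, v]]/(a u^2 + b uv + c v^2) as k-algebras for a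
nondegenerate quadratic form (A/I is complete with residue field k, so this is the completion
criterion for nodes); (2) the quotient A/I has no nonzero nilpotents, and m_A is generated by I
together with every (n−1)-by-(n−1) minor taken from the Jacobian (∂f_j/∂x_i) (that is, these
elements generate I + m_A = m_A); (3) depth(A/I) = 1 and the same condition on minors. Stated as (1)
⇔ (2) and (2) ⇔ (3). -/
theorem result (k : Type u) [Field k] (n m : ℕ)
    (f : Fin m → MvPowerSeries (Fin n) k) (hf : ∀ j, f j ∈ IsLocalRing.maximalIdeal (MvPowerSeries (Fin n) k)) :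
    ((∃ a b c : k, 4 * a * c - b ^ 2 ≠ 0 ∧
        Nonempty ((MvPowerSeries (Fin n) k ⧸ Ideal.span (Set.range f)) ≃ₐ[k]
          (MvPowerSeries (Fin 2) k ⧸ Ideal.span
            {(MvPowerSeries.C a * MvPowerSeries.X 0 ^ 2 + MvPowerSeries.C b * MvPowerSeries.X 0 * MvPowerSeries.X 1 +
              MvPowerSeries.C c * MvPowerSeries.X 1 ^ 2 : MvPowerSeries (Fin 2) k)}))) ↔
      (IsReduced (MvPowerSeries (Fin n) k ⧸ Ideal.span (Set.range f)) ∧
        Ideal.span {d : MvPowerSeries (Fin n) k | ∃ (ρ : Fin (n - 1) → Fin m) (γ : Fin (n - 1) → Fin n), Function.Injective ρ ∧ Function.Injective γ ∧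
          d = ((Matrix.of fun (j : Fin m) (i : Fin n) => MvPowerSeries.pderiv k i (f j)).submatrix ρ γ).det} ⊔ Ideal.span (Set.range f) = IsLocalRing.maximalIdeal (MvPowerSeries (Fin n) k))) ∧
    ((IsReduced (MvPowerSeries (Fin n) k ⧸ Ideal.span (Set.range f)) ∧
        Ideal.span {d : MvPowerSeries (Fin n) k | ∃ (ρ : Fin (n - 1) → Fin m) (γ : Fin (n - 1) → Fin n), Function.Injective ρ ∧ Function.Injective γ ∧
          d = ((Matrix.of fun (j : Fin m) (i : Fin n) => MvPowerSeries.pderiv k i (f j)).submatrix ρ γ).det} ⊔ Ideal.span (Set.range f) = IsLocalRing.maximalIdeal (MvPowerSeries (Fin n) k)) ↔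
      (LocCoh.depth (MvPowerSeries (Fin n) k) (MvPowerSeries (Fin n) k ⧸ Ideal.span (Set.range f)) = 1 ∧
        Ideal.span {d : MvPowerSeries (Fin n) k | ∃ (ρ : Fin (n - 1) → Fin m) (γ : Fin (n - 1) → Fin n), Function.Injective ρ ∧ Function.Injective γ ∧
          d = ((Matrix.of fun (j : Fin m) (i : Fin n) => MvPowerSeries.pderiv k i (f j)).submatrix ρ γ).det} ⊔ Ideal.span (Set.range f) = IsLocalRing.maximalIdeal (MvPowerSeries (Fin n) k))) := by
  set J := Ideal.span (Set.range f) with hJdef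
  have hJle : J ≤ maximalIdeal _ := Ideal.span_le.2 (by rintro _ ⟨j, rfl⟩; exact hf j)
  haveI := isLocalRing_quot hJle
  haveI : IsAdicComplete (maximalIdeal (MvPowerSeries (Fin n) k ⧸ J)) (MvPowerSeries (Fin n) k ⧸ J) :=
    FiniteCompleteLib.isAdicComplete_maximalIdeal (MvPowerSeries (Fin n) k) _
  have hrat : NodePtLib.Rational k (MvPowerSeries (Fin n) k ⧸ J) := fun w => by
    obtain ⟨g, rfl⟩ := Ideal.Quotient.mk_surjective w
    refine ⟨MvPowerSeries.constantCoeff g, ?_⟩
    rw [← map_max]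
    exact Ideal.mem_map_of_mem (Ideal.Quotient.mk J) (NodeMinorLib.sub_const_mem g)
  have hC : ∀ t : k, Ideal.Quotient.mk J (MvPowerSeries.C t) =
      algebraMap k (MvPowerSeries (Fin n) k ⧸ J) t := fun t => rfl
  -- from the model
  have h12 : (∃ a b c : k, 4 * a * c - b ^ 2 ≠ 0 ∧
      Nonempty ((MvPowerSeries (Fin n) k ⧸ J) ≃ₐ[k] NodePtLib.QModel a b c)) →
      (IsReduced (MvPowerSeries (Fin n) k ⧸ J) ∧ LocCoh.depth (MvPowerSeries (Fin n) k) (MvPowerSeries (Fin n) k ⧸ J) = 1 ∧
        NodeMinorLib.jac f = maximalIdeal _) := by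
    rintro ⟨a, b, c, hΔ, ⟨e⟩⟩
    haveI := NodePtLib.isReduced_qModel a b c hΔ
    haveI hred : IsReduced (MvPowerSeries (Fin n) k ⧸ J) := isReduced_of_injective e.toRingHom e.injective
    obtain ⟨x, hx⟩ := Ideal.Quotient.mk_surjective (e.symm (NodePtLib.qX a b c 0))
    obtain ⟨y, hy⟩ := Ideal.Quotient.mk_surjective (e.symm (NodePtLib.qX a b c 1))
    have hmax : maximalIdeal (MvPowerSeries (Fin n) k ⧸ J) = Ideal.span (Ideal.Quotient.mk J '' {x, y}) := by
      rw [← IsLocalRing.map_ringEquiv_maximalIdeal e.symm.toRingEquiv, NodePtLib.maximalIdeal_qModel, Ideal.map_span,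
        Set.image_insert_eq, Set.image_singleton, Set.image_insert_eq, Set.image_singleton, hx, hy]
      rfl
    have hm := (max_eq_sup hJle _).2 hmax
    have hxm : x ∈ maximalIdeal (MvPowerSeries (Fin n) k) :=
      hm.ge (Submodule.mem_sup_left (Ideal.subset_span (Set.mem_insert x {y})))
    have hym : y ∈ maximalIdeal (MvPowerSeries (Fin n) k) :=
      hm.ge (Submodule.mem_sup_left (Ideal.subset_span (Set.mem_insert_of_mem x rfl)))
    have hnpC : ∀ w, maximalIdeal (MvPowerSeries (Fin n) k ⧸ J) ≠ Ideal.span {w} := fun w hw => by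
      refine NodePtLib.qModel_ne_principal a b c (e w) ?_
      rw [← IsLocalRing.map_ringEquiv_maximalIdeal e.toRingEquiv, hw, Ideal.map_span, Set.image_singleton]
      rfl
    refine ⟨hred, le_antisymm ?_ ?_, ?_⟩
    · have hdim : ringKrullDim (MvPowerSeries (Fin n) k ⧸ J) ≤ (1 : ℕ) := by
        rw [ringKrullDim_eq_of_ringEquiv e.toRingEquiv]
        have h := ringKrullDim_quotient_succ_le_of_nonZeroDivisor
          (mem_nonZeroDivisors_of_ne_zero (qSeries_ne_zero a b c hΔ))
        rw [WildQuotLib.ringKrullDim_eq] at h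
        revert h
        generalize ringKrullDim (NodePtLib.QModel a b c) = D
        intro h
        cases D with
        | bot => exact bot_le
        | coe v =>
          cases v with
          | top =>
            have h' : (⊤ : ℕ∞) + 1 ≤ ((2 : ℕ) : ℕ∞) := WithBot.coe_le_coe.1 h
            simp at h'
          | coe v =>
            have h' : (v : ℕ∞) + 1 ≤ ((2 : ℕ) : ℕ∞) := WithBot.coe_le_coe.1 h
            norm_cast at h'
            exact WithBot.coe_le_coe.2 (Nat.cast_le.2 (by omega : v ≤ 1))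
      have hd := QGorLib.depth_le_supportDim (R := MvPowerSeries (Fin n) k) (MvPowerSeries (Fin n) k ⧸ J)
      rw [Module.supportDim_quotient_eq_ringKrullDim] at hd
      exact WithBot.coe_le_coe.1 (hd.trans hdim)
    · exact (one_le_depth_iff hJle).2 (NodePtLib.exists_nzd_of_reduced_local hnpC)
    · refine NodeMinorLib.jac_eq_of_quad hf hxm hym hΔ hm (Submodule.mem_sup_left ?_) fun z hz => ?_
      · rw [← Ideal.Quotient.eq_zero_iff_mem, NodePtLib.map_qv, hC, hC, hC, hx, hy, ← e.symm.commutes, ← e.symm.commutes,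
          ← e.symm.commutes]
        exact ((NodePtLib.map_qv e.symm.toRingEquiv.toRingHom _ _ _ _ _).symm.trans
          ((congrArg _ (NodePtLib.qv_qX a b c)).trans (map_zero _)))
      · refine hnpC (Ideal.Quotient.mk J z) ?_
        rw [← Set.image_singleton]
        exact (max_eq_sup hJle _).1 hz
  -- to the model
  have h21 : NodeMinorLib.jac f = maximalIdeal _ →
      (IsReduced (MvPowerSeries (Fin n) k ⧸ J) ∨
        LocCoh.depth (MvPowerSeries (Fin n) k) (MvPowerSeries (Fin n) k ⧸ J) = 1) →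
      ∃ a b c : k, 4 * a * c - b ^ 2 ≠ 0 ∧
        Nonempty ((MvPowerSeries (Fin n) k ⧸ J) ≃ₐ[k] NodePtLib.QModel a b c) := by
    intro hj hor
    obtain ⟨hrn, x, y, a, b, c, hx, hy, hΔ, hm, hq⟩ := NodeMinorLib.quad_of_jac_eq hf hj
    have hnpC : ∀ w, maximalIdeal (MvPowerSeries (Fin n) k ⧸ J) ≠ Ideal.span {w} := fun w hw => by
      obtain ⟨z, rfl⟩ := Ideal.Quotient.mk_surjective w
      rw [← Set.image_singleton, ← max_eq_sup hJle] at hw
      have hz : z ∈ maximalIdeal (MvPowerSeries (Fin n) k) :=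
        hw.ge (Submodule.mem_sup_left (Ideal.subset_span rfl))
      have htop : (⊤ : Submodule k (Fin n → k)) ≤
          NodeMinorLib.lspan f ⊔ Submodule.span k {NodeMinorLib.lin k n z} := fun v _ => by
        obtain ⟨s, hs, i, hi, he⟩ := Submodule.mem_sup.1 (hw.le (NodeMinorLib.form_mem v))
        obtain ⟨p, rfl⟩ := Ideal.mem_span_singleton'.1 hs
        rw [← NodeMinorLib.lin_form v, ← he, map_add, NodeMinorLib.lin_mul, NodeMinorLib.mem_max.1 hz, zero_smul,
          add_zero, add_comm]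
        exact Submodule.mem_sup.2 ⟨_, NodeMinorLib.lin_mem_lspan f hi, _,
          Submodule.smul_mem _ _ (Submodule.mem_span_singleton_self _), rfl⟩
      have h1 := (Submodule.finrank_mono htop).trans (Submodule.finrank_add_le_finrank_add_finrank _ _)
      have h2 := finrank_span_le_card (R := k) ({NodeMinorLib.lin k n z} : Set (Fin n → k))
      rw [finrank_top, Module.finrank_fin_fun] at h1
      simp at h2
      omega
    obtain ⟨t, ht, htd⟩ : ∃ t ∈ maximalIdeal (MvPowerSeries (Fin n) k ⧸ J),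
        t ∈ nonZeroDivisors (MvPowerSeries (Fin n) k ⧸ J) := by
      rcases hor with hred | hdep
      · haveI := hred
        exact NodePtLib.exists_nzd_of_reduced_local hnpC
      · exact (one_le_depth_iff hJle).1 hdep.ge
    have hxy : maximalIdeal (MvPowerSeries (Fin n) k ⧸ J) =
        Ideal.span {Ideal.Quotient.mk J x, Ideal.Quotient.mk J y} := by
      rw [(max_eq_sup hJle _).1 hm, Set.image_insert_eq, Set.image_singleton]
    refine ⟨a, b, c, hΔ, NodePtLib.exists_iso_qModel hrat hΔ hxy ?_ ht htd hnpC⟩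
    rw [← hC, ← hC, ← hC, ← NodePtLib.map_qv]
    have h := Ideal.mem_map_of_mem (Ideal.Quotient.mk J) hq
    rwa [Ideal.map_sup, Ideal.map_quotient_self, bot_sup_eq, Ideal.map_pow, map_max] at h
  exact ⟨⟨fun h => ⟨(h12 h).1, (h12 h).2.2⟩, fun h => h21 h.2 (Or.inl h.1)⟩,
    ⟨fun h => ⟨(h12 (h21 h.2 (Or.inl h.1))).2.1, h.2⟩, fun h => ⟨(h12 (h21 h.2 (Or.inr h.1))).1, h.2⟩⟩⟩

end Groth.Agent.S6574
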