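import Groth.Statements.S6575
import Mathlib

set_option autoImplicit false
universe u
open Curves

namespace Groth.Agent.S6575

open CategoryTheory CategoryTheory.Limits AlgebraicGeometry

lemma minor_mem {R : Type u} [CommRing R] {r l : ℕ} (C : Fin r → Fin l → R) (B : Fin l → Fin r → R) (J : Ideal R)
    (hJ : ∀ φ : Fin r → Fin l, Function.Injective φ → (Matrix.of fun i => B (φ i)).det ∈ J) :
    (Matrix.of fun i => ∑ s, C i s • B s).det ∈ J := by
  classical
  let D : MultilinearMap R (fun _ : Fin r => Fin r → R) R := Matrix.detRowAlternating.toMultilinearMap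
  show D (fun i => ∑ s, C i s • B s) ∈ J
  rw [MultilinearMap.map_sum]
  refine Ideal.sum_mem _ fun φ _ => ?_
  rw [MultilinearMap.map_smul_univ, smul_eq_mul]
  refine Ideal.mul_mem_left _ _ ?_
  by_cases hφ : Function.Injective φ
  · exact hJ φ hφ
  · obtain ⟨i, j, hij, hne⟩ : ∃ i j, φ i = φ j ∧ i ≠ j := by simpa [Function.Injective] using hφ
    have : D (fun i => B (φ i)) = 0 := Matrix.detRowAlternating.map_eq_zero_of_eq _ (congr_arg B hij) hne
    rw [this]
    exact zero_mem _

lemma le_jac (k : Type u) [Field k] (n m l r : ℕ) (f : Fin m → MvPowerSeries (Fin n) k)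
    (g : Fin l → MvPowerSeries (Fin n) k) (hfg : Ideal.span (Set.range f) ≤ Ideal.span (Set.range g)) :
    Ideal.span {d : MvPowerSeries (Fin n) k | ∃ (ρ : Fin r → Fin m) (γ : Fin r → Fin n), Function.Injective ρ ∧ Function.Injective γ ∧
          d = ((Matrix.of fun (j : Fin m) (i : Fin n) => MvPowerSeries.pderiv k i (f j)).submatrix ρ γ).det} ⊔ Ideal.span (Set.range f) ≤
      Ideal.span {d : MvPowerSeries (Fin n) k | ∃ (ρ : Fin r → Fin l) (γ : Fin r → Fin n), Function.Injective ρ ∧ Function.Injective γ ∧
          d = ((Matrix.of fun (j : Fin l) (i : Fin n) => MvPowerSeries.pderiv k i (g j)).submatrix ρ γ).det} ⊔ Ideal.span (Set.range g) := by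
  classical
  refine sup_le (Ideal.span_le.2 ?_) (hfg.trans le_sup_right)
  rintro _ ⟨ρ, γ, hρ, hγ, rfl⟩
  have hc : ∀ j, ∃ c : Fin l → MvPowerSeries (Fin n) k, ∑ s, c s * g s = f j := fun j =>
    Ideal.mem_span_range_iff_exists_fun.1 (hfg (Ideal.subset_span ⟨j, rfl⟩))
  choose c hc using hc
  let I := Ideal.span (Set.range g)
  let q := Ideal.Quotient.mk I
  let S : Set (MvPowerSeries (Fin n) k) := {d | ∃ (ρ : Fin r → Fin l) (γ : Fin r → Fin n), Function.Injective ρ ∧ Function.Injective γ ∧
          d = ((Matrix.of fun (j : Fin l) (i : Fin n) => MvPowerSeries.pderiv k i (g j)).submatrix ρ γ).det}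
  let M := (Matrix.of fun (j : Fin m) (i : Fin n) => MvPowerSeries.pderiv k i (f j)).submatrix ρ γ
  have hq : q M.det ∈ (Ideal.span S).map q := by
    rw [RingHom.map_det]
    have hM : q.mapMatrix M = Matrix.of fun i => ∑ s, q (c (ρ i) s) • fun t => q (MvPowerSeries.pderiv k (γ t) (g s)) := by
      ext i t
      simp only [RingHom.mapMatrix_apply, Matrix.map_apply, M, Matrix.submatrix_apply, Matrix.of_apply,
        Finset.sum_apply, Pi.smul_apply, smul_eq_mul]
      rw [← hc (ρ i), map_sum, map_sum]
      refine Finset.sum_congr rfl fun s _ => ?_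
      rw [Derivation.leibniz, smul_eq_mul, smul_eq_mul, map_add, map_mul, map_mul,
        (Ideal.Quotient.eq_zero_iff_mem.2 (Ideal.subset_span ⟨s, rfl⟩) : q (g s) = 0), zero_mul, add_zero]
    rw [hM]
    refine minor_mem _ _ _ fun φ hφ => ?_
    rw [show (Matrix.of fun i => fun t => q (MvPowerSeries.pderiv k (γ t) (g (φ i)))) =
      q.mapMatrix ((Matrix.of fun (j : Fin l) (i : Fin n) => MvPowerSeries.pderiv k i (g j)).submatrix φ γ) from rfl,
      ← RingHom.map_det]
    exact Ideal.mem_map_of_mem q (Ideal.subset_span ⟨φ, γ, hφ, hγ, rfl⟩)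
  have := Ideal.mem_comap.2 hq
  rwa [Ideal.comap_map_of_surjective q Ideal.Quotient.mk_surjective, ← RingHom.ker_eq_comap_bot, Ideal.mk_ker] at this


/-- Let k be a field, A = k[[x_1, …, x_n]] and I ⊆ A an ideal generated by f_1, …, f_m and also by g_1,
…, g_l. Then for every r ≥ 0 the ideal of A/I generated by the r × r minors of (∂f_j/∂x_i) equals
the one generated by the r × r minors of (∂g_s/∂x_i); stated in A as equality of the ideals
generated by the minors together with I. (The published result also asserts independence of the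
regular system of parameters x_1, …, x_n, which is not stated here.) -/
theorem result (k : Type u) [Field k] (n m l r : ℕ)
    (f : Fin m → MvPowerSeries (Fin n) k) (g : Fin l → MvPowerSeries (Fin n) k)
    (hfg : Ideal.span (Set.range f) = Ideal.span (Set.range g)) :
    Ideal.span {d : MvPowerSeries (Fin n) k | ∃ (ρ : Fin r → Fin m) (γ : Fin r → Fin n), Function.Injective ρ ∧ Function.Injective γ ∧
          d = ((Matrix.of fun (j : Fin m) (i : Fin n) => MvPowerSeries.pderiv k i (f j)).submatrix ρ γ).det} ⊔ Ideal.span (Set.range f) =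
      Ideal.span {d : MvPowerSeries (Fin n) k | ∃ (ρ : Fin r → Fin l) (γ : Fin r → Fin n), Function.Injective ρ ∧ Function.Injective γ ∧
          d = ((Matrix.of fun (j : Fin l) (i : Fin n) => MvPowerSeries.pderiv k i (g j)).submatrix ρ γ).det} ⊔ Ideal.span (Set.range g) := by
  exact le_antisymm (le_jac k n m l r f g hfg.le) (le_jac k n l m r g f hfg.ge)

end Groth.Agent.S6575
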