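import Groth.Statements.S6576
import Groth.Agent.SubAdjLib.OmegaBC
import Groth.Agent.TwistShriek.PointTwist
import Groth.Agent.TwistShriek.CurveSetup

set_option autoImplicit false
universe u
open CategoryTheory CategoryTheory.Limits AlgebraicGeometry
attribute [local instance] HasDerivedCategory.standard
open Curves

namespace Groth.Agent.S6576

open CategoryTheory CategoryTheory.Limits AlgebraicGeometry

set_option backward.isDefEq.respectTransparency false
set_option backward.isDefEq.respectTransparency.types false
set_option linter.style.haveILetI false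
set_option maxHeartbeats 1000000
attribute [local instance] HasDerivedCategory.standard

/-- Let X be proper over the field k of dimension ≤ 1, ω_X its dualizing module (degree -1 cohomology
sheaf of f^! O for the structure morphism f, assuming Rf_* on D_QCoh and its right adjoint exist),
and K/k a field extension. Then the pullback of ω_X along X_K → X is a dualizing module for X_K →
Spec K: it is isomorphic to the degree -1 cohomology sheaf of the corresponding object for X_K over
K. (Existence of an isomorphism only; the statement for the dualizing complex is not included.) -/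
theorem result (k : Type u) [Field k] (X : Scheme.{u}) [X.Over (Spec (CommRingCat.of k))] [IsProper (X ↘ (Spec (CommRingCat.of k)))] (hdim : topologicalKrullDim X ≤ 1)
    [DCoh.HasRpush (X ↘ (Spec (CommRingCat.of k)))] (h : DCoh.RpushPreservesQCoh (X ↘ (Spec (CommRingCat.of k)))) [DCoh.HasShriek (X ↘ (Spec (CommRingCat.of k))) h]
    (OY : DCoh.DQCoh (Spec (CommRingCat.of k))) (hOY : Nonempty (OY.obj ≅ DCoh.inD (Spec (CommRingCat.of k)) (Coh.structureModule (Spec (CommRingCat.of k)))))
    (K : Type u) [Field K] [Algebra k K]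
    [DCoh.HasRpush (Curv2.bcSnd k X K)] (hK : DCoh.RpushPreservesQCoh (Curv2.bcSnd k X K)) [DCoh.HasShriek (Curv2.bcSnd k X K) hK]
    (OK : DCoh.DQCoh (Spec (CommRingCat.of K))) (hOK : Nonempty (OK.obj ≅ DCoh.inD (Spec (CommRingCat.of K)) (Coh.structureModule (Spec (CommRingCat.of K))))) :
    Nonempty ((Scheme.Modules.pullback (Curv2.bcFst k X K)).obj (DCoh.dualizingMod (X ↘ (Spec (CommRingCat.of k))) h OY 1) ≅ DCoh.dualizingMod (Curv2.bcSnd k X K) hK OK 1) := by
  have hd1 : topologicalKrullDim X ≤ ((1 : ℕ) : WithBot ℕ∞) := hdim.trans (le_of_eq Nat.cast_one.symm)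
  obtain ⟨tr, htr, -, -⟩ := TwistShriek.exists_pair_dualizingMod k X h OY hOY hd1
  obtain ⟨tr₁, htr₁⟩ := SubAdjLib.exists_pair_bc k hd1 htr K
  haveI i1 : DCoh.HasRpush (Curv2.bc k X K ↘ Spec (CommRingCat.of K)) := ‹DCoh.HasRpush (Curv2.bcSnd k X K)›
  haveI i2 : DCoh.HasShriek (Curv2.bc k X K ↘ Spec (CommRingCat.of K)) hK := ‹DCoh.HasShriek (Curv2.bcSnd k X K) hK›
  obtain ⟨tr₂, htr₂, -, -⟩ := TwistShriek.exists_pair_dualizingMod K (Curv2.bc k X K) hK OK hOK
    ((CurveFF.dim_bc k X K).trans_le hd1)
  exact TwistShriek.nonempty_iso_of_isRDualOver K htr₁ htr₂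

end Groth.Agent.S6576
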