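import Groth.Statements.S6577
import Groth.Agent.TwistShriek.ClosedDual
-- import your own Groth.Agent.* helpers here

set_option autoImplicit false
set_option backward.isDefEq.respectTransparency false
set_option maxHeartbeats 800000
set_option synthInstance.maxHeartbeats 200000
universe u
open CategoryTheory CategoryTheory.Limits AlgebraicGeometry
attribute [local instance] HasDerivedCategory.standard
open Curves
open Groth.Agent Groth.Agent.TwistShriek

namespace Groth.Agent.S6577

/-- Let X be proper over the field k of dimension ≤ 1, i : Y → X a closed immersion, and ω_X, ω_Y the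
dualizing modules of X and of Y over k (degree -1 cohomology sheaves of the shriek of O for the
structure morphisms, assuming the derived pushforwards on D_QCoh and their right adjoints exist).
Then i_*ω_Y ≅ Hom_{O_X}(i_*O_Y, ω_X), where the sheaf Hom is taken as the right adjoint of i_*O_Y ⊗
− (assumed to exist). (Existence of an isomorphism only.) -/
theorem result (k : Type u) [Field k] (X : Scheme.{u}) [X.Over (Spec (CommRingCat.of k))] [IsProper (X ↘ (Spec (CommRingCat.of k)))] (hdim : topologicalKrullDim X ≤ 1)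
    [DCoh.HasRpush (X ↘ (Spec (CommRingCat.of k)))] (h : DCoh.RpushPreservesQCoh (X ↘ (Spec (CommRingCat.of k)))) [DCoh.HasShriek (X ↘ (Spec (CommRingCat.of k))) h]
    (OY : DCoh.DQCoh (Spec (CommRingCat.of k))) (hOY : Nonempty (OY.obj ≅ DCoh.inD (Spec (CommRingCat.of k)) (Coh.structureModule (Spec (CommRingCat.of k)))))
    {Y : Scheme.{u}} (i : Y ⟶ X) [IsClosedImmersion i]
    [DCoh.HasRpush (i ≫ (X ↘ (Spec (CommRingCat.of k))))] (hY : DCoh.RpushPreservesQCoh (i ≫ (X ↘ (Spec (CommRingCat.of k))))) [DCoh.HasShriek (i ≫ (X ↘ (Spec (CommRingCat.of k)))) hY]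
    [DCoh.HasSheafHom ((Coh.push i).obj (Coh.structureModule Y))] :
    Nonempty ((Coh.push i).obj (DCoh.dualizingMod (i ≫ (X ↘ (Spec (CommRingCat.of k)))) hY OY 1) ≅
      (DCoh.sheafHom ((Coh.push i).obj (Coh.structureModule Y))).obj (DCoh.dualizingMod (X ↘ (Spec (CommRingCat.of k))) h OY 1)) := by
    letI : Y.Over (Spec (CommRingCat.of k)) := ⟨i ≫ (X ↘ (Spec (CommRingCat.of k)))⟩
    haveI : IsProper (Y ↘ Spec (CommRingCat.of k)) :=
      inferInstanceAs (IsProper (i ≫ (X ↘ (Spec (CommRingCat.of k)))))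
    haveI : IsLocallyNoetherian X := LocallyOfFiniteType.isLocallyNoetherian (X ↘ (Spec (CommRingCat.of k)))
    have hdX : topologicalKrullDim X ≤ (1 : ℕ) := by exact_mod_cast hdim
    have hdY : topologicalKrullDim Y ≤ (1 : ℕ) :=
      (i.isClosedEmbedding.isInducing.topologicalKrullDim_le).trans hdX
    obtain ⟨trX, hX, -, -⟩ := exists_pair_dualizingMod k X h OY hOY hdX
    haveI : DCoh.HasRpush (Y ↘ Spec (CommRingCat.of k)) := ‹DCoh.HasRpush (i ≫ (X ↘ (Spec (CommRingCat.of k))))›
    haveI : DCoh.HasShriek (Y ↘ Spec (CommRingCat.of k)) hY := ‹DCoh.HasShriek (i ≫ (X ↘ (Spec (CommRingCat.of k)))) hY›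
    obtain ⟨trY, hY', -, -⟩ := exists_pair_dualizingMod k Y hY OY hOY hdY
    obtain ⟨e⟩ := FinPush.nonempty_iso_hF_of_pairs i k rfl 1 trX hX trY hY'
    obtain ⟨e'⟩ := FinPush.nonempty_sheafHom_iso_hF ((Coh.push i).obj (Coh.structureModule Y))
      (DCoh.dualizingMod (X ↘ (Spec (CommRingCat.of k))) h OY 1)
    exact ⟨e ≪≫ e'.symm⟩

end Groth.Agent.S6577
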