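import Groth.Statements.S6578
import Groth.Agent.S3572
import Groth.Agent.CurveFF.Duality
import Groth.Agent.VBLib.WeilLine
import Groth.Agent.VBLib.Slope
import Groth.Agent.DCohLib.SigmaSections

set_option autoImplicit false
universe u
open CategoryTheory CategoryTheory.Limits AlgebraicGeometry
open Curves

namespace Groth.Agent.S6578

open Groth.Agent.PullbackMod Groth.Agent.DCohLib in
/-- Sections spanning the source of an epimorphism from a free module generate. -/
lemma generatedBy_of_epi {X : Scheme.{u}} {n : ℕ} {I : X.Modules}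
    (p : (∐ fun _ : Fin n => Coh.structureModule X) ⟶ I) [Epi p] :
    ProjUP.GeneratedBy I fun i => Groth.Agent.AmpleLib.sec (Sigma.ι (fun _ : Fin n => Coh.structureModule X) i ≫ p) := by
  intro x
  let S := Submodule.span (X.presheaf.stalk x)
    (Set.range fun i => I.presheaf.germ ⊤ x trivial (Groth.Agent.AmpleLib.sec (Sigma.ι (fun _ : Fin n => Coh.structureModule X) i ≫ p)))
  let q := Submodule.mkQ S
  have h1 : p ≫ toSky q = 0 := by
    refine Sigma.hom_ext _ _ fun i => ?_
    rw [comp_zero, ← Category.assoc]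
    refine hom_unit_ext ?_
    funext hx
    show q (I.presheaf.germ ⊤ x hx.down (Groth.Agent.AmpleLib.sec (Sigma.ι (fun _ : Fin n => Coh.structureModule X) i ≫ p))) = 0
    exact (Submodule.Quotient.mk_eq_zero _).mpr (Submodule.subset_span ⟨i, rfl⟩)
  have h2 : toSky q = 0 := zero_of_epi_comp p h1
  show S = ⊤
  rw [eq_top_iff]
  rintro z -
  obtain ⟨U, hx, m, rfl⟩ := TopCat.Presheaf.exists_germ_eq I.presheaf z
  rw [← Submodule.Quotient.mk_eq_zero]
  show q (I.presheaf.germ U x hx m) = 0
  rw [← toSky_app q U m ⟨hx⟩, h2]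
  rfl

/-- Let k be a field and X a proper curve over k all of whose local rings are regular (X integral,
proper, of dimension one), and let (L, V) be a g^r_d on X, given by an invertible module L of degree
d and an ordered basis s_0, …, s_r of V ⊆ Γ(X, L) (k-linearly independent global sections). Then
there exist a morphism φ : X → P^r_k = Proj k[T_0, …, T_r] over k and a map α : φ^*O(1) → L sending
φ^*T_i to s_i for each i (so φ^*T_0, …, φ^*T_r go to a basis of V). -/
theorem result (k : Type u) [Field k] (X : Scheme.{u}) [X.Over (Spec (CommRingCat.of k))]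
    [IsIntegral X] [IsProper (X ↘ (Spec (CommRingCat.of k)))] (hdim : topologicalKrullDim X = 1) (hreg : ∀ x : X, IsRegularLocalRing (X.presheaf.stalk x))
    (d r : ℕ) (L : X.Modules) (s : Fin (r + 1) → LinSer.Sect X L) (hL : LinSer.IsLinSer k X L d r s) :
    ∃ (φ : X ⟶ CohB1.ProjSpace r k) (α : (Scheme.Modules.pullback φ).obj (Twist.twistProjSpace r k 1) ⟶ L),
      φ ≫ CohB1.ProjSpace.toSpec r k = X ↘ (Spec (CommRingCat.of k)) ∧
        ∀ i : Fin (r + 1), (α.val.app (Opposite.op ⊤)).hom (OmegaSh.pullSect φ (Twist.twistProjSpace r k 1) ⊤ (Twist.globalOf (CohB1.polyGrading r k) (⟨MvPolynomial.X i, MvPolynomial.isHomogeneous_X k i⟩ : (CohB1.polyGrading r k) 1))) = s i := by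
  obtain ⟨hLinv, -, hli⟩ := hL
  haveI := Groth.Agent.CurveFF.isRegCurve_of_regular hdim.le hreg
  haveI := Groth.Agent.EulerIneqLib.isNoetherian_proper (X := X) k
  let σ : (∐ fun _ : Fin (r + 1) => Coh.structureModule X) ⟶ L :=
    Sigma.desc fun i => Groth.Agent.DCohLib.secHom L (s i)
  have hE := Groth.Agent.VBLib.isFinLocFreeOfRank_sigma_copies (Groth.Agent.ParaFLib.isInvertible_structureModule (X := X)) (r + 1)
  have hL1 := Groth.Agent.CurveLib.isFinLocFreeOfRank_one hLinv
  obtain ⟨I, p, i, hi, hp, hpi, hIc, -, -, -⟩ := Groth.Agent.VBLib.exists_image k σ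
    (Groth.Agent.VBLib.isCoh_of_rank hE) (Groth.Agent.VBLib.isCoh_of_rank hL1)
  haveI := hi
  haveI := hp
  let t : Fin (r + 1) → Γ(I, ⊤) := fun j => Groth.Agent.AmpleLib.sec (Sigma.ι (fun _ : Fin (r + 1) => Coh.structureModule X) j ≫ p)
  have ht : ∀ j, i.app ⊤ (t j) = s j := fun j => by
    show Groth.Agent.AmpleLib.sec ((Sigma.ι (fun _ : Fin (r + 1) => Coh.structureModule X) j ≫ p) ≫ i) = _
    rw [Category.assoc, hpi, Sigma.ι_desc]
    exact Groth.Agent.AmpleLib.sec_secHom _
  have hs0 : s 0 ≠ 0 := fun h0 => by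
    have h := hli (Pi.single 0 1) (by
      rw [Finset.sum_eq_single (0 : Fin (r + 1))]
      · rw [h0, smul_zero]
      · intro b _ hb; rw [Pi.single_eq_of_ne hb, map_zero, zero_smul]
      · intro h; exact absurd (Finset.mem_univ _) h)
    simpa using congrFun h 0
  have hi0 : i ≠ 0 := fun h => hs0 (by rw [← ht 0, h]; rfl)
  have hIr : Groth.Agent.VBLib.grk I = 1 := by
    obtain ⟨-, h1, -⟩ := Groth.Agent.VBLib.coker_add k i hIc (Groth.Agent.VBLib.isCoh_of_rank hL1)
    rw [Groth.Agent.VBLib.grk_of_rank hL1] at h1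
    rcases Nat.eq_zero_or_pos (Groth.Agent.VBLib.grk I) with h | h
    · exact absurd ((Groth.Agent.VBLib.isZero_of_mono i hIc hL1 h).eq_of_src i 0) hi0
    · omega
  have hIinv : PicF.IsInvertible I := Groth.Agent.VBLib.isInvertible_of_rank (hIr ▸ Groth.Agent.VBLib.rank_of_mono i hIc hL1)
  obtain ⟨φ, hφ, τ, hτ⟩ := Groth.Agent.S3572.result r (X ↘ Spec (CommRingCat.of k)) I hIinv t (generatedBy_of_epi p)
  refine ⟨φ, τ.hom ≫ i, hφ, fun j => ?_⟩
  exact (congrArg (i.app ⊤) (hτ j)).trans (ht j)

end Groth.Agent.S6578
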