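import Groth.Statements.S6585
import Mathlib
import Groth.Agent.TriDecomp.Basic

open CategoryTheory CategoryTheory.Limits CategoryTheory.Pretriangulated
open scoped ZeroObject

set_option autoImplicit false
universe v u
open CategoryTheory CategoryTheory.Limits
open CohDer

namespace Groth.Agent.S6585

open CategoryTheory.Pretriangulated in
/-- Let D be a triangulated category and E, K objects of D. Then Hom(E, K⟦i⟧) = 0 for all integers i if
and only if Hom(E', K) = 0 for every E' in ⟨E⟩, the smallest strictly full saturated triangulated
subcategory of D containing E (the objects obtained from E by shifts, finite direct sums, direct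
summands and extensions). -/
theorem result {D : Type u} [Category.{v} D] [Preadditive D] [HasZeroObject D] [HasShift D ℤ]
    [∀ n : ℤ, (shiftFunctor D n).Additive] [Pretriangulated D] [IsTriangulated D]
    (E K : D) :
    (∀ (i : ℤ) (f : E ⟶ (shiftFunctor D i).obj K), f = 0) ↔
      ∀ (E' : D), (ObjectProperty.singleton E).triangEnvelope E' → ∀ f : E' ⟶ K, f = 0 := by
  constructor
  · intro h E' hE' f
    let Q : ObjectProperty D := ((ObjectProperty.singleton K).shiftClosure ℤ).leftOrthogonal
    have hret : Q.IsStableUnderRetracts := ⟨fun {X Y} r hY Z g hZ => by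
      have := hY (r.r ≫ g) hZ
      have h2 := congrArg (r.i ≫ ·) this
      simpa using h2⟩
    have hle : (ObjectProperty.singleton E).triangEnvelope ≤ Q := by
      rw [ObjectProperty.triangEnvelope_le_iff]
      intro X hX Z g hZ
      obtain rfl := (ObjectProperty.singleton_iff _ _).mp hX
      obtain ⟨W, i, e, hW⟩ := (ObjectProperty.prop_shiftClosure_iff _ _).mp hZ
      obtain rfl := (ObjectProperty.singleton_iff _ _).mp hW
      have := h i (g ≫ e.hom)
      exact (cancel_mono e.hom).mp (this.trans zero_comp.symm)
    exact hle _ hE' f (ObjectProperty.le_shiftClosure _ _ ((ObjectProperty.singleton_iff _ _).mpr rfl))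
  · intro h i f
    have hE : (ObjectProperty.singleton E).triangEnvelope ((shiftFunctor D (-i)).obj E) :=
      ObjectProperty.le_shift ((ObjectProperty.singleton E).triangEnvelope) (-i) _ (ObjectProperty.le_triangEnvelope _ _ ((ObjectProperty.singleton_iff _ _).mpr rfl))
    let e := shiftFunctorCompIsoId D i (-i) (add_neg_cancel i)
    have h0 := h _ hE ((shiftFunctor D (-i)).map f ≫ e.hom.app K)
    have h1 : (shiftFunctor D (-i)).map f = 0 := by
      rw [← cancel_mono (e.hom.app K)]
      simpa using h0
    exact (shiftFunctor D (-i)).map_injective (by rw [h1, Functor.map_zero])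

end Groth.Agent.S6585
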