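import Groth.Statements.S6586
import Groth.Agent.BrownRep.Compact
import Mathlib

set_option autoImplicit false
universe v u
open CategoryTheory CategoryTheory.Limits
open CohDer

namespace Groth.Agent.S6586

/-- Fix a triangulated category D together with an object E in it. Suppose E classically generates D,
i.e. ⟨E⟩ = D; then E is a generator of D: an object K with Hom(E, K⟦n⟧) = 0 for all n is zero. -/
theorem result {D : Type u} [Category.{v} D] [Preadditive D] [HasZeroObject D] [HasShift D ℤ]
    [∀ n : ℤ, (shiftFunctor D n).Additive] [Pretriangulated D] [IsTriangulated D]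
    (E : D) (hE : (ObjectProperty.singleton E).IsClassicalTriangulatedGenerator) :
    CohDer.Generates (fun _ : PUnit.{1} => E) := by
  intro K hK
  haveI : (ObjectProperty.singleton E).Nonempty := ⟨E, by simp⟩
  have h0 : (shiftFunctorZero D ℤ).inv.app K = 0 :=
    Groth.Agent.BrownRep.eq_zero_of_triangEnvelope (ObjectProperty.singleton E) K
      (fun X hX => by
        simp only [ObjectProperty.singleton_iff] at hX
        subst hX
        exact hK PUnit.unit) (by rw [show _ = ⊤ from hE]; trivial) 0 _
  refine (IsZero.iff_id_eq_zero _).2 ?_
  rw [← cancel_mono ((shiftFunctorZero D ℤ).inv.app K)]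
  exact (Category.id_comp _).trans (h0.trans zero_comp.symm)

end Groth.Agent.S6586
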