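import Groth.Statements.S6592
import Mathlib

set_option autoImplicit false
universe v u
open CategoryTheory CategoryTheory.Limits
open DerLim

namespace Groth.Agent.S6592

open CategoryTheory Category Limits Pretriangulated DerLim

variable {D : Type u} [Category.{v} D] [Preadditive D] (F : ℕ ⥤ D)

/-- Transition maps, extended by zero. -/
noncomputable def mp (a b : ℕ) : F.obj a ⟶ F.obj b := if h : a ≤ b then F.map (homOfLE h) else 0

theorem mp_eq {a b : ℕ} (h : a ≤ b) : mp F a b = F.map (homOfLE h) := dif_pos h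

theorem mp_self (a : ℕ) : mp F a a = 𝟙 _ := by rw [mp_eq F le_rfl]; exact F.map_id _

theorem mp_trans {a b c : ℕ} (h : a ≤ b) (h' : b ≤ c) : mp F a b ≫ mp F b c = mp F a c := by
  rw [mp_eq F h, mp_eq F h', mp_eq F (h.trans h'), ← F.map_comp, homOfLE_comp]

theorem mp_trans_assoc {a b c : ℕ} (h : a ≤ b) (h' : b ≤ c) {T : D} (x : F.obj c ⟶ T) :
    mp F a b ≫ mp F b c ≫ x = mp F a c ≫ x := by rw [← Category.assoc, mp_trans F h h']

theorem tele {A : Type*} [AddCommGroup A] (f : ℕ → A) {a b : ℕ} (h : a ≤ b) :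
    ∑ m ∈ Finset.Ico a b, (f m - f (m + 1)) = f a - f b := by
  induction b, h using Nat.le_induction with
  | base => simp
  | succ b hab ih => rw [Finset.sum_Ico_succ_top hab, ih]; abel

variable {n : ℕ → ℕ} (hn : StrictMono n)
variable [HasCoproduct (fun m : ℕ => F.obj m)] [HasCoproduct (fun i : ℕ => F.obj (n i))]


/-- `1 - shift` of the system. -/
noncomputable def dK : (∐ fun m : ℕ => F.obj m) ⟶ ∐ fun m : ℕ => F.obj m :=
  𝟙 _ - shiftMap (fun m : ℕ => F.obj m) (fun m : ℕ => F.map (homOfLE (Nat.le_succ m)))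

/-- `1 - shift` of the subsequence. -/
noncomputable def dS : (∐ fun i : ℕ => F.obj (n i)) ⟶ ∐ fun i : ℕ => F.obj (n i) :=
  𝟙 _ - shiftMap (fun i : ℕ => F.obj (n i)) (fun i : ℕ => F.map (homOfLE (hn.monotone (Nat.le_succ i))))

theorem ι_dK (m : ℕ) : Sigma.ι (fun m : ℕ => F.obj m) m ≫ dK F =
    Sigma.ι (fun m : ℕ => F.obj m) m - mp F m (m + 1) ≫ Sigma.ι (fun m : ℕ => F.obj m) (m + 1) := by
  simp [dK, shiftMap, Preadditive.comp_sub, mp_eq F (Nat.le_succ m)]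

theorem ι_dS (i : ℕ) : Sigma.ι (fun i : ℕ => F.obj (n i)) i ≫ dS F hn =
    Sigma.ι (fun i : ℕ => F.obj (n i)) i - mp F (n i) (n (i + 1)) ≫ Sigma.ι (fun i : ℕ => F.obj (n i)) (i + 1) := by
  simp [dS, shiftMap, Preadditive.comp_sub, mp_eq F (hn.monotone (Nat.le_succ i))]

/-- Sum over a gap. -/
noncomputable def aMap (n : ℕ → ℕ) [HasCoproduct (fun i : ℕ => F.obj (n i))] :
    (∐ fun i : ℕ => F.obj (n i)) ⟶ ∐ fun m : ℕ => F.obj m :=
  Sigma.desc fun i => ∑ m ∈ Finset.Ico (n i) (n (i + 1)), mp F (n i) m ≫ Sigma.ι (fun m : ℕ => F.obj m) m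

/-- Inclusion of the subsequence. -/
noncomputable def bMap (n : ℕ → ℕ) [HasCoproduct (fun i : ℕ => F.obj (n i))] :
    (∐ fun i : ℕ => F.obj (n i)) ⟶ ∐ fun m : ℕ => F.obj m :=
  Sigma.desc fun i => Sigma.ι (fun m : ℕ => F.obj m) (n i)

include hn in
theorem comm : dS F hn ≫ bMap F n = aMap F n ≫ dK F := by
  apply Sigma.hom_ext
  intro i
  rw [← Category.assoc, ι_dS, Preadditive.sub_comp, Category.assoc, bMap, Sigma.ι_desc, Sigma.ι_desc, aMap,
    Sigma.ι_desc_assoc, Preadditive.sum_comp]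
  have : ∀ m ∈ Finset.Ico (n i) (n (i + 1)), (mp F (n i) m ≫ Sigma.ι (fun m : ℕ => F.obj m) m) ≫ dK F =
      mp F (n i) m ≫ Sigma.ι (fun m : ℕ => F.obj m) m - mp F (n i) (m + 1) ≫ Sigma.ι (fun m : ℕ => F.obj m) (m + 1) := by
    intro m hm
    rw [Finset.mem_Ico] at hm
    rw [Category.assoc, ι_dK, Preadditive.comp_sub, mp_trans_assoc F hm.1 (Nat.le_succ m)]
  rw [Finset.sum_congr rfl this,
    tele (fun m => mp F (n i) m ≫ Sigma.ι (fun m : ℕ => F.obj m) m) (hn.monotone (Nat.le_succ i)),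
    mp_self, Category.id_comp]

include hn in
theorem ker_lim (T : D) :
    (∀ x : (∐ fun m : ℕ => F.obj m) ⟶ T, dK F ≫ x = 0 → bMap F n ≫ x = 0 → x = 0) ∧
    (∀ y : (∐ fun i : ℕ => F.obj (n i)) ⟶ T, dS F hn ≫ y = 0 → ∃ x, dK F ≫ x = 0 ∧ bMap F n ≫ x = y) := by
  have compat : ∀ x : (∐ fun m : ℕ => F.obj m) ⟶ T, dK F ≫ x = 0 → ∀ m l, m ≤ l →
      Sigma.ι (fun m : ℕ => F.obj m) m ≫ x = mp F m l ≫ Sigma.ι (fun m : ℕ => F.obj m) l ≫ x := by
    intro x hx m l hl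
    induction l, hl using Nat.le_induction with
    | base => rw [mp_self, Category.id_comp]
    | succ l hml ih =>
      have h := Sigma.ι (fun m : ℕ => F.obj m) l ≫= hx
      rw [← Category.assoc, ι_dK, Preadditive.sub_comp, comp_zero, sub_eq_zero, Category.assoc] at h
      rw [ih, h, mp_trans_assoc F hml (Nat.le_succ l)]
  refine ⟨fun x hx hbx => Sigma.hom_ext _ _ fun m => ?_, fun y hy => ?_⟩
  · have h := Sigma.ι (fun i : ℕ => F.obj (n i)) m ≫= hbx
    rw [bMap, Sigma.ι_desc_assoc, comp_zero] at h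
    rw [compat x hx m (n m) hn.le_apply, h, comp_zero, comp_zero]
  · have hyc : ∀ i l, i ≤ l → Sigma.ι (fun i : ℕ => F.obj (n i)) i ≫ y =
        mp F (n i) (n l) ≫ Sigma.ι (fun i : ℕ => F.obj (n i)) l ≫ y := by
      intro i l hl
      induction l, hl using Nat.le_induction with
      | base => rw [mp_self, Category.id_comp]
      | succ l hml ih =>
        have h := Sigma.ι (fun i : ℕ => F.obj (n i)) l ≫= hy
        rw [← Category.assoc, ι_dS, Preadditive.sub_comp, comp_zero, sub_eq_zero, Category.assoc] at h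
        rw [ih, h, mp_trans_assoc F (hn.monotone hml) (hn.monotone (Nat.le_succ l))]
    refine ⟨Sigma.desc fun m => mp F m (n m) ≫ Sigma.ι (fun i : ℕ => F.obj (n i)) m ≫ y, ?_, ?_⟩
    · apply Sigma.hom_ext
      intro m
      rw [← Category.assoc, ι_dK, Preadditive.sub_comp, Category.assoc, Sigma.ι_desc, Sigma.ι_desc, comp_zero, sub_eq_zero,
        hyc m (m + 1) (Nat.le_succ m), mp_trans_assoc F hn.le_apply (hn.monotone (Nat.le_succ m)),
        mp_trans_assoc F (Nat.le_succ m) hn.le_apply]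
    · apply Sigma.hom_ext
      intro i
      rw [bMap, Sigma.ι_desc_assoc, Sigma.ι_desc, hyc i (n i) hn.le_apply]

include hn in
theorem coker_lim (T : D) :
    (∀ y : (∐ fun i : ℕ => F.obj (n i)) ⟶ T, ∃ x : (∐ fun m : ℕ => F.obj m) ⟶ T, aMap F n ≫ x = y) ∧
    (∀ (x : (∐ fun m : ℕ => F.obj m) ⟶ T) (y : (∐ fun i : ℕ => F.obj (n i)) ⟶ T),
      aMap F n ≫ x = dS F hn ≫ y → ∃ z, dK F ≫ z = x) := by
  classical
  constructor
  · intro y
    let x : ∀ m, F.obj m ⟶ T := fun m => if h : ∃ i, n i = m then eqToHom (by rw [h.choose_spec]) ≫ Sigma.ι (fun i : ℕ => F.obj (n i)) h.choose ≫ y else 0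
    have hx : ∀ i, x (n i) = Sigma.ι (fun i : ℕ => F.obj (n i)) i ≫ y := by
      intro i
      have h : ∃ l, n l = n i := ⟨i, rfl⟩
      have aux : ∀ l (e : n l = n i), eqToHom (by rw [e] : F.obj (n i) = F.obj (n l)) ≫ Sigma.ι (fun i : ℕ => F.obj (n i)) l ≫ y =
          Sigma.ι (fun i : ℕ => F.obj (n i)) i ≫ y := by
        intro l e
        obtain rfl := hn.injective e
        simp
      simp only [x, dif_pos h]
      exact aux _ h.choose_spec
    refine ⟨Sigma.desc x, Sigma.hom_ext _ _ fun i => ?_⟩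
    rw [aMap, Sigma.ι_desc_assoc, Preadditive.sum_comp]
    rw [Finset.sum_eq_single_of_mem (n i) (Finset.mem_Ico.2 ⟨le_rfl, hn (Nat.lt_succ_self i)⟩) ?_]
    · rw [mp_self, Category.id_comp, Sigma.ι_desc, hx]
    · intro m hm hne
      rw [Finset.mem_Ico] at hm
      rw [Category.assoc, Sigma.ι_desc]
      simp only [x]
      rw [dif_neg, comp_zero]
      rintro ⟨l, rfl⟩
      have h1 := hn.le_iff_le.1 hm.1
      have h2 := hn.lt_iff_lt.1 hm.2
      exact hne (by rw [show l = i by omega])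
  · intro x y hxy
    let X : ∀ m, F.obj m ⟶ T := fun m => Sigma.ι (fun m : ℕ => F.obj m) m ≫ x
    let Y : ∀ i, F.obj (n i) ⟶ T := fun i => Sigma.ι (fun i : ℕ => F.obj (n i)) i ≫ y
    let w : ℕ → ∀ m, F.obj m ⟶ T := fun l m => (∑ q ∈ Finset.Ico m (n l), mp F m q ≫ X q) + mp F m (n l) ≫ Y l
    have hex : ∀ m, ∃ l, m ≤ n l := fun m => ⟨m, hn.le_apply⟩
    let z : ∀ m, F.obj m ⟶ T := fun m => w (Nat.find (hex m)) m
    have hrel : ∀ i, ∑ q ∈ Finset.Ico (n i) (n (i + 1)), mp F (n i) q ≫ X q = Y i - mp F (n i) (n (i + 1)) ≫ Y (i + 1) := by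
      intro i
      have h := Sigma.ι (fun i : ℕ => F.obj (n i)) i ≫= hxy
      rw [aMap, Sigma.ι_desc_assoc, Preadditive.sum_comp, ← Category.assoc, ι_dS, Preadditive.sub_comp] at h
      simpa only [Category.assoc] using h
    have hstep : ∀ i, w (i + 1) (n i) = Y i := fun i => by
      simp only [w]; rw [hrel i]; abel
    have hw0 : ∀ i, w i (n i) = Y i := fun i => by
      simp [w, mp_self]
    have hkey : ∀ l m, m + 1 ≤ n l → mp F m (m + 1) ≫ w l (m + 1) = w l m - X m := by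
      intro l m hml
      simp only [w]
      rw [Preadditive.comp_add, Preadditive.comp_sum, mp_trans_assoc F (Nat.le_succ m) hml,
        Finset.sum_eq_sum_Ico_succ_bot (show m < n l by omega), mp_self, Category.id_comp]
      have : ∀ q ∈ Finset.Ico (m + 1) (n l), mp F m (m + 1) ≫ mp F (m + 1) q ≫ X q = mp F m q ≫ X q := fun q hq =>
        mp_trans_assoc F (Nat.le_succ m) (Finset.mem_Ico.1 hq).1 _
      rw [Finset.sum_congr rfl this]; abel
    refine ⟨Sigma.desc z, Sigma.hom_ext _ _ fun m => ?_⟩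
    rw [← Category.assoc, ι_dK, Preadditive.sub_comp, Category.assoc, Sigma.ι_desc, Sigma.ι_desc]
    show z m - _ = X m
    have hl := Nat.find_spec (hex m)
    have hl' := Nat.find_spec (hex (m + 1))
    simp only [z]
    rw [hkey _ m hl']
    rcases eq_or_lt_of_le hl with e | e
    · have e2 : Nat.find (hex (m + 1)) = Nat.find (hex m) + 1 := by
        refine (Nat.find_eq_iff _).2 ⟨?_, fun l hlt hc => ?_⟩
        · have := hn (Nat.lt_succ_self (Nat.find (hex m))); simp only [Nat.succ_eq_add_one] at this; omega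
        · have := hn.monotone (Nat.lt_succ_iff.1 hlt); omega
      rw [e2]
      generalize Nat.find (hex m) = l at e ⊢
      subst e
      rw [hw0, hstep]; abel
    · have e2 : Nat.find (hex (m + 1)) = Nat.find (hex m) :=
        (Nat.find_eq_iff _).2 ⟨e, fun l hlt hc => Nat.find_min (hex m) hlt (by omega)⟩
      rw [e2]; abel

section
variable [HasZeroObject D] [HasShift D ℤ] [∀ k : ℤ, (shiftFunctor D k).Additive] [Pretriangulated D]

theorem exists_unshift {X T : D} (w : X⟦(1 : ℤ)⟧ ⟶ T) :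
    ∃ (T₀ : D) (e : T₀⟦(1 : ℤ)⟧ ≅ T) (w₀ : X ⟶ T₀), w = w₀⟦(1 : ℤ)⟧' ≫ e.hom := by
  let η : (T⟦(-1 : ℤ)⟧)⟦(1 : ℤ)⟧ ≅ T := (shiftEquiv D (1 : ℤ)).counitIso.app T
  refine ⟨_, η, (shiftFunctor D (1 : ℤ)).preimage (w ≫ η.inv), ?_⟩
  rw [Functor.map_preimage, Category.assoc, Iso.inv_hom_id, Category.comp_id]

include hn in
theorem main (L : D) (ι : ∀ m : ℕ, F.obj m ⟶ L)
    (hL : DerLim.IsHocolim (fun m : ℕ => F.obj m) (fun m : ℕ => F.map (homOfLE (Nat.le_succ m))) L ι)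
    (L' : D) (ι' : ∀ i : ℕ, F.obj (n i) ⟶ L')
    (hL' : DerLim.IsHocolim (fun i : ℕ => F.obj (n i)) (fun i : ℕ => F.map (homOfLE (hn.monotone (Nat.le_succ i)))) L' ι') :
    ∃ e : L' ≅ L, ∀ i : ℕ, ι' i ≫ e.hom = ι (n i) := by
  obtain ⟨c, hT⟩ := hL
  obtain ⟨c', hT'⟩ := hL'
  obtain ⟨e, he1, he2⟩ : ∃ e : L' ⟶ L, Sigma.desc ι' ≫ e = bMap F n ≫ Sigma.desc ι ∧ c' ≫ (aMap F n)⟦(1 : ℤ)⟧' = e ≫ c := by
    obtain ⟨e, h1, h2⟩ := complete_distinguished_triangle_morphism _ _ hT' hT (aMap F n) (bMap F n) (comm F hn)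
    exact ⟨e, h1, h2⟩
  have z0 : dK F ≫ Sigma.desc ι = 0 := comp_distTriang_mor_zero₁₂ _ hT
  have z1 : dS F hn ≫ Sigma.desc ι' = 0 := comp_distTriang_mor_zero₁₂ _ hT'
  have z2 : Sigma.desc ι ≫ c = 0 := comp_distTriang_mor_zero₂₃ _ hT
  have z3 : c ≫ (dK F)⟦(1 : ℤ)⟧' = 0 := comp_distTriang_mor_zero₃₁ _ hT
  have bij : ∀ T : D, Function.Bijective (fun u : L ⟶ T => e ≫ u) := by
    intro T
    refine ⟨fun u₁ u₂ h => sub_eq_zero.1 ?_, fun u' => ?_⟩
    · set u := u₁ - u₂ with hu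
      have heu : e ≫ u = 0 := by rw [hu, Preadditive.comp_sub, sub_eq_zero]; exact h
      have h1 : Sigma.desc ι ≫ u = 0 := by
        refine (ker_lim F hn T).1 _ (by rw [← Category.assoc, z0, zero_comp]) ?_
        rw [← Category.assoc, ← he1, Category.assoc, heu, comp_zero]
      obtain ⟨w, hw⟩ : ∃ w : (∐ fun m : ℕ => F.obj m)⟦(1 : ℤ)⟧ ⟶ T, u = c ≫ w := Triangle.yoneda_exact₃ _ hT u h1
      have h2 : c' ≫ (aMap F n)⟦(1 : ℤ)⟧' ≫ w = 0 := by rw [← Category.assoc, he2, Category.assoc, ← hw, heu]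
      obtain ⟨s, hs⟩ : ∃ s : (∐ fun i : ℕ => F.obj (n i))⟦(1 : ℤ)⟧ ⟶ T,
          (aMap F n)⟦(1 : ℤ)⟧' ≫ w = (-(dS F hn)⟦(1 : ℤ)⟧') ≫ s := Triangle.yoneda_exact₃ _ (rot_of_distTriang _ hT') _ h2
      obtain ⟨T₀, η, w₀, rfl⟩ := exists_unshift w
      obtain ⟨s₀, hs₀⟩ : ∃ s₀ : (∐ fun i : ℕ => F.obj (n i)) ⟶ T₀, s₀⟦(1 : ℤ)⟧' = s ≫ η.inv :=
        ⟨_, Functor.map_preimage _ _⟩
      have h3 : aMap F n ≫ w₀ = dS F hn ≫ (-s₀) := by
        apply (shiftFunctor D (1 : ℤ)).map_injective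
        rw [Functor.map_comp, Functor.map_comp, Functor.map_neg, hs₀, ← cancel_mono η.hom]
        simp only [Category.assoc, hs, Preadditive.neg_comp, Preadditive.comp_neg, Iso.inv_hom_id, Category.comp_id]
      obtain ⟨z, hz⟩ := (coker_lim F hn T₀).2 w₀ _ h3
      rw [hw, ← hz, Functor.map_comp, Category.assoc, ← Category.assoc, z3, zero_comp]
    · obtain ⟨x, hx, hxb⟩ := (ker_lim F hn T).2 (Sigma.desc ι' ≫ u') (by rw [← Category.assoc, z1, zero_comp])
      obtain ⟨u, hu⟩ : ∃ u : L ⟶ T, x = Sigma.desc ι ≫ u := Triangle.yoneda_exact₂ _ hT x hx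
      have h1 : Sigma.desc ι' ≫ (u' - e ≫ u) = 0 := by
        rw [Preadditive.comp_sub, ← Category.assoc _ e, he1, Category.assoc, ← hu, hxb, sub_self]
      obtain ⟨s, hs⟩ : ∃ s : (∐ fun i : ℕ => F.obj (n i))⟦(1 : ℤ)⟧ ⟶ T, u' - e ≫ u = c' ≫ s := Triangle.yoneda_exact₃ _ hT' _ h1
      obtain ⟨T₀, η, s₀, rfl⟩ := exists_unshift s
      obtain ⟨w₀, hw₀⟩ := (coker_lim F hn T₀).1 s₀
      refine ⟨u + c ≫ w₀⟦(1 : ℤ)⟧' ≫ η.hom, ?_⟩
      show e ≫ (u + _) = u'
      rw [Preadditive.comp_add, ← Category.assoc e c, ← he2, Category.assoc, ← Category.assoc (_⟦(1 : ℤ)⟧'),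
        ← Functor.map_comp, hw₀, ← hs]
      abel
  haveI : IsIso e := by
    obtain ⟨r, hr⟩ := (bij L').2 (𝟙 L')
    refine ⟨r, hr, (bij L).1 ?_⟩
    show e ≫ r ≫ e = e ≫ 𝟙 L
    rw [← Category.assoc, show e ≫ r = 𝟙 L' from hr, Category.id_comp, Category.comp_id]
  refine ⟨asIso e, fun i => ?_⟩
  have := Sigma.ι (fun i : ℕ => F.obj (n i)) i ≫= he1
  rw [Sigma.ι_desc_assoc, bMap, Sigma.ι_desc_assoc, Sigma.ι_desc] at this
  exact this

end

/-- Let D be a triangulated category, (K_m, f_m) a system of objects of D indexed by ℕ (given as a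
functor F : ℕ ⥤ D) and n₁ < n₂ < … a strictly increasing sequence. Assume ⨁ K_m and ⨁ K_{n_i} exist.
If L is a homotopy colimit of (K_m) and L' a homotopy colimit of the subsequence (K_{n_i}) (with the
composite transition maps), then there is an isomorphism L' ≅ L under which the structure map
K_{n_i} ⟶ L' corresponds to K_{n_i} ⟶ L for every i. -/
theorem result {D : Type u} [Category.{v} D] [Preadditive D] [HasZeroObject D] [HasShift D ℤ]
    [∀ n : ℤ, (shiftFunctor D n).Additive] [Pretriangulated D] [IsTriangulated D]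
    (F : ℕ ⥤ D) (n : ℕ → ℕ) (hn : StrictMono n)
    [HasCoproduct (fun m : ℕ => F.obj m)] [HasCoproduct (fun i : ℕ => F.obj (n i))]
    (L : D) (ι : ∀ m : ℕ, F.obj m ⟶ L)
    (hL : DerLim.IsHocolim (fun m : ℕ => F.obj m) (fun m : ℕ => F.map (homOfLE (Nat.le_succ m))) L ι)
    (L' : D) (ι' : ∀ i : ℕ, F.obj (n i) ⟶ L')
    (hL' : DerLim.IsHocolim (fun i : ℕ => F.obj (n i)) (fun i : ℕ => F.map (homOfLE (hn.monotone (Nat.le_succ i)))) L' ι') :
    ∃ e : L' ≅ L, ∀ i : ℕ, ι' i ≫ e.hom = ι (n i) := by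
  exact main F hn L ι hL L' ι' hL'

end Groth.Agent.S6592
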