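import Groth.Statements.S6594
import Mathlib
-- import your own Groth.Agent.* helpers here

set_option autoImplicit false
universe v u
open CategoryTheory CategoryTheory.Limits
open CohDer

namespace Groth.Agent.S6594

open CategoryTheory.Pretriangulated in
/-- (1) ⇔ (3): let D be a pretriangulated category and f : X ⟶ Y a morphism. Then f has a kernel if and
only if f is isomorphic to a composite K ⊞ Z → Z → Z ⊞ Q of a projection and a coprojection for some
objects K, Z, Q. -/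
theorem result {D : Type u} [Category.{v} D] [Preadditive D] [HasZeroObject D] [HasShift D ℤ]
    [∀ n : ℤ, (shiftFunctor D n).Additive] [Pretriangulated D]
    {X Y : D} (f : X ⟶ Y) :
    HasKernel f ↔ ∃ (K Z Q : D) (e₁ : X ≅ K ⊞ Z) (e₂ : Y ≅ Z ⊞ Q),
      f = e₁.hom ≫ biprod.snd ≫ biprod.inl ≫ e₂.inv := by
  constructor
  · intro hk
    obtain ⟨Z, p, δ, hT⟩ := Pretriangulated.distinguished_cocone_triangle (kernel.ι f)
    have hδ : δ = 0 :=
      (Pretriangulated.Triangle.mor₃_eq_zero_iff_mono₁ _ hT).2 (inferInstanceAs (Mono (kernel.ι f)))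
    obtain ⟨e₁, he₁⟩ : ∃ e₁ : X ≅ kernel f ⊞ Z, p = e₁.hom ≫ biprod.snd := by
      obtain ⟨e, -, he⟩ := Pretriangulated.exists_iso_binaryBiproduct_of_distTriang _ hT hδ
      exact ⟨e, he⟩
    obtain ⟨m, hm⟩ : ∃ m : Z ⟶ Y, f = p ≫ m :=
      Pretriangulated.Triangle.yoneda_exact₂ _ hT f (kernel.condition f)
    haveI : Mono m := Preadditive.mono_of_cancel_zero m fun {W} t ht => by
      haveI : Epi p := Pretriangulated.Triangle.epi₂ _ hT hδ
      haveI : IsSplitEpi p := isSplitEpi_of_epi p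
      have h0 : (t ≫ section_ p) ≫ f = 0 := by
        rw [hm, Category.assoc]
        erw [IsSplitEpi.id_assoc]
        exact ht
      have hw : (kernel.ι f) ≫ p = 0 := Pretriangulated.comp_distTriang_mor_zero₁₂ _ hT
      have h1 := kernel.lift_ι f (t ≫ section_ p) h0 =≫ p
      rw [Category.assoc, hw, Limits.comp_zero, Category.assoc] at h1
      erw [IsSplitEpi.id, Category.comp_id] at h1
      exact h1.symm
    obtain ⟨Q, q, δ', hT'⟩ := Pretriangulated.distinguished_cocone_triangle m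
    have hδ' : δ' = 0 :=
      (Pretriangulated.Triangle.mor₃_eq_zero_iff_mono₁ _ hT').2 (inferInstanceAs (Mono m))
    obtain ⟨e₂, he₂⟩ : ∃ e₂ : Y ≅ Z ⊞ Q, m ≫ e₂.hom = biprod.inl := by
      obtain ⟨e, he, -⟩ := Pretriangulated.exists_iso_binaryBiproduct_of_distTriang _ hT' hδ'
      exact ⟨e, he⟩
    refine ⟨kernel f, Z, Q, e₁, e₂, ?_⟩
    have hm' : m = biprod.inl ≫ e₂.inv := (Iso.eq_comp_inv e₂).2 he₂
    exact hm.trans (by rw [he₁, hm', Category.assoc])
  · rintro ⟨K, Z, Q, e₁, e₂, rfl⟩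
    have w : (biprod.inl ≫ e₁.inv) ≫ e₁.hom ≫ biprod.snd ≫ biprod.inl ≫ e₂.inv = 0 := by simp
    refine HasLimit.mk ⟨KernelFork.ofι (biprod.inl ≫ e₁.inv) w, KernelFork.IsLimit.ofι _ _
      (fun g _ => g ≫ e₁.hom ≫ biprod.fst) (fun g hg => ?_) (fun g _ m hm => by simp [← hm])⟩
    have h2 : g ≫ e₁.hom ≫ biprod.snd = 0 := by simpa using hg =≫ (e₂.hom ≫ biprod.fst)
    rw [← cancel_mono e₁.hom]
    ext <;> simp [h2]

end Groth.Agent.S6594
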