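import Groth.Statements.S6596
import Mathlib.CategoryTheory.Triangulated.Pretriangulated

set_option autoImplicit false
universe v u
open CategoryTheory CategoryTheory.Limits
open CohDer

namespace Groth.Agent.S6596

section
open CategoryTheory CategoryTheory.Limits CategoryTheory.Pretriangulated
variable {D : Type u} [Category.{v} D] [Preadditive D] [HasZeroObject D] [HasShift D ℤ]
    [∀ n : ℤ, (shiftFunctor D n).Additive] [Pretriangulated D]
    {X' : ChainComplex D ℕ} {n : ℕ} (qY : ℕ → D) (qa : ∀ k, qY k ⟶ X'.X k) (qb : ∀ k, X'.X (k + 1) ⟶ qY k)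
    (qc : ∀ k, qY k ⟶ (shiftFunctor D (1 : ℤ)).obj (qY (k + 1)))
    (qhP : ∀ k, k < n → Triangle.mk (qa (k + 1)) (qb k) (qc k) ∈ distinguishedTriangles)

include qhP in
/-- A map killed by `qa` lifts, after a shift, along `qc`. -/
theorem lift_qc {W : D} {j : ℕ} (hj : j < n) (f : W ⟶ qY (j + 1)) (hf : f ≫ qa (j + 1) = 0) :
    ∃ g : W⟦(1 : ℤ)⟧ ⟶ qY j, f⟦(1 : ℤ)⟧' = g ≫ qc j :=
  Triangle.coyoneda_exact₁ _ (qhP j hj) (f⟦(1 : ℤ)⟧') (by
    show f⟦(1 : ℤ)⟧' ≫ (qa (j + 1))⟦(1 : ℤ)⟧' = 0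
    rw [← Functor.map_comp, hf, Functor.map_zero])

end

open CategoryTheory.Pretriangulated in
/-- Let D be a triangulated category and φ : X ⟶ X' a morphism of chain complexes in D considered in
degrees ≤ n, where a Postnikov system for the complex X_n → … → X_0 consists of objects Y_k, an
isomorphism Y_0 ⟶ X_0, and for 0 ≤ k < n distinguished triangles Y_{k+1} ⟶ X_{k+1} ⟶ Y_k ⟶
Y_{k+1}⟦1⟧ with X_{k+1} ⟶ Y_k ⟶ X_k the differential. Suppose X and X' carry Postnikov systems (Y,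
a, b, c) and (Y', a', b', c'). If Hom(X_i⟦i - j - 1⟧, X'_j) = 0 for all j + 1 < i ≤ n, then φ
extends to a morphism of Postnikov systems: morphisms y_k : Y_k ⟶ Y'_k for k ≤ n forming, with the
φ_k, morphisms of the distinguished triangles and compatible with Y_0 ⟶ X_0 and Y'_0 ⟶ X'_0. -/
theorem result {D : Type u} [Category.{v} D] [Preadditive D] [HasZeroObject D] [HasShift D ℤ]
    [∀ n : ℤ, (shiftFunctor D n).Additive] [Pretriangulated D] [IsTriangulated D]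
    (X X' : ChainComplex D ℕ) (φ : X ⟶ X') (n : ℕ)
    (Y : ℕ → D) (a : ∀ k, Y k ⟶ X.X k) (b : ∀ k, X.X (k + 1) ⟶ Y k)
    (c : ∀ k, Y k ⟶ (shiftFunctor D (1 : ℤ)).obj (Y (k + 1)))
    (h0 : IsIso (a 0))
    (hP : ∀ k, k < n → Triangle.mk (a (k + 1)) (b k) (c k) ∈ distinguishedTriangles ∧ b k ≫ a k = X.d (k + 1) k)
    (qY : ℕ → D) (qa : ∀ k, qY k ⟶ X'.X k) (qb : ∀ k, X'.X (k + 1) ⟶ qY k)
    (qc : ∀ k, qY k ⟶ (shiftFunctor D (1 : ℤ)).obj (qY (k + 1)))
    (qh0 : IsIso (qa 0))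
    (qhP : ∀ k, k < n → Triangle.mk (qa (k + 1)) (qb k) (qc k) ∈ distinguishedTriangles ∧ qb k ≫ qa k = X'.d (k + 1) k)
    (hX : ∀ i j : ℕ, j + 1 < i → i ≤ n → ∀ ψ : (shiftFunctor D ((i : ℤ) - j - 1)).obj (X.X i) ⟶ X'.X j, ψ = 0) :
    ∃ y : ∀ k, Y k ⟶ qY k,
      (∀ k, k ≤ n → y k ≫ qa k = a k ≫ φ.f k) ∧
      (∀ k, k < n → b k ≫ y k = φ.f (k + 1) ≫ qb k ∧ c k ≫ (shiftFunctor D (1 : ℤ)).map (y (k + 1)) = y k ≫ qc k) := by
  have qhP' : ∀ k, k < n → Triangle.mk (qa (k + 1)) (qb k) (qc k) ∈ distinguishedTriangles := fun k hk => (qhP k hk).1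
  have V : ∀ (j i : ℕ) (m : ℤ), m = (i : ℤ) - j - 1 → j + 1 < i → i ≤ n →
      ∀ f : (X.X i)⟦m⟧ ⟶ qY j, f = 0 := by
    intro j
    induction j with
    | zero =>
      intro i m hm h1 h2 f
      rw [← cancel_mono (qa 0), zero_comp]
      subst hm
      exact hX i 0 h1 h2 _
    | succ j ih =>
      intro i m hm h1 h2 f
      subst hm
      obtain ⟨g, hg⟩ := lift_qc qY qa qb qc qhP' (show j < n by omega) f (hX i (j + 1) h1 h2 _)
      apply (shiftFunctor D (1 : ℤ)).map_injective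
      rw [hg, Functor.map_zero]
      have hg0 : g = 0 := by
        rw [← cancel_epi ((shiftFunctorAdd' D ((i : ℤ) - (j + 1 : ℕ) - 1) 1 ((i : ℤ) - j - 1)
          (by omega)).hom.app (X.X i)), comp_zero]
        exact ih i _ rfl (by omega) h2 _
      rw [hg0, zero_comp]
  have key : ∀ k, k < n → ∀ u : Y k ⟶ qY k, u ≫ qa k = a k ≫ φ.f k → b k ≫ u = φ.f (k + 1) ≫ qb k := by
    intro k hk u hu
    rw [← sub_eq_zero]
    have h : (b k ≫ u - φ.f (k + 1) ≫ qb k) ≫ qa k = 0 := by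
      rw [Preadditive.sub_comp, Category.assoc, Category.assoc, hu, (qhP k hk).2, ← Category.assoc, (hP k hk).2,
        HomologicalComplex.Hom.comm, sub_self]
    revert h
    generalize b k ≫ u - φ.f (k + 1) ≫ qb k = f
    intro h
    cases k with
    | zero => exact (cancel_mono (qa 0)).1 (h.trans zero_comp.symm)
    | succ j =>
      obtain ⟨g, hg⟩ := lift_qc qY qa qb qc qhP' (show j < n by omega) f h
      apply (shiftFunctor D (1 : ℤ)).map_injective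
      rw [hg, V j (j + 2) 1 (by omega) (by omega) (by omega) g, zero_comp, Functor.map_zero]
  have step : ∀ k, ∀ p : {u : Y k ⟶ qY k // k ≤ n → u ≫ qa k = a k ≫ φ.f k},
      ∃ q : {u : Y (k + 1) ⟶ qY (k + 1) // k + 1 ≤ n → u ≫ qa (k + 1) = a (k + 1) ≫ φ.f (k + 1)},
        k < n → b k ≫ p.1 = φ.f (k + 1) ≫ qb k ∧
          c k ≫ (shiftFunctor D (1 : ℤ)).map q.1 = p.1 ≫ qc k := by
    intro k p
    by_cases hk : k < n
    · have hb := key k hk p.1 (p.2 hk.le)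
      obtain ⟨u, h1, h2⟩ := complete_distinguished_triangle_morphism₁ _ _ (hP k hk).1 (qhP k hk).1
        (φ.f (k + 1)) p.1 hb
      exact ⟨⟨u, fun _ => h1.symm⟩, fun _ => ⟨hb, h2⟩⟩
    · exact ⟨⟨0, fun h => absurd h hk⟩, fun h => absurd h hk⟩
  choose F hF using step
  let y : ∀ k, {u : Y k ⟶ qY k // k ≤ n → u ≫ qa k = a k ≫ φ.f k} :=
    fun k => Nat.rec ⟨a 0 ≫ φ.f 0 ≫ inv (qa 0), fun _ => by simp⟩ F k
  exact ⟨fun k => (y k).1, fun k => (y k).2, fun k hk => hF k (y k) hk⟩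

end Groth.Agent.S6596
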