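import Groth.Statements.S6597
import Mathlib.CategoryTheory.Triangulated.Pretriangulated

set_option autoImplicit false
universe v u
open CategoryTheory CategoryTheory.Limits
open CohDer

namespace Groth.Agent.S6597

open CategoryTheory.Pretriangulated in
/-- Let D be a triangulated category, φ : X ⟶ X' a morphism of chain complexes in D considered in
degrees ≤ n, where a Postnikov system for the complex X_n → … → X_0 consists of objects Y_k, an
isomorphism Y_0 ⟶ X_0, and for 0 ≤ k < n distinguished triangles Y_{k+1} ⟶ X_{k+1} ⟶ Y_k ⟶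
Y_{k+1}⟦1⟧ with X_{k+1} ⟶ Y_k ⟶ X_k the differential; let (Y, a, b, c) and (Y', a', b', c') be
Postnikov systems for X and X'. If Hom(X_i⟦i⟧, Y'_n⟦n⟧) = 0 for i = 1, …, n, then two morphisms of
Postnikov systems extending φ agree on Y_n. (The published statement says there is at most one
morphism of Postnikov systems; the argument, by induction along Y_0 → Y_1⟦1⟧ → … → Y_n⟦n⟧,
determines the component in degree n, which is what is asserted here.) -/
theorem result {D : Type u} [Category.{v} D] [Preadditive D] [HasZeroObject D] [HasShift D ℤ]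
    [∀ n : ℤ, (shiftFunctor D n).Additive] [Pretriangulated D] [IsTriangulated D]
    (X X' : ChainComplex D ℕ) (φ : X ⟶ X') (n : ℕ)
    (Y : ℕ → D) (a : ∀ k, Y k ⟶ X.X k) (b : ∀ k, X.X (k + 1) ⟶ Y k)
    (c : ∀ k, Y k ⟶ (shiftFunctor D (1 : ℤ)).obj (Y (k + 1)))
    (h0 : IsIso (a 0))
    (hP : ∀ k, k < n → Triangle.mk (a (k + 1)) (b k) (c k) ∈ distinguishedTriangles ∧ b k ≫ a k = X.d (k + 1) k)
    (qY : ℕ → D) (qa : ∀ k, qY k ⟶ X'.X k) (qb : ∀ k, X'.X (k + 1) ⟶ qY k)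
    (qc : ∀ k, qY k ⟶ (shiftFunctor D (1 : ℤ)).obj (qY (k + 1)))
    (qh0 : IsIso (qa 0))
    (qhP : ∀ k, k < n → Triangle.mk (qa (k + 1)) (qb k) (qc k) ∈ distinguishedTriangles ∧ qb k ≫ qa k = X'.d (k + 1) k)
    (hv : ∀ i : ℕ, 1 ≤ i → i ≤ n → ∀ ψ : (shiftFunctor D (i : ℤ)).obj (X.X i) ⟶ (shiftFunctor D (n : ℤ)).obj (qY n), ψ = 0)
    (y z : ∀ k, Y k ⟶ qY k)
    (hy : (∀ k, k ≤ n → y k ≫ qa k = a k ≫ φ.f k) ∧
      (∀ k, k < n → b k ≫ y k = φ.f (k + 1) ≫ qb k ∧ c k ≫ (shiftFunctor D (1 : ℤ)).map (y (k + 1)) = y k ≫ qc k))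
    (hz : (∀ k, k ≤ n → z k ≫ qa k = a k ≫ φ.f k) ∧
      (∀ k, k < n → b k ≫ z k = φ.f (k + 1) ≫ qb k ∧ c k ≫ (shiftFunctor D (1 : ℤ)).map (z (k + 1)) = z k ≫ qc k)) :
    y n = z n := by
  have Q : ∀ (k : ℕ), k ≤ n → ∀ (W : D), (∀ i : ℕ, 1 ≤ i → i ≤ k → ∀ (m : ℤ), m = (i : ℤ) - k →
      ∀ ψ : (X.X i)⟦m⟧ ⟶ W, ψ = 0) → ∀ g : qY k ⟶ W, (y k - z k) ≫ g = 0 := by
    intro k
    induction k with
    | zero =>
      intro _ W _ g
      have : (y 0 - z 0) ≫ qa 0 = 0 := by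
        rw [Preadditive.sub_comp, hy.1 0 (Nat.zero_le _), hz.1 0 (Nat.zero_le _), sub_self]
      rw [(cancel_mono (qa 0)).1 (this.trans zero_comp.symm), zero_comp]
    | succ k ih =>
      intro hk W hW g
      have hk' : k < n := hk
      have h0 : c k ≫ (((y (k + 1) - z (k + 1)) ≫ g))⟦(1 : ℤ)⟧' = 0 := by
        rw [Functor.map_comp, Functor.map_sub, ← Category.assoc, Preadditive.comp_sub, (hy.2 k hk').2, (hz.2 k hk').2,
          ← Preadditive.sub_comp, Category.assoc]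
        refine ih hk'.le _ (fun i h1 h2 m hm ψ => ?_) _
        subst hm
        rw [← cancel_epi ((shiftFunctorAdd' D ((i : ℤ) - (k + 1 : ℕ)) 1 ((i : ℤ) - k)
          (by omega)).inv.app (X.X i)), comp_zero]
        obtain ⟨ψ', hψ'⟩ := (shiftFunctor D (1 : ℤ)).map_surjective
          ((shiftFunctorAdd' D ((i : ℤ) - (k + 1 : ℕ)) 1 ((i : ℤ) - k) (by omega)).inv.app (X.X i) ≫ ψ)
        rw [← hψ', hW i h1 (h2.trans k.le_succ) _ rfl ψ', Functor.map_zero]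
      obtain ⟨ψ, hψ⟩ : ∃ ψ : (X.X (k + 1))⟦(1 : ℤ)⟧ ⟶ W⟦(1 : ℤ)⟧, ((y (k + 1) - z (k + 1)) ≫ g)⟦(1 : ℤ)⟧' =
          (-((a (k + 1))⟦(1 : ℤ)⟧')) ≫ ψ := Triangle.yoneda_exact₃ _ (rot_of_distTriang _ (hP k hk').1)
        (((y (k + 1) - z (k + 1)) ≫ g)⟦(1 : ℤ)⟧') h0
      obtain ⟨ψ', rfl⟩ := (shiftFunctor D (1 : ℤ)).map_surjective ψ
      have hψ0 : ψ' = 0 := by
        rw [← cancel_epi ((shiftFunctorZero D ℤ).hom.app (X.X (k + 1))), comp_zero]
        exact hW (k + 1) (by omega) le_rfl 0 (by simp) _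
      apply (shiftFunctor D (1 : ℤ)).map_injective
      rw [hψ, hψ0, Functor.map_zero, comp_zero, Functor.map_zero]
  rw [← sub_eq_zero, ← Category.comp_id (y n - z n)]
  refine Q n le_rfl _ (fun i h1 h2 m hm ψ => ?_) _
  apply (shiftFunctor D (n : ℤ)).map_injective
  rw [Functor.map_zero, ← cancel_epi ((shiftFunctorAdd' D m n i (by omega)).hom.app (X.X i)), comp_zero]
  exact hv i h1 h2 _

end Groth.Agent.S6597
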