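import Groth.Statements.S6599
import Mathlib
import Groth.Agent.HtpyFactor.Basic
-- import your own Groth.Agent.* helpers here

set_option autoImplicit false
universe v u
open CategoryTheory CategoryTheory.Limits
open CohDer

namespace Groth.Agent.S6599

/-- Let α : K ⟶ L be a morphism of cochain complexes over an additive category. There is a factorization
K ⟶ K' ⟶ L of α such that (1) K' ⟶ L is a termwise split surjection (in each degree isomorphic to
the projection onto a direct summand) and (2) K ⟶ K' admits a retraction s : K' ⟶ K (K ⟶ K' followed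
by s is the identity) such that s followed by K ⟶ K' is homotopic to the identity of K'. Moreover if
K and L are both bounded below, resp. both bounded above, then K' may be chosen bounded below, resp.
bounded above. -/
theorem result {V : Type u} [Category.{v} V] [Preadditive V] [HasBinaryBiproducts V] [HasZeroObject V]
    (K L : CochainComplex V ℤ) (α : K ⟶ L) :
    ∃ (K' : CochainComplex V ℤ) (i : K ⟶ K') (α' : K' ⟶ L) (s : K' ⟶ K),
      i ≫ α' = α ∧ i ≫ s = 𝟙 K ∧ Nonempty (Homotopy (s ≫ i) (𝟙 K')) ∧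
      (∀ n : ℤ, ∃ (C : V) (e : K'.X n ≅ C ⊞ L.X n), e.inv ≫ α'.f n = biprod.snd) ∧
      (∀ a : ℤ, K.IsStrictlyGE a → L.IsStrictlyGE a → ∃ a' : ℤ, K'.IsStrictlyGE a') ∧
      (∀ a : ℤ, K.IsStrictlyLE a → L.IsStrictlyLE a → ∃ a' : ℤ, K'.IsStrictlyLE a') := by
  refine ⟨K ⊞ CochainComplex.mappingCone (𝟙 (L⟦(-1 : ℤ)⟧)), biprod.inl,
    biprod.desc α (Groth.Agent.HtpyFactor.coverMap L), biprod.fst,
    biprod.inl_desc _ _, biprod.inl_fst,
    ⟨Groth.Agent.HtpyFactor.fstInlHomotopy K _ (CochainComplex.mappingCone.homotopyToZeroOfId _)⟩,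
    fun n => Groth.Agent.HtpyFactor.split_surj K L α n, fun a hK hL => ⟨a, ?_⟩, fun a hK hL => ⟨a + 1, ?_⟩⟩
  · haveI := L.isStrictlyGE_shift a (-1 : ℤ) (a + 1) (by lia)
    haveI := CochainComplex.isStrictlyGE_mappingCone (𝟙 (L⟦(-1 : ℤ)⟧)) (a + 1) (a + 1) a
    exact Groth.Agent.HtpyFactor.biprod_isStrictlyGE _ _ _
  · haveI := L.isStrictlyLE_shift a (-1 : ℤ) (a + 1) (by lia)
    haveI := Groth.Agent.HtpyFactor.mappingCone_isStrictlyLE (𝟙 (L⟦(-1 : ℤ)⟧)) (a + 1) (a + 1) (a + 1) (by lia) le_rfl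
    haveI : K.IsStrictlyLE (a + 1) := K.isStrictlyLE_of_le a (a + 1) (by lia)
    exact Groth.Agent.HtpyFactor.biprod_isStrictlyLE _ _ _

end Groth.Agent.S6599
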