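import Groth.Statements.S6602
import Mathlib
import Groth.Agent.TriDecomp.Basic

open CategoryTheory CategoryTheory.Limits CategoryTheory.Pretriangulated
open scoped ZeroObject

set_option autoImplicit false
universe v u
open CategoryTheory CategoryTheory.Limits
open CohDer

namespace Groth.Agent.S6602

open CategoryTheory.Pretriangulated in
/-- (1) ⇔ (2): let D be a triangulated category and B a full triangulated subcategory. The inclusion
functor B → D has a left adjoint if and only if for every X in D there is a distinguished triangle A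
→ X → B → A⟦1⟧ with B in B and A in the left orthogonal ^⊥B. (The published statement further
asserts that B is then saturated and, when strictly full, equals the right orthogonal of its left
orthogonal; this row asserts only the equivalence.) -/
theorem result {D : Type u} [Category.{v} D] [Preadditive D] [HasZeroObject D] [HasShift D ℤ]
    [∀ n : ℤ, (shiftFunctor D n).Additive] [Pretriangulated D] [IsTriangulated D]
    (P : ObjectProperty D) [P.IsTriangulated] :
    P.ι.IsRightAdjoint ↔ ∀ X : D, ∃ (A B : D) (f : A ⟶ X) (g : X ⟶ B) (h : B ⟶ (shiftFunctor D (1 : ℤ)).obj A),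
      Triangle.mk f g h ∈ distinguishedTriangles ∧ P B ∧ P.leftOrthogonal A := by
  constructor
  · intro _ X
    let L := P.ι.leftAdjoint
    let adj : L ⊣ P.ι := Adjunction.ofIsRightAdjoint P.ι
    let η : X ⟶ (L.obj X).obj := adj.unit.app X
    have hbij : ∀ (Y : D), P Y → Function.Bijective fun β : (L.obj X).obj ⟶ Y => η ≫ β := by
      intro Y hY
      constructor
      · intro β₁ β₂ h
        have h' : (P.homMk β₁ : L.obj X ⟶ ⟨Y, hY⟩) = P.homMk β₂ := (adj.homEquiv X ⟨Y, hY⟩).injective (by
          simp only [Adjunction.homEquiv_unit]; exact h)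
        exact congrArg (fun f => f.hom) h'
      · intro α
        refine ⟨((adj.homEquiv X ⟨Y, hY⟩).symm α).hom, ?_⟩
        have := (adj.homEquiv X ⟨Y, hY⟩).apply_symm_apply α
        simp only [Adjunction.homEquiv_unit] at this
        exact this
    obtain ⟨A, f, h, hT⟩ := distinguished_cocone_triangle₁ η
    refine ⟨A, _, f, η, h, hT, (L.obj X).property, fun Y φ hY => ?_⟩
    have h1 : h ≫ (shiftFunctor D (1 : ℤ)).map φ = 0 :=
      (hbij _ (P.le_shift (1 : ℤ) _ hY)).1 (by
        have h0 : η ≫ h = 0 := comp_distTriang_mor_zero₂₃ _ hT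
        change η ≫ h ≫ (shiftFunctor D (1 : ℤ)).map φ = η ≫ 0
        rw [← Category.assoc, h0, zero_comp, comp_zero])
    obtain ⟨α, hα⟩ := Triangle.yoneda_exact₂ _ (rot_of_distTriang _ (rot_of_distTriang _ hT)) ((shiftFunctor D (1 : ℤ)).map φ) h1
    obtain ⟨α₀, rfl⟩ := (shiftFunctor D (1 : ℤ)).map_surjective α
    have hα' : φ = (-f) ≫ α₀ := (shiftFunctor D (1 : ℤ)).map_injective (by
      refine hα.trans ?_
      refine Eq.trans ?_ ((shiftFunctor D (1 : ℤ)).map_comp (-f) α₀).symm
      rw [Functor.map_neg]; rfl)
    obtain ⟨β, hβ⟩ := (hbij Y hY).2 α₀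
    have : φ = f ≫ η ≫ (-β) := by
      rw [hα', ← show η ≫ β = α₀ from hβ, Preadditive.comp_neg, Preadditive.comp_neg]
      exact Preadditive.neg_comp f (η ≫ β)
    rw [this, ← Category.assoc, show f ≫ η = 0 from comp_distTriang_mor_zero₁₂ _ hT, zero_comp]
  · intro hX
    have : ∀ X : D, HasInitial (StructuredArrow X P.ι) := fun X => by
      obtain ⟨A, B, f, g, h, hT, hB, hA⟩ := hX X
      have hη : P.leftOrthogonal.trW g := (ObjectProperty.trW_iff' _ g).mpr ⟨A, f, h, hT, hA⟩
      let S : StructuredArrow X P.ι := StructuredArrow.mk (show X ⟶ P.ι.obj ⟨B, hB⟩ from g)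
      have hu : ∀ T : StructuredArrow X P.ι, Nonempty (Unique (S ⟶ T)) := fun T => by
        obtain ⟨hi, hs⟩ := TriDecomp.bijective_precomp P hη T.right.property
        obtain ⟨β, hβ⟩ := hs T.hom
        refine ⟨⟨⟨StructuredArrow.homMk (P.homMk β) (show S.hom ≫ P.ι.map (P.homMk β) = T.hom from hβ)⟩, fun m => ?_⟩⟩
        ext
        exact hi ((StructuredArrow.w m).trans hβ.symm)
      haveI := fun T => (hu T).some
      exact hasInitial_of_unique S
    exact isRightAdjointOfStructuredArrowInitials P.ι

end Groth.Agent.S6602
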