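import Groth.Statements.S6606
import Mathlib
import Groth.Agent.S1053
-- import your own Groth.Agent.* helpers here

set_option autoImplicit false
universe v u
open CategoryTheory CategoryTheory.Limits
open CohDer

namespace Groth.Agent.S6606

/-- Let A be an abelian category, β : P ⟶ L and α : E ⟶ L morphisms of cochain complexes and n an
integer. Assume P is a bounded complex of projective objects with Pⁱ = 0 for i < n, and that Hⁱ(α)
is an isomorphism for i > n and an epimorphism for i = n. Then there is γ : P ⟶ E such that γ ≫ α is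
homotopic to β. -/
theorem result {A : Type u} [Category.{v} A] [Abelian A]
    (P E L : CochainComplex A ℤ) (β : P ⟶ L) (α : E ⟶ L) (n b : ℤ) [P.IsStrictlyGE n] [P.IsStrictlyLE b]
    (hP : ∀ i : ℤ, Projective (P.X i))
    (hiso : ∀ i : ℤ, n < i → IsIso (HomologicalComplex.homologyMap α i)) (hepi : Epi (HomologicalComplex.homologyMap α n)) :
    ∃ γ : P ⟶ E, Nonempty (Homotopy (γ ≫ α) β) := by
  haveI := hepi
  letI := HasDerivedCategory.standard A
  let q := HomotopyCategory.quotient A (ComplexShape.up ℤ)
  let T := CochainComplex.mappingCone.triangleh α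
  have hT := HomotopyCategory.mappingCone_triangleh_distinguished α
  let H := HomotopyCategory.homologyFunctor A (ComplexShape.up ℤ) 0
  have hmap : ∀ i : ℤ, Arrow.mk ((H.shift i).map T.mor₁) ≅ Arrow.mk (HomologicalComplex.homologyMap α i) := fun i =>
    Arrow.isoMk ((HomotopyCategory.homologyFunctorFactors A (ComplexShape.up ℤ) i).app E)
      ((HomotopyCategory.homologyFunctorFactors A (ComplexShape.up ℤ) i).app L)
      ((HomotopyCategory.homologyFunctorFactors A (ComplexShape.up ℤ) i).hom.naturality α).symm
  have hcone : ∀ i : ℤ, n ≤ i → IsZero ((CochainComplex.mappingCone α).homology i) := by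
    intro i hi
    refine IsZero.of_iso ?_
      ((HomotopyCategory.homologyFunctorFactors A (ComplexShape.up ℤ) i).app (CochainComplex.mappingCone α)).symm
    show IsZero ((H.shift i).obj T.obj₃)
    haveI he : Epi ((H.shift i).map T.mor₁) := by
      refine ((MorphismProperty.epimorphisms A).arrow_mk_iso_iff (hmap i)).2 ?_
      rcases eq_or_lt_of_le hi with rfl | hi'
      · exact hepi
      · haveI := hiso i hi'
        exact inferInstanceAs (Epi (HomologicalComplex.homologyMap α i))
    haveI hm : Mono ((H.shift (i + 1)).map T.mor₁) := by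
      refine ((MorphismProperty.monomorphisms A).arrow_mk_iso_iff (hmap (i + 1))).2 ?_
      haveI := hiso (i + 1) (by omega)
      exact inferInstanceAs (Mono (HomologicalComplex.homologyMap α (i + 1)))
    exact (H.homologySequence_exact₃ T hT i (i + 1) rfl).isZero_of_both_zeros
      ((H.homologySequence_epi_shift_map_mor₁_iff T hT i).1 he)
      ((H.homologySequence_mono_shift_map_mor₁_iff T hT i (i + 1) rfl).1 hm)
  obtain ⟨χ, hχ⟩ := Pretriangulated.Triangle.coyoneda_exact₂ T hT (q.map β)
    ((Groth.Agent.S1053.result P (CochainComplex.mappingCone α) n b hP hcone).1 _)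
  obtain ⟨γ, hγ⟩ := q.map_surjective (X := P) (Y := E) χ
  refine ⟨γ, ⟨HomotopyCategory.homotopyOfEq _ _ ((q.map_comp γ α).trans ?_)⟩⟩
  rw [hγ]
  exact hχ.symm

end Groth.Agent.S6606
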