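import Groth.Statements.S6608
import Mathlib

set_option autoImplicit false
universe v u
open CategoryTheory CategoryTheory.Limits
open CohDer

namespace Groth.Agent.S6608

open CategoryTheory.Pretriangulated in
/-- Let D be a pretriangulated category and S a set of arrows of D containing the identities and
satisfying MS6 (compatibility with the triangulated structure; here together with stability under
shifts, MS5). Then every isomorphism of D lies in S. -/
theorem result {D : Type u} [Category.{v} D] [Preadditive D] [HasZeroObject D] [HasShift D ℤ]
    [∀ n : ℤ, (shiftFunctor D n).Additive] [Pretriangulated D]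
    (S : MorphismProperty D) [S.ContainsIdentities] [S.IsCompatibleWithTriangulation]
    {X Y : D} (f : X ⟶ Y) [IsIso f] : S f := by
  open scoped ZeroObject in
  let T₁ : Pretriangulated.Triangle D := Pretriangulated.Triangle.mk (0 : (0 : D) ⟶ Y) (inv f) 0
  let e : X ≅ Y := asIso f
  have h1 : T₁ ∈ distTriang D := Pretriangulated.isomorphic_distinguished _ (Pretriangulated.contractible_distinguished₁ Y) _
    (Pretriangulated.Triangle.isoMk T₁ _ (Iso.refl _) (Iso.refl _) e (zero_comp.trans comp_zero.symm) ((IsIso.inv_hom_id f).trans (Category.comp_id _).symm) (zero_comp.trans comp_zero.symm))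
  obtain ⟨c, hc, h2, -⟩ := MorphismProperty.compatible_with_triangulation (W := S) T₁ _ h1 (Pretriangulated.contractible_distinguished₁ Y) (𝟙 _) (𝟙 _) (S.id_mem _) (S.id_mem _) (zero_comp.trans comp_zero.symm)
  have : c = f := by
    have h3 : inv f ≫ c = 𝟙 Y := h2.trans (Category.comp_id _)
    exact (IsIso.hom_inv_id_assoc f c).symm.trans ((congrArg (f ≫ ·) h3).trans (Category.comp_id f))
  exact this ▸ hc

end Groth.Agent.S6608
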