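import Groth.Statements.S6611
import Mathlib
import Groth.Agent.KInj.Lifting
-- import your own Groth.Agent.* helpers here

set_option autoImplicit false
universe v u
open CategoryTheory CategoryTheory.Limits
open CohDer

namespace Groth.Agent.S6611

/-- Let A be an abelian category, α : K ⟶ L a quasi-isomorphism of cochain complexes which is injective
in every degree, I a bounded below complex of injective objects and γ : K ⟶ I a morphism. Then there
is a morphism β : L ⟶ I with α ≫ β = γ. -/
theorem result {A : Type u} [Category.{v} A] [Abelian A]
    (K L I : CochainComplex A ℤ) (α : K ⟶ L) [QuasiIso α] (hα : ∀ n : ℤ, Mono (α.f n))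
    (a : ℤ) [I.IsStrictlyGE a] (hI : ∀ n : ℤ, Injective (I.X n)) (γ : K ⟶ I) :
    ∃ β : L ⟶ I, α ≫ β = γ := by
  haveI := hI
  haveI : I.IsKInjective := CochainComplex.isKInjective_of_injective I a
  haveI : Mono α := HomologicalComplex.mono_of_mono_f α hα
  let S : ShortComplex (CochainComplex A ℤ) := ShortComplex.mk α (cokernel.π α) (cokernel.condition α)
  have hS : S.ShortExact :=
    { exact := ShortComplex.exact_of_g_is_cokernel _ (cokernelIsCokernel α)
      mono_f := inferInstanceAs (Mono α)
      epi_g := inferInstanceAs (Epi (cokernel.π α)) }
  have hac : S.X₃.Acyclic := fun i => by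
    rw [HomologicalComplex.exactAt_iff_isZero_homology]
    refine (hS.homology_exact₃ i (i + 1) rfl).isZero_of_both_zeros ?_ ?_
    · haveI : IsIso (HomologicalComplex.homologyMap S.f i) := inferInstanceAs (IsIso (HomologicalComplex.homologyMap α i))
      rw [← cancel_epi (HomologicalComplex.homologyMap S.f i), Limits.comp_zero, ← HomologicalComplex.homologyMap_comp, S.zero,
        HomologicalComplex.homologyMap_zero]
    · haveI : IsIso (HomologicalComplex.homologyMap S.f (i + 1)) := inferInstanceAs (IsIso (HomologicalComplex.homologyMap α (i + 1)))
      rw [← cancel_mono (HomologicalComplex.homologyMap S.f (i + 1)), Limits.zero_comp]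
      exact hS.δ_comp i (i + 1) rfl
  exact Groth.Agent.KInj.liftingProperty_of_isKInjective I hS hac γ

end Groth.Agent.S6611
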