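import Groth.Statements.S6612
import Mathlib
-- import your own Groth.Agent.* helpers here

set_option autoImplicit false
universe v u
open CategoryTheory CategoryTheory.Limits
open CohDer

namespace Groth.Agent.S6612

/-- Let A be an additive category and 0 → A₂ → B₂ → C₂ → 0 a termwise split exact sequence of complexes.
Given a chain map b from a complex B₁ into B₂ and a chain map b' from B₂ into a complex B₃, suppose
that both composites b ≫ (B₂ → C₂) and (A₂ → B₂) ≫ b' are null-homotopic. Then b ≫ b' is homotopic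
to zero. (The published statement has three termwise split sequences Aᵢ → Bᵢ → Cᵢ and asks both
squares of each diagram to commute up to homotopy; this row keeps only the middle sequence and the
two conditions at B₂ that the argument uses, so it is more general.) -/
theorem result {V : Type u} [Category.{v} V] [Preadditive V] [HasBinaryBiproducts V]
    (S : ShortComplex (CochainComplex V ℤ))
    (σ : ∀ n : ℤ, (S.map (HomologicalComplex.eval V (ComplexShape.up ℤ) n)).Splitting)
    {B₁ B₃ : CochainComplex V ℤ} (b : B₁ ⟶ S.X₂) (b' : S.X₂ ⟶ B₃)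
    (hb : Nonempty (Homotopy (b ≫ S.g) 0)) (hb' : Nonempty (Homotopy (S.f ≫ b') 0)) :
    Nonempty (Homotopy (b ≫ b') 0) := by
  obtain ⟨hb⟩ := hb
  obtain ⟨hb'⟩ := hb'
  let sS : ∀ j : ℤ, S.X₃.X j ⟶ S.X₂.X j := fun j => (σ j).s
  let rR : ∀ j : ℤ, S.X₂.X j ⟶ S.X₁.X j := fun j => (σ j).r
  let hnull : ∀ i j : ℤ, B₁.X i ⟶ S.X₂.X j := fun i j => hb.hom i j ≫ sS j
  let b₀ : B₁ ⟶ S.X₂ := Homotopy.nullHomotopicMap hnull
  have hg : Homotopy b₀ 0 := Homotopy.nullHomotopy hnull (fun i j hij => by simp [hnull, hb.zero i j hij])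
  let c : B₁ ⟶ S.X₂ := b - b₀
  have hbeq : ∀ n, b.f n ≫ S.g.f n = hb.hom n (n - 1) ≫ S.X₃.d (n - 1) n + B₁.d n (n + 1) ≫ hb.hom (n + 1) n := by
    intro n
    have := hb.comm n
    rw [dNext_eq _ (show (ComplexShape.up ℤ).Rel n (n + 1) by simp),
      prevD_eq _ (show (ComplexShape.up ℤ).Rel (n - 1) n by simp)] at this
    simpa [add_comm] using this
  have hsg : ∀ n, sS n ≫ S.g.f n = 𝟙 _ := fun n => (σ n).s_g
  have hid : ∀ n, rR n ≫ S.f.f n = 𝟙 _ - S.g.f n ≫ sS n := fun n => eq_sub_iff_add_eq.2 (σ n).id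

  have hcg : ∀ n, c.f n ≫ S.g.f n = 0 := by
    intro n
    have h0 : b₀.f n ≫ S.g.f n = hb.hom n (n - 1) ≫ S.X₃.d (n - 1) n + B₁.d n (n + 1) ≫ hb.hom (n + 1) n := by
      show (Homotopy.nullHomotopicMap hnull).f n ≫ _ = _
      rw [Homotopy.nullHomotopicMap_f (show (ComplexShape.up ℤ).Rel (n - 1) n by simp)
        (show (ComplexShape.up ℤ).Rel n (n + 1) by simp)]
      simp only [hnull, Preadditive.add_comp, Category.assoc]
      rw [← S.g.comm, reassoc_of% (hsg (n - 1)), hsg, Category.comp_id, add_comm]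
    simp [c, hbeq, h0]
  let a : B₁ ⟶ S.X₁ :=
    { f := fun n => c.f n ≫ rR n
      comm' := fun i j _ => by
        have hr : ∀ n, (c.f n ≫ rR n) ≫ S.f.f n = c.f n := fun n => by
          rw [Category.assoc, hid, Preadditive.comp_sub, Category.comp_id, reassoc_of% (hcg n)]
          simp
        haveI : Mono (S.f.f j) := (σ j).splitMono_f.mono
        rw [← cancel_mono (S.f.f j), Category.assoc (c.f i ≫ rR i), ← S.f.comm,
          ← Category.assoc (c.f i ≫ rR i), hr i, Category.assoc (B₁.d i j), hr j, c.comm] }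
  have ha : a ≫ S.f = c := by
    ext n
    show (c.f n ≫ rR n) ≫ S.f.f n = c.f n
    rw [Category.assoc, hid, Preadditive.comp_sub, Category.comp_id, reassoc_of% (hcg n)]
    simp
  have h1 : Homotopy (b₀ ≫ b') 0 := (hg.compRight b').trans (Homotopy.ofEq (by simp))
  have h2 : Homotopy (a ≫ (S.f ≫ b')) 0 := (hb'.compLeft a).trans (Homotopy.ofEq (by simp))
  exact ⟨(Homotopy.ofEq (by rw [← Category.assoc a, ha]; simp [c])).trans
    ((h1.add h2).trans (Homotopy.ofEq (by simp)))⟩

end Groth.Agent.S6612
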