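import Groth.Statements.S6613
import Mathlib.CategoryTheory.Localization.CalculusOfFractions

set_option autoImplicit false
universe v u v' u'
open CategoryTheory CategoryTheory.Limits
open CohDer

namespace Groth.Agent.S6613

set_option backward.isDefEq.respectTransparency false
set_option backward.isDefEq.respectTransparency.types false
open CategoryTheory.Localization

theorem isLocalization_inverseImage {D : Type u} [Category.{v} D] (P : ObjectProperty D) (S : MorphismProperty D)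
    [S.HasRightCalculusOfFractions] {E : Type u'} [Category.{v'} E] (Q : D ⥤ E) [Q.IsLocalization S]
    (hP : ∀ X : D, ∃ (X' : D) (s : X' ⟶ X), P X' ∧ S s) :
    (P.ι ⋙ Q).IsLocalization (S.inverseImage P.ι) := by
  let S' := S.inverseImage P.ι
  have : S'.IsMultiplicative :=
    { id_mem := fun X => by show S (P.ι.map (𝟙 X)); rw [P.ι.map_id]; exact S.id_mem _
      comp_mem := fun f g hf hg => by show S (P.ι.map (f ≫ g)); rw [P.ι.map_comp]; exact S.comp_mem _ _ hf hg }
  have : S'.HasRightCalculusOfFractions :=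
    { exists_rightFraction := fun X Y φ => by
        obtain ⟨ψ, hψ⟩ := (MorphismProperty.LeftFraction.mk (P.ι.map φ.f) (P.ι.map φ.s) φ.hs).exists_rightFraction
        obtain ⟨Z', t, hZ', ht⟩ := hP ψ.X'
        refine ⟨MorphismProperty.RightFraction.mk (X' := ⟨Z', hZ'⟩) (ObjectProperty.homMk (t ≫ ψ.s))
          (S.comp_mem _ _ ht ψ.hs) (ObjectProperty.homMk (t ≫ ψ.f)), ObjectProperty.hom_ext _ ?_⟩
        simpa using congrArg (t ≫ ·) hψ
      ext := fun X Y Y' f₁ f₂ s hs h => by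
        obtain ⟨Z, t, ht, e⟩ := MorphismProperty.HasRightCalculusOfFractions.ext (W := S) (P.ι.map f₁) (P.ι.map f₂)
          (P.ι.map s) hs (by simpa using congrArg (fun k => P.ι.map k) h)
        obtain ⟨Z', t', hZ', ht'⟩ := hP Z
        exact ⟨⟨Z', hZ'⟩, ObjectProperty.homMk (t' ≫ t), S.comp_mem _ _ ht' ht,
          ObjectProperty.hom_ext _ (by simpa using congrArg (t' ≫ ·) e)⟩ }
  have hinv : S'.IsInvertedBy (P.ι ⋙ Q) := fun _ _ f hf => inverts Q S _ hf
  let L := S'.Q
  let Φ := lift (P.ι ⋙ Q) hinv L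
  let e : L ⋙ Φ ≅ P.ι ⋙ Q := fac _ hinv L
  have hess : Φ.EssSurj := ⟨fun Y => by
    have := essSurj Q S
    obtain ⟨X', s, hX', hs⟩ := hP (Q.objPreimage Y)
    exact ⟨L.obj ⟨X', hX'⟩, ⟨e.app ⟨X', hX'⟩ ≪≫ (isoOfHom Q S s hs) ≪≫ Q.objObjPreimageIso Y⟩⟩⟩
  have : L.EssSurj := essSurj L S'
  have hfull : ∀ (A B : P.FullSubcategory) (g : Q.obj A.obj ⟶ Q.obj B.obj),
      ∃ h : L.obj A ⟶ L.obj B, Φ.map h = e.hom.app A ≫ g ≫ e.inv.app B := by
    intro A B g
    obtain ⟨φ, rfl⟩ := exists_rightFraction Q S g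
    obtain ⟨Z', t, hZ', ht⟩ := hP φ.X'
    let Z : P.FullSubcategory := ⟨Z', hZ'⟩
    let s' : Z ⟶ A := ObjectProperty.homMk (t ≫ φ.s)
    let f' : Z ⟶ B := ObjectProperty.homMk (t ≫ φ.f)
    have hs' : S' s' := S.comp_mem _ _ ht φ.hs
    have := inverts L S' _ hs'
    refine ⟨inv (L.map s') ≫ L.map f', ?_⟩
    rw [Functor.map_comp, Functor.map_inv, IsIso.inv_comp_eq]
    have n₁ : Φ.map (L.map s') ≫ e.hom.app A = e.hom.app Z ≫ Q.map (t ≫ φ.s) := e.hom.naturality s'
    have n₂ : Φ.map (L.map f') ≫ e.hom.app B = e.hom.app Z ≫ Q.map (t ≫ φ.f) := e.hom.naturality f'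
    rw [reassoc_of% n₁, ← cancel_mono (e.hom.app B), n₂, Q.map_comp, Q.map_comp]
    simp [MorphismProperty.RightFraction.map_s_comp_map_assoc]
  have hfaith : ∀ (A B : P.FullSubcategory) (h₁ h₂ : L.obj A ⟶ L.obj B), Φ.map h₁ = Φ.map h₂ → h₁ = h₂ := by
    intro A B h₁ h₂ he
    obtain ⟨φ, rfl⟩ := exists_rightFraction L S' h₁
    obtain ⟨ψ, hψ⟩ := exists_rightFraction L S' (L.map φ.s ≫ h₂)
    have := inverts L S' _ φ.hs
    have := inverts L S' _ ψ.hs
    have h₂' : L.map (ψ.s ≫ φ.s) ≫ h₂ = L.map ψ.f := by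
      rw [Functor.map_comp, Category.assoc, hψ, MorphismProperty.RightFraction.map_s_comp_map]
    have h₁' : L.map (ψ.s ≫ φ.s) ≫ φ.map L (inverts L S') = L.map (ψ.s ≫ φ.f) := by
      rw [Functor.map_comp, Category.assoc, MorphismProperty.RightFraction.map_s_comp_map, Functor.map_comp]
    have e₁ : Φ.map (L.map (ψ.s ≫ φ.f)) = Φ.map (L.map ψ.f) := by
      rw [← h₁', ← h₂', Φ.map_comp, Φ.map_comp, he]
    have e₂ : Q.map (P.ι.map (ψ.s ≫ φ.f)) = Q.map (P.ι.map ψ.f) := by
      have n₁ : Φ.map (L.map (ψ.s ≫ φ.f)) ≫ e.hom.app B = e.hom.app ψ.X' ≫ Q.map (P.ι.map (ψ.s ≫ φ.f)) :=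
        e.hom.naturality (ψ.s ≫ φ.f)
      have n₂ : Φ.map (L.map ψ.f) ≫ e.hom.app B = e.hom.app ψ.X' ≫ Q.map (P.ι.map ψ.f) := e.hom.naturality ψ.f
      rw [← cancel_epi (e.hom.app ψ.X'), ← n₁, ← n₂, e₁]
    obtain ⟨Z, t, ht, et⟩ := (MorphismProperty.map_eq_iff_precomp Q S _ _).1 e₂
    obtain ⟨Z', t', hZ', ht'⟩ := hP Z
    let t'' : (⟨Z', hZ'⟩ : P.FullSubcategory) ⟶ ψ.X' := ObjectProperty.homMk (t' ≫ t)
    have := inverts L S' _ (show S' t'' from S.comp_mem _ _ ht' ht)
    have := inverts L S' _ (S'.comp_mem _ _ ψ.hs φ.hs)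
    have et' : t'' ≫ ψ.s ≫ φ.f = t'' ≫ ψ.f := ObjectProperty.hom_ext _ (by
      show (t' ≫ t) ≫ (ψ.s ≫ φ.f).hom = (t' ≫ t) ≫ ψ.f.hom
      rw [Category.assoc, Category.assoc]
      exact congrArg (t' ≫ ·) et)
    rw [← cancel_epi (L.map (ψ.s ≫ φ.s)), h₁', h₂', ← cancel_epi (L.map t''), ← Functor.map_comp, ← Functor.map_comp, et']
  have : Φ.Faithful := ⟨fun {A B} h₁ h₂ h => by
    refine (cancel_epi (L.objObjPreimageIso A).hom).1 ((cancel_mono (L.objObjPreimageIso B).inv).1 ?_)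
    exact hfaith _ _ _ _ (by simp [h])⟩
  have : Φ.Full := ⟨fun {A B} g => by
    obtain ⟨h, hh⟩ := hfull (L.objPreimage A) (L.objPreimage B)
      (e.inv.app _ ≫ Φ.map (L.objObjPreimageIso A).hom ≫ g ≫ Φ.map (L.objObjPreimageIso B).inv ≫ e.hom.app _)
    refine ⟨(L.objObjPreimageIso A).inv ≫ h ≫ (L.objObjPreimageIso B).hom, ?_⟩
    rw [Functor.map_comp, Functor.map_comp, hh]
    simp [← Functor.map_comp_assoc, ← Functor.map_comp]⟩
  have : Φ.IsEquivalence := {}
  exact Functor.IsLocalization.of_equivalence_target L S' (P.ι ⋙ Q) Φ.asEquivalence e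

/-- Let D be a pretriangulated category, D' ⊂ D a full pretriangulated subcategory, S a saturated
multiplicative system of D compatible with the triangulated structure and Q : D → S⁻¹D the
localization. Assume every X in D admits some s : X' ⟶ X in S with X' in D'. Then, with S' = S ∩
Arrows(D'), the functor (S')⁻¹D' → S⁻¹D is an equivalence; equivalently the composite D' → D → S⁻¹D
is a localization of D' at S'. (The published result additionally claims that the intersection S' =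
S ∩ Arrows(D') forms a multiplicative system on D' which is saturated and respects the triangulated
structure of D'; this row asserts only the localization property.) -/
theorem result {D : Type u} [Category.{v} D] [Preadditive D] [HasZeroObject D] [HasShift D ℤ]
    [∀ n : ℤ, (shiftFunctor D n).Additive] [Pretriangulated D]
    (P : ObjectProperty D) [P.IsTriangulated]
    (S : MorphismProperty D) [S.HasLeftCalculusOfFractions] [S.HasRightCalculusOfFractions] [S.IsCompatibleWithTriangulation]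
    {E : Type u'} [Category.{v'} E] (Q : D ⥤ E) [Q.IsLocalization S]
    (hsat : ∀ {X Y : D} (f : X ⟶ Y), IsIso (Q.map f) → S f)
    (hP : ∀ X : D, ∃ (X' : D) (s : X' ⟶ X), P X' ∧ S s) :
    (P.ι ⋙ Q).IsLocalization (S.inverseImage P.ι) := by
  exact isLocalization_inverseImage P S Q hP

end Groth.Agent.S6613
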