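import Groth.Statements.S6617
import Mathlib
import Groth.Agent.HtpyFactor.Basic
-- import your own Groth.Agent.* helpers here

set_option autoImplicit false
universe v u
open CategoryTheory CategoryTheory.Limits
open CohDer

namespace Groth.Agent.S6617

/-- Let A be an additive category and A₀ → A₁ → A₂ → … a sequence of composable morphisms of complexes.
There are complexes Bᵢ, homotopy equivalences Bᵢ ⟶ Aᵢ and termwise split injections Bᵢ ⟶ Bᵢ₊₁
forming a commutative ladder over the given sequence. Moreover if all Aᵢ are bounded below, resp.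
bounded above, then the Bᵢ may be chosen bounded below, resp. bounded above. (The published
statement is for finite sequences A₁ → … → A_n; this row takes a sequence indexed by ℕ, built by the
same step-by-step construction.) -/
theorem result {V : Type u} [Category.{v} V] [Preadditive V] [HasBinaryBiproducts V] [HasZeroObject V]
    (X : ℕ → CochainComplex V ℤ) (a : ∀ i, X i ⟶ X (i + 1)) :
    ∃ (B : ℕ → CochainComplex V ℤ) (b : ∀ i, B i ⟶ B (i + 1)) (e : ∀ i, HomotopyEquiv (B i) (X i)),
      (∀ i, b i ≫ (e (i + 1)).hom = (e i).hom ≫ a i) ∧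
      (∀ (i : ℕ) (n : ℤ), ∃ (C : V) (ε : (B (i + 1)).X n ≅ (B i).X n ⊞ C), (b i).f n ≫ ε.hom = biprod.inl) ∧
      ((∀ i, ∃ m : ℤ, (X i).IsStrictlyGE m) → ∀ i, ∃ m : ℤ, (B i).IsStrictlyGE m) ∧
      ((∀ i, ∃ m : ℤ, (X i).IsStrictlyLE m) → ∀ i, ∃ m : ℤ, (B i).IsStrictlyLE m) := by
  let next : ∀ i, (Σ B : CochainComplex V ℤ, HomotopyEquiv B (X i)) →
      (Σ B : CochainComplex V ℤ, HomotopyEquiv B (X (i + 1))) := fun i p =>
    ⟨X (i + 1) ⊞ CochainComplex.mappingCone (𝟙 p.1),
      { hom := biprod.fst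
        inv := biprod.inl
        homotopyHomInvId := Groth.Agent.HtpyFactor.fstInlHomotopy _ _
          (CochainComplex.mappingCone.homotopyToZeroOfId _)
        homotopyInvHomId := Homotopy.ofEq biprod.inl_fst }⟩
  let F : ∀ i, Σ B : CochainComplex V ℤ, HomotopyEquiv B (X i) := fun i =>
    Nat.rec (motive := fun i => Σ B : CochainComplex V ℤ, HomotopyEquiv B (X i))
      ⟨X 0, HomotopyEquiv.refl _⟩ next i
  refine ⟨fun i => (F i).1, fun i => biprod.lift ((F i).2.hom ≫ a i) (CochainComplex.mappingCone.inr (𝟙 (F i).1)),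
    fun i => (F i).2, fun i => biprod.lift_fst _ _,
    fun i n => Groth.Agent.HtpyFactor.split_inj (F i).1 (X (i + 1)) _ n, ?_, ?_⟩
  · intro h i
    induction i with
    | zero => exact h 0
    | succ i ih =>
      obtain ⟨p, hp⟩ := ih
      obtain ⟨q, hq⟩ := h (i + 1)
      haveI : (X (i + 1)).IsStrictlyGE (min (p - 1) q) :=
        (X (i + 1)).isStrictlyGE_of_ge _ q (by lia)
      haveI := CochainComplex.isStrictlyGE_mappingCone (𝟙 (F i).1) p p (min (p - 1) q) (by lia) (by lia)
      exact ⟨min (p - 1) q, Groth.Agent.HtpyFactor.biprod_isStrictlyGE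
        (X (i + 1)) (CochainComplex.mappingCone (𝟙 (F i).1)) _⟩
  · intro h i
    induction i with
    | zero => exact h 0
    | succ i ih =>
      obtain ⟨p, hp⟩ := ih
      obtain ⟨q, hq⟩ := h (i + 1)
      haveI : (X (i + 1)).IsStrictlyLE (max p q) :=
        (X (i + 1)).isStrictlyLE_of_le q _ (by lia)
      haveI := Groth.Agent.HtpyFactor.mappingCone_isStrictlyLE (𝟙 (F i).1) p p (max p q) (by lia) (by lia)
      exact ⟨max p q, Groth.Agent.HtpyFactor.biprod_isStrictlyLE
        (X (i + 1)) (CochainComplex.mappingCone (𝟙 (F i).1)) _⟩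

end Groth.Agent.S6617
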