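import Groth.Statements.S6622
import Mathlib
import Groth.Agent.HtpyFactor.Basic
-- import your own Groth.Agent.* helpers here

set_option autoImplicit false
universe v u
open CategoryTheory CategoryTheory.Limits
open CohDer

namespace Groth.Agent.S6622

/-- Let A be an additive category. The full subcategories K⁻(A) (complexes K with Kⁿ = 0 for n ≫ 0) and
Kᵇ(A) (Kⁿ = 0 for |n| ≫ 0) of the homotopy category K(A) are full triangulated subcategories. -/
theorem result {V : Type u} [Category.{v} V] [Preadditive V] [HasZeroObject V] [HasBinaryBiproducts V] :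
    (ObjectProperty.IsTriangulated (fun K : HomotopyCategory V (ComplexShape.up ℤ) => ∃ n : ℤ, CochainComplex.IsStrictlyLE K.as n)) ∧
    (ObjectProperty.IsTriangulated (fun K : HomotopyCategory V (ComplexShape.up ℤ) =>
      ∃ a b : ℤ, CochainComplex.IsStrictlyGE K.as a ∧ CochainComplex.IsStrictlyLE K.as b)) := by
  open ZeroObject in
  have triangulated : ∀ (P : ObjectProperty (CochainComplex V ℤ))
      (Q : ObjectProperty (HomotopyCategory V (ComplexShape.up ℤ)))
      (_ : ∀ K, Q ((HomotopyCategory.quotient _ _).obj K) ↔ P K)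
      (_ : P 0) (_ : ∀ (K : CochainComplex V ℤ) (n : ℤ), P K → P (K⟦n⟧))
      (_ : ∀ {K L : CochainComplex V ℤ} (f : K ⟶ L), P K → P L → P (CochainComplex.mappingCone f)),
      Q.IsTriangulated := by
    intro P Q hQ h0 hshift hcone
    haveI : Q.ContainsZero :=
      ⟨⟨(HomotopyCategory.quotient _ _).obj (0 : CochainComplex V ℤ),
        Functor.map_isZero _ (Limits.isZero_zero _), (hQ _).2 h0⟩⟩
    haveI : Q.IsStableUnderShift ℤ :=
      ⟨fun n => ⟨fun K hK => by
        obtain ⟨K : CochainComplex _ _, rfl⟩ := K.quotient_obj_surjective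
        rw [ObjectProperty.prop_shift_iff, HomotopyCategory.shift_quotient_obj]
        exact (hQ _).2 (hshift K n ((hQ _).1 hK))⟩⟩
    haveI : Q.IsTriangulatedClosed₃ :=
      ⟨fun T hT h₁ h₂ => by
        have h₁' : P T.obj₁.as := (hQ _).1 h₁
        have h₂' : P T.obj₂.as := (hQ _).1 h₂
        obtain ⟨f, hf⟩ := (HomotopyCategory.quotient _ _).map_surjective
          (X := T.obj₁.as) (Y := T.obj₂.as) T.mor₁
        exact ⟨_, (hQ _).2 (hcone f h₁' h₂'),
          ⟨Pretriangulated.Triangle.π₃.mapIso (Pretriangulated.isoTriangleOfIso₁₂ T _ hT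
            (HomotopyCategory.mappingCone_triangleh_distinguished f)
            (Iso.refl _) (Iso.refl _) (by
              refine (Category.comp_id _).trans (Eq.trans ?_ (Category.id_comp _).symm)
              exact hf.symm))⟩⟩⟩
    exact { toIsTriangulatedClosed₂ := .of_isTriangulatedClosed₃ }
  constructor
  · refine triangulated (fun K => ∃ n : ℤ, K.IsStrictlyLE n) _ (fun K => Iff.rfl)
      ⟨0, inferInstance⟩ (fun K n ⟨a, ha⟩ => ⟨a - n, K.isStrictlyLE_shift a n (a - n) (by lia)⟩) ?_
    intro K L f ⟨a, ha⟩ ⟨b, hb⟩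
    exact ⟨max a b, Groth.Agent.HtpyFactor.mappingCone_isStrictlyLE f a b _ (by lia) (by lia)⟩
  · refine triangulated (fun K => ∃ a b : ℤ, K.IsStrictlyGE a ∧ K.IsStrictlyLE b) _ (fun K => Iff.rfl)
      ⟨0, 0, inferInstance, inferInstance⟩ (fun K n ⟨a, b, ha, hb⟩ =>
        ⟨a - n, b - n, K.isStrictlyGE_shift a n (a - n) (by lia),
          K.isStrictlyLE_shift b n (b - n) (by lia)⟩) ?_
    intro K L f ⟨a, b, ha, hb⟩ ⟨a', b', ha', hb'⟩
    exact ⟨min (a - 1) a', max b b', CochainComplex.isStrictlyGE_mappingCone f a a' _ (by lia) (by lia),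
      Groth.Agent.HtpyFactor.mappingCone_isStrictlyLE f b b' _ (by lia) (by lia)⟩

end Groth.Agent.S6622
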