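import Groth.Statements.S6623
import Mathlib.CategoryTheory.Triangulated.Pretriangulated

set_option autoImplicit false
universe v u
open CategoryTheory CategoryTheory.Limits
open CohDer

namespace Groth.Agent.S6623

open CategoryTheory.Pretriangulated in
/-- Let D be a triangulated category, φ : X ⟶ X' a morphism of chain complexes in D considered in
degrees ≤ n, where a Postnikov system for the complex X_n → … → X_0 consists of objects Y_k, an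
isomorphism Y_0 ⟶ X_0, and for 0 ≤ k < n distinguished triangles Y_{k+1} ⟶ X_{k+1} ⟶ Y_k ⟶
Y_{k+1}⟦1⟧ with X_{k+1} ⟶ Y_k ⟶ X_k the differential; let (Y, a, b, c) and (Y', a', b', c') be
Postnikov systems for X and X'. If Hom(X_{j-i}⟦1-i⟧, X'_j) = 0 and Hom(X_j, X'_{j-i}⟦-i⟧) = 0 for
all 0 < i ≤ j ≤ n, then there is at most one morphism of Postnikov systems extending φ: two such
morphisms agree on Y_k for every k ≤ n. -/
theorem result {D : Type u} [Category.{v} D] [Preadditive D] [HasZeroObject D] [HasShift D ℤ]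
    [∀ n : ℤ, (shiftFunctor D n).Additive] [Pretriangulated D] [IsTriangulated D]
    (X X' : ChainComplex D ℕ) (φ : X ⟶ X') (n : ℕ)
    (Y : ℕ → D) (a : ∀ k, Y k ⟶ X.X k) (b : ∀ k, X.X (k + 1) ⟶ Y k)
    (c : ∀ k, Y k ⟶ (shiftFunctor D (1 : ℤ)).obj (Y (k + 1)))
    (h0 : IsIso (a 0))
    (hP : ∀ k, k < n → Triangle.mk (a (k + 1)) (b k) (c k) ∈ distinguishedTriangles ∧ b k ≫ a k = X.d (k + 1) k)
    (qY : ℕ → D) (qa : ∀ k, qY k ⟶ X'.X k) (qb : ∀ k, X'.X (k + 1) ⟶ qY k)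
    (qc : ∀ k, qY k ⟶ (shiftFunctor D (1 : ℤ)).obj (qY (k + 1)))
    (qh0 : IsIso (qa 0))
    (qhP : ∀ k, k < n → Triangle.mk (qa (k + 1)) (qb k) (qc k) ∈ distinguishedTriangles ∧ qb k ≫ qa k = X'.d (k + 1) k)
    (hv : ∀ i j : ℕ, 0 < i → i ≤ j → j ≤ n →
      (∀ ψ : (shiftFunctor D (1 - (i : ℤ))).obj (X.X (j - i)) ⟶ X'.X j, ψ = 0) ∧
      (∀ ψ : X.X j ⟶ (shiftFunctor D (-(i : ℤ))).obj (X'.X (j - i)), ψ = 0))
    (y z : ∀ k, Y k ⟶ qY k)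
    (hy : (∀ k, k ≤ n → y k ≫ qa k = a k ≫ φ.f k) ∧
      (∀ k, k < n → b k ≫ y k = φ.f (k + 1) ≫ qb k ∧ c k ≫ (shiftFunctor D (1 : ℤ)).map (y (k + 1)) = y k ≫ qc k))
    (hz : (∀ k, k ≤ n → z k ≫ qa k = a k ≫ φ.f k) ∧
      (∀ k, k < n → b k ≫ z k = φ.f (k + 1) ≫ qb k ∧ c k ≫ (shiftFunctor D (1 : ℤ)).map (z (k + 1)) = z k ≫ qc k))
    (k : ℕ) (hk : k ≤ n) :
    y k = z k := by
  have shiftHom : ∀ (M W : D) (p q : ℤ), p + 1 = q → (∀ ψ : M⟦p⟧ ⟶ W, ψ = 0) →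
      ∀ ψ : M⟦q⟧ ⟶ W⟦(1 : ℤ)⟧, ψ = 0 := by
    intro M W p q h H ψ
    rw [← cancel_epi ((shiftFunctorAdd' D p 1 q h).inv.app M), comp_zero]
    obtain ⟨ψ', hψ'⟩ := (shiftFunctor D (1 : ℤ)).map_surjective ((shiftFunctorAdd' D p 1 q h).inv.app M ≫ ψ)
    rw [← hψ', H ψ', Functor.map_zero]
  have shiftHom' : ∀ (W M : D) (p q : ℤ), p + 1 = q → (∀ ψ : W ⟶ M⟦p⟧, ψ = 0) →
      ∀ ψ : W⟦(1 : ℤ)⟧ ⟶ M⟦q⟧, ψ = 0 := by
    intro W M p q h H ψ
    rw [← cancel_mono ((shiftFunctorAdd' D p 1 q h).hom.app M), zero_comp]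
    obtain ⟨ψ', hψ'⟩ := (shiftFunctor D (1 : ℤ)).map_surjective (ψ ≫ (shiftFunctorAdd' D p 1 q h).hom.app M)
    rw [← hψ', H ψ', Functor.map_zero]
  have LA : ∀ k, k ≤ n → ∀ W : D, (∀ l, l ≤ k → ∀ m : ℤ, m = (l : ℤ) - k → ∀ ψ : (X.X l)⟦m⟧ ⟶ W, ψ = 0) →
      ∀ u : Y k ⟶ W, u = 0 := by
    intro k
    induction k with
    | zero =>
      intro _ W H u
      rw [← cancel_epi (inv (a 0)), comp_zero, ← cancel_epi ((shiftFunctorZero D ℤ).hom.app (X.X 0)), comp_zero]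
      exact H 0 le_rfl 0 (by simp) _
    | succ k ih =>
      intro hk W H u
      have h0 : c k ≫ u⟦(1 : ℤ)⟧' = 0 :=
        ih (by omega) _ (fun l hl m hm => shiftHom _ _ (m - 1) m (sub_add_cancel m 1) (H l (by omega) _ (by omega))) _
      obtain ⟨ψ, hψ⟩ : ∃ ψ : (X.X (k + 1))⟦(1 : ℤ)⟧ ⟶ W⟦(1 : ℤ)⟧, u⟦(1 : ℤ)⟧' = (-((a (k + 1))⟦(1 : ℤ)⟧')) ≫ ψ :=
        Triangle.yoneda_exact₃ _ (rot_of_distTriang _ (hP k hk).1) _ h0
      apply (shiftFunctor D (1 : ℤ)).map_injective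
      rw [hψ, shiftHom _ _ 0 1 (zero_add 1) (H (k + 1) le_rfl 0 (by omega)) ψ, comp_zero, Functor.map_zero]
  have LB : ∀ k, k ≤ n → ∀ W : D, (∀ l, l ≤ k → ∀ m : ℤ, m = (l : ℤ) - k → ∀ ψ : W ⟶ (X'.X l)⟦m⟧, ψ = 0) →
      ∀ g : W ⟶ qY k, g = 0 := by
    intro k
    induction k with
    | zero =>
      intro _ W H g
      rw [← cancel_mono (qa 0), zero_comp, ← cancel_mono ((shiftFunctorZero D ℤ).inv.app (X'.X 0)), zero_comp]
      exact H 0 le_rfl 0 (by simp) _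
    | succ k ih =>
      intro hk W H g
      have hga : g ≫ qa (k + 1) = 0 := by
        rw [← cancel_mono ((shiftFunctorZero D ℤ).inv.app (X'.X (k + 1))), zero_comp]
        exact H (k + 1) le_rfl 0 (by omega) _
      obtain ⟨h, hh⟩ : ∃ h : W⟦(1 : ℤ)⟧ ⟶ qY k, g⟦(1 : ℤ)⟧' = h ≫ qc k :=
        Triangle.coyoneda_exact₁ _ (qhP k hk).1 _ (by
          show g⟦(1 : ℤ)⟧' ≫ (qa (k + 1))⟦(1 : ℤ)⟧' = 0
          rw [← Functor.map_comp, hga, Functor.map_zero])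
      apply (shiftFunctor D (1 : ℤ)).map_injective
      rw [hh, ih (by omega) _ (fun l hl m hm => shiftHom' _ _ (m - 1) m (sub_add_cancel m 1)
        (H l (by omega) _ (by omega))) h, zero_comp, Functor.map_zero]
  induction k with
  | zero => exact (cancel_mono (qa 0)).1 ((hy.1 0 (Nat.zero_le _)).trans (hz.1 0 (Nat.zero_le _)).symm)
  | succ k ih =>
    have hk' : k < n := hk
    have ih := ih hk'.le
    have h0 : c k ≫ (y (k + 1) - z (k + 1))⟦(1 : ℤ)⟧' = 0 := by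
      rw [Functor.map_sub, Preadditive.comp_sub, (hy.2 k hk').2, (hz.2 k hk').2, ih, sub_self]
    obtain ⟨ψ₁, hψ₁⟩ : ∃ ψ : (X.X (k + 1))⟦(1 : ℤ)⟧ ⟶ (qY (k + 1))⟦(1 : ℤ)⟧,
        (y (k + 1) - z (k + 1))⟦(1 : ℤ)⟧' = (-((a (k + 1))⟦(1 : ℤ)⟧')) ≫ ψ :=
      Triangle.yoneda_exact₃ _ (rot_of_distTriang _ (hP k hk').1) _ h0
    obtain ⟨ψ, rfl⟩ := (shiftFunctor D (1 : ℤ)).map_surjective ψ₁
    have hd : y (k + 1) - z (k + 1) = -(a (k + 1) ≫ ψ) := by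
      apply (shiftFunctor D (1 : ℤ)).map_injective
      rw [hψ₁, Functor.map_neg, Functor.map_comp, Preadditive.neg_comp]
    have haq : a (k + 1) ≫ ψ ≫ qa (k + 1) = 0 := by
      rw [← Category.assoc, ← neg_eq_zero, ← Preadditive.neg_comp, ← hd, Preadditive.sub_comp,
        hy.1 _ hk, hz.1 _ hk, sub_self]
    obtain ⟨u, hu⟩ : ∃ u : Y k ⟶ X'.X (k + 1), ψ ≫ qa (k + 1) = b k ≫ u :=
      Triangle.yoneda_exact₂ _ (hP k hk').1 _ haq
    have hu0 : u = 0 := LA k hk'.le _ (fun l hl m hm => by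
      subst hm
      have h := (hv (k + 1 - l) (k + 1) (by omega) (by omega) hk).1
      rw [show k + 1 - (k + 1 - l) = l by omega, show (1 : ℤ) - ((k + 1 - l : ℕ) : ℤ) = l - k by omega] at h
      exact h) u
    rw [hu0, comp_zero] at hu
    obtain ⟨g, hg⟩ : ∃ g : (X.X (k + 1))⟦(1 : ℤ)⟧ ⟶ qY k, ψ⟦(1 : ℤ)⟧' = g ≫ qc k :=
      Triangle.coyoneda_exact₁ _ (qhP k hk').1 _ (by
        show ψ⟦(1 : ℤ)⟧' ≫ (qa (k + 1))⟦(1 : ℤ)⟧' = 0
        rw [← Functor.map_comp, hu, Functor.map_zero])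
    have hg0 : g = 0 := LB k hk'.le _ (fun l hl m hm => shiftHom' _ _ (m - 1) m (sub_add_cancel m 1) (by
      subst hm
      have h := (hv (k + 1 - l) (k + 1) (by omega) (by omega) hk).2
      rw [show k + 1 - (k + 1 - l) = l by omega, show -((k + 1 - l : ℕ) : ℤ) = (l : ℤ) - k - 1 by omega] at h
      exact h)) g
    rw [hg0, zero_comp] at hg
    have hψ0 : ψ = 0 := (shiftFunctor D (1 : ℤ)).map_injective (hg.trans (Functor.map_zero _ _ _).symm)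
    rw [← sub_eq_zero, hd, hψ0, comp_zero, neg_zero]

end Groth.Agent.S6623
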