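import Groth.Statements.S6629
import Groth.Agent.EtPtsLib.Conditions
-- import your own Groth.Agent.* helpers here

set_option autoImplicit false
open CategoryTheory CategoryTheory.Limits AlgebraicGeometry Opposite
set_option backward.isDefEq.respectTransparency false
universe u
open EtDesc

namespace Groth.Agent.S6629

/-- Let f : X ⟶ Y be a morphism of schemes satisfying condition (B) (for every etale V ⟶ Y and every
etale covering of X ×_Y V there is an etale covering of V by schemes V_j such that each X ×_Y V_j is
a disjoint union of open subschemes each mapping into X ×_Y V through a member of the given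
covering). Then the direct image of sheaves of sets on the small etale sites along f sends
epimorphisms to epimorphisms. -/
theorem result {X Y : Scheme.{u}} (f : X ⟶ Y) (hB : BigSite.PropB f) :
    (EtDesc.pushSh f).PreservesEpimorphisms := by
  constructor
  intro F G a h
  haveI : Sheaf.IsLocallySurjective a := (Sheaf.isLocallySurjective_iff_epi a).2 h
  haveI : Sheaf.IsLocallySurjective ((EtDesc.pushSh f).map a) := ⟨fun {V} z =>
    Groth.Agent.EtPtsLib.covering_of_points _ fun y => by
      obtain ⟨V', g, v, μ, W, hv, hd, hcov, hR⟩ := Groth.Agent.EtPtsLib.propB_apply f hB V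
        (Presheaf.imageSieve a.hom (U := (EtCoh.bc f).obj V) z)
        (Presheaf.imageSieve_mem X.smallEtaleTopology a.hom (U := op ((EtCoh.bc f).obj V)) z) y
      choose r hr using hR
      obtain ⟨t, ht⟩ := Groth.Agent.EtPtsLib.exists_glue F _ W hd hcov r
      refine ⟨V', g, v, ⟨t, ?_⟩, hv⟩
      refine Groth.Agent.EtPtsLib.sect_eq_of_cover G _ _ _ fun x => ?_
      obtain ⟨b, hb⟩ := hcov x
      refine ⟨_, Groth.Agent.EtPtsLib.openIncl _ (W b), (⟨x, hb⟩ : (W b).toScheme), rfl, ?_⟩
      change G.obj.map _ (a.hom.app _ t) = _
      rw [← NatTrans.naturality_apply, ht, hr, op_comp, Functor.map_comp_apply]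
      rfl⟩
  infer_instance

end Groth.Agent.S6629
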