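import Groth.Statements.S6631
import Groth.Agent.EtPtsLib.Conditions
-- import your own Groth.Agent.* helpers here

set_option autoImplicit false
open CategoryTheory CategoryTheory.Limits AlgebraicGeometry Opposite
set_option backward.isDefEq.respectTransparency false
universe u
open EtDesc

namespace Groth.Agent.S6631

/-- Let f : X ⟶ Y be a morphism of schemes satisfying condition (C) (for every etale U ⟶ X there are an
etale V ⟶ Y and a surjective X-morphism X ×_Y V ⟶ U). Then the direct image of sheaves of sets on
the small etale sites along f reflects monomorphisms and epimorphisms. -/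
theorem result {X Y : Scheme.{u}} (f : X ⟶ Y) (hC : BigSite.PropC f) :
    (EtDesc.pushSh f).ReflectsMonomorphisms ∧ (EtDesc.pushSh f).ReflectsEpimorphisms := by
  constructor
  · constructor
    intro F G a h
    haveI := h
    haveI : Mono ((EtDesc.pushSh f).map a).hom := (sheafToPresheaf Y.smallEtaleTopology (Type (u + 1))).map_mono ((EtDesc.pushSh f).map a)
    have hi : ∀ V : Y.Etale, Function.Injective (a.hom.app (op ((EtCoh.bc f).obj V))) := fun V =>
      (mono_iff_injective (((EtDesc.pushSh f).map a).hom.app (op V))).1 inferInstance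
    suffices hU : ∀ U, Function.Injective (a.hom.app U) from Sheaf.mono_of_injective _ hU
    intro U s t hst
    obtain ⟨V, g, hg⟩ := Groth.Agent.EtPtsLib.propC_apply f hC U.unop
    refine Groth.Agent.EtPtsLib.sect_eq_of_cover F U.unop s t fun x => ?_
    obtain ⟨z, hz⟩ := hg x
    refine ⟨_, g, z, hz, hi V ?_⟩
    rw [NatTrans.naturality_apply, NatTrans.naturality_apply]
    exact congrArg _ hst
  · constructor
    intro F G a h
    haveI : Sheaf.IsLocallySurjective ((EtDesc.pushSh f).map a) :=
      (Sheaf.isLocallySurjective_iff_epi ((EtDesc.pushSh f).map a)).2 h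
    haveI : Sheaf.IsLocallySurjective a := ⟨fun {U} z => Groth.Agent.EtPtsLib.covering_of_points _ fun x => by
      obtain ⟨V, g, hg⟩ := Groth.Agent.EtPtsLib.propC_apply f hC U
      obtain ⟨w, hw⟩ := hg x
      obtain ⟨V', k, v, ⟨r, hr⟩, hv⟩ := Groth.Agent.EtPtsLib.exists_mem_of_covering
        (Presheaf.imageSieve_mem Y.smallEtaleTopology ((EtDesc.pushSh f).map a).hom (U := op V) (G.obj.map g.op z))
        (Groth.Agent.EtPtsLib.bcFst f V w)
      obtain ⟨q, hq, -⟩ := Scheme.Pullback.exists_preimage_pullback (f := Groth.Agent.EtPtsLib.bcFst f V) (g := k.left)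
        w v hv.symm
      have hq' : ((EtCoh.bc f).map k).left ((EtCoh.isPullback_bc_map f k).isoPullback.inv q) = w := by
        refine Eq.trans ?_ hq
        rw [← Scheme.Hom.comp_apply, IsPullback.isoPullback_inv_fst]
      refine ⟨_, (EtCoh.bc f).map k ≫ g, (EtCoh.isPullback_bc_map f k).isoPullback.inv q, ⟨r, ?_⟩, ?_⟩
      · refine Eq.trans hr ?_
        rw [op_comp, Functor.map_comp_apply]
        rfl
      · exact (congrArg g.left hq').trans hw⟩
    infer_instance

end Groth.Agent.S6631
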