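import Groth.Statements.S6632
import Groth.Agent.EtPtsLib.Conditions
-- import your own Groth.Agent.* helpers here

set_option autoImplicit false
open CategoryTheory CategoryTheory.Limits AlgebraicGeometry Opposite
set_option backward.isDefEq.respectTransparency false
universe u
open EtCore

namespace Groth.Agent.S6632

/-- Let f : X ⟶ Y be a morphism of schemes such that, for every etale V ⟶ Y, the base change X ×_Y V ⟶ V
satisfies condition (C) (for every etale U ⟶ X ×_Y V there are an etale V' ⟶ V and a surjective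
morphism from the base change of V' to U over X ×_Y V) and is closed as a map of topological spaces.
Then the base change functor V ↦ X ×_Y V from the small etale site of Y to that of X is almost
cocontinuous: every covering sieve of X ×_Y V contains the images of the members of some covering
sieve of V, except for members V' for which X ×_Y V' is covered by the empty sieve. -/
theorem result {X Y : Scheme.{u}} (f : X ⟶ Y)
    (hC : ∀ (V : Scheme.{u}) (v : V ⟶ Y) [Etale v], BigSite.PropC (pullback.snd f v))
    (hcl : ∀ (V : Scheme.{u}) (v : V ⟶ Y) [Etale v], IsClosedMap (pullback.snd f v).base) :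
    BigSite.IsAlmostCocontinuous (EtCoh.bc f) Y.smallEtaleTopology X.smallEtaleTopology := by
  intro V R hR
  let R' : Sieve V :=
    { arrows := fun V' g => (⊥ : Sieve ((EtCoh.bc f).obj V')) ∈ X.smallEtaleTopology _ ∨ R ((EtCoh.bc f).map g)
      downward_closed := fun {V' V''} g hg a => hg.elim
        (fun h => Or.inl (X.smallEtaleTopology.superset_covering (fun Z q hq => False.elim hq)
          (X.smallEtaleTopology.pullback_stable ((EtCoh.bc f).map a) h)))
        fun h => Or.inr (by rw [Functor.map_comp]; exact R.downward_closed h _) }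
  refine ⟨R', Groth.Agent.EtPtsLib.covering_of_points _ fun v => ?_, fun V' g hg => hg⟩
  haveI : AlgebraicGeometry.Etale V.hom := V.prop
  let p := pullback.snd f V.hom
  by_cases hv : v ∈ Set.range p
  · obtain ⟨x, rfl⟩ := hv
    let σ := (Groth.Agent.EtPtsLib.swapHom f V.hom).hom
    obtain ⟨T, k, t, hk, ht⟩ := Groth.Agent.EtPtsLib.exists_mem_of_covering hR ((Groth.Agent.EtPtsLib.swapHom f V.hom).inv x)
    haveI := Groth.Agent.EtPtsLib.etale_left k
    obtain ⟨V', v', _, h, hh, hs⟩ := hC V.left V.hom T.left (k.left ≫ σ)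
    obtain ⟨z, hz⟩ := hs.surj t
    let g : Scheme.Etale.mk (v' ≫ V.hom) ⟶ V := MorphismProperty.Over.homMk v' rfl
    have hc : (((EtCoh.bc f).map g).left ≫ σ) ≫ p = Groth.Agent.EtPtsLib.bcFst f (Scheme.Etale.mk (v' ≫ V.hom)) ≫ v' := by
      rw [Category.assoc]
      exact (congrArg (((EtCoh.bc f).map g).left ≫ ·) (pullbackSymmetry_hom_comp_snd V.hom f)).trans
        (Groth.Agent.EtPtsLib.bcFst_map f g)
    let c := pullback.lift (((EtCoh.bc f).map g).left ≫ σ) (Groth.Agent.EtPtsLib.bcFst f (Scheme.Etale.mk (v' ≫ V.hom))) hc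
    have key : (c ≫ h) ≫ k.left = ((EtCoh.bc f).map g).left := by
      rw [← cancel_mono σ, Category.assoc, Category.assoc]
      exact (congrArg (c ≫ ·) hh).trans (pullback.lift_fst _ _ _)
    let q : (EtCoh.bc f).obj (Scheme.Etale.mk (v' ≫ V.hom)) ⟶ T := MorphismProperty.Over.homMk (c ≫ h) (by
      rw [← MorphismProperty.Over.w k, ← Category.assoc]
      exact (congrArg (· ≫ ((EtCoh.bc f).obj V).hom) key).trans (MorphismProperty.Over.w ((EtCoh.bc f).map g)))
    refine ⟨_, g, pullback.snd p v' z, Or.inr ?_, ?_⟩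
    · have : q ≫ k = (EtCoh.bc f).map g := MorphismProperty.Over.Hom.ext key
      rw [← this]
      exact R.downward_closed hk q
    · change v' (pullback.snd p v' z) = p x
      rw [← Scheme.Hom.comp_apply, ← pullback.condition, Scheme.Hom.comp_apply]
      refine congrArg p ?_
      have h1 : (h ≫ k.left ≫ σ) z = pullback.fst p v' z := congrArg (fun m => m z) hh
      rw [← h1, Scheme.Hom.comp_apply, Scheme.Hom.comp_apply, hz, ht]
      exact congrArg (fun m => m x) (Groth.Agent.EtPtsLib.swapHom f V.hom).inv_hom_id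
  · let O : V.left.Opens := ⟨(Set.range p)ᶜ, ((hcl V.left V.hom).isClosed_range).isOpen_compl⟩
    refine ⟨_, Groth.Agent.EtPtsLib.openIncl V O, (⟨v, hv⟩ : O.toScheme), Or.inl ?_, rfl⟩
    refine Groth.Agent.EtPtsLib.bot_mem_of_isEmpty ⟨fun (z : ↥(pullback (O.ι ≫ V.hom) f)) => ?_⟩
    have e : (pullback.fst (O.ι ≫ V.hom) f ≫ O.ι) ≫ V.hom = pullback.snd (O.ι ≫ V.hom) f ≫ f := by
      rw [Category.assoc]; exact pullback.condition
    refine (pullback.fst (O.ι ≫ V.hom) f z : O.toScheme).2 ⟨pullback.lift (pullback.snd (O.ι ≫ V.hom) f) (pullback.fst (O.ι ≫ V.hom) f ≫ O.ι) e.symm z, ?_⟩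
    rw [← Scheme.Hom.comp_apply, pullback.lift_snd]
    rfl

end Groth.Agent.S6632
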