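import Groth.Statements.S6637
import Groth.Prelude.Def_BigSite

set_option autoImplicit false
open CategoryTheory CategoryTheory.Limits AlgebraicGeometry Opposite
universe u
open BigSite

namespace Groth.Agent.S6637

set_option backward.isDefEq.respectTransparency false
set_option backward.isDefEq.respectTransparency.types false

universe v1 u1 in
theorem key {X Y : Scheme.{u}} (f : X ⟶ Y) [Mono f] (K : Precoverage Scheme.{u}) (A : Type u1) [Category.{v1} A]
    (F : Sheaf (QuotSh.J K X) A) : IsIso ((BigSite.bigAdj K f A).counit.app F) := by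
  haveI : (Over.map f).Faithful := ⟨fun {U V} a b h => Over.OverMorphism.ext (congrArg (fun t => t.left) h)⟩
  haveI : (Over.map f).Full := ⟨fun {U V} a => ⟨Over.homMk a.left ((cancel_mono f).1
    ((Category.assoc _ _ _).trans (Over.w a))), Over.OverMorphism.ext rfl⟩⟩
  haveI : ∀ V, IsIso ((Over.mapPullbackAdj f).unit.app V) := fun V => inferInstance
  rw [← isIso_iff_of_reflects_iso _ (sheafToPresheaf (QuotSh.J K X) A)]
  rw [NatTrans.isIso_iff_isIso_app]
  intro V
  show IsIso (𝟙 _ ≫ F.obj.map ((Over.mapPullbackAdj f).unit.app V.unop).op ≫ 𝟙 _)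
  infer_instance

/-- For the Zariski, etale, smooth and fppf topologies: for a monomorphism of schemes f : X ⟶ Y the
counit f_big⁻¹ f_big,* F ⟶ F is an isomorphism for every sheaf of sets F on the big site of X, and
for every abelian sheaf. (The published statement also covers the syntomic topology; this row treats
the Zariski, etale, smooth and fppf topologies only.) -/
theorem result {X Y : Scheme.{u}} (f : X ⟶ Y) [Mono f]
    (K : Precoverage Scheme.{u}) (hK : K = Scheme.zariskiPrecoverage ∨ K = Scheme.etalePrecoverage ∨
      K = Scheme.precoverage @Smooth ∨ K = Scheme.fppfPrecoverage) :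
    (∀ F : QuotSh.Sh K X, IsIso ((BigSite.bigAdj K f (Type (u + 1))).counit.app F)) ∧
      (∀ F : BigSite.Ab K X, IsIso ((BigSite.bigAdj K f AddCommGrpCat.{u + 1}).counit.app F)) := by
  exact ⟨fun F => key f K _ F, fun F => key f K _ F⟩

end Groth.Agent.S6637
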