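import Groth.Statements.S6639
import Mathlib
import Groth.Agent.S0078

set_option autoImplicit false
universe u
open scoped TensorProduct
open EtBase

namespace Groth.Agent.S6639

/-- Let k ⟶ k' be a homomorphism of algebraically closed fields of characteristic p > 0 (an extension of
algebraically closed fields), V a finite-dimensional k-vector space, F : V ⟶ V additive with F(c •
v) = c^p • F(v), and F' the additive endomorphism of V' = k' ⊗_k V satisfying F'(c ⊗ v) = c^p ⊗
F(v). Then v ↦ 1 ⊗ v maps the fixed vectors of F bijectively onto the fixed vectors of F'. -/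
theorem result {k k' V : Type u} [Field k] [IsAlgClosed k] [Field k']
    [IsAlgClosed k'] [Algebra k k'] (p : ℕ) [Fact p.Prime] [CharP k p]
    [AddCommGroup V] [Module k V] [FiniteDimensional k V] (F : V →+ V)
    (hF : ∀ (c : k) (v : V), F (c • v) = c ^ p • F v)
    (F' : k' ⊗[k] V →+ k' ⊗[k] V) (hF' : ∀ (c : k') (v : V), F' (c ⊗ₜ[k] v) = (c ^ p) ⊗ₜ[k] F v) :
    Set.BijOn (fun v : V => (1 : k') ⊗ₜ[k] v) {v : V | F v = v} {w : k' ⊗[k] V | F' w = w} := by
  classical
  haveI : CharP k' p := charP_of_injective_algebraMap (algebraMap k k').injective p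
  let b := Module.finBasis k V
  let b' := b.baseChange k'
  have hrepr : ∀ (v : V) i, b'.repr ((1 : k') ⊗ₜ[k] v) i = algebraMap k k' (b.repr v i) := fun v i => by
    simp [b', Algebra.algebraMap_eq_smul_one]
  refine ⟨fun v hv => ?_, fun v _ v' _ hvv => ?_, fun w hw => ?_⟩
  · simp only [Set.mem_setOf_eq] at hv ⊢
    rw [hF', one_pow, hv]
  · refine b.repr.injective (Finsupp.ext fun i => (algebraMap k k').injective ?_)
    simp only [← hrepr]
    exact congrArg (fun z => b'.repr z i) hvv
  · set c : Fin (Module.finrank k V) → k' := fun i => b'.repr w i with hc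
    let A := fun i j => b.repr (F (b i)) j
    have hw' : w = ∑ i, (c i) ⊗ₜ[k] b i := by
      conv_lhs => rw [← b'.sum_repr w]
      simp [b', hc, TensorProduct.smul_tmul']
    have hceq : ∀ j, ∑ i, c i ^ p * algebraMap k k' (A i j) = c j := by
      intro j
      have h1 : F' w = w := hw
      have h2 : ∑ i, (c i ^ p) • ((1 : k') ⊗ₜ[k] F (b i)) = w := by
        simp only [TensorProduct.smul_tmul', smul_eq_mul, mul_one]
        conv_rhs => rw [← h1, hw', map_sum]
        simp [hF']
      have h3 := congrArg (fun z => b'.repr z j) h2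
      simpa [hrepr, A, map_sum, Finsupp.finsetSum_apply, hc] using h3
    let q : Ideal (MvPolynomial (Fin (Module.finrank k V)) k) := RingHom.ker (MvPolynomial.aeval c).toRingHom
    haveI : q.IsPrime := RingHom.ker_isPrime _
    let P : Fin (Module.finrank k V) → MvPolynomial (Fin (Module.finrank k V)) k := fun j =>
      (∑ i, MvPolynomial.C (A i j) * MvPolynomial.X i ^ p) - MvPolynomial.X j
    have hP : ∀ j, P j ∈ q := fun j => by
      simp [q, P, RingHom.mem_ker, sub_eq_zero, ← hceq j, mul_comm]
    have hfin : {v : V | F v = v}.Finite := (Groth.Agent.S0078.result p F hF).1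
    let Φ : (Fin (Module.finrank k V) → k) → Ideal (MvPolynomial (Fin (Module.finrank k V)) k) :=
      fun x => MvPolynomial.vanishingIdeal k {x}
    let T := {M : Ideal (MvPolynomial (Fin (Module.finrank k V)) k) | q ≤ M ∧ M.IsMaximal}
    have hT : T.Finite := by
      refine Set.Finite.subset (((hfin.image fun v i => b.repr v i)).image Φ) ?_
      rintro M ⟨hqM, hM⟩
      obtain ⟨x, rfl⟩ := MvPolynomial.isMaximal_iff_eq_vanishingIdeal_singleton.1 hM
      refine ⟨x, ⟨∑ i, x i • b i, ?_, funext fun i => by simp [Finsupp.single_apply]⟩, rfl⟩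
      have hx : ∀ j, ∑ i, x i ^ p * A i j = x j := fun j => by
        have := (MvPolynomial.mem_vanishingIdeal_singleton_iff x _).1 (hqM (hP j))
        simpa [P, sub_eq_zero, mul_comm] using this
      refine b.repr.injective (Finsupp.ext fun j => ?_)
      simp [hF, Finsupp.finsetSum_apply, ← hx j, A, Finsupp.single_apply]
    have hq : q.IsMaximal := by
      have hj : q.jacobson = q := IsJacobsonRing.out' q (Ideal.IsPrime.isRadical ‹q.IsPrime›)
      have hle : hT.toFinset.inf id ≤ q := by
        rw [Finset.inf_id_eq_sInf, Set.Finite.coe_toFinset]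
        exact hj.le
      obtain ⟨M, hM, hMq⟩ := (Ideal.IsPrime.inf_le' ‹q.IsPrime›).1 hle
      rw [Set.Finite.mem_toFinset] at hM
      exact (le_antisymm hM.1 hMq : q = M) ▸ hM.2
    obtain ⟨x, hx⟩ := MvPolynomial.isMaximal_iff_eq_vanishingIdeal_singleton.1 hq
    have hcx : ∀ i, c i = algebraMap k k' (x i) := fun i => by
      have : MvPolynomial.X i - MvPolynomial.C (x i) ∈ q := by
        rw [hx, MvPolynomial.mem_vanishingIdeal_singleton_iff]
        simp
      simpa [q, RingHom.mem_ker, sub_eq_zero] using this
    have hwx : (1 : k') ⊗ₜ[k] (∑ i, x i • b i) = w := by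
      rw [hw', TensorProduct.tmul_sum]
      refine Finset.sum_congr rfl fun i _ => ?_
      rw [hcx i, ← TensorProduct.smul_tmul, Algebra.algebraMap_eq_smul_one]
    refine ⟨∑ i, x i • b i, ?_, hwx⟩
    simp only [Set.mem_setOf_eq]
    refine b.repr.injective (Finsupp.ext fun j => (algebraMap k k').injective ?_)
    have h1 : F' w = w := hw
    rw [← hwx, hF', one_pow] at h1
    simpa [hrepr] using congrArg (fun z => b'.repr z j) h1

end Groth.Agent.S6639
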