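import Groth.Statements.S6640
import Groth.Agent.EtPtsLib.GermEq
-- import your own Groth.Agent.* helpers here

set_option autoImplicit false
open CategoryTheory CategoryTheory.Limits AlgebraicGeometry Opposite
set_option backward.isDefEq.respectTransparency false
universe u
open EtCore

namespace Groth.Agent.S6640

/-- Let X be an irreducible scheme, ξ a geometric point over its generic point, A' an additive subgroup
of an abelian group A, and G an abelian sheaf on the small etale site of X with monomorphisms a :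
const A' ⟶ G and b : G ⟶ const A whose composite is the map of constant sheaves induced by the
inclusion. If the stalk of a at ξ is an isomorphism, then a is an isomorphism. -/
theorem result {X : Scheme.{u}} [IrreducibleSpace ↥X]
    {Ω : Type u} [Field Ω] [IsSepClosed Ω] (ξ : Spec (CommRingCat.of Ω) ⟶ X)
    (hξ : ξ.base default = genericPoint ↥X)
    (A : Type) [AddCommGroup A] (A' : AddSubgroup A) (G : EtCoh.Ab X)
    (a : EtCoh.const X ↥A' ⟶ G) (b : G ⟶ EtCoh.const X A) [Mono a] [Mono b]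
    (hab : a ≫ b = (constantSheaf X.smallEtaleTopology AddCommGrpCat.{u + 1}).map
      (AddCommGrpCat.ofHom (AddEquiv.ulift.symm.toAddMonoidHom.comp (A'.subtype.comp AddEquiv.ulift.toAddMonoidHom))))
    (hst : IsIso ((EtCoh.stalk ξ).map a)) : IsIso a := by
  let ι₀ : AddCommGrpCat.of (ULift.{u + 1} ↥A') ⟶ AddCommGrpCat.of (ULift.{u + 1} A) :=
    AddCommGrpCat.ofHom (AddEquiv.ulift.symm.toAddMonoidHom.comp (A'.subtype.comp AddEquiv.ulift.toAddMonoidHom))
  have hnat : ∀ (U : X.Etale) (c : ULift.{u + 1} ↥A'),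
      b.hom.app (op U) (a.hom.app (op U) (Groth.Agent.EtPtsLib.cst _ U c)) = Groth.Agent.EtPtsLib.cst _ U (ι₀ c) := by
    intro U c
    refine Eq.trans ?_ (ConcreteCategory.congr_hom (Groth.Agent.EtPtsLib.cst_naturality ι₀ U) c)
    rw [← hab]
    rfl
  haveI : Epi a := (Groth.Agent.EtPtsLib.epi_iff_ab a).2 fun Ω' _ _ ζ t => by
    obtain ⟨U, l, s, rfl⟩ := (Scheme.pointSmallEtale ζ).toPresheafFiber_jointly_surjective t
    obtain ⟨c, hc⟩ := (Groth.Agent.EtPtsLib.germ_cst_bijective ζ _ l).2
      (Groth.Agent.EtPtsLib.germ ζ (EtCoh.const X A) l (b.hom.app (op U) s))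
    obtain ⟨V, g, y, hy, hV⟩ := ((Scheme.pointSmallEtale ζ).toPresheafFiber_eq_iff' U l _ _).1 hc
    haveI : AlgebraicGeometry.Etale V.hom := V.prop
    obtain ⟨v, hv⟩ : genericPoint ↥X ∈ Set.range V.hom :=
      ((genericPoint_spec ↥X).mem_open_set_iff V.hom.isOpenMap.isOpen_range).2
        ⟨_, Set.mem_univ _, Groth.Agent.EtPtsLib.liftHom ζ y default, rfl⟩
    obtain ⟨l₀, -⟩ := Scheme.pointSmallEtaleFiberObjToPreimage_surjective ξ hξ V ⟨v, hv⟩
    obtain ⟨z, hz⟩ := (ConcreteCategory.bijective_of_isIso ((EtCoh.stalk ξ).map a)).2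
      (Groth.Agent.EtPtsLib.germ ξ G l₀ (G.obj.map g.op s))
    obtain ⟨c', rfl⟩ := (Groth.Agent.EtPtsLib.germ_cst_bijective ξ _ l₀).2 z
    have hbs : b.hom.app (op V) (G.obj.map g.op s) = Groth.Agent.EtPtsLib.cst _ V c := by
      rw [NatTrans.naturality_apply, ← hV]
      exact ConcreteCategory.congr_hom (Groth.Agent.EtPtsLib.cst_map _ g) c
    replace hz : Groth.Agent.EtPtsLib.germ ξ G l₀ (a.hom.app (op V) (Groth.Agent.EtPtsLib.cst _ V c')) =
        Groth.Agent.EtPtsLib.germ ξ G l₀ (G.obj.map g.op s) :=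
      ((Scheme.pointSmallEtale ξ).toPresheafFiber_naturality_apply a.hom V l₀ _).symm.trans hz
    have hcc : ι₀ c' = c := by
      refine (Groth.Agent.EtPtsLib.germ_cst_bijective ξ _ l₀).1 ?_
      have h := congrArg ((EtCoh.stalk ξ).map b) hz
      replace h := (((Scheme.pointSmallEtale ξ).toPresheafFiber_naturality_apply b.hom V l₀ _).symm.trans h).trans
        ((Scheme.pointSmallEtale ξ).toPresheafFiber_naturality_apply b.hom V l₀ _)
      rwa [hnat, hbs] at h
    refine ⟨Groth.Agent.EtPtsLib.germ ζ _ y (Groth.Agent.EtPtsLib.cst _ V c'), (Groth.Agent.EtPtsLib.mono_iff_ab b).1 inferInstance Ω' ζ ?_⟩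
    refine (congrArg _ ((Scheme.pointSmallEtale ζ).toPresheafFiber_naturality_apply a.hom V y _)).trans ?_
    refine ((Scheme.pointSmallEtale ζ).toPresheafFiber_naturality_apply b.hom V y _).trans ?_
    rw [hnat, hcc, ← hbs]
    refine ((Scheme.pointSmallEtale ζ).toPresheafFiber_naturality_apply b.hom V y _).symm.trans (congrArg _ ?_)
    rw [← hy]
    exact Groth.Agent.EtPtsLib.germ_map ζ G g y s
  exact isIso_of_mono_of_epi a

end Groth.Agent.S6640
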