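import Groth.Statements.S6647
import Groth.Agent.FLCLib.Hom
-- import your own Groth.Agent.* helpers here

set_option autoImplicit false
open CategoryTheory CategoryTheory.Limits AlgebraicGeometry Opposite
set_option backward.isDefEq.respectTransparency false
universe u
open EtCore

namespace Groth.Agent.S6647

/-- Let φ : F ⟶ G be a map of locally constant abelian sheaves on the small etale site of a scheme X,
with F finite locally constant. Then on the members of some etale covering of X the restriction of φ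
is, up to isomorphisms with constant sheaves on both sides, the map of constant sheaves induced by a
homomorphism of abelian groups. -/
theorem result {X : Scheme.{u}} (F G : EtCoh.Ab X) (φ : F ⟶ G)
    (hF : EtCoh.IsFiniteLocallyConstant F) (hG : EtRest.IsLocallyConstant G) :
    ∃ (ι : Type u) (U : ι → X.Etale), EtCoh.Covers U ∧ ∀ i, ∃ (M N : Type (u + 1)) (_ : AddCommGroup M) (_ : AddCommGroup N)
      (h : M →+ N)
      (α : EtCoh.restr F (U i) ≅ (constantSheaf (X.smallEtaleTopology.over (U i)) AddCommGrpCat.{u + 1}).obj (AddCommGrpCat.of M))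
      (β : EtCoh.restr G (U i) ≅ (constantSheaf (X.smallEtaleTopology.over (U i)) AddCommGrpCat.{u + 1}).obj (AddCommGrpCat.of N)),
      (X.smallEtaleTopology.overPullback AddCommGrpCat.{u + 1} (U i)).map φ ≫ β.hom = α.hom ≫ (constantSheaf (X.smallEtaleTopology.over (U i)) AddCommGrpCat.{u + 1}).map (AddCommGrpCat.ofHom h) := by
  have hFc := (FLCLib.finiteLocallyConstant_iff F).1 hF
  have hGc := (FLCLib.locallyConstant_iff G).1 hG
  have key : ∀ x : X, ∃ (W : X.Etale) (M N : AddCommGrpCat.{u + 1}) (θ : M ⟶ F.obj.obj (op W))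
      (η : N ⟶ G.obj.obj (op W)) (h : M ⟶ N), x ∈ Set.range W.hom ∧ FLCLib.IsConstOn F W θ ∧
        FLCLib.IsConstOn G W η ∧ θ ≫ φ.hom.app (op W) = h ≫ η := fun x => by
    obtain ⟨U, M, θ, hx, hM, hθ⟩ := hFc x
    obtain ⟨V, N, η, hx', -, hη⟩ := hGc x
    obtain ⟨l⟩ := FLCLib.exists_geomPt_lift hx
    obtain ⟨l'⟩ := FLCLib.exists_geomPt_lift hx'
    haveI : Finite M := hM
    obtain ⟨p, g, g', h, e⟩ := FLCLib.exists_groupHom φ hη l l' (θ := θ)
    exact ⟨p.1, M, N, _, _, h, by have := FLCLib.Nbhd.mem_range _ p; rwa [EtPtsLib.geomPt_default] at this,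
      hθ.map g.1, hη.map g'.1, by rw [Category.assoc]; exact e⟩
  choose W M N θ η h hx hθ hη he using key
  refine ⟨X, W, fun x => ⟨x, (hx x).choose, (hx x).choose_spec⟩, fun x => ?_⟩
  obtain ⟨a, ha⟩ := FLCLib.exists_iso_of_isConstOn F (W x) (M x) (hθ x)
  obtain ⟨b, hb⟩ := FLCLib.exists_iso_of_isConstOn G (W x) (N x) (hη x)
  refine ⟨M x, N x, inferInstance, inferInstance, (h x).hom, a, b, ?_⟩
  let K := X.smallEtaleTopology.over (W x)
  have : a.inv ≫ (X.smallEtaleTopology.overPullback AddCommGrpCat.{u + 1} (W x)).map φ =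
      (constantSheaf K AddCommGrpCat.{u + 1}).map (h x) ≫ b.inv := by
    refine ((sheafificationAdjunction K AddCommGrpCat.{u + 1}).homEquiv _ _).injective ?_
    refine (Adjunction.homEquiv_naturality_right _ _ _).trans ?_
    refine Eq.trans ?_ (Adjunction.homEquiv_naturality_left _ ((Functor.const _).map (h x)) b.inv).symm
    rw [ha, hb]
    ext V : 2
    show (θ x ≫ F.obj.map V.unop.hom.op) ≫ φ.hom.app (op V.unop.left) = h x ≫ η x ≫ G.obj.map V.unop.hom.op
    rw [Category.assoc, φ.hom.naturality, ← Category.assoc, he, Category.assoc]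
  exact (((Iso.inv_comp_eq a).1 this) =≫ b.hom).trans (by simp [K])

end Groth.Agent.S6647
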