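import Groth.Statements.S6649
import Groth.Agent.GrSegreLib.Dim
import Groth.Agent.C1Lib.TrDeg
import Groth.Agent.C1Lib.Forms
import Groth.Agent.C1Lib.Brauer
import Mathlib

set_option autoImplicit false
open CategoryTheory CategoryTheory.Limits AlgebraicGeometry Opposite
universe u
open Curves

namespace Groth.Agent.S6649

/-- For a curve C over an algebraically closed field k (C integral of dimension one, separated and of
finite type over k) the Brauer group of the function field of C is zero: every finite-dimensional
central division algebra over the function field has dimension one. -/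
theorem result (k : Type u) [Field k] [IsAlgClosed k] (C : Scheme.{u})
    (f : C ⟶ Spec (CommRingCat.of k)) [IsSeparated f] [LocallyOfFiniteType f] [QuasiCompact f] [IsIntegral C]
    (hdim : topologicalKrullDim ↥C = 1)
    (D : Type u) [DivisionRing D] [Algebra ↑C.functionField D] [Algebra.IsCentral ↑C.functionField D]
    [FiniteDimensional ↑C.functionField D] : Module.finrank ↑C.functionField D = 1 := by
  classical
  haveI : Nonempty C := inferInstance
  obtain ⟨U, hU, hxU, -⟩ := exists_isAffineOpen_mem_and_subset (x := genericPoint C) (U := ⊤) trivial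
  haveI : Nonempty U := ⟨⟨_, hxU⟩⟩
  letI : Algebra k Γ(C, U) :=
    (((Scheme.ΓSpecIso (CommRingCat.of k)).inv ≫ f.appLE ⊤ U le_top).hom).toAlgebra
  haveI : Algebra.FiniteType k Γ(C, U) := by
    have h1 : (f.appLE ⊤ U le_top).hom.FiniteType :=
      LocallyOfFiniteType.finiteType_appLE f (isAffineOpen_top _) hU le_top
    exact RingHom.finiteType_algebraMap.1
      (h1.comp (RingHom.FiniteType.of_surjective _ (Scheme.ΓSpecIso (CommRingCat.of k)).symm.commRingCatIsoToRingEquiv.surjective))
  haveI : IsFractionRing Γ(C, U) C.functionField := functionField_isFractionRing_of_isAffineOpen C U hU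
  haveI : IsDomain Γ(C, U) := inferInstance
  letI : Algebra k C.functionField := ((algebraMap Γ(C, U) C.functionField).comp (algebraMap k Γ(C, U))).toAlgebra
  haveI : IsScalarTower k Γ(C, U) C.functionField := IsScalarTower.of_algebraMap_eq fun r => rfl
  obtain ⟨t, g, hg, hint⟩ := exists_integral_inj_algHom_of_fg k Γ(C, U)
  have ht : t ≤ 1 := by
    have h1 : ringKrullDim Γ(C, U) ≤ 1 := by
      rw [← PrimeSpectrum.topologicalKrullDim_eq_ringKrullDim Γ(C, U)]
      change topologicalKrullDim (Spec Γ(C, U)) ≤ 1
      rw [← IsHomeomorph.topologicalKrullDim_eq _ hU.isoSpec.hom.homeomorph.isHomeomorph, ← hdim]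
      exact topologicalKrullDim_subspace_le C U
    rw [← GrSegreLib.ringKrullDim_eq_of_integral_injective g.toRingHom hg hint,
      MvPolynomial.ringKrullDim_of_isNoetherianRing, ringKrullDim_eq_zero_of_field] at h1
    simp only [Nat.card_eq_fintype_card, Fintype.card_fin, zero_add] at h1
    exact_mod_cast h1
  let x : Fin t → C.functionField := fun i => algebraMap Γ(C, U) C.functionField (g (MvPolynomial.X i))
  have hx : AlgebraicIndependent k x := by
    have h0 : AlgebraicIndependent k (fun i => g (MvPolynomial.X i)) :=
      (MvPolynomial.algebraicIndependent_X (Fin t) k).map' hg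
    exact h0.map' (f := IsScalarTower.toAlgHom k Γ(C, U) C.functionField) (IsFractionRing.injective _ _)
  haveI : Algebra.IsAlgebraic (Algebra.adjoin k (Set.range x)) C.functionField := by
    let ψ : MvPolynomial (Fin t) k →+* Algebra.adjoin k (Set.range x) :=
      (MvPolynomial.aeval x).toRingHom.codRestrict _ (fun p => by
        rw [Algebra.adjoin_range_eq_range_aeval]
        exact ⟨p, rfl⟩)
    letI : Algebra (MvPolynomial (Fin t) k) Γ(C, U) := g.toRingHom.toAlgebra
    letI : Algebra (MvPolynomial (Fin t) k) C.functionField :=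
      ((algebraMap Γ(C, U) C.functionField).comp g.toRingHom).toAlgebra
    haveI : IsScalarTower (MvPolynomial (Fin t) k) Γ(C, U) C.functionField :=
      IsScalarTower.of_algebraMap_eq fun r => rfl
    haveI : Algebra.IsIntegral (MvPolynomial (Fin t) k) Γ(C, U) := ⟨hint⟩
    haveI : Algebra.IsAlgebraic (MvPolynomial (Fin t) k) Γ(C, U) := Algebra.IsIntegral.isAlgebraic
    haveI : Algebra.IsAlgebraic Γ(C, U) C.functionField :=
      IsLocalization.isAlgebraic C.functionField (nonZeroDivisors Γ(C, U))
    haveI : NoZeroDivisors Γ(C, U) := inferInstance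
    haveI : Algebra.IsAlgebraic (MvPolynomial (Fin t) k) C.functionField :=
      Algebra.IsAlgebraic.trans (MvPolynomial (Fin t) k) Γ(C, U) C.functionField
    letI : Algebra (MvPolynomial (Fin t) k) (Algebra.adjoin k (Set.range x)) := ψ.toAlgebra
    haveI : IsScalarTower (MvPolynomial (Fin t) k) (Algebra.adjoin k (Set.range x)) C.functionField := by
      refine IsScalarTower.of_algebraMap_eq fun p => ?_
      show algebraMap Γ(C, U) C.functionField (g p) = MvPolynomial.aeval x p
      exact DFunLike.congr_fun (MvPolynomial.algHom_ext (σ := Fin t) (R := k)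
        (f := (IsScalarTower.toAlgHom k Γ(C, U) C.functionField).comp g) (g := MvPolynomial.aeval x)
        fun i => by simp [x]) p
    refine Algebra.IsAlgebraic.extendScalars (R := MvPolynomial (Fin t) k) ?_
    intro p q h
    exact hx (congrArg Subtype.val h)
  have hb : IsTranscendenceBasis k x := hx.isTranscendenceBasis_iff_isAlgebraic.2 inferInstance
  have hk : Curves.IsCi k 0 := fun r n f' d hf hd h =>
    C1Lib.exists_zero_of_isAlgClosed f' d hf hd (by simpa using h)
  have hC : Curves.IsCi C.functionField (0 + t) := C1Lib.isCi_add_of_isTranscendenceBasis x hb hk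
  refine C1Lib.finrank_eq_one_of_isCr_one (fun n d f' hf hd hlt => ?_)
  obtain ⟨a, ha, ha'⟩ := hC 1 n (fun _ => f') (fun _ => d) (fun _ => hf) (fun _ => hd) (by
    rw [Finset.sum_const, Finset.card_univ, Fintype.card_fin, one_smul]
    refine lt_of_le_of_lt ?_ hlt
    rw [pow_one, zero_add]
    rcases Nat.le_one_iff_eq_zero_or_eq_one.1 ht with rfl | rfl
    · rw [pow_zero]; omega
    · rw [pow_one])
  exact ⟨a, ha, ha' 0⟩

end Groth.Agent.S6649
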