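import Groth.Statements.S6653
import Groth.Agent.EtTraceLib.CurveDiv

set_option autoImplicit false
open CategoryTheory CategoryTheory.Limits AlgebraicGeometry Opposite
universe u
open Curves

set_option backward.isDefEq.respectTransparency false

namespace Groth.Agent.S6653

/-- The fundamental exact sequence: with the divisor map left unnamed: let X be a smooth curve over an
algebraically closed field k (here: X integral of dimension one, smooth, separated and of finite
type over k), let j : Spec O_{X,η} ⟶ X be the canonical morphism from the spectrum of the local ring
at the generic point, and for a closed point x let i_x : Spec κ(x) ⟶ X be its inclusion. Then the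
canonical map G_{m,X} ⟶ j_* G_{m,η} is a monomorphism, and its cokernel is isomorphic to the direct
sum over all closed points of the sheaves (i_x)_* Z (existence of an isomorphism only; the direct
sum is given as any colimit cofan of that family). -/
theorem result (k : Type u) [Field k] [IsAlgClosed k] (X : Scheme.{u})
    (f : X ⟶ Spec (CommRingCat.of k)) [Smooth f] [IsSeparated f] [LocallyOfFiniteType f] [QuasiCompact f] [IsIntegral X]
    (hdim : topologicalKrullDim ↥X = 1)
    (c : Cofan fun x : {x : ↥X // IsClosed ({x} : Set ↥X)} =>
      (EtCoh.push (X.fromSpecResidueField x.1)).obj (EtCoh.const (Spec (X.residueField x.1)) ℤ))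
    (hc : IsColimit c) :
    Mono (EtLim.GmPush (X.fromSpecStalk (genericPoint ↥X))) ∧
      Nonempty (cokernel (EtLim.GmPush (X.fromSpecStalk (genericPoint ↥X))) ≅ c.pt) := by
  haveI := Groth.Agent.EtTraceLib.locallyNoetherian_over k f
  exact Groth.Agent.EtTraceLib.nonempty_cokernel_iso (Groth.Agent.EtTraceLib.regular_of_smooth_over k f)
    (Groth.Agent.EtTraceLib.reindexIsColimit (X := X) (Groth.Agent.EtTraceLib.closedEquiv hdim) (fun x => x.1) hc)

end Groth.Agent.S6653
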