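import Groth.Statements.S6654
import Groth.Agent.S6646
-- import your own Groth.Agent.* helpers here
set_option backward.isDefEq.respectTransparency false
set_option backward.isDefEq.respectTransparency.types false
set_option maxHeartbeats 1000000

set_option autoImplicit false
open CategoryTheory CategoryTheory.Limits AlgebraicGeometry Opposite
universe u
open EtModW

namespace Groth.Agent.S6654

section
open CategoryTheory CategoryTheory.Limits AlgebraicGeometry Opposite Groth.Agent Groth.Agent.FLCLib.Mdl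
  Groth.Agent.EtPtsLib Groth.Agent.S6646

variable {Λ : Type (u + 1)} [CommRing Λ] {X : Scheme.{u}}

/-- Constant sections. -/
noncomputable abbrev cst (M : ModuleCat.{u + 1} Λ) (V : X.Etale) :
    M ⟶ ((constantSheaf X.smallEtaleTopology (ModuleCat.{u + 1} Λ)).obj M).obj.obj (op V) :=
  (CategoryTheory.toSheafify X.smallEtaleTopology ((Functor.const X.Etaleᵒᵖ).obj M)).app (op V)

theorem isConstOn_cst (M : ModuleCat.{u + 1} Λ) (V : X.Etale) :
    IsConstOn ((constantSheaf X.smallEtaleTopology (ModuleCat.{u + 1} Λ)).obj M) V (cst M V) := fun Ω _ _ ξ l => by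
  let Φ := Scheme.pointSmallEtale ξ
  let P := (Functor.const X.Etaleᵒᵖ).obj M
  have hb : Function.Bijective (Φ.presheafFiber.map (CategoryTheory.toSheafify X.smallEtaleTopology P)) :=
    ConcreteCategory.bijective_of_isIso _
  have hP : Function.Bijective fun m : M => Φ.toPresheafFiber V l P m := by
    constructor
    · intro m m' h
      have hd := congrArg (fun z => (Φ.presheafFiberDesc (P := P) (fun _ _ => 𝟙 M) (by intros; simp [P])) z) h
      simpa [← ConcreteCategory.comp_apply, P] using hd
    · intro z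
      obtain ⟨V', v, m, rfl⟩ := Φ.toPresheafFiber_jointly_surjective z
      obtain ⟨S, g₁, g₂, -⟩ := IsCofilteredOrEmpty.cone_objs (C := Φ.fiber.Elements) ⟨V, l⟩ ⟨V', v⟩
      refine ⟨m, ?_⟩
      have e₁ := Φ.toPresheafFiber_w_apply g₁.1 S.2 P m
      have e₂ := Φ.toPresheafFiber_w_apply g₂.1 S.2 P m
      rw [show Φ.fiber.map g₁.1 S.2 = l from g₁.2] at e₁
      rw [show Φ.fiber.map g₂.1 S.2 = v from g₂.2] at e₂
      exact e₁.symm.trans e₂
  have e : (fun m : M => germM ξ _ l (cst M V m)) =
      Φ.presheafFiber.map (CategoryTheory.toSheafify X.smallEtaleTopology P) ∘ fun m : M => Φ.toPresheafFiber V l P m :=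
    funext fun m => (Φ.toPresheafFiber_naturality_apply (CategoryTheory.toSheafify X.smallEtaleTopology P) V l m).symm
  exact e ▸ hb.comp hP

theorem cst_naturality {M N : ModuleCat.{u + 1} Λ} (h : M ⟶ N) (V : X.Etale) (m : M) :
    ((constantSheaf X.smallEtaleTopology (ModuleCat.{u + 1} Λ)).map h).hom.app (op V) (cst M V m) = cst N V (h m) :=
  (ConcreteCategory.congr_hom (NatTrans.congr_app
    (CategoryTheory.toSheafify_naturality X.smallEtaleTopology ((Functor.const X.Etaleᵒᵖ).map h)) (op V)) m).symm

theorem isIso_of_stalk_generic [IrreducibleSpace ↥X] {Ω : Type u} [Field Ω] [IsSepClosed Ω]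
    (ξ : Spec (CommRingCat.of Ω) ⟶ X) (hξ : ξ.base default = genericPoint ↥X) {N M : ModuleCat.{u + 1} Λ} (i : N ⟶ M)
    (G : EtModW.Mod Λ X) (a : (constantSheaf X.smallEtaleTopology (ModuleCat.{u + 1} Λ)).obj N ⟶ G)
    (b : G ⟶ (constantSheaf X.smallEtaleTopology (ModuleCat.{u + 1} Λ)).obj M) [Mono a] [Mono b]
    (hab : a ≫ b = (constantSheaf X.smallEtaleTopology (ModuleCat.{u + 1} Λ)).map i)
    (hst : IsIso ((EtModW.stalk Λ ξ).map a)) : IsIso a := by
  have hb' : ∀ x : X, Function.Surjective (stk (geomPt x) a) := by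
    intro x z
    obtain ⟨V, l, s, rfl⟩ := (Scheme.pointSmallEtale (geomPt x)).toPresheafFiber_jointly_surjective z
    obtain ⟨m, hm⟩ := (isConstOn_cst M V _ (geomPt x) l).2 (germM (geomPt x) _ l (b.hom.app (op V) s))
    obtain ⟨W, g, y, hy, hg⟩ :=
      ((Scheme.pointSmallEtale (geomPt x)).toPresheafFiber_eq_iff' V l _ _).1 hm
    have hgm : b.hom.app (op W) (G.obj.map g.op s) = cst M W m := by
      refine (NatTrans.naturality_apply b.hom g.op s).trans (hg.symm.trans ?_)
      exact (NatTrans.naturality_apply (CategoryTheory.toSheafify X.smallEtaleTopology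
        ((Functor.const X.Etaleᵒᵖ).obj M)) g.op m).symm
    haveI : AlgebraicGeometry.Etale W.hom := W.prop
    have hη : genericPoint ↥X ∈ Set.range W.hom :=
      ((genericPoint_spec ↥X).mem_open_set_iff W.hom.isOpenMap.isOpen_range).2
        ⟨W.hom (liftHom (geomPt x) y default), trivial, Set.mem_range_self _⟩
    obtain ⟨w, hw⟩ := hη
    obtain ⟨l', -⟩ := Scheme.pointSmallEtaleFiberObjToPreimage_surjective ξ hξ W ⟨w, hw⟩
    obtain ⟨z', hz'⟩ := (ConcreteCategory.bijective_of_isIso ((EtModW.stalk Λ ξ).map a)).2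
      (germM ξ G l' (G.obj.map g.op s))
    obtain ⟨n, hn⟩ := (isConstOn_cst N W Ω ξ l').2 z'
    have hnm : i n = m := (isConstOn_cst M W Ω ξ l').1 <| by
      show germM ξ _ l' (cst M W (i n)) = germM ξ _ l' (cst M W m)
      rw [← cst_naturality, ← hab, ← hgm, ← stk_germ, ← stk_germ, stk_comp]
      exact congrArg (stk ξ b) ((congrArg (stk ξ a) hn).trans hz')
    refine ⟨germM (geomPt x) _ y (cst N W n), stk_injective (geomPt x) b ?_⟩
    rw [← stk_comp, hab, stk_germ, cst_naturality, hnm, ← hgm, ← stk_germ, germM_map, hy]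
    rfl
  haveI : Sheaf.IsLocallyInjective a := SitePts.isLocallyInjective (EtPtsLib.detects X) a.hom
    fun x => stk_injective (geomPt x) a
  haveI : Sheaf.IsLocallySurjective a := SitePts.isLocallySurjective (EtPtsLib.detects X) a.hom fun x => hb' x
  exact (Sheaf.isLocallyBijective_iff_isIso a).1 ⟨inferInstance, inferInstance⟩

end

/-- Let X be an irreducible scheme, ξ a geometric point over its generic point, Λ a commutative ring, M'
a submodule of a Λ-module M, and G a sheaf of Λ-modules on the small etale site of X with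
monomorphisms a : const M' ⟶ G and b : G ⟶ const M whose composite is the map of constant sheaves
induced by the inclusion. If the stalk of a at ξ is an isomorphism, then a is an isomorphism. -/
theorem result (Λ : Type (u + 1)) [CommRing Λ] {X : Scheme.{u}} [IrreducibleSpace ↥X]
    {Ω : Type u} [Field Ω] [IsSepClosed Ω] (ξ : Spec (CommRingCat.of Ω) ⟶ X)
    (hξ : ξ.base default = genericPoint ↥X)
    (M : Type (u + 1)) [AddCommGroup M] [Module Λ M] (M' : Submodule Λ M) (G : EtModW.Mod Λ X)
    (a : EtModW.constMod Λ X ↥M' ⟶ G) (b : G ⟶ EtModW.constMod Λ X M) [Mono a] [Mono b]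
    (hab : a ≫ b = (constantSheaf X.smallEtaleTopology (ModuleCat.{u + 1} Λ)).map (ModuleCat.ofHom M'.subtype))
    (hst : IsIso ((EtModW.stalk Λ ξ).map a)) : IsIso a := by
  exact isIso_of_stalk_generic ξ hξ (ModuleCat.ofHom M'.subtype) G a b hab hst

end Groth.Agent.S6654
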