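import Groth.Statements.S6655
import Groth.Agent.S6646
-- import your own Groth.Agent.* helpers here
set_option backward.isDefEq.respectTransparency false
set_option backward.isDefEq.respectTransparency.types false
set_option maxHeartbeats 1000000

set_option autoImplicit false
open CategoryTheory CategoryTheory.Limits AlgebraicGeometry Opposite
universe u
open EtModW

namespace Groth.Agent.S6655

section
open CategoryTheory CategoryTheory.Limits AlgebraicGeometry Opposite Groth.Agent Groth.Agent.FLCLib.Mdl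
  Groth.Agent.EtPtsLib Groth.Agent.S6646

variable {Λ : Type (u + 1)} [CommRing Λ] {X : Scheme.{u}}

/-- The map from the constant sheaf defined by sections. -/
noncomputable def psiHom (F : EtModW.Mod Λ X) (U : X.Etale) (M : ModuleCat.{u + 1} Λ) (θ : M ⟶ F.obj.obj (op U)) :
    (constantSheaf (X.smallEtaleTopology.over U) (ModuleCat.{u + 1} Λ)).obj M ⟶ F.over U :=
  ((sheafificationAdjunction (X.smallEtaleTopology.over U) (ModuleCat.{u + 1} Λ)).homEquiv _ _).symm (psi F U M θ)

theorem isIso_psiHom (F : EtModW.Mod Λ X) (U : X.Etale) (M : ModuleCat.{u + 1} Λ) {θ : M ⟶ F.obj.obj (op U)}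
    (h : IsConstOn F U θ) : IsIso (psiHom F U M θ) := by
  let K := X.smallEtaleTopology.over U
  let P : (Over U)ᵒᵖ ⥤ ModuleCat.{u + 1} Λ := (Functor.const (Over U)ᵒᵖ).obj M
  haveI := isLocallyInjective_psi F U M h
  haveI := isLocallySurjective_psi F U M h
  let φ : (presheafToSheaf K (ModuleCat.{u + 1} Λ)).obj P ⟶ F.over U :=
    ((sheafificationAdjunction K (ModuleCat.{u + 1} Λ)).homEquiv P (F.over U)).symm (psi F U M θ)
  have fac : CategoryTheory.toSheafify K P ≫ φ.hom = psi F U M θ := by
    have := ((sheafificationAdjunction K (ModuleCat.{u + 1} Λ)).homEquiv P (F.over U)).apply_symm_apply (psi F U M θ)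
    rwa [Adjunction.homEquiv_unit] at this
  haveI : Sheaf.IsLocallyInjective φ :=
    Presheaf.isLocallyInjective_of_isLocallyInjective_of_isLocallySurjective_fac K (psi F U M θ) fac
  haveI : Sheaf.IsLocallySurjective φ := Presheaf.isLocallySurjective_of_isLocallySurjective_fac K fac
  exact (Sheaf.isLocallyBijective_iff_isIso φ).1 ⟨inferInstance, inferInstance⟩

theorem psiHom_naturality {F G : EtModW.Mod Λ X} (φ : F ⟶ G) (U : X.Etale) {M N : ModuleCat.{u + 1} Λ}
    (a : M ⟶ F.obj.obj (op U)) (b : N ⟶ G.obj.obj (op U)) (h : M ⟶ N) (hsq : a ≫ φ.hom.app (op U) = h ≫ b) :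
    (constantSheaf (X.smallEtaleTopology.over U) (ModuleCat.{u + 1} Λ)).map h ≫ psiHom G U N b =
      psiHom F U M a ≫ (X.smallEtaleTopology.overPullback (ModuleCat.{u + 1} Λ) U).map φ := by
  let A := sheafificationAdjunction (X.smallEtaleTopology.over U) (ModuleCat.{u + 1} Λ)
  refine (A.homEquiv_naturality_left_symm (Y := G.over U) ((Functor.const (Over U)ᵒᵖ).map h) (psi G U N b)).symm.trans
    (Eq.trans ?_ (A.homEquiv_naturality_right_symm (Y := F.over U) (psi F U M a) _))
  refine congrArg _ (NatTrans.ext (funext fun V => ?_))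
  show h ≫ b ≫ G.obj.map V.unop.hom.op = (a ≫ F.obj.map V.unop.hom.op) ≫ φ.hom.app (op V.unop.left)
  rw [← Category.assoc, ← hsq, Category.assoc, Category.assoc, φ.hom.naturality]

/-- Near each point a map of locally constant sheaves is constant. -/
theorem exists_square {F G : EtModW.Mod Λ X} (φ : F ⟶ G) (hF : EtModW.IsFTLocConst Λ F)
    (hG : EtModW.IsFTLocConst Λ G) (x : X) :
    ∃ (W : X.Etale) (_ : (Scheme.pointSmallEtale (geomPt x)).fiber.obj W) (M N : ModuleCat.{u + 1} Λ)
      (a : M ⟶ F.obj.obj (op W)) (b : N ⟶ G.obj.obj (op W)) (h : M ⟶ N),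
      IsConstOn F W a ∧ IsConstOn G W b ∧ a ≫ φ.hom.app (op W) = h ≫ b := by
  obtain ⟨W₀, l₀, M, N, hM, hN, a₀, b₀, ha₀, hb₀⟩ := exists_pair hF hG x
  obtain ⟨ψ, hψ⟩ := exists_germ_lift (geomPt x) hb₀ l₀ (a₀ ≫ φ.hom.app (op W₀))
  obtain ⟨W, g, l, -, hg⟩ := exists_refine_linear (geomPt x) l₀ (a₀ ≫ φ.hom.app (op W₀)) (ψ ≫ b₀)
    fun m => (hψ m).symm
  refine ⟨W, l, M, N, a₀ ≫ F.obj.map g.op, b₀ ≫ G.obj.map g.op, ψ, ha₀.map g, hb₀.map g, ?_⟩
  rw [Category.assoc, φ.hom.naturality, ← Category.assoc, hg, Category.assoc]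

end

/-- Part (3): with both sheaves of finite type: let Λ be a commutative ring and φ : F ⟶ G a map of
finite type locally constant sheaves of Λ-modules on the small etale site of a scheme X. Then on the
members of some etale covering of X the restriction of φ is, up to isomorphisms with constant
sheaves on both sides, the map of constant sheaves induced by a Λ-linear map. (The published
statement allows G to be any locally constant sheaf of Λ-modules; this row assumes G of finite type
as well.) -/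
theorem result (Λ : Type (u + 1)) [CommRing Λ] {X : Scheme.{u}} (F G : EtModW.Mod Λ X)
    (φ : F ⟶ G) (hF : EtModW.IsFTLocConst Λ F) (hG : EtModW.IsFTLocConst Λ G) :
    ∃ (ι : Type u) (U : ι → X.Etale), EtCoh.Covers U ∧ ∀ i, ∃ (M N : Type (u + 1)) (_ : AddCommGroup M) (_ : AddCommGroup N)
      (_ : Module Λ M) (_ : Module Λ N) (h : M →ₗ[Λ] N)
      (α : EtModW.restr Λ F (U i) ≅ (constantSheaf (X.smallEtaleTopology.over (U i)) (ModuleCat.{u + 1} Λ)).obj (ModuleCat.of Λ M))
      (β : EtModW.restr Λ G (U i) ≅ (constantSheaf (X.smallEtaleTopology.over (U i)) (ModuleCat.{u + 1} Λ)).obj (ModuleCat.of Λ N)),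
      (X.smallEtaleTopology.overPullback (ModuleCat.{u + 1} Λ) (U i)).map φ ≫ β.hom =
        α.hom ≫ (constantSheaf (X.smallEtaleTopology.over (U i)) (ModuleCat.{u + 1} Λ)).map (ModuleCat.ofHom h) := by
  choose W l M N a b h ha hb hsq using exists_square φ hF hG
  refine ⟨X, W, fun x => ⟨x, Groth.Agent.EtPtsLib.liftHom (Groth.Agent.EtPtsLib.geomPt x) (l x) default, ?_⟩, fun x => ?_⟩
  · exact (congrArg (fun q : Spec (CommRingCat.of (SeparableClosure (X.residueField x))) ⟶ X => q default)
      (Groth.Agent.EtPtsLib.liftHom_comp (Groth.Agent.EtPtsLib.geomPt x) (l x))).trans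
        (Groth.Agent.EtPtsLib.geomPt_default x)
  · haveI := isIso_psiHom F (W x) (M x) (ha x)
    haveI := isIso_psiHom G (W x) (N x) (hb x)
    refine ⟨M x, N x, inferInstance, inferInstance, inferInstance, inferInstance, (h x).hom,
      (asIso (psiHom F (W x) (M x) (a x))).symm, (asIso (psiHom G (W x) (N x) (b x))).symm, ?_⟩
    simp only [Iso.symm_hom, asIso_inv]
    rw [IsIso.comp_inv_eq, Category.assoc, IsIso.eq_inv_comp]
    exact (psiHom_naturality φ (W x) (a x) (b x) (h x) (hsq x)).symm

end Groth.Agent.S6655
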