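import Groth.Statements.S6656
import Groth.Agent.EtFlasqueLib.Eval
import Groth.Agent.EtPtsLib.Conditions

set_option autoImplicit false
open CategoryTheory CategoryTheory.Limits AlgebraicGeometry Opposite
universe u
open EtCore

namespace Groth.Agent.S6656

open CategoryTheory CategoryTheory.Limits AlgebraicGeometry

set_option backward.isDefEq.respectTransparency false
set_option backward.isDefEq.respectTransparency.types false

open Groth.Agent.CechInjective Groth.Agent.EtFlasqueLib Groth.Agent.EtPtsLib Opposite Simplicial CategoryTheory CategoryTheory.Limits AlgebraicGeometry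

variable {X : Scheme.{u}} {U : X.Etale} [HasFiniteProducts (Over U)] {ι : Type (u + 1)} {Uf : ι → Over U} {V : Over U}

theorem coprod_props [Finite ι] (incl : ∀ i, Uf i ⟶ V)
    (hV : IsColimit (Cofan.mk V.left.left fun i => (incl i).left.left)) :
    (∀ i, IsOpenImmersion (incl i).left.left) ∧
    (∀ i j, i ≠ j → Disjoint (Set.range (incl i).left.left) (Set.range (incl j).left.left)) ∧
    ∀ y : V.left.left, ∃ i, y ∈ Set.range (incl i).left.left := by
  haveI : Small.{u} ι := small_of_injective (f := (Finite.equivFin ι)) (Finite.equivFin ι).injective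
  let g := fun i => (Uf i).left.left
  let e := (coproductIsCoproduct g).coconePointUniqueUpToIso hV
  have he : ∀ i, Sigma.ι g i ≫ e.hom = (incl i).left.left := fun i =>
    IsColimit.comp_coconePointUniqueUpToIso_hom (coproductIsCoproduct g) hV ⟨i⟩
  refine ⟨fun i => he i ▸ inferInstance, fun i j hij => ?_, fun y => ?_⟩
  · rw [Set.disjoint_left]
    rintro _ ⟨a, rfl⟩ ⟨b, hb⟩
    rw [← he, ← he, Scheme.Hom.comp_apply, Scheme.Hom.comp_apply] at hb
    exact hij (congrArg Sigma.fst ((sigmaι_eq_iff g _ _ _ _).1 (e.hom.homeomorph.injective hb))).symm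
  · obtain ⟨i, z, hz⟩ := (sigmaOpenCover g).exists_eq (e.inv y)
    refine ⟨i, z, ?_⟩
    rw [← he, Scheme.Hom.comp_apply]
    exact (congrArg e.hom hz).trans (by simp [← Scheme.Hom.comp_apply])

/-- The singleton family. -/
abbrev one (V : Over U) : PUnit.{u + 2} → Over U := fun _ => V

variable (incl : ∀ i, Uf i ⟶ V)

/-- The image of a point. -/
noncomputable def push {n : ℕ} {W : X.Etale} (p : Pt Uf n W) : Pt (one V) n W :=
  Pt.lift p.base (fun a => ⟨PUnit.unit, (p.comp a).2 ≫ (incl (p.comp a).1).left⟩)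
    fun a => by rw [Category.assoc, Over.w, p.comp_w]

theorem push_comp {n : ℕ} {W : X.Etale} (p : Pt Uf n W) (a : Fin (n + 1)) :
    (push incl p).comp a = ⟨PUnit.unit, (p.comp a).2 ≫ (incl (p.comp a).1).left⟩ :=
  Pt.comp_lift _ _ _ a

theorem push_base {n : ℕ} {W : X.Etale} (p : Pt Uf n W) : (push incl p).base = p.base :=
  Pt.base_lift _ _ _

theorem push_mk' {n : ℕ} {W W' : X.Etale} (g : W' ⟶ W) (p : Pt Uf n W) :
    Pt.mk' (push incl p).1 (g ≫ (push incl p).hom) = push incl (Pt.mk' p.1 (g ≫ p.hom)) := by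
  refine Pt.ext ?_ fun a => ?_
  · rw [base_mk', push_base, push_base, base_mk']
  · rw [comp_mk', push_comp, push_comp, comp_mk']
    simp only [Category.assoc]

theorem push_ptMap {m n : ℕ} (θ : ⦋m⦌ ⟶ ⦋n⦌) {W : X.Etale} (p : Pt Uf n W) :
    ptMap (one V) θ W (push incl p) = push incl (ptMap Uf θ W p) := by
  refine Pt.ext ?_ fun a => ?_
  · rw [ptMap_base, push_base, push_base, ptMap_base]
  · rw [ptMap_comp, push_comp, push_comp, ptMap_comp]

theorem mk'_self {n : ℕ} {W : X.Etale} (p : Pt Uf n W) : Pt.mk' p.1 (p.hom ≫ (idPt Uf p.1).hom) = p := by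
  rw [show (idPt Uf p.1).hom = _ from Pt.hom_mk' _ _, Category.comp_id]
  exact Sigma.ext rfl (heq_of_eq (Equiv.apply_symm_apply _ _))

variable (F : EtCoh.Ab X)

theorem ev_push {n : ℕ} (c : Coch (one V) F.obj n) {W : X.Etale} (p : Pt Uf n W) :
    ev Uf (mkCoch Uf fun i => ev (one V) c (push incl (idPt Uf i))) p = ev (one V) c (push incl p) := by
  refine (ev_mkCoch Uf _ p).trans ((ev_comp (one V) c p.hom _).trans ?_)
  rw [push_mk']
  exact congrArg (fun z => ev (one V) c (push incl z)) (mk'_self p)

/-- The comparison in one degree. -/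
noncomputable def phi (n : ℕ) : Coch (one V) F.obj n →+ Coch Uf F.obj n :=
  AddMonoidHom.mk' (fun c => mkCoch Uf fun i => ev (one V) c (push incl (idPt Uf i))) fun c c' =>
    coch_ext Uf fun {W} p => by
      have hadd : ∀ {κ : Type (u + 1)} (G : κ → Over U) (a b : Coch G F.obj n) {W : X.Etale} (q : Pt G n W),
          ev G (a + b) q = ev G a q + ev G b q := fun G a b W q => by simp only [ev, map_add]
      rw [ev_push, hadd, hadd, ev_push, ev_push]

theorem ev_phi {n : ℕ} (c : Coch (one V) F.obj n) {W : X.Etale} (p : Pt Uf n W) :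
    ev Uf (phi incl F n c) p = ev (one V) c (push incl p) :=
  ev_push incl F c p

theorem phi_d (n : ℕ) (c : Coch (one V) F.obj n) :
    phi incl F (n + 1) ((EtCech.cechComplex (one V) F.obj).d n (n + 1) c) =
      ((EtCech.cechComplex Uf F.obj).d n (n + 1) (phi incl F n c) : Coch Uf F.obj (n + 1)) := by
  refine coch_ext Uf fun {W} p => ?_
  rw [ev_phi, ev_d (one V) n c, ev_d Uf n]
  refine Finset.sum_congr rfl fun k _ => ?_
  rw [ev_phi, push_ptMap]

theorem exists_decomp {n : ℕ} [Finite ι] (hV : IsColimit (Cofan.mk V.left.left fun i => (incl i).left.left))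
    {W : X.Etale} (q : Pt (one V) n W) :
    ∃ (O : (Fin (n + 1) → ι) → W.left.Opens) (p : ∀ x, Pt Uf n (openSub W (O x))),
      (∀ x y, x ≠ y → Disjoint (O x) (O y)) ∧ (∀ w, ∃ x, w ∈ O x) ∧
      (∀ x, push incl (p x) = Pt.mk' q.1 (openIncl W (O x) ≫ q.hom)) ∧
      ∀ {W' : X.Etale} (g : W' ⟶ W) (r : Pt Uf n W'), push incl r = Pt.mk' q.1 (g ≫ q.hom) →
        ∃ g' : W' ⟶ openSub W (O r.1), g' ≫ openIncl W (O r.1) = g ∧ r = Pt.mk' (p r.1).1 (g' ≫ (p r.1).hom) := by
  obtain ⟨ho, hd, hc⟩ := coprod_props incl hV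
  let R : ι → V.left.left.Opens := fun i => @Scheme.Hom.opensRange _ _ (incl i).left.left (ho i)
  let O : (Fin (n + 1) → ι) → W.left.Opens := fun x => ⨅ a, (q.comp a).2.left ⁻¹ᵁ R (x a)
  have hle : ∀ x a, O x ≤ (q.comp a).2.left ⁻¹ᵁ R (x a) := fun x a => iInf_le _ a
  have hf : ∀ x a, Set.range ((O x).ι ≫ (q.comp a).2.left : (O x).toScheme ⟶ V.left.left) ⊆
      Set.range (incl (x a)).left.left := by
    rintro x a _ ⟨z, rfl⟩
    exact hle x a z.2
  let l : ∀ x a, openSub W (O x) ⟶ (Uf (x a)).left := fun x a =>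
    haveI := ho (x a)
    MorphismProperty.Over.homMk (IsOpenImmersion.lift (incl (x a)).left.left _ (hf x a)) (by
      rw [← MorphismProperty.Over.w (incl (x a)).left, ← Category.assoc, IsOpenImmersion.lift_fac, Category.assoc,
        MorphismProperty.Over.w]
      rfl)
  have hl : ∀ x a, l x a ≫ (incl (x a)).left = openIncl W (O x) ≫ (q.comp a).2 := fun x a =>
    haveI := ho (x a)
    MorphismProperty.Over.Hom.ext (IsOpenImmersion.lift_fac _ _ _)
  let p : ∀ x, Pt Uf n (openSub W (O x)) := fun x =>
    Pt.lift (openIncl W (O x) ≫ q.base) (fun a => ⟨x a, l x a⟩) fun a => by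
      show l x a ≫ (Uf (x a)).hom = _
      rw [← Over.w (incl (x a)), ← Category.assoc, hl, Category.assoc]
      exact congrArg _ (q.comp_w a)
  refine ⟨O, p, fun x y hxy => ?_, fun w => ?_, fun x => ?_, fun {W'} g r hr => ?_⟩
  · obtain ⟨a, ha⟩ := Function.ne_iff.1 hxy
    rw [← TopologicalSpace.Opens.coe_disjoint, Set.disjoint_left]
    intro w hw hw'
    exact Set.disjoint_left.1 (hd _ _ ha) (hle x a hw) (hle y a hw')
  · choose x hx using fun a => hc ((q.comp a).2.left w)
    refine ⟨x, ?_⟩
    show w ∈ ((⨅ a, (q.comp a).2.left ⁻¹ᵁ R (x a) : W.left.Opens) : Set W.left)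
    rw [TopologicalSpace.Opens.coe_iInf]
    simp only [Set.mem_iInter]
    exact hx
  · refine Pt.ext ?_ fun a => ?_
    · rw [push_base, base_mk', Pt.base_lift]
    · rw [push_comp, comp_mk', Pt.comp_lift]
      exact Sigma.ext rfl (heq_of_eq (hl x a))
  · have hcomp : ∀ a, (r.comp a).2 ≫ (incl (r.1 a)).left = g ≫ (q.comp a).2 := fun a => by
      have h1 := push_comp incl r a
      rw [hr, comp_mk'] at h1
      exact (eq_of_heq (Sigma.ext_iff.1 h1).2).symm
    have hrange : Set.range g.left ⊆ Set.range (O r.1).ι := by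
      rw [Scheme.Opens.range_ι]
      rintro _ ⟨w, rfl⟩
      show g.left w ∈ ((⨅ a, (q.comp a).2.left ⁻¹ᵁ R (r.1 a) : W.left.Opens) : Set W.left)
      rw [TopologicalSpace.Opens.coe_iInf]
      simp only [Set.mem_iInter]
      exact fun a => ⟨(r.comp a).2.left w, congrArg (fun m => m.left w) (hcomp a)⟩
    let g' : W' ⟶ openSub W (O r.1) := MorphismProperty.Over.homMk (IsOpenImmersion.lift (O r.1).ι g.left hrange) (by
      show IsOpenImmersion.lift (O r.1).ι g.left hrange ≫ (O r.1).ι ≫ W.hom = W'.hom
      rw [← Category.assoc, IsOpenImmersion.lift_fac]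
      exact MorphismProperty.Over.w g)
    have hg' : g' ≫ openIncl W (O r.1) = g := MorphismProperty.Over.Hom.ext (IsOpenImmersion.lift_fac _ _ _)
    refine ⟨g', hg', Pt.ext ?_ fun a => ?_⟩
    · rw [base_mk', Pt.base_lift, ← Category.assoc, hg', ← push_base incl r, hr, base_mk']
    · rw [comp_mk', Pt.comp_lift]
      refine Sigma.ext rfl (heq_of_eq ?_)
      haveI := ho (r.1 a)
      refine MorphismProperty.Over.Hom.ext ((cancel_mono (incl (r.1 a)).left.left).1 ?_)
      have h2 := congrArg (fun m => m.left) ((hcomp a).trans (show _ = (g' ≫ l r.1 a) ≫ (incl (r.1 a)).left by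
        rw [Category.assoc, hl, ← Category.assoc, hg']))
      exact h2

theorem phi_bijective [Finite ι] (hV : IsColimit (Cofan.mk V.left.left fun i => (incl i).left.left)) (n : ℕ) :
    Function.Bijective (phi incl F n) := by
  obtain ⟨ho, hd, hc⟩ := coprod_props incl hV
  let F' : Sheaf X.smallEtaleTopology (Type (u + 1)) :=
    (sheafCompose X.smallEtaleTopology (forget AddCommGrpCat.{u + 1})).obj F
  refine ⟨fun c c' h => coch_ext (one V) fun {W} q => ?_, fun c => ?_⟩
  · obtain ⟨O, p, -, hcov, hp, -⟩ := exists_decomp incl hV q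
    refine sect_eq_of_cover F' W _ _ fun w => ?_
    obtain ⟨x, hx⟩ := hcov w
    refine ⟨_, openIncl W (O x), ⟨w, hx⟩, rfl, ?_⟩
    show F.obj.map _ _ = F.obj.map _ _
    rw [ev_comp, ev_comp, ← hp, ← ev_phi, ← ev_phi, h]
  · choose O p hO hcov _ hfac using fun i : ((E (one V)).obj (op ⦋n⦌)).I => exists_decomp incl hV (idPt (one V) i)
    choose t ht using fun i => exists_glue F' _ (O i) (hO i) (hcov i) fun x => ev Uf c (p i x)
    refine ⟨mkCoch (one V) t, coch_ext Uf fun {W} r => ?_⟩
    rw [ev_phi]
    refine (ev_mkCoch (one V) t _).trans ?_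
    obtain ⟨g', hg', hr'⟩ := hfac _ (push incl r).hom r (mk'_self (push incl r)).symm
    conv_rhs => rw [hr']
    rw [← ev_comp, ← hg', op_comp, Functor.map_comp_apply]
    exact congrArg (F.obj.map g'.op) (ht _ r.1)

/-- The comparison of Čech complexes. -/
noncomputable def comparison [Finite ι] (hV : IsColimit (Cofan.mk V.left.left fun i => (incl i).left.left)) :
    EtCech.cechComplex Uf F.obj ≅ EtCech.cechComplex (one V) F.obj :=
  (HomologicalComplex.Hom.isoOfComponents
    (fun n => (AddEquiv.ofBijective (phi incl F n) (phi_bijective incl F hV n)).toAddCommGrpIso)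
    (fun i j (hij : i + 1 = j) => by
      subst hij
      exact ConcreteCategory.hom_ext _ _ fun c => (phi_d incl F i c).symm)).symm

/-- Let F be an abelian sheaf on the small etale site of a scheme X, U an etale X-scheme, {U_i ⟶ U} a
finite family of etale X-schemes over U, and V ⟶ U an etale X-scheme over U with U-morphisms U_i ⟶ V
making the underlying scheme of V the coproduct (disjoint union) of the U_i. Then the Čech complex
of F for the family {U_i ⟶ U} and the Čech complex of F for the single morphism {V ⟶ U} are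
isomorphic cochain complexes (existence of an isomorphism; fibre products over U in the small etale
site are carried as the finite-products binder of the Čech complex). (The published statement is for
a standard covering, whose members are affine; this row allows any finite family with V their
disjoint union, which the same argument covers.) -/
theorem result {X : Scheme.{u}} (F : EtCoh.Ab X) (U : X.Etale)
    [HasFiniteProducts (Over U)] {ι : Type (u + 1)} [Finite ι] (Uf : ι → Over U)
    (V : Over U) (incl : ∀ i, Uf i ⟶ V)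
    (hV : IsColimit (Cofan.mk V.left.left fun i => (incl i).left.left)) :
    Nonempty (EtCech.cechComplex Uf F.obj ≅ EtCech.cechComplex (fun _ : PUnit.{u + 2} => V) F.obj) := by
  exact ⟨comparison incl F hV⟩

end Groth.Agent.S6656
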