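import Groth.Statements.S6659
import Groth.Agent.DerPushLib.Adj
import Groth.Agent.S0654
import Groth.Agent.S0648
import Groth.Agent.S0101
import Groth.Agent.EtPtsLib.Immersion
import Groth.Agent.EtJCont.Basic
import Groth.Agent.FLCLib.Filtration

set_option backward.isDefEq.respectTransparency false
set_option backward.isDefEq.respectTransparency.types false
set_option linter.style.haveILetI false
set_option maxHeartbeats 1000000
set_option synthInstance.maxHeartbeats 400000

set_option autoImplicit false
universe u
open CategoryTheory CategoryTheory.Limits AlgebraicGeometry Opposite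
attribute [local instance] HasDerivedCategory.standard
open EtDual

namespace Groth.Agent.S6659

/-- Let i : Z → X be a closed immersion of schemes with open complement j : U → X. The direct image i_*
of abelian etale sheaves is exact (its right exactness is carried as an instance hypothesis), and
the induced functor D(Z_et) → D(X_et) is fully faithful; an object K of D(X_et) lies in its
essential image if and only if every cohomology sheaf of K has zero restriction to U, i.e. K has
cohomology sheaves supported on Z. (The identification of the quasi-inverse with the derived functor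
of sections supported on Z is not part of this row.) -/
theorem result {Z X U : Scheme.{u}} (i : Z ⟶ X)
    [IsClosedImmersion i] (j : U ⟶ X) [IsOpenImmersion j] (hZU : Set.range j = (Set.range i)ᶜ)
    [PreservesFiniteColimits (EtCoh.push i)] :
    ((EtCoh.push i).mapDerivedCategory.Full ∧ (EtCoh.push i).mapDerivedCategory.Faithful) ∧
      ∀ K : DCoh.DEt X,
        (EtCoh.push i).mapDerivedCategory.essImage K ↔
          ∀ n : ℤ, IsZero ((EtCoh.pull j).obj (DCoh.HDEt K n)) := by
  haveI : PreservesFiniteLimits (EtCoh.pull i) := Groth.Agent.S0101.result i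
  haveI : (EtCoh.pull i).IsLeftAdjoint := (EtCoh.pullPushAdj i).isLeftAdjoint
  haveI : (EtCoh.push i).IsRightAdjoint := (EtCoh.pullPushAdj i).isRightAdjoint
  haveI : (EtCoh.pull i).Additive := Functor.additive_of_preserves_binary_products _
  haveI : (EtCoh.push i).Additive := Functor.additive_of_preserves_binary_products _
  haveI : PreservesFiniteColimits (EtCoh.pull i) := by
    haveI : PreservesColimitsOfSize.{0, 0} (EtCoh.pull i) := (EtCoh.pullPushAdj i).leftAdjoint_preservesColimits
    exact PreservesColimitsOfSize.preservesFiniteColimits _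
  haveI : PreservesFiniteLimits (EtCoh.push i) := by
    haveI : PreservesLimitsOfSize.{0, 0} (EtCoh.push i) := (EtCoh.pullPushAdj i).rightAdjoint_preservesLimits
    exact PreservesLimitsOfSize.preservesFiniteLimits _
  have hc : ∀ G, IsIso ((EtCoh.pullPushAdj i).counit.app G) := fun G => Groth.Agent.EtPtsLib.isIso_counit_immersion i G
  refine ⟨Groth.Agent.DerPushLib.fullyFaithful_mapDerived (EtCoh.pullPushAdj i) hc, fun K => ⟨?_, fun hK => ?_⟩⟩
  · rintro ⟨L, ⟨e⟩⟩ n
    let L₀ := DerivedCategory.Q.objPreimage L
    obtain ⟨e'⟩ := Groth.Agent.DerPushLib.nonempty_homology_iso (F := EtCoh.push i) L₀ n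
    let e₁ : DCoh.HDEt K n ≅ (EtCoh.push i).obj (L₀.homology n) :=
      (DerivedCategory.homologyFunctor _ n).mapIso (e.symm ≪≫
        (EtCoh.push i).mapDerivedCategory.mapIso (DerivedCategory.Q.objObjPreimageIso L).symm) ≪≫ e'
    haveI : (EtCoh.pull j).IsLeftAdjoint := (EtCoh.pullPushAdj j).isLeftAdjoint
    refine IsZero.of_iso ?_ ((EtCoh.pull j).mapIso e₁)
    rw [Groth.Agent.EtPtsLib.isZero_iff_ab]
    intro Ω _ _ ζ
    refine IsZero.of_iso (Groth.Agent.EtPtsLib.isZero_stalk_push_ab i (ζ ≫ j) i.isClosedEmbedding.isClosed_range ?_ _)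
      ((Groth.Agent.EtPtsLib.pullStalkIso j ζ AddCommGrpCat.{u + 1}).app _)
    intro h
    have h2 : (ζ ≫ j) default ∈ Set.range j := ⟨_, rfl⟩
    rw [hZU] at h2
    exact h2 h
  · let K₀ := DerivedCategory.Q.objPreimage K
    refine Functor.essImage.ofIso (DerivedCategory.Q.objObjPreimageIso K)
      (Groth.Agent.DerPushLib.mem_essImage_of_quasiIso (EtCoh.pullPushAdj i) K₀ ?_)
    let V : X.Opens := j.opensRange
    have hV : (V : Set X) = (Set.range i.base)ᶜ := hZU
    haveI := Groth.Agent.EtJCont.jCont V.ι
    let Φ := EtShriek.restrAlong V.ι ⋙ EtShriek.extZero V.ι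
    haveI : PreservesFiniteLimits (EtShriek.extZero V.ι) := Groth.Agent.S0648.result V.ι
    haveI : PreservesFiniteColimits (EtShriek.extZero V.ι) := by
      haveI := (EtShriek.extZeroAdj V.ι).leftAdjoint_preservesColimits.{0, 0}
      exact PreservesColimitsOfSize.preservesFiniteColimits _
    haveI : PreservesFiniteLimits (EtShriek.restrAlong V.ι) :=
      haveI : (EtShriek.restrAlong V.ι).IsRightAdjoint := (EtShriek.extZeroAdj V.ι).isRightAdjoint
      inferInstance
    haveI : PreservesFiniteColimits (EtShriek.restrAlong V.ι) := by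
      haveI : PreservesColimitsOfSize.{0, 0} (EtShriek.restrAlong V.ι) :=
        (Groth.Agent.EtPtsLib.restrPushAdj V.ι).leftAdjoint_preservesColimits
      exact PreservesColimitsOfSize.preservesFiniteColimits _
    haveI : Φ.Additive := Functor.additive_of_preserves_binary_products _
    let f : (Φ.mapHomologicalComplex (ComplexShape.up ℤ)).obj K₀ ⟶ K₀ :=
      { f := fun m => (EtShriek.extZeroAdj V.ι).counit.app (K₀.X m)
        comm' := fun a b _ => ((EtShriek.extZeroAdj V.ι).counit.naturality (K₀.d a b)).symm }
    let g := (Groth.Agent.DerPushLib.adjHC (EtCoh.pullPushAdj i) (ComplexShape.up ℤ)).unit.app K₀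
    have hfg : f ≫ g = 0 := HomologicalComplex.hom_ext _ _ fun m => (Groth.Agent.S0654.result i V hV (K₀.X m)).1
    have hS : (ShortComplex.mk f g hfg).ShortExact :=
      HomologicalComplex.shortExact_of_degreewise_shortExact _ fun m => (Groth.Agent.S0654.result i V hV (K₀.X m)).2
    have h1 : ∀ n, IsZero (((Φ.mapHomologicalComplex (ComplexShape.up ℤ)).obj K₀).homology n) := fun n => by
      haveI : PreservesFiniteLimits Φ := comp_preservesFiniteLimits _ _
      haveI : PreservesFiniteColimits Φ := comp_preservesFiniteColimits _ _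
      refine IsZero.of_iso ?_ ((K₀.sc n).mapHomologyIso Φ)
      refine (EtShriek.extZero V.ι).map_isZero (IsZero.of_iso ?_ ((Groth.Agent.EtPtsLib.pullIsoRestr V.ι).app (K₀.homology n)).symm)
      rw [Groth.Agent.EtPtsLib.isZero_iff_ab]
      intro Ω _ _ ζ
      have hmem : (ζ ≫ V.ι) default ∈ Set.range j := by
        rw [Scheme.Hom.comp_apply]
        exact (ζ default).2
      obtain ⟨ζ', hζ'⟩ := Groth.Agent.EtPtsLib.exists_comp_eq j (ζ ≫ V.ι) hmem
      let eH : DCoh.HDEt K n ≅ K₀.homology n :=
        (DerivedCategory.homologyFunctor _ n).mapIso (DerivedCategory.Q.objObjPreimageIso K).symm ≪≫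
          (DerivedCategory.homologyFunctorFactors _ n).app K₀
      have hz : IsZero ((EtCoh.stalk ζ').obj ((EtCoh.pull j).obj (K₀.homology n))) :=
        (EtCoh.stalk ζ').map_isZero ((hK n).of_iso ((EtCoh.pull j).mapIso eH).symm)
      have hz' : IsZero ((EtCoh.stalk (ζ ≫ V.ι)).obj (K₀.homology n)) := by
        rw [← hζ']
        exact hz.of_iso ((Groth.Agent.EtPtsLib.pullStalkIso j ζ' AddCommGrpCat.{u + 1}).app _).symm
      exact hz'.of_iso ((Groth.Agent.EtPtsLib.pullStalkIso V.ι ζ AddCommGrpCat.{u + 1}).app _)
    refine ⟨fun n => ?_⟩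
    rw [quasiIsoAt_iff_isIso_homologyMap]
    haveI : Mono (HomologicalComplex.homologyMap g n) := (hS.homology_exact₂ n).mono_g ((h1 n).eq_of_src _ _)
    haveI : Epi (HomologicalComplex.homologyMap g n) :=
      (hS.homology_exact₃ n (n + 1) rfl).epi_f ((h1 (n + 1)).eq_of_tgt _ _)
    exact isIso_of_mono_of_epi _

end Groth.Agent.S6659
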