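import Groth.Statements.S6660
import Groth.Agent.BCVertLib.Connecting
import Groth.Agent.BCVertLib.KilledEfface
import Groth.Agent.S0101

set_option autoImplicit false
set_option backward.isDefEq.respectTransparency false
set_option backward.isDefEq.respectTransparency.types false
set_option linter.style.haveILetI false
set_option maxHeartbeats 400000
universe u
open CategoryTheory CategoryTheory.Limits AlgebraicGeometry Opposite
open EtBC

namespace Groth.Agent.S6660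

/-- Comparison of two cokernels through an exact sequence at the first map. -/
theorem exists_mono_cokernel {A : Type*} [Category* A] [Abelian A] {P Q P' Q' R : A} (bF : P ⟶ Q) (bG : P' ⟶ Q')
    (p : P ⟶ P') (s : Q ⟶ Q') (hsq : p ≫ bG = bF ≫ s) (t : Q' ⟶ R) (hG0 : bG ≫ t = 0) (v : Q ⟶ R)
    (hv : v = s ≫ t) (hF0 : bF ≫ v = 0) (hex : (ShortComplex.mk bF v hF0).Exact) :
    ∃ φ : cokernel bF ⟶ cokernel bG, Mono φ ∧ cokernel.π bF ≫ φ = s ≫ cokernel.π bG := by
  let φ : cokernel bF ⟶ cokernel bG := cokernel.desc bF (s ≫ cokernel.π bG) (by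
    rw [← Category.assoc, ← hsq, Category.assoc, cokernel.condition, comp_zero])
  refine ⟨φ, ?_, cokernel.π_desc _ _ _⟩
  haveI : Mono (cokernel.desc bF v hF0) := hex.mono_cokernelDesc
  suffices hh : φ ≫ cokernel.desc bG t hG0 = cokernel.desc bF v hF0 from mono_of_mono_fac hh
  dsimp only [φ]
  apply coequalizer.hom_ext
  rw [cokernel.π_desc, cokernel.π_desc_assoc, Category.assoc, cokernel.π_desc, hv]

/-- Let f : X → S be a morphism of schemes and n, q integers with q ≥ 1, and assume BC(f, n, q − 1).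
Here BC(f, n, q − 1) means: for every base change f₁ : X₁ → S₁ of f along a morphism S₁ → S, every
cartesian square Y₁ = X₁ ×_{S₁} T₁ over a quasi-compact quasi-separated g₁ : T₁ → S₁ (with h₁ : Y₁ →
X₁, e₁ : Y₁ → T₁), and every abelian sheaf G on the small etale site of T₁ killed by n, the base
change map f₁⁻¹ R^a g₁,_* G → R^a h₁,_* e₁⁻¹ G is an isomorphism for all a ≤ q − 1. Then for every
base change f' : X' → S' of f, every cartesian square Y = X' ×_{S'} T over a quasi-compact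
quasi-separated g : T → S' (h : Y → X', e : Y → T) and every abelian sheaf F on the small etale site
of T killed by n: (1) the degree-q base change map f'⁻¹ R^q g_* F → R^q h_* e⁻¹ F is a monomorphism;
(2) for every monomorphism F → G with G killed by n, the map from the cokernel of the degree-q base
change map for F to the cokernel of the one for G induced by F → G is a monomorphism. -/
theorem result {X S : Scheme.{u}} (f : X ⟶ S) (n q : ℕ) (hq : 1 ≤ q)
    (hBC : (∀ ⦃S₁ X₁ T₁ Y₁ : Scheme.{u}⦄ (p₁ : S₁ ⟶ S) (f₁ : X₁ ⟶ S₁) (r₁ : X₁ ⟶ X),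
        IsPullback r₁ f₁ f p₁ →
        ∀ (g₁ : T₁ ⟶ S₁) (h₁ : Y₁ ⟶ X₁) (e₁ : Y₁ ⟶ T₁) (c₁ : IsPullback e₁ h₁ g₁ f₁)
          [QuasiCompact g₁] [QuasiSeparated g₁] [PreservesFiniteLimits (EtCoh.pull e₁)]
          (G₁ : EtCoh.Ab T₁), EtCoh.KilledBy n G₁ →
          ∀ q₁ : ℕ, q₁ ≤ q - 1 → IsIso (EtBC.bcQ g₁ f₁ h₁ e₁ c₁.w q₁ G₁)))
    {S' X' T Y : Scheme.{u}} (p : S' ⟶ S) (f' : X' ⟶ S') (r : X' ⟶ X) (hX : IsPullback r f' f p)
    (g : T ⟶ S') (h : Y ⟶ X') (e : Y ⟶ T) (c : IsPullback e h g f') [QuasiCompact g] [QuasiSeparated g]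
    [PreservesFiniteLimits (EtCoh.pull e)] (F : EtCoh.Ab T) (hF : EtCoh.KilledBy n F) :
    Mono (EtBC.bcQ g f' h e c.w q F) ∧
      ∀ (G : EtCoh.Ab T) (ι : F ⟶ G) [Mono ι], EtCoh.KilledBy n G →
        ∃ φ : cokernel (EtBC.bcQ g f' h e c.w q F) ⟶ cokernel (EtBC.bcQ g f' h e c.w q G), Mono φ ∧
          cokernel.π (EtBC.bcQ g f' h e c.w q F) ≫ φ =
            (EtCoh.Rpush h q).map ((EtCoh.pull e).map ι) ≫ cokernel.π (EtBC.bcQ g f' h e c.w q G) := by
  haveI : PreservesFiniteLimits (EtCoh.pull f') := Groth.Agent.S0101.result f'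
  obtain ⟨q₀, rfl⟩ := Nat.exists_eq_add_of_le' hq
  -- the statement for a monomorphism into an acyclic sheaf killed by `n`
  have key : ∀ (T₀ : EtCoh.Ab T) (u : F ⟶ T₀) [Mono u], EtCoh.KilledBy n T₀ →
      (∀ m : ℕ, IsZero ((EtCoh.Rpush g (m + 1)).obj T₀)) →
      ∃ hz : EtBC.bcQ g f' h e c.w (q₀ + 1) F ≫ (EtCoh.Rpush h (q₀ + 1)).map ((EtCoh.pull e).map u) = 0,
        Mono (EtBC.bcQ g f' h e c.w (q₀ + 1) F) ∧ (ShortComplex.mk _ _ hz).Exact := by
    intro T₀ u _ hT₀ hac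
    let S₀ := ShortComplex.mk u (cokernel.π u) (cokernel.condition u)
    have hS : S₀.ShortExact := ⟨ShortComplex.exact_of_g_is_cokernel _ (cokernelIsCokernel u)⟩
    exact Groth.Agent.BCVertLib.mono_exact_of_acyclic g f' h e c.w hS q₀ (hac q₀)
      (hBC p f' r hX g h e c T₀ hT₀ q₀ (by omega))
      (hBC p f' r hX g h e c (cokernel u) (Groth.Agent.BCVertLib.killedBy_of_epi (cokernel.π u) hT₀) q₀ (by omega))
  refine ⟨?_, fun G ι _ hG => ?_⟩
  · obtain ⟨T₀, u, hu, hT₀, hac⟩ := Groth.Agent.BCVertLib.exists_killed_acyclic g hF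
    haveI := hu
    obtain ⟨_, h₁, _⟩ := key T₀ u hT₀ hac
    exact h₁
  obtain ⟨T₀, u, hu, hT₀, hac⟩ := Groth.Agent.BCVertLib.exists_killed_acyclic g hG
  haveI := hu
  obtain ⟨hz, -, hex⟩ := key T₀ (ι ≫ u) hT₀ hac
  exact exists_mono_cokernel (EtBC.bcQ g f' h e c.w (q₀ + 1) F) (EtBC.bcQ g f' h e c.w (q₀ + 1) G) _ _
    (Groth.Agent.BCVertLib.bcQ_natural g f' h e c.w ι (q₀ + 1))
    ((EtCoh.Rpush h (q₀ + 1)).map ((EtCoh.pull e).map u))
    (by rw [← Groth.Agent.BCVertLib.bcQ_natural, (hac q₀).eq_of_tgt ((EtCoh.Rpush g (q₀ + 1)).map u) 0,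
      Functor.map_zero, zero_comp])
    _ (((EtCoh.Rpush h (q₀ + 1)).map_comp _ _).symm.trans (congrArg _ ((EtCoh.pull e).map_comp ι u).symm)).symm hz hex

end Groth.Agent.S6660
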