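import Groth.Statements.S6666
import Groth.Agent.FieldPtLib.Basic

set_option autoImplicit false
universe u
open CategoryTheory AlgebraicGeometry
open Lim

namespace Groth.Agent.S6666

/-- Let T be a nonempty quasi-compact quasi-separated scheme and P a property of schemes over T (applied
to quasi-compact quasi-separated ones). Assume: (1) for every thickening T'' → T' (a surjective
closed immersion) of quasi-compact quasi-separated schemes over T, P(T'') if and only if P(T'); (2)
if a scheme T' over T is a limit (in schemes over T) of a cofiltered system of quasi-compact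
quasi-separated schemes over T with affine transition morphisms and P holds for every member, then
P(T'); (3) if T' is quasi-compact quasi-separated over T with P(T') and Z ⊂ T' is a closed subscheme
whose open complement V is quasi-compact, then P(V) or P(Z). Then P(T) implies P(Spec K → T) for
some field K and some morphism Spec K → T. (The published statement does not require T nonempty; for
T empty and P identically true there is no morphism from the spectrum of a field to T, so
nonemptiness is assumed here.) -/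
theorem result (T : Scheme.{u}) [CompactSpace T] [QuasiSeparatedSpace T]
    [Nonempty T] (P : ∀ ⦃T' : Scheme.{u}⦄, (T' ⟶ T) → Prop)
    (h1 : ∀ ⦃T' T'' : Scheme.{u}⦄ (a : T' ⟶ T) (t : T'' ⟶ T') [IsClosedImmersion t] [Surjective t]
      [CompactSpace T'] [QuasiSeparatedSpace T'] [CompactSpace T''] [QuasiSeparatedSpace T''], P (t ≫ a) ↔ P a)
    (h2 : ∀ ⦃I : Type u⦄ [SmallCategory I] [IsCofiltered I] (D : I ⥤ Over T) (c : Limits.Cone D) (_ : Limits.IsLimit c),
      (∀ (i j : I) (m : i ⟶ j), IsAffineHom (D.map m).left) →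
      (∀ i, CompactSpace (D.obj i).left ∧ QuasiSeparatedSpace (D.obj i).left) →
      (∀ i, P (D.obj i).hom) → P c.pt.hom)
    (h3 : ∀ ⦃T' Z V : Scheme.{u}⦄ (a : T' ⟶ T) [CompactSpace T'] [QuasiSeparatedSpace T'] (i : Z ⟶ T') [IsClosedImmersion i]
      (j : V ⟶ T') [IsOpenImmersion j] [CompactSpace V], Set.range j = (Set.range i)ᶜ → P a → P (j ≫ a) ∨ P (i ≫ a))
    (hT : P (𝟙 T)) :
    ∃ (K : Type u) (_ : Field K) (t : Spec (CommRingCat.of K) ⟶ T), P t := by
  have key : ∀ (n : ℕ) (T' : Scheme.{u}) (a : T' ⟶ T) (U : Fin n → T'.affineOpens), CompactSpace T' → QuasiSeparatedSpace T' →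
      (⨆ i, (U i).1) = ⊤ → Nonempty T' → P a →
      ∃ (T'' : Scheme.{u}) (b : T'' ⟶ T), IsAffine T'' ∧ Nonempty T'' ∧ P b := by
    intro n
    induction n with
    | zero =>
      intro T' a U _ _ hU hne _
      obtain ⟨x⟩ := hne
      obtain ⟨i, -⟩ := TopologicalSpace.Opens.mem_iSup.mp (hU.ge (show x ∈ (⊤ : T'.Opens) from trivial))
      exact i.elim0
    | succ n ih =>
      intro T' a U hc hqs hU hne hP
      have hsup : ∀ x : T', x ∈ (U 0).1 ∨ ∃ i : Fin n, x ∈ (U i.succ).1 := fun x => by
        obtain ⟨i, hi⟩ := TopologicalSpace.Opens.mem_iSup.mp (hU.ge (show x ∈ (⊤ : T'.Opens) from trivial))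
        obtain rfl | ⟨k, rfl⟩ := i.eq_zero_or_eq_succ
        exacts [Or.inl hi, Or.inr ⟨k, hi⟩]
      by_cases htop : (U 0).1 = ⊤
      · have haff : IsAffineOpen (⊤ : T'.Opens) := htop ▸ (U 0).2
        haveI : IsAffine (⊤ : T'.Opens).toScheme := haff
        exact ⟨T', a, IsAffine.of_isIso T'.topIso.inv, hne, hP⟩
      by_cases hbot : ∃ x : T', x ∈ (U 0).1
      · obtain ⟨x0, hx0⟩ := hbot
        let I : T'.IdealSheafData := .vanishingIdeal ⟨((U 0).1 : Set T')ᶜ, (U 0).1.isOpen.isClosed_compl⟩
        have hrange : Set.range I.subschemeι = ((U 0).1 : Set T')ᶜ := by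
          rw [Scheme.IdealSheafData.range_subschemeι]
          exact Scheme.IdealSheafData.coe_support_vanishingIdeal _
        haveI : CompactSpace ((U 0).1 : T'.Opens).toScheme := isCompact_iff_compactSpace.mp (U 0).2.isCompact
        rcases h3 a I.subschemeι (U 0).1.ι (by rw [hrange, compl_compl, Scheme.Opens.range_ι]) hP with h | h
        · exact ⟨_, (U 0).1.ι ≫ a, (U 0).2, ⟨⟨x0, hx0⟩⟩, h⟩
        · refine ih I.subscheme (I.subschemeι ≫ a) (fun i => ⟨I.subschemeι ⁻¹ᵁ (U i.succ).1, (U i.succ).2.preimage _⟩)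
            (QuasiCompact.compactSpace_of_compactSpace I.subschemeι) (quasiSeparatedSpace_of_quasiSeparated I.subschemeι)
            (eq_top_iff.mpr fun z _ => ?_) ?_ h
          · have hz : I.subschemeι z ∈ ((U 0).1 : Set T')ᶜ := hrange ▸ Set.mem_range_self z
            obtain h0 | ⟨i, hi⟩ := hsup (I.subschemeι z)
            · exact absurd h0 hz
            · exact TopologicalSpace.Opens.mem_iSup.mpr ⟨i, hi⟩
          · obtain ⟨y, hy⟩ : ∃ y : T', y ∉ (U 0).1 := by
              by_contra h'
              push_neg at h'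
              exact htop (eq_top_iff.mpr fun y _ => h' y)
            obtain ⟨z, -⟩ : y ∈ Set.range I.subschemeι := hrange.symm ▸ hy
            exact ⟨z⟩
      · refine ih T' a (fun i => U i.succ) hc hqs (eq_top_iff.mpr fun x _ => ?_) hne hP
        obtain h0 | ⟨i, hi⟩ := hsup x
        · exact absurd ⟨x, h0⟩ hbot
        · exact TopologicalSpace.Opens.mem_iSup.mpr ⟨i, hi⟩
  obtain ⟨t, ht⟩ := isCompact_univ.elim_finite_subcover (fun U : T.affineOpens => (U.1 : Set T)) (fun U => U.1.isOpen)
    (fun y _ => by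
      obtain ⟨_, ⟨V, hV, rfl⟩, hy, -⟩ := T.isBasis_affineOpens.exists_subset_of_mem_open (Set.mem_univ y) isOpen_univ
      exact Set.mem_iUnion.mpr ⟨⟨V, hV⟩, hy⟩)
  obtain ⟨T'', b, _, hne, hb⟩ := key t.card T (𝟙 T) (fun i => (t.equivFin.symm i).1) inferInstance inferInstance
    (eq_top_iff.mpr fun y _ => by
      obtain ⟨V, hV, hy⟩ := Set.mem_iUnion₂.mp (ht (Set.mem_univ y))
      exact TopologicalSpace.Opens.mem_iSup.mpr ⟨t.equivFin ⟨V, hV⟩, by rw [Equiv.symm_apply_apply]; exact hy⟩)
    inferInstance hT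
  haveI : Nonempty ↥(Spec Γ(T'', ⊤)) := hne.map T''.isoSpec.hom
  haveI : Nontrivial Γ(T'', ⊤) := (PrimeSpectrum.nonempty_iff_nontrivial).mp ‹Nonempty ↥(Spec Γ(T'', ⊤))›
  exact FieldPtLib.exists_field (T''.isoSpec.inv ≫ b) P h1 h2 h3 ((h1 b T''.isoSpec.inv).mpr hb)

end Groth.Agent.S6666
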