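import Groth.Statements.S6677
import Groth.Agent.PBCCons.Apply
import Groth.Agent.PBCLib.Final

set_option backward.isDefEq.respectTransparency false
set_option backward.isDefEq.respectTransparency.types false
set_option maxHeartbeats 800000
-- import your own Groth.Agent.* helpers here

set_option autoImplicit false
universe u
open CategoryTheory CategoryTheory.Limits AlgebraicGeometry Opposite
open HTop

namespace Groth.Agent.S6677

/-- For a torsion abelian sheaf, i.e. a complex in degree 0: let X be a scheme and F a torsion abelian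
sheaf on the small etale site of X, and let a_X compare the big ph site of X with the small etale
site. Then the unit F → a_X,_* a_X⁻¹ F is an isomorphism and R^q a_X,_* (a_X⁻¹ F) = 0 for every q >
0. (Continuity of the comparison functor carried as an instance hypothesis.) -/
theorem result (X : Scheme.{u}) [HTop.APhCont X] (F : EtCoh.Ab X)
    (hF : EtCoh.IsTorsion F) :
    IsIso ((HTop.aPhAdj X).unit.app F) ∧
      ∀ q : ℕ, 0 < q → IsZero ((HTop.RaPhPush X q).obj ((HTop.aPhPull X).obj F)) := by
  have hPBC : Groth.Agent.PBCCons.PBC.{u} := fun f hf => @Groth.Agent.PBCLib.bcAll_of_proper _ _ f hf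
  have hac := fun m => Groth.Agent.PBCCons.acycUpTo Groth.Agent.PBCCons.fine_ph hPBC Groth.Agent.PBCCons.phLike_ph m
  haveI : BigSite.AEtCont HTop.phPrecoverage X := ‹HTop.APhCont X›
  haveI := Groth.Agent.PBCCons.Fine.epsCont Groth.Agent.PBCCons.fine_ph X
  refine ⟨Groth.Agent.PBCCons.isIso_piEtAdj_unit' (K := HTop.phPrecoverage) Groth.Agent.PBCCons.fine_ph X F, fun q hq => ?_⟩
  obtain ⟨n, rfl⟩ := Nat.exists_eq_succ_of_ne_zero hq.ne'
  exact Groth.Agent.PBCCons.isZero_RresEt Groth.Agent.PBCCons.fine_ph hac X hF n

end Groth.Agent.S6677
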