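import Groth.Statements.S6678
import Groth.Agent.PBCCons.Apply
import Groth.Agent.PBCLib.Final

set_option backward.isDefEq.respectTransparency false
set_option backward.isDefEq.respectTransparency.types false
set_option maxHeartbeats 800000
-- import your own Groth.Agent.* helpers here

set_option autoImplicit false
universe u
open CategoryTheory CategoryTheory.Limits AlgebraicGeometry Opposite
open HTop

namespace Groth.Agent.S6678

/-- Let X be a scheme, F a torsion abelian sheaf on the small etale site of X and q ≥ 0. Then H^q(X_et,
F) is isomorphic to the cohomology group H^q of the pullback a_X⁻¹ F on the big ph site of X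
(existence of an isomorphism of groups; continuity of the comparison functor carried as an instance
hypothesis). -/
theorem result (X : Scheme.{u}) [HTop.APhCont X] (F : EtCoh.Ab X) (hF : EtCoh.IsTorsion F) (q : ℕ) :
    Nonempty (EtCoh.H X F q ≃+ HTop.HPh X ((HTop.aPhPull X).obj F) q) := by
  have hPBC : Groth.Agent.PBCCons.PBC.{u} := fun f hf => @Groth.Agent.PBCLib.bcAll_of_proper _ _ f hf
  have hac := fun m => Groth.Agent.PBCCons.acycUpTo Groth.Agent.PBCCons.fine_ph hPBC Groth.Agent.PBCCons.phLike_ph m
  haveI : BigSite.AEtCont HTop.phPrecoverage X := ‹HTop.APhCont X›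
  haveI := Groth.Agent.PBCCons.Fine.epsCont Groth.Agent.PBCCons.fine_ph X
  exact Groth.Agent.PBCCons.nonempty_H_equiv Groth.Agent.PBCCons.fine_ph hac X hF q

end Groth.Agent.S6678
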