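import Groth.Statements.S6703
import Mathlib.CategoryTheory.Triangulated.Functor
import Mathlib.CategoryTheory.Adjunction.FullyFaithful
import Mathlib.CategoryTheory.Triangulated.Pretriangulated

set_option autoImplicit false
universe v v' u u'
open CategoryTheory
open DEquiv

namespace Groth.Agent.S6703

open CategoryTheory.Limits CategoryTheory.Pretriangulated in
/-- Let F : D ⥤ D' be an exact functor of triangulated categories admitting both a left and a right
adjoint, and let S be a set of objects of D such that an object K of D is zero as soon as Hom(E,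
K⟦i⟧) = 0 for all E ∈ S and i ∈ ℤ, and also as soon as Hom(K, E⟦i⟧) = 0 for all E ∈ S and i ∈ ℤ. If
for all E, E' ∈ S and i ∈ ℤ the map Hom(E, E'⟦i⟧) → Hom(F E, F (E'⟦i⟧)) given by F is bijective,
then F is full and faithful. -/
theorem result
    {D : Type u} [Category.{v} D] [Preadditive D] [HasZeroObject D] [HasShift D ℤ]
    [∀ n : ℤ, (shiftFunctor D n).Additive] [Pretriangulated D] [IsTriangulated D]
    {D' : Type u'} [Category.{v'} D'] [Preadditive D'] [HasZeroObject D'] [HasShift D' ℤ]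
    [∀ n : ℤ, (shiftFunctor D' n).Additive] [Pretriangulated D'] [IsTriangulated D']
    (F : D ⥤ D') [F.CommShift ℤ] [F.IsTriangulated] [F.IsLeftAdjoint] [F.IsRightAdjoint]
    (S : Set D)
    (h2 : ∀ K : D, (∀ E ∈ S, ∀ (i : ℤ) (f : E ⟶ (shiftFunctor D i).obj K), f = 0) → IsZero K)
    (h3 : ∀ K : D, (∀ E ∈ S, ∀ (i : ℤ) (f : K ⟶ (shiftFunctor D i).obj E), f = 0) → IsZero K)
    (h4 : ∀ E ∈ S, ∀ E' ∈ S, ∀ i : ℤ,
      Function.Bijective (fun f : E ⟶ (shiftFunctor D i).obj E' => F.map f)) :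
    F.Full ∧ F.Faithful := by
  let adj₁ := Adjunction.ofIsLeftAdjoint F
  let adj₂ := Adjunction.ofIsRightAdjoint F
  -- bijectivity of the map on morphisms
  let Bij : D → D → Prop := fun X Y => Function.Bijective (fun f : X ⟶ Y => F.map f)
  have bij_iso : ∀ {X X' Y Y' : D}, (X ≅ X') → (Y ≅ Y') → Bij X Y → Bij X' Y' := by
    intro X X' Y Y' a b h
    refine ⟨fun f g e => ?_, fun ψ => ?_⟩
    · have : a.hom ≫ f ≫ b.inv = a.hom ≫ g ≫ b.inv := h.1 (by
        simp only [Functor.map_comp]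
        exact congrArg (fun t => F.map a.hom ≫ t ≫ F.map b.inv) e)
      simpa using this
    · obtain ⟨f, hf⟩ := h.2 (F.map a.hom ≫ ψ ≫ F.map b.inv)
      refine ⟨a.inv ≫ f ≫ b.hom, ?_⟩
      simp only at hf
      simp only [Functor.map_comp, hf, Category.assoc, ← F.map_comp b.inv, b.inv_hom_id]
      simp only [← Category.assoc, ← F.map_comp, a.inv_hom_id, CategoryTheory.Functor.map_id,
        Category.id_comp, Category.comp_id]
  have bij_shift : ∀ {X Y : D} (n : ℤ), Bij X Y → Bij (X⟦n⟧) (Y⟦n⟧) := by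
    intro X Y n h
    have key : (fun f : X⟦n⟧ ⟶ Y⟦n⟧ => F.map f) ∘ (fun f : X ⟶ Y => f⟦n⟧') =
        (fun ψ => ((F.commShiftIso n).app X).hom ≫ ψ ≫ ((F.commShiftIso n).app Y).inv) ∘
          (fun ψ : F.obj X ⟶ F.obj Y => ψ⟦n⟧') ∘ (fun f : X ⟶ Y => F.map f) := by
      funext f
      exact ((NatIso.naturality_2 (F.commShiftIso n) f).symm)
    refine (Function.Bijective.of_comp_iff _
      ((Functor.FullyFaithful.ofFullyFaithful (shiftFunctor D n)).map_bijective X Y)).mp ?_
    rw [key]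
    exact (((F.commShiftIso n).app X).homFromEquiv.symm.bijective.comp
      ((F.commShiftIso n).app Y).homToEquiv.symm.bijective).comp
      (((Functor.FullyFaithful.ofFullyFaithful (shiftFunctor D' n)).map_bijective _ _).comp h)
  have bijSS : ∀ E ∈ S, ∀ E' ∈ S, ∀ j : ℤ, Bij (E⟦j⟧) E' := fun E hE E' hE' j =>
    bij_iso (Iso.refl _) ((shiftFunctorCompIsoId D (-j) j (by omega)).app E')
      (bij_shift j (h4 E hE E' hE' (-j)))
  -- post-composition with the unit is the map on morphisms
  have hpost : ∀ (X Y : D), Bij X Y → Function.Bijective (fun f : X ⟶ Y => f ≫ adj₁.unit.app Y) := by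
    intro X Y h
    have e : (fun f : X ⟶ Y => f ≫ adj₁.unit.app Y) =
        (adj₁.homEquiv X (F.obj Y)) ∘ (fun f : X ⟶ Y => F.map f) := by
      funext f
      simp [Adjunction.homEquiv_unit]
    rw [e]
    exact (Equiv.bijective _).comp h
  have hη : ∀ E' ∈ S, IsIso (adj₁.unit.app E') := by
    intro E' hE'
    obtain ⟨C, v, δ, hT⟩ := CategoryTheory.Pretriangulated.distinguished_cocone_triangle
      (adj₁.unit.app E')
    refine (CategoryTheory.Pretriangulated.Triangle.isZero₃_iff_isIso₁ _ hT).mp (h2 C ?_)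
    intro E hE i f
    have hzero : ∀ (j : ℤ) (g : E⟦j⟧ ⟶ C), g = 0 := by
      intro j g
      have hgδ : g ≫ δ = 0 := by
        apply (shiftFunctor D (-1 : ℤ)).map_injective
        rw [Functor.map_zero, ← cancel_mono ((shiftShiftNeg E' (1 : ℤ)).hom),
          Limits.zero_comp]
        have hb : Bij ((E⟦j⟧)⟦(-1 : ℤ)⟧) E' :=
          bij_iso ((shiftFunctorAdd' D j (-1) (j - 1) (by omega)).app E) (Iso.refl _)
            (bijSS E hE E' hE' (j - 1))
        refine (hpost _ _ hb).1 ?_
        have hn : (shiftShiftNeg E' (1 : ℤ)).hom ≫ adj₁.unit.app E' =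
            ((adj₁.unit.app E')⟦(1 : ℤ)⟧')⟦(-1 : ℤ)⟧' ≫
              (shiftShiftNeg ((F ⋙ _).obj E') (1 : ℤ)).hom :=
          ((shiftFunctorCompIsoId D (1 : ℤ) (-1) (by omega)).hom.naturality
            (adj₁.unit.app E')).symm
        simp only [Category.assoc, hn, Limits.zero_comp]
        rw [← Category.assoc, ← Functor.map_comp, Category.assoc]
        have h0 : δ ≫ (adj₁.unit.app E')⟦(1 : ℤ)⟧' = 0 :=
          CategoryTheory.Pretriangulated.comp_distTriang_mor_zero₃₁ _ hT
        rw [h0]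
        simp
      obtain ⟨k, rfl⟩ := CategoryTheory.Pretriangulated.Triangle.coyoneda_exact₃ _ hT g hgδ
      obtain ⟨l, rfl⟩ := (hpost _ _ (bijSS E hE E' hE' j)).2 k
      have h0 : adj₁.unit.app E' ≫ v = 0 :=
        CategoryTheory.Pretriangulated.comp_distTriang_mor_zero₁₂ _ hT
      exact (Category.assoc _ _ _).trans ((congrArg (fun t => l ≫ t) h0).trans Limits.comp_zero)
    apply (shiftFunctor D (-i)).map_injective
    rw [Functor.map_zero, ← cancel_mono ((shiftShiftNeg C i).hom), Limits.zero_comp]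
    exact hzero _ _
  have hbij : ∀ E' ∈ S, ∀ (Y : D) (i : ℤ), Bij Y (E'⟦i⟧) := by
    intro E' hE' Y i
    have h0 : Bij (Y⟦-i⟧) E' := by
      haveI := hη E' hE'
      have e : (fun f : Y⟦-i⟧ ⟶ E' => F.map f) = (adj₁.homEquiv _ (F.obj E')).symm ∘
          (asIso (adj₁.unit.app E')).homToEquiv := by
        funext f
        simp [Adjunction.homEquiv_counit]
      show Function.Bijective _
      rw [e]
      exact (Equiv.bijective _).comp (Equiv.bijective _)
    exact bij_iso ((shiftFunctorCompIsoId D (-i) i (by omega)).app Y) (Iso.refl _) (bij_shift i h0)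
  have hpre : ∀ (K Z : D), Bij K Z → Function.Bijective (fun f : K ⟶ Z => adj₂.counit.app K ≫ f) := by
    intro K Z h
    have e : (fun f : K ⟶ Z => adj₂.counit.app K ≫ f) =
        (adj₂.homEquiv (F.obj K) Z).symm ∘ (fun f : K ⟶ Z => F.map f) := by
      funext f
      simp [Adjunction.homEquiv_counit]
    rw [e]
    exact (Equiv.bijective _).comp h
  haveI : ∀ K, IsIso (adj₂.counit.app K) := by
    intro K
    obtain ⟨C, v, δ, hT⟩ := CategoryTheory.Pretriangulated.distinguished_cocone_triangle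
      (adj₂.counit.app K)
    refine (CategoryTheory.Pretriangulated.Triangle.isZero₃_iff_isIso₁ _ hT).mp (h3 C ?_)
    intro E hE i f
    have h0 : adj₂.counit.app K ≫ v = 0 :=
      CategoryTheory.Pretriangulated.comp_distTriang_mor_zero₁₂ _ hT
    have hv : v ≫ f = 0 := (hpre K _ (hbij E hE K i)).1 (by simp [reassoc_of% h0])
    obtain ⟨g, rfl⟩ := CategoryTheory.Pretriangulated.Triangle.yoneda_exact₃ _ hT f hv
    have hb : Bij (K⟦(1 : ℤ)⟧) (E⟦i⟧) :=
      bij_iso (Iso.refl _) ((shiftFunctorAdd' D (i - 1) 1 i (by omega)).app E).symm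
        (bij_shift 1 (hbij E hE K (i - 1)))
    obtain ⟨g', hg'⟩ : ∃ g', (adj₂.counit.app K)⟦(1 : ℤ)⟧' ≫ g' = g := by
      let b := (shiftFunctorAdd' D (i - 1) 1 i (by omega)).app E
      obtain ⟨g₀, hg₀⟩ := (shiftFunctor D (1 : ℤ)).map_surjective (g ≫ b.hom)
      obtain ⟨l, hl⟩ := (hpre K _ (hbij E hE K (i - 1))).2 g₀
      refine ⟨l⟦(1 : ℤ)⟧' ≫ b.inv, ?_⟩
      rw [← Category.assoc, ← Functor.map_comp]
      simp only at hl
      rw [hl]
      exact (congrArg (fun t => t ≫ b.inv) hg₀).trans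
        ((Category.assoc _ _ _).trans ((congrArg (fun t => g ≫ t) b.hom_inv_id).trans
          (Category.comp_id g)))
    have h31 : δ ≫ (adj₂.counit.app K)⟦(1 : ℤ)⟧' = 0 :=
      CategoryTheory.Pretriangulated.comp_distTriang_mor_zero₃₁ _ hT
    exact (congrArg (fun t => δ ≫ t) hg'.symm).trans ((Category.assoc _ _ _).symm.trans
      ((congrArg (fun t => t ≫ g') h31).trans Limits.zero_comp))
  haveI : IsIso adj₂.counit := NatIso.isIso_of_isIso_app _
  exact ⟨adj₂.fullyFaithfulROfIsIsoCounit.full, adj₂.fullyFaithfulROfIsIsoCounit.faithful⟩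

end Groth.Agent.S6703
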