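import Groth.Statements.S6707
import Mathlib
-- import your own Groth.Agent.* helpers here

set_option autoImplicit false
universe w v u
open CategoryTheory
open DEquiv

namespace Groth.Agent.S6707

open CategoryTheory.Limits in
/-- Let A be an abelian category in which every object X is the target of an epimorphism N ⟶ X with
Hom(X, N) = 0. Let f : X ⟶ X' be a morphism between bounded objects of D(A) and b an integer with
H^i(X) = 0 for i > b and H^i(X') = 0 for i ≥ b. Then there exist an object N of A and a morphism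
N⟦-b⟧ ⟶ X (N placed in degree b) inducing an epimorphism N ⟶ H^b(X), with Hom(H^b(X), N) = 0, and
whose composite with f is zero. -/
theorem result
    {A : Type u} [Category.{v} A] [Abelian A] [HasDerivedCategory.{w} A]
    (hneg : ∀ X : A, ∃ (N : A) (p : N ⟶ X), Epi p ∧ ∀ f : X ⟶ N, f = 0)
    (X X' : DerivedCategory A) (f : X ⟶ X') (a b a' : ℤ) [X.IsGE a] [X.IsLE b] [X'.IsGE a']
    [X'.IsLE (b - 1)] :
    ∃ (N : A) (g : (DerivedCategory.singleFunctor A b).obj N ⟶ X),
      Epi ((DerivedCategory.homologyFunctor A b).map g) ∧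
        (∀ φ : (DerivedCategory.homologyFunctor A b).obj X ⟶ N, φ = 0) ∧ g ≫ f = 0 := by
  obtain ⟨K, hK, ⟨eX⟩⟩ := X.exists_iso_Q_obj_of_isLE b
  obtain ⟨K', hK', ⟨eX'⟩⟩ := X'.exists_iso_Q_obj_of_isLE (b - 1)
  obtain ⟨L, hL, s, hs, φ, hφ⟩ := DerivedCategory.right_fac_of_isStrictlyLE (eX.inv ≫ f ≫ eX'.hom) b
  obtain ⟨N, p, hp, hN⟩ := hneg (L.X b)
  have hd : L.d b (b + 1) = 0 := (L.isZero_of_isStrictlyLE b _ (by omega)).eq_of_tgt _ _
  let m : (CochainComplex.singleFunctor A b).obj N ⟶ L :=
    HomologicalComplex.mkHomFromSingle p (fun j hj => by obtain rfl : b + 1 = j := hj; rw [hd, Limits.comp_zero])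
  have hm0 : m ≫ φ = 0 := HomologicalComplex.from_single_hom_ext
    ((K'.isZero_of_isStrictlyLE (b - 1) b (by omega)).eq_of_tgt _ _)
  let e : (DerivedCategory.singleFunctor A b).obj N ≅ DerivedCategory.Q.obj ((CochainComplex.singleFunctor A b).obj N) :=
    (DerivedCategory.singleFunctorIsoCompQ A b).app N
  haveI : IsIso (L.iCycles b) := L.isIso_iCycles b _ (by simp) hd
  haveI hsd : IsIso (((CochainComplex.singleFunctor A b).obj N).iCycles b) :=
    HomologicalComplex.isIso_iCycles _ b (b + 1) (by simp) (HomologicalComplex.single_obj_d ..)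
  haveI : Epi (HomologicalComplex.cyclesMap m b) := by
    have h1 := HomologicalComplex.cyclesMap_i m b
    haveI : Epi (m.f b) := by
      simp only [m, HomologicalComplex.mkHomFromSingle_f]; exact CategoryTheory.epi_comp' inferInstance hp
    haveI : Epi (HomologicalComplex.cyclesMap m b ≫ L.iCycles b) := by rw [h1]; infer_instance
    have : HomologicalComplex.cyclesMap m b = (HomologicalComplex.cyclesMap m b ≫ L.iCycles b) ≫ inv (L.iCycles b) := by rw [Category.assoc, IsIso.hom_inv_id, Category.comp_id]
    rw [this]; infer_instance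
  haveI : Epi (HomologicalComplex.homologyMap m b) := by
    haveI : Epi (((CochainComplex.singleFunctor A b).obj N).homologyπ b ≫ HomologicalComplex.homologyMap m b) := by
      rw [HomologicalComplex.homologyπ_naturality]; infer_instance
    exact epi_of_epi (((CochainComplex.singleFunctor A b).obj N).homologyπ b) _
  refine ⟨N, e.hom ≫ DerivedCategory.Q.map (m ≫ s) ≫ eX.inv, ?_, ?_, ?_⟩
  · haveI : Epi ((DerivedCategory.homologyFunctor A b).map (DerivedCategory.Q.map m)) := by
      rw [← CategoryTheory.Functor.comp_map, ← NatIso.naturality_2 (DerivedCategory.homologyFunctorFactors A b)]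
      haveI : Epi ((HomologicalComplex.homologyFunctor A (ComplexShape.up ℤ) b).map m) := ‹Epi (HomologicalComplex.homologyMap m b)›
      infer_instance
    rw [DerivedCategory.Q.map_comp, Functor.map_comp, Functor.map_comp, Functor.map_comp]
    infer_instance
  · intro ψ
    let i : L.homology b ≅ (DerivedCategory.homologyFunctor A b).obj X :=
      ((DerivedCategory.homologyFunctorFactors A b).app L).symm ≪≫
        (DerivedCategory.homologyFunctor A b).mapIso (asIso (DerivedCategory.Q.map s) ≪≫ eX.symm)
    have h1 : inv (L.iCycles b) ≫ L.homologyπ b ≫ i.hom ≫ ψ = 0 := hN _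
    rw [← cancel_epi i.hom, ← cancel_epi (L.homologyπ b), ← cancel_epi (inv (L.iCycles b)), h1]
    simp
  · rw [← cancel_mono eX'.hom, Limits.zero_comp]
    simp only [Category.assoc, DerivedCategory.Q.map_comp]
    rw [hφ, IsIso.hom_inv_id_assoc, ← DerivedCategory.Q.map_comp, hm0, Functor.map_zero, Limits.comp_zero]

end Groth.Agent.S6707
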