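import Groth.Statements.S6708
import Mathlib.CategoryTheory.Triangulated.Subcategory
import Mathlib.CategoryTheory.Comma.StructuredArrow.Basic
import Mathlib.CategoryTheory.Filtered.Basic

set_option autoImplicit false
universe v u
open CategoryTheory
open DEquiv

namespace Groth.Agent.S6708

open CategoryTheory.Limits CategoryTheory.Pretriangulated in
/-- Let D be a pretriangulated category, D' ⊆ D a full triangulated subcategory (given as a property of
objects that is triangulated in Mathlib's sense) and X an object of D. Then the category of arrows E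
⟶ X with E in D' is filtered. -/
theorem result
    {D : Type u} [Category.{v} D] [Preadditive D] [HasZeroObject D] [HasShift D ℤ]
    [∀ n : ℤ, (shiftFunctor D n).Additive] [Pretriangulated D]
    (P : ObjectProperty D) [P.IsTriangulated] (X : D) :
    IsFiltered (CostructuredArrow P.ι X) := by
  obtain ⟨Z, hZ, hPZ⟩ := ObjectProperty.exists_prop_of_containsZero P
  haveI : Nonempty (CostructuredArrow P.ι X) :=
    ⟨CostructuredArrow.mk (Y := (⟨Z, hPZ⟩ : P.FullSubcategory)) (hZ.to_ X)⟩
  haveI : IsFilteredOrEmpty (CostructuredArrow P.ι X) := by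
    refine ⟨fun A B => ?_, fun A B f g => ?_⟩
    · obtain ⟨W, hW, ⟨e⟩⟩ := P.ext_of_isTriangulatedClosed₂'
        (CategoryTheory.Pretriangulated.binaryBiproductTriangle A.left.obj B.left.obj)
        (CategoryTheory.Pretriangulated.binaryBiproductTriangle_distinguished _ _)
        A.left.property B.left.property
      let a : A.left.obj ⟶ X := A.hom
      let b : B.left.obj ⟶ X := B.hom
      let ι₁ : A.left.obj ⟶ W := Limits.biprod.inl ≫ e.hom
      let ι₂ : B.left.obj ⟶ W := Limits.biprod.inr ≫ e.hom
      let w : W ⟶ X := e.inv ≫ Limits.biprod.desc a b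
      refine ⟨CostructuredArrow.mk (Y := (⟨W, hW⟩ : P.FullSubcategory)) w,
        CostructuredArrow.homMk (ObjectProperty.homMk ι₁) ?_,
        CostructuredArrow.homMk (ObjectProperty.homMk ι₂) ?_, trivial⟩
      · show (Limits.biprod.inl ≫ e.hom) ≫ e.inv ≫ Limits.biprod.desc a b = a
        exact (Category.assoc _ _ _).trans ((congrArg (fun k => Limits.biprod.inl ≫ k)
          (e.hom_inv_id_assoc _)).trans (Limits.biprod.inl_desc _ _))
      · show (Limits.biprod.inr ≫ e.hom) ≫ e.inv ≫ Limits.biprod.desc a b = b
        exact (Category.assoc _ _ _).trans ((congrArg (fun k => Limits.biprod.inr ≫ k)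
          (e.hom_inv_id_assoc _)).trans (Limits.biprod.inr_desc _ _))
    · let f' : A.left.obj ⟶ B.left.obj := f.left.hom
      let g' : A.left.obj ⟶ B.left.obj := g.left.hom
      obtain ⟨C, p, q, hT⟩ := CategoryTheory.Pretriangulated.distinguished_cocone_triangle (f' - g')
      obtain ⟨W, hW, ⟨e⟩⟩ := P.ext_of_isTriangulatedClosed₃' _ hT A.left.property B.left.property
      have hb : (f' - g') ≫ (B.hom : B.left.obj ⟶ X) = 0 := by
        rw [Preadditive.sub_comp, sub_eq_zero]
        exact (CostructuredArrow.w f).trans (CostructuredArrow.w g).symm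
      obtain ⟨c, hc⟩ := CategoryTheory.Pretriangulated.Triangle.yoneda_exact₂ _ hT _ hb
      refine ⟨CostructuredArrow.mk (Y := (⟨W, hW⟩ : P.FullSubcategory)) (e.inv ≫ c),
        CostructuredArrow.homMk (ObjectProperty.homMk (p ≫ e.hom)) ?_, ?_⟩
      · show (p ≫ e.hom) ≫ e.inv ≫ c = B.hom
        rw [hc]
        exact (Category.assoc _ _ _).trans (congrArg (fun k => p ≫ k) (e.hom_inv_id_assoc c))
      · apply CostructuredArrow.hom_ext
        apply ObjectProperty.hom_ext
        show f' ≫ p ≫ e.hom = g' ≫ p ≫ e.hom
        have h0 : (f' - g') ≫ p = 0 := CategoryTheory.Pretriangulated.comp_distTriang_mor_zero₁₂ _ hT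
        rw [Preadditive.sub_comp, sub_eq_zero] at h0
        rw [← Category.assoc, h0, Category.assoc]
  exact {}

end Groth.Agent.S6708
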