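import Groth.Statements.S6709
import Groth.Agent.FinDimRep.Skeleton
-- import your own Groth.Agent.* helpers here

set_option autoImplicit false
set_option backward.isDefEq.respectTransparency false
set_option maxHeartbeats 800000
set_option synthInstance.maxHeartbeats 200000
universe w v u
open CategoryTheory
open DEquiv

namespace Groth.Agent.S6709

open CategoryTheory.Limits CategoryTheory.Pretriangulated Opposite in
/-- Let k be a field and D a k-linear triangulated category with arbitrary direct sums which is
compactly generated; write D_c for the full subcategory of compact objects. Let H be a contravariant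
k-linear functor from D_c to k-vector spaces which is cohomological (for every distinguished
triangle X ⟶ Y ⟶ Z of D with X, Y, Z compact, H(Z) ⟶ H(Y) ⟶ H(X) is exact) and such that every H(X)
is finite-dimensional. One can then find an object Y of D for which H becomes isomorphic to X ↦
Hom(X, Y), the functor represented by Y on compact objects (existence of such Y and of an
isomorphism of functors). -/
theorem result
    {k : Type w} [Field k]
    {D : Type u} [Category.{v} D] [Preadditive D] [Linear k D] [HasZeroObject D] [HasShift D ℤ]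
    [∀ n : ℤ, (shiftFunctor D n).Additive] [∀ n : ℤ, (shiftFunctor D n).Linear k]
    [Pretriangulated D] [IsTriangulated D] [HasCoproducts.{v} D]
    (hD : CohDer.IsCompactlyGenerated D)
    (H : (ObjectProperty.FullSubcategory (fun K : D => CohDer.IsCompactObject K))ᵒᵖ ⥤ ModuleCat.{v} k)
    [H.Additive]
    (hlin : ∀ (X Y : ObjectProperty.FullSubcategory (fun K : D => CohDer.IsCompactObject K))
      (r : k) (f : X ⟶ Y), H.map (r • f).op = r • H.map f.op)
    (hcoh : ∀ T ∈ distTriang D, ∀ (h₁ : CohDer.IsCompactObject T.obj₁)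
      (h₂ : CohDer.IsCompactObject T.obj₂) (h₃ : CohDer.IsCompactObject T.obj₃)
      (y : H.obj (op ⟨T.obj₂, h₂⟩)),
      H.map (ObjectProperty.homMk T.mor₁ : (⟨T.obj₁, h₁⟩ : ObjectProperty.FullSubcategory
          (fun K : D => CohDer.IsCompactObject K)) ⟶ ⟨T.obj₂, h₂⟩).op y = 0 →
        ∃ z : H.obj (op ⟨T.obj₃, h₃⟩),
          H.map (ObjectProperty.homMk T.mor₂ : (⟨T.obj₂, h₂⟩ : ObjectProperty.FullSubcategory
            (fun K : D => CohDer.IsCompactObject K)) ⟶ ⟨T.obj₃, h₃⟩).op z = y)
    (hfin : ∀ X, Module.Finite k (H.obj X)) :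
    ∃ Y : D, Nonempty (H ≅ (ObjectProperty.ι _).op ⋙ (linearYoneda k D).obj Y) := by
  obtain ⟨Z0, hZ0⟩ := (inferInstance : Limits.HasZeroObject D).zero
  obtain ⟨ι, E, hc, hg⟩ := id hD
  by_cases hz : ∀ X : D, Limits.IsZero X
  · refine ⟨Z0, ⟨Limits.IsZero.iso (Functor.isZero _ fun X => ?_) (Functor.isZero _ fun X => ?_)⟩⟩
    · exact H.map_isZero (((Limits.IsZero.iff_id_eq_zero X.unop).2
        (ObjectProperty.hom_ext _ ((hz _).eq_of_src _ _))).op)
    · refine @ModuleCat.isZero_of_subsingleton _ _ _ ?_
      exact ⟨fun a b => (hz X.unop.obj).eq_of_src a b⟩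
  · obtain ⟨X, hX⟩ := not_forall.1 hz
    haveI : Small.{v} k := small_of_injective (f := fun a : k => a • 𝟙 X) fun a b hab => by
      by_contra hne
      apply hX
      rw [Limits.IsZero.iff_id_eq_zero]
      have h0 : (a - b) • 𝟙 X = 0 := by rw [sub_smul]; exact sub_eq_zero.2 hab
      simpa [sub_ne_zero.2 hne] using congrArg ((a - b)⁻¹ • ·) h0
    refine FinDimRep.exists_rep_compact (Sum.elim E fun _ : PUnit.{v + 1} => Z0) ?_ ?_ H hlin hcoh hfin
    · rintro (i | _)
      · exact hc i
      · exact BrownRep.isCompactObject_of_isZero hZ0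
    · exact fun K hK => hg K fun i n f => hK (Sum.inl i) n f

end Groth.Agent.S6709
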