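import Groth.Statements.S6710
import Mathlib

set_option autoImplicit false
universe u v
open CategoryTheory
open FunMor

namespace Groth.Agent.S6710
open TensorProduct

/-- The statement for an affine scheme written in terms of modules: let A be a commutative ring, M a
finitely presented A-module and N a nonzero A-module with Supp(N) ⊆ Supp(M). Then Hom_A(M, N) is
nonzero. -/
theorem result
    (A : Type u) [CommRing A] (M : Type v) [AddCommGroup M] [Module A M]
    [Module.FinitePresentation A M] (N : Type v) [AddCommGroup N] [Module A N] [Nontrivial N]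
    (h : Module.support A N ⊆ Module.support A M) : Nontrivial (M →ₗ[A] N) := by
  classical
  obtain ⟨x, hx⟩ := exists_ne (0 : N)
  let I : Ideal A := LinearMap.ker (LinearMap.toSpanSingleton A N x)
  have hI : ∀ a, a ∈ I ↔ a • x = 0 := fun a => Iff.rfl
  have hItop : I ≠ ⊤ := fun e => hx (by simpa using (hI 1).mp (e ▸ trivial))
  obtain ⟨Q, hQmax, hIQ⟩ := Ideal.exists_le_maximal I hItop
  have := hQmax.isPrime
  obtain ⟨q, hq, -⟩ := Ideal.exists_minimalPrimes_le hIQ
  have hqp : q.IsPrime := hq.isPrime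
  have hqN : (⟨q, hqp⟩ : PrimeSpectrum A) ∈ Module.support A N :=
    Module.mem_support_iff'.mpr ⟨x, fun r hr e => hr (hq.le ((hI r).mpr e))⟩
  have hqM := (Module.mem_support_iff_nontrivial_residueField_tensorProduct ⟨q, hqp⟩).mp (h hqN)
  let κ := q.ResidueField
  obtain ⟨ψ, hψ⟩ := exists_ne (0 : Module.Dual κ (κ ⊗[A] M))
  let φ : M →ₗ[A] κ := (ψ.restrictScalars A).comp (TensorProduct.mk A κ M 1)
  have hφ : φ ≠ 0 := fun e => hψ (TensorProduct.AlgebraTensorModule.curry_injective (by
    refine LinearMap.ext_ring (LinearMap.ext fun m => ?_)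
    simpa [φ] using LinearMap.congr_fun e m))
  obtain ⟨n, K, g, hK⟩ := Module.FinitePresentation.exists_fin A M
  let π : (Fin n → A) →ₗ[A] M := g.symm.toLinearMap.comp K.mkQ
  have hπ : Function.Surjective π := g.symm.surjective.comp K.mkQ_surjective
  have hπK : LinearMap.ker π = K := by simp [π, LinearMap.ker_comp]
  obtain ⟨⟨b, hb⟩, hbm⟩ := IsLocalization.exist_integer_multiples_of_finite (nonZeroDivisors (A ⧸ q))
    (fun i => φ (π (Pi.single i 1)))
  choose c hc using hbm
  choose w hw using fun i => Ideal.Quotient.mk_surjective (c i)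
  let W : (Fin n → A) →ₗ[A] A := Fintype.linearCombination A w
  let bK : κ := algebraMap (A ⧸ q) κ b
  have halg : ∀ a : A, algebraMap A κ a = algebraMap (A ⧸ q) κ (Ideal.Quotient.mk q a) :=
    fun a => IsScalarTower.algebraMap_apply A (A ⧸ q) κ a
  have hW : ∀ v, algebraMap A κ (W v) = bK * φ (π v) := by
    have : (Algebra.linearMap A κ).comp W = (LinearMap.mulLeft A bK).comp (φ.comp π) := by
      refine LinearMap.pi_ext' fun i => LinearMap.ext_ring ?_
      simp only [LinearMap.comp_apply, LinearMap.coe_single, W, Fintype.linearCombination_apply_single, one_smul,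
        Algebra.linearMap_apply, LinearMap.mulLeft_apply, smul_eq_mul, one_mul]
      rw [halg, hw, hc]
      exact Algebra.smul_def b _
    exact fun v => LinearMap.congr_fun this v
  have hWK : ∀ v ∈ K, W v ∈ q := fun v hv => by
    rw [← Ideal.algebraMap_residueField_eq_zero, hW, show π v = 0 from LinearMap.mem_ker.mp (hπK.symm ▸ hv), map_zero, mul_zero]
  obtain ⟨v₀, hv₀⟩ : ∃ v, W v ∉ q := by
    by_contra! hcon
    refine hφ (LinearMap.ext fun m => ?_)
    obtain ⟨v, rfl⟩ := hπ m
    have h0 := hW v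
    rw [Ideal.algebraMap_residueField_eq_zero.mpr (hcon v)] at h0
    have hbK : bK ≠ 0 := fun e => nonZeroDivisors.ne_zero hb (FaithfulSMul.algebraMap_injective (A ⧸ q) κ (by rw [show algebraMap (A ⧸ q) κ b = 0 from e, map_zero]))
    simpa [hbK] using h0.symm
  have nil : ∀ c ∈ q, ∃ s ∉ q, ∃ k : ℕ, (s * c ^ k) • x = 0 := by
    intro c hc
    by_contra! hcon
    have hdisj : Disjoint (I : Set A) (q.primeCompl ⊔ Submonoid.powers c : Submonoid A) := by
      refine Set.disjoint_right.mpr fun z hz hzI => ?_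
      obtain ⟨s, hs, _, ⟨k, rfl⟩, rfl⟩ := Submonoid.mem_sup.mp hz
      exact hcon s hs k hzI
    obtain ⟨P, hP, hIP, hPd⟩ := Ideal.exists_le_prime_disjoint _ _ hdisj
    have hPq : P ≤ q := fun z hz => by
      by_contra hzq
      exact Set.disjoint_left.mp hPd hz (Submonoid.mem_sup_left hzq)
    exact Set.disjoint_left.mp hPd (hq.2 ⟨hP, hIP⟩ hPq hc) (Submonoid.mem_sup_right ⟨1, pow_one c⟩)
  obtain ⟨S, hS⟩ := hK
  have step : ∀ T : Finset (Fin n → A), (∀ v ∈ T, W v ∈ q) →
      ∃ y : N, (∀ a, a ∉ q → a • y ≠ 0) ∧ (∃ a : A, y = a • x) ∧ ∀ v ∈ T, ∃ s ∉ q, (s * W v) • y = 0 := by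
    intro T
    induction T using Finset.induction with
    | empty => exact fun _ => ⟨x, fun a ha e => ha (hq.le ((hI a).mpr e)), ⟨1, (one_smul _ _).symm⟩, by simp⟩
    | @insert v T hv ih =>
      intro hT
      obtain ⟨y, hy, ⟨a₀, rfl⟩, hyT⟩ := ih fun u hu => hT u (Finset.mem_insert_of_mem hu)
      have hex : ∃ k : ℕ, ∃ s ∉ q, (s * W v ^ k) • a₀ • x = 0 := by
        obtain ⟨s, hs, k, hk⟩ := nil _ (hT v (Finset.mem_insert_self _ _))
        exact ⟨k, s, hs, by rw [smul_comm, hk, smul_zero]⟩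
      obtain ⟨s, hs, hs0⟩ := Nat.find_spec hex
      have hpos : Nat.find hex ≠ 0 := fun e => by
        rw [e, pow_zero, mul_one] at hs0; exact hy s hs hs0
      obtain ⟨k, hk⟩ := Nat.exists_eq_succ_of_ne_zero hpos
      refine ⟨W v ^ k • a₀ • x, fun a ha e => ?_, ⟨W v ^ k * a₀, (mul_smul _ _ _).symm⟩, fun u hu => ?_⟩
      · exact Nat.find_min hex (m := k) (by omega) ⟨a, ha, by rwa [mul_smul]⟩
      · rcases Finset.mem_insert.mp hu with rfl | hu
        · refine ⟨s, hs, ?_⟩
          rw [← mul_smul, mul_assoc, ← pow_succ']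
          rwa [hk] at hs0
        · obtain ⟨t, ht, ht0⟩ := hyT u hu
          exact ⟨t, ht, by rw [smul_comm, ht0, smul_zero]⟩
  obtain ⟨y, hy, -, hyS⟩ := step S fun v hv => hWK v (hS ▸ Submodule.subset_span hv)
  choose! s hs hs0 using hyS
  let t := ∏ v ∈ S, s v
  have ht : t ∉ q := fun e => by
    obtain ⟨v, hv, hvq⟩ := hqp.prod_mem_iff.mp e
    exact hs v hv hvq
  let F : (Fin n → A) →ₗ[A] N := (LinearMap.toSpanSingleton A N (t • y)).comp W
  have hF : K ≤ LinearMap.ker F := by
    rw [← hS, Submodule.span_le]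
    intro v hv
    show W v • t • y = 0
    rw [← mul_smul, mul_comm]
    have hts : t = (∏ u ∈ S.erase v, s u) * s v := (Finset.prod_erase_mul S s hv).symm
    rw [hts, mul_assoc, mul_smul, hs0 v hv, smul_zero]
  refine ⟨(K.liftQ F hF).comp g.toLinearMap, 0, fun e => ?_⟩
  have h0 := LinearMap.congr_fun e (π v₀)
  simp [π, F] at h0
  refine hy (W v₀ * t) (fun e => (hqp.mem_or_mem e).elim hv₀ ht) ?_
  rwa [mul_smul]

end Groth.Agent.S6710
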