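import Groth.Statements.S6712
import Groth.Agent.FibIsoOpen.Basic
-- import your own Groth.Agent.* helpers here

set_option autoImplicit false
universe u
open CategoryTheory AlgebraicGeometry
open DEquiv

namespace Groth.Agent.S6712

open CategoryTheory.Limits in
/-- Let S be a Noetherian scheme, s ∈ S, and p : X ⟶ Y a morphism over S where X ⟶ S and Y ⟶ S are
proper and X ⟶ S is flat. If the fibre X_s ⟶ Y_s of p is an isomorphism, then there is an open
neighbourhood U of s such that the base change X_U ⟶ Y_U of p is an isomorphism. -/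
theorem result
    {S X Y : Scheme.{u}} [IsNoetherian S] (s : S) (g : X ⟶ S) (h : Y ⟶ S) (p : X ⟶ Y)
    (w : p ≫ h = g) [IsProper g] [IsProper h] [Flat g]
    (hs : IsIso (pullback.map g (S.fromSpecResidueField s) h (S.fromSpecResidueField s) p (𝟙 _)
      (𝟙 _) ((Category.comp_id g).trans w.symm)
      ((Category.comp_id _).trans (Category.id_comp _).symm))) :
    ∃ U : S.Opens, s ∈ U ∧
      IsIso (pullback.map g U.ι h U.ι p (𝟙 _) (𝟙 _) ((Category.comp_id g).trans w.symm)
        ((Category.comp_id _).trans (Category.id_comp _).symm)) := by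
  subst w
  haveI : LocallyOfFinitePresentation (p ≫ h) := inferInstance
  haveI : IsIso (MoreMor.fiberMap p h s) := by
    have e : MoreMor.fiberMap p h s = pullback.map (p ≫ h) (S.fromSpecResidueField s) h (S.fromSpecResidueField s) p (𝟙 _)
        (𝟙 _) (Category.comp_id _) ((Category.comp_id _).trans (Category.id_comp _).symm) := by
      apply pullback.hom_ext
      · exact (pullback.lift_fst _ _ _).trans (pullback.lift_fst _ _ _).symm
      · exact (pullback.lift_snd _ _ _).trans ((pullback.lift_snd _ _ _).trans (Category.comp_id _)).symm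
    rw [e]; exact hs
  obtain ⟨U, hsU, hU⟩ := Groth.Agent.FibIsoOpen.exists_nhd p h s
  refine ⟨U, hsU, ?_⟩
  haveI := hU
  let m := pullback.map (p ≫ h) U.ι h U.ι p (𝟙 _) (𝟙 _) (Category.comp_id _) ((Category.comp_id _).trans (Category.id_comp _).symm)
  let q : (((p ≫ h) ⁻¹ᵁ U : X.Opens) : Scheme.{u}) ⟶ ((h ⁻¹ᵁ U : Y.Opens) : Scheme.{u}) := p ∣_ (h ⁻¹ᵁ U)
  haveI : IsIso q := hU
  have hq : q ≫ (h ⁻¹ᵁ U).ι = ((p ≫ h) ⁻¹ᵁ U).ι ≫ p := morphismRestrict_ι p (h ⁻¹ᵁ U)
  have hm : (pullbackRestrictIsoRestrict (p ≫ h) U).inv ≫ m = q ≫ (pullbackRestrictIsoRestrict h U).inv := by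
    apply pullback.hom_ext
    · simp only [m, Category.assoc, pullback.lift_fst, pullbackRestrictIsoRestrict_inv_fst_assoc,
        pullbackRestrictIsoRestrict_inv_fst]
      exact hq.symm
    · refine (cancel_mono U.ι).mp ?_
      simp only [m, Category.assoc, ← pullback.condition, pullback.lift_fst_assoc,
        pullbackRestrictIsoRestrict_inv_fst_assoc]
      rw [← Category.assoc q, hq, Category.assoc]
  have : IsIso ((pullbackRestrictIsoRestrict (p ≫ h) U).inv ≫ m) := by rw [hm]; infer_instance
  exact IsIso.of_isIso_comp_left (pullbackRestrictIsoRestrict (p ≫ h) U).inv m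

end Groth.Agent.S6712
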