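import Groth.Statements.S6713
import Mathlib
-- import your own Groth.Agent.* helpers here

set_option autoImplicit false
set_option backward.isDefEq.respectTransparency false
set_option maxHeartbeats 800000
set_option synthInstance.maxHeartbeats 200000
universe w v u
open CategoryTheory
open DEquiv

namespace Groth.Agent.S6713

section Cnt
open CategoryTheory CategoryTheory.Limits

variable {A : Type u} [Category.{v} A] [Abelian A]

/-- Finite combinatorial data for a complex in degrees `[a, b]`. -/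
abbrev Data (e : ℕ → A) (a b : ℤ) :=
  Σ n : (Finset.Icc a b) → ℕ, ∀ i j : (Finset.Icc a b), e (n i) ⟶ e (n j)

/-- The complex realizes the data. -/
def Realizes {e : ℕ → A} {a b : ℤ} (K : CochainComplex A ℤ) (p : Data e a b) : Prop :=
  ∃ φ : ∀ i : (Finset.Icc a b), K.X i.1 ≅ e (p.1 i), ∀ i j, p.2 i j = (φ i).inv ≫ K.d i.1 j.1 ≫ (φ j).hom

theorem exists_realizes {e : ℕ → A} (he : ∀ X : A, ∃ n : ℕ, Nonempty (X ≅ e n)) (a b : ℤ)
    (K : CochainComplex A ℤ) : ∃ p : Data e a b, Realizes K p := by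
  choose n φ using fun i : (Finset.Icc a b) => he (K.X i.1)
  exact ⟨⟨n, fun i j => (φ i).some.inv ≫ K.d i.1 j.1 ≫ (φ j).some.hom⟩, fun i => (φ i).some, fun i j => rfl⟩

theorem isZero_X {a b : ℤ} (K : CochainComplex A ℤ) [K.IsStrictlyGE a] [K.IsStrictlyLE b] (i : ℤ)
    (hi : i ∉ Finset.Icc a b) : IsZero (K.X i) := by
  rcases lt_or_ge i a with h | h
  · exact K.isZero_of_isStrictlyGE a i h
  · exact K.isZero_of_isStrictlyLE b i (not_le.1 fun h' => hi (Finset.mem_Icc.2 ⟨h, h'⟩))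

theorem nonempty_iso_of_realizes {e : ℕ → A} {a b : ℤ} {K K' : CochainComplex A ℤ} [K.IsStrictlyGE a] [K.IsStrictlyLE b]
    [K'.IsStrictlyGE a] [K'.IsStrictlyLE b] {p : Data e a b} (h : Realizes K p) (h' : Realizes K' p) :
    Nonempty (K ≅ K') := by
  obtain ⟨φ, hφ⟩ := h
  obtain ⟨φ', hφ'⟩ := h'
  refine ⟨HomologicalComplex.Hom.isoOfComponents (fun i => if hi : i ∈ Finset.Icc a b then φ ⟨i, hi⟩ ≪≫ (φ' ⟨i, hi⟩).symm
    else (isZero_X K i hi).iso (isZero_X K' i hi)) fun i j _ => ?_⟩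
  by_cases hi : i ∈ Finset.Icc a b
  · by_cases hj : j ∈ Finset.Icc a b
    · simp only [dif_pos hi, dif_pos hj, Iso.trans_hom, Iso.symm_hom]
      have h1 := (hφ ⟨i, hi⟩ ⟨j, hj⟩).symm.trans (hφ' ⟨i, hi⟩ ⟨j, hj⟩)
      rw [← cancel_epi (φ ⟨i, hi⟩).inv, ← cancel_mono (φ' ⟨j, hj⟩).hom]
      simpa using h1.symm
    · exact (isZero_X K' j hj).eq_of_tgt _ _
  · exact (isZero_X K i hi).eq_of_src _ _

theorem countable_hom (hhom : ∀ X Y : A, Countable (X ⟶ Y)) {a b : ℤ} (K L : CochainComplex A ℤ)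
    [K.IsStrictlyGE a] [K.IsStrictlyLE b] : Countable (K ⟶ L) := by
  haveI : ∀ i : (Finset.Icc a b), Countable (K.X i.1 ⟶ L.X i.1) := fun i => hhom _ _
  refine Function.Injective.countable (f := fun (f : K ⟶ L) (i : (Finset.Icc a b)) => f.f i.1) fun f g h => ?_
  ext i
  by_cases hi : i ∈ Finset.Icc a b
  · exact congrFun h ⟨i, hi⟩
  · exact (isZero_X K i hi).eq_of_src _ _

theorem countable_data (hhom : ∀ X Y : A, Countable (X ⟶ Y)) (e : ℕ → A) (a b : ℤ) : Countable (Data e a b) := by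
  haveI := hhom
  infer_instance

theorem countable_hom_Q [HasDerivedCategory.{w} A] (hhom : ∀ X Y : A, Countable (X ⟶ Y))
    {e : ℕ → A} (he : ∀ X : A, ∃ n : ℕ, Nonempty (X ≅ e n))
    (a b : ℤ) (X Y : CochainComplex A ℤ) [X.IsStrictlyGE a] [X.IsStrictlyLE b] [Y.IsStrictlyGE a] :
    Countable (DerivedCategory.Q.obj X ⟶ DerivedCategory.Q.obj Y) := by
  classical
  haveI := countable_data hhom e a b
  let P : Data e a b → Prop := fun p => ∃ X' : CochainComplex A ℤ, X'.IsStrictlyGE a ∧ X'.IsStrictlyLE b ∧ Realizes X' p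
  choose R hRa hRb hR using fun p : {p // P p} => p.2
  haveI : ∀ p : {p // P p}, Countable ((R p ⟶ X) × (R p ⟶ Y)) := fun p => by
    haveI := hRa p; haveI := hRb p
    haveI := countable_hom hhom (a := a) (b := b) (R p) X
    haveI := countable_hom hhom (a := a) (b := b) (R p) Y
    infer_instance
  let S := Σ p : {p // P p}, (R p ⟶ X) × (R p ⟶ Y)
  let T : S → (DerivedCategory.Q.obj X ⟶ DerivedCategory.Q.obj Y) := fun z =>
    if h : IsIso (DerivedCategory.Q.map z.2.1) then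
      (haveI := h; inv (DerivedCategory.Q.map z.2.1) ≫ DerivedCategory.Q.map z.2.2) else 0
  refine Function.Surjective.countable (f := T) fun f => ?_
  obtain ⟨X', ha, hb, s, hs, g, rfl⟩ := DerivedCategory.right_fac_of_isStrictlyLE_of_isStrictlyGE a b f
  obtain ⟨p, hp⟩ := exists_realizes he a b X'
  let q : {p // P p} := ⟨p, X', ha, hb, hp⟩
  haveI := hRa q; haveI := hRb q
  obtain ⟨i⟩ := nonempty_iso_of_realizes (hR q) hp
  haveI : IsIso (DerivedCategory.Q.map (i.hom ≫ s)) := by rw [Functor.map_comp]; infer_instance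
  refine ⟨⟨q, i.hom ≫ s, i.hom ≫ g⟩, ?_⟩
  simp only [T]
  rw [dif_pos (show IsIso (DerivedCategory.Q.map (i.hom ≫ s)) from inferInstance), IsIso.inv_comp_eq,
    Functor.map_comp, Functor.map_comp, Category.assoc, IsIso.hom_inv_id_assoc]

end Cnt


/-- Let A be an abelian category which is countable: Hom(X, Y) is countable for all objects X, Y and
there are countably many isomorphism classes of objects. Then the bounded derived category D^b(A) is
countable in the same sense. -/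
theorem result
    {A : Type u} [Category.{v} A] [Abelian A] [HasDerivedCategory.{w} A]
    (hhom : ∀ X Y : A, Countable (X ⟶ Y))
    (hiso : ∃ e : ℕ → A, ∀ X : A, ∃ n : ℕ, Nonempty (X ≅ e n)) :
    (∀ K L : DerivedCategory.Bounded A, Countable (K ⟶ L)) ∧
      ∃ e : ℕ → DerivedCategory.Bounded A, ∀ K : DerivedCategory.Bounded A,
        ∃ n : ℕ, Nonempty (K ≅ e n) := by
    classical
    obtain ⟨e, he⟩ := hiso
    have hex : ∀ K : DerivedCategory.Bounded A, ∃ (a b : ℤ) (C : CochainComplex A ℤ),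
        C.IsStrictlyGE a ∧ C.IsStrictlyLE b ∧ Nonempty (K.obj ≅ DerivedCategory.Q.obj C) := fun K => by
      obtain ⟨⟨a, ha⟩, ⟨b, hb⟩⟩ := K.property
      haveI : K.obj.IsGE a := ha
      haveI : K.obj.IsLE b := hb
      obtain ⟨C, h1, h2, h3⟩ := K.obj.exists_iso_Q_obj_of_isGE_of_isLE a b
      exact ⟨a, b, C, h1, h2, h3⟩
    refine ⟨fun K L => ?_, ?_⟩
    · obtain ⟨a, b, X, hXa, hXb, ⟨i⟩⟩ := hex K
      obtain ⟨a', b', Y, hYa, hYb, ⟨j⟩⟩ := hex L
      haveI : X.IsStrictlyGE (min a a') := X.isStrictlyGE_of_ge _ a (min_le_left _ _)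
      haveI : Y.IsStrictlyGE (min a a') := Y.isStrictlyGE_of_ge _ a' (min_le_right _ _)
      haveI := countable_hom_Q hhom he (min a a') b X Y
      exact Function.Injective.countable (f := fun f : K ⟶ L => i.inv ≫ f.hom ≫ j.hom) fun f g h => by
        rw [cancel_epi, cancel_mono] at h
        exact InducedCategory.hom_ext h
    · let P : (Σ ab : ℤ × ℤ, Data e ab.1 ab.2) → DerivedCategory.Bounded A → Prop := fun p K =>
        ∃ (C : CochainComplex A ℤ), C.IsStrictlyGE p.1.1 ∧ C.IsStrictlyLE p.1.2 ∧ Realizes C p.2 ∧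
          Nonempty (K.obj ≅ DerivedCategory.Q.obj C)
      haveI : ∀ ab : ℤ × ℤ, Countable (Data e ab.1 ab.2) := fun ab => countable_data hhom e _ _
      let K₀ : DerivedCategory.Bounded A := ⟨(DerivedCategory.singleFunctor A 0).obj (e 0),
        ⟨0, inferInstance⟩, ⟨0, inferInstance⟩⟩
      let G : (Σ ab : ℤ × ℤ, Data e ab.1 ab.2) → DerivedCategory.Bounded A := fun p =>
        if h : ∃ K, P p K then h.choose else K₀
      haveI : Nonempty (Σ ab : ℤ × ℤ, Data e ab.1 ab.2) :=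
        ⟨⟨(1, 0), fun _ => 0, fun _ _ => 0⟩⟩
      obtain ⟨s, hs⟩ := exists_surjective_nat (Σ ab : ℤ × ℤ, Data e ab.1 ab.2)
      refine ⟨fun n => G (s n), fun K => ?_⟩
      obtain ⟨a, b, C, ha, hb, ⟨i⟩⟩ := hex K
      obtain ⟨p, hp⟩ := exists_realizes he a b C
      obtain ⟨n, hn⟩ := hs ⟨(a, b), p⟩
      have h : ∃ K', P ⟨(a, b), p⟩ K' := ⟨K, C, ha, hb, hp, ⟨i⟩⟩
      obtain ⟨C', ha', hb', hp', ⟨i'⟩⟩ := h.choose_spec
      haveI : C'.IsStrictlyGE a := ha'
      haveI : C'.IsStrictlyLE b := hb'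
      obtain ⟨j⟩ := nonempty_iso_of_realizes hp hp'
      refine ⟨n, ⟨?_⟩⟩
      show K ≅ G (s n)
      rw [hn, show G ⟨(a, b), p⟩ = h.choose from dif_pos h]
      exact ObjectProperty.isoMk _ (i ≪≫ DerivedCategory.Q.mapIso j ≪≫ i'.symm)

end Groth.Agent.S6713
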