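import Groth.Agent.SerreUniq
import Mathlib.CategoryTheory.EssentialImage
import Mathlib.CategoryTheory.Equivalence
import Mathlib.CategoryTheory.Linear.LinearFunctor
import Mathlib.CategoryTheory.Preadditive.AdditiveFunctor

/-!
# Serre functors from representability
-/

universe w v u

open CategoryTheory

noncomputable section

namespace Groth.Agent.SerreUniq

variable {k : Type w} [Field k] {T : Type u} [Category.{v} T] [Preadditive T] [Linear k T]
  [∀ X Y : T, Module.Finite k (X ⟶ Y)]

/-- Exchange of the two sides of a perfect pairing. -/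
def flipEquiv {V W : Type*} [AddCommGroup V] [Module k V] [AddCommGroup W] [Module k W]
    [Module.Finite k V] (e : W ≃ₗ[k] Module.Dual k V) : V ≃ₗ[k] Module.Dual k W :=
  (Module.evalEquiv k V).trans e.dualMap

omit [∀ X Y : T, Module.Finite k (X ⟶ Y)] in
theorem flipEquiv_apply {V W : Type*} [AddCommGroup V] [Module k V] [AddCommGroup W] [Module k W]
    [Module.Finite k V] (e : W ≃ₗ[k] Module.Dual k V) (x : V) (y : W) :
    flipEquiv e x y = e y x :=
  rfl

variable (SX : T → T) (c : ∀ X Y : T, (X ⟶ Y) ≃ₗ[k] Module.Dual k (Y ⟶ SX X))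

/-- The map on morphisms. -/
def mapS (X' X : T) : (X' ⟶ X) ≃ₗ[k] (SX X' ⟶ SX X) :=
  (c X' X).trans ((Module.evalEquiv k (SX X' ⟶ SX X)).trans (c X (SX X')).dualMap).symm

theorem mapS_spec {X' X : T} (a : X' ⟶ X) (h : X ⟶ SX X') :
    c X (SX X') h (mapS SX c X' X a) = c X' X a h := by
  have e := ((Module.evalEquiv k (SX X' ⟶ SX X)).trans
    (c X (SX X')).dualMap).apply_symm_apply (c X' X a)
  exact LinearMap.congr_fun e h

variable {SX c} (hc : ∀ X, Nat₁ X (SX X) (c X))

include hc in
theorem mapS_comp' {X' X Y : T} (a : X' ⟶ X) (f : X ⟶ Y) (g : Y ⟶ SX X') :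
    c X' Y (a ≫ f) g = c X Y f (g ≫ mapS SX c X' X a) := by
  have h₁ := LinearMap.congr_fun (hc X' X Y a f) g
  have h₂ := LinearMap.congr_fun (hc X Y (SX X') f g) (mapS SX c X' X a)
  simp only [LinearMap.comp_apply, Linear.leftComp_apply] at h₁ h₂
  rw [h₁, ← h₂, mapS_spec]

include hc in
/-- The functor of a functorial duality. -/
def serreFunctor : T ⥤ T where
  obj := SX
  map {X' X} a := mapS SX c X' X a
  map_id X := eq_of_forall (c X) fun f => by
    rw [← Category.id_comp (mapS SX c X X (𝟙 X)), ← mapS_comp' hc, Category.id_comp]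
  map_comp {X'' X' X} a b := eq_of_forall (c X) fun f => by
    rw [← mapS_comp' hc, ← Category.id_comp (mapS SX c X'' X (a ≫ b)), ← mapS_comp' hc,
      ← Category.id_comp (mapS SX c X'' X' a), ← mapS_comp' hc, Category.assoc]

theorem serreFunctor_isEquivalence
    (hR : ∀ X : T, ∃ (RX : T) (e : ∀ Y : T, (RX ⟶ Y) ≃ₗ[k] Module.Dual k (Y ⟶ X)),
      Nat₁ RX X e) : (serreFunctor hc).IsEquivalence := by
  haveI : (serreFunctor hc).Faithful := ⟨fun h => (mapS SX c _ _).injective h⟩
  haveI : (serreFunctor hc).Full := ⟨fun g => (mapS SX c _ _).surjective g⟩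
  haveI : (serreFunctor hc).EssSurj := ⟨fun X => by
    obtain ⟨R, e, he⟩ := hR X
    obtain ⟨φ, -⟩ := exists_iso (hc R) he
    exact ⟨R, ⟨φ⟩⟩⟩
  exact {}

end Groth.Agent.SerreUniq
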