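import Groth.Statements.S6718
import Groth.Agent.SerreExists

set_option autoImplicit false
universe w v u
open CategoryTheory
open DEquiv

namespace Groth.Agent.S6718

open CategoryTheory.Limits CategoryTheory.Pretriangulated in
/-- Let k be a field and T a k-linear (pre)triangulated category with dim_k Hom(X, Y) < ∞ for all X, Y.
The following are equivalent: (1) there are a k-linear equivalence S : T ⥤ T and k-linear
isomorphisms c_{X,Y} : Hom(X, Y) ≅ Hom(Y, S X)^∨ natural in X and in Y; (2) for every object X the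
functor Y ↦ Hom(X, Y)^∨ is representable and the functor Y ↦ Hom(Y, X)^∨ is corepresentable, by
k-linear isomorphisms natural in Y. (Here V^∨ is the k-linear dual.) -/
theorem result
    {k : Type w} [Field k]
    {T : Type u} [Category.{v} T] [Preadditive T] [Linear k T] [HasZeroObject T] [HasShift T ℤ]
    [∀ n : ℤ, (shiftFunctor T n).Additive] [∀ n : ℤ, (shiftFunctor T n).Linear k] [Pretriangulated T]
    [∀ X Y : T, Module.Finite k (X ⟶ Y)] :
    (∃ (S : T ≌ T) (_ : S.functor.Additive) (_ : S.functor.Linear k)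
        (c : ∀ X Y : T, (X ⟶ Y) ≃ₗ[k] Module.Dual k (Y ⟶ S.functor.obj X)),
        (∀ (X Y Y' : T) (f : X ⟶ Y) (g : Y ⟶ Y'),
          c X Y' (f ≫ g) = (c X Y f) ∘ₗ Linear.leftComp k (S.functor.obj X) g) ∧
        (∀ (X' X Y : T) (a : X' ⟶ X) (f : X ⟶ Y),
          c X' Y (a ≫ f) = (c X Y f) ∘ₗ Linear.rightComp k Y (S.functor.map a))) ↔
    ((∀ X : T, ∃ (SX : T) (e : ∀ Y : T, (Y ⟶ SX) ≃ₗ[k] Module.Dual k (X ⟶ Y)),
        ∀ (Y Y' : T) (g : Y' ⟶ Y) (f : Y ⟶ SX),
          e Y' (g ≫ f) = (e Y f) ∘ₗ Linear.rightComp k X g) ∧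
      (∀ X : T, ∃ (RX : T) (e : ∀ Y : T, (RX ⟶ Y) ≃ₗ[k] Module.Dual k (Y ⟶ X)),
        ∀ (Y Y' : T) (g : Y ⟶ Y') (f : RX ⟶ Y),
          e Y' (f ≫ g) = (e Y f) ∘ₗ Linear.leftComp k X g)) := by
  constructor
  · rintro ⟨S, _, _, c, hc₁, hc₂⟩
    refine ⟨fun X => ⟨S.functor.obj X, fun Y => SerreUniq.flipEquiv (c X Y), fun Y Y' g f => ?_⟩,
      fun X => ⟨S.inverse.obj X, fun Y => (c (S.inverse.obj X) Y).trans
        (Linear.homCongr k (Iso.refl Y) (S.counitIso.app X).symm).dualMap, fun Y Y' g f => ?_⟩⟩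
    · refine LinearMap.ext fun h => ?_
      exact (LinearMap.congr_fun (hc₁ X Y' Y h g) f).symm
    · refine LinearMap.ext fun h => ?_
      show c _ Y' (f ≫ g) _ = c _ Y f _
      rw [hc₁ _ Y Y' f g]
      simp [Linear.homCongr_apply]
  · rintro ⟨hS, hR⟩
    choose SX e he using hS
    let c : ∀ X Y : T, (X ⟶ Y) ≃ₗ[k] Module.Dual k (Y ⟶ SX X) :=
      fun X Y => SerreUniq.flipEquiv (e X Y)
    have hc : ∀ X, SerreUniq.Nat₁ X (SX X) (c X) := fun X Y Y' f g => LinearMap.ext fun h => by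
      show e X Y' h (f ≫ g) = e X Y (g ≫ h) f
      rw [he X Y' Y g h]
      rfl
    haveI := SerreUniq.serreFunctor_isEquivalence hc fun X => by
      obtain ⟨R, e', he'⟩ := hR X
      exact ⟨R, e', fun Y Y' f g => he' Y Y' g f⟩
    haveI hA : (SerreUniq.serreFunctor hc).Additive :=
      ⟨fun {X Y f g} => map_add (SerreUniq.mapS SX c X Y) f g⟩
    haveI hL : Functor.Linear k (SerreUniq.serreFunctor hc) :=
      ⟨fun {X Y} f r => map_smul (SerreUniq.mapS SX c X Y) r f⟩
    exact ⟨(SerreUniq.serreFunctor hc).asEquivalence, hA, hL, c,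
      fun X Y Y' f g => hc X Y Y' f g,
      fun X' X Y a f => LinearMap.ext fun g => SerreUniq.mapS_comp' hc a f g⟩

end Groth.Agent.S6718
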