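import Groth.Statements.S6719
import Groth.Agent.SkyHomLib.Basic
import Groth.Agent.DCohMore.RHomCoh
-- import your own Groth.Agent.* helpers here

set_option autoImplicit false
set_option backward.isDefEq.respectTransparency false
set_option maxHeartbeats 800000
set_option synthInstance.maxHeartbeats 200000
universe u
open CategoryTheory AlgebraicGeometry
attribute [local instance] HasDerivedCategory.standard
open DEquiv

namespace Groth.Agent.S6719

/-- Let X be a Noetherian scheme, x ∈ X a closed point and O_x the skyscraper sheaf at x with value κ(x)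
(the direct image of the structure sheaf of Spec κ(x)). Let K be a bounded object of D(O_X) with
coherent cohomology sheaves and b ∈ ℤ. Then H^i(K)_x = 0 for all i > b if and only if Hom(K,
O_x⟦-i⟧) = 0 for all i > b. -/
theorem result
    (X : Scheme.{u}) [IsNoetherian X] (x : X) (hx : IsClosed ({x} : Set X))
    (K : DCoh.D X) (hK : DCoh.IsCohD K) (a c : ℤ) [DerivedCategory.IsGE K a]
    [DerivedCategory.IsLE K c] (b : ℤ) :
    (∀ i : ℤ, b < i → x ∉ CohB1.support (DCoh.HD K i)) ↔
      ∀ i : ℤ, b < i → ∀ φ : K ⟶ (shiftFunctor (DCoh.D X) (-i)).obj (DCoh.inD X ((Coh.push (X.fromSpecResidueField x)).obj (Coh.structureModule _))),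
        φ = 0 := by
  classical
  haveI : IsLocallyNoetherian X := inferInstance
  let G := SkyHomLib.skyO X x
  let sh : ∀ i : ℤ, (shiftFunctor (DCoh.D X) (-i)).obj (DCoh.inD X G) ≅ (DerivedCategory.singleFunctor X.Modules i).obj G :=
    fun i => ((DerivedCategory.singleFunctors X.Modules).shiftIso (-i) i 0 (by omega)).app G
  have hFT : ∀ i, CohB1.IsFT (DCoh.HD K i) := fun i => (hK i).2
  have nbhd : ∀ n : ℤ, (∀ i : ℤ, n < i → i ≤ c → x ∉ CohB1.support (DCoh.HD K i)) →
      ∃ U : X.Opens, x ∈ U ∧ ((DCoh.restrictD U.ι).obj K).IsLE n := fun n hn => by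
    let s : Set X := ⋃ i ∈ (Finset.Icc (n + 1) c : Set ℤ), CohB1.support (DCoh.HD K i)
    have hs : IsClosed s := Set.Finite.isClosed_biUnion (Finset.finite_toSet _) fun i _ =>
      haveI := (hK i).1
      PullbackMod.isClosed_support_of_isFT (hFT i)
    refine ⟨⟨sᶜ, hs.isOpen_compl⟩, ?_, (DerivedCategory.isLE_iff _ _).2 fun i hi => ?_⟩
    · show x ∉ s
      simp only [s, Finset.coe_Icc, Set.mem_Icc, Set.mem_iUnion, not_exists]
      exact fun i hi => hn i (by omega) hi.2
    · refine Limits.IsZero.of_iso ?_ (DCohLib.restrictHDIso _ K i)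
      rcases le_or_gt i c with hc | hc
      · haveI := (hK i).1
        refine SkyHomLib.isZero_restrict_of_disjoint (hFT i) _ fun y hy hy' => hy ?_
        simp only [s, Finset.coe_Icc, Set.mem_Icc, Set.mem_iUnion]
        exact ⟨i, ⟨by omega, hc⟩, hy'⟩
      · exact Functor.map_isZero _ (DerivedCategory.isZero_of_isLE K c i hc)
  constructor
  · intro h i hi φ
    obtain ⟨U, hxU, hU⟩ := nbhd b fun j hj _ => h j hj
    obtain ⟨k, hk, iU, z, hiU, hz, ⟨e⟩⟩ := SkyHomLib.nonempty_hom_equiv x hx U hxU K i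
    haveI : Subsingleton (K ⟶ (DerivedCategory.singleFunctor X.Modules i).obj G) := by
      refine @Equiv.subsingleton _ _ e ⟨fun f g => ?_⟩
      haveI : DerivedCategory.TStructure.t.IsLE ((DCoh.restrictD U.ι).obj K) b := hU
      haveI : DerivedCategory.TStructure.t.IsGE ((DerivedCategory.singleFunctor (U : Scheme.{u}).Modules i).obj
          ((Scheme.Modules.pushforward iU).obj (Coh.structureModule (Spec k)))) i :=
        inferInstanceAs (DerivedCategory.IsGE _ i)
      rw [DerivedCategory.TStructure.t.zero f b i hi, DerivedCategory.TStructure.t.zero g b i hi]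
    rw [← cancel_mono (sh i).hom, Limits.zero_comp]
    exact Subsingleton.elim _ _
  · intro h
    by_contra hne
    push_neg at hne
    obtain ⟨i₀, hi₀, hxi₀⟩ := hne
    have hi₀c : i₀ ≤ c := by
      by_contra hc
      exact hxi₀ (ModuleCat.subsingleton_of_isZero ((DCohLib.stkF x).map_isZero (DerivedCategory.isZero_of_isLE K c i₀ (by omega))))
    let F := (Finset.Icc (b + 1) c).filter fun i => x ∈ CohB1.support (DCoh.HD K i)
    have hF : F.Nonempty := ⟨i₀, Finset.mem_filter.2 ⟨Finset.mem_Icc.2 ⟨by omega, hi₀c⟩, hxi₀⟩⟩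
    let n := F.max' hF
    obtain ⟨hn1, hn2⟩ := Finset.mem_filter.1 (F.max'_mem hF)
    obtain ⟨U, hxU, hU⟩ := nbhd n fun i hi hic hxi => absurd (F.le_max' i (Finset.mem_filter.2
      ⟨Finset.mem_Icc.2 ⟨by have := (Finset.mem_Icc.1 hn1).1; omega, hic⟩, hxi⟩)) (not_le.2 hi)
    obtain ⟨k, hk, iU, z, hiU, hz, ⟨e⟩⟩ := SkyHomLib.nonempty_hom_equiv x hx U hxU K n
    haveI := (hK n).1
    let M := (Scheme.Modules.restrictFunctor U.ι).obj (DCoh.HD K n)
    haveI : Coh.IsQCoh M := (DCohMore.isCoh_restrict' (hK n) U).1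
    have hM : CohB1.IsFT M := (DCohMore.isCoh_restrict' (hK n) U).2
    have hxM : iU z ∈ CohB1.support M := by
      rw [SkyHomLib.support_congr ((Scheme.Modules.restrictFunctorIsoPullback U.ι).app (DCoh.HD K n)),
        SuppLib.support_pullback U.ι _ (hFT n)]
      show U.ι (iU z) ∈ CohB1.support (DCoh.HD K n)
      rw [hz]
      exact hn2
    obtain ⟨ψ, hψ⟩ := SkyHomLib.exists_hom_ne_zero_of_mem_support iU M hM hk rfl z rfl hxM
    obtain ⟨φ, hφ⟩ := SkyHomLib.exists_hom_ne_zero_of_isLE ((DCoh.restrictD U.ι).obj K) n _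
      ⟨(DCohLib.restrictHDIso U.ι K n).hom ≫ ψ, fun h0 => hψ (by rwa [← cancel_epi (DCohLib.restrictHDIso U.ι K n).hom, Limits.comp_zero])⟩
    refine hφ ?_
    haveI : Subsingleton (K ⟶ (DerivedCategory.singleFunctor X.Modules n).obj G) := ⟨fun f g => by
      rw [← cancel_mono (sh n).inv, h n (by have := (Finset.mem_Icc.1 hn1).1; omega) (f ≫ (sh n).inv),
        h n (by have := (Finset.mem_Icc.1 hn1).1; omega) (g ≫ (sh n).inv)]⟩
    haveI := e.symm.subsingleton
    exact Subsingleton.elim _ _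

end Groth.Agent.S6719
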