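import Groth.Statements.S6720
import Groth.Agent.SkyOrth.Basic
import Groth.Agent.S6719
-- import your own Groth.Agent.* helpers here

set_option autoImplicit false
set_option backward.isDefEq.respectTransparency false
set_option maxHeartbeats 800000
set_option synthInstance.maxHeartbeats 200000
universe u
open CategoryTheory AlgebraicGeometry
attribute [local instance] HasDerivedCategory.standard
open DEquiv

namespace Groth.Agent.S6720

/-- Let X be a scheme of finite type over a field k which is regular, x ∈ X a closed point, O_x the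
skyscraper sheaf at x with value κ(x), and K a perfect object of D(O_X). If Hom(O_x, K⟦i⟧) = 0 for
all i ∈ ℤ, then K is zero on an open neighbourhood of x; likewise if Hom(K, O_x⟦i⟧) = 0 for all i ∈
ℤ. (K zero on U is expressed as: no cohomology sheaf of K has a point of U in its support.) -/
theorem result
    (k : Type u) [Field k] (X : Scheme.{u}) [X.Over (Spec (.of k))]
    [LocallyOfFiniteType (X ↘ Spec (.of k))] [CompactSpace X]
    (hreg : Models.IsRegularScheme X) (x : X) (hx : IsClosed ({x} : Set X))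
    (K : DCoh.D X) (hK : DCoh.IsPerfect K) :
    ((∀ (i : ℤ) (φ : DCoh.inD X ((Coh.push (X.fromSpecResidueField x)).obj (Coh.structureModule _)) ⟶ (shiftFunctor (DCoh.D X) i).obj K), φ = 0) →
      ∃ U : X.Opens, x ∈ U ∧ ∀ (i : ℤ) (y : X), y ∈ U → y ∉ CohB1.support (DCoh.HD K i)) ∧
    ((∀ (i : ℤ) (φ : K ⟶ (shiftFunctor (DCoh.D X) i).obj (DCoh.inD X ((Coh.push (X.fromSpecResidueField x)).obj (Coh.structureModule _)))), φ = 0) →
      ∃ U : X.Opens, x ∈ U ∧ ∀ (i : ℤ) (y : X), y ∈ U → y ∉ CohB1.support (DCoh.HD K i)) := by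
  classical
  haveI : IsLocallyNoetherian X := LocallyOfFiniteType.isLocallyNoetherian (X ↘ Spec (.of k))
  haveI : IsNoetherian X := {}
  obtain ⟨hc, a, b, ha, hb⟩ := DCohLib.isCohD_bounded_of_isPerfect K hK
  haveI := ha
  haveI := hb
  have main : (∀ (i : ℤ) (φ : K ⟶ (shiftFunctor (DCoh.D X) i).obj (DCoh.inD X ((Coh.push (X.fromSpecResidueField x)).obj (Coh.structureModule _)))), φ = 0) →
      ∃ U : X.Opens, x ∈ U ∧ ∀ (i : ℤ) (y : X), y ∈ U → y ∉ CohB1.support (DCoh.HD K i) := fun h => by
    have hx' := (S6719.result X x hx K hc a b (a - 1)).2 fun i _ φ => h (-i) φ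
    let s : Set X := ⋃ i ∈ (Finset.Icc a b : Set ℤ), CohB1.support (DCoh.HD K i)
    have hs : IsClosed s := Set.Finite.isClosed_biUnion (Finset.finite_toSet _) fun i _ => by
      haveI := (hc i).1
      exact PullbackMod.isClosed_support_of_isFT (hc i).2
    refine ⟨⟨sᶜ, hs.isOpen_compl⟩, ?_, fun i y hy hy' => ?_⟩
    · show x ∉ s
      simp only [s, Finset.coe_Icc, Set.mem_Icc, Set.mem_iUnion, not_exists]
      exact fun i hi hxi => hx' i (by omega) hxi
    · rcases lt_or_ge i a with hi | hi
      · exact hy' (ModuleCat.subsingleton_of_isZero ((DCohLib.stkF y).map_isZero (DerivedCategory.isZero_of_isGE K a i hi)))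
      rcases lt_or_ge b i with hib | hib
      · exact hy' (ModuleCat.subsingleton_of_isZero ((DCohLib.stkF y).map_isZero (DerivedCategory.isZero_of_isLE K b i hib)))
      refine hy ?_
      simp only [s, Finset.coe_Icc, Set.mem_Icc, Set.mem_iUnion]
      exact ⟨i, ⟨hi, hib⟩, hy'⟩
  exact ⟨fun h => main fun i φ => SkyOrth.hom_to_sky_eq_zero hreg x hx K hK h i φ, main⟩

end Groth.Agent.S6720
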