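import Groth.Statements.S6721
import Groth.Agent.S2222
import Groth.Agent.DCohMore.TensorCoh
import Groth.Agent.ShStabLib.Noeth
import Groth.Agent.SiteCmpLib.Devissage

set_option linter.style.haveILetI false
set_option backward.isDefEq.respectTransparency false
-- import your own Groth.Agent.* helpers here

set_option autoImplicit false
universe u
open CategoryTheory AlgebraicGeometry
attribute [local instance] HasDerivedCategory.standard
open DEquiv

namespace Groth.Agent.S6721

/-- Let X be a Noetherian scheme all of whose local rings are regular and whose underlying space has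
Krull dimension d. Let K be a bounded object of D(O_X) with coherent cohomology sheaves and a ∈ ℤ
with H^i(K) = 0 for a < i < a + d. Then the connecting morphism τ_{≥ a+d} K ⟶ (τ_{< a+d} K)⟦1⟧ of
the truncation triangle vanishes (note τ_{< a+d} K = τ_{≤ a} K here), so K decomposes as τ_{≤ a} K ⊕
τ_{≥ a+d} K. -/
theorem result
    (X : Scheme.{u}) [IsNoetherian X] (hreg : Models.IsRegularScheme X) (d : ℕ)
    (hd : topologicalKrullDim X = d) (K : DCoh.D X) (hK : DCoh.IsCohD K) (lo hi : ℤ)
    [DerivedCategory.IsGE K lo] [DerivedCategory.IsLE K hi] (a : ℤ)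
    (hgap : ∀ i : ℤ, a < i → i < a + d → Limits.IsZero (DCoh.HD K i)) :
    (DerivedCategory.TStructure.t.truncGEδLT (a + d)).app K = 0 := by
  have h2 := (Groth.Agent.S2222.result X hreg d hd).2
  let t := DerivedCategory.TStructure.t (C := X.Modules)
  let L₀ : DCoh.D X := (t.truncLT (a + d)).obj K
  let R₀ : DCoh.D X := (t.truncGE (a + d)).obj K
  haveI hL : DerivedCategory.IsGE L₀ lo := Groth.Agent.SiteCmpLib.isGE_truncLT K lo (a + d)
  have hLcoh : DCoh.IsCohD L₀ := fun i => by
    by_cases hi' : i < a + d
    · haveI := Groth.Agent.DCohLib.isIso_homology_truncLTι K (a + d) i hi'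
      exact Groth.Agent.ShStabLib.isCoh_of_iso
        (asIso ((DerivedCategory.homologyFunctor X.Modules i).map ((t.truncLTι (a + d)).app K))).symm (hK i)
    · haveI : DerivedCategory.IsLE L₀ (a + d - 1) := t.isLE_truncLT_obj K (a + d) (a + d - 1) (by omega)
      exact Groth.Agent.DCohMore.isCoh_of_isZero (DerivedCategory.isZero_of_isLE L₀ (a + d - 1) i (by omega))
  have hRcoh : DCoh.IsCohD R₀ := fun i => by
    by_cases hi' : a + d ≤ i
    · haveI := Groth.Agent.DCohLib.isIso_homology_truncGEπ K (a + d) i hi'
      exact Groth.Agent.ShStabLib.isCoh_of_iso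
        (asIso ((DerivedCategory.homologyFunctor X.Modules i).map ((t.truncGEπ (a + d)).app K))) (hK i)
    · haveI : DerivedCategory.IsGE R₀ (a + d) := inferInstanceAs (t.IsGE ((t.truncGE (a + d)).obj K) (a + d))
      exact Groth.Agent.DCohMore.isCoh_of_isZero (DerivedCategory.isZero_of_isGE R₀ (a + d) i (by omega))
  haveI hLle : DerivedCategory.IsLE L₀ a := (DerivedCategory.isLE_iff L₀ a).2 fun i hi' => by
    by_cases h : i < a + d
    · haveI := Groth.Agent.DCohLib.isIso_homology_truncLTι K (a + d) i h
      exact (hgap i hi' h).of_iso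
        (asIso ((DerivedCategory.homologyFunctor X.Modules i).map ((t.truncLTι (a + d)).app K)))
    · haveI : DerivedCategory.IsLE L₀ (a + d - 1) := t.isLE_truncLT_obj K (a + d) (a + d - 1) (by omega)
      exact DerivedCategory.isZero_of_isLE L₀ (a + d - 1) i (by omega)
  have hRge : DerivedCategory.IsGE R₀ (a + d) := inferInstanceAs (t.IsGE ((t.truncGE (a + d)).obj K) (a + d))
  have hRle : DerivedCategory.IsLE R₀ hi := (DerivedCategory.isLE_iff R₀ hi).2 fun i hi' => by
    by_cases h : a + d ≤ i
    · haveI := Groth.Agent.DCohLib.isIso_homology_truncGEπ K (a + d) i h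
      exact (DerivedCategory.isZero_of_isLE K hi i hi').of_iso
        (asIso ((DerivedCategory.homologyFunctor X.Modules i).map ((t.truncGEπ (a + d)).app K))).symm
    · exact DerivedCategory.isZero_of_isGE R₀ (a + d) i (by omega)
  have hScoh : DCoh.IsCohD (L₀⟦(1 : ℤ)⟧) := fun i =>
    Groth.Agent.ShStabLib.isCoh_of_iso
      (((DerivedCategory.homologyFunctor X.Modules 0).shiftIso 1 i (1 + i) rfl).app L₀).symm (hLcoh (1 + i))
  exact h2 R₀ (L₀⟦(1 : ℤ)⟧) a hi (lo - 1) hRcoh hScoh hRge hRle (t.isGE_shift L₀ lo 1 (lo - 1) (by omega))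
    (t.isLE_shift L₀ a 1 (a - 1) (by omega)) _

end Groth.Agent.S6721
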