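import Groth.Statements.S6722
import Groth.Agent.SerreClosLib.Main
import Groth.Agent.SerreClosLib.Sigma
-- import your own Groth.Agent.* helpers here

set_option backward.isDefEq.respectTransparency false

set_option autoImplicit false
universe u
open CategoryTheory AlgebraicGeometry
open FunMor

namespace Groth.Agent.S6722

open CategoryTheory.Limits Groth.Agent.SerreClosLib Groth.Agent.QCohLib

open CategoryTheory.Limits in
/-- Let X be a quasi-compact and quasi-separated scheme and F a finitely presented (quasi-coherent)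
O_X-module. Then every quasi-coherent O_X-module E with Supp(E) ⊆ Supp(F) lies in the smallest Serre
subcategory of QCoh(O_X) containing F which is closed under extensions and arbitrary direct sums.
Stated as: E has every property P of O_X-modules such that P holds for F, P is a Serre class on
quasi-coherent modules (in a short exact sequence of quasi-coherent modules the middle term has P
iff the outer terms do), and P is closed under direct sums of quasi-coherent modules. (The reverse
inclusion, that such modules form a class of this kind, is not restated.) -/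
theorem result
    (X : Scheme.{u}) [CompactSpace X] [QuasiSeparatedSpace X]
    (F : X.Modules) (hFq : Coh.IsQCoh F) (hF : CohB1.IsFP F)
    (P : ObjectProperty X.Modules) (hPF : P F)
    (hSerre : ∀ S : ShortComplex X.Modules, S.ShortExact → Coh.IsQCoh S.X₁ → Coh.IsQCoh S.X₂ →
      Coh.IsQCoh S.X₃ → (P S.X₂ ↔ P S.X₁ ∧ P S.X₃))
    (hsum : ∀ (ι : Type u) (M : ι → X.Modules), (∀ i, Coh.IsQCoh (M i)) → (∀ i, P (M i)) →
      P (∐ M))
    (E : X.Modules) (hE : Coh.IsQCoh E) (hsupp : CohB1.support E ⊆ CohB1.support F) :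
    P E := by
  classical
  have hquot : ∀ {M N : X.Modules} (q : M ⟶ N) [Epi q], Coh.IsQCoh M → Coh.IsQCoh N → P M → P N :=
    fun q _ hM hN hP =>
      ((hSerre _ (shortExact_kernel q) (isQCoh_image q hM hN).1 hM hN).1 hP).2
  have hsub : ∀ {M N : X.Modules} (i : M ⟶ N) [Mono i], Coh.IsQCoh M → Coh.IsQCoh N → P N → P M :=
    fun i _ hM hN hP =>
      ((hSerre _ (shortExact_cokernel i) hM hN (isQCoh_image i hM hN).2).1 hP).1
  let ι : Type u := Σ U : X.affineOpens, {s : Γ(E, U.1) //
    ∃ (G : X.Modules) (i : G ⟶ E), Coh.IsQCoh G ∧ P G ∧ ∃ g : Γ(G, U.1), i.app U.1 g = s}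
  choose G i hGq hGP g hg using fun a : ι => a.2.2
  have hSq : Coh.IsQCoh (∐ G) := isQCoh_sigma G hGq
  have hSP : P (∐ G) := hsum ι G hGq hGP
  let f : ∐ G ⟶ E := Sigma.desc i
  let π : E ⟶ cokernel f := cokernel.π f
  have hQ : Coh.IsQCoh (cokernel f) := (isQCoh_image f hSq hE).2
  have hIq : Coh.IsQCoh (kernel π) := (isQCoh_image π hE hQ).1
  have hIP : P (kernel π) := by
    haveI : Epi (Abelian.factorThruImage f) := inferInstance
    exact hquot (Abelian.factorThruImage f) hSq hIq hSP
  have hzero : IsZero (cokernel f) := by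
    by_contra hne
    obtain ⟨s₀, hs₀fin, hs₀⟩ :=
      (isCompact_and_isOpen_iff_finite_and_eq_biUnion_affineOpens (U := (Set.univ : Set X))).1
        ⟨isCompact_univ, isOpen_univ⟩
    haveI := hs₀fin.fintype
    obtain ⟨U, hU, E', e, he, hE'q, hE'ne, hsep⟩ := exists_sep s₀.toFinset.toList (cokernel f) hQ hne
      fun V s x hx hxl => by
        obtain ⟨W, hW, hxW⟩ := Set.mem_iUnion₂.mp (hs₀.le (Set.mem_univ x))
        exact absurd hxW (hxl W (by simpa using hW))
    haveI := he
    haveI := hFq
    haveI hfp := finitePresentation_sections F hF hU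
    have hsu : Supp F E' := ((supp_of_subset hsupp).of_epi π).of_mono e
    obtain ⟨x₀, hx₀⟩ : ∃ x₀ : Γ(E', U), x₀ ≠ 0 := by
      by_contra hall
      push Not at hall
      exact hE'ne (isZero_of_sections fun V s => hsep V s fun x hx hxU =>
        germ_eq_zero_of_sections hE'q hU hall x hx hxU s)
    obtain ⟨φ, hφ⟩ := exists_ne_zero_hom (A := Γ(X, U)) Γ(F, U) Γ(E', U) x₀ hx₀ fun p hp y hy => by
      have hzU : hU.fromSpec ⟨p, hp⟩ ∈ U := by
        rw [← SetLike.mem_coe, ← hU.range_fromSpec]
        exact Set.mem_range_self _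
      have hmem : ∀ a : Γ(X, U), hU.fromSpec ⟨p, hp⟩ ∈ X.basicOpen a ↔ a ∉ p := fun a => by
        have h := SetLike.ext_iff.mp (hU.fromSpec_preimage_basicOpen a) ⟨p, hp⟩
        rw [Scheme.Hom.mem_preimage] at h
        exact h
      generalize hz : hU.fromSpec ⟨p, hp⟩ = z at hzU hmem
      have hmem' : ∀ a : Γ(X, U), a ∈ (hU.primeIdealOf ⟨z, hzU⟩).asIdeal.primeCompl ↔ a ∉ p :=
        fun a => (PullbackMod.primeCompl_primeIdealOf hU z hzU a).trans (hmem a)
      haveI := hE'q
      letI := Module.compHom (E'.presheaf.stalk z) (X.presheaf.germ U z hzU).hom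
      letI := Module.compHom (F.presheaf.stalk z) (X.presheaf.germ U z hzU).hom
      haveI := FlatLocus.isLocalizedModule_germL E' hU z hzU
      haveI := FlatLocus.isLocalizedModule_germL F hU z hzU
      have hzF : z ∈ CohB1.support F := hsu U y z hzU fun h0 => by
        obtain ⟨s, hs⟩ := (IsLocalizedModule.eq_zero_iff (hU.primeIdealOf ⟨z, hzU⟩).asIdeal.primeCompl
          (FlatLocus.germL E' U z hzU)).1 h0
        exact hy s.1 ((hmem' _).1 s.2) hs
      by_contra hall
      push Not at hall
      refine hzF ⟨fun a b => ?_⟩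
      have hv : ∀ v : F.presheaf.stalk z, v = 0 := fun v => by
        obtain ⟨⟨m, a⟩, hma⟩ := IsLocalizedModule.surj (hU.primeIdealOf ⟨z, hzU⟩).asIdeal.primeCompl
          (FlatLocus.germL F U z hzU) v
        obtain ⟨s, hs, hsm⟩ := hall m
        have h0 : FlatLocus.germL F U z hzU m = 0 :=
          (IsLocalizedModule.eq_zero_iff (hU.primeIdealOf ⟨z, hzU⟩).asIdeal.primeCompl _).2
            ⟨⟨s, (hmem' s).2 hs⟩, hsm⟩
        rw [h0] at hma
        exact ((Module.End.isUnit_iff _).1 (IsLocalizedModule.map_units (FlatLocus.germL F U z hzU) a)).1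
          (hma.trans (map_zero _).symm)
      rw [hv a, hv b]
    obtain ⟨G', i', j, hi', hG'q, hj⟩ := exists_graph F E' hFq hE'q hU hsep φ hφ
    haveI := hi'
    let H' : X.Modules := Abelian.image j
    have hH'q : Coh.IsQCoh H' := (isQCoh_image _ hE'q (isQCoh_image j hG'q hE'q).2).1
    have hH'P : P H' := hquot (Abelian.factorThruImage j) hG'q hH'q (hsub i' hG'q hFq hPF)
    have hH'ne : ¬ IsZero H' := fun h => hj (by
      rw [← Abelian.image.fac j, h.eq_of_tgt (Abelian.factorThruImage j) 0, zero_comp])
    let k : H' ⟶ cokernel f := Abelian.image.ι j ≫ e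
    let H : X.Modules := pullback π k
    let K₁ : X.Modules := kernel (pullback.snd π k)
    let eK : K₁ ≅ kernel π :=
      { hom := kernel.lift π (kernel.ι _ ≫ pullback.fst π k) (by
          rw [Category.assoc, pullback.condition, ← Category.assoc, kernel.condition, zero_comp])
        inv := kernel.lift _ (pullback.lift (kernel.ι π) 0 (by rw [kernel.condition, zero_comp]))
          (pullback.lift_snd _ _ _)
        hom_inv_id := by
          rw [← cancel_mono (kernel.ι _)]
          apply pullback.hom_ext <;> simp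
        inv_hom_id := by
          rw [← cancel_mono (kernel.ι π)]
          simp }
    haveI : IsIso eK.inv := Iso.isIso_inv eK
    haveI : Epi eK.inv := IsIso.epi_of_iso eK.inv
    have hK₁q : Coh.IsQCoh K₁ := (SheafOfModules.isQuasicoherent X.ringCatSheaf).prop_of_iso eK.symm hIq
    have hK₁P : P K₁ := hquot eK.inv hIq hK₁q hIP
    have hsnd := shortExact_kernel (pullback.snd π k)
    have hHq : Coh.IsQCoh H := isQCoh_X₂ hsnd hK₁q hH'q
    have hHP : P H := (hSerre _ hsnd hK₁q hHq hH'q).2 ⟨hK₁P, hH'P⟩
    obtain ⟨V, hV, h', hh'⟩ := exists_affine_section hH'q hH'ne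
    obtain ⟨h, hh⟩ := app_surjective hsnd hK₁q hV h'
    let a : ι := ⟨⟨V, hV⟩, (pullback.fst π k).app V h, H, pullback.fst π k, hHq, hHP, h, rfl⟩
    have hga : (i a).app V (g a) = (pullback.fst π k).app V h := hg a
    have e0 : π.app V ((i a).app V (g a)) = 0 := by
      have h1 : i a ≫ π = 0 := by
        rw [← Sigma.ι_desc i a, Category.assoc, cokernel.condition, comp_zero]
      exact congr($(h1).app V (g a))
    have e1 : k.app V ((pullback.snd π k).app V h) = 0 := by
      have h2 : π.app V ((pullback.fst π k).app V h) = k.app V ((pullback.snd π k).app V h) :=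
        congr($(pullback.condition (f := π) (g := k)).app V h)
      rw [← h2, ← hga, e0]
    refine hh' ?_
    rw [← hh]
    exact app_injective_of_mono k V (e1.trans (map_zero _).symm)
  haveI : Epi f := Abelian.epi_of_cokernel_π_eq_zero f (hzero.eq_of_tgt _ _)
  exact hquot f hSq hE hSP

end Groth.Agent.S6722
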