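import Groth.Statements.S6729
import Groth.Agent.BoxLib.Resolve
import Groth.Agent.S6717
import Groth.Agent.DCohLib.TensorPerf
import Groth.Agent.DCohLib.PerfCoh
import Groth.Agent.SiteCmpLib.Devissage
import Groth.Agent.SkyOrth.Basic
-- import your own Groth.Agent.* helpers here

set_option autoImplicit false
set_option backward.isDefEq.respectTransparency false
set_option backward.isDefEq.respectTransparency false
set_option maxHeartbeats 800000
set_option synthInstance.maxHeartbeats 200000
universe u
open CategoryTheory AlgebraicGeometry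
open DEquiv

namespace Groth.Agent.S6729

open CategoryTheory.Limits in
/-- Let R be a Noetherian ring and X a separated scheme of finite type over R which has the resolution
property. Let O_Δ = Δ_* O_X on X ×_R X, where Δ is the diagonal. Then there is a resolution ⋯ ⟶ E_1
⊠ G_1 ⟶ E_0 ⊠ G_0 ⟶ O_Δ ⟶ 0 with every E_i and G_i a finite locally free O_X-module: an ℕ-indexed
chain complex with a quasi-isomorphism to O_Δ in degree 0, each of whose terms is isomorphic to
pr_1^* E_i ⊗ pr_2^* G_i. -/
theorem result
    (R : Type u) [CommRing R] [IsNoetherianRing R] (X : Scheme.{u}) [X.Over (Spec (.of R))]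
    [IsSeparated (X ↘ Spec (.of R))] [LocallyOfFiniteType (X ↘ Spec (.of R))] [CompactSpace X]
    (hX : PerfAux.HasResolutionProperty X) :
    ∃ (C : ChainComplex (pullback (X ↘ Spec (.of R)) (X ↘ Spec (.of R))).Modules ℕ)
      (π : C ⟶ (ChainComplex.single₀ _).obj
        ((Coh.push (pullback.diagonal (X ↘ Spec (.of R)))).obj (Coh.structureModule X))),
      QuasiIso π ∧ ∀ n : ℕ, ∃ (E G : X.Modules), FlatMod.IsFinLocFree E ∧ FlatMod.IsFinLocFree G ∧
        Nonempty (C.X n ≅ CohB1.tensorMod
          ((Scheme.Modules.pullback (pullback.fst (X ↘ Spec (.of R)) (X ↘ Spec (.of R)))).obj E)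
          ((Scheme.Modules.pullback (pullback.snd (X ↘ Spec (.of R)) (X ↘ Spec (.of R)))).obj G)) := by
    let s := X ↘ Spec (CommRingCat.of R)
    haveI : IsLocallyNoetherian X := LocallyOfFiniteType.isLocallyNoetherian s
    haveI : QuasiSeparatedSpace X := (quasiSeparated_iff_quasiSeparatedSpace s).1 inferInstance
    let P := Limits.pullback s s
    haveI : IsLocallyNoetherian P := LocallyOfFiniteType.isLocallyNoetherian (Limits.pullback.fst s s)
    let M := (Coh.push (Limits.pullback.diagonal s)).obj (Coh.structureModule X)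
    have hM : Coh.IsCoh M := DevLib.isCoh_pushforward_closed _
      (DCohLib.isCoh_of_isFinLocFree (BCLib.isFinLocFree_structureModule X))
    obtain ⟨K, π, hπ, hK⟩ := BoxLib.exists_leftResolution (C := fun N : P.Modules => Coh.IsCoh N)
      (B := fun E' : P.Modules => ∃ (E G : X.Modules), FlatMod.IsFinLocFree E ∧ FlatMod.IsFinLocFree G ∧
        Nonempty (E' ≅ CohB1.tensorMod ((Scheme.Modules.pullback (pullback.fst s s)).obj E)
          ((Scheme.Modules.pullback (pullback.snd s s)).obj G))) (fun N hN => by
        obtain ⟨E, G, hE, hG, φ, hφ⟩ := S6717.result R X X hX hX N hN.1 hN.2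
        refine ⟨_, φ, ⟨E, G, hE, hG, ⟨Iso.refl _⟩⟩, hφ, (QCohLib.isCoh_kernel_cokernel φ ?_ hN).1⟩
        exact DCohLib.isCoh_of_isFinLocFree (DCohLib.isFinLocFree_tensor
          (PullbackMod.isFinLocFree_pullback _ _ hE) (PullbackMod.isFinLocFree_pullback _ _ hG))) M hM
    exact ⟨K, π, hπ, hK⟩

end Groth.Agent.S6729
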