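import Mathlib.CategoryTheory.Linear.Basic
import Mathlib.LinearAlgebra.Dual.Lemmas

/-!
# Comparison of Serre dualities
-/

universe w v u

open CategoryTheory

namespace Groth.Agent.SerreUniq

variable {k : Type w} [Field k] {T : Type u} [Category.{v} T] [Preadditive T] [Linear k T]
  [∀ X Y : T, Module.Finite k (X ⟶ Y)]

/-- A family of dualities between morphisms out of `X` and morphisms into `SX`, natural in the
second argument. -/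
def Nat₁ (X SX : T) (c : ∀ Y : T, (X ⟶ Y) ≃ₗ[k] Module.Dual k (Y ⟶ SX)) : Prop :=
  ∀ (Y Y' : T) (f : X ⟶ Y) (g : Y ⟶ Y'), c Y' (f ≫ g) = (c Y f) ∘ₗ Linear.leftComp k SX g

theorem apply_eq {X SX : T} {c : ∀ Y : T, (X ⟶ Y) ≃ₗ[k] Module.Dual k (Y ⟶ SX)}
    (hc : Nat₁ X SX c) {Y : T} (f : X ⟶ Y) (g : Y ⟶ SX) : c Y f g = c SX (f ≫ g) (𝟙 SX) := by
  rw [hc Y SX f g]
  show c Y f g = c Y f (g ≫ 𝟙 SX)
  rw [Category.comp_id]

theorem eq_of_forall {X SX : T} (c : ∀ Y : T, (X ⟶ Y) ≃ₗ[k] Module.Dual k (Y ⟶ SX)) {Y : T}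
    {g g' : Y ⟶ SX} (h : ∀ f : X ⟶ Y, c Y f g = c Y f g') : g = g' := by
  refine Module.eval_apply_injective k (LinearMap.ext fun φ => ?_)
  obtain ⟨f, rfl⟩ := (c Y).surjective φ
  exact h f

theorem exists_compare {X SX SX' : T} {c : ∀ Y : T, (X ⟶ Y) ≃ₗ[k] Module.Dual k (Y ⟶ SX)}
    (hc : Nat₁ X SX c) {c' : ∀ Y : T, (X ⟶ Y) ≃ₗ[k] Module.Dual k (Y ⟶ SX')}
    (hc' : Nat₁ X SX' c') :
    ∃ φ : SX ⟶ SX', ∀ (Y : T) (f : X ⟶ Y) (g : Y ⟶ SX), c Y f g = c' Y f (g ≫ φ) := by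
  obtain ⟨φ, hφ⟩ := (Module.evalEquiv k (SX ⟶ SX')).surjective
    ((Module.Dual.eval k (SX ⟶ SX) (𝟙 SX)).comp
      ((c SX).toLinearMap.comp (c' SX).symm.toLinearMap))
  refine ⟨φ, fun Y f g => ?_⟩
  rw [apply_eq hc f g]
  have h := congrArg (fun L => L (c' SX (f ≫ g))) hφ
  simp only [Module.evalEquiv_apply, Module.Dual.eval_apply, LinearMap.comp_apply,
    LinearEquiv.coe_coe, LinearEquiv.symm_apply_apply] at h
  rw [← h, hc' Y SX f g]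
  rfl

theorem exists_iso {X SX SX' : T} {c : ∀ Y : T, (X ⟶ Y) ≃ₗ[k] Module.Dual k (Y ⟶ SX)}
    (hc : Nat₁ X SX c) {c' : ∀ Y : T, (X ⟶ Y) ≃ₗ[k] Module.Dual k (Y ⟶ SX')}
    (hc' : Nat₁ X SX' c') :
    ∃ φ : SX ≅ SX', ∀ (Y : T) (f : X ⟶ Y) (g : Y ⟶ SX), c Y f g = c' Y f (g ≫ φ.hom) := by
  obtain ⟨φ, hφ⟩ := exists_compare hc hc'
  obtain ⟨ψ, hψ⟩ := exists_compare hc' hc
  exact ⟨⟨φ, ψ, eq_of_forall c fun f => by rw [← hψ _ f φ, ← Category.id_comp φ, ← hφ],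
    eq_of_forall c' fun f => by rw [← hφ _ f ψ, ← Category.id_comp ψ, ← hψ]⟩, hφ⟩

end Groth.Agent.SerreUniq
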