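import Groth.Statements.S6731
import Mathlib
import Groth.Agent.SerreUniq

set_option autoImplicit false
universe w v u
open CategoryTheory
open DEquiv

namespace Groth.Agent.S6731

open CategoryTheory.Limits CategoryTheory.Pretriangulated in
/-- Let k be a field and T a k-linear triangulated category with dim_k Hom(X, Y) < ∞ for all X, Y. Let
(S, c) and (S', c') be Serre functors: k-linear equivalences T ⥤ T with k-linear isomorphisms
c_{X,Y} : Hom(X, Y) ≅ Hom(Y, S X)^∨ natural in X and Y (likewise c'). Then there is a unique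
isomorphism of functors φ : S ≅ S' compatible with c and c', i.e. c_{X,Y}(f) is c'_{X,Y}(f) composed
with postcomposition by φ_X. -/
theorem result
    {k : Type w} [Field k]
    {T : Type u} [Category.{v} T] [Preadditive T] [Linear k T] [HasZeroObject T] [HasShift T ℤ]
    [∀ n : ℤ, (shiftFunctor T n).Additive] [∀ n : ℤ, (shiftFunctor T n).Linear k] [Pretriangulated T]
    [IsTriangulated T] [∀ X Y : T, Module.Finite k (X ⟶ Y)]
    (S : T ≌ T) [S.functor.Additive] [S.functor.Linear k]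
    (c : ∀ X Y : T, (X ⟶ Y) ≃ₗ[k] Module.Dual k (Y ⟶ S.functor.obj X))
    (hc₁ : ∀ (X Y Y' : T) (f : X ⟶ Y) (g : Y ⟶ Y'),
      c X Y' (f ≫ g) = (c X Y f) ∘ₗ Linear.leftComp k (S.functor.obj X) g)
    (hc₂ : ∀ (X' X Y : T) (a : X' ⟶ X) (f : X ⟶ Y),
      c X' Y (a ≫ f) = (c X Y f) ∘ₗ Linear.rightComp k Y (S.functor.map a))
    (S' : T ≌ T) [S'.functor.Additive] [S'.functor.Linear k]
    (c' : ∀ X Y : T, (X ⟶ Y) ≃ₗ[k] Module.Dual k (Y ⟶ S'.functor.obj X))
    (hc'₁ : ∀ (X Y Y' : T) (f : X ⟶ Y) (g : Y ⟶ Y'),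
      c' X Y' (f ≫ g) = (c' X Y f) ∘ₗ Linear.leftComp k (S'.functor.obj X) g)
    (hc'₂ : ∀ (X' X Y : T) (a : X' ⟶ X) (f : X ⟶ Y),
      c' X' Y (a ≫ f) = (c' X Y f) ∘ₗ Linear.rightComp k Y (S'.functor.map a)) :
    ∃! φ : S.functor ≅ S'.functor, ∀ (X Y : T) (f : X ⟶ Y),
      c X Y f = (c' X Y f) ∘ₗ Linear.rightComp k Y (φ.hom.app X) := by
  choose φ hφ using fun X => SerreUniq.exists_iso (c := c X) (fun Y Y' f g => hc₁ X Y Y' f g)
    (c' := c' X) (fun Y Y' f g => hc'₁ X Y Y' f g)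
  have nat : ∀ {X' X : T} (a : X' ⟶ X),
      S.functor.map a ≫ (φ X).hom = (φ X').hom ≫ S'.functor.map a := fun {X' X} a =>
    SerreUniq.eq_of_forall (c' X) fun f => by
      have h2 : c X _ f (S.functor.map a) = c X' _ (a ≫ f) (𝟙 _) := by
        rw [hc₂ X' X _ a f]
        show c X _ f (S.functor.map a) = c X _ f (𝟙 _ ≫ S.functor.map a)
        rw [Category.id_comp]
      have h3 : c' X' _ (a ≫ f) ((φ X').hom) = c' X _ f ((φ X').hom ≫ S'.functor.map a) := by
        rw [hc'₂ X' X _ a f]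
        rfl
      rw [← hφ X _ f (S.functor.map a), h2, hφ X' _ (a ≫ f) (𝟙 _), Category.id_comp, h3]
  refine ⟨NatIso.ofComponents φ fun a => nat a, fun X Y f => LinearMap.ext fun g => hφ X Y f g,
    fun ψ hψ => ?_⟩
  apply Iso.ext
  apply NatTrans.ext
  funext X
  refine SerreUniq.eq_of_forall (c' X) fun f => ?_
  have h := LinearMap.congr_fun (hψ X _ f) (𝟙 _)
  rw [hφ X _ f (𝟙 _)] at h
  simpa using h.symm

end Groth.Agent.S6731
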