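import Groth.Statements.S6732
import Mathlib.CategoryTheory.Triangulated.Pretriangulated
import Mathlib.CategoryTheory.Linear.LinearFunctor
import Mathlib.LinearAlgebra.Dual.Lemmas

set_option autoImplicit false
universe w v u
open CategoryTheory
open DEquiv

namespace Groth.Agent.S6732

set_option backward.isDefEq.respectTransparency false

open CategoryTheory.Limits CategoryTheory.Pretriangulated

namespace S6732Aux

lemma exists_functional {k V W U : Type*} [Field k] [AddCommGroup V] [Module k V] [AddCommGroup W]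
    [Module k W] [AddCommGroup U] [Module k U]
    (Φ : V →ₗ[k] W) (Ψ : V →ₗ[k] U) (h : LinearMap.ker Φ ≤ LinearMap.ker Ψ) :
    ∃ ν : W →ₗ[k] U, ∀ x, ν (Φ x) = Ψ x := by
  obtain ⟨ν, hν⟩ := LinearMap.exists_extend
    (((LinearMap.ker Φ).liftQ Ψ h) ∘ₗ Φ.quotKerEquivRange.symm.toLinearMap)
  refine ⟨ν, fun x => ?_⟩
  have h1 := LinearMap.congr_fun hν ⟨Φ x, LinearMap.mem_range_self Φ x⟩
  simp only [LinearMap.comp_apply, Submodule.coe_subtype, LinearEquiv.coe_coe] at h1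
  rw [h1, LinearMap.quotKerEquivRange_symm_apply_image Φ x (LinearMap.mem_range_self Φ x)]
  rfl

variable {k : Type w} [Field k] {T : Type u} [Category.{v} T] [Preadditive T] [Linear k T]
  [∀ X Y : T, Module.Finite k (X ⟶ Y)] (S : T ⥤ T)
  (c : ∀ X Y : T, (X ⟶ Y) ≃ₗ[k] Module.Dual k (Y ⟶ S.obj X))

/-- The trace of a Serre functor. -/
noncomputable def tr (X : T) : (X ⟶ S.obj X) →ₗ[k] k := c X X (𝟙 X)

variable (hc₁ : ∀ (X Y Y' : T) (f : X ⟶ Y) (g : Y ⟶ Y'),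
      c X Y' (f ≫ g) = (c X Y f) ∘ₗ Linear.leftComp k (S.obj X) g)
  (hc₂ : ∀ (X' X Y : T) (a : X' ⟶ X) (f : X ⟶ Y),
      c X' Y (a ≫ f) = (c X Y f) ∘ₗ Linear.rightComp k Y (S.map a))

include hc₁ in
lemma c_apply {X Y : T} (f : X ⟶ Y) (u : Y ⟶ S.obj X) : c X Y f u = tr S c X (f ≫ u) := by
  have h := LinearMap.congr_fun (hc₁ X X Y (𝟙 X) f) u
  rw [Category.id_comp] at h
  exact h

include hc₁ hc₂ in
lemma tr_cyclic {X X' : T} (a : X' ⟶ X) (u : X ⟶ S.obj X') :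
    tr S c X (u ≫ S.map a) = tr S c X' (a ≫ u) := by
  have h := LinearMap.congr_fun (hc₂ X' X X a (𝟙 X)) u
  rw [Category.comp_id, c_apply S c hc₁] at h
  exact h.symm

include hc₁ in
lemma tr_ext {X Y : T} {u u' : Y ⟶ S.obj X}
    (h : ∀ f : X ⟶ Y, tr S c X (f ≫ u) = tr S c X (f ≫ u')) : u = u' := by
  rw [← sub_eq_zero, ← Module.forall_dual_apply_eq_zero_iff k]
  intro φ
  obtain ⟨f, rfl⟩ := (c X Y).surjective φ
  rw [map_sub, c_apply S c hc₁, c_apply S c hc₁, h, sub_self]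

include hc₁ in
lemma exists_of_functional {X Y : T} (φ : (X ⟶ Y) →ₗ[k] k) :
    ∃ u : Y ⟶ S.obj X, ∀ f, tr S c X (f ≫ u) = φ f := by
  refine ⟨(Module.evalEquiv k (Y ⟶ S.obj X)).symm (φ ∘ₗ (c X Y).symm.toLinearMap), fun f => ?_⟩
  rw [← c_apply S c hc₁, Module.apply_evalEquiv_symm_apply]
  simp

variable [HasZeroObject T] [HasShift T ℤ]
    [∀ n : ℤ, (shiftFunctor T n).Additive] [∀ n : ℤ, (shiftFunctor T n).Linear k] [Pretriangulated T]

/-- The shift on morphisms, as a linear equivalence. -/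
noncomputable def shiftEquiv' (X Y : T) : (X ⟶ Y) ≃ₗ[k] (X⟦(1 : ℤ)⟧ ⟶ Y⟦(1 : ℤ)⟧) :=
  LinearEquiv.ofBijective ((shiftFunctor T (1 : ℤ)).mapLinearMap k)
    ⟨(shiftFunctor T (1 : ℤ)).map_injective, (shiftFunctor T (1 : ℤ)).map_surjective⟩

lemma shiftEquiv'_apply {X Y : T} (f : X ⟶ Y) :
    shiftEquiv' (k := k) X Y f = f⟦(1 : ℤ)⟧' := rfl

include hc₁ in
lemma exists_comparison (X : T) :
    ∃ e : (S.obj X)⟦(1 : ℤ)⟧ ⟶ S.obj (X⟦(1 : ℤ)⟧), IsIso e ∧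
      ∀ w : X ⟶ S.obj X, tr S c (X⟦(1 : ℤ)⟧) (w⟦(1 : ℤ)⟧' ≫ e) = - tr S c X w := by
  obtain ⟨e, he⟩ := exists_of_functional S c hc₁
    (-(tr S c X ∘ₗ (shiftEquiv' (k := k) X (S.obj X)).symm.toLinearMap))
  have he' : ∀ w : X ⟶ S.obj X,
      tr S c (X⟦(1 : ℤ)⟧) (w⟦(1 : ℤ)⟧' ≫ e) = - tr S c X w := by
    intro w
    rw [he, ← shiftEquiv'_apply (k := k) w]
    simp
  refine ⟨e, ?_, he'⟩
  -- right inverse, built by the pairing on `X`
  let Y₀ := (S.obj (X⟦(1 : ℤ)⟧))⟦(-1 : ℤ)⟧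
  let i : Y₀⟦(1 : ℤ)⟧ ≅ S.obj (X⟦(1 : ℤ)⟧) := (shiftEquiv T (1 : ℤ)).counitIso.app _
  obtain ⟨u₀, hu₀⟩ := exists_of_functional S c hc₁
    (-(tr S c (X⟦(1 : ℤ)⟧) ∘ₗ Linear.rightComp k _ i.hom ∘ₗ
      (shiftEquiv' (k := k) X Y₀).toLinearMap))
  have h1 : u₀⟦(1 : ℤ)⟧' ≫ e = i.hom := by
    refine tr_ext S c hc₁ (fun f => ?_)
    obtain ⟨f₀, rfl⟩ := (shiftFunctor T (1 : ℤ)).map_surjective f
    rw [← Category.assoc, ← Functor.map_comp, he', hu₀]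
    simp [shiftEquiv'_apply]
  refine ⟨i.inv ≫ u₀⟦(1 : ℤ)⟧', ?_, by rw [Category.assoc, h1, i.inv_hom_id]⟩
  obtain ⟨d, hd⟩ := (shiftFunctor T (1 : ℤ)).map_surjective (e ≫ i.inv ≫ u₀⟦(1 : ℤ)⟧')
  rw [← hd]
  refine (congrArg _ ?_).trans (CategoryTheory.Functor.map_id _ _)
  refine tr_ext S c hc₁ (fun w => ?_)
  have h2 := he' (w ≫ d)
  rw [Functor.map_comp, hd] at h2
  simp only [Category.assoc, h1, i.inv_hom_id, Category.comp_id, he', neg_inj] at h2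
  simp [h2]

include hc₁ hc₂ in
lemma exact₂ (Δ : Triangle T) (hΔ : Δ ∈ distTriang T) {Y : T} (z : Y ⟶ S.obj Δ.obj₂)
    (hz : z ≫ S.map Δ.mor₂ = 0) : ∃ z' : Y ⟶ S.obj Δ.obj₁, z = z' ≫ S.map Δ.mor₁ := by
  obtain ⟨l, hl⟩ := exists_functional (Linear.leftComp k Y Δ.mor₁)
    (tr S c Δ.obj₂ ∘ₗ Linear.rightComp k Δ.obj₂ z) (by
      intro b hb
      obtain ⟨p, rfl⟩ := Triangle.yoneda_exact₂ Δ hΔ b hb
      change tr S c Δ.obj₂ ((Δ.mor₂ ≫ p) ≫ z) = 0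
      rw [Category.assoc, ← tr_cyclic S c hc₁ hc₂ Δ.mor₂ (p ≫ z), Category.assoc, hz, comp_zero,
        map_zero])
  obtain ⟨z', hz'⟩ := exists_of_functional S c hc₁ l
  refine ⟨z', tr_ext S c hc₁ (fun b => ?_)⟩
  rw [← Category.assoc b z', tr_cyclic S c hc₁ hc₂, ← Category.assoc, hz']
  exact (hl b).symm

include hc₁ hc₂ in
lemma natural {X X' : T} (a : X ⟶ X')
    (e : (S.obj X)⟦(1 : ℤ)⟧ ⟶ S.obj (X⟦(1 : ℤ)⟧))
    (he : ∀ w : X ⟶ S.obj X, tr S c (X⟦(1 : ℤ)⟧) (w⟦(1 : ℤ)⟧' ≫ e) = - tr S c X w)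
    (e' : (S.obj X')⟦(1 : ℤ)⟧ ⟶ S.obj (X'⟦(1 : ℤ)⟧))
    (he' : ∀ w : X' ⟶ S.obj X', tr S c (X'⟦(1 : ℤ)⟧) (w⟦(1 : ℤ)⟧' ≫ e') = - tr S c X' w) :
    (S.map a)⟦(1 : ℤ)⟧' ≫ e' = e ≫ S.map (a⟦(1 : ℤ)⟧') := by
  refine tr_ext S c hc₁ (fun f => ?_)
  obtain ⟨w, rfl⟩ := (shiftFunctor T (1 : ℤ)).map_surjective f
  rw [← Category.assoc, ← Functor.map_comp, he', ← Category.assoc (w⟦(1 : ℤ)⟧') e,
    tr_cyclic S c hc₁ hc₂ (a⟦(1 : ℤ)⟧') (w⟦(1 : ℤ)⟧' ≫ e), ← Category.assoc (a⟦(1 : ℤ)⟧'),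
    ← Functor.map_comp, he, tr_cyclic S c hc₁ hc₂]

end S6732Aux

open S6732Aux

open CategoryTheory.Limits CategoryTheory.Pretriangulated in
/-- Let k be a field and T a k-linear triangulated category with dim_k Hom(X, Y) < ∞ for all X, Y, and
let (S, c) be a Serre functor: a k-linear equivalence T ⥤ T with k-linear isomorphisms c_{X,Y} :
Hom(X, Y) ≅ Hom(Y, S X)^∨ natural in X and Y. Then S is an exact functor of triangulated categories:
there is an isomorphism of functors S ∘ ⟦1⟧ ≅ ⟦1⟧ ∘ S such that for every distinguished triangle (A,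
B, C, f, g, h) the triangle (S A, S B, S C, S f, S g, S h followed by that isomorphism at A) is
distinguished. -/
theorem result
    {k : Type w} [Field k]
    {T : Type u} [Category.{v} T] [Preadditive T] [Linear k T] [HasZeroObject T] [HasShift T ℤ]
    [∀ n : ℤ, (shiftFunctor T n).Additive] [∀ n : ℤ, (shiftFunctor T n).Linear k] [Pretriangulated T]
    [IsTriangulated T] [∀ X Y : T, Module.Finite k (X ⟶ Y)]
    (S : T ≌ T) [S.functor.Additive] [S.functor.Linear k]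
    (c : ∀ X Y : T, (X ⟶ Y) ≃ₗ[k] Module.Dual k (Y ⟶ S.functor.obj X))
    (hc₁ : ∀ (X Y Y' : T) (f : X ⟶ Y) (g : Y ⟶ Y'),
      c X Y' (f ≫ g) = (c X Y f) ∘ₗ Linear.leftComp k (S.functor.obj X) g)
    (hc₂ : ∀ (X' X Y : T) (a : X' ⟶ X) (f : X ⟶ Y),
      c X' Y (a ≫ f) = (c X Y f) ∘ₗ Linear.rightComp k Y (S.functor.map a)) :
    ∃ e : shiftFunctor T (1 : ℤ) ⋙ S.functor ≅ S.functor ⋙ shiftFunctor T (1 : ℤ),
      ∀ T' ∈ distTriang T,
        Triangle.mk (S.functor.map T'.mor₁) (S.functor.map T'.mor₂)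
          (S.functor.map T'.mor₃ ≫ e.hom.app T'.obj₁) ∈ distTriang T := by
  classical
  choose e he using exists_comparison S.functor c hc₁
  haveI : ∀ X, IsIso (e X) := fun X => (he X).1
  let E : shiftFunctor T (1 : ℤ) ⋙ S.functor ≅ S.functor ⋙ shiftFunctor T (1 : ℤ) :=
    (NatIso.ofComponents (fun X => asIso (e X)) (fun {X X'} a => by
      simpa using natural S.functor c hc₁ hc₂ a (e X) (he X).2 (e X') (he X').2)).symm
  have hE : ∀ X, E.hom.app X = inv (e X) := fun X => rfl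
  refine ⟨E, fun Δ hΔ => ?_⟩
  obtain ⟨A, B, C, f, g, h⟩ := Δ
  dsimp
  obtain ⟨W, q, r, hW⟩ := distinguished_cocone_triangle (S.functor.map f)
  have hfg : f ≫ g = 0 := comp_distTriang_mor_zero₁₂ _ hΔ
  have hgh : g ≫ h = 0 := comp_distTriang_mor_zero₂₃ _ hΔ
  have hhf : h ≫ f⟦(1 : ℤ)⟧' = 0 := comp_distTriang_mor_zero₃₁ _ hΔ
  have hΔ2 : Triangle.mk h (-f⟦(1 : ℤ)⟧') (-g⟦(1 : ℤ)⟧') ∈ distTriang T :=
    rot_of_distTriang _ (rot_of_distTriang _ hΔ)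
  have hW2 : Triangle.mk r (-(S.functor.map f)⟦(1 : ℤ)⟧') (-q⟦(1 : ℤ)⟧') ∈ distTriang T :=
    rot_of_distTriang _ (rot_of_distTriang _ hW)
  have hW3 : Triangle.mk q r (-(S.functor.map f)⟦(1 : ℤ)⟧') ∈ distTriang T :=
    rot_of_distTriang _ hW
  -- the compatibility of the two prescriptions
  have crux : ∀ (β : C ⟶ S.functor.obj B) (δ : A⟦(1 : ℤ)⟧ ⟶ W), β ≫ q = h ≫ δ →
      tr S.functor c B (g ≫ β) = tr S.functor c (A⟦(1 : ℤ)⟧) ((δ ≫ r) ≫ e A) := by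
    intro β δ hbd
    obtain ⟨μ, hμ₁, hμ₂⟩ := complete_distinguished_triangle_morphism _ _
      hΔ2 hW3 β δ hbd.symm
    obtain ⟨m, rfl⟩ := (shiftFunctor T (1 : ℤ)).map_surjective μ
    change (-f⟦(1 : ℤ)⟧') ≫ m⟦(1 : ℤ)⟧' = δ ≫ r at hμ₁
    change (-g⟦(1 : ℤ)⟧') ≫ β⟦(1 : ℤ)⟧' = m⟦(1 : ℤ)⟧' ≫ (-(S.functor.map f)⟦(1 : ℤ)⟧') at hμ₂
    have h1 : g ≫ β = m ≫ S.functor.map f := by
      apply (shiftFunctor T (1 : ℤ)).map_injective
      simpa using hμ₂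
    have h2 : δ ≫ r = -(f ≫ m)⟦(1 : ℤ)⟧' := by
      rw [← hμ₁]; simp
    rw [h1, tr_cyclic S.functor c hc₁ hc₂, h2, Preadditive.neg_comp, map_neg, (he A).2, neg_neg]
  obtain ⟨ν, hν⟩ := exists_functional
    ((Linear.rightComp k C q).coprod (Linear.leftComp k W h))
    ((tr S.functor c B ∘ₗ Linear.leftComp k _ g).coprod
      (tr S.functor c (A⟦(1 : ℤ)⟧) ∘ₗ Linear.rightComp k _ (r ≫ e A))) (by
      rintro ⟨β, δ⟩ hbd
      simp only [LinearMap.mem_ker, LinearMap.coprod_apply] at hbd ⊢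
      change β ≫ q + h ≫ δ = 0 at hbd
      change tr S.functor c B (g ≫ β) + tr S.functor c (A⟦(1 : ℤ)⟧) (δ ≫ r ≫ e A) = 0
      have := crux β (-δ) (by rw [Preadditive.comp_neg]; exact eq_neg_of_add_eq_zero_left hbd)
      rw [this, Preadditive.neg_comp, Preadditive.neg_comp, map_neg, Category.assoc, neg_add_cancel])
  obtain ⟨φ, hφ⟩ := exists_of_functional S.functor c hc₁ ν
  have c₂ : q ≫ φ = S.functor.map g := by
    refine tr_ext S.functor c hc₁ (fun β => ?_)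
    rw [← Category.assoc, hφ, tr_cyclic S.functor c hc₁ hc₂]
    simpa using hν (β, 0)
  have c₃' : φ ≫ S.functor.map h = r ≫ e A := by
    refine tr_ext S.functor c hc₁ (fun δ => ?_)
    rw [← Category.assoc δ φ, tr_cyclic S.functor c hc₁ hc₂, ← Category.assoc, hφ]
    simpa using hν (0, δ)
  have sfg : S.functor.map f ≫ q = 0 := comp_distTriang_mor_zero₁₂ _ hW
  have hinj : ∀ {Y : T} (x : Y ⟶ W), x ≫ φ = 0 → x = 0 := by
    intro Y x hx
    have hr : x ≫ r = 0 := by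
      rw [← cancel_mono (e A), Category.assoc, ← c₃', ← Category.assoc, hx, zero_comp, zero_comp]
    obtain ⟨z, rfl⟩ := Triangle.coyoneda_exact₃ _ hW x hr
    obtain ⟨z', rfl⟩ := exact₂ S.functor c hc₁ hc₂ _ hΔ z (by
      change z ≫ S.functor.map g = 0
      rw [← c₂, ← Category.assoc]; exact hx)
    change (z' ≫ S.functor.map f) ≫ q = 0
    rw [Category.assoc, sfg, comp_zero]
  have hsurj : ∀ {Y : T} (v : Y ⟶ S.functor.obj C), ∃ x : Y ⟶ W, x ≫ φ = v := by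
    intro Y v
    obtain ⟨x, hx⟩ := Triangle.coyoneda_exact₂ _ hW2
      (v ≫ S.functor.map h ≫ inv (e A)) (by
        change (v ≫ S.functor.map h ≫ inv (e A)) ≫ (-(S.functor.map f)⟦(1 : ℤ)⟧') = 0
        have h1 := natural S.functor c hc₁ hc₂ f (e A) (he A).2 (e B) (he B).2
        simp only [Category.assoc, Preadditive.comp_neg, neg_eq_zero]
        rw [← cancel_mono (e B)]
        simp only [Category.assoc, h1, IsIso.inv_hom_id_assoc]
        rw [← S.functor.map_comp, hhf, S.functor.map_zero, comp_zero, zero_comp])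
    change Y ⟶ W at x
    replace hx : v ≫ S.functor.map h ≫ inv (e A) = x ≫ r := hx
    obtain ⟨z, hz⟩ := exact₂ S.functor c hc₁ hc₂ _ (rot_of_distTriang _ hΔ) (v - x ≫ φ) (by
      change (v - x ≫ φ) ≫ S.functor.map h = 0
      rw [Preadditive.sub_comp, Category.assoc x, c₃', ← cancel_mono (inv (e A))]
      simp [hx])
    change Y ⟶ S.functor.obj B at z
    replace hz : v - x ≫ φ = z ≫ S.functor.map g := hz
    refine ⟨x + z ≫ q, ?_⟩
    rw [Preadditive.add_comp, Category.assoc, c₂, ← hz]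
    abel
  haveI : IsIso φ := by
    obtain ⟨ψ, hψ⟩ := hsurj (𝟙 _)
    refine ⟨ψ, ?_, hψ⟩
    rw [← sub_eq_zero]
    apply hinj
    rw [Preadditive.sub_comp, Category.assoc, hψ, Category.comp_id, Category.id_comp, sub_self]
  refine isomorphic_distinguished _ hW _ ?_
  refine Iso.symm (Triangle.isoMk _ _ (Iso.refl _) (Iso.refl _) (asIso φ) (by simp) (by simp [c₂]) ?_)
  change r ≫ (𝟙 (S.functor.obj A))⟦(1 : ℤ)⟧' = φ ≫ S.functor.map h ≫ inv (e A)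
  rw [reassoc_of% c₃', IsIso.hom_inv_id]
  simp

end Groth.Agent.S6732
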