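import Groth.Statements.S6733
import Groth.Agent.KosDual.Local
import Groth.Agent.DCohLib.PerfCoh
-- import your own Groth.Agent.* helpers here

set_option autoImplicit false
set_option backward.isDefEq.respectTransparency false
set_option maxHeartbeats 800000
set_option backward.isDefEq.respectTransparency false
set_option maxHeartbeats 800000
set_option synthInstance.maxHeartbeats 200000
universe u
open CategoryTheory AlgebraicGeometry
attribute [local instance] HasDerivedCategory.standard
open DEquiv

namespace Groth.Agent.S6733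

/-- Let X be a scheme of finite type over a field k which is regular, x ∈ X a closed point, O_x the
skyscraper sheaf at x with value κ(x), d = dim O_{X,x}, and K a perfect object of D(O_X); the
derived functors - ⊗^L O_x and RΓ(X, -) are assumed to exist (instance binders). (5) If H^i(X, K ⊗^L
O_x) = 0 then H^i(K) vanishes on an open neighbourhood of x. (6) If H^i(X, K ⊗^L O_x) = 0 for all i
then every cohomology sheaf of K vanishes on an open neighbourhood of x. (1) If Hom(O_x, K⟦i⟧) = 0
then H^{i-d}(K) vanishes on an open neighbourhood of x. (Vanishing on U: no point of U lies in the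
support.) -/
theorem result
    (k : Type u) [Field k] (X : Scheme.{u}) [X.Over (Spec (.of k))]
    [LocallyOfFiniteType (X ↘ Spec (.of k))] [CompactSpace X]
    (hreg : Models.IsRegularScheme X) (x : X) (hx : IsClosed ({x} : Set X))
    (d : ℕ) (hd : ringKrullDim (X.presheaf.stalk x) = d)
    (K : DCoh.D X) (hK : DCoh.IsPerfect K)
    [DCoh.HasLTensorMod ((Coh.push (X.fromSpecResidueField x)).obj (Coh.structureModule _))] [DCoh.HasRΓ X] :
    (∀ i : ℤ, Limits.IsZero ((DerivedCategory.homologyFunctor AddCommGrpCat.{u} i).obj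
          ((DCoh.RΓ X).obj ((DCoh.LTensorMod ((Coh.push (X.fromSpecResidueField x)).obj (Coh.structureModule _))).obj K))) →
      ∃ U : X.Opens, x ∈ U ∧ ∀ y : X, y ∈ U → y ∉ CohB1.support (DCoh.HD K i)) ∧
    ((∀ i : ℤ, Limits.IsZero ((DerivedCategory.homologyFunctor AddCommGrpCat.{u} i).obj
          ((DCoh.RΓ X).obj ((DCoh.LTensorMod ((Coh.push (X.fromSpecResidueField x)).obj (Coh.structureModule _))).obj K)))) →
      ∃ U : X.Opens, x ∈ U ∧ ∀ (i : ℤ) (y : X), y ∈ U → y ∉ CohB1.support (DCoh.HD K i)) ∧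
    (∀ i : ℤ, (∀ φ : DCoh.inD X ((Coh.push (X.fromSpecResidueField x)).obj (Coh.structureModule _)) ⟶ (shiftFunctor (DCoh.D X) i).obj K, φ = 0) →
      ∃ U : X.Opens, x ∈ U ∧ ∀ y : X, y ∈ U → y ∉ CohB1.support (DCoh.HD K (i - d))) := by
  classical
  haveI : IsLocallyNoetherian X := LocallyOfFiniteType.isLocallyNoetherian (X ↘ Spec (.of k))
  haveI : IsNoetherian X := {}
  haveI : DCoh.HasLTensorMod (SkyHomLib.skyO X x) := ‹DCoh.HasLTensorMod _›
  obtain ⟨hc, a, b, ha, hb⟩ := DCohLib.isCohD_bounded_of_isPerfect K hK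
  have h5 : ∀ i : ℤ, Limits.IsZero ((DerivedCategory.homologyFunctor AddCommGrpCat.{u} i).obj
      ((DCoh.RΓ X).obj ((DCoh.LTensorMod (SkyHomLib.skyO X x)).obj K))) → x ∉ CohB1.support (DCoh.HD K i) :=
    fun i h => SkyOrth.not_mem_support_of_hom_lTensorMod x hx K hK i fun φ => SkyOrth.hom_eq_zero_of_isZero_rgamma _ i h φ
  refine ⟨fun i h => SkyOrth.exists_nhd K hc x i (h5 i h), fun h => ?_, fun i h => ?_⟩
  · let s : Set X := ⋃ i ∈ (Finset.Icc a b : Set ℤ), CohB1.support (DCoh.HD K i)
    have hs : IsClosed s := Set.Finite.isClosed_biUnion (Finset.finite_toSet _) fun i _ => by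
      haveI := (hc i).1
      exact PullbackMod.isClosed_support_of_isFT (hc i).2
    refine ⟨⟨sᶜ, hs.isOpen_compl⟩, ?_, fun i y hy hy' => hy ?_⟩
    · show x ∉ s
      simp only [s, Finset.coe_Icc, Set.mem_Icc, Set.mem_iUnion, not_exists]
      exact fun i _ hxi => h5 i (h i) hxi
    · simp only [s, Finset.coe_Icc, Set.mem_Icc, Set.mem_iUnion]
      refine ⟨i, ⟨?_, ?_⟩, hy'⟩
      · by_contra hi
        exact hy' (DCohLib.subsingleton_stalk_of_isZero ((DerivedCategory.isGE_iff K a).1 ha i (not_le.1 hi)) y)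
      · by_contra hi
        exact hy' (DCohLib.subsingleton_stalk_of_isZero ((DerivedCategory.isLE_iff K b).1 hb i (not_le.1 hi)) y)
  · exact SkyOrth.exists_nhd K hc x (i - d) (KosDual.not_mem_support_of_hom_from_sky hreg x hx d hd K hK i h)

end Groth.Agent.S6733
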