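import Groth.Statements.S6738
import Groth.Agent.PerfMorLib.Koszul
import Groth.Agent.KoszulCech.Basics
import Groth.Agent.FerrVasc.Basic
import Groth.Agent.HensShrink.Basic
import Groth.Agent.DualCxLib.LocBound
import Groth.Agent.ShriekAlgLib.Invert

set_option autoImplicit false
universe u
open CategoryTheory
attribute [local instance] HasDerivedCategory.standard
open DEquiv

namespace Groth.Agent.S6738

set_option backward.isDefEq.respectTransparency false
set_option linter.style.haveILetI false
open Groth.Agent CategoryTheory CategoryTheory.Limits RingTheory.Sequence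

section Helpers

variable {S : Type u} [CommRing S]

theorem koszul_eq : ∀ l : List S, Koszul.koszul S l = CohIII.koszulCx (ModuleCat.of S S) l
  | [] => rfl
  | f :: l => by
    show CochainComplex.mappingCone (f • 𝟙 (Koszul.koszul S l)) = _
    rw [koszul_eq l]
    rfl

theorem nonempty_koszul_iso (l : List S) (h : IsWeaklyRegular S l) :
    Nonempty (DerivedCategory.Q.obj (Koszul.koszul S l) ≅ Dual.inD S (S ⧸ Ideal.ofList l)) := by
  refine PerfMorLib.nonempty_iso_inD_of_isKoszulRegular l fun i hi => ?_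
  suffices ∀ C, C = CohIII.koszulCx (ModuleCat.of S S) l → IsZero (C.homology i) from this _ (koszul_eq l)
  rintro C rfl
  exact KoszulCech.isZero_of_isWeaklyRegular l S h i hi

theorem ofList_ofFn_units {n : ℕ} (a b : Fin n → S) (h : ∀ i, ∃ u : S, IsUnit u ∧ b i = a i * u) (k : ℕ) :
    Ideal.ofList ((List.ofFn b).take k) = Ideal.ofList ((List.ofFn a).take k) := by
  have key : ∀ (c : Fin n → S) (x : S), x ∈ (List.ofFn c).take k ↔ ∃ j : Fin n, (j : ℕ) < k ∧ c j = x := by
    intro c x
    rw [List.mem_take_iff_getElem]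
    constructor
    · rintro ⟨j, hj, rfl⟩
      rw [List.length_ofFn] at hj
      exact ⟨⟨j, by omega⟩, by simp; omega, by simp⟩
    · rintro ⟨j, hj, rfl⟩
      exact ⟨j, by rw [List.length_ofFn]; omega, by simp⟩
  refine le_antisymm (Ideal.span_le.2 fun x hx => ?_) (Ideal.span_le.2 fun x hx => ?_)
  · obtain ⟨j, hj, rfl⟩ := (key b x).1 hx
    obtain ⟨u, -, hu⟩ := h j
    rw [hu]
    exact Ideal.mul_mem_right _ _ (Ideal.subset_span ((key a _).2 ⟨j, hj, rfl⟩))
  · obtain ⟨j, hj, rfl⟩ := (key a x).1 hx
    obtain ⟨u, hu, hb⟩ := h j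
    refine (Ideal.mul_unit_mem_iff_mem _ hu).1 ?_
    rw [← hb]
    exact Ideal.subset_span ((key b _).2 ⟨j, hj, rfl⟩)

theorem ofList_ofFn_units' {n : ℕ} (a b : Fin n → S) (h : ∀ i, ∃ u : S, IsUnit u ∧ b i = a i * u) :
    Ideal.ofList (List.ofFn b) = Ideal.ofList (List.ofFn a) := by
  simpa [List.take_of_length_le] using ofList_ofFn_units a b h n

theorem isWeaklyRegular_units {n : ℕ} (a b : Fin n → S) (h : ∀ i, ∃ u : S, IsUnit u ∧ b i = a i * u)
    (ha : IsWeaklyRegular S (List.ofFn a)) : IsWeaklyRegular S (List.ofFn b) := by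
  rw [isWeaklyRegular_iff] at ha ⊢
  intro i hi
  rw [List.length_ofFn] at hi
  have h1 := ha i (by rw [List.length_ofFn]; exact hi)
  rw [smul_eq_mul, Ideal.mul_top, List.getElem_ofFn, isSMulRegular_quotient_iff_mem_of_smul_mem] at h1 ⊢
  intro x hx
  rw [ofList_ofFn_units a b h i] at hx ⊢
  obtain ⟨u, hu, hb⟩ := h ⟨i, hi⟩
  refine h1 x ((Ideal.mul_unit_mem_iff_mem _ hu).1 ?_)
  rw [smul_eq_mul] at hx ⊢
  rw [hb] at hx
  exact (mul_right_comm (a ⟨i, hi⟩) u x) ▸ hx

variable [IsNoetherianRing S] (q : Ideal S) [q.IsPrime]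

/-- Weak regularity at a prime spreads to all smaller basic neighbourhoods. -/
theorem exists_weaklyRegular_dvd (f : List S)
    (hreg : IsWeaklyRegular (Localization.AtPrime q) (f.map (algebraMap S (Localization.AtPrime q)))) :
    ∃ t ∉ q, ∀ g, t ∣ g → IsWeaklyRegular (Localization.Away g) (f.map (algebraMap S (Localization.Away g))) := by
  classical
  let C : Fin f.length → Ideal S := fun i =>
    Submodule.comap (LinearMap.mulLeft S f[i]) (Ideal.ofList (f.take i))
  have hC : ∀ i, ∃ t ∉ q, ∀ c ∈ C i, t * c ∈ Ideal.ofList (f.take i) := fun i => by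
    refine FerrVasc.exists_mul_le q (Ideal.map_le_iff_le_comap.mpr fun c hc => Ideal.mem_comap.mpr ?_)
    have h := (isWeaklyRegular_iff _ _).mp hreg i (by rw [List.length_map]; exact i.2)
    rw [List.getElem_map, ← List.map_take, ← Ideal.map_ofList, smul_eq_mul, Ideal.mul_top] at h
    refine (isSMulRegular_quotient_iff_mem_of_smul_mem _ _).mp h _ ?_
    rw [smul_eq_mul, ← map_mul]
    exact Ideal.mem_map_of_mem _ (show f[i] * c ∈ _ from hc)
  choose t ht hCt using hC
  refine ⟨∏ i, t i, fun h => ?_, fun g hg => ?_⟩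
  · obtain ⟨i, -, hi⟩ := (Ideal.IsPrime.prod_mem_iff (hp := ‹q.IsPrime›)).mp h
    exact ht i hi
  refine (isWeaklyRegular_iff _ _).mpr fun i hi => ?_
  rw [List.length_map] at hi
  rw [List.getElem_map, ← List.map_take, ← Ideal.map_ofList, smul_eq_mul, Ideal.mul_top]
  refine (isSMulRegular_quotient_iff_mem_of_smul_mem _ _).mpr fun a ha => ?_
  obtain ⟨⟨b, d⟩, hbd⟩ := IsLocalization.surj (Submonoid.powers g) a
  have hd := IsLocalization.map_units (Localization.Away g) d
  rw [← Ideal.mul_unit_mem_iff_mem _ hd, hbd]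
  have hfb : algebraMap S (Localization.Away g) (f[i] * b) ∈
      (Ideal.ofList (f.take i)).map (algebraMap S (Localization.Away g)) := by
    rw [map_mul, ← hbd, ← mul_assoc]
    exact Ideal.mul_mem_right _ _ ha
  obtain ⟨e, he, he'⟩ := (IsLocalization.algebraMap_mem_map_algebraMap_iff (Submonoid.powers g)
    (Localization.Away g) _ _).mp hfb
  have hmem : e * b ∈ C ⟨i, hi⟩ := by
    show f[i] * (e * b) ∈ Ideal.ofList (f.take i)
    rwa [mul_left_comm]
  have := FerrVasc.map_le_of_mul ((Finset.dvd_prod_of_mem t (Finset.mem_univ ⟨i, hi⟩)).trans hg)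
    (hCt ⟨i, hi⟩) (Ideal.mem_map_of_mem (algebraMap S (Localization.Away g)) hmem)
  rw [map_mul] at this
  exact (Ideal.unit_mul_mem_iff_mem _ (IsLocalization.map_units (Localization.Away g) ⟨e, he⟩)).mp this

/-- A finite module vanishing at a prime vanishes on all smaller basic neighbourhoods. -/
theorem exists_subsingleton_dvd (H : Type u) [AddCommGroup H] [Module S H] [Module.Finite S H]
    (h : Subsingleton (TensorProduct S (Localization.AtPrime q) H)) :
    ∃ t ∉ q, ∀ g, t ∣ g → Subsingleton (TensorProduct S (Localization.Away g) H) := by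
  classical
  have hk : ∀ x : H, ∃ s ∉ q, s • x = 0 := fun x => by
    obtain ⟨s, hs⟩ := (IsLocalizedModule.eq_zero_iff q.primeCompl
      (TensorProduct.mk S (Localization.AtPrime q) H 1) (m := x)).1 (Subsingleton.elim _ _)
    exact ⟨s, s.2, hs⟩
  choose s hs hsx using hk
  obtain ⟨T, hT⟩ := (Module.Finite.fg_top : (⊤ : Submodule S H).FG)
  refine ⟨∏ x ∈ T, s x, fun hmem => ?_, fun g hg => ?_⟩
  · obtain ⟨x, -, hx⟩ := (Ideal.IsPrime.prod_mem_iff (hp := ‹q.IsPrime›)).mp hmem
    exact hs x hx
  refine subsingleton_of_forall_eq 0 fun z => ?_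
  have hall : ∀ x : H, (∏ y ∈ T, s y) • x = 0 := fun x => by
    have hx : x ∈ Submodule.span S (T : Set H) := hT ▸ trivial
    induction hx using Submodule.span_induction with
    | mem y hy => rw [← Finset.prod_erase_mul _ _ hy, mul_smul, hsx, smul_zero]
    | zero => rw [smul_zero]
    | add a b _ _ ha hb => rw [smul_add, ha, hb, add_zero]
    | smul c a _ ha => rw [smul_comm, ha, smul_zero]
  have hu : IsUnit (algebraMap S (Localization.Away g) (∏ y ∈ T, s y)) :=
    isUnit_of_dvd_unit (map_dvd _ hg) (IsLocalization.Away.algebraMap_isUnit g)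
  have hz : algebraMap S (Localization.Away g) (∏ y ∈ T, s y) • z = 0 := by
    rw [algebraMap_smul]
    induction z using TensorProduct.induction_on with
    | zero => rw [smul_zero]
    | tmul a x => rw [← TensorProduct.tmul_smul, hall, TensorProduct.tmul_zero]
    | add a b ha hb => rw [smul_add, ha, hb, add_zero]
  exact hu.smul_eq_zero.1 hz

variable {R : Type u} [CommRing R] [IsNoetherianRing R] [Algebra R S] [Algebra.FiniteType R S]

/-- Flatness of a quotient at a prime spreads to all smaller basic neighbourhoods. -/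
theorem exists_flat_dvd (J : Ideal S) (hJ : J ≤ q)
    (h : Module.Flat R (Localization.AtPrime q ⧸ J.map (algebraMap S (Localization.AtPrime q)))) :
    ∃ t ∉ q, ∀ g, t ∣ g → Module.Flat R (Localization.Away g ⧸ J.map (algebraMap S (Localization.Away g))) := by
  haveI : Algebra.FiniteType R (S ⧸ J) :=
    Algebra.FiniteType.of_surjective (Ideal.Quotient.mkₐ R J) (Ideal.Quotient.mkₐ_surjective R J)
  haveI : Algebra.FinitePresentation R (S ⧸ J) := Algebra.FinitePresentation.of_finiteType.1 inferInstance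
  let q' : Ideal (S ⧸ J) := q.map (Ideal.Quotient.mk J)
  haveI : q'.IsPrime := Ideal.map_isPrime_of_surjective Ideal.Quotient.mk_surjective (by simpa using hJ)
  have hq' : ∀ x : S, Ideal.Quotient.mk J x ∈ q' ↔ x ∈ q := fun x =>
    Ideal.mem_quotient_iff_mem hJ
  have hsub : Algebra.algebraMapSubmonoid (S ⧸ J) q.primeCompl = q'.primeCompl := by
    ext c
    obtain ⟨x, rfl⟩ := Ideal.Quotient.mk_surjective c
    constructor
    · rintro ⟨y, hy, hyx⟩
      have hyx' : Ideal.Quotient.mk J y = Ideal.Quotient.mk J x := hyx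
      exact fun hm => hy ((hq' y).1 (hyx' ▸ hm))
    · exact fun hx => ⟨x, fun hm => hx ((hq' x).2 hm), rfl⟩
  haveI : IsLocalization q'.primeCompl
      (Localization.AtPrime q ⧸ J.map (algebraMap S (Localization.AtPrime q))) := hsub ▸ inferInstance
  have htower : ∀ (B : Type u) [CommRing B] [Algebra S B] [Algebra R B] [IsScalarTower R S B],
      IsScalarTower R (S ⧸ J) (B ⧸ J.map (algebraMap S B)) := fun B _ _ _ _ =>
    IsScalarTower.of_algebraMap_eq fun r => by
      show Ideal.Quotient.mk _ (algebraMap R B r) = Ideal.Quotient.mk _ (algebraMap S B (algebraMap R S r))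
      rw [IsScalarTower.algebraMap_apply R S B]
  haveI := htower (Localization.AtPrime q)
  have hq0 : Module.Flat R (Localization.AtPrime q') :=
    haveI := h
    Module.Flat.of_linearEquiv (((IsLocalization.algEquiv q'.primeCompl (Localization.AtPrime q')
      (Localization.AtPrime q ⧸ J.map (algebraMap S (Localization.AtPrime q)))).restrictScalars R).toLinearEquiv)
  obtain ⟨_, ⟨c, rfl⟩, hqc, hc⟩ := PrimeSpectrum.isTopologicalBasis_basic_opens.exists_subset_of_mem_open
    (show (⟨q', inferInstance⟩ : PrimeSpectrum (S ⧸ J)) ∈ _ from hq0) (HensShrink.isOpen_flatLocus (A := R))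
  obtain ⟨t, rfl⟩ := Ideal.Quotient.mk_surjective c
  refine ⟨t, fun hm => hqc ((hq' t).2 hm), fun g hg => ?_⟩
  haveI := htower (Localization.Away g)
  haveI := HensShrink.flat_away (A := R) (b := Ideal.Quotient.mk J g) fun P hP =>
    hc fun hm => hP (Ideal.mem_of_dvd _ (map_dvd (Ideal.Quotient.mk J) hg) hm)
  haveI : IsLocalization (Submonoid.powers (Ideal.Quotient.mk J g))
      (Localization.Away g ⧸ J.map (algebraMap S (Localization.Away g))) := by
    have : Algebra.algebraMapSubmonoid (S ⧸ J) (Submonoid.powers g) = Submonoid.powers (Ideal.Quotient.mk J g) :=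
      Submonoid.map_powers _ g
    exact this ▸ inferInstance
  exact Module.Flat.of_linearEquiv (((IsLocalization.algEquiv (Submonoid.powers (Ideal.Quotient.mk J g))
    (Localization.Away g ⧸ J.map (algebraMap S (Localization.Away g)))
    (Localization.Away (Ideal.Quotient.mk J g))).restrictScalars R).toLinearEquiv)

omit [IsNoetherianRing S] [IsNoetherianRing R] [Algebra R S] [Algebra.FiniteType R S] in
/-- The localization of a cyclic module. -/
theorem nonempty_tensor_quot (J : Ideal S) (B : Type u) [CommRing B] [Algebra S B] :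
    Nonempty (TensorProduct S B (S ⧸ J) ≃ₗ[S] B ⧸ J.map (algebraMap S B)) := by
  refine ⟨(TensorProduct.tensorQuotEquivQuotSMul B J).trans ((Submodule.quotEquivOfEq _ _ ?_).trans
    (Submodule.Quotient.restrictScalarsEquiv S (J.map (algebraMap S B))))⟩
  exact Ideal.smul_top_eq_map J

omit [IsNoetherianRing R] [Algebra R S] [Algebra.FiniteType R S] in
/-- An isomorphism at a prime spreads to all smaller basic neighbourhoods. -/
theorem exists_equiv_dvd (J : Ideal S) (H : Type u) [AddCommGroup H] [Module S H] [Module.Finite S H]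
    (e : TensorProduct S (Localization.AtPrime q) H ≃ₗ[Localization.AtPrime q]
      Localization.AtPrime q ⧸ J.map (algebraMap S (Localization.AtPrime q))) :
    ∃ t ∉ q, ∀ g, t ∣ g → Nonempty (TensorProduct S (Localization.Away g) H ≃ₗ[Localization.Away g]
      Localization.Away g ⧸ J.map (algebraMap S (Localization.Away g))) := by
  haveI : Module.FinitePresentation S H := Module.finitePresentation_of_finite S H
  haveI : Module.FinitePresentation S (S ⧸ J) := Module.finitePresentation_of_finite S _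
  obtain ⟨jq⟩ := nonempty_tensor_quot J (Localization.AtPrime q)
  let fM := TensorProduct.mk S (Localization.AtPrime q) H 1
  let fN := TensorProduct.mk S (Localization.AtPrime q) (S ⧸ J) 1
  let l : TensorProduct S (Localization.AtPrime q) H ≃ₗ[S] TensorProduct S (Localization.AtPrime q) (S ⧸ J) :=
    (e.restrictScalars S).trans jq.symm
  obtain ⟨h, s, hh⟩ := Module.FinitePresentation.exists_lift_of_isLocalizedModule q.primeCompl fN (l.toLinearMap ∘ₗ fM)
  have hb : Function.Bijective (IsLocalizedModule.map q.primeCompl fM fN h) := by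
    have : IsLocalizedModule.map q.primeCompl fM fN h = (s • LinearMap.id) ∘ₗ l.toLinearMap := by
      apply IsLocalizedModule.ext q.primeCompl fM (IsLocalizedModule.map_units fN)
      apply LinearMap.ext fun x ↦ ?_
      simp only [LinearMap.coe_comp, Function.comp_apply, IsLocalizedModule.map_apply]
      rw [← LinearMap.comp_apply, hh]
      simp
    rw [this]
    exact ((Module.End.isUnit_iff _).mp (IsLocalizedModule.map_units fN s)).comp l.bijective
  obtain ⟨r, hr, hrb⟩ := exists_bijective_map_powers q.primeCompl fM fN h hb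
  refine ⟨r, hr, fun g hg => ?_⟩
  obtain ⟨jg⟩ := nonempty_tensor_quot J (Localization.Away g)
  let i1 := IsLocalizedModule.iso (Submonoid.powers g) (TensorProduct.mk S (Localization.Away g) H 1)
  let i2 := IsLocalizedModule.iso (Submonoid.powers g) (TensorProduct.mk S (Localization.Away g) (S ⧸ J) 1)
  let m : LocalizedModule (Submonoid.powers g) H ≃ₗ[S] LocalizedModule (Submonoid.powers g) (S ⧸ J) :=
    (LinearEquiv.ofBijective _ (hrb g hg)).restrictScalars S
  exact ⟨LinearEquiv.extendScalarsOfIsLocalization (Submonoid.powers g) (Localization.Away g)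
    (((i1.symm.trans m).trans i2).trans jg)⟩

end Helpers

theorem finite_hd {A : Type u} [CommRing A] [IsNoetherianRing A] {K : Dual.D A} (hK : DRing.IsPerfect A K) :
    (∀ i : ℤ, Module.Finite A (Dual.HD A K i)) ∧
      ∃ a b : ℤ, ∀ i : ℤ, (i < a ∨ b < i) → Subsingleton (Dual.HD A K i) := by
  obtain ⟨E, a, b, hv, hfp, ⟨e⟩⟩ := hK
  let eK : ∀ i, E.homology i ≅ (DerivedCategory.homologyFunctor (ModuleCat.{u} A) i).obj K := fun i =>
    ((DerivedCategory.homologyFunctorFactors (ModuleCat.{u} A) i).app E).symm ≪≫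
      (DerivedCategory.homologyFunctor (ModuleCat.{u} A) i).mapIso e
  refine ⟨fun i => ?_, a, b, fun i hi => ?_⟩
  · haveI : Module.Finite A (E.sc i).X₂ := (hfp i).1
    haveI : Module.Finite A (E.sc i).moduleCatLeftHomologyData.H :=
      inferInstanceAs (Module.Finite A (LinearMap.ker (E.sc i).g.hom ⧸ LinearMap.range (E.sc i).moduleCatToCycles))
    haveI : Module.Finite A (E.homology i) :=
      Module.Finite.equiv (E.sc i).moduleCatLeftHomologyData.homologyIso.symm.toLinearEquiv
    exact Module.Finite.equiv (eK i).toLinearEquiv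
  · exact ModuleCat.subsingleton_of_isZero
      ((ShortComplex.exact_iff_isZero_homology _).1 (ShortComplex.exact_of_isZero_X₂ (E.sc i) (hv i hi)) |>.of_iso (eK i).symm)

theorem hd_inD {A : Type u} [CommRing A] (N : Type u) [AddCommGroup N] [Module A N] :
    (∀ i : ℤ, i ≠ 0 → Subsingleton (Dual.HD A (Dual.inD A N) i)) ∧
      Nonempty (Dual.HD A (Dual.inD A N) 0 ≃ₗ[A] N) := by
  refine ⟨fun i hi => ModuleCat.subsingleton_of_isZero ?_,
    ⟨((DerivedCategory.singleFunctorCompHomologyFunctorIso (ModuleCat.{u} A) 0).app (ModuleCat.of A N)).toLinearEquiv⟩⟩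
  rcases lt_or_gt_of_ne hi with h | h
  · exact DerivedCategory.isZero_of_isGE _ 0 i h
  · exact DerivedCategory.isZero_of_isLE _ 0 i h


open CategoryTheory CategoryTheory.Limits in
/-- Suppose R → S is a flat, finite type ring map of Noetherian rings, q ⊂ S is a prime, K is a perfect
object of D(S), and f_1, …, f_r ∈ q S_q form a regular sequence for which the quotient S_q/(f_1, …,
f_r) is R-flat and K ⊗^L_S S_q agrees, up to isomorphism in D(S_q), with the Koszul complex of f_1,
…, f_r. Then one can find an element g ∈ S with g ∉ q, together with a regular sequence f'_1, …,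
f'_r in S_g mapping to the f_i in S_q, such that the quotient of S_g by the ideal (f'_1, …, f'_r) is
R-flat and the Koszul complex of f'_1, …, f'_r is isomorphic, in D(S_g), to K ⊗^L_S S_g. (The
canonical S-algebra map S_g → S_q is quantified over — it exists and is unique since g ∉ q; the
derived base change functors are assumed to exist, as instance binders.) -/
theorem result
    (R S : Type u) [CommRing R] [CommRing S] [IsNoetherianRing R] [IsNoetherianRing S] [Algebra R S]
    [Algebra.FiniteType R S] [Module.Flat R S] (q : Ideal S) [q.IsPrime]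
    (K : Dual.D S) (hK : DRing.IsPerfect S K)
    (fs : List (Localization.AtPrime q)) (hfs : ∀ f ∈ fs, f ∈ IsLocalRing.maximalIdeal (Localization.AtPrime q))
    (hreg : RingTheory.Sequence.IsRegular (Localization.AtPrime q) fs)
    (hflat : Module.Flat R ((Localization.AtPrime q) ⧸ Ideal.span {a : (Localization.AtPrime q) | a ∈ fs}))
    [DRing.HasLBaseChange (algebraMap S (Localization.AtPrime q))]
    (hKf : Nonempty ((DRing.LBaseChange (algebraMap S (Localization.AtPrime q))).obj K ≅
      DerivedCategory.Q.obj (Koszul.koszul (Localization.AtPrime q) fs))) :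
    ∃ g : S, g ∉ q ∧ ∀ (φ : (Localization.Away g) →ₐ[S] (Localization.AtPrime q)), ∃ fs' : List (Localization.Away g),
      fs'.map φ = fs ∧ RingTheory.Sequence.IsRegular (Localization.Away g) fs' ∧
      Module.Flat R ((Localization.Away g) ⧸ Ideal.span {a : (Localization.Away g) | a ∈ fs'}) ∧
      ∀ [DRing.HasLBaseChange (algebraMap S (Localization.Away g))],
        Nonempty ((DRing.LBaseChange (algebraMap S (Localization.Away g))).obj K ≅
          DerivedCategory.Q.obj (Koszul.koszul (Localization.Away g) fs')) := by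
  classical
  let n := fs.length
  have hlift : ∀ i : Fin n, ∃ (a : S) (s : q.primeCompl),
      fs.get i * algebraMap S (Localization.AtPrime q) s.1 = algebraMap S (Localization.AtPrime q) a := fun i => by
    obtain ⟨⟨a, s⟩, h⟩ := IsLocalization.surj q.primeCompl (fs.get i)
    exact ⟨a, s, h⟩
  choose a s has using hlift
  let L := Localization.AtPrime q
  have hu : ∀ i, IsUnit (algebraMap S L (s i).1) := fun i => IsLocalization.map_units L (s i)
  have hrel : ∀ i, ∃ u : L, IsUnit u ∧ algebraMap S L (a i) = fs.get i * u := fun i => ⟨_, hu i, (has i).symm⟩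
  let J : Ideal S := Ideal.ofList (List.ofFn a)
  have hmapa : ∀ (B : Type u) [CommRing B] [Algebra S B],
      (List.ofFn a).map (algebraMap S B) = List.ofFn fun i => algebraMap S B (a i) := fun B _ _ => List.map_ofFn
  have hJq : J.map (algebraMap S L) = Ideal.ofList fs := by
    rw [Ideal.map_ofList, hmapa]
    exact (ofList_ofFn_units' _ _ hrel).trans (by rw [List.ofFn_get])
  have hwq : IsWeaklyRegular L ((List.ofFn a).map (algebraMap S L)) := by
    rw [hmapa]
    exact isWeaklyRegular_units _ _ hrel (by rw [List.ofFn_get]; exact hreg.toIsWeaklyRegular)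
  have hfsmax : Ideal.ofList fs ≤ IsLocalRing.maximalIdeal L := Ideal.span_le.2 hfs
  have hJle : J ≤ q := fun x hx => by
    rw [← IsLocalization.AtPrime.comap_maximalIdeal L q]
    exact hfsmax (hJq ▸ Ideal.mem_map_of_mem _ hx)
  obtain ⟨t₁, ht₁, hweak⟩ := exists_weaklyRegular_dvd q (List.ofFn a) hwq
  have hfl' : Module.Flat R (L ⧸ J.map (algebraMap S L)) := by
    rw [hJq]; exact hflat
  obtain ⟨t₂, ht₂, hflg⟩ := exists_flat_dvd q J hJle hfl'
  obtain ⟨hfin, lo, hi, hvan⟩ := finite_hd hK
  obtain ⟨eKq⟩ := hKf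
  obtain ⟨ekos⟩ := nonempty_koszul_iso fs hreg.toIsWeaklyRegular
  obtain ⟨hz, ⟨h0⟩⟩ := hd_inD (A := L) (L ⧸ Ideal.ofList fs)
  let eH : ∀ i, Dual.HD L ((DRing.LBaseChange (algebraMap S L)).obj K) i ≃ₗ[L]
      Dual.HD L (Dual.inD L (L ⧸ Ideal.ofList fs)) i := fun i =>
    ((DerivedCategory.homologyFunctor (ModuleCat.{u} L) i).mapIso (eKq ≪≫ ekos)).toLinearEquiv
  have hsub : ∀ i : ℤ, i ≠ 0 → Subsingleton (TensorProduct S L (Dual.HD S K i)) := fun i hi => by
    obtain ⟨c⟩ := DualCxLib.nonempty_HD_lbc q.primeCompl L K i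
    haveI := hz i hi
    exact (c.symm.trans (eH i)).toEquiv.subsingleton
  have hvl : ∀ i : ℤ, i ≠ 0 → ∃ t ∉ q, ∀ g, t ∣ g → Subsingleton (TensorProduct S (Localization.Away g) (Dual.HD S K i)) :=
    fun i hi =>
      haveI := hfin i
      exists_subsingleton_dvd q _ (hsub i hi)
  choose τ hτq hτ using hvl
  obtain ⟨c0⟩ := DualCxLib.nonempty_HD_lbc q.primeCompl L K 0
  haveI := hfin 0
  obtain ⟨t₃, ht₃, hiso⟩ := exists_equiv_dvd q J (Dual.HD S K 0)
    ((c0.symm.trans ((eH 0).trans h0)).trans (Submodule.quotEquivOfEq _ _ hJq.symm))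
  let Sne := (Finset.Icc lo hi).filter (fun i => i ≠ 0)
  let T : S := ∏ i ∈ Sne.attach, τ i.1 (Finset.mem_filter.1 i.2).2
  let σ : S := ∏ i, (s i).1
  let g := t₁ * t₂ * t₃ * T * σ
  have d₁ : t₁ ∣ g := ⟨t₂ * t₃ * T * σ, by ring⟩
  have d₂ : t₂ ∣ g := ⟨t₁ * t₃ * T * σ, by ring⟩
  have d₃ : t₃ ∣ g := ⟨t₁ * t₂ * T * σ, by ring⟩
  have dT : T ∣ g := ⟨t₁ * t₂ * t₃ * σ, by ring⟩
  have dσ : σ ∣ g := ⟨t₁ * t₂ * t₃ * T, by ring⟩
  have hgq : g ∉ q := by
    show g ∈ q.primeCompl
    exact mul_mem (mul_mem (mul_mem (mul_mem ht₁ ht₂) ht₃) (prod_mem fun i _ => hτq _ _)) (prod_mem fun i _ => (s i).2)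
  refine ⟨g, hgq, fun φ => ?_⟩
  let A := Localization.Away g
  have hsu : ∀ i, IsUnit (algebraMap S A (s i).1) := fun i =>
    isUnit_of_dvd_unit (map_dvd _ ((Finset.dvd_prod_of_mem (fun i => (s i).1) (Finset.mem_univ i)).trans dσ))
      (IsLocalization.Away.algebraMap_isUnit g)
  let b : Fin n → A := fun i => algebraMap S A (a i) * ↑(hsu i).unit⁻¹
  have hbrel : ∀ i, ∃ u : A, IsUnit u ∧ b i = algebraMap S A (a i) * u := fun i => ⟨_, Units.isUnit _, rfl⟩
  have hφb : ∀ i, φ (b i) = fs.get i := fun i => by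
    refine (hu i).mul_right_cancel ?_
    rw [has i, ← φ.commutes (s i).1, ← map_mul]
    show φ (algebraMap S A (a i) * ↑(hsu i).unit⁻¹ * algebraMap S A (s i).1) = _
    rw [mul_assoc, IsUnit.val_inv_mul, mul_one, φ.commutes]
  have hmap : (List.ofFn b).map φ = fs := by
    rw [List.map_ofFn]
    exact (congrArg List.ofFn (funext hφb)).trans (List.ofFn_get fs)
  have hJg : J.map (algebraMap S A) = Ideal.ofList (List.ofFn b) := by
    rw [Ideal.map_ofList, hmapa]
    exact (ofList_ofFn_units' _ _ hbrel).symm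
  have hwg : IsWeaklyRegular A (List.ofFn b) :=
    isWeaklyRegular_units _ _ hbrel (by rw [← hmapa]; exact hweak g d₁)
  refine ⟨List.ofFn b, hmap, ⟨hwg, fun htop => ?_⟩, ?_, ?_⟩
  · have h1 : (Ideal.ofList (List.ofFn b)).map φ.toRingHom = Ideal.ofList fs := by
      rw [Ideal.map_ofList]
      exact congrArg Ideal.ofList hmap
    rw [smul_eq_mul, Ideal.mul_top] at htop
    rw [← htop, Ideal.map_top] at h1
    exact (IsLocalRing.maximalIdeal.isMaximal L).ne_top (top_le_iff.1 (h1.trans_le hfsmax))
  · show Module.Flat R (A ⧸ Ideal.ofList (List.ofFn b))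
    rw [← hJg]
    exact hflg g d₂
  · intro _
    obtain ⟨ek⟩ := nonempty_koszul_iso (List.ofFn b) hwg
    obtain ⟨cg⟩ := DualCxLib.nonempty_HD_lbc (Submonoid.powers g) A K 0
    obtain ⟨eg⟩ := hiso g d₃
    have h1 : ∀ i : ℤ, i ≠ 0 → Subsingleton (Dual.HD A ((DRing.LBaseChange (algebraMap S A)).obj K) i) := fun i hi0 => by
      obtain ⟨c⟩ := DualCxLib.nonempty_HD_lbc (Submonoid.powers g) A K i
      haveI : Subsingleton (TensorProduct S A (Dual.HD S K i)) := by
        by_cases hmem : i ∈ Finset.Icc lo hi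
        · have hiS : i ∈ Sne := Finset.mem_filter.2 ⟨hmem, hi0⟩
          exact hτ i hi0 g ((Finset.dvd_prod_of_mem (fun j : Sne => τ j.1 (Finset.mem_filter.1 j.2).2)
            (Finset.mem_attach Sne ⟨i, hiS⟩)).trans dT)
        · rw [Finset.mem_Icc] at hmem
          haveI := hvan i (by omega)
          infer_instance
      exact c.toEquiv.subsingleton
    obtain ⟨e⟩ := ShriekAlgLib.nonempty_iso_inD h1 ((cg.trans eg).trans (Submodule.quotEquivOfEq _ _ hJg))
    exact ⟨e ≪≫ ek.symm⟩

end Groth.Agent.S6738
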