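import Groth.Statements.S6741
import Groth.Agent.SkyOrth.Fibre
import Groth.Agent.FMPerfLib.Bounded
import Groth.Agent.DCohLib.LTensorCongr
import Groth.Agent.DCohLib.TriRes
-- import your own Groth.Agent.* helpers here

set_option autoImplicit false
set_option backward.isDefEq.respectTransparency false
set_option maxHeartbeats 800000
set_option backward.isDefEq.respectTransparency false
set_option maxHeartbeats 800000
set_option synthInstance.maxHeartbeats 200000
universe u
open CategoryTheory AlgebraicGeometry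
attribute [local instance] HasDerivedCategory.standard
open DEquiv

namespace Groth.Agent.S6741

/-- Let X be a scheme of finite type over a field k which is regular, x ∈ X a closed point, O_x the
skyscraper sheaf at x with value κ(x), and K a perfect object of D(O_X), given by a complex E of
O_X-modules; the derived functors - ⊗^L E and its right adjoint RHom(E, -) are assumed to exist
(instance binders), and K^∨ = RHom(E, O_X). If Hom(K, O_x⟦i⟧) = 0 then H^i(K^∨) vanishes on an open
neighbourhood of x (no point of it lies in the support). -/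
theorem result
    (k : Type u) [Field k] (X : Scheme.{u}) [X.Over (Spec (.of k))]
    [LocallyOfFiniteType (X ↘ Spec (.of k))] [CompactSpace X]
    (hreg : Models.IsRegularScheme X) (x : X) (hx : IsClosed ({x} : Set X))
    (E : CochainComplex X.Modules ℤ) (hK : DCoh.IsPerfect (DCoh.toD X E))
    [DCoh.HasLTensorCx E] [DCoh.HasRSheafHom E] (i : ℤ)
    (h : ∀ φ : DCoh.toD X E ⟶ (shiftFunctor (DCoh.D X) i).obj (DCoh.inD X ((Coh.push (X.fromSpecResidueField x)).obj (Coh.structureModule _))), φ = 0) :
    ∃ U : X.Opens, x ∈ U ∧ ∀ y : X, y ∈ U →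
      y ∉ CohB1.support (DCoh.HD ((DCoh.RSheafHom E).obj (DCoh.inD X (Coh.structureModule X))) i) := by
    haveI : IsLocallyNoetherian X := LocallyOfFiniteType.isLocallyNoetherian (X ↘ Spec (.of k))
    haveI : AlgebraicGeometry.IsNoetherian X := {}
    let Ex := (DCohLib.resX X).obj E
    haveI := DCohLib.hasLTensorCx Ex
    haveI := DCohLib.hasRSheafHom_of_isKFlat Ex (DCohLib.isKFlat_resX _)
    haveI : IsIso (DerivedCategory.Q.map ((DCohLib.resXπ X).app E)) := DCohLib.isIso_Q_resXπ _
    let eEx : DerivedCategory.Q.obj Ex ≅ DerivedCategory.Q.obj E := asIso (DerivedCategory.Q.map ((DCohLib.resXπ X).app E))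
    obtain ⟨nL⟩ := DCohLib.nonempty_lTensor_of_iso eEx
    let nR : DCoh.RSheafHom E ≅ DCoh.RSheafHom Ex :=
      Adjunction.rightAdjointUniq ((DCoh.RSheafHomAdj E).ofNatIsoLeft nL.symm) (DCoh.RSheafHomAdj Ex)
    let O := DCoh.inD X (Coh.structureModule X)
    let P := (DCoh.RSheafHom Ex).obj O
    have hExp : DCoh.IsPerfect (DerivedCategory.Q.obj Ex) := DCohLib.isPerfect_iso eEx.symm hK
    have hP : DCoh.IsPerfect P := DCohLib.isPerfect_rSheafHom_unit Ex (DCohLib.isKFlat_resX _) hExp
    let D := (DCohLib.resX X).obj (DerivedCategory.Q.objPreimage P)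
    haveI := DCohLib.hasLTensorCx D
    let G := SkyHomLib.skyO X x
    haveI := DCohLib.hasLTensorMod G
    obtain ⟨sy⟩ := FMPerfLib.nonempty_lTensorMod_symm G P D (DCohLib.isKFlat_resX _) (DCohLib.resXIso P)
    let M := (shiftFunctor (DCoh.D X) i).obj (DCoh.inD X G)
    obtain ⟨eR⟩ := DCohLib.nonempty_lTensor_dual Ex (DCohLib.isKFlat_resX _) hExp D (DCohLib.isKFlat_resX _)
      (DCohLib.resXIso P) M
    let t : (shiftFunctor (DCoh.D X) i).obj ((DCoh.LTensorMod G).obj P) ≅ (DCoh.RSheafHom Ex).obj M :=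
      (shiftFunctor (DCoh.D X) i).mapIso (sy ≪≫ (DCoh.LTensorCx D).mapIso
          ((DerivedCategory.singleFunctorIsoCompQ X.Modules 0).app G).symm) ≪≫
        (FMPerfLib.lTensorShift D (DCohLib.isKFlat_resX _) (DCoh.inD X G) i).symm ≪≫ eR
    obtain ⟨sw⟩ := DCohLib.nonempty_symCxSch (DCohLib.unitCx X) Ex
    haveI := DCohLib.isIso_lTensorCounit_app_of_isKFlat Ex (DCohLib.isKFlat_resX _) (DCohLib.unitCx X)
    let eK : (DCoh.LTensorCx Ex).obj O ≅ DerivedCategory.Q.obj E :=
      (DCoh.LTensorCx Ex).mapIso DCohLib.unitDIso ≪≫ asIso ((DCohLib.lTensorCounit Ex).app (DCohLib.unitCx X)) ≪≫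
        DerivedCategory.Q.mapIso (sw ≪≫ DCohLib.tensorUnitCxIso.app Ex) ≪≫ eEx
    obtain ⟨U, hxU, hU⟩ := SkyOrth.exists_nhd P (DCohLib.isCohD_bounded_of_isPerfect P hP).1 x i
      (SkyOrth.not_mem_support_of_hom_lTensorMod x hx P hP i fun φ => by
        apply (((Iso.refl _).homCongr t).trans
          (((DCoh.RSheafHomAdj Ex).homEquiv _ _).symm.trans (eK.homCongr (Iso.refl _)))).injective
        exact (h _).trans (h _).symm)
    exact ⟨U, hxU, fun y hy hy' => hU y hy
      ((SkyHomLib.support_congr ((DerivedCategory.homologyFunctor X.Modules i).mapIso (nR.app O))) ▸ hy')⟩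

end Groth.Agent.S6741
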