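import Groth.Statements.S6742
import Groth.Agent.DCohMore.FinHom
import Groth.Agent.DCohMore.PerfVanish
import Groth.Agent.DCohMore.SpecThomason
import Groth.Agent.TensorCohLib.Basic
import Groth.Agent.DCohMore.RelPerfTerms
-- import your own Groth.Agent.* helpers here

set_option autoImplicit false
set_option backward.isDefEq.respectTransparency false
set_option maxHeartbeats 800000
set_option synthInstance.maxHeartbeats 200000
universe u
open CategoryTheory AlgebraicGeometry
attribute [local instance] HasDerivedCategory.standard
open DEquiv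

namespace Groth.Agent.S6742

/-- Let X be a scheme proper over a field k, let K be an object of D(O_X) which is bounded and has
coherent cohomology sheaves, and let E be a perfect object of D(O_X). Then the k-vector spaces
Ext^i_X(E, K) = Hom(E, K⟦i⟧) (k-linear structure induced by X → Spec k) are finite-dimensional for
all i ∈ ℤ and nonzero for only finitely many i. -/
theorem result
    (k : Type u) [Field k] (X : Scheme.{u}) [X.Over (Spec (.of k))] [IsProper (X ↘ Spec (.of k))]
    (K : DCoh.D X) (hK : SGA6.cohbP X K) (E : DCoh.D X) (hE : DCoh.IsPerfect E) :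
    (∀ i : ℤ, Module.Finite k (E ⟶ (shiftFunctor (DCoh.D X) i).obj K)) ∧
        Set.Finite {i : ℤ | Nontrivial (E ⟶ (shiftFunctor (DCoh.D X) i).obj K)} := by
  obtain ⟨hKc, a, b, ha, hb⟩ := hK
  haveI : IsLocallyNoetherian X := LocallyOfFiniteType.isLocallyNoetherian (X ↘ Spec (.of k))
  haveI : CompactSpace X := QuasiCompact.compactSpace_of_compactSpace (X ↘ Spec (.of k))
  haveI : QuasiSeparatedSpace X := quasiSeparatedSpace_of_quasiSeparated (X ↘ Spec (.of k))
  have hEc : DCoh.IsCohD E :=
    TensorCohLib.isCohD_of_pc E (fun m => DCohMore.isPseudoCoherentD_of_isPerfect' hE m)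
  have hEb := DCohMore.exists_isLE_of_isPerfect hE
  refine ⟨fun i => ?_, ?_⟩
  · refine DCohMore.FinHom.finite_hom E _ hEc hEb ?_ ⟨a - i, ?_⟩
    · exact fun n => DCohLib.isCoh_iso
        ((((DerivedCategory.homologyFunctor X.Modules 0).shiftIso i n (i + n) rfl).app K)).symm (hKc (i + n))
    · haveI := ha
      exact DCohMore.isGE_shift' K a i (a - i) (by omega)
  · refine (DCohMore.finite_hom_shift hE K a b (fun n => (hKc n).1) ha hb).subset fun n hn => ?_
    haveI : Nontrivial _ := hn
    exact exists_ne 0

end Groth.Agent.S6742
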