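import Groth.Statements.S6743
import Groth.Agent.ProjPerfLib.TwistLinear
import Groth.Agent.DCohMore.AffinePushHD
import Groth.Agent.RelPCLib.ClosedPC
import Groth.Agent.BCLib.SteinFlat
import Groth.Agent.S6742
-- import your own Groth.Agent.* helpers here

set_option autoImplicit false
set_option backward.isDefEq.respectTransparency false
set_option maxHeartbeats 800000
set_option synthInstance.maxHeartbeats 200000
universe u
open CategoryTheory AlgebraicGeometry
attribute [local instance] HasDerivedCategory.standard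
open DEquiv

namespace Groth.Agent.S6743

/-- Let X be a scheme over a field k whose structure morphism is H-projective (X is a closed subscheme
of some P^n_k; over a field this is the same as projective) and let K be an object of D(O_X) with
quasi-coherent cohomology sheaves. Then K is bounded with coherent cohomology sheaves if and only if
for every perfect object E of D(O_X) the k-vector spaces Ext^i_X(E, K) = Hom(E, K⟦i⟧) are
finite-dimensional for all i ∈ ℤ and nonzero for only finitely many i. -/
theorem result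
    (k : Type u) [Field k] (X : Scheme.{u}) [X.Over (Spec (.of k))]
    (hproj : RelProj.IsHProjective (X ↘ Spec (.of k)))
    (K : DCoh.D X) (hK : DCoh.IsQCohD K) :
    SGA6.cohbP X K ↔
      ∀ E : DCoh.D X, DCoh.IsPerfect E →
        (∀ i : ℤ, Module.Finite k (E ⟶ (shiftFunctor (DCoh.D X) i).obj K)) ∧
        Set.Finite {i : ℤ | Nontrivial (E ⟶ (shiftFunctor (DCoh.D X) i).obj K)} := by
  obtain ⟨n, i, hi, hiπ⟩ := hproj
  let S := Spec (CommRingCat.of k)
  let P := CohB1.ProjSpaceOver n S
  haveI := hi
  haveI : IsProper (P ↘ S) := DCohMore.TwistOver.isProper_pr n S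
  haveI : IsProper (X ↘ S) := by rw [← hiπ]; infer_instance
  haveI : IsLocallyNoetherian P := LocallyOfFiniteType.isLocallyNoetherian (P ↘ S)
  haveI : i.IsOver S := ⟨hiπ⟩
  haveI := DCohMore.BC.hasRpush (KRR.pr n S)
  haveI := DCohMore.BC.hasRpush i
  haveI := DCohLib.hasLpull i
  haveI : SiteCmp.HasRpushD (ModSite.RMor.ofScheme i) := ‹DCoh.HasRpush i›
  obtain ⟨h₁, h₂⟩ := SiteCmpLib.exists_triangulated_rpushD (ModSite.RMor.ofScheme i)
  letI : (DCoh.Rpush i).CommShift ℤ := h₁
  haveI : (DCoh.Rpush i).IsTriangulated := h₂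
  haveI := DCohMore.FinHom.rpush_linear (A := k) i
  refine ⟨fun hc E hE => S6742.result k X K hc E hE, fun h => ?_⟩
  let K' := (DCoh.Rpush i).obj K
  have hK' : DCoh.IsQCohD K' := DCohMore.isQCohD_rpush i K hK
  have hp : DCoh.IsPerfect K' := by
    refine ProjPerfLib.isPerfect_of_twists n k K' hK' fun j _ => ?_
    let V := (DCohMore.TwistOver.F n S (j : ℤ)).obj (DCoh.inD P (Coh.structureModule P))
    let E := (DCoh.Lpull i).obj V
    have hE : DCoh.IsPerfect E := DCohLib.isPerfect_lpull i V (ProjPerfLib.isPerfect_F n S _ _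
      (DCohLib.isPerfect_inD (BCLib.isFinLocFree_structureModule P)))
    obtain ⟨h1, h2⟩ := h E hE
    have key : ∀ m : ℤ, Nonempty ((DCoh.inD P (Coh.structureModule P) ⟶
        ((DCohMore.TwistOver.F n S (-(j : ℤ))).obj K')⟦m⟧) ≃ₗ[k] (E ⟶ K⟦m⟧)) := fun m => by
      obtain ⟨eq⟩ := ProjPerfLib.nonempty_hom_twist n S (A := k) (j : ℤ) (DCoh.inD P (Coh.structureModule P)) K' m
      exact ⟨eq.trans ((Linear.homCongr k (Iso.refl V) (((DCoh.Rpush i).commShiftIso m).app K).symm).trans
        (DCohMore.FinHom.homLinearEquiv' (A := k) (DCohLib.lpullRpushAdj i) V (K⟦m⟧)).symm)⟩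
    refine ⟨fun m => ?_, h2.subset fun m hm => ?_⟩
    · obtain ⟨eq⟩ := key m
      haveI := h1 m
      exact Module.Finite.equiv eq.symm
    · obtain ⟨eq⟩ := key m
      exact @Equiv.nontrivial _ _ eq.symm.toEquiv hm
  obtain ⟨hc, a, b, ha, hb⟩ := ProjPerfLib.cohbP_of_isPerfect n k K' hp
  have hhd := fun m => DCohMore.nonempty_HD_rpush_affine i K hK m
  refine ⟨fun m => ⟨hK m, ?_⟩, a, b, (DerivedCategory.isGE_iff _ _).2 fun m hm => ?_,
    (DerivedCategory.isLE_iff _ _).2 fun m hm => ?_⟩
  · obtain ⟨e⟩ := hhd m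
    exact RelPCLib.isFT_of_push i (DCohLib.isCoh_iso e (hc m)).2
  · obtain ⟨e⟩ := hhd m
    have hz := ((DerivedCategory.isGE_iff _ _).1 ha m hm).of_iso e.symm
    haveI := DCohLib.isIso_counit_closedImmersion i (DCoh.HD K m)
    exact ((Scheme.Modules.pullback i).map_isZero hz).of_iso
      (asIso ((Scheme.Modules.pullbackPushforwardAdjunction i).counit.app _)).symm
  · obtain ⟨e⟩ := hhd m
    have hz := ((DerivedCategory.isLE_iff _ _).1 hb m hm).of_iso e.symm
    haveI := DCohLib.isIso_counit_closedImmersion i (DCoh.HD K m)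
    exact ((Scheme.Modules.pullback i).map_isZero hz).of_iso
      (asIso ((Scheme.Modules.pullbackPushforwardAdjunction i).counit.app _)).symm

end Groth.Agent.S6743
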