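import Groth.Statements.S6746
import Groth.Agent.ProperTest.Main
import Groth.Agent.FinDimRep.Shift
-- import your own Groth.Agent.* helpers here

set_option autoImplicit false
set_option backward.isDefEq.respectTransparency false
set_option maxHeartbeats 800000
set_option synthInstance.maxHeartbeats 200000
universe u
open CategoryTheory AlgebraicGeometry
attribute [local instance] HasDerivedCategory.standard
open DEquiv

namespace Groth.Agent.S6746

open CategoryTheory.Limits CategoryTheory.Pretriangulated Opposite in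
/-- Let X be a scheme proper over a field k which is regular (all local rings regular), and write
D_perf(O_X) for the full subcategory of perfect objects of D(O_X) (the instance hypothesis records
that it is a triangulated subcategory). Let H be a contravariant functor from D_perf(O_X) to
k-vector spaces which is k-linear, cohomological (for every distinguished triangle A ⟶ B ⟶ C of
D(O_X) with perfect vertices the sequence H(C) ⟶ H(B) ⟶ H(A) is exact) and such that for every
perfect E the spaces H(E⟦n⟧) are finite-dimensional for all n ∈ ℤ and nonzero for only finitely many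
n. Then H is isomorphic to the functor E ↦ Hom(E, K) for some perfect object K of D(O_X) (existence
of K and of an isomorphism of functors). -/
theorem result
    (k : Type u) [Field k] (X : Scheme.{u}) [X.Over (Spec (.of k))] [IsProper (X ↘ Spec (.of k))]
    (hreg : Models.IsRegularScheme X)
    [(SGA6.perfP X).IsTriangulated]
    (H : ((SGA6.perfP X).FullSubcategory)ᵒᵖ ⥤ ModuleCat.{u + 1} k) [H.Additive]
    (hlin : ∀ (A B : (SGA6.perfP X).FullSubcategory) (r : k) (f : A ⟶ B), H.map (r • f).op = r • H.map f.op)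
    (hcoh : ∀ T ∈ distTriang (DCoh.D X), ∀ (h₁ : DCoh.IsPerfect T.obj₁)
      (h₂ : DCoh.IsPerfect T.obj₂) (h₃ : DCoh.IsPerfect T.obj₃)
      (y : H.obj (op ⟨T.obj₂, h₂⟩)),
      H.map (ObjectProperty.homMk T.mor₁ : (⟨T.obj₁, h₁⟩ : (SGA6.perfP X).FullSubcategory) ⟶ ⟨T.obj₂, h₂⟩).op y = 0 →
        ∃ z : H.obj (op ⟨T.obj₃, h₃⟩),
          H.map (ObjectProperty.homMk T.mor₂ : (⟨T.obj₂, h₂⟩ : (SGA6.perfP X).FullSubcategory) ⟶ ⟨T.obj₃, h₃⟩).op z = y)
    (hfin : ∀ E : (SGA6.perfP X).FullSubcategory,
      (∀ n : ℤ, Module.Finite k (H.obj (op ((shiftFunctor ((SGA6.perfP X).FullSubcategory) n).obj E)))) ∧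
      Set.Finite {n : ℤ | Nontrivial (H.obj (op ((shiftFunctor ((SGA6.perfP X).FullSubcategory) n).obj E)))}) :
    ∃ K : DCoh.D X, DCoh.IsPerfect K ∧
      Nonempty (H ≅ (ObjectProperty.ι (SGA6.perfP X)).op ⋙ (linearYoneda k (DCoh.D X)).obj K) := by
  haveI : CompactSpace X := QuasiCompact.compactSpace_of_compactSpace (X ↘ Spec (.of k))
  haveI : QuasiSeparatedSpace X := quasiSeparatedSpace_of_quasiSeparated (X ↘ Spec (.of k))
  haveI : IsLocallyNoetherian X := LocallyOfFiniteType.isLocallyNoetherian (X ↘ Spec (.of k))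
  obtain ⟨K, hK, ⟨e⟩⟩ := FinDimRep.exists_rep_perfect H hlin hcoh (FinDimRep.finite_zero H hlin hfin)
  obtain ⟨hc, a, b, ha, hb⟩ := ProperTest.cohbP_of_hom_findim hreg K hK (FinDimRep.hom_findim H hfin e)
  exact ⟨K, DCohMore.isPerfect_of_regular hreg K a b hc, ⟨e⟩⟩

end Groth.Agent.S6746
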