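import Groth.Statements.S6747
import Groth.Agent.PerfDual.Bidual
import Groth.Agent.S6746
-- import your own Groth.Agent.* helpers here

set_option autoImplicit false
set_option backward.isDefEq.respectTransparency false
set_option maxHeartbeats 800000
set_option backward.isDefEq.respectTransparency false
set_option maxHeartbeats 800000
set_option synthInstance.maxHeartbeats 200000
universe u
open CategoryTheory AlgebraicGeometry
attribute [local instance] HasDerivedCategory.standard
open DEquiv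

namespace Groth.Agent.S6747

open Groth.Agent Opposite CategoryTheory.Pretriangulated in
theorem exists_corep (k : Type u) [Field k] (X : Scheme.{u}) [X.Over (Spec (.of k))] [IsProper (X ↘ Spec (.of k))]
    (hreg : Models.IsRegularScheme X)
    [(SGA6.perfP X).IsTriangulated]
    (G : (SGA6.perfP X).FullSubcategory ⥤ ModuleCat.{u + 1} k) [G.Additive] [G.Linear k] [G.IsHomological]
    (hfin : ∀ E : (SGA6.perfP X).FullSubcategory,
      (∀ n : ℤ, Module.Finite k (G.obj ((shiftFunctor ((SGA6.perfP X).FullSubcategory) n).obj E))) ∧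
      Set.Finite {n : ℤ | Nontrivial (G.obj ((shiftFunctor ((SGA6.perfP X).FullSubcategory) n).obj E))}) :
    ∃ K : (SGA6.perfP X).FullSubcategory, Nonempty (G ≅ (linearCoyoneda k ((SGA6.perfP X).FullSubcategory)).obj (op K)) := by
  let ι := ObjectProperty.ι (SGA6.perfP X)
  let DP := PerfDual.DP X
  haveI : DP.Additive :=
    { map_add := fun {A B} {f g} => ι.map_injective (PerfDual.Dv_map_add f.unop.hom g.unop.hom) }
  have hDlin : ∀ (A B : (SGA6.perfP X).FullSubcategory) (r : k) (f : A ⟶ B), DP.map (r • f).op = r • DP.map f.op :=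
    fun A B r f => ι.map_injective (PerfDual.Dv_map_smul f.hom r)
  let H := DP ⋙ G
  have hlin : ∀ (A B : (SGA6.perfP X).FullSubcategory) (r : k) (f : A ⟶ B), H.map (r • f).op = r • H.map f.op :=
    fun A B r f => (congrArg G.map (hDlin A B r f)).trans (Functor.map_smul _ _ _)
  have hcoh : ∀ T ∈ distTriang (DCoh.D X), ∀ (h₁ : DCoh.IsPerfect T.obj₁)
      (h₂ : DCoh.IsPerfect T.obj₂) (h₃ : DCoh.IsPerfect T.obj₃)
      (y : H.obj (op ⟨T.obj₂, h₂⟩)),
      H.map (ObjectProperty.homMk T.mor₁ : (⟨T.obj₁, h₁⟩ : (SGA6.perfP X).FullSubcategory) ⟶ ⟨T.obj₂, h₂⟩).op y = 0 →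
        ∃ z : H.obj (op ⟨T.obj₃, h₃⟩),
          H.map (ObjectProperty.homMk T.mor₂ : (⟨T.obj₂, h₂⟩ : (SGA6.perfP X).FullSubcategory) ⟶ ⟨T.obj₃, h₃⟩).op z = y := by
    intro T hT h₁ h₂ h₃ y hy
    obtain ⟨z, hz⟩ := PerfDual.exists_dual_triangle T hT
    let Q₁ := DP.obj (op ⟨T.obj₁, h₁⟩)
    let Q₂ := DP.obj (op ⟨T.obj₂, h₂⟩)
    let Q₃ := DP.obj (op ⟨T.obj₃, h₃⟩)
    let c := (ι.commShiftIso (1 : ℤ)).app Q₃
    let Tp : Triangle (SGA6.perfP X).FullSubcategory := Triangle.mk
      (DP.map (ObjectProperty.homMk T.mor₂ : (⟨T.obj₂, h₂⟩ : (SGA6.perfP X).FullSubcategory) ⟶ ⟨T.obj₃, h₃⟩).op)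
      (DP.map (ObjectProperty.homMk T.mor₁ : (⟨T.obj₁, h₁⟩ : (SGA6.perfP X).FullSubcategory) ⟶ ⟨T.obj₂, h₂⟩).op)
      (ι.preimage (X := Q₁) ((show ι.obj Q₁ ⟶ (ι.obj Q₃)⟦(1 : ℤ)⟧ from z) ≫ c.inv))
    have hTp : Tp ∈ distTriang (SGA6.perfP X).FullSubcategory := by
      refine isomorphic_distinguished _ hz _ (Triangle.isoMk _ _ (Iso.refl _) (Iso.refl _) (Iso.refl _)
        ((Category.comp_id _).trans (Category.id_comp _).symm) ((Category.comp_id _).trans (Category.id_comp _).symm) ?_)
      show (ι.map (ι.preimage (X := Q₁) ((show ι.obj Q₁ ⟶ (ι.obj Q₃)⟦(1 : ℤ)⟧ from z) ≫ c.inv)) ≫ c.hom) ≫ (𝟙 _)⟦(1 : ℤ)⟧' =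
        𝟙 (ι.obj Q₁) ≫ z
      rw [ι.map_preimage, Category.assoc _ c.inv, c.inv_hom_id, Category.comp_id, CategoryTheory.Functor.map_id]
      exact (Category.comp_id _).trans (Category.id_comp _).symm
    exact (ShortComplex.moduleCat_exact_iff _).1 (G.map_distinguished_exact Tp hTp) y hy
  have hfinH : ∀ E : (SGA6.perfP X).FullSubcategory,
      (∀ n : ℤ, Module.Finite k (H.obj (op ((shiftFunctor ((SGA6.perfP X).FullSubcategory) n).obj E)))) ∧
      Set.Finite {n : ℤ | Nontrivial (H.obj (op ((shiftFunctor ((SGA6.perfP X).FullSubcategory) n).obj E)))} := by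
    intro E
    have hs : ∀ n : ℤ, Nonempty (DP.obj (op (E⟦n⟧)) ≅ (DP.obj (op E))⟦-n⟧) := fun n => by
      obtain ⟨e⟩ := PerfDual.nonempty_Dv_shift E.obj n
      exact ⟨ι.preimageIso ((PerfDual.Dv X).mapIso ((ι.commShiftIso n).app E).op.symm ≪≫ e ≪≫
        ((ι.commShiftIso (-n)).app (DP.obj (op E))).symm)⟩
    refine ⟨fun n => ?_, (((hfin (DP.obj (op E))).2).image fun n => -n).subset fun n hn => ⟨-n, ?_, neg_neg n⟩⟩
    · haveI := (hfin (DP.obj (op E))).1 (-n)
      exact Module.Finite.equiv (G.mapIso (hs n).some).toLinearEquiv.symm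
    · exact @Equiv.nontrivial _ _ (G.mapIso (hs n).some).toLinearEquiv.symm.toEquiv hn
  obtain ⟨K₀, hK₀, ⟨e⟩⟩ := S6746.result k X hreg H hlin hcoh hfinH
  let K' : (SGA6.perfP X).FullSubcategory := ⟨K₀, hK₀⟩
  let b := PerfDual.bidP X
  let K := DP.obj (op K')
  refine ⟨K, ⟨?_⟩⟩
  let e1 : G ≅ DP.rightOp ⋙ H := (Functor.leftUnitor G).symm ≪≫ Functor.isoWhiskerRight b G ≪≫ Functor.associator _ _ _
  have hbij : ∀ A : (SGA6.perfP X).FullSubcategory,
      Function.Bijective (fun g : K ⟶ A => ι.map (DP.map g.op ≫ (b.app K').inv)) := fun A =>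
    ⟨ι.map_injective.comp (((b.app K').symm.homToEquiv).injective.comp (DP.map_injective.comp Quiver.Hom.op_inj)),
      fun h => ⟨(DP.preimage (ι.preimage h ≫ (b.app K').hom)).unop, by simp⟩⟩
  let e2 : (linearCoyoneda k ((SGA6.perfP X).FullSubcategory)).obj (op K) ≅
      DP.rightOp ⋙ (ι.op ⋙ (linearYoneda k (DCoh.D X)).obj K₀) :=
    NatIso.ofComponents (fun A => LinearEquiv.toModuleIso (LinearEquiv.ofBijective
      ({ toFun := fun g : K ⟶ A => ι.map (DP.map g.op ≫ (b.app K').inv)
         map_add' := fun g g' => by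
           rw [op_add, Functor.map_add, Preadditive.add_comp, Functor.map_add]
         map_smul' := fun r g => by
           rw [hDlin, Linear.smul_comp, Functor.map_smul, RingHom.id_apply] } :
        (K ⟶ A) →ₗ[k] (ι.obj (DP.obj (op A)) ⟶ K₀)) (hbij A)))
      fun {A B} f => ModuleCat.hom_ext (LinearMap.ext fun g => by
        show ι.map (DP.map (g ≫ f).op ≫ (b.app K').inv) = ι.map (DP.map f.op) ≫ ι.map (DP.map g.op ≫ (b.app K').inv)
        rw [← Functor.map_comp]
        exact congrArg ι.map ((congrArg (· ≫ (b.app K').inv) (DP.map_comp f.op g.op)).trans (Category.assoc _ _ _)))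
  exact e1 ≪≫ Functor.isoWhiskerLeft DP.rightOp e ≪≫ e2.symm

open CategoryTheory.Limits CategoryTheory.Pretriangulated Opposite in
/-- Let X be a scheme proper over a field k which is regular (all local rings regular), and write
D_perf(O_X) for the full subcategory of perfect objects of D(O_X) with its induced triangulated
structure (the instance hypothesis records that it is a triangulated subcategory). Let G be a
covariant functor from D_perf(O_X) to k-vector spaces which is k-linear and homological and such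
that for every perfect E the spaces G(E⟦n⟧) are finite-dimensional for all n ∈ ℤ and nonzero for
only finitely many n. Then G is isomorphic to the functor E ↦ Hom(K, E) for some perfect object K
(existence of K and of an isomorphism of functors). -/
theorem result
    (k : Type u) [Field k] (X : Scheme.{u}) [X.Over (Spec (.of k))] [IsProper (X ↘ Spec (.of k))]
    (hreg : Models.IsRegularScheme X)
    [(SGA6.perfP X).IsTriangulated]
    (G : (SGA6.perfP X).FullSubcategory ⥤ ModuleCat.{u + 1} k) [G.Additive] [G.Linear k] [G.IsHomological]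
    (hfin : ∀ E : (SGA6.perfP X).FullSubcategory,
      (∀ n : ℤ, Module.Finite k (G.obj ((shiftFunctor ((SGA6.perfP X).FullSubcategory) n).obj E))) ∧
      Set.Finite {n : ℤ | Nontrivial (G.obj ((shiftFunctor ((SGA6.perfP X).FullSubcategory) n).obj E))}) :
    ∃ K : (SGA6.perfP X).FullSubcategory, Nonempty (G ≅ (linearCoyoneda k ((SGA6.perfP X).FullSubcategory)).obj (op K)) := by
  exact exists_corep k X hreg G hfin

end Groth.Agent.S6747
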