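import Groth.Statements.S6748
import Groth.Agent.S6747
import Groth.Agent.S6742
import Groth.Agent.PerfDual.SubTri
import Groth.Agent.DCohLib.PerfCoh
-- import your own Groth.Agent.* helpers here

set_option autoImplicit false
set_option backward.isDefEq.respectTransparency false
set_option maxHeartbeats 1600000
set_option backward.isDefEq.respectTransparency false
set_option maxHeartbeats 800000
set_option synthInstance.maxHeartbeats 200000
universe u
open CategoryTheory AlgebraicGeometry
attribute [local instance] HasDerivedCategory.standard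
open DEquiv

namespace Groth.Agent.S6748

/-- Let X and Y be schemes proper over a field k with X regular (all local rings regular), and let F :
D_perf(O_X) ⥤ D_perf(O_Y) be a k-linear exact functor between the full subcategories of perfect
objects of D(O_X) and D(O_Y) (the instance hypotheses record that these are triangulated
subcategories). Then F has a right adjoint and a left adjoint. (Both adjoints are then exact
functors of triangulated categories; that general fact is not restated.) -/
theorem result
    (k : Type u) [Field k] (X Y : Scheme.{u}) [X.Over (Spec (.of k))] [Y.Over (Spec (.of k))]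
    [IsProper (X ↘ Spec (.of k))] [IsProper (Y ↘ Spec (.of k))] (hreg : Models.IsRegularScheme X)
    [(SGA6.perfP X).IsTriangulated] [(SGA6.perfP Y).IsTriangulated]
    (F : (SGA6.perfP X).FullSubcategory ⥤ (SGA6.perfP Y).FullSubcategory) [F.Additive] [F.Linear k]
    [F.CommShift ℤ] [F.IsTriangulated] :
    F.IsLeftAdjoint ∧ F.IsRightAdjoint := by
  haveI : IsLocallyNoetherian Y := LocallyOfFiniteType.isLocallyNoetherian (Y ↘ Spec (.of k))
  haveI : CompactSpace Y := QuasiCompact.compactSpace_of_compactSpace (Y ↘ Spec (.of k))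
  haveI : IsNoetherian Y := {}
  let ιY := ObjectProperty.ι (SGA6.perfP Y)
  let sY := fun n : ℤ => shiftFunctor (SGA6.perfP Y).FullSubcategory n
  have hcohb : ∀ B : (SGA6.perfP Y).FullSubcategory, SGA6.cohbP Y B.obj :=
    fun B => DCohLib.isCohD_bounded_of_isPerfect B.obj B.property
  have hfinY : ∀ A B : (SGA6.perfP Y).FullSubcategory,
      (∀ n : ℤ, Module.Finite k (A ⟶ (sY n).obj B)) ∧ Set.Finite {n : ℤ | Nontrivial (A ⟶ (sY n).obj B)} := by
    intro A B
    obtain ⟨h1, h2⟩ := S6742.result k Y B.obj (hcohb B) A.obj A.property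
    have key : ∀ n : ℤ, Nonempty ((A ⟶ (sY n).obj B) ≃ₗ[k] (A.obj ⟶ B.obj⟦n⟧)) := fun n =>
      ⟨(LinearEquiv.ofBijective (ιY.mapLinearMap k) ⟨ιY.map_injective, ιY.map_surjective⟩).trans
        (Linear.homCongr k (Iso.refl _) ((ιY.commShiftIso n).app B))⟩
    refine ⟨fun n => ?_, h2.subset fun n hn => ?_⟩
    · haveI := h1 n
      exact Module.Finite.equiv (key n).some.symm
    · exact @Equiv.nontrivial _ _ (key n).some.symm.toEquiv hn
  have hsub : ∀ (A : (SGA6.perfP X).FullSubcategory) (n : ℤ),
      Nonempty (F.obj (A⟦n⟧) ≅ (sY n).obj (F.obj A)) := fun A n => ⟨(F.commShiftIso n).app A⟩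
  refine ⟨?_, ?_⟩
  · -- right adjoint
    have key : ∀ B : (SGA6.perfP Y).FullSubcategory, ∃ R : (SGA6.perfP X).FullSubcategory,
        Nonempty (F.op ⋙ (linearYoneda k (SGA6.perfP Y).FullSubcategory).obj B ≅
          (linearYoneda k (SGA6.perfP X).FullSubcategory).obj R) := by
      intro B
      let H := F.op ⋙ (linearYoneda k (SGA6.perfP Y).FullSubcategory).obj B
      have hlin : ∀ (A A' : (SGA6.perfP X).FullSubcategory) (r : k) (f : A ⟶ A'), H.map (r • f).op = r • H.map f.op :=
        fun A A' r f => ModuleCat.hom_ext (LinearMap.ext fun g => by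
          show F.map (r • f) ≫ g = r • (F.map f ≫ g)
          rw [Functor.map_smul, Linear.smul_comp])
      have hcoh : ∀ T ∈ CategoryTheory.Pretriangulated.distinguishedTriangles (C := DCoh.D X),
          ∀ (h₁ : DCoh.IsPerfect T.obj₁) (h₂ : DCoh.IsPerfect T.obj₂) (h₃ : DCoh.IsPerfect T.obj₃)
          (y : H.obj (Opposite.op ⟨T.obj₂, h₂⟩)),
          H.map (ObjectProperty.homMk T.mor₁ : (⟨T.obj₁, h₁⟩ : (SGA6.perfP X).FullSubcategory) ⟶ ⟨T.obj₂, h₂⟩).op y = 0 →
            ∃ z : H.obj (Opposite.op ⟨T.obj₃, h₃⟩),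
              H.map (ObjectProperty.homMk T.mor₂ : (⟨T.obj₂, h₂⟩ : (SGA6.perfP X).FullSubcategory) ⟶ ⟨T.obj₃, h₃⟩).op z = y := by
        intro T hT h₁ h₂ h₃ y hy
        let Tp := PerfTri.lift (SGA6.perfP X) T h₁ h₂ h₃
        obtain ⟨z, hz⟩ := Pretriangulated.Triangle.yoneda_exact₂ _
          (F.map_distinguished Tp (PerfTri.lift_distinguished _ T hT h₁ h₂ h₃)) y hy
        exact ⟨z, hz.symm⟩
      have hfinH : ∀ E : (SGA6.perfP X).FullSubcategory,
          (∀ n : ℤ, Module.Finite k (H.obj (Opposite.op ((shiftFunctor ((SGA6.perfP X).FullSubcategory) n).obj E)))) ∧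
          Set.Finite {n : ℤ | Nontrivial (H.obj (Opposite.op ((shiftFunctor ((SGA6.perfP X).FullSubcategory) n).obj E)))} := by
        intro E
        obtain ⟨h1, h2⟩ := hfinY (F.obj E) B
        have k2 : ∀ n : ℤ, Nonempty ((F.obj (E⟦n⟧) ⟶ B) ≃ₗ[k] (F.obj E ⟶ (sY (-n)).obj B)) := fun n => by
          let S := shiftEquiv' (SGA6.perfP Y).FullSubcategory n (-n) (add_neg_cancel n)
          haveI : (S.functor).Linear k := inferInstanceAs ((shiftFunctor _ n).Linear k)
          exact ⟨(Linear.homCongr k (hsub E n).some (Iso.refl B)).trans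
            ((LinearEquiv.ofBijective ((sY (-n)).mapLinearMap k) ⟨(sY (-n)).map_injective, (sY (-n)).map_surjective⟩).trans
              (Linear.homCongr k ((shiftFunctorCompIsoId _ n (-n) (add_neg_cancel n)).app (F.obj E)) (Iso.refl _)))⟩
        refine ⟨fun n => ?_, (h2.image fun n => -n).subset fun n hn => ⟨-n, ?_, neg_neg n⟩⟩
        · haveI := h1 (-n)
          exact Module.Finite.equiv (k2 n).some.symm
        · exact @Equiv.nontrivial _ _ (k2 n).some.symm.toEquiv hn
      obtain ⟨K, hK, ⟨e⟩⟩ := S6746.result k X hreg H hlin hcoh hfinH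
      refine ⟨⟨K, hK⟩, ⟨e ≪≫ (NatIso.ofComponents (fun A => LinearEquiv.toModuleIso (LinearEquiv.ofBijective
        ((ObjectProperty.ι (SGA6.perfP X)).mapLinearMap k)
        ⟨(ObjectProperty.ι (SGA6.perfP X)).map_injective, (ObjectProperty.ι (SGA6.perfP X)).map_surjective⟩))
        fun {A A'} f => ModuleCat.hom_ext (LinearMap.ext fun g => rfl)).symm⟩⟩
    choose R e using key
    let eq := fun (A : (SGA6.perfP X).FullSubcategory) (B : (SGA6.perfP Y).FullSubcategory) =>
      ((e B).some.app (Opposite.op A)).toLinearEquiv.toEquiv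
    exact (Adjunction.adjunctionOfEquivRight (F := F) (G_obj := R) eq fun A' A B f g =>
      ConcreteCategory.congr_hom ((e B).some.hom.naturality f.op) g).isLeftAdjoint
  · -- left adjoint
    have key : ∀ B : (SGA6.perfP Y).FullSubcategory, ∃ L : (SGA6.perfP X).FullSubcategory,
        Nonempty (F ⋙ (linearCoyoneda k (SGA6.perfP Y).FullSubcategory).obj (Opposite.op B) ≅
          (linearCoyoneda k (SGA6.perfP X).FullSubcategory).obj (Opposite.op L)) := by
      intro B
      let G := F ⋙ (linearCoyoneda k (SGA6.perfP Y).FullSubcategory).obj (Opposite.op B)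
      haveI : G.Linear k := ⟨fun {A A'} f r => ModuleCat.hom_ext (LinearMap.ext fun g => by
        show g ≫ F.map (r • f) = r • (g ≫ F.map f)
        rw [Functor.map_smul, Linear.comp_smul])⟩
      haveI : G.IsHomological := Functor.IsHomological.mk' _ fun T hT => ⟨T, Iso.refl _, by
        rw [ShortComplex.moduleCat_exact_iff]
        intro y hy
        obtain ⟨z, hz⟩ := Pretriangulated.Triangle.coyoneda_exact₂ _ (F.map_distinguished T hT) y hy
        exact ⟨z, hz.symm⟩⟩
      refine S6747.result k X hreg G fun E => ?_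
      obtain ⟨h1, h2⟩ := hfinY B (F.obj E)
      refine ⟨fun n => ?_, h2.subset fun n hn => ?_⟩
      · haveI := h1 n
        exact Module.Finite.equiv (Linear.homCongr k (Iso.refl B) (hsub E n).some).symm
      · exact @Equiv.nontrivial _ _ (Linear.homCongr k (Iso.refl B) (hsub E n).some).symm.toEquiv hn
    choose L e using key
    let eq := fun (B : (SGA6.perfP Y).FullSubcategory) (A : (SGA6.perfP X).FullSubcategory) =>
      ((e B).some.app A).symm.toLinearEquiv.toEquiv
    exact (Adjunction.adjunctionOfEquivLeft (G := F) (F_obj := L) eq fun B A A' g h =>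
      ConcreteCategory.congr_hom ((e B).some.inv.naturality g) h).isRightAdjoint

end Groth.Agent.S6748
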