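import Groth.Statements.S6749
import Groth.Agent.PerfFF.Main
import Groth.Agent.S6748
-- import your own Groth.Agent.* helpers here

set_option autoImplicit false
set_option backward.isDefEq.respectTransparency false
set_option maxHeartbeats 1600000
set_option backward.isDefEq.respectTransparency false
set_option maxHeartbeats 800000
set_option synthInstance.maxHeartbeats 200000
universe u
open CategoryTheory AlgebraicGeometry
attribute [local instance] HasDerivedCategory.standard
open DEquiv

namespace Groth.Agent.S6749

/-- Let X and Y be schemes proper over a field k with X regular (all local rings regular), and let F :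
D_perf(O_X) ⥤ D_perf(O_Y) be a k-linear exact functor between the full subcategories of perfect
objects (the instance hypotheses record that these are triangulated subcategories). For a closed
point x of X write O_x for the skyscraper sheaf at x with value κ(x), viewed in degree 0 of D(O_X);
it is perfect because X is regular, and the statement quantifies over a proof of this. Then F is
fully faithful if and only if for all closed points x, x' of X and all i ∈ ℤ the map Ext^i_X(O_x,
O_{x'}) = Hom(O_x, O_{x'}⟦i⟧) ⟶ Hom(F O_x, F(O_{x'}⟦i⟧)) given by F is bijective. -/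
theorem result
    (k : Type u) [Field k] (X Y : Scheme.{u}) [X.Over (Spec (.of k))] [Y.Over (Spec (.of k))]
    [IsProper (X ↘ Spec (.of k))] [IsProper (Y ↘ Spec (.of k))] (hreg : Models.IsRegularScheme X)
    [(SGA6.perfP X).IsTriangulated] [(SGA6.perfP Y).IsTriangulated]
    (F : (SGA6.perfP X).FullSubcategory ⥤ (SGA6.perfP Y).FullSubcategory) [F.Additive] [F.Linear k]
    [F.CommShift ℤ] [F.IsTriangulated] :
    (F.Full ∧ F.Faithful) ↔
      ∀ (x x' : X), IsClosed ({x} : Set X) → IsClosed ({x'} : Set X) →
        ∀ (hx : DCoh.IsPerfect (DCoh.inD X ((Coh.push (X.fromSpecResidueField x)).obj (Coh.structureModule _))))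
          (hx' : DCoh.IsPerfect (DCoh.inD X ((Coh.push (X.fromSpecResidueField x')).obj (Coh.structureModule _)))) (i : ℤ),
          Function.Bijective (fun f : (⟨DCoh.inD X ((Coh.push (X.fromSpecResidueField x)).obj (Coh.structureModule _)), hx⟩ : (SGA6.perfP X).FullSubcategory) ⟶
              (shiftFunctor ((SGA6.perfP X).FullSubcategory) i).obj ⟨DCoh.inD X ((Coh.push (X.fromSpecResidueField x')).obj (Coh.structureModule _)), hx'⟩ => F.map f) := by
  obtain ⟨hL, hR⟩ := S6748.result k X Y hreg F
  haveI := hL
  haveI := hR
  haveI : CompactSpace X := QuasiCompact.compactSpace_of_compactSpace (X ↘ Spec (.of k))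
  refine ⟨fun ⟨_, _⟩ x x' _ _ hx hx' i => ⟨F.map_injective, F.map_surjective⟩, fun h => ?_⟩
  refine PerfFF.fullyFaithful_of_bij_from_sky (k := k) F hreg fun x hx B =>
    PerfFF.bij_of_bij_to_sky (k := k) F hreg _ (fun x' hx' i => ?_) B
  exact h x x' hx hx' _ _ i

end Groth.Agent.S6749
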