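import Groth.Statements.S6750
import Groth.Agent.PerfFF.Main
import Groth.Agent.KosDual.SkySimple
import Groth.Agent.S6748
import Groth.Agent.S6742
import Groth.Agent.S6719
import Groth.Agent.S6720
-- import your own Groth.Agent.* helpers here

set_option autoImplicit false
set_option backward.isDefEq.respectTransparency false
set_option maxHeartbeats 1600000
set_option backward.isDefEq.respectTransparency false
set_option maxHeartbeats 800000
set_option synthInstance.maxHeartbeats 200000
universe u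
open CategoryTheory AlgebraicGeometry
attribute [local instance] HasDerivedCategory.standard
open DEquiv

namespace Groth.Agent.S6750

set_option maxHeartbeats 1000000

open Limits

/-- In a locally Noetherian Jacobson space a closed subset without closed points outside `{x}` lies in `{x}`. -/
theorem subset_singleton_of_closedPoints {T : Type u} [TopologicalSpace T] [JacobsonSpace T] (x : T)
    (hx : IsClosed ({x} : Set T)) (S : Set T) (hS : IsClosed S)
    (h : ∀ y : T, IsClosed ({y} : Set T) → y ≠ x → y ∉ S) : S ⊆ {x} := by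
  intro y hy
  by_contra hyx
  obtain ⟨z, ⟨hzS, hzx⟩, hz⟩ := nonempty_inter_closedPoints (Z := S ∩ {x}ᶜ) ⟨y, hy, hyx⟩
    (hS.isLocallyClosed.inter hx.isOpen_compl.isLocallyClosed)
  exact h z hz hzx hzS

/-- Negative Ext groups between sheaves vanish. -/
theorem hom_neg_eq_zero {X : Scheme.{u}} (G H : X.Modules) (n : ℤ) (hn : n < 0)
    (φ : DCoh.inD X G ⟶ (DCoh.inD X H)⟦n⟧) : φ = 0 := by
  haveI : (DCoh.inD X H).IsGE 0 := inferInstanceAs (((DerivedCategory.singleFunctor X.Modules 0).obj _).IsGE 0)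
  haveI : (DCoh.inD X G).IsLE 0 := inferInstanceAs (((DerivedCategory.singleFunctor X.Modules 0).obj _).IsLE 0)
  haveI : ((DCoh.inD X H)⟦n⟧).IsGE (-n) := DerivedCategory.TStructure.t.isGE_shift (DCoh.inD X H) 0 n (-n) (by omega)
  exact DerivedCategory.TStructure.t.zero φ 0 (-n) (by omega)

/-- Let X be a scheme proper over a field k which is regular (all local rings regular), and let F :
D_perf(O_X) ⥤ D_perf(O_X) be a k-linear exact functor on the full subcategory of perfect objects
(the instance hypothesis records that it is a triangulated subcategory). Assume that for every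
coherent O_X-module M whose support has dimension 0 (a nonempty finite set of closed points) there
is an isomorphism M ≅ F(M), where M is viewed in degree 0 (a perfect object since X is regular; the
statement quantifies over a proof of this). Then F is fully faithful. -/
theorem result
    (k : Type u) [Field k] (X : Scheme.{u}) [X.Over (Spec (.of k))] [IsProper (X ↘ Spec (.of k))]
    (hreg : Models.IsRegularScheme X) [(SGA6.perfP X).IsTriangulated]
    (F : (SGA6.perfP X).FullSubcategory ⥤ (SGA6.perfP X).FullSubcategory) [F.Additive] [F.Linear k]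
    [F.CommShift ℤ] [F.IsTriangulated]
    (h : ∀ (M : X.Modules), Coh.IsCoh M → (CohB1.support M).Finite → (CohB1.support M).Nonempty →
        (∀ x ∈ CohB1.support M, IsClosed ({x} : Set X)) →
        ∀ (hM : DCoh.IsPerfect (DCoh.inD X M)),
          Nonempty ((⟨DCoh.inD X M, hM⟩ : (SGA6.perfP X).FullSubcategory) ≅ F.obj ⟨DCoh.inD X M, hM⟩)) :
    F.Full ∧ F.Faithful := by
  haveI : IsLocallyNoetherian X := LocallyOfFiniteType.isLocallyNoetherian (X ↘ Spec (.of k))
  haveI : CompactSpace X := QuasiCompact.compactSpace_of_compactSpace (X ↘ Spec (.of k))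
  haveI : IsNoetherian X := {}
  haveI : JacobsonSpace X := LocallyOfFiniteType.jacobsonSpace (X ↘ Spec (.of k))
  obtain ⟨hla, hra⟩ := S6748.result k X X hreg F
  haveI := hla
  haveI := hra
  let adj := Adjunction.ofIsRightAdjoint F
  let ι := ObjectProperty.ι (SGA6.perfP X)
  refine PerfFF.fullyFaithful_of_bij_from_sky (k := k) F hreg fun x hx B => ?_
  let O := PerfFF.skyP (k := k) hreg x hx
  obtain ⟨hOf, hOn, hOc⟩ := PerfFF.support_sky x hx
  obtain ⟨hO⟩ : Nonempty (O ≅ F.obj O) :=
    h (SkyHomLib.skyO X x) (PerfFF.isCoh_sky (k := k) x hx) hOf hOn hOc O.property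
  let L := F.leftAdjoint
  let Q := L.obj (F.obj O)
  let ε : Q ⟶ O := adj.counit.app O
  suffices hε : IsIso ε by
    haveI : IsIso (adj.counit.app O) := hε
    exact (PerfFF.bij_iff_counit adj O B).2 ((asIso (adj.counit.app O)).symm.homFromEquiv.bijective)
  haveI := hreg x
  obtain ⟨d, hd⟩ : ∃ d : ℕ, ringKrullDim (X.presheaf.stalk x) = d :=
    ⟨_, (IsRegularLocalRing.spanFinrank_maximalIdeal (R := X.presheaf.stalk x)).symm⟩
  -- maps out of `Q` into point sheaves
  have hQhom : ∀ (y : X) (hy : IsClosed ({y} : Set X)) (n : ℤ),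
      (∀ ψ : DCoh.inD X (SkyHomLib.skyO X x) ⟶ (DCoh.inD X (SkyHomLib.skyO X y))⟦n⟧, ψ = 0) →
        ∀ φ : Q.obj ⟶ (DCoh.inD X (SkyHomLib.skyO X y))⟦n⟧, φ = 0 := by
    intro y hy n h0 φ
    let P := PerfFF.skyP (k := k) hreg y hy
    obtain ⟨hPf, hPn, hPc⟩ := PerfFF.support_sky y hy
    obtain ⟨hP⟩ : Nonempty (P ≅ F.obj P) :=
      h (SkyHomLib.skyO X y) (PerfFF.isCoh_sky (k := k) y hy) hPf hPn hPc P.property
    let c := (ι.commShiftIso n).app P
    let g : Q ⟶ P⟦n⟧ := ι.preimage ((show ι.obj Q ⟶ (ι.obj P)⟦n⟧ from φ) ≫ c.inv)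
    let eP : F.obj (P⟦n⟧) ≅ P⟦n⟧ := (F.commShiftIso n).app P ≪≫ ((shiftFunctor _ n).mapIso hP).symm
    let ψ : O ⟶ P⟦n⟧ := hO.hom ≫ adj.homEquiv (F.obj O) (P⟦n⟧) g ≫ eP.hom
    have hψ : ψ = 0 := ι.map_injective ((cancel_mono c.hom).1
      ((h0 (ι.map ψ ≫ c.hom)).trans (by rw [Functor.map_zero, Limits.zero_comp])))
    have hg : g = 0 := by
      apply (adj.homEquiv (F.obj O) (P⟦n⟧)).injective
      rw [adj.homEquiv_unit (f := (0 : Q ⟶ P⟦n⟧)), Functor.map_zero, Limits.comp_zero]
      exact (cancel_epi hO.hom).1 ((cancel_mono eP.hom).1 (by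
        simpa [ψ, Category.assoc] using hψ))
    have h1 : ι.map g = 0 := by rw [hg, Functor.map_zero]
    rw [show ι.map g = (show ι.obj Q ⟶ (ι.obj P)⟦n⟧ from φ) ≫ c.inv from ι.map_preimage _] at h1
    exact (cancel_mono c.inv).1 (h1.trans Limits.zero_comp.symm)
  obtain ⟨hcoh, a, b, hQa, hQb⟩ := DCohLib.isCohD_bounded_of_isPerfect Q.obj Q.property
  -- the support of `Q` is the point
  have hsupp : ∀ q : ℤ, CohB1.support (DCoh.HD Q.obj q) ⊆ {x} := fun q => by
    haveI := (hcoh q).1
    refine subset_singleton_of_closedPoints x hx _ (PullbackMod.isClosed_support_of_isFT (hcoh q).2) fun y hy hyx => ?_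
    obtain ⟨U, hyU, hU⟩ := (S6720.result k X hreg y hy Q.obj Q.property).2 fun i φ =>
      hQhom y hy i (fun ψ => KosDual.hom_sky_sky_eq_zero x y hx hy (Ne.symm hyx) i ψ) φ
    exact hU q y hyU
  -- `Q` is a sheaf
  haveI hLE : Q.obj.IsLE 0 := by
    refine (DerivedCategory.isLE_iff _ _).2 fun i hi => DCohLib.isZero_of_stalks fun y => not_not.1 fun hy => ?_
    obtain rfl : y = x := hsupp i hy
    exact (S6719.result X y hx Q.obj hcoh a b 0).2 (fun j hj φ =>
      hQhom y hx (-j) (fun ψ => hom_neg_eq_zero _ _ (-j) (by omega) ψ) φ) i hi hy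
  haveI : (DCoh.inD X (SkyHomLib.skyO X x)).IsLE 0 :=
    inferInstanceAs (((DerivedCategory.singleFunctor X.Modules 0).obj _).IsLE 0)
  haveI hGE : Q.obj.IsGE 0 := KosDual.isGE_zero_of_hom_from_sky hreg x hx d hd Q.obj Q.property hsupp
    fun m hm φ => hQhom x hx m (fun ψ => KosDual.hom_from_sky_eq_zero hreg x hx d hd _
      (fun q => ((DCohLib.isCohD_bounded_of_isPerfect _ O.property).1 q).1) m hm ψ) φ
  obtain ⟨W, ⟨eW⟩⟩ := DerivedCategory.exists_iso_singleFunctor_obj_of_isGE_of_isLE Q.obj 0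
  let eH : DCoh.HD Q.obj 0 ≅ W := (DerivedCategory.homologyFunctor X.Modules 0).mapIso eW ≪≫
    (DerivedCategory.singleFunctorCompHomologyFunctorIso X.Modules 0).app W
  have hWc : Coh.IsCoh W := DCohLib.isCoh_iso eH (hcoh 0)
  have hWs : CohB1.support W ⊆ {x} := SkyHomLib.support_congr eH ▸ hsupp 0
  have hε0 : ε ≠ 0 := fun h0 => by
    have h1 : 𝟙 (F.obj O) = 0 := by
      rw [← adj.right_triangle_components O, show adj.counit.app O = 0 from h0, Functor.map_zero, Limits.comp_zero]
    have h2 : Limits.IsZero (DCoh.inD X (SkyHomLib.skyO X x)) := ι.map_isZero (((Limits.IsZero.iff_id_eq_zero _).2 h1).of_iso hO)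
    have h3 : Limits.IsZero (SkyHomLib.skyO X x) := (Limits.IsZero.iff_id_eq_zero _).2 ((DerivedCategory.singleFunctor X.Modules 0).map_injective (h2.eq_of_src _ _))
    obtain ⟨y, hy⟩ := hOn
    exact hy (DCohLib.subsingleton_stalk_of_isZero h3 y)
  -- the counit is an epimorphism of sheaves
  obtain ⟨e, he⟩ := (DerivedCategory.singleFunctor X.Modules 0).map_surjective (eW.inv ≫ ι.map ε)
  have he0 : e ≠ 0 := fun h0 => hε0 (ι.map_injective (by
    rw [Functor.map_zero, ← cancel_epi eW.inv, Limits.comp_zero, ← he, h0, Functor.map_zero]))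
  haveI : Epi e := KosDual.epi_to_sky x hx W hWc e he0
  have hεinj : ∀ {Z : X.Modules} {P : (SGA6.perfP X).FullSubcategory} (_ : ι.obj P ≅ DCoh.inD X Z)
      (s t : O ⟶ P), ε ≫ s = ε ≫ t → s = t := by
    intro Z P eZ s t hst
    obtain ⟨s₁, hs₁⟩ := (DerivedCategory.singleFunctor X.Modules 0).map_surjective
      (show DCoh.inD X (SkyHomLib.skyO X x) ⟶ DCoh.inD X Z from ι.map s ≫ eZ.hom)
    obtain ⟨t₁, ht₁⟩ := (DerivedCategory.singleFunctor X.Modules 0).map_surjective
      (show DCoh.inD X (SkyHomLib.skyO X x) ⟶ DCoh.inD X Z from ι.map t ≫ eZ.hom)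
    apply ι.map_injective
    rw [← cancel_mono eZ.hom]
    have : e ≫ s₁ = e ≫ t₁ := (DerivedCategory.singleFunctor X.Modules 0).map_injective (by
      rw [Functor.map_comp, Functor.map_comp, he, hs₁, ht₁]
      exact (Category.assoc _ _ _).trans ((congrArg (eW.inv ≫ ·)
        ((Category.assoc _ _ _).symm.trans ((congrArg (· ≫ eZ.hom)
          ((ι.map_comp ε s).symm.trans ((congrArg ι.map hst).trans (ι.map_comp ε t)))).trans
            (Category.assoc _ _ _)))).trans (Category.assoc _ _ _).symm))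
    rw [cancel_epi] at this
    exact hs₁.symm.trans ((congrArg _ this).trans ht₁)
  -- `F` fixes `Q`
  have hWp : DCoh.IsPerfect (DCoh.inD X W) := DCohLib.isPerfect_iso eW Q.property
  let Mp : (SGA6.perfP X).FullSubcategory := ⟨DCoh.inD X W, hWp⟩
  let eM : Q ≅ Mp := ι.preimageIso eW
  obtain ⟨hM⟩ : Nonempty (Mp ≅ F.obj Mp) := h W hWc ((Set.finite_singleton x).subset hWs) (by
      by_contra hne
      have : Limits.IsZero W := DCohLib.isZero_of_stalks fun y => not_not.1 fun hy => hne ⟨y, hy⟩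
      exact hε0 (ι.map_injective ((((DerivedCategory.singleFunctor X.Modules 0).map_isZero this).of_iso eW).eq_of_src _ _)))
    (fun y hy => (Set.mem_singleton_iff.1 (hWs hy)) ▸ hx) hWp
  let hQ : Q ≅ F.obj Q := eM ≪≫ hM ≪≫ (F.mapIso eM).symm
  -- finite-dimensionality
  haveI : Module.Finite k (O ⟶ Q) := by
    obtain ⟨h1, -⟩ := S6742.result k X Q.obj (DCohLib.isCohD_bounded_of_isPerfect Q.obj Q.property) O.obj O.property
    haveI : Module.Finite k (ι.obj O ⟶ (shiftFunctor (DCoh.D X) (0 : ℤ)).obj Q.obj) := h1 0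
    exact Module.Finite.equiv (((LinearEquiv.ofBijective (ι.mapLinearMap k (X := O) (Y := Q)) ⟨ι.map_injective, ι.map_surjective⟩).trans
      (Linear.homCongr k (Iso.refl _) ((shiftFunctorZero (DCoh.D X) ℤ).app Q.obj).symm)).symm :
        (O.obj ⟶ Q.obj⟦(0 : ℤ)⟧) ≃ₗ[k] (O ⟶ Q))
  let T : (O ⟶ Q) →ₗ[k] (O ⟶ Q) := (Linear.homCongr k hO.symm hQ.symm).toLinearMap ∘ₗ F.mapLinearMap k
  have hcnat : ∀ {P : (SGA6.perfP X).FullSubcategory} (s : O ⟶ P),
      adj.homEquiv (F.obj O) P (ε ≫ s) = F.map s := fun s => by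
    simp [ε, Adjunction.homEquiv_unit]
  have hTinj : Function.Injective T := fun s t hst => by
    have h1 : F.map s = F.map t := (Linear.homCongr k hO.symm hQ.symm).injective hst
    rw [← hcnat s, ← hcnat t] at h1
    exact hεinj eW s t ((adj.homEquiv _ _).injective h1)
  obtain ⟨s, hs⟩ : ∃ s : O ⟶ Q, ε ≫ s = 𝟙 Q := by
    obtain ⟨s, hs⟩ := LinearMap.surjective_of_injective hTinj
      (Linear.homCongr k hO.symm hQ.symm (adj.homEquiv (F.obj O) Q (𝟙 Q)))
    refine ⟨s, (adj.homEquiv (F.obj O) Q).injective ?_⟩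
    rw [hcnat s]
    exact (Linear.homCongr k hO.symm hQ.symm).injective hs
  refine ⟨⟨s, hs, hεinj (P := O) (Iso.refl _) _ _ ?_⟩⟩
  rw [← Category.assoc, hs, Category.id_comp, Category.comp_id]

end Groth.Agent.S6750
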