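import Groth.Statements.S6751
import Groth.Agent.PerfFF.Main
import Groth.Agent.S6748
-- import your own Groth.Agent.* helpers here

set_option autoImplicit false
set_option backward.isDefEq.respectTransparency false
set_option maxHeartbeats 1600000
set_option backward.isDefEq.respectTransparency false
set_option maxHeartbeats 800000
set_option synthInstance.maxHeartbeats 200000
universe u
open CategoryTheory AlgebraicGeometry
attribute [local instance] HasDerivedCategory.standard
open DEquiv

namespace Groth.Agent.S6751

/-- Let X and Y be schemes proper over a field k with X regular (all local rings regular), and let F, G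
: D_perf(O_X) ⥤ D_perf(O_Y) be k-linear exact functors between the full subcategories of perfect
objects (the instance hypotheses record that these are triangulated subcategories). Assume that F(M)
≅ G(M) for every coherent O_X-module M whose support has dimension 0 (a nonempty finite set of
closed points; M viewed in degree 0, a perfect object since X is regular, the statement quantifying
over a proof of this), and suppose moreover that the functor F is both full and faithful. Under
these conditions, for each perfect object M on X the object G(M) is isomorphic to F applied to some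
perfect object, i.e. everything G hits lies in F's essential image. -/
theorem result
    (k : Type u) [Field k] (X Y : Scheme.{u}) [X.Over (Spec (.of k))] [Y.Over (Spec (.of k))]
    [IsProper (X ↘ Spec (.of k))] [IsProper (Y ↘ Spec (.of k))] (hreg : Models.IsRegularScheme X)
    [(SGA6.perfP X).IsTriangulated] [(SGA6.perfP Y).IsTriangulated]
    (F : (SGA6.perfP X).FullSubcategory ⥤ (SGA6.perfP Y).FullSubcategory) [F.Additive] [F.Linear k]
    [F.CommShift ℤ] [F.IsTriangulated]
    (G : (SGA6.perfP X).FullSubcategory ⥤ (SGA6.perfP Y).FullSubcategory) [G.Additive] [G.Linear k]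
    [G.CommShift ℤ] [G.IsTriangulated]
    (h1 : ∀ (M : X.Modules), Coh.IsCoh M → (CohB1.support M).Finite → (CohB1.support M).Nonempty →
        (∀ x ∈ CohB1.support M, IsClosed ({x} : Set X)) →
        ∀ (hM : DCoh.IsPerfect (DCoh.inD X M)),
          Nonempty (F.obj ⟨DCoh.inD X M, hM⟩ ≅ G.obj ⟨DCoh.inD X M, hM⟩))
    [F.Full] [F.Faithful] (M : (SGA6.perfP X).FullSubcategory) :
    F.essImage (G.obj M) := by
  haveI : CompactSpace X := QuasiCompact.compactSpace_of_compactSpace (X ↘ Spec (.of k))
  haveI := (S6748.result k X Y hreg F).1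
  haveI := (S6748.result k X Y hreg G).1
  let adj := Adjunction.ofIsLeftAdjoint F
  let adjG := Adjunction.ofIsLeftAdjoint G
  haveI : IsIso adj.unit := inferInstance
  let P := fun (x : X) (hx : IsClosed ({x} : Set X)) => PerfFF.skyP (k := k) hreg x hx
  let B := G.obj M
  let a := adj.counit.app B
  have hbij : ∀ A, Function.Bijective (fun φ : F.obj A ⟶ F.obj ((F.rightAdjoint).obj B) => φ ≫ a) :=
    PerfFF.bij_postcomp_counit adj B
  obtain ⟨C, g, δ, hT⟩ := Pretriangulated.distinguished_cocone_triangle a
  have hFC : ∀ (A : (SGA6.perfP X).FullSubcategory) (φ : F.obj A ⟶ C), φ = 0 := by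
    intro A φ
    have hh := PerfFF.hom_cone_zero _ hT (F.obj A) (fun n => ?_) 0
      (((shiftFunctorZero _ ℤ).app (F.obj A)).hom ≫ φ)
    · exact (cancel_epi ((shiftFunctorZero _ ℤ).app (F.obj A)).hom).1 (hh.trans Limits.comp_zero.symm)
    · let e := (F.commShiftIso n).app A
      have he : (fun φ : (F.obj A)⟦n⟧ ⟶ (Pretriangulated.Triangle.mk a g δ).obj₁ => φ ≫ a) =
          e.homFromEquiv ∘ (fun φ => φ ≫ a) ∘ e.homFromEquiv.symm := by
        funext φ
        simp [Iso.homFromEquiv]
      show Function.Bijective (fun φ : (F.obj A)⟦n⟧ ⟶ (Pretriangulated.Triangle.mk a g δ).obj₁ => φ ≫ a)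
      rw [he]
      exact e.homFromEquiv.bijective.comp ((hbij _).comp e.homFromEquiv.symm.bijective)
  have hzero : Limits.IsZero ((G.rightAdjoint).obj C) := by
    refine PerfFF.isZero_of_hom_from_sky (k := k) hreg _ fun x hx i φ => ?_
    obtain ⟨hfin, hne, hcl⟩ := PerfFF.support_sky x hx
    obtain ⟨e⟩ := h1 (SkyHomLib.skyO X x) (PerfFF.isCoh_sky (k := k) x hx) hfin hne hcl (P x hx).property
    let e' : F.obj ((P x hx)⟦i⟧) ≅ G.obj ((P x hx)⟦i⟧) :=
      (F.commShiftIso i).app _ ≪≫ (shiftFunctor _ i).mapIso e ≪≫ ((G.commShiftIso i).app _).symm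
    apply ((adjG.homEquiv _ _).symm.trans e'.homFromEquiv.symm).injective
    exact (hFC _ _).trans (hFC _ _).symm
  have hg : g = 0 := (adjG.homEquiv M C).injective (hzero.eq_of_tgt _ _)
  obtain ⟨s, hs⟩ := Pretriangulated.Triangle.coyoneda_exact₂ _ hT (𝟙 B) ((Category.id_comp g).trans hg)
  have hs' : a ≫ s = 𝟙 _ := (hbij _).1 (show (a ≫ s) ≫ a = 𝟙 _ ≫ a by
    rw [Category.assoc, Category.id_comp]; exact (congrArg (a ≫ ·) hs.symm).trans (Category.comp_id a))
  exact ⟨_, ⟨⟨a, s, hs', hs.symm⟩⟩⟩

end Groth.Agent.S6751
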