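import Groth.Statements.S6758
import Groth.Agent.ProjPerfLib.Transfer
import Groth.Agent.BCLib.SteinFlat
import Groth.Agent.S6742
-- import your own Groth.Agent.* helpers here

set_option autoImplicit false
set_option backward.isDefEq.respectTransparency false
set_option maxHeartbeats 800000
set_option synthInstance.maxHeartbeats 200000
universe u
open CategoryTheory AlgebraicGeometry
attribute [local instance] HasDerivedCategory.standard
open DEquiv

namespace Groth.Agent.S6758

/-- (1) ⇔ (4): let k be a field, n ≥ 0, P = P^n_k, and let K be an object of D(O_P) with quasi-coherent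
cohomology sheaves. Then K is bounded with coherent cohomology sheaves if and only if for each d =
0, …, n the k-vector spaces H^i(P, K ⊗^L O_P(d)) = Hom(O_P, (K ⊗^L O_P(d))⟦i⟧) are
finite-dimensional for all i ∈ ℤ and nonzero for only finitely many i. (The derived functors - ⊗^L
O_P(d) are assumed to exist, as instance binders. The published statement lists two further
equivalent conditions, which are not restated here: that for every perfect object E of D(O_P) the
spaces Hom(E, K⟦i⟧) be finite-dimensional for all i and nonzero for only finitely many i, a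
criterion which holds on every H-projective scheme over k, and the same condition on the spaces
H^i(P, E ⊗^L K) for every perfect E.) -/
theorem result
    (k : Type u) [Field k] (n : ℕ)
    (K : DCoh.D (CohB1.ProjSpaceOver n (Spec (.of k)))) (hK : DCoh.IsQCohD K)
    [∀ d : ℤ, DCoh.HasLTensorMod (Twist.twistOver n (Spec (.of k)) d)] :
    SGA6.cohbP (CohB1.ProjSpaceOver n (Spec (.of k))) K ↔
      ∀ d : ℕ, d ≤ n →
        (∀ i : ℤ, Module.Finite k (DCoh.inD (CohB1.ProjSpaceOver n (Spec (.of k))) (Coh.structureModule (CohB1.ProjSpaceOver n (Spec (.of k)))) ⟶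
            (shiftFunctor (DCoh.D (CohB1.ProjSpaceOver n (Spec (.of k)))) i).obj ((DCoh.LTensorMod (Twist.twistOver n (Spec (.of k)) (d : ℤ))).obj K))) ∧
        Set.Finite {i : ℤ | Nontrivial (DCoh.inD (CohB1.ProjSpaceOver n (Spec (.of k))) (Coh.structureModule (CohB1.ProjSpaceOver n (Spec (.of k)))) ⟶
            (shiftFunctor (DCoh.D (CohB1.ProjSpaceOver n (Spec (.of k)))) i).obj ((DCoh.LTensorMod (Twist.twistOver n (Spec (.of k)) (d : ℤ))).obj K))} := by
  let S := Spec (CommRingCat.of k)
  let P := CohB1.ProjSpaceOver n S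
  haveI := DCohMore.BC.hasRpush (KRR.pr n S)
  haveI : IsProper (P ↘ S) := DCohMore.TwistOver.isProper_pr n S
  constructor
  · intro hc d hd
    obtain ⟨e⟩ := DCohMore.TwistOver.nonempty_F_lTensorMod n S (d : ℤ) K
    have hp := DCohLib.isPerfect_iso e
      (ProjPerfLib.isPerfect_F n S (d : ℤ) K (ProjPerfLib.isPerfect_of_cohbP n k K hc))
    exact S6742.result k P _ (ProjPerfLib.cohbP_of_isPerfect n k _ hp) _
      (DCohLib.isPerfect_inD (BCLib.isFinLocFree_structureModule P))
  · intro h
    let K' := (DCohMore.TwistOver.F n S (n : ℤ)).obj K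
    have hK' : DCoh.IsQCohD K' := DCohMore.TwistOver.isQCohD_F n S _ K hK
    have hp : DCoh.IsPerfect K' := by
      refine ProjPerfLib.isPerfect_of_twists n k K' hK' fun j hj => ?_
      obtain ⟨e⟩ := DCohMore.TwistOver.nonempty_F_lTensorMod n S ((n - j : ℕ) : ℤ) K
      obtain ⟨c⟩ := DCohMore.TwistOver.nonempty_F_comp n S
        (show (n : ℤ) + -(j : ℤ) = ((n - j : ℕ) : ℤ) by push_cast [hj]; ring)
      obtain ⟨h1, h2⟩ := h (n - j) (Nat.sub_le _ _)
      let eq := fun i : ℤ => Linear.homCongr k (Iso.refl (DCoh.inD P (Coh.structureModule P)))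
        ((shiftFunctor (DCoh.D P) i).mapIso (c.app K ≪≫ e).symm)
      refine ⟨fun i => ?_, h2.subset fun i hi => ?_⟩
      · haveI := h1 i
        exact Module.Finite.equiv (eq i)
      · exact @Equiv.nontrivial _ _ (eq i).toEquiv hi
    obtain ⟨c⟩ := DCohMore.TwistOver.nonempty_F_comp n S (add_neg_cancel (n : ℤ))
    obtain ⟨z⟩ := DCohMore.TwistOver.nonempty_F_zero n S
    exact ProjPerfLib.cohbP_of_isPerfect n k K
      (DCohLib.isPerfect_iso ((c ≪≫ z).app K) (ProjPerfLib.isPerfect_F n S _ K' hp))

end Groth.Agent.S6758
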