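import Groth.Statements.S6762
import Groth.Agent.ProjAffLib.Basic

set_option autoImplicit false
universe u
open CategoryTheory AlgebraicGeometry
attribute [local instance] HasDerivedCategory.standard
open FunMor

namespace Groth.Agent.S6762

set_option backward.isDefEq.respectTransparency false
set_option linter.style.haveILetI false

/-- Let R be a ring, X and Y schemes over R with X affine, K a quasi-coherent O_{X ×_R Y}-module and F_K
the functor M ↦ pr_{2,*}(pr_1^* M ⊗ K). Let f : X' ⟶ X be an affine morphism, view X' over R through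
f, and let g : X' ×_R Y ⟶ X ×_R Y be the morphism f × id_Y (characterised by its two components).
Then F_K ∘ f_* is isomorphic, as a functor on quasi-coherent O_{X'}-modules, to the functor M' ↦
pr'_{2,*}(pr'^*_1 M' ⊗ g^* K) attached to the quasi-coherent module g^* K on X' ×_R Y. -/
theorem result
    (R : Type u) [CommRing R] (X Y : Scheme.{u}) [X.Over (Spec (.of R))] [Y.Over (Spec (.of R))] [IsAffine X]
    (K : (Limits.pullback (X ↘ Spec (.of R)) (Y ↘ Spec (.of R))).Modules) (hK : Coh.IsQCoh K)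
    {X' : Scheme.{u}} (f : X' ⟶ X) [IsAffineHom f]
    (g : (Limits.pullback (f ≫ (X ↘ Spec (.of R))) (Y ↘ Spec (.of R))) ⟶ (Limits.pullback (X ↘ Spec (.of R)) (Y ↘ Spec (.of R))))
    (hg₁ : g ≫ (Limits.pullback.fst (X ↘ Spec (.of R)) (Y ↘ Spec (.of R))) = (Limits.pullback.fst (f ≫ (X ↘ Spec (.of R))) (Y ↘ Spec (.of R))) ≫ f) (hg₂ : g ≫ (Limits.pullback.snd (X ↘ Spec (.of R)) (Y ↘ Spec (.of R))) = (Limits.pullback.snd (f ≫ (X ↘ Spec (.of R))) (Y ↘ Spec (.of R)))) :
    Nonempty (ObjectProperty.ι (QCohCat.isQCoh X') ⋙ Coh.push f ⋙ (Scheme.Modules.pullback (Limits.pullback.fst (X ↘ Spec (.of R)) (Y ↘ Spec (.of R))) ⋙ DCoh.tensorRightMod K ⋙ Coh.push (Limits.pullback.snd (X ↘ Spec (.of R)) (Y ↘ Spec (.of R)))) ≅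
      ObjectProperty.ι (QCohCat.isQCoh X') ⋙ (Scheme.Modules.pullback (Limits.pullback.fst (f ≫ (X ↘ Spec (.of R))) (Y ↘ Spec (.of R))) ⋙ DCoh.tensorRightMod ((Scheme.Modules.pullback g).obj K) ⋙ Coh.push (Limits.pullback.snd (f ≫ (X ↘ Spec (.of R))) (Y ↘ Spec (.of R))))) := by
  let sX := X ↘ Spec (.of R)
  let sY := Y ↘ Spec (.of R)
  let p := Limits.pullback.fst sX sY
  let q := Limits.pullback.snd sX sY
  let p' := Limits.pullback.fst (f ≫ sX) sY
  let q' := Limits.pullback.snd (f ≫ sX) sY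
  have sq : IsPullback p' g f p := by
    refine IsPullback.of_bot ?_ hg₁.symm (IsPullback.of_hasPullback sX sY)
    rw [hg₂]
    exact IsPullback.of_hasPullback (f ≫ sX) sY
  haveI : IsAffineHom g := MorphismProperty.of_isPullback sq inferInstance
  let ι := ObjectProperty.ι (QCohCat.isQCoh X')
  haveI : ∀ M, Coh.IsQCoh (ι.obj M) := fun M => M.property
  haveI : ∀ M, IsIso ((Functor.whiskerLeft ι (DCohMore.bc0Nat f p g p' sq.w)).app M) := fun M =>
    DCohMore.isIso_bc0_affine f g p' sq (ι.obj M)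
  haveI := NatIso.isIso_of_isIso_app (Functor.whiskerLeft ι (DCohMore.bc0Nat f p g p' sq.w))
  let e₁ : ι ⋙ Scheme.Modules.pushforward f ⋙ Scheme.Modules.pullback p ≅
      ι ⋙ Scheme.Modules.pullback p' ⋙ Scheme.Modules.pushforward g :=
    asIso (Functor.whiskerLeft ι (DCohMore.bc0Nat f p g p' sq.w))
  let Φ := ι ⋙ Scheme.Modules.pullback p'
  haveI : ∀ M, Coh.IsQCoh (Φ.obj M) := fun M => PullbackMod.isQCoh_pullback p' (ι.obj M)
  haveI := hK
  let e₂ : Φ ⋙ Scheme.Modules.pushforward g ⋙ DCoh.tensorRightMod K ≅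
      Φ ⋙ DCoh.tensorRightMod ((Scheme.Modules.pullback g).obj K) ⋙ Scheme.Modules.pushforward g :=
    NatIso.ofComponents
      (fun M => @asIso _ _ _ _ (DCohLib.projMap g (Φ.obj M) K) (ProjAffLib.isIso_projMap g (Φ.obj M) K))
      fun φ => DCohLib.projMap_natural_left g (Φ.map φ) K
  let e₃ : Scheme.Modules.pushforward g ⋙ Scheme.Modules.pushforward q ≅ Scheme.Modules.pushforward q' :=
    Scheme.Modules.pushforwardComp g q ≪≫ Scheme.Modules.pushforwardCongr hg₂
  exact ⟨Functor.isoWhiskerRight e₁ (DCoh.tensorRightMod K ⋙ Scheme.Modules.pushforward q) ≪≫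
    Functor.isoWhiskerRight e₂ (Scheme.Modules.pushforward q) ≪≫
    Functor.isoWhiskerLeft (Φ ⋙ DCoh.tensorRightMod ((Scheme.Modules.pullback g).obj K)) e₃⟩

end Groth.Agent.S6762
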