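import Groth.Statements.S6763
import Groth.Agent.DCohMore.GoodMod
import Groth.Agent.DCohMore.BCTheta
import Groth.Agent.BCLib.TensorQCoh
-- import your own Groth.Agent.* helpers here

set_option autoImplicit false
universe u
open CategoryTheory AlgebraicGeometry
attribute [local instance] HasDerivedCategory.standard
open FunMor

namespace Groth.Agent.S6763

set_option backward.isDefEq.respectTransparency false
set_option linter.style.haveILetI false

/-- Let R be a ring, X and Y schemes over R with X affine, K a quasi-coherent O_{X ×_R Y}-module and F_K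
the functor M ↦ pr_{2,*}(pr_1^* M ⊗ K). Let g : Y' ⟶ Y be a flat morphism, view Y' over R through g,
and let h : X ×_R Y' ⟶ X ×_R Y be the morphism id_X × g (characterised by its two components). Then
g^* ∘ F_K is isomorphic, as a functor on quasi-coherent O_X-modules, to the functor M ↦
pr'_{2,*}(pr'^*_1 M ⊗ h^* K) attached to the quasi-coherent module h^* K on X ×_R Y'. (The case of
an open immersion g is a special case.) -/
theorem result
    (R : Type u) [CommRing R] (X Y : Scheme.{u}) [X.Over (Spec (.of R))] [Y.Over (Spec (.of R))] [IsAffine X]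
    (K : (Limits.pullback (X ↘ Spec (.of R)) (Y ↘ Spec (.of R))).Modules) (hK : Coh.IsQCoh K)
    {Y' : Scheme.{u}} (g : Y' ⟶ Y) [Flat g]
    (h : (Limits.pullback (X ↘ Spec (.of R)) (g ≫ (Y ↘ Spec (.of R)))) ⟶ (Limits.pullback (X ↘ Spec (.of R)) (Y ↘ Spec (.of R))))
    (hh₁ : h ≫ (Limits.pullback.fst (X ↘ Spec (.of R)) (Y ↘ Spec (.of R))) = (Limits.pullback.fst (X ↘ Spec (.of R)) (g ≫ (Y ↘ Spec (.of R))))) (hh₂ : h ≫ (Limits.pullback.snd (X ↘ Spec (.of R)) (Y ↘ Spec (.of R))) = (Limits.pullback.snd (X ↘ Spec (.of R)) (g ≫ (Y ↘ Spec (.of R)))) ≫ g) :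
    Nonempty ((ObjectProperty.ι (QCohCat.isQCoh X) ⋙ Scheme.Modules.pullback (Limits.pullback.fst (X ↘ Spec (.of R)) (Y ↘ Spec (.of R))) ⋙ DCoh.tensorRightMod K ⋙ Coh.push (Limits.pullback.snd (X ↘ Spec (.of R)) (Y ↘ Spec (.of R)))) ⋙ Scheme.Modules.pullback g ≅
      ObjectProperty.ι (QCohCat.isQCoh X) ⋙ (Scheme.Modules.pullback (Limits.pullback.fst (X ↘ Spec (.of R)) (g ≫ (Y ↘ Spec (.of R)))) ⋙ DCoh.tensorRightMod ((Scheme.Modules.pullback h).obj K) ⋙ Coh.push (Limits.pullback.snd (X ↘ Spec (.of R)) (g ≫ (Y ↘ Spec (.of R)))))) := by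
  let sX := X ↘ Spec (.of R)
  let sY := Y ↘ Spec (.of R)
  let p := Limits.pullback.fst sX sY
  let q := Limits.pullback.snd sX sY
  let p' := Limits.pullback.fst sX (g ≫ sY)
  let q' := Limits.pullback.snd sX (g ≫ sY)
  haveI : IsAffineHom sX := isAffineHom_of_isAffine _
  haveI : IsAffineHom q := MorphismProperty.pullback_snd _ _ inferInstance
  haveI : IsAffineHom q' := MorphismProperty.pullback_snd _ _ inferInstance
  have sq : IsPullback h q' q g := by
    refine IsPullback.of_right ?_ hh₂ (IsPullback.of_hasPullback sX sY)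
    rw [hh₁]
    exact IsPullback.of_hasPullback sX (g ≫ sY)
  let Φ := ObjectProperty.ι (QCohCat.isQCoh X) ⋙ Scheme.Modules.pullback p ⋙ DCoh.tensorRightMod K
  haveI hΦ : ∀ M, Coh.IsQCoh (Φ.obj M) := fun M => by
    haveI : Coh.IsQCoh M.obj := M.property
    haveI := PullbackMod.isQCoh_pullback p M.obj
    haveI := hK
    exact BCLib.isQCoh_tensorMod ((Scheme.Modules.pullback p).obj M.obj) K
  haveI : ∀ M, IsIso ((Functor.whiskerLeft Φ (DCohMore.bc0Nat q g q' h sq.w)).app M) := fun M =>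
    DCohMore.isIso_bc0_affine q q' h sq (Φ.obj M)
  haveI := NatIso.isIso_of_isIso_app (Functor.whiskerLeft Φ (DCohMore.bc0Nat q g q' h sq.w))
  let e₁ : Φ ⋙ Scheme.Modules.pushforward q ⋙ Scheme.Modules.pullback g ≅
      Φ ⋙ Scheme.Modules.pullback h ⋙ Scheme.Modules.pushforward q' :=
    asIso (Functor.whiskerLeft Φ (DCohMore.bc0Nat q g q' h sq.w))
  let e₂ : Scheme.Modules.pullback p ⋙ DCoh.tensorRightMod K ⋙ Scheme.Modules.pullback h ≅
      Scheme.Modules.pullback p' ⋙ DCoh.tensorRightMod ((Scheme.Modules.pullback h).obj K) :=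
    Functor.isoWhiskerLeft _ (DCohMore.BC.tensorPullIso h K) ≪≫ (Functor.associator _ _ _).symm ≪≫
      Functor.isoWhiskerRight (Scheme.Modules.pullbackComp h p ≪≫ Scheme.Modules.pullbackCongr hh₁) _
  exact ⟨e₁ ≪≫ Functor.isoWhiskerLeft (ObjectProperty.ι (QCohCat.isQCoh X))
    (Functor.isoWhiskerRight e₂ (Scheme.Modules.pushforward q'))⟩

end Groth.Agent.S6763
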