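import Groth.Statements.S6769
import Groth.Agent.SmallAlg.EilenbergWatts
-- import your own Groth.Agent.* helpers here

set_option autoImplicit false
set_option backward.isDefEq.respectTransparency false
universe u
open CategoryTheory CategoryTheory.Limits TensorProduct
open scoped ModuleCat.Algebra
open FunMor

namespace Groth.Agent.S6769

/-- Let R be a commutative ring and A, B commutative R-algebras; Mod_A and Mod_B are R-linear
categories. Suppose F, F' : Mod_A ⥤ Mod_B are R-linear functors, each of which preserves finite
colimits (so is right exact) and also preserves direct sums indexed by any set. Then: (i) there is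
an A ⊗_R B-module K — a module over A and over B with commuting actions on which the two R-actions
agree — and B-linear isomorphisms K ⊗_A M ≅ F(M) natural in the A-module M; (ii) a natural
transformation F ⟶ F' is determined by its component at A, and a B-linear map φ : F(A) ⟶ F'(A) is
the component at A of some natural transformation F ⟶ F' if and only if it commutes with the
A-actions, i.e. F(a · id_A) ≫ φ = φ ≫ F'(a · id_A) for all a ∈ A. (Together: K ↦ (- ⊗_A K) is an
equivalence from Mod_{A ⊗_R B} onto the category of such functors.) -/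
theorem result
    (R : Type u) [CommRing R] (A B : Type u) [CommRing A] [CommRing B] [Algebra R A] [Algebra R B]
    (F F' : ModuleCat.{u} A ⥤ ModuleCat.{u} B) [F.Additive] [F.Linear R] [F'.Additive] [F'.Linear R]
    [PreservesFiniteColimits F] [∀ J : Type u, PreservesColimitsOfShape (Discrete J) F]
    [PreservesFiniteColimits F'] [∀ J : Type u, PreservesColimitsOfShape (Discrete J) F'] :
    (∃ (K : Type u) (_ : AddCommGroup K) (_ : Module A K) (_ : Module B K) (_ : SMulCommClass A B K),
      (∀ (r : R) (x : K), algebraMap R A r • x = algebraMap R B r • x) ∧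
      ∃ η : ∀ M : ModuleCat.{u} A, (K ⊗[A] M) ≃ₗ[B] F.obj M,
        ∀ (M N : ModuleCat.{u} A) (f : M ⟶ N) (x : K ⊗[A] M),
          η N (LinearMap.lTensor K f.hom x) = F.map f (η M x)) ∧
    (∀ t t' : F ⟶ F', t.app (ModuleCat.of A A) = t'.app (ModuleCat.of A A) → t = t') ∧
    (∀ φ : F.obj (ModuleCat.of A A) ⟶ F'.obj (ModuleCat.of A A),
      (∃ t : F ⟶ F', t.app (ModuleCat.of A A) = φ) ↔
        ∀ a : A, F.map (a • 𝟙 (ModuleCat.of A A)) ≫ φ = φ ≫ F'.map (a • 𝟙 (ModuleCat.of A A))) := by
  open Groth.Agent.SmallAlg in
  have hb : ∀ (G : ModuleCat.{u} A ⥤ ModuleCat.{u} B) [G.Additive] [PreservesFiniteColimits G]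
      [∀ J : Type u, PreservesColimitsOfShape (Discrete J) G] (M : ModuleCat.{u} A), Function.Bijective (cmp A B G M) :=
    fun G _ _ h M => cmp_bijective A B G h M
  open Groth.Agent.SmallAlg in
  have hscal : ∀ a : A, scal A a = a • 𝟙 (ModuleCat.of A A) := fun a => rfl
  open Groth.Agent.SmallAlg in
  have happ : ∀ (t : F ⟶ F') (M : ModuleCat.{u} A) (x : F.obj (ModuleCat.of A A)) (m : M),
      t.app M (cmp A B F M (x ⊗ₜ[A] m)) = cmp A B F' M (t.app (ModuleCat.of A A) x ⊗ₜ[A] m) := fun t M x m => by
    rw [cmp_tmul, cmp_tmul]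
    exact ConcreteCategory.congr_hom (t.naturality (sel A M m)) x
  open Groth.Agent.SmallAlg in
  refine ⟨⟨F.obj (ModuleCat.of A A), inferInstance, inferInstance, inferInstance, inferInstance, fun r x => ?_,
    fun M => LinearEquiv.ofBijective (cmp A B F M) (hb F M), fun M N f x => cmp_natural A B F f x⟩,
    fun t t' h => NatTrans.ext (funext fun M => ModuleCat.hom_ext (LinearMap.ext fun y => ?_)), fun φ => ⟨?_, fun hφ => ?_⟩⟩
  · show F.map (scal A (algebraMap R A r)) x = algebraMap R B r • x
    have h := F.map_smul r (𝟙 (ModuleCat.of A A))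
    rw [F.map_id] at h
    refine Eq.trans (congrArg (fun q => F.map q x) ?_) ((ConcreteCategory.congr_hom h x).trans rfl)
    ext
    simp [scal, Algebra.smul_def]
    exact (mul_one _).symm
  · obtain ⟨z, rfl⟩ := (hb F M).2 y
    induction z using TensorProduct.induction_on with
    | zero => simp
    | tmul x m => exact (happ t M x m).trans ((congrArg (fun q : F.obj (ModuleCat.of A A) ⟶ F'.obj (ModuleCat.of A A) =>
        cmp A B F' M (q x ⊗ₜ[A] m)) h).trans (happ t' M x m).symm)
    | add z z' hz hz' => simp only [map_add, hz, hz']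
  · rintro ⟨t, rfl⟩ a
    exact t.naturality _
  · let φA : F.obj (ModuleCat.of A A) →ₗ[A] F'.obj (ModuleCat.of A A) :=
      { toFun := φ.hom
        map_add' := φ.hom.map_add
        map_smul' := fun a x => ConcreteCategory.congr_hom ((hscal a).symm ▸ hφ a :
          F.map (scal A a) ≫ φ = φ ≫ F'.map (scal A a)) x }
    let Φ : ∀ M : ModuleCat.{u} A, F.obj (ModuleCat.of A A) ⊗[A] M →ₗ[B] F'.obj (ModuleCat.of A A) ⊗[A] M := fun M =>
      { LinearMap.rTensor M φA with
        map_smul' := fun b z => by
          show LinearMap.rTensor M φA (b • z) = b • LinearMap.rTensor M φA z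
          induction z using TensorProduct.induction_on with
          | zero => simp
          | tmul x m => exact congrArg (fun w => w ⊗ₜ[A] m) (φ.hom.map_smul b x)
          | add z z' hz hz' => simp only [smul_add, map_add, hz, hz'] }
    let e := fun M => LinearEquiv.ofBijective (cmp A B F M) (hb F M)
    let t : F ⟶ F' :=
      { app := fun M => ModuleCat.ofHom ((cmp A B F' M ∘ₗ Φ M) ∘ₗ (e M).symm.toLinearMap)
        naturality := fun M N f => ModuleCat.hom_ext (LinearMap.ext fun y => by
          obtain ⟨z, rfl⟩ := (e M).surjective y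
          show cmp A B F' N (Φ N ((e N).symm (F.map f (cmp A B F M z)))) =
            F'.map f (cmp A B F' M (Φ M ((e M).symm (e M z))))
          rw [LinearEquiv.symm_apply_apply, ← cmp_natural, show (e N).symm (cmp A B F N (LinearMap.lTensor _ f.hom z)) =
            LinearMap.lTensor _ f.hom z from (e N).symm_apply_apply _, ← cmp_natural]
          refine congrArg (cmp A B F' N) ?_
          induction z using TensorProduct.induction_on with
          | zero => simp
          | tmul x m => rfl
          | add z z' hz hz' => simp only [map_add, hz, hz']) }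
    refine ⟨t, ModuleCat.hom_ext (LinearMap.ext fun y => ?_)⟩
    have hsel : sel A (ModuleCat.of A A) 1 = 𝟙 _ := ModuleCat.hom_ext (LinearMap.ext fun a => mul_one a)
    have hy : cmp A B F (ModuleCat.of A A) (y ⊗ₜ[A] (1 : A)) = y := by rw [cmp_tmul, hsel, F.map_id]; rfl
    show cmp A B F' _ (Φ _ ((e _).symm y)) = φ y
    rw [show (e (ModuleCat.of A A)).symm y = y ⊗ₜ[A] (1 : A) from (e _).symm_apply_eq.2 hy.symm]
    show cmp A B F' (ModuleCat.of A A) (φ y ⊗ₜ[A] (1 : A)) = φ y
    rw [cmp_tmul, hsel, F'.map_id]
    rfl

end Groth.Agent.S6769
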