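import Groth.Statements.S6771
import Groth.Agent.FMExactLib.Sums
import Groth.Agent.QCohGen.Main
import Groth.Agent.SpSeqLib.Acyclic
import Groth.Agent.TwistShriek.PushColim
import Groth.Agent.BCLib.TensorFun
import Groth.Agent.BCLib.TensorQCoh

set_option autoImplicit false
set_option backward.isDefEq.respectTransparency false
set_option linter.style.haveILetI false
universe u
open CategoryTheory AlgebraicGeometry
attribute [local instance] HasDerivedCategory.standard
open FunMor

namespace Groth.Agent.S6771

/-- The direction from kernels to functors: let R be a ring and X, Y schemes over R with X quasi-compact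
with affine diagonal, and let K be a quasi-coherent O_{X ×_R Y}-module which is flat over X and such
that R^q pr_{2,*}(pr_1^* M ⊗ K) = 0 for every quasi-coherent O_X-module M and every q > 0 (right
derived functors of pr_{2,*}; injective resolutions carried as a binder). Then the functor F_K : M ↦
pr_{2,*}(pr_1^* M ⊗ K), from quasi-coherent O_X-modules to O_Y-modules, is exact (preserves finite
limits and finite colimits) and commutes with arbitrary direct sums. -/
theorem result
    (R : Type u) [CommRing R] (X Y : Scheme.{u}) [X.Over (Spec (.of R))] [Y.Over (Spec (.of R))] [CompactSpace X] [IsAffineHom (Limits.pullback.diagonal (X ↘ Spec (.of R)))]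
    [HasInjectiveResolutions (Limits.pullback (X ↘ Spec (.of R)) (Y ↘ Spec (.of R))).Modules]
    (K : (Limits.pullback (X ↘ Spec (.of R)) (Y ↘ Spec (.of R))).Modules) (hK : Coh.IsQCoh K) (hKf : FlatMod.IsFlatOver (Limits.pullback.fst (X ↘ Spec (.of R)) (Y ↘ Spec (.of R))) K)
    (hKa : ∀ (M : X.Modules), Coh.IsQCoh M → ∀ q : ℕ, 0 < q →
      Limits.IsZero ((Coh.Rpush (Limits.pullback.snd (X ↘ Spec (.of R)) (Y ↘ Spec (.of R))) q).obj ((DCoh.tensorRightMod K).obj ((Scheme.Modules.pullback (Limits.pullback.fst (X ↘ Spec (.of R)) (Y ↘ Spec (.of R)))).obj M)))) :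
    Limits.PreservesFiniteLimits (ObjectProperty.ι (QCohCat.isQCoh X) ⋙ Scheme.Modules.pullback (Limits.pullback.fst (X ↘ Spec (.of R)) (Y ↘ Spec (.of R))) ⋙ DCoh.tensorRightMod K ⋙ Coh.push (Limits.pullback.snd (X ↘ Spec (.of R)) (Y ↘ Spec (.of R)))) ∧ Limits.PreservesFiniteColimits (ObjectProperty.ι (QCohCat.isQCoh X) ⋙ Scheme.Modules.pullback (Limits.pullback.fst (X ↘ Spec (.of R)) (Y ↘ Spec (.of R))) ⋙ DCoh.tensorRightMod K ⋙ Coh.push (Limits.pullback.snd (X ↘ Spec (.of R)) (Y ↘ Spec (.of R)))) ∧
      ∀ J : Type u, Limits.PreservesColimitsOfShape (Discrete J) (ObjectProperty.ι (QCohCat.isQCoh X) ⋙ Scheme.Modules.pullback (Limits.pullback.fst (X ↘ Spec (.of R)) (Y ↘ Spec (.of R))) ⋙ DCoh.tensorRightMod K ⋙ Coh.push (Limits.pullback.snd (X ↘ Spec (.of R)) (Y ↘ Spec (.of R)))) := by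
  set p := Limits.pullback.fst (X ↘ Spec (.of R)) (Y ↘ Spec (.of R))
  set q := Limits.pullback.snd (X ↘ Spec (.of R)) (Y ↘ Spec (.of R))
  let G := ObjectProperty.ι (QCohCat.isQCoh X) ⋙ Scheme.Modules.pullback p ⋙ DCoh.tensorRightMod K
  haveI : QuasiCompact (X ↘ Spec (.of R)) := inferInstance
  haveI : QuasiSeparated (X ↘ Spec (.of R)) := ⟨inferInstance⟩
  haveI : QuasiCompact q := MorphismProperty.pullback_snd _ _ inferInstance
  haveI : QuasiSeparated q := MorphismProperty.pullback_snd _ _ inferInstance
  haveI : Limits.PreservesColimitsOfSize.{u, u} (Scheme.Modules.pullback p) :=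
    (Scheme.Modules.pullbackPushforwardAdjunction p).leftAdjoint_preservesColimits
  haveI : Limits.PreservesColimitsOfSize.{u, u} G := inferInstance
  haveI : Limits.PreservesFiniteColimits G :=
    Limits.PreservesColimitsOfSize.preservesFiniteColimits _
  haveI : G.Additive := inferInstance
  haveI : Limits.PreservesFiniteColimits (ObjectProperty.ι (QCohCat.isQCoh X)) :=
    Limits.PreservesColimitsOfSize.preservesFiniteColimits _
  let P := Scheme.Modules.pushforward q
  haveI : EnoughInjectives (Limits.pullback (X ↘ Spec (.of R)) (Y ↘ Spec (.of R))).Modules := inferInstance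
  let F := G ⋙ P
  have hSE : ∀ S : ShortComplex (QCohCat.QCoh X), S.ShortExact → (S.map F).ShortExact := by
    intro S hS
    haveI := hS.mono_f
    haveI hι : Mono ((ObjectProperty.ι (QCohCat.isQCoh X)).map S.f) := inferInstance
    have hGf : Mono (G.map S.f) := by
      haveI : Coh.IsQCoh S.X₁.obj := S.X₁.property
      haveI : Coh.IsQCoh S.X₂.obj := S.X₂.property
      exact (Groth.Agent.PullbackMod.mono_iff_stalk _).2 fun z =>
        Groth.Agent.BCLib.injective_stalk_tensor_pullback p S.f.hom K z (hKf z)
          ((Groth.Agent.PullbackMod.mono_iff_stalk _).1 hι _)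
    have eG := (Functor.preservesFiniteColimits_tfae G).out 3 0
    obtain ⟨hGe, hGepi⟩ := eG.1 ‹Limits.PreservesFiniteColimits G› S hS
    have hG : (S.map G).ShortExact := { exact := hGe, mono_f := hGf, epi_g := hGepi }
    haveI : Limits.PreservesFiniteLimits P := inferInstance
    have eP := (Functor.preservesFiniteLimits_tfae P).out 3 0
    obtain ⟨hPe, hPm⟩ := eP.1 ‹Limits.PreservesFiniteLimits P› _ hG
    haveI : Epi (P.map (S.map G).g) :=
      Groth.Agent.SpSeqLib.epi_map_of_isZero_rightDerived_one P hG (hKa S.X₁.obj S.X₁.property 1 one_pos)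
    exact { exact := hPe, mono_f := hPm, epi_g := this }
  haveI : F.Additive := inferInstance
  have eF := (Functor.exact_tfae F).out 0 3
  obtain ⟨hl, hr⟩ := eF.1 hSE
  refine ⟨hl, hr, fun J => ?_⟩
  haveI := hr
  refine Groth.Agent.FMExactLib.preservesCoproducts_of_filtered F (fun Λ _ _ => ?_) J
  haveI := Groth.Agent.TwistShriek.preservesColimitsOfShape_pushforward (Λ := Λ) q
  exact inferInstanceAs (Limits.PreservesColimitsOfShape Λ (G ⋙ P))

end Groth.Agent.S6771
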