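import Groth.Statements.S6772
import Groth.Agent.DirImgLib.Colimit
import Groth.Agent.QCohGen.Main
import Groth.Agent.BCLib.TensorFun
import Groth.Agent.BCLib.TensorQCoh

set_option autoImplicit false
set_option backward.isDefEq.respectTransparency false
set_option maxHeartbeats 1000000
universe u
open CategoryTheory AlgebraicGeometry
attribute [local instance] HasDerivedCategory.standard
open FunMor

namespace Groth.Agent.S6772

open Groth.Agent CategoryTheory.Limits in
/-- Direct images along affine morphisms preserve colimits of diagrams of quasi-coherent modules. -/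
theorem preservesColimit_push {X S : Scheme.{u}} {J : Type u} [SmallCategory J] (D : J ⥤ X.Modules)
    (f : X ⟶ S) [IsAffineHom f] (hD : ∀ j, Coh.IsQCoh (D.obj j)) : PreservesColimit D (Coh.push f) := by
  haveI := DirImgLib.preservesColimit_dirAb D f hD
  let T : S.Modules ⥤ CohBase.AbSh S := SheafOfModules.toSheaf S.ringCatSheaf
  let e : DirImgLib.dirAb f ≅ Coh.push f ⋙ T := NatIso.ofComponents (fun M => Iso.refl _) fun _ => rfl
  haveI : PreservesColimit D (Coh.push f ⋙ T) := preservesColimit_of_natIso D e
  haveI : T.ReflectsIsomorphisms :=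
    inferInstanceAs (SheafOfModules.toSheaf S.ringCatSheaf).ReflectsIsomorphisms
  haveI : PreservesColimitsOfSize.{u, u} T :=
    inferInstanceAs (PreservesColimitsOfSize.{u, u} (SheafOfModules.toSheaf.{u} S.ringCatSheaf))
  haveI : ReflectsColimit (D ⋙ Coh.push f) T := reflectsColimit_of_reflectsIsomorphisms _ _
  exact preservesColimit_of_reflects_of_preserves (Coh.push f) T

/-- The direction from kernels to functors: let R be a ring and X, Y schemes over R with X affine, and
let K be a quasi-coherent O_{X ×_R Y}-module. Then the functor F_K : M ↦ pr_{2,*}(pr_1^* M ⊗ K),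
from quasi-coherent O_X-modules to O_Y-modules, is right exact (preserves finite colimits) and
commutes with arbitrary direct sums. (pr_2 is affine, so pr_{2,*} is exact on quasi-coherent
modules.) -/
theorem result
    (R : Type u) [CommRing R] (X Y : Scheme.{u}) [X.Over (Spec (.of R))] [Y.Over (Spec (.of R))] [IsAffine X]
    (K : (Limits.pullback (X ↘ Spec (.of R)) (Y ↘ Spec (.of R))).Modules) (hK : Coh.IsQCoh K) :
    Limits.PreservesFiniteColimits (ObjectProperty.ι (QCohCat.isQCoh X) ⋙ Scheme.Modules.pullback (Limits.pullback.fst (X ↘ Spec (.of R)) (Y ↘ Spec (.of R))) ⋙ DCoh.tensorRightMod K ⋙ Coh.push (Limits.pullback.snd (X ↘ Spec (.of R)) (Y ↘ Spec (.of R)))) ∧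
      ∀ J : Type u, Limits.PreservesColimitsOfShape (Discrete J) (ObjectProperty.ι (QCohCat.isQCoh X) ⋙ Scheme.Modules.pullback (Limits.pullback.fst (X ↘ Spec (.of R)) (Y ↘ Spec (.of R))) ⋙ DCoh.tensorRightMod K ⋙ Coh.push (Limits.pullback.snd (X ↘ Spec (.of R)) (Y ↘ Spec (.of R)))) := by
  set p := Limits.pullback.fst (X ↘ Spec (.of R)) (Y ↘ Spec (.of R))
  set q := Limits.pullback.snd (X ↘ Spec (.of R)) (Y ↘ Spec (.of R))
  let G := ObjectProperty.ι (QCohCat.isQCoh X) ⋙ Scheme.Modules.pullback p ⋙ DCoh.tensorRightMod K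
  haveI : Limits.PreservesColimitsOfSize.{u, u} (Scheme.Modules.pullback p) :=
    (Scheme.Modules.pullbackPushforwardAdjunction p).leftAdjoint_preservesColimits
  haveI : Limits.PreservesColimitsOfSize.{u, u} G := inferInstance
  haveI : IsAffineHom (X ↘ Spec (.of R)) := inferInstance
  haveI : IsAffineHom q := MorphismProperty.pullback_snd _ _ inferInstance
  have hG : ∀ M, Coh.IsQCoh (G.obj M) := fun M => by
    haveI : Coh.IsQCoh M.obj := M.property
    haveI := Groth.Agent.PullbackMod.isQCoh_pullback p M.obj
    haveI := hK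
    exact Groth.Agent.BCLib.isQCoh_tensorMod ((Scheme.Modules.pullback p).obj M.obj) K
  haveI : Limits.PreservesColimitsOfSize.{u, u} (G ⋙ Coh.push q) := ⟨fun {J} _ => ⟨fun {D} => by
    haveI := preservesColimit_push (D ⋙ G) q fun j => hG (D.obj j)
    infer_instance⟩⟩
  refine ⟨⟨fun J _ _ => ?_⟩, fun J => ?_⟩
  · haveI : Limits.PreservesColimitsOfSize.{0, 0} (G ⋙ Coh.push q) :=
      Limits.preservesColimitsOfSize_shrink.{0, u, 0, u} _
    exact inferInstanceAs (Limits.PreservesColimitsOfShape J (G ⋙ Coh.push q))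
  · exact inferInstanceAs (Limits.PreservesColimitsOfShape (Discrete J) (G ⋙ Coh.push q))

end Groth.Agent.S6772
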