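import Groth.Statements.S6775
import Mathlib

set_option autoImplicit false
open CategoryTheory CategoryTheory.Limits
universe v u
open CategoryTheory CategoryTheory.Abelian

namespace Groth.Agent.S6775

/-- In an abelian category a cartesian square whose bottom arrow `k` is an epimorphism is also
cocartesian, and the arrow `f` opposite to `k` is an epimorphism. -/
theorem result {A : Type u} [Category.{v} A] [Abelian A] {w x y z : A} (f : w ⟶ y) (g : w ⟶ x) (h : y ⟶ z) (k : x ⟶ z) (sq : IsPullback f g h k) [Epi k] : IsPushout f g h k ∧ Epi f := by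
  have : Epi sq.shortComplex'.g := by
    have : Epi (biprod.desc h (-k)) := epi_of_epi_fac (f := biprod.inr) (h := -k) (by simp)
    exact this
  have hex := sq.exact_shortComplex'
  let ei : (y ⊞ x) ≅ (y ⊞ x) :=
    { hom := biprod.map (𝟙 y) (-𝟙 x)
      inv := biprod.map (𝟙 y) (-𝟙 x)
      hom_inv_id := by ext <;> simp
      inv_hom_id := by ext <;> simp }
  let e : sq.shortComplex' ≅ sq.toCommSq.shortComplex := ShortComplex.isoMk (Iso.refl _) ei
    (Iso.refl _) ((Category.id_comp _).trans (show biprod.lift f (-g) = biprod.lift f g ≫ biprod.map (𝟙 y) (-𝟙 x) by apply biprod.hom_ext <;> simp)) ((show biprod.map (𝟙 y) (-𝟙 x) ≫ biprod.desc h k = biprod.desc h (-k) by apply biprod.hom_ext' <;> simp).trans (Category.comp_id _).symm)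
  have : Epi sq.toCommSq.shortComplex.g := by
    have h2 := e.hom.comm₂₃
    exact epi_of_epi_fac h2
  have hP : IsPushout f g h k :=
    ⟨sq.toCommSq, ⟨sq.toCommSq.isColimitEquivIsColimitCokernelCofork.symm (((ShortComplex.exact_iff_of_iso e).mp hex).gIsCokernel)⟩⟩
  refine ⟨hP, ?_⟩
  exact Abelian.epi_fst_of_isLimit _ _ sq.isLimit

end Groth.Agent.S6775
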