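import Groth.Statements.S6776
import Mathlib

set_option autoImplicit false
open CategoryTheory CategoryTheory.Limits
universe v u
open CategoryTheory CategoryTheory.Abelian

namespace Groth.Agent.S6776

/-- In an abelian category a cocartesian square whose left arrow `g` is a monomorphism is also
cartesian, and the arrow `h` opposite to `g` is a monomorphism. -/
theorem result {A : Type u} [Category.{v} A] [Abelian A] {w x y z : A} (f : w ⟶ y) (g : w ⟶ x) (h : y ⟶ z) (k : x ⟶ z) (sq : IsPushout f g h k) [Mono g] : IsPullback f g h k ∧ Mono h := by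
  have : Mono sq.shortComplex.f := by
    have : Mono (biprod.lift f (-g)) := by
      have := (inferInstance : Mono g)
      exact mono_of_mono_fac (biprod.lift_snd f (-g))
    exact this
  have hex := sq.exact_shortComplex
  let ei : (y ⊞ x) ≅ (y ⊞ x) :=
    { hom := biprod.map (𝟙 y) (-𝟙 x)
      inv := biprod.map (𝟙 y) (-𝟙 x)
      hom_inv_id := by ext <;> simp
      inv_hom_id := by ext <;> simp }
  let e : sq.shortComplex ≅ sq.toCommSq.shortComplex' := ShortComplex.isoMk (Iso.refl _) ei (Iso.refl _)
    ((Category.id_comp _).trans (show biprod.lift f g = biprod.lift f (-g) ≫ biprod.map (𝟙 y) (-𝟙 x) by apply biprod.hom_ext <;> simp))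
    ((show biprod.map (𝟙 y) (-𝟙 x) ≫ biprod.desc h (-k) = biprod.desc h k by apply biprod.hom_ext' <;> simp).trans (Category.comp_id _).symm)
  have : Mono sq.toCommSq.shortComplex'.f := by
    have h2 := e.inv.comm₁₂
    exact mono_of_mono_fac h2.symm
  have hP : IsPullback f g h k :=
    ⟨sq.toCommSq, ⟨sq.toCommSq.isLimitEquivIsLimitKernelFork.symm (((ShortComplex.exact_iff_of_iso e).mp hex).fIsKernel)⟩⟩
  exact ⟨hP, (MorphismProperty.monomorphisms A).of_isPushout sq (MorphismProperty.monomorphisms.infer_property g)⟩

end Groth.Agent.S6776
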