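import Groth.Statements.S6778
import Mathlib
-- import your own Groth.Agent.* helpers here

set_option autoImplicit false
open CategoryTheory CategoryTheory.Limits
universe v u
open CategoryTheory CategoryTheory.Abelian

namespace Groth.Agent.S6778

/-- For a commutative diagram with rows `x ⟶ y ⟶ z` and `u ⟶ v ⟶ w` in an abelian category, if the
second row is exact and the second map `g` of the first row is an epimorphism, then the induced
sequence of cokernels of the vertical maps is exact. -/
theorem result {A : Type u} [Category.{v} A] [Abelian A] {x y z u' v' w : A} (f : x ⟶ y) (g : y ⟶ z) (k : u' ⟶ v') (l : v' ⟶ w) (α : x ⟶ u') (β : y ⟶ v') (γ : z ⟶ w) (h₁ : α ≫ k = f ≫ β) (h₂ : β ≫ l = g ≫ γ) (hkl : k ≫ l = 0) (hex : (ShortComplex.mk k l hkl).Exact) [Epi g] : ∃ hc : cokernel.map α β f k h₁ ≫ cokernel.map β γ g l h₂ = 0, (ShortComplex.mk _ _ hc).Exact := by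
  have hc : cokernel.map α β f k h₁ ≫ cokernel.map β γ g l h₂ = 0 := by
    rw [← cancel_epi (cokernel.π α)]
    simp [reassoc_of% hkl]
  refine ⟨hc, ?_⟩
  rw [ShortComplex.exact_iff_exact_up_to_refinements]
  intro W z hz
  obtain ⟨W1, p1, hp1, v, hv⟩ := surjective_up_to_refinements_of_epi (cokernel.π β) z
  have h0 : (v ≫ l) ≫ cokernel.π γ = 0 := by
    have e1 : (v ≫ cokernel.π β) ≫ cokernel.map β γ g l h₂ = 0 := by
      rw [← hv, Category.assoc]
      erw [hz]
      rw [comp_zero]
    simpa using e1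
  obtain ⟨W2, p2, hp2, c, hc'⟩ := (ShortComplex.exact_of_g_is_cokernel
    (ShortComplex.mk γ (cokernel.π γ) (cokernel.condition γ)) (cokernelIsCokernel γ)).exact_up_to_refinements _ h0
  obtain ⟨W3, p3, hp3, d, hd⟩ := surjective_up_to_refinements_of_epi g c
  have h1 : (p3 ≫ p2 ≫ v - d ≫ β) ≫ l = 0 := by
    rw [Preadditive.sub_comp, sub_eq_zero]
    simp only [Category.assoc]
    rw [h₂, ← reassoc_of% hd]
    exact congrArg (p3 ≫ ·) hc'
  obtain ⟨W4, p4, hp4, e, he⟩ := hex.exact_up_to_refinements _ h1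
  refine ⟨W4, p4 ≫ p3 ≫ p2 ≫ p1, inferInstance, e ≫ cokernel.π α, ?_⟩
  have := congrArg (· ≫ cokernel.π β) he
  simp only [Category.assoc, Preadditive.comp_sub, Preadditive.sub_comp, cokernel.condition, comp_zero,
    sub_zero, ← hv] at this
  simp only [Category.assoc, cokernel.π_desc]
  exact this

end Groth.Agent.S6778
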