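import Groth.Statements.S6779
import Mathlib
import Groth.Agent.SimpGroup.Filler

set_option autoImplicit false
open CategoryTheory
universe u
open SSet

namespace Groth.Agent.S6779

/-- The underlying simplicial set of a simplicial group is a Kan complex. -/
theorem result (X : SimplicialObject GrpCat.{u}) : SSet.KanComplex (X ⋙ forget GrpCat.{u}) := by
  letI : ∀ n, Group ((X ⋙ forget GrpCat.{u}).obj n) := fun n => inferInstanceAs (Group (X.obj n))
  open SSet.modelCategoryQuillen in
  refine (HomotopicalAlgebra.isFibrant_iff _).mpr ((SSet.modelCategoryQuillen.fibration_iff _).mpr (SimpGroup.rlp_J (Z := X ⋙ forget GrpCat.{u}) (fun φ a b => map_mul (X.map φ).hom a b) _ ?_ ?_))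
  · intro n y
    have := (Limits.IsTerminal.isTerminalObj ((evaluation _ (Type u)).obj n) (⊤_ SSet.{u}) Limits.terminalIsTerminal)
    have hs : Subsingleton ((⊤_ SSet.{u}).obj n) := @Unique.instSubsingleton _ (Limits.Types.isTerminalEquivUnique _ this)
    exact ⟨(1 : X.obj n), Subsingleton.elim _ _⟩
  · intro n a b x _
    have := (Limits.IsTerminal.isTerminalObj ((evaluation _ (Type u)).obj n) (⊤_ SSet.{u}) Limits.terminalIsTerminal)
    have hs : Subsingleton ((⊤_ SSet.{u}).obj n) := @Unique.instSubsingleton _ (Limits.Types.isTerminalEquivUnique _ this)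
    exact Subsingleton.elim _ _

end Groth.Agent.S6779
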