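import Groth.Statements.S6780
import Mathlib
import Groth.Agent.SimpGroup.Filler

set_option autoImplicit false
open CategoryTheory
universe u
open SSet

namespace Groth.Agent.S6780

/-- A degreewise surjective homomorphism of simplicial abelian groups is a Kan fibration of the
underlying simplicial sets. -/
theorem result {X Y : SimplicialObject AddCommGrpCat.{u}} (f : X ⟶ Y) (hf : ∀ n : SimplexCategoryᵒᵖ, Function.Surjective (f.app n)) : SSet.modelCategoryQuillen.J.rlp (X := X ⋙ forget AddCommGrpCat.{u}) (Y := Y ⋙ forget AddCommGrpCat.{u}) (Functor.whiskerRight f (forget AddCommGrpCat.{u})) := by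
  letI : ∀ n, Group ((X ⋙ forget AddCommGrpCat.{u}).obj n) := fun n => inferInstanceAs (Group (Multiplicative (X.obj n)))
  refine SimpGroup.rlp_J (Z := X ⋙ forget AddCommGrpCat.{u}) (fun φ a b => map_add (X.map φ).hom a b) _ hf ?_
  intro n a b x hab
  have key : ∀ a b x : X.obj n, (f.app n).hom a = (f.app n).hom b → (f.app n).hom (x + (-a + b)) = (f.app n).hom x := fun a b x h => by
    simp [h]
  exact key a b x hab

end Groth.Agent.S6780
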