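import Groth.Statements.S6817
import Mathlib.AlgebraicTopology.SimplicialSet.Homotopy
import Mathlib.AlgebraicTopology.SimplicialObject.ChainHomotopy
import Mathlib.AlgebraicTopology.DoldKan.HomotopyEquivalence
import Mathlib.Algebra.Category.Grp.Adjunctions
import Mathlib.Algebra.Category.Grp.Abelian
import Mathlib.Algebra.Homology.ConcreteCategory

set_option autoImplicit false
open CategoryTheory
universe u
open SSet

namespace Groth.Agent.S6817

set_option backward.isDefEq.respectTransparency false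

open CategoryTheory.Limits AlgebraicTopology Simplicial Opposite

namespace S6817Aux


section classes

variable {C : ChainComplex AddCommGrpCat.{u} ℕ}

/-- The cycle given by an element. -/
noncomputable def cyc (n : ℕ) (x : C.X n) (hx : C.d n ((ComplexShape.down ℕ).next n) x = 0) :
    C.cycles n :=
  (C.sc n).abCyclesIso.inv ⟨x, hx⟩

lemma i_cyc (n : ℕ) (x : C.X n) (hx) : C.iCycles n (cyc (C := C) n x hx) = x :=
  (C.sc n).abCyclesIso_inv_apply_iCycles ⟨x, hx⟩

/-- The homology class of a cycle. -/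
noncomputable def cls (n : ℕ) (x : C.X n) (hx : C.d n ((ComplexShape.down ℕ).next n) x = 0) :
    C.homology n :=
  C.homologyπ n (cyc (C := C) n x hx)

lemma cls_surj (n : ℕ) (c : C.homology n) : ∃ x hx, c = cls (C := C) n x hx := by
  obtain ⟨z, rfl⟩ := (AddCommGrpCat.epi_iff_surjective (C.homologyπ n)).1 inferInstance c
  refine ⟨C.iCycles n z, ?_, ?_⟩
  · rw [← ConcreteCategory.comp_apply, HomologicalComplex.iCycles_d]; rfl
  · apply congrArg
    apply (AddCommGrpCat.mono_iff_injective (C.iCycles n)).1 inferInstance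
    exact (i_cyc (C := C) n _ _).symm

lemma cls_eq_zero_iff (n : ℕ) (x : C.X n) (hx) :
    cls (C := C) n x hx = 0 ↔ ∃ y, C.d (n + 1) n y = x := by
  have he : (ShortComplex.mk (C.toCycles (n + 1) n) (C.homologyπ n) (by simp)).Exact :=
    ShortComplex.exact_of_g_is_cokernel _ (C.homologyIsCokernel (n + 1) n (by simp))
  rw [ShortComplex.ab_exact_iff] at he
  constructor
  · intro h
    obtain ⟨y, hy⟩ := he (cyc (C := C) n x hx) h
    refine ⟨y, ?_⟩
    change C.toCycles (n + 1) n y = _ at hy
    rw [← HomologicalComplex.toCycles_i, ConcreteCategory.comp_apply, hy]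
    exact i_cyc (C := C) n _ _
  · rintro ⟨y, hy⟩
    have e : cyc (C := C) n x hx = C.toCycles (n + 1) n y := by
      apply (AddCommGrpCat.mono_iff_injective (C.iCycles n)).1 inferInstance
      rw [← ConcreteCategory.comp_apply (C.toCycles (n + 1) n), HomologicalComplex.toCycles_i]
      exact (i_cyc (C := C) n _ _).trans hy.symm
    change C.homologyπ n (cyc (C := C) n x hx) = 0
    rw [e, ← ConcreteCategory.comp_apply, HomologicalComplex.toCycles_comp_homologyπ]
    rfl

lemma map_cls {D : ChainComplex AddCommGrpCat.{u} ℕ} (φ : C ⟶ D) (n : ℕ) (x : C.X n) (hx) :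
    ∃ hy, HomologicalComplex.homologyMap φ n (cls (C := C) n x hx) = cls (C := D) n (φ.f n x) hy := by
  refine ⟨?_, ?_⟩
  · rw [← ConcreteCategory.comp_apply, φ.comm, ConcreteCategory.comp_apply, hx, map_zero]
  · change HomologicalComplex.homologyMap φ n (C.homologyπ n _) = D.homologyπ n _
    rw [← ConcreteCategory.comp_apply, HomologicalComplex.homologyπ_naturality,
      ConcreteCategory.comp_apply]
    apply congrArg
    apply (AddCommGrpCat.mono_iff_injective (D.iCycles n)).1 inferInstance
    rw [← ConcreteCategory.comp_apply, HomologicalComplex.cyclesMap_i, ConcreteCategory.comp_apply]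
    exact (congrArg _ (i_cyc (C := C) n _ _)).trans (i_cyc (C := D) n _ _).symm

end classes

variable {X Y : SimplicialObject AddCommGrpCat.{u}}

lemma higher (n : ℕ) (x : X _⦋n + 1⦌) (j : Fin (n + 1)) :
    X.δ j.succ ((DoldKan.PInfty (X := X)).f (n + 1) x) = 0 := by
  have h := DoldKan.HigherFacesVanish.of_P (X := X) (n + 1) n j (by omega)
  exact ConcreteCategory.congr_hom h x

lemma d_eq (n : ℕ) (w : X _⦋n + 1⦌) (hw : ∀ j : Fin (n + 1), X.δ j.succ w = 0) :
    ((alternatingFaceMapComplex AddCommGrpCat.{u}).obj X).d (n + 1) n w = X.δ 0 w := by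
  rw [alternatingFaceMapComplex_obj_d]
  let ev : (X _⦋n + 1⦌ ⟶ X _⦋n⦌) →+ X _⦋n⦌ := AddMonoidHom.mk' (fun φ => φ w) (fun _ _ => rfl)
  change ev (∑ i : Fin (n + 2), (-1 : ℤ) ^ (i : ℕ) • X.δ i) = ev (X.δ 0)
  rw [map_sum, Fin.sum_univ_succ, Finset.sum_eq_zero]
  · simp
  · intro j _
    rw [map_zsmul]
    change _ • X.δ j.succ w = 0
    rw [hw, smul_zero]

/-- The simplicial free abelian group on a simplicial abelian group. -/
noncomputable abbrev FU (X : SimplicialObject AddCommGrpCat.{u}) : SimplicialObject AddCommGrpCat.{u} :=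
  (X ⋙ forget AddCommGrpCat.{u}) ⋙ AddCommGrpCat.free

/-- The counit. -/
noncomputable def ε (X : SimplicialObject AddCommGrpCat.{u}) : FU X ⟶ X where
  app m := AddCommGrpCat.adj.counit.app (X.obj m)
  naturality _ _ φ := AddCommGrpCat.adj.counit.naturality (X.map φ)

/-- The map of simplicial free abelian groups induced by a map of simplicial sets. -/
noncomputable abbrev Fmap (φ : (X ⋙ forget AddCommGrpCat.{u} : SSet.{u}) ⟶
    (Y ⋙ forget AddCommGrpCat.{u} : SSet.{u})) : FU X ⟶ FU Y :=
  Functor.whiskerRight φ AddCommGrpCat.free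

/-- The lift of an element. -/
noncomputable def lift' {m : SimplexCategoryᵒᵖ} (w : X.obj m) : (FU X).obj m :=
  FreeAbelianGroup.of w - FreeAbelianGroup.of (0 : X.obj m)

lemma ε_lift' {m : SimplexCategoryᵒᵖ} (w : X.obj m) : (ε X).app m (lift' w) = w := by
  have h : ∀ a : X.obj m, (ε X).app m (FreeAbelianGroup.of a) = a := fun a => by
    exact FreeAbelianGroup.lift_apply_of _ _
  rw [lift', map_sub, h, h, sub_zero]

lemma map_lift' {m m' : SimplexCategoryᵒᵖ} (θ : m ⟶ m') (w : X.obj m) :
    (FU X).map θ (lift' w) = lift' (X.map θ w) := by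
  change FreeAbelianGroup.map _ (FreeAbelianGroup.of w - FreeAbelianGroup.of 0) = _
  rw [map_sub, FreeAbelianGroup.map_of_apply, FreeAbelianGroup.map_of_apply, lift']
  simp

lemma Fmap_lift' (f : X ⟶ Y) {m : SimplexCategoryᵒᵖ} (w : X.obj m) :
    (Fmap (Functor.whiskerRight f (forget AddCommGrpCat.{u}))).app m (lift' w) =
      lift' (f.app m w) := by
  change FreeAbelianGroup.map _ (FreeAbelianGroup.of w - FreeAbelianGroup.of 0) = _
  rw [map_sub, FreeAbelianGroup.map_of_apply, FreeAbelianGroup.map_of_apply, lift']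
  simp

lemma lift'_zero {m : SimplexCategoryᵒᵖ} : lift' (0 : X.obj m) = 0 := sub_self _

lemma d_lift' (n : ℕ) (w : X _⦋n + 1⦌) (hw : ∀ j : Fin (n + 1), X.δ j.succ w = 0) :
    ((alternatingFaceMapComplex AddCommGrpCat.{u}).obj (FU X)).d (n + 1) n (lift' w) = lift' (X.δ 0 w) := by
  rw [d_eq n (lift' w) (fun j => ?_)]
  · exact map_lift' _ w
  · exact (map_lift' _ w).trans ((congrArg lift' (hw j)).trans lift'_zero)

lemma exists_normalized (n : ℕ) (c : ((alternatingFaceMapComplex AddCommGrpCat.{u}).obj X).homology n) :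
    ∃ (z : X _⦋n⦌) (hz : ((alternatingFaceMapComplex AddCommGrpCat.{u}).obj X).d n ((ComplexShape.down ℕ).next n) z = 0),
      (DoldKan.PInfty (X := X)).f n z = z ∧
      c = cls (C := (alternatingFaceMapComplex AddCommGrpCat.{u}).obj X) n z hz := by
  obtain ⟨x, hx, rfl⟩ := cls_surj n c
  obtain ⟨hy, e⟩ := map_cls (C := (alternatingFaceMapComplex AddCommGrpCat.{u}).obj X) DoldKan.PInfty n x hx
  refine ⟨(DoldKan.PInfty (X := X)).f n x, hy, ?_, ?_⟩
  · exact ConcreteCategory.congr_hom (DoldKan.PInfty_f_idem (X := X) n) x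
  · refine Eq.trans ?_ e
    rw [(DoldKan.homotopyPInftyToId X).homologyMap_eq, HomologicalComplex.homologyMap_id]
    rfl

lemma higher_of_fixed (n : ℕ) (z : X _⦋n + 1⦌) (hz : (DoldKan.PInfty (X := X)).f (n + 1) z = z)
    (j : Fin (n + 1)) : X.δ j.succ z = 0 := by
  rw [← hz]; exact higher n z j

lemma cycle_lift' (n : ℕ) (z : X _⦋n⦌) (hz : (DoldKan.PInfty (X := X)).f n z = z)
    (hd : ((alternatingFaceMapComplex AddCommGrpCat.{u}).obj X).d n ((ComplexShape.down ℕ).next n) z = 0) :
    ((alternatingFaceMapComplex AddCommGrpCat.{u}).obj (FU X)).d n ((ComplexShape.down ℕ).next n) (lift' z) = 0 := by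
  cases n with
  | zero =>
    rw [HomologicalComplex.shape _ _ _ (by simp [ComplexShape.next])]
    rfl
  | succ n =>
    rw [show (ComplexShape.down ℕ).next (n + 1) = n from ChainComplex.next_nat_succ n] at hd ⊢
    rw [d_eq n z (higher_of_fixed n z hz)] at hd
    rw [d_lift' n z (higher_of_fixed n z hz), hd, lift'_zero]

lemma homologyMap_eq_id {φ : (X ⋙ forget AddCommGrpCat.{u} : SSet.{u}) ⟶
    (X ⋙ forget AddCommGrpCat.{u} : SSet.{u})}
    (h : Nonempty (SSet.Homotopy φ (𝟙 _)) ∨ Nonempty (SSet.Homotopy (𝟙 _) φ)) (n : ℕ) :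
    HomologicalComplex.homologyMap ((alternatingFaceMapComplex AddCommGrpCat.{u}).map (Fmap φ)) n = 𝟙 _ := by
  have e : (Fmap (𝟙 (X ⋙ forget AddCommGrpCat.{u} : SSet.{u}))) = 𝟙 (FU X) :=
    Functor.whiskerRight_id' _
  rw [← HomologicalComplex.homologyMap_id ((alternatingFaceMapComplex AddCommGrpCat.{u}).obj (FU X)) n, ← CategoryTheory.Functor.map_id,
    ← e]
  rcases h with ⟨⟨h⟩⟩ | ⟨⟨h⟩⟩
  · exact ((SimplicialObject.Homotopy.toChainHomotopy
      (h.toSimplicialObjectHomotopy.whiskerRight AddCommGrpCat.free)).homologyMap_eq n)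
  · exact ((SimplicialObject.Homotopy.toChainHomotopy
      (h.toSimplicialObjectHomotopy.whiskerRight AddCommGrpCat.free)).homologyMap_eq n).symm

end S6817Aux

open S6817Aux

/-- A homomorphism of simplicial abelian groups whose underlying map of simplicial sets is a homotopy
equivalence induces a quasi-isomorphism of associated chain complexes. (The published statement
allows the composites with a homotopy inverse to be joined to the identities by chains of
homotopies; this row assumes single homotopies, in either direction.) -/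
theorem result {X Y : SimplicialObject AddCommGrpCat.{u}} (f : X ⟶ Y) (g : (Y ⋙ forget AddCommGrpCat.{u} : SSet.{u}) ⟶ (X ⋙ forget AddCommGrpCat.{u} : SSet.{u})) (hX : Nonempty (SSet.Homotopy (Functor.whiskerRight f (forget AddCommGrpCat.{u}) ≫ g) (𝟙 _)) ∨ Nonempty (SSet.Homotopy (𝟙 _) (Functor.whiskerRight f (forget AddCommGrpCat.{u}) ≫ g))) (hY : Nonempty (SSet.Homotopy (g ≫ Functor.whiskerRight f (forget AddCommGrpCat.{u})) (𝟙 _)) ∨ Nonempty (SSet.Homotopy (𝟙 _) (g ≫ Functor.whiskerRight f (forget AddCommGrpCat.{u})))) : QuasiIso ((AlgebraicTopology.alternatingFaceMapComplex AddCommGrpCat.{u}).map f) := by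
  refine ⟨fun n => (quasiIsoAt_iff_isIso_homologyMap _ n).2 ?_⟩
  let K := alternatingFaceMapComplex AddCommGrpCat.{u}
  let Uf := Functor.whiskerRight f (forget AddCommGrpCat.{u})
  let gt : Y ⋙ forget AddCommGrpCat.{u} ⋙ AddCommGrpCat.free ⟶ X := Fmap g ≫ ε X
  have h1 : HomologicalComplex.homologyMap (K.map gt) n ≫ HomologicalComplex.homologyMap (K.map f) n =
      HomologicalComplex.homologyMap (K.map (ε Y)) n := by
    have e : gt ≫ f = Fmap (g ≫ Uf) ≫ ε Y := by
      have e1 : ε X ≫ f = Fmap Uf ≫ ε Y := by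
        apply NatTrans.ext
        funext m
        exact (AddCommGrpCat.adj.counit.naturality (f.app m)).symm
      simp only [gt, Category.assoc, e1]
      simp [Fmap]
    rw [← HomologicalComplex.homologyMap_comp, ← K.map_comp, e, K.map_comp,
      HomologicalComplex.homologyMap_comp, homologyMap_eq_id hY]
    exact Category.id_comp _
  have h2 : HomologicalComplex.homologyMap (K.map (Fmap Uf)) n ≫
      HomologicalComplex.homologyMap (K.map gt) n = HomologicalComplex.homologyMap (K.map (ε X)) n := by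
    have e : Fmap Uf ≫ gt = Fmap (Uf ≫ g) ≫ ε X := by
      simp only [gt, ← Category.assoc]
      simp [Fmap]
    rw [← HomologicalComplex.homologyMap_comp, ← K.map_comp, e, K.map_comp,
      HomologicalComplex.homologyMap_comp, homologyMap_eq_id hX]
    exact Category.id_comp _
  haveI : Epi (HomologicalComplex.homologyMap (K.map f) n) := by
    rw [AddCommGrpCat.epi_iff_surjective]
    intro c
    obtain ⟨z, hz, hz', rfl⟩ := exists_normalized n c
    obtain ⟨hy, e⟩ := map_cls (C := K.obj (FU Y)) (K.map (ε Y)) n (lift' z) (cycle_lift' n z hz' hz)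
    refine ⟨HomologicalComplex.homologyMap (K.map gt) n
      (cls (C := K.obj (FU Y)) n (lift' z) (cycle_lift' n z hz' hz)), ?_⟩
    refine (ConcreteCategory.congr_hom h1 _).trans (e.trans ?_)
    congr 1
    exact ε_lift' z
  haveI : Mono (HomologicalComplex.homologyMap (K.map f) n) := by
    rw [AddCommGrpCat.mono_iff_injective, injective_iff_map_eq_zero]
    intro c hc
    obtain ⟨z, hz, hz', rfl⟩ := exists_normalized n c
    obtain ⟨hy, e⟩ := map_cls (C := K.obj X) (K.map f) n z hz
    rw [e, cls_eq_zero_iff] at hc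
    obtain ⟨w₀, hw₀⟩ := hc
    have hw : Y.δ 0 ((DoldKan.PInfty (X := Y)).f (n + 1) w₀) = f.app (op ⦋n⦌) z := by
      rw [← d_eq n _ (higher n w₀)]
      refine (ConcreteCategory.congr_hom ((DoldKan.PInfty (X := Y)).comm (n + 1) n) w₀).trans ?_
      refine (congrArg ((DoldKan.PInfty (X := Y)).f n) hw₀).trans ?_
      change (f.app (op ⦋n⦌) ≫ DoldKan.PInfty.f n) z = _
      rw [DoldKan.PInfty_f_naturality]
      exact congrArg (f.app (op ⦋n⦌)) hz'
    obtain ⟨hy', e'⟩ := map_cls (C := K.obj (FU X)) (K.map (Fmap Uf)) n (lift' z)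
      (cycle_lift' n z hz' hz)
    have h0 : HomologicalComplex.homologyMap (K.map (Fmap Uf)) n
        (cls (C := K.obj (FU X)) n (lift' z) (cycle_lift' n z hz' hz)) = 0 := by
      rw [e', cls_eq_zero_iff]
      refine ⟨lift' ((DoldKan.PInfty (X := Y)).f (n + 1) w₀), (d_lift' n _ (higher n w₀)).trans ?_⟩
      rw [hw]
      exact (Fmap_lift' f z).symm
    obtain ⟨hy'', e''⟩ := map_cls (C := K.obj (FU X)) (K.map (ε X)) n (lift' z)
      (cycle_lift' n z hz' hz)
    have h3 := ConcreteCategory.congr_hom h2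
      (cls (C := K.obj (FU X)) n (lift' z) (cycle_lift' n z hz' hz))
    rw [ConcreteCategory.comp_apply, h0, map_zero, e''] at h3
    refine Eq.trans ?_ h3.symm
    congr 1
    exact (ε_lift' z).symm
  exact isIso_of_mono_of_epi _

end Groth.Agent.S6817
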