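import Groth.Statements.S6781
import Groth.Agent.S6817
import Mathlib.AlgebraicTopology.SimplicialSet.CategoryWithFibrations
import Mathlib.AlgebraicTopology.DoldKan.PInfty

set_option autoImplicit false
open CategoryTheory
universe u
open SSet

namespace Groth.Agent.S6781

set_option backward.isDefEq.respectTransparency false

open CategoryTheory.Limits AlgebraicTopology Simplicial Opposite
open Groth.Agent.S6817.S6817Aux

namespace S6781Aux

variable {X Y : SimplicialObject AddCommGrpCat.{u}} (f : X ⟶ Y)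

lemma fixed_of_higher (n : ℕ) (z : X _⦋n + 1⦌) (hz : ∀ j : Fin (n + 1), X.δ j.succ z = 0) :
    (DoldKan.PInfty (X := X)).f (n + 1) z = z := by
  let φ : AddCommGrpCat.of (ULift.{u} ℤ) ⟶ X _⦋n + 1⦌ :=
    AddCommGrpCat.ofHom ((zmultiplesHom (X _⦋n + 1⦌) z).comp AddEquiv.ulift.toAddMonoidHom)
  have v : DoldKan.HigherFacesVanish (n + 1) φ := fun j _ => by
    apply AddCommGrpCat.hom_ext
    apply AddMonoidHom.ext
    intro m
    change X.δ j.succ (m.down • z) = 0
    rw [map_zsmul, hz, smul_zero]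
  have h := ConcreteCategory.congr_hom v.comp_P_eq_self (⟨1⟩ : ULift ℤ)
  change (DoldKan.P (X := X) (n + 1)).f (n + 1) ((1 : ℤ) • z) = (1 : ℤ) • z at h
  rw [one_smul] at h
  exact h

lemma app_δ {n : ℕ} (i : Fin (n + 2)) (x : X _⦋n + 1⦌) :
    f.app (op ⦋n⦌) (X.δ i x) = Y.δ i (f.app (op ⦋n + 1⦌) x) :=
  ConcreteCategory.congr_hom (SimplicialObject.δ_naturality f i) x

lemma app_PInfty {n : ℕ} (x : X _⦋n⦌) :
    f.app (op ⦋n⦌) ((DoldKan.PInfty (X := X)).f n x) =
      (DoldKan.PInfty (X := Y)).f n (f.app (op ⦋n⦌) x) :=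
  (ConcreteCategory.congr_hom (DoldKan.PInfty_f_naturality n f) x).symm

/-- The key consequence of surjectivity and quasi-isomorphism. -/
lemma exists_filler (hf : ∀ n : SimplexCategoryᵒᵖ, Function.Surjective (f.app n))
    (hq : QuasiIso ((alternatingFaceMapComplex AddCommGrpCat.{u}).map f)) (n : ℕ) (z : X _⦋n⦌)
    (hP : (DoldKan.PInfty (X := X)).f n z = z)
    (hz : ((alternatingFaceMapComplex AddCommGrpCat.{u}).obj X).d n ((ComplexShape.down ℕ).next n) z = 0)
    (hfz : f.app (op ⦋n⦌) z = 0) :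
    ∃ w : X _⦋n + 1⦌, (∀ j : Fin (n + 1), X.δ j.succ w = 0) ∧ X.δ 0 w = z ∧
      f.app (op ⦋n + 1⦌) w = 0 := by
  have hiso : ∀ m, IsIso (HomologicalComplex.homologyMap
      ((alternatingFaceMapComplex AddCommGrpCat.{u}).map f) m) := fun m =>
    (quasiIsoAt_iff_isIso_homologyMap _ m).1 (hq.quasiIsoAt m)
  let K := alternatingFaceMapComplex AddCommGrpCat.{u}
  have h0 : cls (C := K.obj X) n z hz = 0 := by
    haveI := hiso n
    apply (AddCommGrpCat.mono_iff_injective (HomologicalComplex.homologyMap (K.map f) n)).1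
      inferInstance
    obtain ⟨hy, e⟩ := map_cls (C := K.obj X) (K.map f) n z hz
    rw [map_zero, e, cls_eq_zero_iff]
    exact ⟨0, (map_zero _).trans hfz.symm⟩
  obtain ⟨w₀, hw₀⟩ := (cls_eq_zero_iff (C := K.obj X) n z hz).1 h0
  obtain ⟨w, hw, hw1⟩ : ∃ w : X _⦋n + 1⦌, (∀ j : Fin (n + 1), X.δ j.succ w = 0) ∧ X.δ 0 w = z := by
    refine ⟨_, higher n w₀, ?_⟩
    rw [← d_eq n _ (higher n w₀)]
    refine (ConcreteCategory.congr_hom ((DoldKan.PInfty (X := X)).comm (n + 1) n) w₀).trans ?_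
    exact (congrArg ((DoldKan.PInfty (X := X)).f n) hw₀).trans hP
  -- the image is a normalized cycle of `Y`
  have hfw : ∀ j : Fin (n + 1), Y.δ j.succ (f.app (op ⦋n + 1⦌) w) = 0 := fun j => by
    rw [← app_δ, hw, map_zero]
  have hcy : (K.obj Y).d (n + 1) ((ComplexShape.down ℕ).next (n + 1)) (f.app (op ⦋n + 1⦌) w) = 0 := by
    rw [show (ComplexShape.down ℕ).next (n + 1) = n from ChainComplex.next_nat_succ n,
      d_eq n _ hfw, ← app_δ, hw1, hfz]
  haveI := hiso (n + 1)
  obtain ⟨c, hc⟩ := (AddCommGrpCat.epi_iff_surjective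
    (HomologicalComplex.homologyMap (K.map f) (n + 1))).1 inferInstance
      (cls (C := K.obj Y) (n + 1) _ hcy)
  obtain ⟨c, hc', hPc, rfl⟩ := exists_normalized (n + 1) c
  have hcj := higher_of_fixed n c hPc
  have hc0 : X.δ 0 c = 0 := by
    have := hc'
    rw [show (ComplexShape.down ℕ).next (n + 1) = n from ChainComplex.next_nat_succ n,
      d_eq n _ hcj] at this
    exact this
  obtain ⟨hy, e⟩ := map_cls (C := K.obj X) (K.map f) (n + 1) c hc'
  rw [e, ← sub_eq_zero] at hc
  have hsub : ∃ hd, cls (C := K.obj Y) (n + 1) (f.app (op ⦋n + 1⦌) c - f.app (op ⦋n + 1⦌) w) hd = 0 := by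
    refine ⟨?_, ?_⟩
    · rw [map_sub, hcy]
      exact (sub_eq_zero).2 hy
    · rw [← hc]
      change (K.obj Y).homologyπ (n + 1) _ = (K.obj Y).homologyπ (n + 1) _ - (K.obj Y).homologyπ (n + 1) _
      refine Eq.trans (congrArg _ ?_) (map_sub _ _ _)
      apply (AddCommGrpCat.mono_iff_injective ((K.obj Y).iCycles (n + 1))).1 inferInstance
      refine Eq.trans ?_ (map_sub _ _ _).symm
      rw [i_cyc, i_cyc, i_cyc]
      rfl
  obtain ⟨hd, hd0⟩ := hsub
  obtain ⟨v₀, hv₀⟩ := (cls_eq_zero_iff (C := K.obj Y) (n + 1) _ hd).1 hd0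
  obtain ⟨v, hv⟩ := hf _ v₀
  let v' : X _⦋n + 2⦌ := (DoldKan.PInfty (X := X)).f (n + 2) v
  have hv' : f.app (op ⦋n + 1⦌) (X.δ 0 v') = f.app (op ⦋n + 1⦌) c - f.app (op ⦋n + 1⦌) w := by
    rw [app_δ, app_PInfty, hv, ← d_eq (n + 1) _ (higher (n + 1) v₀)]
    refine (ConcreteCategory.congr_hom ((DoldKan.PInfty (X := Y)).comm (n + 2) (n + 1)) v₀).trans ?_
    refine (congrArg ((DoldKan.PInfty (X := Y)).f (n + 1)) hv₀).trans ?_
    rw [← map_sub, ← app_PInfty]
    refine congrArg (f.app (op ⦋n + 1⦌)) ?_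
    rw [map_sub, hPc, fixed_of_higher n w hw]
  have hδ : ∀ i : Fin (n + 2), X.δ i (X.δ 0 v') = 0 := by
    intro i
    have := ConcreteCategory.congr_hom (X.δ_comp_δ (i := 0) (j := i) (Fin.zero_le _)) v'
    change X.δ 0 (X.δ i.succ v') = X.δ i (X.δ (Fin.castSucc 0) v') at this
    rw [higher (n + 1) v i, map_zero] at this
    exact this.symm
  refine ⟨w - c + X.δ 0 v', fun j => ?_, ?_, ?_⟩
  · rw [map_add, map_sub, hw, hcj, hδ, sub_zero, add_zero]
  · rw [map_add, map_sub, hw1, hc0, hδ, sub_zero, add_zero]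
  · rw [map_add, map_sub, hv']
    abel

/-- Abelian horn filling, and correction of the remaining face. -/
lemma exists_kernel_filler (hf : ∀ n : SimplexCategoryᵒᵖ, Function.Surjective (f.app n))
    (hq : QuasiIso ((alternatingFaceMapComplex AddCommGrpCat.{u}).map f)) (n : ℕ)
    (k : Fin (n + 2) → X _⦋n⦌) (hk : ∀ i, f.app (op ⦋n⦌) (k i) = 0)
    (hkk : ∀ (m : ℕ) (θ θ' : ⦋m⦌ ⟶ ⦋n⦌) (i j : Fin (n + 2)),
      θ ≫ SimplexCategory.δ i = θ' ≫ SimplexCategory.δ j →
        X.map θ.op (k i) = X.map θ'.op (k j)) :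
    ∃ x : X _⦋n + 1⦌, f.app (op ⦋n + 1⦌) x = 0 ∧ ∀ i, X.δ i x = k i := by
  -- horn filler
  have horn : ∀ d : ℕ, d ≤ n + 1 → ∃ u : X _⦋n + 1⦌, f.app (op ⦋n + 1⦌) u = 0 ∧
      ∀ j : Fin (n + 1), n + 1 - d ≤ j.val → X.δ j.succ u = k j.succ := by
    intro d
    induction d with
    | zero => exact fun _ => ⟨0, map_zero _, fun j hj => absurd hj (by omega)⟩
    | succ d ih =>
      intro hd
      obtain ⟨u, hu, huj⟩ := ih (by omega)
      let j₀ : Fin (n + 1) := ⟨n - d, by omega⟩
      let e := k j₀.succ - X.δ j₀.succ u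
      refine ⟨u + X.σ j₀ e, ?_, fun j hj => ?_⟩
      · rw [map_add, hu]
        have := ConcreteCategory.congr_hom (SimplicialObject.σ_naturality f j₀) e
        simp only [ConcreteCategory.comp_apply] at this
        rw [this, map_sub, hk, app_δ, hu, map_zero, sub_zero, map_zero, add_zero]
      · rw [map_add]
        rcases eq_or_lt_of_le (show j₀.val ≤ j.val by simp only [j₀]; omega) with h | h
        · obtain rfl : j₀ = j := Fin.ext h
          have := ConcreteCategory.congr_hom (X.δ_comp_σ_succ (i := j₀)) e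
          simp only [ConcreteCategory.comp_apply, ConcreteCategory.id_apply] at this
          rw [this, add_sub_cancel]
        · have hj' : n + 1 - d ≤ j.val := by simp only [j₀] at h; omega
          rw [huj j hj']
          rcases n with _ | m
          · exact absurd h (by omega)
          let a : Fin (m + 2) := ⟨j₀.val + 1, by omega⟩
          have ha : a ≤ j := Fin.le_def.2 (by change j₀.val + 1 ≤ j.val; omega)
          have hσ := ConcreteCategory.congr_hom
            (X.δ_comp_σ_of_gt (i := j) (j := ⟨j₀.val, by omega⟩) (by exact h)) e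
          change X.δ j.succ (X.σ j₀ e) = _ at hσ
          rw [hσ, ConcreteCategory.comp_apply]
          have he : X.δ j e = 0 := by
            change X.δ j (k a.castSucc - X.δ a.castSucc u) = 0
            rw [map_sub]
            have h1 : X.δ a (k j.succ) = X.δ j (k a.castSucc) :=
              hkk m (SimplexCategory.δ a) (SimplexCategory.δ j) j.succ a.castSucc
                (SimplexCategory.δ_comp_δ ha)
            have h2 := ConcreteCategory.congr_hom (X.δ_comp_δ ha) u
            change X.δ a (X.δ j.succ u) = X.δ j (X.δ a.castSucc u) at h2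
            rw [← h1, ← h2, huj j hj', sub_self]
          rw [he, map_zero, add_zero]
  obtain ⟨u, hu, huj⟩ := horn (n + 1) le_rfl
  -- the remaining face
  let z := k 0 - X.δ 0 u
  have hfz : f.app (op ⦋n⦌) z = 0 := by rw [map_sub, hk, app_δ, hu, map_zero, sub_zero]
  have hzP : (DoldKan.PInfty (X := X)).f n z = z ∧
      ((alternatingFaceMapComplex AddCommGrpCat.{u}).obj X).d n ((ComplexShape.down ℕ).next n) z = 0 := by
    rcases n with _ | m
    · refine ⟨by simp, ?_⟩
      rw [HomologicalComplex.shape _ _ _ (by simp [ComplexShape.next])]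
      rfl
    have hall : ∀ i : Fin (m + 2), X.δ i z = 0 := fun i => by
      have h1 : X.δ (0 : Fin (m + 2)) (k i.succ) = X.δ i (k (Fin.castSucc 0)) :=
        hkk m (SimplexCategory.δ 0) (SimplexCategory.δ i) i.succ (Fin.castSucc 0)
          (SimplexCategory.δ_comp_δ (Fin.zero_le _))
      have h2 := ConcreteCategory.congr_hom
        (X.δ_comp_δ (i := (0 : Fin (m + 2))) (j := i) (Fin.zero_le _)) u
      change X.δ 0 (X.δ i.succ u) = X.δ i (X.δ (Fin.castSucc 0) u) at h2
      change X.δ i (k (Fin.castSucc 0) - X.δ (Fin.castSucc 0) u) = 0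
      rw [map_sub, ← h1, ← h2, huj i (by omega), sub_self]
    refine ⟨fixed_of_higher m z (fun j => hall _), ?_⟩
    rw [show (ComplexShape.down ℕ).next (m + 1) = m from ChainComplex.next_nat_succ m,
      d_eq m _ (fun j => hall _), hall]
  obtain ⟨w, hw, hw0, hfw⟩ := exists_filler f hf hq n z hzP.1 hzP.2 hfz
  refine ⟨u + w, by rw [map_add, hu, hfw, add_zero], fun i => ?_⟩
  rw [map_add]
  obtain rfl | ⟨i, rfl⟩ := Fin.eq_zero_or_eq_succ i
  · rw [hw0, add_sub_cancel]
  · rw [huj i (by omega), hw, add_zero]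

end S6781Aux

open S6781Aux

/-- A degreewise surjective homomorphism of simplicial abelian groups inducing a quasi-isomorphism of
the associated chain complexes is a trivial Kan fibration of the underlying simplicial sets. -/
theorem result {X Y : SimplicialObject AddCommGrpCat.{u}} (f : X ⟶ Y) (hf : ∀ n : SimplexCategoryᵒᵖ, Function.Surjective (f.app n)) (hq : QuasiIso ((AlgebraicTopology.alternatingFaceMapComplex AddCommGrpCat.{u}).map f)) : SSet.modelCategoryQuillen.I.rlp (X := X ⋙ forget AddCommGrpCat.{u}) (Y := Y ⋙ forget AddCommGrpCat.{u}) (Functor.whiskerRight f (forget AddCommGrpCat.{u})) := by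
  suffices h : ∀ n : ℕ, HasLiftingProperty (SSet.boundary.{u} n).ι
      (Functor.whiskerRight f (forget AddCommGrpCat.{u}) :
        (X ⋙ forget AddCommGrpCat.{u} : SSet.{u}) ⟶ (Y ⋙ forget AddCommGrpCat.{u} : SSet.{u})) by
    rintro _ _ _ ⟨n⟩
    exact h n
  intro n
  refine ⟨fun {t b} sq => ?_⟩
  have key : ∀ {S : SSet.{u}} {m p : ℕ} (θ : ⦋m⦌ ⟶ ⦋p⦌) (φ : Δ[p] ⟶ S),
      SSet.yonedaEquiv (SSet.stdSimplex.map θ ≫ φ) = S.map θ.op (SSet.yonedaEquiv φ) := by
    intro S m p θ φ
    have e := ConcreteCategory.congr_hom (φ.naturality θ.op)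
      (SSet.stdSimplex.objEquiv.symm (𝟙 ⦋p⦌))
    rw [SSet.yonedaEquiv_comp]
    refine Eq.trans ?_ e
    apply congrArg (φ.app _)
    erw [SSet.yonedaEquiv_map]
    apply SSet.stdSimplex.objEquiv.injective
    rw [Equiv.apply_symm_apply]
    exact (Category.comp_id _).symm
  rcases n with _ | n
  · obtain ⟨x, hx⟩ := hf (op ⦋0⦌) (SSet.yonedaEquiv b)
    refine ⟨⟨⟨SSet.yonedaEquiv.symm x, SSet.boundary.hom_ext₀, ?_⟩⟩⟩
    rw [SSet.yonedaEquiv_symm_comp]
    exact (congrArg _ hx).trans (SSet.yonedaEquiv.symm_apply_apply b)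
  · let xs : Fin (n + 2) → X _⦋n⦌ := fun i => SSet.yonedaEquiv (SSet.boundary.ι i ≫ t)
    obtain ⟨x₀, hx₀⟩ := hf (op ⦋n + 1⦌) (SSet.yonedaEquiv b)
    have hxs : ∀ i, f.app (op ⦋n⦌) (xs i) = Y.δ i (SSet.yonedaEquiv b) := fun i => by
      refine Eq.trans ?_ (key (SimplexCategory.δ i) b)
      change _ = SSet.yonedaEquiv (SSet.stdSimplex.δ i ≫ b)
      rw [← SSet.boundary.ι_ι i, Category.assoc, ← sq.w, ← Category.assoc]
      exact (SSet.yonedaEquiv_comp (SSet.boundary.ι i ≫ t)
        (Functor.whiskerRight f (forget AddCommGrpCat.{u}))).symm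
    obtain ⟨x, hfx, hx⟩ := exists_kernel_filler f hf hq n (fun i => xs i - X.δ i x₀)
      (fun i => by rw [map_sub, hxs, app_δ, hx₀]; exact sub_self _) (fun m θ θ' i j h => by
        rw [map_sub, map_sub]
        have h1 : SSet.stdSimplex.map θ ≫ SSet.boundary.ι i =
            SSet.stdSimplex.map θ' ≫ SSet.boundary.ι j := by
          rw [← cancel_mono (SSet.boundary.{u} (n + 1)).ι, Category.assoc, Category.assoc,
            SSet.boundary.ι_ι, SSet.boundary.ι_ι]
          exact (SSet.stdSimplex.map_comp _ _).symm.trans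
            ((congrArg _ h).trans (SSet.stdSimplex.map_comp _ _))
        have h2 : X.map θ.op (xs i) = X.map θ'.op (xs j) := by
          have h3 := congrArg (fun φ => SSet.yonedaEquiv (φ ≫ t)) h1
          simp only [Category.assoc, key] at h3
          exact h3
        rw [h2]
        congr 1
        rw [SimplicialObject.δ, SimplicialObject.δ, ← ConcreteCategory.comp_apply,
          ← ConcreteCategory.comp_apply, ← X.map_comp, ← X.map_comp, ← op_comp, ← op_comp, h])
    refine ⟨⟨⟨SSet.yonedaEquiv.symm (x₀ + x), ?_, ?_⟩⟩⟩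
    · refine SSet.boundary.hom_ext (fun i => SSet.yonedaEquiv.injective ?_)
      rw [SSet.boundary.ι_ι_assoc]
      refine (key (SimplexCategory.δ i) _).trans ?_
      rw [Equiv.apply_symm_apply]
      change X.δ i (x₀ + x) = xs i
      rw [map_add, hx i, add_sub_cancel]
    · rw [SSet.yonedaEquiv_symm_comp]
      refine (congrArg _ ?_).trans (SSet.yonedaEquiv.symm_apply_apply b)
      change f.app (op ⦋n + 1⦌) (x₀ + x) = _
      rw [map_add, hfx, add_zero, hx₀]

end Groth.Agent.S6781
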