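import Groth.Statements.S6782
import Mathlib.AlgebraicTopology.SimplicialSet.Boundary
import Mathlib.AlgebraicTopology.SimplicialSet.Dimension
import Mathlib.AlgebraicTopology.SimplicialObject.Coskeletal
import Mathlib.AlgebraicTopology.SimplicialSet.CategoryWithFibrations

set_option autoImplicit false
open CategoryTheory Opposite
universe u
open SSet

namespace Groth.Agent.S6782

set_option backward.isDefEq.respectTransparency false
section
open CategoryTheory CategoryTheory.Limits Simplicial Opposite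

/-- Maps to a coskeletal simplicial set are determined in low degrees. -/
theorem hom_ext_cosk {K V : SSet.{u}} (n : ℕ) [SimplicialObject.IsCoskeletal V n] {g h : K ⟶ V}
    (e : ∀ k : ℕ, k ≤ n → g.app (op ⦋k⦌) = h.app (op ⦋k⦌)) : g = h := by
  refine Functor.hom_ext_of_isRightKanExtension V (𝟙 ((SimplexCategory.Truncated.inclusion n).op ⋙ V)) g h ?_
  ext ⟨⟨⟨k⟩, hk⟩⟩ x
  exact ConcreteCategory.congr_hom (e k hk) x

theorem exists_lift_of_le {U V : SSet.{u}} (f : V ⟶ U) (n m : ℕ) (hm : m ≤ n)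
    (h1 : ∀ i : ℕ, i < n → Function.Bijective (f.app (op (SimplexCategory.mk i))))
    (h2 : Function.Surjective (f.app (op (SimplexCategory.mk n))))
    [SimplicialObject.IsCoskeletal V n]
    (a : (∂Δ[m] : SSet.{u}) ⟶ V) (b : Δ[m] ⟶ U) (w : a ≫ f = ∂Δ[m].ι ≫ b) :
    ∃ l : Δ[m] ⟶ V, ∂Δ[m].ι ≫ l = a ∧ l ≫ f = b := by
  obtain ⟨v, hv⟩ : ∃ v, f.app (op ⦋m⦌) v = SSet.yonedaEquiv b := by
    rcases lt_or_eq_of_le hm with h | rfl
    · exact (h1 m h).2 _
    · exact h2 _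
  refine ⟨SSet.yonedaEquiv.symm v, ?_, ?_⟩
  swap
  · apply SSet.yonedaEquiv.injective
    rw [← hv, SSet.yonedaEquiv_comp, Equiv.apply_symm_apply]
  have hl : SSet.yonedaEquiv.symm v ≫ f = b := by
    apply SSet.yonedaEquiv.injective
    rw [← hv, SSet.yonedaEquiv_comp, Equiv.apply_symm_apply]
  refine hom_ext_cosk n fun k hk => ?_
  rw [← hl, ← Category.assoc] at w
  revert w
  generalize ∂Δ[m].ι ≫ SSet.yonedaEquiv.symm v = g
  intro w
  have low : ∀ i : ℕ, i < n → g.app (op ⦋i⦌) = a.app (op ⦋i⦌) := fun i hi =>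
    ConcreteCategory.hom_ext _ _ fun x =>
      (h1 i hi).1 (ConcreteCategory.congr_hom (congr_app w.symm (op ⦋i⦌)) x)
  rcases lt_or_eq_of_le hk with h | rfl
  · exact low k h
  · refine ConcreteCategory.hom_ext _ _ fun x => ?_
    have hx : x ∈ SSet.degenerate (∂Δ[m] : SSet.{u}) k := by
      rw [SSet.degenerate_eq_univ_of_hasDimensionLT _ m k hm]; trivial
    obtain ⟨j, hj, p, -, y, rfl⟩ := (SSet.mem_degenerate_iff _ x).1 hx
    rw [NatTrans.naturality_apply, NatTrans.naturality_apply, low j hj]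

theorem exists_lift_of_gt {U V : SSet.{u}} (f : V ⟶ U) (n m : ℕ) (hm : n < m)
    [SimplicialObject.IsCoskeletal U n] [SimplicialObject.IsCoskeletal V n]
    (a : (∂Δ[m] : SSet.{u}) ⟶ V) (b : Δ[m] ⟶ U) (w : a ≫ f = ∂Δ[m].ι ≫ b) :
    ∃ l : Δ[m] ⟶ V, ∂Δ[m].ι ≫ l = a ∧ l ≫ f = b := by
  have mem : ∀ (k : ℕ), k ≤ n → ∀ s : (Δ[m] : SSet.{u}) _⦋k⦌, s ∈ (∂Δ[m] : (Δ[m] : SSet.{u}).Subcomplex).obj (op ⦋k⦌) :=
    fun k hk s => by rw [SSet.boundary_obj_eq_univ k m (lt_of_le_of_lt hk hm)]; trivial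
  let β : (SimplexCategory.Truncated.inclusion n).op ⋙ (Δ[m] : SSet.{u}) ⟶ (SimplexCategory.Truncated.inclusion n).op ⋙ V :=
    { app := fun k => ↾fun s => a.app (op k.unop.obj) ⟨s, mem k.unop.obj.len k.unop.property s⟩
      naturality := fun k k' p => ConcreteCategory.hom_ext _ _ fun s =>
        NatTrans.naturality_apply a ((SimplexCategory.Truncated.inclusion n).op.map p)
          ⟨s, mem k.unop.obj.len k.unop.property s⟩ }
  let l := Functor.liftOfIsRightKanExtension V (𝟙 ((SimplexCategory.Truncated.inclusion n).op ⋙ V)) (Δ[m] : SSet.{u}) β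
  have hl : ∀ (k : ℕ) (hk : k ≤ n) (s : (Δ[m] : SSet.{u}) _⦋k⦌), l.app (op ⦋k⦌) s = a.app (op ⦋k⦌) ⟨s, mem k hk s⟩ :=
    fun k hk s => ConcreteCategory.congr_hom
      (Functor.liftOfIsRightKanExtension_fac_app V (𝟙 ((SimplexCategory.Truncated.inclusion n).op ⋙ V))
        (Δ[m] : SSet.{u}) β (op ⟨⦋k⦌, hk⟩)) s
  refine ⟨l, hom_ext_cosk n fun k hk => ConcreteCategory.hom_ext _ _ fun x => hl k hk x.1,
    hom_ext_cosk n fun k hk => ConcreteCategory.hom_ext _ _ fun x => ?_⟩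
  show f.app (op ⦋k⦌) (l.app (op ⦋k⦌) x) = _
  rw [hl k hk x]
  exact ConcreteCategory.congr_hom (congr_app w (op ⦋k⦌)) ⟨x, mem k hk x⟩

end

/-- A map of `n`-coskeletal simplicial sets which is bijective on simplices of dimension `< n` and
surjective on `n`-simplices is a trivial Kan fibration. -/
theorem result {U V : SSet.{u}} (f : V ⟶ U) (n : ℕ) (h1 : ∀ i : ℕ, i < n → Function.Bijective (f.app (op (SimplexCategory.mk i)))) (h2 : Function.Surjective (f.app (op (SimplexCategory.mk n)))) [SimplicialObject.IsCoskeletal U n] [SimplicialObject.IsCoskeletal V n] : SSet.modelCategoryQuillen.I.rlp f := by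
  rintro A B g ⟨m⟩
  refine ⟨fun {a b} sq => ?_⟩
  obtain ⟨l, e1, e2⟩ : ∃ l : SSet.stdSimplex.obj (SimplexCategory.mk m) ⟶ V, (SSet.boundary m).ι ≫ l = a ∧ l ≫ f = b := by
    rcases le_or_gt m n with hm | hm
    · exact exists_lift_of_le f n m hm h1 h2 a b sq.w
    · exact exists_lift_of_gt f n m hm a b sq.w
  exact ⟨⟨⟨l, e1, e2⟩⟩⟩

end Groth.Agent.S6782
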