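import Groth.Statements.S6783
import Mathlib
-- import your own Groth.Agent.* helpers here

set_option autoImplicit false
open CategoryTheory
universe u
open SSet

namespace Groth.Agent.S6783

/-- For a surjective map of sets `f : A → B`, the augmentation from the Čech nerve of `f` (with
`n`-simplices the `(n+1)`-fold fibre product of `A` over `B`) to the constant simplicial set `B` is
a trivial Kan fibration. -/
theorem result {A B : Type u} (f : A ⟶ B) (hf : Function.Surjective f) : SSet.modelCategoryQuillen.I.rlp (Arrow.mk f).augmentedCechNerve.hom := by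
  open CategoryTheory CategoryTheory.Limits Opposite Simplicial in
  have hf' := hf
  let Z : SSet.{u} := (Arrow.mk f).cechNerve
  let P : ∀ k : SimplexCategoryᵒᵖ, Fin (k.unop.len + 1) → Z.obj k → A := fun k j z =>
    WidePullback.π (B := B) (objs := fun _ : Fin (k.unop.len + 1) => A) (fun _ => f) j z
  let p : ∀ k : SimplexCategoryᵒᵖ, Z.obj k → B := fun k z =>
    WidePullback.base (B := B) (objs := fun _ : Fin (k.unop.len + 1) => A) (fun _ => f) z
  have hP : ∀ {k k' : SimplexCategoryᵒᵖ} (θ : k ⟶ k') (j) (z : Z.obj k),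
      P k' j (Z.map θ z) = P k (θ.unop.toOrderHom j) z := fun {k k'} θ j z =>
    ConcreteCategory.congr_hom (WidePullback.lift_π (fun _ : Fin (k'.unop.len + 1) => f) _ _ _ j) z
  have hp : ∀ {k k' : SimplexCategoryᵒᵖ} (θ : k ⟶ k') (z : Z.obj k), p k' (Z.map θ z) = p k z :=
    fun {k k'} θ z => ConcreteCategory.congr_hom (WidePullback.lift_base (fun _ : Fin (k'.unop.len + 1) => f) _ _ _) z
  have hPp : ∀ k j z, f (P k j z) = p k z := fun k j z =>
    ConcreteCategory.congr_hom (WidePullback.π_arrow (fun _ : Fin (k.unop.len + 1) => f) j) z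
  have hext : ∀ (k : SimplexCategoryᵒᵖ) (z z' : Z.obj k), (∀ j, P k j z = P k j z') → z = z' := by
    intro k z z' h
    refine Concrete.widePullback_ext' (fun _ : Fin (k.unop.len + 1) => f) z z' h
  intro U V i hi
  obtain ⟨m⟩ := hi
  refine ⟨fun {t b} sq => ?_⟩
  classical
  let b₀ : B := b.app (op ⦋m⦌) (SSet.stdSimplex.objEquiv.symm (𝟙 ⦋m⦌))
  have hb : ∀ k (s : (Δ[m] : SSet.{u}).obj k), b.app k s = b₀ := fun k s => by
    let e : k.unop ⟶ ⦋m⦌ := SSet.stdSimplex.objEquiv s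
    have := NatTrans.naturality_apply b e.op (SSet.stdSimplex.objEquiv.symm (𝟙 ⦋m⦌))
    have hs : (Δ[m] : SSet.{u}).map (SSet.stdSimplex.objEquiv s).op (SSet.stdSimplex.objEquiv.symm (𝟙 ⦋m⦌)) = s := by
      apply SSet.stdSimplex.objEquiv.injective
      exact Category.comp_id e
    exact (congrArg (b.app k) hs).symm.trans this
  have ht : ∀ k (s : (∂Δ[m] : SSet.{u}).obj k), p k (t.app k s) = b₀ := fun k s =>
    (ConcreteCategory.congr_hom (congr_app sq.w k) s).trans (hb k s.1)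
  let vtx : Fin (m + 1) → (Δ[m] : SSet.{u}).obj (op ⦋0⦌) := fun i =>
    SSet.stdSimplex.objEquiv.symm (SimplexCategory.const _ _ i)
  obtain ⟨a, ha, hav⟩ : ∃ a : Fin (m + 1) → A, (∀ i, f (a i) = b₀) ∧
      ∀ i (h : vtx i ∈ (∂Δ[m] : (Δ[m] : SSet.{u}).Subcomplex).obj (op ⦋0⦌)),
        a i = P (op ⦋0⦌) 0 (t.app (op ⦋0⦌) ⟨vtx i, h⟩) := by
    refine ⟨fun i => if h : vtx i ∈ (∂Δ[m] : (Δ[m] : SSet.{u}).Subcomplex).obj (op ⦋0⦌) then
      P (op ⦋0⦌) 0 (t.app (op ⦋0⦌) ⟨vtx i, h⟩) else (hf' b₀).choose, fun i => ?_, fun i h => dif_pos h⟩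
    dsimp only
    split
    · rw [hPp, ht]
    · exact (hf' b₀).choose_spec
  let z : Z.obj (op ⦋m⦌) :=
    (WidePullback.lift (B := B) (objs := fun _ : Fin (m + 1) => A) (arrows := fun _ => f) (↾fun _ : PUnit.{u + 1} => b₀) (fun i => ↾fun _ => a i)
      (fun i => by ext; exact ha i)) PUnit.unit
  have hzP : ∀ i, P (op ⦋m⦌) i z = a i := fun i =>
    ConcreteCategory.congr_hom (WidePullback.lift_π (fun _ : Fin (m + 1) => f) _ _ _ i) PUnit.unit
  have hzp : p (op ⦋m⦌) z = b₀ :=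
    ConcreteCategory.congr_hom (WidePullback.lift_base (fun _ : Fin (m + 1) => f) _ _ _) PUnit.unit
  refine ⟨⟨{ l := SSet.yonedaEquiv.symm z, fac_left := ?_, fac_right := ?_ }⟩⟩
  · ext k s
    refine hext k _ _ fun j => ?_
    let v := SimplexCategory.const ⦋0⦌ k.unop j
    have hmem : (Δ[m] : SSet.{u}).map v.op s.1 ∈ (∂Δ[m] : (Δ[m] : SSet.{u}).Subcomplex).obj (op ⦋0⦌) :=
      ((∂Δ[m] : (Δ[m] : SSet.{u}).Subcomplex).map v.op) s.2
    have heq : (Δ[m] : SSet.{u}).map v.op s.1 = vtx ((SSet.stdSimplex.objEquiv s.1).toOrderHom j) := by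
      apply SSet.stdSimplex.objEquiv.injective
      simp only [vtx, Equiv.apply_symm_apply]
      ext i
      rfl
    calc P k j (Z.map (SSet.stdSimplex.objEquiv s.1).op z)
        = P (op ⦋m⦌) ((SSet.stdSimplex.objEquiv s.1).toOrderHom j) z := hP _ _ _
      _ = P (op ⦋0⦌) 0 (t.app (op ⦋0⦌) ⟨vtx _, (heq ▸ hmem :)⟩) := (hzP _).trans (hav _ _)
      _ = P (op ⦋0⦌) 0 (t.app (op ⦋0⦌) ((∂Δ[m] : SSet.{u}).map v.op s)) := by
        congr 2
      _ = P k j (t.app k s) := by
        rw [NatTrans.naturality_apply]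
        exact hP v.op 0 _
  · ext k s
    exact ((hp (SSet.stdSimplex.objEquiv s).op z).trans hzp).trans (hb k s).symm

end Groth.Agent.S6783
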