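import Groth.Statements.S6784
import Mathlib
-- import your own Groth.Agent.* helpers here

set_option autoImplicit false
open CategoryTheory
universe u
open SSet

namespace Groth.Agent.S6784

/-- The standard simplex `Δ[n]` is `1`-coskeletal, i.e. it is the right Kan extension of its
`1`-truncation. -/
theorem result (n : ℕ) : SimplicialObject.IsCoskeletal (SSet.stdSimplex.{u}.obj (SimplexCategory.mk n)) 1 := by
  open CategoryTheory CategoryTheory.Limits Opposite Simplicial SimplexCategory.Truncated in
  constructor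
  refine Functor.RightExtension.IsPointwiseRightKanExtension.isRightKanExtension
    (E := SSet.Truncated.rightExtensionInclusion (SSet.stdSimplex.{u}.obj (SimplexCategory.mk n)) 1) fun Y => ?_
  obtain ⟨⟨m⟩⟩ := Y
  let vtx : Fin (m + 1) → StructuredArrow (op ⦋m⦌) (SimplexCategory.Truncated.inclusion 1).op := fun i =>
    StructuredArrow.mk (Y := op (⟨⦋0⦌, Nat.zero_le 1⟩ : SimplexCategory.Truncated 1)) (SimplexCategory.const _ _ i).op
  let edge : ∀ i j : Fin (m + 1), i ≤ j → StructuredArrow (op ⦋m⦌) (SimplexCategory.Truncated.inclusion 1).op := fun i j h =>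
    StructuredArrow.mk (Y := op (⟨⦋1⦌, le_refl 1⟩ : SimplexCategory.Truncated 1)) (SimplexCategory.mkOfLe i j h).op
  let face : ∀ (i j : Fin (m + 1)) (h : i ≤ j) (t : Fin 2), edge i j h ⟶ vtx ((SimplexCategory.mkOfLe i j h).toOrderHom t) :=
    fun i j h t => StructuredArrow.homMk (Hom.tr (SimplexCategory.const ⦋0⦌ ⦋1⦌ t) (Nat.zero_le 1) (le_refl 1)).op
      (Quiver.Hom.unop_inj (by ext; rfl))
  let g : ∀ (s : Cone (StructuredArrow.proj (op ⦋m⦌) (SimplexCategory.Truncated.inclusion 1).op ⋙
      (SimplexCategory.Truncated.inclusion 1).op ⋙ (Δ[n] : SSet.{u}))), s.pt → Fin (m + 1) → Fin (n + 1) :=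
    fun s x i => (SSet.stdSimplex.objEquiv (m := op ⦋0⦌) (s.π.app (vtx i) x)).toOrderHom 0
  have hg : ∀ s x, Monotone (g s x) := fun s x i j h => by
    have e0 := congrArg (fun z => (SSet.stdSimplex.objEquiv (m := op ⦋0⦌) z).toOrderHom 0)
      (ConcreteCategory.congr_hom (s.w (face i j h 0)) x)
    have e1 := congrArg (fun z => (SSet.stdSimplex.objEquiv (m := op ⦋0⦌) z).toOrderHom 0)
      (ConcreteCategory.congr_hom (s.w (face i j h 1)) x)
    exact e0.symm.le.trans
      (((SSet.stdSimplex.objEquiv (m := op ⦋1⦌) (s.π.app (edge i j h) x)).toOrderHom.monotone (Fin.zero_le _)).trans e1.le)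
  exact
    { lift := fun s => ↾fun x => SSet.stdSimplex.objEquiv.symm (SimplexCategory.mkHom ⟨g s x, hg s x⟩)
      fac := fun s j => by
        ext x
        obtain ⟨⟨i, hi⟩, ⟨f : _ ⟶ _⟩, rfl⟩ := j.mk_surjective
        apply (SSet.stdSimplex.objEquiv (m := op i)).injective
        ext t : 3
        let a : StructuredArrow.mk (Y := op (⟨i, hi⟩ : SimplexCategory.Truncated 1)) f.op ⟶ vtx (f.toOrderHom t) :=
          StructuredArrow.homMk (Hom.tr (SimplexCategory.const ⦋0⦌ i t) (Nat.zero_le 1) hi).op
            (Quiver.Hom.unop_inj (by ext; rfl))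
        exact (congrArg (fun z => (SSet.stdSimplex.objEquiv (m := op ⦋0⦌) z).toOrderHom 0)
          (ConcreteCategory.congr_hom (s.w a) x)).symm
      uniq := fun s h hh => by
        ext x
        apply (SSet.stdSimplex.objEquiv (m := op ⦋m⦌)).injective
        ext t : 3
        exact congrArg (fun z => (SSet.stdSimplex.objEquiv (m := op ⦋0⦌) z).toOrderHom 0)
          (ConcreteCategory.congr_hom (hh (vtx t)) x) }

end Groth.Agent.S6784
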