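import Groth.Statements.S6785
import Mathlib
-- import your own Groth.Agent.* helpers here

set_option autoImplicit false
open CategoryTheory
universe u
open SSet

namespace Groth.Agent.S6785

/-- A trivial Kan fibration `f : X ⟶ Y` of simplicial sets is a homotopy equivalence; more precisely it
has a section `g`, and `g ∘ f` is homotopic to the identity of `X` by a single homotopy in each
direction. (The published statement only asserts a homotopy equivalence; the section and the
one-step homotopies are what its proof constructs.) -/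
theorem result {X Y : SSet.{u}} (f : X ⟶ Y) (hf : SSet.modelCategoryQuillen.I.rlp f) : ∃ g : Y ⟶ X, g ≫ f = 𝟙 Y ∧ Nonempty (SSet.Homotopy (𝟙 X) (f ≫ g)) ∧ Nonempty (SSet.Homotopy (f ≫ g) (𝟙 X)) := by
  open CategoryTheory CategoryTheory.Limits MonoidalCategory CartesianMonoidalCategory Opposite Simplicial in
  have key : ∀ {K L : SSet.{u}} (i : K ⟶ L) [Mono i] (t : K ⟶ X) (b : L ⟶ Y), t ≫ f = i ≫ b →
      ∃ l : L ⟶ X, i ≫ l = t ∧ l ≫ f = b := by
    intro K L i _ t b w
    rw [← SSet.rlp_monomorphisms] at hf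
    haveI := hf i (MorphismProperty.monomorphisms.infer_property i)
    exact ⟨(CommSq.mk w).lift, CommSq.fac_left _, CommSq.fac_right _⟩
  obtain ⟨g, -, hg⟩ := key (⊥ : Y.Subcomplex).ι (SSet.Subcomplex.isInitialBot.to X) (𝟙 Y)
    (SSet.Subcomplex.isInitialBot.hom_ext _ _)
  have hmono : Mono (coprod.desc (SSet.ι₀ : X ⟶ X ⊗ Δ[1]) SSet.ι₁) := by
    haveI : ∀ n, Mono ((coprod.desc (SSet.ι₀ : X ⟶ X ⊗ Δ[1]) SSet.ι₁).app n) := fun n => by
      induction n using Opposite.rec with
      | op n =>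
      induction n using SimplexCategory.rec with
      | _ m =>
      have hc := isColimitOfPreserves ((evaluation SimplexCategoryᵒᵖ (Type u)).obj (op ⦋m⦌))
        (coprodIsCoprod X X)
      rw [mono_iff_injective]
      intro a b hab
      obtain ⟨⟨⟨⟩⟩, x, rfl⟩ := Types.jointly_surjective_of_isColimit hc a <;>
        obtain ⟨⟨⟨⟩⟩, y, rfl⟩ := Types.jointly_surjective_of_isColimit hc b
      all_goals
        have e0 : ∀ x, (coprod.desc (SSet.ι₀ : X ⟶ X ⊗ Δ[1]) SSet.ι₁).app (op ⦋m⦌)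
            ((coprod.inl : X ⟶ X ⨿ X).app (op ⦋m⦌) x) = (SSet.ι₀ : X ⟶ X ⊗ Δ[1]).app _ x := fun x =>
          (ConcreteCategory.comp_apply ((coprod.inl : X ⟶ X ⨿ X).app _) _ x).symm.trans
            (ConcreteCategory.congr_hom (congr_app (coprod.inl_desc (SSet.ι₀ : X ⟶ X ⊗ Δ[1]) SSet.ι₁) (op ⦋m⦌)) x)
        have e1 : ∀ x, (coprod.desc (SSet.ι₀ : X ⟶ X ⊗ Δ[1]) SSet.ι₁).app (op ⦋m⦌)
            ((coprod.inr : X ⟶ X ⨿ X).app (op ⦋m⦌) x) = (SSet.ι₁ : X ⟶ X ⊗ Δ[1]).app _ x := fun x =>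
          (ConcreteCategory.comp_apply ((coprod.inr : X ⟶ X ⨿ X).app _) _ x).symm.trans
            (ConcreteCategory.congr_hom (congr_app (coprod.inr_desc (SSet.ι₀ : X ⟶ X ⊗ Δ[1]) SSet.ι₁) (op ⦋m⦌)) x)
      · exact congrArg _ (congrArg Prod.fst ((e0 x).symm.trans (hab.trans (e0 y))))
      · have h := congrArg (fun z => (z.2 : (Δ[1] : SSet.{u}) _⦋m⦌) 0) ((e0 x).symm.trans (hab.trans (e1 y)))
        simp at h
      · have h := congrArg (fun z => (z.2 : (Δ[1] : SSet.{u}) _⦋m⦌) 0) ((e1 x).symm.trans (hab.trans (e0 y)))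
        simp at h
      · exact congrArg _ (congrArg Prod.fst ((e1 x).symm.trans (hab.trans (e1 y))))
    exact NatTrans.mono_of_mono_app _
  have hfg : (f ≫ g) ≫ f = f := by rw [Category.assoc, hg, Category.comp_id]
  have hhom : ∀ a b : X ⟶ X, a ≫ f = f → b ≫ f = f → Nonempty (SSet.Homotopy a b) := by
    intro a b ha hb
    obtain ⟨l, hl, -⟩ := key (coprod.desc (SSet.ι₀ : X ⟶ X ⊗ Δ[1]) SSet.ι₁) (coprod.desc a b) (fst X _ ≫ f) (by
      ext <;> simp [ha, hb, reassoc_of% SSet.ι₀_fst, reassoc_of% SSet.ι₁_fst])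
    exact ⟨{ h := l
             h₀ := ((Category.assoc _ _ _).symm.trans (congrArg (· ≫ l) (coprod.inl_desc _ _))).symm.trans
               ((congrArg (fun z => coprod.inl ≫ z) hl).trans (coprod.inl_desc _ _))
             h₁ := ((Category.assoc _ _ _).symm.trans (congrArg (· ≫ l) (coprod.inr_desc _ _))).symm.trans
               ((congrArg (fun z => coprod.inr ≫ z) hl).trans (coprod.inr_desc _ _))
             rel := by
               ext n ⟨⟨_, h⟩, _⟩
               exact h.elim }⟩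
  exact ⟨g, hg, hhom _ _ (Category.id_comp f) hfg, hhom _ _ hfg (Category.id_comp f)⟩

end Groth.Agent.S6785
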