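import Groth.Statements.S6786
import Groth.Agent.InvLimLib.Basic
-- import your own Groth.Agent.* helpers here

set_option autoImplicit false
open CategoryTheory CategoryTheory.Limits
universe u
open HomAlg3

namespace Groth.Agent.S6786

/-- For a sequence `(A_i) ⟶ (B_i) ⟶ (C_i) ⟶ (D_i)` of inverse systems of abelian groups over `ℕ` that is
exact levelwise at the two middle places, if `(A_i)` is Mittag-Leffler then `lim B_i ⟶ lim C_i ⟶ lim
D_i` is exact. -/
theorem result {A B C D : ℕᵒᵖ ⥤ AddCommGrpCat.{u}} (a : A ⟶ B) (b : B ⟶ C) (c : C ⟶ D) (hB : ∀ i, (b.app i).hom.ker = (a.app i).hom.range) (hC : ∀ i, (c.app i).hom.ker = (b.app i).hom.range) (hA : (A ⋙ forget AddCommGrpCat).IsMittagLeffler) : (limMap c).hom.ker = (limMap b).hom.range := by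
  have hcof : ∃ s : Set ℕ, s.Countable ∧ ∀ i, ∃ j ∈ s, i ≤ j := ⟨Set.univ, Set.countable_univ, fun i => ⟨i, trivial, le_rfl⟩⟩
  have hπ : ∀ {X Y : ℕᵒᵖ ⥤ AddCommGrpCat.{u}} (f : X ⟶ Y) (j : ℕᵒᵖ) (w : ↑(CategoryTheory.Limits.limit X)),
      (CategoryTheory.Limits.limit.π Y j).hom ((CategoryTheory.Limits.limMap f).hom w) =
        (f.app j).hom ((CategoryTheory.Limits.limit.π X j).hom w) := fun f j w => by
    show (CategoryTheory.Limits.limMap f ≫ CategoryTheory.Limits.limit.π _ j).hom w = _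
    rw [CategoryTheory.Limits.limMap_π]; rfl
  ext z
  constructor
  · intro hz
    have hmem : ∀ i, ∃ y, (b.app (Opposite.op i)).hom y = (CategoryTheory.Limits.limit.π C (Opposite.op i)).hom z := fun i => by
      have : (CategoryTheory.Limits.limit.π C (Opposite.op i)).hom z ∈ (c.app (Opposite.op i)).hom.ker := by
        rw [AddMonoidHom.mem_ker, ← hπ, AddMonoidHom.mem_ker.1 hz, map_zero]
      rwa [hC] at this
    obtain ⟨y, hy, hby⟩ := Groth.Agent.InvLimLib.exists_lift hcof a b hB hA _ (Groth.Agent.InvLimLib.compat_of_limit C z) hmem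
    obtain ⟨w, hw⟩ := Groth.Agent.InvLimLib.exists_limit B hy
    refine ⟨w, CategoryTheory.Limits.Concrete.limit_ext C _ _ fun ⟨i⟩ => ?_⟩
    show (CategoryTheory.Limits.limit.π C (Opposite.op i)).hom _ = _
    rw [hπ, hw, hby]
  · rintro ⟨w, rfl⟩
    refine CategoryTheory.Limits.Concrete.limit_ext D _ _ fun j => ?_
    show (CategoryTheory.Limits.limit.π D j).hom _ = (CategoryTheory.Limits.limit.π D j).hom 0
    rw [hπ, hπ, map_zero, ← AddMonoidHom.mem_ker, hC]
    exact ⟨_, rfl⟩

end Groth.Agent.S6786
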