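import Groth.Statements.S6787
import Groth.Agent.InvLimLib.Basic
-- import your own Groth.Agent.* helpers here

set_option autoImplicit false
open CategoryTheory CategoryTheory.Limits
universe u
open HomAlg3

namespace Groth.Agent.S6787

/-- Take inverse systems `(A_i)`, `(B_i)`, `(C_i)` of abelian groups over `ℕ`, with morphisms of systems
`(A_i) ⟶ (B_i) ⟶ (C_i)` that give a short exact sequence at every index, and suppose `(C_i)` is
essentially constant. Then `(A_i)` is Mittag-Leffler if and only if `(B_i)` is. -/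
theorem result {A B C : ℕᵒᵖ ⥤ AddCommGrpCat.{u}} (a : A ⟶ B) (b : B ⟶ C) (ha : ∀ i, Function.Injective (a.app i).hom) (hb : ∀ i, Function.Surjective (b.app i).hom) (hex : ∀ i, (b.app i).hom.ker = (a.app i).hom.range) (hC : ∃ (C₀ : AddCommGrpCat.{u}) (c : (Functor.const ℕᵒᵖ).obj C₀ ⟶ C), DerCA.IsEssConstant C C₀ c) : (A ⋙ forget AddCommGrpCat).IsMittagLeffler ↔ (B ⋙ forget AddCommGrpCat).IsMittagLeffler := by
  obtain ⟨C₀, c, i₀, s, hs, hess⟩ := hC
  have hid : ∀ y, s.hom ((c.app (Opposite.op i₀)).hom y) = y := fun y => ConcreteCategory.congr_hom hs y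
  have hcc : ∀ {x z : ℕ} (h : x ≤ z) (y), Groth.Agent.InvLimLib.tr C h ((c.app (Opposite.op z)).hom y) = (c.app (Opposite.op x)).hom y := fun h y =>
    (Groth.Agent.InvLimLib.tr_nat c h y).symm
  have hess' : ∀ j, ∃ (k : ℕ) (hi : i₀ ≤ k) (hj : j ≤ k), ∀ y, Groth.Agent.InvLimLib.tr C hj y = (c.app (Opposite.op j)).hom (s.hom (Groth.Agent.InvLimLib.tr C hi y)) := fun j => by
    obtain ⟨k, hi, hj, e⟩ := hess j
    exact ⟨k, hi, hj, fun y => ConcreteCategory.congr_hom e y⟩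
  constructor
  · intro hA
    rw [Groth.Agent.InvLimLib.ml_iff] at hA ⊢
    intro i
    obtain ⟨j, hij, hj⟩ := hA i
    obtain ⟨l, hl0, hjl, hl⟩ := hess' j
    refine ⟨l, hij.trans hjl, fun k hk x => ?_⟩
    obtain ⟨m, hkm, hjm⟩ := exists_ge_ge k j
    obtain ⟨bb, hb0⟩ := hb (Opposite.op m) ((c.app (Opposite.op m)).hom (s.hom (Groth.Agent.InvLimLib.tr C hl0 ((b.app (Opposite.op l)).hom x))))
    have hd : Groth.Agent.InvLimLib.tr B hjl x - Groth.Agent.InvLimLib.tr B hjm bb ∈ (a.app (Opposite.op j)).hom.range := by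
      rw [← hex, AddMonoidHom.mem_ker, map_sub, Groth.Agent.InvLimLib.tr_nat b, Groth.Agent.InvLimLib.tr_nat b, hb0, hcc, hl, sub_self]
    obtain ⟨a0, ha0⟩ := hd
    obtain ⟨a', ha'⟩ := hj k hk a0
    refine ⟨Groth.Agent.InvLimLib.tr B hkm bb + (a.app (Opposite.op k)).hom a', ?_⟩
    rw [map_add, Groth.Agent.InvLimLib.tr_tr, ← Groth.Agent.InvLimLib.tr_nat a, ha', Groth.Agent.InvLimLib.tr_nat a, ha0, map_sub, Groth.Agent.InvLimLib.tr_tr, Groth.Agent.InvLimLib.tr_tr]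
    abel
  · intro hB
    rw [Groth.Agent.InvLimLib.ml_iff] at hB ⊢
    intro i
    obtain ⟨i', hii', hi'0⟩ := exists_ge_ge i i₀
    obtain ⟨j, hj0, hj⟩ := hB i'
    refine ⟨j, hii'.trans hj0, fun k hk x => ?_⟩
    obtain ⟨k', hkk', hik'⟩ := exists_ge_ge k i'
    obtain ⟨p, hp0, hkp, hp⟩ := hess' k'
    obtain ⟨w, hw⟩ := hj p (hik'.trans hkp) ((a.app (Opposite.op j)).hom x)
    set y := s.hom (Groth.Agent.InvLimLib.tr C hp0 ((b.app (Opposite.op p)).hom w))
    have hker : ∀ x', (b.app (Opposite.op i')).hom ((a.app (Opposite.op i')).hom x') = 0 := fun x' =>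
      AddMonoidHom.mem_ker.1 (by rw [hex]; exact ⟨_, rfl⟩)
    have h1 : (c.app (Opposite.op i')).hom y = 0 := by
      rw [← hcc hik', ← hp, Groth.Agent.InvLimLib.tr_tr, ← Groth.Agent.InvLimLib.tr_nat b, hw, ← Groth.Agent.InvLimLib.tr_nat a, hker]
    have hy : y = 0 := by
      rw [← hid y, ← hcc hi'0, h1, map_zero, map_zero]
    have h2 : Groth.Agent.InvLimLib.tr B hkp w ∈ (a.app (Opposite.op k')).hom.range := by
      rw [← hex, AddMonoidHom.mem_ker, Groth.Agent.InvLimLib.tr_nat b, hp]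
      show (c.app (Opposite.op k')).hom y = 0
      rw [hy, map_zero]
    obtain ⟨a', ha'⟩ := h2
    have h3 : Groth.Agent.InvLimLib.tr A hik' a' = Groth.Agent.InvLimLib.tr A hj0 x := ha (Opposite.op i') (by
      rw [Groth.Agent.InvLimLib.tr_nat a, ha', Groth.Agent.InvLimLib.tr_tr, hw, Groth.Agent.InvLimLib.tr_nat a])
    refine ⟨Groth.Agent.InvLimLib.tr A hkk' a', ?_⟩
    rw [Groth.Agent.InvLimLib.tr_tr, ← Groth.Agent.InvLimLib.tr_tr A hii' hik', h3, Groth.Agent.InvLimLib.tr_tr]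

end Groth.Agent.S6787
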