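import Groth.Statements.S6788
import Mathlib
-- import your own Groth.Agent.* helpers here

set_option autoImplicit false
open CategoryTheory CategoryTheory.Limits
universe v u v' u'
open CategoryTheory CategoryTheory.Localization

namespace Groth.Agent.S6788

/-- For a multiplicative system `W` (left and right calculus of fractions) in a preadditive category
with a zero object and its localization functor `L`, an object `X` becomes zero in the localization
iff some zero map out of `X` lies in `W`, iff some zero map into `X` lies in `W`. (The published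
statement assumes the category additive; only the zero object and the preadditive structure are
used.) -/
theorem result {C : Type u} [Category.{v} C] [Preadditive C] [HasZeroObject C] {D : Type u'} [Category.{v'} D] (L : C ⥤ D) (W : MorphismProperty C) [W.HasLeftCalculusOfFractions] [W.HasRightCalculusOfFractions] [L.IsLocalization W] (X : C) : (IsZero (L.obj X) ↔ ∃ Y : C, W (0 : X ⟶ Y)) ∧ (IsZero (L.obj X) ↔ ∃ Z : C, W (0 : Z ⟶ X)) := by
  let Z : C := (HasZeroObject.zero' C).1
  obtain ⟨Z, hZ⟩ := HasZeroObject.zero (C := C)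
  haveI := Localization.essSurj L W
  have hfrom : ∀ (d : D) (a b : L.obj Z ⟶ d), a = b := by
    intro d a b
    rw [← cancel_mono (L.objObjPreimageIso d).inv]
    have key : ∀ u : L.obj Z ⟶ L.obj (L.objPreimage d), u = L.map 0 := by
      intro u
      obtain ⟨φ, hφ⟩ := Localization.exists_leftFraction L W u
      rw [hφ]
      haveI := Localization.inverts L W φ.s φ.hs
      rw [← cancel_mono (L.map φ.s), MorphismProperty.LeftFraction.map_comp_map_s, ← L.map_comp, zero_comp,
        hZ.eq_of_src φ.f 0]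
    rw [key (a ≫ _), key (b ≫ _)]
  have hto : ∀ (d : D) (a b : d ⟶ L.obj Z), a = b := by
    intro d a b
    rw [← cancel_epi (L.objObjPreimageIso d).hom]
    have key : ∀ u : L.obj (L.objPreimage d) ⟶ L.obj Z, u = L.map 0 := by
      intro u
      obtain ⟨φ, hφ⟩ := Localization.exists_rightFraction L W u
      rw [hφ]
      haveI := Localization.inverts L W φ.s φ.hs
      rw [← cancel_epi (L.map φ.s), MorphismProperty.RightFraction.map_s_comp_map, ← L.map_comp, comp_zero,
        hZ.eq_of_tgt φ.f 0]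
    rw [key (_ ≫ a), key (_ ≫ b)]
  have mkzero : ∀ {A B : C} (h : W (0 : A ⟶ B)), IsZero (L.obj A) ∧ IsZero (L.obj B) := by
    intro A B h
    haveI := Localization.inverts L W _ h
    have hf : L.map (0 : A ⟶ B) = L.map (0 : A ⟶ Z) ≫ L.map (0 : Z ⟶ B) := by
      rw [← L.map_comp, comp_zero]
    have uA : 𝟙 (L.obj A) = L.map (0 : A ⟶ Z) ≫ (L.map (0 : Z ⟶ B) ≫ inv (L.map (0 : A ⟶ B))) := by
      rw [← Category.assoc, ← hf, IsIso.hom_inv_id]
    have uB : 𝟙 (L.obj B) = (inv (L.map (0 : A ⟶ B)) ≫ L.map (0 : A ⟶ Z)) ≫ L.map (0 : Z ⟶ B) := by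
      rw [Category.assoc, ← hf, IsIso.inv_hom_id]
    have gen : ∀ (d : D) (i : d ⟶ L.obj Z) (r : L.obj Z ⟶ d), 𝟙 d = i ≫ r → IsZero d := fun d i r e =>
      ⟨fun T => ⟨⟨⟨i ≫ L.map (0 : Z ⟶ Z) ≫ (L.map (0 : Z ⟶ L.objPreimage T) ≫ (L.objObjPreimageIso T).hom)⟩,
        fun u => by
          rw [← Category.id_comp u, e, Category.assoc]
          exact congrArg (i ≫ ·) (hfrom T _ _)⟩⟩,
       fun T => ⟨⟨⟨((L.objObjPreimageIso T).inv ≫ L.map (0 : L.objPreimage T ⟶ Z)) ≫ r⟩,
        fun u => by
          rw [← Category.comp_id u, e, ← Category.assoc]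
          exact congrArg (· ≫ r) (hto T _ _)⟩⟩⟩
    exact ⟨gen _ _ _ uA, gen _ _ _ uB⟩
  constructor
  · constructor
    · intro h
      have e : L.map (𝟙 X) = L.map (0 : X ⟶ X) := h.eq_of_src _ _
      obtain ⟨Y, s, hs, hs'⟩ := (MorphismProperty.map_eq_iff_postcomp L W _ _).1 e
      rw [Category.id_comp, zero_comp] at hs'
      exact ⟨Y, hs' ▸ hs⟩
    · rintro ⟨Y, h⟩; exact (mkzero h).1
  · constructor
    · intro h
      have e : L.map (𝟙 X) = L.map (0 : X ⟶ X) := h.eq_of_src _ _
      obtain ⟨Y, s, hs, hs'⟩ := (MorphismProperty.map_eq_iff_precomp L W _ _).1 e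
      rw [Category.comp_id, comp_zero] at hs'
      exact ⟨Y, hs' ▸ hs⟩
    · rintro ⟨Y, h⟩; exact (mkzero h).2

end Groth.Agent.S6788
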