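import Groth.Statements.S6789
import Mathlib

set_option autoImplicit false
open CategoryTheory CategoryTheory.Limits
universe v u
open CategoryTheory CategoryTheory.SimplicialObject

namespace Groth.Agent.S6789

section

variable {C : Type u} [Category.{v} C] {f : Arrow C}
  [∀ n : ℕ, HasWidePullback f.right (fun _ : Fin (n + 1) => f.left) fun _ => f.hom]
  (a b : f ⟶ f) (ha : a.right = 𝟙 f.right) (hb : b.right = 𝟙 f.right)

/-- The index of the factor. -/
def idx {n : ℕ} (i : Fin (n + 1)) (k : Fin (n + 2)) : Fin (n + 1) :=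
  ⟨if (k : ℕ) ≤ i then k else k - 1, by split_ifs <;> omega⟩

theorem val_predAbove {n : ℕ} (i : Fin n) (k : Fin (n + 1)) :
    (i.predAbove k : ℕ) = if (i : ℕ) < k then (k : ℕ) - 1 else k := by
  rcases Nat.lt_or_ge (i : ℕ) k with h | h
  · rw [if_pos h, Fin.predAbove_of_castSucc_lt i k (by simpa [Fin.lt_def] using h)]
    simp
  · rw [if_neg (by omega), Fin.predAbove_of_le_castSucc i k (by simpa [Fin.le_def] using h)]
    simp

theorem val_succAbove {n : ℕ} (i : Fin (n + 1)) (k : Fin n) :
    (i.succAbove k : ℕ) = if (k : ℕ) < i then (k : ℕ) else k + 1 := by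
  simp only [Fin.succAbove, Fin.lt_def, Fin.val_castSucc]
  split_ifs <;> simp

include ha hb in
theorem nonempty_homotopy :
    Nonempty (SimplicialObject.Homotopy (Arrow.mapCechNerve a) (Arrow.mapCechNerve b)) := by
  have wa : a.left ≫ f.hom = f.hom := by
    have := a.w; rw [ha] at this; exact this.trans (Category.comp_id _)
  have wb : b.left ≫ f.hom = f.hom := by
    have := b.w; rw [hb] at this; exact this.trans (Category.comp_id _)
  let m : ∀ {n : ℕ}, Fin (n + 1) → Fin (n + 2) → (f.left ⟶ f.left) := fun i k =>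
    if (k : ℕ) ≤ i then a.left else b.left
  let P : ∀ n : ℕ, Fin (n + 1) → (widePullback f.right (fun _ : Fin (n + 1) => f.left) (fun _ => f.hom) ⟶ f.left) :=
    fun n k => WidePullback.π (fun _ : Fin (n + 1) => f.hom) k
  let h : ∀ {n : ℕ} (i : Fin (n + 1)), f.cechNerve.obj (Opposite.op (SimplexCategory.mk n)) ⟶
      f.cechNerve.obj (Opposite.op (SimplexCategory.mk (n + 1))) := fun {n} i =>
    WidePullback.lift (WidePullback.base _) (fun k => P n (idx i k) ≫ m i k) (fun k => by
      rw [Category.assoc]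
      show P n _ ≫ (if _ then a.left else b.left) ≫ f.hom = _
      split_ifs <;> simp only [wa, wb] <;> exact WidePullback.π_arrow _ _)
  have hπ : ∀ {n : ℕ} (i : Fin (n + 1)) (k : Fin (n + 2)), h i ≫ P (n + 1) k = P n (idx i k) ≫ m i k :=
    fun i k => WidePullback.lift_π _ _ _ _ _
  have hbase : ∀ {n : ℕ} (i : Fin (n + 1)), h i ≫ WidePullback.base _ = WidePullback.base _ :=
    fun i => WidePullback.lift_base _ _ _ _
  have dπ : ∀ {n : ℕ} (i : Fin (n + 2)) (k : Fin (n + 1)), f.cechNerve.δ i ≫ P n k = P (n + 1) (i.succAbove k) :=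
    fun i k => WidePullback.lift_π _ _ _ _ _
  have dbase : ∀ {n : ℕ} (i : Fin (n + 2)), f.cechNerve.δ i ≫ WidePullback.base _ = WidePullback.base _ :=
    fun i => WidePullback.lift_base _ _ _ _
  have sπ : ∀ {n : ℕ} (i : Fin (n + 1)) (k : Fin (n + 2)), f.cechNerve.σ i ≫ P (n + 1) k = P n (i.predAbove k) :=
    fun i k => WidePullback.lift_π _ _ _ _ _
  have sbase : ∀ {n : ℕ} (i : Fin (n + 1)), f.cechNerve.σ i ≫ WidePullback.base _ = WidePullback.base _ :=
    fun i => WidePullback.lift_base _ _ _ _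
  have hmπ : ∀ (c : f ⟶ f) (n : ℕ) (k : Fin (n + 1)),
      (Arrow.mapCechNerve c).app (Opposite.op (SimplexCategory.mk n)) ≫ P n k = P n k ≫ c.left :=
    fun c n k => WidePullback.lift_π _ _ _ _ _
  have key : ∀ {N n n' : ℕ} (p q : Fin (N + 1)) (i : Fin (n + 1)) (k : Fin (n + 2)) (i' : Fin (n' + 1))
      (k' : Fin (n' + 2)), (p : ℕ) = q → ((k : ℕ) ≤ i ↔ (k' : ℕ) ≤ i') → P N p ≫ m i k = P N q ≫ m i' k' := by
    intro N n n' p q i k i' k' hpq hc
    obtain rfl := Fin.ext hpq
    simp only [m, hc]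
  refine ⟨{ h := h, h_zero_comp_δ_zero := ?_, h_last_comp_δ_last := ?_,
            h_succ_comp_δ_castSucc_of_lt := ?_, h_succ_comp_δ_castSucc_succ := ?_,
            h_castSucc_comp_δ_succ_of_lt := ?_, h_comp_σ_castSucc_of_le := ?_, h_comp_σ_succ_of_lt := ?_ }⟩
  · intro n
    refine WidePullback.hom_ext _ _ _ (fun (k : Fin (n + 1)) => ?_) ?_
    · show (h 0 ≫ f.cechNerve.δ 0) ≫ P n k = _
      rw [Category.assoc, dπ, hπ]
      refine Eq.trans ?_ (hmπ _ n k).symm
      have e : idx (0 : Fin (n + 1)) ((0 : Fin (n + 2)).succAbove k) = k := by ext; simp [idx]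
      rw [e]
      simp [m, P]
    · show (h 0 ≫ f.cechNerve.δ 0) ≫ WidePullback.base _ = _
      rw [Category.assoc, dbase, hbase]
      refine Eq.trans ?_ (WidePullback.lift_base _ _ _ _).symm
      rw [hb, Category.comp_id]
  · intro n
    refine WidePullback.hom_ext _ _ _ (fun (k : Fin (n + 1)) => ?_) ?_
    · show (h (Fin.last n) ≫ f.cechNerve.δ (Fin.last (n + 1))) ≫ P n k = _
      rw [Category.assoc, dπ, hπ]
      refine Eq.trans ?_ (hmπ _ n k).symm
      have hk : (k : ℕ) ≤ n := Nat.lt_succ_iff.1 k.isLt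
      have e : idx (Fin.last n) ((Fin.last (n + 1)).succAbove k) = k := by ext; simp [idx, hk]
      rw [e]
      simp [m, P, hk]
    · show (h (Fin.last n) ≫ f.cechNerve.δ (Fin.last (n + 1))) ≫ WidePullback.base _ = _
      rw [Category.assoc, dbase, hbase]
      refine Eq.trans ?_ (WidePullback.lift_base _ _ _ _).symm
      rw [ha, Category.comp_id]
  all_goals intros
  all_goals refine WidePullback.hom_ext _ _ _ (fun (k : Fin _) => ?_) ?_
  all_goals try (simp only [Category.assoc, dbase, sbase, hbase]; done)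
  · show (_ ≫ f.cechNerve.δ _) ≫ P _ k = (_ ≫ _) ≫ P _ k
    rw [Category.assoc, Category.assoc, dπ, hπ, hπ, ← Category.assoc (f.cechNerve.δ _), dπ]
    apply key <;> simp only [idx, val_succAbove, val_predAbove, Fin.lt_def, Fin.le_def, Fin.val_succ, Fin.val_castSucc] at * <;>
      split_ifs <;> omega
  · show (_ ≫ f.cechNerve.δ _) ≫ P _ k = (_ ≫ _) ≫ P _ k
    rw [Category.assoc, Category.assoc, dπ, hπ, hπ]
    apply key <;> simp only [idx, val_succAbove, val_predAbove, Fin.lt_def, Fin.le_def, Fin.val_succ, Fin.val_castSucc] at * <;>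
      split_ifs <;> omega
  · show (_ ≫ f.cechNerve.δ _) ≫ P _ k = (_ ≫ _) ≫ P _ k
    rw [Category.assoc, Category.assoc, dπ, hπ, hπ, ← Category.assoc (f.cechNerve.δ _), dπ]
    apply key <;> simp only [idx, val_succAbove, val_predAbove, Fin.lt_def, Fin.le_def, Fin.val_succ, Fin.val_castSucc] at * <;>
      split_ifs <;> omega
  · show (_ ≫ f.cechNerve.σ _) ≫ P _ k = (_ ≫ _) ≫ P _ k
    rw [Category.assoc, Category.assoc, sπ, hπ, hπ, ← Category.assoc (f.cechNerve.σ _), sπ]
    apply key <;> simp only [idx, val_succAbove, val_predAbove, Fin.lt_def, Fin.le_def, Fin.val_succ, Fin.val_castSucc] at * <;>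
      split_ifs <;> omega
  · show (_ ≫ f.cechNerve.σ _) ≫ P _ k = (_ ≫ _) ≫ P _ k
    rw [Category.assoc, Category.assoc, sπ, hπ, hπ, ← Category.assoc (f.cechNerve.σ _), sπ]
    apply key <;> simp only [idx, val_succAbove, val_predAbove, Fin.lt_def, Fin.le_def, Fin.val_succ, Fin.val_castSucc] at * <;>
      split_ifs <;> omega

end

/-- For a morphism `f : Y ⟶ X` with a section `s`, the endomorphism of the Čech nerve of `f` (the
simplicial object of iterated fibre products of `Y` over `X`) that applies `s ∘ f` factorwise admits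
simplicial homotopies to and from the identity: the published formula gives one direction and its
mirror image (exchange the roles of the identity and `s ∘ f`) gives the other. -/
theorem result {C : Type u} [Category.{v} C] {Y X : C} (f : Y ⟶ X) (s : X ⟶ Y) (hs : s ≫ f = 𝟙 X) [∀ n : ℕ, HasWidePullback (Arrow.mk f).right (fun _ : Fin (n + 1) => (Arrow.mk f).left) (fun _ => (Arrow.mk f).hom)] (φ : Arrow.mk f ⟶ Arrow.mk f) (hφl : φ.left = f ≫ s) (hφr : φ.right = 𝟙 X) : Nonempty (SimplicialObject.Homotopy (𝟙 (Arrow.mk f).cechNerve) (Arrow.mapCechNerve φ)) ∧ Nonempty (SimplicialObject.Homotopy (Arrow.mapCechNerve φ) (𝟙 (Arrow.mk f).cechNerve)) := by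
  have h1 : Arrow.mapCechNerve (𝟙 (Arrow.mk f)) = 𝟙 (Arrow.mk f).cechNerve := by
    ext n
    refine WidePullback.hom_ext _ _ _ (fun k => ?_) ?_
    · exact (WidePullback.lift_π _ _ _ _ _).trans ((Category.comp_id _).trans (Category.id_comp _).symm)
    · exact (WidePullback.lift_base _ _ _ _).trans ((Category.comp_id _).trans (Category.id_comp _).symm)
  rw [← h1]
  exact ⟨nonempty_homotopy _ φ rfl hφr, nonempty_homotopy φ _ hφr rfl⟩

end Groth.Agent.S6789
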