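import Groth.Statements.S6790
import Mathlib

open CategoryTheory CategoryTheory.Limits CategoryTheory.MonoidalCategory

set_option autoImplicit false
open CategoryTheory CategoryTheory.Limits MonoidalCategory
universe v u
open CategoryTheory CategoryTheory.Monoidal

namespace Groth.Agent.S6790

/-- In an idempotent-complete additive monoidal category, a direct summand of an object admitting a dual
(with coevaluation `𝟙_ A ⟶ X ⊗ Y` and evaluation `Y ⊗ X ⟶ 𝟙_ A`) again admits such a dual. -/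
theorem result {A : Type u} [Category.{v} A] [Preadditive A] [HasFiniteBiproducts A] [MonoidalCategory A] [MonoidalPreadditive A] [IsIdempotentComplete A] {X X₁ : A} (i : X₁ ⟶ X) (p : X ⟶ X₁) (hip : i ≫ p = 𝟙 X₁) [HasRightDual X] : Nonempty (HasRightDual X₁) := by
  let e : X ⟶ X := p ≫ i
  have he : e ≫ e = e := by simp [e, reassoc_of% hip]
  have he' : (eᘁ) ≫ (eᘁ) = eᘁ := by rw [← comp_rightAdjointMate, he]
  obtain ⟨Y₁, j, q, hjq, hqj⟩ := IsIdempotentComplete.idempotents_split (Xᘁ) (eᘁ) he'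
  have hv : (eᘁ) ▷ X ≫ ε_ X (Xᘁ) = (Xᘁ) ◁ e ≫ ε_ X (Xᘁ) := rightAdjointMate_comp_evaluation e
  have hje : j ≫ (eᘁ) = j := by rw [← hqj, reassoc_of% hjq]
  have heq : (eᘁ) ≫ q = q := by rw [← hqj, Category.assoc, hjq, Category.comp_id]
  refine ⟨{ rightDual := Y₁, exact := ?_ }⟩
  refine
    { coevaluation' := η_ X (Xᘁ) ≫ (p ⊗ₘ q)
      evaluation' := (j ⊗ₘ i) ≫ ε_ X (Xᘁ)
      coevaluation_evaluation' := ?_
      evaluation_coevaluation' := ?_ }
  · have h1 : (j ⊗ₘ e) ≫ ε_ X (Xᘁ) = j ▷ X ≫ ε_ X (Xᘁ) := by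
      rw [MonoidalCategory.tensorHom_def, Category.assoc, ← hv, ← comp_whiskerRight_assoc, hje]
    calc _ = Y₁ ◁ η_ X (Xᘁ) ≫ (α_ _ _ _).inv ≫ (((j ⊗ₘ e) ≫ ε_ X (Xᘁ)) ⊗ₘ q) := by
          rw [MonoidalCategory.whiskerLeft_comp, ← id_tensorHom Y₁ (p ⊗ₘ q), ← tensorHom_id]
          simp only [Category.assoc]
          rw [MonoidalCategory.associator_inv_naturality_assoc, tensorHom_comp_tensorHom, ← Category.assoc (𝟙 Y₁ ⊗ₘ p), tensorHom_comp_tensorHom, Category.id_comp, Category.comp_id]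
    _ = _ := by
          rw [h1, MonoidalCategory.tensorHom_def, comp_whiskerRight, Category.assoc, ← MonoidalCategory.associator_inv_naturality_left_assoc, whisker_exchange_assoc, ExactPairing.coevaluation_evaluation_assoc, MonoidalCategory.rightUnitor_naturality_assoc, ← MonoidalCategory.leftUnitor_inv_naturality, reassoc_of% hjq]
  · have h1 : ((eᘁ) ⊗ₘ i) ≫ ε_ X (Xᘁ) = (Xᘁ) ◁ i ≫ ε_ X (Xᘁ) := by
      rw [MonoidalCategory.tensorHom_def', Category.assoc, hv, ← MonoidalCategory.whiskerLeft_comp_assoc]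
      congr 2
      simp [e, reassoc_of% hip]
    calc _ = η_ X (Xᘁ) ▷ X₁ ≫ (α_ _ _ _).hom ≫ (p ⊗ₘ ((eᘁ) ⊗ₘ i) ≫ ε_ X (Xᘁ)) := by
          rw [comp_whiskerRight, ← tensorHom_id (p ⊗ₘ q), ← id_tensorHom X₁]
          simp only [Category.assoc]
          rw [MonoidalCategory.associator_naturality_assoc, tensorHom_comp_tensorHom, ← Category.assoc (q ⊗ₘ 𝟙 X₁), tensorHom_comp_tensorHom, hqj, Category.id_comp, Category.comp_id]
    _ = _ := by
          rw [h1, MonoidalCategory.tensorHom_def', MonoidalCategory.whiskerLeft_comp, Category.assoc, ← MonoidalCategory.associator_naturality_right_assoc, ← whisker_exchange_assoc, ExactPairing.evaluation_coevaluation_assoc, MonoidalCategory.leftUnitor_naturality_assoc, ← MonoidalCategory.rightUnitor_inv_naturality, reassoc_of% hip]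

end Groth.Agent.S6790
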