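import Groth.Statements.S6791
import Mathlib
-- import your own Groth.Agent.* helpers here

set_option autoImplicit false
open CategoryTheory CategoryTheory.Limits
universe v u v' u' v'' u''
open CategoryTheory CategoryTheory.SerreClass

namespace Groth.Agent.S6791

/-- For an exact functor `F : A ⥤ B` of abelian categories and a Serre class `P` of `A` killed by `F`,
with `L : A ⥤ Q` a model of the quotient `A/P` and `Fbar : Q ⥤ B` the induced functor, `P` is
exactly the kernel of `F` if and only if `Fbar` is faithful. -/
theorem result {A : Type u} [Category.{v} A] [Abelian A] {B : Type u'} [Category.{v'} B] [Abelian B] (F : A ⥤ B) [F.Additive] [PreservesFiniteLimits F] [PreservesFiniteColimits F] (P : ObjectProperty A) [P.IsSerreClass] (hP : ∀ X : A, P X → IsZero (F.obj X)) {Q : Type u''} [Category.{v''} Q] [Abelian Q] (L : A ⥤ Q) [L.IsLocalization P.isoModSerre] [L.Additive] [PreservesFiniteLimits L] [PreservesFiniteColimits L] (Fbar : Q ⥤ B) (e : L ⋙ Fbar ≅ F) : (∀ X : A, IsZero (F.obj X) → P X) ↔ Fbar.Faithful := by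
  have hLz := fun X => CategoryTheory.ObjectProperty.SerreClassLocalization.isZero_obj_iff L P X
  constructor
  · intro h
    haveI := Localization.essSurj L P.isoModSerre
    refine ⟨fun {X Y} a b hab => ?_⟩
    rw [← cancel_epi (L.objObjPreimageIso X).hom, ← cancel_mono (L.objObjPreimageIso Y).inv]
    obtain ⟨φ, h1, h2⟩ := Localization.exists_leftFraction₂ L P.isoModSerre
      ((((L.objObjPreimageIso X).hom ≫ a) ≫ (L.objObjPreimageIso Y).inv))
      ((((L.objObjPreimageIso X).hom ≫ b) ≫ (L.objObjPreimageIso Y).inv))
    rw [h1, h2]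
    haveI := Localization.inverts L P.isoModSerre φ.s φ.hs
    rw [← cancel_mono (L.map φ.s), MorphismProperty.LeftFraction.map_comp_map_s,
      MorphismProperty.LeftFraction.map_comp_map_s]
    have eq1 : Fbar.map (L.map φ.f) = Fbar.map (L.map φ.f') := by
      have e1 := congrArg (fun q => Fbar.map (q ≫ L.map φ.s)) h1
      have e2 := congrArg (fun q => Fbar.map (q ≫ L.map φ.s)) h2
      simp only [Functor.map_comp, hab] at e1 e2
      have e3 := e1.symm.trans e2
      rw [← Fbar.map_comp, ← Fbar.map_comp, MorphismProperty.LeftFraction.map_comp_map_s,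
        MorphismProperty.LeftFraction.map_comp_map_s] at e3
      exact e3
    have eq2 : F.map φ.f = F.map φ.f' := by
      rw [← cancel_epi (e.hom.app _)]
      rw [← e.hom.naturality, ← e.hom.naturality]
      exact congrArg (· ≫ e.hom.app _) eq1
    show L.map φ.f = L.map φ.f'
    rw [← sub_eq_zero, ← L.map_sub, CategoryTheory.ObjectProperty.SerreClassLocalization.map_eq_zero_iff L P]
    apply h
    have h0 : F.map (φ.f - φ.f') = 0 := by rw [F.map_sub, eq2, sub_self]
    have : Epi (F.map (Abelian.factorThruImage (φ.f - φ.f'))) := inferInstance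
    haveI : Mono (F.map (Abelian.image.ι (φ.f - φ.f'))) := inferInstance
    rw [← Abelian.image.fac (φ.f - φ.f'), F.map_comp] at h0
    have h1 : F.map (Abelian.image.ι (φ.f - φ.f')) = 0 := by
      rw [← cancel_epi (F.map (Abelian.factorThruImage (φ.f - φ.f'))), h0, comp_zero]
    rw [IsZero.iff_id_eq_zero, ← cancel_mono (F.map (Abelian.image.ι (φ.f - φ.f'))), h1, comp_zero, comp_zero]
  · intro hf X hX
    rw [← hLz]
    have hX' : IsZero (Fbar.obj (L.obj X)) := hX.of_iso (e.app X)
    rw [IsZero.iff_id_eq_zero]
    exact Fbar.map_injective (hX'.eq_of_src _ _)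

end Groth.Agent.S6791
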