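import Groth.Statements.S6795
import Mathlib

set_option autoImplicit false
open CategoryTheory CategoryTheory.Limits
universe v u
open CategoryTheory CategoryTheory.Preadditive

namespace Groth.Agent.S6795

/-- A preadditive category with countable products in which split epimorphisms have kernels is
idempotent complete (Karoubian). -/
theorem result {D : Type u} [Category.{v} D] [Preadditive D] [HasCountableProducts D] (hk : ∀ ⦃X Y : D⦄ (f : X ⟶ Y), IsSplitEpi f → HasKernel f) : IsIdempotentComplete D := by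
  constructor
  intro X e he
  let P : D := ∏ᶜ fun _ : ℕ => X
  let π : ∀ n, P ⟶ X := fun n => Pi.π (fun _ : ℕ => X) n
  let f : P ⟶ P := Pi.lift fun n => π (n + 1) ≫ e + π n ≫ (𝟙 X - e)
  let g : P ⟶ P := Pi.lift fun n => match n with
    | 0 => π 0 ≫ (𝟙 X - e)
    | (m + 1) => π m ≫ e + π (m + 1) ≫ (𝟙 X - e)
  have he1 : (𝟙 X - e) ≫ e = 0 := by simp [he]
  have he2 : e ≫ (𝟙 X - e) = 0 := by simp [he]
  have he3 : (𝟙 X - e) ≫ (𝟙 X - e) = 𝟙 X - e := by simp [he]
  have hgf : g ≫ f = 𝟙 P := by
    apply Pi.hom_ext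
    rintro (_ | n)
    · simp [f, g, π, he, he1, he2, he3]
    · simp [f, g, π, he, he1, he2, he3]
  have := hk f (IsSplitEpi.mk' ⟨g, hgf⟩)
  let k := kernel.ι f
  have hk' : ∀ n, k ≫ π (n + 1) ≫ e + k ≫ π n ≫ (𝟙 X - e) = 0 := fun n => by
    have := congrArg (· ≫ π n) (kernel.condition f)
    simpa [f, π, k] using this
  have h0 : ∀ n, k ≫ π n ≫ (𝟙 X - e) = 0 := fun n => by
    have := congrArg (· ≫ (𝟙 X - e)) (hk' n)
    simpa only [Preadditive.add_comp, Category.assoc, zero_comp, he2, comp_zero, zero_add, he3] using this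
  have h1 : ∀ n, k ≫ π (n + 1) ≫ e = 0 := fun n => by have := hk' n; rwa [h0 n, add_zero] at this
  have h0' : k ≫ π 0 ≫ e = k ≫ π 0 := by
    have := h0 0
    simp only [Preadditive.comp_sub, Category.comp_id, sub_eq_zero] at this
    exact this.symm
  let j : X ⟶ P := Pi.lift fun n => match n with
    | 0 => e
    | (_ + 1) => 0
  have hj : j ≫ f = 0 := by
    apply Pi.hom_ext
    rintro (_ | n)
    · simp [j, f, π, he]
    · simp [j, f, π]
  refine ⟨kernel f, k ≫ π 0, kernel.lift f j hj, ?_, ?_⟩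
  · rw [← cancel_mono (kernel.ι f)]
    apply Pi.hom_ext
    rintro (_ | n)
    · simpa [j, k, π] using h0'
    · have a := h0 (n + 1)
      simp only [Preadditive.comp_sub, Category.comp_id, h1 n, sub_zero] at a
      simpa [j, k, π] using a.symm
  · simp [k, j, π]

end Groth.Agent.S6795
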