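import Groth.Statements.S6799
import Mathlib
-- import your own Groth.Agent.* helpers here

set_option autoImplicit false
open CategoryTheory Opposite
universe u
open SSet

namespace Groth.Agent.S6799

open Simplicial MonoidalCategory

/-- Two maps between `n`-coskeletal simplicial sets which agree on simplices of dimension `< n` are
homotopic, by a single homotopy. -/
theorem result {U V : SSet.{u}} (f₀ f₁ : V ⟶ U) (n : ℕ) (h : ∀ i : ℕ, i < n → f₀.app (op (SimplexCategory.mk i)) = f₁.app (op (SimplexCategory.mk i))) [SimplicialObject.IsCoskeletal U n] [SimplicialObject.IsCoskeletal V n] : Nonempty (SSet.Homotopy f₀ f₁) := by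
  classical
  let incl := (SimplexCategory.Truncated.inclusion n).op
  let one : ∀ {m : SimplexCategoryᵒᵖ}, (Δ[1] : SSet.{u}).obj m → Prop := fun {m} σ =>
    ∀ k : Fin (m.unop.len + 1), (SSet.stdSimplex.objEquiv σ).toOrderHom k = 1
  have hone : ∀ {m m' : SimplexCategoryᵒᵖ} (g : m ⟶ m') (σ : (Δ[1] : SSet.{u}).obj m),
      one σ → one ((Δ[1] : SSet.{u}).map g σ) := fun g σ h k => h _
  have hagree : ∀ {m : SimplexCategoryᵒᵖ}, m.unop.len < n → ∀ v : V.obj m, f₀.app m v = f₁.app m v := by
    intro m hm v
    have := h m.unop.len hm
    exact ConcreteCategory.congr_hom this v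
  let τ : incl ⋙ (V ⊗ Δ[1]) ⟶ incl ⋙ U :=
    { app := fun m => ↾fun x =>
        if one x.2 then f₁.app (incl.obj m) x.1 else f₀.app (incl.obj m) x.1
      naturality := by
        intro m m' g
        ext ⟨v, σ⟩
        show (if one ((Δ[1] : SSet.{u}).map (incl.map g) σ) then f₁.app _ (V.map (incl.map g) v)
            else f₀.app _ (V.map (incl.map g) v)) =
          U.map (incl.map g) (if one σ then f₁.app _ v else f₀.app _ v)
        by_cases h1 : one σ
        · rw [if_pos h1, if_pos (hone _ _ h1)]
          exact ConcreteCategory.congr_hom (f₁.naturality (incl.map g)) v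
        · rw [if_neg h1]
          refine Eq.trans ?_ (ConcreteCategory.congr_hom (f₀.naturality (incl.map g)) v)
          by_cases h2 : one ((Δ[1] : SSet.{u}).map (incl.map g) σ)
          · rw [if_pos h2]
            show f₁.app _ (V.map (incl.map g) v) = f₀.app _ (V.map (incl.map g) v)
            rcases lt_or_eq_of_le (m'.unop.property : m'.unop.obj.len ≤ n) with hlt | heq'
            · exact (hagree hlt _).symm
            rcases lt_or_eq_of_le (m.unop.property : m.unop.obj.len ≤ n) with hlt | heq
            · exact (ConcreteCategory.congr_hom (f₁.naturality (incl.map g)) v).trans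
                ((congrArg (U.map (incl.map g)) (hagree hlt v).symm).trans
                  (ConcreteCategory.congr_hom (f₀.naturality (incl.map g)) v).symm)
            -- an endomorphism in degree `n` which is not surjective
            obtain ⟨k, hk⟩ := not_forall.1 h1
            have hns : ¬ Function.Surjective (incl.map g).unop.toOrderHom := fun hs => by
              obtain ⟨j, hj⟩ := hs k
              apply hk
              have := h2 j
              rw [← hj]
              exact this
            obtain ⟨N, hN⟩ : ∃ N, n = N + 1 := by
              rcases n with - | N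
              · exfalso
                refine hns fun b => ⟨0, ?_⟩
                apply Fin.ext
                have hb : b.val < (incl.obj m).unop.len + 1 := b.isLt
                have hz : (incl.obj m).unop.len = 0 := heq
                omega
              · exact ⟨N, rfl⟩
            have key : ∀ (a b : SimplexCategory) (φ : a ⟶ b), b.len = N + 1 →
                ¬ Function.Surjective φ.toOrderHom → ∀ w : V.obj (op b),
                  f₁.app (op a) (V.map φ.op w) = f₀.app (op a) (V.map φ.op w) := by
              intro a b φ hb hφ w
              obtain rfl : b = SimplexCategory.mk (N + 1) := SimplexCategory.ext hb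
              obtain ⟨i, θ, rfl⟩ := SimplexCategory.eq_comp_δ_of_not_surjective φ hφ
              rw [op_comp, Functor.map_comp]
              show f₁.app _ (V.map θ.op (V.map (SimplexCategory.δ i).op w)) =
                f₀.app _ (V.map θ.op (V.map (SimplexCategory.δ i).op w))
              rw [show ∀ z, f₁.app (op a) (V.map θ.op z) = U.map θ.op (f₁.app _ z) from fun z => ConcreteCategory.congr_hom (f₁.naturality θ.op) z,
                show ∀ z, f₀.app (op a) (V.map θ.op z) = U.map θ.op (f₀.app _ z) from fun z => ConcreteCategory.congr_hom (f₀.naturality θ.op) z]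
              exact congrArg _ (hagree (m := op (SimplexCategory.mk N)) (by subst hN; simp) _).symm
            exact key _ _ (incl.map g).unop (heq.trans hN) hns v
          · rw [if_neg h2]
            rfl }
  let H : (V ⊗ Δ[1] : SSet.{u}) ⟶ U := U.liftOfIsRightKanExtension (𝟙 _) _ τ
  have hH : ∀ (m : (SimplexCategory.Truncated n)ᵒᵖ) (x : ((V ⊗ Δ[1] : SSet.{u})).obj (incl.obj m)),
      H.app (incl.obj m) x = τ.app m x := fun m x => by
    exact ConcreteCategory.congr_hom (U.liftOfIsRightKanExtension_fac_app (𝟙 (incl ⋙ U)) _ τ m) x
  refine ⟨{ h := H, h₀ := ?_, h₁ := ?_, rel := ?_ }⟩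
  · refine U.hom_ext_of_isRightKanExtension (𝟙 (incl ⋙ U)) _ _ ?_
    ext m v
    show H.app (incl.obj m) (SSet.ι₀.app _ v) = f₀.app _ v
    rw [hH]
    show (if one (SSet.ι₀.app _ v).2 then _ else f₀.app _ v) = _
    refine if_neg fun h1 => ?_
    exact absurd (h1 0) (by simp only [Fin.isValue]; exact fun e => absurd ((SSet.ι₀_app_snd_apply v 0).symm.trans e) (by decide))
  · refine U.hom_ext_of_isRightKanExtension (𝟙 (incl ⋙ U)) _ _ ?_
    ext m v
    show H.app (incl.obj m) (SSet.ι₁.app _ v) = f₁.app _ v
    rw [hH]
    show (if one (SSet.ι₁.app _ v).2 then f₁.app _ v else _) = _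
    exact if_pos fun k => SSet.ι₁_app_snd_apply v k
  · ext m ⟨⟨_, hx⟩, _⟩
    exact hx.elim

end Groth.Agent.S6799
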