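import Groth.Statements.S6800
import Mathlib.CategoryTheory.Limits.Shapes.FiniteLimits
import Mathlib.Data.Finite.Sigma
import Mathlib.Data.Fintype.Sigma

set_option autoImplicit false
open CategoryTheory CategoryTheory.Limits
universe v u
open CategoryTheory CategoryTheory.SimplicialObject CategoryTheory.SimplicialObject.Truncated

namespace Groth.Agent.S6800

set_option backward.isDefEq.respectTransparency false
set_option backward.isDefEq.respectTransparency.types false
open Opposite Simplicial

instance finite_truncated (m : ℕ) : Finite (SimplexCategory.Truncated m) :=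
  Finite.of_injective (fun a => (⟨a.obj.len, Nat.lt_succ_of_le a.property⟩ : Fin (m + 1))) fun a b h =>
    ObjectProperty.FullSubcategory.ext (SimplexCategory.ext (congrArg Fin.val h))

instance finite_hom (a b : SimplexCategory) : Finite (a ⟶ b) :=
  Finite.of_injective (fun f => (f.toOrderHom : Fin _ → Fin _)) fun f g h =>
    SimplexCategory.Hom.ext _ _ (OrderHom.ext _ _ h)

instance finite_hom' (m : ℕ) (a b : SimplexCategory.Truncated m) : Finite (a ⟶ b) :=
  Finite.of_injective (fun f => f.hom) fun _ _ h => ObjectProperty.hom_ext _ h

/-- In a category with finite limits every truncated simplicial object has a pointwise right Kan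
extension along the inclusion of the truncated simplex category, i.e. the coskeleton functors exist
and are given by the limit formula. -/
theorem result {C : Type u} [Category.{v} C] [HasFiniteLimits C] (m : ℕ) (U : (SimplexCategory.Truncated m)ᵒᵖ ⥤ C) : (SimplexCategory.Truncated.inclusion m).op.HasPointwiseRightKanExtension U := by
  intro Y
  let J := StructuredArrow Y (SimplexCategory.Truncated.inclusion m).op
  have : Finite J := Finite.of_injective
    (fun a => (⟨a.right.unop, a.hom.unop⟩ : Σ k : SimplexCategory.Truncated m, (k.obj ⟶ Y.unop)))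
    fun ⟨⟨⟨⟩⟩, ⟨k⟩, f⟩ ⟨⟨⟨⟩⟩, ⟨k'⟩, f'⟩ h => by
      obtain ⟨rfl, h₂⟩ := Sigma.mk.inj_iff.1 h
      obtain rfl := Quiver.Hom.unop_inj (eq_of_heq h₂)
      rfl
  have : ∀ a b : J, Finite (a ⟶ b) := fun a b => Finite.of_injective (fun f => f.right.unop)
    fun f g h => StructuredArrow.hom_ext _ _ (Quiver.Hom.unop_inj h)
  let : Fintype J := Fintype.ofFinite J
  let : FinCategory J := { fintypeObj := inferInstance, fintypeHom := fun a b => Fintype.ofFinite _ }
  have : HasLimitsOfShape J C := inferInstance
  show HasLimit (StructuredArrow.proj Y (SimplexCategory.Truncated.inclusion m).op ⋙ U)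
  infer_instance

end Groth.Agent.S6800
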