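import Mathlib.CategoryTheory.Subobject.Limits
import Mathlib.CategoryTheory.Subobject.Lattice
import Mathlib.CategoryTheory.Abelian.Basic

/-! Images of composites with epimorphisms and monomorphisms in an abelian category. -/

set_option autoImplicit false
open CategoryTheory CategoryTheory.Limits
universe v u

namespace Groth.Agent.StrictLib

variable {A : Type u} [Category.{v} A] [Abelian A]

theorem image_epi_comp {X Y Z : A} (h : X ⟶ Y) [Epi h] (f : Y ⟶ Z) :
    imageSubobject (h ≫ f) = imageSubobject f :=
  have : IsIso (Subobject.ofLE _ _ (imageSubobject_comp_le h f)) := isIso_of_mono_of_epi _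
  le_antisymm (imageSubobject_comp_le h f)
    (Subobject.le_of_comm (inv (Subobject.ofLE _ _ (imageSubobject_comp_le h f))) (by simp))

theorem map_eq_mk {X Y : A} (g : X ⟶ Y) [Mono g] (S : Subobject X) :
    (Subobject.map g).obj S = Subobject.mk (S.arrow ≫ g) := by
  conv_lhs => rw [← Subobject.mk_arrow S]
  rw [Subobject.map_mk]

theorem image_comp_mono {X Y Z : A} (h : X ⟶ Y) (g : Y ⟶ Z) [Mono g] :
    imageSubobject (h ≫ g) = (Subobject.map g).obj (imageSubobject h) := by
  have : Epi (factorThruImageSubobject h) := inferInstance
  conv_lhs => rw [← imageSubobject_arrow_comp h, Category.assoc, image_epi_comp, imageSubobject_mono]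
  rw [map_eq_mk]

end Groth.Agent.StrictLib
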