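import Groth.Statements.S6802
import Groth.Agent.StrictLib

set_option autoImplicit false
open CategoryTheory
universe v u
open SpSeq SpSeq.FilObj

namespace Groth.Agent.S6802

open Groth.Agent.StrictLib
open CategoryTheory.Limits
set_option backward.isDefEq.respectTransparency false
set_option backward.isDefEq.respectTransparency.types false

/-- The composite of two strict morphisms of filtered objects is strict when the first one is an
epimorphism. -/
theorem result {A : Type u} [Category.{v} A] [Abelian A] {K L M : SpSeq.FilObj A} (f : K ⟶ L) (g : L ⟶ M) (hf : SpSeq.FilObj.IsStrict f) (hg : SpSeq.FilObj.IsStrict g) [Epi f.hom] : SpSeq.FilObj.IsStrict (f ≫ g) := by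
  intro p
  show imageSubobject ((K.fil p).arrow ≫ f.hom ≫ g.hom) = imageSubobject (f.hom ≫ g.hom) ⊓ M.fil p
  have hg' : imageSubobject ((L.fil p).arrow ≫ g.hom) = imageSubobject g.hom ⊓ M.fil p := hg p
  rw [image_epi_comp f.hom, ← hg', ← Category.assoc]
  have e : imageSubobject ((K.fil p).arrow ≫ f.hom) = L.fil p := by
    have htop : imageSubobject f.hom = ⊤ := by
      rw [← Category.comp_id f.hom, image_epi_comp, imageSubobject_mono, Subobject.mk_eq_top_of_isIso]
    rw [hf p, htop, top_inf_eq]
  generalize hk : (K.fil p).arrow ≫ f.hom = k at e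
  generalize hS : L.fil p = S at e
  subst e
  conv_lhs => rw [← imageSubobject_arrow_comp k, Category.assoc]
  exact image_epi_comp _ _

end Groth.Agent.S6802
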