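import Groth.Statements.S6805
import Mathlib
-- import your own Groth.Agent.* helpers here

set_option autoImplicit false
open CategoryTheory
universe u
open SSet

namespace Groth.Agent.S6805

/-- The simplicial set freely generated by an `m`-truncated simplicial set (its image under the left
adjoint of `m`-truncation) has only degenerate simplices above dimension `m`. -/
theorem result (m : ℕ) (U : SSet.Truncated.{u} m) : ((SSet.Truncated.sk m).obj U).HasDimensionLT (m + 1) := by
  let K := (SSet.Truncated.sk m).obj U
  let ι := (K.skeleton (m + 1)).ι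
  have hbij : ∀ a : (SimplexCategory.Truncated m)ᵒᵖ, IsIso (((SSet.truncation m).map ι).app a) := by
    intro a
    rw [isIso_iff_bijective]
    refine ⟨fun x y h => Subtype.ext h, fun y => ⟨⟨y, ?_⟩, rfl⟩⟩
    obtain ⟨⟨⟨k⟩, hk⟩⟩ := a
    exact K.mem_skeleton y (Nat.lt_succ_of_le hk)
  haveI : IsIso ((SSet.truncation m).map ι) := NatIso.isIso_of_isIso_app _
  let s : K ⟶ (K.skeleton (m + 1) : SSet) := ((SSet.skAdj m).homEquiv _ _).symm
    ((SSet.skAdj m).unit.app U ≫ inv ((SSet.truncation m).map ι))
  have hs : s ≫ ι = 𝟙 K := by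
    apply ((SSet.skAdj m).homEquiv _ _).injective
    rw [Adjunction.homEquiv_naturality_right, Equiv.apply_symm_apply, Category.assoc, IsIso.inv_hom_id,
      Category.comp_id, Adjunction.homEquiv_id]
  refine ⟨fun d hd => ?_⟩
  refine Set.eq_univ_of_forall fun x => ?_
  by_contra hx
  have hx' : x ∈ K.nonDegenerate d := hx
  have hmem : x ∈ (K.skeleton (m + 1)).obj _ := by
    have e : ι.app _ (s.app _ x) = x := ConcreteCategory.congr_hom (congrArg (fun q : K ⟶ K => NatTrans.app q (Opposite.op (SimplexCategory.mk d))) hs) x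
    rw [← e]
    exact (s.app _ x).2
  have := (K.mem_skeleton_obj_iff_of_nonDegenerate ⟨x, hx'⟩ (m + 1)).1 hmem
  omega

end Groth.Agent.S6805
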