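import Groth.Statements.S6806
import Mathlib
-- import your own Groth.Agent.* helpers here

set_option autoImplicit false
open CategoryTheory CategoryTheory.Limits
universe v u
open CategoryTheory CategoryTheory.Abelian

namespace Groth.Agent.S6806

open CategoryTheory CategoryTheory.Category CategoryTheory.Limits Opposite

/-- For an `m`-truncated simplicial object `U` of an abelian category, the normalized Moore complex of
its free extension `i_{m!} U` (left adjoint of truncation) is zero in every degree `n > m`. Here the
normalized complex in degree `n` is the intersection of the kernels of the faces `d_1, …, d_n`; the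
published statement intersects the kernels of `d_0, …, d_{n-1}` instead, and the two versions
correspond under reversal of the ordering of each `[n]`, so both vanish. -/
theorem result {A : Type u} [Category.{v} A] [Abelian A] (m : ℕ) [∀ F : (SimplexCategory.Truncated m)ᵒᵖ ⥤ A, (SimplexCategory.Truncated.inclusion m).op.HasLeftKanExtension F] (U : SimplicialObject.Truncated A m) (n : ℕ) (hn : m < n) : AlgebraicTopology.NormalizedMooreComplex.objX ((SimplicialObject.Truncated.sk m).obj U) n = ⊥ := by
  classical
  let L := (SimplexCategory.Truncated.inclusion m).op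
  let X := (SimplicialObject.Truncated.sk m).obj U
  let T : A := X.obj (op (SimplexCategory.mk n))
  let Z : SimplicialObject A :=
    { obj := fun j => ∏ᶜ fun _ : SimplexCategory.mk n ⟶ j.unop => T
      map := fun g => Limits.Pi.lift fun θ => Limits.Pi.π _ (θ ≫ g.unop)
      map_id := fun j => Limits.Pi.hom_ext _ _ fun θ => by simp
      map_comp := fun g g' => Limits.Pi.hom_ext _ _ fun θ => by simp }
  let ψ : X ⟶ Z :=
    { app := fun j => Limits.Pi.lift fun θ =>
        X.map θ.op ≫ (AlgebraicTopology.DoldKan.PInfty (X := X)).f n
      naturality := fun j j' g => Limits.Pi.hom_ext _ _ fun θ => by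
        simp only [Z, assoc, Limits.Pi.lift_π]
        rw [op_comp, Quiver.Hom.op_unop, X.map_comp, assoc] }
  have hψ : ψ = 0 := by
    refine (X : SimplicialObject A).hom_ext_of_isLeftKanExtension (L.lanUnit.app U) _ _ ?_
    ext j
    simp only [NatTrans.comp_app, Functor.whiskerLeft_app]
    congr 1
    refine Limits.Pi.hom_ext _ _ fun θ => ?_
    refine (Limits.Pi.lift_π _ θ).trans ((AlgebraicTopology.DoldKan.degeneracy_comp_PInfty X n θ
      (fun hmono => ?_)).trans ?_)
    · have h1 := SimplexCategory.len_le_of_mono θ
      have h2 : (L.obj j).unop.len ≤ m := j.unop.property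
      have h3 : (SimplexCategory.mk n).len = n := rfl
      omega
    · exact (zero_comp).symm
  have hP : (AlgebraicTopology.DoldKan.PInfty (X := X)).f n = 0 := by
    have := congrArg (fun φ : X ⟶ Z => φ.app (op (SimplexCategory.mk n)) ≫
      Limits.Pi.π _ (𝟙 (SimplexCategory.mk n))) hψ
    simp only [ψ, Limits.Pi.lift_π] at this
    rw [op_id, X.map_id, id_comp] at this
    exact this.trans zero_comp
  have hi : (AlgebraicTopology.NormalizedMooreComplex.objX X n).arrow = 0 := by
    have := congrArg (fun φ => HomologicalComplex.Hom.f φ n)
      (AlgebraicTopology.DoldKan.inclusionOfMooreComplexMap_comp_PInfty X)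
    simp only [HomologicalComplex.comp_f] at this
    rw [hP, comp_zero] at this
    exact this.symm
  rw [← Subobject.mk_arrow (AlgebraicTopology.NormalizedMooreComplex.objX X n)]
  exact Subobject.mk_eq_bot_iff_zero.2 hi

end Groth.Agent.S6806
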