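import Groth.Statements.S6807
import Groth.Agent.InvLimLib.Homology
-- import your own Groth.Agent.* helpers here

set_option autoImplicit false
open CategoryTheory CategoryTheory.Limits
universe u
open HomAlg3

namespace Groth.Agent.S6807

/-- For an inverse system of cochain complexes of abelian groups over `ℕ` whose terms in degrees `n-2`
and `n-1` form Mittag-Leffler systems and whose degree-`(n-1)` cohomologies form an essentially
constant system, the canonical map from the degree-`n` cohomology of the limit complex to the limit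
of the degree-`n` cohomologies is an isomorphism. (The published statement is for four-term
complexes in degrees `-2, …, 1`; only those four degrees of a longer complex enter.) -/
theorem result (K : ℕᵒᵖ ⥤ HomologicalComplex AddCommGrpCat.{u} (ComplexShape.up ℤ)) (n : ℤ) (h2 : ((K ⋙ HomologicalComplex.eval _ _ (n - 2)) ⋙ forget AddCommGrpCat).IsMittagLeffler) (h1 : ((K ⋙ HomologicalComplex.eval _ _ (n - 1)) ⋙ forget AddCommGrpCat).IsMittagLeffler) (hH : ∃ (C₀ : AddCommGrpCat.{u}) (c : (Functor.const ℕᵒᵖ).obj C₀ ⟶ K ⋙ HomologicalComplex.homologyFunctor _ _ (n - 1)), DerCA.IsEssConstant (K ⋙ HomologicalComplex.homologyFunctor _ _ (n - 1)) C₀ c) : IsIso (limit.post K (HomologicalComplex.homologyFunctor _ _ n)) := by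
  have hcof : ∃ s : Set ℕ, s.Countable ∧ ∀ i, ∃ j ∈ s, i ≤ j := ⟨Set.univ, Set.countable_univ, fun i => ⟨i, trivial, le_rfl⟩⟩
  obtain ⟨C₀, c, i₀, s, hs, hess⟩ := hH
  have hML : (Groth.Agent.InvLimLib.H K (n - 1) ⋙ forget AddCommGrpCat.{u}).IsMittagLeffler := by
    rw [Groth.Agent.InvLimLib.ml_iff]
    intro j
    obtain ⟨k, hi, hj, e⟩ := hess j
    refine ⟨k, hj, fun l hl x => ⟨(c.app (Opposite.op l)).hom (s.hom (Groth.Agent.InvLimLib.tr _ hi x)), ?_⟩⟩
    rw [← Groth.Agent.InvLimLib.tr_nat c hl]
    exact (ConcreteCategory.congr_hom e x).symm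
  haveI : Mono (limit.post K (HomologicalComplex.homologyFunctor _ _ n)) :=
    (AddCommGrpCat.mono_iff_injective _).2 (Groth.Agent.InvLimLib.post_injective K hcof (l := n - 2) (m := n - 1) (by ring) (by ring) h2 hML)
  haveI : Epi (limit.post K (HomologicalComplex.homologyFunctor _ _ n)) :=
    (AddCommGrpCat.epi_iff_surjective _).2 (Groth.Agent.InvLimLib.post_surjective K hcof (m := n - 1) (by ring) h1)
  exact isIso_of_mono_of_epi _

end Groth.Agent.S6807
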