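import Groth.Statements.S6808
-- import your own Groth.Agent.* helpers here

set_option autoImplicit false
open CategoryTheory Opposite
universe u
open SSet

namespace Groth.Agent.S6808

/-- A map of simplicial sets preserving non-degeneracy of simplices and injective on non-degenerate
simplices is injective in every dimension. -/
theorem result {U V : SSet.{u}} (f : U ⟶ V) (ha : ∀ (n : ℕ) (x : U.obj (op (SimplexCategory.mk n))), x ∈ U.nonDegenerate n → f.app (op (SimplexCategory.mk n)) x ∈ V.nonDegenerate n) (hb : ∀ n : ℕ, Set.InjOn (f.app (op (SimplexCategory.mk n))) (U.nonDegenerate n)) (n : ℕ) : Function.Injective (f.app (op (SimplexCategory.mk n))) := by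
  intro x y hxy
  obtain ⟨m₁, f₁, _, a, rfl⟩ := U.exists_nonDegenerate x
  obtain ⟨m₂, f₂, _, b, rfl⟩ := U.exists_nonDegenerate y
  have hA := NatTrans.naturality_apply f f₁.op a.1
  have hB := NatTrans.naturality_apply f f₂.op b.1
  have h1 : f.app _ (U.map f₁.op a.1) = V.map f₁.op (f.app _ a.1) := hA
  have h2 : f.app _ (U.map f₁.op a.1) = V.map f₂.op (f.app _ b.1) := hxy.trans hB
  obtain rfl := V.unique_nonDegenerate_dim _ f₁ ⟨_, ha _ a.1 a.2⟩ h1 f₂ ⟨_, ha _ b.1 b.2⟩ h2
  have hab : a = b := Subtype.ext (hb _ a.2 b.2 (congrArg Subtype.val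
    (V.unique_nonDegenerate_simplex _ f₁ ⟨_, ha _ a.1 a.2⟩ h1 f₂ ⟨_, ha _ b.1 b.2⟩ h2)))
  subst hab
  rw [V.unique_nonDegenerate_map _ f₁ ⟨_, ha _ a.1 a.2⟩ h1 f₂ ⟨_, ha _ a.1 a.2⟩ h2]

end Groth.Agent.S6808
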