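import Groth.Statements.S6811
import Mathlib
-- import your own Groth.Agent.* helpers here

set_option autoImplicit false
open CategoryTheory CategoryTheory.Limits
universe v u
open CategoryTheory CategoryTheory.SimplicialObject

namespace Groth.Agent.S6811

/-- In a category with finite limits, an `n`-coskeletal simplicial object is `m`-coskeletal for every `m
≥ n`. -/
theorem result {C : Type u} [Category.{v} C] [HasFiniteLimits C] (U : SimplicialObject C) {n m : ℕ} (h : n ≤ m) [U.IsCoskeletal n] : U.IsCoskeletal m := by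
  classical
  let i := (SimplexCategory.Truncated.inclusion n).op
  haveI hfin : ∀ k : SimplexCategoryᵒᵖ, Finite (CategoryTheory.StructuredArrow k i) := by
    intro k
    refine Finite.of_surjective (α := Σ a : Fin (n + 1), (SimplexCategory.mk (a : ℕ) ⟶ k.unop))
      (fun q => CategoryTheory.StructuredArrow.mk
        (Y := Opposite.op (⟨SimplexCategory.mk (q.1 : ℕ), Nat.le_of_lt_succ q.1.isLt⟩ : SimplexCategory.Truncated n)) q.2.op) ?_
    intro f
    refine ⟨⟨⟨f.right.unop.obj.len, Nat.lt_succ_of_le f.right.unop.property⟩, f.hom.unop⟩, ?_⟩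
    exact (StructuredArrow.eq_mk f).symm
  haveI : ∀ k : SimplexCategoryᵒᵖ, FinCategory (CategoryTheory.StructuredArrow k i) := fun k => by
    haveI : ∀ a b : CategoryTheory.StructuredArrow k i, Finite (a ⟶ b) := fun a b =>
      Finite.of_injective (fun φ => φ.right.unop.hom) (fun φ ψ h => by
        apply StructuredArrow.hom_ext
        exact Quiver.Hom.unop_inj (ObjectProperty.hom_ext _ h))
    exact { fintypeObj := Fintype.ofFinite _, fintypeHom := fun a b => Fintype.ofFinite _ }
  haveI : i.HasPointwiseRightKanExtension (i ⋙ U) := fun k => by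
    unfold Functor.HasPointwiseRightKanExtensionAt
    infer_instance
  haveI hU : Functor.IsRightKanExtension U (𝟙 (i ⋙ U)) :=
    (inferInstance : SimplicialObject.IsCoskeletal U n).isRightKanExtension
  let hp := Functor.isPointwiseRightKanExtensionOfIsRightKanExtension (L := i) (F := i ⋙ U) U (𝟙 (i ⋙ U))
  let j : (SimplexCategory.Truncated n)ᵒᵖ ⥤ (SimplexCategory.Truncated m)ᵒᵖ :=
    (SimplexCategory.Truncated.incl n m h).op
  let im := (SimplexCategory.Truncated.inclusion m).op
  have hcomp : ∀ (G : SimplicialObject C) (ψ : im ⋙ G ⟶ im ⋙ U) (g : G ⟶ U),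
      (∀ a, g.app (i.obj a) = ψ.app (j.obj a)) → Functor.whiskerLeft im g = ψ := by
    intro G ψ g hg
    ext b
    refine (hp (im.obj b)).hom_ext' fun a φ => ?_
    show g.app (im.obj b) ≫ U.map φ ≫ 𝟙 _ = ψ.app b ≫ U.map φ ≫ 𝟙 _
    simp only [Category.comp_id]
    let φ' : b ⟶ j.obj a :=
      (ObjectProperty.homMk φ.unop : (j.obj a).unop ⟶ b.unop).op
    have e2 : im.map φ' = φ := rfl
    have e3 := ψ.naturality φ'
    simp only [Functor.comp_map, e2] at e3
    rw [← g.naturality, ← e3]
    exact congrArg (G.map φ ≫ ·) (hg a)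
  rw [SimplicialObject.isCoskeletal_iff]
  refine ⟨⟨?_⟩⟩
  refine IsTerminal.ofUniqueHom (fun E => CostructuredArrow.homMk
    (U.liftOfIsRightKanExtension (𝟙 (i ⋙ U)) E.left (Functor.whiskerLeft j E.hom)) ?_) ?_
  · refine Eq.trans (Category.comp_id _) (hcomp E.left E.hom _ fun a => ?_)
    exact (Category.comp_id _).symm.trans (U.liftOfIsRightKanExtension_fac_app (𝟙 (i ⋙ U)) E.left (Functor.whiskerLeft j E.hom) a)
  · intro E q
    apply CostructuredArrow.hom_ext
    refine U.hom_ext_of_isRightKanExtension (𝟙 (i ⋙ U)) _ _ ?_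
    ext a
    show q.left.app (i.obj a) ≫ 𝟙 _ = (U.liftOfIsRightKanExtension (𝟙 (i ⋙ U)) E.left (Functor.whiskerLeft j E.hom)).app (i.obj a) ≫ 𝟙 _
    refine Eq.trans ?_ (U.liftOfIsRightKanExtension_fac_app (𝟙 (i ⋙ U)) E.left (Functor.whiskerLeft j E.hom) a).symm
    exact congrArg (fun (t : im ⋙ E.left ⟶ im ⋙ U) => t.app (j.obj a)) (CostructuredArrow.w q)


end Groth.Agent.S6811
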