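import Groth.Statements.S6812
import Mathlib
-- import your own Groth.Agent.* helpers here

set_option autoImplicit false
open CategoryTheory
universe u
open SSet

namespace Groth.Agent.S6812

/-- For a simplicial set `U`, the counit `i_{n!} sk_n U ⟶ U` of the skeleton adjunction is a
monomorphism whose image is the subcomplex of `U` generated by its simplices of dimension `≤ n`. -/
theorem result (U : SSet.{u}) (n : ℕ) : Mono ((SSet.skAdj n).counit.app U) ∧ SSet.Subcomplex.range ((SSet.skAdj n).counit.app U) = U.skeleton (n + 1) := by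
  let K := (SSet.Truncated.sk n).obj ((SSet.truncation n).obj U)
  let ε : K ⟶ U := (SSet.skAdj n).counit.app U
  have hK : ∀ d, n < d → K.nonDegenerate d = ∅ := by
    intro d hd
    let ι := (K.skeleton (n + 1)).ι
    haveI : ∀ a : (SimplexCategory.Truncated n)ᵒᵖ, IsIso (((SSet.truncation n).map ι).app a) := by
      intro a
      rw [isIso_iff_bijective]
      refine ⟨fun x y h => Subtype.ext h, fun y => ⟨⟨y, ?_⟩, rfl⟩⟩
      obtain ⟨⟨⟨k⟩, hk⟩⟩ := a
      exact K.mem_skeleton y (Nat.lt_succ_of_le hk)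
    haveI hι : IsIso ((SSet.truncation n).map ι) := NatIso.isIso_of_isIso_app _
    let s : K ⟶ (K.skeleton (n + 1) : SSet) := ((SSet.skAdj n).homEquiv _ _).symm
      ((SSet.skAdj n).unit.app ((SSet.truncation n).obj U) ≫ @inv _ _ _ _ ((SSet.truncation n).map ι) hι)
    have hs : s ≫ ι = 𝟙 K := by
      apply ((SSet.skAdj n).homEquiv _ _).injective
      rw [Adjunction.homEquiv_naturality_right, Equiv.apply_symm_apply, Category.assoc, IsIso.inv_hom_id,
        Category.comp_id, Adjunction.homEquiv_id]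
    refine Set.eq_empty_iff_forall_notMem.2 fun x hx => ?_
    have hmem : x ∈ (K.skeleton (n + 1)).obj _ := by
      have e : ι.app _ (s.app _ x) = x := ConcreteCategory.congr_hom
        (congrArg (fun q : K ⟶ K => NatTrans.app q (Opposite.op (SimplexCategory.mk d))) hs) x
      rw [← e]
      exact (s.app _ x).2
    have := (K.mem_skeleton_obj_iff_of_nonDegenerate ⟨x, hx⟩ (n + 1)).1 hmem
    omega
  have hle : ∀ d, d ≤ n → Function.Bijective (ε.app (Opposite.op (SimplexCategory.mk d))) := by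
    intro d hd
    haveI : IsIso ((SSet.truncation n).map ε) := by
      have h := (SSet.skAdj n).right_triangle_components U
      exact IsIso.of_isIso_fac_left h
    exact (isIso_iff_bijective _).1 (inferInstanceAs (IsIso (((SSet.truncation n).map ε).app
      (Opposite.op ⟨SimplexCategory.mk d, hd⟩))))
  have hnd : ∀ d (y : K.obj (Opposite.op (SimplexCategory.mk d))), y ∈ K.nonDegenerate d →
      d ≤ n ∧ ε.app _ y ∈ U.nonDegenerate d := by
    intro d y hy
    have hd : d ≤ n := by
      by_contra hc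
      rw [hK d (by omega)] at hy
      exact hy
    refine ⟨hd, fun hdeg => hy ?_⟩
    obtain ⟨m, hm, f, z, hz⟩ := hdeg
    obtain ⟨z', rfl⟩ := (hle m (by omega)).2 z
    refine ⟨m, hm, f, z', (hle d hd).1 ?_⟩
    rw [NatTrans.naturality_apply]
    exact hz
  constructor
  · haveI : ∀ a, Mono (ε.app a) := by
      intro a
      obtain ⟨⟨k⟩⟩ := a
      rw [mono_iff_injective]
      intro x₁ x₂ he
      obtain ⟨m₁, f₁, hf₁, y₁, rfl⟩ := K.exists_nonDegenerate x₁
      obtain ⟨m₂, f₂, hf₂, y₂, rfl⟩ := K.exists_nonDegenerate x₂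
      rw [NatTrans.naturality_apply, NatTrans.naturality_apply] at he
      haveI := hf₁
      haveI := hf₂
      obtain ⟨hm₁, hy₁⟩ := hnd _ _ y₁.2
      obtain ⟨-, hy₂⟩ := hnd _ _ y₂.2
      obtain rfl := U.unique_nonDegenerate_dim _ f₁ ⟨_, hy₁⟩ rfl f₂ ⟨_, hy₂⟩ he
      have hy := U.unique_nonDegenerate_simplex _ f₁ ⟨_, hy₁⟩ rfl f₂ ⟨_, hy₂⟩ he
      obtain rfl := U.unique_nonDegenerate_map _ f₁ ⟨_, hy₁⟩ rfl f₂ ⟨_, hy₂⟩ he
      have : y₁.1 = y₂.1 := (hle _ hm₁).1 (congrArg Subtype.val hy)
      rw [this]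
    exact (NatTrans.mono_of_mono_app ε : Mono ε)
  · change SSet.Subcomplex.range ε = _
    refine le_antisymm ?_ ?_
    · rintro ⟨⟨k⟩⟩ _ ⟨x, rfl⟩
      obtain ⟨m, f, -, y, rfl⟩ := K.exists_nonDegenerate x
      rw [NatTrans.naturality_apply]
      exact (U.skeleton (n + 1)).map f.op (U.mem_skeleton _ (Nat.lt_succ_of_le (hnd _ _ y.2).1))
    · rw [SSet.Subcomplex.le_iff_contains_nonDegenerate]
      intro d x hx
      have hd : d < n + 1 := (U.mem_skeleton_obj_iff_of_nonDegenerate x (n + 1)).1 hx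
      obtain ⟨y, hy⟩ := (hle d (by omega)).2 x.1
      exact ⟨y, hy⟩

end Groth.Agent.S6812
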