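import Groth.Statements.S6813
import Mathlib
-- import your own Groth.Agent.* helpers here

set_option autoImplicit false
open CategoryTheory CategoryTheory.Limits
universe v u
open CategoryTheory CategoryTheory.SimplicialObject

namespace Groth.Agent.S6813

/-- For `k ≥ 1` the forgetful functor from the over category `C/X` to `C` (with `C` having finite
limits) commutes with `cosk_k`; stated as: a `k`-coskeletal simplicial object of `C/X` has
`k`-coskeletal underlying simplicial object in `C`. -/
theorem result {C : Type u} [Category.{v} C] [HasFiniteLimits C] (X : C) (k : ℕ) (hk : 1 ≤ k) (V : SimplicialObject (Over X)) [V.IsCoskeletal k] : SimplicialObject.IsCoskeletal (V ⋙ Over.forget X) k := by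
  open CategoryTheory CategoryTheory.Limits Opposite Simplicial SimplexCategory.Truncated in
  classical
  let i := (SimplexCategory.Truncated.inclusion k).op
  haveI hfin : ∀ d : SimplexCategoryᵒᵖ, Finite (CategoryTheory.StructuredArrow d i) := by
    intro d
    refine Finite.of_surjective (α := Σ a : Fin (k + 1), (SimplexCategory.mk (a : ℕ) ⟶ d.unop))
      (fun q => CategoryTheory.StructuredArrow.mk
        (Y := Opposite.op (⟨SimplexCategory.mk (q.1 : ℕ), Nat.le_of_lt_succ q.1.isLt⟩ : SimplexCategory.Truncated k)) q.2.op) ?_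
    intro f
    exact ⟨⟨⟨f.right.unop.obj.len, Nat.lt_succ_of_le f.right.unop.property⟩, f.hom.unop⟩,
      (StructuredArrow.eq_mk f).symm⟩
  haveI : ∀ d : SimplexCategoryᵒᵖ, FinCategory (CategoryTheory.StructuredArrow d i) := fun d => by
    haveI : ∀ a b : CategoryTheory.StructuredArrow d i, Finite (a ⟶ b) := fun a b =>
      Finite.of_injective (fun φ => φ.right.unop.hom) (fun φ ψ h => by
        apply StructuredArrow.hom_ext
        exact Quiver.Hom.unop_inj (ObjectProperty.hom_ext _ h))
    exact { fintypeObj := Fintype.ofFinite _, fintypeHom := fun a b => Fintype.ofFinite _ }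
  haveI hconn : ∀ d : SimplexCategoryᵒᵖ, IsConnected (CategoryTheory.StructuredArrow d i) := by
    intro d
    let vtx : Fin (d.unop.len + 1) → CategoryTheory.StructuredArrow d i := fun t =>
      StructuredArrow.mk (Y := op (⟨⦋0⦌, Nat.zero_le k⟩ : SimplexCategory.Truncated k)) (SimplexCategory.const _ _ t).op
    let edge : Fin (d.unop.len + 1) → CategoryTheory.StructuredArrow d i := fun t =>
      StructuredArrow.mk (Y := op (⟨⦋1⦌, hk⟩ : SimplexCategory.Truncated k))
        (SimplexCategory.mkOfLe (0 : Fin (d.unop.len + 1)) t (Fin.zero_le _)).op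
    have hface : ∀ t, Zigzag (vtx 0) (vtx t) := fun t => by
      let a : edge t ⟶ vtx 0 := StructuredArrow.homMk (Hom.tr (SimplexCategory.const ⦋0⦌ ⦋1⦌ 0) (Nat.zero_le k) hk).op
        (Quiver.Hom.unop_inj (SimplexCategory.Hom.ext _ _ (OrderHom.ext _ _ (funext fun x => rfl))))
      let b : edge t ⟶ vtx t := StructuredArrow.homMk (Hom.tr (SimplexCategory.const ⦋0⦌ ⦋1⦌ 1) (Nat.zero_le k) hk).op
        (Quiver.Hom.unop_inj (SimplexCategory.Hom.ext _ _ (OrderHom.ext _ _ (funext fun x => rfl))))
      exact (Zigzag.of_inv a).trans (Zigzag.of_hom b)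
    have hobj : ∀ j, Zigzag j (vtx (j.hom.unop.toOrderHom 0)) := fun j =>
      Zigzag.of_hom (StructuredArrow.homMk (Hom.tr (SimplexCategory.const ⦋0⦌ j.right.unop.obj 0) (Nat.zero_le k) j.right.unop.property).op
        (Quiver.Hom.unop_inj (SimplexCategory.Hom.ext _ _ (OrderHom.ext _ _ (funext fun x => rfl)))))
    haveI : Nonempty (CategoryTheory.StructuredArrow d i) := ⟨vtx 0⟩
    exact zigzag_isConnected fun j₁ j₂ =>
      ((hobj j₁).trans (hface _).symm).trans ((hface _).trans (hobj j₂).symm)
  haveI : i.HasPointwiseRightKanExtension (i ⋙ V) := fun d => by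
    unfold Functor.HasPointwiseRightKanExtensionAt
    infer_instance
  haveI hV : Functor.IsRightKanExtension V (𝟙 (i ⋙ V)) :=
    (inferInstance : SimplicialObject.IsCoskeletal V k).isRightKanExtension
  let hp := Functor.isPointwiseRightKanExtensionOfIsRightKanExtension (L := i) (F := i ⋙ V) V (𝟙 (i ⋙ V))
  constructor
  refine Functor.RightExtension.IsPointwiseRightKanExtension.isRightKanExtension
    (E := SimplicialObject.Truncated.rightExtensionInclusion (V ⋙ Over.forget X) k) fun d => ?_
  exact (isLimitOfPreserves (Over.forget X) (hp d)).ofIsoLimit (Cone.ext (Iso.refl _) (fun j => (Category.id_comp _).symm))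

end Groth.Agent.S6813
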