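import Groth.Statements.S6814
import Mathlib

set_option autoImplicit false
open CategoryTheory CategoryTheory.Limits Opposite
universe v u
open CategoryTheory CategoryTheory.SimplicialObject CategoryTheory.SimplicialObject.Truncated

namespace Groth.Agent.S6814

set_option backward.isDefEq.respectTransparency false

/-- Let `U` be an `(n+1)`-truncated simplicial object of a category `C` (so the truncation level is at
least `1`), and let `T` be an object with morphisms `π_0, …, π_{n+2} : T ⟶ U_{n+1}` satisfying the
face relations `d_j π_i = d_i π_{j+1}` for `i ≤ j` and universal among such families (that is, `T`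
represents the functor of `(n+3)`-tuples of morphisms to `U_{n+1}` satisfying the face relations).
Then `U` extends to an `(n+2)`-truncated simplicial object right adjoint to restriction: the
pointwise right Kan extension of `U` along the inclusion of `(n+1)`-truncated into `(n+2)`-truncated
simplex categories exists, and for any right Kan extension `V` of `U` the morphism `V_{n+2} ⟶ T`
matching the faces of `V` with the `π_k` is an isomorphism (the new top term is the representing
object). -/
theorem result {C : Type u} [Category.{v} C] (n : ℕ) (U : (SimplexCategory.Truncated (n + 1))ᵒᵖ ⥤ C) (T : C) (π : Fin (n + 3) → (T ⟶ U.obj (op ⟨SimplexCategory.mk (n + 1), (SimplexCategory.len_mk (n + 1)).le⟩))) (hπ : ∀ i j : Fin (n + 2), i ≤ j → π (Fin.castSucc i) ≫ U.map (SimplexCategory.Truncated.δ (n + 1) j ((SimplexCategory.len_mk n).trans_le (Nat.le_succ n)) (SimplexCategory.len_mk (n + 1)).le).op = π j.succ ≫ U.map (SimplexCategory.Truncated.δ (n + 1) i ((SimplexCategory.len_mk n).trans_le (Nat.le_succ n)) (SimplexCategory.len_mk (n + 1)).le).op)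 (huniv : ∀ (S : C) (g : Fin (n + 3) → (S ⟶ U.obj (op ⟨SimplexCategory.mk (n + 1), (SimplexCategory.len_mk (n + 1)).le⟩))), (∀ i j : Fin (n + 2), i ≤ j → g (Fin.castSucc i) ≫ U.map (SimplexCategory.Truncated.δ (n + 1) j ((SimplexCategory.len_mk n).trans_le (Nat.le_succ n)) (SimplexCategory.len_mk (n + 1)).le).op = g j.succ ≫ U.map (SimplexCategory.Truncated.δ (n + 1) i ((SimplexCategory.len_mk n).trans_le (Nat.le_succ n)) (SimplexCategory.len_mk (n + 1)).le).op) → ∃! t : S ⟶ T, ∀ k : Fin (n + 3), t ≫ π k = g k) : (SimplexCategory.Truncated.incl (n + 1) (n + 2) (Nat.le_succ _)).op.HasPointwiseRightKanExtension U ∧ ∀ (V : (SimplexCategory.Truncated (n + 2))ᵒᵖ ⥤ C) (α : (SimplexCategory.Truncated.incl (n + 1) (n + 2) (Nat.le_succ _)).op ⋙ V ⟶ U) [V.IsRightKanExtension α] (t : V.obj (op ⟨SimplexCategory.mk (n + 2), (SimplexCategory.len_mk (n + 2)).le⟩) ⟶ T), (∀ k : Fin (n + 3), t ≫ π k = V.map (SimplexCategory.Truncated.δ (n + 2) k ((SimplexCategory.len_mk (n + 1)).trans_le (Nat.le_succ (n + 1))) (SimplexCategory.len_mk (n + 2)).le).op ≫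 α.app (op ⟨SimplexCategory.mk (n + 1), (SimplexCategory.len_mk (n + 1)).le⟩)) → IsIso t := by
  let N : SimplexCategory.Truncated (n + 2) :=
    ⟨SimplexCategory.mk (n + 2), (SimplexCategory.len_mk (n + 2)).le⟩
  let L := (SimplexCategory.Truncated.incl (n + 1) (n + 2) (Nat.le_succ _)).op
  let top : SimplexCategory.Truncated (n + 1) :=
    ⟨SimplexCategory.mk (n + 1), (SimplexCategory.len_mk (n + 1)).le⟩
  -- well-definedness
  have hwd : ∀ (a : SimplexCategory.Truncated (n + 1)) (i j : Fin (n + 3)) (u u' : a ⟶ top),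
      u.hom ≫ SimplexCategory.δ i = u'.hom ≫ SimplexCategory.δ j → π i ≫ U.map u.op = π j ≫ U.map u'.op := by
    intro a
    have main : ∀ (i j : Fin (n + 3)) (u u' : a ⟶ top), (i : ℕ) ≤ j →
        u.hom ≫ SimplexCategory.δ i = u'.hom ≫ SimplexCategory.δ j → π i ≫ U.map u.op = π j ≫ U.map u'.op := by
      intro i j u u' hle h
      by_cases hij : i = j
      · subst hij
        rw [cancel_mono] at h
        obtain rfl : u = u' := ObjectProperty.hom_ext _ h
        rfl
      have hlt : (i : ℕ) < j := lt_of_le_of_ne hle fun e => hij (Fin.ext e)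
      obtain ⟨i', rfl⟩ : ∃ i' : Fin (n + 2), i = i'.castSucc := ⟨⟨i, by omega⟩, Fin.ext rfl⟩
      obtain ⟨j', rfl⟩ : ∃ j' : Fin (n + 2), j = j'.succ :=
        ⟨⟨j - 1, by omega⟩, Fin.ext (by simp only [Fin.val_succ]; omega)⟩
      have hle' : i' ≤ j' := by
        simp only [Fin.val_castSucc, Fin.val_succ] at hlt
        rw [Fin.le_def]; omega
      obtain ⟨v, hv⟩ := SimplexCategory.eq_comp_δ_of_not_surjective' (n := n) u.hom j' (fun x hx => by
        have e := congrArg (fun t => t.toOrderHom x) h
        change i'.castSucc.succAbove (u.hom.toOrderHom x) = j'.succ.succAbove (u'.hom.toOrderHom x) at e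
        rw [hx, Fin.succAbove_of_le_castSucc _ _ (Fin.castSucc_le_castSucc_iff.2 hle')] at e
        exact Fin.succAbove_ne _ _ e.symm)
      have hv' : u'.hom = v ≫ SimplexCategory.δ i' := by
        rw [← cancel_mono (SimplexCategory.δ j'.succ), ← h, hv, Category.assoc, Category.assoc,
          SimplexCategory.δ_comp_δ hle']
      have e1 : u = (⟨v⟩ : a ⟶ ⟨SimplexCategory.mk n, (SimplexCategory.len_mk n).trans_le (Nat.le_succ n)⟩) ≫
          SimplexCategory.Truncated.δ (n + 1) j' _ (SimplexCategory.len_mk (n + 1)).le := ObjectProperty.hom_ext _ hv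
      have e2 : u' = (⟨v⟩ : a ⟶ ⟨SimplexCategory.mk n, (SimplexCategory.len_mk n).trans_le (Nat.le_succ n)⟩) ≫
          SimplexCategory.Truncated.δ (n + 1) i' _ (SimplexCategory.len_mk (n + 1)).le := ObjectProperty.hom_ext _ hv'
      rw [e1, e2, op_comp, op_comp, U.map_comp, U.map_comp, reassoc_of% (hπ i' j' hle')]
    intro i j u u' h
    rcases le_total (i : ℕ) j with hle | hle
    · exact main i j u u' hle h
    · exact (main j i u' u hle h.symm).symm
  -- factorisation
  have hfac : ∀ (x : StructuredArrow (op N) L), ∃ (i : Fin (n + 3)) (u : x.right.unop ⟶ top),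
      x.hom.unop.hom = u.hom ≫ SimplexCategory.δ i := fun x => by
    obtain ⟨i, θ, hθ⟩ := SimplexCategory.eq_comp_δ_of_not_surjective (n := n + 1) (Δ := x.right.unop.obj)
      x.hom.unop.hom (fun hs => by
        haveI := SimplexCategory.epi_iff_surjective.2 hs
        have h1 := SimplexCategory.le_of_epi x.hom.unop.hom
        have h2 := x.right.unop.property
        change n + 1 + 1 ≤ x.right.unop.obj.len at h1
        omega)
    exact ⟨i, ⟨θ⟩, hθ⟩
  choose fi fu hf using hfac
  let cone : Cone (StructuredArrow.proj (op N) L ⋙ U) :=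
    { pt := T
      π :=
        { app := fun x => π (fi x) ≫ U.map (fu x).op
          naturality := fun x y φ => by
            show 𝟙 T ≫ π (fi y) ≫ U.map (fu y).op = (π (fi x) ≫ U.map (fu x).op) ≫ U.map φ.right
            rw [Category.id_comp, Category.assoc, ← U.map_comp]
            refine hwd _ _ _ (fu y) (φ.right.unop ≫ fu x) ?_
            rw [← hf y]
            show y.hom.unop.hom = φ.right.unop.hom ≫ (fu x).hom ≫ SimplexCategory.δ (fi x)
            rw [← hf x, ← StructuredArrow.w φ]
            rfl } }
  let e : Fin (n + 3) → StructuredArrow (op N) L := fun k => StructuredArrow.mk (Y := op top)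
    (SimplexCategory.Truncated.δ (n + 2) k ((SimplexCategory.len_mk (n + 1)).trans_le (Nat.le_succ (n + 1)))
      (SimplexCategory.len_mk (n + 2)).le).op
  have he : ∀ k, cone.π.app (e k) = π k := fun k => by
    show π (fi (e k)) ≫ U.map (fu (e k)).op = π k
    refine (hwd top (fi (e k)) k (fu (e k)) (𝟙 top) ?_).trans ?_
    · exact (hf (e k)).symm.trans (Category.id_comp _).symm
    · rw [op_id, U.map_id]
      exact Category.comp_id _
  have hex : ∀ (s : Cone (StructuredArrow.proj (op N) L ⋙ U)), ∃! t : s.pt ⟶ T, ∀ k, t ≫ π k = s.π.app (e k) := by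
    intro s
    refine huniv s.pt (fun k => s.π.app (e k)) fun i j hij => ?_
    have hw : ∀ (k : Fin (n + 3)) (l : Fin (n + 2)), s.π.app (e k) ≫ U.map (SimplexCategory.Truncated.δ (n + 1) l
        ((SimplexCategory.len_mk n).trans_le (Nat.le_succ n)) (SimplexCategory.len_mk (n + 1)).le).op =
        s.π.app (StructuredArrow.mk ((e k).hom ≫ L.map (SimplexCategory.Truncated.δ (n + 1) l
        ((SimplexCategory.len_mk n).trans_le (Nat.le_succ n)) (SimplexCategory.len_mk (n + 1)).le).op)) :=
      fun k l => s.w (StructuredArrow.homMk' (e k) _)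
    rw [hw, hw]
    congr 2
    refine Quiver.Hom.unop_inj (ObjectProperty.hom_ext _ ?_)
    exact (SimplexCategory.δ_comp_δ hij).symm
  let hlim : IsLimit cone :=
    { lift := fun s => (hex s).choose
      fac := fun s x => by
        show _ ≫ π (fi x) ≫ U.map (fu x).op = _
        rw [← Category.assoc, (hex s).choose_spec.1]
        refine (s.w (StructuredArrow.homMk' (e (fi x)) (fu x).op)).trans ?_
        obtain ⟨⟨⟨⟩⟩, r, hr⟩ := x
        congr 2
        exact Quiver.Hom.unop_inj (ObjectProperty.hom_ext _ (hf _).symm)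
      uniq := fun s m hm => (hex s).choose_spec.2 m fun k => by rw [← he k]; exact hm _ }
  have hpw : L.HasPointwiseRightKanExtension U := by
    intro d
    by_cases hd : d.unop.obj.len ≤ n + 1
    · haveI : L.Full := inferInstance
      exact HasLimit.mk ⟨_, limitOfDiagramInitial
        (StructuredArrow.mkIdInitial (T := L) (Y := op ⟨d.unop.obj, hd⟩)) _⟩
    · obtain rfl : d = op N := by
        have h2 := d.unop.property
        exact congrArg op (ObjectProperty.FullSubcategory.ext (SimplexCategory.ext
          (show d.unop.obj.len = n + 2 by omega)))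
      exact HasLimit.mk ⟨cone, hlim⟩
  refine ⟨hpw, fun V α _ t ht => ?_⟩
  haveI := hpw
  let hV : IsLimit ((Functor.RightExtension.mk V α).coneAt (op N)) :=
    Functor.isPointwiseRightKanExtensionOfIsRightKanExtension V α (op N)
  have hcomp : ∀ x, t ≫ cone.π.app x = ((Functor.RightExtension.mk V α).coneAt (op N)).π.app x := by
    intro x
    obtain ⟨s, hs, -⟩ := hex ((Functor.RightExtension.mk V α).coneAt (op N))
    obtain rfl : t = hlim.lift ((Functor.RightExtension.mk V α).coneAt (op N)) :=
      (hex ((Functor.RightExtension.mk V α).coneAt (op N))).choose_spec.2 t ht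
    exact hlim.fac _ x
  let m : (Functor.RightExtension.mk V α).coneAt (op N) ⟶ cone := ConeMorphism.mk t hcomp
  haveI : IsIso m := IsLimit.hom_isIso hV hlim m
  exact inferInstanceAs (IsIso ((Cone.forget _).map m))

end Groth.Agent.S6814
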