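import Groth.Statements.S6815
import Mathlib
-- import your own Groth.Agent.* helpers here

set_option autoImplicit false
open CategoryTheory CategoryTheory.Limits
universe w v u
open CategoryTheory CategoryTheory.SimplicialObject

namespace Groth.Agent.S6815

/-- Homotopies between the factors of two product morphisms of simplicial objects assemble to a homotopy
between the products. -/
theorem result {C : Type u} [Category.{v} C] {T : Type w} [HasLimitsOfShape (Discrete T) C] {X Y : T → SimplicialObject C} (a b : ∀ t, X t ⟶ Y t) (h : ∀ t, Nonempty (SimplicialObject.Homotopy (a t) (b t))) : Nonempty (SimplicialObject.Homotopy (Limits.Pi.map a) (Limits.Pi.map b)) := by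
  let H := h
  let hc : ∀ (Z : T → SimplicialObject C) (d : SimplexCategoryᵒᵖ),
      Limits.IsLimit (Limits.Fan.mk ((∏ᶜ Z).obj d) (fun t => (Limits.Pi.π Z t).app d)) := fun Z d =>
    Limits.isLimitFanMkObjOfIsLimit ((evaluation SimplexCategoryᵒᵖ C).obj d) _ _ (Limits.productIsProduct Z)
  have ext' : ∀ (Z : T → SimplicialObject C) (d : SimplexCategoryᵒᵖ) {S : C} (u v : S ⟶ (∏ᶜ Z).obj d),
      (∀ t, u ≫ (Limits.Pi.π Z t).app d = v ≫ (Limits.Pi.π Z t).app d) → u = v :=
    fun Z d S u v e => Limits.Fan.IsLimit.hom_ext (hc Z d) u v e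
  let hh : ∀ {n : ℕ} (i : Fin (n + 1)), (∏ᶜ X).obj (Opposite.op (SimplexCategory.mk n)) ⟶
      (∏ᶜ Y).obj (Opposite.op (SimplexCategory.mk (n + 1))) := fun {n} i =>
    Limits.Fan.IsLimit.desc (hc Y _) (fun t => (Limits.Pi.π X t).app _ ≫ (H t).some.h i)
  have fac : ∀ {n : ℕ} (i : Fin (n + 1)) (t : T), hh i ≫ (Limits.Pi.π Y t).app _ =
      (Limits.Pi.π X t).app _ ≫ (H t).some.h i := fun i t => Limits.Fan.IsLimit.fac (hc Y _) _ t
  have natδY : ∀ (n : ℕ) (k : Fin (n + 2)) (t : T), (∏ᶜ Y).map (SimplexCategory.δ k).op ≫ (Limits.Pi.π Y t).app _ =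
      (Limits.Pi.π Y t).app _ ≫ (Y t).map (SimplexCategory.δ k).op := fun n k t => (Limits.Pi.π Y t).naturality _
  have natσY : ∀ (n : ℕ) (k : Fin (n + 1)) (t : T), (∏ᶜ Y).map (SimplexCategory.σ k).op ≫ (Limits.Pi.π Y t).app _ =
      (Limits.Pi.π Y t).app _ ≫ (Y t).map (SimplexCategory.σ k).op := fun n k t => (Limits.Pi.π Y t).naturality _
  have natδX : ∀ (n : ℕ) (k : Fin (n + 2)) (t : T), (∏ᶜ X).map (SimplexCategory.δ k).op ≫ (Limits.Pi.π X t).app _ =
      (Limits.Pi.π X t).app _ ≫ (X t).map (SimplexCategory.δ k).op := fun n k t => (Limits.Pi.π X t).naturality _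
  have natσX : ∀ (n : ℕ) (k : Fin (n + 1)) (t : T), (∏ᶜ X).map (SimplexCategory.σ k).op ≫ (Limits.Pi.π X t).app _ =
      (Limits.Pi.π X t).app _ ≫ (X t).map (SimplexCategory.σ k).op := fun n k t => (Limits.Pi.π X t).naturality _
  have natmap : ∀ (c : ∀ t, X t ⟶ Y t) (d : SimplexCategoryᵒᵖ) (t : T),
      (Limits.Pi.map c).app d ≫ (Limits.Pi.π Y t).app d = (Limits.Pi.π X t).app d ≫ (c t).app d := fun c d t => by
    rw [← NatTrans.comp_app, Limits.Pi.map_π, NatTrans.comp_app]
  refine ⟨{ h := hh, h_zero_comp_δ_zero := ?_, h_last_comp_δ_last := ?_,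
            h_succ_comp_δ_castSucc_of_lt := ?_, h_succ_comp_δ_castSucc_succ := ?_,
            h_castSucc_comp_δ_succ_of_lt := ?_, h_comp_σ_castSucc_of_le := ?_, h_comp_σ_succ_of_lt := ?_ }⟩
  all_goals intros
  all_goals refine ext' _ _ _ _ fun t => ?_
  all_goals simp only [SimplicialObject.δ, SimplicialObject.σ, Category.assoc, natmap, natδY, natσY, reassoc_of% fac]
  · exact congrArg (_ ≫ ·) ((H t).some.h_zero_comp_δ_zero _)
  · exact congrArg (_ ≫ ·) ((H t).some.h_last_comp_δ_last _)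
  · rw [fac, reassoc_of% natδX]
    exact congrArg (_ ≫ ·) ((H t).some.h_succ_comp_δ_castSucc_of_lt _ _ (by assumption))
  · exact congrArg (_ ≫ ·) ((H t).some.h_succ_comp_δ_castSucc_succ _)
  · rw [fac, reassoc_of% natδX]
    exact congrArg (_ ≫ ·) ((H t).some.h_castSucc_comp_δ_succ_of_lt _ _ (by assumption))
  · rw [fac, reassoc_of% natσX]
    exact congrArg (_ ≫ ·) ((H t).some.h_comp_σ_castSucc_of_le _ _ (by assumption))
  · rw [fac, reassoc_of% natσX]
    exact congrArg (_ ≫ ·) ((H t).some.h_comp_σ_succ_of_lt _ _ (by assumption))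

end Groth.Agent.S6815
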