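import Mathlib
import Groth.Statements.S6816

set_option autoImplicit false
open CategoryTheory CategoryTheory.Limits
universe v u
open CochainComplex

namespace Groth.Agent.S6816

/-- The boundary morphisms `C ⟶ A⟦1⟧` attached to two degreewise splittings of a degreewise split
sequence `A ⟶ B ⟶ C` of cochain complexes are homotopic. -/
theorem result {C : Type u} [Category.{v} C] [Preadditive C] [HasBinaryBiproducts C] (S : ShortComplex (CochainComplex C ℤ)) (σ σ' : ∀ n : ℤ, (S.map (HomologicalComplex.eval C (ComplexShape.up ℤ) n)).Splitting) : Nonempty (Homotopy (CochainComplex.homOfDegreewiseSplit S σ) (CochainComplex.homOfDegreewiseSplit S σ')) := by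
  let s : ∀ m, S.X₃.X m ⟶ S.X₂.X m := fun m => (σ m).s
  let r : ∀ m, S.X₂.X m ⟶ S.X₁.X m := fun m => (σ m).r
  let s' : ∀ m, S.X₃.X m ⟶ S.X₂.X m := fun m => (σ' m).s
  let r' : ∀ m, S.X₂.X m ⟶ S.X₁.X m := fun m => (σ' m).r
  have hsg : ∀ m, s m ≫ S.g.f m = 𝟙 _ := fun m => (σ m).s_g
  have hsg' : ∀ m, s' m ≫ S.g.f m = 𝟙 _ := fun m => (σ' m).s_g
  have hfr : ∀ m, S.f.f m ≫ r m = 𝟙 _ := fun m => (σ m).f_r
  have hid : ∀ m, r m ≫ S.f.f m + S.g.f m ≫ s m = 𝟙 _ := fun m => (σ m).id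
  have hid' : ∀ m, r' m ≫ S.f.f m + S.g.f m ≫ s' m = 𝟙 _ := fun m => (σ' m).id
  have z1 : ∀ m, S.f.f m ≫ S.g.f m = 0 := fun m => by
    rw [← HomologicalComplex.comp_f, S.zero, HomologicalComplex.zero_f]
  have key : ∀ m, s' m = s m + (s' m ≫ r m) ≫ S.f.f m := fun m => by
    conv_lhs => rw [← Category.comp_id (s' m), ← hid m, Preadditive.comp_add, ← Category.assoc,
      ← Category.assoc, hsg' m, Category.id_comp, add_comm]
  have key' : ∀ m, r' m = r m - S.g.f m ≫ s' m ≫ r m := fun m => by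
    rw [eq_sub_iff_add_eq]
    conv_rhs => rw [← Category.id_comp (r m), ← hid' m, Preadditive.add_comp, Category.assoc,
      Category.assoc, hfr m, Category.comp_id]
  refine ⟨{
    hom := fun i j => if h : j + 1 = i then (s' i ≫ r i) ≫ (S.X₁.XIsoOfEq h).inv else 0
    zero := fun i j h => dif_neg h
    comm := fun n => ?_ }⟩
  rw [dNext_eq _ (show (ComplexShape.up ℤ).Rel n (n + 1) from rfl),
    prevD_eq _ (show (ComplexShape.up ℤ).Rel (n - 1) n from sub_add_cancel n 1)]
  rw [CochainComplex.homOfDegreewiseSplit_f, CochainComplex.homOfDegreewiseSplit_f,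
    dif_pos rfl, dif_pos (sub_add_cancel n 1)]
  rw [show (S.X₁⟦(1 : ℤ)⟧).d (n - 1) n = -S.X₁.d (n - 1 + 1) (n + 1) by
    simp [CochainComplex.shiftFunctor_obj_d', Int.negOnePow_one]]
  simp only [CochainComplex.cocycleOfDegreewiseSplit, CochainComplex.HomComplex.Cocycle.mk_coe,
    CochainComplex.HomComplex.Cochain.mk_v, HomologicalComplex.XIsoOfEq_rfl, Iso.refl_inv]
  have e : s n ≫ S.X₂.d n (n + 1) ≫ r (n + 1) =
      S.X₃.d n (n + 1) ≫ s' (n + 1) ≫ r (n + 1) + -((s' n ≫ r n) ≫ S.X₁.d n (n + 1)) +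
        s' n ≫ S.X₂.d n (n + 1) ≫ r' (n + 1) := by
    conv_rhs => arg 2; rw [key n, key' (n + 1)]
    simp only [Preadditive.add_comp, Preadditive.comp_sub, Category.assoc,
      S.f.comm_assoc, reassoc_of% (z1 (n + 1)), reassoc_of% (z1 n),
      ← S.g.comm_assoc, reassoc_of% (hsg n), hfr, zero_comp, comp_zero, Category.comp_id]
    abel
  refine Eq.trans ?_ (e.trans ?_)
  · rfl
  · refine congrArg₂ (· + ·) (congrArg₂ (· + ·) ?_ ?_) rfl
    · exact congrArg (S.X₃.d n (n + 1) ≫ ·) (Category.comp_id _).symm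
    · rw [← HomologicalComplex.XIsoOfEq_inv_comp_d S.X₁ (sub_add_cancel n 1) (n + 1)]
      simp only [Category.assoc]
      erw [Preadditive.comp_neg, Preadditive.comp_neg, Preadditive.comp_neg]
      rfl

end Groth.Agent.S6816
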