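import Groth.Statements.S6818
import Mathlib.AlgebraicTopology.DoldKan.Normalized
import Mathlib.AlgebraicTopology.DoldKan.Degeneracies
import Mathlib.CategoryTheory.Subobject.Lattice
import Mathlib.CategoryTheory.Abelian.Exact

set_option autoImplicit false
open CategoryTheory CategoryTheory.Limits Opposite
universe v u
open CategoryTheory CategoryTheory.Abelian

namespace Groth.Agent.S6818

set_option backward.isDefEq.respectTransparency false
section
open CategoryTheory CategoryTheory.Limits
variable {A : Type u} [Category.{v} A] [Abelian A]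

theorem image_le_ker {X Y Z : A} (f : X ⟶ Y) (g : Y ⟶ Z) (h : f ≫ g = 0) :
    imageSubobject f ≤ kernelSubobject g :=
  imageSubobject_le f (factorThruKernelSubobject g f h) (factorThruKernelSubobject_comp_arrow g f h)

theorem comp_eq_zero_of_le {Y Z : A} (U : Subobject Y) (g : Y ⟶ Z) (h : U ≤ kernelSubobject g) :
    U.arrow ≫ g = 0 := by
  rw [← Subobject.ofLE_arrow h, Category.assoc, kernelSubobject_arrow_comp, comp_zero]

theorem image_le_of_zero {X Y : A} (f : X ⟶ Y) (W : Subobject Y) (h : f ≫ cokernel.π W.arrow = 0) :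
    imageSubobject f ≤ W :=
  imageSubobject_le f ((ShortComplex.exact_cokernel W.arrow).lift f h)
    ((ShortComplex.exact_cokernel W.arrow).lift_f f h)

end

/-- For a simplicial object `U` of an abelian category and `n ≥ 0`, the subobjects `U'_m ⊆ U_m`
generated by the images of all `U_i ⟶ U_m` induced by maps `[m] ⟶ [i]` with `i ≤ n` form a
simplicial subobject equal to `U` in dimensions `≤ n` whose normalized part vanishes in dimensions
`> n`. Here the normalized subobject of `U_m` is the joint kernel of the faces `d_1, …, d_m`; the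
published statement uses the faces `d_0, …, d_{m-1}`, the mirror-image convention, and both versions
hold. -/
theorem result {A : Type u} [Category.{v} A] [Abelian A] (U : SimplicialObject A) (n : ℕ) (U' : ∀ m : ℕ, Subobject (U.obj (op (SimplexCategory.mk m)))) (hU' : ∀ m : ℕ, IsLUB (Set.range (fun φ : Σ i : Fin (n + 1), (SimplexCategory.mk m ⟶ SimplexCategory.mk i) => imageSubobject (U.map φ.2.op))) (U' m)) : (∀ (m m' : ℕ) (ψ : SimplexCategory.mk m' ⟶ SimplexCategory.mk m), imageSubobject ((U' m).arrow ≫ U.map ψ.op) ≤ U' m') ∧ (∀ i : ℕ, i ≤ n → U' i = ⊤) ∧ (∀ m : ℕ, n < m → U' m ⊓ AlgebraicTopology.NormalizedMooreComplex.objX U m = ⊥) := by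
  have hmem : ∀ (m i : ℕ) (_ : i ≤ n) (φ : SimplexCategory.mk m ⟶ SimplexCategory.mk i),
      imageSubobject (U.map φ.op) ≤ U' m := fun m i hi φ =>
    (hU' m).1 ⟨⟨⟨i, Nat.lt_succ_of_le hi⟩, φ⟩, rfl⟩
  refine ⟨fun m m' ψ => ?_, fun i hi => ?_, fun m hm => ?_⟩
  · apply image_le_of_zero
    rw [Category.assoc]
    refine comp_eq_zero_of_le _ _ ((hU' m).2 ?_)
    rintro _ ⟨⟨i, φ⟩, rfl⟩
    apply image_le_ker
    rw [← Category.assoc, ← Functor.map_comp, ← op_comp]
    have hle := hmem m' i.1 (Nat.lt_succ_iff.1 i.2) (ψ ≫ φ)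
    rw [← imageSubobject_arrow_comp (U.map (ψ ≫ φ).op), ← Subobject.ofLE_arrow hle, Category.assoc, Category.assoc,
      cokernel.condition, comp_zero, comp_zero]
  · have := hmem i i hi (𝟙 _)
    rw [eq_top_iff]
    refine le_trans (le_of_eq ?_) this
    haveI : IsIso (U.map (𝟙 (SimplexCategory.mk i)).op) := inferInstance
    haveI : Epi (imageSubobject (U.map (𝟙 (SimplexCategory.mk i)).op)).arrow :=
      epi_of_epi_fac (imageSubobject_arrow_comp _)
    haveI : IsIso (imageSubobject (U.map (𝟙 (SimplexCategory.mk i)).op)).arrow := isIso_of_mono_of_epi _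
    exact (Subobject.eq_top_of_isIso_arrow _).symm
  · have hker : U' m ≤ kernelSubobject ((AlgebraicTopology.DoldKan.PInfty (X := U)).f m) := (hU' m).2 (by
      rintro _ ⟨⟨i, φ⟩, rfl⟩
      apply image_le_ker
      refine AlgebraicTopology.DoldKan.degeneracy_comp_PInfty U m φ (fun hφ => ?_)
      have := SimplexCategory.len_le_of_mono φ
      simp only [SimplexCategory.len_mk] at this
      have := i.2
      omega)
    rw [← le_bot_iff]
    set W := U' m ⊓ AlgebraicTopology.NormalizedMooreComplex.objX U m
    have h1 : W.arrow ≫ (AlgebraicTopology.DoldKan.PInfty (X := U)).f m = 0 :=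
      comp_eq_zero_of_le _ _ (le_trans inf_le_left hker)
    have h2 := HomologicalComplex.congr_hom (AlgebraicTopology.DoldKan.inclusionOfMooreComplexMap_comp_PInfty U) m
    have h3 : W.arrow = 0 := by
      have hN : W ≤ AlgebraicTopology.NormalizedMooreComplex.objX U m := inf_le_right
      have h4 : (AlgebraicTopology.NormalizedMooreComplex.objX U m).arrow ≫ (AlgebraicTopology.DoldKan.PInfty (X := U)).f m =
          (AlgebraicTopology.NormalizedMooreComplex.objX U m).arrow := h2
      rw [← Subobject.ofLE_arrow hN, ← h4, ← Category.assoc, Subobject.ofLE_arrow hN]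
      exact h1
    exact Subobject.le_of_comm 0 (by rw [zero_comp, h3])

end Groth.Agent.S6818
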