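import Groth.Statements.S6819
import Groth.Agent.SkelMono.Basic
-- import your own Groth.Agent.* helpers here

set_option autoImplicit false
open CategoryTheory CategoryTheory.Limits Opposite
universe v u
open CategoryTheory CategoryTheory.Abelian

namespace Groth.Agent.S6819

/-- For a simplicial object `U` of an abelian category, the counit `i_{n!} sk_n U ⟶ U` of the skeleton
adjunction is a monomorphism in each degree, with image the subobject generated by the images of the
maps `U_i ⟶ U_m` induced by `[m] ⟶ [i]`, `i ≤ n`. -/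
theorem result {A : Type u} [Category.{v} A] [Abelian A] (U : SimplicialObject A) (n : ℕ) (U' : ∀ m : ℕ, Subobject (U.obj (op (SimplexCategory.mk m)))) (hU' : ∀ m : ℕ, IsLUB (Set.range (fun φ : Σ i : Fin (n + 1), (SimplexCategory.mk m ⟶ SimplexCategory.mk i) => imageSubobject (U.map φ.2.op))) (U' m)) [∀ F : (SimplexCategory.Truncated n)ᵒᵖ ⥤ A, (SimplexCategory.Truncated.inclusion n).op.HasLeftKanExtension F] (m : ℕ) : Mono (((SimplicialObject.skAdj n).counit.app U).app (op (SimplexCategory.mk m))) ∧ imageSubobject (((SimplicialObject.skAdj n).counit.app U).app (op (SimplexCategory.mk m))) = U' m := by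
  refine ⟨Groth.Agent.SkelMono.mono_c n (Groth.Agent.SkelMono.splitting U) (SimplexCategory.mk m), ?_⟩
  refine le_antisymm (Groth.Agent.SkelMono.image_le_of_gen n U _ _ fun a ha f => ?_) ((hU' m).2 ?_)
  · induction a using SimplexCategory.rec with
    | _ i => exact (hU' m).1 ⟨⟨⟨i, Nat.lt_succ_iff.2 ha⟩, f⟩, rfl⟩
  · rintro _ ⟨⟨i, f⟩, rfl⟩
    exact Groth.Agent.SkelMono.le_image n U _ (Nat.lt_succ_iff.1 i.2) f

end Groth.Agent.S6819
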