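import Mathlib
import Groth.Statements.S6820

set_option autoImplicit false
universe u
open Smoothing

namespace Groth.Agent.S6820

/-- Let A be a Noetherian ring, M a finite A-module, S a multiplicative subset of A and π an element of
A such that on the localised module S⁻¹M the kernels of multiplication by π and by π² agree. Then
there is an element s of S such that for every n > 0 the kernels of multiplication by sⁿπ and by
(sⁿπ)² on M agree. (Kernel equalities are written as implications, the reverse inclusions being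
automatic.) -/
theorem result {A : Type u} [CommRing A] [IsNoetherianRing A]
    (M : Type u) [AddCommGroup M] [Module A M] [Module.Finite A M] (S : Submonoid A) (π : A)
    (h : ∀ m : LocalizedModule S M, π ^ 2 • m = 0 → π • m = 0) :
    ∃ s ∈ S, ∀ n : ℕ, 0 < n → ∀ m : M, (s ^ n * π) ^ 2 • m = 0 → (s ^ n * π) • m = 0 := by
  let K : Submodule A M := LinearMap.ker (LinearMap.lsmul A M (π ^ 2))
  have hK : ∀ m ∈ K, ∃ s ∈ S, s • π • m = 0 := fun m hm => by
    have h1 := h (LocalizedModule.mkLinearMap S M m) (by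
      rw [← map_smul]; exact (congrArg _ (LinearMap.mem_ker.mp hm)).trans (map_zero _))
    rw [← map_smul] at h1
    obtain ⟨c, hc⟩ := (IsLocalizedModule.eq_zero_iff S (LocalizedModule.mkLinearMap S M)).mp h1
    exact ⟨c, c.2, hc⟩
  obtain ⟨T, hT⟩ := IsNoetherian.noetherian K
  have hTK : ∀ m ∈ T, m ∈ K := fun m hm => hT.le (Submodule.subset_span hm)
  choose! g hgS hg using hK
  classical
  let s₀ : A := ∏ m ∈ T, g m
  have hs₀ : s₀ ∈ S := prod_mem fun m hm => hgS m (hTK m hm)
  have hkill : ∀ m ∈ K, s₀ • π • m = 0 := by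
    intro m hm
    have hm' : m ∈ Submodule.span A (T : Set M) := hT.ge hm
    have hle : Submodule.span A (T : Set M) ≤ LinearMap.ker (LinearMap.lsmul A M (s₀ * π)) := Submodule.span_le.mpr fun y hy => by
      obtain ⟨c, hc⟩ : g y ∣ s₀ := Finset.dvd_prod_of_mem _ hy
      simp only [SetLike.mem_coe, LinearMap.mem_ker, LinearMap.lsmul_apply]
      rw [hc, mul_comm (g y) c, mul_assoc, mul_smul, mul_smul, hg y (hTK y hy), smul_zero]
    have := hle hm'
    rwa [LinearMap.mem_ker, LinearMap.lsmul_apply, mul_smul] at this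
  obtain ⟨k, hk⟩ := monotone_stabilizes_iff_noetherian.mpr (inferInstance : IsNoetherian A M)
    ⟨fun j => LinearMap.ker (LinearMap.lsmul A M (s₀ ^ j)), fun i j hij m hm => by
      rw [LinearMap.mem_ker, LinearMap.lsmul_apply] at hm ⊢
      rw [← Nat.sub_add_cancel hij, pow_add, mul_smul, hm, smul_zero]⟩
  refine ⟨s₀ ^ (k + 1), pow_mem hs₀ _, fun n hn m hm => ?_⟩
  have hm2 : ((s₀ ^ (k + 1)) ^ n) ^ 2 • m ∈ K := by
    rw [LinearMap.mem_ker, LinearMap.lsmul_apply, smul_smul, ← mul_pow, mul_comm π]
    exact hm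
  have h1 := hkill _ hm2
  have hb : π • m ∈ LinearMap.ker (LinearMap.lsmul A M (s₀ ^ ((k + 1) * n * 2 + 1))) := by
    rw [LinearMap.mem_ker, LinearMap.lsmul_apply, smul_smul]
    rw [smul_smul, smul_smul] at h1
    convert h1 using 2
    ring
  have hle : k ≤ (k + 1) * n := le_trans (Nat.le_succ k) (Nat.le_mul_of_pos_right _ hn)
  have e1 := hk ((k + 1) * n * 2 + 1) (by omega)
  have e2 := hk ((k + 1) * n) hle
  simp only [OrderHom.coe_mk] at e1 e2
  rw [← e1, e2, LinearMap.mem_ker, LinearMap.lsmul_apply] at hb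
  rw [mul_smul, ← pow_mul]
  exact hb

end Groth.Agent.S6820
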