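import Groth.Statements.S6826
import Groth.Agent.SyntLiftLib.Main
-- import your own Groth.Agent.* helpers here

set_option autoImplicit false
universe u
open Smoothing

namespace Groth.Agent.S6826

/-- Let R → R₀ be a surjective ring map with kernel I (so R₀ = R/I) and A₀ a syntomic R₀-algebra (flat,
finitely presented, with local complete intersection fibres). Then there is a syntomic R-algebra A
with A/IA isomorphic to A₀ as an R/I-algebra. -/
theorem result {R A₀ : Type u} [CommRing R] (I : Ideal R) [CommRing A₀]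
    [Algebra (R ⧸ I) A₀] (h : Synt.IsSyntomic (R ⧸ I) A₀) :
    ∃ (A : Type u) (_ : CommRing A) (_ : Algebra R A), Synt.IsSyntomic R A ∧
      Nonempty ((A ⧸ I.map (algebraMap R A)) ≃ₐ[R ⧸ I] A₀) := by
  letI : Algebra R A₀ := ((algebraMap (R ⧸ I) A₀).comp (Ideal.Quotient.mk I)).toAlgebra
  haveI : IsScalarTower R (R ⧸ I) A₀ := .of_algebraMap_eq fun _ => rfl
  obtain ⟨A, _, _, hA, ⟨e⟩⟩ := SyntLiftLib.exists_syntomic_lift (A := R) (I := I) (C := A₀) h
  exact ⟨A, inferInstance, inferInstance, hA, ⟨AlgEquiv.ofRingEquiv (f := e.toRingEquiv) fun a => by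
    obtain ⟨a, rfl⟩ := Ideal.Quotient.mk_surjective a
    exact e.commutes a⟩⟩

end Groth.Agent.S6826
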