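import Groth.Statements.S6827
import Groth.Agent.SmLift.Main
-- import your own Groth.Agent.* helpers here

set_option autoImplicit false
universe u
open Smoothing

namespace Groth.Agent.S6827

/-- Let R → R₀ be a surjective ring map with kernel I (so R₀ = R/I) and A₀ a smooth R₀-algebra. Then
there is a smooth R-algebra A with A/IA isomorphic to A₀ as an R/I-algebra. -/
theorem result {R A₀ : Type u} [CommRing R] (I : Ideal R) [CommRing A₀]
    [Algebra (R ⧸ I) A₀] [Algebra.Smooth (R ⧸ I) A₀] :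
    ∃ (A : Type u) (_ : CommRing A) (_ : Algebra R A), Algebra.Smooth R A ∧
      Nonempty ((A ⧸ I.map (algebraMap R A)) ≃ₐ[R ⧸ I] A₀) := by
  letI : Algebra R A₀ := ((algebraMap (R ⧸ I) A₀).comp (Ideal.Quotient.mk I)).toAlgebra
  haveI : IsScalarTower R (R ⧸ I) A₀ := .of_algebraMap_eq fun _ => rfl
  obtain ⟨S, _, _, hS, π, hπ, hk⟩ := SmLift.exists_smooth_lift (A := R) (I := I) (C := A₀)
  refine ⟨S, inferInstance, inferInstance, hS, ⟨?_⟩⟩
  let f : S ⧸ I.map (algebraMap R S) →ₐ[R ⧸ I] A₀ :=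
    { toRingHom := Ideal.Quotient.lift _ π.toRingHom fun a ha => hk.ge ha
      commutes' := fun a => by
        obtain ⟨a, rfl⟩ := Ideal.Quotient.mk_surjective a
        exact π.commutes a }
  refine AlgEquiv.ofBijective f ⟨RingHom.lift_injective_of_ker_le_ideal _ _ hk.le, fun c => ?_⟩
  obtain ⟨x, rfl⟩ := hπ c
  exact ⟨Ideal.Quotient.mk _ x, rfl⟩

end Groth.Agent.S6827
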