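import Groth.Statements.S6828
import Groth.Agent.CILib.Conormal
import Groth.Agent.CILib.RelGCINhd
import Groth.Agent.SmoothingLib.Retract

set_option autoImplicit false
universe u
open Smoothing

namespace Groth.Agent.S6828

set_option maxHeartbeats 1600000

set_option linter.style.haveILetI false

open MvPolynomial TensorProduct

/-- A ring has dimension at most `N` if it has so on an open cover. -/
theorem ringKrullDim_le_of_cover {S : Type u} [CommRing S] (N : WithBot ℕ∞)
    (h : ∀ P : Ideal S, P.IsPrime → ∃ a : S, a ∉ P ∧ ringKrullDim (Localization.Away a) ≤ N) : ringKrullDim S ≤ N := by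
  rw [ringKrullDim_le_iff_height_le]
  intro P hP
  obtain ⟨a, ha, hN⟩ := h P hP
  have hd : Disjoint (Submonoid.powers a : Set S) P := (Ideal.disjoint_powers_iff_notMem a hP.isRadical).2 ha
  haveI := IsLocalization.isPrime_of_isPrime_disjoint (Submonoid.powers a) (Localization.Away a) P hP hd
  rw [← IsLocalization.height_map_of_disjoint (S := Localization.Away a) (Submonoid.powers a) P hd]
  exact (Ideal.height_le_ringKrullDim_of_ne_top (Ideal.IsPrime.ne_top inferInstance)).trans hN

/-- Quotients have smaller dimension. -/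
theorem dim_le_of_surjective {A B : Type*} [CommSemiring A] [CommSemiring B] (f : A →+* B) (hf : Function.Surjective f) :
    ringKrullDim B ≤ ringKrullDim A :=
  Order.krullDim_le_of_strictMono (fun q : PrimeSpectrum B => PrimeSpectrum.comap f q)
    (Monotone.strictMono_of_injective (fun _ _ h => Ideal.comap_mono h)
      (PrimeSpectrum.comap_injective_of_surjective f hf))

theorem key_identity {T : Type*} [CommRing T] {m : ℕ} (e : Fin m → Fin m → T) (φ y : Fin m → T) (i : Fin m) :
    φ i = ∑ j, e i j * (φ j + (y j - ∑ k, e j k * y k)) +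
      ((φ i - ∑ j, e i j * φ j) - ∑ k, (e i k - ∑ j, e i j * e j k) * y k) := by
  simp only [mul_add, mul_sub, sub_mul, Finset.sum_add_distrib, Finset.sum_sub_distrib, Finset.mul_sum,
    Finset.sum_mul, ← mul_assoc]
  rw [Finset.sum_comm (f := fun j k => e i j * e j k * y k)]
  ring

/-- Localizing does not raise the dimension. -/
theorem ringKrullDim_away_le {S : Type u} [CommRing S] (a : S) (T : Type u) [CommRing T] [Algebra S T]
    [IsLocalization.Away a T] : ringKrullDim T ≤ ringKrullDim S :=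
  Order.krullDim_le_of_strictMono (fun q : PrimeSpectrum T => PrimeSpectrum.comap (algebraMap S T) q)
    (Monotone.strictMono_of_injective (fun _ _ h => Ideal.comap_mono h)
      (PrimeSpectrum.localization_comap_injective T (Submonoid.powers a)))

variable {R : Type u} [CommRing R]

/-- Localizations of two quotients at the same element agree if the element carries one ideal into the other. -/
theorem exists_away_quot_equiv {P S : Type u} [CommRing P] [CommRing S] [Algebra R P] [Algebra R S]
    (π : P →ₐ[R] S) (hπ : Function.Surjective π) (H : Ideal P) (hH : ∀ x ∈ H, π x = 0) (u : P)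
    (hu : ∀ x, π x = 0 → u * x ∈ H) :
    Nonempty (Localization.Away (Ideal.Quotient.mk H u) ≃ₐ[R] Localization.Away (π u)) := by
  let θ : (P ⧸ H) →ₐ[R] S := Ideal.Quotient.liftₐ H π hH
  let L := Localization.Away (Ideal.Quotient.mk H u)
  let T := Localization.Away (π u)
  let θ' : L →ₐ[R] T := IsLocalization.liftAlgHom (M := Submonoid.powers (Ideal.Quotient.mk H u))
    (f := (IsScalarTower.toAlgHom R S T).comp θ) (by
      rintro ⟨_, j, rfl⟩
      rw [map_pow]
      exact IsUnit.pow j (IsLocalization.Away.algebraMap_isUnit (π u)))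
  have hθ : ∀ x, θ' (algebraMap (P ⧸ H) L (Ideal.Quotient.mk H x)) = algebraMap S T (π x) :=
    fun x => IsLocalization.lift_eq _ _
  have hu' : ∀ j, IsUnit (algebraMap S T (π u) ^ j) := fun j => (IsLocalization.Away.algebraMap_isUnit (π u)).pow j
  refine ⟨AlgEquiv.ofBijective θ' ⟨(injective_iff_map_eq_zero θ').2 fun z hz => ?_, fun z => ?_⟩⟩
  · obtain ⟨j, y, hy⟩ := IsLocalization.Away.surj (Ideal.Quotient.mk H u) z
    obtain ⟨y, rfl⟩ := Ideal.Quotient.mk_surjective y
    have h1 : algebraMap S T (π y) = 0 := by rw [← hθ, ← hy, map_mul, hz, zero_mul]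
    obtain ⟨⟨_, l, rfl⟩, hl⟩ := (IsLocalization.map_eq_zero_iff (Submonoid.powers (π u)) T _).1 h1
    have h2 : u ^ (l + 1) * y ∈ H := by
      rw [pow_succ', mul_assoc]
      exact hu _ (by rw [map_mul, map_pow]; exact hl)
    have h3 : algebraMap (P ⧸ H) L (Ideal.Quotient.mk H (u ^ (l + 1) * y)) = 0 := by
      rw [Ideal.Quotient.eq_zero_iff_mem.2 h2, map_zero]
    rw [map_mul, map_pow, map_mul, map_pow] at h3
    have hU := (IsLocalization.Away.algebraMap_isUnit (S := L) (Ideal.Quotient.mk H u))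
    rw [(hU.pow (l + 1)).mul_right_eq_zero, ← hy, (hU.pow j).mul_left_eq_zero] at h3
    exact h3
  · obtain ⟨j, y, hy⟩ := IsLocalization.Away.surj (π u) z
    obtain ⟨y, rfl⟩ := hπ y
    refine ⟨algebraMap (P ⧸ H) L (Ideal.Quotient.mk H y) * IsLocalization.Away.invSelf (Ideal.Quotient.mk H u) ^ j, ?_⟩
    refine (hu' j).mul_left_inj.1 ?_
    have h1 : θ' (IsLocalization.Away.invSelf (Ideal.Quotient.mk H u)) * algebraMap S T (π u) = 1 := by
      rw [← hθ, ← map_mul, mul_comm, IsLocalization.Away.mul_invSelf, map_one]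
    rw [hy, map_mul, map_pow, hθ, mul_assoc, ← mul_pow, h1, one_pow, mul_one]

set_option backward.isDefEq.respectTransparency false in
/-- The fibres of a basic open of a syntomic algebra cut out by `c` equations. -/
theorem fibreA_bound {A : Type u} [CommRing A] [Algebra R A] {n c : ℕ} (K : Type u) [Field K] [Algebra R K]
    (π : MvPolynomial (Fin n) R →ₐ[R] A) (hπ : Function.Surjective π) (F : Fin c → MvPolynomial (Fin n) R)
    (v : MvPolynomial (Fin n) R) (hF : ∀ i, π (F i) = 0) (hG : Synt.IsRelGCI R (n + 1) (c + 1) (CILib.awayPres F v))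
    [Nontrivial (K ⊗[R] Localization.Away (π v))] :
    c ≤ n ∧ ringKrullDim (K ⊗[R] Localization.Away (π v)) ≤ ((n - c : ℕ) : WithBot ℕ∞) := by
  let Av := Localization.Away (π v)
  obtain ⟨ev⟩ := CILib.exists_away_equiv F v
  let θ : (MvPolynomial (Fin n) R ⧸ Ideal.span (Set.range F)) →ₐ[R] A :=
    Ideal.Quotient.liftₐ _ π fun x hx =>
      (Ideal.span_le.2 (by rintro _ ⟨i, rfl⟩; exact hF i) : Ideal.span (Set.range F) ≤ RingHom.ker π) hx
  let θ' : Localization.Away (Ideal.Quotient.mk (Ideal.span (Set.range F)) v) →ₐ[R] Av :=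
    IsLocalization.liftAlgHom (M := Submonoid.powers (Ideal.Quotient.mk (Ideal.span (Set.range F)) v))
      (f := (IsScalarTower.toAlgHom R A Av).comp θ) (by
        rintro ⟨_, l, rfl⟩
        rw [map_pow]
        exact IsUnit.pow l (IsLocalization.Away.algebraMap_isUnit (π v)))
  have hθ' : ∀ x, θ' (algebraMap _ _ (Ideal.Quotient.mk (Ideal.span (Set.range F)) x)) = algebraMap A Av (π x) :=
    fun x => IsLocalization.lift_eq _ _
  have hθs : Function.Surjective θ' := fun z => by
    obtain ⟨l, w, hw⟩ := IsLocalization.Away.surj (π v) z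
    obtain ⟨w, rfl⟩ := hπ w
    refine ⟨algebraMap _ _ (Ideal.Quotient.mk (Ideal.span (Set.range F)) w) *
      IsLocalization.Away.invSelf (Ideal.Quotient.mk (Ideal.span (Set.range F)) v) ^ l, ?_⟩
    refine ((IsLocalization.Away.algebraMap_isUnit (π v)).pow l).mul_left_inj.1 ?_
    have h1 : θ' (IsLocalization.Away.invSelf (Ideal.Quotient.mk (Ideal.span (Set.range F)) v)) *
        algebraMap A Av (π v) = 1 := by
      rw [← hθ', ← map_mul, mul_comm, IsLocalization.Away.mul_invSelf, map_one]
    rw [hw, map_mul, map_pow, hθ', mul_assoc, ← mul_pow, h1, one_pow, mul_one]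
  let θK := Algebra.TensorProduct.map (AlgHom.id K K) (θ'.comp ev.symm.toAlgHom)
  have hθK : Function.Surjective θK := LinearMap.lTensor_surjective K (g := (θ'.comp ev.symm.toAlgHom).toLinearMap)
    (hθs.comp ev.symm.surjective)
  haveI : Nontrivial (K ⊗[R] Synt.RelGCIRing R (n + 1) (c + 1) (CILib.awayPres F v)) :=
    θK.toRingHom.domain_nontrivial
  rcases CILib.dimOK_of_field hG K with hd | ⟨hc, hd⟩
  · exfalso
    rw [← CILib.ringKrullDim_baseChange_eq] at hd
    exact absurd hd (fun h' => by simpa [h'] using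
      (ringKrullDim_nonneg_of_nontrivial (R := K ⊗[R] Synt.RelGCIRing R (n + 1) (c + 1) (CILib.awayPres F v))))
  have hdim := dim_le_of_surjective (A := K ⊗[R] Synt.RelGCIRing R (n + 1) (c + 1) (CILib.awayPres F v))
    (B := K ⊗[R] Av) θK.toRingHom hθK
  refine ⟨by omega, hdim.trans ?_⟩
  rw [CILib.ringKrullDim_baseChange_eq, hd, show n + 1 - (c + 1) = n - c by omega]

set_option backward.isDefEq.respectTransparency false in
/-- Fibre dimension of a basic open on which `c` linear forms generate. -/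
theorem fibre_bound {A C0 : Type u} [CommRing A] [CommRing C0] [Algebra R A] [Algebra R C0] [Algebra A C0]
    [IsScalarTower R A C0] [Algebra.FiniteType R A] {n m c : ℕ} (K : Type u) [Field K] [Algebra R K] (y : Fin m → C0)
    (hgen : ∀ w : C0, w ∈ Algebra.adjoin A (Set.range y)) (v : A) (t : Fin c → C0) (lam : Fin m → Fin c → A)
    (hty : ∀ i, algebraMap A C0 v * y i = ∑ j, algebraMap A C0 (lam i j) * t j)
    (hdimA : Nontrivial (K ⊗[R] Localization.Away v) →
      c ≤ n ∧ ringKrullDim (K ⊗[R] Localization.Away v) ≤ ((n - c : ℕ) : WithBot ℕ∞)) :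
    ringKrullDim (Localization.Away ((1 : K) ⊗ₜ[R] algebraMap A C0 v)) ≤ (n : WithBot ℕ∞) := by
  let Tv := Localization.Away (algebraMap A C0 v)
  obtain ⟨eT⟩ := CILib.exists_fibre_away_equiv (R := R) K (algebraMap A C0 v) Tv
  rw [ringKrullDim_eq_of_ringEquiv eT.toRingEquiv]
  let Av := Localization.Away v
  letI : Algebra Av Tv := (IsLocalization.Away.map Av Tv (algebraMap A C0) v).toAlgebra
  have hAv : ∀ a, algebraMap Av Tv (algebraMap A Av a) = algebraMap C0 Tv (algebraMap A C0 a) := fun a => by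
    rw [RingHom.algebraMap_toAlgebra]
    exact IsLocalization.map_eq _ a
  haveI : IsScalarTower R Av Tv := .of_algebraMap_eq fun r => by
    rw [IsScalarTower.algebraMap_apply R A Av, hAv, ← IsScalarTower.algebraMap_apply, ← IsScalarTower.algebraMap_apply]
  let φK : K ⊗[R] Av →ₐ[K] K ⊗[R] Tv :=
    Algebra.TensorProduct.map (AlgHom.id K K) (IsScalarTower.toAlgHom R Av Tv)
  let Ψ : MvPolynomial (Fin c) (K ⊗[R] Av) →+* K ⊗[R] Tv :=
    eval₂Hom φK.toRingHom fun j => (1 : K) ⊗ₜ[R] algebraMap C0 Tv (t j)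
  have hΨa : ∀ (z : K) (a : Av), Ψ (C (z ⊗ₜ[R] a)) = z ⊗ₜ[R] algebraMap Av Tv a := fun z a => by
    simp [Ψ, φK]
  have hΨ : Function.Surjective Ψ := by
    have hgen : ∀ w : C0, (1 : K) ⊗ₜ[R] algebraMap C0 Tv w ∈ Ψ.rangeS := by
      intro w
      have hA : ∀ a : A, (1 : K) ⊗ₜ[R] algebraMap C0 Tv (algebraMap A C0 a) ∈ Ψ.rangeS := fun a =>
        ⟨C ((1 : K) ⊗ₜ[R] algebraMap A Av a), by rw [hΨa, hAv]⟩
      have hmul : ∀ a b : Tv, (1 : K) ⊗ₜ[R] a ∈ Ψ.rangeS → (1 : K) ⊗ₜ[R] b ∈ Ψ.rangeS → (1 : K) ⊗ₜ[R] (a * b) ∈ Ψ.rangeS :=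
        fun a b ha hb => by
          have := mul_mem ha hb
          rwa [Algebra.TensorProduct.tmul_mul_tmul, one_mul] at this
      induction hgen w using Algebra.adjoin_induction with
      | mem x hx =>
        obtain ⟨i, rfl⟩ := hx
        have hinv : algebraMap Av Tv (IsLocalization.Away.invSelf v) *
            algebraMap C0 Tv (algebraMap A C0 v) = 1 := by
          rw [← hAv, ← map_mul, mul_comm, IsLocalization.Away.mul_invSelf, map_one]
        have h4 : algebraMap C0 Tv (y i) = algebraMap Av Tv (IsLocalization.Away.invSelf v) *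
            algebraMap C0 Tv (∑ j, algebraMap A C0 (lam i j) * t j) := by
          rw [← hty i, map_mul, ← mul_assoc, hinv, one_mul]
        rw [h4]
        refine hmul _ _ ⟨C ((1 : K) ⊗ₜ[R] IsLocalization.Away.invSelf v), hΨa _ _⟩ ?_
        rw [map_sum, tmul_sum]
        refine sum_mem fun j _ => ?_
        rw [map_mul]
        exact hmul _ _ (hA _) ⟨X j, eval₂Hom_X' _ _ _⟩
      | algebraMap a => exact hA a
      | add a b _ _ ha hb => rw [map_add, tmul_add]; exact add_mem ha hb
      | mul a b _ _ ha hb => rw [map_mul]; exact hmul _ _ ha hb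
    intro w
    show w ∈ Ψ.rangeS
    induction w using TensorProduct.induction_on with
    | zero => exact zero_mem _
    | add a b ha hb => exact add_mem ha hb
    | tmul z w =>
      obtain ⟨l, x, hx⟩ := IsLocalization.Away.surj (algebraMap A C0 v) w
      have hw : w = algebraMap Av Tv (IsLocalization.Away.invSelf v ^ l) * algebraMap C0 Tv x := by
        rw [← hx, map_pow, mul_left_comm, ← mul_pow, ← hAv, ← map_mul, mul_comm (IsLocalization.Away.invSelf v),
          IsLocalization.Away.mul_invSelf, map_one, one_pow, mul_one]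
      rw [hw, ← mul_one z, ← Algebra.TensorProduct.tmul_mul_tmul]
      exact mul_mem ⟨C (z ⊗ₜ[R] (IsLocalization.Away.invSelf v ^ l)), hΨa _ _⟩ (hgen x)
  rcases subsingleton_or_nontrivial (K ⊗[R] Tv) with hT | hT
  · exact le_trans (le_of_eq ringKrullDim_eq_bot_of_subsingleton) bot_le
  haveI : Nontrivial (K ⊗[R] Av) := φK.toRingHom.domain_nontrivial
  obtain ⟨hc, hd⟩ := hdimA inferInstance
  haveI : IsNoetherianRing (K ⊗[R] Av) := Algebra.FiniteType.isNoetherianRing K _
  refine (dim_le_of_surjective Ψ hΨ).trans ?_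
  rw [MvPolynomial.ringKrullDim_of_isNoetherianRing, Nat.card_fin]
  refine (add_le_add hd le_rfl).trans ?_
  norm_cast
  omega

/-- The core construction, for a presented algebra. -/
theorem exists_retract (n : ℕ) (I : Ideal (MvPolynomial (Fin n) R)) (hI : I.FG)
    (h : Synt.IsSyntomic R (MvPolynomial (Fin n) R ⧸ I)) :
    ∃ (N c : ℕ) (F : Fin c → MvPolynomial (Fin N) R), Synt.IsRelGCI R N c F ∧
      Module.Flat R (Synt.RelGCIRing R N c F) ∧
      ∃ g : (MvPolynomial (Fin n) R ⧸ I) →ₐ[R] Synt.RelGCIRing R N c F,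
        g.toRingHom.Smooth ∧ ∃ ρ : Synt.RelGCIRing R N c F →ₐ[R] (MvPolynomial (Fin n) R ⧸ I), ∀ a, ρ (g a) = a := by
  classical
  let P := MvPolynomial (Fin n) R
  let A := P ⧸ I
  let π : P →ₐ[R] A := Ideal.Quotient.mkₐ R I
  have hπ : Function.Surjective π := Ideal.Quotient.mk_surjective
  have hkerπ : RingHom.ker π.toRingHom = I := Ideal.mk_ker
  obtain ⟨m, f, hf⟩ := Submodule.fg_iff_exists_fin_generating_family.1 hI
  have hfI : ∀ i, f i ∈ I := fun i => hf ▸ Submodule.subset_span ⟨i, rfl⟩
  have hnhd : ∀ Q : PrimeSpectrum A, ∃ (c : ℕ) (F : Fin c → P) (v : P), π v ∉ Q.asIdeal ∧ (∀ i, F i ∈ I) ∧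
      (∀ x ∈ I, x * v ∈ Ideal.span (Set.range F)) ∧ Synt.IsRelGCI R (n + 1) (c + 1) (CILib.awayPres F v) := fun Q => by
    obtain ⟨c, F, v, hv, hF, hk, hG⟩ := CILib.exists_pres_nhd h π hπ (hkerπ.symm ▸ hI) Q
    exact ⟨c, F, v, hv, fun i => hkerπ ▸ hF i, fun x hx => hk x (hkerπ.symm ▸ hx), hG⟩
  haveI : Module.Projective A I.Cotangent := (CILib.finite_projective_of_local_basis (A := A) (M := I.Cotangent)
    fun Q => by
      obtain ⟨c, F, v, hv, hF, hk, hG⟩ := hnhd Q
      obtain ⟨hs, hi⟩ := CILib.conormal_local_basis I F v hF hk fun r _ => CILib.isWeaklyRegular_of_awayPres F v hG r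
      exact ⟨Ideal.Quotient.mk I v, hv, c, _, hs, hi⟩).2
  let q : (Fin m → A) →ₗ[A] I.Cotangent := Fintype.linearCombination A fun i => I.toCotangent ⟨f i, hfI i⟩
  have hq : ∀ v : Fin m → P, q (fun i => π (v i)) =
      I.toCotangent ⟨∑ i, v i * f i, I.sum_mem fun i _ => I.mul_mem_left _ (hfI i)⟩ := fun v => by
    have : (⟨∑ i, v i * f i, I.sum_mem fun i _ => I.mul_mem_left _ (hfI i)⟩ : I) = ∑ i, v i • ⟨f i, hfI i⟩ :=
      Subtype.ext (by simp [Submodule.coe_sum])
    rw [this, map_sum, Fintype.linearCombination_apply]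
    refine Finset.sum_congr rfl fun i _ => ?_
    rw [map_smul, ← algebraMap_smul A (v i) (I.toCotangent _)]
    rfl
  have hqsurj : Function.Surjective q := fun z => by
    obtain ⟨⟨x, hx⟩, rfl⟩ := I.toCotangent_surjective z
    obtain ⟨b, hb⟩ := Ideal.mem_span_range_iff_exists_fun.1
      (show x ∈ Ideal.span (Set.range f) by rw [Ideal.span, hf]; exact hx)
    exact ⟨fun i => π (b i), (hq b).trans (congrArg I.toCotangent (Subtype.ext hb))⟩
  obtain ⟨s, hs⟩ := Module.projective_lifting_property q LinearMap.id hqsurj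
  have hs' : ∀ z, q (s z) = z := fun z => LinearMap.congr_fun hs z
  let E : Fin m → Fin m → A := fun i => s (q (Pi.single i 1))
  have hsq : ∀ v : Fin m → A, s (q v) = ∑ l, v l • E l := fun v => by
    conv_lhs => rw [pi_eq_sum_univ' v]
    simp only [map_sum, map_smul]
    rfl
  have hE : ∀ i k, ∑ j, E i j * E j k = E i k := fun i k => by
    have h1 : s (q (E i)) = E i := by simp only [E, hs']
    rw [hsq] at h1
    simpa [Finset.sum_apply] using congrFun h1 k
  choose Et hEt using fun i j => hπ (E i j)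
  have hEf : ∀ i, f i - ∑ j, Et i j * f j ∈ I ^ 2 := fun i => by
    have h1 : q (E i) = q (Pi.single i 1) := hs' _
    rw [← funext (hEt i), hq, Fintype.linearCombination_apply_single, one_smul] at h1
    have h2 : I.toCotangent (⟨f i, hfI i⟩ -
        ⟨∑ j, Et i j * f j, I.sum_mem fun j _ => I.mul_mem_left _ (hfI j)⟩) = 0 := by
      rw [map_sub, h1, sub_self]
    exact (Ideal.toCotangent_eq_zero I _).1 h2
  -- the symmetric algebra
  let C0 := MvPolynomial (Fin m) A ⧸ SmoothingLib.idemIdeal E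
  haveI hsm : Algebra.Smooth A C0 := SmoothingLib.smooth_idem E hE
  let y : Fin m → C0 := fun i => Ideal.Quotient.mk _ (X i)
  have hy : ∀ i, y i = ∑ j, algebraMap A C0 (E i j) * y j := fun i => by
    have h1 : Ideal.Quotient.mk (SmoothingLib.idemIdeal E) (X i - ∑ j, C (E i j) * X j) = 0 :=
      Ideal.Quotient.eq_zero_iff_mem.2 (Ideal.subset_span ⟨i, rfl⟩)
    rw [map_sub, sub_eq_zero, map_sum] at h1
    refine h1.trans (Finset.sum_congr rfl fun j _ => ?_)
    rw [map_mul]
    rfl
  let Qr := MvPolynomial (Fin (n + m)) R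
  let Pr : Qr →ₐ[R] C0 := aeval (Fin.append (fun i => algebraMap A C0 (π (X i))) y)
  let ι : P →ₐ[R] Qr := rename (Fin.castAdd m)
  let Y : Fin m → Qr := fun i => X (Fin.natAdd n i)
  have hPrι : ∀ x, Pr (ι x) = algebraMap A C0 (π x) := fun x => by
    have : Pr.comp ι = (IsScalarTower.toAlgHom R A C0).comp π := MvPolynomial.algHom_ext fun i => by
      show Pr (ι (X i)) = algebraMap A C0 (π (X i))
      rw [show ι (X i) = X (Fin.castAdd m i) from rename_X _ _]
      show aeval _ (X (Fin.castAdd m i)) = _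
      rw [aeval_X, Fin.append_left]
    exact AlgHom.congr_fun this x
  have hPrY : ∀ i, Pr (Y i) = y i := fun i => by
    show aeval _ (X (Fin.natAdd n i)) = y i
    rw [aeval_X, Fin.append_right]
  let g : Fin m → Qr := fun i => Y i - ∑ j, ι (Et i j) * Y j
  have hPrg : ∀ i, Pr (g i) = 0 := fun i => by
    simp only [g, map_sub, map_sum, map_mul, hPrι, hPrY, hEt]
    rw [sub_eq_zero]
    exact hy i
  let J : Ideal Qr := I.map ι.toRingHom ⊔ Ideal.span (Set.range g)
  have hJfg : J.FG := Submodule.FG.sup (Ideal.FG.map hI _) (Submodule.fg_span (Set.finite_range _))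
  have hIJ : ∀ x ∈ I, ι x ∈ J := fun x hx => Ideal.mem_sup_left (Ideal.mem_map_of_mem ι.toRingHom hx)
  have hJPr : ∀ x ∈ J, Pr x = 0 := fun x hx => by
    have : J ≤ RingHom.ker Pr.toRingHom := sup_le (Ideal.map_le_iff_le_comap.2 fun x hx => by
      show Pr (ι x) = 0
      rw [hPrι, show π x = 0 from Ideal.Quotient.eq_zero_iff_mem.2 hx, map_zero])
      (Ideal.span_le.2 (by rintro _ ⟨i, rfl⟩; exact hPrg i))
    exact this hx
  have hPrsurj : Function.Surjective Pr := by
    intro z
    obtain ⟨z, rfl⟩ := Ideal.Quotient.mk_surjective z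
    show Ideal.Quotient.mk _ z ∈ Pr.range
    induction z using MvPolynomial.induction_on with
    | C a => obtain ⟨x, rfl⟩ := hπ a; exact ⟨ι x, hPrι x⟩
    | add p q hp hq => rw [map_add]; exact add_mem hp hq
    | mul_X p i hp => rw [map_mul]; exact mul_mem hp ⟨Y i, hPrY i⟩
  have hkerPr : ∀ x, Pr x = 0 → x ∈ J := by
    let κ : A →ₐ[R] Qr ⧸ J := Ideal.Quotient.liftₐ I ((Ideal.Quotient.mkₐ R J).comp ι)
      fun x hx => Ideal.Quotient.eq_zero_iff_mem.2 (hIJ x hx)
    let κ' : MvPolynomial (Fin m) A →+* Qr ⧸ J := eval₂Hom κ.toRingHom fun i => Ideal.Quotient.mk J (Y i)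
    have hκ' : ∀ z ∈ SmoothingLib.idemIdeal E, κ' z = 0 := fun z hz => by
      have : SmoothingLib.idemIdeal E ≤ RingHom.ker κ' := Ideal.span_le.2 (by
        rintro _ ⟨i, rfl⟩
        show κ' (X i - ∑ j, C (E i j) * X j) = 0
        simp only [κ', map_sub, map_sum, map_mul, eval₂Hom_X', eval₂Hom_C, ← hEt]
        have : Ideal.Quotient.mk J (g i) = 0 :=
          Ideal.Quotient.eq_zero_iff_mem.2 (Ideal.mem_sup_right (Ideal.subset_span ⟨i, rfl⟩))
        rw [← this]
        simp only [g, map_sub, map_sum, map_mul]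
        rfl)
      exact this hz
    let κ'' : C0 →+* Qr ⧸ J := Ideal.Quotient.lift _ κ' hκ'
    have hid : κ''.comp Pr.toRingHom = Ideal.Quotient.mk J := by
      refine MvPolynomial.ringHom_ext (fun r => ?_) fun i => ?_
      · show κ'' (Pr (C r)) = Ideal.Quotient.mk J (C r)
        rw [← MvPolynomial.algebraMap_eq, AlgHom.commutes, IsScalarTower.algebraMap_apply R A C0]
        show κ' (C (algebraMap R A r)) = _
        rw [show κ' (C (algebraMap R A r)) = κ (algebraMap R A r) from eval₂Hom_C _ _ _, AlgHom.commutes]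
        rfl
      · show κ'' (Pr (X i)) = Ideal.Quotient.mk J (X i)
        refine Fin.addCases (fun i => ?_) (fun i => ?_) i
        · rw [show (X (Fin.castAdd m i) : Qr) = ι (X i) from (rename_X _ _).symm, hPrι]
          show κ' (C (π (X i))) = _
          rw [show κ' (C (π (X i))) = κ (π (X i)) from eval₂Hom_C _ _ _]
          rfl
        · rw [show (X (Fin.natAdd n i) : Qr) = Y i from rfl, hPrY]
          show κ' (X i) = _
          exact eval₂Hom_X' _ _ _
    intro x hx
    rw [← Ideal.Quotient.eq_zero_iff_mem, ← hid]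
    show κ'' (Pr x) = 0
    rw [hx, map_zero]
  -- the section
  let ρ0 : C0 →ₐ[A] A := Ideal.Quotient.liftₐ _ (aeval fun _ => (0 : A)) fun z hz => by
    have : SmoothingLib.idemIdeal E ≤ RingHom.ker (aeval fun _ : Fin m => (0 : A)) := Ideal.span_le.2 (by
      rintro _ ⟨i, rfl⟩
      simp)
    exact this hz
  have hρy : ∀ i, ρ0 (y i) = 0 := fun i => by
    show aeval (fun _ : Fin m => (0 : A)) (X i) = 0
    simp
  let J0 : Ideal Qr := RingHom.ker (ρ0.toRingHom.comp Pr.toRingHom)
  have hYJ0 : ∀ i, Y i ∈ J0 := fun i => by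
    show ρ0 (Pr (Y i)) = 0
    rw [hPrY, hρy]
  have hIJ0 : ∀ x ∈ I, ι x ∈ J0 := fun x hx => by
    show ρ0 (Pr (ι x)) = 0
    rw [hJPr _ (hIJ x hx), map_zero]
  let hh : Fin m → Qr := fun i => ι (f i) + g i
  have hhJ : ∀ i, hh i ∈ J := fun i =>
    add_mem (hIJ _ (hfI i)) (Ideal.mem_sup_right (Ideal.subset_span ⟨i, rfl⟩))
  have hle : J ≤ Ideal.span (Set.range hh) ⊔ J0 • J := by
    have hsq : ∀ x ∈ I ^ 2, ι x ∈ J0 • J := fun x hx => by
      rw [pow_two] at hx
      refine Submodule.mul_induction_on hx (fun a ha b hb => ?_) (fun a b ha hb => ?_)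
      · rw [map_mul]
        exact Submodule.smul_mem_smul (hIJ0 a ha) (hIJ b hb)
      · rw [map_add]
        exact add_mem ha hb
    have hfs : ∀ i, ι (f i) ∈ Ideal.span (Set.range hh) ⊔ J0 • J := fun i => by
      have key : ι (f i) = ∑ j, ι (Et i j) * hh j + (ι (f i - ∑ j, Et i j * f j) -
          ∑ k, ι (Et i k - ∑ j, Et i j * Et j k) * Y k) := by
        simp only [map_sub, map_sum, map_mul]
        exact key_identity (fun a b => ι (Et a b)) (fun a => ι (f a)) Y i
      rw [key]
      refine add_mem (Ideal.mem_sup_left (Ideal.sum_mem _ fun j _ =>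
        Ideal.mul_mem_left _ _ (Ideal.subset_span ⟨j, rfl⟩))) (Ideal.mem_sup_right (sub_mem (hsq _ (hEf i))
        (Submodule.sum_mem _ fun k _ => ?_)))
      have hmem : Et i k - ∑ j, Et i j * Et j k ∈ I := by
        rw [← Ideal.Quotient.eq_zero_iff_mem]
        show π (Et i k - ∑ j, Et i j * Et j k) = 0
        simp only [map_sub, map_sum, map_mul, hEt, hE, sub_self]
      rw [mul_comm]
      exact Submodule.smul_mem_smul (hYJ0 k) (hIJ _ hmem)
    refine sup_le (Ideal.map_le_iff_le_comap.2 ?_) (Ideal.span_le.2 ?_)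
    · rw [← hf, Submodule.span_le]
      rintro _ ⟨i, rfl⟩
      exact hfs i
    · rintro _ ⟨i, rfl⟩
      rw [show g i = hh i - ι (f i) by simp [hh]]
      exact sub_mem (Ideal.mem_sup_left (Ideal.subset_span ⟨i, rfl⟩)) (hfs i)
  obtain ⟨u, hu1, hu2⟩ :=
    Submodule.exists_sub_one_mem_and_smul_le_of_fg_of_le_sup (N' := J) hJfg le_rfl hle
  have huJ : ∀ x, Pr x = 0 → u * x ∈ Ideal.span (Set.range hh) := fun x hx =>
    hu2 (Submodule.smul_mem_pointwise_smul x u J (hkerPr x hx))
  obtain ⟨e1⟩ := exists_away_quot_equiv Pr hPrsurj (Ideal.span (Set.range hh))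
    (fun x hx => hJPr x ((Ideal.span_le.2 (by rintro _ ⟨i, rfl⟩; exact hhJ i)) hx)) u huJ
  obtain ⟨e2⟩ := CILib.exists_away_equiv hh u
  let T := Localization.Away (Pr u)
  let e : T ≃ₐ[R] Synt.RelGCIRing R (n + m + 1) (m + 1) (CILib.awayPres hh u) := e1.symm.trans e2
  haveI : Algebra.Smooth C0 T := Algebra.Smooth.of_isLocalization_Away (Pr u)
  haveI : Algebra.Smooth A T := Algebra.Smooth.comp A C0 T
  haveI : Module.Flat R A := h.1
  haveI : Module.Flat R T := Module.Flat.trans R A T
  -- fibre dimensions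
  have hgen : ∀ w : C0, w ∈ Algebra.adjoin A (Set.range y) := by
    intro w
    obtain ⟨w, rfl⟩ := Ideal.Quotient.mk_surjective w
    induction w using MvPolynomial.induction_on with
    | C a => exact (Algebra.adjoin A (Set.range y)).algebraMap_mem a
    | add p q hp hq => rw [map_add]; exact add_mem hp hq
    | mul_X p i hp => rw [map_mul]; exact mul_mem hp (Algebra.subset_adjoin ⟨i, rfl⟩)
  haveI : Algebra.FinitePresentation R A := h.2.1
  have hbound : ∀ (K : Type u) [Field K] [Algebra R K], ringKrullDim (K ⊗[R] C0) ≤ (n : WithBot ℕ∞) := by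
    intro K _ _
    refine ringKrullDim_le_of_cover (S := K ⊗[R] C0) _ fun PP hP => ?_
    haveI := hP
    let j : A →+* K ⊗[R] C0 := Algebra.TensorProduct.includeRight.toRingHom.comp (algebraMap A C0)
    obtain ⟨c, F, v, hv, hF, hk, hG⟩ := hnhd ⟨PP.comap j, inferInstance⟩
    refine ⟨(1 : K) ⊗ₜ[R] algebraMap A C0 (π v), hv, ?_⟩
    -- `c` linear forms generate
    choose lam hlam using fun i => Ideal.mem_span_range_iff_exists_fun.1 (hk (f i) (hfI i))
    choose mu hmu using fun j => Ideal.mem_span_range_iff_exists_fun.1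
      (show F j ∈ Ideal.span (Set.range f) by rw [Ideal.span, hf]; exact hF j)
    let t : Fin c → C0 := fun j => ∑ l, algebraMap A C0 (π (mu j l)) * y l
    have hty : ∀ i, algebraMap A C0 (π v) * y i = ∑ j, algebraMap A C0 (π (lam i j)) * t j := by
      intro i
      have e1 : π v • q (Pi.single i 1) = q (fun l => ∑ j, π (lam i j * mu j l)) := by
        have : (fun l => ∑ j, π (lam i j * mu j l)) = fun l => π (∑ j, lam i j * mu j l) := funext fun l => (map_sum π _ _).symm
        rw [this, hq, Fintype.linearCombination_apply_single, one_smul]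
        rw [show π v = algebraMap P A v from rfl, algebraMap_smul, ← map_smul]
        refine congrArg I.toCotangent (Subtype.ext ?_)
        show v * f i = ∑ l, (∑ j, lam i j * mu j l) * f l
        rw [mul_comm, ← hlam i, Finset.sum_congr rfl fun l _ => Finset.sum_mul .., Finset.sum_comm]
        refine Finset.sum_congr rfl fun j _ => ?_
        rw [← hmu j, Finset.mul_sum]
        exact Finset.sum_congr rfl fun l _ => (mul_assoc _ _ _).symm
      have e2 := congrArg s e1
      rw [map_smul, hsq (fun l => ∑ j, π (lam i j * mu j l))] at e2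
      have e3 : ∀ w : Fin m → A, ∑ k, algebraMap A C0 (∑ l, w l * E l k) * y k = ∑ l, algebraMap A C0 (w l) * y l := by
        intro w
        simp only [map_sum, map_mul, Finset.sum_mul]
        rw [Finset.sum_comm]
        refine Finset.sum_congr rfl fun l _ => ?_
        conv_rhs => rw [hy l, Finset.mul_sum]
        exact Finset.sum_congr rfl fun k _ => mul_assoc _ _ _
      calc algebraMap A C0 (π v) * y i = ∑ k, algebraMap A C0 ((π v • E i) k) * y k := by
            conv_lhs => rw [hy i, Finset.mul_sum]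
            exact Finset.sum_congr rfl fun k _ => by rw [Pi.smul_apply, smul_eq_mul, map_mul, mul_assoc]
        _ = ∑ k, algebraMap A C0 (∑ l, (∑ j, π (lam i j * mu j l)) * E l k) * y k := by
            refine Finset.sum_congr rfl fun k _ => ?_
            rw [show π v • E i = π v • s (q (Pi.single i 1)) from rfl, congrFun e2 k]
            simp [Finset.sum_apply]
        _ = ∑ l, algebraMap A C0 (∑ j, π (lam i j * mu j l)) * y l := e3 _
        _ = ∑ j, algebraMap A C0 (π (lam i j)) * t j := by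
            simp only [map_sum, map_mul, Finset.sum_mul, t, Finset.mul_sum]
            rw [Finset.sum_comm]
            exact Finset.sum_congr rfl fun j _ => Finset.sum_congr rfl fun l _ => mul_assoc _ _ _
    exact fibre_bound K y hgen (π v) t (fun i j => π (lam i j)) hty
      (fun _ => fibreA_bound K π hπ F v (fun i => Ideal.Quotient.eq_zero_iff_mem.2 (hF i)) hG)
  refine ⟨n + m + 1, m + 1, CILib.awayPres hh u, fun p hp => ?_, Module.Flat.of_linearEquiv e.symm.toLinearEquiv, ?_⟩
  · let K := p.asIdeal.ResidueField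
    have hle : ringKrullDim (K ⊗[R] Synt.RelGCIRing R (n + m + 1) (m + 1) (CILib.awayPres hh u)) ≤ (n : WithBot ℕ∞) := by
      rw [← ringKrullDim_eq_of_ringEquiv
        (Algebra.TensorProduct.congr (AlgEquiv.refl : K ≃ₐ[R] K) e).toRingEquiv]
      obtain ⟨eT⟩ := CILib.exists_fibre_away_equiv (R := R) K (Pr u) T
      rw [← ringKrullDim_eq_of_ringEquiv eT.toRingEquiv]
      exact (ringKrullDim_away_le ((1 : K) ⊗ₜ[R] Pr u) _).trans (hbound K)
    rw [CILib.ringKrullDim_baseChange_eq] at hle
    haveI : Nontrivial (K ⊗[R] Synt.RelGCIRing R (n + m + 1) (m + 1) (CILib.awayPres hh u)) := hp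
    haveI : Nontrivial (Synt.RelGCIRing K (n + m + 1) (m + 1) (CILib.mapF K (CILib.awayPres hh u))) :=
      (CILib.baseChangeEquiv K (CILib.awayPres hh u)).symm.toRingEquiv.toEquiv.nontrivial
    refine ⟨by omega, ?_⟩
    show ringKrullDim (K ⊗[R] _) = _
    rw [CILib.ringKrullDim_baseChange_eq]
    refine CILib.ringKrullDim_eq (by omega) (Ideal.Quotient.mkₐ K _) (CILib.mapF K (CILib.awayPres hh u))
      Ideal.Quotient.mk_surjective Ideal.mk_ker ?_
    rwa [show n + m + 1 - (m + 1) = n by omega]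
  · let gA : A →ₐ[R] Synt.RelGCIRing R (n + m + 1) (m + 1) (CILib.awayPres hh u) :=
      e.toAlgHom.comp (IsScalarTower.toAlgHom R A T)
    have hu0 : IsUnit (ρ0 (Pr u)) := by
      have : ρ0 (Pr (u - 1)) = 0 := hu1
      rw [map_sub, map_sub, map_one, map_one, sub_eq_zero] at this
      rw [this]
      exact isUnit_one
    let ρT : T →ₐ[A] A := IsLocalization.liftAlgHom (M := Submonoid.powers (Pr u)) (f := ρ0) (by
      rintro ⟨_, l, rfl⟩
      rw [map_pow]
      exact hu0.pow l)
    refine ⟨gA, ?_, (ρT.restrictScalars R).comp e.symm.toAlgHom, fun a => ?_⟩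
    · show (e.toAlgHom.toRingHom.comp (algebraMap A T)).Smooth
      exact RingHom.Smooth.comp (RingHom.smooth_algebraMap.2 inferInstance)
        (RingHom.Smooth.of_bijective e.bijective)
    · show ρT (e.symm (e (algebraMap A T a))) = a
      rw [e.symm_apply_apply, AlgHom.commutes]
      rfl


/-- Let R → A be a syntomic ring map. Then there are a smooth R-algebra map A → C with an R-algebra
retraction C → A, where C = R[x₁, …, x_n]/(f₁, …, f_c) is a relative global complete intersection
over R (all nonempty fibres of dimension n − c) and flat over R. -/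
theorem result {R A : Type u} [CommRing R] [CommRing A] [Algebra R A]
    (h : Synt.IsSyntomic R A) :
    ∃ (n c : ℕ) (F : Fin c → MvPolynomial (Fin n) R), Synt.IsRelGCI R n c F ∧
      Module.Flat R (Synt.RelGCIRing R n c F) ∧
      ∃ (_ : Algebra A (Synt.RelGCIRing R n c F)) (_ : IsScalarTower R A (Synt.RelGCIRing R n c F)),
        Algebra.Smooth A (Synt.RelGCIRing R n c F) ∧
        ∃ ρ : Synt.RelGCIRing R n c F →ₐ[R] A, ∀ a : A, ρ (algebraMap A (Synt.RelGCIRing R n c F) a) = a := by
  obtain ⟨n, π, hπ, hfg⟩ := Algebra.FinitePresentation.iff.mp h.2.1 |> fun ⟨n, I, e, hI⟩ =>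
    (⟨n, (e.toAlgHom).comp (Ideal.Quotient.mkₐ R I), e.surjective.comp Ideal.Quotient.mk_surjective, by
      rwa [show RingHom.ker ((e.toAlgHom).comp (Ideal.Quotient.mkₐ R I)).toRingHom = I from
        Ideal.ext fun x => by simp [RingHom.mem_ker, Ideal.Quotient.eq_zero_iff_mem]]⟩ :
      ∃ (n : ℕ) (π : MvPolynomial (Fin n) R →ₐ[R] A), Function.Surjective π ∧ (RingHom.ker π.toRingHom).FG)
  let e : (MvPolynomial (Fin n) R ⧸ RingHom.ker π.toRingHom) ≃ₐ[R] A := Ideal.quotientKerAlgEquivOfSurjective hπ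
  obtain ⟨N, c, F, hG, hfl, g, hg, ρ, hρ⟩ := exists_retract n _ hfg (CILib.isSyntomic_congr e.symm h)
  let gA : A →ₐ[R] Synt.RelGCIRing R N c F := g.comp e.symm.toAlgHom
  letI : Algebra A (Synt.RelGCIRing R N c F) := gA.toRingHom.toAlgebra
  refine ⟨N, c, F, hG, hfl, inferInstance, IsScalarTower.of_algebraMap_eq fun r => (gA.commutes r).symm, ?_,
    e.toAlgHom.comp ρ, fun a => ?_⟩
  · exact RingHom.smooth_algebraMap.1 (RingHom.Smooth.comp (RingHom.Smooth.of_bijective e.symm.bijective) hg)
  · show e (ρ (g (e.symm a))) = a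
    rw [hρ, e.apply_symm_apply]

end Groth.Agent.S6828
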