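import Mathlib
import Groth.Agent.NeronLib.Desing
import Groth.Statements.S6830

set_option autoImplicit false
universe u
open Smoothing

namespace Groth.Agent.S6830

/-- Let R ⊆ Λ be an extension of discrete valuation rings (an injective local homomorphism) of
ramification index 1, i.e. m_R Λ = m_Λ, inducing separable (geometrically reduced) extensions of
residue fields and of fraction fields K ⊆ L. Then Λ is a filtered colimit of smooth R-algebras, in
the factorization form: every R-algebra map A → Λ with A finitely presented over R factors through a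
smooth R-algebra. -/
theorem result {R Λ K L : Type u} [CommRing R] [IsDomain R]
    [IsDiscreteValuationRing R] [CommRing Λ] [IsDomain Λ] [IsDiscreteValuationRing Λ] [Algebra R Λ]
    [NoZeroSMulDivisors R Λ] [IsLocalHom (algebraMap R Λ)]
    (he : (IsLocalRing.maximalIdeal R).map (algebraMap R Λ) = IsLocalRing.maximalIdeal Λ)
    [Algebra.IsGeometricallyReduced (IsLocalRing.ResidueField R) (IsLocalRing.ResidueField Λ)]
    [Field K] [Algebra R K] [IsFractionRing R K] [Field L] [Algebra Λ L] [IsFractionRing Λ L]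
    [Algebra K L] [Algebra R L] [IsScalarTower R K L] [IsScalarTower R Λ L]
    [Algebra.IsGeometricallyReduced K L] :
    Smoothing.IndSmooth R Λ := by
  intro A _ _ hA f
  obtain ⟨n, π₀, hsurj, -⟩ := hA.out
  have hgen : ∀ (n : ℕ) (φ : MvPolynomial (Fin n) R →ₐ[R] Λ) [(RingHom.ker φ).IsPrime],
      Algebra.FormallySmooth R (RingHom.ker φ).ResidueField := fun m φ _ => by
    let ψ : MvPolynomial (Fin m) R →ₐ[R] L := (IsScalarTower.toAlgHom R Λ L).comp φ
    refine NeronLib.formallySmooth_of_eq (RingHom.ker ψ.toRingHom) _ ?_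
      (NeronLib.formallySmooth_residueField_ker_generic K ψ)
    ext x
    exact (map_eq_zero_iff _ (IsFractionRing.injective Λ L))
  obtain ⟨B, i1, i2, hB, g, h, hgh, hker⟩ := NeronLib.exists_smooth_factor he hgen (f.comp π₀)
  let e := Ideal.quotientKerAlgEquivOfSurjective (f := π₀) hsurj
  let g' : A →ₐ[R] B := (Ideal.Quotient.liftₐ (RingHom.ker π₀) g (fun x hx => hker x (by
    rw [AlgHom.comp_apply, RingHom.mem_ker.1 hx, map_zero]))).comp e.symm.toAlgHom
  refine ⟨B, i1, i2, hB, g', h, AlgHom.ext fun a => ?_⟩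
  obtain ⟨x, rfl⟩ := hsurj a
  have hx : g' (π₀ x) = g x := by
    simp only [g', AlgHom.comp_apply, AlgEquiv.toAlgHom_eq_coe, AlgHom.coe_coe]
    change Ideal.Quotient.liftₐ (RingHom.ker π₀) g _ (e.symm (π₀ x)) = g x
    rw [show e.symm (π₀ x) = Ideal.Quotient.mk _ x from e.symm_apply_eq.2 rfl]
    rfl
  rw [AlgHom.comp_apply, hx]
  exact AlgHom.congr_fun hgh x

end Groth.Agent.S6830
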