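import Groth.Statements.S6831
import Groth.Agent.FPLocal.OpensPt
import Groth.Agent.FPLocal.OverEpi
-- import your own Groth.Agent.* helpers here

set_option autoImplicit false
universe u
open CategoryTheory CategoryTheory.Limits TopologicalSpace
open ModSite

namespace Groth.Agent.S6831

/-- Let (X, O) be a ringed space, φ : G → F a map of O-modules with F of finite type, and x a point such
that the map of stalks φ_x : G_x → F_x is surjective (stalks are taken at the point of the site of
opens of X given by x). Then φ|_U is surjective for some open neighbourhood U of x. -/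
theorem result {X : TopCat.{u}} (O : TopCat.Sheaf CommRingCat.{u} X)
    {G F : ModSite.Mod O} (φ : G ⟶ F) [SheafOfModules.IsFiniteType (R := ModSite.ringSh O) F] (x : X)
    (hx : Function.Surjective (ModSite.stalkMap (Opens.pointGrothendieckTopology x) φ).hom) :
    ∃ U : Opens X, x ∈ U ∧ Epi ((ModSite.restr O U).map φ) := by
  obtain ⟨U, g₀, hxU, I, _, s, hs⟩ :=
    FPLocal.Locally.near (FPLocal.exists_sieve_hasGen (R := ModSite.ringSh O) F ⊤) (Opens.mem_top x)
  have h : ∀ i, FPLocal.Near x U fun W g => ∃ t : ModSite.sect G W,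
      (φ.val.app (Opposite.op W)).hom t = FPLocal.mres F g.op (s i) := fun i => by
    obtain ⟨z, hz⟩ := hx (FPLocal.germ F hxU (s i))
    obtain ⟨W, hW, t, rfl⟩ := FPLocal.exists_germ G x z
    rw [FPLocal.stalkMap_germ] at hz
    let k : W ⊓ U ⟶ W := homOfLE inf_le_left
    let g : W ⊓ U ⟶ U := homOfLE inf_le_right
    have hx' : x ∈ W ⊓ U := ⟨hW, hxU⟩
    obtain ⟨W', l, hx'', hl⟩ := FPLocal.near_of_germ_eq F hx'
      ((φ.val.app (Opposite.op (W ⊓ U))).hom (FPLocal.mres G k.op t))
      (FPLocal.mres F g.op (s i)) (by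
        rw [FPLocal.app_mres]
        exact (FPLocal.germ_mres F k hx' _).trans
          (hz.trans (FPLocal.germ_mres F g hx' _).symm))
    refine ⟨W', l ≫ g, hx'', FPLocal.mres G l.op (FPLocal.mres G k.op t), ?_⟩
    rw [FPLocal.mres_comp', ← hl, FPLocal.app_mres]
  obtain ⟨W, g, hxW, hW⟩ := FPLocal.Near.forall hxU (fun i V W k g hg => by
    obtain ⟨t, ht⟩ := hg
    exact ⟨FPLocal.mres G k.op t, by rw [FPLocal.app_mres, ht, ← FPLocal.mres_comp']⟩) h
  choose t ht using hW
  exact ⟨W, hxW, FPLocal.epi_overFunctor_map_of_lift φ (hs.restrict g) t ht⟩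

end Groth.Agent.S6831
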