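import Groth.Statements.S6834
import Groth.Agent.FPLocal.OpensPt
import Groth.Agent.FPLocal.Colim
-- import your own Groth.Agent.* helpers here

set_option autoImplicit false
universe u
open CategoryTheory CategoryTheory.Limits TopologicalSpace
open ModSite

namespace Groth.Agent.S6834

/-- Let (X, O) be a ringed space with X quasi-compact, I a directed preordered set (nonempty, with upper
bounds for pairs), (F_i) a system of O-modules over I and F = colim F_i. If F is of finite type then
F_i → F is surjective for some i; if moreover all transition maps are injective then F_i → F is an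
isomorphism for some i. -/
theorem result {X : TopCat.{u}} (O : TopCat.Sheaf CommRingCat.{u} X)
    [CompactSpace X] {I : Type u} [Preorder I] [Nonempty I] [IsDirected I (· ≤ ·)] (D : I ⥤ ModSite.Mod O)
    (c : Cocone D) (hc : IsColimit c) [SheafOfModules.IsFiniteType (R := ModSite.ringSh O) c.pt] :
    (∃ i : I, Epi (c.ι.app i)) ∧
      ((∀ (i j : I) (f : i ⟶ j), Mono (D.map f)) → ∃ i : I, IsIso (c.ι.app i)) := by
  let P : ∀ ⦃W : Opens X⦄, (W ⟶ (⊤ : Opens X)) → Prop := fun W _ => ∃ (k : I) (K : Type u)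
    (_ : Fintype K) (s : K → ModSite.sect c.pt W) (t : K → ModSite.sect (D.obj k) W),
    FPLocal.Gen c.pt s ∧ ∀ j, ((c.ι.app k).val.app (Opposite.op W)).hom (t j) = s j
  have hw : ∀ {a b : I} (f : a ⟶ b) (W : Opens X) (y : ModSite.sect (D.obj a) W),
      ((c.ι.app b).val.app (Opposite.op W)).hom (((D.map f).val.app (Opposite.op W)).hom y) =
        ((c.ι.app a).val.app (Opposite.op W)).hom y := fun f W y =>
    congrArg (fun φ : D.obj _ ⟶ c.pt => (φ.val.app (Opposite.op W)).hom y) (c.w f)
  have hP : ∀ x ∈ (⊤ : Opens X), FPLocal.Near x ⊤ P := fun x hx => by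
    obtain ⟨U, g₀, hxU, K, _, s, hs⟩ :=
      FPLocal.Locally.near (FPLocal.exists_sieve_hasGen (R := ModSite.ringSh O) c.pt ⊤) hx
    obtain ⟨W, g, hxW, hW⟩ := FPLocal.Locally.near
      (FPLocal.Locally.forall fun j => FPLocal.locally_exists_rep hc (s j)) hxU
    choose a y hy using hW
    classical
    obtain ⟨k, hk⟩ := Finite.bddAbove_range a
    refine ⟨W, g ≫ g₀, hxW, k, K, inferInstance, fun j => FPLocal.mres c.pt g.op (s j),
      fun j => ((D.map (homOfLE (hk (Set.mem_range_self j)))).val.app (Opposite.op W)).hom (y j),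
      hs.restrict g, fun j => ?_⟩
    exact (hw (homOfLE (hk (Set.mem_range_self j))) W (y j)).trans (hy j)
  obtain ⟨ι, _, W, g, hcov, hW⟩ := FPLocal.exists_finite_cover (U := ⊤) (P := P)
    (by simpa using isCompact_univ) hP
  choose k K hK s t hs ht using hW
  obtain ⟨i, hi⟩ := Finite.bddAbove_range k
  have hepi : Epi (c.ι.app i) := by
    refine FPLocal.epi_of_exists_preimage (M := D.obj i) (N := c.pt) (c.ι.app i) fun V m => ?_
    refine FPLocal.locally_of_near (fun V' W' l h hh => ?_) fun x hx => ?_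
    · obtain ⟨y, hy⟩ := hh
      exact ⟨FPLocal.mres (D.obj i) l.op y, by rw [FPLocal.app_mres, hy, ← FPLocal.mres_comp']⟩
    · obtain ⟨a, ha⟩ := hcov x trivial
      let V' := V ⊓ W a
      let h : V' ⟶ W a := homOfLE inf_le_right
      let h' : V' ⟶ V := homOfLE inf_le_left
      obtain ⟨Z, l, hxZ, b, hb⟩ := FPLocal.Locally.near
        (@FPLocal.Gen.locally _ _ _ _ _ _ _ (hK a) _ (hs a) _ h (FPLocal.mres c.pt h'.op m))
        (show x ∈ V' from ⟨hx, ha⟩)
      refine ⟨Z, l ≫ h', hxZ, ∑ j, b j • FPLocal.mres (D.obj i) (l ≫ h).op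
        (((D.map (homOfLE (hi (Set.mem_range_self a)))).val.app (Opposite.op (W a))).hom (t a j)), ?_⟩
      rw [map_sum, FPLocal.mres_comp', ← hb]
      refine Finset.sum_congr rfl fun j _ => ?_
      rw [map_smul, FPLocal.app_mres, hw, ht]
  refine ⟨⟨i, hepi⟩, fun hmono => ⟨i, ?_⟩⟩
  have : Mono (c.ι.app i) := FPLocal.mono_of_locally_zero (M := D.obj i) (N := c.pt) (c.ι.app i) fun V y hy => by
    refine (FPLocal.locally_eq_of_app_eq hc y (0 : ModSite.sect (D.obj i) V)
      (hy.trans (map_zero _).symm)).mono fun W g hg => ?_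
    obtain ⟨k, f, f', hf⟩ := hg
    have := hmono i k f
    rw [map_zero, map_zero] at hf
    exact FPLocal.app_injective_of_mono (D.map f) W (hf.trans (map_zero _).symm)
  exact isIso_of_mono_of_epi (c.ι.app i)

end Groth.Agent.S6834
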