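import Groth.Statements.S6836
import Groth.Agent.FPLocal.LocFree
-- import your own Groth.Agent.* helpers here

set_option autoImplicit false
universe u
open CategoryTheory CategoryTheory.Limits TopologicalSpace
open ModSite

namespace Groth.Agent.S6836

/-- On a ringed space (X, O), let r ≥ 0 and let φ : F → G be a map of O-modules which are both finite
locally free of rank r (every point has an open neighbourhood U with F|_U ≅ O_U^r, the free
O_U-module on r generators, and likewise for G). Then φ is an isomorphism if and only if it is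
surjective. -/
theorem result {X : TopCat.{u}} (O : TopCat.Sheaf CommRingCat.{u} X) (r : ℕ)
    {F G : ModSite.Mod O}
    (hF : ∀ x : X, ∃ U : Opens X, x ∈ U ∧
      Nonempty ((ModSite.restr O U).obj F ≅ SheafOfModules.free (ULift.{u} (Fin r))))
    (hG : ∀ x : X, ∃ U : Opens X, x ∈ U ∧
      Nonempty ((ModSite.restr O U).obj G ≅ SheafOfModules.free (ULift.{u} (Fin r))))
    (φ : F ⟶ G) : IsIso φ ↔ Epi φ := by
  refine ⟨fun h => inferInstance, fun h => ?_⟩
  haveI : Mono φ := FPLocal.mono_of_locally_zero φ fun V m hm => by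
    refine FPLocal.locally_of_near (fun A B k g hg => ?_) fun x hx => ?_
    · rw [FPLocal.mres_comp', hg, map_zero]
    · obtain ⟨U₁, hx₁, ⟨i₁⟩⟩ := hF x
      obtain ⟨U₂, hx₂, ⟨i₂⟩⟩ := hG x
      obtain ⟨e, he⟩ := FPLocal.isBasisOver_of_iso i₁
      obtain ⟨f, hf⟩ := FPLocal.isBasisOver_of_iso i₂
      let W := V ⊓ (U₁ ⊓ U₂)
      let g : W ⟶ V := homOfLE inf_le_left
      let g₁ : W ⟶ U₁ := homOfLE (inf_le_right.trans inf_le_left)
      let g₂ : W ⟶ U₂ := homOfLE (inf_le_right.trans inf_le_right)
      obtain ⟨Z, k, hxZ, hk⟩ := FPLocal.Locally.near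
        (FPLocal.zero_of_epi_of_basis φ (he.restrict g₁) (hf.restrict g₂) (FPLocal.mres F g.op m)
          (by rw [FPLocal.app_mres, hm, map_zero]))
        (show x ∈ W from ⟨hx, hx₁, hx₂⟩)
      refine ⟨Z, k ≫ g, hxZ, ?_⟩
      show FPLocal.mres F (k ≫ g).op m = 0
      rw [FPLocal.mres_comp']
      exact hk
  exact isIso_of_mono_of_epi φ

end Groth.Agent.S6836
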