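import Groth.Statements.S6842
import Groth.Agent.FPLocal.OpensPt
import Groth.Agent.FPLocal.Coprod
-- import your own Groth.Agent.* helpers here

set_option autoImplicit false
universe u
open CategoryTheory CategoryTheory.Limits TopologicalSpace
open ModSite

namespace Groth.Agent.S6842

/-- Let (X, O) be a ringed space, (F_i)_{i ∈ I} a family of O-modules and U ⊆ X a quasi-compact open.
Then the canonical map ⊕_i F_i(U) → (⊕_i F_i)(U) is bijective: every section of the direct sum over
U is a finite sum of images of sections of the F_i over U (surjectivity), and such a finite sum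
vanishes only if each term's section is zero (injectivity). -/
theorem result {X : TopCat.{u}} (O : TopCat.Sheaf CommRingCat.{u} X)
    {I : Type u} (F : I → ModSite.Mod O) [HasCoproduct F] (U : Opens X) (hU : IsCompact (U : Set X)) :
    (∀ s : ModSite.sect (∐ F) U, ∃ (S : Finset I) (t : ∀ i, ModSite.sect (F i) U),
        s = ∑ i ∈ S, ((Sigma.ι F i).val.app (Opposite.op U)).hom (t i)) ∧
      ∀ (S : Finset I) (t : ∀ i, ModSite.sect (F i) U),
        ∑ i ∈ S, ((Sigma.ι F i).val.app (Opposite.op U)).hom (t i) = 0 → ∀ i ∈ S, t i = 0 := by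
  classical
  refine ⟨fun s => ?_, fun S t h i hi => ?_⟩
  · let P : ∀ ⦃W : Opens X⦄, (W ⟶ U) → Prop := fun W g => ∃ (S : Finset I)
      (t : ∀ i, ModSite.sect (F i) W), FPLocal.mres (∐ F) g.op s =
        ∑ i ∈ S, ((Sigma.ι F i).val.app (Opposite.op W)).hom (t i)
    obtain ⟨ι, _, W, g, hcov, hW⟩ := FPLocal.exists_finite_cover (P := P) hU
      fun x hx => (FPLocal.locally_exists_finsum F s).near hx
    choose S t ht using hW
    refine ⟨Finset.univ.biUnion S, fun i =>
      ((FPLocal.coprodProj F i).val.app (Opposite.op U)).hom s, ?_⟩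
    refine FPLocal.eq_of_cover (∐ F) W g hcov fun a => ?_
    rw [map_sum]
    have e : ∀ i, FPLocal.mres (∐ F) (g a).op (((Sigma.ι F i).val.app (Opposite.op U)).hom
        (((FPLocal.coprodProj F i).val.app (Opposite.op U)).hom s)) =
        ((Sigma.ι F i).val.app (Opposite.op (W a))).hom (if i ∈ S a then t a i else 0) := fun i => by
      rw [← FPLocal.app_mres, ← FPLocal.app_mres, ht, FPLocal.coprodProj_sum]
    rw [ht, Finset.sum_congr rfl fun i _ => e i]
    symm
    refine Eq.trans (Finset.sum_subset ?_ ?_).symm (Finset.sum_congr rfl fun i hi => by rw [if_pos hi])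
    · exact Finset.subset_biUnion_of_mem S (Finset.mem_univ a)
    · intro i _ hi
      rw [if_neg hi, map_zero]
  · have e := FPLocal.coprodProj_sum F S t i
    rw [h, map_zero, if_pos hi] at e
    exact e.symm

end Groth.Agent.S6842
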