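import Groth.Statements.S6848
import Groth.Agent.FPLocal.StalkBasis
-- import your own Groth.Agent.* helpers here

set_option autoImplicit false
universe u
open CategoryTheory CategoryTheory.Limits TopologicalSpace
open ModSite

namespace Groth.Agent.S6848

/-- On a ringed space (X, O), let F be an O-module of finite presentation and x a point with F_x ≅
O_{X,x}^r as O_{X,x}-modules (stalks are taken at the point of the site of opens of X given by x).
Then there is an open neighbourhood U of x with F|_U ≅ O_U^r, the free O_U-module on r generators. -/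
theorem result {X : TopCat.{u}} (O : TopCat.Sheaf CommRingCat.{u} X)
    (F : ModSite.Mod O) [SheafOfModules.IsFinitePresentation (R := ModSite.ringSh O) F] (x : X) (r : ℕ)
    (hx : Nonempty (ModSite.stalkMod (Opens.pointGrothendieckTopology x) F
      ≃ₗ[ModSite.stalkRing (Opens.pointGrothendieckTopology x) O]
        (Fin r → ModSite.stalkRing (Opens.pointGrothendieckTopology x) O))) :
    ∃ U : Opens X, x ∈ U ∧ Nonempty ((ModSite.restr O U).obj F ≅ SheafOfModules.free (ULift.{u} (Fin r))) := by
  obtain ⟨e⟩ := hx
  obtain ⟨U, g, hxU, hU⟩ := FPLocal.Locally.near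
    (FPLocal.exists_sieve_hasRels (R := ModSite.ringSh O) F ⊤) (Opens.mem_top x)
  obtain ⟨W, k, hxW, f, hf⟩ := FPLocal.near_exists_basis hxU hU
    (L := ULift.{u} (Fin r)) (e.trans (LinearEquiv.funCongrLeft _ _ Equiv.ulift))
  exact ⟨W, hxW, hf.nonempty_iso⟩

end Groth.Agent.S6848
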