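import Groth.Statements.S6849
import Groth.Agent.FPLocal.Summand
-- import your own Groth.Agent.* helpers here

set_option autoImplicit false
universe u
open CategoryTheory CategoryTheory.Limits TopologicalSpace
open ModSite

namespace Groth.Agent.S6849

/-- Let (X, O) be a ringed space all of whose stalks O_{X,x} are local rings, H a finite locally free
O-module (every point has an open neighbourhood U with H|_U ≅ O_U^n, the free O_U-module on n
generators, for some n) and F a direct summand of H (maps F → H → F composing to the identity). Then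
F is finite locally free. -/
theorem result {X : TopCat.{u}}
    (O : TopCat.Sheaf CommRingCat.{u} X) (hO : ∀ x : X, IsLocalRing (O.presheaf.stalk x)) {F H : ModSite.Mod O}
    (hH : ∀ x : X, ∃ (U : Opens X) (n : ℕ), x ∈ U ∧
      Nonempty ((ModSite.restr O U).obj H ≅ SheafOfModules.free (ULift.{u} (Fin n))))
    (i : F ⟶ H) (p : H ⟶ F) (hip : i ≫ p = 𝟙 F) (x : X) :
    ∃ (U : Opens X) (n : ℕ), x ∈ U ∧
      Nonempty ((ModSite.restr O U).obj F ≅ SheafOfModules.free (ULift.{u} (Fin n))) := by
  haveI := hO x
  obtain ⟨U, n, hxU, ⟨e⟩⟩ := hH x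
  obtain ⟨h, hh⟩ := FPLocal.isBasisOver_of_iso e
  classical
  obtain ⟨W, S, _, f, hxW, hf⟩ := FPLocal.near_exists_basis_of_summand i p hip hxU hh
  exact ⟨W, Fintype.card S, hxW,
    (hf.reindex (Equiv.ulift.trans (Fintype.equivFin S).symm)).nonempty_iso⟩

end Groth.Agent.S6849
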