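import Groth.Statements.S6851
import Groth.Agent.FPLocal.Invertible
-- import your own Groth.Agent.* helpers here

set_option autoImplicit false
universe u
open CategoryTheory CategoryTheory.Limits TopologicalSpace
open ModSite

namespace Groth.Agent.S6851

/-- Let (X, O) be a ringed space all of whose stalks O_{X,x} are local rings with maximal ideals m_x, L
an invertible O-module (F ↦ L ⊗_O F is an equivalence of Mod(O)) and s a section of L over an open
U. Then the set X_s of points x ∈ U whose germ s_x does not lie in m_x L_x is open, and for every x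
∈ X_s the map O_{X,x} → L_x, a ↦ a s_x, is bijective; that is, s : O_{X_s} → L|_{X_s} is an
isomorphism, isomorphy being checked on stalks. Stalks and germs are taken at the point of the site
of opens of X given by x. (The published statement also produces the section s' of the inverse of L
with s' s = 1; that consequence is not restated here.) -/
theorem result {X : TopCat.{u}} (O : TopCat.Sheaf CommRingCat.{u} X)
    (hO : ∀ x : X, IsLocalRing (ModSite.stalkRing (Opens.pointGrothendieckTopology x) O)) (L : ModSite.Mod O)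
    (hL : ((ModSite.tensorBi O).obj L).IsEquivalence) (U : Opens X) (s : ModSite.sect L U) :
    IsOpen {x : X | ∃ hx : x ∈ U, ModSite.germ (Opens.pointGrothendieckTopology x) L U ⟨⟨hx⟩⟩ s ∉
        (@IsLocalRing.maximalIdeal (ModSite.stalkRing (Opens.pointGrothendieckTopology x) O) _ (hO x)) •
          (⊤ : Submodule (ModSite.stalkRing (Opens.pointGrothendieckTopology x) O)
            (ModSite.stalkAb (Opens.pointGrothendieckTopology x) L))} ∧
      ∀ (x : X) (hx : x ∈ U), ModSite.germ (Opens.pointGrothendieckTopology x) L U ⟨⟨hx⟩⟩ s ∉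
          (@IsLocalRing.maximalIdeal (ModSite.stalkRing (Opens.pointGrothendieckTopology x) O) _ (hO x)) •
            (⊤ : Submodule (ModSite.stalkRing (Opens.pointGrothendieckTopology x) O)
              (ModSite.stalkAb (Opens.pointGrothendieckTopology x) L)) →
        Function.Bijective (fun a : ModSite.stalkRing (Opens.pointGrothendieckTopology x) O =>
          a • ModSite.germ (Opens.pointGrothendieckTopology x) L U ⟨⟨hx⟩⟩ s) := by
  obtain ⟨B, ⟨e⟩⟩ := Groth.Agent.PullFlat.exists_tens_iso O hL
  haveI := fun x => hO x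
  have key : ∀ (x : X) (hx : x ∈ U), ∃ (W : Opens X) (g : W ⟶ U) (t : ModSite.sect L W)
      (a : O.obj.obj (Opposite.op W)), x ∈ W ∧ FPLocal.IsBasisOver L (fun _ : PUnit.{u + 1} => t) ∧
      ∀ (y : X) (hy : y ∈ W), FPLocal.germ L (g.le hy) s =
        FPLocal.fgerm O hy a • FPLocal.germ L hy t := fun x hx => by
    haveI := hO x
    obtain ⟨W, g, t, hxW, ht⟩ := FPLocal.exists_basis_of_invertible e hx
    obtain ⟨Z, k, hxZ, a, ha⟩ := FPLocal.Locally.near
      (ht.1.locally_comb (FPLocal.mres L g.op s)) hxW
    refine ⟨Z, k ≫ g, FPLocal.mres L k.op t, a default, hxZ, ht.restrict k, fun y hy => ?_⟩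
    rw [← FPLocal.germ_mres L (k ≫ g) hy s, FPLocal.mres_comp', ← ha, FPLocal.germ_comb,
      Fintype.sum_unique]
  refine ⟨isOpen_iff_forall_mem_open.2 ?_, fun x hx hs => ?_⟩
  · rintro x ⟨hx, hs⟩
    haveI := hO x
    obtain ⟨W, g, t, a, hxW, ht, ha⟩ := key x hx
    change FPLocal.germ L hx s ∉ _ at hs
    rw [ha x hxW, FPLocal.germ_not_mem_smul_iff hxW ht] at hs
    obtain ⟨Z, k, hxZ, hZ⟩ := FPLocal.near_isUnit_of_fgerm hxW a hs
    refine ⟨Z, fun y hy => ⟨g.le (k.le hy), ?_⟩, Z.2, hxZ⟩
    haveI := hO y
    change FPLocal.germ L (g.le (k.le hy)) s ∉ _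
    rw [ha y (k.le hy), FPLocal.germ_not_mem_smul_iff (k.le hy) ht, ← FPLocal.fgerm_ores k hy a]
    exact hZ.map _
  · haveI := hO x
    obtain ⟨W, g, t, a, hxW, ht, ha⟩ := key x hx
    change FPLocal.germ L hx s ∉ _ at hs
    show Function.Bijective fun c => c • FPLocal.germ L hx s
    rw [ha x hxW, FPLocal.germ_not_mem_smul_iff hxW ht] at hs
    simp only [ha x hxW, smul_smul]
    exact (FPLocal.germ_basis_bijective hxW ht).comp (hs.unit.mulRight_bijective)

end Groth.Agent.S6851
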