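import Groth.Statements.S6855
import Mathlib.Topology.Sheaves.Stalks
-- import your own Groth.Agent.* helpers here

set_option autoImplicit false
universe u
open CategoryTheory CategoryTheory.Limits TopologicalSpace
open ModSite

namespace Groth.Agent.S6855

/-- Let X be a topological space and O a sheaf of rings on X. Then the support of O, the set of points x
with nonzero stalk O_x, is closed in X. -/
theorem result {X : TopCat.{u}} (O : TopCat.Sheaf CommRingCat.{u} X) :
    IsClosed {x : X | Nontrivial (O.presheaf.stalk x)} := by
  rw [← isOpen_compl_iff, isOpen_iff_forall_mem_open]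
  intro x hx
  have hs : Subsingleton (O.presheaf.stalk x) := not_nontrivial_iff_subsingleton.1 hx
  have e : (O.presheaf.germ (⊤ : Opens X) x trivial).hom 1 =
      (O.presheaf.germ (⊤ : Opens X) x trivial).hom 0 := Subsingleton.elim _ _
  obtain ⟨W, hxW, i, i', hW⟩ := O.presheaf.germ_eq (U := ⊤) (V := ⊤) x trivial trivial _ _ e
  refine ⟨W, fun y hy => ?_, W.2, hxW⟩
  rw [Set.mem_compl_iff, Set.mem_setOf_eq, not_nontrivial_iff_subsingleton, subsingleton_iff_zero_eq_one.symm]
  have h := congrArg (O.presheaf.germ W y hy).hom hW
  rw [show (O.presheaf.germ W y hy).hom ((O.presheaf.map i.op).hom 1) = 1 by simp,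
    show (O.presheaf.germ W y hy).hom ((O.presheaf.map i'.op).hom 0) = 0 by simp] at h
  exact h.symm

end Groth.Agent.S6855
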