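import Groth.Statements.S6858
import Groth.Agent.FPLocal.Rank
-- import your own Groth.Agent.* helpers here

set_option autoImplicit false
universe u
open CategoryTheory CategoryTheory.Limits TopologicalSpace
open ModSite

namespace Groth.Agent.S6858

/-- Let (X, O) be a ringed space all of whose stalks O_{X,x} are nonzero rings and F a locally free
O-module. Then there is a locally constant function rank_F : X → ℕ ∪ {∞} such that for every point
x, every open neighbourhood U of x and every index set I with F|_U ≅ ⊕_{i ∈ I} O_U, the cardinality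
of I (a natural number or ∞) is rank_F(x). -/
theorem result {X : TopCat.{u}} (O : TopCat.Sheaf CommRingCat.{u} X)
    (hO : ∀ x : X, Nontrivial (O.presheaf.stalk x)) (F : ModSite.Mod O)
    [SheafOfModules.IsLocallyFree (R := ModSite.ringSh O) F] :
    ∃ rk : X → ℕ∞, IsLocallyConstant rk ∧
      ∀ (x : X) (U : Opens X) (I : Type u), x ∈ U →
        Nonempty ((ModSite.restr O U).obj F ≅ SheafOfModules.free I) → ENat.card I = rk x := by
  obtain ⟨q, hq⟩ := SheafOfModules.IsLocallyFree.exists_isLocallyFreeData (R := ModSite.ringSh O) (M := F)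
  have key : ∀ x : X, ∃ (U : Opens X) (I : Type u), x ∈ U ∧
      Nonempty (SheafOfModules.free I ≅ (ModSite.restr O U).obj F) := fun x => by
    obtain ⟨W, g, hg, hxW⟩ := (Opens.mem_grothendieckTopology X).1 (q.coversTop ⊤) x trivial
    obtain ⟨i, ⟨a⟩⟩ := (Sieve.mem_ofObjects_iff ..).mp hg
    exact ⟨q.X i, (q.generators i).I, a.le hxW,
      ⟨@asIso _ _ _ _ (q.generators i).π (hq.isIso i)⟩⟩
  choose U I hU e using key
  refine ⟨fun x => ENat.card (I x), (IsLocallyConstant.iff_exists_open _).2 fun x => ?_,
    fun x V J hxV ⟨f⟩ => FPLocal.card_eq (hO x) hxV (hU x) f.symm (e x).some⟩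
  exact ⟨U x, (U x).2, hU x, fun y hy =>
    FPLocal.card_eq (hO y) (hU y) hy (e y).some (e x).some⟩

end Groth.Agent.S6858
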