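import Groth.Statements.S6862
import Mathlib


set_option autoImplicit false
universe u
open CAlg

namespace Groth.Agent.S6862

/-- Let `R` be a commutative ring and `P'`, `P`, `P''` finitely generated projective `R`-modules in an
exact sequence `0 → P' → P → P'' → 0`. Whenever two of the three are stably free, the remaining one
is stably free too (all three cases are stated). -/
theorem result {R : Type u} [CommRing R] {P' P P'' : Type u}
    [AddCommGroup P'] [Module R P'] [Module.Finite R P'] [Module.Projective R P']
    [AddCommGroup P] [Module R P] [Module.Finite R P] [Module.Projective R P]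
    [AddCommGroup P''] [Module R P''] [Module.Finite R P''] [Module.Projective R P'']
    (f : P' →ₗ[R] P) (g : P →ₗ[R] P'') (hf : Function.Injective f) (hg : Function.Surjective g)
    (hfg : Function.Exact f g) :
    (Module.IsStablyFree R P' → Module.IsStablyFree R P → Module.IsStablyFree R P'') ∧
    (Module.IsStablyFree R P' → Module.IsStablyFree R P'' → Module.IsStablyFree R P) ∧
    (Module.IsStablyFree R P → Module.IsStablyFree R P'' → Module.IsStablyFree R P') := by
  obtain ⟨s, hs⟩ := Module.projective_lifting_property g LinearMap.id hg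
  let e : P ≃ₗ[R] P' × P'' := ((hfg.splitSurjectiveEquiv hf) ⟨s, hs⟩).1
  have key : ∀ (A B : Type u) [AddCommGroup A] [Module R A] [AddCommGroup B] [Module R B],
      Module.IsStablyFree R A → Module.IsStablyFree R B → Module.Finite R B →
        Module.IsStablyFree R (A × B) := by
    intro A B _ _ _ _ hA hB _
    obtain ⟨N, _, _, _, _, hAN⟩ := Module.IsStablyFree.exist_free_prod R A
    obtain ⟨N', _, _, _, _, hBN⟩ := Module.IsStablyFree.exist_free_prod R B
    have : Module.Free R ((A × B) × (N × N')) :=
      Module.Free.of_equiv (LinearEquiv.prodProdProdComm R A N B N')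
    exact Module.IsStablyFree.of_free_prod R (A × B) (N × N')
  have key2 : ∀ (A B : Type u) [AddCommGroup A] [Module R A] [AddCommGroup B] [Module R B]
      [Module.Finite R A], Module.IsStablyFree R A → Module.IsStablyFree R (A × B) →
        Module.IsStablyFree R B := by
    intro A B _ _ _ _ _ hA hAB
    obtain ⟨N, _, _, _, _, hAN⟩ := Module.IsStablyFree.exist_free_prod R A
    obtain ⟨N', _, _, _, _, hABN⟩ := Module.IsStablyFree.exist_free_prod R (A × B)
    -- `B × ((A × N) × N') ≅ ((A × B) × N') × N`
    let eq : (((A × B) × N') × N) ≃ₗ[R] (B × ((A × N) × N')) :=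
      { toFun := fun x ↦ (x.1.1.2, ((x.1.1.1, x.2), x.1.2))
        invFun := fun y ↦ (((y.2.1.1, y.1), y.2.2), y.2.1.2)
        left_inv := fun _ ↦ rfl
        right_inv := fun _ ↦ rfl
        map_add' := fun _ _ ↦ rfl
        map_smul' := fun _ _ ↦ rfl }
    have : Module.Free R (B × ((A × N) × N')) := Module.Free.of_equiv eq
    exact Module.IsStablyFree.of_free_prod R B ((A × N) × N')
  refine ⟨fun h1 h2 ↦ key2 P' P'' h1 (h2.equiv e), fun h1 h2 ↦ ?_, fun h1 h2 ↦ ?_⟩
  · exact (key P' P'' h1 h2 inferInstance).equiv e.symm
  · exact key2 P'' P' h2 (h1.equiv (e.trans (LinearEquiv.prodComm R P' P'')))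

end Groth.Agent.S6862
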