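import Groth.Statements.S6863
import Mathlib

set_option autoImplicit false
universe u
open TensorProduct
open CAlg

namespace Groth.Agent.S6863
open scoped TensorProduct

/-- Let `I` be an ideal of a commutative ring `R` contained in the Jacobson radical (equivalently, `1 +
i` is a unit for each `i ∈ I`). Then each finitely generated stably free module `E` over `R/I`
lifts: there is a finite stably free `R`-module `M` with `M/IM ≅ E` (existence of an isomorphism
only; the published statement names no map). -/
theorem result {R : Type u} [CommRing R] (I : Ideal R)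
    (hI : I ≤ Ideal.jacobson (⊥ : Ideal R)) (E : Type u) [AddCommGroup E] [Module (R ⧸ I) E]
    [Module.Finite (R ⧸ I) E] [Module.IsStablyFree (R ⧸ I) E] :
    ∃ (M : Type u) (_ : AddCommGroup M) (_ : Module R M), Module.Finite R M ∧ Module.IsStablyFree R M ∧
      Nonempty ((R ⧸ I) ⊗[R] M ≃ₗ[R ⧸ I] E) := by
  classical
  let S := R ⧸ I
  obtain ⟨N, _, _, _, _, hfree⟩ := Module.IsStablyFree.exist_free_prod S E
  haveI := hfree
  rcases subsingleton_or_nontrivial S with hS | hS
  · refine ⟨PUnit.{u+1}, inferInstance, inferInstance, inferInstance, inferInstance, ?_⟩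
    haveI : Subsingleton E := Module.subsingleton S E
    haveI : Subsingleton (S ⊗[R] PUnit.{u+1}) := Module.subsingleton S _
    exact ⟨LinearEquiv.ofSubsingleton _ _⟩
  let bN := Module.finBasis S N
  let bP := Module.finBasis S (E × N)
  let m := Module.finrank S N
  let n := Module.finrank S (E × N)
  let π : (Fin n → S) →ₗ[S] (Fin m → S) := (bN.equivFun : N →ₗ[S] (Fin m → S)) ∘ₗ LinearMap.snd S E N ∘ₗ (bP.equivFun.symm : (Fin n → S) →ₗ[S] E × N)
  have hπ : Function.Surjective π := fun y => ⟨bP.equivFun (0, bN.equivFun.symm y), by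
    simp only [π, LinearMap.comp_apply, LinearEquiv.coe_coe, LinearEquiv.symm_apply_apply, LinearMap.snd_apply, LinearEquiv.apply_symm_apply]⟩
  -- lift the projection to free `R`-modules
  choose l hl using fun j : Fin n => fun i => Ideal.Quotient.mk_surjective (π (Pi.single j 1) i)
  let PP : (Fin n → R) →ₗ[R] (Fin m → R) := Fintype.linearCombination R l
  let red : ∀ k, (Fin k → R) →ₗ[R] (Fin k → S) := fun k => LinearMap.compLeft (Algebra.linearMap R S) (Fin k)
  have hcomm : ∀ x, π (red n x) = red m (PP x) := fun x => by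
    have h : (π.restrictScalars R) ∘ₗ red n = red m ∘ₗ PP := by
      refine LinearMap.pi_ext' fun j => LinearMap.ext_ring (funext fun i => ?_)
      have h1 : red n (Pi.single j 1) = Pi.single j 1 := funext fun t => by
        by_cases ht : t = j
        · subst ht; simp [red]
        · simp [red, Pi.single_eq_of_ne ht]
      simp only [LinearMap.comp_apply, LinearMap.coe_single, LinearMap.coe_restrictScalars, h1]
      simp [red, PP, hl, Fintype.linearCombination_apply, Pi.single_apply]
      exact (hl j i).symm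
    exact LinearMap.congr_fun h x
  have hred : ∀ k, Function.Surjective (red k) := fun k y => ⟨fun i => (Ideal.Quotient.mk_surjective (y i)).choose,
    funext fun i => (Ideal.Quotient.mk_surjective (y i)).choose_spec⟩
  have hredker : ∀ k (x : Fin k → R), red k x = 0 → x ∈ I • (⊤ : Submodule R (Fin k → R)) := fun k x hx => by
    rw [pi_eq_sum_univ' x]
    exact Submodule.sum_mem _ fun i _ => Submodule.smul_mem_smul (Ideal.Quotient.eq_zero_iff_mem.mp (congrFun hx i)) trivial
  have hPP : Function.Surjective PP := by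
    rw [← LinearMap.range_eq_top, eq_top_iff]
    refine Submodule.le_of_le_smul_of_le_jacobson_bot Module.Finite.fg_top hI fun y _ => ?_
    obtain ⟨z, hz⟩ := hπ (red m y)
    obtain ⟨x, rfl⟩ := hred n z
    rw [hcomm] at hz
    have : y = PP x + (y - PP x) := by abel
    rw [this]
    exact add_mem (Submodule.mem_sup_left ⟨x, rfl⟩) (Submodule.mem_sup_right (hredker m _ (by rw [map_sub, hz, sub_self])))
  obtain ⟨s, hs⟩ := Module.projective_lifting_property PP LinearMap.id hPP
  have hs' : ∀ y, PP (s y) = y := fun y => LinearMap.congr_fun hs y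
  let M := LinearMap.ker PP
  let e : (Fin n → R) ≃ₗ[R] M × (Fin m → R) := LinearEquiv.ofLinearMap
    (((LinearMap.id - s ∘ₗ PP).codRestrict M fun x => by simp [M, hs']).prod PP) (M.subtype.coprod s)
    (LinearMap.ext fun ⟨k, y⟩ => by
      have hk : PP k.1 = 0 := k.2
      refine Prod.ext (Subtype.ext (by simp [hs', hk])) (by simp [hs', hk]))
    (LinearMap.ext fun x => by simp)
  haveI : Module.Free R (M × (Fin m → R)) := Module.Free.of_equiv e
  haveI : Module.Finite R M := Module.Finite.of_surjective (LinearMap.fst R M (Fin m → R) ∘ₗ e.toLinearMap) (fun k => ⟨e.symm (k, 0), by simp⟩)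
  refine ⟨M, inferInstance, inferInstance, inferInstance, Module.IsStablyFree.of_free_prod R M (Fin m → R), ?_⟩
  -- the reduction of `M` is `E`
  letI : Module R E := Module.compHom E (Ideal.Quotient.mk I)
  haveI : IsScalarTower R S E := ⟨fun r s x => by
    show (r • s) • x = Ideal.Quotient.mk I r • (s • x)
    rw [smul_smul, Algebra.smul_def]; rfl⟩
  let pE : (Fin n → S) →ₗ[S] E := LinearMap.fst S E N ∘ₗ bP.equivFun.symm.toLinearMap
  let toE : M →ₗ[R] E := (pE.restrictScalars R) ∘ₗ red n ∘ₗ M.subtype
  let Φ : S ⊗[R] M →ₗ[S] E := LinearMap.liftBaseChange S toE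
  have hone : ∀ t : S ⊗[R] M, ∃ x : M, t = (1 : S) ⊗ₜ[R] x := fun t => by
    induction t using TensorProduct.induction_on with
    | zero => exact ⟨0, (TensorProduct.tmul_zero _ _).symm⟩
    | tmul a x =>
      obtain ⟨r, rfl⟩ := Ideal.Quotient.mk_surjective a
      exact ⟨r • x, by rw [TensorProduct.tmul_smul, TensorProduct.smul_tmul', Algebra.smul_def, mul_one]; rfl⟩
    | add t u ht hu =>
      obtain ⟨x, rfl⟩ := ht; obtain ⟨y, rfl⟩ := hu
      exact ⟨x + y, (TensorProduct.tmul_add _ _ _).symm⟩
  have hredI : ∀ k (x : Fin k → R), x ∈ I • (⊤ : Submodule R (Fin k → R)) → red k x = 0 := fun k x hx => by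
    refine Submodule.smul_induction_on hx (fun r hr x _ => funext fun i => ?_) (fun x y hx hy => by rw [map_add, hx, hy, add_zero])
    simp [red, S, Ideal.Quotient.eq_zero_iff_mem.mpr hr]
  refine ⟨LinearEquiv.ofBijective Φ ⟨?_, fun y => ?_⟩⟩
  · rw [injective_iff_map_eq_zero]
    intro t ht
    obtain ⟨x, rfl⟩ := hone t
    simp only [Φ, LinearMap.liftBaseChange_tmul, one_smul] at ht
    have h1 : bN.equivFun ((bP.equivFun.symm (red n x.1)).2) = 0 := by
      have h2 := hcomm x.1
      rw [show PP x.1 = 0 from x.2, map_zero] at h2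
      exact h2
    have h3 : red n x.1 = 0 := by
      have h4 : bP.equivFun.symm (red n x.1) = 0 := Prod.ext ht (bN.equivFun.map_eq_zero_iff.mp h1)
      exact bP.equivFun.symm.map_eq_zero_iff.mp h4
    let p : (Fin n → R) →ₗ[R] M := LinearMap.fst R M (Fin m → R) ∘ₗ e.toLinearMap
    have hp : p x.1 = x := Subtype.ext (show x.1 - s (PP x.1) = x.1 by rw [show PP x.1 = 0 from x.2, map_zero, sub_zero])
    have hx : x ∈ I • (⊤ : Submodule R M) := by
      rw [← hp]
      exact (Submodule.map_smul'' I ⊤ p).trans_le (smul_mono_right I le_top) (Submodule.mem_map_of_mem (hredker n _ h3))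
    clear ht h1 h3 hp
    refine Submodule.smul_induction_on hx (fun r hr x _ => ?_) (fun x y hx hy => by rw [TensorProduct.tmul_add, hx, hy, add_zero])
    rw [TensorProduct.tmul_smul, TensorProduct.smul_tmul', Algebra.smul_def, mul_one]
    show (Ideal.Quotient.mk I r) ⊗ₜ[R] x = 0
    rw [Ideal.Quotient.eq_zero_iff_mem.mpr hr, TensorProduct.zero_tmul]
  · obtain ⟨x, hx⟩ := hred n (bP.equivFun (y, 0))
    have hPPx : red m (PP x) = 0 := by
      rw [← hcomm, hx]
      show bN.equivFun ((bP.equivFun.symm (bP.equivFun (y, 0))).2) = 0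
      rw [LinearEquiv.symm_apply_apply, map_zero]
    have hsx : red n (s (PP x)) = 0 := hredI n _
      ((Submodule.map_smul'' I ⊤ s).trans_le (smul_mono_right I le_top) (Submodule.mem_map_of_mem (hredker m _ hPPx)))
    refine ⟨(1 : S) ⊗ₜ[R] ⟨x - s (PP x), by simp [M, hs']⟩, ?_⟩
    simp only [Φ, LinearMap.liftBaseChange_tmul, one_smul]
    show (bP.equivFun.symm (red n (x - s (PP x)))).1 = y
    rw [map_sub, hsx, sub_zero, hx, LinearEquiv.symm_apply_apply]
end Groth.Agent.S6863
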