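import Groth.Statements.S6865
import Groth.Agent.CAlgBasics.FlatAux

set_option autoImplicit false
universe u
open TensorProduct
open CAlg

namespace Groth.Agent.S6865

/-- Let `I` be an ideal of a commutative ring `R` contained in the Jacobson radical and let `P, P'` be
finite projective `R`-modules. If `P/IP` and `P'/IP'` are isomorphic `R/I`-modules, then `P` and
`P'` are isomorphic. -/
theorem result {R : Type u} [CommRing R] (I : Ideal R)
    (hI : I ≤ Ideal.jacobson (⊥ : Ideal R)) (P P' : Type u)
    [AddCommGroup P] [Module R P] [Module.Finite R P] [Module.Projective R P]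
    [AddCommGroup P'] [Module R P'] [Module.Finite R P'] [Module.Projective R P']
    (e : (R ⧸ I) ⊗[R] P ≃ₗ[R ⧸ I] (R ⧸ I) ⊗[R] P') : Nonempty (P ≃ₗ[R] P') := by
  let q : ∀ (Q : Type u) [AddCommGroup Q] [Module R Q], Q →ₗ[R] (R ⧸ I) ⊗[R] Q := fun Q _ _ => TensorProduct.mk R (R ⧸ I) Q 1
  have hq : Function.Surjective (q P') := TensorProduct.mk_surjective (R := R) (M := P') (S := R ⧸ I) Ideal.Quotient.mk_surjective
  obtain ⟨φ, hφ⟩ := Module.projective_lifting_property (q P') ((e.toLinearMap.restrictScalars R).comp (q P)) hq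
  refine ⟨LinearEquiv.ofBijective φ (Groth.Agent.CAlgBasics.bijective_of_baseChange_quotient_bijective I hI φ ?_)⟩
  have : φ.baseChange (R ⧸ I) = e.toLinearMap := by
    refine TensorProduct.AlgebraTensorModule.ext fun a x => ?_
    have := LinearMap.congr_fun hφ x
    simp only [q, LinearMap.coe_comp, Function.comp_apply, TensorProduct.mk_apply, LinearMap.coe_restrictScalars, LinearEquiv.coe_coe] at this
    rw [LinearMap.baseChange_tmul, LinearEquiv.coe_coe,
      show a ⊗ₜ[R] x = a • ((1 : R ⧸ I) ⊗ₜ[R] x) by simp [TensorProduct.smul_tmul'], map_smul, ← this]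
    simp [TensorProduct.smul_tmul']
  rw [this]; exact e.bijective

end Groth.Agent.S6865
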