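import Groth.Statements.S6866
import Groth.Agent.CAlgBasics.TorsionFree

set_option autoImplicit false
universe u
open TensorProduct
open CAlg

namespace Groth.Agent.S6866

/-- If `M` is a torsion free module over a domain `R` and `R → R'` is a flat ring map to another domain,
then `R' ⊗_R M` is torsion free over `R'`. -/
theorem result (R R' : Type u) [CommRing R] [IsDomain R] [CommRing R']
    [IsDomain R'] [Algebra R R'] [Module.Flat R R'] (M : Type u) [AddCommGroup M] [Module R M]
    [Module.IsTorsionFree R M] : Module.IsTorsionFree R' (R' ⊗[R] M) := by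
  rw [Module.isTorsionFree_iff_smul_eq_zero]
  intro r t hrt
  rw [or_iff_not_imp_left]
  intro hr
  obtain ⟨N, hN, t', rfl⟩ : ∃ N : Submodule R M, N.FG ∧ t ∈ LinearMap.range (N.subtype.baseChange R') := by
    clear hrt
    induction t with
    | zero => exact ⟨⊥, Submodule.fg_bot, zero_mem _⟩
    | tmul a m => exact ⟨R ∙ m, Submodule.fg_span_singleton m, a ⊗ₜ ⟨m, Submodule.mem_span_singleton_self m⟩, by simp⟩
    | add x y hx hy =>
      obtain ⟨N, hN, hx⟩ := hx
      obtain ⟨N', hN', hy⟩ := hy
      have key : ∀ (A B : Submodule R M), A ≤ B → LinearMap.range (A.subtype.baseChange R') ≤ LinearMap.range (B.subtype.baseChange R') := by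
        intro A B h
        rw [← Submodule.subtype_comp_inclusion A B h, LinearMap.baseChange_comp]
        exact LinearMap.range_comp_le_range _ _
      exact ⟨N ⊔ N', hN.sup hN', add_mem (key _ _ le_sup_left hx) (key _ _ le_sup_right hy)⟩
  haveI : Module.Finite R N := Module.Finite.iff_fg.mpr hN
  obtain ⟨n, f, hf⟩ := Groth.Agent.CAlgBasics.exists_injective_pi_of_isTorsionFree R N
  have h1 : Function.Injective (N.subtype.baseChange R') := Module.Flat.lTensor_preserves_injective_linearMap _ N.injective_subtype
  have h2 : Function.Injective (f.baseChange R') := Module.Flat.lTensor_preserves_injective_linearMap _ hf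
  rw [← map_smul] at hrt
  have h3 : f.baseChange R' (r • t') = 0 := by rw [h1 (hrt.trans (map_zero _).symm), map_zero]
  rw [map_smul] at h3
  rw [(map_eq_zero_iff _ h2).mp ((smul_eq_zero.mp h3).resolve_left hr), map_zero]

end Groth.Agent.S6866
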