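import Groth.Statements.S6868
import Groth.Agent.CAlgBasics.ReflexiveDepth

set_option autoImplicit false
universe u
open CAlg

namespace Groth.Agent.S6868

/-- (1) ⇔ (3) ⇔ (4): for a Noetherian domain `R` and a nonzero finite `R`-module `M`, torsion-freeness
of `M` is equivalent to `(0)` being the unique associated prime of `M`, and also to the conjunction:
`(0)` belongs to the support of `M` and `M` satisfies Serre's condition `(S_1)`. (The published
statement also lists embedding into a finite free module and the absence of embedded associated
primes; this row states the other three conditions.) -/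
theorem result (R : Type u) [CommRing R]
    [IsDomain R] [IsNoetherianRing R] (M : Type u) [AddCommGroup M] [Module R M] [Module.Finite R M] [Nontrivial M] :
    (Module.IsTorsionFree R M ↔ associatedPrimes R M = {⊥}) ∧
    (Module.IsTorsionFree R M ↔
      (⟨⊥, Ideal.isPrime_bot⟩ : PrimeSpectrum R) ∈ Module.support R M ∧ LocCoh.HasSk 1 R M) := by
  refine ⟨⟨fun _ => Set.eq_singleton_iff_unique_mem.mpr ?_, fun h => ?_⟩,
    Groth.Agent.CAlgBasics.isTorsionFree_iff_hasSk_one M⟩
  · have huniq : ∀ p ∈ associatedPrimes R M, p = ⊥ := by
      intro p hp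
      obtain ⟨hprime, f, hf⟩ := (isAssociatedPrime_iff_exists_injective_linearMap p M).mp hp
      refine (Submodule.eq_bot_iff _).mpr fun a ha => ?_
      have h1 : a • f 1 = 0 := by
        rw [← map_smul, show a • (1 : R ⧸ p) = 0 by
          change Ideal.Quotient.mk p (a • (1 : R)) = 0
          simp [Ideal.Quotient.eq_zero_iff_mem, ha], map_zero]
      refine (smul_eq_zero.mp h1).resolve_right fun h0 => ?_
      haveI := Ideal.Quotient.nontrivial_iff.mpr hprime.ne_top
      exact one_ne_zero (hf (h0.trans (map_zero f).symm))
    obtain ⟨p, hp⟩ := associatedPrimes.nonempty R M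
    exact ⟨huniq p hp ▸ hp, huniq⟩
  · refine Module.isTorsionFree_iff_smul_eq_zero.mpr fun r x hrx => or_iff_not_imp_right.mpr fun hx => ?_
    have : r ∈ ⋃ p ∈ associatedPrimes R M, (p : Set R) := by
      rw [biUnion_associatedPrimes_eq_zero_divisors R M]
      exact ⟨x, hx, hrx⟩
    simpa [h] using this

end Groth.Agent.S6868
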