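import Groth.Statements.S6878
import Mathlib

set_option autoImplicit false
universe u
open CAlg

namespace Groth.Agent.S6878

/-- Let `R` be a Noetherian ring and `φ : M → N` a map of `R`-modules. Suppose that for every prime `𝔭`
of `R` either `M_𝔭 → N_𝔭` is injective or `𝔭` is not an associated prime of `M`. Then `φ` is
injective. -/
theorem result (R : Type u) [CommRing R]
    [IsNoetherianRing R] {M N : Type u} [AddCommGroup M] [Module R M] [AddCommGroup N] [Module R N] (φ : M →ₗ[R] N)
    (h : ∀ (p : Ideal R) [p.IsPrime],
      Function.Injective (LocalizedModule.map p.primeCompl φ) ∨ p ∉ associatedPrimes R M) :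
    Function.Injective φ := by
  rw [injective_iff_map_eq_zero]
  intro m hm
  by_contra h0
  have hne : (LinearMap.ker φ) ≠ ⊥ := fun e => h0 (by rwa [← Submodule.mem_bot R, ← e, LinearMap.mem_ker])
  haveI : Nontrivial (LinearMap.ker φ) := Submodule.nontrivial_iff_ne_bot.mpr hne
  obtain ⟨p, hp⟩ := associatedPrimes.nonempty R (LinearMap.ker φ)
  haveI := hp.isPrime
  rcases h p with h1 | h1
  · haveI : Nontrivial (LocalizedModule p.primeCompl (LinearMap.ker φ)) := by
      rw [← Module.mem_support_iff (p := ⟨p, ‹_›⟩), Module.mem_support_iff_exists_annihilator]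
      obtain ⟨x, hx⟩ := hp.2
      refine ⟨x, ?_⟩
      show _ ≤ p
      rw [hx]
      intro r hr
      exact Ideal.le_radical (by simpa [Submodule.mem_colon_singleton, Submodule.mem_annihilator_span_singleton] using hr)
    obtain ⟨z, hz⟩ := exists_ne (0 : LocalizedModule p.primeCompl (LinearMap.ker φ))
    induction z using LocalizedModule.induction_on with
    | h x s =>
      apply hz
      have h2 : LocalizedModule.map p.primeCompl φ (LocalizedModule.mk (x : M) s) = 0 := by
        rw [LocalizedModule.map_mk, LinearMap.mem_ker.mp x.2, LocalizedModule.zero_mk]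
      rw [(map_eq_zero_iff _ h1).mp h2 |> fun h => (LocalizedModule.mk_eq.mpr (?_) : LocalizedModule.mk x s = LocalizedModule.mk 0 s)]
      · exact LocalizedModule.zero_mk s
      · obtain ⟨u, hu⟩ := LocalizedModule.mk_eq.mp ((map_eq_zero_iff _ h1).mp h2 |>.trans (LocalizedModule.zero_mk s).symm)
        exact ⟨u, Subtype.ext (by simpa using hu)⟩
  · exact h1 (associatedPrimes.subset_of_injective (f := (LinearMap.ker φ).subtype) (Submodule.injective_subtype _) hp)

end Groth.Agent.S6878
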