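import Groth.Statements.S6886
import Mathlib

set_option autoImplicit false
universe u
open TensorProduct
open CAlg

namespace Groth.Agent.S6886

/-- Let `R → S` be a finite ring map. One can find an extension `R ⊆ R'` of rings, with `R'` finite and
free as an `R`-module, for which the ring `S ⊗_R R'` arises as a quotient of `R'[T_1, …,
T_n]/(P_1(T_1), …, P_n(T_n))` with each `P_i(T) = ∏_j (T - α_{ij})` a product of linear factors over
`R'`. -/
theorem result (R S : Type u) [CommRing R] [CommRing S] [Algebra R S]
    [Module.Finite R S] :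
    ∃ (R' : Type u) (_ : CommRing R') (_ : Algebra R R'), Module.Finite R R' ∧ Module.Free R R' ∧
      Function.Injective (algebraMap R R') ∧
      ∃ (n : ℕ) (d : Fin n → ℕ) (α : (i : Fin n) → Fin (d i) → R')
        (φ : MvPolynomial (Fin n) R' →ₐ[R'] R' ⊗[R] S), Function.Surjective φ ∧
          ∀ i, φ (∏ j, (MvPolynomial.X i - MvPolynomial.C (α i j))) = 0 := by
  classical
  rcases subsingleton_or_nontrivial R with hR | hR
  · haveI : Subsingleton (R ⊗[R] S) := (TensorProduct.lid R S).toEquiv.subsingleton_congr.mpr
      (Module.subsingleton R S)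
    refine ⟨R, inferInstance, inferInstance, inferInstance, inferInstance, Function.injective_id, 0, fun i => i.elim0,
      fun i => i.elim0, MvPolynomial.aeval (fun i : Fin 0 => i.elim0), fun y => ⟨0, Subsingleton.elim _ _⟩, fun i => i.elim0⟩
  obtain ⟨n, g, hg⟩ := Module.Finite.exists_fin (R := R) (M := S)
  choose p hp hpg using fun i => Algebra.IsIntegral.isIntegral (R := R) (g i)
  let P : Polynomial R := ∏ i, p i
  have hP : P.Monic := Polynomial.monic_prod_of_monic _ _ fun i _ => hp i
  obtain ⟨R', _, _, hfin, hfree, _, hsplit⟩ := hP.exists_splits_map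
  obtain ⟨m, hm⟩ := Polynomial.splits_iff_exists_multiset.mp hsplit
  rw [(hP.map _).leadingCoeff, map_one, one_mul] at hm
  let φ : MvPolynomial (Fin n) R' →ₐ[R'] R' ⊗[R] S := MvPolynomial.aeval fun i => (1 : R') ⊗ₜ[R] g i
  refine ⟨R', inferInstance, inferInstance, hfin, hfree, FaithfulSMul.algebraMap_injective R R', n,
    fun _ => m.toList.length, fun _ j => m.toList.get j, φ, fun y => ?_, fun i => ?_⟩
  · induction y using TensorProduct.induction_on with
    | zero => exact ⟨0, map_zero φ⟩
    | add x y hx hy =>
      obtain ⟨a, rfl⟩ := hx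
      obtain ⟨b, rfl⟩ := hy
      exact ⟨a + b, map_add φ a b⟩
    | tmul r s =>
      obtain ⟨c, rfl⟩ := (Submodule.mem_span_range_iff_exists_fun R).mp (hg.ge (Submodule.mem_top (x := s)))
      refine ⟨∑ i, MvPolynomial.C (c i • r) * MvPolynomial.X i, ?_⟩
      simp only [map_sum, map_mul, φ, MvPolynomial.aeval_C, MvPolynomial.aeval_X, TensorProduct.tmul_sum]
      refine Finset.sum_congr rfl fun i _ => ?_
      rw [Algebra.TensorProduct.algebraMap_apply, Algebra.TensorProduct.tmul_mul_tmul, Algebra.algebraMap_self,
        RingHom.id_apply, mul_one, one_mul, TensorProduct.smul_tmul]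
  · have h1 : Polynomial.aeval (g i) P = 0 := by
      rw [map_prod]
      exact Finset.prod_eq_zero (Finset.mem_univ i) (hpg i)
    have h2 : Polynomial.aeval ((1 : R') ⊗ₜ[R] g i) P = 0 := by
      show Polynomial.aeval (Algebra.TensorProduct.includeRight (R := R) (A := R') (g i)) P = 0
      rw [Polynomial.aeval_algHom_apply, h1, map_zero]
    rw [← Polynomial.aeval_map_algebraMap R', hm, map_multiset_prod, Multiset.map_map] at h2
    rw [← Multiset.coe_toList m, Multiset.map_coe, Multiset.prod_coe, ← Fin.prod_univ_fun_getElem] at h2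
    rw [map_prod, ← h2]
    simp only [List.get_eq_getElem, map_sub, φ, MvPolynomial.aeval_X, MvPolynomial.aeval_C,
      Function.comp_apply, Polynomial.aeval_X, Polynomial.aeval_C]

end Groth.Agent.S6886
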