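import Groth.Statements.S6887
import Mathlib

set_option autoImplicit false
universe u
open Polynomial
open CAlg

namespace Groth.Agent.S6887
open Polynomial

/-- Let `(A, I)` be a Zariski pair (`I` inside the Jacobson radical) and `A → B` a finite ring map.
Suppose `B/IB ≅ B₁ × B₂` as `A`-algebras with `A → B₁` surjective, and `b ∈ B` maps to `(1, 0)`.
Then there is a monic `f ∈ A[x]` with `f(b) = 0` whose reduction modulo `I` is `(x - 1) x^d` for
some `d ≥ 1`. -/
theorem result (A B : Type u) [CommRing A] [CommRing B]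
    [Algebra A B] [Module.Finite A B] (I : Ideal A) (hI : I ≤ Ideal.jacobson (⊥ : Ideal A))
    (B₁ B₂ : Type u) [CommRing B₁] [CommRing B₂] [Algebra A B₁] [Algebra A B₂]
    (e : (B ⧸ I.map (algebraMap A B)) ≃ₐ[A] B₁ × B₂) (h₁ : Function.Surjective (algebraMap A B₁)) (b : B)
    (hb : e (Ideal.Quotient.mk (I.map (algebraMap A B)) b) = (1, 0)) :
    ∃ (f : A[X]) (d : ℕ), f.Monic ∧ Polynomial.aeval b f = 0 ∧ 1 ≤ d ∧
      f.map (Ideal.Quotient.mk I) = (X - 1) * X ^ d := by
  classical
  let J := I.map (algebraMap A B)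
  let π : B →ₐ[A] B₁ × B₂ := e.toAlgHom.comp (Ideal.Quotient.mkₐ A J)
  have hπ : Function.Surjective π := e.surjective.comp Ideal.Quotient.mk_surjective
  have hker : ∀ x : B, π x = 0 → x ∈ J := fun x hx =>
    Ideal.Quotient.eq_zero_iff_mem.1 (e.injective (hx.trans (map_zero _).symm))
  haveI : Module.Finite A (B₁ × B₂) := Module.Finite.of_surjective π.toLinearMap hπ
  haveI : Module.Finite A B₂ := Module.Finite.of_surjective (LinearMap.snd A B₁ B₂) Prod.snd_surjective
  obtain ⟨n, gB, hgB⟩ := Module.Finite.exists_fin' A B₂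
  choose lift hlift using hπ
  let g : Fin (n + 1) → B := Fin.cons b fun i => lift (0, gB (Pi.single i 1))
  have hb' : π b = (1, 0) := hb
  have hg : ∀ i, π (g i) = (Fin.cons ((1 : B₁), (0 : B₂)) (fun i => ((0 : B₁), gB (Pi.single i 1))) : Fin (n + 1) → B₁ × B₂) i := by
    intro i
    cases i using Fin.cases with
    | zero => simpa [g] using hb'
    | succ i => simp [g, hlift]
  let S : Submodule A B := Submodule.span A (Set.range g)
  have hmem : ∀ i, g i ∈ S := fun i => Submodule.subset_span ⟨i, rfl⟩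
  have htop : (⊤ : Submodule A B) ≤ S ⊔ I • ⊤ := fun x _ => by
    obtain ⟨a, ha⟩ := h₁ (π x).1
    obtain ⟨v, hv⟩ := hgB (π x).2
    let y : B := a • g 0 + ∑ i, v i • g i.succ
    have hy : π y = π x := by
      simp only [y, map_add, map_sum, map_smul, hg, Fin.cons_zero, Fin.cons_succ, Prod.smul_mk, smul_zero]
      have hsum : ∑ i, (0, v i • gB (Pi.single i 1)) = ((0 : B₁), gB v) := by
        refine Prod.ext (by simp [Prod.fst_sum]) ?_
        rw [Prod.snd_sum]
        simp only [← map_smul, ← map_sum]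
        congr 1
        ext j
        simp [Pi.single_apply]
      rw [hsum, Prod.mk_add_mk, add_zero, zero_add, hv, ← Algebra.algebraMap_eq_smul_one, ha]
    refine Submodule.mem_sup.2 ⟨y, add_mem (S.smul_mem _ (hmem 0)) (S.sum_mem fun i _ => S.smul_mem _ (hmem _)), x - y, ?_, by abel⟩
    rw [Ideal.smul_top_eq_map]
    exact hker _ (by rw [map_sub, hy, sub_self])
  have hS : S = ⊤ := top_unique (Submodule.le_of_le_smul_of_le_jacobson_bot Module.Finite.fg_top hI htop)
  let M₀ : Matrix (Fin (n + 1)) (Fin (n + 1)) A := Matrix.diagonal (Fin.cons 1 fun _ => 0)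
  have hM₀ : ∀ i j, M₀ i j = if i = j then (Fin.cons 1 (fun _ => 0) : Fin (n + 1) → A) i else 0 := fun i j =>
    Matrix.diagonal_apply ..
  have hres : ∀ i, b * g i - ∑ j, M₀ i j • g j ∈ J := fun i => by
    refine hker _ ?_
    rw [Finset.sum_eq_single i (fun j _ hj => by rw [hM₀, if_neg hj.symm, zero_smul]) (by simp),
      hM₀, if_pos rfl, map_sub, map_mul, map_smul, hb', hg]
    cases i using Fin.cases with
    | zero => simp
    | succ i => simp
  have hcoef : ∀ z ∈ J, ∃ c : Fin (n + 1) → A, (∀ j, c j ∈ I) ∧ ∑ j, c j • g j = z := fun z hz => by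
    have hz' : z ∈ (I • ⊤ : Submodule A B) := by rw [Ideal.smul_top_eq_map]; exact hz
    refine Submodule.smul_induction_on hz' (fun a ha y _ => ?_) ?_
    · obtain ⟨c, hc⟩ := (Submodule.mem_span_range_iff_exists_fun A).1 (hS ▸ Submodule.mem_top : y ∈ S)
      exact ⟨fun j => a * c j, fun j => I.mul_mem_right _ ha, by rw [← hc, Finset.smul_sum]; simp [mul_smul]⟩
    · rintro y y' ⟨c, hc, rfl⟩ ⟨c', hc', rfl⟩
      exact ⟨c + c', fun j => add_mem (hc j) (hc' j), by simp [add_smul, Finset.sum_add_distrib]⟩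
  choose c hc hcz using fun i => hcoef _ (hres i)
  let M : Matrix (Fin (n + 1)) (Fin (n + 1)) A := fun i j => M₀ i j + c i j
  let N : Matrix (Fin (n + 1)) (Fin (n + 1)) B := M.charmatrix.map (Polynomial.aeval b).toRingHom
  have hN : N.mulVec g = 0 := funext fun i => by
    show ∑ j, Polynomial.aeval b (M.charmatrix i j) * g j = 0
    have : ∀ j, Polynomial.aeval b (M.charmatrix i j) * g j = (if i = j then b * g j else 0) - (M₀ i j • g j + c i j • g j) := fun j => by
      rw [Matrix.charmatrix_apply, map_sub, sub_mul, ← add_smul, Algebra.smul_def, Polynomial.aeval_C]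
      congr 1
      rw [Matrix.diagonal_apply]
      split_ifs with h <;> simp
    rw [Finset.sum_congr rfl fun j _ => this j, Finset.sum_sub_distrib, Finset.sum_ite_eq, if_pos (Finset.mem_univ i),
      Finset.sum_add_distrib, hcz]
    ring
  have hdet : ∀ i, N.det * g i = 0 := fun i => by
    have h := congrArg (fun v => N.adjugate.mulVec v) hN
    simp only [Matrix.mulVec_mulVec, Matrix.adjugate_mul, Matrix.mulVec_zero, Matrix.smul_mulVec, Matrix.one_mulVec] at h
    exact congrFun h i
  have hdet0 : N.det = 0 := by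
    obtain ⟨c1, hc1⟩ := (Submodule.mem_span_range_iff_exists_fun A).1 (hS ▸ Submodule.mem_top : (1 : B) ∈ S)
    rw [← mul_one N.det, ← hc1, Finset.mul_sum]
    exact Finset.sum_eq_zero fun j _ => by rw [mul_smul_comm, hdet, smul_zero]
  refine ⟨Polynomial.X * M.charpoly, n + 1, Polynomial.monic_X.mul M.charpoly_monic, ?_, Nat.le_add_left 1 n, ?_⟩
  · rw [map_mul, Polynomial.aeval_X, show Polynomial.aeval b M.charpoly = N.det from RingHom.map_det _ _, hdet0, mul_zero]
  · have hmap : M.map (Ideal.Quotient.mk I) = Matrix.diagonal (Fin.cons 1 fun _ => 0) := by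
      ext i j
      simp only [M, Matrix.map_apply, map_add, Ideal.Quotient.eq_zero_iff_mem.2 (hc i j), add_zero, M₀, hM₀, Matrix.diagonal_apply]
      split_ifs with h
      · subst h; cases i using Fin.cases <;> simp
      · simp
    rw [Polynomial.map_mul, Polynomial.map_X, ← Matrix.charpoly_map, hmap, Matrix.charpoly_diagonal, Fin.prod_univ_succ]
    simp only [Fin.cons_zero, Fin.cons_succ, map_zero, sub_zero, map_one, Finset.prod_const, Finset.card_univ, Fintype.card_fin]
    ring

end Groth.Agent.S6887
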