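import Groth.Statements.S6888
import Mathlib

set_option autoImplicit false
universe u
open Polynomial
open CAlg

namespace Groth.Agent.S6888

/-- Let `A` be absolutely integrally closed (every monic polynomial over `A` is a product of linear
factors) and `I ⊆ A` an ideal contained in the Jacobson radical such that `A → A/I` is surjective
(hence bijective) on idempotents. Then `(A, I)` is a henselian pair. (The published statement also
records the converse, which holds for every henselian pair; this row states the sufficiency only.) -/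
theorem result (A : Type u) [CommRing A]
    (hA : ∀ f : A[X], f.Monic → ∃ s : Multiset A, f = (s.map fun a => X - C a).prod) (I : Ideal A)
    (hI : I ≤ Ideal.jacobson (⊥ : Ideal A))
    (hidem : ∀ e : A ⧸ I, IsIdempotentElem e → ∃ e' : A, IsIdempotentElem e' ∧ Ideal.Quotient.mk I e' = e) :
    HenselianRing A I := by
  classical
  refine ⟨hI, fun f hf a₀ ha₀ hu => ?_⟩
  obtain ⟨s, rfl⟩ := hA f hf
  obtain ⟨n, rt, hs⟩ : ∃ (n : ℕ) (rt : Fin n → A), s = Multiset.ofList (List.ofFn rt) :=
    ⟨s.toList.length, s.toList.get, by rw [List.ofFn_get, Multiset.coe_toList]⟩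
  have hf' : (s.map fun a => X - C a).prod = ∏ j, (X - C (rt j)) := by
    rw [hs, Multiset.map_coe, Multiset.prod_coe, List.map_ofFn, List.prod_ofFn]; rfl
  rw [hf'] at ha₀ hu ⊢
  let π := Ideal.Quotient.mk I
  set b : Fin n → A ⧸ I := fun j => π (a₀ - rt j) with hb
  have hb0 : ∏ j, b j = 0 := by
    rw [← map_prod, Ideal.Quotient.eq_zero_iff_mem]
    simpa [Polynomial.eval_prod] using ha₀
  have hder : π ((∏ j, (X - C (rt j))).derivative.eval a₀) = ∑ j, ∏ i ∈ Finset.univ.erase j, b i := by
    rw [Polynomial.derivative_prod_finset]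
    simp [Polynomial.eval_finsetSum, Polynomial.eval_prod, map_sum, map_prod, hb]
  obtain ⟨w, hw⟩ := hu
  rw [hder] at hw
  let e : Fin n → A ⧸ I := fun j => ↑w⁻¹ * ∏ i ∈ Finset.univ.erase j, b i
  have hsum : ∑ j, e j = 1 := by rw [← Finset.mul_sum, ← hw, Units.inv_mul]
  have hmul : ∀ j l, j ≠ l → e j * e l = 0 := by
    intro j l hjl
    have hj : j ∈ Finset.univ.erase l := Finset.mem_erase.mpr ⟨hjl, Finset.mem_univ j⟩
    simp only [e]
    rw [← Finset.mul_prod_erase _ _ hj]
    rw [show (↑w⁻¹ * ∏ i ∈ Finset.univ.erase j, b i) * (↑w⁻¹ * (b j * ∏ i ∈ (Finset.univ.erase l).erase j, b i)) =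
      ↑w⁻¹ * ↑w⁻¹ * (b j * ∏ i ∈ Finset.univ.erase j, b i) * ∏ i ∈ (Finset.univ.erase l).erase j, b i by ring,
      Finset.mul_prod_erase _ _ (Finset.mem_univ j), hb0]
    simp
  have hidm : ∀ j, IsIdempotentElem (e j) := fun j => by
    change e j * e j = e j
    conv_rhs => rw [← mul_one (e j), ← hsum, Finset.mul_sum, Finset.sum_eq_single j (fun l _ hl => hmul j l (Ne.symm hl)) (by simp)]
  choose E hE hEe using fun j => hidem (e j) (hidm j)
  have hzero : ∀ g : A, IsIdempotentElem g → π g = 0 → g = 0 := by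
    intro g hg hg0
    have h1 : IsUnit (1 - g) := by
      have := Ideal.mem_jacobson_bot.mp (hI (Ideal.Quotient.eq_zero_iff_mem.mp hg0)) (-1)
      rwa [mul_neg, mul_one, neg_add_eq_sub] at this
    refine h1.mul_left_eq_zero.mp ?_
    rw [mul_sub, mul_one, hg.eq, sub_self]
  have hEmul : ∀ j l, j ≠ l → E j * E l = 0 := fun j l hjl =>
    hzero _ ((hE j).mul (hE l)) (by rw [map_mul, hEe, hEe, hmul j l hjl])
  have hEsum : ∑ j, E j = 1 := by
    have hi : IsIdempotentElem (1 - ∑ j, E j) := by
      have : (∑ j, E j) * (∑ j, E j) = ∑ j, E j := by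
        rw [Finset.sum_mul]
        refine Finset.sum_congr rfl fun j _ => ?_
        rw [Finset.mul_sum, Finset.sum_eq_single j (fun l _ hl => hEmul j l (Ne.symm hl)) (by simp)]
        exact (hE j).eq
      change (1 - _) * (1 - _) = _
      linear_combination this
    have := hzero _ hi (by rw [map_sub, map_one, map_sum]; simp only [hEe, hsum, sub_self, π])
    exact (sub_eq_zero.mp this).symm
  have hEj : ∀ j (g : A), E j * (∏ i, (g - rt i)) = E j * (g - rt j) * ∏ i ∈ Finset.univ.erase j, (g - rt i) := fun j g => by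
    rw [← Finset.mul_prod_erase _ _ (Finset.mem_univ j), mul_assoc]
  refine ⟨∑ j, E j * rt j, ?_, ?_⟩
  · rw [Polynomial.IsRoot, Polynomial.eval_prod]
    simp only [Polynomial.eval_sub, Polynomial.eval_X, Polynomial.eval_C]
    rw [← one_mul (∏ i, _), ← hEsum, Finset.sum_mul]
    refine Finset.sum_eq_zero fun j _ => ?_
    rw [hEj]
    have : E j * (∑ l, E l * rt l - rt j) = 0 := by
      rw [mul_sub, Finset.mul_sum, Finset.sum_eq_single j (fun l _ hl => by rw [← mul_assoc, hEmul j l (Ne.symm hl), zero_mul]) (by simp),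
        ← mul_assoc, (hE j).eq, sub_self]
    rw [this, zero_mul]
  · rw [← Ideal.Quotient.eq_zero_iff_mem, map_sub, map_sum]
    have h1 : π a₀ = ∑ j, e j * π a₀ := by rw [← Finset.sum_mul, hsum, one_mul]
    simp only [map_mul]
    rw [show ∑ j, Ideal.Quotient.mk I (E j) * Ideal.Quotient.mk I (rt j) = ∑ j, e j * π (rt j) from
      Finset.sum_congr rfl fun j _ => by rw [hEe]]
    change _ - π a₀ = 0
    rw [h1, ← Finset.sum_sub_distrib]
    refine Finset.sum_eq_zero fun j _ => ?_
    rw [← mul_sub, ← map_sub, show rt j - a₀ = -(a₀ - rt j) by ring, map_neg, mul_neg, neg_eq_zero]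
    change ↑w⁻¹ * (∏ i ∈ Finset.univ.erase j, b i) * b j = 0
    rw [mul_assoc, Finset.prod_erase_mul _ _ (Finset.mem_univ j), hb0, mul_zero]

end Groth.Agent.S6888
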