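import Groth.Statements.S6891
import Groth.Agent.FittLib.BaseChange
import Groth.Agent.FittLib.Minor

set_option autoImplicit false
universe u
open Fitt

namespace Groth.Agent.S6891
open Groth.Agent.FittLib
open scoped TensorProduct

/-- Let `M` be a finite `R`-module. Then `Fit_0(M) ⊆ Ann_R(M)`, the closed set `V(Fit_0(M))` equals
`Supp(M)`, and for an ideal `I` one has `Fit_0(R/I) = I`. -/
theorem result {R : Type u} [CommRing R] (M : Type u) [AddCommGroup M]
    [Module R M] [Module.Finite R M] (I : Ideal R) :
    Fitt.ideal R M 0 ≤ Module.annihilator R M ∧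
    PrimeSpectrum.zeroLocus (Fitt.ideal R M 0 : Set R) = Module.support R M ∧
    Fitt.ideal R (R ⧸ I) 0 = I := by
  classical
  refine ⟨ideal_zero_le_annihilator, ?_, le_antisymm ?_ fun i hi ↦ ?_⟩
  · ext p
    rw [PrimeSpectrum.mem_zeroLocus, SetLike.coe_subset_coe,
      Module.mem_support_iff_nontrivial_residueField_tensorProduct,
      ← not_iff_not, not_le_iff_finrank 0 p.asIdeal, Nat.le_zero]
    rw [Module.finrank_eq_zero_iff_of_free (R := p.asIdeal.ResidueField),
      not_nontrivial_iff_subsingleton]
  · refine ideal_zero_le_annihilator.trans ?_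
    rw [Ideal.annihilator_quotient]
  · let x : Fin 1 → R ⧸ I := fun _ ↦ Submodule.Quotient.mk 1
    have hx : Submodule.span R (Set.range x) = ⊤ := by
      refine eq_top_iff.2 fun y _ ↦ ?_
      obtain ⟨r, rfl⟩ := Submodule.Quotient.mk_surjective _ y
      refine (Submodule.mem_span_range_iff_exists_fun R).2 ⟨fun _ ↦ r, ?_⟩
      rw [Fin.sum_univ_one, ← Submodule.Quotient.mk_smul, smul_eq_mul, mul_one]
    rw [ideal_eq_D x hx]
    have := det_mem_D (R := R) (k := 0) (x := x) (a := Matrix.of fun _ _ ↦ i) Finset.univ (by simp)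
      (fun _ _ ↦ mem_rel.2 (by
        rw [Fin.sum_univ_one, Matrix.of_apply, ← Submodule.Quotient.mk_smul, smul_eq_mul, mul_one,
          Submodule.Quotient.mk_eq_zero]
        exact hi))
    simpa using this

end Groth.Agent.S6891
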