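import Groth.Statements.S6893
import Groth.Agent.CAlgBasics.FlatMod

set_option autoImplicit false
universe u
open TensorProduct
open CAlg

namespace Groth.Agent.S6893

/-- Let `M` be a module over a ring `R` and `I₁, I₂ ⊆ R` ideals. Suppose flatness of `M/I₁M` as an
`R/I₁`-module holds, and likewise `M/I₂M` is a flat `R/I₂`-module; then the quotient `M/(I₁ ∩ I₂)M`
is also flat as a module over `R/(I₁ ∩ I₂)`. -/
theorem result {R : Type u} [CommRing R] (M : Type u) [AddCommGroup M] [Module R M]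
    (I₁ I₂ : Ideal R) [Module.Flat (R ⧸ I₁) ((R ⧸ I₁) ⊗[R] M)] [Module.Flat (R ⧸ I₂) ((R ⧸ I₂) ⊗[R] M)] :
    Module.Flat (R ⧸ (I₁ ⊓ I₂)) ((R ⧸ (I₁ ⊓ I₂)) ⊗[R] M) := by
  apply Groth.Agent.CAlgBasics.flat_baseChange_of_rTensor_injective
  intro J
  let p₁ : (R ⧸ (I₁ ⊓ I₂)) →ₗ[R] (R ⧸ I₁) := (Ideal.Quotient.factorₐ R (show I₁ ⊓ I₂ ≤ I₁ from inf_le_left)).toLinearMap
  let p₂ : (R ⧸ (I₁ ⊓ I₂)) →ₗ[R] (R ⧸ I₂) := (Ideal.Quotient.factorₐ R (show I₁ ⊓ I₂ ≤ I₂ from inf_le_right)).toLinearMap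
  have hideal : ∀ (I : Ideal R) (A : Submodule R (R ⧸ I)), Module.Flat (R ⧸ I) ((R ⧸ I) ⊗[R] M) → Function.Injective (A.subtype.rTensor M) := by
    intro I A hI
    let A' : Ideal (R ⧸ I) :=
      { A.toAddSubmonoid with
        smul_mem' := fun c x hx => by
          obtain ⟨r, rfl⟩ := Ideal.Quotient.mk_surjective c
          exact A.smul_mem r hx }
    exact Groth.Agent.CAlgBasics.rTensor_injective_of_flat_baseChange (R ⧸ I) M A'.subtype A'.injective_subtype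
  refine Groth.Agent.CAlgBasics.rTensor_injective_aux (J.restrictScalars R) p₁ p₂ (hideal I₁ _ inferInstance) (hideal I₂ _ inferInstance) ?_
  intro x h1 h2
  obtain ⟨r, rfl⟩ := Ideal.Quotient.mk_surjective x
  exact Ideal.Quotient.eq_zero_iff_mem.mpr ⟨Ideal.Quotient.eq_zero_iff_mem.mp h1, Ideal.Quotient.eq_zero_iff_mem.mp h2⟩

end Groth.Agent.S6893
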