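import Groth.Statements.S6897
import Groth.Agent.FittLib.Principal

set_option autoImplicit false
universe u
open CategoryTheory
open Fitt

namespace Groth.Agent.S6897
open Groth.Agent.FittLib

/-- Let `M` be a finitely presented `R`-module and `k ≥ 0` such that `Fit_k(M) = (f)` for a
nonzerodivisor `f` and `Fit_{k-1}(M) = 0` (no condition when `k = 0`). Let `M' = Ker(f : M → M)`.
Then: the projective dimension of `M` is at most `1`; `M'` coincides with the `f`-power torsion of
`M` and its projective dimension is at most `1`; every prime of `R` has a basic open neighbourhood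
over which `M/M'` is free of rank `k`; and `M ≅ M/M' ⊕ M'` (existence of an isomorphism). -/
theorem result {R : Type u} [CommRing R] (M : Type u)
    [AddCommGroup M] [Module R M] [Module.FinitePresentation R M] (k : ℕ) (f : R) (hf0 : f ∈ nonZeroDivisors R)
    (hf : Fitt.ideal R M k = Ideal.span {f}) (hk : k = 0 ∨ Fitt.ideal R M (k - 1) = ⊥) :
    HasProjectiveDimensionLT (ModuleCat.of R M) 2 ∧
    (∀ x : M, (∃ n : ℕ, f ^ n • x = 0) ↔ f • x = 0) ∧
    HasProjectiveDimensionLT (ModuleCat.of R ↥(LinearMap.ker (f • (LinearMap.id : M →ₗ[R] M)))) 2 ∧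
    (∀ (p : Ideal R) [p.IsPrime], ∃ g : R, g ∉ p ∧
      Module.Free (Localization.Away g)
          (LocalizedModule (Submonoid.powers g) (M ⧸ LinearMap.ker (f • (LinearMap.id : M →ₗ[R] M)))) ∧
        Module.finrank (Localization.Away g)
          (LocalizedModule (Submonoid.powers g) (M ⧸ LinearMap.ker (f • (LinearMap.id : M →ₗ[R] M)))) = k) ∧
    Nonempty (M ≃ₗ[R] (M ⧸ LinearMap.ker (f • (LinearMap.id : M →ₗ[R] M))) ×
      ↥(LinearMap.ker (f • (LinearMap.id : M →ₗ[R] M)))) := by
  classical
  obtain ⟨n₀, x₀, hx₀⟩ := Module.Finite.exists_fin (R := R) (M := M)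
  let x : Fin (n₀ + k) → M := Fin.append x₀ 0
  have hx : Submodule.span R (Set.range x) = ⊤ := top_le_iff.1 (hx₀ ▸ Submodule.span_mono (by
    rintro _ ⟨i, rfl⟩
    exact ⟨Fin.castAdd k i, by simp [x]⟩))
  have hkn : k ≤ n₀ + k := Nat.le_add_left k n₀
  rw [ideal_eq_D x hx] at hf
  have hk' : k = 0 ∨ D R x (k - 1) = ⊥ := hk.imp id fun h ↦ by rwa [ideal_eq_D x hx] at h
  set K := LinearMap.ker (f • (LinearMap.id : M →ₗ[R] M))
  have hloc := exists_bijective_quot hx hf0 hf hk' hkn
  have hproj : Module.Projective R (M ⧸ K) := by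
    refine projective_of_local_free fun p ↦ ?_
    obtain ⟨t, ψ, ht, hb⟩ := hloc p
    exact ⟨t, k, ψ, ht, hb⟩
  obtain ⟨σ, hσ⟩ := Module.projective_lifting_property (K.mkQ : M →ₗ[R] M ⧸ K) LinearMap.id
    (Submodule.mkQ_surjective _)
  let e : M ≃ₗ[R] (M ⧸ K) × K :=
    ((((LinearMap.exact_subtype_mkQ K).splitSurjectiveEquiv Subtype.val_injective) ⟨σ, hσ⟩).1).trans
      (LinearEquiv.prodComm R _ _)
  have htors : ∀ q : M ⧸ K, f • q = 0 → q = 0 := fun q hq ↦ by
    have : IsSMulRegular (M ⧸ K) f :=
      Module.Flat.isSMulRegular_of_isRegular (isRegular_iff_mem_nonZeroDivisors.2 hf0)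
    exact this (by simpa using hq)
  have hker : ∀ m : M, f • (f • m) = 0 → f • m = 0 := fun m hm ↦ by
    have h1 : f • m ∈ K := hm
    have h2 := htors (Submodule.Quotient.mk m) (by
      rw [← Submodule.Quotient.mk_smul]; exact (Submodule.Quotient.mk_eq_zero _).2 h1)
    exact (Submodule.Quotient.mk_eq_zero _).1 h2
  have hRel : (Rel (R := R) x).FG := Module.FinitePresentation.fg_ker _ (by
    rw [← LinearMap.range_eq_top, Fintype.range_linearCombination, hx])
  have : Module.Finite R (Rel (R := R) x) := Module.Finite.iff_fg.2 hRel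
  have : Module.Projective R (Rel (R := R) x) := projective_rel hf0 hf hk'
  have hpd : CategoryTheory.HasProjectiveDimensionLT (ModuleCat.of R M) 2 := by
    have hs : Function.Surjective (Fintype.linearCombination R x) := by
      rw [← LinearMap.range_eq_top, Fintype.range_linearCombination, hx]
    let S : CategoryTheory.ShortComplex (ModuleCat.{u} R) := CategoryTheory.ShortComplex.mk
      (ModuleCat.ofHom (Rel (R := R) x).subtype) (ModuleCat.ofHom (Fintype.linearCombination R x))
      (ModuleCat.hom_ext (LinearMap.ext fun v ↦ v.2))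
    have hS : S.ShortExact :=
      { exact := (CategoryTheory.ShortComplex.moduleCat_exact_iff S).2 fun v hv ↦ ⟨⟨v, hv⟩, rfl⟩
        mono_f := (ModuleCat.mono_iff_injective _).2 Subtype.val_injective
        epi_g := (ModuleCat.epi_iff_surjective _).2 hs }
    have h2 : CategoryTheory.Projective S.X₂ :=
      ModuleCat.projective_of_categoryTheory_projective _
    have h1 : CategoryTheory.Projective S.X₁ :=
      ModuleCat.projective_of_categoryTheory_projective _
    exact (hS.hasProjectiveDimensionLT_X₃_iff 0 h2).2 inferInstance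
  refine ⟨hpd, fun m ↦ ⟨fun ⟨l, hl⟩ ↦ ?_, fun h ↦ ⟨1, by rwa [pow_one]⟩⟩, ?_, fun p hp ↦ ?_, ⟨e⟩⟩
  · have key : ∀ (l : ℕ) (m : M), f ^ l • m = 0 → f • m = 0 := by
      intro l
      induction l with
      | zero => intro m hm; rw [pow_zero, one_smul] at hm; rw [hm, smul_zero]
      | succ l ih => exact fun m hm ↦ hker m (ih (f • m) (by rwa [← mul_smul, ← pow_succ]))
    exact key l m hl
  · let r : CategoryTheory.Retract (ModuleCat.of R K) (ModuleCat.of R M) :=
      { i := ModuleCat.ofHom (e.symm.toLinearMap ∘ₗ LinearMap.inr R (M ⧸ K) K)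
        r := ModuleCat.ofHom (LinearMap.snd R (M ⧸ K) K ∘ₗ e.toLinearMap)
        retract := ModuleCat.hom_ext (LinearMap.ext fun q ↦ by simp) }
    exact r.hasProjectiveDimensionLT 2
  · obtain ⟨t, ψ, ht, hb⟩ := hloc ⟨p, hp⟩
    let b := (IsLocalizedModule.mapEquiv (Submonoid.powers t)
      (LocalizedModule.mkLinearMap (Submonoid.powers t) (Fin k → R))
      (LocalizedModule.mkLinearMap (Submonoid.powers t) (Fin k → R))
      (Localization.Away t) (LinearEquiv.refl R _)).trans (LinearEquiv.ofBijective _ hb)
    have : Module.Free (Localization.Away t)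
        (LocalizedModule (Submonoid.powers t) (Fin k → R)) :=
      Module.free_of_isLocalizedModule (Submonoid.powers t)
        (LocalizedModule.mkLinearMap (Submonoid.powers t) (Fin k → R))
    have : Nontrivial (Localization.Away t) := not_subsingleton_iff_nontrivial.1 fun hs ↦ by
      obtain ⟨l, hl⟩ := (IsLocalization.subsingleton_iff (M := Submonoid.powers t)).1 hs
      exact ht (hp.mem_of_pow_mem l (by rw [show t ^ l = 0 from hl]; exact p.zero_mem))
    have : Nontrivial R := (algebraMap R (Localization.Away t)).domain_nontrivial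
    refine ⟨t, ht, Module.Free.of_equiv b, ?_⟩
    rw [← b.finrank_eq, Module.finrank_of_isLocalizedModule_of_free (Localization.Away t)
      (Submonoid.powers t) (LocalizedModule.mkLinearMap (Submonoid.powers t) (Fin k → R)),
      Module.finrank_fin_fun]

end Groth.Agent.S6897
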