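import Groth.Statements.S6898
import Mathlib

set_option autoImplicit false
universe u
open TensorProduct
open CAlg

namespace Groth.Agent.S6898
open scoped TensorProduct

/-- Let `(A, 𝔪)` be a local ring and `u : M → N` a linear map between flat `A`-modules whose reduction
`M/𝔪M → N/𝔪N` is injective. If `I` is the content ideal of some `x ∈ M` (the least ideal `I` with `x
∈ IM`), then `I` is also the least ideal `J` with `u(x) ∈ J·N`. -/
theorem result {A : Type u} [CommRing A] [IsLocalRing A] {M N : Type u}
    [AddCommGroup M] [Module A M] [Module.Flat A M] [AddCommGroup N] [Module A N] [Module.Flat A N] (u : M →ₗ[A] N)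
    (hu : Function.Injective (u.baseChange (IsLocalRing.ResidueField A))) (x : M) (I : Ideal A)
    (hx : IsLeast {J : Ideal A | x ∈ J • (⊤ : Submodule A M)} I) :
    IsLeast {J : Ideal A | u x ∈ J • (⊤ : Submodule A N)} I := by
  classical
  set m := IsLocalRing.maximalIdeal A with hm
  let k := IsLocalRing.ResidueField A
  obtain ⟨hxI, hmin⟩ := hx
  refine ⟨(Submodule.map_smul'' I ⊤ u).trans_le (smul_mono_right I le_top) (Submodule.mem_map_of_mem hxI), fun J hJ => ?_⟩
  -- the content is finitely generated
  obtain ⟨I₀, hI₀, hI₀le, hx₀⟩ : ∃ I₀ : Ideal A, I₀.FG ∧ I₀ ≤ I ∧ x ∈ I₀ • (⊤ : Submodule A M) := by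
    refine Submodule.smul_induction_on hxI (fun r hr y _ => ⟨Ideal.span {r}, Submodule.fg_span_singleton r, (Ideal.span_singleton_le_iff_mem I).mpr hr,
      Submodule.smul_mem_smul (Ideal.mem_span_singleton_self r) trivial⟩) ?_
    rintro y z ⟨A₁, h₁, h₁', hy⟩ ⟨A₂, h₂, h₂', hz⟩
    exact ⟨A₁ ⊔ A₂, Submodule.FG.sup h₁ h₂, sup_le h₁' h₂', add_mem (Submodule.smul_mono le_sup_left le_rfl hy) (Submodule.smul_mono le_sup_right le_rfl hz)⟩
  have hIfg : I.FG := le_antisymm hI₀le (hmin hx₀) ▸ hI₀
  have key : ∀ (I' L : Ideal A), L ≤ I' → m * I' ≤ L → x ∈ I' • (⊤ : Submodule A M) → u x ∈ L • (⊤ : Submodule A N) → x ∈ L • (⊤ : Submodule A M) := by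
    intro I' L hLI hmL hxI' huL
    let Q := I' ⧸ (Submodule.comap I'.subtype L)
    have htor : Module.IsTorsionBySet A Q m := by
      rintro z ⟨r, hr⟩
      obtain ⟨z, rfl⟩ := Submodule.Quotient.mk_surjective _ z
      exact (Submodule.Quotient.mk_eq_zero _).mpr (hmL (Ideal.mul_mem_mul hr z.2))
    letI : Module k Q := htor.module
    haveI : IsScalarTower A k Q := ⟨fun a b z => by
      obtain ⟨b, rfl⟩ := IsLocalRing.residue_surjective b
      show (a • b) • z = a • (b • z)
      rw [smul_assoc]⟩
    have hQu : Function.Injective (u.lTensor Q) := by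
      have h1 : Function.Injective ((u.baseChange k).lTensor Q) := Module.Flat.lTensor_preserves_injective_linearMap _ hu
      have hcomm : (u.lTensor Q) ∘ (TensorProduct.AlgebraTensorModule.cancelBaseChange A k k Q M) =
          (TensorProduct.AlgebraTensorModule.cancelBaseChange A k k Q N) ∘ ((u.baseChange k).lTensor Q) := by
        funext t
        simp only [Function.comp_apply]
        induction t using TensorProduct.induction_on with
        | zero => simp
        | tmul q y =>
          induction y using TensorProduct.induction_on with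
          | zero => simp
          | tmul c y => simp
          | add y z hy hz => simp only [TensorProduct.tmul_add, map_add, hy, hz]
        | add y z hy hz => simp only [map_add, hy, hz]
      have h2 : Function.Injective ((u.lTensor Q) ∘ (TensorProduct.AlgebraTensorModule.cancelBaseChange A k k Q M)) := by
        rw [hcomm]; exact (LinearEquiv.injective _).comp h1
      exact (Function.Injective.of_comp_iff' _ (LinearEquiv.bijective _)).mp h2
    -- write elements of `I' • M` as tensors
    have hrep : ∀ (X : Type u) [AddCommGroup X] [Module A X] (K : Ideal A) (z : X), z ∈ K • (⊤ : Submodule A X) →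
        ∃ t : K ⊗[A] X, TensorProduct.lid A X (K.subtype.rTensor X t) = z := fun X _ _ K z hz =>
      Submodule.smul_induction_on hz (fun r hr y _ => ⟨⟨r, hr⟩ ⊗ₜ y, by simp⟩)
        (fun a b ⟨s, hs⟩ ⟨t, ht⟩ => ⟨s + t, by rw [map_add, map_add, hs, ht]⟩)
    obtain ⟨ξ, hξ⟩ := hrep M I' x hxI'
    obtain ⟨η, hη⟩ := hrep N L (u x) huL
    let π : I' →ₗ[A] Q := Submodule.mkQ _
    have hzero : π.rTensor M ξ = 0 := by
      refine hQu ?_
      rw [map_zero, ← LinearMap.comp_apply, LinearMap.lTensor_comp_rTensor, ← LinearMap.rTensor_comp_lTensor, LinearMap.comp_apply]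
      have heq : u.lTensor I' ξ = (Submodule.inclusion hLI).rTensor N η := by
        apply Module.Flat.rTensor_preserves_injective_linearMap (M := N) I'.subtype Subtype.val_injective
        apply (TensorProduct.lid A N).injective
        rw [← LinearMap.rTensor_comp_apply, show I'.subtype ∘ₗ Submodule.inclusion hLI = L.subtype from rfl, hη, ← hξ]
        clear hξ hη
        induction ξ using TensorProduct.induction_on with
        | zero => simp
        | tmul a b => simp
        | add a b ha hb => simp only [map_add, ha, hb]
      rw [heq, ← LinearMap.rTensor_comp_apply, show π ∘ₗ Submodule.inclusion hLI = 0 from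
        LinearMap.ext fun z => (Submodule.Quotient.mk_eq_zero _).mpr z.2, LinearMap.rTensor_zero, LinearMap.zero_apply]
    obtain ⟨t, ht⟩ := (rTensor_exact M (LinearMap.exact_subtype_mkQ (Submodule.comap I'.subtype L)) (Submodule.mkQ_surjective _) _).mp hzero
    rw [← hξ, ← ht]
    clear ht
    induction t using TensorProduct.induction_on with
    | zero => simp
    | tmul a b => simpa using Submodule.smul_mem_smul (a.2 : ((a : I') : A) ∈ L) (Submodule.mem_top (x := b))
    | add a b ha hb => simp only [map_add]; exact add_mem ha hb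
  have hx' := key (I ⊔ J) (m * I ⊔ J) (sup_le_sup_right Ideal.mul_le_right J) ?_ (Submodule.smul_mono le_sup_left le_rfl hxI)
    (Submodule.smul_mono le_sup_right le_rfl hJ)
  · have hle : I ≤ J ⊔ m • I := (hmin hx').trans (by rw [sup_comm, smul_eq_mul])
    exact Submodule.le_of_le_smul_of_le_jacobson_bot hIfg (IsLocalRing.maximalIdeal_le_jacobson ⊥) hle
  · rw [Ideal.mul_sup]
    exact sup_le_sup_left Ideal.mul_le_right _
end Groth.Agent.S6898
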