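import Groth.Statements.S6900
import Groth.Agent.FerrandPush.MorProps
-- import your own Groth.Agent.* helpers here

set_option autoImplicit false
universe u
open TensorProduct
open EtAlg

namespace Groth.Agent.S6900

/-- Let `B' = B ×_A A'` be a fibre square of rings with `A' → A` surjective. Let `D` be a `B`-algebra
and `C'` an `A'`-algebra with a common base change `C = D ⊗_B A = C' ⊗_{A'} A`, and let `D' = D ×_C
C'` be the fibre product ring with its `B'`-algebra structure. Then `B' → D'` is of finite type
(resp. flat, resp. flat and of finite presentation, resp. smooth, resp. étale) if and only if `B →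
D` and `A' → C'` both are. -/
theorem result (B' B A' A : Type u) [CommRing B'] [CommRing B] [CommRing A'] [CommRing A]
    [Algebra B' B] [Algebra B' A'] [Algebra B A] [Algebra A' A] [Algebra B' A] [IsScalarTower B' B A] [IsScalarTower B' A' A]
    (hsq : EtMil.IsFibreSquare B' B A' A)
    (D' D C' C : Type u) [CommRing D'] [CommRing D] [CommRing C'] [CommRing C]
    [Algebra D' D] [Algebra D' C'] [Algebra D C] [Algebra C' C] [Algebra D' C] [IsScalarTower D' D C] [IsScalarTower D' C' C]
    (hsq' : EtMil.IsFibreSquare D' D C' C)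
    [Algebra B' D'] [Algebra B D] [Algebra A' C'] [Algebra A C]
    [Algebra B' D] [IsScalarTower B' B D] [IsScalarTower B' D' D]
    [Algebra B' C'] [IsScalarTower B' A' C'] [IsScalarTower B' D' C']
    [Algebra B C] [IsScalarTower B A C] [IsScalarTower B D C]
    [Algebra A' C] [IsScalarTower A' A C] [IsScalarTower A' C' C]
    [Algebra.IsPushout B D A C] [Algebra.IsPushout A' C' A C] :
    (Algebra.FiniteType B' D' ↔ Algebra.FiniteType B D ∧ Algebra.FiniteType A' C') ∧
    (Module.Flat B' D' ↔ Module.Flat B D ∧ Module.Flat A' C') ∧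
    (Module.Flat B' D' ∧ Algebra.FinitePresentation B' D' ↔
      (Module.Flat B D ∧ Algebra.FinitePresentation B D) ∧ (Module.Flat A' C' ∧ Algebra.FinitePresentation A' C')) ∧
    (Algebra.Smooth B' D' ↔ Algebra.Smooth B D ∧ Algebra.Smooth A' C') ∧
    (Algebra.Etale B' D' ↔ Algebra.Etale B D ∧ Algebra.Etale A' C') := by
  let E : Groth.Agent.FerrandPush.Cart B' B A' A :=
    { fst := algebraMap B' B
      snd := algebraMap B' A'
      p := algebraMap A' A
      q := algebraMap B A
      surj := hsq.1
      w := fun c => by rw [← IsScalarTower.algebraMap_apply, ← IsScalarTower.algebraMap_apply]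
      ext' := fun x y h1 h2 => Groth.Agent.MilnorLib.eq_of_maps_eq hsq h1 h2
      lift' := fun b a h => (hsq.2 b a h).exists }
  let E' : Groth.Agent.FerrandPush.Cart D' D C' C :=
    { fst := algebraMap D' D
      snd := algebraMap D' C'
      p := algebraMap C' C
      q := algebraMap D C
      surj := hsq'.1
      w := fun c => by rw [← IsScalarTower.algebraMap_apply, ← IsScalarTower.algebraMap_apply]
      ext' := fun x y h1 h2 => Groth.Agent.MilnorLib.eq_of_maps_eq hsq' h1 h2
      lift' := fun b a h => (hsq'.2 b a h).exists }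
  let m : Groth.Agent.FerrandPush.CartMor E E' :=
    { φ := algebraMap B' D'
      β := algebraMap B D
      σ := algebraMap A' C'
      τ := algebraMap A C
      wfst := RingHom.ext fun r => by
        show algebraMap D' D (algebraMap B' D' r) = algebraMap B D (algebraMap B' B r)
        rw [← IsScalarTower.algebraMap_apply B' D' D, ← IsScalarTower.algebraMap_apply B' B D]
      wsnd := RingHom.ext fun r => by
        show algebraMap D' C' (algebraMap B' D' r) = algebraMap A' C' (algebraMap B' A' r)
        rw [← IsScalarTower.algebraMap_apply B' D' C', ← IsScalarTower.algebraMap_apply B' A' C']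
      wp := RingHom.ext fun r => by
        show algebraMap C' C (algebraMap A' C' r) = algebraMap A C (algebraMap A' A r)
        rw [← IsScalarTower.algebraMap_apply A' C' C, ← IsScalarTower.algebraMap_apply A' A C]
      kerp := fun z hz => by
        let eC := Algebra.IsPushout.equiv A' C' A C
        have hz' : ((1 : C') ⊗ₜ[A'] (1 : A) : C' ⊗[A'] A) * (z ⊗ₜ[A'] (1 : A)) = 0 := eC.injective (by
          rw [map_mul, map_zero, Algebra.IsPushout.equiv_tmul, Algebra.IsPushout.equiv_tmul]
          simp [show algebraMap C' C z = 0 from RingHom.mem_ker.mp hz])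
        rw [Algebra.TensorProduct.tmul_mul_tmul, one_mul, one_mul] at hz'
        have h2 : (TensorProduct.comm A' C' A (z ⊗ₜ[A'] (1 : A))) = 0 := by rw [hz', map_zero]
        have h3 := Groth.Agent.MilnorLib.mem_ker_smul_of_one_tmul_eq_zero
          (B' := A') (B := A) hsq.1 (L := C') (l := z) h2
        rw [Ideal.smul_top_eq_map] at h3
        exact h3
      univ := fun {R} _ u v h => by
        letI : Algebra B R := (u.comp (algebraMap B D)).toAlgebra
        let uA : D →ₐ[B] R := { u with commutes' := fun r => rfl }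
        let vA : A →ₐ[B] R := { v with commutes' := fun r => (RingHom.congr_fun h r).symm }
        exact ⟨(Algebra.pushoutDesc C uA vA fun _ _ => mul_comm _ _).toRingHom,
          RingHom.ext fun x => Algebra.pushoutDesc_left C uA vA (fun _ _ => mul_comm _ _) x,
          RingHom.ext fun x => Algebra.pushoutDesc_right C uA vA (fun _ _ => mul_comm _ _) x⟩
      ext := fun {R} _ ξ ξ' h h' => by
        letI : Algebra B R := (ξ.comp (algebraMap B C)).toAlgebra
        let g : C →ₐ[B] R := { ξ with commutes' := fun r => rfl }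
        let g' : C →ₐ[B] R := { ξ' with
          commutes' := fun r => by
            show ξ' (algebraMap B C r) = ξ (algebraMap B C r)
            rw [IsScalarTower.algebraMap_apply B D C]
            exact (RingHom.congr_fun h (algebraMap B D r)).symm }
        have : g = g' := Algebra.IsPushout.algHom_ext (R := B) (S := D) (R' := A) (S' := C)
          (AlgHom.ext fun x => RingHom.congr_fun h' x) (AlgHom.ext fun x => RingHom.congr_fun h x)
        exact RingHom.ext fun x => AlgHom.congr_fun this x }
  obtain ⟨e₁⟩ := m.exists_equiv_fst rfl rfl rfl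
  obtain ⟨e₂⟩ := m.exists_equiv_snd rfl rfl rfl
  refine ⟨⟨fun h => ⟨Algebra.FiniteType.equiv inferInstance e₁, Algebra.FiniteType.equiv inferInstance e₂⟩, ?_⟩,
    ⟨fun h => ⟨Module.Flat.of_linearEquiv e₁.symm.toLinearEquiv, Module.Flat.of_linearEquiv e₂.symm.toLinearEquiv⟩, ?_⟩,
    ⟨fun ⟨h, h'⟩ => ⟨⟨Module.Flat.of_linearEquiv e₁.symm.toLinearEquiv, Algebra.FinitePresentation.equiv e₁⟩,
      ⟨Module.Flat.of_linearEquiv e₂.symm.toLinearEquiv, Algebra.FinitePresentation.equiv e₂⟩⟩, ?_⟩,
    ⟨fun h => ⟨Algebra.Smooth.of_equiv e₁, Algebra.Smooth.of_equiv e₂⟩, ?_⟩,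
    ⟨fun h => ⟨Algebra.Etale.of_equiv e₁, Algebra.Etale.of_equiv e₂⟩, ?_⟩⟩
  · rintro ⟨h, h'⟩
    haveI := Algebra.FiniteType.equiv h e₁.symm
    haveI := Algebra.FiniteType.equiv h' e₂.symm
    exact Groth.Agent.MilnorLib.finiteType hsq D'
  · rintro ⟨h, h'⟩
    haveI := Module.Flat.of_linearEquiv e₁.toLinearEquiv
    haveI := Module.Flat.of_linearEquiv e₂.toLinearEquiv
    exact Groth.Agent.MilnorLib.flat D' hsq
  · rintro ⟨⟨h, h1⟩, ⟨h', h1'⟩⟩
    haveI := Module.Flat.of_linearEquiv e₁.toLinearEquiv
    haveI := Module.Flat.of_linearEquiv e₂.toLinearEquiv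
    haveI := Algebra.FinitePresentation.equiv e₁.symm
    haveI := Algebra.FinitePresentation.equiv e₂.symm
    exact ⟨Groth.Agent.MilnorLib.flat D' hsq, Groth.Agent.MilnorLib.algebra_finitePresentation hsq D'⟩
  · rintro ⟨h, h'⟩
    haveI := Algebra.Smooth.of_equiv e₁.symm
    haveI := Algebra.Smooth.of_equiv e₂.symm
    exact Groth.Agent.MilnorLib.smooth hsq D'
  · rintro ⟨h, h'⟩
    haveI := Algebra.Etale.of_equiv e₁.symm
    haveI := Algebra.Etale.of_equiv e₂.symm
    exact Groth.Agent.MilnorLib.etale hsq D'

end Groth.Agent.S6900
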