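import Groth.Statements.S6909
import Mathlib


set_option autoImplicit false
universe u
open CAlg

namespace Groth.Agent.S6909

/-- A map that is zero modulo `I ^ k` sends `I ^ r` into `I ^ (r + k)`. -/
lemma map_mem_pow_add {A : Type*} [CommRing A] (I : Ideal A) {P Q : Type*} [AddCommGroup P] [Module A P]
    [AddCommGroup Q] [Module A Q] (h : P →ₗ[A] Q) {k r : ℕ}
    (hh : ∀ x, h x ∈ I ^ k • (⊤ : Submodule A Q)) {x : P} (hx : x ∈ I ^ r • (⊤ : Submodule A P)) :
    h x ∈ I ^ (r + k) • (⊤ : Submodule A Q) := by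
  have h1 : Submodule.map h (I ^ r • ⊤) ≤ I ^ (r + k) • (⊤ : Submodule A Q) := by
    rw [Submodule.map_smul'', pow_add, Submodule.mul_smul]
    exact Submodule.smul_mono le_rfl (by rintro _ ⟨y, -, rfl⟩; exact hh y)
  exact h1 (Submodule.mem_map_of_mem hx)


/-- Let `A` be a Noetherian ring, `I ⊆ A` an ideal inside the Jacobson radical, and `L → M → N` two
complexes `(f, g)` and `(f', g')` of finite `A`-modules with `f' ≡ f` modulo `I^{c+1}M` and `g' ≡ g`
modulo `I^{c+1}N`. If `c` works in the Artin–Rees lemma for `f` and for `g` (that is `f(L) ∩ IⁿM ⊆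
f(I^{n-c}L)` for `n ≥ c`, and likewise for `g`) and `(f, g)` is exact, then `c` works for `g'` and
`(f', g')` is exact. -/
theorem result {A : Type u} [CommRing A] [IsNoetherianRing A] (I : Ideal A)
    (hI : I ≤ Ideal.jacobson (⊥ : Ideal A)) {L M N : Type u} [AddCommGroup L] [Module A L] [Module.Finite A L]
    [AddCommGroup M] [Module A M] [Module.Finite A M] [AddCommGroup N] [Module A N] [Module.Finite A N]
    (f f' : L →ₗ[A] M) (g g' : M →ₗ[A] N) (c : ℕ) (hgf : g.comp f = 0) (hgf' : g'.comp f' = 0)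
    (hf : (∀ n : ℕ, c ≤ n → LinearMap.range f ⊓ (I ^ n • (⊤ : Submodule A M)) ≤ Submodule.map f (I ^ (n - c) • (⊤ : Submodule A L))))
    (hg : (∀ n : ℕ, c ≤ n → LinearMap.range g ⊓ (I ^ n • (⊤ : Submodule A N)) ≤ Submodule.map g (I ^ (n - c) • (⊤ : Submodule A M))))
    (hex : Function.Exact f g)
    (hff' : ∀ x : L, f x - f' x ∈ I ^ (c + 1) • (⊤ : Submodule A M))
    (hgg' : ∀ y : M, g y - g' y ∈ I ^ (c + 1) • (⊤ : Submodule A N)) :
    (∀ n : ℕ, c ≤ n → LinearMap.range g' ⊓ (I ^ n • (⊤ : Submodule A N)) ≤ Submodule.map g' (I ^ (n - c) • (⊤ : Submodule A M))) ∧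
    Function.Exact f' g' := by
  have hgf'' : ∀ x, g' (f' x) = 0 := fun x => LinearMap.congr_fun hgf' x
  -- the basic estimate
  have key : ∀ (n : ℕ) (a : M), g' a ∈ I ^ n • (⊤ : Submodule A N) → ∀ r, r + c ≤ n →
      ∃ b ∈ I ^ r • (⊤ : Submodule A M), ∃ x, a = b + f' x := by
    intro n a ha r
    induction r with
    | zero => intro _; exact ⟨a, by simp, 0, by simp⟩
    | succ r ih =>
      intro hr
      obtain ⟨b, hb, x, rfl⟩ := ih (by omega)
      rw [map_add, hgf'' x, add_zero] at ha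
      have h1 : g b ∈ I ^ (r + 1 + c) • (⊤ : Submodule A N) := by
        have h2 : (g - g') b ∈ I ^ (r + (c + 1)) • (⊤ : Submodule A N) :=
          map_mem_pow_add I (g - g') hgg' hb
        rw [show r + (c + 1) = r + 1 + c by omega] at h2
        have h3 : g' b ∈ I ^ (r + 1 + c) • (⊤ : Submodule A N) :=
          Submodule.smul_mono_left (Ideal.pow_le_pow_right (by omega)) ha
        simpa using add_mem h2 h3
      obtain ⟨b', hb', hgb⟩ := hg (r + 1 + c) (by omega) ⟨LinearMap.mem_range_self g b, h1⟩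
      rw [Nat.add_sub_cancel] at hb'
      obtain ⟨z, hz⟩ := (hex (b - b')).1 (by rw [map_sub, hgb, sub_self])
      have hzI : f z ∈ I ^ r • (⊤ : Submodule A M) := by
        rw [hz]; exact sub_mem hb (Submodule.smul_mono_left (Ideal.pow_le_pow_right (by omega)) hb')
      obtain ⟨z', hz', hz''⟩ : ∃ z', f z' = f z ∧ (f - f') z' ∈ I ^ (r + 1) • (⊤ : Submodule A M) := by
        rcases le_or_gt c r with h | h
        · obtain ⟨z', hz', hf'⟩ := hf r h ⟨LinearMap.mem_range_self f z, hzI⟩
          refine ⟨z', hf', ?_⟩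
          have := map_mem_pow_add I (f - f') hff' hz'
          rwa [show r - c + (c + 1) = r + 1 by omega] at this
        · exact ⟨z, rfl, Submodule.smul_mono_left (Ideal.pow_le_pow_right (by omega)) (hff' z)⟩
      refine ⟨b' + (f - f') z', add_mem hb' hz'', x + z', ?_⟩
      rw [LinearMap.sub_apply, map_add, hz', hz]
      abel
  refine ⟨?_, fun a => ⟨fun ha => ?_, ?_⟩⟩
  · rintro n hn _ ⟨⟨a, rfl⟩, ha⟩
    obtain ⟨b, hb, x, rfl⟩ := key n a ha (n - c) (by omega)
    exact ⟨b, hb, by rw [map_add, hgf'' x, add_zero]⟩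
  · have h : ∀ r, (Submodule.mkQ (LinearMap.range f')) a ∈
        I ^ r • (⊤ : Submodule A (M ⧸ LinearMap.range f')) := by
      intro r
      obtain ⟨b, hb, x, rfl⟩ := key (r + c) a (by rw [ha]; exact zero_mem _) r le_rfl
      have e : Submodule.mkQ (LinearMap.range f') (f' x) = 0 :=
        (Submodule.Quotient.mk_eq_zero _).2 (LinearMap.mem_range_self f' x)
      rw [map_add, e, add_zero]
      have := Submodule.mem_map_of_mem (f := Submodule.mkQ (LinearMap.range f')) hb
      rw [Submodule.map_smul''] at this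
      exact Submodule.smul_mono le_rfl le_top this
    have h0 := (Submodule.mem_iInf fun i => I ^ i • (⊤ : Submodule A (M ⧸ LinearMap.range f'))).2 h
    rw [Ideal.iInf_pow_smul_eq_bot_of_le_jacobson I hI, Submodule.mem_bot] at h0
    exact (Submodule.Quotient.mk_eq_zero _).1 h0
  · rintro ⟨x, rfl⟩
    exact hgf'' x

end Groth.Agent.S6909
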