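import Groth.Statements.S6911
import Mathlib

set_option autoImplicit false
universe u
open TensorProduct
open CAlg

namespace Groth.Agent.S6911
open scoped TensorProduct

/-- Let `A → B` be a flat map of Noetherian rings, `I ⊆ A` an ideal and `f : M → N` a map of finite
`A`-modules such that `c` works for `f` in the Artin–Rees lemma (`f(M) ∩ IⁿN ⊆ f(I^{n-c}M)` for `n ≥
c`). Then `c` works for `f ⊗ 1 : M ⊗_A B → N ⊗_A B` and the ideal `IB`. -/
theorem result {A B : Type u} [CommRing A] [IsNoetherianRing A] [CommRing B]
    [IsNoetherianRing B] [Algebra A B] [Module.Flat A B] (I : Ideal A) {M N : Type u} [AddCommGroup M] [Module A M]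
    [Module.Finite A M] [AddCommGroup N] [Module A N] [Module.Finite A N] (f : M →ₗ[A] N) (c : ℕ)
    (hf : (∀ n : ℕ, c ≤ n → LinearMap.range f ⊓ (I ^ n • (⊤ : Submodule A N)) ≤ Submodule.map f (I ^ (n - c) • (⊤ : Submodule A M)))) :
    ∀ n : ℕ, c ≤ n →
      LinearMap.range (f.baseChange B) ⊓ ((I.map (algebraMap A B)) ^ n • (⊤ : Submodule B (B ⊗[A] N))) ≤
        Submodule.map (f.baseChange B) ((I.map (algebraMap A B)) ^ (n - c) • (⊤ : Submodule B (B ⊗[A] M))) := by
  intro n hn
  rintro x ⟨⟨z, rfl⟩, hz⟩
  let P : Submodule A N := I ^ n • ⊤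
  let q := P.mkQ ∘ₗ f
  have hK : LinearMap.ker q ≤ LinearMap.ker f ⊔ I ^ (n - c) • (⊤ : Submodule A M) := by
    intro k hk
    have hk' : f k ∈ P := (Submodule.Quotient.mk_eq_zero _).mp hk
    obtain ⟨k', hk1, hk2⟩ := hf n hn ⟨LinearMap.mem_range_self f k, hk'⟩
    have : k = (k - k') + k' := by abel
    rw [this]
    exact add_mem (Submodule.mem_sup_left (by rw [LinearMap.mem_ker, map_sub, hk2, sub_self])) (Submodule.mem_sup_right hk1)
  have h0 : q.lTensor B z = 0 := by
    have h1 : P.mkQ.lTensor B (f.baseChange B z) = 0 := by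
      rw [← Ideal.map_pow] at hz
      refine Submodule.smul_induction_on hz (fun r hr w _ => ?_) fun u v hu hv => by rw [map_add, hu, hv, add_zero]
      have hb : P.mkQ.baseChange B (r • w) = 0 := by
        rw [map_smul]
        generalize P.mkQ.baseChange B w = w'
        induction hr using Submodule.span_induction with
        | mem c' hc' =>
          obtain ⟨a, ha, rfl⟩ := hc'
          induction w' using TensorProduct.induction_on with
          | zero => rw [smul_zero]
          | add u v hu hv => rw [smul_add, hu, hv, add_zero]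
          | tmul b m =>
            obtain ⟨m, rfl⟩ := Submodule.Quotient.mk_surjective _ m
            rw [algebraMap_smul, TensorProduct.smul_tmul', TensorProduct.smul_tmul, ← Submodule.Quotient.mk_smul,
              (Submodule.Quotient.mk_eq_zero P).mpr (Submodule.smul_mem_smul ha trivial), TensorProduct.tmul_zero]
        | zero => rw [zero_smul]
        | add u v _ _ hu hv => rw [add_smul, hu, hv, add_zero]
        | smul c' u _ hu => rw [smul_eq_mul, mul_smul, hu, smul_zero]
      exact hb
    rw [LinearMap.lTensor_comp_apply]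
    exact h1
  obtain ⟨y, rfl⟩ := (Module.Flat.lTensor_exact B (LinearMap.exact_subtype_ker_map q) z).mp h0
  clear h0 hz
  induction y using TensorProduct.induction_on with
  | zero => simp
  | add u v hu hv => rw [map_add, map_add]; exact add_mem hu hv
  | tmul b k =>
    obtain ⟨k1, hk1, k2, hk2, hk12⟩ := Submodule.mem_sup.mp (hK k.2)
    refine ⟨b ⊗ₜ k2, ?_, ?_⟩
    · rw [← Ideal.map_pow]
      refine Submodule.smul_induction_on hk2 (fun a ha m _ => ?_) fun u v hu hv => by rw [TensorProduct.tmul_add]; exact add_mem hu hv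
      rw [TensorProduct.tmul_smul, ← algebraMap_smul B a]
      exact Submodule.smul_mem_smul (Ideal.mem_map_of_mem _ ha) trivial
    · simp only [LinearMap.lTensor_tmul, LinearMap.baseChange_tmul, Submodule.coe_subtype]
      rw [← hk12, map_add, LinearMap.mem_ker.mp hk1, zero_add]
end Groth.Agent.S6911
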