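import Groth.Statements.S6912
import Mathlib

set_option autoImplicit false
universe u
open TensorProduct
open CAlg

namespace Groth.Agent.S6912
open scoped TensorProduct

/-- Let `R` be a domain and `M`, `N` two `R`-modules; rank means dimension over the fraction field after
base change. Then `rank (M ⊗_R N) = rank M · rank N`, and when `M` is finitely presented also `rank
Hom_R(M, N) = rank M · rank N`. -/
theorem result (R : Type u) [CommRing R] [IsDomain R] (M N : Type u)
    [AddCommGroup M] [Module R M] [AddCommGroup N] [Module R N] :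
    Module.rank R (M ⊗[R] N) = Module.rank R M * Module.rank R N ∧
    (Module.FinitePresentation R M → Module.rank R (M →ₗ[R] N) = Module.rank R M * Module.rank R N) := by
  let K := FractionRing R
  let p := nonZeroDivisors R
  have key : ∀ (P : Type u) [AddCommGroup P] [Module R P] (Q : Type u) [AddCommGroup Q] [Module R Q] [Module K Q]
      [IsScalarTower R K Q] (f : P →ₗ[R] Q) [IsLocalizedModule p f], Module.rank R P = Module.rank K Q := by
    intro P _ _ Q _ _ _ _ f _
    rw [IsLocalization.rank_eq K p le_rfl, IsLocalizedModule.rank_eq p le_rfl f]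
  have hbc : ∀ (P : Type u) [AddCommGroup P] [Module R P], Module.rank R P = Module.rank K (K ⊗[R] P) := fun P _ _ =>
    key P (K ⊗[R] P) (TensorProduct.mk R K P 1)
  refine ⟨?_, fun hM => ?_⟩
  · rw [hbc M, hbc N, hbc (M ⊗[R] N),
      ((TensorProduct.AlgebraTensorModule.assoc R R K K M N).symm ≪≫ₗ
        (TensorProduct.AlgebraTensorModule.cancelBaseChange R K K (K ⊗[R] M) N).symm).rank_eq,
      rank_tensorProduct']
  · haveI := hM
    rw [hbc M, hbc N, key (M →ₗ[R] N) ((K ⊗[R] M) →ₗ[K] (K ⊗[R] N))
      (IsLocalizedModule.mapExtendScalars p (TensorProduct.mk R K M 1) (TensorProduct.mk R K N 1) K)]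
    haveI : Module.Finite K (K ⊗[R] M) := Module.Finite.base_change R K M
    rw [Module.rank_linearMap]
    simp
end Groth.Agent.S6912
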