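import Groth.Statements.S6913
import Mathlib
import Groth.Agent.CAlgBasics.Reflexive

set_option autoImplicit false
universe u
open CAlg

namespace Groth.Agent.S6913

/-- Let `R` be a domain and `M` a finite `R`-module, of (finite) rank `r`. Then: some linear map `M →
R^r` has torsion kernel and torsion cokernel; some nonzero `f ∈ R` makes `M_f` free of rank `r` over
`R_f`; and some injective linear map `R^r → M` has torsion cokernel. -/
theorem result (R : Type u) [CommRing R] [IsDomain R] (M : Type u) [AddCommGroup M]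
    [Module R M] [Module.Finite R M] :
    (∃ h : M →ₗ[R] (Fin (Module.finrank R M) → R),
      (∀ x : M, h x = 0 → ∃ c : R, c ≠ 0 ∧ c • x = 0) ∧
      (∀ y : Fin (Module.finrank R M) → R, ∃ c : R, c ≠ 0 ∧ c • y ∈ LinearMap.range h)) ∧
    (∃ f : R, f ≠ 0 ∧ Module.Free (Localization.Away f) (LocalizedModule (Submonoid.powers f) M) ∧
      Module.finrank (Localization.Away f) (LocalizedModule (Submonoid.powers f) M) = Module.finrank R M) ∧
    (∃ g : (Fin (Module.finrank R M) → R) →ₗ[R] M, Function.Injective g ∧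
      ∀ x : M, ∃ c : R, c ≠ 0 ∧ c • x ∈ LinearMap.range g) := by
  classical
  obtain ⟨c, n, ι', h, hc, h1, h2⟩ := Groth.Agent.CAlgBasics.exists_smul_id_factor R M
  have e1 : ∀ x, ι' (h x) = c • x := fun x => LinearMap.congr_fun h1 x
  have e2 : ∀ y, h (ι' y) = c • y := fun y => LinearMap.congr_fun h2 y
  have hι : Function.Injective ι' := fun a b hab => by
    have := congrArg h hab
    rw [e2, e2] at this
    exact smul_right_injective _ hc this
  have htor : ∀ x : M, h x = 0 → ∃ d : R, d ≠ 0 ∧ d • x = 0 := fun x hx => ⟨c, hc, by rw [← e1, hx, map_zero]⟩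
  have hn : Module.finrank R M = n := by
    refine Module.finrank_eq_of_rank_eq (le_antisymm ?_ ?_)
    · have hker : Module.rank R (LinearMap.ker h) = 0 := rank_eq_zero_iff.mpr fun ⟨x, hx⟩ => by
        obtain ⟨d, hd, hd0⟩ := htor x hx
        exact ⟨d, hd, Subtype.ext hd0⟩
      rw [← LinearMap.rank_range_add_rank_ker h, hker, add_zero]
      exact (Submodule.rank_le _).trans (by rw [rank_fin_fun])
    · have := LinearMap.lift_rank_le_of_injective ι' hι
      simpa using this
  rw [hn]
  refine ⟨⟨h, htor, fun y => ⟨c, hc, ι' y, e2 y⟩⟩, ⟨c, hc, ?_⟩, ι', hι, fun x => ⟨c, hc, h x, e1 x⟩⟩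
  let S := Submonoid.powers c
  let L := Localization.Away c
  let fM := LocalizedModule.mkLinearMap S M
  let fn := LocalizedModule.mkLinearMap S (Fin n → R)
  obtain ⟨u, hu⟩ := IsLocalization.map_units L (⟨c, Submonoid.mem_powers c⟩ : S)
  let H : LocalizedModule S M →ₗ[L] LocalizedModule S (Fin n → R) := LocalizedModule.map S h
  let J : LocalizedModule S (Fin n → R) →ₗ[L] LocalizedModule S M := ((u⁻¹ : Lˣ) : L) • LocalizedModule.map S ι'
  have k1 : ∀ z, LocalizedModule.map S ι' (H z) = (c : R) • z := fun z => by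
    obtain ⟨⟨x, s⟩, rfl⟩ := IsLocalizedModule.mk'_surjective S fM z
    simp [H, fM, ← IsLocalizedModule.mk_eq_mk', LocalizedModule.map_mk, e1, LocalizedModule.smul'_mk]
    erw [LocalizedModule.map_mk, LocalizedModule.map_mk, e1]
  have k2 : ∀ z, H (LocalizedModule.map S ι' z) = (c : R) • z := fun z => by
    obtain ⟨⟨x, s⟩, rfl⟩ := IsLocalizedModule.mk'_surjective S fn z
    simp [H, fn, ← IsLocalizedModule.mk_eq_mk', LocalizedModule.map_mk, e2, LocalizedModule.smul'_mk]
    erw [LocalizedModule.map_mk, e2]
  let e : LocalizedModule S M ≃ₗ[L] LocalizedModule S (Fin n → R) := LinearEquiv.ofLinearMap H J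
    (LinearMap.ext fun z => by
      simp only [J, LinearMap.comp_apply, LinearMap.smul_apply, map_smul, LinearMap.id_apply, k2]
      rw [← algebraMap_smul L c z, ← hu, smul_smul, Units.inv_mul, one_smul])
    (LinearMap.ext fun z => by
      simp only [J, LinearMap.comp_apply, LinearMap.smul_apply, LinearMap.id_apply, k1]
      rw [← algebraMap_smul L c z, ← hu, smul_smul, Units.inv_mul, one_smul])
  let b := (Pi.basisFun R (Fin n)).ofIsLocalizedModule L S fn
  refine ⟨Module.Free.of_basis (b.map e.symm), ?_⟩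
  haveI : Nontrivial L := (IsLocalization.injective (M := S) L (powers_le_nonZeroDivisors_of_noZeroDivisors hc)).nontrivial
  rw [Module.finrank_eq_card_basis (b.map e.symm), Fintype.card_fin]
end Groth.Agent.S6913
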