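import Groth.Statements.S6917
import Groth.Agent.MilnorLib.Basic
import Mathlib
-- import your own Groth.Agent.* helpers here

set_option autoImplicit false
universe u
open CategoryTheory
open EtAlg

namespace Groth.Agent.S6917

/-- Let `B' = B ×_A A'` be a fibre square of rings with `A' → A` surjective. Then `Spec(B') = Spec(B)
⨿_{Spec(A)} Spec(A')`: the square of prime spectra is a pushout of topological spaces. -/
theorem result (B' B A' A : Type u) [CommRing B'] [CommRing B] [CommRing A'] [CommRing A]
    [Algebra B' B] [Algebra B' A'] [Algebra B A] [Algebra A' A] [Algebra B' A] [IsScalarTower B' B A] [IsScalarTower B' A' A]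
    (hsq : EtMil.IsFibreSquare B' B A' A) :
    IsPushout (TopCat.ofHom (ContinuousMap.mk (PrimeSpectrum.comap (algebraMap B A)) (PrimeSpectrum.continuous_comap _))) (TopCat.ofHom (ContinuousMap.mk (PrimeSpectrum.comap (algebraMap A' A)) (PrimeSpectrum.continuous_comap _)))
      (TopCat.ofHom (ContinuousMap.mk (PrimeSpectrum.comap (algebraMap B' B)) (PrimeSpectrum.continuous_comap _)))
      (TopCat.ofHom (ContinuousMap.mk (PrimeSpectrum.comap (algebraMap B' A')) (PrimeSpectrum.continuous_comap _))) := by
  classical
  let cB := PrimeSpectrum.comap (algebraMap B' B)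
  let cA := PrimeSpectrum.comap (algebraMap B' A')
  have hsB : Function.Surjective (algebraMap B' B) := Groth.Agent.MilnorLib.surjective_fst hsq
  have hcB : Function.Injective cB := PrimeSpectrum.comap_injective_of_surjective _ hsB
  have lift : ∀ i : A', algebraMap A' A i = 0 → ∃ j : B', algebraMap B' B j = 0 ∧ algebraMap B' A' j = i :=
    fun _ h => Groth.Agent.MilnorLib.exists_lift_ker hsq h
  -- primes of `B'` not containing `ker (B' → B)` come from `A'`
  have hout : ∀ p : PrimeSpectrum B', ∀ j : B', algebraMap B' B j = 0 → j ∉ p.asIdeal →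
      ∀ 𝔞 : Ideal A', 𝔞.comap (algebraMap B' A') ≤ p.asIdeal →
        ∃ q : PrimeSpectrum A', cA q = p ∧ 𝔞 ≤ q.asIdeal := by
    intro p j hj hjp 𝔞 h𝔞
    have hja : ∀ a : A', ∃ b : B', algebraMap B' A' b = algebraMap B' A' j * a := fun a => by
      obtain ⟨b, -, hb⟩ := lift (algebraMap B' A' j * a) (by
        rw [map_mul, ← IsScalarTower.algebraMap_apply, IsScalarTower.algebraMap_apply B' B A, hj, map_zero, zero_mul])
      exact ⟨b, hb⟩
    -- the candidate prime
    let q : Ideal A' :=
      { carrier := {a | ∀ b : B', algebraMap B' A' b = algebraMap B' A' j * a → b * j ∈ p.asIdeal}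
        add_mem' := fun {a a'} ha ha' b hb => by
          obtain ⟨c, hc⟩ := hja a
          obtain ⟨c', hc'⟩ := hja a'
          have : b * j = (c + c') * j := Groth.Agent.MilnorLib.eq_of_maps_eq hsq (by simp [hj])
            (by simp [hb, hc, hc', mul_add])
          rw [this, add_mul]; exact add_mem (ha c hc) (ha' c' hc')
        zero_mem' := fun b hb => by
          have : b * j = 0 := Groth.Agent.MilnorLib.eq_of_maps_eq hsq (by simp [hj]) (by simp [hb])
          rw [this]; exact zero_mem _
        smul_mem' := fun c a ha b hb => by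
          obtain ⟨d, hd⟩ := hja a
          obtain ⟨c', hc'⟩ := hja c
          have : (b * j) * j = c' * (d * j) := Groth.Agent.MilnorLib.eq_of_maps_eq hsq (by simp [hj])
            (by simp [hb, hc', hd, smul_eq_mul]; ring)
          have h2 : (b * j) * j ∈ p.asIdeal := this ▸ p.asIdeal.mul_mem_left _ (ha d hd)
          exact (p.isPrime.mem_or_mem h2).resolve_right hjp }
    have hq1 : ∀ x : B', algebraMap B' A' x ∈ q ↔ x ∈ p.asIdeal := by
      intro x
      constructor
      · intro h
        have := h (j * x) (map_mul _ _ _)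
        exact ((p.isPrime.mem_or_mem this).resolve_right hjp |> p.isPrime.mem_or_mem).resolve_left hjp
      · intro hx b hb
        have : b * j = x * (j * j) := Groth.Agent.MilnorLib.eq_of_maps_eq hsq (by simp [hj]) (by simp [hb]; ring)
        rw [this]; exact p.asIdeal.mul_mem_right _ hx
    have hq : q.IsPrime := by
      refine ⟨?_, ?_⟩
      · intro h
        exact p.isPrime.ne_top ((Ideal.eq_top_iff_one _).2 ((hq1 1).1 (by rw [map_one, h]; trivial)))
      · intro a a' h
        obtain ⟨c, hc⟩ := hja a
        obtain ⟨c', hc'⟩ := hja a'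
        have h2 : c * c' ∈ p.asIdeal := by
          rw [← hq1, map_mul, hc, hc']
          have := q.mul_mem_left (algebraMap B' A' j * algebraMap B' A' j) h
          convert this using 1; ring
        rcases p.isPrime.mem_or_mem h2 with h3 | h3
        · left
          intro b hb
          have : b * j = c * j := Groth.Agent.MilnorLib.eq_of_maps_eq hsq (by simp [hj]) (by simp [hb, hc])
          rw [this]; exact p.asIdeal.mul_mem_right _ h3
        · right
          intro b hb
          have : b * j = c' * j := Groth.Agent.MilnorLib.eq_of_maps_eq hsq (by simp [hj]) (by simp [hb, hc'])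
          rw [this]; exact p.asIdeal.mul_mem_right _ h3
    refine ⟨⟨q, hq⟩, PrimeSpectrum.ext (Ideal.ext hq1), fun a ha b hb => p.asIdeal.mul_mem_right _ (h𝔞 ?_)⟩
    show algebraMap B' A' b ∈ 𝔞
    rw [hb]; exact 𝔞.mul_mem_left _ ha
  have hinB : ∀ p : PrimeSpectrum B', (∀ j : B', algebraMap B' B j = 0 → j ∈ p.asIdeal) →
      ∃ q : PrimeSpectrum B, cB q = p := by
    intro p hp
    have : p ∈ Set.range (PrimeSpectrum.comap (algebraMap B' B)) := by
      rw [range_comap_of_surjective _ _ hsB, PrimeSpectrum.mem_zeroLocus]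
      exact fun j hj => hp j hj
    exact this
  have hcover : ∀ p : PrimeSpectrum B', (∃ q, cB q = p) ∨ ∃ q, cA q = p := by
    intro p
    by_cases hp : ∀ j : B', algebraMap B' B j = 0 → j ∈ p.asIdeal
    · exact Or.inl (hinB p hp)
    · push Not at hp
      obtain ⟨j, hj, hjp⟩ := hp
      obtain ⟨q, hq, -⟩ := hout p j hj hjp ⊥ (fun x hx => by
        have h1 : algebraMap B' A' x = 0 := by simpa using hx
        have : x * j = 0 := Groth.Agent.MilnorLib.eq_of_maps_eq hsq (by simp [hj]) (by simp [h1])
        exact (p.isPrime.mem_or_mem (this ▸ p.asIdeal.zero_mem)).resolve_right hjp)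
      exact Or.inr ⟨q, hq⟩
  -- a set with closed preimages is closed
  have hclosed : ∀ Z : Set (PrimeSpectrum B'), IsClosed (cB ⁻¹' Z) → IsClosed (cA ⁻¹' Z) → IsClosed Z := by
    intro Z hZB hZA
    obtain ⟨𝔟, h𝔟⟩ := (PrimeSpectrum.isClosed_iff_zeroLocus_ideal _).1 hZB
    obtain ⟨𝔞, h𝔞⟩ := (PrimeSpectrum.isClosed_iff_zeroLocus_ideal _).1 hZA
    rw [PrimeSpectrum.isClosed_iff_zeroLocus_ideal]
    refine ⟨(𝔟.comap (algebraMap B' B)) ⊓ (𝔞.comap (algebraMap B' A')), ?_⟩
    ext p
    rw [PrimeSpectrum.mem_zeroLocus, SetLike.coe_subset_coe]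
    constructor
    · intro hp
      rcases hcover p with ⟨q, rfl⟩ | ⟨q, rfl⟩
      · have : q ∈ cB ⁻¹' Z := hp
        rw [h𝔟, PrimeSpectrum.mem_zeroLocus] at this
        exact inf_le_left.trans (Ideal.comap_mono this)
      · have : q ∈ cA ⁻¹' Z := hp
        rw [h𝔞, PrimeSpectrum.mem_zeroLocus] at this
        exact inf_le_right.trans (Ideal.comap_mono this)
    · intro hp
      rcases p.isPrime.inf_le.1 hp with h1 | h1
      · obtain ⟨q, rfl⟩ := hinB p fun j hj => h1 (by simp [hj])
        show q ∈ cB ⁻¹' Z
        rw [h𝔟, PrimeSpectrum.mem_zeroLocus]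
        intro b hb
        obtain ⟨b', rfl⟩ := hsB b
        exact h1 hb
      · by_cases hJ : ∀ j : B', algebraMap B' B j = 0 → j ∈ p.asIdeal
        · obtain ⟨q, rfl⟩ := hinB p hJ
          show q ∈ cB ⁻¹' Z
          -- the preimage in `Spec A` of the two closed sets agree
          have hAA : ∀ r : PrimeSpectrum A, 𝔞 ≤ r.asIdeal.comap (algebraMap A' A) → 𝔟 ≤ r.asIdeal.comap (algebraMap B A) := by
            intro r hr
            have h2 : PrimeSpectrum.comap (algebraMap A' A) r ∈ cA ⁻¹' Z := by
              rw [h𝔞, PrimeSpectrum.mem_zeroLocus]; exact hr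
            have h3 : PrimeSpectrum.comap (algebraMap B A) r ∈ cB ⁻¹' Z := by
              show cB _ ∈ Z
              convert (show cA (PrimeSpectrum.comap (algebraMap A' A) r) ∈ Z from h2) using 1
              apply PrimeSpectrum.ext
              show Ideal.comap (algebraMap B' B) (Ideal.comap (algebraMap B A) r.asIdeal) =
                Ideal.comap (algebraMap B' A') (Ideal.comap (algebraMap A' A) r.asIdeal)
              rw [Ideal.comap_comap, Ideal.comap_comap, ← IsScalarTower.algebraMap_eq, ← IsScalarTower.algebraMap_eq]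
            rw [h𝔟, PrimeSpectrum.mem_zeroLocus] at h3
            exact h3
          have hrad : 𝔟 ≤ ((𝔞.map (algebraMap A' A)).comap (algebraMap B A)).radical := by
            intro b hb
            rw [← Ideal.comap_radical, Ideal.mem_comap, Ideal.radical_eq_sInf, Submodule.mem_sInf]
            rintro P ⟨hP1, hP2⟩
            exact hAA ⟨P, hP2⟩ (Ideal.map_le_iff_le_comap.1 hP1) hb
          rw [h𝔟, PrimeSpectrum.mem_zeroLocus]
          refine hrad.trans ((Ideal.IsPrime.radical_le_iff q.isPrime).2 ?_)
          intro b hb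
          rw [Ideal.mem_comap, Ideal.mem_map_iff_of_surjective _ hsq.1] at hb
          obtain ⟨a, ha, ha'⟩ := hb
          obtain ⟨b', ⟨hb1, hb2⟩, -⟩ := hsq.2 b a ha'.symm
          rw [← hb1]
          exact h1 (show algebraMap B' A' b' ∈ 𝔞 by rw [hb2]; exact ha)
        · push Not at hJ
          obtain ⟨j, hj, hjp⟩ := hJ
          obtain ⟨q, rfl, hq⟩ := hout p j hj hjp 𝔞 h1
          show q ∈ cA ⁻¹' Z
          rw [h𝔞, PrimeSpectrum.mem_zeroLocus]
          exact hq
  have hcomm : ∀ x : PrimeSpectrum A,
      cB (PrimeSpectrum.comap (algebraMap B A) x) = cA (PrimeSpectrum.comap (algebraMap A' A) x) := by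
    intro x
    apply PrimeSpectrum.ext
    show Ideal.comap (algebraMap B' B) (Ideal.comap (algebraMap B A) x.asIdeal) =
      Ideal.comap (algebraMap B' A') (Ideal.comap (algebraMap A' A) x.asIdeal)
    rw [Ideal.comap_comap, Ideal.comap_comap, ← IsScalarTower.algebraMap_eq, ← IsScalarTower.algebraMap_eq]
  have hdesc : ∀ (T : TopCat.{u}) (u : C(PrimeSpectrum B, T)) (v : C(PrimeSpectrum A', T)),
      (∀ x, u (PrimeSpectrum.comap (algebraMap B A) x) = v (PrimeSpectrum.comap (algebraMap A' A) x)) →
      ∃ h : C(PrimeSpectrum B', T), (∀ q, h (cB q) = u q) ∧ ∀ q, h (cA q) = v q := by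
    intro T u v huv
    let h : PrimeSpectrum B' → T := fun p =>
      if hp : ∃ q, cB q = p then u (Classical.choose hp) else v (Classical.choose ((hcover p).resolve_left hp))
    have hB : ∀ q, h (cB q) = u q := fun q => by
      have hp : ∃ q', cB q' = cB q := ⟨q, rfl⟩
      simp only [h, dif_pos hp]
      rw [hcB (Classical.choose_spec hp)]
    have hA : ∀ q, h (cA q) = v q := fun q => by
      by_cases hp : ∃ q', cB q' = cA q
      · obtain ⟨q', hq'⟩ := hp
        rw [← hq', hB]
        -- `q` contains the kernel of `A' → A`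
        have hq : q ∈ Set.range (PrimeSpectrum.comap (algebraMap A' A)) := by
          rw [range_comap_of_surjective _ _ hsq.1, PrimeSpectrum.mem_zeroLocus]
          intro i hi
          obtain ⟨j, hj, rfl⟩ := lift i hi
          have : j ∈ (cB q').asIdeal := by
            show algebraMap B' B j ∈ q'.asIdeal
            rw [hj]; exact zero_mem _
          rw [hq'] at this
          exact this
        obtain ⟨r, rfl⟩ := hq
        have hr : q' = PrimeSpectrum.comap (algebraMap B A) r := by
          apply hcB
          rw [hq']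
          apply PrimeSpectrum.ext
          show Ideal.comap (algebraMap B' A') (Ideal.comap (algebraMap A' A) r.asIdeal) =
            Ideal.comap (algebraMap B' B) (Ideal.comap (algebraMap B A) r.asIdeal)
          rw [Ideal.comap_comap, Ideal.comap_comap, ← IsScalarTower.algebraMap_eq, ← IsScalarTower.algebraMap_eq]
        rw [hr]
        exact huv r
      · simp only [h, dif_neg hp]
        -- outside `V(J)` the preimage is unique
        have hp' := Classical.choose_spec ((hcover (cA q)).resolve_left hp)
        congr 1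
        generalize Classical.choose ((hcover (cA q)).resolve_left hp) = q'' at hp'
        have hJ : ¬ ∀ j : B', algebraMap B' B j = 0 → j ∈ (cA q).asIdeal := fun hh => hp (hinB _ hh)
        push Not at hJ
        obtain ⟨j, hj, hjq⟩ := hJ
        have hjq'' : algebraMap B' A' j ∉ q''.asIdeal := fun hh => hjq (by rw [← hp']; exact hh)
        apply PrimeSpectrum.ext
        ext a
        obtain ⟨b, -, hb⟩ := lift (algebraMap B' A' j * a) (by
          rw [map_mul, ← IsScalarTower.algebraMap_apply, IsScalarTower.algebraMap_apply B' B A, hj, map_zero, zero_mul])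
        have h1 : a ∈ q''.asIdeal ↔ b ∈ (cA q'').asIdeal := by
          show _ ↔ algebraMap B' A' b ∈ q''.asIdeal
          rw [hb]
          exact ⟨fun h => q''.asIdeal.mul_mem_left _ h, fun h => (q''.isPrime.mem_or_mem h).resolve_left hjq''⟩
        have h2 : a ∈ q.asIdeal ↔ b ∈ (cA q).asIdeal := by
          show _ ↔ algebraMap B' A' b ∈ q.asIdeal
          rw [hb]
          exact ⟨fun h => q.asIdeal.mul_mem_left _ h, fun h => (q.isPrime.mem_or_mem h).resolve_left hjq⟩
        rw [h1, h2, hp']
    refine ⟨⟨h, continuous_iff_isClosed.2 fun Z hZ => hclosed _ ?_ ?_⟩, hB, hA⟩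
    · rw [← Set.preimage_comp, show h ∘ cB = u from funext hB]
      exact hZ.preimage u.continuous
    · rw [← Set.preimage_comp, show h ∘ cA = v from funext hA]
      exact hZ.preimage v.continuous
  refine ⟨⟨?_⟩, ⟨Limits.PushoutCocone.IsColimit.mk _
    (fun s => TopCat.ofHom (Classical.choose (hdesc s.pt s.inl.hom s.inr.hom
      (fun x => ConcreteCategory.congr_hom s.condition x))))
    (fun s => ?_) (fun s => ?_) (fun s m hm1 hm2 => ?_)⟩⟩
  · exact TopCat.ext hcomm
  · exact TopCat.ext (Classical.choose_spec (hdesc s.pt s.inl.hom s.inr.hom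
      (fun x => ConcreteCategory.congr_hom s.condition x))).1
  · exact TopCat.ext (Classical.choose_spec (hdesc s.pt s.inl.hom s.inr.hom
      (fun x => ConcreteCategory.congr_hom s.condition x))).2
  · have hsp := Classical.choose_spec (hdesc s.pt s.inl.hom s.inr.hom
      (fun x => ConcreteCategory.congr_hom s.condition x))
    refine TopCat.ext fun p => ?_
    rcases hcover p with ⟨q, rfl⟩ | ⟨q, rfl⟩
    · exact (ConcreteCategory.congr_hom hm1 q).trans (hsp.1 q).symm
    · exact (ConcreteCategory.congr_hom hm2 q).trans (hsp.2 q).symm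

end Groth.Agent.S6917
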