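import Groth.Statements.S6919
import Groth.Agent.PullbackMod.Flat
import Groth.Agent.WLocalLib.Strict
-- import your own Groth.Agent.* helpers here

set_option autoImplicit false
set_option linter.style.haveILetI false
set_option maxHeartbeats 1000000
set_option backward.isDefEq.respectTransparency false
universe u
open FlatMor

namespace Groth.Agent.S6919

/-- Let `R → S` be a ring map, `J ⊆ S` an ideal, `M` an `S`-module and `I ⊆ R` an ideal; let `R → R'` be
a ring map and `I' ⊆ R'` an ideal containing `IR'`, and put `S' = S ⊗_R R'`, `M' = M ⊗_R R'`. Assume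
that every prime of `R` containing `I` is the contraction of a prime of `R'` containing `I'`, and
that `R'_{𝔭'}` is flat over `R` for every prime `𝔭' ⊇ I'`. If `M'_{𝔮'}` is flat over `R'` for every
prime `𝔮' ⊇ I'S' + JS'` of `S'`, then `M_𝔮` is flat over `R` for every prime `𝔮 ⊇ IS + J` of `S`.
(The published statement descends from a pair `(R'', I'')` to an arbitrary pair `(R', I')` over `R`;
this row takes `(R', I') = (R, I)`.) -/
theorem result {R S R' S' : Type u} [CommRing R] [CommRing S] [CommRing R'] [CommRing S']
    [Algebra R S] [Algebra R R'] [Algebra S S'] [Algebra R' S'] [Algebra R S'] [IsScalarTower R S S']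
    [IsScalarTower R R' S'] [Algebra.IsPushout R S R' S']
    (I : Ideal R) (I' : Ideal R') (hII' : I.map (algebraMap R R') ≤ I')
    {M M' : Type u} [AddCommGroup M] [Module S M] [Module R M] [IsScalarTower R S M]
    [AddCommGroup M'] [Module S' M'] [Module R' M'] [IsScalarTower R' S' M'] [Module S M'] [IsScalarTower S S' M']
    (f : M →ₗ[S] M') (hf : IsBaseChange S' f) (J : Ideal S)
    (hsurj : ∀ (p : Ideal R) [p.IsPrime], I ≤ p → ∃ (p' : Ideal R') (_ : p'.IsPrime), I' ≤ p' ∧ p'.comap (algebraMap R R') = p)
    (hflat : ∀ (p' : Ideal R') [p'.IsPrime], I' ≤ p' → Module.Flat R (Localization.AtPrime p'))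
    (h : (∀ (q : Ideal S') [q.IsPrime], I'.map (algebraMap R' S') ⊔ J.map (algebraMap S S') ≤ q → FlatCA.FlatAt R' q M')) :
    (∀ (q : Ideal S) [q.IsPrime], I.map (algebraMap R S) ⊔ J ≤ q → FlatCA.FlatAt R q M) := by
  intro q _ hq
  let p : Ideal R := q.comap (algebraMap R S)
  obtain ⟨p', hp'p, hIp', hcomap⟩ := hsurj p (Ideal.map_le_iff_le_comap.mp (le_sup_left.trans hq))
  obtain ⟨P, hP1, hP2⟩ := Groth.Agent.WLocalLib.exists_prime_tensor (A := R) (⟨q, inferInstance⟩ : PrimeSpectrum S)
    (⟨p', hp'p⟩ : PrimeSpectrum R') (PrimeSpectrum.ext hcomap.symm)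
  let e := Algebra.IsPushout.equiv R S R' S'
  let q' : Ideal S' := P.asIdeal.comap e.symm.toRingEquiv.toRingHom
  have hq'q : q'.comap (algebraMap S S') = q := by
    ext s
    show e.symm (algebraMap S S' s) ∈ P.asIdeal ↔ s ∈ q
    rw [e.symm.commutes]
    exact SetLike.ext_iff.mp (congrArg PrimeSpectrum.asIdeal hP1) s
  have hq'p : q'.comap (algebraMap R' S') = p' := by
    ext r
    show e.symm (algebraMap R' S' r) ∈ P.asIdeal ↔ r ∈ p'
    rw [Algebra.IsPushout.equiv_symm_algebraMap_right]
    exact SetLike.ext_iff.mp (congrArg PrimeSpectrum.asIdeal hP2) r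
  have hle : I'.map (algebraMap R' S') ⊔ J.map (algebraMap S S') ≤ q' :=
    sup_le (Ideal.map_le_iff_le_comap.mpr (hq'p.symm ▸ hIp'))
      (Ideal.map_le_iff_le_comap.mpr (hq'q.symm ▸ le_sup_right.trans hq))
  let O' := Localization.AtPrime q'
  let O := Localization.AtPrime q
  -- `O'` is flat over `S`
  haveI : Module.Flat R (LocalizedModule p'.primeCompl R') := by
    haveI := hflat p' hIp'
    exact inferInstanceAs (Module.Flat R (Localization.AtPrime p'))
  haveI hflS : Module.Flat S O' := Groth.Agent.PullbackMod.flat_localized_pushout (A := R) (A' := S) (B := R') (B' := S')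
    (Algebra.linearMap R' S') (IsBaseChange.linearMap R' S') p'.primeCompl q'.primeCompl
    (by
      rintro _ ⟨x, hx, rfl⟩ hx'
      exact hx (hq'p ▸ hx'))
    (Algebra.linearMap S' O')
  letI algO : Algebra O O' := (Localization.localRingHom q q' (algebraMap S S') hq'q.symm).toAlgebra
  haveI : IsScalarTower S O O' := .of_algebraMap_eq fun x =>
    ((Localization.localRingHom_to_map q q' (algebraMap S S') hq'q.symm x).trans
      (IsScalarTower.algebraMap_apply S S' O' x).symm).symm
  haveI : IsLocalHom (algebraMap O O') := Localization.isLocalHom_localRingHom q q' (algebraMap S S') hq'q.symm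
  haveI : Module.Flat O O' := (Module.flat_iff_of_isLocalization O q.primeCompl O').mpr inferInstance
  haveI : Module.FaithfullyFlat O O' := Module.FaithfullyFlat.of_flat_of_isLocalHom
  -- the localised base change
  let M₁ := LocalizedModule q.primeCompl M
  let M₂ := LocalizedModule q'.primeCompl M'
  letI : Module O M₂ := Module.compHom M₂ (algebraMap O O')
  haveI : IsScalarTower O O' M₂ := .of_algebraMap_smul fun _ _ => rfl
  haveI : IsScalarTower S O M₂ := .of_algebraMap_smul fun x m => by
    show algebraMap O O' (algebraMap S O x) • m = x • m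
    rw [← IsScalarTower.algebraMap_apply, algebraMap_smul]
  let g : M →ₗ[S] M₂ := (LocalizedModule.mkLinearMap q'.primeCompl M').restrictScalars S ∘ₗ f
  have hunit : ∀ t : q.primeCompl, IsUnit (algebraMap S (Module.End S M₂) t) := fun t => by
    obtain ⟨v, hv⟩ := IsLocalization.map_units O t
    refine (Module.End.isUnit_iff _).mpr ⟨fun x y hxy => ?_, fun y => ⟨(↑v⁻¹ : O) • y, ?_⟩⟩
    · have h1 : (↑v : O) • x = (↑v : O) • y := by rw [hv, algebraMap_smul, algebraMap_smul]; exact hxy
      simpa [smul_smul] using congrArg ((↑v⁻¹ : O) • ·) h1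
    · show (t : S) • (↑v⁻¹ : O) • y = y
      rw [← algebraMap_smul O (t : S), ← hv, smul_smul, Units.mul_inv, one_smul]
  let θS : M₁ →ₗ[S] M₂ := IsLocalizedModule.lift q.primeCompl (LocalizedModule.mkLinearMap q.primeCompl M) g hunit
  let θ : M₁ →ₗ[O] M₂ := θS.extendScalarsOfIsLocalization q.primeCompl O
  have hθ : IsBaseChange O' θ := by
    refine IsBaseChange.of_comp (R := S) (S := O) (f := LocalizedModule.mkLinearMap q.primeCompl M)
      (IsLocalizedModule.isBaseChange q.primeCompl O _) ?_
    rw [show (θ.restrictScalars S) ∘ₗ LocalizedModule.mkLinearMap q.primeCompl M = g from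
      IsLocalizedModule.lift_comp q.primeCompl _ g hunit]
    exact hf.comp (IsLocalizedModule.isBaseChange q'.primeCompl O' _)
  letI : Module R M₂ := Module.compHom M₂ (algebraMap R S')
  haveI hRS' : IsScalarTower R S' M₂ := .of_algebraMap_smul fun _ _ => rfl
  haveI : IsScalarTower R R' M₂ := .of_algebraMap_smul fun x m => by
    rw [← algebraMap_smul S' (algebraMap R R' x) m, ← IsScalarTower.algebraMap_apply]
    rfl
  haveI : IsScalarTower R O O' := .of_algebraMap_eq fun x => by
    rw [IsScalarTower.algebraMap_apply R S O, ← IsScalarTower.algebraMap_apply S O O',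
      IsScalarTower.algebraMap_apply S S' O', ← IsScalarTower.algebraMap_apply R S S',
      ← IsScalarTower.algebraMap_apply R S' O']
  haveI : IsScalarTower R O' M₂ := .of_algebraMap_smul fun x m => by
    rw [IsScalarTower.algebraMap_apply R S' O', algebraMap_smul]
    rfl
  haveI : IsScalarTower R O M₂ := .of_algebraMap_smul fun x m => by
    show algebraMap O O' (algebraMap R O x) • m = x • m
    rw [← IsScalarTower.algebraMap_apply, algebraMap_smul]
  -- flatness of the target over `R`
  haveI : Module.Flat R' M₂ := h q' hle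
  haveI : Module.Flat R M₂ := by
    let A := Localization.AtPrime p'
    haveI := hflat p' hIp'
    letI : Algebra A O' := (Localization.localRingHom p' q' (algebraMap R' S') hq'p.symm).toAlgebra
    haveI : IsScalarTower R' A O' := .of_algebraMap_eq fun x =>
      ((Localization.localRingHom_to_map p' q' (algebraMap R' S') hq'p.symm x).trans
        (IsScalarTower.algebraMap_apply R' S' O' x).symm).symm
    letI : Module A M₂ := Module.compHom M₂ (algebraMap A O')
    haveI : IsScalarTower R' A M₂ := .of_algebraMap_smul fun x m => by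
      show algebraMap A O' (algebraMap R' A x) • m = x • m
      rw [← IsScalarTower.algebraMap_apply, algebraMap_smul]
    haveI : Module.Flat A M₂ := (Module.flat_iff_of_isLocalization A p'.primeCompl M₂).mpr inferInstance
    haveI : IsScalarTower R A M₂ := .of_algebraMap_smul fun x m => by
      rw [IsScalarTower.algebraMap_apply R R' A, algebraMap_smul, algebraMap_smul]
    exact Module.Flat.trans R A M₂
  exact Groth.Agent.PullbackMod.flat_of_isBaseChange_faithfullyFlat (A := R) θ hθ

end Groth.Agent.S6919
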