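import Groth.Statements.S6920
import Mathlib

set_option autoImplicit false
universe u
open CategoryTheory CategoryTheory.Limits MonoidalCategory
open DRing

namespace Groth.Agent.S6920

/-- For an epimorphism of rings `φ : R → S` and a complex `I•` of `S`-modules, if the underlying complex
of `R`-modules of `I•` is K-injective, then `I•` itself is K-injective over `S`. -/
theorem result (R S : Type u) [CommRing R] [CommRing S] (φ : R →+* S)
    (hφ : Epi (CommRingCat.ofHom φ)) (I : DRing.Cx S)
    [CochainComplex.IsKInjective ((DRing.restrictCx φ).obj I)] : CochainComplex.IsKInjective I := by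
  letI : Algebra R S := φ.toAlgebra
  have hepi : Algebra.IsEpi R S := CommRingCat.epi_iff_epi.mp hφ
  have hlin : ∀ (M N : ModuleCat.{u} S) (h : (ModuleCat.restrictScalars φ).obj M ⟶ (ModuleCat.restrictScalars φ).obj N),
      ∀ (a : S) (m : M), (h.hom (a • m : M) : N) = a • (h.hom m : N) := by
    intro M N h a m
    letI : Module R M := Module.compHom M φ
    letI : Module R N := Module.compHom N φ
    haveI : IsScalarTower R S M := ⟨fun r s x => mul_smul (φ r) s x⟩
    haveI : IsScalarTower R S N := ⟨fun r s x => mul_smul (φ r) s x⟩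
    let hm : M →ₗ[R] N :=
      { toFun := fun x => h.hom x, map_add' := fun x y => h.hom.map_add x y, map_smul' := fun r x => h.hom.map_smul r x }
    let Φ : TensorProduct R S S →ₗ[R] N := TensorProduct.lift (LinearMap.mk₂ R (fun x y => x • hm (y • m))
      (fun x x' y => add_smul _ _ _) (fun r x y => smul_assoc r x _)
      (fun x y y' => by simp [add_smul, smul_add]) (fun r x y => by rw [smul_assoc r y m, map_smul, smul_comm]))
    have := congr_arg Φ ((Algebra.isEpi_iff_forall_one_tmul_eq R S).1 hepi a)
    simp [Φ, hm] at this
    exact this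
  refine ⟨fun {K} f hK => ?_⟩
  have hK' : ((DRing.restrictCx φ).obj K).Acyclic := fun n => by
    have h1 := (hK n).map (ModuleCat.restrictScalars φ)
    exact h1
  obtain ⟨H⟩ := CochainComplex.IsKInjective.nonempty_homotopy_zero ((DRing.restrictCx φ).map f) hK'
  let lift : ∀ i j, K.X i ⟶ I.X j := fun i j => ModuleCat.ofHom
    { toFun := fun x => (H.hom i j).hom x
      map_add' := fun x y => (H.hom i j).hom.map_add x y
      map_smul' := fun a x => hlin _ _ (H.hom i j) a x }
  refine ⟨{ hom := lift, zero := fun i j hij => ?_, comm := fun i => ?_ }⟩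
  · ext x
    exact LinearMap.congr_fun (congr_arg ModuleCat.Hom.hom (H.zero i j hij)) x
  · have e := H.comm i
    rw [dNext_eq _ (show (ComplexShape.up ℤ).Rel i (i + 1) from rfl),
      prevD_eq _ (show (ComplexShape.up ℤ).Rel (i - 1) i from by simp)] at e ⊢
    ext x
    exact LinearMap.congr_fun (congr_arg ModuleCat.Hom.hom e) x

end Groth.Agent.S6920
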