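import Groth.Statements.S6921
import Groth.Agent.MilnorLib.Glue
import Mathlib
-- import your own Groth.Agent.* helpers here

set_option autoImplicit false
universe u
open TensorProduct
open EtAlg

namespace Groth.Agent.S6921

/-- Let `B' = B ×_A A'` be a fibre square of rings with `A' → A` surjective, `B' → D'` a ring map, and
`D = D' ⊗_{B'} B`, `C' = D' ⊗_{B'} A'`, `C = D' ⊗_{B'} A`. Let `N` be a finite `D`-module, `M'` a
finite `C'`-module and `φ : N ⊗_D C ≅ M' ⊗_{C'} C` a `C`-linear isomorphism. Then the glued module
`N ×_φ M'` is a finite `D'`-module. -/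
theorem result (B' B A' A : Type u) [CommRing B'] [CommRing B] [CommRing A'] [CommRing A]
    [Algebra B' B] [Algebra B' A'] [Algebra B A] [Algebra A' A] [Algebra B' A] [IsScalarTower B' B A] [IsScalarTower B' A' A]
    (hsq : EtMil.IsFibreSquare B' B A' A)
    (D' D C' C : Type u) [CommRing D'] [CommRing D] [CommRing C'] [CommRing C]
    [Algebra B' D'] [Algebra B D] [Algebra A' C'] [Algebra A C]
    [Algebra D' D] [Algebra B' D] [IsScalarTower B' B D] [IsScalarTower B' D' D] [Algebra.IsPushout B' B D' D]
    [Algebra D' C'] [Algebra B' C'] [IsScalarTower B' A' C'] [IsScalarTower B' D' C'] [Algebra.IsPushout B' A' D' C']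
    [Algebra D' C] [Algebra B' C] [IsScalarTower B' A C] [IsScalarTower B' D' C] [Algebra.IsPushout B' A D' C]
    [Algebra D C] [IsScalarTower D' D C] [Algebra B C] [IsScalarTower B A C] [IsScalarTower B D C]
    [Algebra C' C] [IsScalarTower D' C' C] [Algebra A' C] [IsScalarTower A' A C] [IsScalarTower A' C' C]
    {N M' : Type u} [AddCommGroup N] [Module D N] [Module D' N] [IsScalarTower D' D N]
    [AddCommGroup M'] [Module C' M'] [Module D' M'] [IsScalarTower D' C' M'] (φ : C ⊗[D] N ≃ₗ[C] C ⊗[C'] M')
    [Module.Finite D N] [Module.Finite C' M'] : Module.Finite D' ↥(EtMil.glue D' φ) := by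
  have hD : Function.Surjective (algebraMap D' D) := by
    intro c
    obtain ⟨z, rfl⟩ := (Algebra.IsPushout.out (R := B') (S := B) (R' := D') (S' := D)).equiv.surjective c
    induction z using TensorProduct.induction_on with
    | zero => exact ⟨0, by simp⟩
    | tmul a d =>
      obtain ⟨a', rfl⟩ := Groth.Agent.MilnorLib.surjective_fst hsq a
      refine ⟨algebraMap B' D' a' * d, ?_⟩
      rw [IsBaseChange.equiv_tmul, Algebra.smul_def, map_mul, ← IsScalarTower.algebraMap_apply B' D' D,
        ← IsScalarTower.algebraMap_apply B' B D]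
      rfl
    | add x y hx hy =>
      obtain ⟨p, hp⟩ := hx
      obtain ⟨q, hq⟩ := hy
      exact ⟨p + q, by rw [map_add, hp, hq, map_add]⟩
  let g : A' →ₗ[B'] A := (IsScalarTower.toAlgHom B' A' A).toLinearMap
  let eC' := (Algebra.IsPushout.out (R := B') (S := A') (R' := D') (S' := C')).equiv
  let eC := (Algebra.IsPushout.out (R := B') (S := A) (R' := D') (S' := C)).equiv
  have hcomm : ∀ z : A' ⊗[B'] D', algebraMap C' C (eC' z) = eC (g.rTensor D' z) := by
    intro z
    induction z using TensorProduct.induction_on with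
    | zero => simp
    | tmul a d =>
      simp only [g, eC, eC', LinearMap.rTensor_tmul, IsBaseChange.equiv_tmul, Algebra.smul_def, map_mul,
        IsScalarTower.toAlgHom_apply, AlgHom.toLinearMap_apply]
      rw [← IsScalarTower.algebraMap_apply A' C' C, IsScalarTower.algebraMap_apply A' A C,
        ← IsScalarTower.algebraMap_apply D' C' C]
    | add a b ha hb => simp only [map_add, ha, hb]
  have hDC : Function.Surjective (algebraMap C' C) := by
    intro c
    obtain ⟨z, hz⟩ := LinearMap.rTensor_surjective D' (g := g) hsq.1 (eC.symm c)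
    exact ⟨eC' z, by rw [hcomm, hz, LinearEquiv.apply_symm_apply]⟩
  have hlift : ∀ c : C', algebraMap C' C c = 0 → ∃ d : D', algebraMap D' D d = 0 ∧ algebraMap D' C' d = c := by
    intro c hc
    have h0 : g.rTensor D' (eC'.symm c) = 0 := eC.injective (by
      rw [← hcomm, LinearEquiv.apply_symm_apply, hc, map_zero])
    obtain ⟨w, hw⟩ := (rTensor_exact D' (LinearMap.exact_subtype_ker_map g) hsq.1 _).1 h0
    have : ∃ d : D', algebraMap D' D d = 0 ∧ algebraMap D' C' d = eC' ((LinearMap.ker g).subtype.rTensor D' w) := by
      clear hw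
      induction w using TensorProduct.induction_on with
      | zero => exact ⟨0, map_zero _, by simp⟩
      | tmul i d =>
        obtain ⟨j, hj, hji⟩ := Groth.Agent.MilnorLib.exists_lift_ker hsq (a' := (i : A')) i.2
        refine ⟨algebraMap B' D' j * d, ?_, ?_⟩
        · rw [map_mul, ← IsScalarTower.algebraMap_apply B' D' D, IsScalarTower.algebraMap_apply B' B D, hj,
            map_zero, zero_mul]
        · simp only [eC', LinearMap.rTensor_tmul, Submodule.coe_subtype, IsBaseChange.equiv_tmul, ← hji,
            Algebra.smul_def, map_mul, ← IsScalarTower.algebraMap_apply, IsScalarTower.toAlgHom_apply,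
            AlgHom.toLinearMap_apply]
      | add a b ha hb =>
        obtain ⟨p, hp, hp'⟩ := ha
        obtain ⟨q, hq, hq'⟩ := hb
        exact ⟨p + q, by rw [map_add, hp, hq, add_zero], by rw [map_add, hp', hq', map_add, map_add]⟩
    rwa [hw, LinearEquiv.apply_symm_apply] at this
  exact Groth.Agent.MilnorLib.glue_finite φ hDC hlift hD

end Groth.Agent.S6921
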