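import Groth.Statements.S6922
import Groth.Agent.MilnorLib.RelFP
import Mathlib
-- import your own Groth.Agent.* helpers here

set_option autoImplicit false
set_option backward.isDefEq.respectTransparency false
universe u
open TensorProduct
open EtAlg

namespace Groth.Agent.S6922

/-- In the relative situation (`B' = B ×_A A'` with `A' → A` surjective, `B' → D'`, `D = D' ⊗_{B'} B`,
`C' = D' ⊗_{B'} A'`, `C = D' ⊗_{B'} A`), let `N` be a flat `B`-module that is finitely presented as
a `D`-module and `M'` a flat `A'`-module that is finitely presented as a `C'`-module, with a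
`C`-isomorphism `φ : N ⊗_D C ≅ M' ⊗_{C'} C`, and suppose `B' → D'` is the composite of a flat ring
map `B' → D''` and a ring map `D'' → D'` of finite presentation. Then `N ×_φ M'` is finitely
presented over `D'`. -/
theorem result (B' B A' A : Type u) [CommRing B'] [CommRing B] [CommRing A'] [CommRing A]
    [Algebra B' B] [Algebra B' A'] [Algebra B A] [Algebra A' A] [Algebra B' A] [IsScalarTower B' B A] [IsScalarTower B' A' A]
    (hsq : EtMil.IsFibreSquare B' B A' A)
    (D' D C' C : Type u) [CommRing D'] [CommRing D] [CommRing C'] [CommRing C]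
    [Algebra B' D'] [Algebra B D] [Algebra A' C'] [Algebra A C]
    [Algebra D' D] [Algebra B' D] [IsScalarTower B' B D] [IsScalarTower B' D' D] [Algebra.IsPushout B' B D' D]
    [Algebra D' C'] [Algebra B' C'] [IsScalarTower B' A' C'] [IsScalarTower B' D' C'] [Algebra.IsPushout B' A' D' C']
    [Algebra D' C] [Algebra B' C] [IsScalarTower B' A C] [IsScalarTower B' D' C] [Algebra.IsPushout B' A D' C]
    [Algebra D C] [IsScalarTower D' D C] [Algebra B C] [IsScalarTower B A C] [IsScalarTower B D C]
    [Algebra C' C] [IsScalarTower D' C' C] [Algebra A' C] [IsScalarTower A' A C] [IsScalarTower A' C' C]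
    {N M' : Type u} [AddCommGroup N] [Module D N] [Module D' N] [IsScalarTower D' D N]
    [AddCommGroup M'] [Module C' M'] [Module D' M'] [IsScalarTower D' C' M'] (φ : C ⊗[D] N ≃ₗ[C] C ⊗[C'] M')
    [Module B N] [IsScalarTower B D N] [Module A' M'] [IsScalarTower A' C' M']
    [Module.FinitePresentation D N] [Module.Flat B N] [Module.FinitePresentation C' M'] [Module.Flat A' M']
    (D'' : Type u) [CommRing D''] [Algebra B' D''] [Algebra D'' D'] [IsScalarTower B' D'' D'] [Module.Flat B' D'']
    [Algebra.FinitePresentation D'' D'] :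
    Module.FinitePresentation D' ↥(EtMil.glue D' φ) := by
  obtain ⟨hDC, hlift, hD⟩ := Groth.Agent.MilnorLib.pushout_maps hsq D' D C' C
  letI : Module B' ↥(EtMil.glue D' φ) := Module.compHom _ (algebraMap B' D')
  haveI : IsScalarTower B' D' ↥(EtMil.glue D' φ) := IsScalarTower.of_algebraMap_smul fun _ _ => rfl
  let eN := LinearEquiv.ofBijective _ (Groth.Agent.MilnorLib.liftBaseChange_glueFst_bijective φ hDC hlift hD)
  let eM := LinearEquiv.ofBijective _ (Groth.Agent.MilnorLib.liftBaseChange_glueSnd_bijective φ hDC hlift hD)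
  haveI : Module.Flat B (B ⊗[B'] ↥(EtMil.glue D' φ)) := Module.Flat.of_linearEquiv
    ((Algebra.IsPushout.cancelBaseChange B' B D' D ↥(EtMil.glue D' φ)).symm ≪≫ₗ eN.restrictScalars B)
  haveI : Module.Flat A' (A' ⊗[B'] ↥(EtMil.glue D' φ)) := Module.Flat.of_linearEquiv
    ((Algebra.IsPushout.cancelBaseChange B' A' D' C' ↥(EtMil.glue D' φ)).symm ≪≫ₗ eM.restrictScalars A')
  haveI := Groth.Agent.MilnorLib.flat ↥(EtMil.glue D' φ) hsq
  haveI := Groth.Agent.MilnorLib.glue_finite φ hDC hlift hD
  have hPN : Module.FinitePresentation D (D ⊗[D'] ↥(EtMil.glue D' φ)) :=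
    Module.FinitePresentation.of_equiv eN.symm
  have hPM : Module.FinitePresentation C' (C' ⊗[D'] ↥(EtMil.glue D' φ)) :=
    Module.FinitePresentation.of_equiv eM.symm
  obtain ⟨n, f, hf, hfg⟩ := Algebra.FinitePresentation.out (R := D'') (A := D')
  letI : Algebra (MvPolynomial (Fin n) D'') D' := f.toRingHom.toAlgebra
  haveI : IsScalarTower D'' (MvPolynomial (Fin n) D'') D' := IsScalarTower.of_algebraMap_eq fun x => (f.commutes x).symm
  haveI : IsScalarTower B' (MvPolynomial (Fin n) D'') D' := IsScalarTower.of_algebraMap_eq fun x => by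
    rw [IsScalarTower.algebraMap_apply B' D'' (MvPolynomial (Fin n) D''),
      ← IsScalarTower.algebraMap_apply D'' (MvPolynomial (Fin n) D'') D', ← IsScalarTower.algebraMap_apply]
  haveI : Module.FinitePresentation (MvPolynomial (Fin n) D'') D' :=
    Module.finitePresentation_of_surjective (Algebra.linearMap (MvPolynomial (Fin n) D'') D') hf hfg
  haveI : Module.Flat B' (MvPolynomial (Fin n) D'') := Module.Flat.trans B' D'' _
  letI : Module (MvPolynomial (Fin n) D'') ↥(EtMil.glue D' φ) := Module.compHom _ f.toRingHom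
  haveI : IsScalarTower (MvPolynomial (Fin n) D'') D' ↥(EtMil.glue D' φ) :=
    IsScalarTower.of_algebraMap_smul fun _ _ => rfl
  haveI : IsScalarTower B' (MvPolynomial (Fin n) D'') ↥(EtMil.glue D' φ) :=
    IsScalarTower.of_algebraMap_smul fun b x => by
      rw [← IsScalarTower.algebraMap_smul D', ← IsScalarTower.algebraMap_apply, IsScalarTower.algebraMap_smul]
  haveI : Module.Finite (MvPolynomial (Fin n) D'') ↥(EtMil.glue D' φ) :=
    haveI : Module.Finite (MvPolynomial (Fin n) D'') D' := inferInstance
    Module.Finite.trans D' _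
  letI := Algebra.TensorProduct.rightAlgebra (R := B') (A := B) (B := MvPolynomial (Fin n) D'')
  letI := Algebra.TensorProduct.rightAlgebra (R := B') (A := A') (B := MvPolynomial (Fin n) D'')
  letI := Algebra.TensorProduct.rightAlgebra (R := MvPolynomial (Fin n) D'') (A := B ⊗[B'] MvPolynomial (Fin n) D'') (B := D')
  letI := Algebra.TensorProduct.rightAlgebra (R := MvPolynomial (Fin n) D'') (A := A' ⊗[B'] MvPolynomial (Fin n) D'') (B := D')
  haveI := Groth.Agent.MilnorLib.fp_baseChange_quot (P := ↥(EtMil.glue D' φ))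
    (Groth.Agent.MilnorLib.toTensor B' B (MvPolynomial (Fin n) D'') D' D) hPN
  haveI := Groth.Agent.MilnorLib.fp_baseChange_quot (P := ↥(EtMil.glue D' φ))
    (Groth.Agent.MilnorLib.toTensor B' A' (MvPolynomial (Fin n) D'') D' C') hPM
  haveI := Groth.Agent.MilnorLib.finitePresentation_rel hsq (MvPolynomial (Fin n) D'') ↥(EtMil.glue D' φ)
  exact Groth.Agent.MilnorLib.fp_of_surjective (R := MvPolynomial (Fin n) D'') hf

end Groth.Agent.S6922
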