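import Groth.Statements.S6923
import Mathlib
import Groth.Prelude.Def_FlatCA

universe w

namespace Groth.Agent.S6923

theorem surjective_proj {A : Type w} [CommRing A] : ∀ (n : ℕ) (An : ℕ → Type w) [∀ n, CommRing (An n)]
    (t : ∀ n, An (n + 1) →+* An n) (π : ∀ n, A →+* An n), (∀ n, Function.Surjective (t n)) →
    FlatCA.IsRingLimit A An t π → Function.Surjective (π n) := by
  intro n
  induction n with
  | zero =>
    intro An _ t π ht h a
    choose L hL using ht
    let x : ∀ n, An n := fun n => Nat.rec (motive := fun n => An n) a (fun n b => L n b) n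
    obtain ⟨b, hb⟩ := h.2.2 x fun n => hL n (x n)
    exact ⟨b, hb 0⟩
  | succ n ih =>
    intro An _ t π ht h
    refine ih (fun k => An (k + 1)) (fun k => t (k + 1)) (fun k => π (k + 1)) (fun k => ht (k + 1))
      ⟨fun k => h.1 (k + 1), fun a b hab => h.2.1 a b fun k => ?_, fun x hx => ?_⟩
    · cases k with
      | zero => rw [← h.1 0, RingHom.comp_apply, RingHom.comp_apply, hab 0]
      | succ k => exact hab k
    · let y : ∀ j, An j := fun j => Nat.rec (motive := fun j => An j) (t 0 (x 0)) (fun j _ => x j) j
      obtain ⟨a, ha⟩ := h.2.2 y fun j => by cases j with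
        | zero => rfl
        | succ j => exact hx j
      exact ⟨a, fun k => ha (k + 1)⟩

theorem mem_of_smul_top {R : Type w} [CommRing R] {m : ℕ} {I : Ideal R} {v : Fin m → R}
    (h : v ∈ (I • ⊤ : Submodule R (Fin m → R))) (i : Fin m) : v i ∈ I :=
  Submodule.smul_induction_on h (fun _ hr _ _ => I.mul_mem_right _ hr) fun _ _ hx hy => I.add_mem hx hy

/-- A finite flat module has the kernel of a cover generated by any elements generating it modulo a nil ideal. -/
theorem ker_eq_of_nil {R M : Type w} [CommRing R] [AddCommGroup M] [Module R M] [Module.Flat R M]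
    (J : Ideal R) (hJ : ∀ x ∈ J, IsNilpotent x) {m : ℕ} (f : (Fin m → R) →ₗ[R] M) (hf : Function.Surjective f)
    {l : ℕ} (k : Fin l → (Fin m → R)) (hk : ∀ j, f (k j) = 0)
    (hgen : ∀ v, f v = 0 → ∃ c : Fin l → R, ∀ i, v i - (∑ j, c j • k j) i ∈ J) :
    LinearMap.ker f = Submodule.span R (Set.range k) := by
  classical
  refine le_antisymm (fun v hv => ?_) (Submodule.span_le.2 (Set.range_subset_iff.2 hk))
  let K' := Submodule.span R (Set.range k)
  -- an endomorphism into the kernel fixing v and every k j
  let z : Fin (l + 1) → (Fin m → R) := Fin.cons v k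
  let F : (Fin (l + 1) → R) →ₗ[R] (Fin m → R) := Fintype.linearCombination R z
  have hfF : f ∘ₗ F = 0 := LinearMap.pi_ext' fun i => LinearMap.ext_ring (by
    simp only [F, LinearMap.comp_apply, LinearMap.coe_single, Fintype.linearCombination_apply_single, one_smul,
      LinearMap.zero_comp, LinearMap.zero_apply, z]
    cases i using Fin.cases with
    | zero => simpa using hv
    | succ j => simpa using hk j)
  obtain ⟨q, a, y, hxa, haF⟩ := Module.Flat.exists_factorization_of_comp_eq_zero_of_free hfF
  obtain ⟨y', hy'⟩ := Module.projective_lifting_property f y hf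
  let θ : (Fin m → R) →ₗ[R] (Fin m → R) := LinearMap.id - y' ∘ₗ a
  have hθK : ∀ w, f (θ w) = 0 := fun w => by
    simp only [θ, LinearMap.sub_apply, LinearMap.id_apply, LinearMap.comp_apply, map_sub]
    rw [show f (y' (a w)) = y (a w) from LinearMap.congr_fun hy' (a w), hxa, LinearMap.comp_apply, sub_self]
  have hθfix : ∀ i, θ (z i) = z i := fun i => by
    have h0 : a (z i) = 0 := by
      have := LinearMap.congr_fun haF (Pi.single i 1)
      simpa [F] using this
    simp [θ, h0]
  choose c hc using fun i : Fin m => hgen (θ (Pi.single i 1)) (hθK _)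
  let b : Fin m × Fin m → R := fun ij => θ (Pi.single ij.1 1) ij.2 - (∑ j, c ij.1 j • k j) ij.2
  let J' : Ideal R := Ideal.span (Set.range b)
  obtain ⟨N, hN⟩ : IsNilpotent J' := by
    rw [Ideal.FG.isNilpotent_iff_le_nilradical (Submodule.fg_span (Set.finite_range _))]
    refine Ideal.span_le.2 ?_
    rintro _ ⟨⟨i, j⟩, rfl⟩
    exact mem_nilradical.2 (hJ _ (hc i j))
  have hθ1 : ∀ w, θ w ∈ K' ⊔ J' • (⊤ : Submodule R (Fin m → R)) := fun w => by
    rw [pi_eq_sum_univ' w, map_sum]
    refine Submodule.sum_mem _ fun i _ => ?_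
    rw [map_smul]
    refine Submodule.smul_mem _ _ (Submodule.mem_sup.2 ⟨∑ j, c i j • k j, Submodule.sum_mem _ fun j _ =>
      Submodule.smul_mem _ _ (Submodule.subset_span ⟨j, rfl⟩), θ (Pi.single i 1) - ∑ j, c i j • k j, ?_, by abel⟩)
    rw [pi_eq_sum_univ' (θ (Pi.single i 1) - ∑ j, c i j • k j)]
    exact Submodule.sum_mem _ fun j _ => Submodule.smul_mem_smul (Ideal.subset_span ⟨(i, j), rfl⟩) trivial
  have hθK' : K'.map θ ≤ K' := by
    rw [Submodule.map_span, Submodule.span_le]
    rintro _ ⟨_, ⟨j, rfl⟩, rfl⟩
    have := hθfix j.succ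
    simp only [z, Fin.cons_succ] at this
    rw [this]
    exact Submodule.subset_span ⟨j, rfl⟩
  have hpow : ∀ d : ℕ, (⊤ : Submodule R (Fin m → R)).map (θ ^ d) ≤ K' ⊔ J' ^ d • ⊤ := fun d => by
    induction d with
    | zero => rw [pow_zero J', Ideal.one_eq_top, Submodule.top_smul]; exact le_top.trans le_sup_right
    | succ d ih =>
      rw [pow_succ' θ, Module.End.mul_eq_comp, Submodule.map_comp]
      refine le_trans (Submodule.map_mono ih) ?_
      rw [Submodule.map_sup, Submodule.map_smul'']
      refine sup_le (hθK'.trans le_sup_left) ?_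
      refine le_trans (Submodule.smul_mono le_rfl (show Submodule.map θ ⊤ ≤ K' ⊔ J' • ⊤ from ?_)) ?_
      · rintro _ ⟨w, _, rfl⟩; exact hθ1 w
      · rw [Submodule.smul_sup, ← Submodule.smul_assoc, smul_eq_mul, ← pow_succ]
        exact sup_le_sup_right Submodule.smul_le_right _
  have hv' : ∀ d : ℕ, (θ ^ d) v = v := fun d => by
    have h := hθfix 0
    simp only [z, Fin.cons_zero] at h
    induction d with
    | zero => rfl
    | succ d ih => rw [pow_succ', Module.End.mul_apply, ih, h]
  have h := hpow N ⟨v, trivial, hv' N⟩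
  rw [hN, Ideal.zero_eq_bot, Submodule.bot_smul, sup_bot_eq] at h
  exact h

end Groth.Agent.S6923

set_option autoImplicit false
universe u
open Hensel

namespace Groth.Agent.S6923

/-- Let `A = lim A_n` be the limit of an inverse system of rings `(A_n)_{n ≥ 0}` in which each map
`A_{n+1} → A_n` is onto and every element of its kernel is nilpotent. Let `M_n` be `A_n`-modules
with compatible maps `M_{n+1} → M_n` such that `M_0` is finite projective, every `M_n` is finite and
flat over `A_n`, and the maps induce isomorphisms `M_{n+1} ⊗_{A_{n+1}} A_n → M_n` (i.e. are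
surjective with kernel `Ker(A_{n+1} → A_n) M_{n+1}`). Then the inverse limit of the `M_n` is a
finitely generated projective `A`-module whose base change to each `A_n` maps onto `M_n`
isomorphically: there is a finite projective `A`-module `P` with compatible maps `P → M_n`, each
surjective with kernel `Ker(A → A_n) P`, through which `P` maps bijectively onto the compatible
sequences in `∏ M_n`. -/
theorem result (A : Type u) [CommRing A] (An : ℕ → Type u)
    [∀ n, CommRing (An n)] (t : ∀ n, An (n + 1) →+* An n) (π : ∀ n, A →+* An n)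
    (ht : ∀ n, Function.Surjective (t n)) (hnil : ∀ n (x : An (n + 1)), t n x = 0 → IsNilpotent x)
    (hA : FlatCA.IsRingLimit A An t π)
    (M : ℕ → Type u) [∀ n, AddCommGroup (M n)] [∀ n, Module (An n) (M n)] (u : ∀ n, M (n + 1) →ₛₗ[t n] M n)
    [Module.Projective (An 0) (M 0)] (hfin : ∀ n, Module.Finite (An n) (M n)) (hflat : ∀ n, Module.Flat (An n) (M n))
    (hu : ∀ n, Function.Surjective (u n) ∧ LinearMap.ker (u n) = RingHom.ker (t n) • (⊤ : Submodule (An (n + 1)) (M (n + 1)))) :
    ∃ (P : Type u) (_ : AddCommGroup P) (_ : Module A P) (p : ∀ n, P →ₛₗ[π n] M n),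
      Module.Finite A P ∧ Module.Projective A P ∧ (∀ n (x : P), u n (p (n + 1) x) = p n x) ∧
      (∀ n, Function.Surjective (p n) ∧ LinearMap.ker (p n) = RingHom.ker (π n) • (⊤ : Submodule A P)) ∧
      (∀ x : (∀ n, M n), (∀ n, u n (x (n + 1)) = x n) → ∃! q : P, ∀ n, p n q = x n) := by
  classical
  obtain ⟨hπt, hinjA, hexA⟩ := hA
  have hπs := fun n => surjective_proj n An t π ht ⟨hπt, hinjA, hexA⟩
  haveI : ∀ n, Module.Finite (An n) (M n) := hfin
  haveI : ∀ n, Module.Flat (An n) (M n) := hflat
  -- the kernels lie in the Jacobson radical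
  have hjac : ∀ n, RingHom.ker (t n) ≤ Ideal.jacobson (⊥ : Ideal (An (n + 1))) := fun n x hx =>
    Ideal.radical_le_jacobson (mem_nilradical.2 (hnil n x hx))
  obtain ⟨m, g0, hg0⟩ := Module.Finite.exists_fin' (An 0) (M 0)
  choose L hL using fun n => (hu n).1
  let gen : ∀ n, Fin m → M n := fun n => Nat.rec (motive := fun n => Fin m → M n)
    (fun i => g0 (Pi.single i 1)) (fun n g i => L n (g i)) n
  let f : ∀ n, (Fin m → An n) →ₗ[An n] M n := fun n => Fintype.linearCombination (An n) (gen n)
  have hfu : ∀ n (v : Fin m → An (n + 1)), u n (f (n + 1) v) = f n fun i => t n (v i) := fun n v => by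
    simp only [f, Fintype.linearCombination_apply, map_sum, map_smulₛₗ]
    exact Finset.sum_congr rfl fun i _ => congrArg _ (hL n (gen n i))
  have hfs : ∀ n, Function.Surjective (f n) := fun n => by
    induction n with
    | zero =>
      have e : f 0 = g0 := LinearMap.pi_ext' fun i => LinearMap.ext_ring (by simp [f, gen])
      rw [e]; exact hg0
    | succ n ih =>
      refine LinearMap.range_eq_top.1 (top_le_iff.1 (Submodule.le_of_le_smul_of_le_jacobson_bot Module.Finite.fg_top (hjac n) fun y _ => ?_))
      obtain ⟨v, hv⟩ := ih (u n y)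
      choose w hw using fun i => ht n (v i)
      refine Submodule.mem_sup.2 ⟨f (n + 1) w, ⟨w, rfl⟩, y - f (n + 1) w, ?_, by abel⟩
      rw [← (hu n).2, LinearMap.mem_ker, map_sub, hfu, funext hw, hv, sub_self]
  have hproj : ∀ n, Module.Projective (An n) (M n) := fun n => by
    induction n with
    | zero => infer_instance
    | succ n ih =>
      haveI := ih
      obtain ⟨r, hr⟩ : ∃ r : (Fin m → An n) →ₗ[An n] LinearMap.ker (f n), ∀ k : LinearMap.ker (f n), r k = k := by
        obtain ⟨σ, hσ⟩ := Module.projective_lifting_property (f n) LinearMap.id (hfs n)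
        exact ⟨LinearMap.codRestrict _ (LinearMap.id - σ ∘ₗ f n) fun v => by
            simp [LinearMap.mem_ker, map_sub, show ∀ z, f n (σ z) = z from fun z => LinearMap.congr_fun hσ z],
          fun k => Subtype.ext (by simp [LinearMap.mem_ker.1 k.2])⟩
      have hlift : ∀ j : Fin m, ∃ k : Fin m → An (n + 1), f (n + 1) k = 0 ∧ (fun i => t n (k i)) = (r (Pi.single j 1)).1 := by
        intro j
        choose w hw using fun i => ht n ((r (Pi.single j 1)).1 i)
        have h1 : f (n + 1) w ∈ RingHom.ker (t n) • (⊤ : Submodule (An (n + 1)) (M (n + 1))) := by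
          rw [← (hu n).2, LinearMap.mem_ker, hfu, funext hw]
          exact (r (Pi.single j 1)).2
        rw [← LinearMap.range_eq_top.2 (hfs (n + 1)), ← Submodule.map_top, ← Submodule.map_smul'', Submodule.mem_map] at h1
        obtain ⟨d, hd, hd'⟩ := h1
        refine ⟨w - d, by rw [map_sub, hd', sub_self], funext fun i => ?_⟩
        have hdi : d i ∈ RingHom.ker (t n) := mem_of_smul_top hd i
        rw [Pi.sub_apply, map_sub, hw, RingHom.mem_ker.1 hdi, sub_zero]
      choose k hk0 hkt using hlift
      have hK : LinearMap.ker (f (n + 1)) = Submodule.span (An (n + 1)) (Set.range k) := by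
        refine ker_eq_of_nil (RingHom.ker (t n)) (fun x hx => hnil n x hx) (f (n + 1)) (hfs (n + 1)) k hk0 fun v hv => ?_
        refine ⟨v, fun i => ?_⟩
        rw [RingHom.mem_ker, map_sub, sub_eq_zero, Finset.sum_apply, map_sum]
        have hv' : (fun i => t n (v i)) ∈ LinearMap.ker (f n) := by
          rw [LinearMap.mem_ker, ← hfu, hv, map_zero]
        have h2 : ((r fun i => t n (v i)) : Fin m → An n) = fun i => t n (v i) := congrArg Subtype.val (hr ⟨_, hv'⟩)
        have h3 : ((r fun i => t n (v i)) : Fin m → An n) = ∑ j, t n (v j) • (r (Pi.single j 1)).1 := by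
          conv_lhs => rw [pi_eq_sum_univ' (fun i => t n (v i))]
          simp [map_sum]
        rw [← congrFun (h2.symm.trans h3).symm i, Finset.sum_apply]
        refine Finset.sum_congr rfl fun j _ => ?_
        rw [← hkt j]
        simp
      haveI : Module.FinitePresentation (An (n + 1)) (M (n + 1)) :=
        Module.finitePresentation_of_surjective (f (n + 1)) (hfs (n + 1)) (by rw [hK]; exact Submodule.fg_span (Set.finite_range _))
      exact Module.Flat.projective_of_finitePresentation
  -- compatible sections
  have step : ∀ n (s : M n →ₗ[An n] (Fin m → An n)), f n ∘ₗ s = LinearMap.id →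
      ∃ s' : M (n + 1) →ₗ[An (n + 1)] (Fin m → An (n + 1)), f (n + 1) ∘ₗ s' = LinearMap.id ∧
        ∀ y i, t n (s' y i) = s (u n y) i := by
    intro n s hs
    haveI := hproj (n + 1)
    letI : Module (An (n + 1)) (Fin m → An n) := Module.compHom _ (t n)
    let T : (Fin m → An (n + 1)) →ₗ[An (n + 1)] (Fin m → An n) :=
      { toFun := fun v i => t n (v i)
        map_add' := fun v w => funext fun i => map_add (t n) _ _
        map_smul' := fun c v => funext fun i => map_mul (t n) c (v i) }
    let su : M (n + 1) →ₗ[An (n + 1)] (Fin m → An n) :=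
      { toFun := fun y => s (u n y)
        map_add' := fun v w => by rw [map_add, map_add]
        map_smul' := fun c y => by rw [(u n).map_smulₛₗ, map_smul]; rfl }
    obtain ⟨h, hh⟩ := Module.projective_lifting_property T su (fun v => ⟨fun i => (ht n (v i)).choose, funext fun i => (ht n (v i)).choose_spec⟩)
    have hh' : ∀ y i, t n (h y i) = s (u n y) i := fun y i => congrFun (LinearMap.congr_fun hh y) i
    let g := f (n + 1) ∘ₗ h
    have hug : ∀ y, u n (g y) = u n y := fun y => by
      change u n (f (n + 1) (h y)) = _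
      rw [hfu, funext (hh' y)]
      exact LinearMap.congr_fun hs (u n y)
    have hgs : Function.Surjective g := by
      refine LinearMap.range_eq_top.1 (top_le_iff.1 (Submodule.le_of_le_smul_of_le_jacobson_bot Module.Finite.fg_top (hjac n) fun y _ => ?_))
      refine Submodule.mem_sup.2 ⟨g y, ⟨y, rfl⟩, y - g y, ?_, by abel⟩
      rw [← (hu n).2, LinearMap.mem_ker, map_sub, hug, sub_self]
    let e := LinearEquiv.ofBijective g ⟨OrzechProperty.injective_of_surjective_endomorphism g hgs, hgs⟩
    refine ⟨h ∘ₗ e.symm.toLinearMap, LinearMap.ext fun y => e.apply_symm_apply y, fun y i => ?_⟩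
    rw [LinearMap.comp_apply, hh']
    have := hug (e.symm y)
    rw [show g (e.symm y) = y from e.apply_symm_apply y] at this
    rw [← show u n y = u n (e.symm.toLinearMap y) from this]
  obtain ⟨σ0, hσ0⟩ := Module.projective_lifting_property (f 0) LinearMap.id (hfs 0)
  choose S' hS1 hS2 using step
  let Sg : ∀ n, {s : M n →ₗ[An n] (Fin m → An n) // f n ∘ₗ s = LinearMap.id} := fun n =>
    Nat.rec (motive := fun n => {s : M n →ₗ[An n] (Fin m → An n) // f n ∘ₗ s = LinearMap.id})
      ⟨σ0, hσ0⟩ (fun n s => ⟨S' n s.1 s.2, hS1 n s.1 s.2⟩) n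
  let s : ∀ n, M n →ₗ[An n] (Fin m → An n) := fun n => (Sg n).1
  have hfs' : ∀ n y, f n (s n y) = y := fun n y => LinearMap.congr_fun (Sg n).2 y
  have hst : ∀ n y i, t n (s (n + 1) y i) = s n (u n y) i := fun n y i => hS2 n (Sg n).1 (Sg n).2 y i
  -- the idempotent
  have hEx : ∀ i j : Fin m, ∃ a : A, ∀ n, π n a = s n (f n (Pi.single j 1)) i := fun i j => hexA _ fun n => by
    rw [hst, hfu]
    refine congrFun (congrArg (s n) (congrArg (f n) (funext fun l => ?_))) i
    by_cases hl : l = j
    · subst hl; simp
    · simp [hl]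
  choose E0 hE0 using hEx
  let e : (Fin m → A) →ₗ[A] (Fin m → A) := Matrix.toLin' (Matrix.of E0)
  have he : ∀ n v, (fun i => π n (e v i)) = s n (f n fun i => π n (v i)) := fun n v => by
    funext i
    conv_rhs => rw [pi_eq_sum_univ' (fun i => π n (v i))]
    simp only [map_sum, map_smul, Finset.sum_apply, Pi.smul_apply, smul_eq_mul, ← hE0, e, Matrix.toLin'_apply,
      Matrix.mulVec, dotProduct, Matrix.of_apply, map_mul]
    exact Finset.sum_congr rfl fun j _ => mul_comm _ _
  have hext : ∀ v w : Fin m → A, (∀ n, (fun i => π n (v i)) = fun i => π n (w i)) → v = w := fun v w h =>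
    funext fun i => hinjA _ _ fun n => congrFun (h n) i
  have hee : ∀ v, e (e v) = e v := fun v => hext _ _ fun n => by rw [he, he, hfs']
  let P := LinearMap.range e
  let r : (Fin m → A) →ₗ[A] P := e.rangeRestrict
  have hfixP : ∀ x : P, e x.1 = x.1 := fun x => by
    obtain ⟨v, hv⟩ := x.2
    rw [← hv, hee]
  have hr : r ∘ₗ P.subtype = LinearMap.id := LinearMap.ext fun x => Subtype.ext (hfixP x)
  haveI : Module.Finite A P := Module.Finite.of_surjective r e.surjective_rangeRestrict
  haveI : Module.Projective A P := Module.Projective.of_split P.subtype r hr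
  let p : ∀ n, P →ₛₗ[π n] M n := fun n =>
    { toFun := fun x => f n fun i => π n (x.1 i)
      map_add' := fun x y => by
        rw [← map_add]; congr 1; funext i; simp
      map_smul' := fun c x => by
        rw [← map_smul]; congr 1; funext i; simp }
  have hps : ∀ n (x : P), s n (p n x) = fun i => π n (x.1 i) := fun n x => by
    change s n (f n _) = _
    rw [← he, hfixP]
  refine ⟨P, inferInstance, inferInstance, p, inferInstance, inferInstance, fun n x => ?_, fun n => ⟨?_, ?_⟩, fun x hx => ?_⟩
  · change u n (f (n + 1) _) = f n _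
    rw [hfu]
    congr 1
    funext i
    exact RingHom.congr_fun (hπt n) (x.1 i)
  · intro y
    choose v hv using fun i => hπs n (s n y i)
    refine ⟨r v, ?_⟩
    change f n (fun i => π n (e v i)) = y
    rw [he, funext hv, hfs', hfs']
  · refine le_antisymm (fun x hx => ?_) (Submodule.smul_le.2 fun c hc x _ => ?_)
    · have hc : ∀ i, x.1 i ∈ RingHom.ker (π n) := fun i => by
        have h := congrFun (hps n x) i
        rw [LinearMap.mem_ker.1 hx, map_zero] at h
        exact h.symm
      have e' : x = ∑ i, x.1 i • r (Pi.single i 1) := by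
        conv_lhs => rw [← LinearMap.id_apply (R := A) x, ← hr, LinearMap.comp_apply, Submodule.subtype_apply,
          pi_eq_sum_univ' x.1, map_sum]
        simp only [map_smul]
      rw [e']
      exact Submodule.sum_mem _ fun i _ => Submodule.smul_mem_smul (hc i) trivial
    · rw [LinearMap.mem_ker, (p n).map_smulₛₗ, RingHom.mem_ker.1 hc, zero_smul]
  · choose v hv using fun i => hexA (fun n => s n (x n) i) fun n => by rw [hst, hx]
    refine ⟨r v, fun n => ?_, fun q hq => Subtype.ext (hext _ _ fun n => ?_)⟩
    · change f n (fun i => π n (e v i)) = x n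
      rw [he, show (fun i => π n (v i)) = s n (x n) from funext fun i => hv i n, hfs', hfs']
    · rw [← hps n q, hq n]
      change s n (x n) = fun i => π n (e v i)
      rw [he, show (fun i => π n (v i)) = s n (x n) from funext fun i => hv i n, hfs']


end Groth.Agent.S6923
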