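import Groth.Statements.S6924
import Groth.Agent.FittTrLib.Top
import Groth.Agent.FittTrLib.Bot
import Groth.Agent.S6895
-- import your own Groth.Agent.* helpers here

set_option autoImplicit false
set_option backward.isDefEq.respectTransparency false
set_option maxHeartbeats 1000000
universe u
open TensorProduct
open Fitt

namespace Groth.Agent.S6924

/-- Let `M` be a finite `R`-module and `f ∈ R` such that every prime of `D(f)` has a basic open
neighbourhood `D(g) ⊆ D(f)` with `M_g` free of rank `r` (in other words `M_f` is, locally on `D(f)`,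
free of rank `r`). Then there is a finitely generated ideal `I ⊆ R` with `V(I) = V(f)` such that for
every `a ∈ I` and (a copy `R₁` of) the affine blow-up algebra `R[I/a]`, the strict transform `(M ⊗_R
R₁)/(a-power torsion)` is finite locally free of rank `r` over `R₁`. -/
theorem result {R : Type u} [CommRing R] (M : Type u) [AddCommGroup M]
    [Module R M] [Module.Finite R M] (f : R) (r : ℕ)
    (hf : ∀ (p : Ideal R) [p.IsPrime], f ∉ p → ∃ g : R, g ∉ p ∧ g ∈ (Ideal.span {f}).radical ∧
      Module.Free (Localization.Away g) (LocalizedModule (Submonoid.powers g) M) ∧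
        Module.finrank (Localization.Away g) (LocalizedModule (Submonoid.powers g) M) = r) :
    ∃ I : Ideal R, I.FG ∧ I.radical = (Ideal.span {f}).radical ∧ ∀ a ∈ I, ∀ (R₁ : Type u) [CommRing R₁] [Algebra R R₁] (e : R₁ ≃ₐ[R] ↥(BlowUp.affineAlgebra R I a)),
      ∀ (p' : Ideal R₁) [p'.IsPrime], ∃ g : R₁, g ∉ p' ∧
        Module.Free (Localization.Away g) (LocalizedModule (Submonoid.powers g) ((R₁ ⊗[R] M) ⧸ FlatCA.powTorsion R₁ (algebraMap R R₁ a) (R₁ ⊗[R] M))) ∧
        Module.finrank (Localization.Away g) (LocalizedModule (Submonoid.powers g) ((R₁ ⊗[R] M) ⧸ FlatCA.powTorsion R₁ (algebraMap R R₁ a) (R₁ ⊗[R] M))) = r := by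
  classical
  -- the Fitting ideal is the unit ideal on `D(f)`
  have hrad : f ∈ (Fitt.ideal R M r).radical := by
    rw [Ideal.radical_eq_sInf, Submodule.mem_sInf]
    rintro p ⟨hle, hp⟩
    by_contra hfp
    obtain ⟨g, hg, -, hfree, hrk⟩ := hf p hfp
    haveI := hfree
    haveI : Module.Finite (Localization.Away g) (LocalizedModule (Submonoid.powers g) M) :=
      Module.Finite.of_isLocalizedModule (Submonoid.powers g) (LocalizedModule.mkLinearMap _ M)
    haveI : Nontrivial (Localization.Away g) :=
      not_subsingleton_iff_nontrivial.1 fun hs => by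
        obtain ⟨l, hl⟩ := (IsLocalization.subsingleton_iff (M := Submonoid.powers g)).1 hs
        exact hg (hp.mem_of_pow_mem l (by rw [show g ^ l = 0 from hl]; exact p.zero_mem))
    let b := Module.finBasisOfFinrankEq (Localization.Away g) (LocalizedModule (Submonoid.powers g) M) hrk
    refine Groth.Agent.FittLib.not_le_of_span_localized p (Submonoid.powers g) (Set.disjoint_left.2 ?_) b b.span_eq hle
    rintro _ ⟨n, rfl⟩ hn
    exact hg (hp.mem_of_pow_mem n hn)
  obtain ⟨N, hN⟩ := hrad
  obtain ⟨n, x, hx⟩ := Module.Finite.exists_fin (R := R) (M := M)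
  rw [Groth.Agent.FittLib.ideal_eq_D x hx] at hN
  obtain ⟨s, hs, hNs⟩ := Submodule.mem_span_finite_of_mem_span hN
  have hs' : ∀ d : s, ∃ (a : Matrix (Fin n) (Fin n) R) (T : Finset (Fin n)),
      n - r ≤ T.card ∧ (∀ i ∈ T, a i ∈ Groth.Agent.FittLib.Rel (R := R) x) ∧ (d : R) = a.det := fun d => hs d.2
  choose A T hT hA hdet using hs'
  -- a finitely presented cover
  let G : Set (Fin n → R) := ⋃ d : s, (A d) '' (T d : Set (Fin n))
  have hGfin : G.Finite := Set.finite_iUnion fun d => (Finset.finite_toSet _).image _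
  have hGrel : Submodule.span R G ≤ Groth.Agent.FittLib.Rel (R := R) x := Submodule.span_le.mpr (by
    intro v hv
    obtain ⟨d, i, hi, rfl⟩ := Set.mem_iUnion.mp hv
    exact hA d i hi)
  let M' := (Fin n → R) ⧸ Submodule.span R G
  let x' : Fin n → M' := fun i => Submodule.Quotient.mk (Pi.single i 1)
  have hx' : Submodule.span R (Set.range x') = ⊤ := by
    rw [show x' = (Submodule.span R G).mkQ ∘ (Pi.basisFun R (Fin n)) from funext fun i => by simp [x'],
      Set.range_comp, Submodule.span_image, Module.Basis.span_eq, Submodule.map_top, Submodule.range_mkQ]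
  have hrel : Submodule.span R G = Groth.Agent.FittLib.Rel (R := R) x' := by
    ext v
    rw [Groth.Agent.FittLib.mem_rel]
    have : ∑ j, v j • x' j = Submodule.Quotient.mk v := by
      conv_rhs => rw [pi_eq_sum_univ' v]
      simp [x', ← Submodule.mkQ_apply, map_sum]
    rw [this, Submodule.Quotient.mk_eq_zero]
  set J := Fitt.ideal R M' r with hJdef
  have hJD : J = Groth.Agent.FittLib.D R x' r := Groth.Agent.FittLib.ideal_eq_D x' hx' r
  have hfJ : f ^ N ∈ J := by
    rw [hJD]
    refine Submodule.span_le.mpr ?_ hNs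
    intro d hd
    show d ∈ Groth.Agent.FittLib.D R x' r
    rw [show d = (A ⟨d, hd⟩).det from hdet ⟨d, hd⟩]
    exact Groth.Agent.FittLib.det_mem_D _ (hT _) fun i hi =>
      hrel ▸ Submodule.subset_span (Set.mem_iUnion.mpr ⟨⟨d, hd⟩, i, hi, rfl⟩)
  have hJfg : J.FG := by
    rw [hJD, Groth.Agent.FittLib.D_eq_span_gen x' G hrel r]
    refine Submodule.fg_span (Set.Finite.subset
      ((Set.Finite.pi fun _ : Fin n => hGfin.union (Set.finite_range fun j : Fin n => (Pi.single j (1 : R) : Fin n → R))).image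
        fun a => (Matrix.of a).det) ?_)
    rintro _ ⟨a, T', -, ha, ha', rfl⟩
    refine ⟨a, fun i _ => ?_, rfl⟩
    by_cases hi : i ∈ T'
    · exact Or.inl (ha i hi)
    · obtain ⟨j, hj⟩ := ha' i hi
      exact Or.inr ⟨j, hj.symm⟩
  refine ⟨Ideal.span {f} * J, Submodule.FG.mul (Submodule.fg_span_singleton f) hJfg, ?_, ?_⟩
  · refine le_antisymm (Ideal.radical_mono Ideal.mul_le_left) ?_
    rw [Ideal.radical_le_radical_iff, Ideal.span_singleton_le_iff_mem]
    exact ⟨N + 1, by rw [pow_succ']; exact Ideal.mul_mem_mul (Ideal.mem_span_singleton_self f) hfJ⟩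
  intro a ha R₁ _ _ e
  obtain ⟨b₀, hb₀, hab⟩ := Ideal.mem_span_singleton_mul.mp ha
  have hab' : algebraMap R (Localization.Away a) f * algebraMap R (Localization.Away a) b₀ =
      algebraMap R (Localization.Away a) a := by rw [← map_mul, hab]
  have ha_unit := IsUnit.mul_iff.mp (hab'.symm ▸ IsLocalization.Away.algebraMap_isUnit (S := Localization.Away a) a)
  let b := algebraMap R R₁ b₀
  have hreg : ∀ z : R₁, b * z = 0 → z = 0 := fun z hz => by
    apply e.injective
    apply Subtype.ext
    have h := congrArg (fun w => ((e w : ↥(BlowUp.affineAlgebra R (Ideal.span {f} * J) a)) : Localization.Away a)) hz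
    simp only [map_mul, map_zero, b, AlgEquiv.commutes, Subalgebra.coe_mul, Subalgebra.coe_algebraMap,
      Subalgebra.coe_zero] at h
    rw [map_zero, Subalgebra.coe_zero]
    exact (ha_unit.2.mul_right_eq_zero).1 h
  have hdiv : ∀ y ∈ J, ∃ t : R₁, algebraMap R R₁ y = b * t := fun y hy => by
    refine ⟨e.symm ⟨_, Algebra.subset_adjoin ⟨f * y, Ideal.mul_mem_mul (Ideal.mem_span_singleton_self f) hy, rfl⟩⟩, ?_⟩
    apply e.injective
    apply Subtype.ext
    simp only [map_mul, b, AlgEquiv.commutes, AlgEquiv.apply_symm_apply, Subalgebra.coe_mul,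
      Subalgebra.coe_algebraMap]
    refine ha_unit.1.mul_left_cancel ?_
    rw [← mul_assoc, hab', ← map_mul]
    exact (IsLocalization.mk'_spec' (Localization.Away a) (f * y) _).symm
  have hmap : J.map (algebraMap R R₁) = Ideal.span {b} := by
    refine le_antisymm (Ideal.map_le_iff_le_comap.2 fun y hy => ?_) ?_
    · obtain ⟨t, ht⟩ := hdiv y hy
      exact Ideal.mem_span_singleton'.2 ⟨t, by rw [ht, mul_comm]⟩
    · rw [Ideal.span_singleton_le_iff_mem]
      exact Ideal.mem_map_of_mem _ hb₀
  set W := FlatCA.powTorsion R₁ (algebraMap R R₁ a) (R₁ ⊗[R] M) with hW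
  set W' := FlatCA.powTorsion R₁ (algebraMap R R₁ a) (R₁ ⊗[R] M') with hW'
  have htop' : Fitt.ideal R₁ ((R₁ ⊗[R] M') ⧸ W') r = ⊤ :=
    Groth.Agent.FittTrLib.ideal_quot_eq_top M' r R₁ b hreg hmap W' fun z hz =>
      Submodule.mem_iSup_of_mem 1 ((Submodule.mem_torsionBy_iff _ _).2 (by
        rw [pow_one, ← hab, map_mul, mul_smul, show algebraMap R R₁ b₀ • z = 0 from hz, smul_zero]))
  let π : M' →ₗ[R] M := (Submodule.span R G).liftQ (Fintype.linearCombination R x) hGrel
  have hπ : Function.Surjective π := fun y => by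
    obtain ⟨v, hv⟩ := LinearMap.range_eq_top.mp (Fintype.range_linearCombination R x ▸ hx) y
    exact ⟨Submodule.Quotient.mk v, hv⟩
  let πB := π.baseChange R₁
  have hπB : W' ≤ W.comap πB := iSup_le fun m z hz => by
    rw [Submodule.mem_comap]
    refine Submodule.mem_iSup_of_mem m ?_
    rw [Submodule.mem_torsionBy_iff] at hz ⊢
    rw [← map_smul, hz, map_zero]
  have hsur : Function.Surjective (W'.mapQ W πB hπB) := fun y => by
    obtain ⟨y, rfl⟩ := Submodule.Quotient.mk_surjective _ y
    obtain ⟨z, rfl⟩ := LinearMap.lTensor_surjective R₁ hπ y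
    exact ⟨Submodule.Quotient.mk z, rfl⟩
  have htop : Fitt.ideal R₁ ((R₁ ⊗[R] M) ⧸ W) r = ⊤ :=
    top_le_iff.mp (htop'.ge.trans (Groth.Agent.FittLib.ideal_mono_of_surjective _ hsur r))
  intro p' hp'
  refine ((Groth.Agent.S6895.result _ r).mpr ⟨fun j hj => ?_, fun j hj => ?_⟩) p'
  · refine Groth.Agent.FittTrLib.ideal_transform_eq_bot_of_map M a (Ideal.span {f} * J) R₁ e j
      (Groth.Agent.FittTrLib.map_away_eq_bot_of_local _ a _ fun p _ hap y hy => ?_)
    obtain ⟨g, hg, -, hfree, hrk⟩ := hf p fun h => hap (hab ▸ p.mul_mem_right b₀ h)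
    haveI := hfree
    haveI : Module.Finite (Localization.Away g) (LocalizedModule (Submonoid.powers g) M) :=
      Module.Finite.of_isLocalizedModule (Submonoid.powers g) (LocalizedModule.mkLinearMap _ M)
    haveI : Nontrivial (Localization.Away g) :=
      not_subsingleton_iff_nontrivial.1 fun hs => by
        obtain ⟨l, hl⟩ := (IsLocalization.subsingleton_iff (M := Submonoid.powers g)).1 hs
        exact hg ((inferInstance : p.IsPrime).mem_of_pow_mem l (by rw [show g ^ l = 0 from hl]; exact p.zero_mem))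
    have h1 : (Fitt.ideal R M j).map (algebraMap R (Localization.Away g)) = ⊥ := by
      rw [← Groth.Agent.FittLib.ideal_baseChange, ← Groth.Agent.FittLib.ideal_eq_of_equiv
        (IsLocalizedModule.isBaseChange (Submonoid.powers g) (Localization.Away g)
          (LocalizedModule.mkLinearMap (Submonoid.powers g) M)).equiv.symm j]
      exact Groth.Agent.FittTrLib.ideal_eq_bot_of_free hrk hj
    rw [Ideal.map_eq_bot_iff_le_ker] at h1
    obtain ⟨⟨_, m, rfl⟩, hsx⟩ := (IsLocalization.map_eq_zero_iff (Submonoid.powers g) (Localization.Away g) y).mp (h1 hy)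
    exact ⟨g ^ m, fun h => hg ((inferInstance : p.IsPrime).mem_of_pow_mem m h), hsx⟩
  · exact top_le_iff.mp (htop.ge.trans (Groth.Agent.FittTrLib.ideal_mono_index hj))

end Groth.Agent.S6924
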