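import Groth.Statements.S6925
import Mathlib
import Groth.Agent.FlattenIdealLib.Basic

set_option autoImplicit false
universe u
open TensorProduct
open FlatMor

namespace Groth.Agent.S6925

/-- Let `(R, 𝔪)` be a complete Noetherian local ring, `R → S` a ring map with `S` Noetherian and `M` a
finite `S`-module. Then among ideals contained in `𝔪`, there is a smallest one `I` with the
following property: whenever `𝔮` is a prime of `S` lying over `𝔪`, the module `(M/IM)_𝔮` is
`R/I`-flat. Namely, `I ⊆ 𝔪` has this property, and every ideal `J` with the property contains `I`. -/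
theorem result (R S : Type u) [CommRing R] [IsLocalRing R]
    [IsNoetherianRing R] [IsAdicComplete (IsLocalRing.maximalIdeal R) R] [CommRing S] [Algebra R S] [IsNoetherianRing S]
    (M : Type u) [AddCommGroup M] [Module S M] [Module R M] [IsScalarTower R S M] [Module.Finite S M] :
    ∃ I : Ideal R, I ≤ IsLocalRing.maximalIdeal R ∧
      (∀ (q : Ideal S) [q.IsPrime], q.comap (algebraMap R S) = IsLocalRing.maximalIdeal R →
        Module.Flat (R ⧸ I) ((R ⧸ I) ⊗[R] LocalizedModule q.primeCompl M)) ∧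
      ∀ J : Ideal R, (∀ (q : Ideal S) [q.IsPrime], q.comap (algebraMap R S) = IsLocalRing.maximalIdeal R →
        Module.Flat (R ⧸ J) ((R ⧸ J) ⊗[R] LocalizedModule q.primeCompl M)) → I ≤ J := by
  classical
  let m := IsLocalRing.maximalIdeal R
  let Good : Ideal R → Prop := fun J => ∀ (q : Ideal S) [q.IsPrime], q.comap (algebraMap R S) = m →
    Module.Flat (R ⧸ J) ((R ⧸ J) ⊗[R] LocalizedModule q.primeCompl M)
  have hmono : ∀ J J' : Ideal R, J ≤ J' → Good J → Good J' := by
    intro J J' hle h q _ hq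
    haveI := h q hq
    exact Groth.Agent.FlattenIdealLib.flat_map (Ideal.Quotient.factorₐ R hle)
  have hinf : ∀ (J J' : Ideal R) (n : ℕ), m ^ n ≤ J ⊓ J' → Good J → Good J' → Good (J ⊓ J') :=
    fun J J' n hn h h' q _ hq => Groth.Agent.FlattenIdealLib.flat_inf J J' n hn (h q hq) (h' q hq)
  have hGm : Good m := by
    intro q _ hq
    letI : Field (R ⧸ m) := Ideal.Quotient.field m
    exact Module.Flat.of_free
  have hmin : ∀ n : ℕ, ∃ L : Ideal R, m ^ n ≤ L ∧ Good L ∧ ∀ J : Ideal R, m ^ n ≤ J → Good J → L ≤ J := by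
    intro n
    have hart : IsArtinianRing (R ⧸ m ^ n) := Groth.Agent.FlattenIdealLib.isArtinianRing_quotient_pow n
    obtain ⟨_, ⟨L, ⟨hL, hLG⟩, rfl⟩, hLmin⟩ := IsArtinian.set_has_minimal
      ((fun J : Ideal R => J.map (Ideal.Quotient.mk (m ^ n))) '' {J | m ^ n ≤ J ∧ Good J})
      ⟨_, ⟨⊤, ⟨le_top, fun q _ _ => by
        haveI : Subsingleton (R ⧸ (⊤ : Ideal R)) := Ideal.Quotient.subsingleton_iff.mpr rfl
        haveI : Subsingleton ((R ⧸ (⊤ : Ideal R)) ⊗[R] LocalizedModule q.primeCompl M) :=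
          Module.subsingleton (R ⧸ (⊤ : Ideal R)) _
        exact Module.Flat.of_free⟩, rfl⟩⟩
    refine ⟨L, hL, hLG, fun J hJ hJG => ?_⟩
    have h1 : (L ⊓ J).map (Ideal.Quotient.mk (m ^ n)) = L.map (Ideal.Quotient.mk (m ^ n)) := by
      by_contra hne
      exact hLmin _ ⟨L ⊓ J, ⟨le_inf hL hJ, hinf L J n (le_inf hL hJ) hLG hJG⟩, rfl⟩
        (lt_of_le_of_ne (Ideal.map_mono inf_le_left) hne)
    intro x hx
    have h2 : x ∈ ((L ⊓ J).map (Ideal.Quotient.mk (m ^ n))).comap (Ideal.Quotient.mk (m ^ n)) := by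
      rw [h1]; exact Ideal.mem_map_of_mem _ hx
    rw [Ideal.comap_map_of_surjective _ Ideal.Quotient.mk_surjective, ← RingHom.ker_eq_comap_bot,
      Ideal.mk_ker, sup_eq_left.mpr (le_inf hL hJ)] at h2
    exact h2.2
  choose L hL hLG hLmin using hmin
  let I := ⨅ n, L n
  have hL1 : L 1 ≤ m := hLmin 1 m (by rw [pow_one]) hGm
  have hIm : I ≤ m := (iInf_le L 1).trans hL1
  have hanti : ∀ {a b : ℕ}, a ≤ b → L b ≤ L a := fun h =>
    hLmin _ _ ((Ideal.pow_le_pow_right h).trans (hL _)) (hLG _)
  refine ⟨I, hIm, fun q _ hq => ?_, fun J hJ => ?_⟩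
  · -- `I` works
    haveI : IsLocalRing (R ⧸ I) := by
      haveI : Nontrivial (R ⧸ I) :=
        Ideal.Quotient.nontrivial_iff.mpr (ne_top_of_le_ne_top (IsLocalRing.maximalIdeal.isMaximal R).ne_top hIm)
      exact IsLocalRing.of_surjective' _ Ideal.Quotient.mk_surjective
    haveI : IsAdicComplete (IsLocalRing.maximalIdeal (R ⧸ I)) (R ⧸ I) :=
      FiniteCompleteLib.isAdicComplete_maximalIdeal R (R ⧸ I)
    have hGn : ∀ n, Good (I ⊔ m ^ n) := by
      intro n
      obtain ⟨i, hi⟩ := Groth.Agent.ChevLemLib.exists_le_pow (R := R ⧸ I)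
        (fun i => (L i).map (Ideal.Quotient.mk I))
        (fun i j => ⟨max i j, le_inf (Ideal.map_mono (hanti (le_max_left _ _)))
          (Ideal.map_mono (hanti (le_max_right _ _)))⟩)
        (fun x hx => by
          obtain ⟨x, rfl⟩ := Ideal.Quotient.mk_surjective x
          refine Ideal.Quotient.eq_zero_iff_mem.mpr ((Submodule.mem_iInf _).mpr fun i => ?_)
          have := Ideal.mem_comap.mpr (hx i)
          rwa [Ideal.comap_map_of_surjective _ Ideal.Quotient.mk_surjective, ← RingHom.ker_eq_comap_bot,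
            Ideal.mk_ker, sup_eq_left.mpr (iInf_le L i)] at this) n
      refine hmono (L i) _ (fun x hx => ?_) (hLG i)
      have := hi (Ideal.mem_map_of_mem _ hx)
      rw [← IsLocalRing.map_maximalIdeal_of_surjective _ Ideal.Quotient.mk_surjective, ← Ideal.map_pow,
        ← Ideal.mem_comap, Ideal.comap_map_of_surjective _ Ideal.Quotient.mk_surjective,
        ← RingHom.ker_eq_comap_bot, Ideal.mk_ker, sup_comm] at this
      exact this
    haveI : Module.Finite (Localization.AtPrime q) (LocalizedModule q.primeCompl M) :=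
      Module.Finite.of_isLocalizedModule q.primeCompl (LocalizedModule.mkLinearMap q.primeCompl M)
    have hloc : m.map (algebraMap R (Localization.AtPrime q)) ≤ IsLocalRing.maximalIdeal (Localization.AtPrime q) := by
      rw [IsScalarTower.algebraMap_eq R S (Localization.AtPrime q), ← Ideal.map_map,
        ← Localization.AtPrime.map_eq_maximalIdeal]
      exact Ideal.map_mono (Ideal.map_le_iff_le_comap.mpr hq.ge)
    haveI : IsNoetherianRing (Localization.AtPrime q) :=
      IsLocalization.isNoetherianRing q.primeCompl _ inferInstance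
    exact Groth.Agent.FlattenIdealLib.flat_quotient (T := Localization.AtPrime q) hloc I fun n => hGn n q hq
  · -- `I` is the smallest
    by_cases hJt : J = ⊤
    · rw [hJt]; exact le_top
    haveI : Nontrivial (R ⧸ J) := Ideal.Quotient.nontrivial_iff.mpr hJt
    haveI : IsLocalRing (R ⧸ J) := IsLocalRing.of_surjective' _ Ideal.Quotient.mk_surjective
    intro x hx
    rw [← Ideal.Quotient.eq_zero_iff_mem]
    have h : Ideal.Quotient.mk J x ∈ ⨅ n : ℕ, IsLocalRing.maximalIdeal (R ⧸ J) ^ n := by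
      refine (Submodule.mem_iInf _).mpr fun n => ?_
      have h1 : x ∈ J ⊔ m ^ n :=
        hLmin n _ le_sup_right (hmono J _ le_sup_left hJ) ((Submodule.mem_iInf _).mp hx n)
      rw [← IsLocalRing.map_maximalIdeal_of_surjective _ Ideal.Quotient.mk_surjective, ← Ideal.map_pow]
      obtain ⟨a, ha, b, hb, rfl⟩ := Submodule.mem_sup.mp h1
      rw [map_add, Ideal.Quotient.eq_zero_iff_mem.mpr ha, zero_add]
      exact Ideal.mem_map_of_mem _ hb
    rwa [Ideal.iInf_pow_eq_bot_of_isLocalRing _ (IsLocalRing.maximalIdeal.isMaximal _).ne_top,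
      Submodule.mem_bot] at h

end Groth.Agent.S6925
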