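import Groth.Statements.S6927
import Groth.Agent.FlatIdealLib.Least
import Groth.Agent.FlatIdealLib.Chart
-- import your own Groth.Agent.* helpers here

set_option autoImplicit false
set_option linter.style.haveILetI false
set_option backward.isDefEq.respectTransparency false
set_option backward.isDefEq.respectTransparency.types false
set_option maxHeartbeats 1000000
universe u
open TensorProduct
open FlatMor

namespace Groth.Agent.S6927

/-- Let `(R, 𝔪)` be a complete Noetherian local ring, `R → S` of finite type, `M` a finite `S`-module,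
and `I ⊆ 𝔪` the least ideal for which, at every prime `𝔮` of `S` lying over `𝔪`, the localization
`(M/IM)_𝔮` is an `R/I`-flat module. Then for every local homomorphism `φ : R → R'` of local rings
(`R'` arbitrary), with `S' = S ⊗_R R'` and `M' = M ⊗_R R'`: `M'_{𝔮'}` is flat over `R'` for every
prime `𝔮'` of `S'` over `𝔪'` if and only if `φ(I) = 0`. -/
theorem result {R S R' S' : Type u} [CommRing R] [IsLocalRing R]
    [IsNoetherianRing R] [IsAdicComplete (IsLocalRing.maximalIdeal R) R] [CommRing S]
    [CommRing R'] [IsLocalRing R'] [CommRing S']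
    [Algebra R S] [Algebra.FiniteType R S] [Algebra R R'] [IsLocalHom (algebraMap R R')] [Algebra S S'] [Algebra R' S']
    [Algebra R S'] [IsScalarTower R S S'] [IsScalarTower R R' S'] [Algebra.IsPushout R S R' S']
    {M M' : Type u} [AddCommGroup M] [Module S M] [Module R M] [IsScalarTower R S M] [Module.Finite S M]
    [AddCommGroup M'] [Module S' M'] [Module R' M'] [IsScalarTower R' S' M'] [Module S M'] [IsScalarTower S S' M']
    (f : M →ₗ[S] M') (hf : IsBaseChange S' f) (I : Ideal R) (hIm : I ≤ IsLocalRing.maximalIdeal R)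
    (hI : (∀ (q : Ideal S) [q.IsPrime], q.comap (algebraMap R S) = IsLocalRing.maximalIdeal R →
        Module.Flat (R ⧸ I) ((R ⧸ I) ⊗[R] LocalizedModule q.primeCompl M)))
    (hmin : ∀ J : Ideal R, (∀ (q : Ideal S) [q.IsPrime], q.comap (algebraMap R S) = IsLocalRing.maximalIdeal R →
        Module.Flat (R ⧸ J) ((R ⧸ J) ⊗[R] LocalizedModule q.primeCompl M)) → I ≤ J) :
    (∀ (q' : Ideal S') [q'.IsPrime], q'.comap (algebraMap R' S') = IsLocalRing.maximalIdeal R' → FlatCA.FlatAt R' q' M') ↔
      I ≤ RingHom.ker (algebraMap R R') := by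
  classical
  refine ⟨fun h => ?_, fun h q' _ hq' => FlatIdealLib.flatAt_of_le_ker f hf I hI h q' hq'⟩
  haveI : HenselianLocalRing R :=
    { is_henselian := fun f hf a₀ h1 h2 => (IsAdicComplete.henselianRing R (IsLocalRing.maximalIdeal R)).is_henselian f hf a₀ h1 (h2.map _) }
  let Z := {q : PrimeSpectrum S // q.asIdeal.comap (algebraMap R S) = IsLocalRing.maximalIdeal R}
  choose J hJ using fun z : Z =>
    haveI : z.1.asIdeal.LiesOver (IsLocalRing.maximalIdeal R) := ⟨z.2.symm⟩
    FlatIdealLib.exists_parts (A := R) M z.1.asIdeal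
  have hJker : ⨆ z, J z ≤ RingHom.ker (algebraMap R R') := iSup_le fun z =>
    Ideal.map_eq_bot_iff_le_ker (algebraMap R R') |>.1
      ((hJ z).vanish R' S' M' f hf fun Q _ _ hQ => h Q hQ)
  refine (hmin _ fun q _ hq => ?_).trans hJker
  have hI'm : ⨆ z, J z ≤ IsLocalRing.maximalIdeal R := iSup_le fun z => (hJ z).le_max
  let I' := ⨆ z, J z
  let R₁ := R ⧸ I'
  haveI : Nontrivial R₁ := Ideal.Quotient.nontrivial_iff.2
    (ne_top_of_le_ne_top (IsLocalRing.maximalIdeal.isMaximal R).ne_top hI'm)
  haveI : IsLocalRing R₁ := IsLocalRing.of_surjective' _ Ideal.Quotient.mk_surjective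
  haveI : IsLocalHom (algebraMap R R₁) := IsLocalHom.of_surjective _ Ideal.Quotient.mk_surjective
  obtain ⟨S₁, M₁, _, _, _, _, _, _, hpo, _, _, _, _, _, _, g, hg⟩ := FlatIdealLib.exists_models (A := R) (S := S) M R₁
  haveI := hpo
  haveI : Algebra.IsPushout R R₁ S S₁ := Algebra.IsPushout.symm inferInstance
  have hsurj : Function.Surjective (algebraMap S S₁) := by
    intro x
    obtain ⟨t, rfl⟩ := (Algebra.IsPushout.equiv R S R₁ S₁).surjective x
    induction t with
    | zero => exact ⟨0, by simp⟩
    | add a b ha hb =>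
      obtain ⟨a', ha'⟩ := ha
      obtain ⟨b', hb'⟩ := hb
      exact ⟨a' + b', by rw [map_add, ha', hb', map_add]⟩
    | tmul s r =>
      obtain ⟨r, rfl⟩ := Ideal.Quotient.mk_surjective r
      refine ⟨s * algebraMap R S r, ?_⟩
      rw [Algebra.IsPushout.equiv_tmul, map_mul, ← IsScalarTower.algebraMap_apply,
        IsScalarTower.algebraMap_apply R R₁ S₁, Ideal.Quotient.algebraMap_eq]
  refine FlatIdealLib.flat_tensor_localized (A := R) (A' := R₁) g hg q.primeCompl fun P _ hP => ?_
  let z : Z := ⟨⟨q, inferInstance⟩, hq⟩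
  have hle : P.comap (algebraMap S S₁) ≤ q := fun s hs => by
    by_contra hsq
    exact Set.disjoint_left.1 hP (Algebra.mem_algebraMapSubmonoid_of_mem ⟨s, hsq⟩) hs
  have hker : RingHom.ker (algebraMap S S₁) ≤ q := le_trans (Ideal.comap_mono bot_le) hle
  let Q : Ideal S₁ := q.map (algebraMap S S₁)
  haveI : Q.IsPrime := Ideal.map_isPrime_of_surjective hsurj hker
  have hQq : Q.comap (algebraMap S S₁) = q := by
    rw [Ideal.comap_map_of_surjective _ hsurj, ← RingHom.ker_eq_comap_bot, sup_eq_left.2 hker]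
  have hPQ : P ≤ Q := by
    rw [← Ideal.map_comap_of_surjective _ hsurj P]
    exact Ideal.map_mono hle
  have hQm : Q.comap (algebraMap R₁ S₁) = IsLocalRing.maximalIdeal R₁ := by
    refine Ideal.comap_injective_of_surjective (algebraMap R R₁) Ideal.Quotient.mk_surjective ?_
    rw [Ideal.comap_comap, ← IsScalarTower.algebraMap_eq, IsScalarTower.algebraMap_eq R S S₁, ← Ideal.comap_comap,
      hQq, hq, IsLocalRing.maximalIdeal_comap]
  haveI : Module.Flat R₁ (LocalizedModule Q.primeCompl M₁) :=
    ((hJ z).rep R₁ S₁ M₁ g hg).2 (by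
      rw [Ideal.map_eq_bot_iff_le_ker, Ideal.Quotient.algebraMap_eq, Ideal.mk_ker]
      exact le_iSup J z) Q hQq hQm
  exact FlatLocus.flat_localized_of_le (A := R₁) (C := S₁) (M := M₁) Q.primeCompl P.primeCompl
    (fun x hx hxP => hx (hPQ hxP)) (LocalizedModule.mkLinearMap Q.primeCompl M₁) (LocalizedModule.mkLinearMap P.primeCompl M₁)

end Groth.Agent.S6927
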