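import Groth.Statements.S6928
import Groth.Agent.FlatIdealLib.StageAlong
-- import your own Groth.Agent.* helpers here

set_option autoImplicit false
set_option linter.style.haveILetI false
set_option backward.isDefEq.respectTransparency false
set_option backward.isDefEq.respectTransparency.types false
set_option maxHeartbeats 1000000
universe u
open FlatMor

namespace Groth.Agent.S6928

/-- Let `R → S` be a ring map that is essentially of finite presentation, `J ⊆ S` an ideal and `M` a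
finitely presented `S`-module. Let `(R_λ)` be a directed system of `R`-algebras with colimit `R'`,
and `I_λ ⊆ R_λ` ideals with `I_λ R_μ ⊆ I_μ`, `I' = colim I_λ`, `S' = S ⊗_R R'`, `M' = M ⊗_R R'`. If
`M'_{𝔮'}` is flat over `R'` for every prime `𝔮' ⊇ I'S' + JS'`, then there is `λ` such that, with
`S_λ = S ⊗_R R_λ` and `M_λ = M ⊗_R R_λ`, `(M_λ)_𝔮` is flat over `R_λ` for every prime `𝔮 ⊇ I_λ S_λ +
J S_λ`. -/
theorem result {R S : Type u} [CommRing R] [CommRing S] [Algebra R S] (hS : FlatCA.EssFinitePresentation R S)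
    {M : Type u} [AddCommGroup M] [Module S M] [Module R M] [IsScalarTower R S M] [Module.FinitePresentation S M]
    {ι : Type u} [Preorder ι] (G : ι → Type u) [∀ i, CommRing (G i)] [∀ i, Algebra R (G i)]
    (g : ∀ i j, i ≤ j → G i →+* G j) (hgR : ∀ i j (h : i ≤ j), (g i j h).comp (algebraMap R (G i)) = algebraMap R (G j))
    (R' : Type u) [CommRing R'] [Algebra R R'] [∀ i, Algebra (G i) R'] [∀ i, IsScalarTower R (G i) R']
    (hcolim : FlatCA.IsDirectedColimitRing G g R')
    (Il : ∀ i, Ideal (G i)) (hIl : ∀ i j (h : i ≤ j), (Il i).map (g i j h) ≤ Il j)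
    {S' : Type u} [CommRing S'] [Algebra S S'] [Algebra R' S'] [Algebra R S'] [IsScalarTower R S S']
    [IsScalarTower R R' S'] [Algebra.IsPushout R S R' S']
    {M' : Type u} [AddCommGroup M'] [Module S' M'] [Module R' M'] [IsScalarTower R' S' M'] [Module S M']
    [IsScalarTower S S' M'] (f : M →ₗ[S] M') (hf : IsBaseChange S' f)
    (J : Ideal S)
    (h : ∀ (q' : Ideal S') [q'.IsPrime],
      (⨆ i, (Il i).map (algebraMap (G i) R')).map (algebraMap R' S') ⊔ J.map (algebraMap S S') ≤ q' →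
        FlatCA.FlatAt R' q' M') :
    ∃ i : ι, ∀ (Si Mi : Type u) [CommRing Si] [Algebra S Si] [Algebra (G i) Si] [Algebra R Si] [IsScalarTower R S Si]
      [IsScalarTower R (G i) Si] [Algebra.IsPushout R S (G i) Si] [AddCommGroup Mi] [Module Si Mi] [Module (G i) Mi]
      [IsScalarTower (G i) Si Mi] [Module S Mi] [IsScalarTower S Si Mi] (fi : M →ₗ[S] Mi), IsBaseChange Si fi →
      ∀ (q : Ideal Si) [q.IsPrime], (Il i).map (algebraMap (G i) Si) ⊔ J.map (algebraMap S Si) ≤ q → FlatCA.FlatAt (G i) q Mi := by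
  classical
  obtain ⟨S₀, _, _, _, _, T, hfp, hloc⟩ := hS
  haveI := hfp
  haveI := hloc
  letI : Module S₀ M := Module.compHom M (algebraMap S₀ S)
  haveI : IsScalarTower S₀ S M := .of_algebraMap_smul fun _ _ => rfl
  obtain ⟨M₀, _, _, _, g₀, hg₀⟩ := EssFPLib.exists_module_model (B := S₀) (L := S) T M
  haveI := hg₀
  letI : Module R M₀ := Module.compHom M₀ (algebraMap R S₀)
  haveI : IsScalarTower R S₀ M₀ := .of_algebraMap_smul fun _ _ => rfl
  let gA : ∀ i j, i ≤ j → G i →ₐ[R] G j := fun i j h =>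
    { g i j h with commutes' := fun r => RingHom.congr_fun (hgR i j h) r }
  let J₀ : Ideal S₀ := J.comap (algebraMap S₀ S)
  have hJ : J₀.map (algebraMap S₀ S) = J := IsLocalization.map_comap T S J
  let I' : Ideal R' := ⨆ i, (Il i).map (algebraMap (G i) R')
  obtain ⟨h1, h2⟩ := FlatIdealLib.locus_model (R := R) (S₀ := S₀) (S := S) T g₀ R' S' M' f hf
  obtain ⟨k, hk⟩ := FlatIdealLib.exists_zone_stage (R := R) (S₀ := S₀) (M₀ := M₀) (g := gA) hcolim Il hIl T J₀ (by
    intro P hP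
    obtain ⟨q, rfl⟩ := (h2 P).2 hP.2
    refine (h1 q).2 (h q.asIdeal ?_)
    refine sup_le (le_trans ?_ (Ideal.map_le_iff_le_comap.2 (le_sup_left.trans hP.1))) ?_
    · rw [Ideal.map_map]
      refine le_of_eq (congrArg (fun φ => I'.map φ) (RingHom.ext fun x => ?_))
      show _ = FlatIdealLib.modelMap (R := R) S₀ S R' S' (x ⊗ₜ[R] (1 : S₀))
      simp [FlatIdealLib.modelMap]
    · rw [← hJ, Ideal.map_map]
      refine le_trans ?_ (Ideal.map_le_iff_le_comap.2 (le_sup_right.trans hP.1))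
      rw [Ideal.map_map]
      refine le_of_eq (congrArg (fun φ => J₀.map φ) (RingHom.ext fun x => ?_))
      show _ = FlatIdealLib.modelMap (R := R) S₀ S R' S' ((1 : R') ⊗ₜ[R] x)
      simp [FlatIdealLib.modelMap])
  refine ⟨k, ?_⟩
  intro Si Mi _ _ _ _ _ _ hpo _ _ _ _ _ _ fi hfi q _ hq
  haveI := hpo
  obtain ⟨g1, g2⟩ := FlatIdealLib.locus_model (R := R) (S₀ := S₀) (S := S) T g₀ (G k) Si Mi fi hfi
  refine (g1 ⟨q, inferInstance⟩).1 (hk ⟨?_, (g2 _).1 ⟨_, rfl⟩⟩)
  refine sup_le ?_ ?_ <;> rw [Ideal.map_le_iff_le_comap] <;> intro x hx <;>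
    rw [Ideal.mem_comap, PrimeSpectrum.comap_asIdeal, Ideal.mem_comap]
  · show FlatIdealLib.modelMap (R := R) S₀ S (G k) Si (x ⊗ₜ[R] (1 : S₀)) ∈ q
    simpa [FlatIdealLib.modelMap] using hq (Ideal.mem_sup_left (Ideal.mem_map_of_mem _ hx))
  · show FlatIdealLib.modelMap (R := R) S₀ S (G k) Si ((1 : G k) ⊗ₜ[R] x) ∈ q
    simpa [FlatIdealLib.modelMap] using hq (Ideal.mem_sup_right (Ideal.mem_map_of_mem _ (show algebraMap S₀ S x ∈ J from hx)))

end Groth.Agent.S6928
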