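import Groth.Statements.S6929
import Groth.Agent.EtAlgEasy.FibreFT
-- import your own Groth.Agent.* helpers here

set_option autoImplicit false
universe u
open EtAlg

namespace Groth.Agent.S6929

/-- Let `R` be a Noetherian ring, `ι` a finite index type, and `φ_i : A_i → B_i`, `ψ_i : Q → B_i`
surjective `R`-algebra maps, where `Q` and all `A_i`, `B_i` are `R`-algebras of finite type. Then
the fibre product ring `P = Q ×_{∏ B_i} ∏ A_i` (pairs `(q, a)` with `ψ_i(q) = φ_i(a_i)` for all `i`)
is an `R`-algebra of finite type. -/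
theorem result (R : Type u) [CommRing R] [IsNoetherianRing R] {ι : Type u} [Fintype ι]
    (Q : Type u) [CommRing Q] [Algebra R Q] [Algebra.FiniteType R Q] (A B : ι → Type u) [∀ i, CommRing (A i)]
    [∀ i, CommRing (B i)] [∀ i, Algebra R (A i)] [∀ i, Algebra R (B i)] (hA : ∀ i, Algebra.FiniteType R (A i))
    (hB : ∀ i, Algebra.FiniteType R (B i)) (φ : ∀ i, A i →ₐ[R] B i) (ψ : ∀ i, Q →ₐ[R] B i)
    (hφ : ∀ i, Function.Surjective (φ i)) (hψ : ∀ i, Function.Surjective (ψ i)) :
    Algebra.FiniteType R ↥(AlgHom.equalizer ((AlgHom.pi ψ).comp (AlgHom.fst R Q (∀ i, A i)))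
      ((AlgHom.pi fun i => (φ i).comp (Pi.evalAlgHom R A i)).comp (AlgHom.snd R Q (∀ i, A i)))) := by
  classical
  let P := AlgHom.equalizer ((AlgHom.pi ψ).comp (AlgHom.fst R Q (∀ i, A i)))
    ((AlgHom.pi fun i => (φ i).comp (Pi.evalAlgHom R A i)).comp (AlgHom.snd R Q (∀ i, A i)))
  haveI := EtAlgEasy.finiteType_pi R A hA
  choose σ hσ using fun i => hφ i
  have hidem : ∀ e : Q × (∀ i, A i), e * e = e → IsIntegral P e := fun e he =>
    ⟨Polynomial.X ^ 2 - Polynomial.X, Polynomial.monic_X_pow_sub (by simp [Polynomial.degree_X_le.trans_lt]),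
      by simp [sq, he]⟩
  have hmem : ∀ q a, (∀ i, φ i (a i) = ψ i q) → (q, a) ∈ P := fun q a h => funext fun i => (h i).symm
  haveI : Algebra.IsIntegral P (Q × (∀ i, A i)) := ⟨fun z => by
    have h1 : IsIntegral P ((z.1, 0) : Q × (∀ i, A i)) := by
      let p : P := ⟨(z.1, fun i => σ i (ψ i z.1)), hmem _ _ fun i => hσ i _⟩
      have : ((z.1, 0) : Q × (∀ i, A i)) = algebraMap P _ p * (1, 0) := by
        show _ = (z.1, fun i => σ i (ψ i z.1)) * ((1, 0) : Q × (∀ i, A i))
        simp [Prod.mk_mul_mk]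
      rw [this]
      exact isIntegral_algebraMap.mul (hidem _ (by simp))
    have h2 : ∀ i, IsIntegral P ((0, Pi.single i (z.2 i)) : Q × (∀ i, A i)) := by
      intro i
      obtain ⟨q, hq⟩ := hψ i (φ i (z.2 i))
      let a : ∀ j, A j := Function.update (fun j => σ j (ψ j q)) i (z.2 i)
      have ha : ∀ j, φ j (a j) = ψ j q := fun j => by
        rcases eq_or_ne j i with rfl | h
        · simp [a, hq]
        · simp [a, Function.update_of_ne h, hσ]
      have : ((0, Pi.single i (z.2 i)) : Q × (∀ i, A i)) =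
          algebraMap P _ (⟨(q, a), hmem _ _ ha⟩ : P) * (0, Pi.single i 1) := by
        show _ = (q, a) * ((0, Pi.single i 1) : Q × (∀ i, A i))
        refine Prod.ext (by simp) (funext fun j => ?_)
        rcases eq_or_ne j i with rfl | h
        · simp [a]
        · simp [h]
      rw [this]
      exact isIntegral_algebraMap.mul (hidem _ (Prod.ext (by simp) (by
        simp [← Pi.single_mul])))
    have : z = (z.1, 0) + ∑ i, ((0, Pi.single i (z.2 i)) : Q × (∀ i, A i)) := by
      refine Prod.ext ?_ ?_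
      · rw [Prod.fst_add, Prod.fst_sum]; simp
      · rw [Prod.snd_add, Prod.snd_sum]; simp [Finset.univ_sum_single]
    rw [this]
    exact h1.add (IsIntegral.sum _ fun i _ => h2 i)⟩
  exact EtAlgEasy.finiteType_of_integral P

end Groth.Agent.S6929
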