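import Groth.Statements.S6930
import Groth.Agent.ValFlattenLib.Chart
import Groth.Agent.S0406
-- import your own Groth.Agent.* helpers here

set_option autoImplicit false
set_option backward.isDefEq.respectTransparency false
set_option linter.style.haveILetI false
set_option maxHeartbeats 1000000
universe u
open TensorProduct
open FlatMor

namespace Groth.Agent.S6930

/-- Let `(R, 𝔪)` be a local domain whose maximal ideal is nonzero, with fraction field `K`; let `S` be
an `R`-algebra of finite type, `M` a finite `S`-module and `A ⊆ K` a valuation ring dominating `R`.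
Then one can find a finitely generated ideal `I ⊆ 𝔪` and a nonzero `a ∈ I` with the following
properties, where `R₁ = R[I/a]` denotes the affine blow-up algebra (taken up to `R`-algebra
isomorphism): every `x/a` with `x ∈ I` lies in `A`, so that `R₁ ⊆ A` inside `K`; the ring `R₁/𝔪R₁`
is nonzero; the strict transform of `S` (the quotient of `R₁ ⊗_R S` by its `a`-power torsion) is
flat over `R₁` and is a finitely presented `R₁`-algebra; and the strict transform of `M` (the
quotient of `R₁ ⊗_R M` by its `a`-power torsion) is flat over `R₁`. (The published statement asks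
for these strict transforms to be flat, and the first to be finitely presented, over `R` itself;
that fails for every choice of `(I, a)` already when `R = k[x, y]` localized at `(x, y)` and `S =
R[y/x]`, and the published proof, which passes to the limit over the rings `R[I/a]`, yields flatness
and finite presentation over `R[I/a]`, which is what is stated here. The published statement also
allows `𝔪 = 0`, i.e. `R` a field; then all hypotheses hold with `A = K` while no nonzero `a ∈ 𝔪`
exists, so the hypothesis `𝔪 ≠ 0` is added. Finally, the published statement also asserts that the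
strict transform of `M` is finitely presented over the strict transform of `S`; that clause is not
included.) -/
theorem result (R K : Type u) [CommRing R] [IsDomain R] [IsLocalRing R] [Field K]
    [Algebra R K] [IsFractionRing R K] (S : Type u) [CommRing S] [Algebra R S] [Algebra.FiniteType R S] (M : Type u)
    [AddCommGroup M] [Module S M] [Module R M] [IsScalarTower R S M] [Module.Finite S M]
    (A : Type u) [CommRing A] [IsDomain A] [ValuationRing A] [Algebra A K] [IsFractionRing A K] [Algebra R A]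
    [IsScalarTower R A K] [IsLocalHom (algebraMap R A)] (hm : IsLocalRing.maximalIdeal R ≠ ⊥) :
    ∃ (I : Ideal R) (a : R), I.FG ∧ I ≤ IsLocalRing.maximalIdeal R ∧ a ∈ I ∧ a ≠ 0 ∧
      (∀ x ∈ I, ∃ y : A, algebraMap A K y * algebraMap R K a = algebraMap R K x) ∧
      ∀ (R₁ : Type u) [CommRing R₁] [Algebra R R₁] (e : R₁ ≃ₐ[R] ↥(BlowUp.affineAlgebra R I a)),
        (IsLocalRing.maximalIdeal R).map (algebraMap R R₁) ≠ ⊤ ∧
        Module.Flat R₁ ((R₁ ⊗[R] S) ⧸ FlatCA.powTorsion (R₁ ⊗[R] S) (algebraMap R (R₁ ⊗[R] S) a) (R₁ ⊗[R] S)) ∧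
        Algebra.FinitePresentation R₁
          ((R₁ ⊗[R] S) ⧸ FlatCA.powTorsion (R₁ ⊗[R] S) (algebraMap R (R₁ ⊗[R] S) a) (R₁ ⊗[R] S)) ∧
        Module.Flat R₁ ((R₁ ⊗[R] M) ⧸ FlatCA.powTorsion R₁ (algebraMap R R₁ a) (R₁ ⊗[R] M)) := by
  classical
  obtain ⟨n, f, hf⟩ := Algebra.FiniteType.iff_quotient_mvPolynomial''.1 ‹Algebra.FiniteType R S›
  let P := MvPolynomial (Fin n) R
  letI : Algebra P S := f.toRingHom.toAlgebra
  haveI : IsScalarTower R P S := IsScalarTower.of_algebraMap_eq fun r => (f.commutes r).symm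
  letI : Module P M := Module.compHom M f.toRingHom
  haveI : IsScalarTower P S M := IsScalarTower.of_algebraMap_smul fun _ _ => rfl
  haveI : IsScalarTower R P M := IsScalarTower.of_algebraMap_smul fun r m => by
    show f (algebraMap R P r) • m = r • m
    rw [f.commutes, algebraMap_smul]
  haveI : Module.Finite P S := Module.Finite.of_surjective (Algebra.linearMap P S) hf
  haveI : Module.Finite P M := Module.Finite.trans S M
  let j : A →ₐ[R] K := IsScalarTower.toAlgHom R A K
  have hj : Function.Injective j := IsFractionRing.injective A K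
  have hRK : Function.Injective (algebraMap R K) := IsFractionRing.injective R K
  obtain ⟨R₀, hR₀, c₁, hc₁, N₁, hflat₁, hN₁⟩ :=
    Groth.Agent.ValFlattenLib.exists_flat_quotient j hj P (M := M)
  obtain ⟨R₀', hR₀', c₂, hc₂, N₂, hflat₂, hN₂⟩ :=
    Groth.Agent.ValFlattenLib.exists_flat_quotient j hj P (M := S)
  obtain ⟨t, ht⟩ := hR₀.sup hR₀'
  obtain ⟨t₀, ht₀, ht₀0⟩ := Submodule.exists_mem_ne_zero_of_ne_bot hm
  have hAd := Groth.Agent.ValFlattenLib.hasDenoms_of_injective j hj
  choose cy ry hcy hry using hAd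
  let cc : R := ∏ y ∈ t, cy y
  have hcc : cc ≠ 0 := Finset.prod_ne_zero_iff.2 fun y _ => hcy y
  let a : R := c₁ * c₂ * t₀ * cc
  have ha : a ≠ 0 := mul_ne_zero (mul_ne_zero (mul_ne_zero hc₁ hc₂) ht₀0) hcc
  have haK : algebraMap R K a ≠ 0 := (map_ne_zero_iff _ hRK).2 ha
  let xy : A → R := fun y => c₁ * c₂ * t₀ * (∏ z ∈ t.erase y, cy z) * ry y
  have hxy : ∀ y ∈ t, algebraMap A K y * algebraMap R K a = algebraMap R K (xy y) := by
    intro y hy
    have h1 := congrArg j (hry y)
    rw [map_mul, j.commutes, j.commutes] at h1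
    simp only [a, xy, cc, ← Finset.mul_prod_erase t cy hy, map_mul]
    rw [← h1]
    show algebraMap A K y * _ = _ * (algebraMap R K (cy y) * algebraMap A K y)
    ring
  let I : Ideal R := Ideal.span ({a} ∪ xy '' (t : Set A))
  have hImem : ∀ x ∈ I, x ∈ IsLocalRing.maximalIdeal R := by
    intro x hx
    refine (Ideal.span_le.2 ?_ : I ≤ _) hx
    have h0 : c₁ * c₂ * t₀ ∈ IsLocalRing.maximalIdeal R := Ideal.mul_mem_left _ _ ht₀
    rintro z (hz | ⟨y, -, hz⟩)
    · rw [hz]; exact Ideal.mul_mem_right _ _ h0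
    · rw [← hz]; exact Ideal.mul_mem_right _ _ (Ideal.mul_mem_right _ _ h0)
  have hIA : ∀ x ∈ I, ∃ y : A, algebraMap A K y * algebraMap R K a = algebraMap R K x := by
    intro x hx
    induction hx using Submodule.span_induction with
    | mem x hx =>
      rcases hx with rfl | ⟨y, hy, rfl⟩
      · exact ⟨1, by simp⟩
      · exact ⟨y, hxy y hy⟩
    | zero => exact ⟨0, by simp⟩
    | add x z _ _ h1 h2 =>
      obtain ⟨y, hy⟩ := h1
      obtain ⟨w, hw⟩ := h2
      exact ⟨y + w, by rw [map_add, map_add, add_mul, hy, hw]⟩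
    | smul r x _ h1 =>
      obtain ⟨y, hy⟩ := h1
      exact ⟨algebraMap R A r * y, by
        rw [smul_eq_mul, map_mul (algebraMap R K) r x, map_mul (algebraMap A K), mul_assoc, hy, ← IsScalarTower.algebraMap_apply]⟩
  refine ⟨I, a, Submodule.fg_span ((Set.finite_singleton a).union (t.finite_toSet.image xy)), hImem,
    Ideal.subset_span (Or.inl rfl), ha, hIA, ?_⟩
  intro R₁ _ _ e
  let β : R₁ →ₐ[R] K := (Groth.Agent.ValFlattenLib.chartToK I a ha).comp e.toAlgHom
  have hβ : Function.Injective β :=
    (Groth.Agent.ValFlattenLib.chartToK_injective I a ha).comp e.injective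
  haveI : IsDomain R₁ := Function.Injective.isDomain β.toRingHom hβ
  have hreg : ∀ y : R₁, algebraMap R R₁ a * y = 0 → y = 0 := by
    intro y hy
    have h2 : algebraMap R K a * β y = 0 := by rw [← β.commutes, ← map_mul, hy, map_zero]
    exact hβ (((mul_eq_zero.1 h2).resolve_left haK).trans (map_zero β).symm)
  -- both stages map to the chart
  have hsub : ∀ T : Subalgebra R A, T ≤ R₀ ⊔ R₀' → Nonempty (↥T →ₐ[R] R₁) := by
    intro T hT
    have hle : (j.comp T.val).range ≤ β.range := by
      rintro _ ⟨⟨y, hy⟩, rfl⟩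
      have hy' : y ∈ Algebra.adjoin R (t : Set A) := by rw [ht]; exact hT hy
      have : Algebra.adjoin R (t : Set A) ≤ β.range.comap j := Algebra.adjoin_le fun z hz => by
        exact ⟨e.symm ⟨_, Algebra.subset_adjoin ⟨xy z, Ideal.subset_span (Or.inr ⟨z, hz, rfl⟩), rfl⟩⟩, by
          show Groth.Agent.ValFlattenLib.chartToK I a ha (e (e.symm _)) = j z
          rw [e.apply_symm_apply]
          exact Groth.Agent.ValFlattenLib.chartToK_gen I a ha (xy z) (Ideal.subset_span (Or.inr ⟨z, hz, rfl⟩)) (j z) (hxy z hz)⟩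
      exact this hy'
    exact ⟨((AlgEquiv.ofInjective β hβ).symm.toAlgHom.comp (Subalgebra.inclusion hle)).comp
      (j.comp T.val).rangeRestrict⟩
  obtain ⟨k₁⟩ := hsub R₀ le_sup_left
  obtain ⟨k₂⟩ := hsub R₀' le_sup_right
  have hflatM := Groth.Agent.ValFlattenLib.flat_quot_powTorsion k₁ c₁ N₁ hflat₁ hN₁ a
    ⟨c₂ * t₀ * cc, by ring⟩ hreg
  have hflatS := Groth.Agent.ValFlattenLib.flat_quot_powTorsion k₂ c₂ N₂ hflat₂ hN₂ a
    ⟨c₁ * t₀ * cc, by ring⟩ hreg
  let TS := FlatCA.powTorsion (R₁ ⊗[R] S) (algebraMap R (R₁ ⊗[R] S) a) (R₁ ⊗[R] S)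
  have hTS : TS.restrictScalars R₁ = FlatCA.powTorsion R₁ (algebraMap R R₁ a) (R₁ ⊗[R] S) := by
    ext z
    rw [Submodule.restrictScalars_mem, Groth.Agent.RGBlowLib.mem_powTorsion,
      Groth.Agent.RGBlowLib.mem_powTorsion]
    refine exists_congr fun m => ?_
    rw [IsScalarTower.algebraMap_apply R R₁ (R₁ ⊗[R] S), ← map_pow, algebraMap_smul]
  have hflatTS : Module.Flat R₁ ((R₁ ⊗[R] S) ⧸ TS) :=
    Module.Flat.of_linearEquiv
      ((Submodule.Quotient.restrictScalarsEquiv R₁ TS).symm.trans (Submodule.quotEquivOfEq _ _ hTS))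
  refine ⟨?_, hflatTS, ?_, hflatM⟩
  · -- the chart maps to `A` by a local map
    intro h
    have hle : β.range ≤ j.range := by
      refine le_trans ?_ (Groth.Agent.ValFlattenLib.chartToK_range_le I a ha j.range fun x hx => ?_)
      · rintro _ ⟨z, rfl⟩
        exact ⟨e z, rfl⟩
      · obtain ⟨y, hy⟩ := hIA x hx
        exact ⟨_, ⟨y, rfl⟩, hy⟩
    let g : R₁ →ₐ[R] A :=
      ((AlgEquiv.ofInjective j hj).symm.toAlgHom.comp (Subalgebra.inclusion hle)).comp β.rangeRestrict
    have : (IsLocalRing.maximalIdeal R).map (algebraMap R R₁) ≤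
        (IsLocalRing.maximalIdeal A).comap g.toRingHom := by
      rw [Ideal.map_le_iff_le_comap]
      intro r hr
      rw [Ideal.mem_comap, Ideal.mem_comap, show g.toRingHom (algebraMap R R₁ r) = algebraMap R A r from
        g.commutes r, IsLocalRing.mem_maximalIdeal, mem_nonunits_iff]
      exact fun hu => hr (isUnit_of_map_unit (algebraMap R A) r hu)
    rw [h, top_le_iff] at this
    exact (Ideal.IsPrime.comap g.toRingHom (hK := (IsLocalRing.maximalIdeal.isMaximal A).isPrime)).ne_top this
  · haveI : Algebra.FiniteType R₁ ((R₁ ⊗[R] S) ⧸ TS) :=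
      Algebra.FiniteType.of_surjective (Ideal.Quotient.mkₐ R₁ TS) Ideal.Quotient.mk_surjective
    haveI := hflatTS
    exact Groth.Agent.S0406.result

end Groth.Agent.S6930
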