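import Groth.Statements.S6931
import Mathlib

set_option autoImplicit false
universe u
open TensorProduct
open CAlg

namespace Groth.Agent.S6931
open scoped TensorProduct

/-- For an injective map of domains `R → R'` and any `R`-module `M`, the rank of `R' ⊗_R M` over `R'`
equals the rank of `M` over `R` (rank over a domain = dimension over the fraction field after base
change). -/
theorem result (R R' : Type u) [CommRing R] [IsDomain R] [CommRing R'] [IsDomain R']
    [Algebra R R'] (h : Function.Injective (algebraMap R R')) (M : Type u) [AddCommGroup M] [Module R M] :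
    Module.rank R' (R' ⊗[R] M) = Module.rank R M := by
  let K := FractionRing R
  let K' := FractionRing R'
  haveI : FaithfulSMul R R' := (faithfulSMul_iff_algebraMap_injective R R').mpr h
  haveI : FaithfulSMul R K' := (faithfulSMul_iff_algebraMap_injective R K').mpr (by
    rw [IsScalarTower.algebraMap_eq R R' K']
    exact (IsFractionRing.injective R' K').comp h)
  letI : Algebra K K' := FractionRing.liftAlgebra R K'
  have h1 : ∀ (A : Type u) [CommRing A] [IsDomain A] (P : Type u) [AddCommGroup P] [Module A P],
      Module.rank A P = Module.rank (FractionRing A) (FractionRing A ⊗[A] P) := fun A _ _ P _ _ => by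
    rw [IsLocalization.rank_eq (FractionRing A) (nonZeroDivisors A) le_rfl,
      IsLocalizedModule.rank_eq (nonZeroDivisors A) le_rfl (TensorProduct.mk A (FractionRing A) P 1)]
  rw [h1 R' (R' ⊗[R] M), h1 R M,
    ((TensorProduct.AlgebraTensorModule.cancelBaseChange R R' K' K' M) ≪≫ₗ
      (TensorProduct.AlgebraTensorModule.cancelBaseChange R K K' K' M).symm).rank_eq,
    Module.rank_baseChange]
  simp only [Cardinal.lift_id]
  rfl
end Groth.Agent.S6931
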