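import Groth.Statements.S6933
import Mathlib
import Groth.Agent.InjHullLib.Noetherian

set_option autoImplicit false
universe u
open CategoryTheory
open InjHull

namespace Groth.Agent.S6933

/-- An abelian group `J` that is injective as an object of the category of abelian groups is divisible:
`n J = J` for every nonzero integer `n`. (The published statement is an equivalence; this row states
the implication from injective to divisible.) -/
theorem result (J : Type u) [AddCommGroup J] (hJ : Injective (AddCommGrpCat.of J))
    (n : ℤ) (hn : n ≠ 0) (x : J) : ∃ y : J, n • y = x := by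
  let f : AddCommGrpCat.of (ULift.{u} ℤ) ⟶ AddCommGrpCat.of (ULift.{u} ℤ) :=
    AddCommGrpCat.ofHom (zsmulAddGroupHom n)
  have : Mono f := (AddCommGrpCat.mono_iff_injective f).2 fun a b h => by
    have h1 : n * a.down = n * b.down := congrArg ULift.down h
    exact ULift.ext _ _ (mul_left_cancel₀ hn h1)
  let g : AddCommGrpCat.of (ULift.{u} ℤ) ⟶ AddCommGrpCat.of J :=
    AddCommGrpCat.ofHom ((zmultiplesHom J x).comp AddEquiv.ulift.toAddMonoidHom)
  obtain ⟨k, hk⟩ := Injective.factors g f
  refine ⟨k (ULift.up 1), ?_⟩
  have := ConcreteCategory.congr_hom hk (ULift.up 1)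
  simp [f, g] at this
  rw [← map_zsmul]
  refine Eq.trans ?_ (this.trans ?_)
  · congr 1
  · exact one_zsmul x

end Groth.Agent.S6933
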