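import Groth.Statements.S6934
import Mathlib
-- import your own Groth.Agent.* helpers here

set_option autoImplicit false
universe u
open EtAlg

namespace Groth.Agent.S6934

/-- Let `s : B → R`, `t : R' → R` be ring maps and `B' = B ×_R R'` the fibre product ring, i.e. a ring
`B'` with maps `p : B' → B`, `q : B' → R'`, `s ∘ p = t ∘ q`, such that `(p, q)` is injective with
image the pairs `(b, r')` with `s(b) = t(r')`. Let `h ∈ B'` with images `g = p(h)`, `f = q(h)`. Then
the square of localizations `B'_h → B_g`, `B'_h → R'_f`, `B_g → R_{s(g)}`, `R'_f → R_{t(f)} =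
R_{s(g)}` (the induced maps) is cartesian as well: `B'_h = B_g ×_{R_{s(g)}} R'_f`. -/
theorem result {B R R' B' : Type u} [CommRing B] [CommRing R] [CommRing R'] [CommRing B']
    (s : B →+* R) (t : R' →+* R) (p : B' →+* B) (q : B' →+* R') (hc : s.comp p = t.comp q)
    (hinj : ∀ x y : B', p x = p y → q x = q y → x = y) (hsurj : ∀ (b : B) (r' : R'), s b = t r' → ∃ x : B', p x = b ∧ q x = r')
    (h : B') (Bh Bg Rf Rsg : Type u) [CommRing Bh] [CommRing Bg] [CommRing Rf] [CommRing Rsg]
    [Algebra B' Bh] [IsLocalization.Away h Bh] [Algebra B Bg] [IsLocalization.Away (p h) Bg]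
    [Algebra R' Rf] [IsLocalization.Away (q h) Rf] [Algebra R Rsg] [IsLocalization.Away (s (p h)) Rsg]
    (pL : Bh →+* Bg) (qL : Bh →+* Rf) (sL : Bg →+* Rsg) (tL : Rf →+* Rsg)
    (hp : pL.comp (algebraMap B' Bh) = (algebraMap B Bg).comp p) (hq : qL.comp (algebraMap B' Bh) = (algebraMap R' Rf).comp q)
    (hs : sL.comp (algebraMap B Bg) = (algebraMap R Rsg).comp s) (ht : tL.comp (algebraMap R' Rf) = (algebraMap R Rsg).comp t) :
    (∀ x y : Bh, pL x = pL y → qL x = qL y → x = y) ∧
    (∀ (b : Bg) (r : Rf), sL b = tL r → ∃ x : Bh, pL x = b ∧ qL x = r) := by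
  have hP : ∀ x, pL (algebraMap B' Bh x) = algebraMap B Bg (p x) := fun x => RingHom.congr_fun hp x
  have hQ : ∀ x, qL (algebraMap B' Bh x) = algebraMap R' Rf (q x) := fun x => RingHom.congr_fun hq x
  have hS : ∀ x, sL (algebraMap B Bg x) = algebraMap R Rsg (s x) := fun x => RingHom.congr_fun hs x
  have hT : ∀ x, tL (algebraMap R' Rf x) = algebraMap R Rsg (t x) := fun x => RingHom.congr_fun ht x
  have hst : t (q h) = s (p h) := (RingHom.congr_fun hc h).symm
  constructor
  · intro x y hpx hqx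
    rw [← sub_eq_zero]
    obtain ⟨n, a, ha⟩ := IsLocalization.Away.surj h (x - y)
    have hu : IsUnit (algebraMap B' Bh h ^ n) := (IsLocalization.Away.algebraMap_isUnit h).pow n
    have h1 : algebraMap B Bg (p a) = 0 := by
      rw [← hP, ← ha, map_mul, map_sub, hpx, sub_self, zero_mul]
    have h2 : algebraMap R' Rf (q a) = 0 := by
      rw [← hQ, ← ha, map_mul, map_sub, hqx, sub_self, zero_mul]
    obtain ⟨⟨_, i, rfl⟩, hi⟩ := (IsLocalization.map_eq_zero_iff (Submonoid.powers (p h)) Bg _).1 h1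
    obtain ⟨⟨_, j, rfl⟩, hj⟩ := (IsLocalization.map_eq_zero_iff (Submonoid.powers (q h)) Rf _).1 h2
    simp only at hi hj
    have hz : h ^ (i + j) * a = 0 := hinj _ 0
      (by rw [map_zero, map_mul, map_pow, pow_add, mul_right_comm, hi, zero_mul])
      (by rw [map_zero, map_mul, map_pow, pow_add, mul_assoc, hj, mul_zero])
    have ha0 : algebraMap B' Bh a = 0 := by
      have := congrArg (algebraMap B' Bh) hz
      rw [map_mul, map_pow, map_zero] at this
      exact ((IsLocalization.Away.algebraMap_isUnit (S := Bh) h).pow (i + j)).mul_right_eq_zero.1 this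
    rw [ha0] at ha
    exact hu.mul_left_eq_zero.1 ha
  · intro b r hbr
    obtain ⟨n, b₀, hb₀⟩ := IsLocalization.Away.surj (p h) b
    obtain ⟨m, r₀, hr₀⟩ := IsLocalization.Away.surj (q h) r
    have h1 : algebraMap R Rsg (s (b₀ * p h ^ m)) = algebraMap R Rsg (t (r₀ * q h ^ n)) := by
      rw [← hS, ← hT]
      simp only [map_mul, map_pow, ← hb₀, ← hr₀, hS, hT, hst, ← hbr]
      ring
    obtain ⟨⟨_, k, rfl⟩, hk⟩ := (IsLocalization.eq_iff_exists (Submonoid.powers (s (p h))) Rsg).1 h1
    simp only at hk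
    obtain ⟨x₀, hx₀p, hx₀q⟩ := hsurj (b₀ * p h ^ m * p h ^ k) (r₀ * q h ^ n * q h ^ k) (by
      rw [map_mul, map_mul t, map_pow, map_pow t, hst, mul_comm, hk, mul_comm])
    obtain ⟨v, hv⟩ := ((IsLocalization.Away.algebraMap_isUnit (S := Bh) h).pow (n + m + k))
    refine ⟨algebraMap B' Bh x₀ * (↑v⁻¹ : Bh), ?_, ?_⟩
    · have hpv : pL (v : Bh) = algebraMap B Bg (p h) ^ (n + m + k) := by rw [hv, map_pow, hP]
      refine (v.isUnit.map pL).mul_left_inj.1 ?_
      rw [← map_mul, mul_assoc, Units.inv_mul, mul_one, hP, hx₀p, hpv]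
      simp only [map_mul, map_pow, ← hb₀]
      ring
    · have hqv : qL (v : Bh) = algebraMap R' Rf (q h) ^ (n + m + k) := by rw [hv, map_pow, hQ]
      refine (v.isUnit.map qL).mul_left_inj.1 ?_
      rw [← map_mul, mul_assoc, Units.inv_mul, mul_one, hQ, hx₀q, hqv]
      simp only [map_mul, map_pow, ← hr₀]
      ring

end Groth.Agent.S6934
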