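import Groth.Statements.S6936
import Groth.Agent.DRingLib.PseudoCoherent
-- import your own Groth.Agent.* helpers here

set_option autoImplicit false
universe u
open CategoryTheory CategoryTheory.Limits
attribute [local instance] HasDerivedCategory.standard
open DRing

namespace Groth.Agent.S6936

/-- Let R be a commutative ring, m an integer and K an object of D(R). If H^i(K) = 0 for every i > m +
1, H^(m+1)(K) is a finitely presented R-module and H^m(K) is a finitely generated R-module, then K
is m-pseudo-coherent. -/
theorem result (R : Type u) [CommRing R]
    (m : ℤ) (K : Dual.D R) (hvan : ∀ i : ℤ, m + 1 < i → Subsingleton (Dual.HD R K i))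
    (hfp : Module.FinitePresentation R (Dual.HD R K (m + 1))) (hfin : Module.Finite R (Dual.HD R K m)) :
    DRing.IsPseudoCoherent R m K := by
  rw [Groth.Agent.DRingLib.isPseudoCoherent_iff]
  refine Groth.Agent.DRingLib.pc_of_homology Groth.Agent.DRingLib.projClass_fFree m 2 K (fun i hi => ?_) fun i hi => ?_
  · haveI := hvan i (by omega)
    exact ModuleCat.isZero_of_subsingleton _
  · rcases eq_or_ne i m with h1 | h1
    · subst h1
      exact (Groth.Agent.DRingLib.pc_zero_inD (M := ModuleCat.of R (Dual.HD R K i)) hfin).mono (by omega)
    · rcases eq_or_ne i (m + 1) with h2 | h2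
      · subst h2
        exact ((Groth.Agent.DRingLib.pc_negOne_iff (Dual.HD R K (m + 1))).2 hfp).mono (by omega)
      · haveI := hvan i (by omega)
        exact Groth.Agent.DRingLib.pc_of_aboveZero Groth.Agent.DRingLib.projClass_fFree fun j _ =>
          Functor.map_isZero _ (Functor.map_isZero _ (ModuleCat.isZero_of_subsingleton _))

end Groth.Agent.S6936
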