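import Groth.Statements.S6937
import Groth.Agent.DRingLib.PseudoCoherent
-- import your own Groth.Agent.* helpers here

set_option autoImplicit false
universe u
open CategoryTheory CategoryTheory.Limits
attribute [local instance] HasDerivedCategory.standard
open DRing

namespace Groth.Agent.S6937

/-- Let R be a commutative ring, m an integer and K, L objects of D(R). If K ⊕ L is m-pseudo-coherent
then K and L are m-pseudo-coherent; if K ⊕ L is pseudo-coherent (isomorphic in D(R) to a bounded
above complex of finite free modules) then so are K and L. -/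
theorem result (R : Type u) [CommRing R] (m : ℤ) (K L : Dual.D R)
    [HasBinaryBiproduct K L] :
    (DRing.IsPseudoCoherent R m (K ⊞ L) → DRing.IsPseudoCoherent R m K ∧ DRing.IsPseudoCoherent R m L) ∧
      (DRing.IsPseudoCoherent' R (K ⊞ L) → DRing.IsPseudoCoherent' R K ∧ DRing.IsPseudoCoherent' R L) := by
  simp only [Groth.Agent.DRingLib.isPseudoCoherent_iff, Groth.Agent.DRingLib.isPseudoCoherent'_iff]
  exact ⟨fun h => Groth.Agent.DRingLib.PC.summands Groth.Agent.DRingLib.projClass_fFree h,
    fun h => ⟨fun k => (Groth.Agent.DRingLib.PC.summands Groth.Agent.DRingLib.projClass_fFree (h k)).1,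
      fun k => (Groth.Agent.DRingLib.PC.summands Groth.Agent.DRingLib.projClass_fFree (h k)).2⟩⟩

end Groth.Agent.S6937
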