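import Groth.Statements.S6941
import Groth.Agent.DRingLib.FFDescent
-- import your own Groth.Agent.* helpers here

set_option autoImplicit false
universe u
open CategoryTheory CategoryTheory.Limits
attribute [local instance] HasDerivedCategory.standard
open DRing

namespace Groth.Agent.S6941

/-- Let R → R' be a faithfully flat homomorphism of commutative rings, K a cochain complex of R-modules
and m an integer. If the termwise base change K ⊗_R R' is m-pseudo-coherent in D(R'), then K is
m-pseudo-coherent in D(R); if K ⊗_R R' is pseudo-coherent, then K is pseudo-coherent. -/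
theorem result {R R' : Type u} [CommRing R] [CommRing R']
    [Algebra R R'] [Module.FaithfullyFlat R R'] (K : DRing.Cx R) (m : ℤ) :
    (DRing.IsPseudoCoherent R' m (DRing.toD (((ModuleCat.extendScalars (algebraMap R R')).mapHomologicalComplex
        (ComplexShape.up ℤ)).obj K)) → DRing.IsPseudoCoherent R m (DRing.toD K)) ∧
      (DRing.IsPseudoCoherent' R' (DRing.toD (((ModuleCat.extendScalars (algebraMap R R')).mapHomologicalComplex
        (ComplexShape.up ℤ)).obj K)) → DRing.IsPseudoCoherent' R (DRing.toD K)) := by
  haveI := Groth.Agent.DRingLib.hasLBaseChange (algebraMap R R')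
  have hf : Module.Flat R (Groth.Agent.DTenLib.baseMod (algebraMap R R')) := Groth.Agent.DRingLib.flat_baseMod R R'
  let e := Groth.Agent.DRingLib.lbcIsoOfFlat (algebraMap R R') hf K
  haveI : ∀ _ : Unit, DRing.HasLBaseChange (algebraMap R R') := fun _ => inferInstance
  have hB := Groth.Agent.DRingLib.ffFamily_single (A := R) (B := R')
  refine ⟨fun h => ?_, fun h => ?_⟩
  · rw [Groth.Agent.DRingLib.isPseudoCoherent_iff] at h ⊢
    exact hB.pc _ fun _ => Groth.Agent.DRingLib.PC.of_iso h e.symm
  · rw [Groth.Agent.DRingLib.isPseudoCoherent'_iff] at h ⊢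
    exact fun n => hB.pc _ fun _ => Groth.Agent.DRingLib.PC.of_iso (h n) e.symm

end Groth.Agent.S6941
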