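import Groth.Statements.S6943
import Groth.Agent.DRingLib.PseudoCoherent
import Groth.Agent.S6366
-- import your own Groth.Agent.* helpers here

set_option autoImplicit false
universe u
open CategoryTheory CategoryTheory.Limits
attribute [local instance] HasDerivedCategory.standard
open DRing

namespace Groth.Agent.S6943

open Groth.Agent.DRingLib Groth.Agent.DCohLib

variable {R : Type u} [CommRing R] (hR : ∀ I : Ideal R, I.FG → Module.FinitePresentation R I)

include hR

theorem fp_of_fg {M : Type u} [AddCommGroup M] [Module R M] [Module.FinitePresentation R M]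
    {N : Submodule R M} (hN : N.FG) : Module.FinitePresentation R N :=
  ((Groth.Agent.S6366.result R hR M).2 inferInstance).2 N hN

theorem fp_ker {M N : Type u} [AddCommGroup M] [Module R M] [Module.FinitePresentation R M]
    [AddCommGroup N] [Module R N] [Module.FinitePresentation R N] (f : M →ₗ[R] N) :
    Module.FinitePresentation R (LinearMap.ker f) := by
  haveI := fp_of_fg hR ((Module.Finite.iff_fg).1 (Module.Finite.range f))
  have h := Module.FinitePresentation.fg_ker f.rangeRestrict f.surjective_rangeRestrict
  rw [LinearMap.ker_rangeRestrict] at h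
  exact fp_of_fg hR h

theorem pc_inD (k : ℕ) : ∀ (M : Type u) [AddCommGroup M] [Module R M], Module.FinitePresentation R M →
    PC FFree (-(k : ℤ)) (Dual.inD R M) := by
  induction k with
  | zero => exact fun M _ _ h => pc_zero_inD (M := ModuleCat.of R M) (inferInstanceAs (Module.Finite R M))
  | succ k ih =>
    intro M _ _ h
    obtain ⟨r, p, hp⟩ := Module.Finite.exists_fin' R M
    obtain ⟨T, hT, h1, h2, h3⟩ := exists_triangle_of_surjective p hp
    rw [← h3]
    refine PC.obj₃ projClass_fFree T hT ?_ (by rw [h2]; exact (perf_inD_fin r).pc _)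
    rw [h1]
    exact (ih _ (fp_ker hR p)).mono (by push_cast; omega)

theorem pc_inD' (j : ℤ) (M : Type u) [AddCommGroup M] [Module R M] (h : Module.FinitePresentation R M) :
    PC FFree j (Dual.inD R M) :=
  (pc_inD hR j.natAbs M h).mono (by omega)

theorem fp_homology {E : DRing.Cx R} (hE : ∀ i, Module.Finite R (E.X i) ∧ Module.Free R (E.X i)) (i : ℤ) :
    Module.FinitePresentation R ((DerivedCategory.homologyFunctor (ModuleCat.{u} R) i).obj (DRing.toD E)) := by
  haveI hfp : ∀ j, Module.FinitePresentation R (E.X j) := fun j => by
    haveI := (hE j).1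
    haveI := (hE j).2
    exact Module.finitePresentation_of_projective R (E.X j)
  let S := E.sc' (i - 1) i (i + 1)
  haveI : Module.FinitePresentation R S.X₂ := hfp i
  haveI : Module.FinitePresentation R S.X₃ := hfp (i + 1)
  haveI : Module.Finite R S.X₁ := (hE (i - 1)).1
  haveI := fp_ker hR S.g.hom
  haveI hq : Module.FinitePresentation R (LinearMap.ker S.g.hom ⧸ LinearMap.range S.moduleCatToCycles) :=
    Module.finitePresentation_of_surjective (LinearMap.range S.moduleCatToCycles).mkQ (Submodule.mkQ_surjective _)
      (by rw [Submodule.ker_mkQ]; exact Module.Finite.iff_fg.1 (Module.Finite.range _))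
  haveI : Module.FinitePresentation R S.moduleCatLeftHomologyData.H := hq
  exact Module.FinitePresentation.of_equiv (((DerivedCategory.homologyFunctorFactors _ i).app E ≪≫
    E.homologyIsoSc' (i - 1) i (i + 1) (by simp) (by simp) ≪≫ S.moduleCatHomologyIso).symm.toLinearEquiv)

omit hR in
theorem key {m : ℤ} {K : Dual.D R} (hR : ∀ I : Ideal R, I.FG → Module.FinitePresentation R I)
    (h : PC FFree m K) : Module.Finite R (Dual.HD R K m) ∧
      ∀ i, m < i → Module.FinitePresentation R (Dual.HD R K i) := by
  obtain ⟨E, α, hE, hα⟩ := h
  haveI := fun i => fp_homology hR hE.2 i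
  obtain ⟨h1, h2⟩ := (mIso_iff m α).1 hα
  refine ⟨Module.Finite.of_surjective ((DerivedCategory.homologyFunctor _ m).map α).hom
    ((ModuleCat.epi_iff_surjective _).1 h2), fun i hi => ?_⟩
  haveI := h1 i hi
  exact Module.FinitePresentation.of_equiv (asIso ((DerivedCategory.homologyFunctor _ i).map α)).toLinearEquiv

omit hR

/-- Let R be a coherent commutative ring, i.e. every finitely generated ideal of R is finitely presented
as an R-module. Let K be an object of D(R) whose cohomology vanishes in large degrees and m an
integer. Then K is m-pseudo-coherent if and only if H^m(K) is finitely generated and H^i(K) is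
finitely presented for every i > m. Consequently K is pseudo-coherent if and only if every H^i(K) is
finitely presented. -/
theorem result (R : Type u) [CommRing R]
    (hR : ∀ I : Ideal R, I.FG → Module.FinitePresentation R I) (K : Dual.D R)
    (hb : ∃ b : ℤ, ∀ i : ℤ, b < i → Subsingleton (Dual.HD R K i)) (m : ℤ) :
    (DRing.IsPseudoCoherent R m K ↔
      Module.Finite R (Dual.HD R K m) ∧ ∀ i : ℤ, m < i → Module.FinitePresentation R (Dual.HD R K i)) ∧
      (DRing.IsPseudoCoherent' R K ↔ ∀ i : ℤ, Module.FinitePresentation R (Dual.HD R K i)) := by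
  obtain ⟨b, hb⟩ := hb
  have hz : AboveZero (max (b + 1) m) K := fun i hi => by
    haveI := hb i (by omega)
    exact ModuleCat.isZero_of_subsingleton _
  have back : ∀ m : ℤ, Module.Finite R (Dual.HD R K m) →
      (∀ i : ℤ, m < i → Module.FinitePresentation R (Dual.HD R K i)) → PC FFree m K := fun m hm h => by
    refine pc_of_homology projClass_fFree m (max (b + 1) m - m).toNat K (fun i hi => ?_) fun i hi => ?_
    · haveI := hb i (by omega)
      exact ModuleCat.isZero_of_subsingleton _
    · rcases eq_or_lt_of_le hi with rfl | hi'
      · rw [sub_self]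
        exact pc_zero_inD hm
      · exact pc_inD' hR _ _ (h i hi')
  rw [isPseudoCoherent_iff, Groth.Agent.DRingLib.isPseudoCoherent'_iff]
  exact ⟨⟨key hR, fun h => back m h.1 h.2⟩,
    ⟨fun h i => (key hR (h (i - 1))).2 i (by omega),
      fun h m => back m (haveI := h m; inferInstance) fun i _ => h i⟩⟩

end Groth.Agent.S6943
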