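import Groth.Statements.S6950
import Groth.Agent.DRingLib.FFDescent
-- import your own Groth.Agent.* helpers here

set_option autoImplicit false
universe u
open CategoryTheory CategoryTheory.Limits
attribute [local instance] HasDerivedCategory.standard
open DRing

namespace Groth.Agent.S6950

/-- Let R → R' be a faithfully flat homomorphism of commutative rings, K a cochain complex of R-modules
and a, b integers. If the termwise base change K ⊗_R R' has tor amplitude in [a, b] as an object of
D(R'), then K has tor amplitude in [a, b] as an object of D(R). -/
theorem result {R R' : Type u} [CommRing R] [CommRing R']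
    [Algebra R R'] [Module.FaithfullyFlat R R'] (K : DRing.Cx R) (a b : ℤ)
    (hK : DRing.HasTorAmplitudeIn R' a b (DRing.toD (((ModuleCat.extendScalars (algebraMap R R')).mapHomologicalComplex
        (ComplexShape.up ℤ)).obj K))) :
    DRing.HasTorAmplitudeIn R a b (DRing.toD K) := by
  haveI := Groth.Agent.DRingLib.hasLBaseChange (algebraMap R R')
  have hf : Module.Flat R (Groth.Agent.DTenLib.baseMod (algebraMap R R')) := Groth.Agent.DRingLib.flat_baseMod R R'
  let e := Groth.Agent.DRingLib.lbcIsoOfFlat (algebraMap R R') hf K
  haveI : ∀ _ : Unit, DRing.HasLBaseChange (algebraMap R R') := fun _ => inferInstance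
  have hB := Groth.Agent.DRingLib.ffFamily_single (A := R) (B := R')
  exact hB.amp _ fun _ => Groth.Agent.DRingLib.amp_of_iso e.symm hK

end Groth.Agent.S6950
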