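import Groth.Statements.S6956
import Groth.Agent.DRingLib.Resolution
-- import your own Groth.Agent.* helpers here

set_option autoImplicit false
universe u
open CategoryTheory CategoryTheory.Limits
attribute [local instance] HasDerivedCategory.standard
open DRing

namespace Groth.Agent.S6956

/-- Let A → B be a homomorphism of commutative rings such that B is perfect as an A-module, and let K be
a perfect object of D(B). Then K, with scalars restricted to A, is a perfect object of D(A). -/
theorem result {A B : Type u} [CommRing A] [CommRing B] [Algebra A B]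
    (hB : DRing.IsPerfectModule A B) (K : Dual.D B) (hK : DRing.IsPerfect B K) :
    DRing.IsPerfect A ((DRing.restrictD (algebraMap A B)).obj K) := by
  rw [Groth.Agent.DRingLib.isPerfect_iff] at hK ⊢
  refine Groth.Agent.DRingLib.perf_restrictD (algebraMap A B) ?_ hK
  obtain ⟨e⟩ := Groth.Agent.DRingLib.nonempty_restrictD_inD (algebraMap A B) (ModuleCat.of B B)
  refine (Groth.Agent.DRingLib.Perf.of_iso ((Groth.Agent.DRingLib.isPerfect_iff _).1 hB) ?_)
  refine (DerivedCategory.singleFunctor (ModuleCat.{u} A) 0).mapIso ?_ ≪≫ e.symm
  exact (LinearEquiv.toModuleIso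
    (X₁ := B) (X₂ := (ModuleCat.restrictScalars.{u} (algebraMap A B)).obj (ModuleCat.of B B))
    { (AddEquiv.refl B) with map_smul' := fun a b => Algebra.smul_def a b })

end Groth.Agent.S6956
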