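import Groth.Statements.S6958
import Groth.Agent.DRingLib.FFDescent
-- import your own Groth.Agent.* helpers here

set_option autoImplicit false
universe u
open CategoryTheory CategoryTheory.Limits
attribute [local instance] HasDerivedCategory.standard
open DRing

namespace Groth.Agent.S6958

/-- Let A → B be a flat homomorphism of commutative rings and M a perfect A-module. Then B ⊗_A M is a
perfect B-module. -/
theorem result {A B : Type u} [CommRing A] [CommRing B] [Algebra A B]
    [Module.Flat A B] (M : Type u) [AddCommGroup M] [Module A M] (hM : DRing.IsPerfectModule A M) :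
    DRing.IsPerfectModule B (TensorProduct A B M) := by
  haveI := Groth.Agent.DRingLib.hasLBaseChange (algebraMap A B)
  let e := Groth.Agent.DRingLib.lbcInDIso (algebraMap A B) (Groth.Agent.DRingLib.flat_baseMod A B) (ModuleCat.of A M) ≪≫
    (DerivedCategory.singleFunctor (ModuleCat.{u} B) 0).mapIso
      (LinearEquiv.toModuleIso (X₂ := TensorProduct A B M) (Groth.Agent.DRingLib.extendScalarsTensorEquiv A B M))
  exact (Groth.Agent.DRingLib.isPerfect_iff _).2 (Groth.Agent.DRingLib.Perf.of_iso (Groth.Agent.DRingLib.perf_lbc (algebraMap A B) ((Groth.Agent.DRingLib.isPerfect_iff _).1 hM)) e)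

end Groth.Agent.S6958
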