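import Groth.Statements.S6961
import Groth.Agent.DRingLib.FFDescent
-- import your own Groth.Agent.* helpers here

set_option autoImplicit false
universe u
open CategoryTheory CategoryTheory.Limits
attribute [local instance] HasDerivedCategory.standard
open DRing

namespace Groth.Agent.S6961

/-- Let R → R' be a faithfully flat homomorphism of commutative rings and K a cochain complex of
R-modules. If the termwise base change K ⊗_R R' is a perfect object of D(R'), then K is a perfect
object of D(R). -/
theorem result {R R' : Type u} [CommRing R] [CommRing R'] [Algebra R R']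
    [Module.FaithfullyFlat R R'] (K : DRing.Cx R)
    (hK : DRing.IsPerfect R' (DRing.toD (((ModuleCat.extendScalars (algebraMap R R')).mapHomologicalComplex
        (ComplexShape.up ℤ)).obj K))) :
    DRing.IsPerfect R (DRing.toD K) := by
  haveI := Groth.Agent.DRingLib.hasLBaseChange (algebraMap R R')
  have hf : Module.Flat R (Groth.Agent.DTenLib.baseMod (algebraMap R R')) := Groth.Agent.DRingLib.flat_baseMod R R'
  let e := Groth.Agent.DRingLib.lbcIsoOfFlat (algebraMap R R') hf K
  haveI : ∀ _ : Unit, DRing.HasLBaseChange (algebraMap R R') := fun _ => inferInstance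
  have hB := Groth.Agent.DRingLib.ffFamily_single (A := R) (B := R')
  rw [Groth.Agent.DRingLib.isPerfect_iff] at hK ⊢
  exact hB.perf _ fun _ => Groth.Agent.DRingLib.Perf.of_iso hK e.symm

end Groth.Agent.S6961
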