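import Groth.Statements.S6963
import Groth.Agent.DRingLib.DualPerfect
-- import your own Groth.Agent.* helpers here

set_option autoImplicit false
universe u
open CategoryTheory CategoryTheory.Limits
attribute [local instance] HasDerivedCategory.standard
open DRing

namespace Groth.Agent.S6963

/-- Let A be a commutative ring and K a perfect object of D(A), represented by a cochain complex E for
which RHom_A(E, -) exists; write K^∨ = RHom_A(E, A). Then K^∨ is a perfect object of D(A), and for
every cochain complex E' representing K^∨ for which RHom_A(E', -) exists, RHom_A(E', A) is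
isomorphic to K in D(A) (existence of an isomorphism only; the canonical one is the double-duality
map). -/
theorem result (A : Type u) [CommRing A] (K : Dual.D A) (hK : DRing.IsPerfect A K)
    (E : DRing.Cx A) (eK : DRing.toD E ≅ K) [DRing.HasRHomCx E] :
    DRing.IsPerfect A ((DRing.RHomCx E).obj (Dual.inD A A)) ∧
      ∀ (E' : DRing.Cx A) (eK' : DRing.toD E' ≅ (DRing.RHomCx E).obj (Dual.inD A A)) [DRing.HasRHomCx E'],
        Nonempty ((DRing.RHomCx E').obj (Dual.inD A A) ≅ K) := by
  obtain ⟨P, hP, ⟨eP⟩⟩ := (Groth.Agent.DRingLib.isPerfect_iff K).1 hK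
  obtain ⟨e₁⟩ := Groth.Agent.DRingLib.nonempty_RHomCx_dual hP (eP ≪≫ eK.symm)
  refine ⟨(Groth.Agent.DRingLib.isPerfect_iff _).2 ⟨_, Groth.Agent.DRingLib.dualCx_bdd hP, ⟨e₁.symm⟩⟩, ?_⟩
  intro E' eK' _
  obtain ⟨e₂⟩ := Groth.Agent.DRingLib.nonempty_RHomCx_dual (Groth.Agent.DRingLib.dualCx_bdd hP) (e₁.symm ≪≫ eK'.symm)
  exact ⟨e₂ ≪≫ DerivedCategory.Q.mapIso (Groth.Agent.DRingLib.biDualIso hP.2).symm ≪≫ eP⟩

end Groth.Agent.S6963
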