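import Groth.Statements.S6966
import Mathlib.Algebra.Homology.DerivedCategory.Linear
import Mathlib.Algebra.Homology.DerivedCategory.Ext.EnoughProjectives
import Mathlib.Algebra.Category.ModuleCat.Projective
import Mathlib.LinearAlgebra.Finsupp.LinearCombination
import Mathlib.Algebra.Homology.ShortComplex.ModuleCat
-- import your own Groth.Agent.* helpers here

set_option autoImplicit false
universe u
open CategoryTheory CategoryTheory.Limits
attribute [local instance] HasDerivedCategory.standard
open CAlg

namespace Groth.Agent.S6966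

open CategoryTheory.Pretriangulated

/-- Let R be a commutative ring, I an ideal of R and M an R-module. Then the following two conditions
coincide: for each a ∈ I, the endomorphism of M given by multiplication by a can be written as a
composite M → P → M with P some projective R-module; and for every R-module N and every a ∈ I, a
annihilates Ext^1_R(M, N) = Hom(M[0], N[1]) in D(R). -/
theorem result (R : Type u) [CommRing R] (I : Ideal R) (M : Type u)
    [AddCommGroup M] [Module R M] :
    (∀ a ∈ I, ∃ (P : Type u) (_ : AddCommGroup P) (_ : Module R P) (_ : Module.Projective R P)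
        (f : M →ₗ[R] P) (g : P →ₗ[R] M), g ∘ₗ f = a • LinearMap.id) ↔
      ∀ (N : Type u) [AddCommGroup N] [Module R N], ∀ a ∈ I,
        ∀ x : DRing.ExtD R (Dual.inD R M) (Dual.inD R N) 1, a • x = 0 := by
  let F := DerivedCategory.singleFunctor (ModuleCat.{u} R) 0
  have hsm : ∀ (a : R) (X : ModuleCat.{u} R) (Y : DerivedCategory (ModuleCat.{u} R)) (x : F.obj X ⟶ Y),
      a • x = F.map (a • 𝟙 X) ≫ x := by
    intro a X Y x
    rw [Functor.map_smul, CategoryTheory.Functor.map_id, Linear.smul_comp, Category.id_comp]
  constructor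
  · intro h N _ _ a ha x
    obtain ⟨P, _, _, _, f, g, hfg⟩ := h a ha
    have hP : Projective (ModuleCat.of R P) := (IsProjective.iff_projective P).mp inferInstance
    have hzero : ∀ y : F.obj (ModuleCat.of R P) ⟶ (F.obj (ModuleCat.of R N))⟦(1 : ℤ)⟧, y = 0 := by
      intro y
      have he : (Abelian.Ext.homEquiv (n := 1)).symm (y : ShiftedHom _ _ ((1 : ℕ) : ℤ)) =
          (Abelian.Ext.homEquiv (n := 1) (X := ModuleCat.of R P) (Y := ModuleCat.of R N)).symm 0 :=
        (Abelian.Ext.eq_zero_of_projective _).trans (Abelian.Ext.eq_zero_of_projective _).symm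
      exact (Abelian.Ext.homEquiv (n := 1)).symm.injective he
    have hid : a • 𝟙 (ModuleCat.of R M) = ModuleCat.ofHom f ≫ ModuleCat.ofHom g := by
      rw [← ModuleCat.ofHom_comp, hfg]; rfl
    rw [hsm, hid, Functor.map_comp, Category.assoc, hzero (F.map (ModuleCat.ofHom g) ≫ x)]
    exact comp_zero
  · intro h a ha
    let π : (M →₀ R) →ₗ[R] M := Finsupp.linearCombination R id
    have hπ : Function.Surjective π := fun m => ⟨Finsupp.single m 1, by simp [π]⟩
    let K : Submodule R (M →₀ R) := LinearMap.ker π
    let S : ShortComplex (ModuleCat.{u} R) := ShortComplex.mk (X₁ := ModuleCat.of R K) (ModuleCat.ofHom K.subtype) (ModuleCat.ofHom π)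
      (ModuleCat.hom_ext (LinearMap.ext fun z => z.2))
    have hS : S.ShortExact :=
      { exact := (S.moduleCat_exact_iff).mpr fun z hz => ⟨⟨z, hz⟩, rfl⟩
        mono_f := (ModuleCat.mono_iff_injective _).mpr Subtype.val_injective
        epi_g := (ModuleCat.epi_iff_surjective _).mpr hπ }
    have hd := h (LinearMap.ker π) a ha hS.singleδ
    rw [hsm] at hd
    obtain ⟨g, hg⟩ := Triangle.coyoneda_exact₃ _ hS.singleTriangle_distinguished (F.map (a • 𝟙 (ModuleCat.of R M))) hd
    refine ⟨M →₀ R, inferInstance, inferInstance, inferInstance, (F.preimage g).hom, π, ?_⟩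
    have hpre : F.preimage g ≫ ModuleCat.ofHom π = a • 𝟙 (ModuleCat.of R M) :=
      F.map_injective ((F.map_comp _ _).trans ((congrArg (· ≫ F.map (ModuleCat.ofHom π)) (F.map_preimage _)).trans hg.symm))
    exact congrArg ModuleCat.Hom.hom hpre

end Groth.Agent.S6966
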