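import Groth.Statements.S6972
import Groth.Agent.DRingLib.Minimal

set_option autoImplicit false
universe u
open CategoryTheory CategoryTheory.Limits
attribute [local instance] HasDerivedCategory.standard
open DRing Groth.Agent.DRingLib Groth.Agent.DCohLib Groth.Agent.DTenLib
set_option backward.isDefEq.respectTransparency false
set_option linter.style.haveILetI false

namespace Groth.Agent.S6972

/-- Let R be a local commutative ring with residue field κ such that the derived base change D(R) → D(κ)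
exists, and let K be a pseudo-coherent object of D(R). Write d_i for the κ-dimension of H^i(K ⊗^L_R
κ). Then every H^i(K ⊗^L_R κ) is finite dimensional and vanishes for i large; there is a bounded
above cochain complex P of finite free R-modules with rank P^i = d_i for all i which is isomorphic
to K in D(R); and any two such complexes are isomorphic as complexes of R-modules. -/
theorem result (R : Type u) [CommRing R] [IsLocalRing R]
    [DRing.HasLBaseChange (IsLocalRing.residue R)] (K : Dual.D R) (hK : DRing.IsPseudoCoherent' R K) :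
    let κ := IsLocalRing.ResidueField R
    let Kκ := (DRing.LBaseChange (IsLocalRing.residue R)).obj K
    let Minimal := fun P : DRing.Cx R => (∃ b : ℤ, DRing.VanishesAbove P b) ∧
      (∀ i : ℤ, Module.Free R (P.X i) ∧ Module.Finite R (P.X i) ∧
        Module.finrank R (P.X i) = Module.finrank κ (Dual.HD κ Kκ i)) ∧ Nonempty (DRing.toD P ≅ K)
    (∀ i : ℤ, Module.Finite κ (Dual.HD κ Kκ i)) ∧ (∃ b : ℤ, ∀ i : ℤ, b < i → Subsingleton (Dual.HD κ Kκ i)) ∧
      (∃ P : DRing.Cx R, Minimal P) ∧ ∀ P Q : DRing.Cx R, Minimal P → Minimal Q → Nonempty (P ≅ Q) := by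
  intro κ Kκ Minimal
  let m := IsLocalRing.maximalIdeal R
  have hm : m ≤ Ideal.jacobson (⊥ : Ideal R) := IsLocalRing.maximalIdeal_le_jacobson _
  haveI : DRing.HasLBaseChange (Ideal.Quotient.mk m) := ‹DRing.HasLBaseChange (IsLocalRing.residue R)›
  have hpc : ∀ n, PC FFree n Kκ := fun n => pc_lbc (IsLocalRing.residue R) ((isPseudoCoherent'_iff K).1 hK n)
  have hfin : ∀ i : ℤ, Module.Finite κ (Dual.HD κ Kκ i) := fun i => finite_HD_of_noetherian (hpc i) le_rfl
  obtain ⟨n, hn⟩ := (hpc 0).exists_aboveZero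
  have hvan : ∀ i : ℤ, n ≤ i → Subsingleton (Dual.HD κ Kκ i) := fun i hi => ModuleCat.subsingleton_of_isZero (hn i hi)
  let G : DRing.Cx κ := DerivedCategory.Q.objPreimage Kκ
  let eG : DRing.toD G ≅ Kκ := DerivedCategory.Q.objObjPreimageIso Kκ
  let eH : ∀ i, G.homology i ≅ (DerivedCategory.homologyFunctor (ModuleCat.{u} κ) i).obj Kκ := fun i =>
    ((DerivedCategory.homologyFunctorFactors _ i).app G).symm ≪≫ (DerivedCategory.homologyFunctor _ i).mapIso eG
  obtain ⟨f, hf⟩ := exists_quasiIso_zeroDiff G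
  let E : DRing.Cx κ := zeroDiffCx fun i => G.homology i
  haveI : IsIso (DerivedCategory.Q.map f) := (DerivedCategory.isIso_Q_map_iff_quasiIso _ f).2 hf
  have hEb : DRing.VanishesAbove E n := fun i hi => (hn i hi.le).of_iso (eH i)
  have hEf : ∀ i : ℤ, Module.Free κ (E.X i) ∧ Module.Finite κ (E.X i) := fun i =>
    ⟨Module.Free.of_divisionRing κ (G.homology i), by
      haveI := hfin i
      exact Module.Finite.equiv (eH i).toLinearEquiv.symm⟩
  have hEi : ∀ i : ℤ, ∃ X : ModuleCat.{u} R, finStabProp X ∧ Nonempty ((red m).obj X ≅ E.X i) := fun i => by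
    haveI : Module.Free (R ⧸ m) (E.X i) := (hEf i).1
    haveI : Module.Finite (R ⧸ m) (E.X i) := (hEf i).2
    obtain ⟨X, ⟨hX, hX'⟩, hXE⟩ := exists_free_lift m (E.X i)
    exact ⟨X, ⟨hX', inferInstance⟩, hXE⟩
  have h1 : ∀ X : ModuleCat.{u} R, finStabProp X → Module.Projective R X := fun X hX => by
    haveI := hX.2
    infer_instance
  have h3 : ∀ (X Y : ModuleCat.{u} R) (f : X ⟶ Y), finStabProp X → finStabProp Y →
      LinearMap.range f.hom ⊔ m • (⊤ : Submodule R Y) = ⊤ → Function.Surjective f.hom := fun X Y f _ hY h => by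
    haveI := hY.1
    exact surjective_of_jacobson m hm f h
  obtain ⟨Q, c, hQc, hQ, ⟨eQ⟩⟩ := id hK
  obtain ⟨P, b', hb', hP, hPK, ⟨θ⟩⟩ := exists_lift m finStabProp h1 finStabProp_prod h3 hQc
    (fun i => by
      obtain ⟨hfin', hfree⟩ := hQ i
      exact ⟨hfin', inferInstance⟩) eQ hEb hEi (asIso (DerivedCategory.Q.map f) ≪≫ eG)
  refine ⟨hfin, ⟨n, fun i hi => hvan i hi.le⟩, ⟨P, ⟨b', hb'⟩, fun i => ?_, hPK⟩, ?_⟩
  · haveI : Module.Free (R ⧸ m) (E.X i) := (hEf i).1
    haveI : Module.Finite (R ⧸ m) (E.X i) := (hEf i).2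
    have hfree := free_of_red_free m finStabProp h1 (fun X Y hX => (finStabProp_prod X Y hX).1) h3
      (fun X hX hX' => ⟨hX', inferInstance⟩) (hP i) (HomologicalComplex.Hom.isoApp θ i)
    haveI := hfree
    refine ⟨hfree, (hP i).1, ?_⟩
    exact (nontrivial_red_finrank m (P.X i)).symm.trans
      ((HomologicalComplex.Hom.isoApp θ i).toLinearEquiv.finrank_eq.trans (eH i).toLinearEquiv.finrank_eq)
  · rintro P Q ⟨⟨b, hb⟩, hP, ⟨eP⟩⟩ ⟨⟨c, hc⟩, hQ, ⟨eQ⟩⟩
    have hzero : ∀ (S : DRing.Cx R) (b : ℤ), DRing.VanishesAbove S b →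
        (∀ i : ℤ, Module.Free R (S.X i) ∧ Module.Finite R (S.X i) ∧
          Module.finrank R (S.X i) = Module.finrank κ (Dual.HD κ Kκ i)) →
        (DRing.toD S ≅ K) → ∀ i j, (red m).map (S.d i j) = 0 := by
      intro S b hb hS e i j
      let G : DRing.Cx κ := (DTen.extCx (IsLocalRing.residue R)).obj S
      haveI : ∀ i, Module.Finite κ (G.X i) := fun i => by
        haveI := (hS i).2.1
        exact finite_red m (S.X i)
      refine d_eq_zero_of_finrank G (fun i => ?_) i j
      haveI := (hS i).1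
      let e' : DRing.toD G ≅ Kκ := (lbcIso (IsLocalRing.residue R) S (isKFlat_of_projective hb fun i => by
        haveI := (hS i).1
        infer_instance)).symm ≪≫ (DRing.LBaseChange _).mapIso e
      refine ((((DerivedCategory.homologyFunctorFactors _ i).app G).symm ≪≫
        (DerivedCategory.homologyFunctor _ i).mapIso e').toLinearEquiv.finrank_eq).trans ?_
      exact (hS i).2.2.symm.trans (nontrivial_red_finrank m (S.X i)).symm
    exact nonempty_iso_of_zero_diff m hm hb hc
      (fun i => ⟨(hP i).2.1, by haveI := (hP i).1; infer_instance⟩)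
      (fun i => ⟨(hQ i).2.1, by haveI := (hQ i).1; infer_instance⟩)
      (hzero P b hb hP eP) (hzero Q c hc hQ eQ) (eP ≪≫ eQ.symm)

end Groth.Agent.S6972
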