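import Groth.Statements.S6973
import Groth.Agent.DRingLib.LiftProj

set_option autoImplicit false
universe u
open CategoryTheory CategoryTheory.Limits
attribute [local instance] HasDerivedCategory.standard
open DRing Groth.Agent.DRingLib

namespace Groth.Agent.S6973

/-- Let (R, I) be a henselian pair such that the derived base change D(R) → D(R/I) exists, K a
pseudo-coherent object of D(R), and E a bounded above cochain complex of finite projective
R/I-modules which is isomorphic in D(R/I) to K ⊗^L_R R/I. Then there is a bounded above cochain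
complex P of finite projective R-modules, isomorphic to K in D(R), whose termwise reduction P ⊗_R
R/I is isomorphic to E as a complex, and such that P^i is free for every i for which E^i is free. -/
theorem result (R : Type u) [CommRing R]
    (I : Ideal R) [HenselianRing R I] [DRing.HasLBaseChange (Ideal.Quotient.mk I)] (K : Dual.D R)
    (hK : DRing.IsPseudoCoherent' R K) (E : DRing.Cx (R ⧸ I)) (b : ℤ) (hEb : DRing.VanishesAbove E b)
    (hEp : DRing.TermwiseFiniteProjective E)
    (hE : Nonempty (DRing.toD E ≅ (DRing.LBaseChange (Ideal.Quotient.mk I)).obj K)) :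
    ∃ (P : DRing.Cx R) (b' : ℤ), DRing.VanishesAbove P b' ∧ DRing.TermwiseFiniteProjective P ∧
      Nonempty (DRing.toD P ≅ K) ∧ Nonempty ((((ModuleCat.extendScalars (Ideal.Quotient.mk I)).mapHomologicalComplex (ComplexShape.up ℤ)).obj P) ≅ E) ∧
      ∀ i : ℤ, Module.Free (R ⧸ I) (E.X i) → Module.Free R (P.X i) := by
  obtain ⟨eE⟩ := hE
  obtain ⟨Q, c, hQc, hQ, ⟨eQ⟩⟩ := hK
  have h3 : ∀ (X Y : ModuleCat.{u} R) (f : X ⟶ Y), finProjProp X → finProjProp Y →
      LinearMap.range f.hom ⊔ I • (⊤ : Submodule R Y) = ⊤ → Function.Surjective f.hom := fun X Y f _ hY h => by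
    haveI := hY.1
    exact surjective_of_jacobson I HenselianRing.jac f h
  obtain ⟨P, b', hb', hP, hPK, ⟨θ⟩⟩ := exists_lift I finProjProp (fun X hX => hX.2) finProjProp_prod h3 hQc
    (fun i => by
      obtain ⟨hfin, hfree⟩ := hQ i
      exact ⟨by assumption, inferInstance⟩) eQ hEb (fun i => by
      haveI := (hEp i).1
      haveI := (hEp i).2
      exact exists_projective_lift_of_henselian I (E.X i)) eE
  refine ⟨P, b', hb', hP, hPK, ⟨θ⟩, fun i hi => ?_⟩
  haveI := (hEp i).1
  exact free_of_red_free I finProjProp (fun X hX => hX.2) (fun X Y hX => (finProjProp_prod X Y hX).1) h3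
    (fun X hX hX' => ⟨hX', inferInstance⟩) (hP i) (HomologicalComplex.Hom.isoApp θ i)

end Groth.Agent.S6973
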