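import Groth.Statements.S6975
import Groth.Agent.DRingLib.FibreCriterion
-- import your own Groth.Agent.* helpers here

set_option autoImplicit false
universe u
open CategoryTheory CategoryTheory.Limits
attribute [local instance] HasDerivedCategory.standard
open DRing

namespace Groth.Agent.S6975

/-- Let R be a local commutative ring with residue field κ such that the derived base change D(R) → D(κ)
exists, and let K be a pseudo-coherent object of D(R). If there is an integer a with H^i(K ⊗^L_R κ)
= 0 for all i < a, then K is perfect. -/
theorem result (R : Type u) [CommRing R] [IsLocalRing R]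
    [DRing.HasLBaseChange (IsLocalRing.residue R)] (K : Dual.D R) (hK : DRing.IsPseudoCoherent' R K) (a : ℤ)
    (h : ∀ i : ℤ, i < a → Subsingleton (Dual.HD (IsLocalRing.ResidueField R)
      ((DRing.LBaseChange (IsLocalRing.residue R)).obj K) i)) :
    DRing.IsPerfect R K := by
  obtain ⟨E, b, hb, hE, ⟨e⟩⟩ := id hK
  haveI : ∀ m : Ideal R, DRing.HasLBaseChange (Ideal.Quotient.mk m) := fun m => Groth.Agent.DRingLib.hasLBaseChange _
  refine (Groth.Agent.DRingLib.perfect_of_fibres hK a b fun m hm i hi => ?_).1
  obtain rfl := IsLocalRing.eq_maximalIdeal hm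
  rcases hi with hi | hi
  · exact h i hi
  · have hz : Groth.Agent.DCohLib.AboveZero (b + 1) K := fun j hj =>
      IsZero.of_iso ((HomologicalComplex.exactAt_iff_isZero_homology _ _).1
        (ShortComplex.exact_of_isZero_X₂ _ (hb j (by omega))))
        ((DerivedCategory.homologyFunctor _ j).mapIso e.symm ≪≫ (DerivedCategory.homologyFunctorFactors _ j).app E)
    exact ModuleCat.subsingleton_of_isZero (Groth.Agent.DRingLib.aboveZero_lbc _ hz i (by omega))

end Groth.Agent.S6975
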