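import Groth.Statements.S6977
import Groth.Agent.DRingLib.FibreGlobalDim

set_option autoImplicit false
universe u
open CategoryTheory CategoryTheory.Limits
attribute [local instance] HasDerivedCategory.standard
open DRing Groth.Agent.DRingLib Groth.Agent.DCohLib Groth.Agent.DTenLib
open MonoidalCategory
open scoped TensorProduct
attribute [local instance] Algebra.TensorProduct.rightAlgebra
set_option backward.isDefEq.respectTransparency false
set_option linter.style.haveILetI false

namespace Groth.Agent.S6977

/-- Let A → B be a flat local homomorphism of local commutative rings such that B/m_A B is a regular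
local ring of dimension d, and assume the derived base change D(A) → D(κ_A) to the residue field of
A exists. Let a, b be integers and K a pseudo-coherent object of D(B) such that H^i((K regarded in
D(A)) ⊗^L_A κ_A) = 0 for every i outside [a, b]. Then K is perfect as an object of D(B) and has tor
amplitude in [a - d, b] over B. -/
theorem result {A B : Type u} [CommRing A] [CommRing B] [IsLocalRing A]
    [IsLocalRing B] [Algebra A B] [IsLocalHom (algebraMap A B)] [Module.Flat A B] (d : ℕ)
    [IsRegularLocalRing (B ⧸ (IsLocalRing.maximalIdeal A).map (algebraMap A B))]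
    (hd : ringKrullDim (B ⧸ (IsLocalRing.maximalIdeal A).map (algebraMap A B)) = d)
    [DRing.HasLBaseChange (IsLocalRing.residue A)] (a b : ℤ) (K : Dual.D B) (hK : DRing.IsPseudoCoherent' B K)
    (h : ∀ i : ℤ, (i < a ∨ b < i) → Subsingleton (Dual.HD (IsLocalRing.ResidueField A)
      ((DRing.LBaseChange (IsLocalRing.residue A)).obj ((DRing.restrictD (algebraMap A B)).obj K)) i)) :
    DRing.IsPerfect B K ∧ DRing.HasTorAmplitudeIn B (a - d) b K := by
  obtain ⟨E, c, hc, hE, ⟨e⟩⟩ := id hK
  have hEp : ∀ i, Module.Projective B (E.X i) := fun i => (fFree_imp_fProj (hE i)).2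
  let φ := algebraMap A B
  let κ := IsLocalRing.ResidueField A
  let ρ := IsLocalRing.residue A
  have hkf := isKFlat_resCx φ (flat_baseMod A B) (isKFlat_of_projective hc hEp)
  let e' : DRing.toD ((DTen.extCx ρ).obj ((DTen.resCx φ).obj E)) ≅
      (DRing.LBaseChange ρ).obj ((DRing.restrictD φ).obj K) :=
    (lbcIso ρ _ hkf).symm ≪≫ (DRing.LBaseChange ρ).mapIso (((DTen.resFactors φ).app E).symm ≪≫ (DRing.restrictD φ).mapIso e)
  have hR : ∀ i : ℤ, (i < a ∨ b < i) →
      ((tensM (ModuleCat.of A κ)).obj ((DTen.resCx φ).obj E)).ExactAt i := fun i hi => by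
    have hex : ((DTen.extCx ρ).obj ((DTen.resCx φ).obj E)).ExactAt i := (exactAt_iff_isZero_homologyFunctor _ i).2
      ((@ModuleCat.isZero_of_subsingleton _ _ _ (h i hi)).of_iso ((DerivedCategory.homologyFunctor _ i).mapIso e'))
    have h1 : ((tensM (baseMod ρ)).obj ((DTen.resCx φ).obj E)).ExactAt i := by
      refine HomologicalComplex.ExactAt.of_iso ?_
        ((NatIso.mapHomologicalComplex (extResIso ρ) (ComplexShape.up ℤ)).app _)
      rw [HomologicalComplex.exactAt_iff] at hex ⊢
      exact hex.map (ModuleCat.restrictScalars.{u} ρ)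
    exact h1.of_iso ((NatIso.mapHomologicalComplex ((tensoringLeft (ModuleCat.{u} A)).mapIso
      (LinearEquiv.toModuleIso (X₁ := baseMod ρ) (X₂ := κ) (baseModEquiv A κ))) (ComplexShape.up ℤ)).app _)
  let I := (IsLocalRing.maximalIdeal A).map φ
  let eC : TensorProduct A κ B ≃+* B ⧸ I :=
    (Algebra.TensorProduct.comm A κ B).toRingEquiv.trans
      (Algebra.TensorProduct.quotIdealMapEquivTensorQuot B (IsLocalRing.maximalIdeal A)).symm.toRingEquiv
  haveI : IsRegularLocalRing (TensorProduct A κ B) := IsRegularLocalRing.of_ringEquiv eC.symm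
  have hdC : ringKrullDim (TensorProduct A κ B) = d := (ringKrullDim_eq_of_ringEquiv eC).trans hd
  refine perfect_of_exact_fibres hK hc hE e (a - d) b fun m hm i hi => ?_
  have hm' : I ≤ m := by
    rw [IsLocalRing.eq_maximalIdeal hm]
    exact ((IsLocalRing.local_hom_TFAE φ).out 0 2 rfl rfl).1 (inferInstanceAs (IsLocalHom (algebraMap A B)))
  refine exact_fibre_of_globalDim (algebraMap B (TensorProduct A κ B)) d
    (fun M _ _ => Groth.Agent.S0563.result _ d hdC M) hc hEp (a := a) (b := b)
    (fun j hj => exactAt_extCx_fibre κ E j (hR j hj)) m ((Ideal.Quotient.factor hm').comp eC.toRingHom) ?_ i hi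
  ext x
  show Ideal.Quotient.factor hm' ((Algebra.TensorProduct.quotIdealMapEquivTensorQuot B (IsLocalRing.maximalIdeal A)).symm
    ((Algebra.TensorProduct.comm A κ B) ((1 : κ) ⊗ₜ[A] x))) = Ideal.Quotient.mk m x
  have : (Algebra.TensorProduct.quotIdealMapEquivTensorQuot B (IsLocalRing.maximalIdeal A)).symm
      ((Algebra.TensorProduct.comm A κ B) ((1 : κ) ⊗ₜ[A] x)) = Ideal.Quotient.mk I x := by
    rw [Algebra.TensorProduct.comm_tmul, AlgEquiv.symm_apply_eq]
    exact ((Algebra.TensorProduct.quotIdealMapEquivTensorQuot B (IsLocalRing.maximalIdeal A)).commutes x).symm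
  rw [this, Ideal.Quotient.factor_mk]

end Groth.Agent.S6977
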