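import Groth.Statements.S6980
import Groth.Agent.DRingLib.DescentPC
import Mathlib.RingTheory.Ideal.Quotient.PowTransition
-- import your own Groth.Agent.* helpers here

set_option autoImplicit false
universe u
open CategoryTheory CategoryTheory.Limits
attribute [local instance] HasDerivedCategory.standard
open DRing

namespace Groth.Agent.S6980

/-- Let R be a commutative ring, I and J ideals of R such that the derived base changes D(R) → D(R/I),
D(R/J), D(R/IJ) exist, and K an object of D(R). If K ⊗^L_R R/I is perfect in D(R/I) and K ⊗^L_R R/J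
is perfect in D(R/J), then K ⊗^L_R R/IJ is perfect in D(R/IJ). -/
theorem result (R : Type u) [CommRing R] (I J : Ideal R)
    [DRing.HasLBaseChange (Ideal.Quotient.mk I)] [DRing.HasLBaseChange (Ideal.Quotient.mk J)]
    [DRing.HasLBaseChange (Ideal.Quotient.mk (I * J))] (K : Dual.D R)
    (hI : DRing.IsPerfect (R ⧸ I) ((DRing.LBaseChange (Ideal.Quotient.mk I)).obj K))
    (hJ : DRing.IsPerfect (R ⧸ J) ((DRing.LBaseChange (Ideal.Quotient.mk J)).obj K)) :
    DRing.IsPerfect (R ⧸ (I * J)) ((DRing.LBaseChange (Ideal.Quotient.mk (I * J))).obj K) := by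
  rw [Groth.Agent.DRingLib.isPerfect_iff] at hI hJ ⊢
  let φ := Ideal.Quotient.factor (Ideal.mul_le_left : I * J ≤ I)
  let ψ := Ideal.Quotient.factor (Ideal.mul_le_right : I * J ≤ J)
  haveI := Groth.Agent.DRingLib.hasLBaseChange φ
  haveI := Groth.Agent.DRingLib.hasLBaseChange ψ
  have h₁ : φ.comp (Ideal.Quotient.mk (I * J)) = Ideal.Quotient.mk I := RingHom.ext fun _ => rfl
  have h₂ : ψ.comp (Ideal.Quotient.mk (I * J)) = Ideal.Quotient.mk J := RingHom.ext fun _ => rfl
  haveI := Groth.Agent.DRingLib.hasLBaseChange (φ.comp (Ideal.Quotient.mk (I * J)))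
  haveI := Groth.Agent.DRingLib.hasLBaseChange (ψ.comp (Ideal.Quotient.mk (I * J)))
  obtain ⟨e₁⟩ := Groth.Agent.DRingLib.nonempty_lbc_comp (Ideal.Quotient.mk (I * J)) φ K
  obtain ⟨e₂⟩ := Groth.Agent.DRingLib.nonempty_lbc_comp (Ideal.Quotient.mk (I * J)) ψ K
  refine Groth.Agent.DRingLib.isPerfect_of_mul_eq_bot φ ψ (Ideal.Quotient.factor_surjective _)
    (Ideal.Quotient.factor_surjective _) ?_ ((Groth.Agent.DRingLib.Perf.of_iso ?_ e₁.symm)) ((Groth.Agent.DRingLib.Perf.of_iso ?_ e₂.symm))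
  · rw [Ideal.Quotient.factor_ker, Ideal.Quotient.factor_ker, ← Ideal.map_mul, Ideal.map_quotient_self]
  · exact hI
  · exact hJ

end Groth.Agent.S6980
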