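import Groth.Statements.S6982
import Groth.Agent.DRingLib.RestrictAmp
import Mathlib
-- import your own Groth.Agent.* helpers here

set_option autoImplicit false
universe u
open CategoryTheory CategoryTheory.Limits
attribute [local instance] HasDerivedCategory.standard
open DRing

namespace Groth.Agent.S6982

open Groth.Agent.DTenLib TensorProduct

variable {R : Type u} [CommRing R]

/-- The inclusion of constants. -/
noncomputable abbrev cMap (R : Type u) [CommRing R] : R →+* Polynomial R := algebraMap R (Polynomial R)

/-- Evaluation at zero. -/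
noncomputable abbrev eMap (R : Type u) [CommRing R] : Polynomial R →+* R := Polynomial.evalRingHom (0 : R)

/-- A module, seen over constants after restriction along evaluation. -/
noncomputable def constHom (M : ModuleCat.{u} R) :
    M ⟶ (ModuleCat.restrictScalars.{u} (cMap R)).obj ((ModuleCat.restrictScalars.{u} (eMap R)).obj M) :=
  ModuleCat.ofHom (Y := (ModuleCat.restrictScalars.{u} (cMap R)).obj ((ModuleCat.restrictScalars.{u} (eMap R)).obj M))
    { toFun := fun m => m
      map_add' := fun _ _ => rfl
      map_smul' := fun r m => by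
        show r • m = Polynomial.eval 0 (algebraMap R (Polynomial R) r) • m
        simp }

/-- The map from the polynomial extension of a module to the module. -/
noncomputable def piM (M : ModuleCat.{u} R) :
    (ModuleCat.extendScalars.{u, u, u} (cMap R)).obj M ⟶ (ModuleCat.restrictScalars.{u} (eMap R)).obj M :=
  (ModuleCat.extendScalars.{u, u, u} (cMap R)).map (constHom M) ≫
    (ModuleCat.extendRestrictScalarsAdj (cMap R)).counit.app _

/-- The natural transformation to the restriction. -/
noncomputable def piNat : ModuleCat.extendScalars.{u, u, u} (cMap R) ⟶ ModuleCat.restrictScalars.{u} (eMap R) where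
  app := piM
  naturality M N g := by
    have h : g ≫ constHom N = constHom M ≫
        (ModuleCat.restrictScalars.{u} (cMap R)).map ((ModuleCat.restrictScalars.{u} (eMap R)).map g) := rfl
    simp only [piM, ← Category.assoc, ← Functor.map_comp, h]
    rw [Functor.map_comp, Category.assoc, Category.assoc]
    exact congrArg _ ((ModuleCat.extendRestrictScalarsAdj (cMap R)).counit.naturality _)

/-- Multiplication by the variable. -/
noncomputable def mulX : ModuleCat.extendScalars.{u, u, u} (cMap R) ⟶ ModuleCat.extendScalars.{u, u, u} (cMap R) where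
  app M := (Polynomial.X : Polynomial R) • 𝟙 _
  naturality M N g := by
    rw [Linear.smul_comp, Linear.comp_smul, Category.id_comp, Category.comp_id]

theorem exact_mulX_pi (M : ModuleCat.{u} R) :
    Function.Injective ((mulX (R := R)).app M).hom ∧
      Function.Exact ((mulX (R := R)).app M).hom (piM M).hom ∧ Function.Surjective (piM M).hom := by
  let N := (ModuleCat.restrictScalars.{u} (cMap R)).obj (ModuleCat.of (Polynomial R) (Polynomial R))
  let e : N ≃ₗ[R] Polynomial R := Groth.Agent.DRingLib.baseModEquiv R (Polynomial R)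
  let d₀ : Polynomial R →ₗ[R] Polynomial R :=
    { toFun := Polynomial.divX
      map_add' := fun f g => Polynomial.divX_add
      map_smul' := fun r f => by rw [Polynomial.smul_eq_C_mul, Polynomial.smul_eq_C_mul, RingHom.id_apply, Polynomial.divX_C_mul] }
  let a : N →ₗ[R] N := e.symm.toLinearMap ∘ₗ LinearMap.mulLeft R Polynomial.X ∘ₗ e.toLinearMap
  let d : N →ₗ[R] N := e.symm.toLinearMap ∘ₗ d₀ ∘ₗ e.toLinearMap
  let ev : N →ₗ[R] R := (Polynomial.leval (0 : R)) ∘ₗ e.toLinearMap
  have hda : d ∘ₗ a = LinearMap.id := LinearMap.ext fun f => e.injective (Polynomial.ext fun n => by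
    simp only [d, a, LinearMap.comp_apply, LinearEquiv.coe_coe, LinearEquiv.apply_symm_apply, LinearMap.id_apply,
      LinearMap.mulLeft_apply, d₀, LinearMap.coe_mk, AddHom.coe_mk, Polynomial.coeff_divX, Polynomial.coeff_X_mul])
  have hsurj : Function.Surjective ev := fun r => ⟨e.symm (Polynomial.C r), by
    simp [ev, Polynomial.leval]⟩
  have hex : Function.Exact a ev := fun f => by
    constructor
    · intro h
      refine ⟨e.symm (Polynomial.divX (e f)), e.injective ?_⟩
      simp only [a, LinearMap.comp_apply, LinearEquiv.coe_coe, LinearEquiv.apply_symm_apply, LinearMap.mulLeft_apply]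
      have := Polynomial.X_mul_divX_add (e f)
      have h' : Polynomial.eval 0 (e f) = 0 := by simpa [ev, Polynomial.leval] using h
      rwa [Polynomial.coeff_zero_eq_eval_zero, h', map_zero, add_zero] at this
    · rintro ⟨g, rfl⟩
      simp [ev, a, Polynomial.leval]
  have h1 : ∀ x : N ⊗[R] M, ((mulX (R := R)).app M).hom x = a.rTensor M x := fun x => by
    refine TensorProduct.induction_on x ?_ (fun f m => ?_) (fun y z hy hz => ?_)
    · exact (map_zero _).trans (map_zero _).symm
    · rfl
    · exact (map_add _ _ _).trans ((congrArg₂ (· + ·) hy hz).trans (map_add _ _ _).symm)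
  have h2 : ∀ x : N ⊗[R] M, (piM M).hom x = TensorProduct.lid R M (ev.rTensor M x) := fun x => by
    refine TensorProduct.induction_on x ?_ (fun f m => ?_) (fun y z hy hz => ?_)
    · exact (map_zero _).trans (((congrArg _ (map_zero _)).trans (map_zero _)).symm)
    · rfl
    · exact (map_add _ _ _).trans ((congrArg₂ (· + ·) hy hz).trans
        (((congrArg _ (map_add _ y z)).trans (map_add _ _ _)).symm))
  refine ⟨fun x y h => ?_, fun x => ?_, fun m => ?_⟩
  · have h' : a.rTensor M x = a.rTensor M y := (h1 x).symm.trans (h.trans (h1 y))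
    have := congrArg (d.rTensor M) h'
    rwa [← LinearMap.rTensor_comp_apply, ← LinearMap.rTensor_comp_apply, hda, LinearMap.rTensor_id_apply,
      LinearMap.rTensor_id_apply] at this
  · have hx := rTensor_exact M hex hsurj x
    constructor
    · intro h
      obtain ⟨y, hy⟩ := hx.1 ((TensorProduct.lid R M).injective ((h2 x).symm.trans (h.trans (map_zero _).symm)))
      exact ⟨y, (h1 y).trans hy⟩
    · rintro ⟨y, rfl⟩
      exact (h2 _).trans ((congrArg _ (hx.2 ⟨y, (h1 y).symm⟩)).trans (map_zero _))
  · obtain ⟨y, hy⟩ := LinearMap.rTensor_surjective M hsurj ((TensorProduct.lid R M).symm m)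
    exact ⟨y, (h2 y).trans (by rw [hy, LinearEquiv.apply_symm_apply])⟩

theorem extend_mulX (M : ModuleCat.{u} R) :
    (ModuleCat.extendScalars.{u, u, u} (eMap R)).map ((mulX (R := R)).app M) = 0 := by
  apply ((ModuleCat.extendRestrictScalarsAdj (eMap R)).homEquiv _ _).injective
  rw [Adjunction.homEquiv_unit, Adjunction.homEquiv_unit, Functor.map_zero, comp_zero]
  refine ((ModuleCat.extendRestrictScalarsAdj (eMap R)).unit.naturality ((mulX (R := R)).app M)).symm.trans
    (ModuleCat.hom_ext (LinearMap.ext fun y => ?_))
  show ((ModuleCat.extendRestrictScalarsAdj (eMap R)).unit.app _).hom ((Polynomial.X : Polynomial R) • y) = 0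
  rw [map_smul, ModuleCat.restrictScalars.smul_def]
  simp [eMap]
  rfl

/-- Let R be a commutative ring, K an object of D(R) and φ : R[x] → R the R-algebra homomorphism sending
x to 0; assume the derived base change D(R[x]) → D(R) along φ exists. Then the derived base change
along φ of K (regarded as an object of D(R[x]) via φ) is isomorphic in D(R) to K ⊕ K[1]. -/
theorem result (R : Type u) [CommRing R]
    [DRing.HasLBaseChange (Polynomial.evalRingHom (0 : R))] (K : Dual.D R)
    [HasBinaryBiproduct K ((shiftFunctor (Dual.D R) (1 : ℤ)).obj K)] :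
    Nonempty ((DRing.LBaseChange (Polynomial.evalRingHom (0 : R))).obj
        ((DRing.restrictD (Polynomial.evalRingHom (0 : R))).obj K) ≅
      K ⊞ (shiftFunctor (Dual.D R) (1 : ℤ)).obj K) := by
  let ε := Polynomial.evalRingHom (0 : R)
  obtain ⟨P, hP, -, ⟨e⟩⟩ := Groth.Agent.DRingLib.exists_kflat_representative K
  let Px := (DTen.extCx (cMap R)).obj P
  let φ : Px ⟶ Px := (NatTrans.mapHomologicalComplex (mulX (R := R)) (ComplexShape.up ℤ)).app P
  let π : Px ⟶ (DTen.resCx ε).obj P := (NatTrans.mapHomologicalComplex (piNat (R := R)) (ComplexShape.up ℤ)).app P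
  let S : ShortComplex (DRing.Cx (Polynomial R)) := ShortComplex.mk φ π (by
    ext n : 1
    exact ModuleCat.hom_ext (LinearMap.ext fun x => ((exact_mulX_pi (P.X n)).2.1 _).2 ⟨x, rfl⟩))
  have hS : S.ShortExact := HomologicalComplex.shortExact_of_degreewise_shortExact _ fun n =>
    ShortComplex.ShortExact.mk'
      ((ShortComplex.ShortExact.moduleCat_exact_iff_function_exact _).2 (exact_mulX_pi (P.X n)).2.1)
      ((ModuleCat.mono_iff_injective _).2 (exact_mulX_pi (P.X n)).1)
      ((ModuleCat.epi_iff_surjective _).2 (exact_mulX_pi (P.X n)).2.2)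
  have hq := CochainComplex.mappingCone.quasiIso_descShortComplex hS
  haveI := Groth.Agent.DTenLib.isIso_Q_of_quasiIso _ hq
  have hPx : DRing.IsKFlat (Polynomial R) Px := Groth.Agent.DTenLib.isKFlat_extCx (cMap R) hP
  have hcone : DRing.IsKFlat (Polynomial R) (CochainComplex.mappingCone φ) := by
    rw [Groth.Agent.DTenLib.isKFlat_iff] at hPx ⊢
    exact (Groth.Agent.KFlat.twoOfThree_mappingCone _ φ).1 hPx hPx
  let eExt : (DTen.extCx ε).obj Px ≅ P :=
    ((NatIso.mapHomologicalComplex (ModuleCat.extendScalarsComp (cMap R) ε) (ComplexShape.up ℤ)).app P).symm ≪≫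
      (NatIso.mapHomologicalComplex (eqToIso (congrArg ModuleCat.extendScalars.{u, u, u}
          (show ε.comp (cMap R) = RingHom.id R from RingHom.ext fun r => by simp [ε, cMap])) ≪≫
        ModuleCat.extendScalarsId R) (ComplexShape.up ℤ)).app P
  have h0 : (DTen.extCx ε).map φ = 0 := by
    ext n : 1
    exact extend_mulX (P.X n)
  let e₁ : DRing.toD (CochainComplex.mappingCone φ) ≅ (DRing.restrictD ε).obj K :=
    @asIso _ _ _ _ (DerivedCategory.Q.map (CochainComplex.mappingCone.descShortComplex S)) ‹_› ≪≫
      ((DTen.resFactors ε).app P).symm ≪≫ (DRing.restrictD ε).mapIso e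
  let T := DerivedCategory.Q.mapTriangle.obj (CochainComplex.mappingCone.triangle ((DTen.extCx ε).map φ))
  have hT : T ∈ Pretriangulated.distinguishedTriangles := DerivedCategory.mappingCone_triangle_distinguished _
  have hmor : T.mor₁ = 0 := by
    show DerivedCategory.Q.map ((DTen.extCx ε).map φ) = 0
    rw [h0, Functor.map_zero]
  haveI := fun X Y : Dual.D R => (inferInstance : HasBinaryBiproduct X Y)
  obtain ⟨e₂, -, -⟩ := Pretriangulated.exists_iso_binaryBiproduct_of_distTriang T.rotate
    (Pretriangulated.rot_of_distTriang T hT) (by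
      show -(shiftFunctor _ (1 : ℤ)).map T.mor₁ = 0
      rw [hmor, Functor.map_zero, neg_zero])
  exact ⟨(DRing.LBaseChange ε).mapIso e₁.symm ≪≫ Groth.Agent.DRingLib.lbcIso ε _ hcone ≪≫
    DerivedCategory.Q.mapIso (CochainComplex.mappingCone.mapHomologicalComplexIso φ (ModuleCat.extendScalars.{u, u, u} ε)) ≪≫
    e₂ ≪≫ biprod.mapIso (DerivedCategory.Q.mapIso eExt ≪≫ e)
      ((shiftFunctor (Dual.D R) (1 : ℤ)).mapIso (DerivedCategory.Q.mapIso eExt ≪≫ e))⟩

end Groth.Agent.S6982
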