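import Groth.Statements.S6989
import Groth.Agent.DRingLib.CompactPerfect
import Mathlib.RingTheory.Filtration

set_option autoImplicit false
universe u
open CategoryTheory CategoryTheory.Limits
attribute [local instance] HasDerivedCategory.standard
open DRing Groth.Agent.DRingLib Groth.Agent.DCohLib
set_option backward.isDefEq.respectTransparency false
set_option linter.style.haveILetI false

namespace Groth.Agent.S6989

/-- Let A be a Noetherian commutative ring, K an object of D(A) whose cohomology vanishes in large
degrees and whose cohomology modules are all finitely generated, m a maximal ideal of A and i an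
integer such that m H^i(K) ≠ H^i(K). Then some finitely generated A-module E killed by a power of m
receives a morphism K → E[-i] in D(A) whose induced map H^i(K) → H^i(E[-i]) is nonzero. -/
theorem result (A : Type u) [CommRing A]
    [IsNoetherianRing A] (K : Dual.D A) (hb : ∃ b : ℤ, ∀ j : ℤ, b < j → Subsingleton (Dual.HD A K j))
    (hfin : ∀ j : ℤ, Module.Finite A (Dual.HD A K j)) (m : Ideal A) [m.IsMaximal] (i : ℤ)
    (hi : m • (⊤ : Submodule A (Dual.HD A K i)) ≠ ⊤) :
    ∃ (E : Type u) (_ : AddCommGroup E) (_ : Module A E) (_ : Module.Finite A E) (n : ℕ)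
      (_ : m ^ n • (⊤ : Submodule A E) = ⊥) (f : K ⟶ (shiftFunctor (Dual.D A) (-i)).obj (Dual.inD A E)),
      (DerivedCategory.homologyFunctor (ModuleCat.{u} A) i).map f ≠ 0 := by
  obtain ⟨b, hb⟩ := hb
  have hpc : DRing.IsPseudoCoherent' A K := (isPseudoCoherent'_iff K).2 fun k =>
    pc_of_homology projClass_fFree k (b + 1 - k).toNat K (fun j hj =>
      @ModuleCat.isZero_of_subsingleton _ _ _ (hb j (by omega))) fun j hj => by
      haveI := hfin j
      exact (pc_inD_of_finite (j - k).toNat (Dual.HD A K j)).mono (by omega)
  obtain ⟨N, c, -, hN, ⟨e⟩⟩ := hpc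
  haveI : Module.Finite A (N.X i) := (hN i).1
  let C := N.opcycles i
  haveI : Module.Finite A C := Module.Finite.of_surjective (N.pOpcycles i).hom
    ((ModuleCat.epi_iff_surjective _).1 inferInstance)
  let eH := ((DerivedCategory.homologyFunctor (ModuleCat.{u} A) i).mapIso e.symm).toLinearEquiv.trans
    ((DerivedCategory.homologyFunctorFactors (ModuleCat.{u} A) i).app N).toLinearEquiv
  have hi' : m • (⊤ : Submodule A (N.homology i)) ≠ ⊤ := fun h => hi (by
    apply Submodule.map_injective_of_injective (f := eH.toLinearMap) eH.injective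
    rw [Submodule.map_smul'', Submodule.map_top]
    erw [LinearEquiv.range]
    exact h)
  let ι := (N.homologyι i).hom
  have hι : Function.Injective ι := (ModuleCat.mono_iff_injective _).1 inferInstance
  obtain ⟨k, hk⟩ := Ideal.exists_pow_inf_eq_pow_smul m (LinearMap.range ι)
  let J : Submodule A C := m ^ (k + 1) • ⊤
  let E := C ⧸ J
  let q : C ⟶ ModuleCat.of A E := ModuleCat.ofHom J.mkQ
  let ψ : N ⟶ (CochainComplex.singleFunctor (ModuleCat.{u} A) i).obj (ModuleCat.of A E) :=
    toOp N i ≫ (CochainComplex.singleFunctor (ModuleCat.{u} A) i).map q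
  refine ⟨E, inferInstance, inferInstance, inferInstance, k + 1, ?_,
    e.inv ≫ DerivedCategory.Q.map ψ ≫ (sngIso i (ModuleCat.of A E)).hom, fun h0 => hi' ?_⟩
  · rw [← Submodule.range_mkQ J, ← Submodule.map_top, ← Submodule.map_smul'', Submodule.mkQ_map_self]
  · have h1 : HomologicalComplex.homologyMap ψ i = 0 := by
      rw [Functor.map_comp, Functor.map_comp] at h0
      replace h0 : (DerivedCategory.homologyFunctor (ModuleCat.{u} A) i).map (DerivedCategory.Q.map ψ) = 0 :=
        (cancel_mono ((DerivedCategory.homologyFunctor (ModuleCat.{u} A) i).map (sngIso i (ModuleCat.of A E)).hom)).1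
          (((cancel_epi ((DerivedCategory.homologyFunctor (ModuleCat.{u} A) i).map e.inv)).1
            (h0.trans comp_zero.symm)).trans zero_comp.symm)
      rw [← cancel_epi (Groth.Agent.DComplLib.hQIso N i).hom, ← Groth.Agent.DComplLib.hQIso_natural, h0,
        zero_comp, comp_zero]
    let S := (CochainComplex.singleFunctor (ModuleCat.{u} A) i).obj (ModuleCat.of A E)
    haveI : IsIso (S.homologyπ i) := S.isIso_homologyπ (i - 1) i (by simp)
      ((HomologicalComplex.isZero_single_obj_X (ComplexShape.up ℤ) i (ModuleCat.of A E) (i - 1) (by omega)).eq_of_src _ _)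
    have h2 : HomologicalComplex.cyclesMap ψ i = 0 := by
      rw [← cancel_mono (S.homologyπ i), ← HomologicalComplex.homologyπ_naturality, h1, comp_zero, zero_comp]
    have h3 : N.homologyι i ≫ q = 0 := by
      have h4 := HomologicalComplex.cyclesMap_i ψ i
      rw [h2, zero_comp, HomologicalComplex.comp_f, toOp, HomologicalComplex.mkHomToSingle_f] at h4
      erw [HomologicalComplex.single_map_f_self] at h4
      rw [← cancel_epi (N.homologyπ i), comp_zero, HomologicalComplex.homology_π_ι_assoc,
        ← cancel_mono (HomologicalComplex.singleObjXSelf (ComplexShape.up ℤ) i (ModuleCat.of A E)).inv, zero_comp]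
      simpa using h4.symm
    refine eq_top_iff.2 ((Submodule.map_le_map_iff_of_injective hι _ _).1 ?_)
    rw [Submodule.map_smul'', Submodule.map_top]
    have hle : LinearMap.range ι ≤ J := by
      rintro _ ⟨x, rfl⟩
      exact (Submodule.Quotient.mk_eq_zero J).1 congr(($h3).hom x)
    calc LinearMap.range ι ≤ J ⊓ LinearMap.range ι := le_inf hle le_rfl
      _ = m ^ (k + 1 - k) • (m ^ k • ⊤ ⊓ LinearMap.range ι) := hk (k + 1) (by omega)
      _ ≤ m • LinearMap.range ι := by
        rw [show k + 1 - k = 1 by omega, pow_one]
        exact Submodule.smul_mono le_rfl inf_le_right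

end Groth.Agent.S6989
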