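import Groth.Statements.S6990
import Groth.Agent.DRingLib.Misc
-- import your own Groth.Agent.* helpers here

set_option autoImplicit false
universe u
open CategoryTheory CategoryTheory.Limits
attribute [local instance] HasDerivedCategory.standard
open DRing

namespace Groth.Agent.S6990

open CategoryTheory.Pretriangulated in
/-- Let R be a commutative ring, a, b integers, L an object of D(R) isomorphic to a complex of
projective R-modules vanishing outside [a, b], and K an object of D(R). (1) If H^i(K) = 0 for all i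
≥ a, then every morphism L → K in D(R) is zero. (2) If H^i(K) = 0 for all i ≥ a + 1, then for every
distinguished triangle K → M → L → K[1] there is an isomorphism M ≅ K ⊕ L carrying K → M to the
first inclusion and whose composite with the second projection is M → L. -/
theorem result (R : Type u) [CommRing R] (a b : ℤ)
    (L : Dual.D R) (hL : ∃ P : DRing.Cx R, DRing.VanishesOutside P a b ∧ (∀ i : ℤ, Module.Projective R (P.X i)) ∧
      Nonempty (DRing.toD P ≅ L)) (K : Dual.D R) :
    ((∀ i : ℤ, a ≤ i → Subsingleton (Dual.HD R K i)) → Subsingleton (L ⟶ K)) ∧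
      ((∀ i : ℤ, a + 1 ≤ i → Subsingleton (Dual.HD R K i)) → ∀ (T : Triangle (Dual.D R)), T ∈ distinguishedTriangles →
        T.obj₁ = K → T.obj₃ = L → ∀ [HasBinaryBiproduct T.obj₁ T.obj₃],
          ∃ e : T.obj₂ ≅ T.obj₁ ⊞ T.obj₃, T.mor₁ ≫ e.hom = biprod.inl ∧ e.hom ≫ biprod.snd = T.mor₂) := by
  obtain ⟨P, hP, hPp, ⟨e⟩⟩ := hL
  refine ⟨fun hK => Groth.Agent.DRingLib.subsingleton_hom_of_projective_amplitude hP hPp e
    (fun i hi => ModuleCat.isZero_iff_subsingleton.2 (hK i hi)), fun hK T hT h₁ h₃ inst => ?_⟩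
  subst h₁ h₃
  have hs := Groth.Agent.DRingLib.subsingleton_hom_of_projective_amplitude hP hPp e (K := T.obj₁⟦(1 : ℤ)⟧)
    ((Groth.Agent.DCohLib.aboveZero_shift_iff a 1 T.obj₁).2
      fun i hi => ModuleCat.isZero_iff_subsingleton.2 (hK i (by omega)))
  obtain ⟨e', h, h'⟩ := exists_iso_binaryBiproduct_of_distTriang T hT (hs.elim _ _)
  exact ⟨e', h, h'.symm⟩

end Groth.Agent.S6990
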