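import Groth.Statements.S6992
import Groth.Agent.RelFPLib.Basic

set_option autoImplicit false
universe u
open CAlg

namespace Groth.Agent.S6992

/-- Let R be a commutative ring, A → B a finite homomorphism of finite type R-algebras, M a B-module,
and α : R[x_1, ..., x_n] → A, β : R[y_1, ..., y_k] → B surjective R-algebra homomorphisms. Then M is
finitely presented as an R[x_1, ..., x_n]-module through α and A → B (M is finitely presented
relative to R as an A-module) if and only if M is finitely presented as an R[y_1, ..., y_k]-module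
through β (M is finitely presented relative to R as a B-module). -/
theorem result {R A B : Type u} [CommRing R] [CommRing A] [CommRing B]
    [Algebra R A] [Algebra A B] [Algebra R B] [IsScalarTower R A B] [Algebra.FiniteType R A]
    [Algebra.FiniteType R B] [Module.Finite A B] (M : Type u) [AddCommGroup M] [Module B M] [Module A M]
    [IsScalarTower A B M] {n k : ℕ} (α : MvPolynomial (Fin n) R →ₐ[R] A) (hα : Function.Surjective α)
    (β : MvPolynomial (Fin k) R →ₐ[R] B) (hβ : Function.Surjective β) :
    @Module.FinitePresentation (MvPolynomial (Fin n) R) M _ _ (Module.compHom M α.toRingHom) ↔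
      @Module.FinitePresentation (MvPolynomial (Fin k) R) M _ _ (Module.compHom M β.toRingHom) := by
  classical
  haveI : Algebra.IsIntegral A B := Algebra.IsIntegral.of_finite A B
  let ψ : MvPolynomial (Fin k) (MvPolynomial (Fin n) R) →ₐ[R] B :=
    ((MvPolynomial.aeval (R := A) fun j => β (MvPolynomial.X j)).restrictScalars R).comp
      (MvPolynomial.mapAlgHom α)
  have hψ : Function.Surjective ψ := fun b => by
    obtain ⟨p, rfl⟩ := hβ b
    refine ⟨MvPolynomial.map (algebraMap R _) p, ?_⟩
    have : ψ.comp (MvPolynomial.mapAlgHom (Algebra.ofId R (MvPolynomial (Fin n) R))) = β :=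
      MvPolynomial.algHom_ext fun j => by simp [ψ]
    exact AlgHom.congr_fun this p
  haveI : Algebra.FinitePresentation R (MvPolynomial (Fin k) (MvPolynomial (Fin n) R)) :=
    Algebra.FinitePresentation.trans R (MvPolynomial (Fin n) R) _
  rw [← show Groth.Agent.RelFPLib.FPVia ψ.toRingHom M ↔
    @Module.FinitePresentation (MvPolynomial (Fin k) R) M _ _ (Module.compHom M β.toRingHom) from
      Groth.Agent.RelFPLib.fpVia_iff ψ hψ β hβ M]
  -- monic relations for the variables
  have hg : ∀ j, ∃ g : Polynomial (MvPolynomial (Fin n) R), g.Monic ∧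
      Polynomial.eval₂ ((algebraMap A B).comp α.toRingHom) (β (MvPolynomial.X j)) g = 0 := fun j => by
    obtain ⟨g, hg, hg0⟩ := Algebra.IsIntegral.isIntegral (R := A) (β (MvPolynomial.X j))
    choose c hc using fun i : Fin g.natDegree => hα (g.coeff i)
    let g' : Polynomial (MvPolynomial (Fin n) R) :=
      Polynomial.X ^ g.natDegree + ∑ i : Fin g.natDegree, Polynomial.C (c i) * Polynomial.X ^ (i : ℕ)
    have hg' : g'.map α.toRingHom = g := by
      conv_rhs => rw [hg.as_sum]
      rw [← Fin.sum_univ_eq_sum_range fun i => Polynomial.C (g.coeff i) * Polynomial.X ^ i]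
      simp [g', Polynomial.map_sum, hc]
    exact ⟨g', Polynomial.monic_X_pow_add (Polynomial.degree_sum_fin_lt _),
      by rw [← Polynomial.eval₂_map, hg']; exact hg0⟩
  choose g hg hg0 using hg
  let rel : Fin k → MvPolynomial (Fin k) (MvPolynomial (Fin n) R) := fun j =>
    Polynomial.aeval (MvPolynomial.X j) (g j)
  let J : Ideal (MvPolynomial (Fin k) (MvPolynomial (Fin n) R)) := Ideal.span (Set.range rel)
  let C := MvPolynomial (Fin k) (MvPolynomial (Fin n) R) ⧸ J
  have hJ : J ≤ RingHom.ker ψ := by
    rw [Ideal.span_le]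
    rintro _ ⟨j, rfl⟩
    show ψ (rel j) = 0
    rw [← hg0 j]
    show ψ.toRingHom (Polynomial.eval₂ (algebraMap _ _) (MvPolynomial.X j) (g j)) = _
    rw [Polynomial.hom_eval₂]
    congr 1
    · exact RingHom.ext fun x => by simp [ψ]
    · simp [ψ]
  haveI : Module.Finite (MvPolynomial (Fin n) R) C := by
    let v : Fin k → C := fun j => Ideal.Quotient.mkₐ (MvPolynomial (Fin n) R) J (MvPolynomial.X j)
    have hint : ∀ x ∈ Set.range v, IsIntegral (MvPolynomial (Fin n) R) x := by
      rintro _ ⟨j, rfl⟩
      refine ⟨g j, hg j, ?_⟩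
      rw [← Polynomial.aeval_def, Polynomial.aeval_algHom_apply]
      exact Ideal.Quotient.eq_zero_iff_mem.mpr (Ideal.subset_span ⟨j, rfl⟩)
    have h1 := fg_adjoin_of_finite (Set.finite_range v) hint
    have htop : Algebra.adjoin (MvPolynomial (Fin n) R) (Set.range v) = ⊤ := by
      rw [show Set.range v = Ideal.Quotient.mkₐ (MvPolynomial (Fin n) R) J ''
        Set.range MvPolynomial.X from Set.range_comp (Ideal.Quotient.mkₐ (MvPolynomial (Fin n) R) J) MvPolynomial.X,
        ← AlgHom.map_adjoin, MvPolynomial.adjoin_range_X, Algebra.map_top]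
      exact (AlgHom.range_eq_top _).mpr (Ideal.Quotient.mkₐ_surjective _ _)
    rw [htop, Algebra.top_toSubmodule] at h1
    exact ⟨h1⟩
  haveI : Algebra.FinitePresentation (MvPolynomial (Fin n) R) C :=
    Algebra.FinitePresentation.quotient (Submodule.fg_span (Set.finite_range rel))
  haveI : Module.FinitePresentation (MvPolynomial (Fin n) R) C :=
    Module.FinitePresentation.of_finite_of_finitePresentation (MvPolynomial (Fin n) R) C
  let χ : C →+* B := Ideal.Quotient.lift J ψ.toRingHom hJ
  have hχ : ψ.toRingHom = χ.comp (Ideal.Quotient.mk J) := rfl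
  rw [hχ]
  refine Iff.trans ?_ (Groth.Agent.RelFPLib.fpVia_comp (P := C) (Ideal.Quotient.mk J)
    Ideal.Quotient.mk_surjective
    (by rw [Ideal.mk_ker]; exact Submodule.fg_span (Set.finite_range rel)) χ M).symm
  letI m1 := Module.compHom M α.toRingHom
  letI m2 := Module.compHom M χ
  haveI : IsScalarTower (MvPolynomial (Fin n) R) C M :=
    IsScalarTower.of_algebraMap_smul (R := MvPolynomial (Fin n) R) (A := C) (M := M) fun x m => by
    show ψ (MvPolynomial.C x) • m = α x • m
    rw [show ψ (MvPolynomial.C x) = algebraMap A B (α x) by simp [ψ]]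
    exact algebraMap_smul B (α x) m
  show Module.FinitePresentation (MvPolynomial (Fin n) R) M ↔ Module.FinitePresentation C M
  refine ⟨fun h => ?_, fun h => Module.FinitePresentation.trans (MvPolynomial (Fin n) R) M C⟩
  haveI : Module.Finite C M := Module.Finite.of_restrictScalars_finite (MvPolynomial (Fin n) R) C M
  obtain ⟨m, q, hq⟩ := Module.Finite.exists_fin' C M
  refine Module.finitePresentation_of_surjective q hq ?_
  have hk := Module.FinitePresentation.fg_ker (q.restrictScalars (MvPolynomial (Fin n) R)) hq
  obtain ⟨T, hT⟩ := hk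
  refine ⟨T, le_antisymm (Submodule.span_le.mpr fun x hx => ?_) fun x hx => ?_⟩
  · exact (hT.le (Submodule.subset_span hx) : q x = 0)
  · exact Submodule.span_le_restrictScalars (MvPolynomial (Fin n) R) C _ (hT.ge hx)

end Groth.Agent.S6992
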