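import Groth.Statements.S6993
import Mathlib
import Groth.Agent.RelFPLib.Basic

set_option autoImplicit false
universe u
open CAlg

namespace Groth.Agent.S6993

/-- Let R → A → B be finite type homomorphisms of commutative rings with A of finite presentation over
R, M a B-module, and α : A[x_1, ..., x_n] → B, β : R[y_1, ..., y_k] → B surjective algebra
homomorphisms over A and R respectively. If M is finitely presented as an A[x_1, ..., x_n]-module
through α (finitely presented relative to A), then M is finitely presented as an R[y_1, ...,
y_k]-module through β (finitely presented relative to R). -/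
theorem result {R A B : Type u} [CommRing R] [CommRing A]
    [CommRing B] [Algebra R A] [Algebra A B] [Algebra R B] [IsScalarTower R A B] [Algebra.FinitePresentation R A]
    [Algebra.FiniteType A B] (M : Type u) [AddCommGroup M] [Module B M] {n k : ℕ}
    (α : MvPolynomial (Fin n) A →ₐ[A] B) (hα : Function.Surjective α)
    (β : MvPolynomial (Fin k) R →ₐ[R] B) (hβ : Function.Surjective β)
    (hM : @Module.FinitePresentation (MvPolynomial (Fin n) A) M _ _ (Module.compHom M α.toRingHom)) :
    @Module.FinitePresentation (MvPolynomial (Fin k) R) M _ _ (Module.compHom M β.toRingHom) := by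
  obtain ⟨d, f, hf, hfk⟩ := (inferInstance : Algebra.FinitePresentation R A).out
  let P := MvPolynomial (Fin n) (MvPolynomial (Fin d) R)
  let g : P →ₐ[R] MvPolynomial (Fin n) A := MvPolynomial.mapAlgHom f
  have hg : Function.Surjective g := MvPolynomial.map_surjective _ hf
  haveI : Algebra.FinitePresentation R P := Algebra.FinitePresentation.trans R (MvPolynomial (Fin d) R) P
  haveI : Algebra.FinitePresentation R (MvPolynomial (Fin n) A) := Algebra.FinitePresentation.trans R A _
  have h1 := (Groth.Agent.RelFPLib.fpVia_comp g.toRingHom hg (Algebra.FinitePresentation.ker_fG_of_surjective g hg) α.toRingHom M).mpr hM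
  exact (Groth.Agent.RelFPLib.fpVia_iff β hβ ((α.restrictScalars R).comp g) (hα.comp hg) M).mpr h1
end Groth.Agent.S6993
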