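import Groth.Statements.S6994
import Groth.Agent.DRingLib.RegularGl

set_option autoImplicit false
universe u
open CategoryTheory CategoryTheory.Limits
attribute [local instance] HasDerivedCategory.standard
open DRing Groth.Agent.DRingLib Groth.Agent.DCohLib
set_option backward.isDefEq.respectTransparency false
set_option linter.style.haveILetI false

namespace Groth.Agent.S6994

theorem aboveZero_iff_aux {R : Type u} [CommRing R] {K : Dual.D R} (i : ℤ)
    (h : Subsingleton (Dual.HD R K i)) : IsZero ((DerivedCategory.homologyFunctor (ModuleCat.{u} R) i).obj K) :=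
  @ModuleCat.isZero_of_subsingleton R _ _ h

/-- Let R be a Noetherian regular commutative ring (its localization at every prime is a regular local
ring) of finite Krull dimension d. Let K and L be objects of D(R) whose cohomology vanishes in large
degrees, and suppose there is an integer k with H^i(K) = 0 for all i ≤ k and H^i(L) = 0 for all i ≥
k - d + 1. Then every morphism K → L in D(R) is zero. -/
theorem result (R : Type u) [CommRing R] [IsNoetherianRing R]
    (hreg : ∀ p : PrimeSpectrum R, IsRegularLocalRing (Localization.AtPrime p.asIdeal)) (d : ℕ)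
    (hd : ringKrullDim R = d) (K L : Dual.D R) (hKb : ∃ b : ℤ, ∀ i : ℤ, b < i → Subsingleton (Dual.HD R K i))
    (hLb : ∃ b : ℤ, ∀ i : ℤ, b < i → Subsingleton (Dual.HD R L i)) (k : ℤ)
    (hK : ∀ i : ℤ, i ≤ k → Subsingleton (Dual.HD R K i)) (hL : ∀ i : ℤ, k - d + 1 ≤ i → Subsingleton (Dual.HD R L i)) :
    Subsingleton (K ⟶ L) := by
  obtain ⟨b, hb⟩ := hKb
  have hb' : AboveZero (b + 1) K := fun i hi => aboveZero_iff_aux i (hb i (by omega))
  haveI : (stdT R).IsGE K (k + 1) := (DerivedCategory.isGE_iff K (k + 1)).2 fun i hi =>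
    aboveZero_iff_aux i (hK i (by omega))
  obtain ⟨P, b', hP, hPp, ⟨eP⟩⟩ := exists_proj_of_finite_gl d
    (fun M _ _ => hasProjectiveDimensionLT_of_regular R hreg d hd M) (n := k + 1) hb'
  exact subsingleton_of_forall_eq 0 fun f =>
    eq_zero_of_proj hP hPp eP (fun i hi => aboveZero_iff_aux i (hL i (by omega))) f

end Groth.Agent.S6994
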