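import Groth.Statements.S6995
import Groth.Agent.DRingLib.RegularGl

set_option autoImplicit false
universe u
open CategoryTheory CategoryTheory.Limits
attribute [local instance] HasDerivedCategory.standard
open DRing Groth.Agent.DRingLib Groth.Agent.DCohLib
set_option backward.isDefEq.respectTransparency false
set_option linter.style.haveILetI false

namespace Groth.Agent.S6995

theorem aboveZero_iff_aux {R : Type u} [CommRing R] {K : Dual.D R} (i : ℤ)
    (h : Subsingleton (Dual.HD R K i)) : IsZero ((DerivedCategory.homologyFunctor (ModuleCat.{u} R) i).obj K) :=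
  @ModuleCat.isZero_of_subsingleton R _ _ h

/-- Let R be a Noetherian regular commutative ring of finite Krull dimension d ≥ 1, K a perfect object
of D(R) and k an integer such that H^i(K) = 0 for every i with k - d + 2 ≤ i ≤ k. Then K splits in
D(R) as the direct sum of its canonical truncations: there is an isomorphism K ≅ τ_(≤ k-d+1) K ⊕
τ_(≥ k+1) K under which the truncation map τ_(≤ k-d+1) K → K becomes the first inclusion and K →
τ_(≥ k+1) K the second projection. -/
theorem result (R : Type u) [CommRing R] [IsNoetherianRing R]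
    (hreg : ∀ p : PrimeSpectrum R, IsRegularLocalRing (Localization.AtPrime p.asIdeal)) (d : ℕ) (hd1 : 1 ≤ d)
    (hd : ringKrullDim R = d) (K : Dual.D R) (hK : DRing.IsPerfect R K) (k : ℤ)
    (hgap : ∀ i : ℤ, k - d + 2 ≤ i → i ≤ k → Subsingleton (Dual.HD R K i))
    [HasBinaryBiproduct
      (((DerivedCategory.TStructure.t : Triangulated.TStructure (Dual.D R)).truncLT (k - d + 2)).obj K)
      (((DerivedCategory.TStructure.t : Triangulated.TStructure (Dual.D R)).truncGE (k + 1)).obj K)] :
    ∃ e : K ≅
      ((DerivedCategory.TStructure.t : Triangulated.TStructure (Dual.D R)).truncLT (k - d + 2)).obj K ⊞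
        ((DerivedCategory.TStructure.t : Triangulated.TStructure (Dual.D R)).truncGE (k + 1)).obj K,
      ((DerivedCategory.TStructure.t : Triangulated.TStructure (Dual.D R)).truncLTι (k - d + 2)).app K ≫ e.hom =
          biprod.inl ∧
        e.hom ≫ biprod.snd =
          ((DerivedCategory.TStructure.t : Triangulated.TStructure (Dual.D R)).truncGEπ (k + 1)).app K := by
  obtain ⟨E, a, b, hE, -, ⟨eE⟩⟩ := hK
  have hb' : AboveZero (b + 1) K :=
    (aboveZero_toD fun i hi => hE i (Or.inr (by omega))).of_iso eE.symm
  refine exists_split (n := k - d + 2) (m := k + 1) (by omega)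
    (fun i h1 h2 => aboveZero_iff_aux i (hgap i h1 (by omega))) (fun C hC f => ?_)
  obtain ⟨P, b', hP, hPp, ⟨eP⟩⟩ := exists_proj_of_finite_gl d
    (fun M _ _ => hasProjectiveDimensionLT_of_regular R hreg d hd M) (n := k + 1) (aboveZero_truncGE (n := k + 1) hb')
  exact eq_zero_of_proj hP hPp eP (fun i hi => hC i (by omega)) f

end Groth.Agent.S6995
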