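import Groth.Statements.S7000
import Groth.Agent.DRingLib.FFDescent
-- import your own Groth.Agent.* helpers here

set_option autoImplicit false
universe u
open CategoryTheory CategoryTheory.Limits
attribute [local instance] HasDerivedCategory.standard
open DRing

namespace Groth.Agent.S7000

/-- Let A → B be a flat homomorphism of commutative rings, m an integer and M an A-module. If M is
m-pseudo-coherent then the B-module B ⊗_A M is m-pseudo-coherent; if M is pseudo-coherent then B ⊗_A
M is pseudo-coherent. -/
theorem result {A B : Type u} [CommRing A] [CommRing B] [Algebra A B]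
    [Module.Flat A B] (m : ℤ) (M : Type u) [AddCommGroup M] [Module A M] :
    (DRing.IsPseudoCoherentModule A m M → DRing.IsPseudoCoherentModule B m (TensorProduct A B M)) ∧
      (DRing.IsPseudoCoherentModule' A M → DRing.IsPseudoCoherentModule' B (TensorProduct A B M)) := by
  haveI := Groth.Agent.DRingLib.hasLBaseChange (algebraMap A B)
  let e := Groth.Agent.DRingLib.lbcInDIso (algebraMap A B) (Groth.Agent.DRingLib.flat_baseMod A B) (ModuleCat.of A M) ≪≫
    (DerivedCategory.singleFunctor (ModuleCat.{u} B) 0).mapIso
      (LinearEquiv.toModuleIso (X₂ := TensorProduct A B M) (Groth.Agent.DRingLib.extendScalarsTensorEquiv A B M))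
  refine ⟨fun h => (Groth.Agent.DRingLib.isPseudoCoherent_iff _ _).2 (Groth.Agent.DRingLib.PC.of_iso (Groth.Agent.DRingLib.pc_lbc (algebraMap A B)
    ((Groth.Agent.DRingLib.isPseudoCoherent_iff _ _).1 h)) e), fun h => (Groth.Agent.DRingLib.isPseudoCoherent'_iff _).2 fun n => ?_⟩
  exact Groth.Agent.DRingLib.PC.of_iso (Groth.Agent.DRingLib.pc_lbc (algebraMap A B) ((Groth.Agent.DRingLib.isPseudoCoherent'_iff _).1 h n)) e

end Groth.Agent.S7000
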