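import Groth.Statements.S7003
import Groth.Agent.DRingLib.Split

set_option autoImplicit false
universe u
open CategoryTheory CategoryTheory.Limits
attribute [local instance] HasDerivedCategory.standard
open DRing Groth.Agent.DRingLib Groth.Agent.DCohLib
set_option backward.isDefEq.respectTransparency false
set_option linter.style.haveILetI false

namespace Groth.Agent.S7003

theorem aboveZero_iff_aux {R : Type u} [CommRing R] {K : Dual.D R} (i : ℤ)
    (h : Subsingleton (Dual.HD R K i)) : IsZero ((DerivedCategory.homologyFunctor (ModuleCat.{u} R) i).obj K) :=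
  @ModuleCat.isZero_of_subsingleton R _ _ h

/-- Let R be a commutative ring, a an integer and K an object of D(R) whose cohomology vanishes in large
degrees. Assume that for every injective R-linear map M → M' the induced map Hom(K, M[-a]) → Hom(K,
M'[-a]) in D(R) is injective. Then K ≅ τ_(≤ a) K ⊕ τ_(≥ a+1) K by an isomorphism carrying τ_(≤ a) K
→ K to the first inclusion and K → τ_(≥ a+1) K to the second projection, and τ_(≥ a+1) K is
isomorphic in D(R) to a complex of projective modules vanishing outside [a+1, b] for some integer b.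
(The published statement also asserts that the decomposition is unique; that part is not restated.) -/
theorem result (R : Type u) [CommRing R] (a : ℤ) (K : Dual.D R)
    (hKb : ∃ b : ℤ, ∀ i : ℤ, b < i → Subsingleton (Dual.HD R K i))
    (h : ∀ (M M' : Type u) [AddCommGroup M] [Module R M] [AddCommGroup M'] [Module R M'] (g : M →ₗ[R] M'),
      Function.Injective g → Function.Injective (fun x : K ⟶ (shiftFunctor (Dual.D R) (-a)).obj (Dual.inD R M) =>
        x ≫ (shiftFunctor (Dual.D R) (-a)).map
          ((DerivedCategory.singleFunctor (ModuleCat.{u} R) 0).map (ModuleCat.ofHom g))))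
    [HasBinaryBiproduct (((DerivedCategory.TStructure.t : Triangulated.TStructure (Dual.D R)).truncLT (a + 1)).obj K) (((DerivedCategory.TStructure.t : Triangulated.TStructure (Dual.D R)).truncGE (a + 1)).obj K)] :
    (∃ e : K ≅ ((DerivedCategory.TStructure.t : Triangulated.TStructure (Dual.D R)).truncLT (a + 1)).obj K ⊞ ((DerivedCategory.TStructure.t : Triangulated.TStructure (Dual.D R)).truncGE (a + 1)).obj K,
      ((DerivedCategory.TStructure.t : Triangulated.TStructure (Dual.D R)).truncLTι (a + 1)).app K ≫ e.hom = biprod.inl ∧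
        e.hom ≫ biprod.snd = ((DerivedCategory.TStructure.t : Triangulated.TStructure (Dual.D R)).truncGEπ (a + 1)).app K) ∧
      ∃ (P : DRing.Cx R) (b : ℤ), DRing.VanishesOutside P (a + 1) b ∧ (∀ i : ℤ, Module.Projective R (P.X i)) ∧
        Nonempty (DRing.toD P ≅ ((DerivedCategory.TStructure.t : Triangulated.TStructure (Dual.D R)).truncGE (a + 1)).obj K) := by
  obtain ⟨b, hb⟩ := hKb
  have hb' : AboveZero (b + 1) K := fun i hi => (aboveZero_iff_aux i (hb i (by omega)))
  let B := ((stdT R).truncGE (a + 1)).obj K
  haveI : (stdT R).IsGE B (a + 1) := inferInstance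
  obtain ⟨P, b', hP, hPp, ⟨eP⟩⟩ := exists_proj_of_hom_zero (B := B) (a := a) (aboveZero_truncGE hb') fun M φ => by
    haveI := isGE_shift_inD a M
    refine eq_zero_of_truncGEπ_comp (m := a) (by omega) φ ?_
    have h0 := eq_zero_of_injective (B := B) (aboveZero_truncGE hb') (Injective.under M)
      (φ ≫ (shiftFunctor (Dual.D R) (-a)).map ((DerivedCategory.singleFunctor (ModuleCat.{u} R) 0).map (Injective.ι M)))
    refine h M ((Injective.under M : ModuleCat.{u} R)) (Injective.ι M).hom ((ModuleCat.mono_iff_injective _).1 inferInstance) ?_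
    show (_ ≫ φ) ≫ _ = 0 ≫ _
    rw [Category.assoc, zero_comp]
    exact (congrArg (((stdT R).truncGEπ (a + 1)).app K ≫ ·) h0).trans comp_zero
  refine ⟨exists_split (n := a + 1) (m := a + 1) le_rfl (fun i h1 h2 => absurd h1 (by omega)) (fun C hC f => ?_),
    P, b', hP, hPp, ⟨eP⟩⟩
  exact eq_zero_of_proj hP hPp eP (fun i hi => hC i (by omega)) f

end Groth.Agent.S7003
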