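import Groth.Statements.S7004
import Groth.Agent.DRingLib.Split

set_option autoImplicit false
universe u
open CategoryTheory CategoryTheory.Limits
attribute [local instance] HasDerivedCategory.standard
open DRing Groth.Agent.DRingLib Groth.Agent.DCohLib
set_option backward.isDefEq.respectTransparency false
set_option linter.style.haveILetI false

namespace Groth.Agent.S7004

theorem aboveZero_iff_aux {R : Type u} [CommRing R] {K : Dual.D R} (i : ℤ)
    (h : Subsingleton (Dual.HD R K i)) : IsZero ((DerivedCategory.homologyFunctor (ModuleCat.{u} R) i).obj K) :=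
  @ModuleCat.isZero_of_subsingleton R _ _ h

/-- Let R be a commutative ring, a an integer and K an object of D(R) whose cohomology vanishes in large
degrees, such that Hom(K, M[-a]) = 0 in D(R) for every R-module M. Then K ≅ τ_(≤ a-1) K ⊕ τ_(≥ a+1)
K by an isomorphism carrying τ_(≤ a-1) K → K to the first inclusion and K → τ_(≥ a+1) K to the
second projection, and τ_(≥ a+1) K is isomorphic in D(R) to a complex of projective modules
vanishing outside [a+1, b] for some integer b. (The published statement also asserts that the
decomposition is unique; that part is not restated.) -/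
theorem result (R : Type u) [CommRing R] (a : ℤ) (K : Dual.D R)
    (hKb : ∃ b : ℤ, ∀ i : ℤ, b < i → Subsingleton (Dual.HD R K i))
    (h : ∀ (M : Type u) [AddCommGroup M] [Module R M],
      Subsingleton (K ⟶ (shiftFunctor (Dual.D R) (-a)).obj (Dual.inD R M)))
    [HasBinaryBiproduct (((DerivedCategory.TStructure.t : Triangulated.TStructure (Dual.D R)).truncLT a).obj K) (((DerivedCategory.TStructure.t : Triangulated.TStructure (Dual.D R)).truncGE (a + 1)).obj K)] :
    (∃ e : K ≅ ((DerivedCategory.TStructure.t : Triangulated.TStructure (Dual.D R)).truncLT a).obj K ⊞ ((DerivedCategory.TStructure.t : Triangulated.TStructure (Dual.D R)).truncGE (a + 1)).obj K,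
      ((DerivedCategory.TStructure.t : Triangulated.TStructure (Dual.D R)).truncLTι a).app K ≫ e.hom = biprod.inl ∧
        e.hom ≫ biprod.snd = ((DerivedCategory.TStructure.t : Triangulated.TStructure (Dual.D R)).truncGEπ (a + 1)).app K) ∧
      ∃ (P : DRing.Cx R) (b : ℤ), DRing.VanishesOutside P (a + 1) b ∧ (∀ i : ℤ, Module.Projective R (P.X i)) ∧
        Nonempty (DRing.toD P ≅ ((DerivedCategory.TStructure.t : Triangulated.TStructure (Dual.D R)).truncGE (a + 1)).obj K) := by
  obtain ⟨b, hb⟩ := hKb
  have hb' : AboveZero (b + 1) K := fun i hi => (aboveZero_iff_aux i (hb i (by omega)))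
  let B := ((stdT R).truncGE (a + 1)).obj K
  haveI : (stdT R).IsGE B (a + 1) := inferInstance
  obtain ⟨N, hNb, hN, ⟨eN⟩⟩ := exists_proj_representative (n := b) hb'
  haveI : CochainComplex.IsKProjective N := isKProjective_of_vanishesAbove hNb hN
  have hHa : IsZero ((DerivedCategory.homologyFunctor (ModuleCat.{u} R) a).obj K) :=
    (isZero_homology_of_hom_zero (a := a) fun M φ => (cancel_epi eN.inv).1 ((@Subsingleton.elim _ (h M) _ 0).trans
      comp_zero.symm)).of_iso (((DerivedCategory.homologyFunctor (ModuleCat.{u} R) a).mapIso eN).symm ≪≫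
        (DerivedCategory.homologyFunctorFactors (ModuleCat.{u} R) a).app N)
  obtain ⟨P, b', hP, hPp, ⟨eP⟩⟩ := exists_proj_of_hom_zero (B := B) (a := a) (aboveZero_truncGE hb') fun M φ => by
    haveI := isGE_shift_inD a M
    exact eq_zero_of_truncGEπ_comp (m := a) (by omega) φ (@Subsingleton.elim _ (h M) _ 0)
  refine ⟨exists_split (n := a) (m := a + 1) (by omega) (fun i h1 h2 => ?_) (fun C hC f => ?_),
    P, b', hP, hPp, ⟨eP⟩⟩
  · obtain rfl : i = a := by omega
    exact hHa
  · exact eq_zero_of_proj hP hPp eP (fun i hi => hC i (by omega)) f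

end Groth.Agent.S7004
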