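import Groth.Statements.S7007
import Groth.Agent.RelFPLib.Basic

set_option autoImplicit false
universe u
open CAlg

namespace Groth.Agent.S7007

/-- Let R → A be a finite type homomorphism of commutative rings with a surjective R-algebra
homomorphism α : R[x_1, ..., x_n] → A, M an A-module, f_1, ..., f_r elements of A generating the
unit ideal, and for each i a surjective R-algebra homomorphism γ_i : R[z_1, ..., z_(k_i)] → A_(f_i).
Then M is finitely presented as an R[x_1, ..., x_n]-module through α if and only if, for every i,
the localization M_(f_i) is finitely presented as an R[z_1, ..., z_(k_i)]-module through γ_i. -/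
theorem result {R A : Type u} [CommRing R] [CommRing A] [Algebra R A]
    {n : ℕ} (α : MvPolynomial (Fin n) R →ₐ[R] A) (hα : Function.Surjective α) (M : Type u) [AddCommGroup M]
    [Module A M] {r : ℕ} (f : Fin r → A) (hf : Ideal.span (Set.range f) = ⊤) (k : Fin r → ℕ)
    (γ : ∀ i, MvPolynomial (Fin (k i)) R →ₐ[R] Localization.Away (f i)) (hγ : ∀ i, Function.Surjective (γ i)) :
    @Module.FinitePresentation (MvPolynomial (Fin n) R) (M) _ _ (Module.compHom (M) α.toRingHom) ↔
      ∀ i, @Module.FinitePresentation (MvPolynomial (Fin (k i)) R) (LocalizedModule (Submonoid.powers (f i)) M) _ _ (Module.compHom (LocalizedModule (Submonoid.powers (f i)) M) (γ i).toRingHom) := by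
  classical
  haveI : ∀ i, Algebra.FinitePresentation A (Localization.Away (f i)) :=
    fun i => IsLocalization.Away.finitePresentation (f i)
  constructor
  · intro h i
    have h2 : Groth.Agent.RelFPLib.FPVia (γ i).toRingHom
        (TensorProduct A (Localization.Away (f i)) M) :=
      Groth.Agent.RelFPLib.fpVia_tensor M α hα h (γ i) (hγ i)
    let e := LocalizedModule.equivTensorProduct (Submonoid.powers (f i)) M
    letI := Module.compHom (TensorProduct A (Localization.Away (f i)) M) (γ i).toRingHom
    letI := Module.compHom (LocalizedModule (Submonoid.powers (f i)) M) (γ i).toRingHom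
    haveI : Module.FinitePresentation (MvPolynomial (Fin (k i)) R)
        (TensorProduct A (Localization.Away (f i)) M) := h2
    exact Module.FinitePresentation.of_equiv (R := MvPolynomial (Fin (k i)) R)
      ({ e.symm.toAddEquiv with map_smul' := fun p x => e.symm.map_smul (γ i p) x } :
        TensorProduct A (Localization.Away (f i)) M ≃ₗ[MvPolynomial (Fin (k i)) R]
          LocalizedModule (Submonoid.powers (f i)) M)
  intro h
  let P := MvPolynomial (Fin n) R
  choose F hF using fun i => hα (f i)
  obtain ⟨G, hG⟩ := (Ideal.mem_span_range_iff_exists_fun).mp (hf.ge (Submodule.mem_top : (1 : A) ∈ ⊤))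
  choose G' hG' using fun i => hα (G i)
  let F₀ : P := 1 - ∑ i, G' i * F i
  letI modPM : Module P M := Module.compHom M α.toRingHom
  let F' : Option (Fin r) → P := fun o => o.elim F₀ F
  let s : Set P := Set.range F'
  have hs : Ideal.span s = ⊤ := by
    rw [Ideal.eq_top_iff_one]
    have h1 : (1 : P) = F' none + ∑ i, G' i * F' (some i) := (sub_add_cancel _ _).symm
    rw [h1]
    exact add_mem (Ideal.subset_span ⟨none, rfl⟩)
      (sum_mem fun i _ => Ideal.mul_mem_left _ _ (Ideal.subset_span ⟨some i, rfl⟩))
  refine Module.FinitePresentation.of_localizationSpan s hs ?_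
  rintro ⟨_, o, rfl⟩
  show Module.FinitePresentation (Localization.Away (F' o)) (LocalizedModule (Submonoid.powers (F' o)) M)
  rcases o with _ | i
  · haveI : Subsingleton (LocalizedModule (Submonoid.powers (F' none)) M) := by
      rw [LocalizedModule.subsingleton_iff]
      intro m
      refine ⟨F' none, Submonoid.mem_powers _, ?_⟩
      show α F₀ • m = 0
      rw [show α F₀ = 0 by simp [F₀, map_sum, hG', hF, hG], zero_smul]
    infer_instance
  show Module.FinitePresentation (Localization.Away (F i)) (LocalizedModule (Submonoid.powers (F i)) M)
  letI algPA : Algebra P A := α.toRingHom.toAlgebra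
  haveI : IsScalarTower P A M := .of_algebraMap_smul fun _ _ => rfl
  haveI : IsScalarTower R P A := .of_algebraMap_eq fun x => (α.commutes x).symm
  have hu : IsUnit (((algebraMap A (Localization.Away (f i))).comp α.toRingHom) (F i)) := by
    show IsUnit (algebraMap A _ (α (F i)))
    rw [hF]; exact IsLocalization.Away.algebraMap_isUnit (f i)
  let ψ : Localization.Away (F i) →ₐ[R] Localization.Away (f i) :=
    { IsLocalization.Away.lift (F i) hu with
      commutes' := fun x => by
        show IsLocalization.Away.lift (F i) hu (algebraMap R (Localization.Away (F i)) x) = _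
        rw [IsScalarTower.algebraMap_apply R P (Localization.Away (F i)), IsLocalization.Away.lift_eq]
        show algebraMap A _ (α (algebraMap R P x)) = _
        rw [α.commutes, ← IsScalarTower.algebraMap_apply] }
  have hψe : ∀ p, ψ (algebraMap P _ p) = algebraMap A _ (α p) := fun p =>
    IsLocalization.Away.lift_eq (F i) hu p
  have hψ : Function.Surjective ψ := fun z => by
    obtain ⟨a, ⟨_, m, rfl⟩, rfl⟩ := IsLocalization.exists_mk'_eq (.powers (f i)) z
    obtain ⟨p, rfl⟩ := hα a
    refine ⟨IsLocalization.mk' _ p
      (⟨F i ^ m, pow_mem (Submonoid.mem_powers (F i)) m⟩ : Submonoid.powers (F i)), ?_⟩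
    rw [IsLocalization.eq_mk'_iff_mul_eq]
    show _ * algebraMap A (Localization.Away (f i)) (f i ^ m) = _
    rw [show f i ^ m = α (F i ^ m) by rw [map_pow, hF], ← hψe, ← hψe, ← map_mul,
      IsLocalization.mk'_spec]
  haveI : Algebra.FinitePresentation R (Localization.Away (F i)) := by
    haveI : Algebra.FinitePresentation P (Localization.Away (F i)) :=
      IsLocalization.Away.finitePresentation (F i)
    exact Algebra.FinitePresentation.trans R P _
  have h2 := (Groth.Agent.RelFPLib.fpVia_iff (γ i) (hγ i) ψ hψ _).mp (h i)
  let L := LocalizedModule (Submonoid.powers (f i)) M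
  letI modL : Module (Localization.Away (F i)) L := Module.compHom L ψ.toRingHom
  haveI : IsScalarTower P A (LocalizedModule (Submonoid.powers (f i)) M) :=
    .of_algebraMap_smul fun p x => by
      induction x using LocalizedModule.induction_on with
      | _ m t => rw [LocalizedModule.smul'_mk, LocalizedModule.smul'_mk, algebraMap_smul]
  haveI : IsScalarTower P (Localization.Away (F i)) (LocalizedModule (Submonoid.powers (f i)) M) :=
    .of_algebraMap_smul fun p x => by
      show ψ (algebraMap P _ p) • x = p • x
      rw [hψe, algebraMap_smul]
      exact algebraMap_smul A p x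
  haveI : Module.FinitePresentation (Localization.Away (F i)) L := h2
  let mkA := LocalizedModule.mkLinearMap (Submonoid.powers (f i)) M
  haveI : IsLocalizedModule (Algebra.algebraMapSubmonoid A (Submonoid.powers (F i))) mkA := by
    rw [show Algebra.algebraMapSubmonoid A (Submonoid.powers (F i)) = Submonoid.powers (f i) from
      (Submonoid.map_powers (algebraMap P A) (F i)).trans (congrArg Submonoid.powers (hF i))]
    infer_instance
  haveI : IsLocalizedModule (Submonoid.powers (F i)) (mkA.restrictScalars P) :=
    IsLocalizedModule.restrictScalars _ _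
  let e := IsLocalizedModule.iso (Submonoid.powers (F i)) (mkA.restrictScalars P)
  exact Module.FinitePresentation.of_equiv
    (LinearEquiv.extendScalarsOfIsLocalization (Submonoid.powers (F i)) (Localization.Away (F i)) e).symm

end Groth.Agent.S7007
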