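import Groth.Statements.S7015
import Mathlib
-- import your own Groth.Agent.* helpers here

set_option autoImplicit false
universe u
open CategoryTheory MonoidalCategory
open DRing

namespace Groth.Agent.S7015

open TensorProduct in
/-- A module such that the identity factors through a coevaluation is finite projective. -/
theorem finite_projective_of_dual {R : Type u} [CommRing R] {M N : Type u} [AddCommGroup M] [Module R M]
    [AddCommGroup N] [Module R N] (t : M ⊗[R] N) (ev : N ⊗[R] M →ₗ[R] R)
    (h : ∀ x : M, (TensorProduct.rid R M) ((ev.lTensor M) ((TensorProduct.assoc R M N M) (t ⊗ₜ[R] x))) = x) :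
    Module.Finite R M ∧ Module.Projective R M := by
  obtain ⟨n, s, rfl⟩ : ∃ (n : ℕ) (s : Fin n → M × N), t = ∑ i, (s i).1 ⊗ₜ[R] (s i).2 := by
    obtain ⟨S, hS⟩ := TensorProduct.exists_finset t
    refine ⟨S.card, fun i => (S.equivFin.symm i).1, ?_⟩
    rw [hS, ← Finset.sum_coe_sort S (fun p => p.1 ⊗ₜ[R] p.2)]
    exact (Equiv.sum_comp S.equivFin.symm (fun p : S => (p : M × N).1 ⊗ₜ[R] (p : M × N).2)).symm
  let g : M →ₗ[R] (Fin n → R) := LinearMap.pi fun i => ev.comp (TensorProduct.mk R N M (s i).2)
  let f : (Fin n → R) →ₗ[R] M := Fintype.linearCombination R fun i => (s i).1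
  have hfg : f.comp g = LinearMap.id := by
    refine LinearMap.ext fun x => ?_
    conv_rhs => rw [LinearMap.id_apply, ← h x]
    simp [f, g, Fintype.linearCombination_apply, TensorProduct.sum_tmul, map_sum]
  exact ⟨Module.Finite.of_surjective f fun x => ⟨g x, LinearMap.congr_fun hfg x⟩,
    Module.Projective.of_split g f hfg⟩

/-- Let R be a commutative ring and M, N R-modules such that N is a left dual of M for the tensor
product of R-modules, i.e. there are a coevaluation R → M ⊗ N and an evaluation N ⊗ M → R satisfying
the triangle identities (an exact pairing). Then M and N are finitely generated projective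
R-modules. -/
theorem result (R : Type u) [CommRing R] (M N : Type u) [AddCommGroup M]
    [Module R M] [AddCommGroup N] [Module R N] [ExactPairing (ModuleCat.of R M) (ModuleCat.of R N)] :
    Module.Finite R M ∧ Module.Projective R M ∧ Module.Finite R N ∧ Module.Projective R N := by
  have hM := ExactPairing.evaluation_coevaluation (ModuleCat.of R M) (ModuleCat.of R N)
  have hN := ExactPairing.coevaluation_evaluation (ModuleCat.of R M) (ModuleCat.of R N)
  let t : TensorProduct R M N := (ExactPairing.coevaluation (ModuleCat.of R M) (ModuleCat.of R N)).hom (1 : R)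
  let ev : TensorProduct R N M →ₗ[R] R := (ExactPairing.evaluation (ModuleCat.of R M) (ModuleCat.of R N)).hom
  obtain ⟨h1, h2⟩ := finite_projective_of_dual t ev fun x => by
    have := LinearMap.congr_fun (congrArg ModuleCat.Hom.hom hM) ((1 : R) ⊗ₜ[R] x)
    simp only [ModuleCat.hom_comp, LinearMap.comp_apply] at this
    change ev.lTensor M (TensorProduct.assoc R M N M (t ⊗ₜ[R] x)) = (TensorProduct.rid R M).symm ((TensorProduct.lid R M) ((1 : R) ⊗ₜ[R] x)) at this
    rw [this]
    simp
  obtain ⟨h3, h4⟩ := finite_projective_of_dual (TensorProduct.comm R M N t) (ev.comp (TensorProduct.comm R M N).toLinearMap) fun y => by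
    have := LinearMap.congr_fun (congrArg ModuleCat.Hom.hom hN) (y ⊗ₜ[R] (1 : R))
    simp only [ModuleCat.hom_comp, LinearMap.comp_apply] at this
    change ev.rTensor N ((TensorProduct.assoc R N M N).symm (y ⊗ₜ[R] t)) = (TensorProduct.lid R N).symm ((TensorProduct.rid R N) (y ⊗ₜ[R] (1 : R))) at this
    have e : ∀ w : TensorProduct R M N, (TensorProduct.rid R N) ((ev.comp (TensorProduct.comm R M N).toLinearMap).lTensor N
        ((TensorProduct.assoc R N M N) ((TensorProduct.comm R M N w) ⊗ₜ[R] y))) =
      (TensorProduct.lid R N) (ev.rTensor N ((TensorProduct.assoc R N M N).symm (y ⊗ₜ[R] w))) := by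
      intro w
      induction w with
      | zero => simp
      | tmul a b => simp
      | add a b ha hb => simp [TensorProduct.add_tmul, TensorProduct.tmul_add, ha, hb]
    rw [e, this]
    simp
  exact ⟨h1, h2, h3, h4⟩

end Groth.Agent.S7015
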