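import Groth.Statements.S7020
import Groth.Agent.PCHomLib.Rel

set_option autoImplicit false
universe u
open CategoryTheory CategoryTheory.Limits
attribute [local instance] HasDerivedCategory.standard
open DerCA

namespace Groth.Agent.S7020

open CategoryTheory.Pretriangulated in
/-- Let R → A be a finite type homomorphism of commutative rings, m an integer and K → L → M → K[1] a
distinguished triangle in D(A); all pseudo-coherence below is relative to R. (1) M is
m-pseudo-coherent when K is (m+1)-pseudo-coherent and L is m-pseudo-coherent. (2) L is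
m-pseudo-coherent when K and M are. (3) K is (m+1)-pseudo-coherent when L is (m+1)-pseudo-coherent
and M is m-pseudo-coherent. (4) Pseudo-coherence in every degree of any two of K, L, M implies that
of the third. -/
theorem result {R A : Type u} [CommRing R] [CommRing A] [Algebra R A] [Algebra.FiniteType R A] (m : ℤ) (T : Triangle (Dual.D A))
    (hT : T ∈ distinguishedTriangles) :
    (DerCA.IsRelPseudoCoherent R A (m + 1) T.obj₁ → DerCA.IsRelPseudoCoherent R A m T.obj₂ →
        DerCA.IsRelPseudoCoherent R A m T.obj₃) ∧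
      (DerCA.IsRelPseudoCoherent R A m T.obj₁ → DerCA.IsRelPseudoCoherent R A m T.obj₃ →
        DerCA.IsRelPseudoCoherent R A m T.obj₂) ∧
      (DerCA.IsRelPseudoCoherent R A (m + 1) T.obj₂ → DerCA.IsRelPseudoCoherent R A m T.obj₃ →
        DerCA.IsRelPseudoCoherent R A (m + 1) T.obj₁) ∧
      ((DerCA.IsRelPseudoCoherentAll R A T.obj₁ → DerCA.IsRelPseudoCoherentAll R A T.obj₂ →
          DerCA.IsRelPseudoCoherentAll R A T.obj₃) ∧
        (DerCA.IsRelPseudoCoherentAll R A T.obj₁ → DerCA.IsRelPseudoCoherentAll R A T.obj₃ →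
          DerCA.IsRelPseudoCoherentAll R A T.obj₂) ∧
        (DerCA.IsRelPseudoCoherentAll R A T.obj₂ → DerCA.IsRelPseudoCoherentAll R A T.obj₃ →
          DerCA.IsRelPseudoCoherentAll R A T.obj₁)) := by
  obtain ⟨n, φ, hφ, hc⟩ := Groth.Agent.PCHomLib.exists_presentation (A := R) (B := A)
  have hT' := (DRing.restrictD φ).map_distinguished _ hT
  have key := fun (k : ℤ) (K : Dual.D A) => Groth.Agent.PCHomLib.rel_iff φ hφ hc k K
  have P := Groth.Agent.DRingLib.projClass_fFree (A := MvPolynomial (Fin n) R)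
  have h3 : ∀ k : ℤ, DerCA.IsRelPseudoCoherent R A (k + 1) T.obj₁ → DerCA.IsRelPseudoCoherent R A k T.obj₂ →
      DerCA.IsRelPseudoCoherent R A k T.obj₃ := fun k h₁ h₂ => (key k _).mpr
    (Groth.Agent.DRingLib.PC.obj₃ P _ hT' ((key _ _).mp h₁) ((key _ _).mp h₂))
  have h2 : ∀ k : ℤ, DerCA.IsRelPseudoCoherent R A k T.obj₁ → DerCA.IsRelPseudoCoherent R A k T.obj₃ →
      DerCA.IsRelPseudoCoherent R A k T.obj₂ := fun k h₁ h₃ => (key k _).mpr
    (Groth.Agent.DRingLib.PC.obj₂ P _ hT' ((key _ _).mp h₁) ((key _ _).mp h₃))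
  have h1 : ∀ k : ℤ, DerCA.IsRelPseudoCoherent R A (k + 1) T.obj₂ → DerCA.IsRelPseudoCoherent R A k T.obj₃ →
      DerCA.IsRelPseudoCoherent R A (k + 1) T.obj₁ := fun k h₂ h₃ => (key _ _).mpr
    (Groth.Agent.DRingLib.PC.obj₁ P _ hT' ((key _ _).mp h₂) ((key _ _).mp h₃))
  refine ⟨h3 m, h2 m, h1 m, fun a b k => h3 k (a _) (b _), fun a b k => h2 k (a _) (b _), fun a b k => ?_⟩
  simpa using h1 (k - 1) (a _) (b _)

end Groth.Agent.S7020
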