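import Groth.Statements.S7023
import Groth.Agent.PCHomLib.RelCrit

set_option autoImplicit false
universe u
open CategoryTheory CategoryTheory.Limits
attribute [local instance] HasDerivedCategory.standard
open DerCA

namespace Groth.Agent.S7023

/-- Let R → A be a finite type homomorphism of commutative rings, m an integer and K a bounded above
cochain complex of A-modules such that the module K^i is (m - i)-pseudo-coherent relative to R for
every i. Then K is m-pseudo-coherent relative to R. Moreover, K is pseudo-coherent over R as soon as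
each of its terms K^i is so. -/
theorem result {R A : Type u} [CommRing R] [CommRing A] [Algebra R A] [Algebra.FiniteType R A] (m : ℤ) (K : DRing.Cx A) (b : ℤ)
    (hb : DRing.VanishesAbove K b) :
    ((∀ i : ℤ, DerCA.IsRelPseudoCoherentModule R A (m - i) (K.X i)) → DerCA.IsRelPseudoCoherent R A m (DRing.toD K)) ∧
      ((∀ i : ℤ, DerCA.IsRelPseudoCoherentModuleAll R A (K.X i)) →
        DerCA.IsRelPseudoCoherentAll R A (DRing.toD K)) := by
  obtain ⟨n, φ, hφ, hc⟩ := Groth.Agent.PCHomLib.exists_presentation (A := R) (B := A)
  let c := ComplexShape.up ℤ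
  let E := ((ModuleCat.restrictScalars.{u} φ).mapHomologicalComplex c).obj K
  have key : ∀ k : ℤ, (∀ i : ℤ, DerCA.IsRelPseudoCoherentModule R A (k - i) (K.X i)) →
      DerCA.IsRelPseudoCoherent R A k (DRing.toD K) := fun k h => by
    rw [Groth.Agent.PCHomLib.rel_iff φ hφ hc]
    refine (Groth.Agent.DRingLib.pc_of_terms Groth.Agent.DRingLib.projClass_fFree (E := E)
      (fun i hi => (ModuleCat.restrictScalars.{u} φ).map_isZero (hb i hi)) k fun i _ =>
        (Groth.Agent.PCHomLib.relModule_iff φ hφ hc _ _).mp (h i)).of_iso ?_
    exact ((ModuleCat.restrictScalars.{u} φ).mapDerivedCategoryFactors.app K).symm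
  exact ⟨key m, fun h k => key k fun i => h i _⟩

end Groth.Agent.S7023
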