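import Groth.Statements.S7024
import Groth.Agent.PCHomLib.RelCrit

set_option autoImplicit false
universe u
open CategoryTheory CategoryTheory.Limits
attribute [local instance] HasDerivedCategory.standard
open DerCA

namespace Groth.Agent.S7024

/-- Let R → A be a finite type homomorphism of commutative rings, m an integer and K an object of D(A)
whose cohomology vanishes in large degrees. If the module H^i(K) is (m - i)-pseudo-coherent relative
to R for every i, then K is m-pseudo-coherent relative to R. Moreover, K is relatively
pseudo-coherent over R as soon as each cohomology module H^i(K) has this property over R. -/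
theorem result {R A : Type u} [CommRing R] [CommRing A] [Algebra R A] [Algebra.FiniteType R A] (m : ℤ) (K : Dual.D A)
    (hb : ∃ b : ℤ, ∀ i : ℤ, b < i → Subsingleton (Dual.HD A K i)) :
    ((∀ i : ℤ, DerCA.IsRelPseudoCoherentModule R A (m - i) (Dual.HD A K i)) → DerCA.IsRelPseudoCoherent R A m K) ∧
      ((∀ i : ℤ, DerCA.IsRelPseudoCoherentModuleAll R A (Dual.HD A K i)) → DerCA.IsRelPseudoCoherentAll R A K) := by
  obtain ⟨n, φ, hφ, hc⟩ := Groth.Agent.PCHomLib.exists_presentation (A := R) (B := A)
  have key : ∀ k : ℤ, (∀ i : ℤ, DerCA.IsRelPseudoCoherentModule R A (k - i) (Dual.HD A K i)) →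
      DerCA.IsRelPseudoCoherent R A k K := fun k h =>
    (Groth.Agent.PCHomLib.rel_iff φ hφ hc k K).mpr (Groth.Agent.PCHomLib.pc_restrict_of_homology φ
      ((Groth.Agent.PCHomLib.aboveZero_iff_subsingleton K).mpr hb) k fun i _ =>
        (Groth.Agent.PCHomLib.relModule_iff φ hφ hc _ _).mp (h i))
  exact ⟨key m, fun h k => key k fun i => h i _⟩

end Groth.Agent.S7024
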