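import Groth.Statements.S7025
import Groth.Agent.RelPCLib.Ascend

set_option autoImplicit false
universe u
open CategoryTheory CategoryTheory.Limits
attribute [local instance] HasDerivedCategory.standard
open DerCA

set_option backward.isDefEq.respectTransparency false

namespace Groth.Agent.S7025

open Groth.Agent.RelPCLib Groth.Agent.DRingLib Groth.Agent.PCHomLib

/-- Let R → A → B be finite type homomorphisms of commutative rings such that B is A-flat and the
B-module B is pseudo-coherent relative to A. Let m be an integer and M an A-module. Whenever M is
m-pseudo-coherent relative to R, the B-module B ⊗_A M is again m-pseudo-coherent over R; likewise,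
relative pseudo-coherence of M over R (in all degrees) passes to B ⊗_A M. -/
theorem result {R A B : Type u} [CommRing R]
    [CommRing A] [CommRing B] [Algebra R A] [Algebra A B] [Algebra R B] [IsScalarTower R A B]
    [Algebra.FiniteType R A] [Algebra.FiniteType A B] [Module.Flat A B]
    (hB : DerCA.IsRelPseudoCoherentModuleAll A B B) (m : ℤ) (M : Type u) [AddCommGroup M] [Module A M] :
    (DerCA.IsRelPseudoCoherentModule R A m M → DerCA.IsRelPseudoCoherentModule R B m (TensorProduct A B M)) ∧
      (DerCA.IsRelPseudoCoherentModuleAll R A M →
        DerCA.IsRelPseudoCoherentModuleAll R B (TensorProduct A B M)) := by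
  have hp : PCHom (algebraMap A B) := relModule_self_all_iff.1 hB
  haveI := Groth.Agent.DRingLib.hasLBaseChange (algebraMap A B)
  haveI : Algebra.FiniteType R B := Algebra.FiniteType.trans (S := A) ‹_› ‹_›
  have key : ∀ k : ℤ, DerCA.IsRelPseudoCoherentModule R A k M →
      DerCA.IsRelPseudoCoherentModule R B k (TensorProduct A B M) := fun k h => by
    obtain ⟨n, φ, hφ, hc⟩ := exists_presentation (A := R) (B := B)
    refine (rel_iff φ hφ hc k _).2 (((rel_iff φ hφ hc k _).1 (rel_lbc hp h)).of_iso
      ((DRing.restrictD φ).mapIso (lbcInDIso (algebraMap A B) (flat_baseMod A B) (ModuleCat.of A M) ≪≫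
        (DerivedCategory.singleFunctor (ModuleCat.{u} B) 0).mapIso
          (extendScalarsTensorEquiv A B M).toModuleIso)))
  exact ⟨key m, fun h k => key k (h k)⟩

end Groth.Agent.S7025
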