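import Groth.Statements.S7026
import Groth.Agent.PCHomLib.RelCrit

set_option autoImplicit false
universe u
open CategoryTheory CategoryTheory.Limits
attribute [local instance] HasDerivedCategory.standard
open DerCA

namespace Groth.Agent.S7026

/-- Let R be a Noetherian commutative ring, R → A a finite type ring homomorphism, m an integer, K an
object of D(A) and M an A-module. Then: m-pseudo-coherence of K relative to R is equivalent to
H^i(K) vanishing for all large i together with H^i(K) being a finitely generated A-module for each i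
≥ m; pseudo-coherence of K relative to R (every degree) is equivalent to the same with H^i(K)
finitely generated for every i; and the A-module M is pseudo-coherent relative to R exactly when M
is finitely generated. -/
theorem result {R A : Type u} [CommRing R]
    [IsNoetherianRing R] [CommRing A] [Algebra R A] [Algebra.FiniteType R A] (m : ℤ) (K : Dual.D A)
    (M : Type u) [AddCommGroup M] [Module A M] :
    (DerCA.IsRelPseudoCoherent R A m K ↔
      (∃ b : ℤ, ∀ i : ℤ, b < i → Subsingleton (Dual.HD A K i)) ∧ ∀ i : ℤ, m ≤ i → Module.Finite A (Dual.HD A K i)) ∧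
    (DerCA.IsRelPseudoCoherentAll R A K ↔
      (∃ b : ℤ, ∀ i : ℤ, b < i → Subsingleton (Dual.HD A K i)) ∧ ∀ i : ℤ, Module.Finite A (Dual.HD A K i)) ∧
    (DerCA.IsRelPseudoCoherentModuleAll R A M ↔ Module.Finite A M) := by
  obtain ⟨n, φ, hφ, hc⟩ := Groth.Agent.PCHomLib.exists_presentation (A := R) (B := A)
  have key : ∀ (k : ℤ) (L : Dual.D A), DerCA.IsRelPseudoCoherent R A k L ↔ _ := fun k L =>
    (Groth.Agent.PCHomLib.rel_iff φ hφ hc k L).trans
      (Groth.Agent.PCHomLib.pc_restrict_iff_of_noetherian φ hφ L k)
  refine ⟨key m K, ⟨fun h => ⟨((key 0 K).mp (h 0)).1, fun i => ((key i K).mp (h i)).2 i le_rfl⟩,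
    fun h k => (key k K).mpr ⟨h.1, fun i _ => h.2 i⟩⟩, ?_⟩
  constructor
  · intro h
    exact (Groth.Agent.PCHomLib.pc_zero_restrict_iff φ hφ (ModuleCat.of A M)).mp
      ((Groth.Agent.PCHomLib.relModule_iff φ hφ hc 0 M).mp (h 0))
  · intro h k
    refine (Groth.Agent.PCHomLib.relModule_iff φ hφ hc k M).mpr ?_
    haveI := (Groth.Agent.PCHomLib.finite_restrict_iff φ hφ (ModuleCat.of A M)).mpr h
    exact (Groth.Agent.DRingLib.pc_inD_of_finite (-k).toNat _).mono (by omega)

end Groth.Agent.S7026
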