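import Groth.Statements.S7030
import Groth.Agent.DRingLib.PerfMisc
-- import your own Groth.Agent.* helpers here

set_option autoImplicit false
universe u
open CategoryTheory CategoryTheory.Limits
attribute [local instance] HasDerivedCategory.standard
open DRing

namespace Groth.Agent.S7030

/-- Let R be a commutative ring such that the derived tensor product - ⊗^L_R M exists on D(R) for every
R-module M, and let K be an object of D(R) whose cohomology vanishes outside a bounded range of
degrees and whose cohomology modules H^i(K) are all perfect R-modules. Then K is a perfect object of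
D(R). -/
theorem result (R : Type u) [CommRing R] [∀ M : ModuleCat.{u} R, DRing.HasLTensor R M] (K : Dual.D R)
    (hb : ∃ a b : ℤ, ∀ i : ℤ, (i < a ∨ b < i) → Subsingleton (Dual.HD R K i))
    (hK : ∀ i : ℤ, DRing.IsPerfectModule R (Dual.HD R K i)) : DRing.IsPerfect R K := by
  simp only [DRing.IsPerfectModule, Groth.Agent.DRingLib.isPerfect_iff] at hK ⊢
  obtain ⟨a, b, hb⟩ := hb
  refine Groth.Agent.DRingLib.of_bounded_homology (P := Groth.Agent.DRingLib.Perf Groth.Agent.DRingLib.FProj) (fun e h => h.of_iso e)
    (Groth.Agent.DRingLib.perf_of_isZero Groth.Agent.DRingLib.projClass_fProj) (fun T hT => Groth.Agent.DRingLib.Perf.obj₂ Groth.Agent.DRingLib.projClass_fProj T hT)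
    (b + 1 - a).toNat a K ((DerivedCategory.isGE_iff K a).2 fun i hi => ?_) (fun i hi => ?_)
    fun i => (hK i).shift _
  · haveI := hb i (Or.inl hi)
    exact ModuleCat.isZero_of_subsingleton _
  · haveI := hb i (Or.inr (by omega))
    exact ModuleCat.isZero_of_subsingleton _

end Groth.Agent.S7030
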