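import Groth.Statements.S7031
import Groth.Agent.DRingLib.Regular
-- import your own Groth.Agent.* helpers here

set_option autoImplicit false
universe u
open CategoryTheory CategoryTheory.Limits
attribute [local instance] HasDerivedCategory.standard
open DRing

namespace Groth.Agent.S7031

/-- Let R be a regular commutative ring (Noetherian, with regular local rings at all primes) such that
the derived tensor product - ⊗^L_R M exists on D(R) for every R-module M, and let K be an object of
D(R). Then K is perfect if and only if H^i(K) = 0 outside a bounded range of degrees and every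
H^i(K) is a finitely generated R-module. -/
theorem result (R : Type u) [CommRing R] [IsNoetherianRing R]
    (hreg : ∀ p : PrimeSpectrum R, IsRegularLocalRing (Localization.AtPrime p.asIdeal)) [∀ M : ModuleCat.{u} R, DRing.HasLTensor R M] (K : Dual.D R) :
    DRing.IsPerfect R K ↔
      (∃ a b : ℤ, ∀ i : ℤ, (i < a ∨ b < i) → Subsingleton (Dual.HD R K i)) ∧ ∀ i : ℤ, Module.Finite R (Dual.HD R K i) := by
  rw [Groth.Agent.DRingLib.isPerfect_iff]
  constructor
  · intro hK
    refine ⟨?_, Groth.Agent.DRingLib.finite_homology_of_perf hK⟩
    obtain ⟨E, ⟨⟨a, b, hab⟩, hE⟩, ⟨e⟩⟩ := hK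
    refine ⟨a, b, fun i hi => ?_⟩
    refine ModuleCat.subsingleton_of_isZero (IsZero.of_iso ?_
      ((DerivedCategory.homologyFunctor (ModuleCat.{u} R) i).mapIso e.symm ≪≫
        (DerivedCategory.homologyFunctorFactors _ i).app E))
    exact (HomologicalComplex.exactAt_iff_isZero_homology _ _).1
      (ShortComplex.exact_of_isZero_X₂ _ (hab i hi))
  · rintro ⟨⟨a, b, hab⟩, hfin⟩
    refine Groth.Agent.DRingLib.of_bounded_homology (P := fun K => Groth.Agent.DRingLib.Perf Groth.Agent.DRingLib.FProj K)
      (fun e h => h.of_iso e) (Groth.Agent.DRingLib.perf_of_isZero Groth.Agent.DRingLib.projClass_fProj)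
      (Groth.Agent.DRingLib.Perf.obj₂ Groth.Agent.DRingLib.projClass_fProj) (b + 1 - a).toNat a K ?_ ?_ fun i => ?_
    · exact (DerivedCategory.isGE_iff K a).2 fun i hi => by
        haveI := hab i (Or.inl hi)
        exact ModuleCat.isZero_of_subsingleton _
    · intro i hi
      haveI := hab i (Or.inr (by omega))
      exact ModuleCat.isZero_of_subsingleton _
    · haveI := hfin i
      exact (Groth.Agent.DRingLib.perf_of_regular hreg _).shift _

end Groth.Agent.S7031
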