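import Groth.Statements.S7035
import Groth.Agent.DRingLib.FibreGlobalDim

set_option autoImplicit false
universe u
open CategoryTheory CategoryTheory.Limits
attribute [local instance] HasDerivedCategory.standard
open DRing Groth.Agent.DRingLib Groth.Agent.DCohLib Groth.Agent.DTenLib
open MonoidalCategory
open scoped TensorProduct
attribute [local instance] Algebra.TensorProduct.rightAlgebra
set_option backward.isDefEq.respectTransparency false
set_option linter.style.haveILetI false

namespace Groth.Agent.S7035

/-- Let A → B be a flat homomorphism of commutative rings and d a natural number such that for every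
prime p of A, with residue field κ(p), every module over κ(p) ⊗_A B has projective dimension at most
d; assume the derived tensor products - ⊗^L M exist on D(κ(p) ⊗_A B) for all p and the derived base
changes D(B) → D(B/m) exist for all ideals m of B. Let a, b be integers and K an object of D(B)
which is pseudo-coherent over B and, with scalars restricted to A, has tor amplitude in [a, b]. Then
K is perfect over B and has tor amplitude in [a - d, b] over B. -/
theorem result {A B : Type u} [CommRing A] [CommRing B] [Algebra A B]
    [Module.Flat A B] (d : ℕ)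
    (hgl : ∀ (p : PrimeSpectrum A) (M : Type u) [AddCommGroup M]
      [Module (TensorProduct A p.asIdeal.ResidueField B) M],
      HasProjectiveDimensionLT (ModuleCat.of (TensorProduct A p.asIdeal.ResidueField B) M) (d + 1))
    [∀ (p : PrimeSpectrum A) (M : ModuleCat.{u} (TensorProduct A p.asIdeal.ResidueField B)),
      DRing.HasLTensor (TensorProduct A p.asIdeal.ResidueField B) M]
    [∀ m : Ideal B, DRing.HasLBaseChange (Ideal.Quotient.mk m)] (a b : ℤ) (K : Dual.D B)
    (hK : DRing.IsPseudoCoherent' B K)
    (hKa : DRing.HasTorAmplitudeIn A a b ((DRing.restrictD (algebraMap A B)).obj K)) :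
    DRing.IsPerfect B K ∧ DRing.HasTorAmplitudeIn B (a - d) b K := by
  obtain ⟨E, c, hc, hE, ⟨e⟩⟩ := id hK
  have hEp : ∀ i, Module.Projective B (E.X i) := fun i => (fFree_imp_fProj (hE i)).2
  let φ := algebraMap A B
  have hR := tensVanish_of_amplitude (isKFlat_resCx φ (flat_baseMod A B) (isKFlat_of_projective hc hEp))
    (amp_of_iso (((DRing.restrictD φ).mapIso e).symm ≪≫ (DTen.resFactors φ).app E) hKa)
  refine perfect_of_exact_fibres hK hc hE e (a - d) b fun m hm i hi => ?_
  let p : PrimeSpectrum A := ⟨m.comap φ, inferInstance⟩
  letI := Ideal.Quotient.field m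
  let f : p.asIdeal.ResidueField →ₐ[A] B ⧸ m :=
    Ideal.ResidueField.liftₐ p.asIdeal (Algebra.ofId A (B ⧸ m))
      (fun x hx => RingHom.mem_ker.2 (Ideal.Quotient.eq_zero_iff_mem.2 (show φ x ∈ m from hx)))
      (fun x hx => isUnit_iff_ne_zero.2 fun h0 => hx (show φ x ∈ m from Ideal.Quotient.eq_zero_iff_mem.1 h0))
  let ψ : TensorProduct A p.asIdeal.ResidueField B →ₐ[A] B ⧸ m :=
    Algebra.TensorProduct.lift f (Ideal.Quotient.mkₐ A m) fun _ _ => Commute.all _ _
  refine exact_fibre_of_globalDim (algebraMap B (TensorProduct A p.asIdeal.ResidueField B)) d (fun M _ _ => hgl p M)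
    hc hEp (a := a) (b := b) (fun j hj => exactAt_extCx_fibre p.asIdeal.ResidueField E j
      (hR (ModuleCat.of A p.asIdeal.ResidueField) j hj)) m ψ.toRingHom ?_ i hi
  ext x
  show ψ ((1 : p.asIdeal.ResidueField) ⊗ₜ[A] x) = _
  rw [Algebra.TensorProduct.lift_tmul, map_one, one_mul]
  rfl

end Groth.Agent.S7035
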