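import Groth.Statements.S7040
import Groth.Agent.LocCohLib.Torsion

set_option autoImplicit false
universe u
open CategoryTheory
open LocCoh

namespace Groth.Agent.S7040

/-- For a finitely generated ideal I of a commutative ring R, the property of being an I-power torsion
module (every element killed by a power of I) is a Serre class in the category of R-modules: it
holds for 0 and is closed under subobjects, quotients and extensions. -/
theorem result {R : Type u} [CommRing R] (I : Ideal R) (hI : I.FG) :
    ObjectProperty.IsSerreClass (C := ModuleCat.{u} R) (fun M => LocCoh.IsPowerTorsion I M) := by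
  exact
    { exists_zero := ⟨ModuleCat.of R PUnit, ModuleCat.isZero_of_subsingleton _,
        fun x => ⟨0, fun a _ => Subsingleton.elim _ _⟩⟩
      prop_of_mono := fun {X Y} f _ hY x => by
        obtain ⟨n, hn⟩ := hY (f.hom x)
        exact ⟨n, fun a ha => (ModuleCat.mono_iff_injective f).mp inferInstance
          ((map_smul f.hom a x).trans ((hn a ha).trans (map_zero f.hom).symm))⟩
      prop_of_epi := fun {X Y} f _ hX y => by
        obtain ⟨x, rfl⟩ := (ModuleCat.epi_iff_surjective f).mp inferInstance y
        obtain ⟨n, hn⟩ := hX x
        exact ⟨n, fun a ha => (map_smul f.hom a x).symm.trans (by rw [hn a ha, map_zero])⟩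
      prop_X₂_of_shortExact := fun {S} hS h₁ h₃ =>
        Groth.Agent.LocCohLib.isPowerTorsion_middle hI S.f.hom S.g.hom
          (fun b hb => (ShortComplex.moduleCat_exact_iff S).mp hS.exact b hb) h₁ h₃ }

end Groth.Agent.S7040
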