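import Groth.Statements.S7041
import Mathlib

set_option autoImplicit false
universe u
open TensorProduct
open LocCoh

namespace Groth.Agent.S7041

/-- Let R → R' be a homomorphism of commutative rings and I an ideal of R such that the induced map
R/I^n → R'/I^n R' is bijective for every n > 0. Then for every R-module M in which every element is
killed by a power of I, the map M → R' ⊗_R M sending m to 1 ⊗ m is bijective. -/
theorem result {R R' : Type u} [CommRing R] [CommRing R'] [Algebra R R']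
    (I : Ideal R)
    (hq : ∀ n : ℕ, 0 < n → Function.Bijective
      (Ideal.quotientMap (Ideal.map (algebraMap R R') (I ^ n)) (algebraMap R R') Ideal.le_comap_map))
    (M : Type u) [AddCommGroup M] [Module R M] (hM : LocCoh.IsPowerTorsion I M) :
    Function.Bijective (fun m : M => (1 : R') ⊗ₜ[R] m) := by
  classical
  have hsurj : ∀ (n : ℕ), 0 < n → ∀ r' : R', ∃ r : R, algebraMap R R' r - r' ∈ Ideal.map (algebraMap R R') (I ^ n) := by
    intro n hn r'
    obtain ⟨q, hq'⟩ := (hq n hn).2 (Ideal.Quotient.mk _ r')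
    obtain ⟨r, rfl⟩ := Ideal.Quotient.mk_surjective q
    rw [Ideal.quotientMap_mk, Ideal.Quotient.eq] at hq'
    exact ⟨r, hq'⟩
  have hinj : ∀ (n : ℕ), 0 < n → ∀ r : R, algebraMap R R' r ∈ Ideal.map (algebraMap R R') (I ^ n) → r ∈ I ^ n := by
    intro n hn r hr
    refine Ideal.Quotient.eq_zero_iff_mem.1 ((hq n hn).1 ?_)
    rw [Ideal.quotientMap_mk, map_zero, Ideal.Quotient.eq_zero_iff_mem]
    exact hr
  choose N hN using hM
  have hN1 : ∀ (m : M), ∀ a ∈ I ^ (N m + 1), a • m = 0 := fun m a ha =>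
    hN m a (Ideal.pow_le_pow_right (Nat.le_succ _) ha)
  let ρ : R' → M → R := fun r' m => (hsurj (N m + 1) (Nat.succ_pos _) r').choose
  have hρ : ∀ r' m, algebraMap R R' (ρ r' m) - r' ∈ Ideal.map (algebraMap R R') (I ^ (N m + 1)) :=
    fun r' m => (hsurj (N m + 1) (Nat.succ_pos _) r').choose_spec
  have huniq : ∀ (n : ℕ), 0 < n → ∀ (r' : R') (m : M) (r : R), (∀ a ∈ I ^ n, a • m = 0) →
      algebraMap R R' r - r' ∈ Ideal.map (algebraMap R R') (I ^ n) → r • m = ρ r' m • m := by
    intro n hn r' m r hkill hr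
    obtain ⟨k, hk, hkn, hkN, hkill'⟩ : ∃ k, 0 < k ∧ k ≤ n ∧ k ≤ N m + 1 ∧ ∀ a ∈ I ^ k, a • m = 0 := by
      rcases le_total n (N m + 1) with h | h
      · exact ⟨n, hn, le_rfl, h, hkill⟩
      · exact ⟨N m + 1, Nat.succ_pos _, h, le_rfl, hN1 m⟩
    rw [← sub_eq_zero, ← sub_smul]
    refine hkill' _ (hinj k hk _ ?_)
    rw [map_sub, show algebraMap R R' r - algebraMap R R' (ρ r' m) =
      (algebraMap R R' r - r') - (algebraMap R R' (ρ r' m) - r') by ring]
    exact sub_mem (Ideal.map_mono (Ideal.pow_le_pow_right hkn) hr) (Ideal.map_mono (Ideal.pow_le_pow_right hkN) (hρ r' m))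
  let β : R' →ₗ[R] M →ₗ[R] M := LinearMap.mk₂ R (fun r' m => ρ r' m • m)
    (fun a b m => by
      rw [← add_smul]
      refine (huniq _ (Nat.succ_pos _) (a + b) m _ (hN1 m) ?_).symm
      rw [map_add, add_sub_add_comm]
      exact add_mem (hρ a m) (hρ b m))
    (fun c a m => by
      rw [smul_smul]
      refine (huniq _ (Nat.succ_pos _) (c • a) m _ (hN1 m) ?_).symm
      rw [map_mul, Algebra.smul_def, ← mul_sub]
      exact Ideal.mul_mem_left _ _ (hρ a m))
    (fun a m m' => by
      obtain ⟨r, hr⟩ := hsurj (N m + N m' + 1) (Nat.succ_pos _) a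
      have k1 : ∀ x ∈ I ^ (N m + N m' + 1), x • m = 0 := fun x hx => hN m x (Ideal.pow_le_pow_right (by omega) hx)
      have k2 : ∀ x ∈ I ^ (N m + N m' + 1), x • m' = 0 := fun x hx => hN m' x (Ideal.pow_le_pow_right (by omega) hx)
      rw [← huniq _ (Nat.succ_pos _) a m r k1 hr, ← huniq _ (Nat.succ_pos _) a m' r k2 hr,
        ← huniq _ (Nat.succ_pos _) a (m + m') r (fun x hx => by rw [smul_add, k1 x hx, k2 x hx, add_zero]) hr, smul_add])
    (fun c a m => by
      rw [← huniq (N m + 1) (Nat.succ_pos _) a (c • m) (ρ a m) (fun x hx => by rw [smul_comm, hN1 m x hx, smul_zero]) (hρ a m),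
        smul_comm])
  let g := TensorProduct.lift β
  have hzero : ∀ (m : M) (n : ℕ), (∀ a ∈ I ^ n, a • m = 0) →
      ∀ x ∈ Ideal.map (algebraMap R R') (I ^ n), x ⊗ₜ[R] m = 0 := by
    intro m n hkill x hx
    rw [Ideal.map] at hx
    induction hx using Submodule.span_induction with
    | mem y hy =>
      obtain ⟨a, ha, rfl⟩ := hy
      rw [Algebra.algebraMap_eq_smul_one, TensorProduct.smul_tmul, hkill a ha, TensorProduct.tmul_zero]
    | zero => rw [TensorProduct.zero_tmul]
    | add y z _ _ hy hz => rw [TensorProduct.add_tmul, hy, hz, add_zero]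
    | smul c y _ hy =>
      rw [← TensorProduct.smul_tmul' c y m, hy, smul_zero]
  refine ⟨fun a b hab => ?_, fun t => ?_⟩
  · have h := congrArg g hab
    simp only [g, TensorProduct.lift.tmul] at h
    change ρ 1 a • a = ρ 1 b • b at h
    rwa [← huniq _ (Nat.succ_pos _) 1 a 1 (hN1 a) (by simp), ← huniq _ (Nat.succ_pos _) 1 b 1 (hN1 b) (by simp),
      one_smul, one_smul] at h
  · induction t using TensorProduct.induction_on with
    | zero => exact ⟨0, TensorProduct.tmul_zero _ _⟩
    | tmul r' m =>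
      refine ⟨ρ r' m • m, ?_⟩
      show (1 : R') ⊗ₜ[R] (ρ r' m • m) = _
      rw [← TensorProduct.smul_tmul, ← Algebra.algebraMap_eq_smul_one, ← sub_eq_zero, ← TensorProduct.sub_tmul]
      exact hzero m _ (hN1 m) _ (hρ r' m)
    | add u v hu hv =>
      obtain ⟨a, ha⟩ := hu
      obtain ⟨b, hb⟩ := hv
      exact ⟨a + b, by simp only [TensorProduct.tmul_add] at *; rw [ha, hb]⟩

end Groth.Agent.S7041
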