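import Groth.Statements.S7046
import Groth.Agent.DComplLib.Basic
-- import your own Groth.Agent.* helpers here

set_option autoImplicit false
universe u
attribute [local instance] HasDerivedCategory.standard
open DRing

namespace Groth.Agent.S7046

/-- A reduced commutative ring A which, placed in degree 0 of D(A), is derived complete with respect to
a finitely generated ideal I is I-adically complete, i.e. separated and complete for the I-adic
topology. -/
theorem result {A : Type u} [CommRing A] [IsReduced A]
    (I : Ideal A) (hI : I.FG) (hc : DRing.IsDerivedComplete I (Dual.inD A A)) :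
    IsAdicComplete I A := by
  obtain ⟨s, hs⟩ := id hI
  have h' := (Groth.Agent.DComplLib.isDerivedComplete_inD_iff I A).1 hc
  refine AdicCompletion.of_bijective_iff.1 ⟨AdicCompletion.of_injective_iff.2 ?_, Groth.Agent.DComplLib.adicCompletion_of_surjective hI h'⟩
  have hl : Ideal.ofList s.toList = I := by
    rw [← hs]
    simp [Ideal.ofList, Finset.mem_toList]
  have h0 : (⨅ n : ℕ, I ^ n) ^ (2 ^ s.toList.length) = ⊥ := by
    rw [← hl]
    exact Groth.Agent.DComplLib.iInf_pow_pow_eq_bot s.toList fun f hf => h' f (hl ▸ Ideal.subset_span hf)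
  refine ⟨fun x hx => ?_⟩
  have hmem : x ∈ ⨅ n : ℕ, I ^ n := (Submodule.mem_iInf _).2 fun n => by
    simpa [SModEq.zero] using hx n
  have hp := Ideal.pow_mem_pow hmem (2 ^ s.toList.length)
  rw [h0] at hp
  exact (pow_eq_zero_iff (Nat.two_pow_pos _).ne').1 hp

end Groth.Agent.S7046
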