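import Groth.Statements.S7054
import Groth.Agent.DComplLib.Basic
-- import your own Groth.Agent.* helpers here

set_option autoImplicit false
universe u
attribute [local instance] HasDerivedCategory.standard
open DRing

namespace Groth.Agent.S7054

/-- For a commutative ring A and an ideal I such that A, placed in degree 0, is derived complete with
respect to I, every object of D(A) isomorphic to a bounded above complex of finite free A-modules is
derived complete with respect to I. -/
theorem result {A : Type u} [CommRing A] (I : Ideal A)
    (hA : DRing.IsDerivedComplete I (Dual.inD A A)) (K : Dual.D A) (hK : DRing.IsPseudoCoherent' A K) :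
    DRing.IsDerivedComplete I K := by
  obtain ⟨E, b, -, hE, ⟨e⟩⟩ := hK
  have hA' := (Groth.Agent.DComplLib.isDerivedComplete_inD_iff I A).1 hA
  refine (Groth.Agent.DComplLib.isDerivedComplete_iff I K).2 fun f hf n => ?_
  refine (Groth.Agent.DComplLib.dc_homology E (fun i => ?_) n).of_equiv
    (((Groth.Agent.DComplLib.hQIso E n).symm ≪≫ (DerivedCategory.homologyFunctor (ModuleCat A) n).mapIso e).toLinearEquiv)
  haveI := (hE i).1
  haveI := (hE i).2
  exact (Groth.Agent.DComplLib.dc_pi (M := fun _ : Module.Free.ChooseBasisIndex A (E.X i) => A) fun _ => hA' f hf).of_equiv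
    (Module.Free.chooseBasis A (E.X i)).equivFun.symm

end Groth.Agent.S7054
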