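import Groth.Statements.S7057
import Groth.Agent.DComplLib.Basic
-- import your own Groth.Agent.* helpers here

set_option autoImplicit false
universe u
attribute [local instance] HasDerivedCategory.standard
open DRing

namespace Groth.Agent.S7057

/-- For a homomorphism of commutative rings A → B, an ideal I of A and an object L of D(B), L is derived
complete with respect to the extended ideal IB if and only if L viewed in D(A) by restriction of
scalars is derived complete with respect to I. -/
theorem result {A B : Type u} [CommRing A] [CommRing B] (φ : A →+* B)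
    (I : Ideal A) (L : Dual.D B) :
    DRing.IsDerivedComplete (I.map φ) L ↔ DRing.IsDerivedComplete I ((DRing.restrictD φ).obj L) := by
  rw [Groth.Agent.DComplLib.isDerivedComplete_iff, Groth.Agent.DComplLib.isDerivedComplete_iff_le]
  refine ⟨fun h => fun f hf => Groth.Agent.DComplLib.mem_dcIdealD.2 fun n =>
    (Groth.Agent.DComplLib.dc_HD_restrict φ L f n).2 (h _ (Ideal.mem_map_of_mem φ hf) n), fun h g hg n => ?_⟩
  have hle : I.map φ ≤ Groth.Agent.DComplLib.dcIdeal (Dual.HD B L n) := by
    rw [Ideal.map_le_iff_le_comap]
    exact fun f hf => (Groth.Agent.DComplLib.dc_HD_restrict φ L f n).1 (Groth.Agent.DComplLib.mem_dcIdealD.1 (h hf) n)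
  exact hle hg

end Groth.Agent.S7057
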