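import Groth.Statements.S7065
import Mathlib
-- import your own Groth.Agent.* helpers here

set_option autoImplicit false
universe u
open EtGlue

namespace Groth.Agent.S7065

/-- Let R → R' be a homomorphism of commutative rings and f an element of R such that the induced map
R/fR → R'/fR' is bijective. Then Spec(R') ⊔ Spec(R_f) → Spec(R) is surjective: every prime of R is
the contraction of a prime of R' or of a prime of R_f. -/
theorem result {R R' : Type u} [CommRing R] [CommRing R']
    [Algebra R R'] (f : R)
    (hq : Function.Bijective
      (Ideal.quotientMap (Ideal.map (algebraMap R R') (Ideal.span {f})) (algebraMap R R') Ideal.le_comap_map))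
    (p : PrimeSpectrum R) :
    (∃ q : PrimeSpectrum R', PrimeSpectrum.comap (algebraMap R R') q = p) ∨
      ∃ q : PrimeSpectrum (Localization.Away f), PrimeSpectrum.comap (algebraMap R (Localization.Away f)) q = p := by
  by_cases hf : f ∈ p.asIdeal
  · left
    let qm := Ideal.quotientMap (Ideal.map (algebraMap R R') (Ideal.span {f})) (algebraMap R R')
      Ideal.le_comap_map
    let e := RingEquiv.ofBijective qm hq
    let g : R' →+* R ⧸ p.asIdeal := (Ideal.Quotient.factor
      (show Ideal.span {f} ≤ p.asIdeal from (Ideal.span_singleton_le_iff_mem _).mpr hf)).comp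
      (e.symm.toRingHom.comp (Ideal.Quotient.mk _))
    refine ⟨⟨RingHom.ker g, RingHom.ker_isPrime g⟩, PrimeSpectrum.ext (Ideal.ext fun x => ?_)⟩
    show g (algebraMap R R' x) = 0 ↔ _
    have : e.symm (Ideal.Quotient.mk _ (algebraMap R R' x)) = Ideal.Quotient.mk _ x := by
      rw [RingEquiv.symm_apply_eq]
      exact (Ideal.quotientMap_mk (H := Ideal.le_comap_map)).symm
    show (Ideal.Quotient.factor (show Ideal.span {f} ≤ p.asIdeal from
      (Ideal.span_singleton_le_iff_mem _).mpr hf)) (e.symm _) = 0 ↔ _
    erw [this, Ideal.Quotient.factor_mk, Ideal.Quotient.eq_zero_iff_mem]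
  · right
    have h : p ∈ Set.range (PrimeSpectrum.comap (algebraMap R (Localization.Away f))) := by
      rw [PrimeSpectrum.localization_away_comap_range _ f]
      exact hf
    exact h

end Groth.Agent.S7065
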