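import Groth.Statements.S7066
-- import your own Groth.Agent.* helpers here
import Groth.Agent.PerfMorLib.Poly
import Groth.Agent.DRingLib.PerfTor
import Groth.Agent.DRingLib.CompactPerfect
import Groth.Agent.S6955

set_option autoImplicit false
universe u
attribute [local instance] HasDerivedCategory.standard
open MoreMor
open CategoryTheory
set_option backward.isDefEq.respectTransparency false

namespace Groth.Agent.S7066

/-- A homomorphism of commutative rings A → B is perfect, i.e. pseudo-coherent with B of finite tor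
dimension as an A-module, if and only if B is a quotient of a polynomial ring A[x_1, …, x_n] over
which B is a perfect module, i.e. B placed in degree 0 is isomorphic in the derived category of the
polynomial ring to a bounded complex of finite projective modules. -/
theorem result (A B : Type u) [CommRing A] [CommRing B] [Algebra A B] :
    MoreMor.IsPerfectHom A B ↔
      ∃ (n : ℕ) (φ : MvPolynomial (Fin n) A →ₐ[A] B), Function.Surjective φ ∧
        letI := φ.toRingHom.toAlgebra
        DRing.IsPerfectModule (MvPolynomial (Fin n) A) B := by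
  constructor
  · rintro ⟨⟨n, φ, hφ, hpc⟩, htd⟩
    refine ⟨n, φ, hφ, ?_⟩
    letI := φ.toRingHom.toAlgebra
    show DRing.IsPerfectModule (MvPolynomial (Fin n) A) B
    have h1 : PerfMorLib.TD φ.toRingHom := PerfMorLib.td_mvPolynomial_fin n (by
      rw [← MvPolynomial.algebraMap_eq]; erw [φ.comp_algebraMap]
      exact PerfMorLib.hasFiniteTorDim_iff.mp htd)
    obtain ⟨d, hd⟩ := PerfMorLib.hasFiniteTorDim_iff (A := MvPolynomial (Fin n) A) (B := B) |>.mpr h1
    refine (DRingLib.isPerfect_iff _).mpr ((DRingLib.perf_iff _).mpr ⟨?_, -(d : ℤ), 0, ?_⟩)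
    · exact hpc
    · exact (DRingLib.hasTorDimLE_iff_amp d B).mp hd
  · rintro ⟨n, φ, hφ, hp⟩
    letI := φ.toRingHom.toAlgebra
    have hp' : DRing.IsPerfectModule (MvPolynomial (Fin n) A) B := hp
    refine ⟨⟨n, φ, hφ, ((DRingLib.perf_iff _).mp ((DRingLib.isPerfect_iff _).mp hp')).1⟩, ?_⟩
    obtain ⟨P, d, hP, -⟩ := (S6955.result (MvPolynomial (Fin n) A) B).mp hp'
    have hd : DRing.HasTorDimLE (MvPolynomial (Fin n) A) d B :=
      (DRingLib.hasTorDimLE_iff_amp d B).mpr (DRingLib.amp_inD_of_projectiveDimension P hP)
    have h2 := (PerfMorLib.td_of_flat (φ := (MvPolynomial.C : A →+* MvPolynomial (Fin n) A))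
      (by rw [← MvPolynomial.algebraMap_eq]; exact (RingHom.flat_algebraMap_iff).mpr inferInstance)).comp
      (PerfMorLib.hasFiniteTorDim_iff.mp ⟨d, hd⟩)
    rw [PerfMorLib.hasFiniteTorDim_iff]
    rwa [show (algebraMap (MvPolynomial (Fin n) A) B).comp MvPolynomial.C = algebraMap A B from φ.comp_algebraMap] at h2

end Groth.Agent.S7066
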