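import Groth.Statements.S7078
import Groth.Agent.DRingLib.TwoTerm
-- import your own Groth.Agent.* helpers here

set_option autoImplicit false
universe u
attribute [local instance] HasDerivedCategory.standard
open CategoryTheory
open DRing CategoryTheory

namespace Groth.Agent.S7078

/-- For a commutative ring R and an object K of D(R) whose cohomology modules vanish outside degrees -1
and 0, K is represented by a two-term complex K^{-1} → K^0 with K^0 a free R-module. -/
theorem result {R : Type u} [CommRing R] (K : Dual.D R)
    (hK : ∀ i : ℤ, i ≠ -1 → i ≠ 0 → Subsingleton (Dual.HD R K i)) :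
    ∃ E : DRing.Cx R, DRing.VanishesOutside E (-1) 0 ∧ Module.Free R (E.X 0) ∧ Nonempty (DRing.toD E ≅ K) := by
  haveI : Projective (ModuleCat.of R (Dual.HD R K 0 →₀ R)) := ModuleCat.projective_of_free Finsupp.basisSingleOne
  obtain ⟨Q, hQ⟩ := Groth.Agent.DRingLib.exists_pres hK (ModuleCat.of R (Dual.HD R K 0 →₀ R))
    (ModuleCat.ofHom (Finsupp.linearCombination R _root_.id))
    (fun x => ⟨Finsupp.single x 1, (Finsupp.linearCombination_single R (v := _root_.id) 1 x).trans (one_smul _ _)⟩)
  refine ⟨Q.cx, Q.cx_vanishes, ?_, Q.nonempty_iso⟩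
  obtain ⟨e⟩ := Q.nonempty_cx_zero
  haveI : Module.Free R Q.F := by rw [hQ]; exact Module.Free.of_basis Finsupp.basisSingleOne
  exact Module.Free.of_equiv e.toLinearEquiv.symm

end Groth.Agent.S7078
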