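import Groth.Statements.S7079
import Groth.Agent.DRingLib.TwoTerm
-- import your own Groth.Agent.* helpers here

set_option autoImplicit false
universe u
attribute [local instance] HasDerivedCategory.standard
open CategoryTheory
open DRing CategoryTheory

namespace Groth.Agent.S7079

/-- For a Noetherian commutative ring R and an object K of D(R) whose cohomology modules vanish outside
degrees -1 and 0 and are finite modules in those two degrees, K is represented by a two-term complex
K^{-1} → K^0 with K^0 finite free and K^{-1} finite. -/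
theorem result {R : Type u} [CommRing R] [IsNoetherianRing R] (K : Dual.D R)
    (hK : ∀ i : ℤ, i ≠ -1 → i ≠ 0 → Subsingleton (Dual.HD R K i))
    (h1 : Module.Finite R (Dual.HD R K (-1))) (h0 : Module.Finite R (Dual.HD R K 0)) :
    ∃ E : DRing.Cx R, DRing.VanishesOutside E (-1) 0 ∧ Module.Free R (E.X 0) ∧ Module.Finite R (E.X 0) ∧
      Module.Finite R (E.X (-1)) ∧ Nonempty (DRing.toD E ≅ K) := by
  obtain ⟨r, p, hp⟩ := Module.Finite.exists_fin' R (Dual.HD R K 0)
  haveI : Projective (ModuleCat.of R (Fin r → R)) := ModuleCat.projective_of_free (Pi.basisFun R (Fin r))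
  obtain ⟨Q, hQ⟩ := Groth.Agent.DRingLib.exists_pres hK (ModuleCat.of R (Fin r → R)) (ModuleCat.ofHom p) hp
  obtain ⟨e⟩ := Q.nonempty_cx_zero
  obtain ⟨e'⟩ := Q.nonempty_cx_negOne
  haveI : Module.Free R Q.F := by rw [hQ]; exact Module.Free.of_basis (Pi.basisFun R (Fin r))
  haveI : Module.Finite R Q.F := by rw [hQ]; exact Module.Finite.of_basis (Pi.basisFun R (Fin r))
  haveI := Groth.Agent.DRingLib.Pres.finite_M Q h1 inferInstance
  exact ⟨Q.cx, Q.cx_vanishes, Module.Free.of_equiv e.toLinearEquiv.symm, Module.Finite.equiv e.toLinearEquiv.symm,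
    Module.Finite.equiv e'.toLinearEquiv.symm, Q.nonempty_iso⟩

end Groth.Agent.S7079
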