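import Groth.Statements.S7084
import Groth.Agent.DRingLib.CompleteNakayama
-- import your own Groth.Agent.* helpers here

set_option autoImplicit false
set_option backward.isDefEq.respectTransparency false
universe u
attribute [local instance] HasDerivedCategory.standard
open CategoryTheory
open LocCoh

namespace Groth.Agent.S7084

open CategoryTheory Limits MonoidalCategory Pretriangulated
open Groth.Agent.DCohLib Groth.Agent.DTenLib Groth.Agent.DComplLib Groth.Agent.DRingLib

variable {A : Type u} [CommRing A]

theorem exactAt_tensM_of_pow_killed (I : Ideal A) {D : DRing.Cx A} (hD : DRing.TermwiseFlat D) (b : ℤ)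
    (h : KilledAbove D (I : Set A) b) : ∀ (n : ℕ) (M : Type u) [AddCommGroup M] [Module A M],
      I ^ n • (⊤ : Submodule A M) = ⊥ → ∀ i : ℤ, b < i → ((tensM (ModuleCat.of A M)).obj D).ExactAt i := by
  intro n
  induction n with
  | zero =>
    intro M _ _ hM i hi
    rw [pow_zero, Ideal.one_eq_top, Submodule.top_smul] at hM
    refine h M (fun r _ m => ?_) i hi
    have : r • m ∈ (⊥ : Submodule A M) := hM ▸ Submodule.mem_top
    exact this
  | succ n ih =>
    intro M _ _ hM i hi
    let M₁ : Submodule A M := I • ⊤
    let tα : ∀ {X Y : ModuleCat.{u} A}, (X ⟶ Y) → ((tensM X).obj D ⟶ (tensM Y).obj D) := fun u =>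
      (NatTrans.mapHomologicalComplex ((tensoringLeft (ModuleCat.{u} A)).map u) (ComplexShape.up ℤ)).app D
    let a : ModuleCat.of A M₁ ⟶ ModuleCat.of A M := ModuleCat.ofHom M₁.subtype
    let c : ModuleCat.of A M ⟶ ModuleCat.of A (M ⧸ M₁) := ModuleCat.ofHom M₁.mkQ
    have hac : a ≫ c = 0 := ModuleCat.hom_ext (LinearMap.ext fun x => (Submodule.Quotient.mk_eq_zero _).2 x.2)
    have hz : tα a ≫ tα c = 0 := by
      ext m : 1
      show a ▷ D.X m ≫ c ▷ D.X m = 0
      rw [← MonoidalCategory.comp_whiskerRight, hac, MonoidalPreadditive.zero_whiskerRight]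
    have hT : (ShortComplex.mk (tα a) (tα c) hz).ShortExact := by
      refine HomologicalComplex.shortExact_of_degreewise_shortExact _ fun m => ?_
      haveI := hD m
      exact ShortComplex.ShortExact.mk'
        ((ShortComplex.ShortExact.moduleCat_exact_iff_function_exact _).2
          (Module.Flat.rTensor_exact (D.X m) (LinearMap.exact_subtype_mkQ M₁)))
        ((ModuleCat.mono_iff_injective _).2 (Module.Flat.rTensor_preserves_injective_linearMap M₁.subtype
          Subtype.val_injective))
        ((ModuleCat.epi_iff_surjective _).2 (LinearMap.rTensor_surjective (D.X m) M₁.mkQ_surjective))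
    have h₁ : ((tensM (ModuleCat.of A M₁)).obj D).ExactAt i := by
      refine ih M₁ (le_bot_iff.1 ?_) i hi
      refine Submodule.smul_le.2 fun r hr x _ => ?_
      rw [Submodule.mem_bot]
      refine Subtype.ext ?_
      have hmem : r • (x : M) ∈ I ^ (n + 1) • (⊤ : Submodule A M) := by
        rw [pow_succ, Submodule.mul_smul]
        exact Submodule.smul_mem_smul hr x.2
      rwa [hM, Submodule.mem_bot] at hmem
    have h₂ : ((tensM (ModuleCat.of A (M ⧸ M₁))).obj D).ExactAt i := h _ (fun r hr m => by
      obtain ⟨x, rfl⟩ := M₁.mkQ_surjective m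
      rw [← map_smul]
      exact (Submodule.Quotient.mk_eq_zero _).2 (Submodule.smul_mem_smul hr trivial)) i hi
    rw [HomologicalComplex.exactAt_iff_isZero_homology]
    exact (hT.homology_exact₂ i).isZero_of_both_zeros (h₁.isZero_homology.eq_of_src _ _)
      (h₂.isZero_homology.eq_of_tgt _ _)


/-- Parts (1)–(2) in the case of a module killed by a power of the ideal: let R be a commutative ring, I
an ideal and K an object of D(R) such that K ⊗^L_R R/I has no cohomology in positive degrees. Then
for every R-module N annihilated by some power of I, K ⊗^L_R N has no cohomology in positive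
degrees. (The published statement allows any I-power torsion module N; this row takes N annihilated
by a single power of I, the case the published argument carries out in full, which contains the case
N = R/I^n.) The derived tensor products with modules are total left derived functors, assumed to
exist. -/
theorem result {R : Type u} [CommRing R] (I : Ideal R)
    [DRing.HasLTensor R (ModuleCat.of R (R ⧸ I))] (K : Dual.D R)
    (hK : ∀ i : ℤ, 0 < i → Subsingleton (Dual.HD R ((DRing.LTensor R (ModuleCat.of R (R ⧸ I))).obj K) i))
    (N : Type u) [AddCommGroup N] [Module R N] (n : ℕ) (hN : I ^ n • (⊤ : Submodule R N) = ⊥)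
    [DRing.HasLTensor R (ModuleCat.of R N)] (i : ℤ) (hi : 0 < i) :
    Subsingleton (Dual.HD R ((DRing.LTensor R (ModuleCat.of R N)).obj K) i) := by
  obtain ⟨P, hP, hflat, ⟨e⟩⟩ := exists_kflat_representative K
  have hz : ∀ j : ℤ, 0 < j → ((tensM (ModuleCat.of R (R ⧸ I))).obj P).ExactAt j := fun j hj =>
    (exactAt_iff_isZero_homologyFunctor _ j).2 ((ModuleCat.isZero_iff_subsingleton.2 (hK j hj)).of_iso
      ((DerivedCategory.homologyFunctor (ModuleCat.{u} R) j).mapIso
        ((ltensorIso (ModuleCat.of R (R ⧸ I)) P hP).symm ≪≫ (DRing.LTensor R _).mapIso e)))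
  exact ModuleCat.subsingleton_of_isZero (((exactAt_iff_isZero_homologyFunctor _ i).1
    (exactAt_tensM_of_pow_killed I hflat 0 (killedAbove_of_exactAt I hP 0 hz) n N hN i hi)).of_iso
    ((DerivedCategory.homologyFunctor (ModuleCat.{u} R) i).mapIso
      ((DRing.LTensor R _).mapIso e.symm ≪≫ ltensorIso (ModuleCat.of R N) P hP)))

end Groth.Agent.S7084
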