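import Groth.Statements.S7085


set_option autoImplicit false
universe u
open LocCoh

namespace Groth.Agent.S7085

/-- Let R be a commutative ring, I an ideal generated by finitely many elements f_1, …, f_t, and M an
R-module. Then: M has no nonzero element killed by I if and only if it has no nonzero element killed
by I^n for every n ≥ 1; and M has no nonzero element killed by I if and only if an element of M
vanishing in every localization M_{f_i} is zero. -/
theorem result {R : Type u} [CommRing R] {t : ℕ} (f : Fin t → R)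
    (I : Ideal R) (hI : Ideal.span (Set.range f) = I) (M : Type u) [AddCommGroup M] [Module R M] :
    (LocCoh.torsionBy I M = ⊥ ↔ ∀ n : ℕ, 1 ≤ n → LocCoh.torsionBy (I ^ n) M = ⊥) ∧
    (LocCoh.torsionBy I M = ⊥ ↔
      ∀ m : M, (∀ i : Fin t, LocalizedModule.mkLinearMap (Submonoid.powers (f i)) M m = 0) → m = 0) := by
  have hpow : LocCoh.torsionBy I M = ⊥ → ∀ n : ℕ, ∀ x : M, (∀ a ∈ I ^ n, a • x = 0) → x = 0 := by
    intro h n
    induction n with
    | zero => intro x hx; simpa using hx 1 (by simp)
    | succ n ih =>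
      intro x hx
      refine (Submodule.mem_bot R).mp (h ▸ (Submodule.mem_torsionBySet_iff _ _).mpr fun a => ?_)
      refine ih _ fun b hb => ?_
      rw [smul_smul]
      exact hx _ (by rw [pow_succ]; exact Ideal.mul_mem_mul hb a.2)
  constructor
  · refine ⟨fun h n _ => (Submodule.eq_bot_iff _).mpr fun x hx => hpow h n x fun a ha =>
      (Submodule.mem_torsionBySet_iff _ _).mp hx ⟨a, ha⟩, fun h => by simpa using h 1 le_rfl⟩
  · refine ⟨fun h m hm => ?_, fun h => (Submodule.eq_bot_iff _).mpr fun x hx => h x fun i => ?_⟩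
    · have hfg : I.FG := hI ▸ Submodule.fg_span (Set.finite_range f)
      have hle : I ≤ (Ideal.torsionOf R M m).radical := by
        rw [← hI, Ideal.span_le]
        rintro _ ⟨i, rfl⟩
        obtain ⟨⟨_, k, rfl⟩, hk⟩ := (IsLocalizedModule.eq_zero_iff (Submonoid.powers (f i))
          (LocalizedModule.mkLinearMap (Submonoid.powers (f i)) M)).mp (hm i)
        exact ⟨k, hk⟩
      obtain ⟨n, hn⟩ := Ideal.exists_pow_le_of_le_radical_of_fg hle hfg
      exact hpow h n m fun a ha => hn ha
    · refine (IsLocalizedModule.eq_zero_iff (Submonoid.powers (f i)) _).mpr ⟨⟨f i, 1, pow_one _⟩, ?_⟩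
      exact (Submodule.mem_torsionBySet_iff _ _).mp hx ⟨f i, hI ▸ Ideal.subset_span ⟨i, rfl⟩⟩

end Groth.Agent.S7085
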