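import Groth.Statements.S7089
import Mathlib

set_option autoImplicit false
universe u
open CategoryTheory
open LocCoh

namespace Groth.Agent.S7089

open CategoryTheory CategoryTheory.Limits AlgebraicGeometry


variable {R : Type u} [CommRing R] (I : Ideal R)

/-- A power torsion module. -/
structure PTMod where
  M : ModuleCat.{u} R
  ex : LocCoh.IsPowerTorsion I M

variable {I}

noncomputable def bound (P : PTMod I) (m : P.M) : ℕ := (P.ex m).choose

lemma bound_spec (P : PTMod I) (m : P.M) : ∀ a ∈ I ^ bound P m, a • m = 0 := (P.ex m).choose_spec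

/-- The covering sum of cyclic modules. -/
noncomputable abbrev cov (P : PTMod I) : ModuleCat.{u} R :=
  ModuleCat.of R (DirectSum P.M fun m => R ⧸ I ^ bound P m)

/-- The covering map. -/
noncomputable def covMap (P : PTMod I) : cov P ⟶ P.M :=
  haveI : DecidableEq P.M := Classical.decEq _
  ModuleCat.ofHom (DirectSum.toModule R P.M P.M fun m =>
    Submodule.liftQ (I ^ bound P m) (LinearMap.toSpanSingleton R P.M m)
      fun a ha => LinearMap.mem_ker.mpr (bound_spec P m a ha))

lemma covMap_surjective (P : PTMod I) : Function.Surjective (covMap P).hom := fun m => by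
  haveI : DecidableEq P.M := Classical.decEq _
  refine ⟨DirectSum.lof R P.M (fun m => R ⧸ I ^ bound P m) m (Submodule.Quotient.mk 1), ?_⟩
  refine (DirectSum.toModule_lof R (M := fun m => R ⧸ I ^ bound P m) m (Submodule.Quotient.mk 1)).trans ?_
  exact (Submodule.liftQ_apply _ _ _).trans (one_smul R m)

lemma isPowerTorsion_cov (P : PTMod I) (x : cov P) : ∃ n : ℕ, ∀ a ∈ I ^ n, a • x = 0 := by
  haveI : DecidableEq P.M := Classical.decEq _
  induction x using DirectSum.induction_on with
  | zero => exact ⟨0, fun a _ => smul_zero a⟩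
  | of m y =>
    refine ⟨bound P m, fun a ha => ?_⟩
    obtain ⟨y, rfl⟩ := Submodule.Quotient.mk_surjective _ y
    have h0 : a • (Submodule.Quotient.mk y : R ⧸ I ^ bound P m) = 0 := by
      rw [← Submodule.Quotient.mk_smul, Submodule.Quotient.mk_eq_zero]
      exact Ideal.mul_mem_right _ _ ha
    change a • DirectSum.lof R P.M (fun m => R ⧸ I ^ bound P m) m (Submodule.Quotient.mk y) = 0
    rw [← map_smul, h0, map_zero]
  | add x y hx hy =>
    obtain ⟨a, ha⟩ := hx
    obtain ⟨b, hb⟩ := hy
    exact ⟨max a b, fun r hr => by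
      rw [smul_add, ha r (Ideal.pow_le_pow_right (le_max_left a b) hr),
        hb r (Ideal.pow_le_pow_right (le_max_right a b) hr), add_zero]⟩

/-- The kernel of the cover. -/
noncomputable def next (P : PTMod I) : PTMod I where
  M := ModuleCat.of R (LinearMap.ker (covMap P).hom)
  ex := fun x => (isPowerTorsion_cov P x.1).imp fun n h a ha => Subtype.ext (h a ha)

/-- The syzygies. -/
noncomputable def syz (P : PTMod I) : ℕ → PTMod I
  | 0 => P
  | k + 1 => next (syz P k)

/-- The differential. -/
noncomputable def dd (P : PTMod I) (k : ℕ) : cov (syz P (k + 1)) ⟶ cov (syz P k) :=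
  covMap (syz P (k + 1)) ≫ ModuleCat.ofHom (LinearMap.ker (covMap (syz P k)).hom).subtype

lemma dd_comp (P : PTMod I) (k : ℕ) : dd P (k + 1) ≫ dd P k = 0 := by
  refine ModuleCat.hom_ext (LinearMap.ext fun x => ?_)
  have h : (covMap (syz P (k + 1))).hom ((dd P (k + 1)).hom x) = 0 := by
    exact LinearMap.mem_ker.mp ((covMap (syz P (k + 1 + 1))).hom x).2
  change Subtype.val ((covMap (syz P (k + 1))).hom ((dd P (k + 1)).hom x)) = 0
  rw [h]
  rfl

/-- The resolution. -/
noncomputable def res (P : PTMod I) : ChainComplex (ModuleCat.{u} R) ℕ :=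
  ChainComplex.of (fun k => cov (syz P k)) (dd P) (dd_comp P)

lemma exact_dd (P : PTMod I) (k : ℕ) :
    (ShortComplex.mk (dd P (k + 1)) (dd P k) (dd_comp P k)).Exact := by
  rw [ShortComplex.moduleCat_exact_iff]
  intro x hx
  have hx' : (covMap (syz P (k + 1))).hom x = 0 := Subtype.ext hx
  obtain ⟨y, hy⟩ := covMap_surjective (syz P (k + 1 + 1)) ⟨x, LinearMap.mem_ker.mpr hx'⟩
  exact ⟨y, congrArg Subtype.val hy⟩

lemma res_d (P : PTMod I) (k : ℕ) : (res P).d (k + 1) k = dd P k :=
  ChainComplex.of_d (fun k => cov (syz P k)) (dd P) k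

lemma dd_zero_comp (P : PTMod I) : dd P 0 ≫ covMap P = 0 := by
  refine ModuleCat.hom_ext (LinearMap.ext fun x => ?_)
  exact LinearMap.mem_ker.mp ((covMap (syz P 1)).hom x).2

/-- The augmentation. -/
noncomputable def aug (P : PTMod I) : res P ⟶ (ChainComplex.single₀ (ModuleCat.{u} R)).obj P.M :=
  (ChainComplex.toSingle₀Equiv _ _).symm ⟨covMap P, by rw [res_d]; exact dd_zero_comp P⟩

lemma quasiIso_aug (P : PTMod I) : QuasiIso (aug P) := ⟨fun n => by
  cases n with
  | zero =>
    rw [ChainComplex.quasiIsoAt₀_iff, ShortComplex.quasiIso_iff_of_zeros']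
    · haveI : Epi (covMap P) := (ModuleCat.epi_iff_surjective _).mpr (covMap_surjective P)
      have hex : (ShortComplex.mk (dd P 0) (covMap P) (dd_zero_comp P)).Exact := by
        rw [ShortComplex.moduleCat_exact_iff]
        intro x hx
        obtain ⟨y, hy⟩ := covMap_surjective (syz P 1) ⟨x, LinearMap.mem_ker.mpr hx⟩
        exact ⟨y, congrArg Subtype.val hy⟩
      refine (ShortComplex.exact_and_epi_g_iff_of_iso ?_).2 ⟨hex, this⟩
      exact ShortComplex.isoMk (Iso.refl _) (Iso.refl _) (Iso.refl _)
        (by simp [res_d]; rfl) (by simp [aug]; rfl)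
    all_goals rfl
  | succ n =>
    rw [quasiIsoAt_iff_exactAt']
    · rw [HomologicalComplex.exactAt_iff' _ (n + 1 + 1) (n + 1) n (by simp) (by simp)]
      refine (ShortComplex.exact_iff_of_iso ?_).mpr (exact_dd P n)
      exact ShortComplex.isoMk (Iso.refl _) (Iso.refl _) (Iso.refl _)
        (by simp [res_d]; rfl) (by simp [res_d]; rfl)
    · apply ChainComplex.exactAt_succ_single_obj⟩

/-- Let R be a commutative ring, I an ideal and M an R-module in which every element is killed by a
power of I. Then M has a left resolution by modules each of which is a direct sum of copies of R/I^n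
for varying n: there are a chain complex K of R-modules, a quasi-isomorphism from K to M placed in
degree 0, and for each i an isomorphism of K_i with such a direct sum. -/
theorem result {R : Type u} [CommRing R] (I : Ideal R)
    (M : Type u) [AddCommGroup M] [Module R M] (hM : LocCoh.IsPowerTorsion I M) :
    ∃ (K : ChainComplex (ModuleCat.{u} R) ℕ) (π : K ⟶ (ChainComplex.single₀ (ModuleCat.{u} R)).obj (ModuleCat.of R M)),
      QuasiIso π ∧ ∀ i : ℕ, ∃ (ι : Type u) (n : ι → ℕ),
        Nonempty (K.X i ≅ ModuleCat.of R (DirectSum ι fun j => R ⧸ I ^ n j)) := by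
  let P : PTMod I := ⟨ModuleCat.of R M, hM⟩
  exact ⟨res P, aug P, quasiIso_aug P, fun i => ⟨(syz P i).M, bound (syz P i), ⟨Iso.refl _⟩⟩⟩


end Groth.Agent.S7089
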