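import Groth.Statements.S7090
import Mathlib

set_option autoImplicit false
set_option backward.isDefEq.respectTransparency false
set_option maxHeartbeats 1000000
universe u
open TensorProduct
open EtAlg

namespace Groth.Agent.S7090

open TensorProduct

variable {R S : Type u} [CommRing R] [CommRing S] [Algebra R S]

/-- `R/J → S/JS` is bijective. -/
def QuotIso (R S : Type u) [CommRing R] [CommRing S] [Algebra R S] (J : Ideal R) : Prop :=
  (∀ s : S, ∃ c : R, s - algebraMap R S c ∈ J.map (algebraMap R S)) ∧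
    ∀ r : R, algebraMap R S r ∈ J.map (algebraMap R S) → r ∈ J

theorem QuotIso.mono {J J' : Ideal R} (h : QuotIso R S J) (hle : J ≤ J') : QuotIso R S J' := by
  refine ⟨fun s => (h.1 s).imp fun c hc => Ideal.map_mono hle hc, fun r hr => ?_⟩
  obtain ⟨k, hk⟩ : ∃ k : R, k ∈ J' ∧ algebraMap R S (r - k) ∈ J.map (algebraMap R S) := by
    suffices hs : ∀ z ∈ J'.map (algebraMap R S), ∃ k : R, k ∈ J' ∧ z - algebraMap R S k ∈ J.map (algebraMap R S) by
      obtain ⟨k, hk, hk'⟩ := hs _ hr
      exact ⟨k, hk, by rwa [map_sub]⟩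
    intro z hz
    rw [Ideal.map] at hz
    induction hz using Submodule.span_induction with
    | mem z hz =>
      obtain ⟨a, ha, rfl⟩ := hz
      exact ⟨a, ha, by rw [sub_self]; exact zero_mem _⟩
    | zero => exact ⟨0, zero_mem _, by rw [map_zero, sub_self]; exact zero_mem _⟩
    | add y z _ _ hy hz =>
      obtain ⟨a, ha, ha'⟩ := hy
      obtain ⟨b, hb, hb'⟩ := hz
      exact ⟨a + b, add_mem ha hb, by rw [map_add, add_sub_add_comm]; exact add_mem ha' hb'⟩
    | smul s z _ hz =>
      obtain ⟨a, ha, ha'⟩ := hz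
      obtain ⟨c, hc⟩ := h.1 s
      refine ⟨c * a, J'.mul_mem_left c ha, ?_⟩
      rw [smul_eq_mul, map_mul, show s * z - algebraMap R S c * algebraMap R S a =
        s * (z - algebraMap R S a) + (s - algebraMap R S c) * algebraMap R S a by ring]
      exact add_mem (Ideal.mul_mem_left _ _ ha') (Ideal.mul_mem_right _ _ hc)
  simpa using add_mem (hle (h.2 _ hk.2)) hk.1

theorem eq_zero_of_killed [Module.Flat R S] {J : Ideal R} (h : QuotIso R S J) {M : Type u} [AddCommGroup M]
    [Module R M] (z : M) (hz : ∀ a ∈ J, a • z = 0) (h0 : (1 : S) ⊗ₜ[R] z = 0) : z = 0 := by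
  let A := LinearMap.ker (LinearMap.toSpanSingleton R M z)
  have hinj : Function.Injective (Submodule.liftQ A (LinearMap.toSpanSingleton R M z) le_rfl) :=
    LinearMap.ker_eq_bot.1 (Submodule.ker_liftQ_eq_bot _ _ _ le_rfl)
  have h1 : (1 : S) ⊗ₜ[R] (Submodule.Quotient.mk (1 : R) : R ⧸ A) = 0 := by
    refine Module.Flat.lTensor_preserves_injective_linearMap (M := S) _ hinj ?_
    rw [map_zero, LinearMap.lTensor_tmul]
    rw [Submodule.liftQ_apply, LinearMap.toSpanSingleton_apply, one_smul]
    exact h0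
  have h2 : (1 : S) ∈ Ideal.map (algebraMap R S) A := by
    have := congrArg (Algebra.TensorProduct.quotIdealMapEquivTensorQuot S A).symm h1
    rw [map_zero] at this
    rw [← Ideal.Quotient.eq_zero_iff_mem, ← this]
    refine (Algebra.TensorProduct.quotIdealMapEquivTensorQuot S A).injective ?_
    rw [AlgEquiv.apply_symm_apply, Algebra.TensorProduct.quotIdealMapEquivTensorQuot_mk]
    rfl
  have h3 : (1 : R) ∈ A := (h.mono fun a ha => show a • z = 0 from hz a ha).2 1 (by rwa [map_one])
  simpa [A] using h3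

theorem quotIso_pow [Module.Flat R S] {I : Ideal R}
    (hq : Function.Bijective
      (Ideal.quotientMap (Ideal.map (algebraMap R S) I) (algebraMap R S) Ideal.le_comap_map)) :
    ∀ n : ℕ, QuotIso R S (I ^ n) := by
  have h1 : QuotIso R S I := by
    refine ⟨fun s => ?_, fun r hr => ?_⟩
    · obtain ⟨c, hc⟩ := hq.2 (Ideal.Quotient.mk _ s)
      obtain ⟨c, rfl⟩ := Ideal.Quotient.mk_surjective c
      rw [Ideal.quotientMap_mk, Ideal.Quotient.eq] at hc
      exact ⟨c, by rw [← neg_sub]; exact neg_mem hc⟩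
    · refine Ideal.Quotient.eq_zero_iff_mem.1 (hq.1 ?_)
      rw [map_zero, Ideal.quotientMap_mk, Ideal.Quotient.eq_zero_iff_mem]
      exact hr
  intro n
  induction n with
  | zero => simp [QuotIso, Ideal.map_top, Ideal.one_eq_top]
  | succ n ih =>
    refine ⟨fun s => ?_, fun r hr => ?_⟩
    · obtain ⟨c, hc⟩ := ih.1 s
      have : ∀ z ∈ (I ^ n).map (algebraMap R S), ∃ d : R, z - algebraMap R S d ∈ (I ^ (n + 1)).map (algebraMap R S) := by
        intro z hz
        rw [Ideal.map] at hz
        induction hz using Submodule.span_induction with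
        | mem z hz =>
          obtain ⟨a, -, rfl⟩ := hz
          exact ⟨a, by rw [sub_self]; exact zero_mem _⟩
        | zero => exact ⟨0, by rw [map_zero, sub_self]; exact zero_mem _⟩
        | add y z _ _ hy hz =>
          obtain ⟨a, ha⟩ := hy
          obtain ⟨b, hb⟩ := hz
          exact ⟨a + b, by rw [map_add, add_sub_add_comm]; exact add_mem ha hb⟩
        | smul s z hzmem hz =>
          obtain ⟨a, ha⟩ := hz
          obtain ⟨c, hc⟩ := h1.1 s
          refine ⟨c * a, ?_⟩
          rw [smul_eq_mul, map_mul, show s * z - algebraMap R S c * algebraMap R S a =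
            (s - algebraMap R S c) * z + algebraMap R S c * (z - algebraMap R S a) by ring]
          refine add_mem ?_ (Ideal.mul_mem_left _ _ ha)
          rw [pow_succ', Ideal.map_mul]
          exact Ideal.mul_mem_mul hc hzmem
      obtain ⟨d, hd⟩ := this _ hc
      exact ⟨c + d, by rwa [map_add, ← sub_sub]⟩
    · have hn : r ∈ I ^ n := ih.2 r (Ideal.map_mono (Ideal.pow_le_pow_right n.le_succ) hr)
      refine Ideal.Quotient.eq_zero_iff_mem.1 (eq_zero_of_killed (S := S) h1 (M := R ⧸ I ^ (n + 1)) _ (fun a ha => ?_) ?_)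
      · rw [Algebra.smul_def, Ideal.Quotient.algebraMap_eq, ← map_mul, Ideal.Quotient.eq_zero_iff_mem, pow_succ']
        exact Ideal.mul_mem_mul ha hn
      · refine (Algebra.TensorProduct.quotIdealMapEquivTensorQuot S (I ^ (n + 1))).symm.injective ?_
        rw [map_zero, ← Ideal.Quotient.eq_zero_iff_mem.2 hr]
        refine (Algebra.TensorProduct.quotIdealMapEquivTensorQuot S (I ^ (n + 1))).injective ?_
        rw [AlgEquiv.apply_symm_apply, Algebra.TensorProduct.quotIdealMapEquivTensorQuot_mk]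
        rw [Algebra.algebraMap_eq_smul_one, TensorProduct.smul_tmul, Algebra.smul_def, mul_one]
        rfl

theorem tmul_eq_of_killed {J : Ideal R} (h : QuotIso R S J) {M : Type u} [AddCommGroup M] [Module R M] (z : M)
    (hz : ∀ a ∈ J, a • z = 0) (s : S) : ∃ c : R, s ⊗ₜ[R] z = (1 : S) ⊗ₜ[R] (c • z) := by
  obtain ⟨c, hc⟩ := h.1 s
  refine ⟨c, ?_⟩
  rw [TensorProduct.tmul_smul, TensorProduct.smul_tmul', ← Algebra.algebraMap_eq_smul_one, ← sub_eq_zero,
    ← TensorProduct.sub_tmul]
  generalize s - algebraMap R S c = w at hc ⊢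
  rw [Ideal.map] at hc
  induction hc using Submodule.span_induction with
  | mem w hw =>
    obtain ⟨a, ha, rfl⟩ := hw
    rw [Algebra.algebraMap_eq_smul_one, TensorProduct.smul_tmul, hz a ha, TensorProduct.tmul_zero]
  | zero => rw [TensorProduct.zero_tmul]
  | add y w _ _ hy hw => rw [TensorProduct.add_tmul, hy, hw, add_zero]
  | smul b w _ hw =>
    rw [← TensorProduct.smul_tmul', hw, smul_zero]

theorem killed_of_forall {t : ℕ} {M : Type u} [AddCommGroup M] [Module R M] (g : Fin t → R) (z : M)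
    (h : ∀ i, g i • z = 0) : ∀ a ∈ Ideal.span (Set.range g), a • z = 0 := fun a ha => by
  induction ha using Submodule.span_induction with
  | mem a ha => obtain ⟨i, rfl⟩ := ha; exact h i
  | zero => rw [zero_smul]
  | add a b _ _ h h' => rw [add_smul, h, h', add_zero]
  | smul a b _ h => rw [smul_assoc, h, smul_zero]

theorem quotIso_span_pow [Module.Flat R S] {t : ℕ} (f : Fin t → R) {I : Ideal R}
    (hI : Ideal.span (Set.range f) = I)
    (hq : Function.Bijective
      (Ideal.quotientMap (Ideal.map (algebraMap R S) I) (algebraMap R S) Ideal.le_comap_map))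
    (n : Fin t → ℕ) : QuotIso R S (Ideal.span (Set.range fun i => f i ^ n i)) := by
  obtain ⟨k, hk⟩ := Ideal.exists_pow_le_of_le_radical_of_fg (I := I) (J := Ideal.span (Set.range fun i => f i ^ n i))
    (by rw [← hI, Ideal.span_le]; rintro _ ⟨i, rfl⟩; exact ⟨n i, Ideal.subset_span ⟨i, rfl⟩⟩)
    (by rw [← hI]; exact Submodule.fg_span (Set.finite_range f))
  exact (quotIso_pow hq k).mono hk


/-- Let R → S be a flat homomorphism of commutative rings and I = (f_1, …, f_t) a finitely generated
ideal such that R/I → S/IS is bijective. Then for every R-module M the glueing complex 0 → M → (S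
⊗_R M) × ∏ M_{f_i} → ∏ (S ⊗_R M)_{f_i} × ∏ M_{f_i f_j} is exact. Concretely: an element of M with
zero image in S ⊗_R M and in every M_{f_i} is zero; and given x in S ⊗_R M and elements m_1, …, m_t
of M and N ≥ 0 such that x and m_i / f_i^N have the same image in (S ⊗_R M)_{f_i} for each i, and
m_i / f_i^N, m_j / f_j^N have the same image in M_{f_i f_j} for all i, j, there is m in M with 1 ⊗ m
= x and m / 1 = m_i / f_i^N in M_{f_i} for every i. -/
theorem result {R S : Type u} [CommRing R] [CommRing S] [Algebra R S] [Module.Flat R S]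
    {t : ℕ} (f : Fin t → R) (I : Ideal R) (hI : Ideal.span (Set.range f) = I)
    (hq : Function.Bijective
      (Ideal.quotientMap (Ideal.map (algebraMap R S) I) (algebraMap R S) Ideal.le_comap_map))
    (M : Type u) [AddCommGroup M] [Module R M] :
    (∀ m : M, (1 : S) ⊗ₜ[R] m = 0 →
        (∀ i : Fin t, LocalizedModule.mkLinearMap (Submonoid.powers (f i)) M m = 0) → m = 0) ∧
    ∀ (x : S ⊗[R] M) (N : ℕ) (m : Fin t → M),
      (∀ i : Fin t, EtGlue.locOfTensor R S (f i) M x =
          EtGlue.tensorOfLoc R S (f i) M (LocalizedModule.mk (m i) ⟨f i ^ N, Submonoid.pow_mem _ (Submonoid.mem_powers (f i)) N⟩)) →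
      (∀ i j : Fin t, ∃ e : ℕ, (f i * f j) ^ e • (f j ^ N • m i - f i ^ N • m j) = 0) →
        ∃ μ : M, (1 : S) ⊗ₜ[R] μ = x ∧
          ∀ i : Fin t, LocalizedModule.mkLinearMap (Submonoid.powers (f i)) M μ =
            LocalizedModule.mk (m i) ⟨f i ^ N, Submonoid.pow_mem _ (Submonoid.mem_powers (f i)) N⟩ := by
  classical
  refine ⟨fun m h1 h2 => ?_, fun x N m hx hc => ?_⟩
  · have h2' : ∀ i, ∃ a : ℕ, f i ^ a • m = 0 := fun i => by
      obtain ⟨⟨_, a, rfl⟩, ha⟩ := (IsLocalizedModule.eq_zero_iff (Submonoid.powers (f i)) _).1 (h2 i)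
      exact ⟨a, ha⟩
    choose a ha using h2'
    exact eq_zero_of_killed (quotIso_span_pow f hI hq a) m (killed_of_forall _ m ha) h1
  have hloc : ∀ i, ∃ a : ℕ, f i ^ a • (f i ^ N • x - (1 : S) ⊗ₜ[R] m i) = 0 := fun i => by
    have h := hx i
    rw [EtGlue.tensorOfLoc, IsLocalizedModule.map_LocalizedModules, EtGlue.locOfTensor,
      LocalizedModule.mkLinearMap_apply, LocalizedModule.mk_eq] at h
    obtain ⟨⟨_, a, rfl⟩, ha⟩ := h
    refine ⟨a, ?_⟩
    simp only [Submonoid.smul_def, OneMemClass.coe_one, one_smul, TensorProduct.mk_apply] at ha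
    rw [smul_sub, ha, sub_self]
  choose a ha using hloc
  choose e he using hc
  let E : ℕ := (∑ i, a i) + ∑ i, ∑ j, e i j
  let K : ℕ := N + E
  let g : Fin t → R := fun i => f i ^ K
  let n : Fin t → M := fun i => f i ^ E • m i
  have hgx : ∀ i, g i • x = (1 : S) ⊗ₜ[R] n i := fun i => by
    obtain ⟨d, hd⟩ := Nat.exists_eq_add_of_le (le_trans (Finset.single_le_sum (f := a) (fun _ _ => Nat.zero_le _)
      (Finset.mem_univ i)) (Nat.le_add_right _ (∑ i, ∑ j, e i j)))
    rw [← sub_eq_zero]
    show f i ^ (N + E) • x - (1 : S) ⊗ₜ[R] (f i ^ E • m i) = 0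
    rw [TensorProduct.tmul_smul, show f i ^ (N + E) • x - f i ^ E • ((1 : S) ⊗ₜ[R] m i) =
      f i ^ E • (f i ^ N • x - (1 : S) ⊗ₜ[R] m i) by rw [smul_sub, add_comm N E, pow_add, mul_smul],
      show E = a i + d from hd, show a i + d = d + a i from add_comm _ _, pow_add, mul_smul, ha, smul_zero]
  have hgn : ∀ i j, g j • n i = g i • n j := fun i j => by
    have hle : e i j ≤ E := le_trans (le_trans (Finset.single_le_sum (f := e i) (fun _ _ => Nat.zero_le _)
      (Finset.mem_univ j)) (Finset.single_le_sum (f := fun i => ∑ j, e i j) (fun _ _ => Nat.zero_le _)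
      (Finset.mem_univ i))) (Nat.le_add_left _ _)
    obtain ⟨d, hd⟩ := Nat.exists_eq_add_of_le hle
    rw [← sub_eq_zero]
    show f j ^ (N + E) • (f i ^ E • m i) - f i ^ (N + E) • (f j ^ E • m j) = 0
    rw [smul_smul, smul_smul, show f j ^ (N + E) * f i ^ E = ((f i * f j) ^ E) * f j ^ N by ring,
      show f i ^ (N + E) * f j ^ E = ((f i * f j) ^ E) * f i ^ N by ring, mul_smul, mul_smul, ← smul_sub, hd,
      show e i j + d = d + e i j from add_comm _ _, pow_add, mul_smul, he i j, smul_zero]
  have hJ : QuotIso R S (Ideal.span (Set.range g)) := quotIso_span_pow f hI hq fun _ => K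
  -- the module of pairs `(μ, r)` with `gᵢ μ = r nᵢ`
  let ψ : M × R →ₗ[R] Fin t → M := LinearMap.pi fun i =>
    g i • LinearMap.fst R M R - (LinearMap.toSpanSingleton R M (n i)).comp (LinearMap.snd R M R)
  have hψ : ∀ w i, ψ w i = g i • w.1 - w.2 • n i := fun w i => rfl
  let W := LinearMap.ker ψ
  let G : Fin t → M × R := fun j => (n j, g j)
  let u : S ⊗[R] (M × R) := (LinearMap.inl R M R).lTensor S x + (1 : S) ⊗ₜ[R] ((0, 1) : M × R)
  have hu : u ∈ LinearMap.range (W.subtype.lTensor S) := by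
    rw [← (LinearMap.exact_iff.1 (Module.Flat.lTensor_exact S (LinearMap.exact_subtype_ker_map ψ))), LinearMap.mem_ker]
    refine (TensorProduct.piRight R R S (fun _ : Fin t => M)).injective (funext fun i => ?_)
    rw [map_zero, Pi.zero_apply]
    have key : ∀ v, TensorProduct.piRight R R S (fun _ : Fin t => M) (ψ.lTensor S v) i =
        ((LinearMap.proj i).comp ψ).lTensor S v := fun v => by
      induction v with
      | zero => simp
      | tmul s w => simp
      | add v w hv hw => simp only [map_add, Pi.add_apply, hv, hw]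
    rw [key, map_add, ← LinearMap.lTensor_comp_apply, LinearMap.lTensor_tmul]
    have h1 : ((LinearMap.proj i).comp ψ).comp (LinearMap.inl R M R) = g i • LinearMap.id := by
      ext z
      simp [hψ]
    rw [h1, LinearMap.lTensor_smul, LinearMap.lTensor_id, LinearMap.smul_apply, LinearMap.id_apply, hgx]
    rw [show ((LinearMap.proj i).comp ψ) ((0, 1) : M × R) = -n i by simp [hψ], TensorProduct.tmul_neg, add_neg_cancel]
  obtain ⟨v, hv⟩ := hu
  have hdec : ∀ v : S ⊗[R] W, ∃ (w : M × R) (s : Fin t → S), w ∈ W ∧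
      W.subtype.lTensor S v = (1 : S) ⊗ₜ[R] w + ∑ j, s j ⊗ₜ[R] G j := by
    intro v
    induction v with
    | zero => exact ⟨0, 0, zero_mem _, by simp⟩
    | add v w hv hw =>
      obtain ⟨w₁, s₁, h₁, e₁⟩ := hv
      obtain ⟨w₂, s₂, h₂, e₂⟩ := hw
      refine ⟨w₁ + w₂, s₁ + s₂, add_mem h₁ h₂, ?_⟩
      simp only [map_add, e₁, e₂, Pi.add_apply, TensorProduct.tmul_add, TensorProduct.add_tmul, Finset.sum_add_distrib]
      abel
    | tmul s w =>
      obtain ⟨c, hc⟩ := hJ.1 s
      rw [Ideal.map_span, ← Set.range_comp, Submodule.mem_span_range_iff_exists_fun] at hc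
      obtain ⟨σ, hσ⟩ := hc
      refine ⟨c • (w : M × R), fun j => (w : M × R).2 • σ j, W.smul_mem c w.2, ?_⟩
      have hgw : ∀ j, g j • (w : M × R) = (w : M × R).2 • G j := fun j => Prod.ext
        (sub_eq_zero.1 ((hψ w j).symm.trans (congrFun w.2 j))) (mul_comm _ _)
      rw [LinearMap.lTensor_tmul, Submodule.subtype_apply, ← sub_add_cancel s (algebraMap R S c), ← hσ,
        TensorProduct.add_tmul, TensorProduct.sum_tmul, add_comm]
      congr 1
      · rw [Algebra.algebraMap_eq_smul_one, TensorProduct.smul_tmul]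
      · refine Finset.sum_congr rfl fun j _ => ?_
        show (σ j • algebraMap R S (g j)) ⊗ₜ[R] (w : M × R) = ((w : M × R).2 • σ j) ⊗ₜ[R] G j
        rw [smul_eq_mul, mul_comm, ← Algebra.smul_def, TensorProduct.smul_tmul, hgw j, ← TensorProduct.smul_tmul]
  obtain ⟨w, s, hw, hvw⟩ := hdec v
  rw [hv] at hvw
  have hsnd := congrArg (fun z => TensorProduct.rid R S ((LinearMap.snd R M R).lTensor S z)) hvw
  simp only [u, map_add, map_sum, ← LinearMap.lTensor_comp_apply, LinearMap.snd_comp_inl, LinearMap.lTensor_zero,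
    LinearMap.zero_apply, map_zero, zero_add, LinearMap.lTensor_tmul, LinearMap.snd_apply, TensorProduct.rid_tmul,
    one_smul, G] at hsnd
  have h1r : 1 - w.2 ∈ Ideal.span (Set.range g) := hJ.2 _ (by
    rw [map_sub, map_one]
    nth_rewrite 1 [hsnd]
    rw [Algebra.algebraMap_eq_smul_one, add_sub_cancel_left]
    refine Submodule.sum_mem _ fun j _ => ?_
    rw [Algebra.smul_def]
    exact Ideal.mul_mem_right _ _ (Ideal.mem_map_of_mem _ (Ideal.subset_span ⟨j, rfl⟩)))
  rw [Submodule.mem_span_range_iff_exists_fun] at h1r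
  obtain ⟨c, hc⟩ := h1r
  let μ₀ : M := w.1 + ∑ j, c j • n j
  have hμ₀ : ∀ i, g i • μ₀ = n i := fun i => by
    have hw' : g i • w.1 = w.2 • n i := sub_eq_zero.1 ((hψ w i).symm.trans (congrFun hw i))
    simp only [μ₀, smul_add, Finset.smul_sum]
    rw [hw', Finset.sum_congr rfl fun j (_ : j ∈ Finset.univ) => show g i • c j • n j = (c j • g j) • n i by
      rw [smul_comm, hgn j i, smul_assoc], ← Finset.sum_smul, hc, ← add_smul, add_sub_cancel, one_smul]
  let T : Submodule R M := LinearMap.ker (LinearMap.pi fun i => g i • LinearMap.id : M →ₗ[R] Fin t → M)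
  obtain ⟨y, hy⟩ : x - (1 : S) ⊗ₜ[R] μ₀ ∈ LinearMap.range (T.subtype.lTensor S) := by
    rw [← (LinearMap.exact_iff.1 (Module.Flat.lTensor_exact S (LinearMap.exact_subtype_ker_map _))), LinearMap.mem_ker]
    refine (TensorProduct.piRight R R S (fun _ : Fin t => M)).injective (funext fun i => ?_)
    rw [map_zero, Pi.zero_apply]
    have key : ∀ v, TensorProduct.piRight R R S (fun _ : Fin t => M)
        ((LinearMap.pi fun i => g i • LinearMap.id : M →ₗ[R] Fin t → M).lTensor S v) i = g i • v := fun v => by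
      induction v with
      | zero => simp
      | tmul s w => simp
      | add v w hv hw => simp only [map_add, Pi.add_apply, hv, hw, smul_add]
    rw [key, smul_sub, hgx, ← TensorProduct.tmul_smul, hμ₀, sub_self]
  obtain ⟨τ, hτ, hyτ⟩ : ∃ τ : M, τ ∈ T ∧ T.subtype.lTensor S y = (1 : S) ⊗ₜ[R] τ := by
    clear hy
    induction y with
    | zero => exact ⟨0, zero_mem _, by simp⟩
    | add v w hv hw =>
      obtain ⟨a, ha, ha'⟩ := hv
      obtain ⟨b, hb, hb'⟩ := hw
      exact ⟨a + b, add_mem ha hb, by rw [map_add, ha', hb', TensorProduct.tmul_add]⟩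
    | tmul s z =>
      obtain ⟨c, hc⟩ := tmul_eq_of_killed hJ (z : M) (killed_of_forall g (z : M) fun i => congrFun z.2 i) s
      exact ⟨c • (z : M), T.smul_mem c z.2, hc⟩
  refine ⟨μ₀ + τ, ?_, fun i => ?_⟩
  · rw [TensorProduct.tmul_add, ← hyτ, hy, add_sub_cancel]
  · rw [LocalizedModule.mkLinearMap_apply, LocalizedModule.mk_eq]
    refine ⟨⟨f i ^ E, E, rfl⟩, ?_⟩
    simp only [Submonoid.smul_def, OneMemClass.coe_one, one_smul]
    rw [smul_smul, ← pow_add, show E + N = K from add_comm _ _]
    show g i • (μ₀ + τ) = n i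
    rw [smul_add, hμ₀, show g i • τ = 0 from congrFun hτ i, add_zero]

end Groth.Agent.S7090
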