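import Groth.Statements.S7091
import Groth.Agent.DComplLib.Completion
-- import your own Groth.Agent.* helpers here

set_option autoImplicit false
universe u
attribute [local instance] HasDerivedCategory.standard
open CategoryTheory
open DRing

namespace Groth.Agent.S7091

/-- Let A be a commutative ring, I a finitely generated ideal, and assume the derived completion functor
(left adjoint to the inclusion of derived complete objects) exists. If a morphism K → L in D(A)
induces isomorphisms on cohomology in degrees ≥ 1 and a surjection in degree 0, then so does the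
induced morphism between the derived completions. -/
theorem result {A : Type u} [CommRing A] (I : Ideal A) (hI : I.FG)
    [DRing.HasDerivedCompletion I] {K L : Dual.D A} (φ : K ⟶ L)
    (hiso : ∀ i : ℤ, 1 ≤ i → IsIso ((DerivedCategory.homologyFunctor (ModuleCat.{u} A) i).map φ))
    (hepi : Epi ((DerivedCategory.homologyFunctor (ModuleCat.{u} A) 0).map φ)) :
    (∀ i : ℤ, 1 ≤ i → IsIso ((DerivedCategory.homologyFunctor (ModuleCat.{u} A) i).map
        ((DRing.derivedCompletion I).map φ).hom)) ∧
      Epi ((DerivedCategory.homologyFunctor (ModuleCat.{u} A) 0).map ((DRing.derivedCompletion I).map φ).hom) := by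
  obtain ⟨N, a, b, hT⟩ := CategoryTheory.Pretriangulated.distinguished_cocone_triangle φ
  obtain ⟨N', a', b', η, hT', hη⟩ := Groth.Agent.DComplLib.exists_cone_completion (I := I) φ a b hT
  obtain ⟨s, hl⟩ := Groth.Agent.DComplLib.exists_ofList hI
  have hN : ∀ i : ℤ, 0 ≤ i → Subsingleton (Dual.HD A N' i) := fun i hi =>
    Groth.Agent.DComplLib.IsCompl.subsingleton hl hη i fun m h1 _ => by
      refine Groth.Agent.DComplLib.subsingleton_cone_of hT m ?_ ?_
      · rcases eq_or_lt_of_le (hi.trans h1) with h | h
        · exact h ▸ hepi
        · haveI := hiso m (by omega); infer_instance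
      · haveI := hiso (m + 1) (by omega); infer_instance
  refine ⟨fun i hi => ?_, Groth.Agent.DComplLib.epi_of_cone hT' 0 (hN 0 le_rfl)⟩
  haveI := Groth.Agent.DComplLib.epi_of_cone hT' i (hN i (by omega))
  have hm := Groth.Agent.DComplLib.mono_of_cone hT' (i - 1) (hN _ (by omega))
  rw [show i - 1 + 1 = i by omega] at hm
  exact isIso_of_mono_of_epi _

end Groth.Agent.S7091
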