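import Groth.Statements.S7092
import Groth.Agent.DComplLib.Completion
-- import your own Groth.Agent.* helpers here

set_option autoImplicit false
universe u
attribute [local instance] HasDerivedCategory.standard
open CategoryTheory
open DRing

namespace Groth.Agent.S7092

/-- Let A be a commutative ring, I an ideal generated by a finite set of r elements, and assume the
derived completion functor exists. If a morphism K → L in D(A) induces isomorphisms on cohomology in
degrees ≤ -1 and an injection in degree 0, then the induced morphism of derived completions induces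
isomorphisms on cohomology in degrees ≤ -r-1 and an injection in degree -r. -/
theorem result {A : Type u} [CommRing A] (I : Ideal A) (s : Finset A)
    (hs : Ideal.span (s : Set A) = I) [DRing.HasDerivedCompletion I] {K L : Dual.D A} (φ : K ⟶ L)
    (hiso : ∀ i : ℤ, i ≤ -1 → IsIso ((DerivedCategory.homologyFunctor (ModuleCat.{u} A) i).map φ))
    (hmono : Mono ((DerivedCategory.homologyFunctor (ModuleCat.{u} A) 0).map φ)) :
    (∀ i : ℤ, i ≤ -(s.card : ℤ) - 1 → IsIso ((DerivedCategory.homologyFunctor (ModuleCat.{u} A) i).map
        ((DRing.derivedCompletion I).map φ).hom)) ∧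
      Mono ((DerivedCategory.homologyFunctor (ModuleCat.{u} A) (-(s.card : ℤ))).map
        ((DRing.derivedCompletion I).map φ).hom) := by
  obtain ⟨N, a, b, hT⟩ := CategoryTheory.Pretriangulated.distinguished_cocone_triangle φ
  obtain ⟨N', a', b', η, hT', hη⟩ := Groth.Agent.DComplLib.exists_cone_completion (I := I) φ a b hT
  have hl : Ideal.ofList s.toList = I := by
    rw [← hs]
    simp [Ideal.ofList, Finset.mem_toList]
  have hN : ∀ i : ℤ, i ≤ -(s.card : ℤ) - 1 → Subsingleton (Dual.HD A N' i) := fun i hi =>
    Groth.Agent.DComplLib.IsCompl.subsingleton hl hη i fun m h1 h2 => by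
      rw [Finset.length_toList] at h2
      refine Groth.Agent.DComplLib.subsingleton_cone_of hT m ?_ ?_
      · haveI := hiso m (by omega); infer_instance
      · rcases eq_or_lt_of_le (show m + 1 ≤ 0 by omega) with h | h
        · exact h ▸ hmono
        · haveI := hiso (m + 1) (by omega); infer_instance
  refine ⟨fun i hi => ?_, ?_⟩
  · haveI := Groth.Agent.DComplLib.epi_of_cone hT' i (hN i hi)
    have hm := Groth.Agent.DComplLib.mono_of_cone hT' (i - 1) (hN _ (by omega))
    rw [show i - 1 + 1 = i by omega] at hm
    exact isIso_of_mono_of_epi _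
  · have hm := Groth.Agent.DComplLib.mono_of_cone hT' (-(s.card : ℤ) - 1) (hN _ le_rfl)
    rw [show -(s.card : ℤ) - 1 + 1 = -(s.card : ℤ) by omega] at hm
    exact hm

end Groth.Agent.S7092
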