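import Groth.Statements.S7094
import Groth.Agent.DCohMore.FibreFinTorRel
-- import your own Groth.Agent.* helpers here

set_option autoImplicit false
universe u
attribute [local instance] HasDerivedCategory.standard
open CategoryTheory Groth.Agent
open Dual2

namespace Groth.Agent.S7094

/-- Let R → A be a flat homomorphism of finite presentation of commutative rings and K a pseudo-coherent
object of D(A). Then K is R-perfect if and only if H^i(K) = 0 for all sufficiently negative i and,
for each prime p of R, H^i(K ⊗^L_R κ(p)) = 0 for all sufficiently negative i; here K is viewed in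
D(R) by restriction of scalars and the derived tensor product with the residue field κ(p) is the
total left derived functor, assumed to exist. -/
theorem result (R A : Type u) [CommRing R] [CommRing A] [Algebra R A]
    [Module.Flat R A] [Algebra.FinitePresentation R A]
    [∀ p : PrimeSpectrum R, DRing.HasLTensor R (ModuleCat.of R p.asIdeal.ResidueField)]
    (K : Dual.D A) (hK : DRing.IsPseudoCoherent' A K) :
    Dual2.IsRelPerfect R A K ↔
      (∃ a : ℤ, ∀ i : ℤ, i < a → Subsingleton (Dual.HD A K i)) ∧
        ∀ p : PrimeSpectrum R, ∃ a : ℤ, ∀ i : ℤ, i < a →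
          Subsingleton (Dual.HD R ((DRing.LTensor R (ModuleCat.of R p.asIdeal.ResidueField)).obj
            ((DRing.restrictD (algebraMap R A)).obj K)) i) := by
  let φ := algebraMap R A
  obtain ⟨P, c, hc, hP, ⟨eP⟩⟩ := id hK
  have hPk : DRing.IsKFlat A P :=
    DRingLib.isKFlat_of_projective hc fun i => (DRingLib.fFree_imp_fProj (hP i)).2
  have hX : DRing.IsKFlat R ((DTen.resCx φ).obj P) :=
    DRingLib.isKFlat_resCx φ (DRingLib.flat_baseMod R A) hPk
  haveI := fun M : ModuleCat.{u} R => DRingLib.hasLTensor (A := R) M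
  let eR : DRing.toD ((DTen.resCx φ).obj P) ≅ (DRing.restrictD φ).obj K :=
    ((DTen.resFactors φ).app P).symm ≪≫ (DRing.restrictD φ).mapIso eP
  let eT := fun (p : PrimeSpectrum R) =>
    (DRing.LTensor R (ModuleCat.of R p.asIdeal.ResidueField)).mapIso eR.symm ≪≫
      DRingLib.ltensorIso (ModuleCat.of R p.asIdeal.ResidueField) _ hX
  constructor
  · rintro ⟨-, a, b, h⟩
    refine ⟨⟨a, fun i hi => ?_⟩, fun p =>
      ⟨a, fun i hi => (DRingLib.amp_iff_homology_LTensor _ a b).1 h _ i (Or.inl hi)⟩⟩
    obtain ⟨E, hE, -, ⟨e⟩⟩ := h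
    have h1 : ((DTen.resCx φ).obj P).ExactAt i :=
      (DRingLib.exactAt_iff_isZero_homologyFunctor _ i).2
        (((DRingLib.exactAt_iff_isZero_homologyFunctor E i).1
          (ShortComplex.exact_of_isZero_X₂ _ (hE i (Or.inl hi)))).of_iso
            ((DerivedCategory.homologyFunctor _ i).mapIso (eR ≪≫ e.symm)))
    rw [HomologicalComplex.exactAt_iff] at h1
    exact ModuleCat.subsingleton_of_isZero
      (((DRingLib.exactAt_iff_isZero_homologyFunctor P i).1 ((HomologicalComplex.exactAt_iff _ _).2
        ((ShortComplex.exact_map_iff_of_faithful (P.sc i) (ModuleCat.restrictScalars.{u} φ)).1 h1))).of_iso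
          ((DerivedCategory.homologyFunctor _ i).mapIso eP.symm))
  · rintro ⟨⟨a, ha⟩, h⟩
    refine ⟨hK, DCohMore.hasFiniteTorDimCx_of_fibres K hK P hX eP a (fun i hi => ?_) fun p => ?_⟩
    · exact (DRingLib.exactAt_iff_isZero_homologyFunctor P i).2
        ((ModuleCat.isZero_iff_subsingleton.2 (ha i hi)).of_iso
          ((DerivedCategory.homologyFunctor _ i).mapIso eP))
    · obtain ⟨a', ha'⟩ := h p
      exact ⟨a', fun i hi => (DRingLib.exactAt_iff_isZero_homologyFunctor _ i).2
        ((ModuleCat.isZero_iff_subsingleton.2 (ha' i hi)).of_iso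
          ((DerivedCategory.homologyFunctor _ i).mapIso (eT p).symm))⟩

end Groth.Agent.S7094
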