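import Groth.Statements.S7097
import Groth.Agent.RHomComplLib.Cech

set_option autoImplicit false
universe u
attribute [local instance] HasDerivedCategory.standard
open CategoryTheory
open DRing
set_option backward.isDefEq.respectTransparency false

namespace Groth.Agent.S7097

/-- Let A be a commutative ring and I the ideal generated by a finite list of elements f_1, …, f_r, and
let K be an object of D(A). Assume the derived completion functor and the derived functor RHom_A(Č,
−) of the extended alternating Cech complex Č = (A → ∏ A_{f_i} → … → A_{f_1⋯f_r}) exist. Then the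
derived completion of K is isomorphic in D(A) to RHom_A(Č, K). (Existence of an isomorphism; the
derived completion is itself only determined up to isomorphism.) -/
theorem result {A : Type u} [CommRing A] (fs : List A) (I : Ideal A)
    (hI : Ideal.span {x : A | x ∈ fs} = I) [DRing.HasDerivedCompletion I]
    [DRing.HasRHomCx (DerCA.extCech (ModuleCat.of A A) fs)] (K : Dual.D A) :
    Nonempty (((DRing.derivedCompletion I).obj K).obj ≅
      (DRing.RHomCx (DerCA.extCech (ModuleCat.of A A) fs)).obj K) := by
  obtain ⟨J, hJ, ⟨eJ⟩⟩ := Groth.Agent.DComplLib.exists_kInjective K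
  haveI := hJ
  obtain ⟨η, hη⟩ := Groth.Agent.RHomComplLib.exists_isCompl_extCech J fs
  obtain ⟨e, -⟩ := (Groth.Agent.DComplLib.isCompl_toDerivedCompletion (I := I) K).exists_iso
    ((hη.span hI).of_iso eJ.symm)
  haveI := Groth.Agent.RHomComplLib.isIso_unit (DerCA.extCech (ModuleCat.of A A) fs) J
  exact ⟨e ≪≫ asIso ((Groth.Agent.RHomComplLib.unit (DerCA.extCech (ModuleCat.of A A) fs)).app J) ≪≫
    (DRing.RHomCx (DerCA.extCech (ModuleCat.of A A) fs)).mapIso eJ⟩

end Groth.Agent.S7097
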