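import Groth.Statements.S7098
import Groth.Agent.DComplLib.Basic
-- import your own Groth.Agent.* helpers here

set_option autoImplicit false
universe u
attribute [local instance] HasDerivedCategory.standard
open DRing CategoryTheory

namespace Groth.Agent.S7098

/-- (1)⇔(2): let A be a commutative ring, f an element of A and K an object of D(A). Then every morphism
A_f[0] → K[n] vanishes for every integer n if and only if every morphism E → K vanishes for every
object E of D(A) obtained by restriction of scalars from D(A_f). -/
theorem result {A : Type u} [CommRing A] (f : A)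
    (K : Dual.D A) :
    (∀ n : ℤ, Subsingleton (Dual.inD A (Localization.Away f) ⟶ K⟦n⟧)) ↔
      ∀ E : Dual.D (Localization.Away f),
        Subsingleton ((DRing.restrictD (algebraMap A (Localization.Away f))).obj E ⟶ K) := by
  refine ⟨fun h E => Groth.Agent.DComplLib.subsingleton_hom_restrict f K ((Groth.Agent.DComplLib.subsingleton_hom_iff_dc f K).1 h) E, fun h n => ?_⟩
  let φ := algebraMap A (Localization.Away f)
  obtain ⟨e⟩ := Groth.Agent.DRingLib.nonempty_restrictD_inD φ (ModuleCat.of (Localization.Away f) (Localization.Away f))
  have key := h ((Dual.inD (Localization.Away f) (Localization.Away f))⟦-n⟧)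
  refine subsingleton_of_forall_eq 0 fun ξ => ?_
  let i : (ModuleCat.restrictScalars.{u} φ).obj (ModuleCat.of (Localization.Away f) (Localization.Away f)) ≅
      ModuleCat.of A (Localization.Away f) :=
    ({ toFun := id, invFun := id, left_inv := fun _ => rfl, right_inv := fun _ => rfl,
       map_add' := fun _ _ => rfl,
       map_smul' := fun a x => (algebra_compatible_smul (Localization.Away f) (M := Localization.Away f) a x).symm } :
      (ModuleCat.restrictScalars.{u} φ).obj (ModuleCat.of (Localization.Away f) (Localization.Away f)) ≃ₗ[A]
        ModuleCat.of A (Localization.Away f)).toModuleIso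
  let j : (DRing.restrictD φ).obj ((Dual.inD (Localization.Away f) (Localization.Away f))⟦-n⟧) ≅
      (Dual.inD A (Localization.Away f))⟦-n⟧ :=
    ((DRing.restrictD φ).commShiftIso (-n)).app _ ≪≫ (shiftFunctor (Dual.D A) (-n)).mapIso
      (e ≪≫ (DerivedCategory.singleFunctor _ 0).mapIso i)
  have h0 : ξ⟦-n⟧' ≫ (shiftShiftNeg K n).hom = 0 := by
    rw [← cancel_epi j.hom, CategoryTheory.Limits.comp_zero]
    exact @Subsingleton.elim _ key _ _
  rwa [Preadditive.IsIso.comp_right_eq_zero, Functor.map_eq_zero_iff] at h0

end Groth.Agent.S7098
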