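import Groth.Statements.S7104
import Groth.Agent.FibTorLib.Basic

set_option autoImplicit false
universe u
attribute [local instance] HasDerivedCategory.standard
open CategoryTheory
open Dual2

namespace Groth.Agent.S7104

/-- Let R be a commutative ring and A an R-algebra which is flat, of finite presentation, and a quotient
of the polynomial ring R[x_1, …, x_d]. Let q be a prime of A lying over the prime p of R, and K a
pseudo-coherent object of D(A). Write K_q for the derived base change of K to A_q (assumed to exist)
and view it in D(R_p) and in D(R) by restriction of scalars. If the cohomology of K_q ⊗^L_{R_p} κ(p)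
(derived tensor with the residue field, assumed to exist) vanishes outside the degrees in [a, b],
then K_q has tor amplitude in [a - d, b] as a complex of R-modules. -/
theorem result (R A : Type u) [CommRing R] [CommRing A] [Algebra R A]
    [Module.Flat R A] [Algebra.FinitePresentation R A] (d : ℕ)
    (ψ : MvPolynomial (Fin d) R →ₐ[R] A) (hψ : Function.Surjective ψ)
    (q : Ideal A) [q.IsPrime] (p : Ideal R) [p.IsPrime] (hpq : p = Ideal.comap (algebraMap R A) q)
    [DRing.HasLBaseChange (algebraMap A (Localization.AtPrime q))]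
    [DRing.HasLTensor (Localization.AtPrime p) (ModuleCat.of (Localization.AtPrime p) p.ResidueField)]
    (K : Dual.D A) (hK : DRing.IsPseudoCoherent' A K) (a b : ℤ)
    (hfib : ∀ i : ℤ, i < a ∨ b < i → Subsingleton (Dual.HD (Localization.AtPrime p)
      ((DRing.LTensor (Localization.AtPrime p) (ModuleCat.of (Localization.AtPrime p) p.ResidueField)).obj
        ((DRing.restrictD (Localization.localRingHom p q (algebraMap R A) hpq)).obj
          ((DRing.LBaseChange (algebraMap A (Localization.AtPrime q))).obj K))) i)) :
    DRing.HasTorAmplitudeIn R (a - d) b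
      ((DRing.restrictD (algebraMap R (Localization.AtPrime q))).obj
        ((DRing.LBaseChange (algebraMap A (Localization.AtPrime q))).obj K)) := by
  classical
  let Rp := Localization.AtPrime p
  let Aq := Localization.AtPrime q
  let θ : Rp →+* Aq := Localization.localRingHom p q (algebraMap R A) hpq
  letI : Algebra Rp Aq := θ.toAlgebra
  have hcomp : θ.comp (algebraMap R Rp) = algebraMap R Aq := by
    refine RingHom.ext fun r => ?_
    rw [RingHom.comp_apply, Localization.localRingHom_to_map, ← IsScalarTower.algebraMap_apply]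
  haveI : IsScalarTower R Rp Aq := .of_algebraMap_eq' hcomp.symm
  haveI : IsLocalHom (algebraMap Rp Aq) := Localization.isLocalHom_localRingHom p q (algebraMap R A) hpq
  haveI : Algebra.EssFiniteType A Aq := Algebra.EssFiniteType.of_isLocalization Aq q.primeCompl
  haveI : Algebra.EssFiniteType R Aq := Algebra.EssFiniteType.comp R A Aq
  haveI : Algebra.EssFiniteType Rp Aq := Algebra.EssFiniteType.of_comp R Rp Aq
  haveI : Module.Flat A Aq := IsLocalization.flat Aq q.primeCompl
  haveI : Module.Flat R Aq := Module.Flat.trans R A Aq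
  haveI : Module.Flat Rp Aq := (Module.flat_iff_of_isLocalization Rp p.primeCompl Aq).2 inferInstance
  obtain ⟨E₀, c₀, hb₀, hE₀, ⟨e₀⟩⟩ := hK
  have hp₀ : ∀ i, Module.Projective A (E₀.X i) := fun i =>
    (Groth.Agent.DRingLib.fFree_imp_fProj (hE₀ i)).2
  let E : DRing.Cx Aq := (DTen.extCx (algebraMap A Aq)).obj E₀
  let eE : (DRing.LBaseChange (algebraMap A Aq)).obj K ≅ DRing.toD E :=
    (DRing.LBaseChange (algebraMap A Aq)).mapIso e₀.symm ≪≫
      Groth.Agent.DRingLib.lbcIso (algebraMap A Aq) E₀ (Groth.Agent.DRingLib.isKFlat_of_projective hb₀ hp₀)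
  have hfree : ∀ i, Module.Finite Aq (E.X i) ∧ Module.Projective Aq (E.X i) := fun i =>
    Groth.Agent.DRingLib.fFree_imp_fProj (Groth.Agent.DRingLib.fFree_extend (algebraMap A Aq) (hE₀ i))
  let c := max c₀ a
  have hb : DRing.VanishesAbove E c := fun i hi =>
    (ModuleCat.extendScalars.{u, u, u} (algebraMap A Aq)).map_isZero (hb₀ i (by omega))
  let P := (DTen.resCx θ).obj E
  have hPflat : DRing.TermwiseFlat P := fun i => by
    letI : Module Rp (E.X i) := Module.compHom _ θ
    haveI : IsScalarTower Rp Aq (E.X i) := .of_algebraMap_smul fun _ _ => rfl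
    haveI := (hfree i).2
    exact (Module.Flat.trans Rp Aq (E.X i) :)
  have hPb : DRing.VanishesAbove P c := fun i hi =>
    (ModuleCat.restrictScalars.{u} θ).map_isZero (hb i hi)
  let κ := ModuleCat.of Rp p.ResidueField
  let eP : (DRing.restrictD θ).obj ((DRing.LBaseChange (algebraMap A Aq)).obj K) ≅ DRing.toD P :=
    (DRing.restrictD θ).mapIso eE ≪≫ (DTen.resFactors θ).app E
  have hfibre : ∀ i, (i < a ∨ b < i) → ((Groth.Agent.DRingLib.tensM κ).obj P).ExactAt i := fun i hi =>
    (Groth.Agent.DRingLib.exactAt_iff_isZero_homologyFunctor _ i).2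
      (((ModuleCat.isZero_iff_subsingleton (M := (DerivedCategory.homologyFunctor (ModuleCat.{u} Rp) i).obj
          ((DRing.LTensor Rp κ).obj ((DRing.restrictD θ).obj ((DRing.LBaseChange (algebraMap A Aq)).obj K))))).2
        (hfib i hi)).of_iso
        ((DerivedCategory.homologyFunctor (ModuleCat.{u} Rp) i).mapIso
          ((DRing.LTensor Rp κ).mapIso eP ≪≫
            Groth.Agent.DRingLib.ltensorIso κ P (Groth.Agent.DRingLib.isKFlat_of_vanishesAbove hPb hPflat))).symm)
  have hamp := Groth.Agent.FibTorLib.amp_of_fibre_interval (A := Rp) (B := Aq)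
    (RingHom.flat_algebraMap_iff.2 inferInstance) hb (fun i => (hfree i).2) (fun i => (hfree i).1)
    (a' := a - d) (by omega) (by omega) hfibre
  have h1 := Groth.Agent.DRingLib.amp_restrict_of_flat (φ := algebraMap R Rp)
    (RingHom.flat_algebraMap_iff.2 (IsLocalization.flat Rp p.primeCompl))
    (Groth.Agent.DRingLib.amp_of_iso eP.symm hamp)
  obtain ⟨i⟩ := Groth.Agent.PCHomLib.nonempty_restrictD_comp (algebraMap R Rp) θ
    ((DRing.LBaseChange (algebraMap A Aq)).obj K)
  have h2 := Groth.Agent.DRingLib.amp_of_iso i h1
  rw [hcomp] at h2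
  exact h2

end Groth.Agent.S7104
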