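import Groth.Statements.S7108

set_option autoImplicit false
universe u
open CAlg

namespace Groth.Agent.S7108

/-- Every projective module P over a ring R becomes free after adding a suitable free module: P ⊕ F is
free for some free module F (here F is the free module on some index type). -/
theorem result (R : Type u) [CommRing R] (P : Type u) [AddCommGroup P]
    [Module R P] [Module.Projective R P] : ∃ ι : Type u, Module.Free R (P × (ι →₀ R)) := by
  obtain ⟨s, hs⟩ := Module.projective_def'.mp ‹Module.Projective R P›
  let F := Finsupp.linearCombination R (id : P → P)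
  let Q := LinearMap.ker F
  have e : (P × Q) ≃ₗ[R] (P →₀ R) :=
    { toLinearMap := s.coprod Q.subtype
      invFun := fun v => (F v, ⟨v - s (F v), by
        simp [Q, F, show ∀ p, F (s p) = p from fun p => by simpa using LinearMap.congr_fun hs p]⟩)
      left_inv := fun ⟨p, q⟩ => by
        have h1 : F (s p) = p := by simpa using LinearMap.congr_fun hs p
        have h2 : F q = 0 := q.2
        ext <;> simp [h1, h2]
      right_inv := fun v => by simp }
  let a : (P × (ℕ →₀ P)) ≃ₗ[R] (ℕ →₀ P) := (({ Finsupp.optionEquiv with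
      map_add' := fun f g => by ext <;> simp [Finsupp.optionEquiv]
      map_smul' := fun c f => by ext <;> simp [Finsupp.optionEquiv] } :
      (Option ℕ →₀ P) ≃ₗ[R] P × (ℕ →₀ P))).symm.trans
    (Finsupp.domLCongr (Denumerable.eqv (Option ℕ)))
  let b : (ℕ →₀ (P × Q)) ≃ₗ[R] ((ℕ →₀ P) × (ℕ →₀ Q)) :=
    { toLinearMap := (Finsupp.mapRange.linearMap (LinearMap.fst R P Q)).prod (Finsupp.mapRange.linearMap (LinearMap.snd R P Q))
      invFun := fun v => Finsupp.zipWith Prod.mk rfl v.1 v.2
      left_inv := fun v => by ext i <;> simp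
      right_inv := fun v => by ext i <;> simp }
  let c : (ℕ →₀ (P × Q)) ≃ₗ[R] ((ℕ × P) →₀ R) :=
    (Finsupp.mapRange.linearEquiv e).trans (Finsupp.curryLinearEquiv R).symm
  exact ⟨ℕ × P, Module.Free.of_equiv (c.symm.trans (b.trans (((LinearEquiv.prodCongr a.symm (.refl R _)).trans
    (LinearEquiv.prodAssoc R _ _ _)).trans (LinearEquiv.prodCongr (.refl R P) (b.symm.trans c)))))⟩

end Groth.Agent.S7108
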