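import Groth.Statements.S7109
import Mathlib


set_option autoImplicit false
universe u
open CAlg

namespace Groth.Agent.S7109

/-- Let P be a projective module over a ring R and s an element of P. Then there are a finite free
module R^n and a direct summand K of R^n ⊕ P which is finite free and contains (0, s). -/
theorem result (R : Type u) [CommRing R] (P : Type u) [AddCommGroup P]
    [Module R P] [Module.Projective R P] (s : P) :
    ∃ (n : ℕ) (K K' : Submodule R ((Fin n → R) × P)), IsCompl K K' ∧ Module.Free R K ∧ Module.Finite R K ∧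
      ((0, s) : (Fin n → R) × P) ∈ K := by
  classical
  obtain ⟨σ, hσ⟩ := (Module.projective_def'.1 ‹Module.Projective R P›)
  set T := (σ s).support
  let e := T.equivFin
  let α : (Fin T.card → R) →ₗ[R] P := Fintype.linearCombination R (fun i ↦ ((e.symm i : P)))
  let β : P →ₗ[R] (Fin T.card → R) :=
    LinearMap.pi fun i ↦ Finsupp.lapply ((e.symm i : P)) ∘ₗ σ
  have hαβ : α (β s) = s := by
    have h0 : Finsupp.linearCombination R (id : P → P) (σ s) = s := LinearMap.congr_fun hσ s
    rw [Finsupp.linearCombination_apply, Finsupp.sum] at h0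
    conv_rhs => rw [← h0]
    rw [← Finset.sum_coe_sort]
    simp only [α, Fintype.linearCombination_apply]
    refine Fintype.sum_equiv e.symm _ _ fun i ↦ ?_
    simp [β, T]
  let Φ : ((Fin T.card → R) × P) ≃ₗ[R] ((Fin T.card → R) × P) :=
    { toFun := fun x ↦ (x.1 - β (x.2 + α x.1), x.2 + α x.1)
      invFun := fun y ↦ (y.1 + β y.2, y.2 - α (y.1 + β y.2))
      left_inv := fun x ↦ by simp
      right_inv := fun y ↦ by simp
      map_add' := fun x y ↦ by simp [Prod.ext_iff]; constructor <;> abel
      map_smul' := fun c x ↦ by simp [Prod.ext_iff, smul_sub, smul_add] }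
  refine ⟨T.card, (LinearMap.range (LinearMap.inl R (Fin T.card → R) P)).map Φ.toLinearMap,
    (LinearMap.range (LinearMap.inr R (Fin T.card → R) P)).map Φ.toLinearMap, ?_, ?_, ?_, ?_⟩
  · exact (LinearMap.isCompl_range_inl_inr).map (Submodule.orderIsoMapComap Φ)
  · exact Module.Free.of_equiv ((LinearEquiv.ofInjective _ LinearMap.inl_injective).trans
      (Φ.submoduleMap _))
  · exact Module.Finite.map _ _
  · refine ⟨(β s, 0), ⟨β s, rfl⟩, ?_⟩
    simp [Φ, hαβ]

end Groth.Agent.S7109
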