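import Groth.Statements.S7111
import Groth.Agent.BassLib.Basic

set_option autoImplicit false
universe u
open CAlg

namespace Groth.Agent.S7111

/-- Let R be a ring whose quotient by its Jacobson radical is Noetherian and P a projective R-module
such that for every maximal ideal m the localization P_m is not finitely generated over R_m (P has
infinite rank everywhere). Then every element s of P lies in a direct summand of P which is a finite
stably free module. -/
theorem result (R : Type u) [CommRing R]
    [IsNoetherianRing (R ⧸ (⊥ : Ideal R).jacobson)]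
    (P : Type u) [AddCommGroup P] [Module R P] [Module.Projective R P]
    (hP : ∀ (m : Ideal R) [m.IsMaximal],
      ¬ Module.Finite (Localization.AtPrime m) (LocalizedModule m.primeCompl P))
    (s : P) :
    ∃ (K K' : Submodule R P), IsCompl K K' ∧ Module.Finite R K ∧ Module.IsStablyFree R K ∧ s ∈ K := by
  obtain ⟨k, f, θ, hfθ, hs⟩ := Groth.Agent.BassLib.exists_split (Groth.Agent.BassLib.big_of_localization hP) s
  have hfθ' : ∀ c, f (θ c) = c := fun c => LinearMap.congr_fun hfθ c
  have hinj : Function.Injective θ := Function.LeftInverse.injective hfθ'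
  haveI : Module.Free R (LinearMap.range θ) := Module.Free.of_equiv (LinearEquiv.ofInjective θ hinj)
  refine ⟨LinearMap.range θ, LinearMap.ker f, ⟨disjoint_iff.2 (eq_bot_iff.2 ?_), codisjoint_iff.2 (eq_top_iff.2 ?_)⟩,
    inferInstance, inferInstance, hs⟩
  · rintro _ ⟨⟨c, rfl⟩, hc⟩
    have : c = 0 := by rw [← hfθ' c]; exact hc
    rw [this, map_zero]
    exact zero_mem _
  · intro y _
    exact Submodule.mem_sup.2 ⟨θ (f y), ⟨_, rfl⟩, y - θ (f y), by rw [LinearMap.mem_ker, map_sub, hfθ', sub_self],
      add_sub_cancel _ _⟩

end Groth.Agent.S7111
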