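import Groth.Statements.S7112
import Groth.Agent.BassLib.Basic

set_option autoImplicit false
universe u
open CAlg

namespace Groth.Agent.S7112

/-- Commutative case of a result of Bass: let R be a ring whose quotient by its Jacobson radical is
Noetherian and P a countably generated projective R-module such that for every maximal ideal m the
localization P_m is not finitely generated over R_m (P has infinite rank everywhere). Then P is
free. -/
theorem result (R : Type u) [CommRing R]
    [IsNoetherianRing (R ⧸ (⊥ : Ideal R).jacobson)]
    (P : Type u) [AddCommGroup P] [Module R P] [Module.Projective R P]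
    (hP : ∀ (m : Ideal R) [m.IsMaximal],
      ¬ Module.Finite (Localization.AtPrime m) (LocalizedModule m.primeCompl P))
    (hc : CAlg.IsCountablyGenerated R P) : Module.Free R P := by
  obtain ⟨S, hS, hSspan⟩ := hc
  obtain ⟨x, hx⟩ := (hS.insert (0 : P)).exists_eq_range (Set.insert_nonempty _ _)
  refine Groth.Agent.BassLib.free_of_countable (Groth.Agent.BassLib.big_of_localization hP) x ?_
  rw [← hx, Submodule.span_insert_zero, hSspan]

end Groth.Agent.S7112
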