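import Groth.Statements.S7114
import Mathlib

set_option autoImplicit false
universe u
open CAlg

namespace Groth.Agent.S7114

/-- Let R be a Noetherian local ring of Krull dimension one and x an element of the maximal ideal lying
in no minimal prime of R. Then for every n the length of R/xⁿR is at most n times the length of
R/xR, and equality holds when x is a nonzerodivisor. -/
theorem result (R : Type u) [CommRing R] [IsNoetherianRing R] [IsLocalRing R]
    (hdim : ringKrullDim R = 1) (x : R) (hx : x ∈ IsLocalRing.maximalIdeal R)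
    (hmin : ∀ p ∈ minimalPrimes R, x ∉ p) (n : ℕ) :
    Module.length R (R ⧸ Ideal.span {x ^ n}) ≤ (n : ℕ∞) * Module.length R (R ⧸ Ideal.span {x}) ∧
      (x ∈ nonZeroDivisors R →
        Module.length R (R ⧸ Ideal.span {x ^ n}) = (n : ℕ∞) * Module.length R (R ⧸ Ideal.span {x})) := by
  clear hdim hmin hx
  let Q : ℕ → Type u := fun k => R ⧸ Ideal.span ({x ^ k} : Set R)
  let f : ∀ k, (R ⧸ Ideal.span ({x ^ k} : Set R)) →ₗ[R] R ⧸ Ideal.span ({x ^ (k + 1)} : Set R) := fun k =>
    Submodule.mapQ _ _ (LinearMap.mulLeft R x) (fun y hy => by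
      obtain ⟨z, rfl⟩ := Ideal.mem_span_singleton'.mp hy
      exact Ideal.mem_span_singleton'.mpr ⟨z, by simp [pow_succ]; ring⟩)
  let g : ∀ k, (R ⧸ Ideal.span ({x ^ (k + 1)} : Set R)) →ₗ[R] R ⧸ Ideal.span ({x} : Set R) := fun k =>
    Submodule.mapQ _ _ LinearMap.id (fun y hy => by
      obtain ⟨z, rfl⟩ := Ideal.mem_span_singleton'.mp hy
      exact Ideal.mem_span_singleton'.mpr ⟨z * x ^ k, by simp [pow_succ]; ring⟩)
  have hg : ∀ k, Function.Surjective (g k) := fun k y => by
    obtain ⟨y, rfl⟩ := Submodule.Quotient.mk_surjective _ y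
    exact ⟨Submodule.Quotient.mk y, rfl⟩
  have hfg : ∀ k, Function.Exact (f k) (g k) := fun k y => by
    obtain ⟨y, rfl⟩ := Submodule.Quotient.mk_surjective _ y
    constructor
    · intro hy
      rw [Submodule.mapQ_apply, Submodule.Quotient.mk_eq_zero] at hy
      obtain ⟨z, hz⟩ := Ideal.mem_span_singleton'.mp hy
      exact ⟨Submodule.Quotient.mk z, by rw [Submodule.mapQ_apply]; exact congrArg _ (by simpa [mul_comm] using hz)⟩
    · rintro ⟨z, hz⟩
      obtain ⟨z, rfl⟩ := Submodule.Quotient.mk_surjective _ z
      rw [← hz, Submodule.mapQ_apply, Submodule.mapQ_apply, Submodule.Quotient.mk_eq_zero]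
      exact Ideal.mem_span_singleton'.mpr ⟨z, by simp [mul_comm]⟩
  have hle : ∀ k, Module.length R (R ⧸ Ideal.span ({x ^ (k + 1)} : Set R)) ≤
      Module.length R (R ⧸ Ideal.span ({x ^ k} : Set R)) + Module.length R (R ⧸ Ideal.span ({x} : Set R)) := fun k => by
    rw [Module.length_eq_add_of_exact (LinearMap.range (f k)).subtype (g k) Subtype.val_injective (hg k)
      (fun y => (hfg k y).trans (by simp))]
    exact add_le_add_left (Module.length_le_of_surjective (f k).rangeRestrict (f k).surjective_rangeRestrict) _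
  have h0 : Module.length R (R ⧸ Ideal.span ({x ^ 0} : Set R)) = 0 := by
    haveI : Subsingleton (R ⧸ Ideal.span ({x ^ 0} : Set R)) := Ideal.Quotient.subsingleton_iff.mpr (by simp)
    exact Module.length_eq_zero
  refine ⟨?_, fun hreg => ?_⟩
  · induction n with
    | zero => rw [h0]; exact bot_le
    | succ n ih =>
      refine (hle n).trans ?_
      rw [Nat.cast_succ, add_mul, one_mul]
      exact add_le_add ih le_rfl
  · induction n with
    | zero => rw [h0]; simp
    | succ n ih =>
      have hf : Function.Injective (f n) := by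
        rw [injective_iff_map_eq_zero]
        intro y hy
        obtain ⟨y, rfl⟩ := Submodule.Quotient.mk_surjective _ y
        rw [Submodule.mapQ_apply, Submodule.Quotient.mk_eq_zero] at hy
        obtain ⟨z, hz⟩ := Ideal.mem_span_singleton'.mp hy
        rw [Submodule.Quotient.mk_eq_zero]
        refine Ideal.mem_span_singleton'.mpr ⟨z, ?_⟩
        have h1 : x * (z * x ^ n) = x * y := by
          simp only [LinearMap.mulLeft_apply] at hz
          rw [← hz]; ring
        exact (isRegular_iff_mem_nonZeroDivisors.mpr hreg).left h1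
      rw [Module.length_eq_add_of_exact (f n) (g n) hf (hg n) (hfg n), ih, Nat.cast_succ, add_mul, one_mul]
end Groth.Agent.S7114
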