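import Groth.Statements.S7117
import Groth.Agent.SopLenLib.Main

set_option autoImplicit false
universe u
open CAlg

namespace Groth.Agent.S7117

/-- Let R be a Noetherian local ring of Krull dimension d with maximal ideal m, and suppose g_1, ...,
g_d in m form a system of parameters (they generate an ideal with radical m). Then the number of
minimal prime ideals p of R with R/p of Krull dimension d is at most the length of R/(g_1, ...,
g_d). -/
theorem result (R : Type u) [CommRing R] [IsNoetherianRing R] [IsLocalRing R]
    (d : ℕ) (hd : ringKrullDim R = d) (g : Fin d → R) (hg : ∀ i, g i ∈ IsLocalRing.maximalIdeal R)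
    (hsop : IsLocalRing.maximalIdeal R ≤ (Ideal.span (Set.range g)).radical) :
    (Set.ncard {p : Ideal R | p ∈ minimalPrimes R ∧ ringKrullDim (R ⧸ p) = d} : ℕ∞) ≤
      Module.length R (R ⧸ Ideal.span (Set.range g)) := by
  classical
  have hfin : {p : Ideal R | p ∈ minimalPrimes R ∧ ringKrullDim (R ⧸ p) = d}.Finite :=
    (minimalPrimes.finite_of_isNoetherianRing R).subset fun p hp => hp.1
  haveI : Fintype {p : Ideal R | p ∈ minimalPrimes R ∧ ringKrullDim (R ⧸ p) = d} := hfin.fintype
  let f : {p : Ideal R | p ∈ minimalPrimes R ∧ ringKrullDim (R ⧸ p) = d} → PrimeSpectrum R := fun p =>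
    ⟨p.1, Ideal.IsMinimalPrime.isPrime p.2.1⟩
  have hf : Function.Injective f := fun a b h => Subtype.ext (congrArg PrimeSpectrum.asIdeal h)
  have := SopLenLib.card_le_length d R g hg hsop (Finset.univ.image f) (fun P hP => by
    obtain ⟨p, -, rfl⟩ := Finset.mem_image.1 hP
    exact p.2.2.ge)
  rw [Finset.card_image_of_injective _ hf, Finset.card_univ, ← Set.toFinset_card,
    ← Set.ncard_eq_toFinset_card'] at this
  exact this

end Groth.Agent.S7117
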