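import Groth.Statements.S7121
import Mathlib
import Groth.Agent.PureProjLib.Basic
import Groth.Agent.CAlgBasics.TorsionFree

set_option autoImplicit false
universe u
open CAlg

namespace Groth.Agent.S7121

/-- Over a Bézout domain R, a finitely presented module M splits as R^r ⊕ M_tors for some r, and its
torsion part M_tors is a retract (direct summand) of R/f_1R ⊕ … ⊕ R/f_nR for some nonzero f_1, …,
f_n. -/
theorem result (R : Type u) [CommRing R] [IsDomain R] [IsBezout R]
    (M : Type u) [AddCommGroup M] [Module R M] [Module.FinitePresentation R M] :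
    (∃ r : ℕ, Nonempty (M ≃ₗ[R] ((Fin r → R) × Submodule.torsion R M))) ∧
      ∃ (n : ℕ) (f : Fin n → R), (∀ j, f j ≠ 0) ∧
        ∃ (i : Submodule.torsion R M →ₗ[R] ((j : Fin n) → R ⧸ Ideal.span {f j}))
          (p : ((j : Fin n) → R ⧸ Ideal.span {f j}) →ₗ[R] Submodule.torsion R M),
          p ∘ₗ i = LinearMap.id := by
  classical
  set T := Submodule.torsion R M with hT
  haveI : Module.Free R (M ⧸ T) :=
    Groth.Agent.CAlgBasics.free_of_isTorsionFree_of_isBezout R (M ⧸ T)
  let bQ := Module.Free.chooseBasis R (M ⧸ T)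
  haveI : Fintype (Module.Free.ChooseBasisIndex R (M ⧸ T)) := inferInstance
  obtain ⟨s, hs⟩ := Module.projective_lifting_property T.mkQ
    (LinearMap.id : (M ⧸ T) →ₗ[R] M ⧸ T) T.mkQ_surjective
  have hs' : ∀ y, T.mkQ (s y) = y := LinearMap.congr_fun hs
  let p₀ : M →ₗ[R] T := LinearMap.codRestrict T (LinearMap.id - s ∘ₗ T.mkQ) (fun x => by
    rw [← Submodule.Quotient.mk_eq_zero, ← Submodule.mkQ_apply, LinearMap.sub_apply, map_sub,
      LinearMap.comp_apply, hs', LinearMap.id_apply, sub_self])
  have hp₀ : p₀ ∘ₗ T.subtype = LinearMap.id := by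
    refine LinearMap.ext fun x => Subtype.ext ?_
    simp [p₀, (Submodule.Quotient.mk_eq_zero T).2 x.2]
  refine ⟨⟨Module.finrank R (M ⧸ T), ⟨?_⟩⟩, ?_⟩
  · let e0 : M ≃ₗ[R] (M ⧸ T) × T := LinearEquiv.ofLinearMap (T.mkQ.prod p₀)
      (s.coprod T.subtype) (by
        apply LinearMap.ext
        rintro ⟨y, x⟩
        have hx : T.mkQ (x : M) = 0 := (Submodule.Quotient.mk_eq_zero T).2 x.2
        refine Prod.ext ?_ (Subtype.ext ?_)
        · simp only [LinearMap.comp_apply, LinearMap.coprod_apply, LinearMap.prod_apply,
            Function.prod_apply, Prod.fst_add, Prod.mk_add_mk, map_add, hs', Submodule.subtype_apply, hx, add_zero, LinearMap.id_apply]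
        · simp only [LinearMap.comp_apply, LinearMap.coprod_apply, LinearMap.prod_apply, Function.prod_apply, Prod.snd_add, Submodule.coe_add,
            p₀, LinearMap.codRestrict_apply, LinearMap.sub_apply, LinearMap.id_apply, map_add,
            hs', Submodule.subtype_apply, hx, sub_self, map_zero, sub_zero, zero_add, add_zero, add_sub_cancel_left])
      (by
        refine LinearMap.ext fun x => ?_
        simp [p₀])
    exact e0.trans (LinearEquiv.prodCongr ((Module.finBasis R (M ⧸ T)).equivFun)
      (LinearEquiv.refl R T))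
  · obtain ⟨i, hi⟩ := PureProjLib.fp_lift (P := M) (PureProjLib.cycMap R T)
      PureProjLib.cycMap_surjective PureProjLib.cycMap_pure p₀
    let i' := i ∘ₗ T.subtype
    have hi' : PureProjLib.cycMap R T ∘ₗ i' = LinearMap.id := by
      rw [← LinearMap.comp_assoc, hi, hp₀]
    haveI : Module.Finite R T := Module.Finite.of_surjective p₀ (fun y => ⟨y, LinearMap.congr_fun hp₀ y⟩)
    obtain ⟨n, g, hg⟩ := Module.Finite.exists_fin (R := R) (M := T)
    let S : Finset (PureProjLib.CycIdx R T) :=
      (Finset.univ.biUnion fun k => DFinsupp.support (i' (g k))).filter (fun j => j.1.1 ≠ 0)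
    let N := S.card
    let ε : Fin N → PureProjLib.CycIdx R T := fun k => (S.equivFin.symm k).1
    refine ⟨N, fun k => (ε k).1.1, fun k => (Finset.mem_filter.1 (S.equivFin.symm k).2).2,
      LinearMap.pi (fun k => DirectSum.component R _ _ (ε k) ∘ₗ i'),
      ∑ k, (PureProjLib.cycMap R T ∘ₗ DirectSum.lof R _
        (fun j : PureProjLib.CycIdx R T => R ⧸ Ideal.span {j.1.1}) (ε k)) ∘ₗ LinearMap.proj k, ?_⟩
    refine LinearMap.ext_on_range hg fun k => ?_
    simp only [LinearMap.comp_apply, LinearMap.coe_sum, Finset.sum_apply, LinearMap.pi_apply,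
      LinearMap.proj_apply]
    refine Eq.trans ?_ (LinearMap.congr_fun hi' (g k))
    rw [LinearMap.comp_apply, ← map_sum]
    refine congrArg (PureProjLib.cycMap R T) ?_
    have e1 : ∑ j : S, DirectSum.lof R _ (fun j : PureProjLib.CycIdx R T => R ⧸ Ideal.span {j.1.1})
        j.1 (i' (g k) j.1) = i' (g k) := by
      refine DFinsupp.ext fun j => ?_
      rw [DFinsupp.finsetSum_apply]
      by_cases hj : j ∈ S
      · rw [Finset.sum_eq_single (⟨j, hj⟩ : S)]
        · exact DirectSum.lof_apply R j _
        · intro b _ hb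
          exact DFinsupp.single_eq_of_ne (fun e => hb (Subtype.ext e.symm))
        · simp
      · have h0 : i' (g k) j = 0 := by
          by_cases hf : j.1.1 = 0
          · -- a torsion module has no maps to `R`
            obtain ⟨a, ha⟩ := (g k).2
            obtain ⟨r, hr⟩ := Ideal.Quotient.mk_surjective (i' (g k) j)
            have h1 : (a : R) • i' (g k) j = 0 := by
              have : (a : R) • g k = 0 := Subtype.ext ha
              rw [← DirectSum.smul_apply, ← map_smul, this, map_zero]
              rfl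
            rw [← hr, ← Ideal.Quotient.mk_eq_mk, ← Submodule.Quotient.mk_smul,
              Submodule.Quotient.mk_eq_zero, hf, Ideal.span_singleton_eq_bot.2 rfl,
              Submodule.mem_bot, smul_eq_mul] at h1
            rw [← hr, (mul_eq_zero.1 h1).resolve_left (nonZeroDivisors.coe_ne_zero a), map_zero]
          · by_contra h0
            exact hj (Finset.mem_filter.2 ⟨Finset.mem_biUnion.2
              ⟨k, Finset.mem_univ _, DFinsupp.mem_support_iff.2 h0⟩, hf⟩)
        rw [h0]
        refine Finset.sum_eq_zero fun b _ => ?_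
        exact DFinsupp.single_eq_of_ne (fun e => hj (by rw [e]; exact b.2))
    refine Eq.trans ?_ e1
    exact Fintype.sum_equiv S.equivFin.symm _ _ fun j => rfl

end Groth.Agent.S7121
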