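import Groth.Statements.S7122
import Mathlib
import Groth.Agent.CAlgBasics.TorsionFree

set_option autoImplicit false
universe u
open CAlg

namespace Groth.Agent.S7122

/-- Let R be a Bézout domain, n ≥ 1, and f_1, ..., f_n elements generating the unit ideal. Then some
invertible n × n matrix over R has (f_1, ..., f_n) as its first row. -/
theorem result (R : Type u) [CommRing R] [IsDomain R] [IsBezout R]
    (n : ℕ) (f : Fin (n + 1) → R) (hf : Ideal.span (Set.range f) = ⊤) :
    ∃ A : Matrix (Fin (n + 1)) (Fin (n + 1)) R, IsUnit A.det ∧ A 0 = f := by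
  classical
  let φ : (Fin (n + 1) → R) →ₗ[R] R := Fintype.linearCombination R f
  have hφ : Function.Surjective φ := by
    rw [← LinearMap.range_eq_top, Fintype.range_linearCombination]
    exact hf
  let K := LinearMap.ker φ
  obtain ⟨s, hs⟩ := Module.projective_lifting_property φ LinearMap.id hφ
  have hs' : ∀ r, φ (s r) = r := fun r => LinearMap.congr_fun hs r
  haveI : Module.Finite R K := Module.Finite.of_surjective
    ((LinearMap.id - s ∘ₗ φ).codRestrict K fun x => by simp [K, hs']) fun k => ⟨k.1, Subtype.ext (by simp [show φ k.1 = 0 from k.2])⟩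
  haveI : Module.Free R K := Groth.Agent.CAlgBasics.free_of_isTorsionFree_of_isBezout R K
  let e : (Fin (n + 1) → R) ≃ₗ[R] R × K := LinearEquiv.ofLinearMap
    (φ.prod ((LinearMap.id - s ∘ₗ φ).codRestrict K fun x => by simp [K, hs']))
    (s.coprod K.subtype)
    (LinearMap.ext fun x => by
      obtain ⟨r, k⟩ := x
      have hk : φ k.1 = 0 := k.2
      refine Prod.ext (by simp [hs', hk]) (Subtype.ext (by simp [hs', hk])))
    (LinearMap.ext fun x => by simp)
  have hrank : Module.finrank R K = n := by
    have h := e.finrank_eq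
    rw [Module.finrank_prod, Module.finrank_self, Module.finrank_fin_fun] at h
    omega
  let b := (Module.finBasisOfFinrankEq R K hrank).equivFun
  let F : (Fin (n + 1) → R) ≃ₗ[R] (Fin (n + 1) → R) :=
    e ≪≫ₗ ((LinearEquiv.refl R R).prodCongr b) ≪≫ₗ (Fin.consLinearEquiv R fun _ => R)
  refine ⟨LinearMap.toMatrix' F.toLinearMap, ?_, ?_⟩
  · rw [LinearMap.det_toMatrix']
    exact LinearEquiv.isUnit_det' F
  · funext j
    rw [LinearMap.toMatrix'_apply]
    show (Fin.cons (φ (Pi.single j 1)) (b (e (Pi.single j 1)).2) : Fin (n + 1) → R) 0 = f j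
    simp [φ, Fintype.linearCombination_apply, Pi.single_apply, Finset.sum_ite_eq']
end Groth.Agent.S7122
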