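import Groth.Statements.S7124
import Mathlib

set_option autoImplicit false
universe u
open CAlg

namespace Groth.Agent.S7124

theorem exists_dividing {ι : Type*} (C M : Type u) [CommRing C] [IsDomain C] [ValuationRing C] [Field M]
    [Algebra C M] [IsFractionRing C M] (s : Finset ι) (hs : s.Nonempty) (x : ι → M) (hx : ∀ i ∈ s, x i ≠ 0) :
    ∃ i₀ ∈ s, ∀ i ∈ s, ∃ b : C, x i = algebraMap C M b * x i₀ := by
  induction hs using Finset.Nonempty.cons_induction with
  | singleton a => exact ⟨a, Finset.mem_singleton_self a, fun i hi => ⟨1, by rw [Finset.mem_singleton.1 hi, map_one, one_mul]⟩⟩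
  | cons a s has hs ih =>
    obtain ⟨i₀, hi₀, h⟩ := ih fun i hi => hx i (Finset.mem_cons_of_mem hi)
    rcases ValuationRing.isInteger_or_isInteger C (x a / x i₀) with ⟨b, hb⟩ | ⟨b, hb⟩
    · refine ⟨i₀, Finset.mem_cons_of_mem hi₀, fun i hi => ?_⟩
      rcases Finset.mem_cons.1 hi with rfl | hi
      · exact ⟨b, by rw [hb, div_mul_cancel₀ _ (hx i₀ (Finset.mem_cons_of_mem hi₀))]⟩
      · exact h i hi
    · refine ⟨a, Finset.mem_cons_self a s, fun i hi => ?_⟩
      rw [inv_div] at hb
      have ha : x i₀ = algebraMap C M b * x a := by rw [hb, div_mul_cancel₀ _ (hx a (Finset.mem_cons_self a s))]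
      rcases Finset.mem_cons.1 hi with rfl | hi
      · exact ⟨1, by rw [map_one, one_mul]⟩
      · obtain ⟨c, hc⟩ := h i hi
        exact ⟨c * b, by rw [hc, ha, map_mul, mul_assoc]⟩

theorem indep {A B K L : Type u} [CommRing A] [IsDomain A] [ValuationRing A] [CommRing B] [IsDomain B]
    [ValuationRing B] [Field K] [Field L] [Algebra A K] [IsFractionRing A K] [Algebra B L] [IsFractionRing B L]
    [Algebra A B] [Algebra K L] [Algebra A L] [IsScalarTower A K L] [IsScalarTower A B L]
    [IsLocalHom (algebraMap A B)] (UB : Subgroup Lˣ) (hUB : UB = (Units.map (algebraMap B L).toMonoidHom).range)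
    (ΓA : Subgroup (Lˣ ⧸ UB)) (hΓ : ΓA = ((QuotientGroup.mk' UB).comp (Units.map (algebraMap K L).toMonoidHom)).range)
    {ι κ : Type*} [Fintype ι] [Fintype κ] (p : ι → Lˣ)
    (hp : Function.Injective fun i => ((p i : Lˣ ⧸ UB) : (Lˣ ⧸ UB) ⧸ ΓA))
    (b : κ → B) (hb : LinearIndependent (IsLocalRing.ResidueField A) fun j => IsLocalRing.residue B (b j)) :
    LinearIndependent K fun q : ι × κ => (p q.1 : L) * algebraMap B L (b q.2) := by
  classical
  haveI hN : ΓA.Normal := ⟨fun n hn g => by
    induction g using QuotientGroup.induction_on with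
    | _ g =>
      induction n using QuotientGroup.induction_on with
      | _ n => rwa [← QuotientGroup.mk_mul, ← QuotientGroup.mk_inv, ← QuotientGroup.mk_mul, mul_comm g n, mul_inv_cancel_right]⟩
  rw [Fintype.linearIndependent_iff]
  intro g hg
  have row : ∀ i : ι, (∀ j, g (i, j) = 0) ∨ ∃ (c : Kˣ) (u : Bˣ),
      ∑ j, g (i, j) • algebraMap B L (b j) = algebraMap K L c * algebraMap B L u := by
    intro i
    let S := Finset.univ.filter fun j => g (i, j) ≠ 0
    rcases S.eq_empty_or_nonempty with hS | hS
    · exact Or.inl fun j => by_contra fun h => by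
        have : j ∈ S := Finset.mem_filter.2 ⟨Finset.mem_univ j, h⟩
        rw [hS] at this
        exact Finset.notMem_empty j this
    obtain ⟨j₀, hj₀, hdiv⟩ := exists_dividing A K S hS (fun j => g (i, j)) fun j hj => (Finset.mem_filter.1 hj).2
    have hc : g (i, j₀) ≠ 0 := (Finset.mem_filter.1 hj₀).2
    have hall : ∀ j, ∃ a : A, g (i, j) = algebraMap A K a * g (i, j₀) := fun j => by
      by_cases hj : j ∈ S
      · exact hdiv j hj
      · exact ⟨0, by rw [map_zero, zero_mul]; simpa [S] using hj⟩
    choose a ha using hall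
    let u : B := ∑ j, algebraMap A B (a j) * b j
    have hu : IsUnit u := by
      by_contra hnu
      have h0 : ∑ j, (IsLocalRing.residue A (a j)) • IsLocalRing.residue B (b j) = 0 := by
        rw [← (IsLocalRing.residue_eq_zero_iff u).2 hnu, map_sum]
        exact Finset.sum_congr rfl fun j _ => by rw [Algebra.smul_def, map_mul]; rfl
      have := Fintype.linearIndependent_iff.1 hb _ h0 j₀
      have h1 : a j₀ = 1 := by
        refine IsFractionRing.injective A K (mul_right_cancel₀ hc ?_)
        rw [← ha j₀, map_one, one_mul]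
      rw [h1, map_one] at this
      exact one_ne_zero this
    refine Or.inr ⟨Units.mk0 _ hc, hu.unit, ?_⟩
    rw [IsUnit.unit_spec, Units.val_mk0, map_sum, Finset.mul_sum]
    refine Finset.sum_congr rfl fun j _ => ?_
    rw [Algebra.smul_def, map_mul, ← IsScalarTower.algebraMap_apply A B L, IsScalarTower.algebraMap_apply A K L, ha j, map_mul]
    ring
  let t : ι → L := fun i => (p i : L) * ∑ j, g (i, j) • algebraMap B L (b j)
  have ht : ∑ i, t i = 0 := by
    rw [← hg, Fintype.sum_prod_type]
    exact Finset.sum_congr rfl fun i _ => by simp only [t, Finset.mul_sum, mul_smul_comm]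
  let T := Finset.univ.filter fun i => ¬ ∀ j, g (i, j) = 0
  rcases T.eq_empty_or_nonempty with hT | hT
  · rintro ⟨i, j⟩
    by_contra h
    have : i ∈ T := Finset.mem_filter.2 ⟨Finset.mem_univ i, fun h' => h (h' j)⟩
    rw [hT] at this
    exact absurd this (Finset.notMem_empty i)
  have hz : ∀ i ∈ T, ∃ (c : Kˣ) (u : Bˣ), t i = ((p i * Units.map (algebraMap K L).toMonoidHom c * Units.map (algebraMap B L).toMonoidHom u : Lˣ) : L) := by
    intro i hi
    rcases row i with h | ⟨c, u, h⟩
    · exact absurd h (Finset.mem_filter.1 hi).2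
    · exact ⟨c, u, by simp only [t, h, Units.val_mul, Units.coe_map]; rw [mul_assoc]; rfl⟩
  have hne : ∀ i ∈ T, t i ≠ 0 := fun i hi => by
    obtain ⟨c, u, h⟩ := hz i hi
    rw [h]; exact Units.ne_zero _
  obtain ⟨i₀, hi₀, hdiv⟩ := exists_dividing B L T hT t hne
  choose! w hw using hdiv
  have hw0 : w i₀ = 1 := by
    refine IsFractionRing.injective B L (mul_right_cancel₀ (hne i₀ hi₀) ?_)
    rw [map_one, one_mul, ← hw i₀ hi₀]
  have hsum : ∑ i ∈ T, w i = 0 := by
    refine IsFractionRing.injective B L (mul_right_cancel₀ (hne i₀ hi₀) ?_)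
    rw [map_zero, zero_mul, map_sum, Finset.sum_mul, ← ht]
    calc _ = ∑ i ∈ T, t i := Finset.sum_congr rfl fun i hi => (hw i hi).symm
      _ = ∑ i, t i := by
        refine Finset.sum_subset (Finset.subset_univ _) fun i _ hi => ?_
        have : ∀ j, g (i, j) = 0 := by simpa [T] using hi
        simp [t, this]
  rw [← Finset.add_sum_erase _ _ hi₀, hw0] at hsum
  have hm : ∑ i ∈ T.erase i₀, w i ∈ IsLocalRing.maximalIdeal B := by
    refine sum_mem fun i hi => ?_
    obtain ⟨hii, hiT⟩ := Finset.mem_erase.1 hi
    by_contra hu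
    rw [IsLocalRing.mem_maximalIdeal, mem_nonunits_iff, not_not] at hu
    obtain ⟨c, u, h⟩ := hz i hiT
    obtain ⟨c₀, u₀, h₀⟩ := hz i₀ hi₀
    have e : p i * Units.map (algebraMap K L).toMonoidHom c * Units.map (algebraMap B L).toMonoidHom u =
        Units.map (algebraMap B L).toMonoidHom hu.unit * (p i₀ * Units.map (algebraMap K L).toMonoidHom c₀ * Units.map (algebraMap B L).toMonoidHom u₀) := by
      refine Units.ext ?_
      rw [← h, Units.val_mul (Units.map _ hu.unit), ← h₀]
      exact hw i hiT
    have hmem : ∀ v : Bˣ, ((Units.map (algebraMap B L).toMonoidHom v : Lˣ) : Lˣ ⧸ UB) = 1 := fun v =>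
      (QuotientGroup.eq_one_iff _).2 (hUB ▸ ⟨v, rfl⟩)
    have hmemK : ∀ v : Kˣ, (((Units.map (algebraMap K L).toMonoidHom v : Lˣ) : Lˣ ⧸ UB) : (Lˣ ⧸ UB) ⧸ ΓA) = 1 := fun v =>
      (QuotientGroup.eq_one_iff _).2 (hΓ ▸ ⟨v, rfl⟩)
    have e' := congrArg (fun z : Lˣ => ((z : Lˣ ⧸ UB) : (Lˣ ⧸ UB) ⧸ ΓA)) e
    simp only [QuotientGroup.mk_mul, hmem, QuotientGroup.mk_one, one_mul, mul_one, hmemK] at e'

    exact hii (hp e')
  exfalso
  refine (IsLocalRing.maximalIdeal.isMaximal B).ne_top ((Ideal.eq_top_iff_one _).2 ?_)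
  rw [add_eq_zero_iff_eq_neg.1 hsum]
  exact (Ideal.neg_mem_iff _).2 hm


/-- Let A ⊆ B be an extension of valuation rings (both valuation domains, the inclusion injective and
local) with fraction fields K ⊆ L such that L/K is finite. Then the residue field of B is finite
over that of A, the value group of A has finite index in the value group of B, and (index of value
groups) · (residue degree) ≤ [L : K]. Here the value group of B is written as Lˣ modulo the units of
B, and that of A as the image of Kˣ in it. -/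
theorem result (A B K L : Type u) [CommRing A] [IsDomain A]
    [ValuationRing A] [CommRing B] [IsDomain B] [ValuationRing B] [Field K] [Field L]
    [Algebra A K] [IsFractionRing A K] [Algebra B L] [IsFractionRing B L] [Algebra A B] [Algebra K L]
    [Algebra A L] [IsScalarTower A K L] [IsScalarTower A B L] (hinj : Function.Injective (algebraMap A B))
    [IsLocalHom (algebraMap A B)] [FiniteDimensional K L] :
    let UB : Subgroup Lˣ := (Units.map (algebraMap B L).toMonoidHom).range
    let ΓA : Subgroup (Lˣ ⧸ UB) := ((QuotientGroup.mk' UB).comp (Units.map (algebraMap K L).toMonoidHom)).range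
    Module.Finite (IsLocalRing.ResidueField A) (IsLocalRing.ResidueField B) ∧ ΓA.index ≠ 0 ∧
      ΓA.index * Module.finrank (IsLocalRing.ResidueField A) (IsLocalRing.ResidueField B) ≤
        Module.finrank K L := by
  intro UB ΓA
  classical
  have hres : ∀ s : Finset (IsLocalRing.ResidueField B),
      LinearIndepOn (IsLocalRing.ResidueField A) id (s : Set (IsLocalRing.ResidueField B)) → s.card ≤ Module.finrank K L := by
    intro s hs
    choose b hb using IsLocalRing.residue_surjective (R := B)
    have := (indep (A := A) (K := K) UB rfl ΓA rfl (ι := PUnit.{1}) (κ := s) (fun _ => 1) (fun _ _ _ => rfl) (fun j => b j.1) (by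
      simp only [hb]; exact hs)).fintype_card_le_finrank
    simpa using this
  have hrank : Module.rank (IsLocalRing.ResidueField A) (IsLocalRing.ResidueField B) ≤ (Module.finrank K L : Cardinal) :=
    rank_le hres
  haveI hfin : Module.Finite (IsLocalRing.ResidueField A) (IsLocalRing.ResidueField B) :=
    Module.rank_lt_aleph0_iff.1 (lt_of_le_of_lt hrank (Cardinal.natCast_lt_aleph0))
  let bas := Module.finBasis (IsLocalRing.ResidueField A) (IsLocalRing.ResidueField B)
  choose b hb using fun j => IsLocalRing.residue_surjective (bas j)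
  have hprod : ∀ s : Finset ((Lˣ ⧸ UB) ⧸ ΓA),
      s.card * Module.finrank (IsLocalRing.ResidueField A) (IsLocalRing.ResidueField B) ≤ Module.finrank K L := by
    intro s
    choose p hp using fun q : (Lˣ ⧸ UB) ⧸ ΓA => QuotientGroup.mk_surjective q
    choose p' hp' using fun q : Lˣ ⧸ UB => QuotientGroup.mk_surjective q
    have := (indep (A := A) (K := K) UB rfl ΓA rfl (ι := s) (fun q => p' (p q.1)) (fun q q' h => Subtype.ext (by simpa [hp, hp'] using h)) b (by
      simp only [hb]; exact bas.linearIndependent)).fintype_card_le_finrank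
    simpa using this
  have hpos : 0 < Module.finrank (IsLocalRing.ResidueField A) (IsLocalRing.ResidueField B) := Module.finrank_pos
  haveI : Finite ((Lˣ ⧸ UB) ⧸ ΓA) := by
    by_contra h
    rw [not_finite_iff_infinite] at h
    obtain ⟨s, hs⟩ := Infinite.exists_subset_card_eq ((Lˣ ⧸ UB) ⧸ ΓA) (Module.finrank K L + 1)
    have := hprod s
    rw [hs] at this
    nlinarith
  letI := Fintype.ofFinite ((Lˣ ⧸ UB) ⧸ ΓA)
  refine ⟨hfin, ?_, ?_⟩
  · rw [Subgroup.index, Nat.card_eq_fintype_card]
    exact Fintype.card_ne_zero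
  · rw [Subgroup.index, Nat.card_eq_fintype_card, ← Finset.card_univ]
    exact hprod Finset.univ

end Groth.Agent.S7124
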