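import Groth.Statements.S7134
import Groth.Agent.DVRSmoothLib.Basic
import Groth.Agent.FSmoothAdicLib.FlatBase
import Groth.Agent.FieldExtLib.Separable
-- import your own Groth.Agent.* helpers here

set_option autoImplicit false
universe u
open EtAlg

namespace Groth.Agent.S7134

/-- For an injective local homomorphism A → B of discrete valuation rings, A → B is formally smooth for
the adic topology of the maximal ideal of B if and only if A → B is weakly unramified and the
residue field of B is a separable (possibly transcendental, i.e. geometrically reduced) extension of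
the residue field of A. -/
theorem result (A B : Type u) [CommRing A]
    [IsDomain A] [IsDiscreteValuationRing A] [CommRing B] [IsDomain B] [IsDiscreteValuationRing B] [Algebra A B]
    (hinj : Function.Injective (algebraMap A B)) [IsLocalHom (algebraMap A B)] :
    CAlgX.IsAdicFormallySmooth A B (IsLocalRing.maximalIdeal B) ↔
      EtRam.IsWeaklyUnramified A B ∧
        Algebra.IsGeometricallyReduced (IsLocalRing.ResidueField A) (IsLocalRing.ResidueField B) := by
  classical
  let mA := IsLocalRing.maximalIdeal A
  letI : Field (A ⧸ mA) := Ideal.Quotient.field _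
  constructor
  · intro h
    let k := A ⧸ mA
    let Bb := B ⧸ mA.map (algebraMap A B)
    have hle : mA.map (algebraMap A B) ≤ IsLocalRing.maximalIdeal B := IsLocalRing.map_maximalIdeal_le _
    haveI : Nontrivial Bb := Ideal.Quotient.nontrivial_iff.2 (ne_top_of_le_ne_top (IsLocalRing.maximalIdeal.isMaximal B).ne_top hle)
    haveI : IsLocalRing Bb := IsLocalRing.of_surjective' _ Ideal.Quotient.mk_surjective
    obtain ⟨ϖ, hϖ⟩ := IsDiscreteValuationRing.exists_irreducible B
    have hne : mA.map (algebraMap A B) ≠ ⊥ := by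
      rw [ne_eq, Ideal.map_eq_bot_iff_of_injective hinj]
      exact IsDiscreteValuationRing.not_a_field A
    obtain ⟨e, he⟩ := IsDiscreteValuationRing.ideal_eq_span_pow_irreducible hne hϖ
    haveI hfs : Algebra.FormallySmooth k Bb := by
      refine Algebra.FormallySmooth.of_comp_surjective fun C _ _ I hI f => ?_
      letI : Algebra A C := ((algebraMap k C).comp (algebraMap A k)).toAlgebra
      haveI : IsScalarTower A k C := IsScalarTower.of_algebraMap_eq fun _ => rfl
      obtain ⟨χ, hχ⟩ := h C I hI ((f.restrictScalars A).comp (Ideal.Quotient.mkₐ A _)) ⟨e, fun x hx => by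
        show f (Ideal.Quotient.mk _ x) = 0
        rw [Ideal.Quotient.eq_zero_iff_mem.2 (?_ : x ∈ mA.map (algebraMap A B)), map_zero]
        rw [he, ← Ideal.span_singleton_pow, ← hϖ.maximalIdeal_eq]
        exact hx⟩
      have hkill : mA.map (algebraMap A B) ≤ RingHom.ker χ.toRingHom := Ideal.map_le_iff_le_comap.2 fun a ha => by
        show χ (algebraMap A B a) = 0
        rw [AlgHom.commutes, IsScalarTower.algebraMap_apply A k C,
          show algebraMap A k a = 0 from Ideal.Quotient.eq_zero_iff_mem.2 ha, map_zero]
      refine ⟨{ Ideal.Quotient.lift _ χ.toRingHom (fun x hx => hkill hx) with commutes' := fun r => ?_ }, AlgHom.ext fun x => ?_⟩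
      · obtain ⟨a, rfl⟩ := Ideal.Quotient.mk_surjective r
        show χ (algebraMap A B a) = algebraMap k C (Ideal.Quotient.mk mA a)
        rw [AlgHom.commutes]
        rfl
      · obtain ⟨b, rfl⟩ := Ideal.Quotient.mk_surjective x
        exact AlgHom.congr_fun hχ b
    have he1 : e = 1 := by
      rcases Nat.lt_trichotomy e 1 with h0 | h1 | h2
      · exfalso
        obtain rfl : e = 0 := by omega
        rw [pow_zero, Ideal.span_singleton_one] at he
        exact (IsLocalRing.maximalIdeal.isMaximal B).ne_top (top_unique (he ▸ hle))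
      · exact h1
      · exfalso
        have hmax : IsLocalRing.maximalIdeal Bb = Ideal.span {Ideal.Quotient.mk _ ϖ} := by
          rw [← (IsLocalRing.eq_maximalIdeal (Ideal.IsMaximal.map_of_surjective_of_ker_le Ideal.Quotient.mk_surjective
            (m := IsLocalRing.maximalIdeal B) (by rw [Ideal.mk_ker]; exact hle))), hϖ.maximalIdeal_eq, Ideal.map_span,
            Set.image_singleton]
        have hxe : (Ideal.Quotient.mk (mA.map (algebraMap A B)) ϖ) ^ e = 0 := by
          rw [← map_pow, Ideal.Quotient.eq_zero_iff_mem, he]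
          exact Ideal.mem_span_singleton_self _
        have hx2 : Ideal.Quotient.mk (mA.map (algebraMap A B)) ϖ ∉ Ideal.span {Ideal.Quotient.mk _ ϖ ^ 2} := by
          intro hmem
          rw [← map_pow, ← Set.image_singleton, ← Ideal.map_span, Ideal.mem_quotient_iff_mem_sup,
            sup_eq_left.2 (by rw [he]; exact Ideal.span_singleton_le_span_singleton.2 (pow_dvd_pow _ h2)),
            Ideal.mem_span_singleton] at hmem
          have := (pow_dvd_pow_iff hϖ.ne_zero hϖ.not_isUnit (n := 2) (m := 1)).1 (by rwa [pow_one])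
          omega
        obtain _ | ⟨p, hp, hpk⟩ := CharP.exists' k
        · haveI : CharZero k := inferInstance
          letI : Algebra ℚ Bb := ((algebraMap k Bb).comp (algebraMap ℚ k)).toAlgebra
          haveI : IsScalarTower ℚ k Bb := IsScalarTower.of_algebraMap_eq fun _ => rfl
          exact Groth.Agent.DVRSmoothLib.not_formallySmooth_of_truncation ℚ k Bb _ hmax e h2 hxe hx2
        · letI := ZMod.algebra k p
          letI : Algebra (ZMod p) Bb := ((algebraMap k Bb).comp (algebraMap (ZMod p) k)).toAlgebra
          haveI : IsScalarTower (ZMod p) k Bb := IsScalarTower.of_algebraMap_eq fun _ => rfl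
          exact Groth.Agent.DVRSmoothLib.not_formallySmooth_of_truncation (ZMod p) k Bb _ hmax e h2 hxe hx2
    have hmap : mA.map (algebraMap A B) = IsLocalRing.maximalIdeal B := by
      rw [he, he1, pow_one, hϖ.maximalIdeal_eq]
    refine ⟨hmap, ?_⟩
    letI : Algebra (IsLocalRing.ResidueField A) Bb := (inferInstance : Algebra (A ⧸ mA) Bb)
    haveI h₁ : Algebra.FormallySmooth (IsLocalRing.ResidueField A) Bb := hfs
    let e₂ : Bb ≃+* IsLocalRing.ResidueField B := Ideal.quotEquivOfEq hmap
    have h₂ : Algebra.FormallySmooth (IsLocalRing.ResidueField A) (IsLocalRing.ResidueField B) :=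
      Algebra.FormallySmooth.of_equiv (AlgEquiv.ofRingEquiv (R := IsLocalRing.ResidueField A) (f := e₂) fun r => by
        obtain ⟨a, rfl⟩ := Ideal.Quotient.mk_surjective r
        rfl)
    exact Groth.Agent.FieldExtLib.formallySmooth_iff_isGeometricallyReduced.1 h₂
  · rintro ⟨hmap, hsep⟩
    haveI : Module.Flat A B := by
      rw [Module.Flat.flat_iff_torsion_eq_bot_of_isBezout, eq_bot_iff]
      rintro x ⟨⟨a, ha⟩, hax⟩
      have hax' : algebraMap A B a * x = 0 := by rw [← Algebra.smul_def]; exact hax
      refine (mul_eq_zero.1 hax').resolve_left fun h0 => nonZeroDivisors.ne_zero ha (hinj ?_)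
      rw [h0, map_zero]
    have hfs := Groth.Agent.FieldExtLib.formallySmooth_of_isGeometricallyReduced hsep
    haveI := hfs
    letI : Algebra (IsLocalRing.ResidueField A) (B ⧸ mA.map (algebraMap A B)) := (inferInstance : Algebra (A ⧸ mA) (B ⧸ mA.map (algebraMap A B)))
    let e₃ : IsLocalRing.ResidueField B ≃+* B ⧸ mA.map (algebraMap A B) := Ideal.quotEquivOfEq hmap.symm
    have h₁ : Algebra.FormallySmooth (IsLocalRing.ResidueField A) (B ⧸ mA.map (algebraMap A B)) :=
      Algebra.FormallySmooth.of_equiv (AlgEquiv.ofRingEquiv (R := IsLocalRing.ResidueField A)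
        (f := e₃) fun r => by
        obtain ⟨a, rfl⟩ := Ideal.Quotient.mk_surjective r
        rfl)
    haveI : Algebra.FormallySmooth (A ⧸ mA) (B ⧸ mA.map (algebraMap A B)) := h₁
    have hFS := Groth.Agent.FSmoothAdicLib.isFormallySmoothAdic_of_flat (A := A) (B := B)
    intro C _ _ J hJ ψ hψ
    obtain ⟨n, hn⟩ := hψ
    have hn' : ∀ x ∈ (mA.map (algebraMap A B)) ^ n, ψ x = 0 := fun x hx => hn x (by rwa [hmap] at hx)
    refine hFS C J ⟨2, by rw [Ideal.zero_eq_bot]; exact hJ⟩ ⟨n + n, ?_⟩ ψ ⟨n, hn'⟩
    rw [eq_bot_iff, ← hJ, pow_add, Ideal.map_mul, pow_two]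
    have hle : (mA ^ n).map (algebraMap A C) ≤ J := Ideal.map_le_iff_le_comap.2 fun a ha => by
      refine (Ideal.Quotient.eq_zero_iff_mem (I := J)).1 ((ψ.commutes a).symm.trans (hn' _ ?_))
      rw [← Ideal.map_pow]
      exact Ideal.mem_map_of_mem _ ha
    exact Ideal.mul_mono hle hle

end Groth.Agent.S7134
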