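import Groth.Statements.S7135
import Mathlib
import Groth.Agent.CAlgBasics.ARHomology

set_option autoImplicit false
universe u
open CAlg

namespace Groth.Agent.S7135

open Submodule in
/-- A map that is surjective modulo `I` is surjective modulo every power of `I`. -/
lemma range_sup_pow_eq_top {A M N : Type*} [CommRing A] [AddCommGroup M] [Module A M] [AddCommGroup N] [Module A N]
    (I : Ideal A) (h : M →ₗ[A] N) (hh : LinearMap.range h ⊔ (I • ⊤ : Submodule A N) = ⊤) (n : ℕ) :
    LinearMap.range h ⊔ (I ^ n • ⊤ : Submodule A N) = ⊤ := by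
  induction n with
  | zero => simp
  | succ n ih =>
    refine eq_top_iff.2 (ih.ge.trans (sup_le le_sup_left ?_))
    conv_lhs => rw [← hh, smul_sup, ← Submodule.mul_smul, ← pow_succ]
    exact sup_le ((Submodule.smul_le_right).trans le_sup_left) le_sup_right

/-- Levelwise surjectivity of the reduction. -/
lemma surjective_reduce {A M N : Type*} [CommRing A] [AddCommGroup M] [Module A M] [AddCommGroup N] [Module A N]
    (I : Ideal A) (h : M →ₗ[A] N) (hh : LinearMap.range h ⊔ (I • ⊤ : Submodule A N) = ⊤) (n : ℕ) :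
    Function.Surjective (h.reduceModIdeal (I ^ n)) := by
  intro y
  obtain ⟨y, rfl⟩ := Submodule.mkQ_surjective _ y
  obtain ⟨_, ⟨x, rfl⟩, w, hw, hxy⟩ := Submodule.mem_sup.1
    ((range_sup_pow_eq_top I h hh n).ge (Submodule.mem_top (x := y)))
  refine ⟨Submodule.Quotient.mk x, ?_⟩
  change Submodule.Quotient.mk (h x) = Submodule.Quotient.mk y
  rw [Submodule.Quotient.eq, ← hxy, sub_add_cancel_left]
  exact neg_mem hw


/-- Let A be a Noetherian ring, I an ideal and M, N finite A-modules. If M/IⁿM and N/IⁿN are isomorphic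
for every n, then the I-adic completions of M and N are isomorphic as modules over the I-adic
completion of A. -/
theorem result (A : Type u) [CommRing A] [IsNoetherianRing A] (I : Ideal A)
    (M N : Type u) [AddCommGroup M] [Module A M] [Module.Finite A M] [AddCommGroup N] [Module A N]
    [Module.Finite A N]
    (h : ∀ n : ℕ, Nonempty ((M ⧸ (I ^ n • ⊤ : Submodule A M)) ≃ₗ[A] (N ⧸ (I ^ n • ⊤ : Submodule A N)))) :
    Nonempty (AdicCompletion I M ≃ₗ[AdicCompletion I A] AdicCompletion I N) := by
  obtain ⟨c, hc⟩ := Groth.Agent.CAlgBasics.exists_hom_congr I M N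
  obtain ⟨c', hc'⟩ := Groth.Agent.CAlgBasics.exists_hom_congr I N M
  obtain ⟨φ⟩ := h (1 + c)
  obtain ⟨ψ⟩ := h (1 + c')
  obtain ⟨f, hf⟩ := hc φ.toLinearMap φ.surjective
  obtain ⟨g, hg⟩ := hc' ψ.symm.toLinearMap ψ.symm.surjective
  have hbij : ∀ n, Function.Bijective (f.reduceModIdeal (I ^ n)) := by
    intro n
    let F := f.reduceModIdeal (I ^ n)
    let G := g.reduceModIdeal (I ^ n)
    let e : (M ⧸ (I ^ n • ⊤ : Submodule A M)) →ₗ[A] M ⧸ (I ^ n • ⊤ : Submodule A M) :=
      (G.restrictScalars A) ∘ₗ (F.restrictScalars A)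
    have he : Function.Surjective e := (surjective_reduce I g hg n).comp (surjective_reduce I f hf n)
    have := OrzechProperty.injective_of_surjective_endomorphism e he
    exact ⟨fun a b hab => this (congrArg G hab), surjective_reduce I f hf n⟩
  refine ⟨LinearEquiv.ofBijective (AdicCompletion.map I f) ⟨(injective_iff_map_eq_zero _).2 fun x hx => ?_, fun y => ?_⟩⟩
  · refine AdicCompletion.ext fun n => (hbij n).1 ?_
    rw [← AdicCompletion.map_val_apply, hx]
    simp
  · choose x hx using fun n => (hbij n).2 (y.val n)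
    refine ⟨⟨x, fun {m n} hmn => (hbij m).1 ?_⟩, AdicCompletion.ext fun n => (AdicCompletion.map_val_apply I f _).trans (hx n)⟩
    rw [hx m, ← y.2 hmn, ← hx n]
    exact (LinearMap.congr_fun (AdicCompletion.transitionMap_comp_reduceModIdeal I f hmn) (x n)).symm

end Groth.Agent.S7135
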