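import Groth.Statements.S7136
import Mathlib


set_option autoImplicit false
universe u
open CAlg

namespace Groth.Agent.S7136

theorem mem_smul_top_pi {A : Type u} [CommRing A] {N : Type u} [AddCommGroup N] [Module A N] (J : Ideal A) {q : ℕ}
    (x : Fin q → N) : x ∈ (J • ⊤ : Submodule A (Fin q → N)) ↔ ∀ i, x i ∈ (J • ⊤ : Submodule A N) := by
  classical
  refine ⟨fun hx i => ?_, fun hx => ?_⟩
  · have := Submodule.mem_map_of_mem (f := LinearMap.proj (R := A) (φ := fun _ : Fin q => N) i) hx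
    rw [Submodule.map_smul''] at this
    exact Submodule.smul_mono le_rfl le_top this
  · rw [← Finset.univ_sum_single x]
    refine Submodule.sum_mem _ fun i _ => ?_
    have := Submodule.mem_map_of_mem (f := LinearMap.single A (fun _ : Fin q => N) i) (hx i)
    rw [Submodule.map_smul''] at this
    exact Submodule.smul_mono le_rfl le_top this

/-- Artin-Rees in the form used below. -/
theorem exists_artin_rees {A : Type u} [CommRing A] [IsNoetherianRing A] (I : Ideal A) {P : Type u} [AddCommGroup P]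
    [Module A P] [Module.Finite A P] (S : Submodule A P) :
    ∃ c, ∀ n, c ≤ n → I ^ n • ⊤ ⊓ S ≤ I ^ (n - c) • S := by
  obtain ⟨c, hc⟩ := Ideal.exists_pow_inf_eq_pow_smul I S
  exact ⟨c, fun n hn => by rw [hc n hn]; exact Submodule.smul_mono le_rfl inf_le_right⟩

/-- The Artin-Rees consequences for homomorphisms out of a finite module. -/
theorem hom_artin_rees {A : Type u} [CommRing A] [IsNoetherianRing A] (I : Ideal A) (M N : Type u) [AddCommGroup M]
    [Module A M] [Module.Finite A M] [AddCommGroup N] [Module A N] [Module.Finite A N] :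
    ∃ c : ℕ,
      (∀ n, c ≤ n → ∀ φ : M →ₗ[A] N, (∀ x, φ x ∈ (I ^ n • ⊤ : Submodule A N)) →
        φ ∈ (I ^ (n - c) • ⊤ : Submodule A (M →ₗ[A] N))) ∧
      (∀ n, c ≤ n → ∀ ψ : M →ₗ[A] N ⧸ (I ^ n • ⊤ : Submodule A N), ∃ φ : M →ₗ[A] N,
        ∀ x y, Submodule.Quotient.mk y = ψ x → φ x - y ∈ (I ^ (n - c) • ⊤ : Submodule A N)) := by
  classical
  obtain ⟨q, π, hπ⟩ := Module.Finite.exists_fin' A M
  obtain ⟨p, r, hr⟩ := Submodule.fg_iff_exists_fin_generating_family.1 (IsNoetherian.noetherian (LinearMap.ker π))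
  let L : (Fin q → N) →ₗ[A] (Fin p → N) :=
    LinearMap.pi fun j => ∑ i, r j i • LinearMap.proj i
  have hL : ∀ x j, L x j = ∑ i, r j i • x i := fun x j => by
    simp [L, LinearMap.sum_apply]
  let ev : (M →ₗ[A] N) →ₗ[A] (Fin q → N) :=
    LinearMap.pi fun i => LinearMap.applyₗ (π (Pi.single i 1))
  have hev : ∀ (φ : M →ₗ[A] N) (v : Fin q → A), φ (π v) = ∑ i, v i • ev φ i := fun φ v => by
    show φ (π v) = ∑ i, v i • φ (π (Pi.single i 1))
    simp only [← map_smul, ← map_sum]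
    congr 2
    exact funext fun k => by simp [Pi.single_apply]
  have hinj : Function.Injective ev := fun φ φ' h => LinearMap.ext fun x => by
    obtain ⟨v, rfl⟩ := hπ x
    rw [hev, hev, h]
  have hrange : LinearMap.ker L ≤ LinearMap.range ev := by
    intro x hx
    let Φ : (Fin q → A) →ₗ[A] N := ∑ i, (LinearMap.proj i).smulRight (x i)
    have hΦ : ∀ v, Φ v = ∑ i, v i • x i := fun v => by simp [Φ]
    have hker : LinearMap.ker π ≤ LinearMap.ker Φ := by
      rw [← hr, Submodule.span_le]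
      rintro _ ⟨j, rfl⟩
      exact (hΦ _).trans ((hL x j).symm.trans (congrFun (LinearMap.mem_ker.1 hx) j))
    refine ⟨(Submodule.liftQ (LinearMap.ker π) Φ hker).comp
      (π.quotKerEquivOfSurjective hπ).symm.toLinearMap, funext fun i => ?_⟩
    show (Submodule.liftQ (LinearMap.ker π) Φ hker) ((π.quotKerEquivOfSurjective hπ).symm (π (Pi.single i 1))) = x i
    rw [show (π.quotKerEquivOfSurjective hπ).symm (π (Pi.single i 1)) = Submodule.Quotient.mk (Pi.single i 1) from
      (LinearEquiv.symm_apply_eq _).2 rfl, Submodule.liftQ_apply, hΦ, Finset.sum_eq_single i (fun j _ hj => by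
        rw [Pi.single_eq_of_ne hj, zero_smul]) (by simp), Pi.single_eq_same, one_smul]
  obtain ⟨c₁, hc₁⟩ := exists_artin_rees I (LinearMap.range ev)
  obtain ⟨c₂, hc₂⟩ := exists_artin_rees I (LinearMap.range L)
  refine ⟨c₁ + c₂, fun n hn φ hφ => ?_, fun n hn ψ => ?_⟩
  · have h1 : ev φ ∈ I ^ (n - c₁) • LinearMap.range ev :=
      hc₁ n (by omega) ⟨(mem_smul_top_pi _ _).2 fun i => hφ _, φ, rfl⟩
    rw [← Submodule.map_top ev, ← Submodule.map_smul''] at h1
    obtain ⟨φ', hφ', e⟩ := h1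
    obtain rfl := hinj e
    exact Submodule.smul_mono_left (Ideal.pow_le_pow_right (by omega)) hφ'
  · choose x hx using fun i => Submodule.Quotient.mk_surjective (I ^ n • ⊤ : Submodule A N) (ψ (π (Pi.single i 1)))
    have h1 : L x ∈ I ^ (n - c₂) • LinearMap.range L := by
      refine hc₂ n (by omega) ⟨(mem_smul_top_pi _ _).2 fun j => ?_, x, rfl⟩
      rw [hL, ← Submodule.Quotient.mk_eq_zero, ← Submodule.mkQ_apply, map_sum]
      simp_rw [map_smul, Submodule.mkQ_apply, hx, ← map_smul, ← map_sum]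
      have h0 : π (r j) = 0 := LinearMap.mem_ker.1 (hr ▸ Submodule.subset_span (Set.mem_range_self j))
      rw [show (∑ i, r j i • Pi.single (M := fun _ : Fin q => A) i (1 : A)) = r j from ?_, h0, map_zero]
      exact funext fun k => by simp [Pi.single_apply]
    rw [← Submodule.map_top L, ← Submodule.map_smul''] at h1
    obtain ⟨y, hy, e⟩ := h1
    obtain ⟨φ, hφ⟩ := hrange (show x - y ∈ LinearMap.ker L by rw [LinearMap.mem_ker, map_sub, e, sub_self])
    refine ⟨φ, fun m z hz => ?_⟩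
    obtain ⟨v, rfl⟩ := hπ m
    have hle : (I ^ n • ⊤ : Submodule A N) ≤ I ^ (n - (c₁ + c₂)) • ⊤ :=
      Submodule.smul_mono_left (Ideal.pow_le_pow_right (by omega))
    have hle2 : (I ^ (n - c₂) • ⊤ : Submodule A N) ≤ I ^ (n - (c₁ + c₂)) • ⊤ :=
      Submodule.smul_mono_left (Ideal.pow_le_pow_right (by omega))
    have h3 : (∑ i, v i • x i) - z ∈ (I ^ n • ⊤ : Submodule A N) := by
      rw [← Submodule.Quotient.eq, hz, ← Submodule.mkQ_apply, map_sum]
      simp_rw [map_smul, Submodule.mkQ_apply, hx, ← map_smul, ← map_sum]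
      congr 2
      exact funext fun k => by simp [Pi.single_apply]
    have h4 : φ (π v) - z = ((∑ i, v i • x i) - z) - ∑ i, v i • y i := by
      rw [hev, hφ]
      simp only [Pi.sub_apply, smul_sub, Finset.sum_sub_distrib]
      abel
    rw [h4]
    exact sub_mem (hle h3) (Submodule.sum_mem _ fun i _ => Submodule.smul_mem _ _ (hle2 ((mem_smul_top_pi _ _).1 hy i)))


/-- Let A be a Noetherian ring, I an ideal, and M, N finite A-modules; write N_n = N/IⁿN, so that
Hom_A(M/IⁿM, N_n) = Hom_A(M, N_n). Then (1) the inverse system (Hom_A(M, N_n))_n, with transition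
maps induced by the projections N_k → N_n, is Mittag-Leffler; (2) there is c ≥ 0 such that for all n
the kernel and the cokernel of Hom_A(M, N)/IⁿHom_A(M, N) → Hom_A(M, N_n) are annihilated by I^c. -/
theorem result (A : Type u) [CommRing A] [IsNoetherianRing A]
    (I : Ideal A) (M N : Type u) [AddCommGroup M] [Module A M] [Module.Finite A M] [AddCommGroup N] [Module A N]
    [Module.Finite A N] :
    let Nq : ℕ → Submodule A N := fun n => I ^ n • ⊤
    let pr : ∀ n k : ℕ, n ≤ k → (N ⧸ Nq k) →ₗ[A] (N ⧸ Nq n) :=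
      fun n k hnk => Submodule.mapQ (Nq k) (Nq n) (LinearMap.id : N →ₗ[A] N) (Submodule.smul_mono_left (Ideal.pow_le_pow_right hnk))
    let red : ∀ n : ℕ, (M →ₗ[A] N) → (M →ₗ[A] N ⧸ Nq n) := fun n φ => (Nq n).mkQ ∘ₗ φ
    (∀ n : ℕ, ∃ m : ℕ, n ≤ m ∧ ∀ (k : ℕ) (hmk : m ≤ k) (hnm : n ≤ m) (ψ : M →ₗ[A] N ⧸ Nq m),
        ∃ ψ' : M →ₗ[A] N ⧸ Nq k, pr n k (hnm.trans hmk) ∘ₗ ψ' = pr n m hnm ∘ₗ ψ) ∧
    ∃ c : ℕ, ∀ n : ℕ,
      (∀ φ : M →ₗ[A] N, red n φ = 0 → ∀ a ∈ I ^ c, a • φ ∈ (I ^ n • ⊤ : Submodule A (M →ₗ[A] N))) ∧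
      (∀ (ψ : M →ₗ[A] N ⧸ Nq n), ∀ a ∈ I ^ c, ∃ φ : M →ₗ[A] N, red n φ = a • ψ) := by
  intro Nq pr red
  obtain ⟨c, hker, hcoker⟩ := hom_artin_rees I M N
  refine ⟨fun n => ⟨n + c, by omega, fun k hmk hnm ψ => ?_⟩, c, fun n => ⟨fun φ hφ a ha => ?_, fun ψ a ha => ?_⟩⟩
  · obtain ⟨φ, hφ⟩ := hcoker (n + c) (by omega) ψ
    refine ⟨red k φ, LinearMap.ext fun x => ?_⟩
    obtain ⟨y, hy⟩ := Submodule.Quotient.mk_surjective _ (ψ x)
    show pr n k (hnm.trans hmk) (Submodule.Quotient.mk (φ x)) = pr n (n + c) hnm (ψ x)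
    simp only [pr]
    rw [← hy, Submodule.mapQ_apply, Submodule.mapQ_apply, LinearMap.id_apply, LinearMap.id_apply, Submodule.Quotient.eq]
    have := hφ x y hy
    rwa [Nat.add_sub_cancel] at this
  · have hφ' : ∀ x, φ x ∈ (I ^ n • ⊤ : Submodule A N) := fun x => by
      rw [← Submodule.Quotient.mk_eq_zero]
      exact LinearMap.congr_fun hφ x
    rcases le_or_gt c n with hn | hn
    · have := Submodule.smul_mem_smul ha (hker n hn φ hφ')
      rwa [← Submodule.mul_smul, ← pow_add, Nat.add_sub_cancel' hn] at this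
    · exact Submodule.smul_mem_smul (Ideal.pow_le_pow_right hn.le ha) Submodule.mem_top
  · rcases le_or_gt c n with hn | hn
    · obtain ⟨φ, hφ⟩ := hcoker n hn ψ
      refine ⟨a • φ, LinearMap.ext fun x => ?_⟩
      obtain ⟨y, hy⟩ := Submodule.Quotient.mk_surjective _ (ψ x)
      show Submodule.Quotient.mk (a • φ x) = a • ψ x
      rw [← hy, ← Submodule.Quotient.mk_smul, Submodule.Quotient.eq, ← smul_sub]
      have := Submodule.smul_mem_smul ha (hφ x y hy)
      rwa [← Submodule.mul_smul, ← pow_add, Nat.add_sub_cancel' hn] at this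
    · refine ⟨0, LinearMap.ext fun x => ?_⟩
      obtain ⟨y, hy⟩ := Submodule.Quotient.mk_surjective _ (ψ x)
      show Submodule.Quotient.mk (0 : N) = a • ψ x
      rw [← hy, ← Submodule.Quotient.mk_smul, Submodule.Quotient.mk_zero, eq_comm, Submodule.Quotient.mk_eq_zero]
      exact Submodule.smul_mem_smul (Ideal.pow_le_pow_right hn.le ha) Submodule.mem_top

end Groth.Agent.S7136
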