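import Groth.Statements.S7139
import Mathlib
import Groth.Agent.InertiaEtaleLib.Main

namespace Groth.Agent.S7139

theorem etale_atPrime (A C : Type*) [CommRing A] [IsDomain A] [IsDiscreteValuationRing A]
    [CommRing C] [IsDomain C] [Algebra A C] [Module.Finite A C]
    (m : Ideal C) [m.IsPrime] (g : C) (hg : g ∉ m)
    (het : Algebra.Etale A (Localization.Away g)) : Algebra.Etale A (Localization.AtPrime m) := by
  classical
  haveI : Algebra.FinitePresentation A C := Algebra.FinitePresentation.of_finiteType.1 inferInstance
  by_cases hm0 : m.comap (algebraMap A C) ≠ IsLocalRing.maximalIdeal A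
  · -- the prime lies over zero
    have hbot : m.comap (algebraMap A C) = ⊥ := by
      by_contra hne
      exact hm0 (IsLocalRing.eq_maximalIdeal ((inferInstance : (m.comap (algebraMap A C)).IsPrime).isMaximal hne))
    have hm : m = ⊥ := Ideal.eq_bot_of_comap_eq_bot hbot
    obtain ⟨π, hπ⟩ := IsDiscreteValuationRing.exists_irreducible A
    have hπ0 : algebraMap A C π ∉ m := by
      intro h
      have : π ∈ m.comap (algebraMap A C) := h
      rw [hbot, Ideal.mem_bot] at this
      exact hπ.ne_zero this
    let n := g * algebraMap A C π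
    have hn : n ∉ m := fun h => ((inferInstance : m.IsPrime).mem_or_mem h).elim hg hπ0
    haveI : IsLocalization m.primeCompl (Localization.Away n) := by
      refine IsLocalization.of_le (M := Submonoid.powers n) _ ?_ ?_
      · rintro _ ⟨k, rfl⟩ h
        exact hn ((inferInstance : m.IsPrime).mem_of_pow_mem k h)
      · intro s hs
        by_contra hu
        obtain ⟨P, hP, hsP⟩ := exists_max_ideal_of_mem_nonunits hu
        let Q := P.comap (algebraMap C (Localization.Away n))
        have hnQ : n ∉ Q := fun h => hP.ne_top
          (Ideal.eq_top_of_isUnit_mem _ h (IsLocalization.Away.algebraMap_isUnit n))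
        have hs0 : s ≠ 0 := fun h => hs (h ▸ m.zero_mem)
        have hsQ : s ∈ Q := hsP
        haveI : Q.IsPrime := inferInstance
        have hQ0 : Q.comap (algebraMap A C) ≠ ⊥ := fun h => hs0 (by
          rw [Ideal.eq_bot_of_comap_eq_bot h] at hsQ
          exact hsQ)
        have : π ∈ Q.comap (algebraMap A C) := by
          rw [IsLocalRing.eq_maximalIdeal ((inferInstance : (Q.comap (algebraMap A C)).IsPrime).isMaximal hQ0)]
          exact hπ.not_isUnit
        exact hnQ (Q.mul_mem_left _ this)
    haveI : Algebra.Etale A (Localization.Away n) :=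
      (Algebra.basicOpen_subset_etaleLocus_iff_etale (R := A) (f := n)).1 fun Q hQ =>
        (Algebra.basicOpen_subset_etaleLocus_iff_etale (R := A) (f := g)).2 het
          (show g ∉ Q.asIdeal from fun h => hQ (Ideal.mul_mem_right _ _ h))
    exact Algebra.Etale.of_equiv
      ((IsLocalization.algEquiv m.primeCompl (Localization.Away n) _).restrictScalars A)
  push Not at hm0
  have hfin : ((IsLocalRing.maximalIdeal A).primesOver C).Finite := Algebra.QuasiFinite.finite_primesOver _
  haveI hmmax : m.IsMaximal := Ideal.isMaximal_of_isIntegral_of_isMaximal_comap m (by rw [hm0]; infer_instance)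
  have hpick : ∀ Q ∈ hfin.toFinset.erase m, ∃ a ∈ Q, a ∉ m := by
    intro Q hQ
    obtain ⟨hne, hQ'⟩ := Finset.mem_erase.1 hQ
    obtain ⟨hQp, hQo⟩ := hfin.mem_toFinset.1 hQ'
    haveI := hQp
    haveI : Q.IsMaximal := Ideal.isMaximal_of_isIntegral_of_isMaximal_comap Q (by
      rw [← Ideal.under_def (A := A), ← hQo.over]; infer_instance)
    exact SetLike.not_le_iff_exists.1 fun hle => hne (Ideal.IsMaximal.eq_of_le inferInstance hmmax.ne_top hle)
  choose a ha ha' using hpick
  let g' := ∏ Q ∈ (hfin.toFinset.erase m).attach, a Q.1 Q.2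
  have hg' : g' ∉ m := by
    rw [Ideal.IsPrime.prod_mem_iff]
    push Not
    exact fun Q _ => ha' Q.1 Q.2
  let n := g * g'
  have hn : n ∉ m := fun h => ((inferInstance : m.IsPrime).mem_or_mem h).elim hg hg'
  haveI : IsLocalization m.primeCompl (Localization.Away n) := by
    refine IsLocalization.of_le (M := Submonoid.powers n) _ ?_ ?_
    · rintro _ ⟨k, rfl⟩ h
      exact hn ((inferInstance : m.IsPrime).mem_of_pow_mem k h)
    · intro s hs
      by_contra hu
      obtain ⟨P, hP, hsP⟩ := exists_max_ideal_of_mem_nonunits hu
      let Q := P.comap (algebraMap C (Localization.Away n))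
      have hnQ : n ∉ Q := fun h => hP.ne_top
        (Ideal.eq_top_of_isUnit_mem _ h (IsLocalization.Away.algebraMap_isUnit n))
      have hsQ : s ∈ Q := hsP
      haveI : Q.IsPrime := inferInstance
      have hs0 : s ≠ 0 := fun h => hs (h ▸ m.zero_mem)
      have hQ0 : Q.comap (algebraMap A C) ≠ ⊥ := fun h => hs0 (by
        rw [Ideal.eq_bot_of_comap_eq_bot h] at hsQ
        exact hsQ)
      have hover : Q ∈ (IsLocalRing.maximalIdeal A).primesOver C :=
        ⟨inferInstance, ⟨(IsLocalRing.eq_maximalIdeal
          ((inferInstance : (Q.comap (algebraMap A C)).IsPrime).isMaximal hQ0)).symm⟩⟩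
      have hne : Q ≠ m := fun h => hs (h ▸ hsQ)
      have hmemQ : Q ∈ hfin.toFinset.erase m := Finset.mem_erase.2 ⟨hne, hfin.mem_toFinset.2 hover⟩
      refine hnQ (Q.mul_mem_left _ ?_)
      exact (Ideal.IsPrime.prod_mem_iff (p := Q)).2 ⟨⟨Q, hmemQ⟩, Finset.mem_attach _ _, ha Q hmemQ⟩
  haveI : Algebra.Etale A (Localization.Away n) :=
    (Algebra.basicOpen_subset_etaleLocus_iff_etale (R := A) (f := n)).1 fun Q hQ =>
      (Algebra.basicOpen_subset_etaleLocus_iff_etale (R := A) (f := g)).2 het
        (show g ∉ Q.asIdeal from fun h => hQ (Ideal.mul_mem_right _ _ h))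
  exact Algebra.Etale.of_equiv
    ((IsLocalization.algEquiv m.primeCompl (Localization.Away n) _).restrictScalars A)

end Groth.Agent.S7139


set_option autoImplicit false
universe u
open EtAlg

namespace Groth.Agent.S7139

/-- A is a discrete valuation ring, K its field of fractions, and L/K is finite Galois with Galois group
G. Write B for the integral closure of A in L, equipped with the induced G-action, m a maximal ideal
of B and I ⊆ G its inertia group. Denote by B' the integral closure of A inside the fixed field L^I,
with a map to B compatible with L^I ⊆ L. Then the image of B' in B is the ring of invariants B^I,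
and A → B'_{m'} is étale, where m' = m ∩ B'. -/
theorem result (A K L B : Type u) [CommRing A] [IsDomain A]
    [IsDiscreteValuationRing A] [Field K] [Field L] [Algebra A K] [IsFractionRing A K] [Algebra K L]
    [Algebra A L] [IsScalarTower A K L] [FiniteDimensional K L] [IsGalois K L]
    [CommRing B] [Algebra A B] [Algebra B L] [IsScalarTower A B L] [IsIntegralClosure B A L]
    [MulSemiringAction (L ≃ₐ[K] L) B]
    (hact : ∀ (σ : L ≃ₐ[K] L) (b : B), algebraMap B L (σ • b) = σ (algebraMap B L b))
    (m : Ideal B) [m.IsMaximal]
    (B' : Type u) [CommRing B'] [Algebra A B'] [Algebra B' B] [IsScalarTower A B' B] [Algebra B' L]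
    [IsScalarTower B' B L]
    [Algebra B' (IntermediateField.fixedField (m.inertia (L ≃ₐ[K] L)))]
    [IsScalarTower B' (IntermediateField.fixedField (m.inertia (L ≃ₐ[K] L))) L]
    [IsIntegralClosure B' A (IntermediateField.fixedField (m.inertia (L ≃ₐ[K] L)))] :
    (∀ b : B, (∀ σ ∈ m.inertia (L ≃ₐ[K] L), σ • b = b) ↔ b ∈ Set.range (algebraMap B' B)) ∧
      Algebra.Etale A (Localization.AtPrime (m.comap (algebraMap B' B))) := by
  classical
  have hinjBL : Function.Injective (algebraMap B L) := IsIntegralClosure.algebraMap_injective B A L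
  haveI : IsDomain B := hinjBL.isDomain (algebraMap B L)
  let F := IntermediateField.fixedField (m.inertia (L ≃ₐ[K] L))
  have hinjF : Function.Injective (algebraMap B' F) := IsIntegralClosure.algebraMap_injective B' A F
  haveI : IsDomain B' := hinjF.isDomain (algebraMap B' F)
  have hinjB'B : Function.Injective (algebraMap B' B) := by
    intro x y h
    apply hinjF
    apply Subtype.val_injective
    have h1 := congrArg (algebraMap B L) h
    rw [← IsScalarTower.algebraMap_apply B' B L, ← IsScalarTower.algebraMap_apply B' B L,
      IsScalarTower.algebraMap_apply B' F L, IsScalarTower.algebraMap_apply B' F L] at h1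
    exact h1
  have hiff : ∀ b : B, (∀ σ ∈ m.inertia (L ≃ₐ[K] L), σ • b = b) ↔ b ∈ Set.range (algebraMap B' B) := by
    intro b
    constructor
    · intro h
      have hmem : algebraMap B L b ∈ F := by
        rw [IntermediateField.mem_fixedField_iff]
        intro σ hσ
        rw [← hact, h σ hσ]
      have hint : IsIntegral A (⟨algebraMap B L b, hmem⟩ : F) := by
        rw [← isIntegral_algHom_iff ((F.val).restrictScalars A) (fun x y h => Subtype.ext h)]
        exact (IsIntegralClosure.isIntegral A L b).map (IsScalarTower.toAlgHom A B L)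
      obtain ⟨b', hb'⟩ := IsIntegralClosure.isIntegral_iff (A := B').1 hint
      refine ⟨b', hinjBL ?_⟩
      rw [← IsScalarTower.algebraMap_apply, IsScalarTower.algebraMap_apply B' F L, hb']
      rfl
    · rintro ⟨b', rfl⟩ σ hσ
      apply hinjBL
      rw [hact, ← IsScalarTower.algebraMap_apply, IsScalarTower.algebraMap_apply B' F L]
      exact (IntermediateField.mem_fixedField_iff _ _).1 (algebraMap B' F b').2 σ hσ
  refine ⟨hiff, ?_⟩
  haveI : SMulCommClass (L ≃ₐ[K] L) A B := ⟨fun σ a b => hinjBL (by
    rw [hact, Algebra.smul_def, Algebra.smul_def, map_mul, map_mul, map_mul, hact,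
      ← IsScalarTower.algebraMap_apply, IsScalarTower.algebraMap_apply A K L, σ.commutes])⟩
  haveI : Algebra.IsInvariant A B (L ≃ₐ[K] L) := ⟨fun b hb => by
    have hK : algebraMap B L b ∈ (⊥ : IntermediateField K L) := by
      rw [IsGalois.mem_bot_iff_fixed]
      intro σ
      rw [← hact, hb]
    obtain ⟨k, hk⟩ := IntermediateField.mem_bot.1 hK
    have hint : IsIntegral A k := by
      rw [← isIntegral_algHom_iff (IsScalarTower.toAlgHom A K L) (algebraMap K L).injective]
      show IsIntegral A (algebraMap K L k)
      rw [hk]
      exact (IsIntegralClosure.isIntegral A L b).map (IsScalarTower.toAlgHom A B L)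
    obtain ⟨a, ha⟩ := IsIntegrallyClosed.isIntegral_iff.1 hint
    refine ⟨a, hinjBL ?_⟩
    rw [← IsScalarTower.algebraMap_apply, IsScalarTower.algebraMap_apply A K L, ha, hk]⟩
  have hinjA : Function.Injective (algebraMap A B) := by
    have : Function.Injective (algebraMap A L) := by
      rw [IsScalarTower.algebraMap_eq A K L]
      exact (algebraMap K L).injective.comp (IsFractionRing.injective A K)
    rw [IsScalarTower.algebraMap_eq A B L, RingHom.coe_comp] at this
    exact this.of_comp
  obtain ⟨g, hg, het⟩ := Groth.Agent.InertiaEtaleLib.exists_etale_away_inertia (G := L ≃ₐ[K] L)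
    (S := A) (T := B') hinjA hinjB'B m hiff
  haveI : IsScalarTower A K F := inferInstance
  haveI : IsScalarTower A B' F := IsScalarTower.of_algebraMap_eq fun a => Subtype.ext (by
    show algebraMap A L a = algebraMap F L (algebraMap B' F (algebraMap A B' a))
    rw [← IsScalarTower.algebraMap_apply B' F L, IsScalarTower.algebraMap_apply B' B L,
      ← IsScalarTower.algebraMap_apply A B' B, ← IsScalarTower.algebraMap_apply A B L])
  haveI : Module.Finite A B' := IsIntegralClosure.finite A K F B'
  exact etale_atPrime A B' _ g hg het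

end Groth.Agent.S7139
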