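import Groth.Statements.S7140
import Mathlib
-- import your own Groth.Agent.* helpers here

set_option autoImplicit false
universe u
open EtAlg

namespace Groth.Agent.S7140

open Polynomial in
/-- Let p be a prime and A a ring with an element ζ satisfying 1 + ζ + ... + ζ^(p-1) = 0 (so that A is
an algebra over the ring of integers of the p-th cyclotomic field); set w = 1 - ζ. Then the
polynomial ((1 + wz)^p - 1)/w^p makes sense in A[z]: there is P in A[z] with w^p·P = (1 + wz)^p - 1,
of the form z^p - z + Σ_{0<i<p} a_i z^i with all a_i in the ideal (w), and P(z₁ + z₂ + w z₁ z₂) =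
P(z₁) + P(z₂) + w^p P(z₁)P(z₂) for all z₁, z₂ in any A-algebra. (The published statement asks only
for a primitive p-th root of unity; this row asks that ζ be a root of the p-th cyclotomic
polynomial, the case its proof treats. With ζ only of multiplicative order p the published statement
fails, for example for ζ = (1, e^{2πi/p}) in ℂ × ℂ.) -/
theorem result (p : ℕ) (hp : p.Prime) (A : Type u) [CommRing A] (ζ : A)
    (hζ : aeval ζ (cyclotomic p ℤ) = 0) :
    ∃ P : A[X], C ((1 - ζ) ^ p) * P = (1 + C (1 - ζ) * X) ^ p - 1 ∧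
      (∃ a : ℕ → A, (∀ i, a i ∈ Ideal.span {1 - ζ}) ∧
        P = X ^ p - X + (Finset.Ioo 0 p).sum (fun i => C (a i) * X ^ i)) ∧
      ∀ (S : Type u) [CommRing S] [Algebra A S] (z₁ z₂ : S),
        aeval (z₁ + z₂ + algebraMap A S (1 - ζ) * z₁ * z₂) P =
          aeval z₁ P + aeval z₂ P + algebraMap A S ((1 - ζ) ^ p) * aeval z₁ P * aeval z₂ P := by
  open Polynomial in classical
  haveI : Fact p.Prime := ⟨hp⟩
  have hirr : Irreducible (cyclotomic p ℤ) := cyclotomic.irreducible hp.pos
  haveI : IsDomain (AdjoinRoot (cyclotomic p ℤ)) := AdjoinRoot.isDomain_of_prime hirr.prime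
  let R0 := AdjoinRoot (cyclotomic p ℤ)
  let r : R0 := AdjoinRoot.root _
  have hdeg : (cyclotomic p ℤ).degree ≠ 0 := (degree_cyclotomic_pos p ℤ hp.pos).ne'
  have hp0 : (p : R0) ≠ 0 := fun h => by
    have h1 : AdjoinRoot.of (cyclotomic p ℤ) (p : ℤ) = 0 := by rw [map_natCast]; exact h
    have h2 := (map_eq_zero_iff _ (AdjoinRoot.of.injective_of_degree_ne_zero hdeg)).mp h1
    exact hp.ne_zero (by exact_mod_cast h2)
  haveI : NeZero (p : R0) := ⟨hp0⟩
  have hroot : (cyclotomic p R0).IsRoot r := by
    rw [← map_cyclotomic_int p R0, IsRoot, eval_map]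
    have := AdjoinRoot.eval₂_root (cyclotomic p ℤ)
    rwa [RingHom.ext_int (AdjoinRoot.of (cyclotomic p ℤ)) (Int.castRingHom R0)] at this
  have hr : IsPrimitiveRoot r p := isRoot_cyclotomic_iff.mp hroot
  set w : R0 := 1 - r with hw
  have hw0 : w ≠ 0 := sub_ne_zero.mpr (hr.ne_one hp.one_lt).symm
  obtain ⟨q, hq⟩ := Nat.exists_eq_succ_of_ne_zero hp.ne_zero
  rw [Nat.succ_eq_add_one] at hq
  let g : ℕ → R0 := fun i => ∑ j ∈ Finset.range (i + 1), r ^ j
  have hg : ∀ i, 1 - r ^ (i + 1) = w * g i := fun i => (mul_neg_geom_sum r (i + 1)).symm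
  let G : R0 := ∏ i ∈ Finset.range q, g i
  have hpw : (p : R0) = w ^ q * G := by
    have h1 := X_pow_sub_C_eq_prod hr hp.pos (one_pow p : (1 : R0) ^ p = 1)
    rw [C_1, ← cyclotomic_prime_mul_X_sub_one R0 p] at h1
    have h2 : cyclotomic p R0 = ∏ i ∈ Finset.range q, (X - C (r ^ (i + 1))) := by
      refine mul_right_cancel₀ (b := X - (1 : R0[X])) ?_ ?_
      · exact (monic_X_sub_C (1 : R0)).ne_zero ∘ (fun h => by rwa [C_1])
      · rw [h1, show Finset.range p = Finset.range (q + 1) by rw [hq], Finset.prod_range_succ']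
        simp
    have h3 := congrArg (Polynomial.eval (1 : R0)) h2
    rw [eval_one_cyclotomic_prime, eval_prod] at h3
    rw [h3]
    simp only [eval_sub, eval_X, eval_C, hg, Finset.prod_mul_distrib, Finset.prod_const, Finset.card_range, G]
  have hG : G + 1 ∈ Ideal.span {w} := by
    rw [← Ideal.Quotient.eq_zero_iff_mem]
    set π := Ideal.Quotient.mk (Ideal.span {w})
    have hπw : π w = 0 := Ideal.Quotient.eq_zero_iff_mem.mpr (Ideal.mem_span_singleton_self w)
    have hπr : π r = 1 := by
      have : r = 1 - w := by rw [hw]; ring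
      rw [this, map_sub, map_one, hπw, sub_zero]
    have hπp : ((p : ℕ) : R0 ⧸ Ideal.span {w}) = 0 := by
      rw [← map_natCast π, hpw, map_mul, map_pow, hπw, zero_pow (by
        have := hp.two_le; omega), zero_mul]
    rw [map_add, map_one, map_prod]
    have : ∀ i, π (g i) = ((i + 1 : ℕ) : R0 ⧸ Ideal.span {w}) := fun i => by
      simp [g, hπr]
    simp only [this]
    rw [← Nat.cast_prod, Finset.prod_range_add_one_eq_factorial]
    obtain ⟨c, hc⟩ : p ∣ q.factorial + 1 := by
      rw [← ZMod.natCast_eq_zero_iff, Nat.cast_add, Nat.cast_one, show q = p - 1 by omega,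
        ZMod.wilsons_lemma, neg_add_cancel]
    rw [← Nat.cast_one, ← Nat.cast_add, hc, Nat.cast_mul, hπp, zero_mul]
  let a : ℕ → R0 := fun i => if i = 1 then G + 1 else
    if 2 ≤ i then ((p.choose i / p : ℕ) : R0) * w ^ (i - 1) * G else 0
  have hamem : ∀ i, a i ∈ Ideal.span {w} := fun i => by
    simp only [a]
    split_ifs with h1 h2
    · exact hG
    · exact Ideal.mul_mem_right _ _ (Ideal.mul_mem_left _ _
        (Ideal.pow_mem_of_mem _ (Ideal.mem_span_singleton_self w) _ (by omega)))
    · exact zero_mem _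
  let P : R0[X] := X ^ p - X + (Finset.Ioo 0 p).sum (fun i => C (a i) * X ^ i)
  have hP : C (w ^ p) * P = (1 + C w * X) ^ p - 1 := by
    rw [add_comm (1 : R0[X]) (C w * X), add_pow]
    have hset : Finset.range (p + 1) = insert p (insert 0 (Finset.Ioo 0 p)) := by
      ext i; simp; omega
    rw [hset, Finset.sum_insert (by simp; exact hp.ne_zero), Finset.sum_insert (by simp)]
    have h1mem : 1 ∈ Finset.Ioo 0 p := by simp [hp.one_lt]
    have hterm : ∀ i ∈ Finset.Ioo 0 p,
        (C w * X) ^ i * 1 ^ (p - i) * ((p.choose i : ℕ) : R0[X]) =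
          C (w ^ p) * (C (a i) * X ^ i) - (if i = 1 then C (w ^ p) * X else 0) := by
      intro i hi
      obtain ⟨h0, hlt⟩ := Finset.mem_Ioo.mp hi
      obtain ⟨c, hc⟩ := hp.dvd_choose_self h0.ne' hlt
      have hci : p.choose i / p = c := by rw [hc, Nat.mul_div_cancel_left _ hp.pos]
      have hcast : ((p.choose i : ℕ) : R0[X]) = C (w ^ q * G) * C ((c : ℕ) : R0) := by
        rw [← map_mul, ← hpw, ← Nat.cast_mul, ← hc, map_natCast]
      rw [hcast, one_pow, mul_one, mul_pow, ← map_pow]
      by_cases hi1 : i = 1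
      · subst hi1
        have hc1 : c = 1 := by
          rw [Nat.choose_one_right] at hc
          exact (mul_left_cancel₀ hp.ne_zero (by omega : p * c = p * 1))
        simp only [a, if_true, hc1, Nat.cast_one, map_one, mul_one, pow_one, map_add]
        rw [show w ^ p = w ^ q * w by rw [← pow_succ]; exact congrArg (w ^ ·) hq]
        simp only [map_mul, map_add, map_one]
        ring
      · rw [if_neg hi1, sub_zero]
        simp only [a, if_neg hi1, if_pos (show 2 ≤ i by omega), hci]
        have he : w ^ i * w ^ q = w ^ p * w ^ (i - 1) := by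
          rw [← pow_add, ← pow_add]; congr 1; omega
        rw [show C (w ^ i) * X ^ i * (C (w ^ q * G) * C ((c : ℕ) : R0)) =
          (C (w ^ i) * C (w ^ q)) * C G * C ((c : ℕ) : R0) * X ^ i by rw [map_mul]; ring, ← map_mul, he]
        simp only [map_mul]; ring
    rw [Finset.sum_congr rfl hterm, Finset.sum_sub_distrib, Finset.sum_ite_eq' _ 1, if_pos h1mem,
      ← Finset.mul_sum]
    simp only [P, Nat.choose_self, Nat.cast_one, Nat.choose_zero_right, pow_zero, Nat.sub_self,
      Nat.sub_zero, one_pow, mul_one, one_mul, mul_pow, map_pow]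
    ring
  let φ : R0 →+* A := AdjoinRoot.lift (Int.castRingHom A) ζ (by simpa [aeval_def] using hζ)
  have hφw : φ w = 1 - ζ := by
    rw [hw, map_sub, map_one]
    exact congrArg (1 - ·) (AdjoinRoot.lift_root _)
  refine ⟨P.map φ, ?_, ⟨fun i => φ (a i), fun i => ?_, ?_⟩, fun S _ _ z₁ z₂ => ?_⟩
  · have h := congrArg (Polynomial.map φ) hP
    simp only [Polynomial.map_mul, map_C, map_pow, hφw, Polynomial.map_sub, Polynomial.map_pow,
      Polynomial.map_add, Polynomial.map_one, map_X] at h
    simpa only [map_pow] using h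
  · obtain ⟨b, hb⟩ := Ideal.mem_span_singleton'.mp (hamem i)
    exact Ideal.mem_span_singleton'.mpr ⟨φ b, by rw [← hφw, ← map_mul, hb]⟩
  · simp [P, Polynomial.map_sum]
  · let y : Fin 2 → MvPolynomial (Fin 2) R0 := MvPolynomial.X
    let W : MvPolynomial (Fin 2) R0 := MvPolynomial.C w
    have hev : ∀ u : MvPolynomial (Fin 2) R0, W ^ p * aeval u P = (1 + W * u) ^ p - 1 := fun u => by
      have h := congrArg (aeval u) hP
      simpa [W] using h
    have huniv : aeval (y 0 + y 1 + W * y 0 * y 1) P =
        aeval (y 0) P + aeval (y 1) P + W ^ p * aeval (y 0) P * aeval (y 1) P := by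
      apply mul_left_cancel₀ (pow_ne_zero p (show W ≠ 0 by simpa [W] using hw0))
      have h0 := hev (y 0 + y 1 + W * y 0 * y 1)
      rw [show 1 + W * (y 0 + y 1 + W * y 0 * y 1) = (1 + W * y 0) * (1 + W * y 1) by ring, mul_pow,
        show (1 + W * y 0) ^ p = W ^ p * aeval (y 0) P + 1 by rw [hev]; ring,
        show (1 + W * y 1) ^ p = W ^ p * aeval (y 1) P + 1 by rw [hev]; ring] at h0
      linear_combination h0
    let ψ : MvPolynomial (Fin 2) R0 →+* S :=
      MvPolynomial.eval₂Hom ((algebraMap A S).comp φ) ![z₁, z₂]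
    have hψ : ∀ u, ψ (aeval u P) = aeval (ψ u) (P.map φ) := fun u => by
      rw [aeval_def, Polynomial.hom_eval₂, aeval_def, eval₂_map]
      congr 1
      refine RingHom.ext fun c => ?_
      simp [ψ]
    have h := congrArg ψ huniv
    simp only [map_add, map_mul, hψ, map_pow] at h
    simpa [ψ, y, W, hφw] using h

end Groth.Agent.S7140
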