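import Groth.Statements.S7141
import Groth.Agent.WEField.Etale
import Groth.Agent.WLocalLib.Reduced
-- import your own Groth.Agent.* helpers here

set_option autoImplicit false
universe u
open EtAlg

namespace Groth.Agent.S7141

/-- Let K be a field and, for a K-algebra A, let B_max(A) be its largest weakly étale K-subalgebra. (2)
For a K-subalgebra A' ⊆ A one has B_max(A') = B_max(A) ∩ A'. (4) The quotient map A → A_red =
A/nilradical restricts to a bijection B_max(A) → B_max(A_red). (6) If A ≠ 0 and its only idempotents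
are 0 and 1, then B_max(A) is a field, algebraic and separable over K. (The published statement
omits A ≠ 0; this row assumes it, since for A = 0 the largest weakly étale subalgebra is the zero
ring.) -/
theorem result (K : Type u) [Field K] (A : Type u) [CommRing A] [Algebra K A] :
    (∀ A' : Subalgebra K A,
      (EtAlgD.maxWeaklyEtale K A').map A'.val = EtAlgD.maxWeaklyEtale K A ⊓ A') ∧
    (Set.BijOn (Ideal.Quotient.mkₐ K (nilradical A)) (EtAlgD.maxWeaklyEtale K A)
      (EtAlgD.maxWeaklyEtale K (A ⧸ nilradical A))) ∧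
    ((∀ e : A, IsIdempotentElem e → e = 0 ∨ e = 1) → Nontrivial A →
      IsField (EtAlgD.maxWeaklyEtale K A) ∧ Algebra.IsSeparable K (EtAlgD.maxWeaklyEtale K A)) := by
  have hle : ∀ {A : Type u} [CommRing A] [Algebra K A] (S : Subalgebra K A), Algebra.WeaklyEtale K S →
      S ≤ EtAlgD.maxWeaklyEtale K A := fun S hS => le_sSup hS
  have hmax : ∀ (A : Type u) [CommRing A] [Algebra K A], Algebra.WeaklyEtale K (EtAlgD.maxWeaklyEtale K A) := by
    intro A _ _
    refine WEField.weaklyEtale_sSup _ ⟨⊥, ?_⟩ ?_ fun S hS => hS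
    · show Algebra.WeaklyEtale K ↥(⊥ : Subalgebra K A)
      exact WEField.weaklyEtale_of_surjective ((Algebra.ofId K A).codRestrict ⊥ fun k => (⊥ : Subalgebra K A).algebraMap_mem k)
        (fun x => by
          obtain ⟨k, hk⟩ := Algebra.mem_bot.1 x.2
          exact ⟨k, Subtype.ext hk⟩)
    · intro S hS T hT
      haveI : Algebra.WeaklyEtale K S := hS
      haveI : Algebra.WeaklyEtale K T := hT
      exact ⟨S ⊔ T, WEField.weaklyEtale_sup S T, le_sup_left, le_sup_right⟩
  haveI hM := hmax A
  have himg : ∀ {A A' : Type u} [CommRing A] [CommRing A'] [Algebra K A] [Algebra K A'] (φ : A →ₐ[K] A')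
      (S : Subalgebra K A), Algebra.WeaklyEtale K S → Algebra.WeaklyEtale K (S.map φ) := by
    intro A A' _ _ _ _ φ S hS
    haveI := hS
    exact WEField.weaklyEtale_of_surjective
      ((φ.comp S.val).codRestrict (S.map φ) fun s => ⟨s, s.2, rfl⟩)
      (fun ⟨_, x, hx, rfl⟩ => ⟨⟨x, hx⟩, rfl⟩)
  haveI := WLocalLib.isReduced_of_weaklyEtale K (EtAlgD.maxWeaklyEtale K A)
  refine ⟨fun A' => le_antisymm (le_inf (hle _ (himg A'.val _ (hmax A'))) ?_) ?_, ⟨?_, ?_, ?_⟩, fun hid hA => ?_⟩
  · rintro _ ⟨x, -, rfl⟩; exact x.2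
  · intro x hx
    obtain ⟨h1, h2⟩ := Algebra.mem_inf.1 hx
    let φ : ↥(EtAlgD.maxWeaklyEtale K A ⊓ A') →ₐ[K] A' := Subalgebra.inclusion inf_le_right
    haveI : Algebra.WeaklyEtale K ↥(EtAlgD.maxWeaklyEtale K A ⊓ A') :=
      WEField.weaklyEtale_of_injective (Subalgebra.inclusion (inf_le_left : EtAlgD.maxWeaklyEtale K A ⊓ A' ≤ _))
        (Subalgebra.inclusion_injective _)
    have : Algebra.WeaklyEtale K φ.range :=
      WEField.weaklyEtale_of_surjective φ.rangeRestrict (fun ⟨_, y, hy⟩ => ⟨y, Subtype.ext hy⟩)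
    exact ⟨⟨x, h2⟩, hle φ.range this ⟨⟨x, hx⟩, rfl⟩, rfl⟩
  · intro x hx
    exact hle _ (himg (Ideal.Quotient.mkₐ K (nilradical A)) _ hM) ⟨x, hx, rfl⟩
  · intro x hx y hy hxy
    have hn : IsNilpotent (⟨x, hx⟩ - ⟨y, hy⟩ : EtAlgD.maxWeaklyEtale K A) :=
      (IsNilpotent.map_iff (f := (EtAlgD.maxWeaklyEtale K A).val) Subtype.val_injective).1
        (by rw [map_sub]; exact Ideal.Quotient.eq.1 hxy)
    exact congrArg Subtype.val (sub_eq_zero.1 hn.eq_zero)
  · intro z hz
    haveI := hmax (A ⧸ nilradical A)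
    let ev : Polynomial K →ₐ[K] A ⧸ nilradical A := Polynomial.aeval z
    haveI : Algebra.WeaklyEtale K ev.range :=
      WEField.weaklyEtale_of_injective (Subalgebra.inclusion
        (show ev.range ≤ EtAlgD.maxWeaklyEtale K (A ⧸ nilradical A) by
          rw [← Algebra.adjoin_singleton_eq_range_aeval]; exact Algebra.adjoin_le (Set.singleton_subset_iff.2 hz)))
        (Subalgebra.inclusion_injective _)
    haveI : Algebra.Etale K ev.range := by
      haveI : Algebra.FiniteType K ev.range := Algebra.FiniteType.of_surjective ev.rangeRestrict ev.rangeRestrict_surjective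
      haveI := WEField.formallyUnramified_of_weaklyEtale K ev.range
      haveI : Algebra.FormallyEtale K ev.range := Algebra.FormallyEtale.of_formallyUnramified_of_field K ev.range
      exact ⟨inferInstance, Algebra.FinitePresentation.of_finiteType.1 inferInstance⟩
    obtain ⟨x, hx⟩ := Ideal.Quotient.mk_surjective z
    have hint : IsIntegral K z := (isIntegral_algHom_iff ev.range.val Subtype.val_injective).2
      ((WEField.isIntegral_of_weaklyEtale (K := K) ev.range).isIntegral
        ⟨z, ⟨Polynomial.X, Polynomial.aeval_X z⟩⟩)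
    let J : Ideal A := Ideal.span {Polynomial.aeval x (minpoly K z)}
    have hJ : IsNilpotent J := by
      have h0 : IsNilpotent (Polynomial.aeval x (minpoly K z)) := by
        rw [← mem_nilradical, ← Ideal.Quotient.eq_zero_iff_mem, ← Ideal.Quotient.mkₐ_eq_mk K,
          ← Polynomial.aeval_algHom_apply, Ideal.Quotient.mkₐ_eq_mk K, hx, minpoly.aeval]
      obtain ⟨m, hm⟩ := h0
      exact ⟨m, by rw [Ideal.span_singleton_pow, hm, Ideal.zero_eq_bot, Ideal.span_singleton_eq_bot]⟩
    let q : Polynomial K →ₐ[K] A ⧸ J := (Ideal.Quotient.mkₐ K J).comp (Polynomial.aeval x)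
    have hker : RingHom.ker ev.rangeRestrict.toRingHom ≤ RingHom.ker q.toRingHom := by
      intro p hp
      have hp' : Polynomial.aeval z p = 0 := congrArg Subtype.val hp
      obtain ⟨r, rfl⟩ := minpoly.dvd K z hp'
      show Ideal.Quotient.mk J (Polynomial.aeval x (minpoly K z * r)) = 0
      rw [map_mul, Ideal.Quotient.eq_zero_iff_mem]
      exact Ideal.mul_mem_right _ _ (Ideal.mem_span_singleton_self _)
    let g0 : ev.range →ₐ[K] A ⧸ J :=
      AlgHom.liftOfSurjective ev.rangeRestrict ev.rangeRestrict_surjective q hker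
    obtain ⟨m, hm⟩ := hJ
    let g : ev.range →ₐ[K] A := Algebra.FormallySmooth.lift J ⟨m, hm⟩ g0
    haveI : Algebra.WeaklyEtale K g.range :=
      WEField.weaklyEtale_of_surjective g.rangeRestrict g.rangeRestrict_surjective
    refine ⟨g (ev.rangeRestrict Polynomial.X), hle g.range inferInstance ⟨_, rfl⟩, ?_⟩
    have h1 : Ideal.Quotient.mk J (g (ev.rangeRestrict Polynomial.X)) = Ideal.Quotient.mk J x := by
      rw [Algebra.FormallySmooth.mk_lift]
      exact (AlgHom.liftOfSurjective_apply _ _ _ _ _).trans (congrArg (Ideal.Quotient.mk J) (Polynomial.aeval_X x))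
    rw [← hx]
    refine Ideal.Quotient.eq.2 ((Ideal.span_singleton_le_iff_mem _).2 ?_ (Ideal.Quotient.eq.1 h1))
    rw [← Ideal.Quotient.eq_zero_iff_mem, ← Ideal.Quotient.mkₐ_eq_mk K, ← Polynomial.aeval_algHom_apply,
      Ideal.Quotient.mkₐ_eq_mk K, hx, minpoly.aeval]
  · have hF : IsField (EtAlgD.maxWeaklyEtale K A) := by
      refine ⟨⟨0, 1, fun h => hA.exists_pair_ne.elim fun a ⟨b, hab⟩ => hab (by
        have h' : (0 : A) = 1 := congrArg Subtype.val h
        rw [← mul_one a, ← mul_one b, ← h', mul_zero, mul_zero])⟩, mul_comm, fun {a} ha => ?_⟩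
      have hflat : Module.Flat (EtAlgD.maxWeaklyEtale K A) (↥(EtAlgD.maxWeaklyEtale K A) ⧸ Ideal.span {a}) :=
        WLocalLib.flat_of_weaklyEtale (A := K) _
      obtain ⟨s, hs, hsa⟩ := WLocalLib.exists_kill
        (φ := algebraMap (EtAlgD.maxWeaklyEtale K A) (↥(EtAlgD.maxWeaklyEtale K A) ⧸ Ideal.span {a}))
        ((RingHom.flat_algebraMap_iff).2 hflat) Ideal.Quotient.mk_surjective a
        (Ideal.Quotient.eq_zero_iff_mem.2 (Ideal.mem_span_singleton_self _))
      obtain ⟨c, hc⟩ := Ideal.mem_span_singleton'.1 (Ideal.Quotient.eq.1 (hs.trans (map_one _).symm))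
      have he : IsIdempotentElem (-(c * a)) := by
        show -(c * a) * -(c * a) = -(c * a)
        linear_combination c * hsa + (c * a) * hc
      rcases hid _ (congrArg Subtype.val he : IsIdempotentElem ((-(c * a) : EtAlgD.maxWeaklyEtale K A) : A)) with h | h
      · exfalso
        have h0 : -(c * a) = 0 := Subtype.ext h
        refine ha ?_
        linear_combination hsa + a * hc + a * h0
      · exact ⟨-c, Subtype.ext ((by push_cast; ring : ((a * -c : EtAlgD.maxWeaklyEtale K A) : A) = ((-(c * a) : EtAlgD.maxWeaklyEtale K A) : A)).trans h)⟩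
    refine ⟨hF, ?_⟩
    letI := hF.toField
    exact ⟨Groth.Agent.S0426Aux.isSeparable⟩

end Groth.Agent.S7141
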