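import Groth.Statements.S7142
import Groth.Agent.KZeroLib.PerfRing
-- import your own Groth.Agent.* helpers here

set_option autoImplicit false
set_option backward.isDefEq.respectTransparency false
universe u
open CategoryTheory CategoryTheory.Limits
attribute [local instance] HasDerivedCategory.standard
open KZero

namespace Groth.Agent.S7142

/-- Let R be a ring. There is an isomorphism K₀(R) ≅ K₀(D_perf(R)) between the Grothendieck group of
finite projective R-modules and that of the triangulated category of perfect objects of D(R),
sending the class of a finite projective module M to the class of M placed in degree 0; under its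
inverse the class of a bounded complex M^• of finite projective modules (vanishing outside [a, b])
goes to Σ_i (-1)^i [M^i]. -/
theorem result (R : Type u) [CommRing R] :
    ∃ φ : KZero.K0sub (fun M : ModuleCat.{u} R => Module.Finite R M ∧ Module.Projective R M) ≃+
        KZero.K0tr (fun K : Dual.D R => DRing.IsPerfect R K),
      (∀ (M : Type u) [AddCommGroup M] [Module R M], Module.Finite R M → Module.Projective R M →
        φ (KZero.clSub (fun M : ModuleCat.{u} R => Module.Finite R M ∧ Module.Projective R M) (ModuleCat.of R M)) =
          KZero.clTr (fun K : Dual.D R => DRing.IsPerfect R K) (Dual.inD R M)) ∧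
      ∀ (E : DRing.Cx R) (a b : ℤ), DRing.VanishesOutside E a b → DRing.TermwiseFiniteProjective E →
        φ.symm (KZero.clTr (fun K : Dual.D R => DRing.IsPerfect R K) (DRing.toD E)) =
          (Finset.Icc a b).sum (fun i => (i.negOnePow : ℤ) •
            KZero.clSub (fun M : ModuleCat.{u} R => Module.Finite R M ∧ Module.Projective R M) (E.X i)) := by
  open Groth.Agent.KZeroLib Groth.Agent.DRingLib in
  refine ⟨PerfRing.equiv, fun M _ _ h1 h2 => ?_, fun E a b hab hE => ?_⟩
  · have hM : PerfRing.P (ModuleCat.of R M) := ⟨h1, h2⟩
    show PerfRing.toTr (KZero.clSub PerfRing.P (ModuleCat.of R M)) = _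
    rw [PerfRing.toTr_clSub hM]
    exact (clTr_iso PerfRing.isPerfect_zero ((DerivedCategory.singleFunctorIsoCompQ (ModuleCat.{u} R) 0).app (ModuleCat.of R M))
      (PerfRing.isPerfect_of_iso ((DerivedCategory.singleFunctorIsoCompQ (ModuleCat.{u} R) 0).app (ModuleCat.of R M)).symm
        (PerfRing.isPerfect_single₀ hM)) (PerfRing.isPerfect_single₀ hM))
  · have hE' : Bdd FProj E := ⟨⟨a, b, hab⟩, hE⟩
    show PerfRing.toSub _ = _
    rw [PerfRing.toSub_clTr ((isPerfect_iff _).2 ⟨E, hE', ⟨Iso.refl _⟩⟩), PerfRing.chi_eq hE' (Iso.refl _)]
    refine finsum_eq_sum_of_support_subset _ fun i hi => ?_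
    by_contra hne
    simp only [Finset.coe_Icc, Set.mem_Icc, not_and_or, not_le] at hne
    exact hi (show (i.negOnePow : ℤ) • KZero.clSub PerfRing.P (E.X i) = 0 by rw [PerfRing.cl_isZero (hab i hne), smul_zero])

end Groth.Agent.S7142
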