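import Groth.Statements.S7143
import Mathlib
import Groth.Agent.WeakDimOne.Basic

namespace Groth.Agent.S7143

universe w

variable {ι : Type w} (R : ι → Type w) [∀ i, CommRing (R i)] [∀ i, IsDomain (R i)]

/-- Families without a zero component. -/
def nonZeroDivisorsPi : Submonoid (∀ i, R i) where
  carrier := {s | ∀ i, s i ≠ 0}
  mul_mem' ha hb i := mul_ne_zero (ha i) (hb i)
  one_mem' _ := one_ne_zero

theorem flat_of_fg_ideal [∀ i, ValuationRing (R i)] (I : Ideal (∀ i, R i)) (hI : I.FG) : Module.Flat (∀ i, R i) I := by
  classical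
  have hprinc : ∃ x, I = Ideal.span {x} := by
    induction I, hI using Submodule.fg_induction with
    | singleton x => exact ⟨x, rfl⟩
    | sup I₁ I₂ _ _ h₁ h₂ =>
      obtain ⟨x, rfl⟩ := h₁
      obtain ⟨y, rfl⟩ := h₂
      let z : ∀ i, R i := fun i => if x i ∣ y i then x i else y i
      have hdiv : ∀ i, z i ∣ x i ∧ z i ∣ y i := fun i => by
        simp only [z]
        split_ifs with h
        · exact ⟨dvd_rfl, h⟩
        · exact ⟨(ValuationRing.dvd_total (x i) (y i)).resolve_left h, dvd_rfl⟩
      obtain ⟨c, hc⟩ : z ∣ y := ⟨fun i => (hdiv i).2.choose, funext fun i => (hdiv i).2.choose_spec⟩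
      refine ⟨z, le_antisymm (sup_le ?_ ?_) ?_⟩
      · rw [Ideal.span_singleton_le_span_singleton]
        exact ⟨fun i => (hdiv i).1.choose, funext fun i => (hdiv i).1.choose_spec⟩
      · rw [Ideal.span_singleton_le_span_singleton]
        exact ⟨c, hc⟩
      · rw [Ideal.span_singleton_le_iff_mem]
        let e : ∀ i, R i := fun i => if x i ∣ y i then 1 else 0
        have : z = e * x + (1 - e) * y := funext fun i => by
          simp only [z, e, Pi.add_apply, Pi.mul_apply, Pi.sub_apply, Pi.one_apply]
          split_ifs <;> ring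
        rw [this]
        exact Submodule.add_mem_sup (Ideal.mem_span_singleton'.2 ⟨e, rfl⟩) (Ideal.mem_span_singleton'.2 ⟨1 - e, rfl⟩)
  obtain ⟨x, rfl⟩ := hprinc
  let e : ∀ i, R i := fun i => if x i = 0 then 0 else 1
  have hex : e * x = x := funext fun i => by simp only [e, Pi.mul_apply]; split_ifs with h <;> simp [h]
  let φ : (∀ i, R i) →ₗ[∀ i, R i] Ideal.span {x} :=
    LinearMap.toSpanSingleton _ _ ⟨x, Ideal.mem_span_singleton_self x⟩
  have hφ : Function.Surjective φ := fun y => by
    obtain ⟨a, ha⟩ := Ideal.mem_span_singleton'.1 y.2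
    exact ⟨a, Subtype.ext ha⟩
  have hker : ∀ a, φ a = 0 → a * e = 0 := fun a ha => funext fun i => by
    have := congrFun (congrArg Subtype.val ha) i
    simp only [e, Pi.mul_apply, Pi.zero_apply]
    split_ifs with h
    · simp
    · have h' : a i * x i = 0 := this
      simpa using (mul_eq_zero.1 h').resolve_right h
  let back : Ideal.span {x} → (∀ i, R i) := fun y => (Function.surjInv hφ y) * e
  have hback : ∀ a, back (φ a) = a * e := fun a => by
    have h := hker (Function.surjInv hφ (φ a) - a) (by rw [map_sub, Function.surjInv_eq hφ, sub_self])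
    rwa [sub_mul, sub_eq_zero] at h
  let ψ : Ideal.span {x} →ₗ[∀ i, R i] (∀ i, R i) :=
    { toFun := back
      map_add' := fun y₁ y₂ => by
        obtain ⟨a, rfl⟩ := hφ y₁
        obtain ⟨b, rfl⟩ := hφ y₂
        rw [← map_add, hback, hback, hback, add_mul]
      map_smul' := fun r y => by
        obtain ⟨a, rfl⟩ := hφ y
        rw [RingHom.id_apply, ← map_smul, hback, hback, smul_eq_mul, smul_eq_mul, mul_assoc] }
  haveI : Module.Projective (∀ i, R i) (Ideal.span {x}) := by
    refine Module.Projective.of_split ψ φ (LinearMap.ext fun y => ?_)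
    obtain ⟨a, rfl⟩ := hφ y
    change φ (back (φ a)) = φ a
    rw [hback, mul_comm, ← smul_eq_mul, map_smul]
    apply Subtype.ext
    change e * (a * x) = a * x
    rw [mul_left_comm, hex]
  infer_instance

end Groth.Agent.S7143


set_option autoImplicit false
universe u
open CategoryTheory
open EtAlg

namespace Groth.Agent.S7143

/-- Every normal domain A with fraction field K is the fibre product V ×_L K for suitable rings V and L
with maps A → V, V → L, K → L (together with the given A → K), where every ideal of V is flat (weak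
dimension at most one) and V → L is flat, injective and an epimorphism of rings. -/
theorem result (A K : Type u) [CommRing A] [IsDomain A] [Field K] [Algebra A K]
    [IsFractionRing A K] [IsIntegrallyClosed A] :
    ∃ (V L : Type u) (_ : CommRing V) (_ : CommRing L) (f : A →+* V) (g : V →+* L) (h : K →+* L),
      g.comp f = h.comp (algebraMap A K) ∧
      (∀ I : Ideal V, Module.Flat V I) ∧ g.Flat ∧ Function.Injective g ∧ Epi (CommRingCat.ofHom g) ∧
      ∀ (v : V) (k : K), g v = h k → ∃! a : A, f a = v ∧ algebraMap A K a = k := by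
  classical
  let ι := {V : ValuationSubring K // (algebraMap A K).range ≤ V.toSubring}
  let V := (i : ι) → (i.1 : ValuationSubring K)
  let L := ι → K
  let f : A →+* V := Pi.ringHom fun i => (algebraMap A K).codRestrict i.1.toSubring fun a => i.2 ⟨a, rfl⟩
  let g : V →+* L := Pi.ringHom fun i => i.1.toSubring.subtype.comp (Pi.evalRingHom _ i)
  let h : K →+* L := Pi.ringHom fun _ => RingHom.id K
  refine ⟨V, L, inferInstance, inferInstance, f, g, h, rfl, ?_, ?_⟩
  · refine Groth.Agent.WeakDimOne.flat_of_forall_fg_ideal_flat fun I hI => ?_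
    exact flat_of_fg_ideal (fun i : ι => (i.1 : ValuationSubring K)) I hI
  letI : Algebra V L := g.toAlgebra
  haveI hloc : IsLocalization (nonZeroDivisorsPi (fun i : ι => (i.1 : ValuationSubring K))) L :=
    { map_units := fun s => by
        refine Pi.isUnit_iff.2 fun i => isUnit_iff_ne_zero.2 fun h0 => s.2 i ?_
        exact Subtype.ext h0
      surj := fun z => by
        have hz : ∀ i : ι, ∃ (a b : (i.1 : ValuationSubring K)), b ≠ 0 ∧ z i * (b : K) = (a : K) := fun i => by
          rcases i.1.mem_or_inv_mem (z i) with h1 | h1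
          · exact ⟨⟨z i, h1⟩, 1, one_ne_zero, by simp⟩
          · by_cases h0 : z i = 0
            · exact ⟨0, 1, one_ne_zero, by simp [h0]⟩
            · exact ⟨1, ⟨(z i)⁻¹, h1⟩, fun e => inv_ne_zero h0 (congrArg Subtype.val e), by simp [h0]⟩
        choose a b hb hab using hz
        exact ⟨(a, ⟨b, hb⟩), funext fun i => hab i⟩
      exists_of_eq := fun {x y} hxy => ⟨1, by
        rw [OneMemClass.coe_one, one_mul, one_mul]
        exact funext fun i => Subtype.ext (congrFun hxy i)⟩ }
  refine ⟨?_, ?_, ?_, ?_⟩
  · exact RingHom.flat_algebraMap_iff.2 (IsLocalization.flat L (nonZeroDivisorsPi (fun i : ι => (i.1 : ValuationSubring K))))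
  · exact fun x y hxy => funext fun i => Subtype.ext (congrFun hxy i)
  · refine ⟨fun {Z} u v huv => CommRingCat.hom_ext ?_⟩
    exact IsLocalization.ringHom_ext (nonZeroDivisorsPi (fun i : ι => (i.1 : ValuationSubring K)))
      (congrArg CommRingCat.Hom.hom huv)
  · intro v x hvx
    have hx : x ∈ (algebraMap A K).range := by
      haveI : IsIntegrallyClosedIn (algebraMap A K).range K := by
        refine Subring.isIntegrallyClosedIn_iff.2 fun {y} hy => ?_
        have hy' : IsIntegral A y := by
          obtain ⟨p, hp, hpy⟩ := hy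
          obtain ⟨q, hq, hqd, hqm⟩ := Polynomial.lifts_and_degree_eq_and_monic
            (f := (algebraMap A K).rangeRestrict) (Polynomial.map_surjective _ (algebraMap A K).rangeRestrict_surjective p) hp
          refine ⟨q, hqm, ?_⟩
          rw [← hpy, ← hq, Polynomial.eval₂_map]
          rfl
        obtain ⟨a, ha⟩ := IsIntegrallyClosed.isIntegral_iff.1 hy'
        exact ⟨a, ha⟩
      rw [Subring.eq_iInf_of_isIntegrallyClosedIn (R := (algebraMap A K).range), Subring.mem_iInf]
      intro i
      have : ((v i : (i.1 : ValuationSubring K)) : K) = x := congrFun hvx i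
      exact this ▸ (v i).2
    obtain ⟨a, rfl⟩ := hx
    refine ⟨a, ⟨funext fun i => Subtype.ext (congrFun hvx i).symm, rfl⟩, fun b hb => ?_⟩
    exact IsFractionRing.injective A K hb.2


end Groth.Agent.S7143
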