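import Groth.Statements.S7144

set_option autoImplicit false
universe u
open CAlg

namespace Groth.Agent.S7144

/-- (1) ⇔ (2): let R be a nonzero ring. Then for all a, b in R one of a, b divides the other if and only
if R is local and every finitely generated ideal of R is principal. (The further equivalence with
the total ordering of the set of ideals by inclusion is standard and not restated here.) -/
theorem result (R : Type u) [CommRing R] [Nontrivial R] :
    PreValuationRing R ↔ IsLocalRing R ∧ IsBezout R := by
  constructor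
  · intro h
    refine ⟨IsLocalRing.of_nonunits_add ?_, ?_⟩
    · intro a b ha hb hab
      obtain ⟨c, rfl | rfl⟩ := PreValuationRing.cond a b
      · rw [show a + a * c = a * (1 + c) by ring] at hab
        exact ha (isUnit_of_mul_isUnit_left hab)
      · rw [show b * c + b = b * (c + 1) by ring] at hab
        exact hb (isUnit_of_mul_isUnit_left hab)
    · rw [IsBezout.iff_span_pair_isPrincipal]
      intro a b
      obtain ⟨c, rfl | rfl⟩ := PreValuationRing.cond a b
      · rw [Ideal.span_insert, sup_eq_left.mpr (Ideal.span_singleton_le_span_singleton.mpr ⟨c, rfl⟩)]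
        exact ⟨⟨_, rfl⟩⟩
      · rw [Ideal.span_insert, sup_eq_right.mpr (Ideal.span_singleton_le_span_singleton.mpr ⟨c, rfl⟩)]
        exact ⟨⟨_, rfl⟩⟩
  · rintro ⟨hl, hb⟩
    refine ⟨fun a b => ?_⟩
    obtain ⟨g, e⟩ := (IsBezout.span_pair_isPrincipal a b).principal
    rw [Ideal.submodule_span_eq] at e
    obtain ⟨x, rfl⟩ := Ideal.mem_span_singleton'.mp (e ▸ Ideal.subset_span (by simp) : a ∈ Ideal.span {g})
    obtain ⟨y, rfl⟩ := Ideal.mem_span_singleton'.mp (e ▸ Ideal.subset_span (by simp) : b ∈ Ideal.span {g})
    obtain ⟨u, v, h⟩ := Ideal.mem_span_pair.mp (e.symm ▸ Ideal.mem_span_singleton_self g : g ∈ Ideal.span {x * g, y * g})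
    rcases IsLocalRing.isUnit_or_isUnit_one_sub_self (u * x + v * y) with hu | hu
    · rcases IsLocalRing.isUnit_or_isUnit_of_isUnit_add hu with h' | h'
      · obtain ⟨z, hz⟩ := (isUnit_of_mul_isUnit_right h').exists_left_inv
        exact ⟨z * y, Or.inl (by linear_combination (y * g) * hz)⟩
      · obtain ⟨z, hz⟩ := (isUnit_of_mul_isUnit_right h').exists_left_inv
        exact ⟨z * x, Or.inr (by linear_combination (x * g) * hz)⟩
    · obtain ⟨z, hz⟩ := hu.exists_left_inv
      have : g = 0 := by linear_combination (-g) * hz - z * h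
      exact ⟨0, Or.inl (by rw [this]; ring)⟩

end Groth.Agent.S7144
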