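import Groth.Statements.S7145
import Mathlib

set_option autoImplicit false
universe u
open CategoryTheory CategoryTheory.Limits
open CAlg

namespace Groth.Agent.S7145

/-- Let R be a ring and F a cochain complex of free R-modules that is zero in all sufficiently large
degrees. Given finitely many elements f_i of F, f_i lying in degree n_i, there is a subcomplex G of
F (a map of complexes G → F injective in every degree) through which every f_i passes, such that G
is zero outside a finite range of degrees and each term of G is a finitely generated free R-module. -/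
theorem result (R : Type u) [CommRing R]
    (F : CochainComplex (ModuleCat.{u} R) ℤ) (hfree : ∀ n : ℤ, Module.Free R (F.X n))
    (b : ℤ) (hb : ∀ n : ℤ, b < n → IsZero (F.X n))
    (N : ℕ) (deg : Fin N → ℤ) (f : ∀ i : Fin N, F.X (deg i)) :
    ∃ (G : CochainComplex (ModuleCat.{u} R) ℤ) (ι : G ⟶ F),
      (∀ n : ℤ, Function.Injective (ι.f n)) ∧
      (∃ a c : ℤ, ∀ n : ℤ, (n < a ∨ c < n) → IsZero (G.X n)) ∧
      (∀ n : ℤ, Module.Finite R (G.X n) ∧ Module.Free R (G.X n)) ∧
      ∀ i : Fin N, f i ∈ Set.range (ι.f (deg i)) := by
  classical
  let bas := fun n : ℤ => Module.Free.chooseBasis R (F.X n)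
  let Sp : (∀ n : ℤ, Finset (Module.Free.ChooseBasisIndex R (F.X n))) → ∀ n, Submodule R (F.X n) :=
    fun B n => Submodule.span R (bas n '' (B n : Set _))
  have mono : ∀ (B B' : ∀ n : ℤ, Finset (Module.Free.ChooseBasisIndex R (F.X n))) (n : ℤ), B n ⊆ B' n → Sp B n ≤ Sp B' n :=
    fun B B' n h => Submodule.span_mono (Set.image_mono (Finset.coe_subset.mpr h))
  have key : ∀ (k : ℕ) (T : ∀ n : ℤ, Finset (Module.Free.ChooseBasisIndex R (F.X n))), (∀ n < b + 1 - k, T n = ∅) →
      ∃ B : ∀ n : ℤ, Finset (Module.Free.ChooseBasisIndex R (F.X n)), (∀ n, T n ⊆ B n) ∧ (∀ n < b + 1 - k, B n = ∅) ∧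
        ∀ i j, ∀ x ∈ B i, F.d i j (bas i x) ∈ Sp B j := by
    intro k
    induction k with
    | zero =>
      intro T hT
      refine ⟨T, fun n => subset_rfl, hT, fun i j x hx => ?_⟩
      have hi : b < i := by
        by_contra h
        rw [hT i (by omega)] at hx
        exact absurd hx (Finset.notMem_empty x)
      haveI := ModuleCat.subsingleton_of_isZero (hb i hi)
      rw [Subsingleton.elim (bas i x) 0, map_zero]
      exact zero_mem _
    | succ k ih =>
      intro T hT
      let m : ℤ := b - k
      obtain ⟨B, hTB, hB, hd⟩ := ih
        (fun n => if n ≤ m then ∅ else T n ∪ (T m).biUnion (fun x => ((bas n).repr (F.d m n (bas m x))).support))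
        (fun n hn => if_pos (by omega))
      refine ⟨Function.update B m (T m), fun n => ?_, fun n hn => ?_, fun i j x hx => ?_⟩
      · by_cases h : n = m
        · subst h; rw [Function.update_self]
        · rw [Function.update_of_ne h]
          by_cases h' : n ≤ m
          · rw [hT n (by omega)]; exact Finset.empty_subset _
          · have := hTB n
            rw [if_neg h'] at this
            exact Finset.subset_union_left.trans this
      · rw [Function.update_of_ne (by omega)]; exact hB n (by omega)
      · have hsub : B j ⊆ Function.update B m (T m) j := by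
          by_cases h : j = m
          · subst h; rw [hB m (by omega)]; exact Finset.empty_subset _
          · rw [Function.update_of_ne h]
        refine mono _ _ j hsub ?_
        by_cases h : i = m
        · subst h
          rw [Function.update_self] at hx
          by_cases h' : m + 1 = j
          · rw [(bas j).mem_span_image]
            refine Finset.coe_subset.mpr (Finset.Subset.trans ?_ (hTB j))
            rw [if_neg (by omega)]
            exact Finset.Subset.trans
              (Finset.subset_biUnion_of_mem (fun x => ((bas j).repr (F.d m j (bas m x))).support) hx)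
              Finset.subset_union_right
          · rw [F.shape m j h']
            exact zero_mem _
        · rw [Function.update_of_ne h] at hx
          exact hd i j x hx
  obtain ⟨a, ha⟩ : ∃ a : ℤ, ∀ i, a ≤ deg i := by
    obtain ⟨a, ha⟩ := (Finset.univ.image deg).bddBelow
    exact ⟨a, fun i => ha (Finset.mem_coe.mpr (Finset.mem_image_of_mem _ (Finset.mem_univ i)))⟩
  obtain ⟨B, hTB, hB, hd⟩ := key (b + 1 - a).toNat
    (fun n => Finset.univ.biUnion fun i : Fin N => if h : deg i = n then ((bas n).repr (h ▸ f i)).support else ∅)
    (fun n hn => Finset.eq_empty_of_forall_notMem fun x hx => by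
      obtain ⟨i, -, hi⟩ := Finset.mem_biUnion.mp hx
      rw [dif_neg (by have := ha i; omega)] at hi
      exact Finset.notMem_empty x hi)
  have hmap : ∀ i j, ∀ y ∈ Sp B i, F.d i j y ∈ Sp B j := fun i j y hy =>
    (Submodule.span_le.mpr (by rintro _ ⟨x, hx, rfl⟩; exact hd i j x hx) :
      Sp B i ≤ (Sp B j).comap (F.d i j).hom) hy
  let G : CochainComplex (ModuleCat.{u} R) ℤ :=
    { X := fun n => ModuleCat.of R (Sp B n)
      d := fun i j => ModuleCat.ofHom ((F.d i j).hom.restrict (hmap i j))
      shape := fun i j h => by
        ext y
        exact congrArg (fun t => t.hom y.1) (F.shape i j h)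
      d_comp_d' := fun i j k _ _ => by
        ext y
        exact congrArg (fun t => t.hom y.1) (F.d_comp_d i j k) }
  let ι : G ⟶ F := { f := fun n => ModuleCat.ofHom (Sp B n).subtype
                     comm' := fun i j _ => rfl }
  refine ⟨G, ι, fun n => Subtype.val_injective, ⟨a, b, fun n hn => ?_⟩, fun n => ⟨?_, ?_⟩, fun i => ?_⟩
  · refine ModuleCat.isZero_of_iff_subsingleton.mpr ?_
    show Subsingleton (Sp B n)
    rcases (show (b < n) ∨ (n < a ∧ n ≤ b) by omega) with hn | hn
    · haveI := ModuleCat.subsingleton_of_isZero (hb n hn)
      infer_instance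
    · refine Submodule.subsingleton_iff_eq_bot.mpr ?_
      simp only [Sp]
      rw [hB n (by omega), Finset.coe_empty, Set.image_empty, Submodule.span_empty]
  · exact Module.Finite.of_fg (Submodule.fg_span ((B n).finite_toSet.image _))
  · show Module.Free R (Sp B n)
    have hli := (bas n).linearIndependent.comp (fun x : {y // y ∈ B n} => x.1) Subtype.val_injective
    exact Module.Free.of_equiv' (Module.Free.of_basis (Module.Basis.span hli))
      (LinearEquiv.ofEq _ (Sp B n) (congrArg (Submodule.span R) (by ext y; simp)))
  · refine ⟨⟨f i, ?_⟩, rfl⟩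
    show f i ∈ Sp B (deg i)
    rw [(bas _).mem_span_image]
    refine Finset.coe_subset.mpr (Finset.Subset.trans ?_ (hTB (deg i)))
    refine Finset.Subset.trans ?_ (Finset.subset_biUnion_of_mem _ (Finset.mem_univ i))
    rw [dif_pos rfl]

end Groth.Agent.S7145
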