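import Groth.Statements.S7146
import Groth.Agent.SopLenLib.Power

set_option autoImplicit false
universe u
open Filter
open CAlg

namespace Groth.Agent.S7146

/-- Let R be a Noetherian local ring of Krull dimension d and I the ideal generated by a system of
parameters g_1, ..., g_d (d elements of the maximal ideal generating an ideal with radical the
maximal ideal); let e_I be the multiplicity of I, i.e. d! times the top coefficient of the numerical
polynomial n ↦ length(R/I^(n+1)), equivalently the limit of d!·length(R/Iⁿ)/n^d. Then e_I ≤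
length(R/I). (Stated for a natural number e equal to that limit.) -/
theorem result (R : Type u) [CommRing R] [IsNoetherianRing R] [IsLocalRing R]
    (d : ℕ) (hd : ringKrullDim R = d) (g : Fin d → R) (hg : ∀ i, g i ∈ IsLocalRing.maximalIdeal R)
    (hsop : IsLocalRing.maximalIdeal R ≤ (Ideal.span (Set.range g)).radical) (e : ℕ)
    (he : Tendsto (fun n : ℕ => (d.factorial : ℝ) * ((Module.length R (R ⧸ Ideal.span (Set.range g) ^ n)).toNat : ℝ) / (n : ℝ) ^ d)
      atTop (nhds (e : ℝ))) :
    (e : ℕ∞) ≤ Module.length R (R ⧸ Ideal.span (Set.range g)) := by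
  set I := Ideal.span (Set.range g) with hI
  rcases eq_or_ne (Module.length R (R ⧸ I)) ⊤ with hL | hL
  · rw [hL]; exact le_top
  obtain ⟨L, hL'⟩ := ENat.ne_top_iff_exists.1 hL
  rw [← hL', Nat.cast_le]
  have key : ∀ n : ℕ, 0 < n →
      (d.factorial : ℝ) * ((Module.length R (R ⧸ I ^ n)).toNat : ℝ) / (n : ℝ) ^ d ≤
        (L : ℝ) * (((n : ℝ) + d) / n) ^ d := by
    intro n hn
    obtain ⟨m, rfl⟩ : ∃ m, n = m + 1 := ⟨n - 1, by omega⟩
    have h1 := SopLenLib.length_quot_pow_succ_le_choose g m
    rw [← hI, ← hL', ← Nat.cast_mul] at h1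
    have h2 := ENat.toNat_le_toNat h1 (ENat.coe_ne_top _)
    rw [ENat.toNat_coe] at h2
    have h2' : ((Module.length R (R ⧸ I ^ (m + 1))).toNat : ℝ) ≤ ((m + d).choose d : ℝ) * L := by
      exact_mod_cast h2
    have h3 : ((m + d).choose d : ℝ) ≤ ((m + d : ℕ) : ℝ) ^ d / (d.factorial : ℝ) := Nat.choose_le_pow_div d (m + d)
    rw [le_div_iff₀ (by positivity)] at h3
    rw [div_pow, mul_div_assoc']
    refine div_le_div_of_nonneg_right ?_ (by positivity)
    calc (d.factorial : ℝ) * ((Module.length R (R ⧸ I ^ (m + 1))).toNat : ℝ)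
        ≤ (d.factorial : ℝ) * (((m + d).choose d : ℝ) * L) := by gcongr
      _ = (L : ℝ) * (((m + d).choose d : ℝ) * d.factorial) := by ring
      _ ≤ (L : ℝ) * ((m + d : ℕ) : ℝ) ^ d := by gcongr
      _ ≤ (L : ℝ) * (((m + 1 : ℕ) : ℝ) + d) ^ d := by
        gcongr
        push_cast
        linarith
  have hlim : Tendsto (fun n : ℕ => (L : ℝ) * (((n : ℝ) + d) / n) ^ d) atTop (nhds (L : ℝ)) := by
    have h0 : Tendsto (fun n : ℕ => 1 + (d : ℝ) / n) atTop (nhds (1 + 0)) :=
      tendsto_const_nhds.add (tendsto_const_div_atTop_nhds_zero_nat (d : ℝ))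
    have h1 := (h0.pow d).const_mul (L : ℝ)
    rw [add_zero, one_pow, mul_one] at h1
    refine h1.congr' ?_
    filter_upwards [eventually_gt_atTop 0] with n hn
    rw [add_div, div_self (by positivity : (n : ℝ) ≠ 0)]
  have := le_of_tendsto_of_tendsto he hlim (by filter_upwards [eventually_gt_atTop 0] with n hn using key n hn)
  exact_mod_cast this

end Groth.Agent.S7146
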