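import Groth.Statements.S7147
import Mathlib

set_option autoImplicit false
universe u
open CAlg

namespace Groth.Agent.S7147

/-- Let R be a ring, M a finitely presented R-module and x a maximal ideal of R with residue field κ(x);
write M(x) = M/xM and let B(x) ⊆ M(x) be the orthogonal of the image of Hom_R(M, R) in the dual of
M(x), i.e. the classes of those m in M with φ(m) in x for every linear form φ on M, and V(x) =
M(x)/B(x). For s_1, ..., s_r in M the following are equivalent: (1) there is f in R, f not in x,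
such that the map R_f^r → M_f given by the s_i is the inclusion of a direct summand; (2) the images
of s_1, ..., s_r in V(x) are linearly independent over κ(x). -/
theorem result (R : Type u) [CommRing R] (M : Type u)
    [AddCommGroup M] [Module R M] [Module.FinitePresentation R M] (x : Ideal R) [x.IsMaximal]
    (r : ℕ) (s : Fin r → M) :
    let Mx := M ⧸ (x • ⊤ : Submodule R M)
    let Bx : Submodule (R ⧸ x) Mx :=
      Submodule.span (R ⧸ x) ((x • ⊤ : Submodule R M).mkQ '' {m : M | ∀ φ : M →ₗ[R] R, φ m ∈ x})
    (∃ f : R, f ∉ x ∧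
      ∃ g : LocalizedModule (Submonoid.powers f) M →ₗ[Localization.Away f] (Fin r → Localization.Away f),
        g ∘ₗ Fintype.linearCombination (Localization.Away f)
            (fun i => LocalizedModule.mkLinearMap (Submonoid.powers f) M (s i)) = LinearMap.id) ↔
    LinearIndependent (R ⧸ x) (fun i => Bx.mkQ ((x • ⊤ : Submodule R M).mkQ (s i))) := by
  classical
  intro Mx Bx
  letI : Field (R ⧸ x) := Ideal.Quotient.field x
  let pr : M →ₗ[R] Mx := (x • ⊤ : Submodule R M).mkQ
  have hsmul : ∀ (a : R) (v : Mx), Ideal.Quotient.mk x a • v = a • v := fun a v => by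
    obtain ⟨m, rfl⟩ := Submodule.Quotient.mk_surjective _ v
    rfl
  have hBx : ∀ m : M, pr m ∈ Bx ↔ ∀ φ : M →ₗ[R] R, φ m ∈ x := by
    intro m
    refine ⟨fun h => ?_, fun h => Submodule.subset_span ⟨m, h, rfl⟩⟩
    suffices key : ∀ v ∈ Bx, ∃ m', (∀ φ : M →ₗ[R] R, φ m' ∈ x) ∧ pr m' = v by
      obtain ⟨m', hm', he⟩ := key _ h
      intro φ
      have h1 : m - m' ∈ (x • ⊤ : Submodule R M) := (Submodule.Quotient.eq _).mp he.symm
      have h2 : φ (m - m') ∈ x := by
        refine Submodule.smul_induction_on h1 (fun a ha y _ => ?_) (fun a b ha hb => ?_)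
        · rw [map_smul, smul_eq_mul]; exact x.mul_mem_right _ ha
        · rw [map_add]; exact add_mem ha hb
      have := add_mem h2 (hm' φ)
      rwa [map_sub, sub_add_cancel] at this
    intro v hv
    induction hv using Submodule.span_induction with
    | mem v hv => obtain ⟨m', hm', rfl⟩ := hv; exact ⟨m', hm', rfl⟩
    | zero => exact ⟨0, fun φ => by rw [map_zero]; exact zero_mem _, map_zero _⟩
    | add a b _ _ ha hb =>
      obtain ⟨ma, hma, rfl⟩ := ha
      obtain ⟨mb, hmb, rfl⟩ := hb
      exact ⟨ma + mb, fun φ => by rw [map_add]; exact add_mem (hma φ) (hmb φ), map_add _ _ _⟩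
    | smul c a _ ha =>
      obtain ⟨ma, hma, rfl⟩ := ha
      obtain ⟨c, rfl⟩ := Ideal.Quotient.mk_surjective c
      exact ⟨c • ma, fun φ => by rw [map_smul, smul_eq_mul]; exact x.mul_mem_left _ (hma φ),
        (pr.map_smul c ma).trans (hsmul c _).symm⟩
  have hcomb : ∀ a : Fin r → R, (∑ i, Ideal.Quotient.mk x (a i) •
      Bx.mkQ (pr (s i)) = 0) ↔ ∀ φ : M →ₗ[R] R, φ (∑ i, a i • s i) ∈ x := by
    intro a
    have h1 : ∑ i, Ideal.Quotient.mk x (a i) • Bx.mkQ (pr (s i)) = Bx.mkQ (pr (∑ i, a i • s i)) := by
      rw [map_sum, map_sum]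
      exact Finset.sum_congr rfl fun i _ => by rw [map_smul pr, ← hsmul, map_smul]
    rw [h1, Submodule.mkQ_apply, Submodule.Quotient.mk_eq_zero, hBx]
  rw [Fintype.linearIndependent_iff]
  constructor
  · rintro ⟨f, hf, g, hg⟩ c hc j
    choose a ha using fun i => Ideal.Quotient.mk_surjective (c i)
    have hc' : ∀ φ : M →ₗ[R] R, φ (∑ i, a i • s i) ∈ x := (hcomb a).mp (by simp only [ha]; exact hc)
    let gj : M →ₗ[R] Localization.Away f := (((LinearMap.proj j).comp g).restrictScalars R).comp
      (LocalizedModule.mkLinearMap (Submonoid.powers f) M)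
    obtain ⟨φ, ⟨_, k, rfl⟩, hφ⟩ := Module.FinitePresentation.exists_lift_of_isLocalizedModule
      (Submonoid.powers f) (Algebra.linearMap R (Localization.Away f)) gj
    have hgs : ∀ i, g (LocalizedModule.mkLinearMap (Submonoid.powers f) M (s i)) = Pi.single i 1 := by
      intro i
      have h2 := LinearMap.congr_fun hg (Pi.single i 1)
      simpa [Fintype.linearCombination_apply_single] using h2
    have h3 : ∀ i, algebraMap R (Localization.Away f) (φ (s i)) =
        algebraMap R (Localization.Away f) (if i = j then f ^ k else 0) := by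
      intro i
      have h4 : algebraMap R (Localization.Away f) (φ (s i)) = f ^ k • gj (s i) :=
        LinearMap.congr_fun hφ (s i)
      rw [h4, show gj (s i) = g (LocalizedModule.mkLinearMap (Submonoid.powers f) M (s i)) j from rfl,
        hgs, Pi.single_apply]
      rcases eq_or_ne i j with rfl | hij
      · rw [if_pos rfl, if_pos rfl, Algebra.smul_def, mul_one]
      · rw [if_neg hij.symm, if_neg hij, smul_zero, map_zero]
    have hmem : φ (∑ i, a i • s i) ∈ x := hc' φ
    obtain ⟨⟨_, l, rfl⟩, hl⟩ := (IsLocalization.eq_iff_exists (Submonoid.powers f)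
      (Localization.Away f) (x := φ (∑ i, a i • s i)) (y := a j * f ^ k)).mp (by
        rw [map_sum, map_sum, map_mul]
        simp only [map_smul, smul_eq_mul, map_mul, h3]
        rw [Finset.sum_eq_single j (fun i _ hij => by simp [hij]) (by simp)]
        simp)
    have h5 : f ^ l * (a j * f ^ k) ∈ x := hl ▸ x.mul_mem_left _ hmem
    have hx := ‹x.IsMaximal›.isPrime
    have h6 : a j ∈ x := by
      rcases hx.mem_or_mem h5 with h | h
      · exact absurd (hx.mem_of_pow_mem _ h) hf
      · exact (hx.mem_or_mem h).resolve_right fun h' => hf (hx.mem_of_pow_mem _ h')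
    rw [← ha j]
    exact Ideal.Quotient.eq_zero_iff_mem.mpr h6
  intro hli
  let Ψ : (M →ₗ[R] R) →ₗ[R] (Fin r → R ⧸ x) :=
    LinearMap.pi fun i => (Submodule.mkQ x).comp (LinearMap.applyₗ (s i))
  have hW : Submodule.span (R ⧸ x) (Set.range Ψ) = ⊤ := by
    by_contra hne
    obtain ⟨c, hc0, hcle⟩ := Submodule.exists_le_ker_of_lt_top _ (lt_top_iff_ne_top.mpr hne)
    choose a ha using fun i => Ideal.Quotient.mk_surjective (c (Pi.single i (1 : R ⧸ x)))
    have h2 : ∀ φ : M →ₗ[R] R, φ (∑ i, a i • s i) ∈ x := by
      intro φ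
      have h3 : c (Ψ φ) = 0 := hcle (Submodule.subset_span ⟨φ, rfl⟩)
      rw [pi_eq_sum_univ' (Ψ φ), map_sum] at h3
      rw [← Ideal.Quotient.eq_zero_iff_mem, map_sum, map_sum]
      refine (Finset.sum_congr rfl fun i _ => ?_).trans h3
      rw [map_smul φ, smul_eq_mul, map_mul, map_smul c, smul_eq_mul, ha, mul_comm]
      rfl
    apply hc0
    refine LinearMap.pi_ext fun i v => ?_
    have h4 := hli (fun i => Ideal.Quotient.mk x (a i)) ((hcomb a).mpr h2) i
    rw [show Pi.single i v = v • Pi.single i (1 : R ⧸ x) by rw [← Pi.single_smul, smul_eq_mul, mul_one],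
      map_smul, ← ha, h4, smul_zero]
    rfl
  have hsurj : ∀ j, ∃ φ, Ψ φ = (Pi.single j 1 : Fin r → R ⧸ x) := by
    intro j
    have hj : (Pi.single j 1 : Fin r → R ⧸ x) ∈ Submodule.span (R ⧸ x) (Set.range Ψ) := hW ▸ trivial
    generalize (Pi.single j 1 : Fin r → R ⧸ x) = v at hj
    induction hj using Submodule.span_induction with
    | mem v hv => exact hv
    | zero => exact ⟨0, map_zero _⟩
    | add u v _ _ hu hv =>
      obtain ⟨a, rfl⟩ := hu; obtain ⟨b, rfl⟩ := hv
      exact ⟨a + b, map_add _ _ _⟩
    | smul c u _ hu =>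
      obtain ⟨a, rfl⟩ := hu
      obtain ⟨c, rfl⟩ := Ideal.Quotient.mk_surjective c
      exact ⟨c • a, map_smul Ψ c a⟩
  choose φ hφ using hsurj
  let G : Matrix (Fin r) (Fin r) R := fun j i => φ j (s i)
  have hG : G.map (Ideal.Quotient.mk x) = 1 := by
    ext j i
    have := congrFun (hφ j) i
    rw [Matrix.map_apply, Matrix.one_apply]
    rw [Pi.single_apply] at this
    exact this.trans (by simp [eq_comm])
  have hdet : G.det ∉ x := fun h => by
    have h1 := (RingHom.map_det (Ideal.Quotient.mk x) G).symm
    rw [RingHom.mapMatrix_apply, hG, Matrix.det_one, Ideal.Quotient.eq_zero_iff_mem.mpr h] at h1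
    exact one_ne_zero h1
  refine ⟨G.det, hdet, ?_⟩
  set f := G.det
  let Gf : Matrix (Fin r) (Fin r) (Localization.Away f) := G.map (algebraMap R _)
  have hu : IsUnit Gf.det := by
    rw [show Gf.det = algebraMap R (Localization.Away f) f from
      (RingHom.map_det (algebraMap R (Localization.Away f)) G).symm]
    exact IsLocalization.Away.algebraMap_isUnit f
  let φf : M →ₗ[R] (Fin r → Localization.Away f) :=
    LinearMap.pi fun j => (Algebra.linearMap R _).comp (φ j)
  have hUnits : ∀ z : Submonoid.powers f,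
      IsUnit (algebraMap R (Module.End R (Fin r → Localization.Away f)) z) :=
    fun z => by
        rw [Module.End.isUnit_iff]
        have hz : IsUnit (algebraMap R (Localization.Away f) z.1) :=
          IsLocalization.map_units (Localization.Away f) z
        constructor
        · intro u v huv
          funext j
          have h1 : z.1 • u j = z.1 • v j := congrFun huv j
          rw [Algebra.smul_def, Algebra.smul_def] at h1
          exact hz.mul_left_cancel h1
        · intro u
          refine ⟨fun j => hz.unit⁻¹.1 * u j, funext fun j => ?_⟩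
          show z.1 • (hz.unit⁻¹.1 * u j) = u j
          rw [Algebra.smul_def, ← mul_assoc, IsUnit.mul_val_inv, one_mul]
  let g₀ : LocalizedModule (Submonoid.powers f) M →ₗ[R] (Fin r → Localization.Away f) :=
    IsLocalizedModule.lift (Submonoid.powers f) (LocalizedModule.mkLinearMap (Submonoid.powers f) M) φf hUnits
  let g₁ := g₀.extendScalarsOfIsLocalization (Submonoid.powers f) (Localization.Away f)
  refine ⟨(Matrix.toLin' Gf⁻¹).comp g₁, ?_⟩
  refine LinearMap.pi_ext' fun i => LinearMap.ext_ring ?_
  show Matrix.toLin' Gf⁻¹ (g₁ (Fintype.linearCombination (Localization.Away f)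
    (fun i => LocalizedModule.mkLinearMap (Submonoid.powers f) M (s i)) (Pi.single i 1))) = Pi.single i 1
  rw [Fintype.linearCombination_apply_single, one_smul]
  have hcol : g₁ (LocalizedModule.mkLinearMap (Submonoid.powers f) M (s i)) =
      Matrix.toLin' Gf (Pi.single i 1) := by
    rw [show g₁ (LocalizedModule.mkLinearMap (Submonoid.powers f) M (s i)) = φf (s i) from
      LinearMap.congr_fun (IsLocalizedModule.lift_comp (Submonoid.powers f)
        (LocalizedModule.mkLinearMap (Submonoid.powers f) M) φf hUnits) (s i)]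
    funext j
    simp [Matrix.toLin'_apply, φf, Gf, G]
  rw [hcol, ← LinearMap.comp_apply, ← Matrix.toLin'_mul, Matrix.nonsing_inv_mul _ hu, Matrix.toLin'_one]
  rfl

end Groth.Agent.S7147
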