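import Groth.Statements.S7148
import Mathlib.Algebra.Homology.DerivedCategory.SingleTriangle
import Mathlib.Algebra.Homology.DerivedCategory.Ext.EnoughProjectives
import Mathlib.Algebra.Homology.DerivedCategory.FullyFaithful
import Mathlib.RingTheory.Filtration
import Mathlib.Algebra.Homology.ShortComplex.ModuleCat
-- import your own Groth.Agent.* helpers here

set_option autoImplicit false
set_option backward.isDefEq.respectTransparency false
set_option maxHeartbeats 800000
set_option synthInstance.maxHeartbeats 200000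
universe u
open CategoryTheory
attribute [local instance] HasDerivedCategory.standard
open CAlg

namespace Groth.Agent.S7148

/-- The statement of the theorem, for fixed modules and degree. -/
def Fac (A : Type u) [CommRing A] (I : Ideal A) (p : ℕ) (M N : ModuleCat.{u} A) : Prop :=
  ∃ c : ℕ, ∀ n : ℕ, c ≤ n → ∀ e : (DerivedCategory.singleFunctor (ModuleCat.{u} A) 0).obj M ⟶
      ((DerivedCategory.singleFunctor (ModuleCat.{u} A) 0).obj N)⟦(p : ℤ)⟧,
    ∃ e' : (DerivedCategory.singleFunctor (ModuleCat.{u} A) 0).obj (ModuleCat.of A ↥(I ^ n • ⊤ : Submodule A M)) ⟶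
        ((DerivedCategory.singleFunctor (ModuleCat.{u} A) 0).obj
          (ModuleCat.of A ↥(I ^ (n - c) • ⊤ : Submodule A N)))⟦(p : ℤ)⟧,
      e' ≫ ((DerivedCategory.singleFunctor (ModuleCat.{u} A) 0).map
              (ModuleCat.ofHom (I ^ (n - c) • ⊤ : Submodule A N).subtype))⟦(p : ℤ)⟧' =
        (DerivedCategory.singleFunctor (ModuleCat.{u} A) 0).map
            (ModuleCat.ofHom (I ^ n • ⊤ : Submodule A M).subtype) ≫ e

variable {A : Type u} [CommRing A] (I : Ideal A)

theorem shifted_eq_zero {P W : ModuleCat.{u} A} [Projective P] (q : ℤ) (hq : 0 < q)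
    (f : (DerivedCategory.singleFunctor (ModuleCat.{u} A) 0).obj P ⟶
      ((DerivedCategory.singleFunctor (ModuleCat.{u} A) 0).obj W)⟦q⟧) : f = 0 := by
  let i := ((DerivedCategory.singleFunctors (ModuleCat.{u} A)).shiftIso q (-q) 0 (by omega)).app W
  have h : f ≫ i.hom = 0 :=
    DerivedCategory.from_singleFunctor_obj_eq_zero_of_projective (P := P)
      (L := (CochainComplex.singleFunctor (ModuleCat.{u} A) (-q)).obj W) (i := 0) (f ≫ i.hom) (-q) (by omega)
  rw [← cancel_mono i.hom, h, Limits.zero_comp]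

theorem smul_top_le_comap {M N : Type u} [AddCommGroup M] [Module A M] [AddCommGroup N] [Module A N]
    (φ : M →ₗ[A] N) (n : ℕ) (x : M) (hx : x ∈ (I ^ n • ⊤ : Submodule A M)) :
    φ x ∈ (I ^ n • ⊤ : Submodule A N) := by
  have := Submodule.mem_map_of_mem (f := φ) hx
  rw [Submodule.map_smul''] at this
  exact Submodule.smul_mono le_rfl le_top this

theorem fac [IsNoetherianRing A] : ∀ (p : ℕ) (M N : ModuleCat.{u} A) [Module.Finite A M], Fac A I p M N
  | 0, M, N, _ => by
    refine ⟨0, fun n _ e => ?_⟩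
    let S := DerivedCategory.singleFunctor (ModuleCat.{u} A) 0
    let z := fun W => (shiftFunctorZero' (DerivedCategory (ModuleCat.{u} A)) ((0 : ℕ) : ℤ) rfl).app (S.obj W)
    obtain ⟨φ, hφ⟩ := S.map_surjective (e ≫ (z N).hom)
    let φn : ModuleCat.of A ↥(I ^ n • ⊤ : Submodule A M) ⟶ ModuleCat.of A ↥(I ^ (n - 0) • ⊤ : Submodule A N) :=
      ModuleCat.ofHom ((φ.hom.comp (I ^ n • ⊤ : Submodule A M).subtype).codRestrict _ fun x =>
        smul_top_le_comap I φ.hom n x.1 x.2)
    refine ⟨S.map φn ≫ (z _).inv, ?_⟩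
    have hn := (shiftFunctorZero' (DerivedCategory (ModuleCat.{u} A)) ((0 : ℕ) : ℤ) rfl).inv.naturality
      (S.map (ModuleCat.ofHom (I ^ (n - 0) • ⊤ : Submodule A N).subtype))
    dsimp only [Functor.id_map] at hn
    rw [Category.assoc]
    erw [← hn]
    rw [← Functor.map_comp_assoc]
    rw [show φn ≫ ModuleCat.ofHom (I ^ (n - 0) • ⊤ : Submodule A N).subtype =
      ModuleCat.ofHom (I ^ n • ⊤ : Submodule A M).subtype ≫ φ from rfl, Functor.map_comp, hφ]
    simp [z]
    erw [Category.comp_id]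
  | p + 1, M, N, hM => by
    obtain ⟨k, π, hπ⟩ := Module.Finite.exists_fin' A M
    let K : Submodule A (Fin k → A) := LinearMap.ker π
    let T : ShortComplex (ModuleCat.{u} A) :=
      ShortComplex.mk (ModuleCat.ofHom K.subtype) (ModuleCat.ofHom π)
        (ModuleCat.hom_ext (LinearMap.ext fun x => x.2))
    have hT : T.ShortExact :=
      { exact := (ShortComplex.moduleCat_exact_iff_range_eq_ker _).2 K.range_subtype
        mono_f := (ModuleCat.mono_iff_injective _).2 K.subtype_injective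
        epi_g := (ModuleCat.epi_iff_surjective _).2 hπ }
    haveI : Projective T.X₂ := (IsProjective.iff_projective _).1 (inferInstanceAs (Module.Projective A (Fin k → A)))
    obtain ⟨c, hc⟩ := Ideal.exists_pow_inf_eq_pow_smul I (M := Fin k → A) K
    obtain ⟨c', hc'⟩ := fac p (ModuleCat.of A K) N
    refine ⟨c + c', fun n hn e => ?_⟩
    let S := DerivedCategory.singleFunctor (ModuleCat.{u} A) 0
    let d := shiftFunctorAdd' (DerivedCategory (ModuleCat.{u} A)) (p : ℤ) 1 ((p + 1 : ℕ) : ℤ) (by omega)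
    obtain ⟨ψ, hψ⟩ := Pretriangulated.Triangle.yoneda_exact₃ _ hT.singleTriangle_distinguished e
      (shifted_eq_zero _ (by omega) _)
    obtain ⟨θ, hθ⟩ := (shiftFunctor (DerivedCategory (ModuleCat.{u} A)) (1 : ℤ)).map_surjective (ψ ≫ d.hom.app (S.obj N))
    -- the triangle on the powers of `I`
    let Fn : Submodule A (Fin k → A) := I ^ n • ⊤
    let Kn : Submodule A Fn := K.comap Fn.subtype
    let Mn : Submodule A M := I ^ n • ⊤
    have hle : ∀ x : Fn, π x.1 ∈ Mn := fun x => smul_top_le_comap I π n x.1 x.2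
    let πn : Fn →ₗ[A] Mn := (π.comp Fn.subtype).codRestrict Mn hle
    have hπn : Function.Surjective πn := fun y => by
      have h : Fn.map π = Mn := by
        rw [Submodule.map_smul'', Submodule.map_top, LinearMap.range_eq_top.2 hπ]
      obtain ⟨x, hx, hxy⟩ := h.ge y.2
      exact ⟨⟨x, hx⟩, Subtype.ext hxy⟩
    let T' : ShortComplex (ModuleCat.{u} A) :=
      ShortComplex.mk (ModuleCat.ofHom (X := Kn) (Y := Fn) Kn.subtype) (ModuleCat.ofHom (X := Fn) (Y := Mn) πn)
        (ModuleCat.hom_ext (LinearMap.ext fun x => Subtype.ext x.2))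
    have hT' : T'.ShortExact :=
      { exact := (ShortComplex.moduleCat_exact_iff_range_eq_ker _).2 (by
          ext x
          constructor
          · intro hx
            obtain ⟨y, rfl⟩ := hx
            exact LinearMap.mem_ker.2 (Subtype.ext y.2)
          · intro h
            exact ⟨⟨x, congrArg Subtype.val (LinearMap.mem_ker.1 h)⟩, rfl⟩)
        mono_f := (ModuleCat.mono_iff_injective _).2 Kn.subtype_injective
        epi_g := (ModuleCat.epi_iff_surjective _).2 hπn }
    obtain ⟨a, ha₁, ha₂⟩ := Pretriangulated.complete_distinguished_triangle_morphism₁ hT'.singleTriangle hT.singleTriangle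
      hT'.singleTriangle_distinguished hT.singleTriangle_distinguished (S.map (ModuleCat.ofHom Fn.subtype))
      (S.map (ModuleCat.ofHom Mn.subtype)) (by
        show S.map T'.g ≫ S.map _ = S.map _ ≫ S.map T.g
        rw [← S.map_comp, ← S.map_comp]
        rfl)
    obtain ⟨a₀, rfl⟩ := S.map_surjective a
    have ha₀ : ∀ x : Kn, (a₀.hom x).1 = x.1.1 := fun x => by
      have h : a₀ ≫ T.f = T'.f ≫ ModuleCat.ofHom Fn.subtype := S.map_injective (by
        rw [S.map_comp, S.map_comp]; exact ha₁.symm)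
      exact congrArg (fun φ => φ.hom x) h
    let m := n - c
    have hmem : ∀ x : Kn, a₀.hom x ∈ (I ^ m • ⊤ : Submodule A K) := fun x => by
      have h : (a₀.hom x).1 ∈ I ^ (n - c) • (I ^ c • (⊤ : Submodule A (Fin k → A)) ⊓ K) :=
        (hc n (by omega)).le ⟨(ha₀ x).symm ▸ x.1.2, (a₀.hom x).2⟩
      have h' := Submodule.smul_mono le_rfl (inf_le_right (a := I ^ c • (⊤ : Submodule A (Fin k → A)))) h
      have hK : (I ^ m • K : Submodule A (Fin k → A)) = (I ^ m • ⊤ : Submodule A K).map K.subtype := by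
        rw [Submodule.map_smul'', Submodule.map_top, Submodule.range_subtype]
      obtain ⟨z, hz, hzx⟩ := hK.le h'
      exact (Subtype.ext hzx : z = a₀.hom x) ▸ hz
    let a₁ : ModuleCat.of A Kn ⟶ ModuleCat.of A ↥(I ^ m • ⊤ : Submodule A K) :=
      ModuleCat.ofHom (a₀.hom.codRestrict _ hmem)
    obtain ⟨θ', hθ'⟩ := hc' m (by omega) θ
    rw [show n - (c + c') = m - c' by omega]
    refine ⟨hT'.singleδ ≫ (S.map a₁ ≫ θ')⟦(1 : ℤ)⟧' ≫ d.inv.app _, ?_⟩
    have hn' := d.inv.naturality (S.map (ModuleCat.ofHom (I ^ (m - c') • ⊤ : Submodule A N).subtype))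
    dsimp only [Functor.comp_map] at hn'
    have hcomp : S.map a₁ ≫ θ' ≫ (S.map (ModuleCat.ofHom (I ^ (m - c') • ⊤ : Submodule A N).subtype))⟦(p : ℤ)⟧' =
        S.map a₀ ≫ θ := by
      rw [hθ', ← Category.assoc, ← S.map_comp]
      rfl
    calc
      _ = hT'.singleδ ≫ (S.map a₁ ≫ θ' ≫
          (S.map (ModuleCat.ofHom (I ^ (m - c') • ⊤ : Submodule A N).subtype))⟦(p : ℤ)⟧')⟦(1 : ℤ)⟧' ≫ d.inv.app _ := by
        simp only [Category.assoc, Functor.map_comp]
        erw [← hn']
      _ = hT'.singleδ ≫ ((S.map a₀)⟦(1 : ℤ)⟧' ≫ θ⟦(1 : ℤ)⟧') ≫ d.inv.app _ := by rw [hcomp, Functor.map_comp]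
      _ = (hT'.singleδ ≫ (S.map a₀)⟦(1 : ℤ)⟧') ≫ ψ := by
        rw [hθ]
        simp
        erw [Category.comp_id]
      _ = _ := by
        rw [show hT'.singleδ ≫ (S.map a₀)⟦(1 : ℤ)⟧' = S.map (ModuleCat.ofHom Mn.subtype) ≫ hT.singleδ from ha₂,
          Category.assoc]
        erw [← hψ]

/-- Let A be a Noetherian ring, I an ideal, M a finite A-module and N any A-module. For every p > 0
there is c ≥ 0 such that for all n ≥ c the map Ext^p_A(M, N) → Ext^p_A(IⁿM, N) factors through
Ext^p_A(IⁿM, I^(n-c)N) → Ext^p_A(IⁿM, N). Here Ext^p(X, Y) is the group of morphisms X → Y[p] in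
D(A). -/
theorem result (A : Type u) [CommRing A] [IsNoetherianRing A] (I : Ideal A)
    (M N : Type u) [AddCommGroup M] [Module A M] [Module.Finite A M] [AddCommGroup N] [Module A N]
    (p : ℕ) (hp : 0 < p) :
    ∃ c : ℕ, ∀ n : ℕ, c ≤ n →
      ∀ e : Dual.inD A M ⟶ (Dual.inD A N)⟦(p : ℤ)⟧,
        ∃ e' : Dual.inD A ↥(I ^ n • ⊤ : Submodule A M) ⟶ (Dual.inD A ↥(I ^ (n - c) • ⊤ : Submodule A N))⟦(p : ℤ)⟧,
          e' ≫ ((DerivedCategory.singleFunctor (ModuleCat.{u} A) 0).map
                  (ModuleCat.ofHom (I ^ (n - c) • ⊤ : Submodule A N).subtype))⟦(p : ℤ)⟧' =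
            (DerivedCategory.singleFunctor (ModuleCat.{u} A) 0).map
                (ModuleCat.ofHom (I ^ n • ⊤ : Submodule A M).subtype) ≫ e := by
  exact fac I p (ModuleCat.of A M) (ModuleCat.of A N)

end Groth.Agent.S7148
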