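import Groth.Statements.S7149
import Mathlib.Algebra.Homology.DerivedCategory.KProjective
import Mathlib.Algebra.Homology.DerivedCategory.Linear
import Mathlib.RingTheory.Filtration
import Mathlib.LinearAlgebra.FreeModule.Finite.Basic
-- import your own Groth.Agent.* helpers here

set_option autoImplicit false
set_option linter.style.haveILetI false
set_option backward.isDefEq.respectTransparency false
set_option maxHeartbeats 800000
set_option synthInstance.maxHeartbeats 200000
universe u
open CategoryTheory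
attribute [local instance] HasDerivedCategory.standard
open CAlg

namespace Groth.Agent.S7149

/-- Let A be a Noetherian ring, I an ideal, K a pseudo-coherent object of D(A) and M a finite A-module.
For each integer p there is c such that for all n ≥ c the image of Ext^p_A(K, IⁿM) → Ext^p_A(K, M)
is contained in I^(n-c)·Ext^p_A(K, M); here Ext^p(K, X) = Hom_{D(A)}(K, X[p]) with its natural
A-module structure. -/
theorem result (A : Type u) [CommRing A] [IsNoetherianRing A] (I : Ideal A)
    (K : Dual.D A) (hK : DRing.IsPseudoCoherent' A K) (M : Type u) [AddCommGroup M] [Module A M] [Module.Finite A M]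
    (p : ℤ) :
    ∃ c : ℕ, ∀ n : ℕ, c ≤ n →
      ∀ e : K ⟶ (Dual.inD A ↥(I ^ n • ⊤ : Submodule A M))⟦p⟧,
        e ≫ ((DerivedCategory.singleFunctor (ModuleCat.{u} A) 0).map
              (ModuleCat.ofHom (I ^ n • ⊤ : Submodule A M).subtype))⟦p⟧' ∈
          (I ^ (n - c) • ⊤ : Submodule A (K ⟶ (Dual.inD A M)⟦p⟧)) := by
  obtain ⟨E, b, hb, hfree, ⟨eK⟩⟩ := hK
  haveI : E.IsStrictlyLE b := (CochainComplex.isStrictlyLE_iff E b).2 hb
  haveI hpr : ∀ i, Projective (E.X i) := fun i => by
    haveI := (hfree i).2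
    exact (IsProjective.iff_projective _).1 Module.Projective.of_free
  haveI := CochainComplex.isKProjective_of_projective E b
  let i : ℤ := -p
  haveI : Module.Free A (E.X i) := (hfree i).2
  haveI : Module.Finite A (E.X i) := (hfree i).1
  let S := fun (W : ModuleCat.{u} A) =>
    ((DerivedCategory.singleFunctors (ModuleCat.{u} A)).shiftIso p i 0 (by omega)).app W
  -- the cocycles
  let C := (E.X i →ₗ[A] M)
  let dd : C →ₗ[A] (E.X (i - 1) →ₗ[A] M) := LinearMap.lcomp A M (E.d (i - 1) i).hom
  let Z : Submodule A C := LinearMap.ker dd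
  have hmk : ∀ z : Z, ∀ j, (ComplexShape.up ℤ).Rel j i → E.d j i ≫ ModuleCat.ofHom z.1 = 0 := fun z j hj => by
    obtain rfl : j = i - 1 := by simp at hj; omega
    exact ModuleCat.hom_ext (LinearMap.mem_ker.1 z.2)
  let mkm : Z →ₗ[A] (E ⟶ (HomologicalComplex.single (ModuleCat.{u} A) (ComplexShape.up ℤ) i).obj (ModuleCat.of A M)) :=
    { toFun := fun z => HomologicalComplex.mkHomToSingle (ModuleCat.ofHom z.1) (hmk z)
      map_add' := fun z z' => by
        apply HomologicalComplex.to_single_hom_ext
        rw [HomologicalComplex.add_f_apply]; simp only [HomologicalComplex.mkHomToSingle_f, ← Preadditive.add_comp]; rfl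
      map_smul' := fun a z => by
        apply HomologicalComplex.to_single_hom_ext
        rw [RingHom.id_apply, HomologicalComplex.smul_f_apply]; simp only [HomologicalComplex.mkHomToSingle_f, ← Linear.smul_comp]; rfl }
  let T := (Dual.inD A M)⟦p⟧
  let out : (DerivedCategory.Q.obj E ⟶
        (DerivedCategory.singleFunctor (ModuleCat.{u} A) i).obj (ModuleCat.of A M)) →ₗ[A] (K ⟶ T) :=
    (Linear.leftComp A _ eK.inv).comp (Linear.rightComp A _ (S (ModuleCat.of A M)).inv)
  let Ψ : Z →ₗ[A] (K ⟶ T) := out.comp ((DerivedCategory.Q.mapLinearMap A).comp mkm)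
  -- Artin–Rees
  obtain ⟨c, hc⟩ := Ideal.exists_pow_inf_eq_pow_smul I (M := C) Z
  refine ⟨c, fun n hn e => ?_⟩
  let N' := (I ^ n • ⊤ : Submodule A M)
  let j := ModuleCat.ofHom (X := N') N'.subtype
  obtain ⟨g, hg⟩ : ∃ g : E ⟶ (HomologicalComplex.single (ModuleCat.{u} A) (ComplexShape.up ℤ) i).obj (ModuleCat.of A N'),
      DerivedCategory.Q.map g = eK.hom ≫ e ≫ (S (ModuleCat.of A N')).hom := by
    let L := (HomologicalComplex.single (ModuleCat.{u} A) (ComplexShape.up ℤ) i).obj (ModuleCat.of A N')
    let q := DerivedCategory.quotientCompQhIso (ModuleCat.{u} A)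
    obtain ⟨g', hg'⟩ := (CochainComplex.IsKProjective.Qh_map_bijective E
      ((HomotopyCategory.quotient _ _).obj L)).2
        (q.hom.app E ≫ (eK.hom ≫ e ≫ (S (ModuleCat.of A N')).hom) ≫ q.inv.app L)
    obtain ⟨g, rfl⟩ := (HomotopyCategory.quotient _ _).map_surjective g'
    refine ⟨g, ?_⟩
    have h := q.hom.naturality g
    rw [Functor.comp_map, hg', Category.assoc, Category.assoc] at h
    simp only [Iso.inv_hom_id_app, Category.comp_id] at h
    exact ((cancel_epi (q.hom.app E)).1 h).symm.trans (Category.comp_id _)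
  let φ : E.X i →ₗ[A] N' := (g.f i ≫ (HomologicalComplex.singleObjXSelf (ComplexShape.up ℤ) i (ModuleCat.of A N')).hom).hom
  let f : C := N'.subtype.comp φ
  have hφd : φ.comp (E.d (i - 1) i).hom = 0 := by
    have h := g.comm (i - 1) i
    rw [show ((HomologicalComplex.single (ModuleCat.{u} A) (ComplexShape.up ℤ) i).obj (ModuleCat.of A N')).d (i - 1) i = 0 from rfl,
      Limits.comp_zero] at h
    have h' : E.d (i - 1) i ≫ g.f i ≫
        (HomologicalComplex.singleObjXSelf (ComplexShape.up ℤ) i (ModuleCat.of A N')).hom = 0 := by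
      rw [← Category.assoc, ← h, Limits.zero_comp]
    exact congrArg ModuleCat.Hom.hom h'
  have hfZ : f ∈ Z := LinearMap.mem_ker.2 (LinearMap.ext fun x => by
    show N'.subtype (φ.comp (E.d (i - 1) i).hom x) = 0
    rw [hφd, LinearMap.zero_apply, map_zero])
  have hfI : f ∈ (I ^ n • ⊤ : Submodule A C) := by
    let bs := Module.Free.chooseBasis A (E.X i)
    have hf : f = ∑ k, (LinearMap.smulRight (bs.coord k) (f (bs k))) := bs.ext fun l => by
      rw [LinearMap.sum_apply, Finset.sum_eq_single l (fun k _ hk => by simp [hk.symm]) (by simp)]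
      simp
    rw [hf]
    refine Submodule.sum_mem _ fun k _ => ?_
    refine Submodule.smul_induction_on (φ (bs k)).2
      (p := fun m => LinearMap.smulRight (bs.coord k) m ∈ (I ^ n • ⊤ : Submodule A C))
      (fun a ha m _ => ?_) fun m m' hm hm' => ?_
    · rw [show LinearMap.smulRight (bs.coord k) (a • m) = a • LinearMap.smulRight (bs.coord k) m from
        LinearMap.ext fun x => smul_comm _ _ _]
      exact Submodule.smul_mem_smul ha Submodule.mem_top
    · rw [show LinearMap.smulRight (bs.coord k) (m + m') =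
        LinearMap.smulRight (bs.coord k) m + LinearMap.smulRight (bs.coord k) m' from LinearMap.ext fun x => smul_add _ _ _]
      exact add_mem hm hm'
  have hfZ' : f ∈ (I ^ (n - c) • Z : Submodule A C) := by
    have h := (hc n hn).le ⟨hfI, hfZ⟩
    exact Submodule.smul_mono le_rfl inf_le_right h
  have hmem : (⟨f, hfZ⟩ : Z) ∈ (I ^ (n - c) • ⊤ : Submodule A Z) := by
    have h : (Z.subtype ⟨f, hfZ⟩ : C) ∈ (I ^ (n - c) • ⊤ : Submodule A Z).map Z.subtype := by
      rw [Submodule.map_smul'', Submodule.map_top, Submodule.range_subtype]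
      exact hfZ'
    obtain ⟨z, hz, hze⟩ := h
    exact (Subtype.ext hze : z = ⟨f, hfZ⟩) ▸ hz
  have key : Ψ ⟨f, hfZ⟩ = e ≫ ((DerivedCategory.singleFunctor (ModuleCat.{u} A) 0).map j)⟦p⟧' := by
    have hgf : g ≫ (HomologicalComplex.single (ModuleCat.{u} A) (ComplexShape.up ℤ) i).map j = mkm ⟨f, hfZ⟩ := by
      apply HomologicalComplex.to_single_hom_ext
      rw [show (mkm ⟨f, hfZ⟩).f i = _ from HomologicalComplex.mkHomToSingle_f _ (hmk ⟨f, hfZ⟩)]
      dsimp
      rw [HomologicalComplex.single_map_f_self]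
      rfl
    show eK.inv ≫ DerivedCategory.Q.map (mkm ⟨f, hfZ⟩) ≫ (S (ModuleCat.of A M)).inv = _
    rw [← hgf, Functor.map_comp, hg]
    simp only [Category.assoc]
    rw [Iso.inv_hom_id_assoc]
    congr 1
    rw [← Category.assoc, Iso.comp_inv_eq]
    exact (((DerivedCategory.singleFunctors (ModuleCat.{u} A)).shiftIso p i 0 (by omega)).hom.naturality j).symm
  show e ≫ ((DerivedCategory.singleFunctor (ModuleCat.{u} A) 0).map j)⟦p⟧' ∈ (I ^ (n - c) • ⊤ : Submodule A (K ⟶ T))
  rw [← key]
  have := Submodule.mem_map_of_mem (f := Ψ) hmem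
  rw [Submodule.map_smul''] at this
  exact Submodule.smul_mono le_rfl le_top this

end Groth.Agent.S7149
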