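import Groth.Statements.S7150
import Mathlib
import Groth.Agent.FieldExtLib.Separable

set_option autoImplicit false
universe u
open EtAlg

namespace Groth.Agent.S7150

/-- Suppose p is a prime with p·1 = 0 in the local ring A and some power of the maximal ideal of A is
zero. Then the residue map A → κ_A has a section σ : κ_A → A that is a ring map. If moreover A → A'
is a local homomorphism to another local ring whose maximal ideal has a vanishing power, and the
residue field extension κ_{A'}/κ_A is separable (possibly transcendental, i.e. geometrically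
reduced), then for any such σ there is a section σ' : κ_{A'} → A' compatible with σ. -/
theorem result (p : ℕ) (hp : p.Prime) (A : Type u) [CommRing A]
    [IsLocalRing A] [CharP A p] (hnil : ∃ n : ℕ, IsLocalRing.maximalIdeal A ^ n = ⊥) :
    (∃ σ : IsLocalRing.ResidueField A →+* A, (IsLocalRing.residue A).comp σ = RingHom.id _) ∧
    ∀ (A' : Type u) [CommRing A'] [IsLocalRing A'] [Algebra A A'] [IsLocalHom (algebraMap A A')],
      (∃ n : ℕ, IsLocalRing.maximalIdeal A' ^ n = ⊥) →
      Algebra.IsGeometricallyReduced (IsLocalRing.ResidueField A) (IsLocalRing.ResidueField A') →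
      ∀ σ : IsLocalRing.ResidueField A →+* A, (IsLocalRing.residue A).comp σ = RingHom.id _ →
        ∃ σ' : IsLocalRing.ResidueField A' →+* A', (IsLocalRing.residue A').comp σ' = RingHom.id _ ∧
          σ'.comp (IsLocalRing.ResidueField.map (algebraMap A A')) = (algebraMap A A').comp σ := by
  classical
  haveI : Fact p.Prime := ⟨hp⟩
  constructor
  · letI : Algebra (ZMod p) A := ZMod.algebra A p
    letI : Algebra (ZMod p) (IsLocalRing.ResidueField A) := ((IsLocalRing.residue A).comp (algebraMap (ZMod p) A)).toAlgebra
    haveI : Algebra.FormallySmooth (ZMod p) (IsLocalRing.ResidueField A) :=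
      Groth.Agent.FieldExtLib.formallySmooth_of_isGeometricallyReduced
        Groth.Agent.FieldExtLib.isGeometricallyReduced_of_perfectField
    let g : A →ₐ[ZMod p] IsLocalRing.ResidueField A :=
      { toRingHom := IsLocalRing.residue A, commutes' := fun r => rfl }
    have hg : IsNilpotent (RingHom.ker (g : A →+* IsLocalRing.ResidueField A)) := by
      obtain ⟨n, hn⟩ := hnil
      refine ⟨n, ?_⟩
      rw [show RingHom.ker (g : A →+* IsLocalRing.ResidueField A) = IsLocalRing.maximalIdeal A from
        IsLocalRing.ker_residue, hn, Ideal.zero_eq_bot]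
    refine ⟨(Algebra.FormallySmooth.liftOfSurjective (AlgHom.id _ _) g IsLocalRing.residue_surjective hg).toRingHom, ?_⟩
    exact RingHom.ext fun x => Algebra.FormallySmooth.liftOfSurjective_apply (AlgHom.id _ _) g
      IsLocalRing.residue_surjective hg x
  · intro A' _ _ _ _ hnil' hgeo σ hσ
    haveI : Algebra.FormallySmooth (IsLocalRing.ResidueField A) (IsLocalRing.ResidueField A') :=
      Groth.Agent.FieldExtLib.formallySmooth_of_isGeometricallyReduced hgeo
    letI : Algebra (IsLocalRing.ResidueField A) A' := ((algebraMap A A').comp σ).toAlgebra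
    let g : A' →ₐ[IsLocalRing.ResidueField A] IsLocalRing.ResidueField A' :=
      { toRingHom := IsLocalRing.residue A'
        commutes' := fun r => by
          show IsLocalRing.residue A' (algebraMap A A' (σ r)) = _
          conv_rhs => rw [show r = IsLocalRing.residue A (σ r) from (RingHom.congr_fun hσ r).symm]
          rfl }
    have hg : IsNilpotent (RingHom.ker (g : A' →+* IsLocalRing.ResidueField A')) := by
      obtain ⟨n, hn⟩ := hnil'
      refine ⟨n, ?_⟩
      rw [show RingHom.ker (g : A' →+* IsLocalRing.ResidueField A') = IsLocalRing.maximalIdeal A' from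
        IsLocalRing.ker_residue, hn, Ideal.zero_eq_bot]
    let τ := Algebra.FormallySmooth.liftOfSurjective (AlgHom.id (IsLocalRing.ResidueField A) (IsLocalRing.ResidueField A'))
      g IsLocalRing.residue_surjective hg
    refine ⟨τ.toRingHom, RingHom.ext fun x => Algebra.FormallySmooth.liftOfSurjective_apply
      (AlgHom.id _ _) g IsLocalRing.residue_surjective hg x, RingHom.ext fun r => ?_⟩
    exact τ.commutes r

end Groth.Agent.S7150
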