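import Groth.Statements.S7152
import Mathlib.RingTheory.Localization.Away.Basic
import Mathlib.RingTheory.Ideal.Quotient.Operations

set_option autoImplicit false
universe u
open EtAlg

namespace Groth.Agent.S7152

theorem exists_pow_mul_mem {A' A : Type u} [CommRing A'] [CommRing A] [Algebra A' A]
    [Module.Finite A' A] (f : A') (hf : algebraMap A' A f ∈ nonZeroDivisors A)
    (hloc : Function.Surjective (IsLocalization.Away.map (Localization.Away f)
      (Localization.Away (algebraMap A' A f)) (algebraMap A' A) f)) :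
    ∃ m : ℕ, ∀ a : A, ∃ x : A', algebraMap A' A x = algebraMap A' A f ^ m * a := by
  classical
  have hle : Submonoid.powers (algebraMap A' A f) ≤ nonZeroDivisors A :=
    Submonoid.powers_le.2 hf
  have hi : Function.Injective (algebraMap A (Localization.Away (algebraMap A' A f))) :=
    IsLocalization.injective _ hle
  have hone : ∀ a : A, ∃ (k : ℕ) (x : A'), algebraMap A' A x = algebraMap A' A f ^ k * a := by
    intro a
    obtain ⟨y, hy⟩ := hloc (algebraMap A _ a)
    obtain ⟨⟨x, ⟨s, k, rfl⟩⟩, hx⟩ := IsLocalization.surj (Submonoid.powers f) y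
    refine ⟨k, x, hi ?_⟩
    have := congrArg (IsLocalization.Away.map (Localization.Away f)
      (Localization.Away (algebraMap A' A f)) (algebraMap A' A) f) hx
    rw [map_mul, hy] at this
    simp only [IsLocalization.Away.map, IsLocalization.map_eq, map_pow] at this
    rw [← this, map_mul, map_pow, mul_comm]
  choose k x hx using hone
  obtain ⟨s, hs⟩ := Module.Finite.fg_top (R := A') (M := A)
  refine ⟨s.sup k, fun a => ?_⟩
  have ha : a ∈ Submodule.span A' (s : Set A) := hs ▸ Submodule.mem_top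
  induction ha using Submodule.span_induction with
  | mem a ha =>
    obtain ⟨j, hj⟩ := Nat.exists_eq_add_of_le (Finset.le_sup (f := k) ha)
    exact ⟨f ^ j * x a, by rw [map_mul, map_pow, hx a, hj, pow_add]; ring⟩
  | zero => exact ⟨0, by simp⟩
  | add a b _ _ ha hb =>
    obtain ⟨p, hp⟩ := ha; obtain ⟨q, hq⟩ := hb
    exact ⟨p + q, by rw [map_add, hp, hq, mul_add]⟩
  | smul c a _ ha =>
    obtain ⟨p, hp⟩ := ha
    exact ⟨c * p, by rw [map_mul, hp, Algebra.smul_def]; ring⟩

theorem lift_extension {A' A B' : Type u} [CommRing A'] [CommRing A] [CommRing B'] [Algebra A' A]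
    (hinj : Function.Injective (algebraMap A' A)) [Module.Finite A' A] (f : A')
    (hf : algebraMap A' A f ∈ nonZeroDivisors A) (m : ℕ)
    (hm : ∀ a : A, ∃ x : A', algebraMap A' A x = algebraMap A' A f ^ m * a)
    (n : ℕ) (hn : 2 * m + 1 ≤ n) (g : B') (hg : g ∈ nonZeroDivisors B')
    (θ : A' →+* B' ⧸ Ideal.span {g ^ n}) (hθ : Function.Surjective θ)
    (hker : ∀ x, θ x = 0 → f ^ n ∣ x) (hθf : θ f = Ideal.Quotient.mk _ g) :
    ∃ (B : Subalgebra B' (Localization.Away g)),
      Function.Injective (algebraMap B' B) ∧ Module.Finite B' B ∧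
      ∃ φ : (A ⧸ Ideal.span {algebraMap A' A f}) ≃+* (B ⧸ Ideal.span {algebraMap B' B g}),
        ∀ (a' : A') (b' : B'), θ a' = Ideal.Quotient.mk _ b' →
          φ (Ideal.Quotient.mk _ (algebraMap A' A a')) = Ideal.Quotient.mk _ (algebraMap B' B b') := by
  classical
  let π : B' →+* B' ⧸ Ideal.span {g ^ n} := Ideal.Quotient.mk _
  have hπ : ∀ x y : B', π x = π y → ∃ z, x = y + g ^ n * z := by
    intro x y h
    obtain ⟨z, hz⟩ := Ideal.mem_span_singleton.1 (Ideal.Quotient.eq.1 h)
    exact ⟨z, by rw [← hz]; ring⟩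
  have hθf' : ∀ j : ℕ, θ (f ^ j) = π (g ^ j) := fun j => by
    simp only [map_pow, hθf, π]
  choose e he using hm
  have eadd : ∀ a b, e (a + b) = e a + e b := fun a b => hinj (by
    rw [map_add, he, he, he, mul_add])
  have esub : ∀ a b, e (a - b) = e a - e b := fun a b => hinj (by
    rw [map_sub, he, he, he, mul_sub])
  have ealg : ∀ c, e (algebraMap A' A c) = f ^ m * c := fun c => hinj (by
    rw [he, map_mul, map_pow])
  have emul : ∀ a b, e a * e b = f ^ m * e (a * b) := fun a b => hinj (by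
    simp only [map_mul, map_pow, he]; ring)
  have esmul : ∀ (c : A') a, e (algebraMap A' A c * a) = c * e a := fun c a => hinj (by
    simp only [map_mul, he]; ring)
  let L : A → B' ⧸ Ideal.span {g ^ n} := fun a => θ (e a)
  have Ladd : ∀ a b, L (a + b) = L a + L b := fun a b => by simp only [L, eadd, map_add]
  have Lalg : ∀ c b, θ c = π b → L (algebraMap A' A c) = π (g ^ m * b) := fun c b h => by
    simp only [L, ealg, map_mul, hθf', h]
  have L0 : L 0 = 0 := by
    have := Lalg 0 0 (by simp)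
    simpa using this
  have Lker : ∀ a, L a = 0 → a ∈ Ideal.span {algebraMap A' A f} := by
    intro a ha
    obtain ⟨x, hx⟩ := hker _ ha
    obtain ⟨j, hj⟩ : ∃ j, n = m + (j + 1) := ⟨n - m - 1, by omega⟩
    have h1 : algebraMap A' A f ^ m * a
        = algebraMap A' A f ^ m * (algebraMap A' A f ^ (j + 1) * algebraMap A' A x) := by
      rw [← he, hx, map_mul, map_pow, hj, pow_add]; ring
    have h2 := (IsRegular.left (isRegular_iff_mem_nonZeroDivisors.2 (pow_mem hf m))) h1
    exact Ideal.mem_span_singleton.2 ⟨algebraMap A' A f ^ j * algebraMap A' A x, by rw [h2, pow_succ]; ring⟩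
  have hle : Submonoid.powers g ≤ nonZeroDivisors B' := Submonoid.powers_le.2 hg
  have hi : Function.Injective (algebraMap B' (Localization.Away g)) :=
    IsLocalization.injective _ hle
  have hu : IsUnit (algebraMap B' (Localization.Away g) (g ^ m)) :=
    IsLocalization.map_units _ (⟨g ^ m, m, rfl⟩ : Submonoid.powers g)
  let Rel : Localization.Away g → B' → A → Prop := fun y b a =>
    L a = π b ∧ y * algebraMap B' _ (g ^ m) = algebraMap B' _ b
  have radd : ∀ {y₁ b₁ a₁ y₂ b₂ a₂}, Rel y₁ b₁ a₁ → Rel y₂ b₂ a₂ →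
      Rel (y₁ + y₂) (b₁ + b₂) (a₁ + a₂) := by
    rintro y₁ b₁ a₁ y₂ b₂ a₂ ⟨h1, h1'⟩ ⟨h2, h2'⟩
    exact ⟨by rw [Ladd, h1, h2, map_add], by rw [add_mul, h1', h2', map_add]⟩
  have ralg : ∀ c b, θ c = π b → Rel (algebraMap B' _ b) (g ^ m * b) (algebraMap A' A c) :=
    fun c b h => ⟨Lalg c b h, by rw [map_mul, mul_comm]⟩
  have rmul : ∀ {y₁ b₁ a₁ y₂ b₂ a₂}, Rel y₁ b₁ a₁ → Rel y₂ b₂ a₂ →
      ∃ b a, Rel (y₁ * y₂) b a ∧ a - a₁ * a₂ ∈ Ideal.span {algebraMap A' A f} := by
    rintro y₁ b₁ a₁ y₂ b₂ a₂ ⟨h1, h1'⟩ ⟨h2, h2'⟩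
    obtain ⟨b₃, h3⟩ := Ideal.Quotient.mk_surjective (L (a₁ * a₂))
    have hL : π (b₁ * b₂) = π (g ^ m * b₃) := by
      rw [map_mul, map_mul, ← h1, ← h2, show π b₃ = L (a₁ * a₂) from h3, ← hθf']
      simp only [L, ← map_mul, emul]
    obtain ⟨z, hz⟩ := hπ _ _ hL
    obtain ⟨z', hz'⟩ := hθ (π z)
    obtain ⟨j, hj⟩ : ∃ j, n = m + (m + (j + 1)) := ⟨n - 2 * m - 1, by omega⟩
    refine ⟨b₃ + g ^ m * (g ^ (j + 1) * z), a₁ * a₂ + algebraMap A' A (f ^ (j + 1) * z'),
      ⟨?_, ?_⟩, ?_⟩
    · rw [Ladd, Lalg (f ^ (j + 1) * z') (g ^ (j + 1) * z) (by rw [map_mul, map_mul, hθf', hz']),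
        map_add, show π b₃ = L (a₁ * a₂) from h3]
    · apply hu.mul_left_cancel
      calc algebraMap B' (Localization.Away g) (g ^ m) * (y₁ * y₂ * algebraMap B' _ (g ^ m))
          = (y₁ * algebraMap B' _ (g ^ m)) * (y₂ * algebraMap B' _ (g ^ m)) := by ring
        _ = _ := by rw [h1', h2', ← map_mul, ← map_mul, hz, hj, pow_add, pow_add]; congr 1; ring
    · rw [add_sub_cancel_left, map_mul, map_pow, pow_succ]
      exact Ideal.mem_span_singleton.2 ⟨algebraMap A' A f ^ j * algebraMap A' A z', by ring⟩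
  let B : Subalgebra B' (Localization.Away g) :=
  { carrier := {y | ∃ b a, Rel y b a}
    mul_mem' := by
      rintro y₁ y₂ ⟨b₁, a₁, h1⟩ ⟨b₂, a₂, h2⟩
      obtain ⟨b, a, h, -⟩ := rmul h1 h2
      exact ⟨b, a, h⟩
    add_mem' := by
      rintro y₁ y₂ ⟨b₁, a₁, h1⟩ ⟨b₂, a₂, h2⟩
      exact ⟨_, _, radd h1 h2⟩
    algebraMap_mem' := fun b => by
      obtain ⟨c, hc⟩ := hθ (π b)
      exact ⟨_, _, ralg c b hc⟩ }
  have hB : ∀ y : B, ∃ b a, Rel y b a := fun y => y.2
  choose bb aa hab using hB
  have uniq : ∀ {y b a b' a'}, Rel y b a → Rel y b' a' →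
      a - a' ∈ Ideal.span {algebraMap A' A f} := by
    rintro y b a b' a' ⟨h1, h1'⟩ ⟨h2, h2'⟩
    have hbb : b = b' := hi (h1'.symm.trans h2')
    apply Lker
    simp only [L, esub, map_sub]
    exact sub_eq_zero.2 (h1.trans (hbb ▸ h2.symm))
  let ψ₀ : B → A ⧸ Ideal.span {algebraMap A' A f} := fun y => Ideal.Quotient.mk _ (aa y)
  have ψval : ∀ (y : B) b a, Rel y b a → ψ₀ y = Ideal.Quotient.mk _ a := fun y b a h =>
    Ideal.Quotient.eq.2 (uniq (hab y) h)
  have r1 : Rel (1 : Localization.Away g) (g ^ m) 1 := by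
    have := ralg 1 1 (by rw [map_one, map_one])
    simpa using this
  have r0 : Rel (0 : Localization.Away g) 0 0 := ⟨by rw [L0, map_zero], by simp⟩
  let ψ : B →+* A ⧸ Ideal.span {algebraMap A' A f} :=
  { toFun := ψ₀
    map_one' := by rw [ψval 1 _ _ r1, map_one]
    map_mul' := fun y z => by
      obtain ⟨b, a, h, h'⟩ := rmul (hab y) (hab z)
      rw [ψval (y * z) b a h, Ideal.Quotient.eq.2 h', map_mul]
    map_zero' := by rw [ψval 0 _ _ r0, map_zero]
    map_add' := fun y z => by
      rw [ψval (y + z) _ _ (radd (hab y) (hab z)), map_add] }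
  have ψalg : ∀ c b, θ c = π b → ψ (algebraMap B' B b) = Ideal.Quotient.mk _ (algebraMap A' A c) :=
    fun c b h => ψval _ _ _ (ralg c b h)
  have hmk : ∀ a : A, ∃ y : B, ∃ b, Rel y b a := by
    intro a
    obtain ⟨b, hb⟩ := Ideal.Quotient.mk_surjective (L a)
    obtain ⟨u, hu'⟩ := hu
    have h : Rel (algebraMap B' _ b * ↑u⁻¹) b a :=
      ⟨hb.symm, by rw [← hu', mul_assoc, Units.inv_mul, mul_one]⟩
    exact ⟨⟨_, b, a, h⟩, b, h⟩
  have ψsurj : Function.Surjective ψ := by
    intro q
    obtain ⟨a, rfl⟩ := Ideal.Quotient.mk_surjective q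
    obtain ⟨y, b, h⟩ := hmk a
    exact ⟨y, ψval y b a h⟩
  have ψker : Ideal.span {algebraMap B' B g} = RingHom.ker ψ := by
    apply le_antisymm
    · rw [Ideal.span_le, Set.singleton_subset_iff]
      show ψ (algebraMap B' B g) = 0
      rw [ψalg f g hθf]
      exact Ideal.Quotient.eq_zero_iff_mem.2 (Ideal.subset_span rfl)
    · intro y hy
      obtain ⟨c, hc⟩ := Ideal.mem_span_singleton.1 (Ideal.Quotient.eq_zero_iff_mem.1
        (show ψ₀ y = 0 from hy))
      obtain ⟨h1, h1'⟩ := hab y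
      obtain ⟨w, bw, hw, hw'⟩ := hmk c
      have hL : π (bb y) = π (g * bw) := by
        rw [← h1, hc, map_mul, ← hw, ← hθf]
        simp only [L, esmul, map_mul]
      obtain ⟨z, hz⟩ := hπ _ _ hL
      obtain ⟨j, hj⟩ : ∃ j, n = 1 + (m + j) := ⟨n - m - 1, by omega⟩
      refine Ideal.mem_span_singleton.2 ⟨w + algebraMap B' B (g ^ j * z), ?_⟩
      apply Subtype.ext
      show (y : Localization.Away g) = algebraMap B' _ g *
        ((w : Localization.Away g) + algebraMap B' _ (g ^ j * z))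
      apply hu.mul_right_cancel
      rw [h1', hz, mul_assoc, add_mul, hw', ← map_mul, ← map_add, ← map_mul, hj, pow_add, pow_add]
      congr 1
      ring
  refine ⟨B, fun x y h => hi (congrArg Subtype.val h), ?_, ?_⟩
  · obtain ⟨s, hs⟩ := Module.Finite.fg_top (R := A') (M := A)
    choose lift blift hlift using hmk
    let S : Set B := insert 1 (lift '' (s : Set A))
    refine ⟨Submodule.fg_def.2 ⟨S, (s.finite_toSet.image _).insert 1, ?_⟩⟩
    have key : ∀ a : A, ∃ y : B, y ∈ Submodule.span B' S ∧ ∃ b, Rel y b a := by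
      intro a
      have ha : a ∈ Submodule.span A' (s : Set A) := hs ▸ Submodule.mem_top
      induction ha using Submodule.span_induction with
      | mem a ha => exact ⟨lift a, Submodule.subset_span (Or.inr ⟨a, ha, rfl⟩), blift a, hlift a⟩
      | zero => exact ⟨0, zero_mem _, 0, r0⟩
      | add a b _ _ ha hb =>
        obtain ⟨y, hy, c, hc⟩ := ha; obtain ⟨z, hz, d, hd⟩ := hb
        exact ⟨y + z, add_mem hy hz, _, radd hc hd⟩
      | smul c a _ ha =>
        obtain ⟨y, hy, b, hb, hb'⟩ := ha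
        obtain ⟨d, hd⟩ := Ideal.Quotient.mk_surjective (θ c)
        refine ⟨d • y, Submodule.smul_mem _ _ hy, d * b, ?_, ?_⟩
        · rw [Algebra.smul_def, map_mul, ← hb, show π d = θ c from hd]
          simp only [L, esmul, map_mul]
        · show (d • (y : Localization.Away g)) * _ = _
          rw [Algebra.smul_def, mul_assoc, hb', ← map_mul]
    refine top_unique fun y _ => ?_
    obtain ⟨y₀, hy₀, b₀, h0, h0'⟩ := key (aa y)
    obtain ⟨h1, h1'⟩ := hab y
    obtain ⟨z, hz⟩ := hπ _ _ (h1.symm.trans h0)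
    obtain ⟨j, hj⟩ : ∃ j, n = m + j := ⟨n - m, by omega⟩
    have : y = y₀ + (g ^ j * z) • (1 : B) := by
      apply Subtype.ext
      show (y : Localization.Away g) = (y₀ : Localization.Away g) + (g ^ j * z) • (1 : Localization.Away g)
      apply hu.mul_right_cancel
      rw [h1', hz, Algebra.smul_def, mul_one, add_mul, h0', ← map_mul, ← map_add, hj, pow_add]
      congr 1
      ring
    rw [this]
    exact add_mem hy₀ (Submodule.smul_mem _ _ (Submodule.subset_span (Or.inl rfl)))
  · let E := (Ideal.quotEquivOfEq ψker).trans (RingHom.quotientKerEquivOfSurjective ψsurj)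
    refine ⟨E.symm, fun a' b' h => ?_⟩
    rw [RingEquiv.symm_apply_eq]
    exact (ψalg a' b' h).symm


/-- Let A' ⊆ A be an extension of rings and f an element of A'. Assume A is finite over A', f is a
nonzerodivisor on A, and A'_f = A_f. Then there is n₀ > 0 such that for all n ≥ n₀ the following
holds: given a ring B', a nonzerodivisor g of B' and an isomorphism φ' : A'/fⁿA' → B'/gⁿB' sending
the class of f to the class of g, one can find a ring B containing B' as a subring and finite as a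
B'-module, together with a ring isomorphism φ : A/fA → B/gB that agrees with φ' (i.e. the square
formed by the maps A'/fⁿA' → A/fA and B'/gⁿB' → B/gB commutes). -/
theorem result (A' A : Type u) [CommRing A'] [CommRing A] [Algebra A' A]
    (hinj : Function.Injective (algebraMap A' A)) [Module.Finite A' A] (f : A')
    (hf : algebraMap A' A f ∈ nonZeroDivisors A)
    (hloc : Function.Bijective (IsLocalization.Away.map (Localization.Away f)
      (Localization.Away (algebraMap A' A f)) (algebraMap A' A) f)) :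
    ∃ n₀ : ℕ, 0 < n₀ ∧ ∀ n : ℕ, n₀ ≤ n →
      ∀ (B' : Type u) [CommRing B'] (g : B'), g ∈ nonZeroDivisors B' →
        ∀ φ' : (A' ⧸ Ideal.span {f ^ n}) ≃+* (B' ⧸ Ideal.span {g ^ n}),
        φ' (Ideal.Quotient.mk (Ideal.span {f ^ n}) f) = Ideal.Quotient.mk (Ideal.span {g ^ n}) g →
        ∃ (B : Type u) (_ : CommRing B) (_ : Algebra B' B),
          Function.Injective (algebraMap B' B) ∧ Module.Finite B' B ∧
          ∃ φ : (A ⧸ Ideal.span {algebraMap A' A f}) ≃+* (B ⧸ Ideal.span {algebraMap B' B g}),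
            ∀ (a' : A') (b' : B'),
              φ' (Ideal.Quotient.mk (Ideal.span {f ^ n}) a') = Ideal.Quotient.mk (Ideal.span {g ^ n}) b' →
              φ (Ideal.Quotient.mk (Ideal.span {algebraMap A' A f}) (algebraMap A' A a')) =
                Ideal.Quotient.mk (Ideal.span {algebraMap B' B g}) (algebraMap B' B b') := by
  obtain ⟨m, hm⟩ := exists_pow_mul_mem f hf hloc.2
  refine ⟨2 * m + 1, by omega, fun n hn B' _ g hg φ' hφ' => ?_⟩
  obtain ⟨B, h1, h2, φ, hφ⟩ := lift_extension hinj f hf m hm n hn g hg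
    ((φ' : (A' ⧸ Ideal.span {f ^ n}) →+* (B' ⧸ Ideal.span {g ^ n})).comp (Ideal.Quotient.mk _))
    (φ'.surjective.comp Ideal.Quotient.mk_surjective)
    (fun x hx => Ideal.mem_span_singleton.1 (Ideal.Quotient.eq_zero_iff_mem.1
      (φ'.injective (hx.trans (map_zero φ').symm))))
    hφ'
  exact ⟨B, inferInstance, inferInstance, h1, h2, φ, hφ⟩

end Groth.Agent.S7152
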