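import Groth.Statements.S7157
import Groth.Agent.EisExtLib.Basic
open Polynomial Groth.Agent.EisExtLib
-- import your own Groth.Agent.* helpers here

set_option autoImplicit false
universe u
open EtAlg

namespace Groth.Agent.S7157

/-- Let A be a discrete valuation ring, π a uniformizer, K its field of fractions, and suppose the
residue field of A has characteristic p > 0. For every n > 1 and every power q of p there is a
separable degree-q extension L/K that is totally ramified with respect to A and whose ring of
integers B (the integral closure of A in L) contains elements π_B, b, b' with π_B^q = π + πⁿ·b and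
π_B^q = π + π_B^(nq)·b' (π_B is then a uniformizer of B and the ramification index is q). -/
theorem result (p : ℕ) (hp : p.Prime) (A K : Type u)
    [CommRing A] [IsDomain A] [IsDiscreteValuationRing A] [Field K] [Algebra A K] [IsFractionRing A K]
    [CharP (IsLocalRing.ResidueField A) p] (π : A) (hπ : IsLocalRing.maximalIdeal A = Ideal.span {π})
    (n : ℕ) (hn : 1 < n) (k : ℕ) :
    ∃ (L : Type u) (_ : Field L) (_ : Algebra K L) (_ : Algebra A L) (_ : IsScalarTower A K L),
      Module.finrank K L = p ^ k ∧ Algebra.IsSeparable K L ∧ EtRam.IsTotallyRamified A (algebraMap A L) ∧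
      ∃ πB b b' : L, πB ∈ integralClosure A L ∧ b ∈ integralClosure A L ∧ b' ∈ integralClosure A L ∧
        πB ^ (p ^ k) = algebraMap A L π + algebraMap A L π ^ n * b ∧
        πB ^ (p ^ k) = algebraMap A L π + πB ^ (n * p ^ k) * b' := by

  classical
  have hirrπ : Irreducible π := (IsDiscreteValuationRing.irreducible_iff_uniformizer π).2 hπ
  have hq0 : p ^ k ≠ 0 := pow_ne_zero _ hp.ne_zero
  set q := p ^ k with hqdef
  let c : A := if q = 1 then 0 else π ^ n
  let e : A := if q = 1 then 0 else 1
  have hc : c = π ^ n * e := by simp only [c, e]; split_ifs <;> simp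
  let f : A[X] := X ^ q + (-(C c * X) - C π)
  have hlow : (-(C c * X) - C π : A[X]).degree < (q : ℕ) := by
    simp only [c]
    split_ifs with h1
    · simp only [map_zero, zero_mul, neg_zero, zero_sub, degree_neg]
      exact lt_of_le_of_lt degree_C_le (by exact_mod_cast Nat.pos_of_ne_zero hq0)
    · refine lt_of_le_of_lt (degree_sub_le _ _) (max_lt ?_ ?_)
      · rw [degree_neg]
        exact lt_of_le_of_lt (degree_C_mul_X_le _) (by exact_mod_cast (by omega : 1 < q))
      · exact lt_of_le_of_lt degree_C_le (by exact_mod_cast Nat.pos_of_ne_zero hq0)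
  have hmon : f.Monic := monic_X_pow_add hlow
  have hdeg : f.natDegree = q := by
    have : f.degree = (q : ℕ) := by
      simp only [f]
      rw [degree_add_eq_left_of_degree_lt (by rw [degree_X_pow]; exact hlow), degree_X_pow]
    exact natDegree_eq_of_degree_eq_some this
  have hcπ : c ∈ IsLocalRing.maximalIdeal A := by
    rw [hπ, Ideal.mem_span_singleton, hc]
    exact (dvd_pow_self π (by omega)).mul_right _
  have heis : f.IsEisensteinAt (IsLocalRing.maximalIdeal A) := by
    refine ⟨?_, fun {j} hj => ?_, ?_⟩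
    · rw [hmon.leadingCoeff]; exact (IsLocalRing.maximalIdeal A).ne_top_iff_one.1 (IsLocalRing.maximalIdeal.isMaximal A).ne_top
    · rw [hdeg] at hj
      simp only [f, coeff_add, coeff_X_pow, if_neg hj.ne, zero_add, coeff_sub, coeff_neg, coeff_C_mul, coeff_X, coeff_C]
      refine sub_mem (neg_mem (Ideal.mul_mem_right _ _ hcπ)) ?_
      split_ifs
      · rw [hπ]; exact Ideal.mem_span_singleton_self π
      · exact zero_mem _
    · have h0 : f.coeff 0 = -π := by
        simp [f, coeff_X_pow, Ne.symm hq0, coeff_C]
      rw [h0, neg_mem_iff, hπ, Ideal.span_singleton_pow, Ideal.mem_span_singleton]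
      intro h
      rw [sq] at h
      exact hirrπ.not_isUnit (isUnit_of_dvd_one ((mul_dvd_mul_iff_left hirrπ.ne_zero).1 (by rw [mul_one]; exact h)))
  have hirr : Irreducible f := heis.irreducible inferInstance hmon.isPrimitive (by omega)
  have hirrK : Irreducible (f.map (algebraMap A K)) := (hmon.irreducible_iff_irreducible_map_fraction_map).1 hirr
  haveI : Fact (Irreducible (f.map (algebraMap A K))) := ⟨hirrK⟩
  let L := AdjoinRoot (f.map (algebraMap A K))
  let ρ : AdjoinRoot f →+* L := AdjoinRoot.map (algebraMap A K) f (f.map (algebraMap A K)) dvd_rfl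
  letI : Algebra (AdjoinRoot f) L := ρ.toAlgebra
  haveI : IsScalarTower A (AdjoinRoot f) L := IsScalarTower.of_algebraMap_eq fun a => by
    rw [RingHom.algebraMap_toAlgebra, AdjoinRoot.algebraMap_eq]
    simp only [ρ]
    rw [AdjoinRoot.map_of]
    rfl
  haveI : IsDomain (AdjoinRoot f) := AdjoinRoot.isDomain_of_prime hirr.prime
  have hρmk : ∀ P : A[X], ρ (AdjoinRoot.mk f P) = AdjoinRoot.mk (f.map (algebraMap A K)) (P.map (algebraMap A K)) := by
    intro P
    induction P using Polynomial.induction_on' with
    | add P Q hP hQ => simp only [map_add, Polynomial.map_add, hP, hQ]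
    | monomial j a =>
      rw [← C_mul_X_pow_eq_monomial]
      simp only [map_mul, map_pow, AdjoinRoot.mk_C, AdjoinRoot.mk_X, Polynomial.map_mul, Polynomial.map_pow, map_C, map_X]
      simp only [ρ]
      rw [AdjoinRoot.map_of, AdjoinRoot.map_root]
  have hρ : Function.Injective ρ := by
    rw [injective_iff_map_eq_zero]
    intro z hz
    obtain ⟨P, rfl⟩ := AdjoinRoot.mk_surjective z
    rw [hρmk, AdjoinRoot.mk_eq_zero, Polynomial.map_dvd_map _ (IsFractionRing.injective A K) hmon] at hz
    exact AdjoinRoot.mk_eq_zero.2 hz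
  haveI : FaithfulSMul (AdjoinRoot f) L := (faithfulSMul_iff_algebraMap_injective _ _).2 hρ
  haveI : IsFractionRing (AdjoinRoot f) L := by
    refine IsFractionRing.of_field _ _ fun z => ?_
    obtain ⟨P, rfl⟩ := AdjoinRoot.mk_surjective z
    obtain ⟨b, hb⟩ := IsLocalization.integerNormalization_map_to_map (nonZeroDivisors A) P
    refine ⟨AdjoinRoot.mk f (IsLocalization.integerNormalization (nonZeroDivisors A) P), AdjoinRoot.mk f (C (b : A)), ?_⟩
    rw [RingHom.algebraMap_toAlgebra]
    rw [hρmk, hρmk, map_C, hb, eq_div_iff, Algebra.smul_def, map_mul, mul_comm]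
    · rfl
    · rw [AdjoinRoot.mk_C]
      exact (map_ne_zero (AdjoinRoot.of (f.map (algebraMap A K)))).2
        (IsFractionRing.to_map_ne_zero_of_mem_nonZeroDivisors b.2)
  have hxroot : (AdjoinRoot.root f) ^ q = algebraMap A _ π * (1 + algebraMap A _ (π ^ (n - 1) * e) * AdjoinRoot.root f) := by
    have h := AdjoinRoot.eval₂_root f
    simp only [f, eval₂_add, eval₂_sub, eval₂_neg, eval₂_mul, eval₂_X, eval₂_C, eval₂_X_pow] at h
    have hce : algebraMap A (AdjoinRoot f) π * algebraMap A _ (π ^ (n - 1) * e) = algebraMap A _ c := by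
      rw [← map_mul, ← mul_assoc, ← pow_succ', Nat.sub_add_cancel (by omega), hc]
    rw [mul_add, mul_one, ← mul_assoc, hce, AdjoinRoot.algebraMap_eq]
    linear_combination h
  haveI : Module.Finite A (AdjoinRoot f) := hmon.finite_adjoinRoot
  have hwM : ∀ M : Ideal (AdjoinRoot f), M.IsMaximal → (1 + algebraMap A _ (π ^ (n - 1) * e) * AdjoinRoot.root f) ∉ M := by
    intro M hM h
    haveI := hM
    haveI : (M.under A).IsMaximal := Ideal.isMaximal_comap_of_isIntegral_of_isMaximal (R := A) M
    have h1 : π ^ (n - 1) * e ∈ M.under A := by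
      rw [IsLocalRing.eq_maximalIdeal ‹(M.under A).IsMaximal›, hπ]
      exact Ideal.mul_mem_right _ _ (Ideal.pow_mem_of_mem _ (Ideal.mem_span_singleton_self π) _ (by omega))
    exact hM.ne_top ((Ideal.eq_top_iff_one M).2 ((Submodule.add_mem_iff_left M (M.mul_mem_right _ (show algebraMap A _ _ ∈ M from h1))).1 h))
  have hwu : IsUnit (1 + algebraMap A (AdjoinRoot f) (π ^ (n - 1) * e) * AdjoinRoot.root f) := by
    by_contra h
    obtain ⟨M, hM, hm'⟩ := exists_max_ideal_of_mem_nonunits (mem_nonunits_iff.2 h)
    exact hwM M hM hm'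
  obtain ⟨w, hw⟩ := hwu
  refine ⟨L, inferInstance, inferInstance, inferInstance, inferInstance, ?_, ?_, ?_, ρ (AdjoinRoot.root f),
    ρ (algebraMap A _ e * AdjoinRoot.root f), ρ ((algebraMap A _ e * AdjoinRoot.root f) * ↑w⁻¹ ^ n), ?_, ?_, ?_, ?_, ?_⟩
  · rw [(AdjoinRoot.powerBasis hirrK.ne_zero).finrank, AdjoinRoot.powerBasis_dim, hmon.natDegree_map, hdeg]
  · have hsep : (f.map (algebraMap A K)).Separable := by
      rw [Polynomial.separable_iff_derivative_ne_zero hirrK]
      intro h
      have h0 := congrArg (fun P : K[X] => P.coeff 0) h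
      by_cases hq1 : q = 1
      · simp [f, c, hq1] at h0
      · simp [f, c, hq1, coeff_X_pow, derivative_X_pow, coeff_derivative, coeff_C, coeff_X, show (1 : ℕ) ≠ q by omega, hirrπ.ne_zero] at h0
        rw [← map_pow, coeff_C_zero, if_neg (by omega), zero_add, neg_eq_zero, ← map_pow] at h0
        exact pow_ne_zero n hirrπ.ne_zero (IsFractionRing.injective A K (h0.trans (map_zero _).symm))
    haveI : Module.Finite K L := (AdjoinRoot.powerBasis hirrK.ne_zero).finite
    have htop : IntermediateField.adjoin K {AdjoinRoot.root (f.map (algebraMap A K))} = ⊤ :=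
      IntermediateField.adjoin_eq_top_of_algebra K _ AdjoinRoot.adjoinRoot_eq_top
    haveI : Algebra.IsSeparable K ↥(⊤ : IntermediateField K L) := by
      rw [← htop, IntermediateField.isSeparable_adjoin_simple_iff_isSeparable, IsSeparable,
        AdjoinRoot.minpoly_root hirrK.ne_zero, (hmon.map _).leadingCoeff, inv_one, map_one, mul_one]
      exact hsep
    exact AlgEquiv.Algebra.isSeparable (IntermediateField.topEquiv (F := K) (E := L))
  · exact isTotallyRamified_of_isEisensteinAt hirrπ hmon (by omega) heis ⟨_, hwM, by rw [hdeg]; exact hxroot⟩ L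
  any_goals exact (Algebra.IsIntegral.isIntegral (R := A) _).map (IsScalarTower.toAlgHom A (AdjoinRoot f) L)
  · rw [IsScalarTower.algebraMap_apply A (AdjoinRoot f) L, RingHom.algebraMap_toAlgebra, ← map_pow, ← map_pow, ← map_mul, ← map_add]
    congr 1
    rw [hxroot, ← map_pow, ← mul_assoc, ← map_mul]
    conv_rhs => rw [← Nat.sub_add_cancel (show 1 ≤ n by omega), pow_succ']
    simp only [map_mul, map_pow]
    ring
  · rw [IsScalarTower.algebraMap_apply A (AdjoinRoot f) L, RingHom.algebraMap_toAlgebra, ← map_pow, ← map_pow, ← map_mul, ← map_add]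
    congr 1
    have hwinv : (↑w : AdjoinRoot f) ^ n * ↑w⁻¹ ^ n = 1 := by rw [← mul_pow, Units.mul_inv, one_pow]
    rw [mul_comm n q, pow_mul, hxroot, ← hw]
    have hn1 : algebraMap A (AdjoinRoot f) π ^ n = algebraMap A _ π * algebraMap A _ π ^ (n - 1) := by
      rw [← pow_succ', Nat.sub_add_cancel (by omega)]
    have hw' : (↑w : AdjoinRoot f) = 1 + algebraMap A _ π ^ (n - 1) * algebraMap A _ e * AdjoinRoot.root f := by
      rw [hw, map_mul, map_pow]
    rw [mul_pow]
    linear_combination algebraMap A (AdjoinRoot f) π * hw' - (algebraMap A (AdjoinRoot f) π ^ n * algebraMap A _ e * AdjoinRoot.root f) * hwinv - algebraMap A _ e * AdjoinRoot.root f * hn1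

end Groth.Agent.S7157
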