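import Groth.Statements.S7160
import Mathlib


set_option autoImplicit false
universe u
open CategoryTheory CategoryTheory.Pretriangulated
attribute [local instance] HasDerivedCategory.standard
open CAlg

namespace Groth.Agent.S7160

/-- Let R be a ring, f an element of R, M an object of D(R) and C the cone of f : M → M. Suppose that
H^i(M)_f = 0 whenever i < 0 (every element of H^i(M) is killed by a power of f) and that H^i(C) = 0
whenever i < -1. Then H^i(M) vanishes for every i < 0. -/
theorem result (R : Type u) [CommRing R] (f : R) (M C : Dual.D R)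
    (g : M ⟶ C) (h : C ⟶ M⟦(1 : ℤ)⟧) (hT : Triangle.mk (f • 𝟙 M) g h ∈ distinguishedTriangles)
    (hloc : ∀ i : ℤ, i < 0 → ∀ x : Dual.HD R M i, ∃ n : ℕ, f ^ n • x = 0)
    (hC : ∀ i : ℤ, i < -1 → Subsingleton (Dual.HD R C i)) :
    ∀ i : ℤ, i < 0 → Subsingleton (Dual.HD R M i) := by
  intro i hi
  have hsmul : (DerivedCategory.homologyFunctor (ModuleCat.{u} R) i).map (f • 𝟙 M) = f • 𝟙 _ := by
    let e := (DerivedCategory.Q (C := ModuleCat.{u} R)).objObjPreimageIso M
    let K : CochainComplex (ModuleCat.{u} R) ℤ := (DerivedCategory.Q (C := ModuleCat.{u} R)).objPreimage M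
    have hK : HomologicalComplex.homologyMap (f • 𝟙 K) i = f • 𝟙 (K.homology i) := by
      show ShortComplex.homologyMap ((HomologicalComplex.shortComplexFunctor _ _ i).map (f • 𝟙 K)) = _
      rw [show (HomologicalComplex.shortComplexFunctor _ _ i).map (f • 𝟙 K) = f • 𝟙 (K.sc i) by ext <;> rfl,
        ShortComplex.homologyMap_smul, ShortComplex.homologyMap_id]
      rfl
    have hQ : (DerivedCategory.homologyFunctor (ModuleCat.{u} R) i).map (DerivedCategory.Q.map (f • 𝟙 K)) = f • 𝟙 _ := by
      refine (NatIso.naturality_2 (DerivedCategory.homologyFunctorFactors (ModuleCat.{u} R) i) (f • 𝟙 K)).symm.trans ?_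
      show _ ≫ HomologicalComplex.homologyMap (f • 𝟙 K) i ≫ _ = _
      rw [hK, Linear.smul_comp, Category.id_comp, Linear.comp_smul]
      exact congrArg (f • ·) ((DerivedCategory.homologyFunctorFactors (ModuleCat.{u} R) i).hom_inv_id_app K)
    have he : f • 𝟙 M = e.inv ≫ DerivedCategory.Q.map (f • 𝟙 K) ≫ e.hom := by
      rw [Functor.map_smul, CategoryTheory.Functor.map_id, Linear.smul_comp, Linear.comp_smul]
      simp
    rw [he, Functor.map_comp, Functor.map_comp, hQ, Linear.smul_comp, Category.id_comp, Linear.comp_smul,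
      ← Functor.map_comp, e.inv_hom_id, CategoryTheory.Functor.map_id]
  have hm : Mono ((DerivedCategory.homologyFunctor (ModuleCat.{u} R) i).map (f • 𝟙 M)) := by
    have hex := DerivedCategory.HomologySequence.exact₁ _ hT (i - 1) i (by omega)
    haveI : Subsingleton ((DerivedCategory.homologyFunctor (ModuleCat.{u} R) (i - 1)).obj C) := hC (i - 1) (by omega)
    exact hex.mono_g ((ModuleCat.isZero_of_subsingleton ((DerivedCategory.homologyFunctor (ModuleCat.{u} R) (i - 1)).obj C)).eq_of_src _ _)
  rw [hsmul] at hm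
  have hinj : ∀ x : Dual.HD R M i, f • x = 0 → x = 0 := fun x hx =>
    (ModuleCat.mono_iff_injective _).mp hm (a₁ := x) (a₂ := 0) (show f • x = f • (0 : Dual.HD R M i) from hx.trans (smul_zero f).symm)
  have hpow : ∀ n : ℕ, ∀ x : Dual.HD R M i, f ^ n • x = 0 → x = 0 := fun n => by
    induction n with
    | zero => intro x hx; simpa using hx
    | succ n ih => intro x hx; rw [pow_succ, mul_smul] at hx; exact hinj x (ih _ hx)
  exact ⟨fun x y => by
    obtain ⟨n, hn⟩ := hloc i hi x
    obtain ⟨n', hn'⟩ := hloc i hi y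
    rw [hpow n x hn, hpow n' y hn']⟩

end Groth.Agent.S7160
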