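import Groth.Statements.S7161
import Mathlib
import Groth.Agent.TorLib.Basic
import Groth.Agent.TorLib.TopRegular

set_option autoImplicit false
universe u
open CategoryTheory
open CAlg

namespace Groth.Agent.S7161
namespace Helper

open CategoryTheory CategoryTheory.Limits MonoidalCategory Groth.Agent.TorLib

variable {A : Type u} [CommRing A] {N : ModuleCat.{u} A} (P : ProjectiveResolution N)

theorem tor_map_eq_zero {X Y : ModuleCat.{u} A} (f : X ⟶ Y) (p : ℕ)
    (h : HomologicalComplex.homologyMap (cxMap P f) p = 0) :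
    ((CategoryTheory.Tor (ModuleCat.{u} A) p).map f).app N = 0 := by
  show (NatTrans.leftDerived ((tensoringLeft (ModuleCat.{u} A)).map f) p).app N = 0
  rw [P.leftDerived_app_eq]
  show _ ≫ HomologicalComplex.homologyMap (cxMap P f) p ≫ _ = 0
  rw [h, zero_comp, comp_zero]

/-- `f` induces zero on all `Tor_p(-, N)`. -/
def Zero {X Y : Type u} [AddCommGroup X] [Module A X] [AddCommGroup Y] [Module A Y] (f : X →ₗ[A] Y) : Prop :=
  ∀ p : ℕ, HomologicalComplex.homologyMap (cxMap P (ModuleCat.ofHom f)) p = 0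

theorem cxMap_comp {X Y Z : ModuleCat.{u} A} (f : X ⟶ Y) (g : Y ⟶ Z) :
    cxMap P (f ≫ g) = cxMap P f ≫ cxMap P g := by
  ext n : 1
  exact comp_whiskerRight f g (P.complex.X n)

theorem cxMap_add {X Y : ModuleCat.{u} A} (f g : X ⟶ Y) :
    cxMap P (f + g) = cxMap P f + cxMap P g := by
  ext n : 1
  exact MonoidalPreadditive.add_whiskerRight f g

variable {X Y Z : Type u} [AddCommGroup X] [Module A X] [AddCommGroup Y] [Module A Y]
  [AddCommGroup Z] [Module A Z]

variable {P}

theorem Zero.comp_left {g : Y →ₗ[A] Z} (hg : Zero P g) (f : X →ₗ[A] Y) : Zero P (g ∘ₗ f) := fun p => by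
  rw [ModuleCat.ofHom_comp, cxMap_comp, HomologicalComplex.homologyMap_comp, hg p, comp_zero]

theorem Zero.comp_right {f : X →ₗ[A] Y} (hf : Zero P f) (g : Y →ₗ[A] Z) : Zero P (g ∘ₗ f) := fun p => by
  rw [ModuleCat.ofHom_comp, cxMap_comp, HomologicalComplex.homologyMap_comp, hf p, zero_comp]

theorem zero_add' {f g : X →ₗ[A] Y} (hf : Zero P f) (hg : Zero P g) : Zero P (f + g) := fun p => by
  rw [show ModuleCat.ofHom (f + g) = ModuleCat.ofHom f + ModuleCat.ofHom g from rfl, cxMap_add,
    HomologicalComplex.homologyMap_add, hf p, hg p, add_zero]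

theorem zero_of_src [Subsingleton X] (f : X →ₗ[A] Y) : Zero P f := fun p => by
  have h : f = 0 := LinearMap.ext fun x => by simp [Subsingleton.elim x 0]
  rw [h, show ModuleCat.ofHom (0 : X →ₗ[A] Y) = 0 from rfl]
  have : cxMap P (0 : ModuleCat.of A X ⟶ ModuleCat.of A Y) = 0 := by
    ext n : 1
    exact MonoidalPreadditive.zero_whiskerRight
  rw [this, HomologicalComplex.homologyMap_zero]

theorem Zero.of_le {M : Type u} [AddCommGroup M] [Module A M] {S S' : Submodule A M}
    (h : Zero P S.subtype) (hle : S' ≤ S) : Zero P S'.subtype := by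
  have := h.comp_left (Submodule.inclusion hle)
  rwa [Submodule.subtype_comp_inclusion] at this

/-- Multiplication by an element killing `N`. -/
theorem zero_smul_id (x : A) (hx : ∀ y : N, x • y = 0) (M : Type u) [AddCommGroup M] [Module A M] :
    Zero P (x • (LinearMap.id : M →ₗ[A] M)) := by
  intro p
  show HomologicalComplex.homologyMap (cxMap P (x • 𝟙 (ModuleCat.of A M))) p = 0
  rw [homologyMap_smul_cx]
  have h0 : (x • 𝟙 P.complex) ≫ P.π = 0 := by
    ext q : 1
    rw [HomologicalComplex.comp_f, HomologicalComplex.smul_f_apply, HomologicalComplex.id_f,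
      Linear.smul_comp, Category.id_comp, HomologicalComplex.zero_f]
    ext y
    exact hx _
  let F := (tensorLeft (ModuleCat.of A M)).mapHomologicalComplex (ComplexShape.down ℕ)
  have h1 : HomologicalComplex.homologyMap (F.map (x • 𝟙 P.complex)) p = 0 := by
    rw [((tensorLeft (ModuleCat.of A M)).mapHomotopy
      (ProjectiveResolution.liftHomotopyZero (Q := P) _ h0)).homologyMap_eq p]
    rw [Functor.map_zero, HomologicalComplex.homologyMap_zero]
  have h2 : F.map (x • 𝟙 P.complex) = cxMap P (x • 𝟙 (ModuleCat.of A M)) := by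
    ext m : 1
    show ModuleCat.of A M ◁ (x • 𝟙 (P.complex.X m)) = (x • 𝟙 (ModuleCat.of A M)) ▷ P.complex.X m
    rw [MonoidalLinear.whiskerLeft_smul, MonoidalLinear.smul_whiskerRight, whiskerLeft_id, id_whiskerRight]
  rw [h2, homologyMap_smul_cx] at h1
  exact h1

theorem Zero.prod {M : Type u} [AddCommGroup M] [Module A M] {g : X × Y →ₗ[A] M}
    (h₁ : Zero P (g ∘ₗ LinearMap.inl A X Y)) (h₂ : Zero P (g ∘ₗ LinearMap.inr A X Y)) : Zero P g := by
  have h : g = (g ∘ₗ LinearMap.inl A X Y) ∘ₗ LinearMap.fst A X Y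
      + (g ∘ₗ LinearMap.inr A X Y) ∘ₗ LinearMap.snd A X Y := by
    refine LinearMap.ext fun v => ?_
    simp [← map_add]
  rw [h]
  exact zero_add' (h₁.comp_left _) (h₂.comp_left _)

/-- Composing two steps of a ladder. -/
theorem ladder {S S' : ShortComplex (ModuleCat.{u} A)} (hS : S.ShortExact) (hS' : S'.ShortExact)
    (φ : S ⟶ S') {M : ModuleCat.{u} A} (g : S'.X₃ ⟶ M)
    (h₁ : ∀ p, HomologicalComplex.homologyMap (cxMap P φ.τ₁) p = 0)
    (h₂ : ∀ p, HomologicalComplex.homologyMap (cxMap P (S'.g ≫ g)) p = 0) (p : ℕ) :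
    HomologicalComplex.homologyMap (cxMap P (φ.τ₃ ≫ g)) p = 0 := by
  have hT := cxSeq_shortExact P hS
  have hT' := cxSeq_shortExact P hS'
  have e : HomologicalComplex.homologyMap (cxMap P S.g) p ≫
      HomologicalComplex.homologyMap (cxMap P (φ.τ₃ ≫ g)) p = 0 := by
    rw [← HomologicalComplex.homologyMap_comp, ← cxMap_comp, ← Category.assoc, ← φ.comm₂₃,
      Category.assoc, cxMap_comp, HomologicalComplex.homologyMap_comp, h₂ p, comp_zero]
  match p with
  | 0 =>
    haveI : Epi (HomologicalComplex.homologyMap (cxMap P S.g) 0) := by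
      haveI : Epi (S.g ▷ N) := (ModuleCat.epi_iff_surjective _).2
        (LinearMap.rTensor_surjective _ ((ModuleCat.epi_iff_surjective _).1 hS.epi_g))
      have := h0Iso_naturality P S.g
      rw [← Iso.eq_comp_inv] at this
      rw [this]
      infer_instance
    exact zero_of_epi_comp _ e
  | q + 1 =>
    let Φ : cxSeq P S ⟶ cxSeq P S' :=
      { τ₁ := cxMap P φ.τ₁
        τ₂ := cxMap P φ.τ₂
        τ₃ := cxMap P φ.τ₃
        comm₁₂ := by
          show cxMap P φ.τ₁ ≫ cxMap P S'.f = cxMap P S.f ≫ cxMap P φ.τ₂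
          rw [← cxMap_comp, ← cxMap_comp, φ.comm₁₂]
        comm₂₃ := by
          show cxMap P φ.τ₂ ≫ cxMap P S'.g = cxMap P S.g ≫ cxMap P φ.τ₃
          rw [← cxMap_comp, ← cxMap_comp, φ.comm₂₃] }
    have hn := HomologicalComplex.HomologySequence.δ_naturality Φ hT hT' (q + 1) q (by simp)
    have h0 : HomologicalComplex.homologyMap (cxMap P φ.τ₃) (q + 1) ≫ hT'.δ (q + 1) q (by simp) = 0 := by
      have : hT.δ (q + 1) q (by simp) ≫ HomologicalComplex.homologyMap (cxMap P φ.τ₁) q
          = HomologicalComplex.homologyMap (cxMap P φ.τ₃) (q + 1) ≫ hT'.δ (q + 1) q (by simp) := hn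
      rw [← this, h₁ q, comp_zero]
    obtain ⟨W, π, _, l, hl⟩ := (hT'.homology_exact₃ (q + 1) q (by simp)).exact_up_to_refinements
      (HomologicalComplex.homologyMap (cxMap P φ.τ₃) (q + 1)) h0
    rw [← cancel_epi π, cxMap_comp, HomologicalComplex.homologyMap_comp, ← Category.assoc, hl,
      comp_zero, Category.assoc]
    show l ≫ HomologicalComplex.homologyMap (cxMap P S'.g) (q + 1) ≫ _ = 0
    rw [← HomologicalComplex.homologyMap_comp, ← cxMap_comp, h₂ (q + 1), comp_zero]

/-- `U ⊓ V → U × V → U ⊔ V`. -/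
abbrev sumSeq {M : Type u} [AddCommGroup M] [Module A M] (U V : Submodule A M) :
    ShortComplex (ModuleCat.{u} A) :=
  ShortComplex.mk
    (X₁ := ModuleCat.of A ↥(U ⊓ V)) (X₂ := ModuleCat.of A (U × V)) (X₃ := ModuleCat.of A ↥(U ⊔ V))
    (ModuleCat.ofHom (LinearMap.prod (Submodule.inclusion (inf_le_left : U ⊓ V ≤ U))
      (-(Submodule.inclusion (inf_le_right : U ⊓ V ≤ V)))))
    (ModuleCat.ofHom (LinearMap.coprod (Submodule.inclusion (le_sup_left : U ≤ U ⊔ V))
      (Submodule.inclusion (le_sup_right : V ≤ U ⊔ V))))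
    (ModuleCat.hom_ext (LinearMap.ext fun w => Subtype.ext (add_neg_cancel (w : M))))

theorem sumSeq_shortExact {M : Type u} [AddCommGroup M] [Module A M] (U V : Submodule A M) :
    (sumSeq U V).ShortExact :=
  shortExact_mk (LinearMap.prod (Submodule.inclusion (inf_le_left : U ⊓ V ≤ U))
      (-(Submodule.inclusion (inf_le_right : U ⊓ V ≤ V))))
    (LinearMap.coprod (Submodule.inclusion (le_sup_left : U ≤ U ⊔ V))
      (Submodule.inclusion (le_sup_right : V ≤ U ⊔ V)))
    (fun v w h => Subtype.ext (congrArg (fun z : U × V => (z.1 : M)) h))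
    (fun v => by
      obtain ⟨y, hy, z, hz, hyz⟩ := Submodule.mem_sup.1 v.2
      exact ⟨(⟨y, hy⟩, ⟨z, hz⟩), Subtype.ext hyz⟩)
    (fun v => ⟨fun h => by
      have h1 : (v.1 : M) + (v.2 : M) = 0 := congrArg Subtype.val h
      have h2 : (v.1 : M) = -(v.2 : M) := eq_neg_of_add_eq_zero_left h1
      refine ⟨⟨v.1, v.1.2, h2 ▸ V.neg_mem v.2.2⟩, Prod.ext (Subtype.ext rfl) (Subtype.ext ?_)⟩
      show -(v.1 : M) = (v.2 : M)
      rw [h2, neg_neg],
    fun ⟨w, hw⟩ => by
      subst hw
      exact Subtype.ext (add_neg_cancel (w : M))⟩)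

theorem ofHom_g {M : Type u} [AddCommGroup M] [Module A M] (U V : Submodule A M) :
    (sumSeq U V).g ≫ ModuleCat.ofHom (U ⊔ V).subtype = ModuleCat.ofHom ((U ⊔ V).subtype ∘ₗ
      LinearMap.coprod (Submodule.inclusion (le_sup_left : U ≤ U ⊔ V))
        (Submodule.inclusion (le_sup_right : V ≤ U ⊔ V))) :=
  (ModuleCat.ofHom_comp _ _).symm

/-- The morphism between two sum sequences. -/
abbrev sumMap {M : Type u} [AddCommGroup M] [Module A M] {U V U' V' : Submodule A M} (hU : U ≤ U') (hV : V ≤ V') :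
    sumSeq U V ⟶ sumSeq U' V' where
  τ₁ := ModuleCat.ofHom (Submodule.inclusion (inf_le_inf hU hV))
  τ₂ := ModuleCat.ofHom ((Submodule.inclusion hU).prodMap (Submodule.inclusion hV))
  τ₃ := ModuleCat.ofHom (Submodule.inclusion (sup_le_sup hU hV))
  comm₁₂ := ModuleCat.hom_ext (LinearMap.ext fun _ => Prod.ext (Subtype.ext rfl) (Subtype.ext rfl))
  comm₂₃ := ModuleCat.hom_ext (LinearMap.ext fun _ => Subtype.ext rfl)

theorem sum_step {M : Type u} [AddCommGroup M] [Module A M] {U V U' V' : Submodule A M} (hU : U ≤ U') (hV : V ≤ V')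
    (hW : Zero P (Submodule.inclusion (inf_le_inf hU hV)))
    (hg : Zero P ((U' ⊔ V').subtype ∘ₗ LinearMap.coprod (Submodule.inclusion (le_sup_left : U' ≤ U' ⊔ V'))
      (Submodule.inclusion (le_sup_right : V' ≤ U' ⊔ V')))) :
    Zero P (U ⊔ V).subtype := by
  intro p
  have h := ladder (sumSeq_shortExact U V) (sumSeq_shortExact U' V') (sumMap hU hV)
    (ModuleCat.ofHom (U' ⊔ V').subtype) hW (fun q => by rw [ofHom_g]; exact hg q) p
  rw [show (sumMap hU hV).τ₃ ≫ ModuleCat.ofHom (U' ⊔ V').subtype = ModuleCat.ofHom (U ⊔ V).subtype from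
    ModuleCat.hom_ext (LinearMap.ext fun _ => rfl)] at h
  exact h

variable (P)

theorem exists_zero [IsNoetherianRing A] (I : Ideal A) (hI : ∀ a ∈ I, ∀ y : N, a • y = 0)
    (M : Type u) [AddCommGroup M] [Module A M] [Module.Finite A M] :
    ∃ n : ℕ, Zero P (I ^ n • ⊤ : Submodule A M).subtype := by
  suffices h : ∀ J : Ideal A, J.FG → J ≤ I → ∀ (M : Type u) [AddCommGroup M] [Module A M]
      [Module.Finite A M], ∃ n : ℕ, Zero P (J ^ n • ⊤ : Submodule A M).subtype from
    h I (IsNoetherian.noetherian I) le_rfl M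
  intro J hJ
  induction J, hJ using Submodule.fg_induction with
  | singleton x =>
    intro hxI M _ _ _
    have hx : ∀ y : N, x • y = 0 := hI x (hxI (Submodule.mem_span_singleton_self x))
    obtain ⟨c, hc⟩ := monotone_stabilizes_iff_noetherian.2 (inferInstance : IsNoetherian A M)
      ⟨fun i => LinearMap.ker ((x ^ i) • (LinearMap.id : M →ₗ[A] M)), monotone_nat_of_le_succ fun i m hm => by
        simp only [LinearMap.mem_ker, LinearMap.smul_apply, LinearMap.id_apply] at hm ⊢
        rw [pow_succ', mul_smul, hm, smul_zero]⟩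
    have hmem : ∀ (i : ℕ) (m : M), m ∈ ((Ideal.span {x}) ^ i • ⊤ : Submodule A M) ↔ ∃ m', x ^ i • m' = m := by
      intro i m
      rw [Ideal.span_singleton_pow, Submodule.ideal_span_singleton_smul, Submodule.mem_smul_pointwise_iff_exists]
      simp
    let S := ((Ideal.span {x}) ^ c • ⊤ : Submodule A M)
    let S' := ((Ideal.span {x}) ^ (c + 1) • ⊤ : Submodule A M)
    let e : S →ₗ[A] S' := ((x • S.subtype).codRestrict S' fun s => by
      obtain ⟨m', hm'⟩ := (hmem c s).1 s.2
      exact (hmem (c + 1) _).2 ⟨m', by rw [pow_succ', mul_smul, hm']; rfl⟩)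
    have he : Function.Bijective e := by
      refine ⟨(injective_iff_map_eq_zero e).2 fun s hs => Subtype.ext ?_, fun s => ?_⟩
      · obtain ⟨m', hm'⟩ := (hmem c s).1 s.2
        have h1 : x • (s : M) = 0 := congrArg Subtype.val hs
        have h2 : m' ∈ LinearMap.ker ((x ^ (c + 1)) • (LinearMap.id : M →ₗ[A] M)) := by
          rw [LinearMap.mem_ker, LinearMap.smul_apply, LinearMap.id_apply, pow_succ', mul_smul, hm', h1]
        have h3 : LinearMap.ker ((x ^ c) • (LinearMap.id : M →ₗ[A] M))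
            = LinearMap.ker ((x ^ (c + 1)) • (LinearMap.id : M →ₗ[A] M)) := hc (c + 1) (Nat.le_succ c)
        rw [← h3, LinearMap.mem_ker, LinearMap.smul_apply, LinearMap.id_apply, hm'] at h2
        exact h2
      · obtain ⟨m', hm'⟩ := (hmem (c + 1) s).1 s.2
        refine ⟨⟨x ^ c • m', (hmem c _).2 ⟨m', rfl⟩⟩, Subtype.ext ?_⟩
        show x • x ^ c • m' = s
        rw [← hm', pow_succ', mul_smul]
    refine ⟨c + 1, ?_⟩
    let e' := LinearEquiv.ofBijective e he
    have h : S'.subtype = ((x • LinearMap.id) ∘ₗ S.subtype) ∘ₗ e'.symm.toLinearMap := by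
      refine LinearMap.ext fun s => ?_
      obtain ⟨s₀, rfl⟩ := e'.surjective s
      simp only [LinearMap.comp_apply, LinearEquiv.coe_coe, LinearEquiv.symm_apply_apply]
      rfl
    show Zero P S'.subtype
    rw [h]
    exact ((zero_smul_id x hx M).comp_left _).comp_left _
  | sup J₁ J₂ _ _ ih₁ ih₂ =>
    intro hle M _ _ _
    obtain ⟨n₁, hn₁⟩ := ih₁ (le_sup_left.trans hle) M
    obtain ⟨n₂, hn₂⟩ := ih₂ (le_sup_right.trans hle) M
    let b := max n₁ n₂
    let U : ℕ → Submodule A M := fun i => J₁ ^ i • ⊤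
    let V : ℕ → Submodule A M := fun i => J₂ ^ i • ⊤
    obtain ⟨n₃, hn₃⟩ := ih₂ (le_sup_right.trans hle) ↥(U b ⊓ V b)
    obtain ⟨k, hk⟩ := Ideal.exists_pow_inf_eq_pow_smul J₂ (U b ⊓ V b)
    let a := b + k + n₃
    have hU : U a ≤ U b := Submodule.smul_mono_left (Ideal.pow_le_pow_right (by omega))
    have hV : V a ≤ V b := Submodule.smul_mono_left (Ideal.pow_le_pow_right (by omega))
    refine ⟨a + a, Zero.of_le (S := U a ⊔ V a) ?_ ?_⟩
    swap
    · refine (Submodule.smul_mono_left (Ideal.sup_pow_add_le_pow_sup_pow (I := J₁) (J := J₂))).trans ?_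
      rw [Submodule.sup_smul]
    have hW : Zero P (Submodule.inclusion (inf_le_inf hU hV)) := by
      have hmem : ∀ w : ↥(U a ⊓ V a), Submodule.inclusion (inf_le_inf hU hV) w
          ∈ (J₂ ^ n₃ • ⊤ : Submodule A ↥(U b ⊓ V b)) := by
        intro w
        rw [Submodule.mem_smul_top_iff]
        have h1 : (w : M) ∈ J₂ ^ a • ⊤ ⊓ (U b ⊓ V b) := ⟨w.2.2, hU w.2.1, hV w.2.2⟩
        rw [hk a (by omega)] at h1
        refine Submodule.smul_mono (Ideal.pow_le_pow_right (by omega)) inf_le_right h1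
      exact hn₃.comp_left ((Submodule.inclusion (inf_le_inf hU hV)).codRestrict _ hmem)
    have hg : Zero P ((U b ⊔ V b).subtype ∘ₗ
        LinearMap.coprod (Submodule.inclusion (le_sup_left : U b ≤ U b ⊔ V b))
          (Submodule.inclusion (le_sup_right : V b ≤ U b ⊔ V b))) := by
      refine Zero.prod ?_ ?_
      · rw [LinearMap.comp_assoc, LinearMap.coprod_inl, Submodule.subtype_comp_inclusion]
        exact hn₁.of_le (Submodule.smul_mono_left (Ideal.pow_le_pow_right (le_max_left _ _)))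
      · rw [LinearMap.comp_assoc, LinearMap.coprod_inr, Submodule.subtype_comp_inclusion]
        exact hn₂.of_le (Submodule.smul_mono_left (Ideal.pow_le_pow_right (le_max_right _ _)))
    exact sum_step hU hV hW hg

end Helper


/-- Let A be a Noetherian ring, I an ideal, M a finite A-module and N an A-module annihilated by I. Then
there is an integer n > 0 such that the maps Tor_p^A(IⁿM, N) → Tor_p^A(M, N) induced by IⁿM ⊆ M are
zero for all p ≥ 0. -/
theorem result (A : Type u) [CommRing A] [IsNoetherianRing A] (I : Ideal A)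
    (M N : Type u) [AddCommGroup M] [Module A M] [Module.Finite A M] [AddCommGroup N] [Module A N]
    (hN : ∀ a ∈ I, ∀ y : N, a • y = 0) :
    ∃ n : ℕ, 0 < n ∧ ∀ p : ℕ,
      ((CategoryTheory.Tor (ModuleCat.{u} A) p).map (ModuleCat.ofHom (I ^ n • ⊤ : Submodule A M).subtype)).app
        (ModuleCat.of A N) = 0 := by
  obtain ⟨n, hn⟩ := Helper.exists_zero (CategoryTheory.projectiveResolution (ModuleCat.of A N)) I
    (fun a ha y => hN a ha y) M
  refine ⟨n + 1, Nat.succ_pos n, fun p => ?_⟩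
  have hle : (I ^ (n + 1) • ⊤ : Submodule A M) ≤ I ^ n • ⊤ :=
    Submodule.smul_mono_left (Ideal.pow_le_pow_right (Nat.le_succ n))
  have h := Helper.Zero.of_le hn hle
  exact Helper.tor_map_eq_zero _ _ p (h p)

end Groth.Agent.S7161
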