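import Groth.Statements.S7162
import Groth.Agent.SHDescentLib.Descend

set_option autoImplicit false
universe u
open EtAlg

namespace Groth.Agent.S7162

/-- Let A → B be an injective local homomorphism of discrete valuation rings whose fields of fractions
are K ⊆ L. There is a commutative square of such extensions A ⊆ A', B ⊆ B', A' ⊆ B' (with fraction
fields K', L') such that (1) K'/K and L'/L are separable algebraic, (2) the residue field of A' is a
separable algebraic closure of that of A, and likewise for B' over B, and (3) whenever A' ⊆ B'
admits a solution (respectively a separable solution), so does A ⊆ B. (The published statement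
asserts (3) for weak solutions as well; that clause is left out here: a weak solution for A' ⊆ B'
descends to a finite extension of K but controls only those local extensions attached to embeddings
compatible with K ⊆ K', and weak solutions, unlike solutions, are not preserved under passing to a
normal closure; the clause can fail when the residue field of A is not separably closed in that of
B.) -/
theorem result (A B K L : Type u) [CommRing A] [IsDomain A]
    [IsDiscreteValuationRing A] [CommRing B] [IsDomain B] [IsDiscreteValuationRing B] [Algebra A B]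
    (hinj : Function.Injective (algebraMap A B)) [IsLocalHom (algebraMap A B)]
    [Field K] [Field L] [Algebra A K] [IsFractionRing A K] [Algebra B L] [IsFractionRing B L]
    [Algebra K L] [Algebra A L] [IsScalarTower A K L] [IsScalarTower A B L] :
    ∃ (A' B' K' L' : Type u) (_ : CommRing A') (_ : IsDomain A') (_ : IsDiscreteValuationRing A')
      (_ : CommRing B') (_ : IsDomain B') (_ : IsDiscreteValuationRing B') (_ : Field K') (_ : Field L')
      (_ : Algebra A A') (_ : Algebra B B') (_ : Algebra A' B') (_ : Algebra A B')
      (_ : IsScalarTower A B B') (_ : IsScalarTower A A' B')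
      (_ : Algebra A' K') (_ : IsFractionRing A' K') (_ : Algebra B' L') (_ : IsFractionRing B' L')
      (_ : Algebra K' L') (_ : Algebra A' L') (_ : IsScalarTower A' K' L') (_ : IsScalarTower A' B' L')
      (_ : Algebra K K') (_ : Algebra A K') (_ : IsScalarTower A K K') (_ : IsScalarTower A A' K')
      (_ : Algebra L L') (_ : Algebra B L') (_ : IsScalarTower B L L') (_ : IsScalarTower B B' L')
      (hA : IsLocalHom (algebraMap A A')) (hB : IsLocalHom (algebraMap B B')) (_ : IsLocalHom (algebraMap A' B')),
      Function.Injective (algebraMap A A') ∧ Function.Injective (algebraMap B B') ∧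
      Function.Injective (algebraMap A' B') ∧
      Algebra.IsSeparable K K' ∧ Algebra.IsSeparable L L' ∧
      (letI := (IsLocalRing.ResidueField.map (algebraMap A A')).toAlgebra
       IsSepClosure (IsLocalRing.ResidueField A) (IsLocalRing.ResidueField A')) ∧
      (letI := (IsLocalRing.ResidueField.map (algebraMap B B')).toAlgebra
       IsSepClosure (IsLocalRing.ResidueField B) (IsLocalRing.ResidueField B')) ∧
      ((∃ (K₁ : Type u) (_ : Field K₁) (_ : Algebra K' K₁), FiniteDimensional K' K₁ ∧ EtRam.IsSolution B' K' L' K₁) →
        ∃ (K₁ : Type u) (_ : Field K₁) (_ : Algebra K K₁), FiniteDimensional K K₁ ∧ EtRam.IsSolution B K L K₁) ∧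
      ((∃ (K₁ : Type u) (_ : Field K₁) (_ : Algebra K' K₁), FiniteDimensional K' K₁ ∧ Algebra.IsSeparable K' K₁ ∧
          EtRam.IsSolution B' K' L' K₁) →
        ∃ (K₁ : Type u) (_ : Field K₁) (_ : Algebra K K₁), FiniteDimensional K K₁ ∧ Algebra.IsSeparable K K₁ ∧
          EtRam.IsSolution B K L K₁) := by
  classical
  obtain ⟨A', _, _, _, hlA, hA'⟩ := Groth.Agent.Henselization.exists_strictHenselization A
  obtain ⟨B', _, _, _, hlB, hB'⟩ := Groth.Agent.Henselization.exists_strictHenselization B
  haveI := hlA
  haveI := hlB
  haveI := hA'
  haveI := hB'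
  obtain ⟨hAd, hAv⟩ := Groth.Agent.SHDescentLib.isDVR_sh A (S := A')
  obtain ⟨hBd, hBv⟩ := Groth.Agent.SHDescentLib.isDVR_sh B (S := B')
  haveI := hAd
  haveI := hAv
  haveI := hBd
  haveI := hBv
  haveI := hA'.isSepClosure
  haveI := hB'.isSepClosure
  haveI : IsSepClosed (IsLocalRing.ResidueField B') := hB'.isSepClosure.sep_closed
  haveI : Algebra.IsSeparable (IsLocalRing.ResidueField A) (IsLocalRing.ResidueField A') :=
    Groth.Agent.SHInter.isSeparable_residue_sh
  letI : Algebra A B' := ((algebraMap B B').comp (algebraMap A B)).toAlgebra
  haveI : IsScalarTower A B B' := IsScalarTower.of_algebraMap_eq fun _ => rfl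
  haveI hlAB : IsLocalHom (algebraMap A B') := RingHom.isLocalHom_comp (algebraMap B B') (algebraMap A B)
  haveI := hB'.henselian
  let τ : IsLocalRing.ResidueField A' →ₐ[IsLocalRing.ResidueField A] IsLocalRing.ResidueField B' := IsSepClosed.lift
  obtain ⟨g, ⟨hg, hgr⟩, -⟩ := hA'.universal B' (algebraMap A B') τ.toRingHom (RingHom.ext fun x => by
    obtain ⟨x, rfl⟩ := IsLocalRing.residue_surjective x
    exact τ.commutes (IsLocalRing.residue A x))
  letI : Algebra A' B' := g.toAlgebra
  haveI : IsScalarTower A A' B' := IsScalarTower.of_algebraMap_eq fun x => (RingHom.congr_fun hg x).symm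
  haveI hlg : IsLocalHom (algebraMap A' B') := ⟨fun x hx => by
    by_contra hnx
    have h1 : IsLocalRing.residue B' (g x) = 0 := by
      rw [hgr, (IsLocalRing.residue_eq_zero_iff x).2 hnx, map_zero]
    exact (IsLocalRing.mem_maximalIdeal _).1 ((IsLocalRing.residue_eq_zero_iff _).1 h1) hx⟩
  have hiA : Function.Injective (algebraMap A A') := Groth.Agent.SHDescentLib.injective_sh
  have hiB : Function.Injective (algebraMap B B') := Groth.Agent.SHDescentLib.injective_sh
  have hig : Function.Injective (algebraMap A' B') := by
    refine (injective_iff_map_eq_zero _).2 fun x hx => ?_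
    by_contra hx0
    obtain ⟨π, hπ⟩ := IsDiscreteValuationRing.exists_irreducible A
    have hπ' : IsLocalRing.maximalIdeal A' = Ideal.span {algebraMap A A' π} := by
      rw [← Groth.Agent.SHInter.map_maximalIdeal_sh (A := A), hπ.maximalIdeal_eq, Ideal.map_span, Set.image_singleton]
    obtain ⟨k, v, rfl⟩ := IsDiscreteValuationRing.eq_unit_mul_pow_irreducible hx0
      ((IsDiscreteValuationRing.irreducible_iff_uniformizer _).2 hπ')
    rw [map_mul, map_pow, ← IsScalarTower.algebraMap_apply A A' B'] at hx
    refine mul_ne_zero ((v.isUnit.map (algebraMap A' B')).ne_zero) (pow_ne_zero k ?_) hx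
    rw [IsScalarTower.algebraMap_apply A B B']
    exact (map_ne_zero_iff _ hiB).2 ((map_ne_zero_iff _ hinj).2 hπ.ne_zero)
  let K' := FractionRing A'
  let L' := FractionRing B'
  have hiA'L : Function.Injective (algebraMap A' L') := by
    rw [IsScalarTower.algebraMap_eq A' B' L']
    exact (IsFractionRing.injective B' L').comp hig
  letI : Algebra K' L' := (IsFractionRing.lift hiA'L).toAlgebra
  haveI : IsScalarTower A' K' L' := IsScalarTower.of_algebraMap_eq fun x =>
    (IsFractionRing.lift_algebraMap hiA'L x).symm
  have hiAK : Function.Injective (algebraMap A K') := by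
    rw [IsScalarTower.algebraMap_eq A A' K']
    exact (IsFractionRing.injective A' K').comp hiA
  letI : Algebra K K' := (IsFractionRing.lift hiAK).toAlgebra
  haveI : IsScalarTower A K K' := IsScalarTower.of_algebraMap_eq fun x =>
    (IsFractionRing.lift_algebraMap hiAK x).symm
  have hiBL : Function.Injective (algebraMap B L') := by
    rw [IsScalarTower.algebraMap_eq B B' L']
    exact (IsFractionRing.injective B' L').comp hiB
  letI : Algebra L L' := (IsFractionRing.lift hiBL).toAlgebra
  haveI : IsScalarTower B L L' := IsScalarTower.of_algebraMap_eq fun x =>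
    (IsFractionRing.lift_algebraMap hiBL x).symm
  haveI hsK : Algebra.IsSeparable K K' := Groth.Agent.SHDescentLib.isSeparable_frac (A := A) (S := A') K K'
  have hsL : Algebra.IsSeparable L L' := Groth.Agent.SHDescentLib.isSeparable_frac (A := B) (S := B') L L'
  refine ⟨A', B', K', L', inferInstance, inferInstance, inferInstance, inferInstance, inferInstance, inferInstance,
    inferInstance, inferInstance, inferInstance, inferInstance, inferInstance, inferInstance, inferInstance,
    inferInstance, inferInstance, inferInstance, inferInstance, inferInstance, inferInstance, inferInstance,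
    inferInstance, inferInstance, inferInstance, inferInstance, inferInstance, inferInstance, inferInstance,
    inferInstance, inferInstance, inferInstance, hlA, hlB, hlg, hiA, hiB, hig, hsK, hsL, ?_, ?_, ?_, ?_⟩
  · have halg : (IsLocalRing.ResidueField.map (algebraMap A A')).toAlgebra =
        (inferInstance : Algebra (IsLocalRing.ResidueField A) (IsLocalRing.ResidueField A')) :=
      Algebra.algebra_ext _ _ fun x => by
        obtain ⟨x, rfl⟩ := IsLocalRing.residue_surjective x
        rfl
    exact (congrArg (fun al : Algebra (IsLocalRing.ResidueField A) (IsLocalRing.ResidueField A') =>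
      @IsSepClosure (IsLocalRing.ResidueField A) _ (IsLocalRing.ResidueField A') _ al) halg).mpr hA'.isSepClosure
  · have halg : (IsLocalRing.ResidueField.map (algebraMap B B')).toAlgebra =
        (inferInstance : Algebra (IsLocalRing.ResidueField B) (IsLocalRing.ResidueField B')) :=
      Algebra.algebra_ext _ _ fun x => by
        obtain ⟨x, rfl⟩ := IsLocalRing.residue_surjective x
        rfl
    exact (congrArg (fun al : Algebra (IsLocalRing.ResidueField B) (IsLocalRing.ResidueField B') =>
      @IsSepClosure (IsLocalRing.ResidueField B) _ (IsLocalRing.ResidueField B') _ al) halg).mpr hB'.isSepClosure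
  · rintro ⟨K₁, _, _, hfin, hsol⟩
    haveI := hfin
    obtain ⟨N, i₁, i₂, hN, hNsol, -⟩ :=
      Groth.Agent.SHDescentLib.descend (A := A) (B := B) (A' := A') (B' := B') (K := K) (L := L) (K' := K') (L' := L')
        hiB K₁ hsol
    exact ⟨N, i₁, i₂, hN, hNsol⟩
  · rintro ⟨K₁, _, _, hfin, hsep, hsol⟩
    haveI := hfin
    obtain ⟨N, i₁, i₂, hN, hNsol, hNsep⟩ :=
      Groth.Agent.SHDescentLib.descend (A := A) (B := B) (A' := A') (B' := B') (K := K) (L := L) (K' := K') (L' := L')
        hiB K₁ hsol
    exact ⟨N, i₁, i₂, hN, hNsep hsep, hNsol⟩

end Groth.Agent.S7162
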