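import Groth.Statements.S7164
import Mathlib
import Groth.Agent.ExtCocycle.Basic

set_option autoImplicit false
universe u
open CategoryTheory
attribute [local instance] HasDerivedCategory.standard
open CAlg

namespace Groth.Agent.S7164

/-- Let A be a Noetherian ring, I an ideal, K a pseudo-coherent object of D(A) and a an integer. Assume
that for every finite A-module M and every i ≥ a the module Ext^i_A(K, M) is I-power torsion. Then
for i ≥ a and M finite the inverse system (Ext^i_A(K, M/IⁿM))_n is essentially constant with value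
Ext^i_A(K, M) (so that Ext^i_A(K, M) = lim Ext^i_A(K, M/IⁿM)): concretely, some comparison map
Ext^i(K, M) → Ext^i(K, M/I^mM) is injective and for every n there is m' ≥ n such that the image of
the transition map Ext^i(K, M/I^(m')M) → Ext^i(K, M/IⁿM) is contained in the image of Ext^i(K, M).
Here Ext^i(K, X) = Hom_{D(A)}(K, X[i]). -/
theorem result (A : Type u) [CommRing A] [IsNoetherianRing A]
    (I : Ideal A) (K : Dual.D A) (hK : DRing.IsPseudoCoherent' A K) (a : ℤ)
    (htors : ∀ (M : Type u) [AddCommGroup M] [Module A M], Module.Finite A M → ∀ i : ℤ, a ≤ i →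
      ∀ e : K ⟶ (Dual.inD A M)⟦i⟧, ∃ n : ℕ, ∀ x ∈ I ^ n, x • e = 0)
    (M : Type u) [AddCommGroup M] [Module A M] [Module.Finite A M] (i : ℤ) (hi : a ≤ i) :
    let Mq : ℕ → Submodule A M := fun n => I ^ n • ⊤
    let c : ∀ n : ℕ, (K ⟶ (Dual.inD A M)⟦i⟧) → (K ⟶ (Dual.inD A (M ⧸ Mq n))⟦i⟧) :=
      fun n e => e ≫ ((DerivedCategory.singleFunctor (ModuleCat.{u} A) 0).map (ModuleCat.ofHom (Mq n).mkQ))⟦i⟧'
    let t : ∀ n m : ℕ, n ≤ m → (K ⟶ (Dual.inD A (M ⧸ Mq m))⟦i⟧) → (K ⟶ (Dual.inD A (M ⧸ Mq n))⟦i⟧) :=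
      fun n m hnm e => e ≫ ((DerivedCategory.singleFunctor (ModuleCat.{u} A) 0).map (ModuleCat.ofHom
        (Submodule.mapQ (Mq m) (Mq n) (LinearMap.id : M →ₗ[A] M) (Submodule.smul_mono_left (Ideal.pow_le_pow_right hnm)))))⟦i⟧'
    (∃ m : ℕ, Function.Injective (c m)) ∧
      ∀ n : ℕ, ∃ (m' : ℕ) (hnm : n ≤ m'), Set.range (t n m' hnm) ⊆ Set.range (c n) := by
  intro Mq c t
  obtain ⟨E, b, hb, hE, ⟨e⟩⟩ := hK
  haveI hfin : ∀ p, Module.Finite A (E.X p) := fun p => (hE p).1
  haveI hfree : ∀ p, Module.Free A (E.X p) := fun p => (hE p).2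
  haveI hproj : E.IsKProjective := DRingLib.isKProjective_of_vanishesAbove hb fun p => inferInstance
  have h : i + -i = 0 := by ring
  have hinj : ∀ {P : ModuleCat.{u} A} (f g : E.X (-i) ⟶ P), (∀ v, f.hom v = g.hom v) → f = g :=
    fun f g hfg => ModuleCat.hom_ext (LinearMap.ext hfg)
  refine ⟨?_, fun n => ?_⟩
  · obtain ⟨m, hm⟩ := ExtCocycle.exists_pow_coboundary E e I i (-i) (-i + 1) h rfl (ModuleCat.of A M)
      (fun f => htors M inferInstance i hi f)
    refine ⟨m, fun e₁ e₂ he => ?_⟩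
    obtain ⟨φ₁, hφ₁, rfl⟩ := ExtCocycle.exists_cls (M := ModuleCat.of A M) E e i (-i) h e₁
    obtain ⟨φ₂, hφ₂, rfl⟩ := ExtCocycle.exists_cls (M := ModuleCat.of A M) E e i (-i) h e₂
    let φ := φ₁ - φ₂
    let π : ModuleCat.of A M ⟶ ModuleCat.of A (M ⧸ Mq m) := ModuleCat.ofHom (Mq m).mkQ
    have hφ : ExtCocycle.IsCocycle E (-i) φ := fun p hp => by
      simp only [φ, Preadditive.comp_sub, hφ₁ p hp, hφ₂ p hp, sub_zero]
    have hadd : ExtCocycle.IsCocycle E (-i) (φ + φ₂) := fun p hp => by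
      simp only [Preadditive.comp_add, hφ p hp, hφ₂ p hp, add_zero]
    have hsum := ExtCocycle.cls_add E e i (-i) h φ φ₂ hφ hφ₂ hadd
    rw [ExtCocycle.cls_congr E e i (-i) h hadd hφ₁ (sub_add_cancel φ₁ φ₂)] at hsum
    suffices h0 : ExtCocycle.cls E e i (-i) h φ hφ = 0 by rw [hsum, h0, zero_add]
    have hπ : ExtCocycle.IsCocycle E (-i) (φ ≫ π) := fun p hp => by
      rw [← Category.assoc, hφ p hp, Limits.zero_comp]
    have hz : ExtCocycle.cls E e i (-i) h (φ ≫ π) hπ = 0 := by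
      rw [← ExtCocycle.cls_comp E e i (-i) h φ hφ π hπ]
      change ExtCocycle.cls E e i (-i) h φ₁ hφ₁ ≫ _ = ExtCocycle.cls E e i (-i) h φ₂ hφ₂ ≫ _ at he
      rw [hsum, Preadditive.add_comp] at he
      exact add_eq_right.mp he
    obtain ⟨ψ, hψ⟩ := ExtCocycle.exists_of_cls_eq_zero E e i (-i) h _ hπ (-i + 1) rfl hz
    obtain ⟨ψ', hψ'⟩ := Module.projective_lifting_property (Mq m).mkQ ψ.hom (Submodule.mkQ_surjective _)
    obtain ⟨χ, hχ⟩ := hm (φ - E.d (-i) (-i + 1) ≫ ModuleCat.ofHom ψ')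
      (fun p hp => by
        rw [Preadditive.comp_sub, hφ p hp, ← Category.assoc, HomologicalComplex.d_comp_d, Limits.zero_comp,
          sub_zero])
      (fun v => by
        rw [← Submodule.Quotient.mk_eq_zero]
        have h1 := LinearMap.congr_fun (congrArg ModuleCat.Hom.hom hψ) v
        have h2 := LinearMap.congr_fun hψ' ((E.d (-i) (-i + 1)).hom v)
        show (Mq m).mkQ _ = 0
        simp only [ModuleCat.hom_sub, LinearMap.sub_apply, map_sub, ModuleCat.hom_comp,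
          LinearMap.comp_apply, ModuleCat.hom_ofHom] at h1 h2 ⊢
        rw [h2, h1]
        exact sub_self _)
    exact ExtCocycle.cls_eq_zero E e i (-i) h φ hφ (-i + 1) rfl (χ + ModuleCat.ofHom ψ') (by
      rw [Preadditive.comp_add, hχ, sub_add_cancel])
  · let M' := Mq n
    haveI : Module.Finite A M' := Module.Finite.iff_fg.2 (IsNoetherian.noetherian M')
    have h' : (i + 1) + (-i - 1) = 0 := by ring
    obtain ⟨c₀, hc₀⟩ := ExtCocycle.exists_pow_coboundary E e I (i + 1) (-i - 1) (-i) h' (by ring)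
      (ModuleCat.of A M') (fun f => htors M' inferInstance (i + 1) (by omega) f)
    refine ⟨c₀ + n, Nat.le_add_left _ _, ?_⟩
    rintro _ ⟨e', rfl⟩
    obtain ⟨φb, hφb, rfl⟩ := ExtCocycle.exists_cls (M := ModuleCat.of A (M ⧸ Mq (c₀ + n))) E e i (-i) h e'
    obtain ⟨φ, hφl⟩ := Module.projective_lifting_property (Mq (c₀ + n)).mkQ φb.hom (Submodule.mkQ_surjective _)
    let η : (E.X (-i - 1) : Type u) →ₗ[A] M := φ ∘ₗ (E.d (-i - 1) (-i)).hom
    have hηm : ∀ v, η v ∈ Mq (c₀ + n) := fun v => by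
      rw [← Submodule.Quotient.mk_eq_zero]
      have h1 := LinearMap.congr_fun (congrArg ModuleCat.Hom.hom (hφb (-i - 1) (by simp))) v
      have h2 := LinearMap.congr_fun hφl ((E.d (-i - 1) (-i)).hom v)
      simp only [ModuleCat.hom_comp, LinearMap.comp_apply] at h1 h2
      exact h2.trans h1
    have hle : Mq (c₀ + n) ≤ M' := Submodule.smul_mono_left (Ideal.pow_le_pow_right (Nat.le_add_left _ _))
    let η' : (E.X (-i - 1) : Type u) →ₗ[A] M' := η.codRestrict M' fun v => hle (hηm v)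
    obtain ⟨ψ, hψ⟩ := hc₀ (ModuleCat.ofHom η')
      (ExtCocycle.isCocycle_of E _ _ (-i - 1 - 1) (by ring) (ModuleCat.hom_ext (LinearMap.ext fun v => Subtype.ext (by
        have h1 := LinearMap.congr_fun (congrArg ModuleCat.Hom.hom (E.d_comp_d (-i - 1 - 1) (-i - 1) (-i))) v
        simp only [ModuleCat.hom_comp, LinearMap.comp_apply, ModuleCat.hom_zero, LinearMap.zero_apply] at h1
        show φ ((E.d (-i - 1) (-i)).hom ((E.d (-i - 1 - 1) (-i - 1)).hom v)) = ((0 : M') : M)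
        rw [h1, map_zero, ZeroMemClass.coe_zero]))))
      (fun v => by
        rw [← Submodule.comap_map_eq_of_injective M'.injective_subtype (I ^ c₀ • ⊤ : Submodule A M'),
          Submodule.map_smul'', Submodule.map_subtype_top, Submodule.mem_comap]
        show η v ∈ _
        rw [show M' = I ^ n • ⊤ from rfl, ← Submodule.mul_smul, ← pow_add]
        exact hηm v)
    let φ' : E.X (-i) ⟶ ModuleCat.of A M := ModuleCat.ofHom (φ - M'.subtype ∘ₗ ψ.hom)
    have hφ' : ExtCocycle.IsCocycle E (-i) φ' :=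
      ExtCocycle.isCocycle_of E _ _ (-i - 1) (by ring) (ModuleCat.hom_ext (LinearMap.ext fun v => by
        have h1 := LinearMap.congr_fun (congrArg ModuleCat.Hom.hom hψ) v
        simp only [ModuleCat.hom_comp, LinearMap.comp_apply] at h1
        show φ _ - ((ψ.hom ((E.d (-i - 1) (-i)).hom v) : M')  : M) = 0
        rw [h1]
        exact sub_self _))
    refine ⟨ExtCocycle.cls E e i (-i) h φ' hφ', ?_⟩
    let π : ModuleCat.of A M ⟶ ModuleCat.of A (M ⧸ Mq n) := ModuleCat.ofHom (Mq n).mkQ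
    let τ : ModuleCat.of A (M ⧸ Mq (c₀ + n)) ⟶ ModuleCat.of A (M ⧸ Mq n) :=
      ModuleCat.ofHom (Submodule.mapQ (Mq (c₀ + n)) (Mq n) (LinearMap.id : M →ₗ[A] M) hle)
    have hc1 : ExtCocycle.IsCocycle E (-i) (φ' ≫ π) := fun p hp => by
      rw [← Category.assoc, hφ' p hp, Limits.zero_comp]
    have hc2 : ExtCocycle.IsCocycle E (-i) (φb ≫ τ) := fun p hp => by
      rw [← Category.assoc, hφb p hp, Limits.zero_comp]
    show ExtCocycle.cls E e i (-i) h φ' hφ' ≫ ((DerivedCategory.singleFunctor (ModuleCat.{u} A) 0).map π)⟦i⟧' =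
      ExtCocycle.cls E e i (-i) h φb hφb ≫ ((DerivedCategory.singleFunctor (ModuleCat.{u} A) 0).map τ)⟦i⟧'
    rw [ExtCocycle.cls_comp E e i (-i) h φ' hφ' π hc1, ExtCocycle.cls_comp E e i (-i) h φb hφb τ hc2]
    refine ExtCocycle.cls_congr E e i (-i) h hc1 hc2 (hinj _ _ fun v => ?_)
    have h2 := LinearMap.congr_fun hφl v
    show (Mq n).mkQ (φ v - ((ψ.hom v : M') : M)) = Submodule.mapQ _ _ _ hle (φb.hom v)
    rw [← h2, map_sub]
    have h3 : (Mq n).mkQ ((ψ.hom v : M') : M) = 0 := (Submodule.Quotient.mk_eq_zero _).2 (ψ.hom v).2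
    rw [h3, sub_zero]
    rfl

end Groth.Agent.S7164
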