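import Groth.Statements.S7177
import Mathlib
import Groth.Agent.DiagFlatLib.Basic

set_option autoImplicit false
universe u
open FlatMor CategoryTheory.Limits

namespace Groth.Agent.S7177

open AlgebraicGeometry CategoryTheory Limits

theorem flat_diagonal_of_comp_mono {P Q R : Scheme.{u}} (h : P ⟶ Q) (g : Q ⟶ R) [Mono g]
    (hc : AlgebraicGeometry.Flat (pullback.diagonal (h ≫ g))) :
    AlgebraicGeometry.Flat (pullback.diagonal h) := by
  let e : pullback h h ≅ pullback (h ≫ g) (h ≫ g) :=
    { hom := pullback.lift (pullback.fst _ _) (pullback.snd _ _) (by simp [pullback.condition_assoc])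
      inv := pullback.lift (pullback.fst _ _) (pullback.snd _ _) (by
        rw [← cancel_mono g]; simp [Category.assoc, pullback.condition])
      hom_inv_id := by ext <;> simp only [Category.assoc, pullback.lift_fst, pullback.lift_snd, Category.id_comp]
      inv_hom_id := by ext <;> simp only [Category.assoc, pullback.lift_fst, pullback.lift_snd, Category.id_comp] }
  have he : pullback.diagonal h = pullback.diagonal (h ≫ g) ≫ e.inv := by
    apply pullback.hom_ext <;> simp only [e, Category.assoc, pullback.lift_fst, pullback.lift_snd, pullback.diagonal_fst, pullback.diagonal_snd]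
  rw [he]
  haveI := hc
  haveI : IsIso e.inv := ⟨e.hom, e.inv_hom_id, e.hom_inv_id⟩
  haveI : IsOpenImmersion e.inv := IsOpenImmersion.of_isIso _
  haveI : AlgebraicGeometry.Flat e.inv := inferInstance
  exact AlgebraicGeometry.Flat.comp _ _

/-- Let f : X → Y have flat diagonal and let F be an O_X-module flat over Y. Then F is flat as an
O_X-module. -/
theorem result {X Y : Scheme.{u}} (f : X ⟶ Y) [Flat (pullback.diagonal f)] (F : X.Modules)
    (hF : FlatMod.IsFlatOver f F) : FlatMod.IsFlat F := by
  intro x
  let A := Y.presheaf.stalk (f x)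
  let B := X.presheaf.stalk x
  let φ : A ⟶ B := f.stalkMap x
  haveI hFX : MorphismProperty.diagonal @AlgebraicGeometry.Flat (X.fromSpecStalk x) := by
    show AlgebraicGeometry.Flat (pullback.diagonal (X.fromSpecStalk x))
    infer_instance
  have hcomp : MorphismProperty.diagonal @AlgebraicGeometry.Flat (X.fromSpecStalk x ≫ f) := by
    haveI : AlgebraicGeometry.Flat (pullback.diagonal (X.fromSpecStalk x)) := hFX
    show AlgebraicGeometry.Flat (pullback.diagonal (X.fromSpecStalk x ≫ f))
    rw [pullback.diagonal_comp]
    infer_instance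
  have hd : AlgebraicGeometry.Flat (pullback.diagonal (Spec.map φ)) := by
    have hw : Spec.map φ ≫ Y.fromSpecStalk (f x) = X.fromSpecStalk x ≫ f :=
      Scheme.SpecMap_stalkMap_fromSpecStalk f
    rw [← hw] at hcomp
    exact flat_diagonal_of_comp_mono _ _ hcomp
  letI : Algebra A B := φ.hom.toAlgebra
  haveI : MorphismProperty.RespectsIso (@AlgebraicGeometry.Flat : MorphismProperty Scheme.{u}) :=
    (AlgebraicGeometry.Flat.isStableUnderBaseChange).respectsIso
  have hd' : (Algebra.TensorProduct.lmul' A (S := B)).toRingHom.Flat := by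
    have hφ : φ = CommRingCat.ofHom (algebraMap A B) := rfl
    rw [hφ, diagonal_SpecMap,
      MorphismProperty.cancel_right_of_respectsIso (P := @AlgebraicGeometry.Flat),
      HasRingHomProperty.Spec_iff (P := @AlgebraicGeometry.Flat)] at hd
    exact hd
  letI := FlatMod.moduleStalkOver f F x
  haveI : IsScalarTower A B (F.presheaf.stalk x) := IsScalarTower.of_algebraMap_smul fun _ _ => rfl
  haveI : Module.Flat A (F.presheaf.stalk x) := hF x
  exact DiagFlatLib.flat_of_flat_diagonal hd'

end Groth.Agent.S7177
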