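import Groth.Statements.S7178
import Mathlib
import Groth.Agent.WLocalLib.WeakEtaleScheme

set_option autoImplicit false
universe u
open FlatMor

namespace Groth.Agent.S7178

open AlgebraicGeometry CategoryTheory Limits in
/-- (1) ⇔ (2): f : X → S is weakly étale if and only if, whenever U ⊆ X and V ⊆ S are affine opens and f
maps U into V, the ring O_X(U) is a weakly étale O_S(V)-algebra (flat, with flat multiplication map
O_X(U) ⊗ O_X(U) → O_X(U) over O_S(V)). -/
theorem result {X S : Scheme.{u}} (f : X ⟶ S) :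
    WeaklyEtale f ↔ ∀ (U : X.Opens) (V : S.Opens) (_ : IsAffineOpen U) (_ : IsAffineOpen V) (hUV : U ≤ f ⁻¹ᵁ V),
      (letI := (f.appLE V U hUV).hom.toAlgebra
       Algebra.WeaklyEtale Γ(S, V) Γ(X, U)) := by
  refine ⟨fun hf U V hU hV hUV => WLocalLib.weaklyEtale_appLE f hV hU hUV, fun H => ?_⟩
  let ι := {p : X.affineOpens × S.affineOpens // p.1.1 ≤ f ⁻¹ᵁ p.2.1}
  refine IsZariskiLocalAtSource.of_iSup_eq_top (P := @WeaklyEtale) (fun p : ι => p.1.1.1) ?_ fun p => ?_
  · refine eq_top_iff.2 fun x _ => ?_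
    obtain ⟨V, hV, hxV, -⟩ := exists_isAffineOpen_mem_and_subset (x := f x) (U := ⊤) trivial
    obtain ⟨U, hU, hxU, hUV⟩ := exists_isAffineOpen_mem_and_subset (x := x) (U := f ⁻¹ᵁ V) hxV
    exact TopologicalSpace.Opens.mem_iSup.2 ⟨⟨(⟨U, hU⟩, ⟨V, hV⟩), hUV⟩, hxU⟩
  · obtain ⟨⟨⟨U, hU⟩, ⟨V, hV⟩⟩, e⟩ := p
    show WeaklyEtale (U.ι ≫ f)
    rw [← Scheme.Hom.resLE_comp_ι f e]
    haveI : IsAffine V.toScheme := hV
    haveI : IsAffine U.toScheme := hU
    letI := (f.appLE V U e).hom.toAlgebra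
    haveI : Algebra.WeaklyEtale Γ(S, V) Γ(X, U) := H U V hU hV e
    haveI : MorphismProperty.RespectsIso (@AlgebraicGeometry.Flat : MorphismProperty Scheme.{u}) :=
      (AlgebraicGeometry.Flat.isStableUnderBaseChange).respectsIso
    haveI h0 : WeaklyEtale (Spec.map (CommRingCat.ofHom (algebraMap Γ(S, V) Γ(X, U)))) := by
      refine ⟨(HasRingHomProperty.Spec_iff (P := @AlgebraicGeometry.Flat)).2 (RingHom.flat_algebraMap_iff.2 inferInstance), ?_⟩
      rw [diagonal_SpecMap, MorphismProperty.cancel_right_of_respectsIso (P := @AlgebraicGeometry.Flat),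
        HasRingHomProperty.Spec_iff (P := @AlgebraicGeometry.Flat)]
      exact Algebra.WeaklyEtale.flat_lmul' Γ(S, V) Γ(X, U)
    haveI : WeaklyEtale (f.resLE V U e) := by
      rw [MorphismProperty.arrow_mk_iso_iff @WeaklyEtale (arrowIsoSpecΓOfIsAffine _)]
      have h1 : CommRingCat.ofHom (algebraMap Γ(S, V) Γ(X, U)) =
          V.topIso.inv ≫ (f.resLE V U e).appTop ≫ U.topIso.hom := by
        show f.appLE V U e = _
        rw [Iso.eq_inv_comp]
        exact (arrowResLEAppIso f V U e).hom.w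
      rw [h1, Spec.map_comp, Spec.map_comp, MorphismProperty.cancel_right_of_respectsIso @WeaklyEtale,
        MorphismProperty.cancel_left_of_respectsIso @WeaklyEtale] at h0
      exact h0
    infer_instance

end Groth.Agent.S7178
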