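import Groth.Statements.S7181
import Groth.Agent.FerrandPush.Of

set_option autoImplicit false
universe u
open FlatMor

namespace Groth.Agent.S7181

open AlgebraicGeometry CategoryTheory Limits in
/-- In the pushout P = Y ⨿_Z X of a closed immersion i : Z → X and an integral morphism j : Z → Y over a
base S (each fibre of j contained in the preimage of an affine open of X), if X and Y are separated
(resp. quasi-separated) over S then so is P. -/
theorem result {X Y Z P S : Scheme.{u}} (i : Z ⟶ X) (j : Z ⟶ Y) [IsClosedImmersion i] [IsIntegralHom j]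
    (haff : ∀ y : Y, ∃ U : X.Opens, IsAffineOpen U ∧ j ⁻¹' {y} ⊆ (i ⁻¹ᵁ U : Set ↑Z))
    (a : X ⟶ P) (b : Y ⟶ P) (hP : IsPushout i j a b) (p : X ⟶ S) (q : Y ⟶ S) (r : P ⟶ S)
    (hp : a ≫ r = p) (hq : b ≫ r = q) :
    ((IsSeparated p ∧ IsSeparated q) → IsSeparated r) ∧ ((QuasiSeparated p ∧ QuasiSeparated q) → QuasiSeparated r) := by
  have haff' : ∀ y : Y, ∃ U : X.Opens, IsAffineOpen U ∧ j ⁻¹' {y} ⊆ i ⁻¹' (U : Set X) := haff
  obtain ⟨hai, hbi, -, hsurj⟩ := FerrandPush.props_of_isPushout haff' hP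
  subst hp hq
  let Aa : pullback (a ≫ r) (a ≫ r) ⟶ pullback r r :=
    pullback.map _ _ _ _ a a (𝟙 S) (Category.comp_id _) (Category.comp_id _)
  let Bb : pullback (b ≫ r) (b ≫ r) ⟶ pullback r r :=
    pullback.map _ _ _ _ b b (𝟙 S) (Category.comp_id _) (Category.comp_id _)
  have eA : pullback.diagonal (a ≫ r) ≫ Aa = a ≫ pullback.diagonal r := by
    apply pullback.hom_ext <;> simp only [Aa, Category.assoc, pullback.lift_fst, pullback.lift_snd, pullback.diagonal_fst, pullback.diagonal_snd, pullback.diagonal_fst_assoc, pullback.diagonal_snd_assoc, Category.comp_id]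
  have eB : pullback.diagonal (b ≫ r) ≫ Bb = b ≫ pullback.diagonal r := by
    apply pullback.hom_ext <;> simp only [Bb, Category.assoc, pullback.lift_fst, pullback.lift_snd, pullback.diagonal_fst, pullback.diagonal_snd, pullback.diagonal_fst_assoc, pullback.diagonal_snd_assoc, Category.comp_id]
  haveI hA : IsIntegralHom Aa :=
    MorphismProperty.pullbackMap (P := @IsIntegralHom) hai hai rfl rfl
  haveI hB : IsIntegralHom Bb :=
    MorphismProperty.pullbackMap (P := @IsIntegralHom) inferInstance inferInstance rfl rfl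
  have hrange : Set.range (pullback.diagonal r) =
      Aa '' Set.range (pullback.diagonal (a ≫ r)) ∪ Bb '' Set.range (pullback.diagonal (b ≫ r)) := by
    ext z
    constructor
    · rintro ⟨w, rfl⟩
      rcases hsurj w with ⟨x, rfl⟩ | ⟨y, rfl⟩
      · exact Or.inl ⟨_, ⟨x, rfl⟩, by rw [← Scheme.Hom.comp_apply, eA]; rfl⟩
      · exact Or.inr ⟨_, ⟨y, rfl⟩, by rw [← Scheme.Hom.comp_apply, eB]; rfl⟩
    · rintro (⟨_, ⟨x, rfl⟩, rfl⟩ | ⟨_, ⟨y, rfl⟩, rfl⟩)
      · exact ⟨a x, by rw [← Scheme.Hom.comp_apply, ← eA]; rfl⟩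
      · exact ⟨b y, by rw [← Scheme.Hom.comp_apply, ← eB]; rfl⟩
  refine ⟨fun ⟨h1, h2⟩ => ⟨?_⟩, fun ⟨h1, h2⟩ => ⟨?_⟩⟩
  · refine IsClosedImmersion.of_isPreimmersion _ ?_
    rw [hrange]
    exact (Aa.isClosedMap _ (pullback.diagonal (a ≫ r)).isClosedEmbedding.isClosed_range).union
      (Bb.isClosedMap _ (pullback.diagonal (b ≫ r)).isClosedEmbedding.isClosed_range)
  · refine ⟨fun K hKo hKc => ?_⟩
    have hpre : pullback.diagonal r ⁻¹' K =
        a '' (pullback.diagonal (a ≫ r) ⁻¹' (Aa ⁻¹' K)) ∪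
          b '' (pullback.diagonal (b ≫ r) ⁻¹' (Bb ⁻¹' K)) := by
      ext w
      constructor
      · intro hw
        rcases hsurj w with ⟨x, rfl⟩ | ⟨y, rfl⟩
        · refine Or.inl ⟨x, ?_, rfl⟩
          show Aa (pullback.diagonal (a ≫ r) x) ∈ K
          rw [← Scheme.Hom.comp_apply, eA]
          exact hw
        · refine Or.inr ⟨y, ?_, rfl⟩
          show Bb (pullback.diagonal (b ≫ r) y) ∈ K
          rw [← Scheme.Hom.comp_apply, eB]
          exact hw
      · rintro (⟨x, hx, rfl⟩ | ⟨y, hy, rfl⟩)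
        · show (a ≫ pullback.diagonal r) x ∈ K
          rw [← eA]; exact hx
        · show (b ≫ pullback.diagonal r) y ∈ K
          rw [← eB]; exact hy
    rw [hpre]
    refine (IsCompact.image ?_ a.continuous).union (IsCompact.image ?_ b.continuous)
    · exact QuasiCompact.isCompact_preimage _ (hKo.preimage Aa.continuous) (QuasiCompact.isCompact_preimage _ hKo hKc)
    · exact QuasiCompact.isCompact_preimage _ (hKo.preimage Bb.continuous) (QuasiCompact.isCompact_preimage _ hKo hKc)

end Groth.Agent.S7181
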