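import Groth.Statements.S7186
import Groth.Agent.SeesawVB.Main

set_option autoImplicit false
universe u
open FlatMor

namespace Groth.Agent.S7186

open AlgebraicGeometry CategoryTheory Limits in
/-- Let f : X → S be flat, proper and of finite presentation such that O_T → (f_T)_* O_{X_T} is an
isomorphism for every base change T → S. Suppose E is an O_X-module that is finite locally free and
whose restriction to each fibre X_s is free, and let S be reduced. Then E is isomorphic to the
pullback of a finite locally free O_S-module. -/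
theorem result {X S : Scheme.{u}} (f : X ⟶ S) [Flat f] [IsProper f] [LocallyOfFinitePresentation f]
    (hO : ∀ (T : Scheme.{u}) (g : T ⟶ S) (U : T.Opens), IsIso ((pullback.snd f g).app U))
    (E : X.Modules) (hE : FlatMod.IsFinLocFree E)
    (hfib : ∀ s : S, ∃ r : ℕ, Nonempty ((Scheme.Modules.pullback (f.fiberι s)).obj E ≅ FlatMod.freeMod (f.fiber s) r))
    [IsReduced S] :
    ∃ N : S.Modules, FlatMod.IsFinLocFree N ∧ Nonempty ((Scheme.Modules.pullback f).obj N ≅ E) := by
  have hf := Groth.Agent.SeesawVB.univStein_of_pullback f hO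
  haveI := (Groth.Agent.PullbackMod.isQCoh_and_isFP_of_isFinLocFree E hE).1
  obtain ⟨Z, ι, h1, -, -, hι, huniv⟩ := Groth.Agent.SeesawVB.exists_seesaw f hf hE
  haveI := h1
  haveI : Surjective ι := ⟨fun s => by
    obtain ⟨u', hu'⟩ := huniv _ _ ((Groth.Agent.SeesawVB.hf_point_iff s).2 (hfib s))
    exact ⟨u' (IsLocalRing.closedPoint (S.residueField s)),
      by rw [← Scheme.Hom.comp_apply, hu', Scheme.fromSpecResidueField_apply]⟩⟩
  haveI : IsClosedImmersion ι := IsClosedImmersion.of_isPreimmersion ι
    (by rw [ι.surjective.range_eq]; exact isClosed_univ)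
  haveI := isIso_of_isClosedImmersion_of_surjective ι
  have hS : Groth.Agent.SeesawVB.HF f E (𝟙 S) := hι.comp (inv ι) (𝟙 S) (IsIso.inv_hom_id ι)
  have hE' : Groth.Agent.SeesawVB.HasFrames f E :=
    (hS.transfer (v := 𝟙 S) (pullback.lift (𝟙 X) f (by simp)) (pullback.lift_fst _ _ _) ((pullback.lift_snd _ _ _).trans (Category.comp_id f).symm)).of_iso
      ((Scheme.Modules.pullbackId X).app E)
  haveI := Groth.Agent.SeesawVB.HasFrames.isIso_counit hf hE'
  exact ⟨_, Groth.Agent.SeesawVB.HasFrames.isFinLocFree_push hf hE',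
    ⟨asIso ((Scheme.Modules.pullbackPushforwardAdjunction f).counit.app E)⟩⟩

end Groth.Agent.S7186
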