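import Groth.Statements.S7187
import Groth.Agent.PicTrivLib.Push
import Groth.Agent.BCLib.TrivNhd
import Groth.Agent.BCLib.Trunc
import Groth.Agent.FibreVanishQC.NearFibre
import Groth.Agent.FibreVanishQC.TopDegree
import Groth.Agent.FormalLib.Compare
import Groth.Agent.S9777
import Mathlib

set_option autoImplicit false
set_option backward.isDefEq.respectTransparency false
set_option maxHeartbeats 1000000
set_option linter.style.haveILetI false
set_option linter.unusedSectionVars false
universe u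
open FlatMor

namespace Groth.Agent.S7187

open CategoryTheory CategoryTheory.Limits AlgebraicGeometry Opposite TopologicalSpace
open Groth.Agent.CohBase Groth.Agent.ProjCoh Groth.Agent.FormalLib Groth.Agent.PullbackMod Groth.Agent.ParaFLib
  Groth.Agent.AmpleLib Groth.Agent.BCLib


section Affine

variable {R : CommRingCat.{u}} [IsNoetherianRing R] {X : Scheme.{u}}
  [X.Over (Spec (CommRingCat.of R))] [IsProper (str R X)]

/-- For a surjection of rings, the kernel of `c ↦ 1 ⊗ c`. -/
theorem one_tmul_eq_zero_iff' {A K Q : Type u} [CommRing A] [CommRing K] [Algebra A K] [AddCommGroup Q] [Module A Q]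
    (h : Function.Surjective (algebraMap A K)) (c : Q) :
    (1 : K) ⊗ₜ[A] c = 0 ↔ c ∈ RingHom.ker (algebraMap A K) • (⊤ : Submodule A Q) := by
  let I := RingHom.ker (algebraMap A K)
  let e : (A ⧸ I) ≃ₐ[A] K := Ideal.quotientKerAlgEquivOfSurjective (f := Algebra.ofId A K) h
  rw [← tmul_one_eq_zero_iff,
    ← (TensorProduct.congr (LinearEquiv.refl A Q) e.toLinearEquiv).map_eq_zero_iff,
    ← (TensorProduct.comm A K Q).map_eq_zero_iff]
  simp

variable (R) in
/-- Multiplication by a constant. -/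
noncomputable abbrev mulC (P : X.Modules) (a : R) : P ⟶ P := Formal.smulModΓ P (Coh.toGlobal (str R X) a)

theorem exists_sum_smul {P : X.Modules} (J : Ideal R) {W : X.Opens} {c : Sec (Coh.toGlobal (str R X)) P W}
    (hc : c ∈ J • (⊤ : Submodule R (Sec (Coh.toGlobal (str R X)) P W))) :
    ∃ t : J →₀ Γ(P, W), t.sum (fun a g => (mulC R P a.1).app W g) = c := by
  classical
  refine Submodule.smul_induction_on hc (fun r hr b _ => ?_) fun b b' hb hb' => ?_
  · let b₀ : Γ(P, W) := b
    refine ⟨Finsupp.single ⟨r, hr⟩ b₀, (Finsupp.sum_single_index (h := fun (a : J) (g : Γ(P, W)) => (mulC R P a.1).app W g) (map_zero _)).trans ?_⟩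
    rfl
  · obtain ⟨t, rfl⟩ := hb
    obtain ⟨t', rfl⟩ := hb'
    exact ⟨t + t', Finsupp.sum_add_index' (fun _ => map_zero _) fun _ _ _ => map_add _ _ _⟩

variable (hd : ∀ s, topologicalKrullDim ↥((str R X).fiber s) ≤ (1 : ℕ)) {P : X.Modules} (hP : PicF.IsInvertible P)
  (q : Spec R) [q.asIdeal.IsMaximal]

/-- The map to the residue field at a closed point. -/
noncomputable abbrev resφ : R ⟶ (Spec R).residueField q :=
  CommRingCat.ofHom (algebraMap R q.asIdeal.ResidueField) ≫ (Scheme.Spec.residueFieldIso R q).inv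

theorem resφ_surjective : Function.Surjective (resφ q).hom :=
  (ConcreteCategory.bijective_of_isIso (Scheme.Spec.residueFieldIso R q).inv).2.comp
    (Ideal.algebraMap_residueField_surjective q.asIdeal)

theorem ker_resφ : RingHom.ker (resφ q).hom = q.asIdeal := by
  ext r
  rw [RingHom.mem_ker, ← q.asIdeal.algebraMap_residueField_eq_zero]
  exact map_eq_zero_iff _ (ConcreteCategory.bijective_of_isIso (Scheme.Spec.residueFieldIso R q).inv).1

include hd in
/-- The first cohomology is divisible by the ideal of a closed point with acyclic fibre. -/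
theorem top_le_smul [Coh.IsQCoh P]
    (h : Subsingleton (Coh.HH ((str R X).fiber q) ((Scheme.Modules.pullback ((str R X).fiberι q)).obj P) 1)) :
    (⊤ : Submodule R (Coh.HH X P 1)) ≤ q.asIdeal • ⊤ := by
  classical
  haveI : X.IsSeparated := ⟨by rw [← terminal.comp_from (str R X)]; infer_instance⟩
  obtain ⟨ι, hι, V, hcov, haff⟩ := FormalLib.exists_affine_cover (str R X)
  haveI := hι
  let φ := resφ q
  let K := (Spec R).residueField q
  letI : ((str R X).fiber q).Over (Spec (CommRingCat.of K)) := ⟨(str R X).fiberToSpecResidueField q⟩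
  let g' := (str R X).fiberι q
  have hc : IsPullback g' (str K ((str R X).fiber q)) (str R X) (Spec.map φ) := by
    rw [fromSpecResidueField_eq]
    exact IsPullback.of_hasPullback _ _
  letI := φ.hom.toAlgebra
  let G' := (Scheme.Modules.pullback g').obj P
  haveI : Coh.IsQCoh G' := PullbackMod.isQCoh_pullback g' P
  haveI : IsProper (str K ((str R X).fiber q)) := MorphismProperty.of_isPullback hc inferInstance
  let V' := ProperFin.preCov g' V
  have hcov' : (⊤ : ((str R X).fiber q).Opens) ≤ iSup V' := fun y _ => by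
    obtain ⟨b, hb⟩ := Opens.mem_iSup.1 (hcov (show g' y ∈ (⊤ : X.Opens) from trivial))
    exact Opens.mem_iSup.2 ⟨b, hb⟩
  haveI : IsClosedImmersion (Spec.map φ) := IsClosedImmersion.spec_of_surjective _ (resφ_surjective q)
  haveI : IsClosedImmersion g' := MorphismProperty.of_isPullback hc.flip ‹_›
  have haff' : ∀ (m : ℕ) (i : Fin (m + 1) → ι), IsAffineOpen (inter V' i) := fun m i => by
    rw [← ProperFin.inter_preCov]
    exact (haff m i).preimage g'
  letI (n : ℕ) := Module.compHom (Coch (str K ((str R X).fiber q)) G' V' n) φ.hom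
  haveI (n : ℕ) : IsScalarTower R K (Coch (str K ((str R X).fiber q)) G' V' n) :=
    .of_algebraMap_smul fun _ _ => rfl
  intro x _
  obtain ⟨z, rfl⟩ := cls_surjective (A := R) V hcov haff P 1 x
  have hz' : dL (str K ((str R X).fiber q)) G' V' 1 (pullCoch g' φ hc V P 1 z.1) = 0 := by
    rw [dL_pullCoch, LinearMap.mem_ker.1 z.2, map_zero]
  have h0 := (cls_eq_zero_iff (A := K) V' hcov' haff' G' 1 ⟨_, hz'⟩).1 (Subsingleton.elim _ _)
  obtain ⟨b', -, hb⟩ := h0
  have hsurj (n : ℕ) : Function.Surjective (pullCoch g' φ hc V P n) := fun b => by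
    let b0 := (isBaseChange_pullCoch g' φ hc V P haff n).equiv
    obtain ⟨w, hw⟩ := TensorProduct.mk_surjective R (Coch (str R X) P V n) K (resφ_surjective q) (b0.symm b)
    refine ⟨w, ?_⟩
    rw [← b0.apply_symm_apply b, ← hw]
    exact ((IsBaseChange.equiv_tmul _ (1 : K) w).trans (one_smul _ _)).symm
  have hker (n : ℕ) (c : Coch (str R X) P V n) (h : pullCoch g' φ hc V P n c = 0) :
      c ∈ q.asIdeal • (⊤ : Submodule R (Coch (str R X) P V n)) := by
    rw [← ker_resφ q]
    refine (one_tmul_eq_zero_iff' (K := K) (resφ_surjective q) c).1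
      ((isBaseChange_pullCoch g' φ hc V P haff n).equiv.injective ?_)
    rw [map_zero]
    exact (IsBaseChange.equiv_tmul _ _ _).trans ((one_smul _ _).trans h)
  obtain ⟨b, rfl⟩ := hsurj 0 b'
  have hd' : dL (str R X) P V 1 (dL (str R X) P V 0 b) = 0 := by
    rw [dL_eq, dL_eq]; exact cdiff_cdiff _ _ _
  let z₁ := z - ⟨dL (str R X) P V 0 b, hd'⟩
  have hz₁ : cls (A := R) V hcov haff P 1 z₁ = cls (A := R) V hcov haff P 1 z := by
    rw [map_sub, sub_eq_self, cls_eq_zero_iff]
    refine Submodule.mem_map_of_mem ?_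
    rw [pow_zero, Ideal.one_eq_top, Submodule.top_smul]
    trivial
  have hm : z₁.1 ∈ q.asIdeal • (⊤ : Submodule R (Coch (str R X) P V 1)) := hker 1 _ (by
    show pullCoch g' φ hc V P 1 (z.1 - dL (str R X) P V 0 b) = 0
    rw [map_sub, ← dL_pullCoch, hb, sub_self])
  have hU : ∀ a, IsAffineOpen (V a) := fun a => by simpa [inter] using haff 0 fun _ => a
  obtain ⟨F, y, hy⟩ := FibreVanishQC.exists_sum_hmap_cmp V hU hcov 1
    (fun N hN => by haveI := hN; exact FibreVanishQC.subsingleton_HU_affine (str R X) 1 hd N 1 le_rfl)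
    P P (fun a : q.asIdeal => mulC R P a.1) (acyclic_of_affine P V haff)
    ⟨z₁.1, (dL_eq (str R X) P V 1 z₁.1).symm.trans z₁.2⟩
    fun i => exists_sum_smul _ ((mem_smul_top_iff _ _ _ _ _).1 hm i)
  rw [← hz₁]
  have hx : cls (A := R) V hcov haff P 1 z₁ = ∑ a ∈ F, a.1 • (HHEquiv P 1).symm (y a) := by
    apply (HHEquiv P 1).injective
    refine ((HHEquiv P 1).apply_symm_apply _).trans (hy.trans ?_)
    rw [map_sum]
    refine Finset.sum_congr rfl fun a _ => ?_
    refine Eq.trans ?_ (HEquiv_map (Coh.smulAb P (Coh.toGlobal (str R X) a.1)) 1 _).symm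
    exact congrArg _ ((HHEquiv P 1).apply_symm_apply (y a)).symm
  rw [hx]
  exact Submodule.sum_mem _ fun a _ => Submodule.smul_mem_smul a.2 trivial

omit [q.asIdeal.IsMaximal] in
include hd hP in
/-- Vanishing of the first cohomology, from the closed fibres. -/
theorem subsingleton_H1
    (h : ∀ p : Spec R, p.asIdeal.IsMaximal →
      Subsingleton (Coh.HH ((str R X).fiber p) ((Scheme.Modules.pullback ((str R X).fiberι p)).obj P) 1)) :
    Subsingleton (Coh.HH X P 1) := by
  haveI := InvExt.isQCoh_of_isInvertible hP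
  haveI : IsLocallyNoetherian X := LocallyOfFiniteType.isLocallyNoetherian (str R X)
  haveI : Module.Finite R (Coh.HH X P 1) :=
    FibreVanishQC.finite_HH_top (str R X) 1 hd P (CurveLib.isCoh_of_isInvertible hP)
  by_contra hns
  have hne : Module.annihilator R (Coh.HH X P 1) ≠ ⊤ := fun e =>
    hns ⟨fun a b => by
      have h1 : ∀ x : Coh.HH X P 1, x = 0 := fun x => by
        rw [← one_smul R x]
        exact Module.mem_annihilator.1 (e ▸ Submodule.mem_top) x
      rw [h1 a, h1 b]⟩
  obtain ⟨m, hm, hle⟩ := Ideal.exists_le_maximal _ hne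
  haveI := hm
  let p : Spec R := ⟨m, hm.isPrime⟩
  haveI : p.asIdeal.IsMaximal := hm
  obtain ⟨r, hr, hr'⟩ := Submodule.exists_sub_one_mem_and_smul_eq_zero_of_fg_of_le_smul m
    (⊤ : Submodule R (Coh.HH X P 1)) Module.Finite.fg_top (top_le_smul hd p (h p hm))
  refine hm.ne_top ((Ideal.eq_top_iff_one _).2 ?_)
  have := sub_mem (hle (Module.mem_annihilator.2 fun x => hr' x trivial)) hr
  rwa [sub_sub_cancel] at this

include hd hP in
/-- A section generating along a closed fibre on which the module is trivial. -/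
theorem exists_sec_gen (h : Subsingleton (Coh.HH X P 1))
    (e : Coh.structureModule ((str R X).fiber q) ≅ (Scheme.Modules.pullback ((str R X).fiberι q)).obj P) :
    ∃ t : Coh.structureModule X ⟶ P, ∀ x : X, str R X x = q → x ∈ CohB1.genLocus P t := by
  classical
  haveI := InvExt.isQCoh_of_isInvertible hP
  haveI : X.IsSeparated := ⟨by rw [← terminal.comp_from (str R X)]; infer_instance⟩
  haveI : HasFiniteBiproducts X.Modules := Abelian.hasFiniteBiproducts
  obtain ⟨ι, hι, V, hcov, haff⟩ := FormalLib.exists_affine_cover (str R X)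
  haveI := hι
  let φ := resφ q
  let K := (Spec R).residueField q
  letI : ((str R X).fiber q).Over (Spec (CommRingCat.of K)) := ⟨(str R X).fiberToSpecResidueField q⟩
  let g' := (str R X).fiberι q
  have hc : IsPullback g' (str K ((str R X).fiber q)) (str R X) (Spec.map φ) := by
    rw [fromSpecResidueField_eq]
    exact IsPullback.of_hasPullback _ _
  letI := φ.hom.toAlgebra
  let G' := (Scheme.Modules.pullback g').obj P
  let V' := ProperFin.preCov g' V
  have hcov' : (⊤ : ((str R X).fiber q).Opens) ≤ iSup V' := fun y _ => by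
    obtain ⟨b, hb⟩ := Opens.mem_iSup.1 (hcov (show g' y ∈ (⊤ : X.Opens) from trivial))
    exact Opens.mem_iSup.2 ⟨b, hb⟩
  letI (n : ℕ) := Module.compHom (Coch (str K ((str R X).fiber q)) G' V' n) φ.hom
  haveI (n : ℕ) : IsScalarTower R K (Coch (str K ((str R X).fiber q)) G' V' n) :=
    .of_algebraMap_smul fun _ _ => rfl
  let c' : Coch (str K ((str R X).fiber q)) G' V' 0 := aug V' (Coh.toAb G').obj (fun _ => le_top) (sec e.hom)
  have hc' : dL (str K ((str R X).fiber q)) G' V' 0 c' = 0 := (dL_eq _ _ _ _ _).trans (cdiff_aug _ _ _)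
  let b0 := (isBaseChange_pullCoch g' φ hc V P haff 0).equiv
  let b1 := (isBaseChange_pullCoch g' φ hc V P haff 1).equiv
  obtain ⟨w, hw⟩ := TensorProduct.mk_surjective R (Coch (str R X) P V 0) K (resφ_surjective q) (b0.symm c')
  have hpull : pullCoch g' φ hc V P 0 w = c' := by
    rw [← b0.apply_symm_apply c', ← hw]
    exact ((IsBaseChange.equiv_tmul _ (1 : K) w).trans (one_smul _ _)).symm
  have hdw : dL (str R X) P V 0 w ∈ q.asIdeal • (⊤ : Submodule R (Coch (str R X) P V 1)) := by
    rw [← ker_resφ q]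
    refine (one_tmul_eq_zero_iff' (K := K) (resφ_surjective q) _).1 (b1.injective ?_)
    rw [map_zero]
    refine (IsBaseChange.equiv_tmul _ _ _).trans ((one_smul _ _).trans ?_)
    rw [← dL_pullCoch, hpull, hc']
  choose t ht using fun i => exists_sum_smul _ ((mem_smul_top_iff _ _ _ _ _).1 hdw i)
  haveI : Fintype ι := Fintype.ofFinite ι
  let F : Finset q.asIdeal := Finset.univ.biUnion fun i => (t i).support
  let G : X.Modules := ⨁ fun _ : F => P
  have hG : Coh.IsQCoh G := DCohLib.isQCoh_of_iso' (biproduct.isoCoproduct _).symm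
    (DCohLib.isQCoh_sigma_modules _ fun _ => inferInstance)
  haveI := hG
  let ψ : G ⟶ P := biproduct.desc fun a : F => mulC R P a.1.1
  let S := ShortComplex.mk (kernel.ι (factorThruImage ψ)) (factorThruImage ψ) (kernel.condition _)
  have hS : S.ShortExact :=
    { exact := ShortComplex.exact_of_f_is_kernel _ (kernelIsKernel (factorThruImage ψ)) }
  have hK : Coh.IsQCoh S.X₁ := DCohLib.isQCoh_of_iso'
    (kernelIsoOfEq (Limits.image.fac ψ).symm ≪≫ kernelCompMono (factorThruImage ψ) (Limits.image.ι ψ))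
    (QCohLib.isQCoh_image ψ hG ‹_›).1
  have hI : Coh.IsQCoh (Limits.image ψ) := QCohLib.isQCoh_X₃ hS hK hG
  haveI := hI
  let cG : Coch (str R X) G V 1 := fun i =>
    ∑ a : F, (biproduct.ι (fun _ : F => P) a).app (inter V i) (t i a.1)
  let cI : Coch (str R X) (Limits.image ψ) V 1 := cochMap V (factorThruImage ψ) 1 cG
  have hcI : cochMap V (Limits.image.ι ψ) 1 cI = dL (str R X) P V 0 w := by
    funext i
    refine Eq.trans ?_ (ht i)
    show (Limits.image.ι ψ).app _ ((factorThruImage ψ).app _ (cG i)) = _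
    rw [show (Limits.image.ι ψ).app (inter V i) ((factorThruImage ψ).app _ (cG i)) = ψ.app _ (cG i) from
      congrArg (fun k : G ⟶ P => k.app (inter V i) (cG i)) (Limits.image.fac ψ)]
    rw [map_sum]
    have : ∀ a : F, ψ.app (inter V i) ((biproduct.ι (fun _ : F => P) a).app _ (t i a.1)) =
        (mulC R P a.1.1).app (inter V i) (t i a.1) :=
      fun a => congrArg (fun k : P ⟶ P => k.app (inter V i) (t i a.1))
        (biproduct.ι_desc (fun a : F => mulC R P a.1.1) a)
    simp only [this]
    rw [Finset.sum_coe_sort F fun a => (mulC R P a.1).app (inter V i) (t i a),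
      Finsupp.sum_of_support_subset (t i)
        (Finset.subset_biUnion_of_mem (fun i => (t i).support) (Finset.mem_univ i)) _ fun a _ => map_zero _]
  haveI : Mono ((QCohLib.toAbF X).map (Limits.image.ι ψ)) := inferInstance
  have hinj (n : ℕ) : Function.Injective (cochMap (A := R) V (Limits.image.ι ψ) n) := fun a b hab =>
    funext fun i => sections_injective ((QCohLib.toAbF X).map (Limits.image.ι ψ)) _ (congrFun hab i)
  have hz : dL (str R X) (Limits.image ψ) V 1 cI = 0 := hinj 2 (by
    rw [← dL_cochMap, hcI, map_zero, dL_eq, dL_eq]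
    exact cdiff_cdiff _ _ _)
  haveI hH1 : Subsingleton (HU (⊤ : X.Opens) (Coh.toAb (Limits.image ψ)) 1) := by
    have hS' := QCohLib.toAb_shortExact hS
    haveI : Subsingleton (HU (⊤ : X.Opens) (S.map (QCohLib.toAbF X)).X₁ 2) := by
      haveI : Coh.IsQCoh S.X₁ := hK
      exact FibreVanishQC.subsingleton_HU_affine (str R X) 1 hd S.X₁ 1 le_rfl
    refine subsingleton_of_forall_eq 0 fun x => ?_
    obtain ⟨v', rfl⟩ := (hδ_eq_zero_iff hS' ⊤ 1 x).1 (Subsingleton.elim _ _)
    haveI : Subsingleton (HU (⊤ : X.Opens) (Coh.toAb P) 1) := (HHEquiv P 1).symm.toEquiv.subsingleton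
    suffices key : ∀ v : HU (⊤ : X.Opens) (Coh.toAb G) 1, v = 0 by
      exact (congrArg _ (key v')).trans (map_zero _)
    intro v
    have h1 : v = ∑ a : F, hmap ⊤ ((QCohLib.toAbF X).map (biproduct.ι (fun _ : F => P) a)) 1
        (hmap ⊤ ((QCohLib.toAbF X).map (biproduct.π (fun _ : F => P) a)) 1 v) := by
      simp only [FibreVanishQC.hmap_hmap, ← Functor.map_comp]
      refine Eq.trans ?_ (map_sum (FibreVanishQC.hmapHom (X := X) (G := G) (N := G) 1 v) _ _)
      have ht : ∑ a : F, biproduct.π (fun _ : F => P) a ≫ biproduct.ι (fun _ : F => P) a = 𝟙 G := by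
        refine biproduct.hom_ext' _ _ fun b => ?_
        rw [Preadditive.comp_sum, Finset.sum_eq_single b
          (fun c _ hc => by rw [biproduct.ι_π_ne_assoc _ (Ne.symm hc), zero_comp])
          (fun h => absurd (Finset.mem_univ b) h), biproduct.ι_π_self_assoc, Category.comp_id]
      rw [ht]
      show v = hmap ⊤ ((QCohLib.toAbF X).map (𝟙 G)) 1 v
      rw [CategoryTheory.Functor.map_id]
      exact (Abelian.Ext.comp_mk₀_id v).symm
    rw [h1]
    refine Finset.sum_eq_zero fun a _ => ?_
    exact (congrArg _ (Subsingleton.elim (α := HU (⊤ : X.Opens) (Coh.toAb P) 1) _ 0)).trans (map_zero _)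
  haveI : Subsingleton (Coh.HH X (Limits.image ψ) 1) := (HHEquiv (Limits.image ψ) 1).toEquiv.subsingleton
  obtain ⟨b, -, hb⟩ := (cls_eq_zero_iff (A := R) V hcov haff (Limits.image ψ) 1 ⟨cI, hz⟩).1 (Subsingleton.elim _ _)
  have hsurjI : ∀ i : Fin 1 → ι, ∃ g : Γ(G, inter V i), (factorThruImage ψ).app _ g = b i := fun i => by
    haveI : Coh.IsQCoh S.X₁ := hK
    haveI : Subsingleton (HU (inter V i) (S.map (QCohLib.toAbF X)).X₁ 1) :=
      acyclic_of_affine S.X₁ V haff 0 i 0
    exact sections_surjective (QCohLib.toAb_shortExact hS) _ (b i)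
  choose bG hbG using hsurjI
  let k : Coch (str R X) P V 0 := cochMap V (Limits.image.ι ψ) 0 b
  have hk : dL (str R X) P V 0 k = dL (str R X) P V 0 w := by
    rw [dL_cochMap, hb, hcI]
  have hkm : k ∈ q.asIdeal • (⊤ : Submodule R (Coch (str R X) P V 0)) := by
    refine (mem_smul_top_iff _ _ _ _ _).2 fun i => ?_
    have h1 : k i = ∑ a : F, (mulC R P a.1.1).app (inter V i)
        ((biproduct.π (fun _ : F => P) a).app (inter V i) (bG i)) := by
      have h2 : ψ = ∑ a : F, biproduct.π (fun _ : F => P) a ≫ mulC R P a.1.1 := by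
        refine biproduct.hom_ext' _ _ fun a => ?_
        rw [biproduct.ι_desc, Preadditive.comp_sum, Finset.sum_eq_single a
          (fun c _ hc => by rw [biproduct.ι_π_ne_assoc _ (Ne.symm hc), zero_comp])
          (fun h => absurd (Finset.mem_univ a) h), biproduct.ι_π_self_assoc]
      show (Limits.image.ι ψ).app _ (b i) = _
      rw [← hbG i]
      refine (congrArg (fun k : G ⟶ P => k.app (inter V i) (bG i)) (Limits.image.fac ψ)).trans ?_
      conv_lhs => rw [h2]
      let ev : (G ⟶ P) →+ Γ(P, inter V i) :=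
        AddMonoidHom.mk' (fun g => g.app (inter V i) (bG i)) fun g g' => by
          rw [Scheme.Modules.Hom.add_app]; rfl
      exact map_sum ev _ _
    rw [h1]
    exact Submodule.sum_mem _ fun a _ => Submodule.smul_mem_smul a.1.2 trivial
  have hk' : pullCoch g' φ hc V P 0 k = 0 := by
    refine Submodule.smul_induction_on hkm (fun r hr c _ => ?_) fun a b ha hb => by rw [map_add, ha, hb, add_zero]
    rw [LinearMap.map_smul]
    show φ.hom r • _ = (0 : Coch (str K ((str R X).fiber q)) G' V' 0)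
    rw [show φ.hom r = 0 from RingHom.mem_ker.1 ((ker_resφ q).symm ▸ hr), zero_smul]
  have hk₀ : cdiff V (Coh.toAb P).obj 0 (w - k) = 0 := by
    rw [← dL_eq (p := str R X) (M := P), map_sub, hk, sub_self]
  obtain ⟨s, hs⟩ := aug_exact (Coh.toAb P) (V := ⊤) (fun _ => le_top) hcov (w - k) hk₀
  have hσs : pullMap g' P (W := ⊤) (W' := ⊤) le_top s = sec e.hom := by
    refine aug_injective (Coh.toAb G') (U := V') (fun _ => le_top) hcov' (funext fun i => ?_)
    refine Eq.trans ?_ ((congrFun (show pullCoch g' φ hc V P 0 (w - k) = c' by rw [map_sub, hk', sub_zero, hpull]) i))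
    show res _ _ (pullMap g' P _ s) = pullMap g' P _ ((w - k) i)
    rw [← hs]
    exact pullMap_res g' P _ _ _ _ _
  refine ⟨DCohLib.secHom P s, fun x hx => ?_⟩
  obtain ⟨z, rfl⟩ : ∃ z, g' z = x := by
    have : x ∈ Set.range g' := by rw [(str R X).range_fiberι q]; exact hx
    exact this
  rw [mem_genLocus_iff hP, sec_secHom]
  have hσ : Gen ⊤ (resT (sec e.hom) ⊤) := (isIso_restrict_iff e.hom ⊤).1 inferInstance
  have hσ' := hσ.bijective_germ z trivial
  simp only [resT, TopCat.Presheaf.germ_res_apply] at hσ'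
  obtain ⟨b₀, hb₀⟩ := exists_stalk_gen hP (g' z)
  obtain ⟨a, ha⟩ := hb₀.2 (P.presheaf.germ ⊤ (g' z) trivial s)
  change a • b₀ = _ at ha
  rw [← ha, AmpleLib.bijective_smul_iff hb₀]
  have key : g'.stalkMap z a • pullStalk g' P z b₀ =
      ((Scheme.Modules.pullback g').obj P).presheaf.germ ⊤ z trivial (sec e.hom) := by
    rw [← pullStalk_smul, ha, pullStalk_germ' g' P z (W := ⊤) (W' := ⊤) trivial trivial le_top, hσs]
  have h2 : Function.Bijective fun r : ((str R X).fiber q).presheaf.stalk z =>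
      r • g'.stalkMap z a • pullStalk g' P z b₀ := by
    rw [key]; exact hσ'
  exact isUnit_of_map_unit (g'.stalkMap z).hom a
    ((AmpleLib.bijective_smul_iff (bijective_pullStalk g' z hb₀) _).1 h2)

end Affine

variable {X Y : Scheme.{u}} (f : X ⟶ Y)

/-- Near every point the module has a generator over the preimage of an open, given triviality on the closed fibres. -/
theorem exists_gen_over [IsProper f] [IsLocallyNoetherian Y]
    (hdim : ∀ y : Y, topologicalKrullDim ↥(f.fiber y) ≤ 1)
    (hH1 : ∀ y : Y, Subsingleton (Coh.HH (f.fiber y) (Coh.structureModule (f.fiber y)) 1))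
    {P : X.Modules} (hP : PicF.IsInvertible P)
    (htriv : ∀ y : Y, Nonempty ((Scheme.Modules.pullback (f.fiberι y)).obj P ≅ Coh.structureModule (f.fiber y)))
    (y : Y) : ∃ (U : Y.Opens) (s : Γ(P, f ⁻¹ᵁ U)), y ∈ U ∧ Gen (f ⁻¹ᵁ U) s := by
  obtain ⟨_, ⟨W : Y.Opens, (hW : IsAffineOpen W), rfl⟩, hyW, -⟩ :=
    Y.isBasis_affineOpens.exists_subset_of_mem_open (Set.mem_univ y) isOpen_univ
  obtain ⟨q₀, rfl⟩ : ∃ q, hW.fromSpec q = y := ⟨_, hW.fromSpec_primeIdealOf ⟨y, hyW⟩⟩
  obtain ⟨m, hm, hle⟩ := Ideal.exists_le_maximal q₀.asIdeal q₀.isPrime.ne_top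
  let q : Spec Γ(Y, W) := ⟨m, hm.isPrime⟩
  haveI : q.asIdeal.IsMaximal := hm
  letI : (f ⁻¹ᵁ W : Scheme.{u}).Over (Spec (CommRingCat.of Γ(Y, W))) := ⟨restOver f hW⟩
  haveI : IsNoetherianRing Γ(Y, W) := IsLocallyNoetherian.component_noetherian ⟨W, hW⟩
  haveI : IsProper (str Γ(Y, W) (f ⁻¹ᵁ W : Scheme.{u})) := isProper_restOver f hW
  have hd : ∀ s, topologicalKrullDim ↥((str Γ(Y, W) (f ⁻¹ᵁ W : Scheme.{u})).fiber s) ≤ (1 : ℕ) := fun s =>
    (Groth.Agent.S9777.result f _ (restOver f hW) _ (isPullback_restOver f hW) s).trans_le (hdim _)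
  have hPW := AmpleLib.isInvertible_pullback (f ⁻¹ᵁ W).ι hP
  let eW : ∀ p : Spec Γ(Y, W), Coh.structureModule ((restOver f hW).fiber p) ≅
      (Scheme.Modules.pullback ((restOver f hW).fiberι p)).obj (restMod f P) := fun p =>
    (pullUnit (fiberRestMap f hW p)).symm ≪≫
      (Scheme.Modules.pullback (fiberRestMap f hW p)).mapIso (htriv (hW.fromSpec p)).some.symm ≪≫
      (Scheme.Modules.pullbackComp (fiberRestMap f hW p) (f.fiberι (hW.fromSpec p))).app P ≪≫
      (Scheme.Modules.pullbackCongr (fiberRestMap_ι f hW p)).app P ≪≫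
      ((Scheme.Modules.pullbackComp ((restOver f hW).fiberι p) (f ⁻¹ᵁ W).ι).app P).symm
  haveI := InvExt.isQCoh_of_isInvertible hP
  haveI : IsLocallyNoetherian (f ⁻¹ᵁ W : Scheme.{u}) :=
    LocallyOfFiniteType.isLocallyNoetherian (str Γ(Y, W) (f ⁻¹ᵁ W : Scheme.{u}))
  have hH : Subsingleton (Coh.HH (f ⁻¹ᵁ W : Scheme.{u}) (restMod f P) 1) := by
    refine subsingleton_H1 (R := Γ(Y, W)) hd hPW fun p _ => ?_
    have h0 : CohIII.fiberRank (restOver f hW) (restMod f P) 1 p = 0 :=
      (fiberRank_restOver f hW P 1 p).trans (fiberRank_eq_zero_of_iso f _ (hH1 _) (htriv _).some.symm)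
    haveI : IsProper ((restOver f hW).fiberToSpecResidueField p) :=
      inferInstanceAs (IsProper (pullback.snd (restOver f hW) _))
    haveI : IsLocallyNoetherian ((restOver f hW).fiber p) :=
      LocallyOfFiniteType.isLocallyNoetherian ((restOver f hW).fiberToSpecResidueField p)
    haveI : CompactSpace ((restOver f hW).fiber p) :=
      QuasiCompact.compactSpace_of_compactSpace ((restOver f hW).fiberToSpecResidueField p)
    haveI : IsNoetherian ((restOver f hW).fiber p) := ⟨⟩
    haveI : Module.Finite ((Spec Γ(Y, W)).residueField p) (CohIII.fiberH (restOver f hW) (restMod f P) p 1) :=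
      ProperFin.allFin_of_isCoh (A := (Spec Γ(Y, W)).residueField p) ((restOver f hW).fiberToSpecResidueField p) _
        (PullbackMod.isCoh_pullback _ _ (CurveLib.isCoh_of_isInvertible hPW)) 1
    exact (Module.finrank_zero_iff (R := (Spec Γ(Y, W)).residueField p)
      (M := CohIII.fiberH (restOver f hW) (restMod f P) p 1)).1 h0
  obtain ⟨t, ht⟩ := exists_sec_gen (R := Γ(Y, W)) hd hPW q hH (eW q)
  let G : X.Opens := (f ⁻¹ᵁ W).ι ''ᵁ CohB1.genLocus _ t
  have hG : ∀ x : X, f x = hW.fromSpec q → x ∈ G := fun x hx => by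
    have hxW : x ∈ f ⁻¹ᵁ W := show f x ∈ W by
      rw [hx]; exact hW.range_fromSpec.le ⟨q, rfl⟩
    refine ⟨⟨x, hxW⟩, ht _ (hW.fromSpec.isOpenEmbedding.injective ?_), rfl⟩
    show hW.fromSpec (restOver f hW ⟨x, hxW⟩) = _
    rw [← Scheme.Hom.comp_apply, ← (isPullback_restOver f hW).w, Scheme.Hom.comp_apply]
    exact hx
  obtain ⟨U, hqU, hU⟩ := exists_open_preimage_le f G (hW.fromSpec q) hG
  let O := f ⁻¹ᵁ U
  have hVW : O ≤ f ⁻¹ᵁ W := hU.trans (fun x hx => by obtain ⟨w, -, rfl⟩ := hx; exact w.2)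
  let j := X.homOfLE hVW
  have hjV : j.opensRange ≤ CohB1.genLocus _ t := fun w hw => by
    obtain ⟨v, rfl⟩ := hw
    obtain ⟨w', hw', hww⟩ := hU v.2
    have : w' = j v := (f ⁻¹ᵁ W).ι.isOpenEmbedding.injective (hww.trans (by
      rw [← Scheme.Hom.comp_apply, Scheme.homOfLE_ι]; rfl))
    exact this ▸ hw'
  haveI := nonempty_restrict_iso_of_le_genLocus hPW t hjV
  haveI : IsIso ((Scheme.Modules.pullback j.opensRange.ι).map t) :=
    (NatIso.isIso_map_iff (Scheme.Modules.restrictFunctorIsoPullback j.opensRange.ι) t).1 inferInstance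
  let k := j.isoOpensRange
  have hk : k.hom ≫ j.opensRange.ι = j := Scheme.Hom.isoOpensRange_hom_ι j
  haveI : IsIso ((Scheme.Modules.pullback k.hom).map ((Scheme.Modules.pullback j.opensRange.ι).map t)) :=
    inferInstance
  haveI : IsIso ((Scheme.Modules.pullback (k.hom ≫ j.opensRange.ι)).map t) :=
    (NatIso.isIso_map_iff (Scheme.Modules.pullbackComp k.hom j.opensRange.ι) t).1 this
  haveI : IsIso ((Scheme.Modules.pullback j).map t) :=
    (NatIso.isIso_map_iff (Scheme.Modules.pullbackCongr hk) t).1 this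
  let i : (Scheme.Modules.pullback O.ι).obj P ≅ Coh.structureModule (O : Scheme.{u}) :=
    (Scheme.Modules.pullbackCongr (X.homOfLE_ι hVW).symm).app P ≪≫
    ((Scheme.Modules.pullbackComp j (f ⁻¹ᵁ W).ι).app P).symm ≪≫
    (asIso ((Scheme.Modules.pullback j).map t)).symm ≪≫ pullUnit j
  obtain ⟨s, hs⟩ := exists_gen_of_iso (L := P) (W := O)
    ((Scheme.Modules.restrictFunctorIsoPullback O.ι).app P ≪≫ i)
  have hy : hW.fromSpec q₀ ∈ U :=
    (((PrimeSpectrum.le_iff_specializes q₀ q).1 hle).map hW.fromSpec.continuous).mem_open U.2 hqU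
  exact ⟨U, P.presheaf.map (homOfLE (O.ι_image_top.ge)).op s, hy, hs.res _⟩

/-- The unit is an isomorphism on invertible modules when the structure map is. -/
theorem isIso_unit (hO : ∀ U : Y.Opens, IsIso (f.app U)) {N : Y.Modules} (hN : PicF.IsInvertible N) :
    IsIso ((Scheme.Modules.pullbackPushforwardAdjunction f).unit.app N) := by
  refine ParaFLib.isIso_of_locally_app _ fun y => ?_
  obtain ⟨U, t, hy, ht⟩ := ParaFLib.exists_gen_nhd hN y
  refine ⟨U, hy, fun O hO' => ?_⟩
  have hg := AmpleEmb.gen_pullMap f hN ht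
  have hb := PicTrivLib.gen_pushforward f hg (fun V _ =>
    haveI := hO V
    ConcreteCategory.bijective_of_isIso (f.app V)) O hO'
  have key : ∀ r : Γ(Y, O), ((Scheme.Modules.pullbackPushforwardAdjunction f).unit.app N).app O
      (r • N.presheaf.map (homOfLE hO').op t) =
      r • ((Scheme.Modules.pushforward f).obj ((Scheme.Modules.pullback f).obj N)).presheaf.map (homOfLE hO').op
        (pullMap f N (le_rfl : f ⁻¹ᵁ U ≤ f ⁻¹ᵁ U) t) := fun r => by
    rw [Scheme.Modules.Hom.app_smul]
    congr 1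
    have h3 := ((Scheme.Modules.pullbackPushforwardAdjunction f).unit.app N).mapPresheaf.naturality (homOfLE hO').op
    refine (congrArg (fun φ => φ.hom t) h3).trans ?_
    have h4 : pullMap f N (le_rfl : f ⁻¹ᵁ U ≤ f ⁻¹ᵁ U) t =
        ((Scheme.Modules.pullbackPushforwardAdjunction f).unit.app N).app U t := by
      show ((Scheme.Modules.pullback f).obj N).presheaf.map _ _ = _
      rw [Subsingleton.elim (homOfLE (le_rfl : f ⁻¹ᵁ U ≤ f ⁻¹ᵁ U)).op (𝟙 _), CategoryTheory.Functor.map_id]
      rfl
    rw [h4]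
    rfl
  refine ⟨fun a b hab => ?_, fun c => ?_⟩
  · obtain ⟨r, rfl⟩ := (ht O hO').2 a
    obtain ⟨r', rfl⟩ := (ht O hO').2 b
    simp only [key] at hab
    rw [hb.1 hab]
  · obtain ⟨r, rfl⟩ := hb.2 c
    exact ⟨_, key r⟩


open AlgebraicGeometry CategoryTheory Limits in
/-- Let X and Y be Noetherian schemes and f : X → Y a proper morphism with O_Y → f_* O_X an isomorphism,
fibres of dimension at most 1, and H^1(X_y, O_{X_y}) = 0 for all y. Then f^* is injective on
isomorphism classes of invertible modules, and for every invertible O_X-module L whose restriction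
to each fibre X_y is trivial the direct image f_* L is an invertible O_Y-module. (The published
statement asserts moreover that such an L is isomorphic to f^* f_* L, so that f^* is a bijection
onto the classes of fibrewise trivial invertible modules; that last step is not stated here.) -/
theorem result {X Y : Scheme.{u}} (f : X ⟶ Y) [IsProper f] [IsNoetherian X] [IsNoetherian Y]
    (hO : ∀ U : Y.Opens, IsIso (f.app U))
    (hdim : ∀ y : Y, topologicalKrullDim ↥(f.fiber y) ≤ 1)
    (hH1 : ∀ y : Y, Subsingleton (Coh.HH (f.fiber y) (Coh.structureModule (f.fiber y)) 1)) :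
    (∀ N N' : Y.Modules, PicF.IsInvertible N → PicF.IsInvertible N' →
        Nonempty ((Scheme.Modules.pullback f).obj N ≅ (Scheme.Modules.pullback f).obj N') → Nonempty (N ≅ N')) ∧
    (∀ L : X.Modules, PicF.IsInvertible L →
        (∀ y : Y, Nonempty ((Scheme.Modules.pullback (f.fiberι y)).obj L ≅ Coh.structureModule (f.fiber y))) →
          PicF.IsInvertible ((Scheme.Modules.pushforward f).obj L)) := by
  haveI : IsLocallyNoetherian Y := inferInstance
  refine ⟨fun N N' hN hN' ⟨i⟩ => ?_, fun L hL htriv => ?_⟩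
  · haveI := isIso_unit f hO hN
    haveI := isIso_unit f hO hN'
    exact ⟨asIso ((Scheme.Modules.pullbackPushforwardAdjunction f).unit.app N) ≪≫
      (Scheme.Modules.pushforward f).mapIso i ≪≫
      (asIso ((Scheme.Modules.pullbackPushforwardAdjunction f).unit.app N')).symm⟩
  · choose U s hy hs using exists_gen_over f hdim hH1 hL htriv
    exact isInvertible_of_gen fun y => ⟨U y, s y, hy y, PicTrivLib.gen_pushforward f (hs y) fun V _ =>
      haveI := hO V
      ConcreteCategory.bijective_of_isIso (f.app V)⟩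

end Groth.Agent.S7187
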