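import Groth.Statements.S7188
import Groth.Agent.SeesawVB.Main
import Groth.Agent.GenSeesawLib.Closed
import Groth.Agent.CurveLib.TensorExact

set_option autoImplicit false
universe u
open FlatMor

namespace Groth.Agent.S7188

open AlgebraicGeometry CategoryTheory Limits in
/-- Let f : X → S be flat, proper and of finite presentation with O_T → (f_T)_* O_{X_T} an isomorphism
for every base change, let E be an invertible O_X-module, and let j : Z → S be the immersion of
finite presentation representing the locus of those T → S over which the pullback of E comes from a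
finite locally free O_T-module. If every geometric fibre of f is an integral scheme, j is a closed
immersion (the locus is a closed subscheme of S). -/
theorem result {X S Z : Scheme.{u}} (f : X ⟶ S) [Flat f] [IsProper f] [LocallyOfFinitePresentation f]
    (hO : ∀ (T : Scheme.{u}) (g : T ⟶ S) (U : T.Opens), IsIso ((pullback.snd f g).app U))
    (E : X.Modules) (hE : PicF.IsInvertible E)
    (j : Z ⟶ S) [IsImmersion j] [LocallyOfFinitePresentation j]
    (hZ : ∀ (T : Scheme.{u}) (g : T ⟶ S), (∃ g' : T ⟶ Z, g' ≫ j = g) ↔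
        ∃ N : T.Modules, FlatMod.IsFinLocFree N ∧
          Nonempty ((Scheme.Modules.pullback (pullback.snd f g)).obj N ≅ (Scheme.Modules.pullback (pullback.fst f g)).obj E))
    (hgeo : ∀ (K : Type u) [Field K] (x : Spec (CommRingCat.of K) ⟶ S), IsIntegral (pullback f x)) :
    IsClosedImmersion j := by
  haveI : GeometricallyIntegral f := ⟨fun K _ y W fst snd h => by
    haveI := hgeo K y
    haveI : Nonempty W := Nonempty.map h.isoPullback.inv inferInstance
    exact isIntegral_of_isOpenImmersion h.isoPullback.hom⟩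
  have hlf := Groth.Agent.CurveLib.isFinLocFree_of_isInvertible hE
  haveI := (Groth.Agent.PullbackMod.isQCoh_and_isFP_of_isFinLocFree E hlf).1
  have hf := Groth.Agent.SeesawVB.univStein_of_pullback f hO
  have hfac : ∀ (T : Scheme.{u}) (u : T ⟶ S), (∃ u' : T ⟶ Z, u' ≫ j = u) ↔ Groth.Agent.SeesawVB.HF f E u :=
    fun T u => (hZ T u).trans (Iff.trans
      ⟨fun ⟨M, hM, ⟨e⟩⟩ => ⟨M, hM, ⟨e.symm⟩⟩, fun ⟨M, hM, ⟨e⟩⟩ => ⟨M, hM, ⟨e.symm⟩⟩⟩
      (Groth.Agent.SeesawVB.hf_iff hf hlf u).symm)
  refine IsClosedImmersion.of_isPreimmersion j ?_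
  have hr : Set.range j = {s : S | Groth.Agent.CubeLib.Triv ((Scheme.Modules.pullback (f.fiberι s)).obj E)} := by
    ext s
    refine Iff.trans ?_ (Iff.trans ((hfac _ (S.fromSpecResidueField s)).trans
      (Groth.Agent.SeesawVB.hf_point_iff s)) ?_)
    · constructor
      · rintro ⟨z, rfl⟩
        haveI : IsIso (j.residueFieldMap z) :=
          (ConcreteCategory.isIso_iff_bijective _).2 ⟨(j.residueFieldMap z).hom.injective, fun b => by
            obtain ⟨b, rfl⟩ := Z.residue_surjective z b
            obtain ⟨a, rfl⟩ := j.stalkMap_surjective z b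
            exact ⟨S.residue (j z) a, rfl⟩⟩
        exact ⟨Spec.map (inv (j.residueFieldMap z)) ≫ Z.fromSpecResidueField z, by
          rw [Category.assoc, ← Scheme.Hom.SpecMap_residueFieldMap_fromSpecResidueField, ← Spec.map_comp_assoc,
            IsIso.hom_inv_id, Spec.map_id, Category.id_comp]⟩
      · rintro ⟨u', hu'⟩
        refine ⟨u' (IsLocalRing.closedPoint (S.residueField s)), ?_⟩
        rw [← Scheme.Hom.comp_apply, hu', Scheme.fromSpecResidueField_apply]
    · show _ ↔ Groth.Agent.CubeLib.Triv _
      rw [Groth.Agent.CubeLib.triv_iff]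
      constructor
      · rintro ⟨n, ⟨e⟩⟩
        haveI := hf.connectedSpace_fiber s
        obtain ⟨z⟩ := (inferInstance : Nonempty (f.fiber s))
        obtain ⟨σ, hσ⟩ := Groth.Agent.SeesawVB.exists_frame_free (f.fiber s) n
        have h1 := Groth.Agent.SeesawVB.freeAt_of_frame
          (Groth.Agent.SplitP1Lib.IsFrame.of_iso hσ e.symm) (x := z) trivial
        obtain rfl : n = 1 := Groth.Agent.PullbackMod.freeAt_unique _ h1
          (Groth.Agent.CurveLib.freeAt_one_of_isInvertible
            (Groth.Agent.AmpleLib.isInvertible_pullback (f.fiberι s) hE) z)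
        exact ⟨e ≪≫ coproductUniqueIso _⟩
      · rintro ⟨e⟩
        exact ⟨1, ⟨e ≪≫ (coproductUniqueIso fun _ : Fin 1 => Coh.structureModule (f.fiber s)).symm⟩⟩
  rw [hr]
  exact Groth.Agent.GenSeesawLib.isClosed_triv f hE

end Groth.Agent.S7188
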