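import Groth.Statements.S7191
import Groth.Agent.RatPtLim.Basic
-- import your own Groth.Agent.* helpers here

set_option autoImplicit false
set_option linter.style.haveILetI false
set_option backward.isDefEq.respectTransparency false
set_option backward.defeqAttrib.useBackward true
universe u
open CategoryTheory AlgebraicGeometry
open FlatMor

namespace Groth.Agent.S7191

/-- Let S = lim S_i be a cofiltered limit of schemes with affine transition morphisms, f₀ : X₀ → Y₀ a
morphism over some S_{i₀} with Y₀ quasi-compact and quasi-separated and f₀ locally of finite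
presentation, and f : X → Y its base change to S. If f is completely decomposed (every point of Y is
the image of a point of X with the same residue field), then some base change f_i : X_i → Y_i of f₀
to an S_i, i → i₀, is completely decomposed. -/
theorem result {I : Type u} [SmallCategory I] [IsCofiltered I]
    (D : I ⥤ Scheme.{u}) (c : Limits.Cone D) (hc : Limits.IsLimit c)
    [∀ (i j : I) (a : i ⟶ j), IsAffineHom (D.map a)]
    (i0 : I) {X0 Y0 X Y : Scheme.{u}} (f0 : X0 ⟶ Y0) (q0 : Y0 ⟶ D.obj i0) [CompactSpace ↥Y0] [QuasiSeparatedSpace ↥Y0]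
    [LocallyOfFinitePresentation f0]
    (f : X ⟶ Y) (q : Y ⟶ c.pt) (pY : Y ⟶ Y0) (pX : X ⟶ X0)
    (hY : IsPullback pY q q0 (c.π.app i0)) (hX : IsPullback pX f f0 pY)
    (hcd : ∀ y : Y, ∃ x : X, f x = y ∧ Function.Bijective (f.residueFieldMap x)) :
    ∃ (i : I) (a : i ⟶ i0) (Xi Yi : Scheme.{u}) (fi : Xi ⟶ Yi) (qi : Yi ⟶ D.obj i) (pYi : Yi ⟶ Y0) (pXi : Xi ⟶ X0),
      IsPullback pYi qi q0 (D.map a) ∧ IsPullback pXi fi f0 pYi ∧
      ∀ y : Yi, ∃ x : Xi, fi x = y ∧ Function.Bijective (fi.residueFieldMap x) := by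
  haveI hD : ∀ {i j : I} (f : i ⟶ j), IsAffineHom (D.map f) := fun f => inferInstance
  let E := AffLim.baseChange D i0 q0
  let e := AffLim.baseChangeCone D c i0 q0
  obtain ⟨he⟩ := AffLim.nonempty_isLimit_baseChangeCone D c hc i0 q0
  let g : ∀ k : Over i0, E.obj k ⟶ Y0 := fun k => Limits.pullback.fst q0 (D.map k.hom)
  haveI : ∀ k : Over i0, QuasiSeparatedSpace ↥(E.obj k) := fun k => by
    haveI : IsAffineHom (g k) :=
      MorphismProperty.pullback_fst (P := @IsAffineHom) q0 (D.map k.hom) inferInstance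
    exact quasiSeparatedSpace_of_quasiSeparated (g k)
  have hg : ∀ {k l : Over i0} (a : k ⟶ l), E.map a ≫ g l = g k := fun a => by simp [E, g]
  have hg' : ∀ k, e.π.app k ≫ g k = Limits.pullback.fst q0 (c.π.app i0) := fun k => by
    simp [e, g]
  let φ : e.pt ⟶ Y := hY.isoPullback.inv
  have hall : ∀ y : e.pt, RatPtLim.HasPt f0 (Limits.pullback.fst q0 (c.π.app i0)) y := fun y => by
    refine RatPtLim.hasPt_of_comp f0 φ pY _ hY.isoPullback_inv_fst y ?_
    obtain ⟨x, hx, hbij⟩ := hcd (φ y)
    rw [← hx]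
    exact RatPtLim.hasPt_of_point f0 hX.w x hbij
  obtain ⟨k, hk⟩ := RatPtLim.exists_stage_all f0 E e he g hg _ hg' hall
  have h2 : IsPullback (Limits.pullback.fst f0 (g k)) (Limits.pullback.snd f0 (g k)) f0 (g k) :=
    IsPullback.of_hasPullback f0 (g k)
  exact ⟨k.left, k.hom, _, _, Limits.pullback.snd f0 (g k), Limits.pullback.snd q0 (D.map k.hom),
    g k, Limits.pullback.fst f0 (g k), IsPullback.of_hasPullback q0 (D.map k.hom), h2,
    fun y => RatPtLim.exists_point_of_hasPt f0 h2 y (hk y)⟩

end Groth.Agent.S7191
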