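import Groth.Statements.S7192
import Groth.Agent.EtaleSplit.ChartStage
-- import your own Groth.Agent.* helpers here

set_option autoImplicit false
set_option backward.isDefEq.respectTransparency false
set_option linter.style.haveILetI false
set_option maxHeartbeats 1000000
universe u
open CategoryTheory AlgebraicGeometry
open FlatMor

namespace Groth.Agent.S7192

open CategoryTheory CategoryTheory.Limits AlgebraicGeometry Topology Groth.Agent.EtaleSplit

/-- Let Y = lim Y_i be a cofiltered limit of affine schemes and f₀ : X₀ → Y_{i₀} a quasi-finite morphism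
of finite presentation between affine schemes, with base changes f : X → Y and f_i : X_i → Y_i. If w
is a weighting of f, then for some i → i₀ there is a weighting w_i of f_i which pulls back to w
along X → X_i. -/
theorem result {I : Type u} [SmallCategory I] [IsCofiltered I]
    (D : I ⥤ Scheme.{u}) (c : Limits.Cone D) (hc : Limits.IsLimit c) [∀ i, IsAffine (D.obj i)]
    (i0 : I) {X0 X : Scheme.{u}} [IsAffine X0] (f0 : X0 ⟶ D.obj i0) [LocallyQuasiFinite f0] [LocallyOfFinitePresentation f0] [QuasiCompact f0]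
    (f : X ⟶ c.pt) (pX : X ⟶ X0) (hX : IsPullback pX f f0 (c.π.app i0))
    (w : X → ℤ) (hw : MoreMor.IsWeighting f w) :
    ∃ (i : I) (a : i ⟶ i0) (Xi : Scheme.{u}) (fi : Xi ⟶ D.obj i) (pXi : Xi ⟶ X0) (g : X ⟶ Xi) (wi : Xi → ℤ),
      IsPullback pXi fi f0 (D.map a) ∧ g ≫ fi = f ≫ c.π.app i ∧ g ≫ pXi = pX ∧
      MoreMor.IsWeighting fi wi ∧ ∀ x : X, wi (g x) = w x := by
  classical
  haveI : ∀ {i j : I} (a : i ⟶ j), IsAffineHom (D.map a) := fun a => isAffineHom_of_isAffine _
  haveI : IsAffine c.pt := Scheme.isAffine_of_isLimit c hc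
  haveI : IsAffine X := .of_isIso hX.isoPullback.hom
  haveI : LocallyQuasiFinite f := MorphismProperty.of_isPullback hX inferInstance
  haveI : LocallyOfFinitePresentation f := MorphismProperty.of_isPullback hX inferInstance
  -- charts
  choose T g ι hι V hT hg hfin t₀ ht₀ hgt₀ using fun y : c.pt => EtaleSplit.exists_chart f y
  have hcV : ∀ y l, IsCompact (V y l : Set ↑(pullback f (g y))) := fun y l => by
    haveI := hT y
    haveI := hfin y l
    exact isCompact_iff_compactSpace.2
      (QuasiCompact.compactSpace_of_compactSpace ((V y l).ι ≫ pullback.snd f (g y)))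
  haveI : SpectralSpace c.pt := ⟨⟩
  obtain ⟨F, hF⟩ := exists_finite_cover_constructible (fun y => g y '' splitSet f (g y) (V y))
    (fun y => by
      haveI := hT y; haveI := hg y; haveI := hι y
      exact Scheme.Hom.isConstructible_image (g y) (isConstructible_splitSet f (g y) (V y) (hcV y)))
    (fun y => ⟨t₀ y, ht₀ y, hgt₀ y⟩)
  -- models of the charts
  choose ks Ms hMs using fun y : F => haveI := hT y.1; haveI := hg y.1; haveI := hι y.1
    Stage.exists_finite_model (i₀ := i0) (f₀ := f0) (hX := hX) hc (V := V y.1) (hfin y.1)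
  -- models of the level sets
  let E := AffLim.baseChange D i0 f0
  haveI : ∀ k : Over i0, IsAffine (E.obj k) := fun k => inferInstanceAs (IsAffine (pullback f0 (D.map k.hom)))
  haveI : ∀ {k l : Over i0} (a : k ⟶ l), IsAffineHom (E.map a) := fun a => isAffineHom_of_isAffine _
  obtain ⟨hcE⟩ := FlatStage.nonempty_isLimit_vCone D c i0 f0 hX hc
  have hwfin := EtaleSplit.IsWeighting.finite_range f hw
  have hlev : ∀ v : hwfin.toFinset, ∃ (l : Over i0) (Z : Set (E.obj l)),
      IsConstructible Z ∧ FlatStage.vMap D c i0 f0 hX l ⁻¹' Z = {x | w x = v.1} := fun v => by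
    obtain ⟨l, -, Z, hZ, hZe⟩ := AffLim.exists_isConstructible_preimage_eq E (FlatStage.vCone D c i0 f0 hX) hcE
      (Over.mk (𝟙 i0)) (Z := {x : X | w x = v.1}) (IsWeighting.isLocallyConstructible hw v.1).isConstructible
    exact ⟨l, Z, hZ, hZe⟩
  choose ls Zs hZs hZe using hlev
  obtain ⟨m, hm⟩ := Stage.exists_common (Sum.elim ks ls)
  let N := fun y : F => (Ms y).push (hm (.inl y)).some
  haveI : ∀ y : F, IsAffine (N y).obj := fun y => (N y).affine
  haveI : ∀ y : F, Etale (N y).hom := fun y => (N y).etale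
  haveI : ∀ y : F, Finite (ι y.1) := fun y => hι y.1
  let Em : ℤ → Set (E.obj m) := fun v =>
    if h : v ∈ hwfin.toFinset then E.map (hm (.inr ⟨v, h⟩)).some ⁻¹' Zs ⟨v, h⟩ else ∅
  let wm : E.obj m → ℤ := fun x => ∑ v ∈ hwfin.toFinset, (Em v).indicator (fun _ => v) x
  obtain ⟨hwm_fin, hwm_lev⟩ := Stage.levels_sum hwfin.toFinset Em (fun v hv => by
    simp only [Em, dif_pos hv]
    exact (E.map _).isConstructible_preimage (hZs _))
  have hwm : ∀ x, wm (FlatStage.vMap D c i0 f0 hX m x) = w x := by
    intro x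
    have hmem : ∀ v ∈ hwfin.toFinset, (FlatStage.vMap D c i0 f0 hX m x ∈ Em v ↔ w x = v) := fun v hv => by
      simp only [Em, dif_pos hv, Set.mem_preimage]
      rw [← Scheme.Hom.comp_apply, FlatStage.vMap_map]
      exact Set.ext_iff.1 (hZe ⟨v, hv⟩) x
    show ∑ v ∈ hwfin.toFinset, _ = _
    rw [Finset.sum_eq_single (w x)]
    · rw [Set.indicator_of_mem ((hmem _ (hwfin.mem_toFinset.2 ⟨x, rfl⟩)).2 rfl)]
    · intro v hv hne
      exact Set.indicator_of_notMem (fun h => hne ((hmem v hv).1 h).symm) _
    · intro h; exact absurd (hwfin.mem_toFinset.2 ⟨x, rfl⟩) h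
  haveI : ∀ k : Over i0, LocallyQuasiFinite (Stage.fS D i0 f0 k) := fun k => MorphismProperty.pullback_snd _ _ inferInstance
  haveI : ∀ k : Over i0, LocallyOfFinitePresentation (Stage.fS D i0 f0 k) := fun k => MorphismProperty.pullback_snd _ _ inferInstance
  let S := fun y : F => splitSet (Stage.fS D i0 f0 m) (N y).hom (N y).opens
  have hS : IsConstructible (⋃ y : F, (N y).hom '' S y) := IsConstructible.iUnion fun y =>
    Scheme.Hom.isConstructible_image (N y).hom (isConstructible_splitSet _ _ _ (N y).compact)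
  -- covering
  obtain ⟨j, φ, hj⟩ := AffLim.exists_preimage_eq_empty D c hc hS.compl (by
    refine Set.eq_empty_iff_forall_notMem.2 fun y hy => hy ?_
    obtain ⟨x, hxF, t, ht, htg⟩ := hF y
    refine Set.mem_iUnion.2 ⟨⟨x, hxF⟩, (N ⟨x, hxF⟩).q t, ?_, ?_⟩
    · exact (mem_splitSet_baseChange _ _ _ (N ⟨x, hxF⟩).sq_m (N ⟨x, hxF⟩).hV t).1 ht
    · rw [← Scheme.Hom.comp_apply, (N ⟨x, hxF⟩).sq.w, Scheme.Hom.comp_apply]
      exact congrArg (c.π.app m.left) htg)
  -- local constancy
  have hFfin : ∀ (y : F) l, (Set.range (partInt (Stage.fS D i0 f0 m) (N y).hom (N y).opens wm l)).Finite := by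
    intro y l
    haveI : SpectralSpace (N y).obj := ⟨⟩
    let P := partInt (Stage.fS D i0 f0 m) (N y).hom (N y).opens wm l
    obtain ⟨G, hG⟩ := exists_finite_cover_constructible (fun z => {t | P t = P z})
      (fun z => isConstructible_partInt _ _ _ (N y).compact hwm_fin hwm_lev l _) (fun z => rfl)
    refine (G.finite_toSet.image P).subset ?_
    rintro _ ⟨t, rfl⟩
    obtain ⟨z, hz, hzt⟩ := hG t
    exact ⟨z, hz, hzt.symm⟩
  let A := Σ y : F, Σ l : ι y.1, (hFfin y l).toFinset
  have hopen : ∀ a : A, ∃ o : Over m.left, IsOpen (pullback.fst (N a.1).hom (D.map o.hom) ⁻¹'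
      {t | partInt (Stage.fS D i0 f0 m) (N a.1).hom (N a.1).opens wm a.2.1 t = a.2.2.1}) := by
    rintro ⟨y, l, v, hv⟩
    let B := AffLim.baseChange D m.left (N y).hom
    haveI : ∀ o : Over m.left, IsAffine (B.obj o) := fun o =>
      inferInstanceAs (IsAffine (pullback (N y).hom (D.map o.hom)))
    haveI : ∀ {o o' : Over m.left} (a : o ⟶ o'), IsAffineHom (B.map a) := fun a => isAffineHom_of_isAffine _
    obtain ⟨hcB⟩ := FlatStage.nonempty_isLimit_vCone D c m.left (N y).hom (N y).sq hc
    let L := {t | partInt (Stage.fS D i0 f0 m) (N y).hom (N y).opens wm l t = v}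
    let p : B.obj (Over.mk (𝟙 m.left)) ⟶ (N y).obj := pullback.fst (N y).hom (D.map (Over.mk (𝟙 m.left)).hom)
    have hcL : IsConstructible (p ⁻¹' L) :=
      p.isConstructible_preimage (isConstructible_partInt _ _ _ (N y).compact hwm_fin hwm_lev l v)
    obtain ⟨o, ψ, ho⟩ := AffLim.exists_isOpen_preimage B (FlatStage.vCone D c m.left (N y).hom (N y).sq) hcB
      (i := Over.mk (𝟙 m.left)) hcL (by
        show IsOpen (FlatStage.vMap D c m.left (N y).hom (N y).sq (Over.mk (𝟙 m.left)) ⁻¹' (p ⁻¹' L))
        haveI := hT y.1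
        haveI := hg y.1
        haveI := hfin y.1 l
        have e : FlatStage.vMap D c m.left (N y).hom (N y).sq (Over.mk (𝟙 m.left)) ⁻¹' (p ⁻¹' L) =
            {t | partInt f (g y.1) (V y.1) w l t = v} := by
          ext t
          show partInt _ _ _ wm l (p (FlatStage.vMap D c m.left (N y).hom (N y).sq _ t)) = v ↔ _
          rw [← Scheme.Hom.comp_apply, FlatStage.vMap_fst, ← partInt_baseChange _ _ _ (N y).sq_m (N y).hV (w' := w) (fun z => ?_) l t]
          · rfl
          · have e : pullback.fst f (g y.1) ≫ FlatStage.vMap D c i0 f0 hX m =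
                (N y).m ≫ pullback.fst (Stage.fS D i0 f0 m) (N y).hom := (pullback.lift_fst _ _ _).symm
            rw [← hwm]
            exact congrArg wm (by rw [← Scheme.Hom.comp_apply, e]; rfl)
        rw [e]
        exact (IsWeighting.isLocallyConstant hw (g y.1) (V y.1 l)).isOpen_fiber v)
    refine ⟨o, ?_⟩
    have e : B.map ψ ≫ p = pullback.fst (N y).hom (D.map o.hom) := by simp [B, p, AffLim.baseChange]
    rw [← e, Scheme.Hom.comp_base, TopCat.coe_comp, Set.preimage_comp]
    exact ho
  choose os hos using hopen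
  haveI : Fintype A := by
    haveI : ∀ y : F, Fintype (ι y.1) := fun y => Fintype.ofFinite _
    infer_instance
  obtain ⟨o, ho⟩ := Stage.exists_common (Sum.elim os (fun _ : Unit => Over.mk φ))
  let n : Over i0 := Over.mk (o.hom ≫ m.hom)
  let α : n ⟶ m := Over.homMk o.hom rfl
  let P := fun y : F => (N y).push α
  haveI : ∀ y : F, IsAffine (P y).obj := fun y => (P y).affine
  haveI : ∀ y : F, Etale (P y).hom := fun y => (P y).etale
  let wn : E.obj n → ℤ := fun x => wm (E.map α x)
  have hP : ∀ (y : F) l t, partInt (Stage.fS D i0 f0 n) (P y).hom (P y).opens wn l t =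
      partInt (Stage.fS D i0 f0 m) (N y).hom (N y).opens wm l (pullback.fst (N y).hom (D.map o.hom) t) :=
    fun y l t => partInt_baseChange _ _ _ ((N y).sq_mMap α) (fun _ => rfl) (fun z => by
      have e : pullback.fst (Stage.fS D i0 f0 n) ((N y).push α).hom ≫ E.map α =
          (N y).mMap α ≫ pullback.fst (Stage.fS D i0 f0 m) (N y).hom := (pullback.lift_fst _ _ _).symm
      exact congrArg wm (by rw [← Scheme.Hom.comp_apply, e]; rfl)) l t
  refine ⟨n.left, n.hom, E.obj n, Stage.fS D i0 f0 n, pullback.fst f0 (D.map n.hom),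
    FlatStage.vMap D c i0 f0 hX n, wn, IsPullback.of_hasPullback _ _, FlatStage.vMap_snd _ _ _ _ _ _,
    FlatStage.vMap_fst _ _ _ _ _ _, ?_, fun x => ?_⟩
  · refine isWeighting_of_charts (Stage.fS D i0 f0 n) wn (fun y : F => (P y).obj) (fun y => (P y).hom)
      (fun y => (P y).opens) (fun y l => ?_) (fun z => ?_) (fun y l => ?_)
    · exact (N y).isFinite_push α l ((Ms y).isFinite_push (hm (.inl y)).some l (hMs y l))
    · have hz : D.map o.hom z ∈ ⋃ y : F, (N y).hom '' S y := by
        obtain ⟨e⟩ := ho (.inr ())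
        by_contra hne
        refine Set.eq_empty_iff_forall_notMem.1 hj (D.map e.left z) ?_
        have hw' : e.left ≫ φ = o.hom := Over.w e
        have h2 : D.map φ (D.map e.left z) = D.map o.hom z := by
          rw [← hw', D.map_comp]; rfl
        exact fun h => hne (h2 ▸ h)
      obtain ⟨y, t, ht, htz⟩ := Set.mem_iUnion.1 hz
      obtain ⟨p, hp1, hp2⟩ := Scheme.Pullback.exists_preimage_pullback (f := (N y).hom) (g := D.map o.hom) t z htz
      exact ⟨y, p, (mem_splitSet_baseChange _ _ _ ((N y).sq_mMap α) (fun _ => rfl) p).2 (hp1 ▸ ht), hp2⟩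
    · rw [IsLocallyConstant.iff_isOpen_fiber]
      intro v
      have e : partInt (Stage.fS D i0 f0 n) (P y).hom (P y).opens wn l ⁻¹' {v} =
          pullback.fst (N y).hom (D.map o.hom) ⁻¹'
            {t | partInt (Stage.fS D i0 f0 m) (N y).hom (N y).opens wm l t = v} := by
        ext t
        exact Iff.of_eq (congrArg (· = v) (hP y l t))
      rw [e]
      by_cases hv : v ∈ (hFfin y l).toFinset
      · obtain ⟨e'⟩ := ho (.inl ⟨y, l, v, hv⟩)
        have e2 : pullback.fst (N y).hom (D.map o.hom) =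
            (AffLim.baseChange D m.left (N y).hom).map e' ≫ pullback.fst (N y).hom (D.map (os ⟨y, l, v, hv⟩).hom) := by
          simp [AffLim.baseChange]
        rw [e2, Scheme.Hom.comp_base, TopCat.coe_comp, Set.preimage_comp]
        exact (hos ⟨y, l, v, hv⟩).preimage (Scheme.Hom.continuous _)
      · rw [Set.Finite.mem_toFinset] at hv
        rw [show {t | partInt (Stage.fS D i0 f0 m) (N y).hom (N y).opens wm l t = v} = ∅ from
          Set.eq_empty_iff_forall_notMem.2 fun t ht => hv ⟨t, ht⟩, Set.preimage_empty]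
        exact isOpen_empty
  · show wm (E.map α _) = w x
    rw [← Scheme.Hom.comp_apply, FlatStage.vMap_map]
    exact hwm x

end Groth.Agent.S7192
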