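import Groth.Statements.S7193
import Groth.Agent.HomRep.MorS

set_option backward.isDefEq.respectTransparency false

set_option autoImplicit false
universe u
open CategoryTheory AlgebraicGeometry
open FlatMor

namespace Groth.Agent.S7193

/-- Let Z, X and S be affine schemes with morphisms Z → S and X → S, and suppose Γ(Z, O_Z) is a finite
free Γ(S, O_S)-module; then the functor Mor_S(Z, X) on schemes over S is represented by some scheme
W over S with W affine. -/
theorem result {Z X S : Scheme.{u}} [IsAffine Z] [IsAffine X] [IsAffine S] (g : Z ⟶ S) (f : X ⟶ S)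
    (hfree : letI := (g.appTop).hom.toAlgebra
      Module.Finite Γ(S, ⊤) Γ(Z, ⊤) ∧ Module.Free Γ(S, ⊤) Γ(Z, ⊤)) :
    ∃ W : Over S, IsAffine W.left ∧ Nonempty ((Flatn.morS g f).RepresentableBy W) := by
  letI := (g.appTop).hom.toAlgebra
  obtain ⟨h1, h2⟩ := hfree
  haveI := h1
  haveI := h2
  haveI : IsFinite g := by
    rw [HasAffineProperty.iff_of_isAffine (P := @IsFinite)]
    exact ⟨inferInstance, RingHom.finite_algebraMap.2 h1⟩
  haveI : Flat g := by
    rw [HasRingHomProperty.iff_of_isAffine (P := @Flat)]
    exact RingHom.flat_algebraMap_iff.2 inferInstance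
  haveI : LocallyOfFinitePresentation g := by
    rw [HasRingHomProperty.iff_of_isAffine (P := @LocallyOfFinitePresentation)]
    haveI : Module.FinitePresentation Γ(S, ⊤) Γ(Z, ⊤) := Module.finitePresentation_of_projective _ _
    haveI : Algebra.FinitePresentation Γ(S, ⊤) Γ(Z, ⊤) := Algebra.FinitePresentation.of_finitePresentation _ _
    exact RingHom.finitePresentation_algebraMap.2 inferInstance
  obtain ⟨W, hW, r⟩ := Groth.Agent.HomRep.MorS.exists_representable g f
  exact ⟨W, isAffine_of_isAffineHom W.hom, r⟩

end Groth.Agent.S7193
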