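import Groth.Statements.S7196
import Groth.Agent.HomRep.MorAF
import Groth.Agent.FinGrpdLib.QFAffine
-- import your own Groth.Agent.* helpers here

set_option autoImplicit false
universe u
open CategoryTheory AlgebraicGeometry
open FlatMor

namespace Groth.Agent.S7196

/-- For Z → S finite locally free and X → S separated, locally of finite type and with discrete fibres
(locally quasi-finite), the functor T ↦ {S-morphisms T ×_S Z → X} on S-schemes is represented by
some S-scheme. -/
theorem result {Z X S : Scheme.{u}} (g : Z ⟶ S) (f : X ⟶ S) (hg : Mor2.IsFinLocFree g)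
    [IsSeparated f] [LocallyQuasiFinite f] [LocallyOfFiniteType f] :
    (Flatn.morS g f).IsRepresentable := by
  obtain ⟨h1, h2, h3⟩ := hg
  obtain ⟨W, ⟨r⟩⟩ := Groth.Agent.HomRep.MorAF.exists_representable g f (fun s d x hx => by
    obtain ⟨_, ⟨V, hV, rfl⟩, hsV, -⟩ :=
      S.isBasis_affineOpens.exists_subset_of_mem_open (Set.mem_univ s) isOpen_univ
    haveI : IsAffine (V : Scheme.{u}) := hV
    haveI : IsSeparated ((f ⁻¹ᵁ V).ι ≫ f) := inferInstance
    haveI : LocallyOfFiniteType (f ∣_ V) := inferInstance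
    haveI : LocallyQuasiFinite (f ∣_ V) := inferInstance
    haveI : IsSeparated (f ∣_ V) := inferInstance
    have hxV : ∀ k, x k ∈ f ⁻¹ᵁ V := fun k => show f (x k) ∈ V by rw [hx k]; exact hsV
    obtain ⟨U, hU, hxU⟩ := Groth.Agent.FinGrpdLib.exists_affine_of_finite (f ∣_ V)
      (Set.finite_range fun k => (⟨x k, hxV k⟩ : ↥(f ⁻¹ᵁ V)))
    exact ⟨(f ⁻¹ᵁ V).ι ''ᵁ U, hU.image_of_isOpenImmersion _, fun k => ⟨⟨x k, hxV k⟩, hxU ⟨k, rfl⟩, rfl⟩⟩)
  exact r.isRepresentable

end Groth.Agent.S7196
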