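import Groth.Statements.S7197
import Groth.Agent.AmpleFamLib.Blow
import Groth.Agent.AmpleFamLib.CodimOne
import Groth.Agent.BlowAvoidLib.FT

set_option autoImplicit false
universe u
open FlatMor

namespace Groth.Agent.S7197

open AlgebraicGeometry CategoryTheory Limits in
/-- A quasi-compact quasi-separated scheme X with finitely many irreducible components admits a
quasi-compact dense open U together with a blowing up X' → X which is U-admissible and whose source
X' carries an ample family of invertible modules. -/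
theorem result (X : Scheme.{u}) [CompactSpace ↥X] [QuasiSeparatedSpace ↥X]
    (hirr : (irreducibleComponents ↥X).Finite) :
    ∃ (U : X.Opens) (𝓘 : X.IdealSheafData) (X' : Scheme.{u}) (b : X' ⟶ X),
      IsCompact (U : Set ↥X) ∧ Dense (U : Set ↥X) ∧ BlowUp.IsAdmissibleFor U 𝓘 ∧ BlowUp.IsBlowUp b 𝓘 ∧
      MoreMor.HasAmpleFamily X' := by
  classical
  have hM := AmpleFamLib.finite_isMinPt_of_components hirr
  choose A hA hAbig using fun p : X => AmpleFamLib.exists_affine_big_of_finite hM p
  obtain ⟨t, ht⟩ := isCompact_univ.elim_finite_subcover (fun p : X => ((A p).1 : Set X)) (fun p => (A p).1.isOpen)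
    fun p _ => Set.mem_iUnion.2 ⟨p, hA p⟩
  have hI : ∀ p : t, ∃ I : X.IdealSheafData, BlowUp.IsFiniteTypeIdeal I ∧ I.support.compl = (A p.1).1 := fun p => by
    obtain ⟨J, hJ, hJfg, hJs⟩ := BlowAvoidLib.exists_ft_le_support
      (Scheme.IdealSheafData.vanishingIdeal (A p.1).1.compl) (T := ((A p.1).1 : Set X)ᶜ)
      (by rw [compl_compl]; exact (A p.1).2.isCompact)
      (by rw [Scheme.IdealSheafData.coe_support_vanishingIdeal]; exact subset_rfl)
    refine ⟨J, hJfg, TopologicalSpace.Opens.ext ?_⟩
    show (J.support : Set X)ᶜ = ((A p.1).1 : Set X)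
    rw [compl_eq_comm]
    refine (subset_antisymm hJs ?_).symm
    have h := Scheme.IdealSheafData.support_antitone hJ
    intro z hz
    exact h (by rw [← SetLike.mem_coe, Scheme.IdealSheafData.coe_support_vanishingIdeal]; exact hz)
  choose I hIfg hIc using hI
  obtain ⟨𝓙, X', b, hft, hoff, hb, -, hY⟩ := AmpleFamLib.exists_modification' (fun p : t => A p.1)
    (fun x => by
      obtain ⟨p, hp, hxp⟩ := Set.mem_iUnion₂.1 (ht (Set.mem_univ x))
      exact ⟨⟨p, hp⟩, hxp⟩) I hIc hIfg
  let U : X.Opens := ⟨⋂ p : t, ((A p.1).1 : Set X), isOpen_iInter_of_finite fun p => (A p.1).1.isOpen⟩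
  refine ⟨U, 𝓙, X', b, ?_, ?_, ⟨hft, ?_⟩, hb, hY⟩
  · have hqs : ∀ s : Finset t, IsCompact (⋂ p ∈ s, ((A p.1).1 : Set X)) := fun s => by
      induction s using Finset.induction with
      | empty => simpa using isCompact_univ
      | insert p s _ ih =>
        rw [Finset.set_biInter_insert]
        exact QuasiSeparatedSpace.inter_isCompact _ _ (A p.1).1.isOpen (A p.1).2.isCompact
          (isOpen_biInter_finset fun q _ => (A q.1).1.isOpen) ih
    simpa [U] using hqs Finset.univ
  · rw [dense_iff_inter_open]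
    rintro O hO ⟨w, hw⟩
    obtain ⟨v, hv, hvw⟩ := AmpleFamLib.exists_isMinPt w
    exact ⟨v, hvw.mem_open hO hw, Set.mem_iInter.2 fun p => hAbig p.1 v hv⟩
  · exact Set.disjoint_left.2 fun x hx hxU => hoff x (fun p => Set.mem_iInter.1 hxU p) hx

end Groth.Agent.S7197
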