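import Groth.Statements.S7199
import Groth.Agent.DimFormulaLib.LocalDim
import Mathlib
-- import your own Groth.Agent.* helpers here

set_option autoImplicit false
set_option maxHeartbeats 1000000
set_option synthInstance.maxHeartbeats 200000
universe u
open FlatMor

namespace Groth.Agent.S7199

/-- If a minimal prime over `(x, y)` has height two then `x, y` are algebraically independent. -/
theorem algebraicIndependent_of_height_two {k A : Type u} [Field k] [CommRing A] [IsDomain A] [Algebra k A]
    [IsNoetherianRing A] (g : Fin 2 → A) (p : Ideal A) (hp : p ∈ (Ideal.span {g 0, g 1}).minimalPrimes)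
    (hh : p.height = 2) : AlgebraicIndependent k g := by
  haveI := hp.1.1
  rw [algebraicIndependent_iff_injective_aeval]
  let P := MvPolynomial (Fin 2) k
  let φ : P →ₐ[k] A := MvPolynomial.aeval g
  have hgp : ∀ i, g i ∈ p := fun i => hp.1.2 (Ideal.subset_span (by fin_cases i <;> simp))
  by_contra hinj
  have hK : (⊥ : Ideal P) < RingHom.ker φ.toRingHom := bot_lt_iff_ne_bot.mpr fun h =>
    hinj ((RingHom.injective_iff_ker_eq_bot φ.toRingHom).mpr h)
  by_cases h0 : g 0 = 0 ∧ g 1 = 0
  · have : p ∈ (⊥ : Ideal A).minimalPrimes := by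
      refine ⟨⟨inferInstance, bot_le⟩, fun q hq hqp => hp.2 ⟨hq.1, ?_⟩ hqp⟩
      rw [h0.1, h0.2]
      simp
    have h := Ideal.height_eq_zero_iff.mpr (this : p ∈ minimalPrimes A)
    rw [hh] at h
    norm_num at h
  obtain ⟨i, hi⟩ : ∃ i, g i ≠ 0 := by
    rcases not_and_or.mp h0 with h | h <;> exact ⟨_, h⟩
  obtain ⟨q, hq, hqp⟩ := Ideal.exists_minimalPrimes_le (I := Ideal.span {g i}) (J := p)
    (by rw [Ideal.span_le, Set.singleton_subset_iff]; exact hgp i)
  haveI := hq.1.1
  let K : PrimeSpectrum P := ⟨RingHom.ker φ.toRingHom, RingHom.ker_isPrime _⟩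
  let Q : PrimeSpectrum P := ⟨q.comap φ.toRingHom, inferInstance⟩
  let M : PrimeSpectrum P := ⟨p.comap φ.toRingHom, inferInstance⟩
  let B : PrimeSpectrum P := ⟨⊥, Ideal.isPrime_bot⟩
  have hKQ : K < Q := by
    refine lt_of_le_of_ne (fun x hx => ?_) fun h => hi ?_
    · show φ x ∈ q
      rw [show φ x = 0 from hx]
      exact zero_mem q
    · have h1 : (MvPolynomial.X i : P) ∈ Q.asIdeal := by
        show φ (MvPolynomial.X i) ∈ q
        rw [MvPolynomial.aeval_X]
        exact hq.1.2 (Ideal.subset_span rfl)
      rw [← h] at h1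
      have h2 : φ (MvPolynomial.X i) = 0 := h1
      rwa [MvPolynomial.aeval_X] at h2
  have hdim : ringKrullDim P = 2 := by
    rw [MvPolynomial.ringKrullDim_of_isNoetherianRing, ringKrullDim_eq_zero_of_field]
    simp
  have hQM : Q = M := by
    by_contra hne
    have hlt : Q < M := lt_of_le_of_ne (Ideal.comap_mono hqp) hne
    let s : LTSeries (PrimeSpectrum P) :=
      (((RelSeries.singleton _ B).snoc K (by simpa using (show B < K from hK))).snoc Q (by simpa using hKQ)).snoc M (by simpa using hlt)
    have h := Order.LTSeries.length_le_krullDim s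
    change ((s.length : ℕ) : WithBot ℕ∞) ≤ ringKrullDim P at h
    rw [hdim] at h
    have h3 : s.length = 3 := rfl
    rw [h3] at h
    norm_cast at h
  have hgq : ∀ j, g j ∈ q := fun j => by
    have h1 : (MvPolynomial.X j : P) ∈ M.asIdeal := by
      show φ (MvPolynomial.X j) ∈ p
      rw [MvPolynomial.aeval_X]
      exact hgp j
    rw [← hQM] at h1
    have h2 : φ (MvPolynomial.X j) ∈ q := h1
    rwa [MvPolynomial.aeval_X] at h2
  have hpq : p = q := le_antisymm (hp.2 ⟨inferInstance, Ideal.span_le.mpr (by
    rintro x (rfl | rfl) <;> exact hgq _)⟩ hqp) hqp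
  have h := Ideal.height_le_one_of_isPrincipal_of_mem_minimalPrimes (Ideal.span {g i}) q hq
  rw [← hpq, hh] at h
  norm_num at h

/-- Take a field k, an integral domain A that is a finitely generated k-algebra, n ≥ 2 and g_1, …, g_n ∈
A, and suppose some irreducible component of the common zero locus of g_1 and g_2 in Spec A has
dimension dim A − 2. Then for suitable c_1, …, c_n ∈ k the n + 2 elements x_1, …, x_n, Σ g_i x_i, Σ
c_i g_i of the rational function field Frac(A)(x_1, …, x_n) form an algebraically independent family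
over k. -/
theorem result {k A : Type u} [Field k] [CommRing A] [IsDomain A] [Algebra k A]
    [Algebra.FiniteType k A] (m : ℕ) (g : Fin (m + 2) → A)
    (p : Ideal A) (hp : p ∈ (Ideal.span {g 0, g 1}).minimalPrimes) (hdim : ringKrullDim (A ⧸ p) + 2 = ringKrullDim A) :
    ∃ c : Fin (m + 2) → k,
      AlgebraicIndependent k
        (Sum.elim
          (fun i : Fin (m + 2) => algebraMap (MvPolynomial (Fin (m + 2)) (FractionRing A)) (FractionRing (MvPolynomial (Fin (m + 2)) (FractionRing A))) (MvPolynomial.X i))
          ![∑ i, algebraMap A (FractionRing (MvPolynomial (Fin (m + 2)) (FractionRing A))) (g i) *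
              algebraMap (MvPolynomial (Fin (m + 2)) (FractionRing A)) (FractionRing (MvPolynomial (Fin (m + 2)) (FractionRing A))) (MvPolynomial.X i),
            algebraMap A (FractionRing (MvPolynomial (Fin (m + 2)) (FractionRing A))) (∑ i, c i • g i)]) := by
  classical
  haveI : IsNoetherianRing A := Algebra.FiniteType.isNoetherianRing k A
  haveI := hp.1.1
  have hh : p.height = 2 := by
    obtain ⟨P, hPmin, hPp, hPe⟩ :=
      Groth.Agent.DimFormulaLib.exists_isMin_relHeight_eq_height (⟨p, inferInstance⟩ : PrimeSpectrum A)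
    obtain rfl : P = ⟨⊥, Ideal.isPrime_bot⟩ := by
      refine PrimeSpectrum.ext (le_bot_iff.1 ?_)
      exact hPmin (show (⟨⊥, Ideal.isPrime_bot⟩ : PrimeSpectrum A) ≤ P from bot_le (a := P.asIdeal))
    obtain ⟨n, hn⟩ := Groth.Agent.DimFormulaLib.exists_nat_trdeg_quotient k A (⊥ : Ideal A)
    obtain ⟨r, hr⟩ := Groth.Agent.DimFormulaLib.exists_nat_trdeg_quotient k A p
    obtain ⟨a, ha, hna⟩ := Groth.Agent.DimFormulaLib.trdeg_eq_relHeight_add k A hPp n r hn hr
    have h1 : ringKrullDim A = n := (ringKrullDim_eq_of_ringEquiv (RingEquiv.quotientBot A)).symm.trans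
      (Groth.Agent.DimFormulaLib.ringKrullDim_eq_trdeg k n hn)
    rw [Groth.Agent.DimFormulaLib.ringKrullDim_eq_trdeg k r hr, h1] at hdim
    have h2 : r + 2 = n := by exact_mod_cast hdim
    rw [← show _ = p.height from hPe, ha, show a = 2 by omega]
    rfl
  have hind : AlgebraicIndependent k ![g 0, g 1] :=
    algebraicIndependent_of_height_two ![g 0, g 1] p hp hh
  let L := FractionRing A
  let j : A →ₐ[k] L := IsScalarTower.toAlgHom k A L
  have hindL : AlgebraicIndependent k ![j (g 0), j (g 1)] := by
    have := hind.map' (f := j) (IsFractionRing.injective A L)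
    convert this using 1
    funext i; fin_cases i <;> rfl
  have h01 : ∀ i, ![j (g 0), j (g 1)] i = (![j (g 0), j (g 1)] : Fin 2 → L) i := fun i => rfl
  let F₀ : IntermediateField k L := IntermediateField.adjoin k {j (g 0)}
  let F : IntermediateField k L := (algebraicClosure F₀ L).restrictScalars k
  have hg0F : j (g 0) ∈ F :=
    IntermediateField.algebraMap_mem (algebraicClosure F₀ L) (⟨_, IntermediateField.mem_adjoin_simple_self k (j (g 0))⟩ : F₀)
  have hg0t : Transcendental k (j (g 0)) := hindL.transcendental 0
  haveI : Infinite F := by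
    refine Infinite.of_injective (fun q : Polynomial k => (⟨Polynomial.aeval (j (g 0)) q, ?_⟩ : F)) fun a b h =>
      (transcendental_iff_injective.mp hg0t) (congrArg Subtype.val h)
    rw [show Polynomial.aeval (j (g 0)) q = algebraMap F L (Polynomial.aeval (⟨j (g 0), hg0F⟩ : F) q) from
      (Polynomial.aeval_algebraMap_apply L (⟨j (g 0), hg0F⟩ : F) q)]
    exact Subtype.prop _
  have hg1F : j (g 1) ∉ F := by
    intro h
    have halg : IsAlgebraic F₀ (j (g 1)) := mem_algebraicClosure_iff.mp h
    open IntermediateField.algebraAdjoinAdjoin in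
    have h1 : IsAlgebraic (Algebra.adjoin k {j (g 0)}) (j (g 1)) := by
      rwa [IsFractionRing.isAlgebraic_iff (Algebra.adjoin k {j (g 0)}) F₀ L]
    refine hindL.transcendental_adjoin (s := {0}) (i := 1) (by simp) ?_
    rw [Set.image_singleton]
    exact h1
  refine ⟨Pi.single 0 1, ?_⟩
  have hc : ∑ i, (Pi.single 0 1 : Fin (m + 2) → k) i • g i = g 0 := by simp [Pi.single_apply, ite_smul]
  rw [hc, algebraicIndependent_iff_injective_aeval]
  let σ := Fin (m + 2)
  let e : σ ⊕ Fin 2 ≃ Option σ ⊕ Unit :=
    { toFun := Sum.elim (fun i => Sum.inl (some i)) ![Sum.inl none, Sum.inr ()]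
      invFun := Sum.elim (fun o => o.elim (Sum.inr 0) Sum.inl) (fun _ => Sum.inr 1)
      left_inv := by rintro (i | i); · rfl
                     fin_cases i <;> rfl
      right_inv := by rintro ((_ | i) | ⟨⟩) <;> rfl }
  let gF : F := ⟨j (g 0), hg0F⟩
  let ev : MvPolynomial Unit k →ₐ[k] F := MvPolynomial.aeval fun _ => gF
  have hev : Function.Injective ev := by
    refine algebraicIndependent_iff_injective_aeval.mp (algebraicIndependent_unique_type_iff.mpr fun halg => hg0t ?_)
    exact halg.algHom F.val
  let Ψ : MvPolynomial (σ ⊕ Fin 2) k →ₐ[k] MvPolynomial (Option σ) F :=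
    (MvPolynomial.mapAlgHom ev).comp
      (((MvPolynomial.sumAlgEquiv k (Option σ) Unit).toAlgHom).comp (MvPolynomial.renameEquiv k e).toAlgHom)
  have hΨ : Function.Injective Ψ := by
    show Function.Injective (MvPolynomial.mapAlgHom ev ∘ (MvPolynomial.sumAlgEquiv k (Option σ) Unit ∘ MvPolynomial.renameEquiv k e))
    exact Function.Injective.comp (MvPolynomial.map_injective ev.toRingHom hev)
      ((MvPolynomial.sumAlgEquiv k (Option σ) Unit).injective.comp (MvPolynomial.renameEquiv k e).injective)
  let v : Option σ → MvPolynomial σ L := fun o =>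
    o.elim (∑ i, MvPolynomial.C (j (g i)) * MvPolynomial.X i) MvPolynomial.X
  let θ : MvPolynomial (Option σ) F →ₐ[F] MvPolynomial σ L := MvPolynomial.aeval v
  let ι : MvPolynomial σ L →+* FractionRing (MvPolynomial σ L) := algebraMap _ _
  rw [injective_iff_map_eq_zero]
  intro Pk hPk
  refine (map_eq_zero_iff Ψ hΨ).mp ?_
  have hθ : θ (Ψ Pk) = 0 := by
    refine IsFractionRing.injective (MvPolynomial σ L) (FractionRing (MvPolynomial σ L)) ?_
    rw [map_zero, ← hPk]
    clear hPk
    induction Pk using MvPolynomial.induction_on with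
    | C c =>
      have h1 : Ψ (MvPolynomial.C c) = algebraMap k _ c := Ψ.commutes c
      rw [h1, MvPolynomial.aeval_C, IsScalarTower.algebraMap_apply k F (MvPolynomial (Option σ) F), θ.commutes,
        IsScalarTower.algebraMap_apply k (MvPolynomial σ L) (FractionRing (MvPolynomial σ L)),
        IsScalarTower.algebraMap_apply k F (MvPolynomial σ L)]
    | add a b ha hb => simp only [map_add, ha, hb]
    | mul_X a i ha =>
      simp only [map_mul, ha]
      congr 1
      rcases i with i | i
      · simp [Ψ, θ, v, e]
        rfl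
      · fin_cases i
        · simp [Ψ, θ, v, e, map_sum, j]
          rfl
        · simp [Ψ, θ, v, e, ev, gF, j]
          rfl
  by_contra hne
  let Q := MvPolynomial.optionEquivLeft F σ (Ψ Pk)
  have hQ : Q ≠ 0 := fun h => hne ((map_eq_zero_iff _ (MvPolynomial.optionEquivLeft F σ).injective).mp h)
  let D := Q.leadingCoeff
  have hD : D ≠ 0 := Polynomial.leadingCoeff_ne_zero.mpr hQ
  let w : (σ → F) → L := fun a => ∑ i, j (g i) * (a i : L)
  have hspec : ∀ a : σ → F, MvPolynomial.eval a D ≠ 0 → w a ∈ F := by
    intro a ha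
    let Qa := Q.map (MvPolynomial.eval a)
    have hQa : Qa ≠ 0 := fun h => ha (by
      have := congrArg (Polynomial.coeff · Q.natDegree) h
      simpa [Qa, D] using this)
    have halg : IsAlgebraic F (w a) := ⟨Qa, hQa, by
      have h2 : Polynomial.aeval (w a) Qa = MvPolynomial.eval (fun i => (a i : L)) (θ (Ψ Pk)) := by
        show Polynomial.aeval (w a) ((MvPolynomial.optionEquivLeft F σ (Ψ Pk)).map (MvPolynomial.eval a)) = _
        generalize Ψ Pk = R
        induction R using MvPolynomial.induction_on with
        | C c => simp [θ]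
        | add a b ha hb => simp only [map_add, Polynomial.map_add, ha, hb]
        | mul_X R o hR =>
          simp only [map_mul, Polynomial.map_mul, hR]
          congr 1
          cases o with
          | none => simp [θ, v, w]
          | some i => simp [θ, v]
      rw [h2, hθ, map_zero]⟩
    have hF : IsAlgebraic F₀ (w a) := by
      have halg' : IsAlgebraic (algebraicClosure F₀ L) (w a) := halg
      haveI : Algebra.IsAlgebraic F₀ (algebraicClosure F₀ L) := algebraicClosure.isAlgebraic F₀ L
      exact halg'.restrictScalars F₀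
    exact mem_algebraicClosure_iff.mpr hF
  obtain ⟨a, ha⟩ : ∃ a : σ → F, MvPolynomial.eval a
      (D * MvPolynomial.aeval (fun i => MvPolynomial.X i + MvPolynomial.C ((Pi.single 1 1 : σ → F) i)) D) ≠ 0 := by
    by_contra hall
    push Not at hall
    have h0 := MvPolynomial.funext (p := D * _) (q := 0) fun a => (hall a).trans (map_zero _).symm
    rcases mul_eq_zero.mp h0 with h | h
    · exact hD h
    · refine hD ?_
      have h2 := congrArg (MvPolynomial.aeval (fun i => MvPolynomial.X i - MvPolynomial.C ((Pi.single 1 1 : σ → F) i) : σ → MvPolynomial σ F)) h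
      rw [← AlgHom.comp_apply, MvPolynomial.comp_aeval, map_zero] at h2
      simpa using h2
  rw [map_mul, mul_ne_zero_iff] at ha
  have h1 := hspec a ha.1
  have h2 := hspec (fun i => a i + (Pi.single 1 1 : σ → F) i) (by
    have h3 := ha.2
    have key : ∀ R : MvPolynomial σ F, MvPolynomial.eval a (MvPolynomial.aeval
        (fun i => MvPolynomial.X i + MvPolynomial.C ((Pi.single 1 1 : σ → F) i)) R) =
        MvPolynomial.eval (fun i => a i + (Pi.single 1 1 : σ → F) i) R := fun R => by
      induction R using MvPolynomial.induction_on with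
      | C c => simp
      | add p q hp hq => simp only [map_add, hp, hq]
      | mul_X p i hp => simp only [map_mul, hp]; simp
    rwa [key] at h3)
  refine hg1F ?_
  have h4 : w (fun i => a i + (Pi.single 1 1 : σ → F) i) = w a + j (g 1) := by
    simp [w, mul_add, Finset.sum_add_distrib, Pi.single_apply, mul_ite, apply_ite (Subtype.val : F → L)]
  have h5 := sub_mem h2 h1
  rwa [h4, add_sub_cancel_left] at h5

end Groth.Agent.S7199
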