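import Groth.Statements.S7200
import Groth.Agent.ZarLemma.Generic
import Groth.Agent.GeomIrred.Criteria
import Groth.Agent.GeomIrred.Ring
import Groth.Agent.GeomIrred.Point
-- import your own Groth.Agent.* helpers here

set_option autoImplicit false
universe u
open FlatMor

namespace Groth.Agent.S7200

open AlgebraicGeometry in
/-- Suppose K/k is a finitely generated field extension with K geometrically irreducible over k; let n ≥
1 and g_1, …, g_n ∈ K, and suppose some c ∈ kⁿ makes the n + 2 elements x_1, …, x_n, ξ = Σ g_i x_i,
Σ c_i g_i of Ω = K(x_1, …, x_n) algebraically independent over k. Then Ω remains geometrically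
irreducible over its subfield generated over k by x_1, …, x_n and ξ. -/
theorem result {k K : Type u} [Field k] [Field K] [Algebra k K]
    (hfg : (⊤ : IntermediateField k K).FG)
    [GeometricallyIrreducible (Spec.map (CommRingCat.ofHom (algebraMap k K)))]
    (m : ℕ) (g : Fin (m + 1) → K) (c : Fin (m + 1) → k)
    (hind : AlgebraicIndependent k
      (Sum.elim
        (fun i : Fin (m + 1) => algebraMap (MvPolynomial (Fin (m + 1)) K) (FractionRing (MvPolynomial (Fin (m + 1)) K)) (MvPolynomial.X i))
        ![∑ i, algebraMap K (FractionRing (MvPolynomial (Fin (m + 1)) K)) (g i) * algebraMap (MvPolynomial (Fin (m + 1)) K) (FractionRing (MvPolynomial (Fin (m + 1)) K)) (MvPolynomial.X i),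
          algebraMap K (FractionRing (MvPolynomial (Fin (m + 1)) K)) (∑ i, c i • g i)])) :
    GeometricallyIrreducible (Spec.map (CommRingCat.ofHom (algebraMap
      ↥(IntermediateField.adjoin k
        (Set.range (fun i : Fin (m + 1) => algebraMap (MvPolynomial (Fin (m + 1)) K) (FractionRing (MvPolynomial (Fin (m + 1)) K)) (MvPolynomial.X i)) ∪
          {∑ i, algebraMap K (FractionRing (MvPolynomial (Fin (m + 1)) K)) (g i) * algebraMap (MvPolynomial (Fin (m + 1)) K) (FractionRing (MvPolynomial (Fin (m + 1)) K)) (MvPolynomial.X i)}))
      (FractionRing (MvPolynomial (Fin (m + 1)) K))))) := by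
  haveI : Algebra.EssFiniteType k K := IntermediateField.fg_top_iff.1 hfg
  have hgi : GeometricallyIrreducible (Spec.map (CommRingCat.ofHom (algebraMap k K))) := inferInstance
  have hk : ∀ a : K, IsSeparable k a → a ∈ Set.range (algebraMap k K) := fun a ha =>
    GeomIrred.mem_range_of_irreducible_tensor ha fun L _ _ _ _ =>
      (PrimeSpectrum.homeomorphOfRingEquiv
        (Algebra.TensorProduct.comm k K L).toRingEquiv).irreducibleSpace_iff.mpr
        ((GeomIrred.geometricallyIrreducible_iff_tensor k K).1 hgi L)
  let P := MvPolynomial (Fin (m + 1)) K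
  let Ω := FractionRing (MvPolynomial (Fin (m + 1)) K)
  have hξ : algebraMap P Ω (∑ i, MvPolynomial.C (g i) * MvPolynomial.X i) =
      ∑ i, algebraMap K Ω (g i) * algebraMap P Ω (MvPolynomial.X i) := by
    rw [map_sum]
    refine Finset.sum_congr rfl fun i _ => ?_
    rw [map_mul, ← MvPolynomial.algebraMap_eq, ← IsScalarTower.algebraMap_apply]
  have hind' : AlgebraicIndependent k (Sum.elim (fun i => (MvPolynomial.X i : P))
      ![∑ i, MvPolynomial.C (g i) * MvPolynomial.X i, MvPolynomial.C (∑ i, c i • g i)]) := by
    refine AlgebraicIndependent.of_comp (IsScalarTower.toAlgHom k P Ω) ?_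
    convert hind using 1
    funext o
    rcases o with i | j
    · rfl
    · fin_cases j
      · exact hξ
      · exact (IsScalarTower.algebraMap_apply K P Ω _).symm
  have hsc := ZarLemma.separableClosure_generic_eq_bot hk g c hind'
  rw [hξ] at hsc
  have hmain : ∀ E : IntermediateField k Ω, separableClosure E Ω = ⊥ →
      GeometricallyIrreducible (Spec.map (CommRingCat.ofHom (algebraMap E Ω))) := fun E hE => by
    refine GeomIrred.geometricallyIrreducible_of_finite_separable _ fun L _ _ _ _ => ?_
    haveI := GeomIrred.subsingleton_primeSpectrum_tensor hE L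
    haveI : Subsingleton (PrimeSpectrum (TensorProduct E L Ω)) :=
      (PrimeSpectrum.homeomorphOfRingEquiv
        (Algebra.TensorProduct.comm E L Ω).toRingEquiv).injective.subsingleton
    exact (GeomIrred.bcsHomeo E Ω L).irreducibleSpace_iff.2 { toNonempty := inferInstance }
  exact hmain _ hsc

end Groth.Agent.S7200
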