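import Mathlib
import Groth.Agent.ArtinApproxLib.Nbhd
import Groth.Agent.ArtinApproxLib.Chart
import Groth.Agent.UnivHomeo.Basic
import Groth.Statements.S7202

set_option autoImplicit false
universe u
open FlatMor

namespace Groth.Agent.S7202

open AlgebraicGeometry CategoryTheory Limits in
/-- Let S be locally Noetherian, p : X → S and q : Y → S locally of finite type, x in X and y in Y over
the same point s of S with O_{S,s} a G-ring, and φ : O_{Y,y} → O_{X,x}^∧ a local O_{S,s}-algebra map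
into the completion. For every N ≥ 1 there are an elementary étale neighbourhood e : (U, u) → (X, x)
(étale, e(u) = x, κ(x) = κ(u)) and an S-morphism f : U → Y with f(u) = y such that O_{Y,y} → O_{U,u}
(induced by f) and O_{Y,y} → O_{X,x}^∧ → O_{U,u}^∧ (φ followed by the map induced by e) agree modulo
m_u^N; the last condition is written on the quotients by the N-th powers of the maximal ideals. -/
theorem result {X Y S : Scheme.{u}} [IsLocallyNoetherian S]
    (p : X ⟶ S) (q : Y ⟶ S) [LocallyOfFiniteType p] [LocallyOfFiniteType q] (x : X) (y : Y) (hxy : p x = q y)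
    (hG : CAlg.IsGRing ↑(S.presheaf.stalk (p x)))
    (φ : ↑(Y.presheaf.stalk y) →+* (AdicCompletion (IsLocalRing.maximalIdeal ↑(X.presheaf.stalk x)) ↑(X.presheaf.stalk x)))
    (hφ : φ.comp ((q.stalkMap y).hom.comp (S.presheaf.stalkCongr (Inseparable.of_eq hxy)).hom.hom) =
      (algebraMap ↑(X.presheaf.stalk x) (AdicCompletion (IsLocalRing.maximalIdeal ↑(X.presheaf.stalk x)) ↑(X.presheaf.stalk x))).comp (p.stalkMap x).hom)
    (hloc : ∀ b ∈ IsLocalRing.maximalIdeal ↑(Y.presheaf.stalk y),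
      φ b ∈ (IsLocalRing.maximalIdeal ↑(X.presheaf.stalk x)).map (algebraMap ↑(X.presheaf.stalk x) (AdicCompletion (IsLocalRing.maximalIdeal ↑(X.presheaf.stalk x)) ↑(X.presheaf.stalk x))))
    (N : ℕ) (hN : 1 ≤ N) :
    ∃ (U : Scheme.{u}) (e : U ⟶ X) (u : U) (heu : e u = x) (f : U ⟶ Y) (hfu : f u = y),
      Etale e ∧ Function.Bijective (e.residueFieldMap u) ∧ f ≫ q = e ≫ p ∧
      ∀ (b : ↑(Y.presheaf.stalk y)) (c : ↑(X.presheaf.stalk x)),
        AdicCompletion.evalₐ (IsLocalRing.maximalIdeal ↑(X.presheaf.stalk x)) N (φ b) =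
          Ideal.Quotient.mk (IsLocalRing.maximalIdeal ↑(X.presheaf.stalk x) ^ N) c →
        Ideal.Quotient.mk (IsLocalRing.maximalIdeal ↑(U.presheaf.stalk u) ^ N)
            ((f.stalkMap u).hom ((Y.presheaf.stalkCongr (Inseparable.of_eq hfu)).inv.hom b)) =
          Ideal.Quotient.mk (IsLocalRing.maximalIdeal ↑(U.presheaf.stalk u) ^ N)
            ((e.stalkMap u).hom ((X.presheaf.stalkCongr (Inseparable.of_eq heu)).inv.hom c)) := by
  classical
  obtain ⟨_, ⟨W, hW, rfl⟩, hsW, -⟩ :=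
    S.isBasis_affineOpens.exists_subset_of_mem_open (Set.mem_univ (p x)) isOpen_univ
  obtain ⟨_, ⟨V, hV, rfl⟩, hxV, hVW⟩ :=
    X.isBasis_affineOpens.exists_subset_of_mem_open (a := x) (u := ↑(p ⁻¹ᵁ W)) hsW (p ⁻¹ᵁ W).2
  have hyW : y ∈ q ⁻¹ᵁ W := by show q y ∈ W; rw [← hxy]; exact hsW
  obtain ⟨_, ⟨V', hV', rfl⟩, hyV, hVW'⟩ :=
    Y.isBasis_affineOpens.exists_subset_of_mem_open (a := y) (u := ↑(q ⁻¹ᵁ W)) hyW (q ⁻¹ᵁ W).2
  haveI : IsNoetherianRing Γ(S, W) := IsLocallyNoetherian.component_noetherian ⟨W, hW⟩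
  have hftC := p.finiteType_appLE hW hV hVW
  have hftB := q.finiteType_appLE hW hV' hVW'
  letI : Algebra Γ(S, W) Γ(X, V) := (p.appLE W V hVW).hom.toAlgebra
  letI : Algebra Γ(S, W) Γ(Y, V') := (q.appLE W V' hVW').hom.toAlgebra
  haveI : Algebra.FiniteType Γ(S, W) Γ(X, V) := hftC
  haveI : Algebra.FiniteType Γ(S, W) Γ(Y, V') := hftB
  haveI : Algebra.FinitePresentation Γ(S, W) Γ(Y, V') := Algebra.FinitePresentation.of_finiteType.1 inferInstance
  haveI : IsNoetherianRing Γ(X, V) := Algebra.FiniteType.isNoetherianRing Γ(S, W) Γ(X, V)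
  letI : Algebra Γ(S, W) (S.presheaf.stalk (p x)) := TopCat.Presheaf.algebra_section_stalk S.presheaf ⟨p x, hsW⟩
  letI : Algebra Γ(X, V) (X.presheaf.stalk x) := TopCat.Presheaf.algebra_section_stalk X.presheaf ⟨x, hxV⟩
  letI : Algebra Γ(Y, V') (Y.presheaf.stalk y) := TopCat.Presheaf.algebra_section_stalk Y.presheaf ⟨y, hyV⟩
  haveI : IsLocalization.AtPrime (S.presheaf.stalk (p x)) (hW.primeIdealOf ⟨p x, hsW⟩).asIdeal :=
    hW.isLocalization_stalk ⟨p x, hsW⟩
  haveI : IsLocalization.AtPrime (X.presheaf.stalk x) (hV.primeIdealOf ⟨x, hxV⟩).asIdeal :=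
    hV.isLocalization_stalk ⟨x, hxV⟩
  haveI : IsLocalization.AtPrime (Y.presheaf.stalk y) (hV'.primeIdealOf ⟨y, hyV⟩).asIdeal :=
    hV'.isLocalization_stalk ⟨y, hyV⟩
  have hGA : CAlg.IsGRing (X.presheaf.stalk x) :=
    ArtinApproxLib.isGRing_atPrime (hW.primeIdealOf ⟨p x, hsW⟩).asIdeal (hV.primeIdealOf ⟨x, hxV⟩).asIdeal
      (congrArg PrimeSpectrum.asIdeal (IsAffineOpen.comap_primeIdealOf_appLE (f := p) W hW V hV hVW hxV)) hG
      (X.presheaf.stalk x)
  let Λ : Type u := AdicCompletion (IsLocalRing.maximalIdeal (X.presheaf.stalk x)) (X.presheaf.stalk x)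
  let f₀ : Γ(Y, V') →+* AdicCompletion (IsLocalRing.maximalIdeal (X.presheaf.stalk x)) (X.presheaf.stalk x) :=
    φ.comp (Y.presheaf.germ V' y hyV).hom
  have hf₀ : ∀ r, f₀ (algebraMap Γ(S, W) Γ(Y, V') r) = algebraMap (X.presheaf.stalk x) _
      (algebraMap Γ(X, V) (X.presheaf.stalk x) (algebraMap Γ(S, W) Γ(X, V) r)) := by
    intro r
    have hy : Y.presheaf.germ V' y hyV (q.appLE W V' hVW' r) =
        q.stalkMap y ((S.presheaf.stalkCongr (Inseparable.of_eq hxy)).hom (S.presheaf.germ W (p x) hsW r)) := by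
      rw [TopCat.Presheaf.stalkCongr_hom, TopCat.Presheaf.germ_stalkSpecializes_apply, Scheme.Hom.germ_stalkMap_apply,
        Scheme.Hom.appLE, CommRingCat.comp_apply, TopCat.Presheaf.germ_res_apply]
    have hx : X.presheaf.germ V x hxV (p.appLE W V hVW r) = p.stalkMap x (S.presheaf.germ W (p x) hsW r) := by
      rw [Scheme.Hom.germ_stalkMap_apply, Scheme.Hom.appLE, CommRingCat.comp_apply, TopCat.Presheaf.germ_res_apply]
    show φ (Y.presheaf.germ V' y hyV (q.appLE W V' hVW' r)) = algebraMap _ _ (X.presheaf.germ V x hxV (p.appLE W V hVW r))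
    rw [hy, hx]
    exact RingHom.congr_fun hφ (S.presheaf.germ W (p x) hsW r)
  obtain ⟨C', _, _, hC', p', hp', g, hcomap, hres, hgR, hgp, hcong⟩ :=
    ArtinApproxLib.exists_nbhd_approx (hV.primeIdealOf ⟨x, hxV⟩).asIdeal hGA f₀ hf₀ N hN
  haveI := hC'
  let e₀ : Spec (CommRingCat.of C') ⟶ Spec Γ(X, V) := Spec.map (CommRingCat.ofHom (algebraMap Γ(X, V) C'))
  haveI : Etale e₀ := by
    rw [HasRingHomProperty.Spec_iff (P := @Etale)]
    exact RingHom.etale_algebraMap.mpr inferInstance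
  haveI : IsOpenImmersion hV.fromSpec := hV.isOpenImmersion_fromSpec
  let u : Spec (CommRingCat.of C') := ⟨p', hp'⟩
  have hu0 : e₀ u = hV.primeIdealOf ⟨x, hxV⟩ := PrimeSpectrum.ext hcomap
  have heu : (e₀ ≫ hV.fromSpec) u = x := by
    rw [Scheme.Hom.comp_apply, hu0]
    exact hV.fromSpec_primeIdealOf _
  let f : Spec (CommRingCat.of C') ⟶ Y := Spec.map (CommRingCat.ofHom g) ≫ hV'.fromSpec
  have hu1 : Spec.map (CommRingCat.ofHom g) u = hV'.primeIdealOf ⟨y, hyV⟩ := by
    refine PrimeSpectrum.ext (Ideal.ext fun b => ?_)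
    show g b ∈ p' ↔ _
    rw [hgp]
    have hb : b ∈ (hV'.primeIdealOf ⟨y, hyV⟩).asIdeal ↔
        algebraMap Γ(Y, V') (Y.presheaf.stalk y) b ∈ IsLocalRing.maximalIdeal (Y.presheaf.stalk y) := by
      rw [IsLocalization.AtPrime.to_map_mem_maximal_iff (Y.presheaf.stalk y) (hV'.primeIdealOf ⟨y, hyV⟩).asIdeal]
    rw [hb]
    haveI := hGA.1
    haveI hM : ((IsLocalRing.maximalIdeal (X.presheaf.stalk x)).map (algebraMap (X.presheaf.stalk x)
      (AdicCompletion (IsLocalRing.maximalIdeal (X.presheaf.stalk x)) (X.presheaf.stalk x)))).IsMaximal :=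
      ArtinApproxLib.map_maximalIdeal_isMaximal
    refine ⟨fun h => ?_, fun h => hloc _ h⟩
    by_contra hu
    rw [IsLocalRing.mem_maximalIdeal, mem_nonunits_iff, not_not] at hu
    exact hM.ne_top (Ideal.eq_top_of_isUnit_mem _ h (hu.map φ))
  have hfu : f u = y := by
    rw [Scheme.Hom.comp_apply, hu1]
    exact hV'.fromSpec_primeIdealOf _
  refine ⟨Spec (CommRingCat.of C'), e₀ ≫ hV.fromSpec, u, heu, f, hfu, inferInstance, ⟨RingHom.injective _, ?_⟩,
    ?_, fun b c hbc => ?_⟩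
  · have hev : ∀ b : C', ∃ z, e₀.residueFieldMap u z = UnivHomeo.ev u b := by
      intro b
      obtain ⟨r, s, hs, hrs⟩ := hres b
      have hs0 : UnivHomeo.ev (e₀ u) s ≠ 0 := fun h0 => hs (by
        have h1 := (UnivHomeo.ev_eq_zero _ _).mp h0
        rwa [hu0] at h1)
      refine ⟨UnivHomeo.ev (e₀ u) r / UnivHomeo.ev (e₀ u) s, ?_⟩
      rw [map_div₀, UnivHomeo.residueFieldMap_ev (algebraMap Γ(X, V) C') u,
        UnivHomeo.residueFieldMap_ev (algebraMap Γ(X, V) C') u,
        div_eq_iff (fun h0 => hs0 ((e₀.residueFieldMap u).hom.injective (by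
          rw [map_zero, ← h0]; exact UnivHomeo.residueFieldMap_ev (algebraMap Γ(X, V) C') u s))),
        ← map_mul, eq_comm, ← sub_eq_zero, ← map_sub, UnivHomeo.ev_eq_zero, mul_comm]
      exact hrs
    intro z
    obtain ⟨b, s, hs, rfl⟩ := UnivHomeo.exists_div_ev u z
    obtain ⟨zb, hb⟩ := hev b
    obtain ⟨zs, hs'⟩ := hev s
    obtain ⟨w, hw⟩ := (ConcreteCategory.bijective_of_isIso (hV.fromSpec.residueFieldMap (e₀ u))).2 (zb / zs)
    refine ⟨w, ?_⟩
    rw [Scheme.residueFieldMap_comp]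
    show e₀.residueFieldMap u (hV.fromSpec.residueFieldMap (e₀ u) w) = _
    rw [hw, map_div₀, hb, hs']
  · rw [Category.assoc, Category.assoc, ← IsAffineOpen.SpecMap_appLE_fromSpec q hW hV' hVW',
      ← IsAffineOpen.SpecMap_appLE_fromSpec p hW hV hVW, ← Spec.map_comp_assoc, ← Spec.map_comp_assoc]
    congr 2
    exact CommRingCat.hom_ext (RingHom.ext hgR)
  · letI : Algebra C' ((Spec (CommRingCat.of C')).presheaf.stalk u) := (StructureSheaf.toStalk C' u).hom.toAlgebra
    haveI : IsLocalization.AtPrime ((Spec (CommRingCat.of C')).presheaf.stalk u) p' :=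
      StructureSheaf.IsLocalization.to_stalk C' u
    have hfu' : f u ∈ V' := by rw [hfu]; exact hyV
    have heu' : (e₀ ≫ hV.fromSpec) u ∈ V := by rw [heu]; exact hxV
    let F : Y.presheaf.stalk y →+* (Spec (CommRingCat.of C')).presheaf.stalk u :=
      (f.stalkMap u).hom.comp (Y.presheaf.stalkCongr (Inseparable.of_eq hfu)).inv.hom
    let E : X.presheaf.stalk x →+* (Spec (CommRingCat.of C')).presheaf.stalk u :=
      ((e₀ ≫ hV.fromSpec).stalkMap u).hom.comp (X.presheaf.stalkCongr (Inseparable.of_eq heu)).inv.hom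
    have hF : ∀ a, F (Y.presheaf.germ V' y hyV a) = algebraMap C' _ (g a) := fun a => by
      show f.stalkMap u ((Y.presheaf.stalkCongr (Inseparable.of_eq hfu)).inv (Y.presheaf.germ V' y hyV a)) = _
      rw [TopCat.Presheaf.stalkCongr_inv, TopCat.Presheaf.germ_stalkSpecializes_apply]
      exact ArtinApproxLib.germ_stalkMap_chart hV' (CommRingCat.ofHom g) u hfu' a
    have hE : ∀ a, E (X.presheaf.germ V x hxV a) = algebraMap C' _ (algebraMap Γ(X, V) C' a) := fun a => by
      show (e₀ ≫ hV.fromSpec).stalkMap u ((X.presheaf.stalkCongr (Inseparable.of_eq heu)).inv (X.presheaf.germ V x hxV a)) = _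
      rw [TopCat.Presheaf.stalkCongr_inv, TopCat.Presheaf.germ_stalkSpecializes_apply]
      exact ArtinApproxLib.germ_stalkMap_chart hV (CommRingCat.ofHom (algebraMap Γ(X, V) C')) u heu' a
    obtain ⟨⟨bn, bs⟩, hb⟩ := IsLocalization.surj (hV'.primeIdealOf ⟨y, hyV⟩).asIdeal.primeCompl b
    obtain ⟨⟨cn, cd⟩, hc⟩ := IsLocalization.surj (hV.primeIdealOf ⟨x, hxV⟩).asIdeal.primeCompl c
    have hb' : b * Y.presheaf.germ V' y hyV bs = Y.presheaf.germ V' y hyV bn := hb
    have hc' : c * X.presheaf.germ V x hxV cd = X.presheaf.germ V x hxV cn := hc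
    haveI := hGA.1
    have hJ := ArtinApproxLib.mem_of_evalₐ_eq (IsLocalRing.maximalIdeal (X.presheaf.stalk x)).fg_of_isNoetherianRing N _ _ hbc
    have hkey := hcong ((Spec (CommRingCat.of C')).presheaf.stalk u) bn bs cn cd (by
      have h1 := Ideal.mul_mem_right (φ (Y.presheaf.germ V' y hyV bs) *
        algebraMap (X.presheaf.stalk x) _ (X.presheaf.germ V x hxV cd)) _ hJ
      convert h1 using 1
      show φ (Y.presheaf.germ V' y hyV bn) * algebraMap _ _ (X.presheaf.germ V x hxV cd) -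
        φ (Y.presheaf.germ V' y hyV bs) * algebraMap _ _ (X.presheaf.germ V x hxV cn) = _
      rw [← hb', ← hc', map_mul, map_mul]
      ring)
    rw [map_sub, map_mul, map_mul, ← hF, ← hF, ← hE, ← hE, ← hb', ← hc', map_mul, map_mul] at hkey
    rw [Ideal.Quotient.eq]
    show F b - E c ∈ _
    have hu : IsUnit (F (Y.presheaf.germ V' y hyV bs) * E (X.presheaf.germ V x hxV cd)) :=
      ((IsLocalization.map_units (Y.presheaf.stalk y) bs).map F).mul
        ((IsLocalization.map_units (X.presheaf.stalk x) cd).map E)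
    refine (Ideal.mul_unit_mem_iff_mem _ hu).1 ?_
    convert hkey using 1
    ring

end Groth.Agent.S7202
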