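import Mathlib
import Groth.Agent.S7202
import Groth.Agent.ArtinApproxLib.CommonNbhd
import Groth.Agent.EtLocalLib.SchemeLocal
import Groth.Statements.S7203

set_option autoImplicit false
universe u
open FlatMor

namespace Groth.Agent.S7203

open AlgebraicGeometry CategoryTheory Limits in
/-- Let S be locally Noetherian, p : X → S and q : Y → S locally of finite type, x in X and y in Y over
the same point s with O_{S,s} a G-ring, and φ : O_{Y,y}^∧ ≅ O_{X,x}^∧ an isomorphism of
O_{S,s}-algebras between the completed local rings. For every N ≥ 1 there are a scheme U, a point u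
and morphisms e : U → X, f : U → Y over S which are both elementary étale neighbourhoods (of (X, x)
and of (Y, y)) such that O_{Y,y}^∧ → O_{U,u}^∧ and O_{Y,y}^∧ → O_{X,x}^∧ → O_{U,u}^∧ (φ followed by
the map induced by e) agree modulo m_u^N; the last condition is written on O_{U,u}/m_u^N through
lifts modulo the N-th powers of the maximal ideals. -/
theorem result {X Y S : Scheme.{u}} [IsLocallyNoetherian S]
    (p : X ⟶ S) (q : Y ⟶ S) [LocallyOfFiniteType p] [LocallyOfFiniteType q] (x : X) (y : Y) (hxy : p x = q y)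
    (hG : CAlg.IsGRing ↑(S.presheaf.stalk (p x)))
    (φ : (AdicCompletion (IsLocalRing.maximalIdeal ↑(Y.presheaf.stalk y)) ↑(Y.presheaf.stalk y)) ≃+* (AdicCompletion (IsLocalRing.maximalIdeal ↑(X.presheaf.stalk x)) ↑(X.presheaf.stalk x)))
    (hφ : φ.toRingHom.comp ((algebraMap ↑(Y.presheaf.stalk y) (AdicCompletion (IsLocalRing.maximalIdeal ↑(Y.presheaf.stalk y)) ↑(Y.presheaf.stalk y))).comp
        ((q.stalkMap y).hom.comp (S.presheaf.stalkCongr (Inseparable.of_eq hxy)).hom.hom)) =
      (algebraMap ↑(X.presheaf.stalk x) (AdicCompletion (IsLocalRing.maximalIdeal ↑(X.presheaf.stalk x)) ↑(X.presheaf.stalk x))).comp (p.stalkMap x).hom)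
    (N : ℕ) (hN : 1 ≤ N) :
    ∃ (U : Scheme.{u}) (u : U) (e : U ⟶ X) (heu : e u = x) (f : U ⟶ Y) (hfu : f u = y),
      Etale e ∧ Function.Bijective (e.residueFieldMap u) ∧ Etale f ∧ Function.Bijective (f.residueFieldMap u) ∧
      f ≫ q = e ≫ p ∧
      ∀ (b : (AdicCompletion (IsLocalRing.maximalIdeal ↑(Y.presheaf.stalk y)) ↑(Y.presheaf.stalk y))) (cY : ↑(Y.presheaf.stalk y)) (cX : ↑(X.presheaf.stalk x)),
        AdicCompletion.evalₐ (IsLocalRing.maximalIdeal ↑(Y.presheaf.stalk y)) N b =
          Ideal.Quotient.mk (IsLocalRing.maximalIdeal ↑(Y.presheaf.stalk y) ^ N) cY →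
        AdicCompletion.evalₐ (IsLocalRing.maximalIdeal ↑(X.presheaf.stalk x)) N (φ b) =
          Ideal.Quotient.mk (IsLocalRing.maximalIdeal ↑(X.presheaf.stalk x) ^ N) cX →
        Ideal.Quotient.mk (IsLocalRing.maximalIdeal ↑(U.presheaf.stalk u) ^ N)
            ((f.stalkMap u).hom ((Y.presheaf.stalkCongr (Inseparable.of_eq hfu)).inv.hom cY)) =
          Ideal.Quotient.mk (IsLocalRing.maximalIdeal ↑(U.presheaf.stalk u) ^ N)
            ((e.stalkMap u).hom ((X.presheaf.stalkCongr (Inseparable.of_eq heu)).inv.hom cX)) := by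
  classical
  haveI hGS : IsNoetherianRing ↑(S.presheaf.stalk (p x)) := hG.1
  haveI : IsLocallyNoetherian X := LocallyOfFiniteType.isLocallyNoetherian p
  haveI : IsLocallyNoetherian Y := LocallyOfFiniteType.isLocallyNoetherian q
  haveI : IsLocalHom φ.toRingHom :=
    haveI := RegLocal.isLocalRing_completion (X.presheaf.stalk x) _ (IsLocalRing.maximalIdeal.isMaximal (X.presheaf.stalk x)).ne_top
    Function.Surjective.isLocalHom _ φ.surjective
  haveI := RegLocal.isLocalRing_completion (X.presheaf.stalk x) _ (IsLocalRing.maximalIdeal.isMaximal (X.presheaf.stalk x)).ne_top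
  haveI := RegLocal.isLocalRing_completion (Y.presheaf.stalk y) _ (IsLocalRing.maximalIdeal.isMaximal (Y.presheaf.stalk y)).ne_top
  have hφM : ∀ z ∈ (IsLocalRing.maximalIdeal (Y.presheaf.stalk y)).map
      (algebraMap (Y.presheaf.stalk y) (AdicCompletion (IsLocalRing.maximalIdeal (Y.presheaf.stalk y)) (Y.presheaf.stalk y))),
      φ z ∈ (IsLocalRing.maximalIdeal (X.presheaf.stalk x)).map
        (algebraMap (X.presheaf.stalk x) (AdicCompletion (IsLocalRing.maximalIdeal (X.presheaf.stalk x)) (X.presheaf.stalk x))) := by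
    intro z hz
    rw [← AdicCompletion.maximalIdeal_eq_map] at hz ⊢
    exact ((IsLocalRing.local_hom_TFAE φ.toRingHom).out 0 2 rfl rfl).mp inferInstance (Ideal.mem_map_of_mem φ.toRingHom hz)
  obtain ⟨U, e, u, heu, f, hfu, het, hebij, hcomp, hcong⟩ := S7202.result p q x y hxy hG
    (φ.toRingHom.comp (algebraMap (Y.presheaf.stalk y) _)) hφ
    (fun b hb => hφM _ (Ideal.mem_map_of_mem _ hb)) (max N 2) (le_trans (by norm_num) (le_max_right N 2))
  haveI := het
  haveI : IsLocallyNoetherian U := LocallyOfFiniteType.isLocallyNoetherian e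
  haveI : LocallyOfFiniteType f := by
    haveI : LocallyOfFiniteType (f ≫ q) := by rw [hcomp]; infer_instance
    exact AlgebraicGeometry.locallyOfFiniteType_of_comp f q
  haveI : LocallyOfFinitePresentation f := inferInstance
  subst heu hfu
  -- the stalk maps
  have hB : ∀ c, (e.stalkMap u).hom ((X.presheaf.stalkCongr (Inseparable.of_eq rfl)).inv.hom c) = e.stalkMap u c := by
    intro c
    simp [TopCat.Presheaf.stalkCongr_inv]
  have hA : ∀ b, (f.stalkMap u).hom ((Y.presheaf.stalkCongr (Inseparable.of_eq rfl)).inv.hom b) = f.stalkMap u b := by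
    intro b
    simp [TopCat.Presheaf.stalkCongr_inv]
  letI : Algebra (X.presheaf.stalk (e u)) (U.presheaf.stalk u) := (e.stalkMap u).hom.toAlgebra
  haveI : IsLocalHom (algebraMap (X.presheaf.stalk (e u)) (U.presheaf.stalk u)) := e.toLRSHom.prop u
  haveI : Algebra.FormallyUnramified (X.presheaf.stalk (e u)) (U.presheaf.stalk u) := FormallyUnramified.stalkMap e u
  haveI : Algebra.EssFiniteType (X.presheaf.stalk (e u)) (U.presheaf.stalk u) := LocallyOfFiniteType.stalkMap e u
  have heres : ∀ z : U.presheaf.stalk u, ∃ c, z - e.stalkMap u c ∈ IsLocalRing.maximalIdeal (U.presheaf.stalk u) := by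
    intro z
    obtain ⟨w, hw⟩ := hebij.2 (U.residue u z)
    obtain ⟨c, rfl⟩ := IsLocalRing.residue_surjective w
    exact ⟨c, Ideal.Quotient.eq.1 hw.symm⟩
  obtain ⟨hflat, hfm, hfres⟩ := ArtinApproxLib.flat_of_approx_iso
    (e.stalkMap u).hom (f.stalkMap u).hom (Flat.stalkMap e u)
    (Algebra.FormallyUnramified.map_maximalIdeal (R := X.presheaf.stalk (e u)) (S := U.presheaf.stalk u))
    heres φ (max N 2) (le_max_right N 2) (fun a c h => by
      have := hcong a c h
      rw [hA, hB, Ideal.Quotient.eq] at this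
      exact this)
  have hfbij : Function.Bijective (f.residueFieldMap u) := by
    refine ⟨RingHom.injective _, fun w => ?_⟩
    obtain ⟨z, rfl⟩ := IsLocalRing.residue_surjective w
    obtain ⟨a, ha⟩ := hfres z
    exact ⟨IsLocalRing.residue _ a, (Ideal.Quotient.eq.2 ha).symm⟩
  have hunr : (f.stalkMap u).hom.FormallyUnramified := by
    rw [EtLocalLib.stalkMap_unramified_iff]
    refine ⟨hfm, ?_⟩
    letI := (f.residueFieldMap u).hom.toAlgebra
    refine ⟨Module.Finite.of_surjective (Algebra.linearMap _ _) hfbij.2, ?_⟩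
    exact ⟨fun w => by obtain ⟨v, rfl⟩ := hfbij.2 w; exact isSeparable_algebraMap v⟩
  have hsm : (f.stalkMap u).hom.FormallySmooth := by
    letI : Algebra (Y.presheaf.stalk (f u)) (U.presheaf.stalk u) := (f.stalkMap u).hom.toAlgebra
    haveI : IsLocalHom (algebraMap (Y.presheaf.stalk (f u)) (U.presheaf.stalk u)) := f.toLRSHom.prop u
    haveI : Algebra.EssFiniteType (Y.presheaf.stalk (f u)) (U.presheaf.stalk u) := LocallyOfFiniteType.stalkMap f u
    haveI : Module.Flat (Y.presheaf.stalk (f u)) (U.presheaf.stalk u) := hflat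
    haveI : Algebra.FormallyUnramified (Y.presheaf.stalk (f u)) (U.presheaf.stalk u) := hunr
    haveI := EtLocalLib.formallyEtale_of_flat (Y.presheaf.stalk (f u)) (U.presheaf.stalk u)
    show Algebra.FormallySmooth _ _
    infer_instance
  obtain ⟨W, huW, hW⟩ := EtLocalLib.exists_etale_nhd f u hunr hsm
  haveI := hW
  have hiso : Function.Bijective ((W.ι).residueFieldMap ⟨u, huW⟩) :=
    ConcreteCategory.bijective_of_isIso (W.ι.residueFieldMap ⟨u, huW⟩)
  refine ⟨W, ⟨u, huW⟩, W.ι ≫ e, rfl, W.ι ≫ f, rfl, inferInstance, ?_, hW, ?_, by rw [Category.assoc, hcomp, Category.assoc],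
    fun b cY cX hb hcX => ?_⟩
  · rw [Scheme.residueFieldMap_comp]
    exact hiso.comp hebij
  · rw [Scheme.residueFieldMap_comp]
    exact hiso.comp hfbij
  -- congruences
  obtain ⟨c', hc'⟩ := Ideal.Quotient.mk_surjective (AdicCompletion.evalₐ (IsLocalRing.maximalIdeal (X.presheaf.stalk (e u)))
    (max N 2) (φ (algebraMap (Y.presheaf.stalk (f u)) _ cY)))
  have h1 := hcong cY c' hc'.symm
  rw [hA, hB, Ideal.Quotient.eq] at h1
  have h1' : f.stalkMap u cY - e.stalkMap u c' ∈ IsLocalRing.maximalIdeal (U.presheaf.stalk u) ^ N :=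
    Ideal.pow_le_pow_right (le_max_left N 2) h1
  have h2 : c' - cX ∈ IsLocalRing.maximalIdeal (X.presheaf.stalk (e u)) ^ N := by
    have ha := ArtinApproxLib.mem_of_evalₐ_eq (IsLocalRing.maximalIdeal (X.presheaf.stalk (e u))).fg_of_isNoetherianRing N _ _ hcX
    have hb' := ArtinApproxLib.mem_of_evalₐ_eq (IsLocalRing.maximalIdeal (Y.presheaf.stalk (f u))).fg_of_isNoetherianRing N _ _ hb
    have hd := Ideal.map_mono (f := algebraMap (X.presheaf.stalk (e u))
      (AdicCompletion (IsLocalRing.maximalIdeal (X.presheaf.stalk (e u))) (X.presheaf.stalk (e u))))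
      (Ideal.pow_le_pow_right (I := IsLocalRing.maximalIdeal (X.presheaf.stalk (e u))) (le_max_left N 2))
      (ArtinApproxLib.mem_of_evalₐ_eq (IsLocalRing.maximalIdeal (X.presheaf.stalk (e u))).fg_of_isNoetherianRing (max N 2) _ _ hc'.symm)
    have hb'' : φ b - φ (algebraMap (Y.presheaf.stalk (f u)) _ cY) ∈
        (IsLocalRing.maximalIdeal (X.presheaf.stalk (e u)) ^ N).map (algebraMap (X.presheaf.stalk (e u))
          (AdicCompletion (IsLocalRing.maximalIdeal (X.presheaf.stalk (e u))) (X.presheaf.stalk (e u)))) := by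
      rw [← map_sub, Ideal.map_pow]
      rw [Ideal.map_pow] at hb'
      have := Ideal.mem_map_of_mem φ.toRingHom hb'
      rw [Ideal.map_pow] at this
      exact Ideal.pow_right_mono (Ideal.map_le_iff_le_comap.2 (fun z hz => Ideal.mem_comap.2 (hφM z hz))) N this
    have h3 : algebraMap (X.presheaf.stalk (e u))
        (AdicCompletion (IsLocalRing.maximalIdeal (X.presheaf.stalk (e u))) (X.presheaf.stalk (e u))) (c' - cX) ∈
        (IsLocalRing.maximalIdeal (X.presheaf.stalk (e u)) ^ N).map (algebraMap (X.presheaf.stalk (e u)) _) := by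
      convert sub_mem ha (add_mem hb'' hd) using 1
      rw [map_sub]; ring
    rw [← CMCat.evalₐ_eq_zero_iff (IsLocalRing.maximalIdeal (X.presheaf.stalk (e u))).fg_of_isNoetherianRing,
      AlgHom.commutes] at h3
    exact Ideal.Quotient.eq_zero_iff_mem.1 h3
  have h4 : f.stalkMap u cY - e.stalkMap u cX ∈ IsLocalRing.maximalIdeal (U.presheaf.stalk u) ^ N := by
    have := Ideal.mem_map_of_mem (e.stalkMap u).hom h2
    rw [Ideal.map_pow] at this
    have h5 := Ideal.pow_right_mono (((IsLocalRing.local_hom_TFAE (e.stalkMap u).hom).out 0 2 rfl rfl).mp (e.toLRSHom.prop u)) N this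
    rw [map_sub] at h5
    simpa using add_mem h1' h5
  have hι := Ideal.mem_map_of_mem (W.ι.stalkMap ⟨u, huW⟩).hom h4
  replace hι := (Ideal.map_pow (W.ι.stalkMap ⟨u, huW⟩).hom (IsLocalRing.maximalIdeal (U.presheaf.stalk u)) N).le hι
  erw [map_sub] at hι
  have h6 := Ideal.pow_right_mono (((IsLocalRing.local_hom_TFAE (W.ι.stalkMap ⟨u, huW⟩).hom).out 0 2 rfl rfl).mp
    (W.ι.toLRSHom.prop ⟨u, huW⟩)) N hι
  refine Ideal.Quotient.eq.2 ?_
  have key : ∀ {Z : Scheme.{u}} (g : U ⟶ Z) (h : (W.ι ≫ g) ⟨u, huW⟩ = g u) (z : Z.presheaf.stalk (g u)),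
      (W.ι ≫ g).stalkMap ⟨u, huW⟩ ((Z.presheaf.stalkCongr (Inseparable.of_eq h)).inv z) =
        W.ι.stalkMap ⟨u, huW⟩ (g.stalkMap u z) := by
    intro Z g h z
    rw [TopCat.Presheaf.stalkCongr_inv]
    erw [TopCat.Presheaf.stalkSpecializes_refl]
    erw [Scheme.Hom.stalkMap_comp]
    rfl
  erw [key f rfl cY, key e rfl cX]
  exact h6

end Groth.Agent.S7203
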