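import Groth.Statements.S7204
import Mathlib

set_option autoImplicit false
set_option backward.isDefEq.respectTransparency false
universe w u
open FlatMor

namespace Groth.Agent.S7204

open AlgebraicGeometry CategoryTheory Limits in
/-- Let (X_i)_{i ∈ I} be a diagram of schemes and (W, X_i → W) a cocone under it. If there is an fpqc
covering {W_a → W} such that each W_a is the colimit (in schemes) of the base-changed diagram (X_i
×_W W_a), and each W_a ×_W W_b is the colimit of (X_i ×_W W_a ×_W W_b), then W is the colimit of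
(X_i) in the category of schemes. -/
theorem result {J : Type u} [SmallCategory J] (D : J ⥤ Scheme.{u}) (c : Cocone D)
    (F : PreZeroHypercover.{w} c.pt) (hF : F.presieve₀ ∈ Scheme.fpqcPrecoverage c.pt)
    (h1 : ∀ a : F.I₀, Nonempty (IsColimit ((Over.forgetCocone (F.X a)).whisker
      (D.toOver c.pt (fun j => c.ι.app j) (fun g => c.w g) ⋙ Over.pullback (F.f a)))))
    (h2 : ∀ a b : F.I₀, Nonempty (IsColimit ((Over.forgetCocone (pullback (F.f a) (F.f b))).whisker
      (D.toOver c.pt (fun j => c.ι.app j) (fun g => c.w g) ⋙ Over.pullback (pullback.fst (F.f a) (F.f b) ≫ F.f a))))) :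
    Nonempty (IsColimit c) := by
  classical
  let T := D.toOver c.pt (fun j => c.ι.app j) (fun g => c.w g)
  let P : ∀ (j : J) {A : Scheme.{u}} (_ : A ⟶ c.pt), Scheme.{u} := fun j _ q => pullback (c.ι.app j) q
  have hcov : Presieve.ofArrows F.X F.f ∈ Scheme.fpqcPrecoverage c.pt := hF
  have sheaf : ∀ (S : Scheme.{u}) {B : Scheme.{u}} {κ : Type w} (Y : κ → Scheme.{u}) (p : ∀ i, Y i ⟶ B),
      Presieve.ofArrows Y p ∈ Scheme.fpqcPrecoverage B → Presieve.IsSheafFor (yoneda.obj S) (Presieve.ofArrows Y p) :=
    fun S B κ Y p h => (GrothendieckTopology.Subcanonical.isSheaf_of_isRepresentable (J := Scheme.fpqcTopology) (yoneda.obj S)).isSheafFor (Presieve.ofArrows Y p)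
      (Precoverage.generate_mem_toGrothendieck h)
  have hext : ∀ (S : Scheme.{u}) (j : J) (g₁ g₂ : D.obj j ⟶ S),
      (∀ a, pullback.fst (c.ι.app j) (F.f a) ≫ g₁ = pullback.fst (c.ι.app j) (F.f a) ≫ g₂) → g₁ = g₂ := by
    intro S j g₁ g₂ h
    have hc : Presieve.ofArrows (fun a => pullback (c.ι.app j) (F.f a)) (fun a => pullback.fst (c.ι.app j) (F.f a)) ∈
        Scheme.fpqcPrecoverage (D.obj j) :=
      Precoverage.mem_coverings_of_isPullback F.f hcov (c.ι.app j) (fun a => pullback.fst (c.ι.app j) (F.f a))
        (fun a => pullback.snd (c.ι.app j) (F.f a)) (fun a => IsPullback.of_hasPullback (c.ι.app j) (F.f a))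
    obtain ⟨t, -, ht⟩ := (Presieve.isSheafFor_arrows_iff _ _).1 (sheaf S _ _ hc)
      (fun a => pullback.fst (c.ι.app j) (F.f a) ≫ g₂) (fun a b Z ga gb hg => by
        show ga ≫ _ = gb ≫ _
        rw [reassoc_of% hg])
    exact (ht g₁ h).trans (ht g₂ fun a => rfl).symm
  have main : ∀ s : Cocone D, ∃! d : c.pt ⟶ s.pt, ∀ j, c.ι.app j ≫ d = s.ι.app j := by
    intro s
    let sa : ∀ a, Cocone (T ⋙ Over.pullback (F.f a) ⋙ Over.forget _) := fun a =>
      { pt := s.pt
        ι := { app := fun j => pullback.fst (c.ι.app j) (F.f a) ≫ s.ι.app j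
               naturality := fun j k g => by
                simp only [Functor.const_obj_map, Category.comp_id]
                simp [T]
                erw [pullback.lift_fst_assoc, Category.assoc, s.w g]
                rfl } }
    let t : ∀ a, F.X a ⟶ s.pt := fun a => (h1 a).some.desc (sa a)
    have ht : ∀ a j, pullback.snd (c.ι.app j) (F.f a) ≫ t a = pullback.fst (c.ι.app j) (F.f a) ≫ s.ι.app j :=
      fun a j => (h1 a).some.fac (sa a) j
    have hab : ∀ a b, pullback.fst (F.f a) (F.f b) ≫ t a = pullback.snd (F.f a) (F.f b) ≫ t b := by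
      intro a b
      refine (h2 a b).some.hom_ext fun j => ?_
      let q := pullback.fst (F.f a) (F.f b) ≫ F.f a
      show pullback.snd (c.ι.app j) q ≫ pullback.fst (F.f a) (F.f b) ≫ t a =
        pullback.snd (c.ι.app j) q ≫ pullback.snd (F.f a) (F.f b) ≫ t b
      let ka : pullback (c.ι.app j) q ⟶ pullback (c.ι.app j) (F.f a) :=
        pullback.lift (pullback.fst _ _) (pullback.snd _ q ≫ pullback.fst (F.f a) (F.f b)) (by
          rw [Category.assoc]; exact pullback.condition)
      let kb : pullback (c.ι.app j) q ⟶ pullback (c.ι.app j) (F.f b) :=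
        pullback.lift (pullback.fst _ _) (pullback.snd _ q ≫ pullback.snd (F.f a) (F.f b)) (by
          rw [Category.assoc, ← pullback.condition (f := F.f a) (g := F.f b)]; exact pullback.condition)
      have ea : pullback.snd (c.ι.app j) q ≫ pullback.fst (F.f a) (F.f b) ≫ t a = pullback.fst (c.ι.app j) q ≫ s.ι.app j := by
        rw [← Category.assoc, ← pullback.lift_snd (pullback.fst _ _) (pullback.snd _ q ≫ pullback.fst (F.f a) (F.f b))
          (by rw [Category.assoc]; exact pullback.condition), Category.assoc, ht, pullback.lift_fst_assoc]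
      have eb : pullback.snd (c.ι.app j) q ≫ pullback.snd (F.f a) (F.f b) ≫ t b = pullback.fst (c.ι.app j) q ≫ s.ι.app j := by
        rw [← Category.assoc, ← pullback.lift_snd (pullback.fst _ _) (pullback.snd _ q ≫ pullback.snd (F.f a) (F.f b))
          (by rw [Category.assoc, ← pullback.condition (f := F.f a) (g := F.f b)]; exact pullback.condition), Category.assoc, ht, pullback.lift_fst_assoc]
      rw [ea, eb]
    obtain ⟨d, hd, hu⟩ := ((Presieve.isSheafFor_arrows_iff _ _).1 (sheaf s.pt _ _ hcov) t (fun a b Z ga gb hg => by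
      show ga ≫ t a = gb ≫ t b
      have := congrArg (pullback.lift ga gb hg ≫ ·) (hab a b)
      simpa using this))
    have hd' : ∀ a, F.f a ≫ d = t a := hd
    refine ⟨d, fun j => ?_, fun m hm => hu m fun a => ?_⟩
    · refine hext _ j _ _ fun a => ?_
      rw [← Category.assoc, pullback.condition, Category.assoc, hd']
      exact ht a j
    · show F.f a ≫ m = t a
      refine (h1 a).some.hom_ext fun j => ?_
      show pullback.snd (c.ι.app j) (F.f a) ≫ F.f a ≫ m = pullback.snd (c.ι.app j) (F.f a) ≫ t a
      rw [← pullback.condition_assoc, hm, ht]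
  exact ⟨{ desc := fun s => (main s).choose, fac := fun s => (main s).choose_spec.1,
           uniq := fun s m hm => (main s).choose_spec.2 m hm }⟩

end Groth.Agent.S7204
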