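import Groth.Statements.S7211
import Groth.Agent.RelPCLib.Comp

set_option autoImplicit false
universe u
open CategoryTheory CategoryTheory.Limits AlgebraicGeometry Opposite TopologicalSpace
attribute [local instance] HasDerivedCategory.standard
open FlatMor

set_option backward.isDefEq.respectTransparency false

namespace Groth.Agent.S7211

open Groth.Agent.RelPCLib Groth.Agent.DCohLib

/-- Let i : X ⟶ P be a closed immersion and g : P ⟶ S a morphism which is flat and locally of finite
presentation. Let F be a cochain complex of O_X-modules and m an integer; the termwise direct image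
i_* F computes Ri_* F, direct image along a closed immersion being exact. Then: the class of F is
m-pseudo-coherent relative to i ≫ g : X ⟶ S (chart form) if and only if i_* F is m-pseudo-coherent
on P in the absolute sense; and i_* F is m-pseudo-coherent relative to g if and only if it is
m-pseudo-coherent on P in the absolute sense. -/
theorem result {X P S : Scheme.{u}} (i : X ⟶ P)
    [IsClosedImmersion i] (g : P ⟶ S) [Flat g] [LocallyOfFinitePresentation g] (m : ℤ)
    (F : CochainComplex X.Modules ℤ) :
    (DerSch.IsPseudoCoherentRel (i ≫ g) m (DCoh.toD X F) ↔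
        DCoh.IsPseudoCoherentD m (DCoh.toD P ((DerSch.pushCx i).obj F))) ∧
      (DerSch.IsPseudoCoherentRel g m (DCoh.toD P ((DerSch.pushCx i).obj F)) ↔
        DCoh.IsPseudoCoherentD m (DCoh.toD P ((DerSch.pushCx i).obj F))) := by
  have hp : ∀ (V : P.Opens) (W : S.Opens) (h : V ≤ g ⁻¹ᵁ W), IsAffineOpen V → IsAffineOpen W →
      Groth.Agent.PCHomLib.PCHom (g.appLE W V h).hom := fun V W h hV hW => pcHom_appLE_of_flat g hV hW h
  refine ⟨((rel_comp_iff g i hp m _).symm.trans (rel_closed_iff i m _)).trans
    ⟨isPseudoCoherentD_iso (pushDQ i F), isPseudoCoherentD_iso (pushDQ i F).symm⟩, ?_⟩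
  have h := rel_comp_iff g (𝟙 P) hp m (DCoh.toD P ((DerSch.pushCx i).obj F))
  rw [Category.id_comp] at h
  exact h.symm.trans (rel_id_iff m _)

end Groth.Agent.S7211
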