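import Groth.Statements.S7213
import Groth.Agent.DerSchH7.RelQCoh
-- import your own Groth.Agent.* helpers here

set_option autoImplicit false
set_option backward.isDefEq.respectTransparency false
universe u
open CategoryTheory CategoryTheory.Limits AlgebraicGeometry Opposite TopologicalSpace
attribute [local instance] HasDerivedCategory.standard
open FlatMor

namespace Groth.Agent.S7213

/-- Let f : X ⟶ S be a morphism of schemes, m an integer, and E ∈ D(O_X) such that E is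
m-pseudo-coherent with respect to the morphism f (chart form; in particular f is locally of finite
type). Then for every integer i > m the cohomology sheaf H^i(E) is a quasi-coherent O_X-module. -/
theorem result {X S : Scheme.{u}} (f : X ⟶ S) (m : ℤ) (E : DCoh.D X)
    (hE : DerSch.IsPseudoCoherentRel f m E) (i : ℤ) (hi : m < i) : Coh.IsQCoh (DCoh.HD E i) := by
  refine Groth.Agent.DCohLib.isQCoh_of_local fun x => ?_
  obtain ⟨-, 𝒱, h𝒱, hV⟩ := hE
  have hy : f.base x ∈ ⨆ V ∈ 𝒱, (V : S.Opens) := by rw [h𝒱]; trivial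
  obtain ⟨V, hy⟩ := TopologicalSpace.Opens.mem_iSup.1 hy
  obtain ⟨hV𝒱, hy⟩ := TopologicalSpace.Opens.mem_iSup.1 hy
  obtain ⟨𝒰, h𝒰, hU⟩ := hV V hV𝒱
  have hx : x ∈ ⨆ U ∈ 𝒰, (U : X.Opens) := by rw [h𝒰]; exact hy
  obtain ⟨U, hx⟩ := TopologicalSpace.Opens.mem_iSup.1 hx
  obtain ⟨hU𝒰, hx⟩ := TopologicalSpace.Opens.mem_iSup.1 hx
  have hle : (U : X.Opens) ≤ f ⁻¹ᵁ (V : S.Opens) := by
    rw [← h𝒰]
    exact le_biSup (fun U : X.affineOpens => (U : X.Opens)) hU𝒰
  obtain ⟨n, φ, hφ, hpc⟩ := hU U hU𝒰 hle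
  exact ⟨U, hx, Groth.Agent.DerSchH7.isQCoh_HD_chart U.2 hφ.1 hpc i hi⟩

end Groth.Agent.S7213
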