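import Groth.Statements.S7214
import Groth.Agent.DCohLib.Summand
-- import your own Groth.Agent.* helpers here

set_option autoImplicit false
set_option backward.isDefEq.respectTransparency false
universe u
open CategoryTheory CategoryTheory.Limits AlgebraicGeometry Opposite TopologicalSpace
attribute [local instance] HasDerivedCategory.standard
open FlatMor

namespace Groth.Agent.S7214

/-- Let f : X ⟶ S be a morphism of schemes, m an integer, and E, K objects of D(O_X). If the direct sum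
E ⊕ K is m-pseudo-coherent relative to f (chart form; in particular f is locally of finite type),
then so are E and K. -/
theorem result {X S : Scheme.{u}} (f : X ⟶ S) (m : ℤ) (E K : DCoh.D X)
    [HasBinaryBiproduct E K] (h : DerSch.IsPseudoCoherentRel f m (E ⊞ K)) :
    DerSch.IsPseudoCoherentRel f m E ∧ DerSch.IsPseudoCoherentRel f m K := by
  obtain ⟨hft, 𝒱, h𝒱, hV⟩ := h
  suffices key : ∀ (U : X.Opens) (V : S.Opens) (n : ℕ) (φ : MvPolynomial (Fin n) Γ(S, V) →+* Γ(X, U)),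
      DerSch.ChartPC m (E ⊞ K) U V φ → DerSch.ChartPC m E U V φ ∧ DerSch.ChartPC m K U V φ by
    constructor <;> refine ⟨hft, 𝒱, h𝒱, fun V hV𝒱 => ?_⟩
    · obtain ⟨𝒰, h𝒰, hU⟩ := hV V hV𝒱
      exact ⟨𝒰, h𝒰, fun U hU𝒰 hle => by
        obtain ⟨n, φ, hφ, hpc⟩ := hU U hU𝒰 hle
        exact ⟨n, φ, hφ, (key _ _ n φ hpc).1⟩⟩
    · obtain ⟨𝒰, h𝒰, hU⟩ := hV V hV𝒱
      exact ⟨𝒰, h𝒰, fun U hU𝒰 hle => by
        obtain ⟨n, φ, hφ, hpc⟩ := hU U hU𝒰 hle
        exact ⟨n, φ, hφ, (key _ _ n φ hpc).2⟩⟩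
  intro U V n φ hpc
  let T : CochainComplex X.Modules ℤ ⥤ CochainComplex _ ℤ := DCoh.restrictCx U ⋙ DerSch.pushCx (DerSch.chartImm U φ)
  haveI : T.Additive := by dsimp only [T, DCoh.restrictCx, DerSch.pushCx]; infer_instance
  haveI : PreservesBinaryBiproducts T := preservesBinaryBiproducts_of_preservesBiproducts T
  haveI : PreservesBinaryBiproducts (DerivedCategory.Q (C := X.Modules)) := preservesBinaryBiproducts_of_preservesBiproducts _
  haveI : PreservesBinaryBiproducts (DerivedCategory.Q (C := (Spec (CommRingCat.of (MvPolynomial (Fin n) Γ(S, V)))).Modules)) :=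
    preservesBinaryBiproducts_of_preservesBiproducts _
  have main : ∀ G G' : CochainComplex X.Modules ℤ, Nonempty (DCoh.toD X G ≅ E) → Nonempty (DCoh.toD X G' ≅ K) →
      DCoh.IsPseudoCoherentD m (DCoh.toD _ (T.obj G)) ∧ DCoh.IsPseudoCoherentD m (DCoh.toD _ (T.obj G')) := by
    rintro G G' ⟨e⟩ ⟨e'⟩
    have h1 : DCoh.IsPseudoCoherentD m (DCoh.toD _ (T.obj (G ⊞ G'))) :=
      hpc (G ⊞ G') ⟨DerivedCategory.Q.mapBiprod G G' ≪≫ biprod.mapIso e e'⟩
    exact Groth.Agent.DCohLib.isPseudoCoherentD_summands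
      (Groth.Agent.DCohLib.isPseudoCoherentD_iso (DerivedCategory.Q.mapIso (T.mapBiprod G G') ≪≫
        DerivedCategory.Q.mapBiprod (T.obj G) (T.obj G')) h1)
  exact ⟨fun G hG => (main G (DerivedCategory.Q.objPreimage K) hG ⟨DerivedCategory.Q.objObjPreimageIso K⟩).1,
    fun G' hG' => (main (DerivedCategory.Q.objPreimage E) G' ⟨DerivedCategory.Q.objObjPreimageIso E⟩ hG').2⟩

end Groth.Agent.S7214
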