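import Groth.Statements.S7222
import Groth.Agent.NLLib.BcDerived

set_option autoImplicit false
universe u
open CategoryTheory CategoryTheory.Limits TensorProduct
attribute [local instance] HasDerivedCategory.standard
open FlatMor

set_option backward.isDefEq.respectTransparency false

namespace Groth.Agent.S7222

/-- Let A → B and A → A' be ring homomorphisms and B' an algebra over A' and over B making the square
cocartesian, B' = B ⊗_A A'. If B is flat over A, then the canonical chain map NL_{B/A} ⊗_B B' →
NL_{B'/A'} (for the presentations by the polynomial algebras on all elements) is a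
quasi-isomorphism. If moreover NL_{B/A} has tor-amplitude in [-1, 0], then, the derived base change
functor along B → B' being assumed to exist, NL_{B/A} ⊗^L_B B' is isomorphic to NL_{B'/A'} in D(B')
(existence of an isomorphism only: the derived comparison map is not named here). -/
theorem result (A B A' B' : Type u) [CommRing A] [CommRing B]
    [CommRing A'] [CommRing B'] [Algebra A B] [Algebra A' B'] [Algebra A A'] [Algebra B B'] [Algebra A B']
    [IsScalarTower A A' B'] [IsScalarTower A B B'] [Algebra.IsPushout A A' B B'] [Module.Flat A B] :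
    QuasiIso (NLCx.bcMapSelf A B A' B') ∧
      (DRing.HasTorAmplitudeIn B (-1) 0 (LCI.NL A B) → ∀ [DRing.HasLBaseChange (algebraMap B B')],
        Nonempty ((DRing.LBaseChange (algebraMap B B')).obj (LCI.NL A B) ≅ LCI.NL A' B')) := by
  obtain ⟨e, he⟩ := Groth.Agent.NLLib.exists_homotopyEquiv_self A B A' B' fun J hJ => by
    subst hJ
    exact LinearMap.lTensor_injective_of_exact_of_flat
      (MvPolynomial.aeval (Algebra.Generators.self A B).val : MvPolynomial B A →ₐ[A] B).toLinearMap
      (fun b => ⟨MvPolynomial.X b, MvPolynomial.aeval_X _ _⟩) _ Subtype.val_injective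
      (fun z => ⟨fun h => ⟨⟨z, h⟩, rfl⟩, by rintro ⟨w, rfl⟩; exact w.2⟩) A'
  haveI hq : QuasiIso (NLCx.bcMapSelf A B A' B') := he ▸ e.quasiIso_hom
  refine ⟨hq, fun hamp _ => ?_⟩
  obtain ⟨i⟩ := Groth.Agent.NLLib.nonempty_extCx_iso (B' := B') (Algebra.Generators.self A B).toExtension
  haveI : IsIso (DerivedCategory.Q.map (NLCx.bcMapSelf A B A' B')) :=
    Groth.Agent.DRingLib.isIso_Q_of_qis _ hq
  exact ⟨Groth.Agent.DRingLib.lbcIso (algebraMap B B') _ (Groth.Agent.NLLib.isKFlat_cx hamp) ≪≫
    DerivedCategory.Q.mapIso i ≪≫ asIso (DerivedCategory.Q.map (NLCx.bcMapSelf A B A' B'))⟩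

end Groth.Agent.S7222
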