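import Groth.Statements.S7223
import Groth.Agent.NLLib.BcCompare
import Groth.Agent.NLLib.LCI
import Groth.Agent.CILib.KoszulPres
import Groth.Agent.S9269

set_option autoImplicit false
universe u
open CategoryTheory CategoryTheory.Limits TensorProduct
attribute [local instance] HasDerivedCategory.standard
open FlatMor

namespace Groth.Agent.S7223

open Algebra

set_option maxHeartbeats 1000000

section

variable {R S S' : Type u} [CommRing R] [CommRing S] [CommRing S'] [Algebra R S] [Algebra S S']

/-- The map on `H^{-1}(NL ⊗ S')` of a morphism of presentations. -/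
noncomputable def phi {P Q : Extension.{u} R S} (u : P.Hom Q) : NLCx.bcH1 P S' →ₗ[S'] NLCx.bcH1 Q S' :=
  ((Extension.Cotangent.map u).baseChange S').restrict fun x (hx : x ∈ NLCx.bcH1 P S') => by
    show Q.cotangentComplex.baseChange S' ((Extension.Cotangent.map u).baseChange S' x) = 0
    have key : Q.cotangentComplex.baseChange S' ∘ₗ (Extension.Cotangent.map u).baseChange S' =
        (Extension.CotangentSpace.map u).baseChange S' ∘ₗ P.cotangentComplex.baseChange S' := by
      rw [← LinearMap.baseChange_comp, ← LinearMap.baseChange_comp]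
      congr 1
      exact LinearMap.ext fun y => (Extension.CotangentSpace.map_cotangentComplex u y).symm
    exact (LinearMap.congr_fun key x).trans (by
      rw [LinearMap.comp_apply, show P.cotangentComplex.baseChange S' x = 0 from hx, map_zero])

theorem phi_phi {P Q : Extension.{u} R S} (u : P.Hom Q) (v : Q.Hom P) (x : NLCx.bcH1 P S') :
    phi v (phi u x) = x := by
  refine Subtype.ext ?_
  show (Extension.Cotangent.map v).baseChange S' ((Extension.Cotangent.map u).baseChange S' x.1) = x.1
  have key : (Extension.Cotangent.map v).baseChange S' ∘ₗ (Extension.Cotangent.map u).baseChange S' =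
      ((v.comp u).sub (Extension.Hom.id P)).baseChange S' ∘ₗ P.cotangentComplex.baseChange S' + LinearMap.id := by
    have h := Extension.Cotangent.map_sub_map (v.comp u) (Extension.Hom.id P)
    rw [← LinearMap.baseChange_comp, ← LinearMap.baseChange_comp, ← LinearMap.baseChange_id, ← LinearMap.baseChange_add]
    congr 1
    refine LinearMap.ext fun y => ?_
    have := LinearMap.congr_fun h y
    rw [Extension.Cotangent.map_comp, Extension.Cotangent.map_id] at this
    simp only [LinearMap.sub_apply, LinearMap.comp_apply, LinearMap.id_apply, LinearMap.add_apply,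
      LinearMap.restrictScalars_apply] at this ⊢
    exact sub_eq_iff_eq_add.1 this
  have := LinearMap.congr_fun key x.1
  simp only [LinearMap.comp_apply, LinearMap.add_apply, LinearMap.id_apply] at this
  rw [this, show P.cotangentComplex.baseChange S' x.1 = 0 from x.2, map_zero, zero_add]

variable {R' : Type u} [CommRing R'] [Algebra R' S'] [Algebra R R'] [Algebra R S'] [IsScalarTower R R' S']
  [IsScalarTower R S S']

theorem bcH1Map_factor {P Q : Extension.{u} R S} {P' Q' : Extension.{u} R' S'} (f : P.Hom P') (u : P.Hom Q)
    (s : Q.Hom Q') (w : Q'.Hom P') (x : NLCx.bcH1 P S') :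
    NLCx.bcH1Map f x = Extension.H1Cotangent.map w (NLCx.bcH1Map s (phi u x)) := by
  refine Subtype.ext ?_
  show LinearMap.liftBaseChange S' (Extension.Cotangent.map f) x.1 =
    Extension.Cotangent.map w (LinearMap.liftBaseChange S' (Extension.Cotangent.map s)
      ((Extension.Cotangent.map u).baseChange S' x.1))
  have key : LinearMap.liftBaseChange S' (Extension.Cotangent.map f) =
      LinearMap.liftBaseChange S' (f.sub (w.comp (s.comp u))) ∘ₗ P.cotangentComplex.baseChange S' +
        Extension.Cotangent.map w ∘ₗ LinearMap.liftBaseChange S' (Extension.Cotangent.map s) ∘ₗ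
          (Extension.Cotangent.map u).baseChange S' := by
    ext v
    have h := LinearMap.congr_fun (Extension.Cotangent.map_sub_map f (w.comp (s.comp u))) v
    simp only [LinearMap.sub_apply, LinearMap.comp_apply, Extension.Cotangent.map_comp,
      LinearMap.restrictScalars_apply] at h
    simpa [sub_eq_iff_eq_add] using congrArg Extension.Cotangent.val h
  have := LinearMap.congr_fun key x.1
  simp only [LinearMap.comp_apply, LinearMap.add_apply] at this
  rw [this, show P.cotangentComplex.baseChange S' x.1 = 0 from x.2, map_zero, zero_add]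

end

theorem finite_projective_of_presentation {A B : Type u} [CommRing A] [CommRing B] [Algebra A B] {n : ℕ}
    (G : Generators A B (ULift.{u} (Fin n))) (h : LCI.IsLCI A B) :
    Module.Finite B G.toExtension.Cotangent ∧ Module.Projective B G.toExtension.Cotangent := by
  obtain ⟨-, m, φ, hφ, hK⟩ := h
  refine NLLib.finite_projective_cotangent G.toExtension ?_
  let r := MvPolynomial.renameEquiv A (Equiv.ulift.{u} : ULift.{u} (Fin n) ≃ Fin n)
  let β : MvPolynomial (Fin n) A →ₐ[A] B := (MvPolynomial.aeval G.val).comp r.symm.toAlgHom
  have hβ : Function.Surjective β := fun b => ⟨r (G.σ b), by simp [β]⟩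
  have := CILib.isKoszulRegularIdeal_comap_equiv r.toRingEquiv (Groth.Agent.S9269.result A B m n φ hφ β hβ hK)
  have e : G.toExtension.ker = (RingHom.ker β.toRingHom).comap r.toRingEquiv.toRingHom := by
    ext z
    show algebraMap G.toExtension.Ring B z = 0 ↔ β (r z) = 0
    have h1 : β (r z) = MvPolynomial.aeval G.val z := by simp [β] <;> exact congrArg _ (r.symm_apply_apply z)
    rw [h1]
    exact Iff.of_eq (congrArg (· = 0) (G.algebraMap_apply z))
  exact e ▸ this

/-- Let A → B and A → A' be ring homomorphisms and B' an algebra over A' and over B making the square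
cocartesian, B' = B ⊗_A A'. If A → B and A' → B' are both local complete intersection homomorphisms
(of finite type, with Koszul-regular kernel for a polynomial presentation), then the kernel of the
canonical map H^{-1}(NL_{B/A} ⊗_B B') → H^{-1}(NL_{B'/A'}) (presentations on all elements) is a
finite projective B'-module. -/
theorem result (A B A' B' : Type u) [CommRing A] [CommRing B]
    [CommRing A'] [CommRing B'] [Algebra A B] [Algebra A' B'] [Algebra A A'] [Algebra B B'] [Algebra A B']
    [IsScalarTower A A' B'] [IsScalarTower A B B'] [Algebra.IsPushout A A' B B']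
    (hB : LCI.IsLCI A B) (hB' : LCI.IsLCI A' B') :
    Module.Finite B' (LinearMap.ker (NLCx.bcH1Map
        ((Algebra.Generators.self A B).defaultHom (Algebra.Generators.self A' B')).toExtensionHom)) ∧
      Module.Projective B' (LinearMap.ker (NLCx.bcH1Map
        ((Algebra.Generators.self A B).defaultHom (Algebra.Generators.self A' B')).toExtensionHom)) := by
  obtain ⟨-, n, φ, hφ, -⟩ := id hB
  let v : ULift.{u} (Fin n) → B := fun i => φ (MvPolynomial.X i.down)
  let G : Generators A B (ULift.{u} (Fin n)) := .ofSurjective v fun b => by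
    obtain ⟨p, rfl⟩ := hφ b
    refine ⟨MvPolynomial.rename ULift.up p, ?_⟩
    rw [MvPolynomial.aeval_rename]
    exact (congrArg (fun ψ => ψ p) (MvPolynomial.aeval_unique φ)).symm
  let G' : Generators A' B' (ULift.{u} (Fin n)) := .ofSurjective (fun i => algebraMap B B' (v i)) fun z => by
    induction z using (Algebra.IsPushout.out (R := A) (S := A') (R' := B) (S' := B')).inductionOn with
    | zero => exact ⟨0, map_zero _⟩
    | tmul s =>
      obtain ⟨p, rfl⟩ : ∃ p, MvPolynomial.aeval v p = s := ⟨G.σ s, G.aeval_val_σ s⟩
      refine ⟨MvPolynomial.map (algebraMap A A') p, ?_⟩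
      rw [MvPolynomial.aeval_map_algebraMap]
      exact (MvPolynomial.comp_aeval_apply (f := v) (IsScalarTower.toAlgHom A B B') p).symm
    | smul a z hz =>
      obtain ⟨p, rfl⟩ := hz
      exact ⟨a • p, map_smul _ a p⟩
    | add a b ha hb =>
      obtain ⟨p, rfl⟩ := ha
      obtain ⟨q, rfl⟩ := hb
      exact ⟨p + q, map_add _ p q⟩
  have hG : ∀ i, G'.val i = algebraMap B B' (G.val i) := fun i => rfl
  obtain ⟨_, _⟩ := finite_projective_of_presentation G hB
  obtain ⟨_, _⟩ := finite_projective_of_presentation G' hB'
  let f := ((Generators.self A B).defaultHom (Generators.self A' B')).toExtensionHom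
  let u := ((Generators.self A B).defaultHom G).toExtensionHom
  let v' := (G.defaultHom (Generators.self A B)).toExtensionHom
  let s := (NLCx.sameVarsHom G G' hG).toExtensionHom
  let w := (G'.defaultHom (Generators.self A' B')).toExtensionHom
  let w' := ((Generators.self A' B').defaultHom G').toExtensionHom
  let L := LinearMap.liftBaseChange B' (Extension.Cotangent.map s)
  obtain ⟨g, hg⟩ := Module.projective_lifting_property L LinearMap.id (NLLib.cotangent_surjective hG)
  let pr : B' ⊗[B] G.toExtension.Cotangent →ₗ[B'] LinearMap.ker L :=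
    (LinearMap.id - g ∘ₗ L).codRestrict _ fun x => LinearMap.mem_ker.2 (by
      have := LinearMap.congr_fun hg (L x)
      simp only [LinearMap.comp_apply, LinearMap.id_apply] at this
      simp [this])
  have hpr : pr ∘ₗ (LinearMap.ker L).subtype = LinearMap.id := LinearMap.ext fun x => Subtype.ext (by
    show x.1 - g (L x.1) = x.1
    rw [LinearMap.mem_ker.1 x.2, map_zero, sub_zero])
  have hK1 : Module.Finite B' (LinearMap.ker L) :=
    Module.Finite.of_surjective pr fun x => ⟨x.1, LinearMap.congr_fun hpr x⟩
  have hK2 : Module.Projective B' (LinearMap.ker L) := Module.Projective.of_split _ pr hpr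
  have hmem : ∀ y : B' ⊗[B] G.toExtension.Cotangent, L y = 0 → y ∈ NLCx.bcH1 G.toExtension B' := by
    intro y hy
    refine LinearMap.mem_ker.2 ((NLLib.cotangentSpace_bijective hG).1 ?_)
    rw [map_zero]
    have := congrArg (fun φ => φ.hom y) (NLLib.bc_comm s)
    exact this.symm.trans ((congrArg G'.toExtension.cotangentComplex hy).trans (map_zero _))
  let e : LinearMap.ker (NLCx.bcH1Map f) ≃ₗ[B'] LinearMap.ker L :=
    { toFun := fun x => ⟨(phi u x.1).1, LinearMap.mem_ker.2 (by
        have h1 : Extension.H1Cotangent.map w (NLCx.bcH1Map s (phi u x.1)) = 0 :=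
          (bcH1Map_factor f u s w x.1).symm.trans (LinearMap.mem_ker.1 x.2)
        have h2 := (Extension.H1Cotangent.equiv w w').map_eq_zero_iff.1 h1
        exact congrArg Subtype.val h2)⟩
      map_add' := fun x y => Subtype.ext (by simp)
      map_smul' := fun c x => Subtype.ext (by simp)
      invFun := fun y => ⟨phi v' ⟨y.1, hmem y.1 (LinearMap.mem_ker.1 y.2)⟩, LinearMap.mem_ker.2 (by
        rw [bcH1Map_factor f u s w, phi_phi v' u]
        have : NLCx.bcH1Map s ⟨y.1, hmem y.1 (LinearMap.mem_ker.1 y.2)⟩ = 0 :=
          Subtype.ext (LinearMap.mem_ker.1 y.2)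
        rw [this, map_zero])⟩
      left_inv := fun x => Subtype.ext (phi_phi u v' x.1)
      right_inv := fun y => Subtype.ext (show (phi u (phi v' ⟨y.1, hmem y.1 (LinearMap.mem_ker.1 y.2)⟩)).1 = y.1 from
        congrArg Subtype.val (phi_phi v' u ⟨y.1, hmem y.1 (LinearMap.mem_ker.1 y.2)⟩)) }
  exact ⟨Module.Finite.equiv e.symm, Module.Projective.of_equiv e.symm⟩

end Groth.Agent.S7223
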