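import Groth.Statements.S7225
import Mathlib.RingTheory.Localization.Ideal
import Mathlib.RingTheory.MvPolynomial.Localization

set_option autoImplicit false
universe u
open CategoryTheory CategoryTheory.Limits TensorProduct
attribute [local instance] HasDerivedCategory.standard
open FlatMor

namespace Groth.Agent.S7225

open MvPolynomial Algebra in
set_option backward.isDefEq.respectTransparency false in
/-- Both components of the comparison map are bijective. -/
theorem bijective_components {A A' B : Type u} [CommRing A] [CommRing A'] [CommRing B]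
    [Algebra A A'] (M : Submonoid A) [IsLocalization M A'] [Algebra A' B] [Algebra A B] [IsScalarTower A A' B]
    {ι : Type u} (G : Algebra.Generators A B ι) (G' : Algebra.Generators A' B ι)
    (h : ∀ i, G'.val i = algebraMap B B (G.val i)) :
    Function.Bijective (Extension.Cotangent.map (NLCx.sameVarsHom (S' := B) G G' h).toExtensionHom) ∧
      Function.Bijective (Extension.CotangentSpace.map (NLCx.sameVarsHom (S' := B) G G' h).toExtensionHom) := by
  let f := (NLCx.sameVarsHom (S' := B) G G' h).toExtensionHom
  let φ : MvPolynomial ι A →+* MvPolynomial ι A' := MvPolynomial.map (algebraMap A A')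
  have hφ : ∀ p : MvPolynomial ι A, f.toRingHom p = φ p := fun p => by
    show aeval (fun i => (MvPolynomial.X i : MvPolynomial ι A')) p = MvPolynomial.map (algebraMap A A') p
    induction p using MvPolynomial.induction_on with
    | C a => simp [MvPolynomial.algebraMap_apply]
    | add p q hp hq => simp only [map_add, hp, hq]
    | mul_X p i hp => simp only [map_mul, hp, aeval_X, MvPolynomial.map_X]
  have hev : ∀ p : MvPolynomial ι A, aeval G'.val (φ p) = aeval G.val p := fun p => by
    show aeval G'.val (MvPolynomial.map (algebraMap A A') p) = _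
    rw [MvPolynomial.aeval_map_algebraMap, show G'.val = G.val from funext fun i => h i]
  letI : Algebra (MvPolynomial ι A) (MvPolynomial ι A') := φ.toAlgebra
  haveI hloc : IsLocalization (M.map (C : A →+* MvPolynomial ι A)) (MvPolynomial ι A') := MvPolynomial.isLocalization M A'
  have hu : ∀ m ∈ M, IsUnit (algebraMap A B m) := fun m hm => by
    rw [IsScalarTower.algebraMap_apply A A' B]
    exact (IsLocalization.map_units A' (⟨m, hm⟩ : M)).map _
  have hk : ∀ z : MvPolynomial ι A, z ∈ G.toExtension.ker ↔ aeval G.val z = 0 := fun z => by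
    rw [show G.toExtension.ker = RingHom.ker (aeval G.val : MvPolynomial ι A →ₐ[A] B) from G.ker_eq_ker_aeval_val]
    exact RingHom.mem_ker
  have hk' : ∀ z : MvPolynomial ι A', z ∈ G'.toExtension.ker ↔ aeval G'.val z = 0 := fun z => by
    rw [show G'.toExtension.ker = RingHom.ker (aeval G'.val : MvPolynomial ι A' →ₐ[A'] B) from G'.ker_eq_ker_aeval_val]
    exact RingHom.mem_ker
  refine ⟨⟨?_, fun x => ?_⟩, ?_⟩
  · refine (injective_iff_map_eq_zero _).mpr fun x hx => ?_
    obtain ⟨⟨p, hp⟩, rfl⟩ := Extension.Cotangent.mk_surjective x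
    change MvPolynomial ι A at p
    rw [Extension.Cotangent.map_mk, Extension.Cotangent.mk_eq_zero_iff] at hx
    have hx' : φ p ∈ (RingHom.ker (aeval G'.val : MvPolynomial ι A' →ₐ[A'] B)) ^ 2 := by
      rw [← hφ p, show RingHom.ker (aeval G'.val : MvPolynomial ι A' →ₐ[A'] B) = G'.toExtension.ker from
        G'.ker_eq_ker_aeval_val.symm]
      exact hx
    have hker : RingHom.ker (aeval G'.val : MvPolynomial ι A' →ₐ[A'] B) ≤
        (RingHom.ker (aeval G.val : MvPolynomial ι A →ₐ[A] B)).map φ := by
      intro q hq
      obtain ⟨⟨r, s⟩, hrs⟩ := IsLocalization.surj (M.map (C : A →+* MvPolynomial ι A)) q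
      refine (IsLocalization.mem_map_algebraMap_iff (M.map (C : A →+* MvPolynomial ι A)) (MvPolynomial ι A')).mpr
        ⟨(⟨r, ?_⟩, s), hrs⟩
      rw [RingHom.mem_ker, ← hev, show φ r = q * φ s from hrs.symm, map_mul, RingHom.mem_ker.mp hq, zero_mul]
    have hx2 : φ p ∈ ((RingHom.ker (aeval G.val : MvPolynomial ι A →ₐ[A] B)) ^ 2).map φ := by
      rw [Ideal.map_pow]
      exact Ideal.pow_right_mono hker 2 hx'
    obtain ⟨s, ⟨m, hm, rfl⟩, hsp⟩ := (IsLocalization.algebraMap_mem_map_algebraMap_iff
      (M.map (C : A →+* MvPolynomial ι A)) (MvPolynomial ι A') _ p).mp hx2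
    have h0 : algebraMap A B m • Extension.Cotangent.mk (P := G.toExtension) ⟨p, hp⟩ = 0 := by
      rw [show algebraMap A B m = algebraMap G.Ring B (C m) from
          ((G.algebraMap_apply (C m)).trans (aeval_C G.val m)).symm, algebraMap_smul,
        ← map_smul, Extension.Cotangent.mk_eq_zero_iff]
      show C m * p ∈ G.toExtension.ker ^ 2
      rw [show G.toExtension.ker = RingHom.ker (aeval G.val : MvPolynomial ι A →ₐ[A] B) from G.ker_eq_ker_aeval_val]
      exact hsp
    exact ((hu m hm).smul_eq_zero).mp h0
  · obtain ⟨⟨q, hq⟩, rfl⟩ := Extension.Cotangent.mk_surjective x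
    change MvPolynomial ι A' at q
    obtain ⟨⟨r, ⟨_, m, hm, rfl⟩⟩, hrs⟩ := IsLocalization.surj (M.map (C : A →+* MvPolynomial ι A)) (S := MvPolynomial ι A') q
    have hrs' : q * φ (C m) = φ r := hrs
    have hr : aeval G.val r = 0 := by
      rw [← hev, ← hrs', map_mul]
      exact mul_eq_zero_of_left ((hk' q).mp hq) _
    obtain ⟨v, hv⟩ := hu m hm
    refine ⟨(↑v⁻¹ : B) • Extension.Cotangent.mk (P := G.toExtension) ⟨r, (hk r).mpr hr⟩, ?_⟩
    rw [map_smul, Extension.Cotangent.map_mk]
    have h1 : Extension.Cotangent.mk (P := G'.toExtension) ⟨f.toAlgHom r, by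
        refine (hk' _).mpr ?_
        show aeval G'.val (f.toRingHom r) = 0
        rw [hφ, hev]; exact hr⟩ = (↑v : B) • Extension.Cotangent.mk (P := G'.toExtension) ⟨q, hq⟩ := by
      rw [hv, show algebraMap A B m = algebraMap G'.Ring B (φ (C m)) from
        (((G'.algebraMap_apply _).trans (hev (C m))).trans (aeval_C G.val m)).symm, algebraMap_smul, ← map_smul]
      congr 1
      refine Subtype.ext ?_
      show f.toRingHom r = φ (C m) * q
      rw [hφ, ← hrs', mul_comm]
    exact (congrArg ((↑v⁻¹ : B) • ·) h1).trans (by show (↑v⁻¹ : B) • ((↑v : B) • _) = _; rw [smul_smul, Units.inv_mul, one_smul])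
  · have he : Extension.CotangentSpace.map f = (G.cotangentSpaceBasis.equiv G'.cotangentSpaceBasis (Equiv.refl ι)).toLinearMap := by
      refine G.cotangentSpaceBasis.ext fun i => ?_
      rw [LinearEquiv.coe_coe, Module.Basis.equiv_apply, Generators.cotangentSpaceBasis_apply,
        Generators.cotangentSpaceBasis_apply]
      refine (Extension.CotangentSpace.map_tmul (P := G.toExtension) f _ _).trans ?_
      rw [map_one]
      congr 2
      show f.toRingHom (MvPolynomial.X i) = _
      rw [hφ]
      exact MvPolynomial.map_X _ _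
    show Function.Bijective (Extension.CotangentSpace.map f)
    rw [he]
    exact LinearEquiv.bijective _

/-- Let A be a ring, M a submonoid of A, A' a localization of A at M and B an A'-algebra, viewed also as
an A-algebra. Let G be a presentation of B over A by a polynomial algebra and G' the presentation of
B over A' with the same generators (G'(i) = G(i), written through the identity algebra map of B).
Then the canonical chain map NL(G) → NL(G') from the naive cotangent complex of the presentation
over A to that of the presentation over A' is an isomorphism of complexes (so that NL_{B/A} →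
NL_{B/A'} is a homotopy equivalence). -/
theorem result (A A' B : Type u) [CommRing A] [CommRing A'] [CommRing B]
    [Algebra A A'] (M : Submonoid A) [IsLocalization M A'] [Algebra A' B] [Algebra A B] [IsScalarTower A A' B]
    {ι : Type u} (G : Algebra.Generators A B ι) (G' : Algebra.Generators A' B ι) (h : ∀ i, G'.val i = algebraMap B B (G.val i)) :
    IsIso (NLCx.map (NLCx.sameVarsHom (S' := B) G G' h).toExtensionHom) := by
  obtain ⟨h1, h2⟩ := bijective_components M G G' h
  haveI i1 : IsIso (ModuleCat.ofHom (Algebra.Extension.Cotangent.map (NLCx.sameVarsHom (S' := B) G G' h).toExtensionHom)) :=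
    (ConcreteCategory.isIso_iff_bijective _).mpr h1
  haveI i2 : IsIso (ModuleCat.ofHom (Algebra.Extension.CotangentSpace.map (NLCx.sameVarsHom (S' := B) G G' h).toExtensionHom)) :=
    (ConcreteCategory.isIso_iff_bijective _).mpr h2
  haveI : ∀ k, IsIso ((NLCx.map (NLCx.sameVarsHom (S' := B) G G' h).toExtensionHom).f k) := fun k => by
    by_cases hk1 : k = -1
    · subst hk1
      show IsIso ((HomologicalComplex.mkHomFromDouble _ _ _ _ _ _).f (-1 : ℤ))
      erw [HomologicalComplex.mkHomFromDouble_f₀]
      exact @IsIso.comp_isIso _ _ _ _ _ _ _ (Iso.isIso_hom _) (@IsIso.comp_isIso _ _ _ _ _ _ _ i1 (Iso.isIso_inv _))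
    · by_cases hk0 : k = 0
      · subst hk0
        show IsIso ((HomologicalComplex.mkHomFromDouble _ _ _ _ _ _).f (0 : ℤ))
        erw [HomologicalComplex.mkHomFromDouble_f₁]
        exact @IsIso.comp_isIso _ _ _ _ _ _ _ (Iso.isIso_hom _) (@IsIso.comp_isIso _ _ _ _ _ _ _ i2 (Iso.isIso_inv _))
      · exact ⟨0, (HomologicalComplex.isZero_double_X _ _ k hk1 hk0).eq_of_src _ _,
          (HomologicalComplex.isZero_double_X _ _ k hk1 hk0).eq_of_src _ _⟩
  exact HomologicalComplex.Hom.isIso_of_components _

end Groth.Agent.S7225
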