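import Groth.Statements.S7227
import Groth.Agent.RelPCLib.FppfDescent

set_option autoImplicit false
universe u
open CategoryTheory CategoryTheory.Limits AlgebraicGeometry Opposite TopologicalSpace
attribute [local instance] HasDerivedCategory.standard
open FlatMor

set_option backward.isDefEq.respectTransparency false

namespace Groth.Agent.S7227

open Groth.Agent.RelPCLib Groth.Agent.DCohLib

/-- Let p : X ⟶ S be locally of finite type and let (g_i : X_i ⟶ X) be an fppf covering: every g_i is
flat and locally of finite presentation and the g_i are jointly surjective. Let E be an object of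
D(O_X) with quasi-coherent cohomology sheaves and m an integer. Then, the derived pullbacks Lg_i^*
being assumed to exist, E is m-pseudo-coherent relative to p if and only if for every i the object
Lg_i^* E is m-pseudo-coherent relative to g_i ≫ p : X_i ⟶ S (chart form). -/
theorem result {X S : Scheme.{u}} (p : X ⟶ S)
    [LocallyOfFiniteType p] {ι : Type u} (Xi : ι → Scheme.{u}) (g : ∀ i, Xi i ⟶ X) [∀ i, Flat (g i)]
    [∀ i, LocallyOfFinitePresentation (g i)] (hcov : ∀ x : X, ∃ (i : ι) (y : Xi i), (g i).base y = x)
    [∀ i, DCoh.HasLpull (g i)] (m : ℤ) (E : DCoh.D X) (hE : DCoh.IsQCohD E) :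
    DerSch.IsPseudoCoherentRel p m E ↔
      ∀ i, DerSch.IsPseudoCoherentRel (g i ≫ p) m ((DCoh.Lpull (g i)).obj E) := by
  constructor
  · intro h i
    obtain ⟨e⟩ := nonempty_lpull_pullD (g i) E
    exact rel_of_iso _ e.symm (rel_pullD_of_flat p (g i) hE h)
  · intro h
    refine rel_of_fppf_cover p g (fun x => ?_) hE fun i => ?_
    · obtain ⟨i, y, hy⟩ := hcov x
      exact ⟨i, y, hy⟩
    · obtain ⟨e⟩ := nonempty_lpull_pullD (g i) E
      exact rel_of_iso _ e (h i)

end Groth.Agent.S7227
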