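import Groth.Statements.S7230
import Groth.Agent.TwistShriek.PerfTest
import Groth.Agent.RelPCLib.SmoothPush
import Groth.Agent.DCohMore.RelTorLoc
-- import your own Groth.Agent.* helpers here

set_option autoImplicit false
set_option backward.isDefEq.respectTransparency false
set_option maxHeartbeats 800000
set_option synthInstance.maxHeartbeats 200000
universe u
open CategoryTheory CategoryTheory.Limits AlgebraicGeometry Opposite TopologicalSpace
attribute [local instance] HasDerivedCategory.standard
open FlatMor

namespace Groth.Agent.S7230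

/-- Let A be a ring and X a scheme separated, of finite presentation and flat over A, with structure
morphism π : X ⟶ Spec A. Let K be a cochain complex of O_X-modules whose class in D(O_X) has
quasi-coherent cohomology sheaves. Assume, the functors Rπ_* and - ⊗^L K being taken to exist, that
for every perfect object E of D(O_X) the object Rπ_*(E ⊗^L K) of D(O_{Spec A}) is perfect. Then K is
perfect relative to Spec A: its class is pseudo-coherent on X in the absolute sense
(m-pseudo-coherent for every m) and, locally on X, every representing complex has finite tor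
amplitude stalkwise over the local rings of Spec A. (The published statement asks RΓ(X, E ⊗^L K) to
be perfect in D(A); on Spec A the two formulations correspond under the equivalence of D(A) with the
quasi-coherent derived category.) -/
theorem result (A : Type u) [CommRing A]
    {X : Scheme.{u}} (π : X ⟶ Spec (CommRingCat.of A)) [IsSeparated π] [QuasiCompact π]
    [LocallyOfFinitePresentation π] [Flat π] [DCoh.HasRpush π] (K : CochainComplex X.Modules ℤ)
    [DCoh.HasLTensorCx K] (hK : DCoh.IsQCohD (DCoh.toD X K))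
    (h : ∀ E : DCoh.D X, DCoh.IsPerfect E → DCoh.IsPerfect ((DCoh.Rpush π).obj ((DCoh.LTensorCx K).obj E))) :
    (∀ m : ℤ, DCoh.IsPseudoCoherentD m (DCoh.toD X K)) ∧ DerSch.LocFiniteTorAmplitudeD π (DCoh.toD X K) := by
    let K' := (DCohLib.resX X).obj K
    haveI := DCohLib.isIso_Q_resXπ K
    let eK : DerivedCategory.Q.obj K' ≅ DerivedCategory.Q.obj K :=
      asIso (DerivedCategory.Q.map ((DCohLib.resXπ X).app K))
    obtain ⟨t⟩ := DCohLib.nonempty_lTensor_of_iso (E := K) (E' := K') eK
    have hE' : ∀ (E : CochainComplex X.Modules ℤ), DCoh.IsKFlat E → DCoh.IsPerfect (DerivedCategory.Q.obj E) →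
        DCoh.IsPerfect ((DCoh.Rpush π).obj ((DCoh.LTensorCx E).obj (DerivedCategory.Q.obj K))) := fun E hE hEp => by
      obtain ⟨s⟩ := TwistShriek.nonempty_lTensor_swap K' E (DCohLib.isKFlat_resX _) hE
      exact DCohLib.isPerfect_iso ((DCoh.Rpush π).mapIso
        ((t.app _).symm ≪≫ s ≪≫ (DCoh.LTensorCx E).mapIso eK)) (h _ hEp)
    refine ⟨fun m => ?_, fun F hF x => ?_⟩
    · have hr := TwistShriek.rel_of_perfect_test A π _ hK
        (fun E hE hEp k => ((DCohLib.isPerfect_iff_pc _).1 (hE' E hE hEp)).1 k) m
      have hp : ∀ (V : X.Opens) (W : (Spec (CommRingCat.of A)).Opens) (h : V ≤ π ⁻¹ᵁ W), IsAffineOpen V →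
          IsAffineOpen W → PCHomLib.PCHom (π.appLE W V h).hom :=
        fun V W hle hV hW => RelPCLib.pcHom_appLE_of_flat π hV hW hle
      exact (RelPCLib.rel_id_iff m _).1 ((RelPCLib.rel_comp_iff π (𝟙 X) hp m _).2
        (by rw [Category.id_comp]; exact hr))
    · obtain ⟨eF⟩ := hF
      obtain ⟨W, hx, Q, i, hi, g, hg, hig, hp⟩ := TwistShriek.exists_perfect_chart A π _ hK hE' x
      have hQ : DCoh.IsPerfect (DCoh.toD Q (((Scheme.Modules.pushforward i).mapHomologicalComplex
          (ComplexShape.up ℤ)).obj ((DCohLib.resCx W.ι).obj F))) :=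
        DCohLib.isPerfect_iso ((RelPCLib.pushD i).mapIso
          ((DCoh.restrictD W.ι).mapIso eF.symm ≪≫ DCohLib.restrictDQ W.ι F) ≪≫ RelPCLib.pushDQ i _) hp
      have hl := RelPCLib.locFiniteTorAmplitude_of_pushforward i g _ ((DCohLib.isPerfect_iff_pc _).1 hQ).2
      rw [hig] at hl
      obtain ⟨V, a, b, hV, hVt⟩ := hl ⟨x, hx⟩
      refine ⟨W.ι ''ᵁ V, a, b, ⟨⟨x, hx⟩, hV, rfl⟩, ?_⟩
      rintro _ ⟨y, hy, rfl⟩
      exact (DCohMore.hasTorAmplitudeAt_restrict_iff W.ι π y F a b).1 (hVt y hy)

end Groth.Agent.S7230
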