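import Groth.Statements.S7237
import Mathlib

set_option autoImplicit false
universe u
open TensorProduct
open FlatMor

namespace Groth.Agent.S7237

/-- Let A be a ring and M a finitely generated A-module, and let C = Sym_A(M) be the symmetric algebra
of M with its canonical A-linear map ι : M → C. Then Ω_{C/A} = M ⊗_A C: the C-linear map C ⊗_A M →
Ω_{C/A} obtained by extending scalars in the A-linear map m ↦ d(ι m), d being the universal
A-derivation of C, is bijective. (The published lemma also computes the whole naive cotangent
complex of the presentation of C attached to a surjection A^m → M with kernel K, namely as K ⊗_A C →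
⊕_j C dy_j; only its consequence for Ω is asserted here.) -/
theorem result (A : Type u) [CommRing A] (M : Type u)
    [AddCommGroup M] [Module A M] [Module.Finite A M] :
    Function.Bijective (LinearMap.liftBaseChange (SymmetricAlgebra A M)
      ((KaehlerDifferential.D A (SymmetricAlgebra A M)).toLinearMap.restrictScalars A ∘ₗ SymmetricAlgebra.ι A M)) := by
  classical
  set C := SymmetricAlgebra A M
  haveI : IsCentralScalar C (C ⊗[A] M) := ⟨fun a m => by
    induction m with
    | zero => rw [smul_zero, smul_zero]
    | add x y hx hy => rw [smul_add, smul_add, hx, hy]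
    | tmul x y => rw [TensorProduct.smul_tmul', TensorProduct.smul_tmul', op_smul_eq_smul]⟩
  let l : M →ₗ[A] TrivSqZeroExt C (C ⊗[A] M) :=
    { toFun := fun m => TrivSqZeroExt.inl (SymmetricAlgebra.ι A M m) + TrivSqZeroExt.inr ((1 : C) ⊗ₜ[A] m)
      map_add' := fun m m' => by ext <;> simp [tmul_add]
      map_smul' := fun r m => by ext <;> simp [tmul_smul] }
  let L : C →ₐ[A] TrivSqZeroExt C (C ⊗[A] M) := SymmetricAlgebra.lift l
  have hL : ∀ m, L (SymmetricAlgebra.ι A M m) = l m := fun m => SymmetricAlgebra.lift_ι_apply l m
  have hfst : ∀ c, (L c).fst = c := fun c => by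
    induction c using SymmetricAlgebra.induction with
    | algebraMap r => rw [AlgHom.commutes, TrivSqZeroExt.algebraMap_eq_inl', TrivSqZeroExt.fst_inl]
    | ι m => rw [hL]; simp [l]
    | mul a b ha hb => rw [map_mul, TrivSqZeroExt.fst_mul, ha, hb]
    | add a b ha hb => rw [map_add, TrivSqZeroExt.fst_add, ha, hb]
  let D' : Derivation A C (C ⊗[A] M) := Derivation.mk'
    ((TrivSqZeroExt.sndHom C (C ⊗[A] M)).restrictScalars A ∘ₗ L.toLinearMap) fun a b => by
      show (L (a * b)).snd = a • (L b).snd + b • (L a).snd
      rw [map_mul, TrivSqZeroExt.snd_mul, hfst, hfst, op_smul_eq_smul]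
  let g := D'.liftKaehlerDifferential
  set f := LinearMap.liftBaseChange C
    ((KaehlerDifferential.D A C).toLinearMap.restrictScalars A ∘ₗ SymmetricAlgebra.ι A M)
  have hD : ∀ m, D' (SymmetricAlgebra.ι A M m) = (1 : C) ⊗ₜ[A] m := fun m => by
    show (L (SymmetricAlgebra.ι A M m)).snd = _
    rw [hL]
    simp [l]
  have hgf : ∀ x, g (f x) = x := fun x => by
    induction x with
    | zero => simp
    | add a b ha hb => rw [map_add, map_add, ha, hb]
    | tmul a m =>
      rw [LinearMap.liftBaseChange_tmul, map_smul]
      show a • g (KaehlerDifferential.D A C (SymmetricAlgebra.ι A M m)) = _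
      rw [Derivation.liftKaehlerDifferential_comp_D, hD, TensorProduct.smul_tmul', smul_eq_mul, mul_one]
  have hc : ∀ c, f (D' c) = KaehlerDifferential.D A C c := fun c => by
    induction c using SymmetricAlgebra.induction with
    | algebraMap r => rw [Derivation.map_algebraMap, Derivation.map_algebraMap, map_zero]
    | ι m => rw [hD, LinearMap.liftBaseChange_tmul, one_smul]; rfl
    | mul a b ha hb => rw [Derivation.leibniz, map_add, map_smul, map_smul, ha, hb, Derivation.leibniz]
    | add a b ha hb => rw [map_add, map_add, ha, hb, map_add]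
  have hfg : f ∘ₗ g = LinearMap.id := Derivation.liftKaehlerDifferential_unique _ _ (Derivation.ext fun c => by
    show f (g (KaehlerDifferential.D A C c)) = KaehlerDifferential.D A C c
    rw [Derivation.liftKaehlerDifferential_comp_D, hc])
  exact ⟨Function.LeftInverse.injective hgf, fun y => ⟨g y, LinearMap.congr_fun hfg y⟩⟩

end Groth.Agent.S7237
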