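import Mathlib
import Groth.Agent.MatchLib.Core
import Groth.Agent.MatchLib.Geometry
import Groth.Statements.S7238

set_option autoImplicit false
universe u
open FlatMor Groth.Agent TensorProduct
set_option maxHeartbeats 1000000
set_option backward.isDefEq.respectTransparency false

namespace Groth.Agent.S7238

open AlgebraicGeometry CategoryTheory Limits IsLocalRing in
/-- Let S be a locally Noetherian scheme and T a scheme of finite type over ℤ; let p : X ⟶ S and q : Y ⟶
T be locally of finite type; let x ∈ X with image s ∈ S such that O_{S,s} is a G-ring, and y ∈ Y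
with image t ∈ T. Let σ : O_{T,t} → O_{S,s}^∧ be a local homomorphism into the completion, let Y_σ =
Y ×_T Spec(O_{S,s}^∧) be the base change of q along Spec(O_{S,s}^∧) → Spec(O_{T,t}) → T, let y_σ ∈
Y_σ be a point lying over y and over the closed point of Spec(O_{S,s}^∧), and let φ : O_{X,x}^∧ ≅
O_{Y_σ,y_σ}^∧ be an isomorphism of completed local rings compatible with the two O_{S,s}-algebra
structures. Then there are: an elementary étale neighbourhood e : (V, v) ⟶ (S, s) (étale, v ↦ s,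
trivial residue field extension) together with τ : V ⟶ T with τ(v) = t; an elementary étale
neighbourhood a : (W, w) ⟶ (X, x); and a morphism b : W ⟶ Y ×_{T,τ} V with W ⟶ X ⟶ S equal to W ⟶ Y
×_T V ⟶ V ⟶ S, such that b is étale and b(w) lies over y and over v with trivial residue field
extension. (The published statement says more precisely that (W, w) is an elementary étale
neighbourhood of the point y_τ of Y ×_T V corresponding to y_σ under the identification of the fibre
of Y_σ over the closed point with the fibre of Y ×_T V over v; that identification is not expressed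
here, only that b(w) lies over y and v.) -/
theorem result {X Y S T : Scheme.{u}} [IsLocallyNoetherian S]
    (p : X ⟶ S) (q : Y ⟶ T) [LocallyOfFiniteType p] [LocallyOfFiniteType q]
    [LocallyOfFiniteType (specULiftZIsTerminal.from T)] [CompactSpace T]
    (x : X) (hG : CAlg.IsGRing ↑(S.presheaf.stalk (p x))) (y : Y)
    (σ : ↑(T.presheaf.stalk (q y)) →+*
      AdicCompletion (maximalIdeal ↑(S.presheaf.stalk (p x))) ↑(S.presheaf.stalk (p x)))
    [IsLocalHom σ]
    (yσ : ↑(pullback q (Spec.map (CommRingCat.ofHom σ) ≫ T.fromSpecStalk (q y))))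
    (hyσ : (pullback.fst q (Spec.map (CommRingCat.ofHom σ) ≫ T.fromSpecStalk (q y))) yσ = y)
    (hyσc : (pullback.snd q (Spec.map (CommRingCat.ofHom σ) ≫ T.fromSpecStalk (q y))) yσ =
      closedPoint (AdicCompletion (maximalIdeal ↑(S.presheaf.stalk (p x))) ↑(S.presheaf.stalk (p x))))
    (φ : AdicCompletion (maximalIdeal ↑(X.presheaf.stalk x)) ↑(X.presheaf.stalk x) ≃+*
      AdicCompletion (maximalIdeal ↑((pullback q (Spec.map (CommRingCat.ofHom σ) ≫ T.fromSpecStalk (q y))).presheaf.stalk yσ))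
        ↑((pullback q (Spec.map (CommRingCat.ofHom σ) ≫ T.fromSpecStalk (q y))).presheaf.stalk yσ))
    (hφ : φ.toRingHom.comp ((algebraMap ↑(X.presheaf.stalk x)
        (AdicCompletion (maximalIdeal ↑(X.presheaf.stalk x)) ↑(X.presheaf.stalk x))).comp (p.stalkMap x).hom) =
      ((algebraMap _ (AdicCompletion (maximalIdeal
          ↑((pullback q (Spec.map (CommRingCat.ofHom σ) ≫ T.fromSpecStalk (q y))).presheaf.stalk yσ)) _)).comp
        ((pullback.snd q (Spec.map (CommRingCat.ofHom σ) ≫ T.fromSpecStalk (q y))).stalkMap yσ).hom).comp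
        ((((Spec (CommRingCat.of (AdicCompletion (maximalIdeal ↑(S.presheaf.stalk (p x))) ↑(S.presheaf.stalk (p x))))).presheaf.germ
            ⊤ ((pullback.snd q (Spec.map (CommRingCat.ofHom σ) ≫ T.fromSpecStalk (q y))) yσ) trivial).hom.comp
          ((Scheme.ΓSpecIso (CommRingCat.of (AdicCompletion (maximalIdeal ↑(S.presheaf.stalk (p x)))
            ↑(S.presheaf.stalk (p x))))).inv.hom.comp
            (algebraMap ↑(S.presheaf.stalk (p x))
              (AdicCompletion (maximalIdeal ↑(S.presheaf.stalk (p x))) ↑(S.presheaf.stalk (p x)))))))) :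
    ∃ (V : Scheme.{u}) (v : V) (e : V ⟶ S) (τ : V ⟶ T) (W : Scheme.{u}) (w : W) (a : W ⟶ X)
      (b : W ⟶ pullback q τ),
      Etale e ∧ e v = p x ∧ Function.Bijective (e.residueFieldMap v) ∧ τ v = q y ∧
      Etale a ∧ a w = x ∧ Function.Bijective (a.residueFieldMap w) ∧
      a ≫ p = b ≫ pullback.snd q τ ≫ e ∧
      Etale b ∧ (pullback.fst q τ) (b w) = y ∧ (pullback.snd q τ) (b w) = v ∧
      Function.Bijective (b.residueFieldMap w) := by
  classical
  obtain ⟨_, ⟨WS, hWS, rfl⟩, hsW, -⟩ :=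
    S.isBasis_affineOpens.exists_subset_of_mem_open (Set.mem_univ (p x)) isOpen_univ
  obtain ⟨_, ⟨VX, hVX, rfl⟩, hxV, hVW⟩ :=
    X.isBasis_affineOpens.exists_subset_of_mem_open (a := x) (u := ↑(p ⁻¹ᵁ WS)) hsW (p ⁻¹ᵁ WS).2
  obtain ⟨_, ⟨U, hU, rfl⟩, htU, -⟩ :=
    T.isBasis_affineOpens.exists_subset_of_mem_open (Set.mem_univ (q y)) isOpen_univ
  obtain ⟨_, ⟨VY, hVY, rfl⟩, hyV, hVU⟩ :=
    Y.isBasis_affineOpens.exists_subset_of_mem_open (a := y) (u := ↑(q ⁻¹ᵁ U)) htU (q ⁻¹ᵁ U).2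
  haveI : IsNoetherianRing Γ(S, WS) := IsLocallyNoetherian.component_noetherian ⟨WS, hWS⟩
  have hftC := p.finiteType_appLE hWS hVX hVW
  have hftB := q.finiteType_appLE hU hVY hVU
  haveI : Algebra.FiniteType ℤ Γ(T, U) := by
    have h := (specULiftZIsTerminal.from T).finiteType_appLE
      (isAffineOpen_top (Spec (CommRingCat.of (ULift.{u} ℤ)))) hU le_top
    let e : ℤ ≃+* Γ(Spec (CommRingCat.of (ULift.{u} ℤ)), ⊤) :=
      (ULift.ringEquiv (R := ℤ)).symm.trans (Scheme.ΓSpecIso (CommRingCat.of (ULift.{u} ℤ))).symm.commRingCatIsoToRingEquiv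
    have h' := RingHom.FiniteType.comp h (RingHom.FiniteType.of_surjective e.toRingHom e.surjective)
    rw [RingHom.ext_int (((specULiftZIsTerminal.from T).appLE ⊤ U le_top).hom.comp e.toRingHom) (algebraMap ℤ Γ(T, U))] at h'
    exact RingHom.finiteType_algebraMap.mp h'
  letI : Algebra Γ(S, WS) Γ(X, VX) := (p.appLE WS VX hVW).hom.toAlgebra
  letI : Algebra Γ(T, U) Γ(Y, VY) := (q.appLE U VY hVU).hom.toAlgebra
  haveI : Algebra.FiniteType Γ(S, WS) Γ(X, VX) := hftC
  haveI : Algebra.FiniteType Γ(T, U) Γ(Y, VY) := hftB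
  letI : Algebra Γ(S, WS) (S.presheaf.stalk (p x)) := TopCat.Presheaf.algebra_section_stalk S.presheaf ⟨p x, hsW⟩
  letI : Algebra Γ(X, VX) (X.presheaf.stalk x) := TopCat.Presheaf.algebra_section_stalk X.presheaf ⟨x, hxV⟩
  haveI : IsLocalization.AtPrime (S.presheaf.stalk (p x)) (hWS.primeIdealOf ⟨p x, hsW⟩).asIdeal :=
    hWS.isLocalization_stalk ⟨p x, hsW⟩
  haveI : IsLocalization.AtPrime (X.presheaf.stalk x) (hVX.primeIdealOf ⟨x, hxV⟩).asIdeal :=
    hVX.isLocalization_stalk ⟨x, hxV⟩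
  haveI := hG.1
  letI algΛ : Algebra Γ(T, U) (AdicCompletion (maximalIdeal ↑(S.presheaf.stalk (p x))) ↑(S.presheaf.stalk (p x))) :=
    (σ.comp (T.presheaf.germ U (q y) htU).hom).toAlgebra
  have hg : Spec.map (CommRingCat.ofHom σ) ≫ T.fromSpecStalk (q y) =
      Spec.map (CommRingCat.ofHom (algebraMap Γ(T, U)
        (AdicCompletion (maximalIdeal ↑(S.presheaf.stalk (p x))) ↑(S.presheaf.stalk (p x))))) ≫ hU.fromSpec := by
    rw [← hU.fromSpecStalk_eq_fromSpecStalk htU, IsAffineOpen.fromSpecStalk, ← Spec.map_comp_assoc]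
    rfl
  have hyσV : (pullback.fst q (Spec.map (CommRingCat.ofHom σ) ≫ T.fromSpecStalk (q y))) yσ ∈ VY := hyσ.symm ▸ hyV
  obtain ⟨Q, hQ, algA', hloc', hQc, hQb, hcompat⟩ := MatchLib.exists_point_data q hU hVY hVU _ hg yσ hyσV
  haveI := hQ
  letI := algA'
  haveI := hloc'
  have hP0 : (hVX.primeIdealOf ⟨x, hxV⟩).asIdeal.comap (algebraMap Γ(S, WS) Γ(X, VX)) =
      (hWS.primeIdealOf ⟨p x, hsW⟩).asIdeal :=
    congrArg PrimeSpectrum.asIdeal (IsAffineOpen.comap_primeIdealOf_appLE (f := p) WS hWS VX hVX hVW hxV)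
  obtain ⟨R', _, _, _, p', hp', hR', hcomap, hres, hτ, W, _, gC, gB, w, hw, hgC, hgB, hgR, hwC, hwB, hwR, hresC, hresB⟩ :=
    MatchLib.exists_matching (R := Γ(S, WS)) (C0 := Γ(X, VX)) (A0 := Γ(T, U)) (B0 := Γ(Y, VY))
      (hWS.primeIdealOf ⟨p x, hsW⟩).asIdeal (A := S.presheaf.stalk (p x)) hG
      (hVX.primeIdealOf ⟨x, hxV⟩).asIdeal hP0 (Ax := X.presheaf.stalk x) Q
      (by rw [hQc, hyσc, ← AdicCompletion.maximalIdeal_eq_map]; rfl) φ.symm
      (fun r => by
        apply φ.injective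
        rw [φ.apply_symm_apply, hcompat]
        have hx : algebraMap Γ(X, VX) (X.presheaf.stalk x) (algebraMap Γ(S, WS) Γ(X, VX) r) =
            p.stalkMap x (S.presheaf.germ WS (p x) hsW r) := by
          show X.presheaf.germ VX x hxV (p.appLE WS VX hVW r) = _
          rw [Scheme.Hom.germ_stalkMap_apply, Scheme.Hom.appLE, CommRingCat.comp_apply, TopCat.Presheaf.germ_res_apply]
        rw [hx]
        exact (RingHom.congr_fun hφ (S.presheaf.germ WS (p x) hsW r)).symm)
  haveI := hR'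
  haveI := hp'
  haveI := hw
  haveI : IsOpenImmersion hWS.fromSpec := hWS.isOpenImmersion_fromSpec
  haveI : IsOpenImmersion hVX.fromSpec := hVX.isOpenImmersion_fromSpec
  let v : Spec (CommRingCat.of R') := ⟨p', hp'⟩
  let w' : Spec (CommRingCat.of W) := ⟨w, hw⟩
  obtain ⟨j, hj, hfst, hsnd, -⟩ := MatchLib.exists_chart q hU hVY hVU (X := R')
  haveI := hj
  let e₀ : Spec (CommRingCat.of R') ⟶ Spec Γ(S, WS) := Spec.map (CommRingCat.ofHom (algebraMap Γ(S, WS) R'))
  let a₀ : Spec (CommRingCat.of W) ⟶ Spec Γ(X, VX) := Spec.map (CommRingCat.ofHom gC)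
  let b₀ : Spec (CommRingCat.of W) ⟶ Spec (CommRingCat.of (R' ⊗[Γ(T, U)] Γ(Y, VY))) :=
    Spec.map (CommRingCat.ofHom gB)
  haveI : Etale e₀ := by
    rw [HasRingHomProperty.Spec_iff (P := @Etale)]
    exact RingHom.etale_algebraMap.mpr inferInstance
  haveI : Etale a₀ := by rw [HasRingHomProperty.Spec_iff (P := @Etale)]; exact hgC
  haveI : Etale b₀ := by rw [HasRingHomProperty.Spec_iff (P := @Etale)]; exact hgB
  have hev : (e₀ ≫ hWS.fromSpec) v = p x := by
    have h1 : e₀ v = hWS.primeIdealOf ⟨p x, hsW⟩ := PrimeSpectrum.ext hcomap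
    rw [Scheme.Hom.comp_apply, h1]
    exact hWS.fromSpec_primeIdealOf _
  have haw : (a₀ ≫ hVX.fromSpec) w' = x := by
    have h1 : a₀ w' = hVX.primeIdealOf ⟨x, hxV⟩ := PrimeSpectrum.ext hwC
    rw [Scheme.Hom.comp_apply, h1]
    exact hVX.fromSpec_primeIdealOf _
  refine ⟨Spec (CommRingCat.of R'), v, e₀ ≫ hWS.fromSpec,
    Spec.map (CommRingCat.ofHom (algebraMap Γ(T, U) R')) ≫ hU.fromSpec,
    Spec (CommRingCat.of W), w', a₀ ≫ hVX.fromSpec, b₀ ≫ j, inferInstance, hev, ?_, ?_, inferInstance, haw, ?_, ?_,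
    inferInstance, ?_, ?_, ?_⟩
  · refine MatchLib.bijective_residueFieldMap_comp e₀ _ v (MatchLib.bijective_residueFieldMap_Spec _ v fun z => ?_)
    obtain ⟨r, s, hs, h⟩ := hres z
    exact ⟨r, s, fun h' => hs (hcomap.le (Ideal.mem_comap.2 h')), h⟩
  · rw [Scheme.Hom.comp_apply]
    have h1 : (Spec.map (CommRingCat.ofHom (algebraMap Γ(T, U) R'))) v = hU.primeIdealOf ⟨q y, htU⟩ := by
      refine PrimeSpectrum.ext (Ideal.ext fun a => ?_)
      show algebraMap Γ(T, U) R' a ∈ p' ↔ _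
      rw [hτ, ← AdicCompletion.maximalIdeal_eq_map]
      show σ (T.presheaf.germ U (q y) htU a) ∈ _ ↔ _
      letI := TopCat.Presheaf.algebra_section_stalk T.presheaf ⟨q y, htU⟩
      haveI : IsLocalization.AtPrime (T.presheaf.stalk (q y)) (hU.primeIdealOf ⟨q y, htU⟩).asIdeal :=
        hU.isLocalization_stalk ⟨q y, htU⟩
      rw [← IsLocalization.AtPrime.to_map_mem_maximal_iff (T.presheaf.stalk (q y)) (hU.primeIdealOf ⟨q y, htU⟩).asIdeal a,
        mem_maximalIdeal, mem_maximalIdeal, mem_nonunits_iff, mem_nonunits_iff, isUnit_map_iff σ]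
      rfl
    rw [h1]
    exact hU.fromSpec_primeIdealOf _
  · exact MatchLib.bijective_residueFieldMap_comp a₀ _ w' (MatchLib.bijective_residueFieldMap_Spec _ w' hresC)
  · rw [Category.assoc, ← IsAffineOpen.SpecMap_appLE_fromSpec p hWS hVX hVW, Category.assoc, reassoc_of% hsnd,
      ← Spec.map_comp_assoc, ← Spec.map_comp_assoc, ← Spec.map_comp_assoc]
    congr 2
    exact CommRingCat.hom_ext (RingHom.ext hgR)
  · rw [← Scheme.Hom.comp_apply, Category.assoc, hfst, ← Category.assoc, Scheme.Hom.comp_apply]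
    have h1 : (b₀ ≫ Spec.map (CommRingCat.ofHom (Algebra.TensorProduct.includeRight :
        Γ(Y, VY) →ₐ[Γ(T, U)] R' ⊗[Γ(T, U)] Γ(Y, VY)).toRingHom)) w' = hVY.primeIdealOf ⟨y, hyV⟩ := by
      refine PrimeSpectrum.ext (Ideal.ext fun b => ?_)
      refine ((hwB b).trans (hQb b)).trans ?_
      simp only [hyσ]
    rw [h1]
    exact hVY.fromSpec_primeIdealOf _
  · rw [← Scheme.Hom.comp_apply, Category.assoc, hsnd]
    exact PrimeSpectrum.ext hwR
  · exact MatchLib.bijective_residueFieldMap_comp b₀ _ w' (MatchLib.bijective_residueFieldMap_Spec _ w' hresB)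

end Groth.Agent.S7238
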