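import Groth.Statements.S7241
import Groth.Agent.AmpleEmb.Resolution
import Groth.Agent.AmpleEmb.ComposeRel
import Groth.Agent.DCohMore.FinPushRes
import Groth.Agent.ProjBundleLib.FTQuot

set_option autoImplicit false
universe u
open CategoryTheory CategoryTheory.Limits AlgebraicGeometry
attribute [local instance] HasDerivedCategory.standard
open Perf

namespace Groth.Agent.S7241

set_option backward.isDefEq.respectTransparency false

open CategoryTheory CategoryTheory.Limits AlgebraicGeometry TopologicalSpace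
open Groth.Agent.PullbackMod Groth.Agent.DCohLib Groth.Agent.AmpleLib Groth.Agent.AmpleEmb

/-- A module ample relative to a morphism to a qcqs scheme twists modules of finite type into quotients of
inverse images of modules of finite type. -/
theorem exists_twist_quotient {X Y : Scheme.{u}} (f : X ⟶ Y) [CompactSpace ↥Y] [QuasiSeparatedSpace ↥Y]
    (L : X.Modules) (hL : RelAmple.IsRelAmple f L) (F : X.Modules) (hF : Coh.IsCoh F) :
    ∃ (n : ℕ) (G : Y.Modules) (φ : (Scheme.Modules.pullback f).obj G ⟶ CohB1.tensorMod F (CohB1.tensorPow L n)),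
      Coh.IsQCoh G ∧ CohB1.IsFT G ∧ Epi φ := by
  classical
  haveI : QuasiCompact f := hL.1
  haveI : QuasiSeparated f := by
    rw [HasAffineProperty.eq_targetAffineLocally (P := @QuasiSeparated)]
    exact fun V => quasiSeparatedSpace_of_isAmple (hL.2 V)
  choose N hN using fun V : Y.affineOpens =>
    eventually_isGloballyGenerated (hL.2 V) (ProjBundleLib.isCoh_restrict_open hF.1 hF.2 (f ⁻¹ᵁ V.1))
  obtain ⟨t, ht⟩ := isCompact_univ.elim_finite_subcover (fun V : Y.affineOpens => (V.1 : Set Y))
    (fun V => V.1.2) fun y _ => by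
      obtain ⟨_, ⟨U, hU, rfl⟩, hy, -⟩ := Y.isBasis_affineOpens.exists_subset_of_mem_open (Set.mem_univ y) isOpen_univ
      exact Set.mem_iUnion.2 ⟨⟨U, hU⟩, hy⟩
  let n := t.sup N
  have hLn := isInvertible_tensorPow (isInvertible_of_isRelAmple hL) n
  haveI := Groth.Agent.InvExt.isQCoh_of_isInvertible hLn
  haveI := hF.1
  haveI : Coh.IsQCoh (CohB1.tensorMod F (CohB1.tensorPow L n)) := BCLib.isQCoh_tmod F _
  refine ⟨n, ProjBundleLib.exists_ft_quotient f _
    (BCLib.isFT_tensorMod F _ hF.2 (DCohLib.isFT_of_flf (CurveLib.isFinLocFree_of_isInvertible hLn))) fun x => ?_⟩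
  obtain ⟨V, hVt, hxV⟩ := Set.mem_iUnion₂.1 (ht (Set.mem_univ (f x)))
  refine ⟨V.1, V.2, hxV, fun x' hx' => ProjBundleLib.span_germ_of_restrict (U := f ⁻¹ᵁ V.1) (x := x') ?_ hx'⟩
  exact isGloballyGenerated_of_iso
    (restrictTensor (f ⁻¹ᵁ V.1).ι F (CohB1.tensorPow L n) ≪≫ tIso (Iso.refl _) (restrictPow _ L n)).symm
    (hN V n (Finset.le_sup hVt))

/-- Let f : X ⟶ Y be a morphism of schemes whose target Y is quasi-compact, quasi-separated, and
satisfies the resolution property (every quasi-coherent O_Y-module of finite type is a quotient of a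
finite locally free O_Y-module), and suppose there is an f-ample invertible O_X-module L (f
quasi-compact and L ample on the preimage of every affine open of Y). Then X has the resolution
property. -/
theorem result {X Y : Scheme.{u}} (f : X ⟶ Y) [CompactSpace ↥Y] [QuasiSeparatedSpace ↥Y]
    (hY : PerfAux.HasResolutionProperty Y) (L : X.Modules) (hL : RelAmple.IsRelAmple f L) :
    PerfAux.HasResolutionProperty X := by
  intro M hM hM'
  obtain ⟨n, G, φ, hG, hG', hφ⟩ := exists_twist_quotient f L hL M ⟨hM, hM'⟩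
  haveI := hφ
  obtain ⟨E, π, hE, hπ⟩ := hY G hG hG'
  haveI := hπ
  haveI : (Scheme.Modules.pullback f).PreservesEpimorphisms :=
    Functor.preservesEpimorphisms_of_adjunction (Scheme.Modules.pullbackPushforwardAdjunction f)
  obtain ⟨N, hN, ⟨η⟩⟩ := exists_isInverseOf (isInvertible_tensorPow (isInvertible_of_isRelAmple hL) n)
  haveI : Epi (((DCoh.tensorBi (X := X)).map ((Scheme.Modules.pullback f).map π ≫ φ)).app N) :=
    DCohMore.epi_tmod_left _ N
  refine ⟨CohB1.tensorMod ((Scheme.Modules.pullback f).obj E) N,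
    (show CohB1.tensorMod ((Scheme.Modules.pullback f).obj E) N ⟶ CohB1.tensorMod (CohB1.tensorMod M (CohB1.tensorPow L n)) N from
      ((DCoh.tensorBi (X := X)).map ((Scheme.Modules.pullback f).map π ≫ φ)).app N) ≫
      (assoc _ _ _ ≪≫ tIso (Iso.refl M) η ≪≫ unitR M).hom,
    isFinLocFree_tensor (isFinLocFree_pullback f E hE) (CurveLib.isFinLocFree_of_isInvertible hN), ?_⟩
  infer_instance

end Groth.Agent.S7241
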