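import Groth.Statements.S7250
import Groth.Agent.DCohMore.RelTorLoc
import Groth.Agent.DCohLib.Summand
-- import your own Groth.Agent.* helpers here

set_option autoImplicit false
universe u
open CategoryTheory CategoryTheory.Limits AlgebraicGeometry
attribute [local instance] HasDerivedCategory.standard
open Perf

namespace Groth.Agent.S7250

/-- Let f : X ⟶ S be flat and locally of finite presentation. The S-perfect objects of D(O_X)
(pseudo-coherent and locally of finite tor dimension over f⁻¹O_S, the latter in the form: locally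
represented by a bounded complex of O_X-modules flat over S) form a saturated triangulated
subcategory: the property contains zero, is stable under all shifts, is closed under the middle term
of distinguished triangles, and is stable under retracts. -/
theorem result {X S : Scheme.{u}} (f : X ⟶ S) [Flat f] [LocallyOfFinitePresentation f] :
    ObjectProperty.IsTriangulated (fun E : DCoh.D X => (∀ m : ℤ, DCoh.IsPseudoCoherentD m E) ∧ DCoh.LocHasFiniteRelTorDim f E) ∧
    ObjectProperty.IsStableUnderRetracts (fun E : DCoh.D X => (∀ m : ℤ, DCoh.IsPseudoCoherentD m E) ∧ DCoh.LocHasFiniteRelTorDim f E) := by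
  have key : ∀ K : DCoh.D X, DCoh.LocHasFiniteRelTorDim f K ↔ ∀ x : X, ∃ (V : X.Opens) (a b : ℤ), x ∈ V ∧
      ∀ x' : X, x' ∈ V → DRing.HasTorAmplitudeIn (S.presheaf.stalk (f.base x')) a b
        ((DerSch.stalkOver f x').mapDerivedCategory.obj K) := fun K => by
    rw [DCohMore.locHasFiniteRelTorDim_iff_preimage]
    have e : ∀ x', DRing.toD ((DerSch.stalkCxOver f x').obj (DerivedCategory.Q.objPreimage K)) ≅
        (DerSch.stalkOver f x').mapDerivedCategory.obj K := fun x' =>
      ((DerSch.stalkOver f x').mapDerivedCategoryFactors.app _).symm ≪≫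
        (DerSch.stalkOver f x').mapDerivedCategory.mapIso (DerivedCategory.Q.objObjPreimageIso K)
    constructor <;> intro h x <;> obtain ⟨V, a, b, hx, hV⟩ := h x
    · exact ⟨V, a, b, hx, fun x' hx' => DRingLib.amp_of_iso (e x') (hV x' hx')⟩
    · exact ⟨V, a, b, hx, fun x' hx' => DRingLib.amp_of_iso (e x').symm (hV x' hx')⟩
  have pc0 : ∀ Z : DCoh.D X, IsZero Z → ∀ m : ℤ, DCoh.IsPseudoCoherentD m Z := fun Z hZ m =>
    (DCohLib.isPseudoCoherentD_iff m Z).2 fun x => ⟨⊤, trivial,
      DCohLib.pcOn_of_aboveZero ((DCohLib.aboveZero_zero m hZ).restrict _)⟩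
  let P : ObjectProperty (DCoh.D X) := fun E =>
    (∀ m : ℤ, DCoh.IsPseudoCoherentD m E) ∧ DCoh.LocHasFiniteRelTorDim f E
  have hiso : ∀ {K L : DCoh.D X}, (K ≅ L) → P K → P L := fun {K L} e h =>
    ⟨fun m => DCohLib.isPseudoCoherentD_iso e (h.1 m), (key L).2 fun x => by
      obtain ⟨V, a, b, hx, hV⟩ := (key K).1 h.2 x
      exact ⟨V, a, b, hx, fun x' hx' =>
        DRingLib.amp_of_iso ((DerSch.stalkOver f x').mapDerivedCategory.mapIso e) (hV x' hx')⟩⟩
  haveI : P.IsClosedUnderIsomorphisms := ⟨fun e h => hiso e h⟩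
  have hZ0 : IsZero (DerivedCategory.Q.obj (HomologicalComplex.zero : CochainComplex X.Modules ℤ)) :=
    DerivedCategory.Q.map_isZero HomologicalComplex.isZero_zero
  haveI : P.ContainsZero := ⟨_, hZ0, pc0 _ hZ0, (key _).2 fun x =>
    ⟨⊤, 0, 0, trivial, fun x' _ => ⟨HomologicalComplex.zero,
      fun i _ => (HomologicalComplex.eval _ (ComplexShape.up ℤ) i).map_isZero HomologicalComplex.isZero_zero,
      fun i => by
        haveI : Subsingleton ((HomologicalComplex.zero : DRing.Cx (S.presheaf.stalk (f.base x'))).X i) :=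
          ModuleCat.subsingleton_of_isZero
            (show IsZero (((HomologicalComplex.zero : DRing.Cx (S.presheaf.stalk (f.base x')))).X i) from
              (HomologicalComplex.eval _ (ComplexShape.up ℤ) i).map_isZero HomologicalComplex.isZero_zero)
        infer_instance,
      ⟨(DerivedCategory.Q.map_isZero HomologicalComplex.isZero_zero).iso
        ((DerSch.stalkOver f x').mapDerivedCategory.map_isZero hZ0)⟩⟩⟩⟩
  haveI : P.IsStableUnderShift ℤ := ⟨fun n => ⟨fun K h => ⟨fun m =>
    DCohLib.isPseudoCoherentD_shift (h.1 (m + n)) n (by omega), (key _).2 fun x => by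
      obtain ⟨V, a, b, hx, hV⟩ := (key K).1 h.2 x
      exact ⟨V, a - n, b - n, hx, fun x' hx' => DRingLib.amp_of_iso
        (((DerSch.stalkOver f x').mapDerivedCategory.commShiftIso n).app K).symm
        (DRingLib.amp_shift (hV x' hx') n)⟩⟩⟩⟩
  haveI : P.IsTriangulatedClosed₂ := ObjectProperty.IsTriangulatedClosed₂.mk' fun T hT h₁ h₃ =>
    ⟨fun m => DCohLib.isPseudoCoherentD_obj₂ T hT (h₁.1 m) (h₃.1 m), (key _).2 fun x => by
      obtain ⟨V₁, a₁, b₁, hx₁, hV₁⟩ := (key _).1 h₁.2 x
      obtain ⟨V₃, a₃, b₃, hx₃, hV₃⟩ := (key _).1 h₃.2 x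
      exact ⟨V₁ ⊓ V₃, min a₁ a₃, max b₁ b₃, ⟨hx₁, hx₃⟩, fun x' hx' => DRingLib.amp_obj₂ _
        ((DerSch.stalkOver f x').mapDerivedCategory.map_distinguished T hT)
        (DRingLib.hasTorAmplitudeIn_mono (min_le_left _ _) (le_max_left _ _) (hV₁ x' hx'.1))
        (DRingLib.hasTorAmplitudeIn_mono (min_le_right _ _) (le_max_right _ _) (hV₃ x' hx'.2))⟩⟩
  refine ⟨{}, ⟨fun {K L} r h => ⟨fun m => ?_, (key K).2 fun x => ?_⟩⟩⟩
  · obtain ⟨C, p, δ, hT⟩ := Pretriangulated.distinguished_cocone_triangle r.i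
    have hz : δ = 0 := by
      have h1 : δ ≫ r.i⟦(1 : ℤ)⟧' = 0 := Pretriangulated.comp_distTriang_mor_zero₃₁ _ hT
      have h2 := congrArg (fun q => q ≫ r.r⟦(1 : ℤ)⟧') h1
      simpa [← Functor.map_comp, r.retract] using h2
    obtain ⟨e, -⟩ := Pretriangulated.exists_iso_binaryBiproduct_of_distTriang _ hT hz
    exact (DCohLib.isPseudoCoherentD_summands (DCohLib.isPseudoCoherentD_iso e (h.1 m))).1
  · obtain ⟨V, a, b, hx, hV⟩ := (key L).1 h.2 x
    exact ⟨V, a, b, hx, fun x' hx' =>
      DRingLib.amp_of_retract (r.map (DerSch.stalkOver f x').mapDerivedCategory) (hV x' hx')⟩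

end Groth.Agent.S7250
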