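import Groth.Statements.S7251
import Groth.Agent.TwistShriek.KernelAdj
-- import your own Groth.Agent.* helpers here

set_option autoImplicit false
set_option backward.isDefEq.respectTransparency false
set_option maxHeartbeats 800000
set_option synthInstance.maxHeartbeats 200000
universe u
open CategoryTheory CategoryTheory.Limits AlgebraicGeometry
attribute [local instance] HasDerivedCategory.standard
open Perf

namespace Groth.Agent.S7251

/-- Let f : X ⟶ Y be a quasi-compact and quasi-separated morphism of schemes. Assume Rf_* exists and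
sends D_QCoh(O_X) into D_QCoh(O_Y), let an adjunction Lf^* ⊣ Rf_* be given as data, and assume the
inclusion functors D_QCoh ⥤ D have (chosen) right adjoints DQ_X and DQ_Y. Then Rf_* ∘ DQ_X = DQ_Y ∘
Rf_*: for every K ∈ D(O_X) the comparison map Rf_*(DQ_X K) ⟶ DQ_Y(Rf_* K) in D_QCoh(O_Y),
corresponding under the adjunction to Rf_* applied to the counit DQ_X K ⟶ K, is an isomorphism. -/
theorem result {X Y : Scheme.{u}} (f : X ⟶ Y) [QuasiCompact f] [QuasiSeparated f]
    [DCoh.HasRpush f] (h : DCoh.RpushPreservesQCoh f) [DCoh.HasLpull f] (adj : DCoh.Lpull f ⊣ DCoh.Rpush f)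
    [(ObjectProperty.ι (DCoh.IsQCohD (X := X))).IsLeftAdjoint] [(ObjectProperty.ι (DCoh.IsQCohD (X := Y))).IsLeftAdjoint]
    (K : DCoh.D X) :
    IsIso ((Adjunction.ofIsLeftAdjoint (ObjectProperty.ι (DCoh.IsQCohD (X := Y)))).homEquiv
      (⟨(DCoh.Rpush f).obj (((ObjectProperty.ι (DCoh.IsQCohD (X := X))).rightAdjoint.obj K).obj),
        h _ (((ObjectProperty.ι (DCoh.IsQCohD (X := X))).rightAdjoint.obj K).property)⟩ : DCoh.DQCoh Y)
      ((DCoh.Rpush f).obj K)
      ((DCoh.Rpush f).map ((Adjunction.ofIsLeftAdjoint (ObjectProperty.ι (DCoh.IsQCohD (X := X)))).counit.app K))) := by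
    let ιX := ObjectProperty.ι (DCoh.IsQCohD (X := X))
    let ιY := ObjectProperty.ι (DCoh.IsQCohD (X := Y))
    let aX := Adjunction.ofIsLeftAdjoint ιX
    let aY := Adjunction.ofIsLeftAdjoint ιY
    let Q : DCoh.DQCoh X := ιX.rightAdjoint.obj K
    let P : DCoh.DQCoh Y := ⟨(DCoh.Rpush f).obj Q.obj, h _ Q.property⟩
    let ε : Q.obj ⟶ K := aX.counit.app K
    show IsIso (aY.homEquiv P ((DCoh.Rpush f).obj K) ((DCoh.Rpush f).map ε))
    refine isIso_of_yoneda_map_bijective _ fun W => ?_
    let W' : DCoh.DQCoh X := ⟨(DCoh.Lpull f).obj W.obj, Groth.Agent.TildeD.isQCohD_lpull f W.obj W.property⟩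
    let E : (W ⟶ P) ≃ (W ⟶ ιY.rightAdjoint.obj ((DCoh.Rpush f).obj K)) :=
      ((ObjectProperty.fullyFaithfulι _).homEquiv).trans <| (adj.homEquiv W.obj Q.obj).symm.trans <|
        ((ObjectProperty.fullyFaithfulι _).homEquiv (X := W') (Y := Q)).symm.trans <|
          (aX.homEquiv W' K).symm.trans <| (adj.homEquiv W.obj K).trans (aY.homEquiv W _)
    have key : ∀ φ : W ⟶ P, φ ≫ aY.homEquiv P _ ((DCoh.Rpush f).map ε) = E φ := fun φ => by
      rw [← Adjunction.homEquiv_naturality_left]
      refine congrArg (aY.homEquiv W _) ?_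
      let ψ : W' ⟶ Q := ((ObjectProperty.fullyFaithfulι _).homEquiv (X := W') (Y := Q)).symm
        ((adj.homEquiv W.obj Q.obj).symm φ.hom)
      have h1 : (aX.homEquiv W' K).symm ψ = (adj.homEquiv W.obj Q.obj).symm φ.hom ≫ ε :=
        (Adjunction.homEquiv_counit _ _ _ _).trans rfl
      show φ.hom ≫ (DCoh.Rpush f).map ε = adj.homEquiv W.obj K ((aX.homEquiv W' K).symm ψ)
      rw [h1, Adjunction.homEquiv_naturality_right, Equiv.apply_symm_apply]
    convert E.bijective using 1
    exact funext key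

end Groth.Agent.S7251
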