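import Groth.Statements.S7258
import Groth.Agent.CosecExt.Limit

set_option autoImplicit false
universe u
open CategoryTheory AlgebraicGeometry
open Perf

namespace Groth.Agent.S7258

/-- Let X = lim X_i, where the X_i form a cofiltered diagram of quasi-compact, quasi-separated schemes
and every transition map X_i → X_j is affine. The resolution property (every quasi-coherent
O_X-module of finite type is a quotient of a finite locally free O_X-module) holds for X if and only
if X_i has the resolution property for some index i. -/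
theorem result {I : Type u} [SmallCategory I] [IsCofiltered I]
    (D : I ⥤ Scheme.{u}) (c : Limits.Cone D) (hc : Limits.IsLimit c)
    [∀ (i j : I) (a : i ⟶ j), IsAffineHom (D.map a)] [∀ i, CompactSpace ↥(D.obj i)]
    [∀ i, QuasiSeparatedSpace ↥(D.obj i)] :
    PerfAux.HasResolutionProperty c.pt ↔ ∃ i : I, PerfAux.HasResolutionProperty (D.obj i) := by
  haveI hD : ∀ {i j : I} (f : i ⟶ j), IsAffineHom (D.map f) := fun f => inferInstance
  obtain ⟨i₀⟩ := IsCofiltered.nonempty (C := I)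
  haveI hπ : ∀ i, IsAffineHom (c.π.app i) := isAffineHom_π_app D c hc
  refine ⟨fun hX => ?_, fun ⟨i, hi⟩ =>
    Groth.Agent.ResPropLib.hasResolutionProperty_of_affine (c.π.app i) hi⟩
  haveI : CompactSpace ↥c.pt := QuasiCompact.compactSpace_of_compactSpace (c.π.app i₀)
  haveI : QuasiSeparatedSpace ↥c.pt := quasiSeparatedSpace_of_quasiSeparated (c.π.app i₀)
  obtain ⟨T, hT, e⟩ := (isCompact_and_isOpen_iff_finite_and_eq_biUnion_affineOpens
    (U := (Set.univ : Set (D.obj i₀)))).1 ⟨isCompact_univ, isOpen_univ⟩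
  haveI := hT.fintype
  have hst : ∀ t : T, ∃ (k : I) (φ : k ⟶ i₀),
      Nonempty (Groth.Agent.CosecExt.Cosec (D.map φ ⁻¹ᵁ t.1.1)) := fun t =>
    Groth.Agent.CosecExt.exists_stage_cosec D c hc i₀ t.1.2.isCompact
      (Groth.Agent.CosecExt.exists_cosec hX _ (QuasiCompact.isCompact_preimage (f := c.π.app i₀) _
        t.1.1.2 t.1.2.isCompact)).some
  choose k φ hk using hst
  obtain ⟨l, ψ, hψ⟩ : ∃ (l : I) (ψ : ∀ t : T, l ⟶ k t) (hψ : l ⟶ i₀), ∀ t, ψ t ≫ φ t = hψ := by
    obtain ⟨j, ⟨hj⟩⟩ := Groth.Agent.LimHom.exists_below (C := Over i₀) (fun t : T => Over.mk (φ t))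
    exact ⟨j.left, fun t => (hj t).left, j.hom, fun t => Over.w (hj t)⟩
  obtain ⟨χ, hψ⟩ := hψ
  refine ⟨l, Groth.Agent.CosecExt.hasResolutionProperty (fun t : T => D.map χ ⁻¹ᵁ t.1.1)
    (fun t => t.1.2.preimage _) ?_ fun t => ?_⟩
  · refine eq_top_iff.2 fun x _ => ?_
    obtain ⟨a, ha, hxa⟩ := Set.mem_iUnion₂.mp (e.le (Set.mem_univ (D.map χ x)))
    exact TopologicalSpace.Opens.mem_iSup.2 ⟨⟨a, ha⟩, hxa⟩
  · rw [← hψ t, Functor.map_comp, Scheme.Hom.comp_preimage]
    exact Groth.Agent.CosecExt.pullCosecData (D.map (ψ t)) (hk t).some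

end Groth.Agent.S7258
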