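import Groth.Statements.S7264
import Groth.Agent.DCohMore.TildeStalkAmp
import Groth.Agent.DCohMore.RelTorLoc
-- import your own Groth.Agent.* helpers here

set_option autoImplicit false
universe u
open CategoryTheory CategoryTheory.Limits AlgebraicGeometry
attribute [local instance] HasDerivedCategory.standard
open Perf

namespace Groth.Agent.S7264

/-- (1) ⇔ (2) in the affine case to which the proof reduces: let R → A be flat and of finite
presentation, f : X = Spec A ⟶ S = Spec R, M ∈ D(A) and E = M~ ∈ D(O_X) (tilde recorded as exact),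
so that RΓ(X, E) = M. Then E is S-perfect (pseudo-coherent, and locally on X represented by a
bounded complex of O_X-modules flat over S) if and only if M is R-perfect (pseudo-coherent as a
complex of A-modules and of finite tor dimension as a complex of R-modules). -/
theorem result (R A : Type u) [CommRing R] [CommRing A] [Algebra R A]
    [Module.Flat R A] [Algebra.FinitePresentation R A]
    [PreservesFiniteLimits (tilde.functor (CommRingCat.of A))] (M : Dual.D A) :
    ((∀ m : ℤ, DCoh.IsPseudoCoherentD m ((DCoh.tildeD (CommRingCat.of A)).obj M)) ∧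
      DCoh.LocHasFiniteRelTorDim (Spec.map (CommRingCat.ofHom (algebraMap R A))) ((DCoh.tildeD (CommRingCat.of A)).obj M)) ↔
    Dual2.IsRelPerfect R A M := by
  let φ := algebraMap R A
  let K := DerivedCategory.Q.objPreimage M
  let eK : DRing.toD K ≅ M := DerivedCategory.Q.objObjPreimageIso M
  let eT : DCoh.toD (Spec (CommRingCat.of A)) (TildePerf.tilC K) ≅
      (DCoh.tildeD (CommRingCat.of A)).obj M :=
    (TildePerf.tildeDQ K).symm ≪≫ (DCoh.tildeD (CommRingCat.of A)).mapIso eK
  haveI : Flat (Spec.map (CommRingCat.ofHom (algebraMap R A))) :=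
    (HasRingHomProperty.Spec_iff (P := @Flat)).2 (RingHom.flat_algebraMap_iff.2 inferInstance)
  have hpc : (∀ m : ℤ, DCoh.IsPseudoCoherentD m ((DCoh.tildeD (CommRingCat.of A)).obj M)) ↔
      DRing.IsPseudoCoherent' A M := by
    rw [DRingLib.isPseudoCoherent'_iff]
    exact forall_congr' fun m => TildePerf.isPseudoCoherentD_tilde_iff M m
  refine and_congr hpc ?_
  rw [DCohMore.locHasFiniteRelTorDim_iff _ eT]
  constructor
  · intro h
    choose V a b hx hV using h
    obtain ⟨t, ht⟩ := isCompact_univ.elim_finite_subcover (fun x => (V x : Set (Spec (CommRingCat.of A))))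
      (fun x => (V x).isOpen) fun x _ => Set.mem_iUnion.2 ⟨x, hx x⟩
    obtain ⟨a₀, ha₀⟩ := (t.finite_toSet.image a).bddBelow
    obtain ⟨b₀, hb₀⟩ := (t.finite_toSet.image b).bddAbove
    refine ⟨a₀, b₀, DRingLib.amp_of_iso ((DRing.restrictD (algebraMap R A)).mapIso eK)
      ((DCohMore.hasTorAmplitude_tilde_iff φ K a₀ b₀).1 fun x => ?_)⟩
    obtain ⟨y, hy, hxy⟩ := Set.mem_iUnion₂.1 (ht (Set.mem_univ x))
    exact DRingLib.hasTorAmplitudeIn_mono (ha₀ ⟨y, hy, rfl⟩) (hb₀ ⟨y, hy, rfl⟩) (hV y x hxy)
  · rintro ⟨a, b, h⟩ x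
    exact ⟨⊤, a, b, trivial, fun x' _ => (DCohMore.hasTorAmplitude_tilde_iff φ K a b).2
      (DRingLib.amp_of_iso ((DRing.restrictD (algebraMap R A)).mapIso eK.symm) h) x'⟩

end Groth.Agent.S7264
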