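import Groth.Statements.S7266
import Groth.Agent.DCohMore.ApproxCor
-- import your own Groth.Agent.* helpers here

set_option autoImplicit false
universe u
open CategoryTheory CategoryTheory.Limits AlgebraicGeometry
attribute [local instance] HasDerivedCategory.standard
open Perf

namespace Groth.Agent.S7266

/-- Let X be a scheme written as X = U ∪ V with U, V open, where V is affine and both U and the
intersection U ∩ V are quasi-compact. Suppose approximation by perfect complexes is valid on U; it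
is then also valid on X. Here 'approximation by perfect complexes holds on Y' means: for every
closed T ⊆ Y with retrocompact complement there is an integer r such that for every m ∈ ℤ and every
(m - r)-pseudo-coherent E ∈ D(O_Y) with quasi-coherent cohomology sheaves and Hⁱ(E) supported on T
for i ≥ m - r, there are a perfect P ∈ D(O_Y) supported on T and P ⟶ E inducing isomorphisms on Hⁱ
for i > m and a surjection on Hᵐ. -/
theorem result {X : Scheme.{u}} (U V : X.Opens)
    (hU : IsCompact (U : Set ↥X)) (hV : IsAffineOpen V) (hUV : IsCompact ((U ⊓ V : X.Opens) : Set ↥X)) (hcov : U ⊔ V = ⊤)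
    (hAU : (∀ (T : Set ↥(U : Scheme.{u})), IsClosed T → IsRetrocompact Tᶜ → ∃ r : ℤ, ∀ (m : ℤ) (E : DCoh.D (U : Scheme.{u})), DCoh.IsQCohD E →
        DCoh.IsPseudoCoherentD (m - r) E → (∀ i : ℤ, m - r ≤ i → CohB1.support (DCoh.HD E i) ⊆ T) →
        ∃ (P : DCoh.D (U : Scheme.{u})) (α : P ⟶ E), DCoh.IsPerfect P ∧ (∀ i : ℤ, CohB1.support (DCoh.HD P i) ⊆ T) ∧
          (∀ i : ℤ, m < i → IsIso ((DerivedCategory.homologyFunctor _ i).map α)) ∧
          Epi ((DerivedCategory.homologyFunctor _ m).map α))) :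
    (∀ (T : Set ↥X), IsClosed T → IsRetrocompact Tᶜ → ∃ r : ℤ, ∀ (m : ℤ) (E : DCoh.D X), DCoh.IsQCohD E →
        DCoh.IsPseudoCoherentD (m - r) E → (∀ i : ℤ, m - r ≤ i → CohB1.support (DCoh.HD E i) ⊆ T) →
        ∃ (P : DCoh.D X) (α : P ⟶ E), DCoh.IsPerfect P ∧ (∀ i : ℤ, CohB1.support (DCoh.HD P i) ⊆ T) ∧
          (∀ i : ℤ, m < i → IsIso ((DerivedCategory.homologyFunctor _ i).map α)) ∧
          Epi ((DerivedCategory.homologyFunctor _ m).map α)) := by
  intro T hT hTc
  have h : Groth.Agent.DCohMore.Appr (U : Scheme.{u}) (U.ι.base ⁻¹' T) := by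
    obtain ⟨r, hr⟩ := hAU _ (hT.preimage U.ι.continuous) (fun W hW hWo => by
      rw [U.ι.isOpenEmbedding.isEmbedding.isCompact_iff]
      refine (congrArg IsCompact ?_).mpr (hTc (hW.image U.ι.continuous) (U.ι.isOpenEmbedding.isOpenMap _ hWo))
      ext x
      constructor
      · rintro ⟨y, ⟨h1, h2⟩, rfl⟩
        exact ⟨h1, ⟨y, h2, rfl⟩⟩
      · rintro ⟨h1, y, h2, rfl⟩
        exact ⟨y, ⟨h1, h2⟩, rfl⟩)
    exact ⟨r, fun m E hq hpc hs => by
      obtain ⟨P, α, hP, hPT, h1, h2⟩ := hr m E hq hpc hs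
      exact ⟨P, α, hP, hPT, (Groth.Agent.DCohLib.mIso_iff m α).2 ⟨h1, h2⟩⟩⟩
  obtain ⟨r, hr⟩ := Groth.Agent.DCohMore.appr_of_open U V hU hV hUV hcov T hT hTc h
  exact ⟨r, fun m E hq hpc hs => by
    obtain ⟨P, α, hP, hPT, hα⟩ := hr m E hq hpc hs
    exact ⟨P, α, hP, hPT, ((Groth.Agent.DCohLib.mIso_iff m α).1 hα).1, ((Groth.Agent.DCohLib.mIso_iff m α).1 hα).2⟩⟩

end Groth.Agent.S7266
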