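import Groth.Statements.S7275
import Groth.Agent.DCohMore.RelPerfTerms
import Groth.Agent.TildeD.QCohPull
-- import your own Groth.Agent.* helpers here

set_option autoImplicit false
universe u
open CategoryTheory CategoryTheory.Limits AlgebraicGeometry
attribute [local instance] HasDerivedCategory.standard
open Perf

namespace Groth.Agent.S7275

/-- Let f : X ⟶ S be flat and locally of finite presentation and E ∈ D(O_X). Then E is S-perfect
(pseudo-coherent, and locally on X represented by a bounded complex of O_X-modules flat over S) if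
and only if E satisfies the alternative definition of relative perfectness: locally on X, E becomes
isomorphic in the derived category to a bounded complex whose terms are O_X-modules of finite
presentation that are S-flat (every point has an open neighbourhood V such that the restriction to V
of any representing complex is isomorphic in D(O_V) to such a complex). -/
theorem result {X S : Scheme.{u}} (f : X ⟶ S)
    [Flat f] [LocallyOfFinitePresentation f] (E : DCoh.D X) :
    ((∀ m : ℤ, DCoh.IsPseudoCoherentD m E) ∧ DCoh.LocHasFiniteRelTorDim f E) ↔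
      ∀ x : X, ∃ V : X.Opens, x ∈ V ∧ ∀ F : CochainComplex X.Modules ℤ, Nonempty (DCoh.toD X F ≅ E) →
        ∃ (G : CochainComplex (V : Scheme.{u}).Modules ℤ) (a b : ℤ), DCoh.VanishesOutside G a b ∧
          (∀ i : ℤ, CohB1.IsFP (G.X i) ∧ FlatMod.IsFlatOver (V.ι ≫ f) (G.X i)) ∧
          Nonempty (DerivedCategory.Q.obj ((DCoh.restrictCx V).obj F) ≅ DerivedCategory.Q.obj G) := by
  let F := DerivedCategory.Q.objPreimage E
  let eF : DCoh.toD X F ≅ E := DerivedCategory.Q.objObjPreimageIso E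
  have hlfp : ∀ {A R : CommRingCat.{u}} (ψ : R ⟶ A) (g : Spec A ⟶ X) (k : Spec R ⟶ S) [IsOpenImmersion g]
      [IsOpenImmersion k], Spec.map ψ ≫ k = g ≫ f →
      Flat (Spec.map ψ) ∧ LocallyOfFinitePresentation (Spec.map ψ) := fun {A R} ψ g k _ _ hgk => by
    haveI : MorphismProperty.HasOfPostcompProperty (@Flat.{u}) (MorphismProperty.monomorphisms Scheme.{u}) :=
      MorphismProperty.IsStableUnderBaseChange.hasOfPostcompProperty_monomorphisms
    haveI : MorphismProperty.HasOfPostcompProperty (@LocallyOfFinitePresentation.{u})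
        (MorphismProperty.monomorphisms Scheme.{u}) :=
      MorphismProperty.IsStableUnderBaseChange.hasOfPostcompProperty_monomorphisms
    haveI : Flat (Spec.map ψ ≫ k) := by rw [hgk]; infer_instance
    haveI : LocallyOfFinitePresentation (Spec.map ψ ≫ k) := by rw [hgk]; infer_instance
    exact ⟨MorphismProperty.of_postcomp @Flat (W' := MorphismProperty.monomorphisms Scheme.{u})
        (Spec.map ψ) k (MorphismProperty.monomorphisms.infer_property k) ‹_›,
      MorphismProperty.of_postcomp @LocallyOfFinitePresentation (W' := MorphismProperty.monomorphisms Scheme.{u})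
        (Spec.map ψ) k (MorphismProperty.monomorphisms.infer_property k) ‹_›⟩
  constructor
  · rintro ⟨hpc, htd⟩ x
    obtain ⟨_, ⟨W : S.Opens, (hW : IsAffineOpen W), rfl⟩, hxW, -⟩ :=
      S.isBasis_affineOpens.exists_subset_of_mem_open (a := f.base x) (Set.mem_univ _) isOpen_univ
    obtain ⟨_, ⟨U : X.Opens, (hU : IsAffineOpen U), rfl⟩, hxU, hUW⟩ :=
      X.isBasis_affineOpens.exists_subset_of_mem_open (a := x) (show x ∈ f ⁻¹ᵁ W from hxW) (f ⁻¹ᵁ W).isOpen
    let g := hU.fromSpec
    let ψ := f.appLE W U hUW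
    have hgk : Spec.map ψ ≫ hW.fromSpec = g ≫ f := IsAffineOpen.SpecMap_appLE_fromSpec f hW hU hUW
    haveI := (hlfp ψ g hW.fromSpec hgk).1
    haveI := TildeD.preservesFiniteLimits_tilde (R := Γ(X, U))
    obtain ⟨M, ⟨e⟩⟩ := ((TildeD.main Γ(X, U)).2.2 _).1
      (TildeD.isQCohD_restrict g E (DCohMore.isQCohD_of_pc hpc))
    have hM : DRing.IsPseudoCoherent' Γ(X, U) M := (DRingLib.isPseudoCoherent'_iff _).2 fun m =>
      (TildePerf.isPseudoCoherentD_tilde_iff (A := Γ(X, U)) M m).1
        (DCohLib.isPseudoCoherentD_iso e.symm (DCohLib.isPseudoCoherentD_restrict g (hpc m)))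
    obtain ⟨G, a, b, hab, hG, ⟨eG⟩⟩ := DCohMore.exists_flat_fp_model ψ M hM
      (DCohMore.hasFiniteTorDimCx_of_chart f htd ψ g hW.fromSpec hgk M e.symm)
    let h := hU.isoSpec.hom
    have hh : h ≫ g = U.ι := hU.isoSpec_hom_fromSpec
    refine ⟨U, hxU, fun F' ⟨e'⟩ => ⟨(DCohLib.resCx h).obj G, a, b,
      fun i hi => DCohLib.isZero_resCx h (hab i hi), fun i => ⟨DCohMore.isFP_restrict h (hG i).1, fun y => ?_⟩, ⟨?_⟩⟩⟩
    · rw [← hh, Category.assoc, ← hgk]
      exact (DCohMore.isFlatOverAt_restrict_iff h _ (G.X i) y).2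
        ((DCohMore.isFlatOverAt_comp_iff (Spec.map ψ) hW.fromSpec (G.X i) _).2 ((hG i).2 _))
    · exact (DCohLib.restrictDQ U.ι F').symm ≪≫ (DCoh.restrictD U.ι).mapIso e' ≪≫
        (DCohLib.restrictDCongr hh).symm.app E ≪≫ (DCohLib.restrictDComp h g).app E ≪≫
        (DCoh.restrictD h).mapIso (e.symm ≪≫ eG) ≪≫ DCohLib.restrictDQ h G
  · intro H
    refine ⟨fun m => DCohLib.isPseudoCoherentD_of_local fun x => ?_,
      (DCohMore.locHasFiniteRelTorDim_iff f eF).2 fun x => ?_⟩
    · obtain ⟨V, hxV, hV⟩ := H x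
      obtain ⟨G, a, b, hab, hG, ⟨eG⟩⟩ := hV F ⟨eF⟩
      obtain ⟨_, ⟨W : S.Opens, (hW : IsAffineOpen W), rfl⟩, hxW, -⟩ :=
        S.isBasis_affineOpens.exists_subset_of_mem_open (a := f.base x) (Set.mem_univ _) isOpen_univ
      obtain ⟨_, ⟨U : X.Opens, (hU : IsAffineOpen U), rfl⟩, hxU, hUle⟩ :=
        X.isBasis_affineOpens.exists_subset_of_mem_open (a := x) (show x ∈ f ⁻¹ᵁ W ⊓ V from ⟨hxW, hxV⟩)
          (f ⁻¹ᵁ W ⊓ V).isOpen
      have hUW : U ≤ f ⁻¹ᵁ W := fun y hy => (hUle hy).1
      let g := hU.fromSpec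
      let ψ := f.appLE W U hUW
      have hgk : Spec.map ψ ≫ hW.fromSpec = g ≫ f := IsAffineOpen.SpecMap_appLE_fromSpec f hW hU hUW
      haveI := (hlfp ψ g hW.fromSpec hgk).1
      haveI := (hlfp ψ g hW.fromSpec hgk).2
      have hr : Set.range g ⊆ Set.range V.ι := by
        rw [IsAffineOpen.range_fromSpec, Scheme.Opens.range_ι]
        exact fun y hy => (hUle hy).2
      let v := IsOpenImmersion.lift V.ι g hr
      have hv : v ≫ V.ι = g := IsOpenImmersion.lift_fac V.ι g hr
      haveI : IsOpenImmersion (v ≫ V.ι) := by rw [hv]; infer_instance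
      haveI : IsOpenImmersion v := IsOpenImmersion.of_comp v V.ι
      refine ⟨_, g, inferInstance, hU.isoSpec.hom ⟨x, hxU⟩, ?_, ?_⟩
      · show (hU.isoSpec.hom ≫ hU.fromSpec) ⟨x, hxU⟩ = x
        rw [IsAffineOpen.isoSpec_hom_fromSpec]; rfl
      · refine DCohLib.isPseudoCoherentD_iso ((DCohLib.restrictDQ v G).symm ≪≫
          (DCoh.restrictD v).mapIso (eG.symm ≪≫ (DCohLib.restrictDQ V.ι F).symm ≪≫
            (DCoh.restrictD V.ι).mapIso eF) ≪≫ ((DCohLib.restrictDComp v V.ι).app E).symm ≪≫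
          (DCohLib.restrictDCongr hv).app E)
          (DCohMore.isRelPerfect_of_flat_fp_cx ψ (a := a) (b := b) (G := (DCohLib.resCx v).obj G)
            (fun i hi => DCohLib.isZero_resCx v (hab i hi))
            (fun i => ⟨DCohMore.isFP_restrict v (hG i).1, fun y => ?_⟩) m)
        refine (DCohMore.isFlatOverAt_comp_iff (Spec.map ψ) hW.fromSpec _ y).1 ?_
        rw [hgk, ← hv, Category.assoc]
        exact (DCohMore.isFlatOverAt_restrict_iff v _ (G.X i) y).2 ((hG i).2 _)
    · obtain ⟨V, hxV, hV⟩ := H x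
      obtain ⟨G, a, b, hab, hG, ⟨eG⟩⟩ := hV F ⟨eF⟩
      exact ⟨V, a, b, hxV, fun x' hx' =>
        (DCohMore.hasTorAmplitudeAt_restrict_iff V.ι f ⟨x', hx'⟩ F a b).1
          (DCohMore.hasTorAmplitude_of_relFlatAmplitude (f := V.ι ≫ f)
            ⟨G, hab, fun i => (hG i).2, ⟨eG.symm⟩⟩ ⟨x', hx'⟩)⟩

end Groth.Agent.S7275
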