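import Groth.Statements.S7277
import Groth.Agent.DCohMore.FinHom
import Groth.Agent.DCohMore.PerfVanish
import Groth.Agent.TildeOpenLib.Basic
-- import your own Groth.Agent.* helpers here

set_option autoImplicit false
universe u
open CategoryTheory CategoryTheory.Limits AlgebraicGeometry
attribute [local instance] HasDerivedCategory.standard
open Perf

namespace Groth.Agent.S7277

/-- Let A be a Noetherian ring and X a scheme proper over Spec A. For K ∈ D⁻_Coh(O_X) (bounded above,
coherent cohomology sheaves) and L ∈ D⁺_Coh(O_X) (bounded below, coherent cohomology sheaves), the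
A-modules Extⁿ(K, L) = Hom_{D(O_X)}(K, L[n]) are finite for all n (A acts on morphisms of D(O_X)
through A → Γ(X, O_X)). -/
theorem result (A : Type u) [CommRing A] [IsNoetherianRing A] (X : Scheme.{u})
    [X.Over (Spec (CommRingCat.of A))] [IsProper (X ↘ Spec (CommRingCat.of A))] (K L : DCoh.D X)
    (hK : DCoh.IsCohD K) (hKb : ∃ b : ℤ, K.IsLE b) (hL : DCoh.IsCohD L) (hLa : ∃ a : ℤ, L.IsGE a) (n : ℤ) :
    Module.Finite A (K ⟶ L⟦n⟧) := by
  obtain ⟨a, ha⟩ := hLa
  haveI := ha
  refine Groth.Agent.DCohMore.FinHom.finite_hom K (L⟦n⟧) hK hKb (fun i => ?_)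
    ⟨a - n, Groth.Agent.DCohMore.isGE_shift' L a n (a - n) (by omega)⟩
  exact Groth.Agent.TildeOpenLib.isCoh_of_iso'
    (((DerivedCategory.homologyFunctor X.Modules 0).shiftIso n i (n + i) rfl).app L).symm (hL (n + i))

end Groth.Agent.S7277
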