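import Groth.Statements.S7278
import Groth.Agent.DCohMore.RelPerfAffine
import Groth.Agent.TildeD.Main
import Groth.Agent.TildeD.QCohPull
-- import your own Groth.Agent.* helpers here

set_option autoImplicit false
universe u
open CategoryTheory CategoryTheory.Limits AlgebraicGeometry Opposite
attribute [local instance] HasDerivedCategory.standard
open Perf

namespace Groth.Agent.S7278

/-- Let f : X ⟶ S be flat and locally of finite presentation and E an object of D(O_X) with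
quasi-coherent cohomology sheaves (tilde recorded as exact). For affine opens U ⊆ X and V ⊆ S with
f(U) ⊆ V, say that E is algebraically perfect on U over V when every M ∈ D(Γ(U, O_X)) whose
associated object M~ on Spec Γ(U, O_X) is isomorphic to the restriction E|_U (transported along U ≅
Spec Γ(U, O_X)) is Γ(V, O_S)-perfect: pseudo-coherent as a complex of Γ(U, O_X)-modules and of
finite tor dimension over Γ(V, O_S) through f^♯ (such M exist and are unique up to isomorphism,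
namely RΓ(U, E)). Then: E is S-perfect (pseudo-coherent, and locally on X represented by a bounded
complex of O_X-modules flat over S) if and only if E is algebraically perfect on every affine open U
over every affine open V with U ⊆ f⁻¹V; and E is S-perfect as soon as this holds for the members
U_ij of affine open coverings f⁻¹V_i = ⋃ U_ij attached to an affine open covering S = ⋃ V_i. -/
theorem result {X S : Scheme.{u}} (f : X ⟶ S) [Flat f] [LocallyOfFinitePresentation f]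
    [∀ R : CommRingCat.{u}, PreservesFiniteLimits (tilde.functor R)]
    (E : DCoh.D X) (hE : DCoh.IsQCohD E) :
    (((∀ m : ℤ, DCoh.IsPseudoCoherentD m E) ∧ DCoh.LocHasFiniteRelTorDim f E) ↔
      ∀ (U : X.Opens) (hU : IsAffineOpen U) (V : S.Opens) (hV : IsAffineOpen V) (hUV : U ≤ f ⁻¹ᵁ V)
        (M : DerivedCategory (ModuleCat.{u} Γ(X, U))),
        Nonempty ((DCoh.restrictD hU.isoSpec.inv).obj ((DCoh.restrictD U.ι).obj E) ≅ (DCoh.tildeD Γ(X, U)).obj M) →
          @Dual2.IsRelPerfect Γ(S, V) Γ(X, U) _ _ (f.appLE V U hUV).hom.toAlgebra M) ∧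
    (∀ (ι : Type u) (V : ι → S.Opens) (hV : ∀ i, IsAffineOpen (V i)) (hVcov : ⨆ i, V i = ⊤)
        (κ : ι → Type u) (U : ∀ i, κ i → X.Opens) (hU : ∀ i j, IsAffineOpen (U i j))
        (hUV : ∀ i j, U i j ≤ f ⁻¹ᵁ V i) (hUcov : ∀ i, ⨆ j, U i j = f ⁻¹ᵁ V i),
        (∀ (i : ι) (j : κ i) (M : DerivedCategory (ModuleCat.{u} Γ(X, U i j))),
          Nonempty ((DCoh.restrictD (hU i j).isoSpec.inv).obj ((DCoh.restrictD (U i j).ι).obj E) ≅
              (DCoh.tildeD Γ(X, U i j)).obj M) →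
            @Dual2.IsRelPerfect Γ(S, V i) Γ(X, U i j) _ _ (f.appLE (V i) (U i j) (hUV i j)).hom.toAlgebra M) →
        (∀ m : ℤ, DCoh.IsPseudoCoherentD m E) ∧ DCoh.LocHasFiniteRelTorDim f E) := by
  let F := DerivedCategory.Q.objPreimage E
  let eF : DCoh.toD X F ≅ E := DerivedCategory.Q.objObjPreimageIso E
  have hchart : ∀ (U : X.Opens) (hU : IsAffineOpen U) (M : DerivedCategory (ModuleCat.{u} Γ(X, U))),
      Nonempty ((DCoh.restrictD hU.isoSpec.inv).obj ((DCoh.restrictD U.ι).obj E) ≅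
        (DCoh.tildeD Γ(X, U)).obj M) ↔
      Nonempty ((DCoh.restrictD hU.fromSpec).obj E ≅ (DCoh.tildeD Γ(X, U)).obj M) := fun U hU M => by
    let c := (DCohLib.restrictDComp hU.isoSpec.inv U.ι).app E
    exact ⟨fun ⟨e⟩ => ⟨c ≪≫ e⟩, fun ⟨e⟩ => ⟨c.symm ≪≫ e⟩⟩
  refine ⟨⟨?_, ?_⟩, ?_⟩
  · rintro ⟨hpc, htd⟩ U hU V hV hUV M hM
    obtain ⟨e⟩ := (hchart U hU M).1 hM
    exact ⟨(DRingLib.isPseudoCoherent'_iff _).2 fun m =>
        (TildePerf.isPseudoCoherentD_tilde_iff (A := Γ(X, U)) M m).1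
          (DCohLib.isPseudoCoherentD_iso e (DCohLib.isPseudoCoherentD_restrict hU.fromSpec (hpc m))),
      DCohMore.hasFiniteTorDimCx_of_chart f htd (f.appLE V U hUV) hU.fromSpec hV.fromSpec
        (IsAffineOpen.SpecMap_appLE_fromSpec f hV hU hUV) M e⟩
  all_goals
    have key : ∀ (U : X.Opens) (hU : IsAffineOpen U) (V : S.Opens) (hV : IsAffineOpen V) (hUV : U ≤ f ⁻¹ᵁ V),
        (∀ M : DerivedCategory (ModuleCat.{u} Γ(X, U)),
          Nonempty ((DCoh.restrictD hU.isoSpec.inv).obj ((DCoh.restrictD U.ι).obj E) ≅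
              (DCoh.tildeD Γ(X, U)).obj M) →
            @Dual2.IsRelPerfect Γ(S, V) Γ(X, U) _ _ (f.appLE V U hUV).hom.toAlgebra M) →
        (∀ m : ℤ, DCoh.IsPseudoCoherentD m ((DCoh.restrictD hU.fromSpec).obj E)) ∧
          ∃ a b : ℤ, ∀ x' : X, x' ∈ U → DerSch.HasTorAmplitudeAt f a b F x' := fun U hU V hV hUV h => by
      obtain ⟨M, ⟨e⟩⟩ := ((TildeD.main Γ(X, U)).2.2 _).1 (TildeD.isQCohD_restrict hU.fromSpec E hE)
      obtain ⟨hM1, hM2⟩ := h M ((hchart U hU M).2 ⟨e.symm⟩)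
      refine ⟨fun m => DCohLib.isPseudoCoherentD_iso e ((TildePerf.isPseudoCoherentD_tilde_iff (A := Γ(X, U)) M m).2
        ((DRingLib.isPseudoCoherent'_iff _).1 hM1 m)), ?_⟩
      obtain ⟨a, b, hab⟩ := DCohMore.exists_open_of_chart f F eF (f.appLE V U hUV) hU.fromSpec hV.fromSpec
        (IsAffineOpen.SpecMap_appLE_fromSpec f hV hU hUV) M e.symm hM2
      exact ⟨a, b, fun x' hx' => hab x' (hU.opensRange_fromSpec.symm ▸ hx')⟩
    have fin : (∀ x : X, ∃ (U : X.Opens) (hU : IsAffineOpen U) (V : S.Opens) (hV : IsAffineOpen V)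
        (hUV : U ≤ f ⁻¹ᵁ V), x ∈ U ∧ ∀ M : DerivedCategory (ModuleCat.{u} Γ(X, U)),
          Nonempty ((DCoh.restrictD hU.isoSpec.inv).obj ((DCoh.restrictD U.ι).obj E) ≅
              (DCoh.tildeD Γ(X, U)).obj M) →
            @Dual2.IsRelPerfect Γ(S, V) Γ(X, U) _ _ (f.appLE V U hUV).hom.toAlgebra M) →
        (∀ m : ℤ, DCoh.IsPseudoCoherentD m E) ∧ DCoh.LocHasFiniteRelTorDim f E := fun h => by
      refine ⟨fun m => DCohLib.isPseudoCoherentD_of_local fun x => ?_,
        (DCohMore.locHasFiniteRelTorDim_iff f eF).2 fun x => ?_⟩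
      · obtain ⟨U, hU, V, hV, hUV, hx, hM⟩ := h x
        exact ⟨_, hU.fromSpec, inferInstance, hU.isoSpec.hom ⟨x, hx⟩, by
          show (hU.isoSpec.hom ≫ hU.fromSpec) ⟨x, hx⟩ = x
          rw [IsAffineOpen.isoSpec_hom_fromSpec]; rfl, (key U hU V hV hUV hM).1 m⟩
      · obtain ⟨U, hU, V, hV, hUV, hx, hM⟩ := h x
        obtain ⟨a, b, hab⟩ := (key U hU V hV hUV hM).2
        exact ⟨U, a, b, hx, hab⟩
  · intro h
    refine fin fun x => ?_
    obtain ⟨_, ⟨V : S.Opens, hV, rfl⟩, hxV, -⟩ :=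
      S.isBasis_affineOpens.exists_subset_of_mem_open (a := f.base x) (Set.mem_univ _) isOpen_univ
    obtain ⟨_, ⟨U : X.Opens, hU, rfl⟩, hxU, hUV⟩ :=
      X.isBasis_affineOpens.exists_subset_of_mem_open (a := x) (show x ∈ f ⁻¹ᵁ V from hxV) (f ⁻¹ᵁ V).isOpen
    exact ⟨U, hU, V, hV, hUV, hxU, h U hU V hV hUV⟩
  · intro ι V hV hVcov κ U hU hUV hUcov h
    refine fin fun x => ?_
    obtain ⟨i, hi⟩ := TopologicalSpace.Opens.mem_iSup.1
      (show f.base x ∈ ⨆ i, V i by rw [hVcov]; trivial)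
    obtain ⟨j, hj⟩ := TopologicalSpace.Opens.mem_iSup.1
      (show x ∈ ⨆ j, U i j by rw [hUcov i]; exact hi)
    exact ⟨U i j, hU i j, V i, hV i, hUV i j, hj, h i j⟩

end Groth.Agent.S7278
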