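import Groth.Statements.S7288
import Groth.Agent.ProEtFull.Image

set_option autoImplicit false
open CategoryTheory CategoryTheory.Limits AlgebraicGeometry Opposite
universe u
open EtModW

namespace Groth.Agent.S7288

/-- Let X be a scheme and Λ a ring. The essential image of the pullback functor from sheaves of
Λ-modules on the small etale site of X to sheaves of Λ-modules on the small pro-etale site is a weak
Serre subcategory: the kernel and the cokernel of a morphism between objects of the essential image
lie in it, and an extension of two objects of the essential image lies in it. (Continuity of the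
inclusion of the etale site into the pro-etale site is carried as a binder.) -/
theorem result (Λ : Type (u + 1)) [CommRing Λ] (X : Scheme.{u})
    [ProEtS.EpsCont X] :
    (∀ (F G : EtModW.ModP Λ X) (φ : F ⟶ G), (EtModW.epsPullMod Λ X).essImage F →
      (EtModW.epsPullMod Λ X).essImage G →
        (EtModW.epsPullMod Λ X).essImage (kernel φ) ∧ (EtModW.epsPullMod Λ X).essImage (cokernel φ)) ∧
    ∀ (T : ShortComplex (EtModW.ModP Λ X)), T.ShortExact →
      (EtModW.epsPullMod Λ X).essImage T.X₁ → (EtModW.epsPullMod Λ X).essImage T.X₃ →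
        (EtModW.epsPullMod Λ X).essImage T.X₂ := by
  haveI := Groth.Agent.ProEtFull.preservesFiniteLimits_epsPullMod X Λ
  haveI := Groth.Agent.ProEtFull.isIso_epsAdjMod_unit X Λ
  haveI : ((ProEtS.eps X).sheafPushforwardContinuous (ModuleCat.{u + 1} Λ)
      X.smallEtaleTopology (Scheme.ProEt.topology X)).Additive := {}
  let adj := Groth.Agent.ProEtFull.epsAdjMod X Λ
  have key : ∀ F : EtModW.ModP Λ X, (EtModW.epsPullMod Λ X).essImage F ↔
      Groth.Agent.ProEtFull.img (EtModW.epsPullMod Λ X) ⊤ F :=
    fun F => ⟨fun ⟨G, h⟩ => ⟨G, trivial, h⟩, fun ⟨G, _, h⟩ => ⟨G, h⟩⟩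
  refine ⟨fun F G φ hF hG => ?_, fun T hT h₁ h₃ => ?_⟩
  · obtain ⟨a, b⟩ := Groth.Agent.ProEtFull.img_ker_coker adj ⊤ (fun _ _ _ => ⟨trivial, trivial⟩) φ
      ((key F).1 hF) ((key G).1 hG)
    exact ⟨(key _).2 a, (key _).2 b⟩
  · exact (key _).2 (Groth.Agent.ProEtFull.img_ext adj ⊤ (fun _ _ => trivial) (fun _ _ _ _ => trivial)
      (fun T hT A eA => Groth.Agent.ProEtFull.epi_epsPushMod_map X Λ T hT A eA) T hT
      ((key _).1 h₁) ((key _).1 h₃))

end Groth.Agent.S7288
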