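import Groth.Statements.S7291
import Groth.Agent.HTopPh.Limit
-- import your own Groth.Agent.* helpers here

set_option autoImplicit false
open CategoryTheory CategoryTheory.Limits AlgebraicGeometry Opposite
universe w u
open HTop

open Groth.Agent CategoryTheory.Limits
set_option backward.isDefEq.respectTransparency false
namespace Groth.Agent.S7291

/-- Let Y be an affine scheme and let X be the limit (as a scheme) of a cofiltered system of affine
schemes X_i over Y. Then the one-member family X over Y is a standard V covering exactly when, for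
every i, the one-member family X_i over Y is a standard V covering. -/
theorem result {Y : Scheme.{u}} [IsAffine Y]
    {I : Type u} [SmallCategory I] [IsCofiltered I] (D : I ⥤ Over Y) [∀ i, IsAffine (D.obj i).left]
    (c : Cone D) (hc : IsLimit ((Over.forget Y).mapCone c)) :
    HTop.IsStandardV (PreZeroHypercover.singleton.{w} c.pt.hom) ↔
      ∀ i, HTop.IsStandardV (PreZeroHypercover.singleton.{w} (D.obj i).hom) := by
  constructor
  · intro h i
    refine ⟨inferInstance, inferInstanceAs (Finite PUnit.{w+1}), fun _ => inferInstanceAs (IsAffine (D.obj i).left), fun V _ _ g => ?_⟩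
    obtain ⟨W, hd, hv, φ, hφ, j, l, hl⟩ := h.lift V g
    refine ⟨W, hd, hv, φ, hφ, PUnit.unit, l ≫ (c.π.app i).left, ?_⟩
    show (l ≫ (c.π.app i).left) ≫ (D.obj i).hom = _
    rw [Category.assoc, Over.w]
    exact hl
  · intro h
    haveI : ∀ i, IsAffine ((D ⋙ Over.forget Y).obj i) := fun i => inferInstanceAs (IsAffine (D.obj i).left)
    haveI : IsAffine c.pt.left := Scheme.isAffine_of_isLimit _ hc
    refine ⟨inferInstance, inferInstanceAs (Finite PUnit.{w+1}), fun _ => inferInstanceAs (IsAffine c.pt.left), ?_⟩
    refine HTopPh.hasValLift_of_univSSubtrusive c.pt.hom _ (HTopPh.hasValLift_limit D c hc fun i => ?_) fun z =>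
      ⟨PUnit.unit, c.pt.left, 𝟙 _, inferInstance, 𝟙 _, ⟨z, rfl⟩, by simp⟩
    exact HTopPh.univSSubtrusive_of_hasValLift (D.obj i).hom _ (fun _ => 𝟙 _) (fun _ => by simp) (h i).lift

end Groth.Agent.S7291
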