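import Groth.Statements.S7292
import Groth.Agent.HTopPh.FPLimit
import Groth.Agent.S7291
-- import your own Groth.Agent.* helpers here

set_option autoImplicit false
open CategoryTheory CategoryTheory.Limits AlgebraicGeometry Opposite
universe w u
open HTop

open Groth.Agent CategoryTheory.Limits
set_option backward.isDefEq.respectTransparency false
namespace Groth.Agent.S7292

/-- Let f be a morphism of affine schemes from X to Y. The following are equivalent: (1) the one-member
family given by f is a standard V covering; (2) X (with f) is the limit, as a scheme over Y, of a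
cofiltered system of affine schemes X_i over Y such that each one-member family X_i over Y is a ph
covering; (3) the same with each X_i over Y an h covering. -/
theorem result {X Y : Scheme.{u}} [IsAffine X] [IsAffine Y] (f : X ⟶ Y) :
    List.TFAE
      [HTop.IsStandardV (PreZeroHypercover.singleton.{w} f),
       ∃ (I : Type u) (_ : SmallCategory I) (_ : IsCofiltered I) (D : I ⥤ Over Y) (c : Cone D)
          (_ : IsLimit ((Over.forget Y).mapCone c)) (_ : c.pt ≅ Over.mk f),
          (∀ i, IsAffine (D.obj i).left) ∧ ∀ i, HTop.IsPhCover (PreZeroHypercover.singleton.{w} (D.obj i).hom),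
       ∃ (I : Type u) (_ : SmallCategory I) (_ : IsCofiltered I) (D : I ⥤ Over Y) (c : Cone D)
          (_ : IsLimit ((Over.forget Y).mapCone c)) (_ : c.pt ≅ Over.mk f),
          (∀ i, IsAffine (D.obj i).left) ∧ ∀ i, HTop.IsHCover (PreZeroHypercover.singleton.{w} (D.obj i).hom)] := by
  tfae_have 1 → 3 := by
    intro h
    obtain ⟨I, _, _, D, c, hc, e, ha, hl⟩ := HTopPh.exists_lfp_system f
    refine ⟨I, inferInstance, inferInstance, D, c, hc, e, ha, fun i => ?_⟩
    haveI := ha i
    haveI := hl i
    refine HTopPh.isHCover_singleton _ (HTopPh.hasValLift_comp f (e.inv.left ≫ (c.π.app i).left) _ ?_ h.lift)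
    rw [Category.assoc, Over.w]; exact Over.w e.inv
  tfae_have 3 → 2 := by
    rintro ⟨I, _, _, D, c, hc, e, ha, hl⟩
    exact ⟨I, inferInstance, inferInstance, D, c, hc, e, ha, fun i => HTopPh.isPhCover_of_isHCover (hl i)⟩
  tfae_have 2 → 1 := by
    rintro ⟨I, _, _, D, c, hc, e, ha, hl⟩
    haveI := ha
    have h := (Groth.Agent.S7291.result.{w} D c hc).2 fun i =>
      HTopPh.isStandardV_singleton_of_isVCover (HTopPh.isVCover_of_isPhCover (hl i))
    refine ⟨inferInstance, inferInstanceAs (Finite PUnit.{w + 1}), fun _ => inferInstanceAs (IsAffine X),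
      HTopPh.hasValLift_comp c.pt.hom e.hom.left f ?_ h.lift⟩
    exact Over.w e.hom
  tfae_finish

end Groth.Agent.S7292
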