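import Groth.Statements.S7301
import Groth.Agent.RatCplLib.Main
-- import your own Groth.Agent.* helpers here

set_option autoImplicit false
universe u
open CategoryTheory CategoryTheory.Limits AlgebraicGeometry
open Resolve

namespace Groth.Agent.S7301

/-- Let (A, m) be a Nagata local normal domain of dimension two which defines a rational singularity,
and assume the m-adic completion of A is a normal domain. Then the completion defines a rational
singularity as well. -/
theorem result (A : Type u) [CommRing A] [IsDomain A] [IsLocalRing A] [IsNoetherianRing A]
    [IsIntegrallyClosed A] (hN : CAlg.IsNagata A) (hdim : ringKrullDim A = 2) (hA : Curv2.IsRationalSing A)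
    [IsDomain (Curv2.cpl A)] [IsIntegrallyClosed (Curv2.cpl A)] : Curv2.IsRationalSing (Curv2.cpl A) := by
  exact Groth.Agent.RatCplLib.isRationalSing_completion A hN hdim hA

end Groth.Agent.S7301
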