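import Groth.Statements.S7302
import Groth.Agent.CplStalkLib.Basic
import Groth.Agent.RatCplLib.Main
import Groth.Agent.BlowExistsLib.Proper
import Groth.Agent.HLVTLib.Excellent
import Groth.Agent.UnramNorm.Basic
import Groth.Agent.CplBlowUp.Basic
import Groth.Agent.S1650
import Groth.Agent.S1680
import Groth.Agent.S2650
import Groth.Agent.S2651
import Groth.Agent.S2652

set_option backward.isDefEq.respectTransparency false
set_option maxHeartbeats 1000000

set_option autoImplicit false
universe u
open CategoryTheory CategoryTheory.Limits AlgebraicGeometry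
open Resolve

namespace Groth.Agent.S7302

open Groth.Agent IsLocalRing
open scoped TensorProduct

/-- The completion of an excellent normal local domain is a normal domain. -/
theorem isNormal_cpl (S : Type u) [CommRing S] [IsDomain S] [IsLocalRing S] [IsNoetherianRing S]
    [IsIntegrallyClosed S] (hS : EGA4.IsExcellent S) :
    IsDomain (CplStalkLib.Cpl S) ∧ IsIntegrallyClosed (CplStalkLib.Cpl S) := by
  have hd : IsDomain (CplStalkLib.Cpl S) := HLVTLib.isDomain_cpl S hS
  have hreg := GRingCompleteLib.isRegularHom_adicCompletion S hS.2.2.1 (maximalIdeal S)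
  have hfib : EGA4.HasGeomNormalFormalFibres S := fun p _ k' _ _ hk' =>
    haveI := (hreg.2 p).2 k' hk'
    HLVTLib.isNormalRing_of_regular _
  have hN : EGA4.IsNormalRing (CplStalkLib.Cpl S) :=
    (Groth.Agent.S2644.result S hfib).1 (NormalTensor.isNormalRing_of_domain S)
  exact ⟨hd, NormalTensor.isIntegrallyClosed_of_isNormalRing hN⟩

/-- Let (A, m) be a Nagata local normal domain of dimension two which defines a rational singularity and
whose m-adic completion is a normal domain, and let b : X → Spec A be the blowing up in m. Then for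
every closed point x of X the completion of the local ring O_{X,x} at its maximal ideal is a normal
domain. -/
theorem result (A : Type u) [CommRing A] [IsDomain A] [IsLocalRing A] [IsNoetherianRing A]
    [IsIntegrallyClosed A] (hN : CAlg.IsNagata A) (hdim : ringKrullDim A = 2) (hA : Curv2.IsRationalSing A)
    [IsDomain (Curv2.cpl A)] [IsIntegrallyClosed (Curv2.cpl A)]
    (X : Scheme.{u}) (b : X ⟶ Spec (CommRingCat.of A)) (hb : BlowUp.IsBlowUp b (Curv2.idealSheaf A (IsLocalRing.maximalIdeal A)))
    (x : X) (hx : IsClosed ({x} : Set X)) :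
    IsDomain (Curv2.cpl (X.presheaf.stalk x)) ∧ IsIntegrallyClosed (Curv2.cpl (X.presheaf.stalk x)) := by
  haveI : IsDomain (CommRingCat.of A) := inferInstanceAs (IsDomain A)
  haveI : IsNoetherianRing (CommRingCat.of A) := inferInstanceAs (IsNoetherianRing A)
  let 𝓘 : (Spec (CommRingCat.of A)).IdealSheafData := Curv2.idealSheaf A (maximalIdeal A)
  have hft : BlowUp.IsFiniteTypeIdeal 𝓘 := fun U => by
    haveI : IsNoetherianRing Γ(Spec (CommRingCat.of A), U.1) := IsLocallyNoetherian.component_noetherian U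
    exact IsNoetherian.noetherian _
  haveI : IsProper b := BlowExistsLib.isProper_of_FG hb hft
  haveI : IsLocallyNoetherian X := LocallyOfFiniteType.isLocallyNoetherian b
  -- the completed blow-up
  have hne : maximalIdeal A ≠ ⊤ := (maximalIdeal.isMaximal A).ne_top
  haveI : IsNoetherianRing (Curv2.cpl A) := RegLocal.isNoetherianRing_completion A _
  haveI : IsLocalRing (Curv2.cpl A) := RegLocal.isLocalRing_completion A _ hne
  have hmH : maximalIdeal (Curv2.cpl A) = (maximalIdeal A).map (algebraMap A (Curv2.cpl A)) :=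
    RegLocal.maximalIdeal_completion A _ hne
  haveI : IsAdicComplete (maximalIdeal (Curv2.cpl A)) (Curv2.cpl A) := by
    rw [hmH]
    exact AdicCompletion.isAdicComplete_self _ (Ideal.fg_of_isNoetherianRing _)
  haveI : Module.Flat A (Curv2.cpl A) := AdicCompletion.flat_of_isNoetherian _
  let g : Spec (CommRingCat.of (Curv2.cpl A)) ⟶ Spec (CommRingCat.of A) :=
    Spec.map (CommRingCat.ofHom (algebraMap A (Curv2.cpl A)))
  haveI : Flat g := by
    rw [HasRingHomProperty.Spec_iff (P := @Flat), CommRingCat.hom_ofHom, RingHom.flat_algebraMap_iff]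
    infer_instance
  have hb' : BlowUp.IsBlowUp (pullback.fst g b) (Curv2.idealSheaf (Curv2.cpl A) (maximalIdeal (Curv2.cpl A))) := by
    have h := Groth.Agent.S1680.result g 𝓘 b hb
    rwa [show 𝓘.comap g = Curv2.idealSheaf (Curv2.cpl A) (maximalIdeal (Curv2.cpl A)) from
      (CplBlowUp.comap_spec (CommRingCat.ofHom (algebraMap A (Curv2.cpl A))) (maximalIdeal A)).trans (by
        rw [CommRingCat.hom_ofHom, ← hmH]; rfl)] at h
  have hNc : CAlg.IsNagata (Curv2.cpl A) := UnramNorm.isNagata_completion
  have hXn : Pi1.IsNormalScheme (pullback g b) :=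
    Groth.Agent.S1650.result (Curv2.cpl A) hNc ((RegLocal.ringKrullDim_completion A _ hne).trans hdim)
      (RatCplLib.isRationalSing_completion A hN hdim hA) _ (pullback.fst g b) hb'
  -- a chart at the point
  obtain ⟨_, ⟨U, hU, rfl⟩, hxU, -⟩ := X.isBasis_affineOpens.exists_subset_of_mem_open (Set.mem_univ x) isOpen_univ
  let φC : A →+* Γ(X, U) := BlowChartLib.secHom b U
  letI : Algebra A Γ(X, U) := φC.toAlgebra
  haveI : Algebra.FiniteType A Γ(X, U) := by
    refine RingHom.finiteType_algebraMap.1 ?_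
    have h1 := b.finiteType_appLE (isAffineOpen_top _) hU (show U ≤ b ⁻¹ᵁ ⊤ from le_top)
    exact h1.comp (RingHom.FiniteType.of_surjective _
      (ConcreteCategory.bijective_of_isIso (Scheme.ΓSpecIso (CommRingCat.of A)).inv).2)
  let P := (hU.primeIdealOf ⟨x, hxU⟩).asIdeal
  haveI : P.IsMaximal := by
    refine (PrimeSpectrum.isClosed_singleton_iff_isMaximal _).1 ?_
    have h1 := hx.preimage hU.fromSpec.continuous
    have h2 : hU.fromSpec ⁻¹' {x} = {hU.primeIdealOf ⟨x, hxU⟩} :=
      Set.Subset.antisymm (fun p hp => hU.fromSpec.isOpenEmbedding.injective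
        (hp.trans (hU.fromSpec_primeIdealOf ⟨x, hxU⟩).symm))
        fun p hp => by
          rw [Set.mem_singleton_iff] at hp
          subst hp
          exact hU.fromSpec_primeIdealOf ⟨x, hxU⟩
    rw [h2] at h1
    exact h1
  have hfs : Spec.map (CommRingCat.ofHom (algebraMap A Γ(X, U))) = hU.fromSpec ≫ b :=
    BlowChartLib.fromSpec_secHom b ⟨U, hU⟩
  have hbx : IsClosed ({b x} : Set (Spec (CommRingCat.of A))) := by
    have h2 := b.isClosedMap _ hx
    rwa [Set.image_singleton] at h2
  have hP : P.comap (algebraMap A Γ(X, U)) = maximalIdeal A := by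
    have h1 : Spec.map (CommRingCat.ofHom (algebraMap A Γ(X, U))) (hU.primeIdealOf ⟨x, hxU⟩) = b x := by
      rw [hfs, Scheme.Hom.comp_apply]
      exact congrArg b (hU.fromSpec_primeIdealOf ⟨x, hxU⟩)
    have h2 : (b x).asIdeal = maximalIdeal A :=
      IsLocalRing.eq_maximalIdeal ((PrimeSpectrum.isClosed_singleton_iff_isMaximal _).1 hbx)
    exact (congrArg PrimeSpectrum.asIdeal h1).trans h2
  letI : Algebra Γ(X, U) (X.presheaf.stalk x) := TopCat.Presheaf.algebra_section_stalk X.presheaf (⟨x, hxU⟩ : U)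
  haveI : IsLocalization.AtPrime (X.presheaf.stalk x) P := hU.isLocalization_stalk ⟨x, hxU⟩
  obtain ⟨Q, hQ, ⟨e⟩⟩ := CplStalkLib.exists_prime_completionEquiv (A := A) P hP (X.presheaf.stalk x)
  -- the completed chart is open in the completed blow-up
  let j : Spec (CommRingCat.of (Curv2.cpl A ⊗[A] Γ(X, U))) ⟶ pullback g b :=
    (pullbackSpecIso A (Curv2.cpl A) Γ(X, U)).inv ≫
      pullback.map g (Spec.map (CommRingCat.ofHom (algebraMap A Γ(X, U)))) g (hU.fromSpec ≫ b) (𝟙 _) (𝟙 _) (𝟙 _)
        (by rw [Category.comp_id, Category.id_comp]) (by rw [Category.comp_id, Category.id_comp, hfs]) ≫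
      (pullbackLeftPullbackSndIso g b hU.fromSpec).inv ≫ pullback.fst _ _
  haveI : IsOpenImmersion j := inferInstance
  haveI hQ' := hQ
  let z : Spec (CommRingCat.of (Curv2.cpl A ⊗[A] Γ(X, U))) := ⟨Q, hQ⟩
  obtain ⟨h3, h4⟩ := hXn (j z)
  haveI : IsDomain ((pullback g b).presheaf.stalk (j z)) := h3
  haveI : IsIntegrallyClosed ((pullback g b).presheaf.stalk (j z)) := h4
  letI : Algebra (Curv2.cpl A ⊗[A] Γ(X, U)) ((Spec (CommRingCat.of (Curv2.cpl A ⊗[A] Γ(X, U)))).presheaf.stalk z) :=
    StructureSheaf.stalkAlgebra _ z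
  haveI : IsLocalization.AtPrime ((Spec (CommRingCat.of (Curv2.cpl A ⊗[A] Γ(X, U)))).presheaf.stalk z) Q :=
    StructureSheaf.IsLocalization.to_stalk _ z
  let ε : (pullback g b).presheaf.stalk (j z) ≃+* Localization.AtPrime Q :=
    (asIso (j.stalkMap z)).commRingCatIsoToRingEquiv.trans
      (IsLocalization.algEquiv Q.primeCompl ((Spec (CommRingCat.of (Curv2.cpl A ⊗[A] Γ(X, U)))).presheaf.stalk z)
        (Localization.AtPrime Q)).toRingEquiv
  haveI : IsDomain (Localization.AtPrime Q) := ε.symm.toMulEquiv.isDomain _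
  haveI : IsIntegrallyClosed (Localization.AtPrime Q) := IsIntegrallyClosed.of_equiv ε
  have hexc : EGA4.IsExcellent (Localization.AtPrime Q) :=
    Groth.Agent.S2650.result _ (Groth.Agent.S2651.result (Curv2.cpl A) (Groth.Agent.S2652.result _)
      (Curv2.cpl A ⊗[A] Γ(X, U))) Q.primeCompl
  haveI : IsNoetherianRing (Localization.AtPrime Q) := hexc.1
  obtain ⟨h5, h6⟩ := isNormal_cpl (Localization.AtPrime Q) hexc
  haveI := h5
  haveI := h6
  exact ⟨e.toMulEquiv.isDomain _, IsIntegrallyClosed.of_equiv e.symm⟩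


end Groth.Agent.S7302
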