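import Groth.Statements.S7305
import Groth.Agent.CplStalkLib.Main
-- import your own Groth.Agent.* helpers here

set_option autoImplicit false
set_option backward.isDefEq.respectTransparency false
set_option maxHeartbeats 800000
set_option synthInstance.maxHeartbeats 200000
universe u
open CategoryTheory CategoryTheory.Limits AlgebraicGeometry
open Resolve

namespace Groth.Agent.S7305

open Groth.Agent CategoryTheory CategoryTheory.Limits
set_option backward.isDefEq.respectTransparency false
set_option maxHeartbeats 800000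

/-- Let (A, m) be a local ring with m finitely generated, f : X → Spec A a scheme over A, and Y = X
×_{Spec A} Spec(A^) the base change to the m-adic completion. Take a point q of Y whose image p in X
maps to the closed point of Spec A. Then the map of local rings O_{X,p} → O_{Y,q} becomes an
isomorphism after completing both sides: for every n ≥ 1 the induced map O_{X,p}/m_p^n →
O_{Y,q}/m_q^n is bijective. -/
theorem result (A : Type u) [CommRing A] [IsLocalRing A]
    (hm : (IsLocalRing.maximalIdeal A).FG) (X : Scheme.{u}) (f : X ⟶ Spec (CommRingCat.of A))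
    (q : ↥(Curv2.bcCpl A f)) (hq : f.base ((Curv2.bcCplFst A f).base q) = IsLocalRing.closedPoint A) (n : ℕ) (hn : 1 ≤ n)
    (h : IsLocalRing.maximalIdeal (X.presheaf.stalk ((Curv2.bcCplFst A f).base q)) ^ n ≤
      (IsLocalRing.maximalIdeal ((Curv2.bcCpl A f).presheaf.stalk q) ^ n).comap ((Curv2.bcCplFst A f).stalkMap q).hom) :
    Function.Bijective (Ideal.quotientMap (IsLocalRing.maximalIdeal ((Curv2.bcCpl A f).presheaf.stalk q) ^ n)
      ((Curv2.bcCplFst A f).stalkMap q).hom h) := by
  let α : CommRingCat.of A ⟶ CommRingCat.of (Curv2.cpl A) := CommRingCat.ofHom (algebraMap A (Curv2.cpl A))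
  let β : CommRingCat.of (Curv2.cpl A) ⟶ CommRingCat.of (A ⧸ IsLocalRing.maximalIdeal A ^ n) :=
    CommRingCat.ofHom (AdicCompletion.evalₐ (IsLocalRing.maximalIdeal A) n).toRingHom
  let g := Curv2.bcCplFst A f
  let sY := Curv2.bcCplSnd A f
  have hβ : Function.Surjective β := AdicCompletion.surjective_evalₐ _ n
  have hab : ∀ a : A, (α ≫ β) a = Ideal.Quotient.mk (IsLocalRing.maximalIdeal A ^ n) a := fun a =>
    AlgHom.commutes (AdicCompletion.evalₐ (IsLocalRing.maximalIdeal A) n) a
  have hαβ : Function.Surjective (α ≫ β) := fun z => by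
    obtain ⟨a, rfl⟩ := Ideal.Quotient.mk_surjective z
    exact ⟨a, hab a⟩
  have hY : IsPullback g sY f (Spec.map α) := IsPullback.of_hasPullback f (Spec.map α)
  have hker : ∀ c : Curv2.cpl A, β c = 0 → c ∈ (IsLocalRing.maximalIdeal A ^ n).map α.hom := fun c hc =>
    CplStalkLib.ker_evalₐ_le _ hm n c hc
  -- functions of the maximal ideal vanish at the point
  have hmem : ∀ a ∈ IsLocalRing.maximalIdeal A, FormalAmple.baseStalk (g ≫ f) q a ∈
      IsLocalRing.maximalIdeal ((Curv2.bcCpl A f).presheaf.stalk q) := fun a ha => by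
    have h1 := FormalAmple.fromSpecStalk_comp (g ≫ f) q
    have h2 : (PrimeSpectrum.comap (FormalAmple.baseStalk (g ≫ f) q).hom
        (IsLocalRing.closedPoint ((Curv2.bcCpl A f).presheaf.stalk q))) = IsLocalRing.closedPoint A := by
      refine Eq.trans ?_ hq
      show (Spec.map (FormalAmple.baseStalk (g ≫ f) q)) (IsLocalRing.closedPoint _) = _
      rw [← h1, Scheme.Hom.comp_apply, Scheme.fromSpecStalk_closedPoint]
      rfl
    exact (congrArg PrimeSpectrum.asIdeal h2).ge ha
  have hmemX : ∀ a ∈ IsLocalRing.maximalIdeal A, FormalAmple.baseStalk f (g q) a ∈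
      IsLocalRing.maximalIdeal (X.presheaf.stalk (g q)) := fun a ha => by
    have h2 : (PrimeSpectrum.comap (FormalAmple.baseStalk f (g q)).hom
        (IsLocalRing.closedPoint (X.presheaf.stalk (g q)))) = IsLocalRing.closedPoint A := by
      refine Eq.trans ?_ hq
      show (Spec.map (FormalAmple.baseStalk f (g q))) (IsLocalRing.closedPoint _) = _
      rw [← FormalAmple.fromSpecStalk_comp f (g q), Scheme.Hom.comp_apply, Scheme.fromSpecStalk_closedPoint]
    exact (congrArg PrimeSpectrum.asIdeal h2).ge ha
  -- the point lies on the truncation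
  have hq' : sY q ∈ Set.range (Spec.map β) := by
    have hr : Set.range (Spec.map β) = PrimeSpectrum.zeroLocus (RingHom.ker β.hom : Set (Curv2.cpl A)) :=
      range_comap_of_surjective _ β.hom hβ
    rw [hr, PrimeSpectrum.mem_zeroLocus]
    intro c hc
    refine (Ideal.map_le_iff_le_comap.2 ?_) (hker c hc)
    intro a ha
    have hw : Spec.map α (sY q) = IsLocalRing.closedPoint A := by
      rw [← Scheme.Hom.comp_apply, ← hY.w, Scheme.Hom.comp_apply]
      exact hq
    exact (congrArg PrimeSpectrum.asIdeal hw).ge (Ideal.pow_le_self (by omega) ha)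
  let T := Limits.pullback sY (Spec.map β)
  obtain ⟨z, hz⟩ := hq'
  obtain ⟨w, hw1, -⟩ := Scheme.Pullback.exists_preimage_pullback q z hz.symm
  subst hw1
  refine CplStalkLib.bijective_quotientMap hY (IsPullback.of_hasPullback sY (Spec.map β)) hαβ hβ w n
    (fun b hb => ?_) (fun c hc => ?_) h
  · have hb' : b ∈ IsLocalRing.maximalIdeal A ^ n := Ideal.Quotient.eq_zero_iff_mem.1 ((hab b).symm.trans hb)
    have h1 : (IsLocalRing.maximalIdeal A).map (FormalAmple.baseStalk f (g ((pullback.fst sY (Spec.map β)) w))).hom ≤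
        IsLocalRing.maximalIdeal (X.presheaf.stalk (g ((pullback.fst sY (Spec.map β)) w))) :=
      Ideal.map_le_iff_le_comap.2 hmemX
    refine Ideal.pow_right_mono h1 n ?_
    rw [← Ideal.map_pow]
    exact Ideal.mem_map_of_mem _ hb'
  · have h1 : (IsLocalRing.maximalIdeal A).map (α ≫ FormalAmple.baseStalk sY ((pullback.fst sY (Spec.map β)) w)).hom ≤
        IsLocalRing.maximalIdeal ((Curv2.bcCpl A f).presheaf.stalk ((pullback.fst sY (Spec.map β)) w)) := by
      refine Ideal.map_le_iff_le_comap.2 fun a ha => ?_
      rw [Ideal.mem_comap, CommRingCat.hom_comp, RingHom.comp_apply]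
      change FormalAmple.baseStalk sY ((pullback.fst sY (Spec.map β)) w) (α a) ∈ _
      rw [← FormalAmple.baseStalk_comp, ← hY.w]
      exact hmem a ha
    refine Ideal.pow_right_mono h1 n ?_
    rw [← Ideal.map_pow, CommRingCat.hom_comp, ← Ideal.map_map]
    exact Ideal.mem_map_of_mem _ (hker c hc)

end Groth.Agent.S7305
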