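import Groth.Statements.S7308
import Groth.Agent.SurfPtBlow.Contraction
-- import your own Groth.Agent.* helpers here

set_option autoImplicit false
set_option backward.isDefEq.respectTransparency false
set_option maxHeartbeats 800000
set_option synthInstance.maxHeartbeats 200000
universe u
open CategoryTheory CategoryTheory.Limits AlgebraicGeometry
open Resolve

namespace Groth.Agent.S7308

/-- Let X be a Noetherian scheme and ι : E → X a closed immersion which is an exceptional curve of the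
first kind. A contraction of E, if it exists, is unique up to unique isomorphism: for contractions
b₁ : X → X₁ and b₂ : X → X₂ of E there is a unique isomorphism e : X₁ ≅ X₂ with b₁ ≫ e = b₂. -/
theorem result {E X X₁ X₂ : Scheme.{u}} [IsNoetherian X] (ι : E ⟶ X) [IsClosedImmersion ι]
    (hE : Models.IsExcCurve ι) (b₁ : X ⟶ X₁) (hb₁ : Models.IsContractionOf ι b₁) (b₂ : X ⟶ X₂) (hb₂ : Models.IsContractionOf ι b₂) :
    ∃! e : X₁ ≅ X₂, b₁ ≫ e.hom = b₂ := by
    obtain ⟨-, -, y₁, -, hr₁, -⟩ := id hb₁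
    obtain ⟨-, -, y₂, -, hr₂, -⟩ := id hb₂
    obtain ⟨ψ, hψ, huniq⟩ := Groth.Agent.SurfPtBlow.contraction_existsUnique hE hb₁ b₂ y₂ hr₂
    obtain ⟨χ, hχ, -⟩ := Groth.Agent.SurfPtBlow.contraction_existsUnique hE hb₂ b₁ y₁ hr₁
    obtain ⟨i₁, -, h1⟩ := Groth.Agent.SurfPtBlow.contraction_existsUnique hE hb₁ b₁ y₁ hr₁
    obtain ⟨i₂, -, h2⟩ := Groth.Agent.SurfPtBlow.contraction_existsUnique hE hb₂ b₂ y₂ hr₂
    have e1 : ψ ≫ χ = 𝟙 _ := (h1 (ψ ≫ χ) (by show b₁ ≫ ψ ≫ χ = b₁; rw [reassoc_of% hψ, hχ])).trans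
      (h1 (𝟙 _) (Category.comp_id _)).symm
    have e2 : χ ≫ ψ = 𝟙 _ := (h2 (χ ≫ ψ) (by show b₂ ≫ χ ≫ ψ = b₂; rw [reassoc_of% hχ, hψ])).trans
      (h2 (𝟙 _) (Category.comp_id _)).symm
    exact ⟨⟨ψ, χ, e1, e2⟩, hψ, fun e he => Iso.ext (huniq e.hom he)⟩

end Groth.Agent.S7308
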