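import Groth.Statements.S7321
import Groth.Agent.CastLib.CurveRes
import Groth.Agent.BMCohLib.Birational
-- import your own Groth.Agent.* helpers here

set_option autoImplicit false
set_option backward.isDefEq.respectTransparency false
set_option maxHeartbeats 800000
set_option synthInstance.maxHeartbeats 200000
universe u
open CategoryTheory CategoryTheory.Limits AlgebraicGeometry
open Resolve

namespace Groth.Agent.S7321

/-- Let Y be an integral Noetherian scheme of dimension one. Then (1) there is an alteration X → Y with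
X regular, if and only if (2) Y has a resolution of singularities, i.e. a proper morphism X → Y from
an integral regular scheme which is an isomorphism over a nonempty open of Y; and (2) holds if and
only if (4) the normalization morphism of Y is finite. (A further equivalent condition, a finite
sequence of blowings up in closed points ending in a regular scheme, is stated separately. The
quasi-compactness and quasi-separatedness binders on Spec K(Y) → Y always hold; they are needed only
to form the normalization.) -/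
theorem result (Y : Scheme.{u}) [IsIntegral Y] [IsNoetherian Y]
    (hdim : topologicalKrullDim Y = 1)
    [QuasiCompact (Y.fromSpecStalk (genericPoint Y))] [QuasiSeparated (Y.fromSpecStalk (genericPoint Y))] :
    ((∃ (X : Scheme.{u}) (g : X ⟶ Y), Curv2.IsAlteration g ∧ ∀ x : X, IsRegularLocalRing (X.presheaf.stalk x)) ↔
      (∃ (X : Scheme.{u}) (g : X ⟶ Y), IsProper g ∧ IsIntegral X ∧
        (∃ V : Y.Opens, (V : Set Y).Nonempty ∧ IsIso (g ∣_ V)) ∧ ∀ x : X, IsRegularLocalRing (X.presheaf.stalk x))) ∧
    ((∃ (X : Scheme.{u}) (g : X ⟶ Y), IsProper g ∧ IsIntegral X ∧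
        (∃ V : Y.Opens, (V : Set Y).Nonempty ∧ IsIso (g ∣_ V)) ∧ ∀ x : X, IsRegularLocalRing (X.presheaf.stalk x)) ↔
      IsFinite (Curv2.normalizationι Y)) := by
    have h21 : (∃ (X : Scheme.{u}) (g : X ⟶ Y), IsProper g ∧ IsIntegral X ∧
          (∃ V : Y.Opens, (V : Set Y).Nonempty ∧ IsIso (g ∣_ V)) ∧ ∀ x : X, IsRegularLocalRing (X.presheaf.stalk x)) →
        ∃ (X : Scheme.{u}) (g : X ⟶ Y), Curv2.IsAlteration g ∧ ∀ x : X, IsRegularLocalRing (X.presheaf.stalk x) := by
      rintro ⟨X, g, hp, hX, ⟨V, hV, hiso⟩, hreg⟩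
      haveI := hX
      obtain ⟨hgen, -⟩ := Groth.Agent.BirQFLib.birational_of_isIso_restrict g V hV hiso
      refine ⟨X, g, ⟨hp, hX, inferInstance, ⟨?_⟩, V, hV, (haveI := hiso; inferInstance)⟩, hreg⟩
      rw [DenseRange, dense_iff_closure_eq, Set.eq_univ_iff_forall]
      intro z
      have h3 : ({genericPoint Y} : Set Y) ⊆ Set.range g := Set.singleton_subset_iff.2 ⟨genericPoint X, hgen⟩
      exact closure_mono h3 (genericPoint_specializes z).mem_closure
    have h14 : (∃ (X : Scheme.{u}) (g : X ⟶ Y), Curv2.IsAlteration g ∧ ∀ x : X, IsRegularLocalRing (X.presheaf.stalk x)) →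
        IsFinite (Curv2.normalizationι Y) := by
      rintro ⟨X, g, ⟨hp, hX, -, hdom, -⟩, hreg⟩
      haveI := hp
      haveI := hX
      haveI := hdom
      exact Groth.Agent.CastLib.CurveRes.finite_normalization g (Groth.Agent.CastLib.CurveRes.isNormal_of_regular hreg)
    have h42 : IsFinite (Curv2.normalizationι Y) →
        ∃ (X : Scheme.{u}) (g : X ⟶ Y), IsProper g ∧ IsIntegral X ∧
          (∃ V : Y.Opens, (V : Set Y).Nonempty ∧ IsIso (g ∣_ V)) ∧ ∀ x : X, IsRegularLocalRing (X.presheaf.stalk x) := by
      intro hfin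
      haveI := hfin
      obtain ⟨hN, hn, -, -⟩ := Groth.Agent.NormUPLib.generic_facts (X := Y)
      obtain ⟨U, hU, hiso⟩ := Groth.Agent.BMCohLib.exists_isIso_normalization Y
      exact ⟨Curv2.normalization Y, Curv2.normalizationι Y, inferInstance, hN, ⟨U, ⟨_, hU⟩, hiso⟩,
        Groth.Agent.CastLib.CurveRes.regular_of_finite (Curv2.normalizationι Y) hn hdim.le⟩
    exact ⟨⟨fun h => h42 (h14 h), h21⟩, ⟨fun h => h14 (h21 h), h42⟩⟩

end Groth.Agent.S7321
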