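import Groth.Statements.S7323
import Groth.Agent.CastLib.BlowPn
import Groth.Agent.CastLib.LocalBlowPic
import Groth.Agent.SurfPtBlow.Exc
import Groth.Agent.RegLocal.Basic
-- import your own Groth.Agent.* helpers here

set_option autoImplicit false
set_option backward.isDefEq.respectTransparency false
set_option maxHeartbeats 800000
set_option synthInstance.maxHeartbeats 200000
universe u
open CategoryTheory CategoryTheory.Limits AlgebraicGeometry
open Resolve

namespace Groth.Agent.S7323

/-- Let (A, m, κ) be a regular local ring of dimension two and b : X → Spec A the blowing up in m, with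
exceptional divisor E ⊂ X and its ideal sheaf I_E = O_X(-E). Then there is a closed immersion r : X
→ P^1_A over Spec A such that O_X(E) = r^* O(-1), i.e. r^* O(1) ≅ I_E; and E is an exceptional curve
of the first kind: an effective Cartier divisor isomorphic to a projective line over a field, with
conormal sheaf pulling back to O(1). (The published statement identifies E with P^1_κ through r
itself; this row only asserts that some field and some isomorphism with a projective line exist.) -/
theorem result (A : Type u) [CommRing A] [IsRegularLocalRing A] (hA : ringKrullDim A = 2)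
    (X : Scheme.{u}) (b : X ⟶ Spec (CommRingCat.of A)) (hb : BlowUp.IsBlowUp b (Curv2.idealSheaf A (IsLocalRing.maximalIdeal A))) :
    (∃ r : X ⟶ CohB1.ProjSpace 1 A, IsClosedImmersion r ∧ r ≫ CohB1.ProjSpace.toSpec 1 A = b ∧
      Nonempty ((Scheme.Modules.pullback r).obj (Twist.twistProjSpace 1 A 1) ≅
        ClSub.idealMod (BlowUp.exceptional b (Curv2.idealSheaf A (IsLocalRing.maximalIdeal A))))) ∧
    Models.IsExcCurve (BlowUp.exceptional b (Curv2.idealSheaf A (IsLocalRing.maximalIdeal A))).subschemeι := by
    open Groth.Agent Groth.Agent.CastLib Groth.Agent.TwistShriek Groth.Agent.TwistShriek.PointBlow in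
    classical
    let x₀ : Spec (CommRingCat.of A) := IsLocalRing.closedPoint A
    have hxc : IsClosed ({x₀} : Set (Spec (CommRingCat.of A))) := BlowPic.isClosed_closed
    haveI : IsNoetherianRing (CommRingCat.of A) := inferInstanceAs (IsNoetherianRing A)
    obtain ⟨hregx, hdx⟩ := BlowPic.dim_closed hA
    obtain ⟨g₀, hg₀⟩ := RegLocal.exists_generators A
    have h2 : (IsLocalRing.maximalIdeal A).spanFinrank = 1 + 1 := by
      have h := IsRegularLocalRing.spanFinrank_maximalIdeal (R := A)
      rw [hA] at h
      exact_mod_cast h
    let g : Fin (1 + 1) → A := g₀ ∘ finCongr h2.symm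
    have hg : Ideal.span (Set.range g) = IsLocalRing.maximalIdeal A := by
      rw [(finCongr h2.symm).surjective.range_comp, hg₀]
    refine ⟨?_, ?_⟩
    · have hb' : BlowUp.IsBlowUp b (BlowPn.centre g) := by rw [BlowPn.centre, hg]; exact hb
      refine ⟨BlowPn.r hb', BlowPn.isClosedImmersion_r hb', BlowPn.r_toSpec hb', ?_⟩
      have h := BlowPn.pullback_twist hb'
      rwa [BlowPn.K, BlowPn.centre, hg] at h
    · have hp : BlowUp.IsBlowUp b (pointIdeal hxc) := by
        rw [BlowPic.pointIdeal_eq_idealSheaf]; exact hb
      obtain ⟨P⟩ := TwistShriek.exists_pointParams hxc hregx hdx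
      have h : Models.IsExcCurve (BlowUp.exceptional b (pointIdeal hxc)).subschemeι := SurfPtBlow.isExcCurve hp P
      rwa [BlowPic.pointIdeal_eq_idealSheaf] at h

end Groth.Agent.S7323
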