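import Groth.Statements.S7325
import Groth.Agent.CastLib.ContractPic
-- import your own Groth.Agent.* helpers here

set_option autoImplicit false
set_option backward.isDefEq.respectTransparency false
set_option maxHeartbeats 800000
set_option synthInstance.maxHeartbeats 200000
universe u
open CategoryTheory CategoryTheory.Limits AlgebraicGeometry
open Resolve

namespace Groth.Agent.S7325

/-- Let X be a Noetherian scheme, ι : E → X a closed immersion which is an exceptional curve of the
first kind, and b : X → X' a contraction of E. Then pullback along b is injective on isomorphism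
classes of invertible modules, and an invertible O_X-module L is the pullback of some invertible
O_{X'}-module if and only if ι^* L ≅ O_E. (The published statement is a split short exact sequence 0
→ Pic(X') → Pic(X) → Z → 0 whose second map is the degree on E; this row states the injectivity of
the first map and the description of its image, and does not restate the degree map or the
splitting.) -/
theorem result {E X X' : Scheme.{u}} [IsNoetherian X] (ι : E ⟶ X) [IsClosedImmersion ι]
    (hE : Models.IsExcCurve ι) (b : X ⟶ X') (hb : Models.IsContractionOf ι b) :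
    (∀ L₁ L₂ : X'.Modules, PicF.IsInvertible L₁ → PicF.IsInvertible L₂ →
      Nonempty ((Scheme.Modules.pullback b).obj L₁ ≅ (Scheme.Modules.pullback b).obj L₂) → Nonempty (L₁ ≅ L₂)) ∧
    ∀ L : X.Modules, PicF.IsInvertible L →
      ((∃ L' : X'.Modules, PicF.IsInvertible L' ∧ Nonempty ((Scheme.Modules.pullback b).obj L' ≅ L)) ↔
        Nonempty ((Scheme.Modules.pullback ι).obj L ≅ Coh.structureModule E)) := by
    open Groth.Agent Groth.Agent.CastLib Groth.Agent.TwistShriek Groth.Agent.TwistShriek.PointBlow in
    classical
    obtain ⟨hN, hP, y, hy, hr, hreg, hd, hbl⟩ := hb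
    haveI := hN
    haveI := hP
    have hbij := SurfPtBlow.bijective_app_blowUp hbl hreg hd
    refine ⟨fun L₁ L₂ h₁ h₂ h => ContractPic.pullback_injective b hbij h₁ h₂ h, fun L hL => ⟨?_, fun h => ?_⟩⟩
    · rintro ⟨L', hL', ⟨e⟩⟩
      obtain ⟨V, hyV, ⟨t⟩⟩ := hL' y
      have hr' : ∀ z : E, b (ι z) = y := fun z => hr.le ⟨z, rfl⟩
      let l := IsOpenImmersion.lift V.ι (ι ≫ b) (by
        rw [Scheme.Opens.range_ι]
        rintro _ ⟨z, rfl⟩
        show b (ι z) ∈ V
        rw [hr']; exact hyV)
      have hl : l ≫ V.ι = ι ≫ b := IsOpenImmersion.lift_fac _ _ _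
      have h1 : IntLib.pullCls V.ι (IntLib.mk L') = 1 := (BlowPic.mk_restrict V L').symm.trans
        ((IntLib.mk_congr t).trans IntLib.mk_structureModule)
      refine BlowPic.mk_eq_one.1 ?_
      rw [← IntLib.pullCls_mk, ← IntLib.mk_congr e, ← IntLib.pullCls_mk, BlowPic.pullCls_comp, ← hl,
        ← BlowPic.pullCls_comp, h1, map_one]
    · have hLE : IntLib.pullCls ι (IntLib.mk L) = 1 := by
        rw [IntLib.pullCls_mk]
        exact BlowPic.mk_eq_one.2 h
      refine ContractPic.exists_descend b hbij L fun z => ?_
      by_cases hz : z = y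
      · rw [hz]
        exact ContractPic.exists_gen_centre hE hy hr hreg hd hbl hL hLE
      · let U : X'.Opens := ⟨{y}ᶜ, hy.isOpen_compl⟩
        haveI : IsIso (b ∣_ U) := SurfPtBlow.isIso_restrict_compl hbl U fun hh => hh rfl
        exact ContractPic.exists_gen_off b U (show z ∈ U from hz) hL

end Groth.Agent.S7325
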