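import Groth.Statements.S7327
import Groth.Agent.UnramNorm.Normal
import Groth.Agent.DomDVR.NormChart

set_option autoImplicit false
universe u
open CategoryTheory CategoryTheory.Limits AlgebraicGeometry
open Resolve

open scoped TensorProduct
namespace Groth.Agent.S7327

/-- Let (A, m) be a Noetherian local ring with completion A^, f : X → Spec A a morphism locally of
finite type with X integral, and Y = X ×_{Spec A} Spec(A^). If the complement of the closed fibre in
Y is normal (the local rings of Y at points not over the closed point of Spec(A^) are integrally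
closed domains), then the normalization morphism of X is finite. (The published statement also
identifies the base change of the normalization of X to A^ with the normalization of Y; this row
does not restate that part. The quasi-compactness and quasi-separatedness binders on Spec K(X) → X
always hold.) -/
theorem result (A : Type u) [CommRing A] [IsLocalRing A] [IsNoetherianRing A]
    (X : Scheme.{u}) [IsIntegral X] (f : X ⟶ Spec (CommRingCat.of A)) [LocallyOfFiniteType f]
    [QuasiCompact (X.fromSpecStalk (genericPoint X))] [QuasiSeparated (X.fromSpecStalk (genericPoint X))]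
    (hY : ∀ y : ↥(Curv2.bcCpl A f), (Curv2.bcCplSnd A f).base y ≠ IsLocalRing.closedPoint (Curv2.cpl A) →
      IsDomain ((Curv2.bcCpl A f).presheaf.stalk y) ∧ IsIntegrallyClosed ((Curv2.bcCpl A f).presheaf.stalk y)) :
    IsFinite (Curv2.normalizationι X) := by
  haveI : IsAffineHom (Curv2.normalizationι X) :=
    inferInstanceAs (IsAffineHom (X.fromSpecStalk (genericPoint X)).fromNormalization)
  refine ⟨fun V hV => ?_⟩
  rcases isEmpty_or_nonempty V with hVe | hVe
  · refine RingHom.Finite.of_surjective _ fun z => ⟨0, ?_⟩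
    have hbot : V = ⊥ := TopologicalSpace.Opens.ext (Set.eq_empty_of_forall_notMem fun z hz => hVe.elim ⟨z, hz⟩)
    subst hbot
    haveI : Subsingleton Γ(Curv2.normalization X, Curv2.normalizationι X ⁻¹ᵁ ⊥) :=
      CommRingCat.subsingleton_of_isTerminal (Curv2.normalization X).sheaf.isTerminalOfEmpty
    exact Subsingleton.elim _ _
  haveI := IsIntegral.component_integral (X := X) V
  letI φ : A →+* Γ(X, V) := ((Scheme.ΓSpecIso (CommRingCat.of A)).inv ≫ f.appLE ⊤ V le_top).hom
  letI : Algebra A Γ(X, V) := φ.toAlgebra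
  haveI : Algebra.FiniteType A Γ(X, V) := by
    have h1 := HasRingHomProperty.appLE @LocallyOfFiniteType f inferInstance ⟨⊤, isAffineOpen_top _⟩ ⟨V, hV⟩ le_top
    exact h1.comp (RingHom.FiniteType.of_surjective (Scheme.ΓSpecIso (CommRingCat.of A)).inv.hom
      ((Scheme.ΓSpecIso (CommRingCat.of A)).commRingCatIsoToRingEquiv.symm.surjective))
  have hcomm : Spec.map (CommRingCat.ofHom (algebraMap A Γ(X, V))) ≫ 𝟙 _ = hV.fromSpec ≫ f := by
    rw [Category.comp_id, ← IsAffineOpen.SpecMap_appLE_fromSpec f (isAffineOpen_top (Spec (CommRingCat.of A))) hV le_top,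
      IsAffineOpen.fromSpec_top, Scheme.isoSpec_Spec_inv, ← Spec.map_comp]
    rfl
  let g : Spec (CommRingCat.of (Γ(X, V) ⊗[A] Curv2.cpl A)) ⟶ Curv2.bcCpl A f :=
    (pullbackSpecIso A Γ(X, V) (Curv2.cpl A)).inv ≫
      Limits.pullback.map _ _ f (Spec.map (CommRingCat.ofHom (algebraMap A (Curv2.cpl A)))) hV.fromSpec (𝟙 _) (𝟙 _)
        hcomm (by simp)
  have hg : g ≫ Curv2.bcCplSnd A f = Spec.map (CommRingCat.ofHom
      (Algebra.TensorProduct.includeRight : Curv2.cpl A →ₐ[A] Γ(X, V) ⊗[A] Curv2.cpl A).toRingHom) := by
    simp only [g, Curv2.bcCplSnd, Category.assoc, Limits.pullback.lift_snd, Category.comp_id]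
    exact pullbackSpecIso_inv_snd A Γ(X, V) (Curv2.cpl A)
  obtain ⟨e, he⟩ := Groth.Agent.DomDVR.exists_normalization_chart X hV (FractionRing Γ(X, V))
  have hfin : Module.Finite Γ(X, V) (integralClosure Γ(X, V) (FractionRing Γ(X, V))) :=
    Groth.Agent.UnramNorm.finite_integralClosure_of_domain_off (A := A) Γ(X, V) (fun P _ hP => by
      let p : Spec (CommRingCat.of (Γ(X, V) ⊗[A] Curv2.cpl A)) := ⟨P, inferInstance⟩
      have hne : (Curv2.bcCplSnd A f).base (g.base p) ≠ IsLocalRing.closedPoint (Curv2.cpl A) := by
        rw [← Scheme.Hom.comp_apply, hg]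
        intro h
        apply hP
        rw [Ideal.map_le_iff_le_comap]
        intro a ha
        have h1 : algebraMap A (Curv2.cpl A) a ∈ IsLocalRing.maximalIdeal (Curv2.cpl A) := by
          rw [Groth.Agent.RegLocal.maximalIdeal_completion A _ (IsLocalRing.maximalIdeal.isMaximal A).ne_top]
          exact Ideal.mem_map_of_mem _ ha
        have h1' : algebraMap A (Curv2.cpl A) a ∈ (IsLocalRing.closedPoint (Curv2.cpl A)).asIdeal := h1
        rw [← h] at h1'
        rw [Ideal.mem_comap, ← (Algebra.TensorProduct.includeRight :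
          Curv2.cpl A →ₐ[A] Γ(X, V) ⊗[A] Curv2.cpl A).commutes a]
        exact h1'
      have hd := (hY (g.base p) hne).1
      letI : Algebra (Γ(X, V) ⊗[A] AdicCompletion (IsLocalRing.maximalIdeal A) A)
          ((Spec (CommRingCat.of (Γ(X, V) ⊗[A] Curv2.cpl A))).presheaf.stalk p) := StructureSheaf.stalkAlgebra _ p
      haveI : IsLocalization.AtPrime ((Spec (CommRingCat.of (Γ(X, V) ⊗[A] Curv2.cpl A))).presheaf.stalk p) P :=
        StructureSheaf.IsLocalization.to_stalk _ p
      exact ((IsLocalization.algEquiv P.primeCompl (Localization.AtPrime P)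
        ((Spec (CommRingCat.of (Γ(X, V) ⊗[A] Curv2.cpl A))).presheaf.stalk p)).toRingEquiv.trans
          (asIso (g.stalkMap p)).commRingCatIsoToRingEquiv.symm).toMulEquiv.isDomain) _
  have h1 := (RingHom.Finite.of_surjective e.toRingHom e.surjective).comp (RingHom.finite_algebraMap.2 hfin)
  convert h1 using 1
  ext a
  exact (he a).symm

end Groth.Agent.S7327
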