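import Groth.Statements.S7336
import Groth.Agent.BirQFLib.Conn
import Groth.Agent.RefOne.Normal
import Groth.Agent.S7303

set_option autoImplicit false
universe u
open CategoryTheory CategoryTheory.Limits AlgebraicGeometry
open Resolve

namespace Groth.Agent.S7336

set_option backward.isDefEq.respectTransparency false
set_option maxHeartbeats 1000000
open TopologicalSpace Groth.Agent

/-- A power of a nonzero element of the base is divisible by any nonzero function at a point of a modification. -/
theorem exists_dvd_of_birational (A : Type u) [CommRing A] [IsDomain A] (X : Scheme.{u})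
    (f : X ⟶ Spec (CommRingCat.of A)) [IsIntegral X] [IsLocallyNoetherian X]
    (hst : IsIso (f.stalkMap (genericPoint X))) (x : X) (φ : A →+* X.presheaf.stalk x)
    (hφ : φ = (X.presheaf.germ ⊤ x trivial).hom.comp (Coh.toGlobal f)) (g : X.presheaf.stalk x) (hg : g ≠ 0) :
    ∃ (a : A) (q : X.presheaf.stalk x), a ≠ 0 ∧ φ a = g * q := by
  classical
  -- every element is a quotient of elements from the base
  have hdiv : ∀ r : X.presheaf.stalk x, ∃ s b : A, s ≠ 0 ∧ r * φ s = φ b := fun r => by
    letI : Algebra A ((Spec (CommRingCat.of A)).presheaf.stalk (f (genericPoint X))) :=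
      StructureSheaf.stalkAlgebra A (f (genericPoint X))
    haveI : IsLocalization.AtPrime ((Spec (CommRingCat.of A)).presheaf.stalk (f (genericPoint X)))
        (f (genericPoint X)).asIdeal := StructureSheaf.IsLocalization.to_stalk A _
    obtain ⟨w, hw⟩ := (ConcreteCategory.bijective_of_isIso (f.stalkMap (genericPoint X))).2 (RefOne.toK x r)
    obtain ⟨⟨b, s⟩, hbs⟩ := IsLocalization.surj (f (genericPoint X)).asIdeal.primeCompl w
    have hc : ∀ a : A, RefOne.toK x (φ a) =
        f.stalkMap (genericPoint X) (algebraMap A ((Spec (CommRingCat.of A)).presheaf.stalk (f (genericPoint X))) a) := fun a => by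
      rw [hφ]
      show (X.presheaf.stalkSpecializes _) (X.presheaf.germ ⊤ x trivial (Coh.toGlobal f a)) = _
      rw [TopCat.Presheaf.germ_stalkSpecializes_apply]
      exact (Scheme.Hom.germ_stalkMap_apply f ⊤ (genericPoint X) trivial _).symm
    refine ⟨s.1, b, fun h => s.2 (h ▸ Ideal.zero_mem _), RefOne.toK_injective x ?_⟩
    rw [map_mul, hc, hc, ← hw, ← map_mul]
    exact congrArg _ hbs
  have hQ : ∀ Q ∈ (Ideal.span {g}).minimalPrimes, ∃ c : A, c ≠ 0 ∧ φ c ∈ Q := fun Q hQ => by
    haveI := hQ.1.1
    have hgQ : g ∈ Q := hQ.1.2 (Ideal.subset_span rfl)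
    obtain ⟨s, b, hs, he⟩ := hdiv g
    refine ⟨b, fun hb => ?_, he ▸ Q.mul_mem_right _ hgQ⟩
    rw [hb, map_zero] at he
    have h1 : φ s = 0 := (mul_eq_zero.1 he).resolve_left hg
    have h2 : RefOne.toK x (φ s) = 0 := by rw [h1, map_zero]
    letI : Algebra A ((Spec (CommRingCat.of A)).presheaf.stalk (f (genericPoint X))) :=
      StructureSheaf.stalkAlgebra A (f (genericPoint X))
    haveI : IsLocalization.AtPrime ((Spec (CommRingCat.of A)).presheaf.stalk (f (genericPoint X)))
        (f (genericPoint X)).asIdeal := StructureSheaf.IsLocalization.to_stalk A _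
    have h3 : f.stalkMap (genericPoint X)
        (algebraMap A ((Spec (CommRingCat.of A)).presheaf.stalk (f (genericPoint X))) s) = 0 := by
      refine Eq.trans ?_ h2
      rw [hφ]
      show _ = (X.presheaf.stalkSpecializes _) (X.presheaf.germ ⊤ x trivial (Coh.toGlobal f s))
      rw [TopCat.Presheaf.germ_stalkSpecializes_apply]
      exact Scheme.Hom.germ_stalkMap_apply f ⊤ (genericPoint X) trivial _
    exact hs (IsLocalization.injective _ (Ideal.primeCompl_le_nonZeroDivisors (f (genericPoint X)).asIdeal)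
      (((ConcreteCategory.bijective_of_isIso (f.stalkMap (genericPoint X))).1 (h3.trans (map_zero _).symm)).trans
        (map_zero (algebraMap A ((Spec (CommRingCat.of A)).presheaf.stalk (f (genericPoint X))))).symm))
  choose c hc0 hcQ using hQ
  haveI : Fintype ↥(Ideal.span {g}).minimalPrimes := (Ideal.finite_minimalPrimes_of_isNoetherianRing _ _).fintype
  let a := ∏ Q : ↥(Ideal.span {g}).minimalPrimes, c Q.1 Q.2
  have ha : φ a ∈ (Ideal.span {g}).radical := by
    rw [← Ideal.sInf_minimalPrimes]
    refine Ideal.mem_sInf.2 fun {Q} hQ => ?_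
    rw [map_prod, ← Finset.mul_prod_erase _ _ (Finset.mem_univ (⟨Q, hQ⟩ : ↥(Ideal.span {g}).minimalPrimes))]
    exact Q.mul_mem_right _ (hcQ Q hQ)
  obtain ⟨n, hn⟩ := ha
  obtain ⟨q, hq⟩ := Ideal.mem_span_singleton'.1 hn
  exact ⟨a ^ n, q, pow_ne_zero _ (Finset.prod_ne_zero_iff.2 fun Q _ => hc0 Q.1 Q.2), by rw [map_pow, ← hq, mul_comm]⟩

/-- Let (A, m) be a local Noetherian normal domain of dimension two and f : X → Spec A a proper morphism
from an integral scheme which is an isomorphism over some nonempty open and is not an isomorphism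
(so that every irreducible component of the closed fibre is a curve). Then there is a nonzero a ∈ m
such that for every irreducible component C of the closed fibre, with generic point ξ, there are a
closed point x ∈ C lying on no other component and a factorization a = g · q in O_{X,x} with g in
the maximal ideal of O_{X,x} and g not vanishing identically on C near x, i.e. the image of g in
O_{X,ξ} is a unit. -/
theorem result (A : Type u) [CommRing A] [IsDomain A] [IsLocalRing A] [IsNoetherianRing A]
    [IsIntegrallyClosed A] (hdim : ringKrullDim A = 2)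
    (X : Scheme.{u}) (f : X ⟶ Spec (CommRingCat.of A)) [IsProper f] [IsIntegral X]
    (hbir : ∃ U : (Spec (CommRingCat.of A)).Opens, (U : Set (Spec (CommRingCat.of A))).Nonempty ∧ IsIso (f ∣_ U)) (hf : ¬ IsIso f) :
    ∃ a : A, a ≠ 0 ∧ a ∈ IsLocalRing.maximalIdeal A ∧
      ∀ C ∈ irreducibleComponents ↥(f.base ⁻¹' {IsLocalRing.closedPoint A}),
        ∃ (x ξ : ↥(f.base ⁻¹' {IsLocalRing.closedPoint A})) (hξx : (ξ : X) ⤳ (x : X)),
          x ∈ C ∧ IsGenericPoint ξ C ∧ IsClosed ({(x : X)} : Set X) ∧
          (∀ C' ∈ irreducibleComponents ↥(f.base ⁻¹' {IsLocalRing.closedPoint A}), C' ≠ C → x ∉ C') ∧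
          ∃ g q : X.presheaf.stalk (x : X), g ∈ IsLocalRing.maximalIdeal (X.presheaf.stalk (x : X)) ∧
            (X.presheaf.germ ⊤ (x : X) trivial).hom (Coh.toGlobal f a) = g * q ∧
            IsUnit ((X.presheaf.stalkSpecializes hξx).hom g) := by
  classical
  haveI : IsDomain (CommRingCat.of A) := inferInstanceAs (IsDomain A)
  haveI : IsNoetherianRing (CommRingCat.of A) := inferInstanceAs (IsNoetherianRing A)
  haveI : IsLocallyNoetherian X := LocallyOfFiniteType.isLocallyNoetherian f
  haveI : CompactSpace X := QuasiCompact.compactSpace_of_compactSpace f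
  haveI : AlgebraicGeometry.IsNoetherian X := { }
  obtain ⟨U₀, hU₀, hU₀i⟩ := hbir
  obtain ⟨hgen, hst⟩ := BirQFLib.birational_of_isIso_restrict f U₀ hU₀ hU₀i
  let m : Spec (CommRingCat.of A) := IsLocalRing.closedPoint A
  let F : Set X := f.base ⁻¹' {m}
  have hmc : IsClosed ({m} : Set (Spec (CommRingCat.of A))) := IsLocalRing.isClosed_singleton_closedPoint A
  have hFc : IsClosed F := hmc.preimage f.continuous
  haveI : NoetherianSpace ↥F := Topology.IsInducing.noetherianSpace ⟨rfl⟩
  haveI : QuasiSober ↥F := hFc.isClosedEmbedding_subtypeVal.quasiSober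
  -- every component has a good point
  have key : ∀ C ∈ irreducibleComponents ↥F, ∃ (x ξ : ↥F) (hξx : (ξ : X) ⤳ (x : X)),
      x ∈ C ∧ IsGenericPoint ξ C ∧ IsClosed ({(x : X)} : Set X) ∧
      (∀ C' ∈ irreducibleComponents ↥F, C' ≠ C → x ∉ C') ∧
      ∃ (a : A) (g q : X.presheaf.stalk (x : X)), a ≠ 0 ∧ a ∈ IsLocalRing.maximalIdeal A ∧
        g ∈ IsLocalRing.maximalIdeal (X.presheaf.stalk (x : X)) ∧
        (X.presheaf.germ ⊤ (x : X) trivial).hom (Coh.toGlobal f a) = g * q ∧
        IsUnit ((X.presheaf.stalkSpecializes hξx).hom g) := by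
    intro C hC
    have hCc : IsClosed C := isClosed_of_mem_irreducibleComponents C hC
    obtain ⟨ξ, hξ⟩ := QuasiSober.sober (hC.1) hCc
    -- the points of C on no other component
    let O : Set ↥F := (⋃₀ (irreducibleComponents ↥F \ {C}))ᶜ
    have hfin : (irreducibleComponents ↥F).Finite := NoetherianSpace.finite_irreducibleComponents
    have hOo : IsOpen O := by
      refine IsClosed.isOpen_compl (self := ?_)
      rw [Set.sUnion_eq_biUnion]
      exact (hfin.subset Set.sdiff_subset).isClosed_biUnion fun t ht => isClosed_of_mem_irreducibleComponents t ht.1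
    have hξO : ξ ∈ O := fun ⟨t, ⟨ht, htC⟩, hξt⟩ => htC (Set.Subset.antisymm (hC.2 ht.1
      (hξ.mem_closed_set_iff (isClosed_of_mem_irreducibleComponents t ht) |>.1 hξt))
      (hξ.mem_closed_set_iff (isClosed_of_mem_irreducibleComponents t ht) |>.1 hξt))
    have hOC : O ⊆ C := fun y hy => by
      by_contra hn
      exact hy ⟨irreducibleComponent y, ⟨irreducibleComponent_mem_irreducibleComponents y,
        fun h => hn ((show irreducibleComponent y = C from h) ▸ mem_irreducibleComponent)⟩, mem_irreducibleComponent⟩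
    -- a closed point in the open part
    let e := f.fiberHomeo m
    haveI : JacobsonSpace ↥(f.fiber m) := inferInstance
    obtain ⟨p, hpO, hpc⟩ := nonempty_inter_closedPoints (Z := e ⁻¹' O) ⟨e.symm ξ, by
      show e (e.symm ξ) ∈ O
      rw [Homeomorph.apply_symm_apply]; exact hξO⟩ (hOo.preimage e.continuous).isLocallyClosed
    let x : ↥F := e p
    have hxc : IsClosed ({x} : Set ↥F) := by
      have := e.isClosed_image.2 hpc
      rwa [Set.image_singleton] at this
    have hxC : x ∈ C := hOC hpO
    have hne : x ≠ ξ := fun h => by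
      have hCs : C = {ξ} := by
        rw [← hξ.def, ← h]; exact hxc.closure_eq
      have hop : IsOpen ({p} : Set ↥(f.fiber m)) := by
        rw [show ({p} : Set ↥(f.fiber m)) = e ⁻¹' O from Set.Subset.antisymm (Set.singleton_subset_iff.2 hpO) fun r hr => by
          have hr' : e r = ξ := by have := hOC hr; rwa [hCs] at this
          exact e.injective (hr'.trans h.symm)]
        exact hOo.preimage e.continuous
      obtain ⟨hfp, hq⟩ := BirQFLib.qf_of_isolated f p hop
      obtain ⟨V, hmV, hVi⟩ := BirQFLib.exists_nhd_isIso_of_normal_stalk f hgen hst _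
        ((S7303.isNormalScheme_Spec A _).2) hq
      have hV : V = ⊤ := (IsLocalRing.closedPoint_mem_iff V).1 (show m ∈ V by rw [← hfp]; exact hmV)
      subst hV
      haveI := hVi
      haveI : IsIso (⊤ : (Spec (CommRingCat.of A)).Opens).ι := inferInstanceAs (IsIso (Scheme.topIso _).hom)
      haveI : IsIso ((f ⁻¹ᵁ (⊤ : (Spec (CommRingCat.of A)).Opens)).ι ≫ f) := morphismRestrict_ι f ⊤ ▸ inferInstance
      haveI : IsIso (f ⁻¹ᵁ (⊤ : (Spec (CommRingCat.of A)).Opens)).ι := inferInstanceAs (IsIso (Scheme.topIso X).hom)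
      exact hf (IsIso.of_isIso_comp_left (f ⁻¹ᵁ (⊤ : (Spec (CommRingCat.of A)).Opens)).ι f)
    have hξx : (ξ : X) ⤳ (x : X) := (hξ.specializes hxC).map continuous_subtype_val
    have hxX : IsClosed ({(x : X)} : Set X) := by
      rw [show ({(x : X)} : Set X) = Subtype.val '' ({x} : Set ↥F) from Set.image_singleton.symm]
      exact hFc.isClosedEmbedding_subtypeVal.isClosedMap _ hxc
    -- a function vanishing at x but not along C
    let σ := (X.presheaf.stalkSpecializes hξx).hom
    obtain ⟨g, hgm, hgu⟩ : ∃ g ∈ IsLocalRing.maximalIdeal (X.presheaf.stalk (x : X)), IsUnit (σ g) := by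
      by_contra hno
      have hpt : (Spec.map (X.presheaf.stalkSpecializes hξx)) (IsLocalRing.closedPoint _) =
          IsLocalRing.closedPoint (X.presheaf.stalk (x : X)) := by
        refine PrimeSpectrum.ext (le_antisymm (IsLocalRing.le_maximalIdeal (PrimeSpectrum.isPrime _).ne_top)
          fun g hg => ?_)
        exact fun hu => hno ⟨g, hg, hu⟩
      have := congrArg (X.fromSpecStalk (x : X)) hpt
      rw [← Scheme.Hom.comp_apply, Scheme.SpecMap_stalkSpecializes_fromSpecStalk,
        Scheme.fromSpecStalk_closedPoint, Scheme.fromSpecStalk_closedPoint] at this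
      exact hne (Subtype.ext this.symm)
    have hg0 : g ≠ 0 := fun h => by rw [h, map_zero] at hgu; exact not_isUnit_zero hgu
    obtain ⟨a, q, ha, haq⟩ := exists_dvd_of_birational A X f hst (x : X) _ rfl g hg0
    refine ⟨x, ξ, hξx, hxC, hξ, hxX, fun C' hC' hCC hx => hpO ⟨C', ⟨hC', hCC⟩, hx⟩, a, g, q, ha, ?_, hgm, haq, hgu⟩
    by_contra hu
    exact hgm (isUnit_of_mul_isUnit_left (haq ▸ ((IsLocalRing.notMem_maximalIdeal.1 hu).map
      ((X.presheaf.germ ⊤ (x : X) trivial).hom.comp (Coh.toGlobal f)))))
  choose x ξ hξx h1 h2 h3 h4 a g q h5 h6 h7 h8 h9 using key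
  haveI : Fintype ↥(irreducibleComponents ↥F) := NoetherianSpace.finite_irreducibleComponents.fintype
  obtain ⟨t, ht, ht0⟩ : ∃ t ∈ IsLocalRing.maximalIdeal A, t ≠ 0 := by
    by_contra h
    push Not at h
    have hb : IsLocalRing.maximalIdeal A = ⊥ := (Submodule.eq_bot_iff _).2 h
    rw [← IsLocalRing.isField_iff_maximalIdeal_eq] at hb
    rw [ringKrullDim_eq_zero_of_isField hb] at hdim
    exact absurd hdim (by decide)
  let P := ∏ C : ↥(irreducibleComponents ↥F), a C.1 C.2
  refine ⟨t * P, mul_ne_zero ht0 (Finset.prod_ne_zero_iff.2 fun C _ => h5 C.1 C.2), Ideal.mul_mem_right _ _ ht,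
    fun C hC => ?_⟩
  obtain ⟨r, hr⟩ : a C hC ∣ t * P :=
    (Finset.dvd_prod_of_mem (fun D : ↥(irreducibleComponents ↥F) => a D.1 D.2) (Finset.mem_univ ⟨C, hC⟩)).mul_left t
  refine ⟨x C hC, ξ C hC, hξx C hC, h1 C hC, h2 C hC, h3 C hC, h4 C hC, g C hC,
    q C hC * (X.presheaf.germ ⊤ (x C hC : X) trivial).hom (Coh.toGlobal f r), h7 C hC, ?_, h9 C hC⟩
  rw [hr, map_mul, map_mul, h8 C hC, mul_assoc]

end Groth.Agent.S7336
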