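import Groth.Statements.S7339
import Groth.Agent.CastLib.LineIso
import Groth.Agent.CastLib.InterFibreClass
-- import your own Groth.Agent.* helpers here

set_option autoImplicit false
set_option backward.isDefEq.respectTransparency false
set_option maxHeartbeats 800000
set_option synthInstance.maxHeartbeats 200000
universe u
open CategoryTheory CategoryTheory.Limits AlgebraicGeometry
open Resolve

namespace Groth.Agent.S7339

/-- Let X be a Noetherian scheme, ι : E → X a closed immersion which is an exceptional curve of the
first kind, with ideal sheaf I and M = O_X(E) an inverse of I for the tensor product, and L an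
invertible O_X-module whose pullback to E ≅ P^1_k (for some field k and isomorphism e : P^1_k ≅ E)
is isomorphic to O(n). If H^1(X, L) = 0 and n ≥ 0, then H^1(X, L(iE)) = 0 for 0 ≤ i ≤ n + 1, where
L(iE) = L ⊗ M^{⊗ i}. (The published statement also asserts, for n ≤ 0, that H^1(X, L) → H^1(X, L(E))
is injective; this row states only the vanishing for n ≥ 0.) -/
theorem result {E X : Scheme.{u}} [IsNoetherian X] (ι : E ⟶ X) [IsClosedImmersion ι]
    (hE : Models.IsExcCurve ι) (M : X.Modules) (hM : ClSub.IsInverseOf M (ClSub.idealMod ι.ker))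
    (L : X.Modules) (hL : PicF.IsInvertible L)
    (k : Type u) [Field k] (e : CohB1.ProjSpace 1 k ≅ E) (n : ℕ)
    (hn : Nonempty ((Scheme.Modules.pullback (e.hom ≫ ι)).obj L ≅ Twist.twistProjSpace 1 k (n : ℤ)))
    (h1 : Subsingleton (Coh.HH X L 1)) (i : ℕ) (hi : i ≤ n + 1) :
    Subsingleton (Coh.HH X (CohB1.tensorMod L (CohB1.tensorPow M i)) 1) := by
    open Groth.Agent Groth.Agent.CastLib Groth.Agent.SurfPtBlow Groth.Agent.AmpleLib in
    classical
    let j : CohB1.ProjSpace 1 k ⟶ X := e.hom ≫ ι
    have hker : j.ker = ι.ker := Scheme.Hom.ker_comp_of_isIso e.hom ι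
    have hI : PicF.IsInvertible (ClSub.idealMod ι.ker) := (S8914.result ι.ker).2 hE.1
    obtain ⟨eM⟩ := hM
    have hMinv : PicF.IsInvertible M := TwistShriek.isInvertible_inverse eM
    have hdI : degOn j (ClSub.idealMod ι.ker) = 1 := degOn_exc_eq_one hE e
    have hMI : IntLib.mk M * IntLib.mk (ClSub.idealMod ι.ker) = 1 := by
      rw [← IntLib.mk_tensor, IntLib.mk_congr eM, IntLib.mk_structureModule]
    have hdM : degOn j M = -1 := by
      have := (degOn_congr j eM).trans (degOn_one j)
      rw [degOn_tensor j hMinv hI, hdI] at this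
      omega
    obtain ⟨eL⟩ := hn
    have hdL : degOn j L = n := (degP_congr (IntLib.mk_congr eL)).trans (degP_twist_nat n)
    let F : ℕ → X.Modules := fun i => CohB1.tensorMod L (CohB1.tensorPow M i)
    have hF : ∀ i, PicF.IsInvertible (F i) := fun i => isInvertible_tensor hL (isInvertible_tensorPow hMinv i)
    have hdF : ∀ i, degOn j (F i) = (n : ℤ) - i := fun i => by
      rw [degOn_tensor j hL (isInvertible_tensorPow hMinv i), degOn_tensorPow j hMinv, hdM, hdL]
      ring
    have hstep : ∀ i, Nonempty (CohB1.tensorMod (ClSub.idealMod j.ker) (F (i + 1)) ≅ F i) := fun i => by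
      rw [hker]
      refine IntLib.mk_eq_mk.1 ?_
      simp only [F, IntLib.mk_tensor, IntLib.mk_tensorPow, pow_succ]
      calc _ = IntLib.mk L * IntLib.mk M ^ i * (IntLib.mk M * IntLib.mk (ClSub.idealMod ι.ker)) := by ac_rfl
        _ = _ := by rw [hMI, mul_one]
    show Subsingleton (Coh.HH X (F i) 1)
    induction i with
    | zero => exact CurveLib.subsingleton_HH_iso (unitR L).symm 1 h1
    | succ i ih =>
      obtain ⟨f⟩ := hstep i
      refine subsingleton_step j (hF _) (CurveLib.subsingleton_HH_iso f.symm 1 (ih (by omega))) ?_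
      rw [hdF]
      omega

end Groth.Agent.S7339
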