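import Groth.Statements.S7340
import Mathlib

set_option autoImplicit false
universe u
open Polynomial
open Resolve

namespace Groth.Agent.S7340

open Polynomial

variable {p : ℕ} [Fact p.Prime] {R : Type u} [CommRing R] [CharP R p] {b : R}


theorem root_pow : (AdjoinRoot.root (X ^ p - C b : R[X])) ^ p = algebraMap R (AdjoinRoot (X ^ p - C b : R[X])) b := by
  have h := AdjoinRoot.eval₂_root (X ^ p - C b : R[X])
  simpa [sub_eq_zero, AdjoinRoot.algebraMap_eq] using h

theorem span_powers (P : (AdjoinRoot (X ^ p - C b : R[X])) → Prop) (h0 : P 0) (hadd : ∀ u v, P u → P v → P (u + v))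
    (hmon : ∀ (c : R) (j : ℕ), j < p → P (c • (AdjoinRoot.root (X ^ p - C b : R[X])) ^ j)) (u : (AdjoinRoot (X ^ p - C b : R[X]))) : P u := by
  haveI : Nontrivial R := CharP.nontrivial_of_char_ne_one (v := p) (Fact.out : p.Prime).ne_one
  have hm : (X ^ p - C b : R[X]).Monic := monic_X_pow_sub_C b (Fact.out : p.Prime).ne_zero
  let B := AdjoinRoot.powerBasis' hm
  have hdim : B.dim = p := by simp [B, natDegree_X_pow_sub_C]
  rw [← B.basis.sum_repr u]
  refine Finset.sum_induction _ P hadd h0 fun i _ => ?_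
  rw [B.basis_eq_pow, AdjoinRoot.powerBasis'_gen]
  exact hmon _ _ (i.2.trans_eq hdim)

variable (T : Ω[(AdjoinRoot (X ^ p - C b : R[X]))⁄R] →ₗ[R] Ω[R⁄ℤ])
  (hT : ∀ i : ℕ, i + 2 ≤ p → T ((AdjoinRoot.root (X ^ p - C b : R[X])) ^ i • KaehlerDifferential.D R (AdjoinRoot (X ^ p - C b : R[X])) (AdjoinRoot.root (X ^ p - C b : R[X]))) = 0)
  (hT' : T ((AdjoinRoot.root (X ^ p - C b : R[X])) ^ (p - 1) • KaehlerDifferential.D R (AdjoinRoot (X ^ p - C b : R[X])) (AdjoinRoot.root (X ^ p - C b : R[X]))) = KaehlerDifferential.D ℤ R b)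

include hT in
theorem exact_zero (u : (AdjoinRoot (X ^ p - C b : R[X]))) : T (KaehlerDifferential.D R (AdjoinRoot (X ^ p - C b : R[X])) u) = 0 := by
  refine span_powers (fun u => T (KaehlerDifferential.D R (AdjoinRoot (X ^ p - C b : R[X])) u) = 0) (by simp) (fun u v hu hv => by simp [hu, hv]) (fun c j hj => ?_) u
  rw [Derivation.map_smul, map_smul, Derivation.leibniz_pow, map_nsmul]
  rcases Nat.eq_zero_or_pos j with rfl | h
  · simp
  · rw [hT (j - 1) (by omega)]; simp

/-- The Cartier defect. -/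
noncomputable def cdef (u : (AdjoinRoot (X ^ p - C b : R[X]))) : Ω[R⁄ℤ] :=
  T (u ^ (p - 1) • KaehlerDifferential.D R (AdjoinRoot (X ^ p - C b : R[X])) u)

include hT in
theorem cdef_add (u v : (AdjoinRoot (X ^ p - C b : R[X]))) : cdef T (u + v) = cdef T u + cdef T v := by
  have hp : 1 ≤ p := (Fact.out : p.Prime).one_le
  obtain ⟨q, rfl⟩ : ∃ q, p = q + 1 := ⟨p - 1, by omega⟩
  have hq : q + 1 - 1 = q := rfl
  let a : ℕ → ℕ := fun i => (q + 1).choose i / (q + 1)
  have ha : ∀ i, 1 ≤ i → i ≤ q → (q + 1) * a i = (q + 1).choose i := fun i h1 h2 =>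
    Nat.mul_div_cancel' ((Fact.out : (q + 1).Prime).dvd_choose_self (by omega) (by omega))
  have ha1 : ∀ i ∈ Finset.Ico 1 (q + 1), a i * i = q.choose (i - 1) ∧ a i * (q + 1 - i) = q.choose i := fun i hi => by
    rw [Finset.mem_Ico] at hi
    obtain ⟨i, rfl⟩ : ∃ j, i = j + 1 := ⟨i - 1, by omega⟩
    constructor
    · apply Nat.eq_of_mul_eq_mul_left (show 0 < q + 1 by omega)
      rw [← mul_assoc, ha _ (by omega) (by omega), Nat.add_sub_cancel, Nat.add_one_mul_choose_eq]
    · apply Nat.eq_of_mul_eq_mul_left (show 0 < q + 1 by omega)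
      rw [← mul_assoc, ha _ (by omega) (by omega), mul_comm (q + 1), ← Nat.choose_mul_succ_eq]
  let w : (AdjoinRoot (X ^ (q + 1) - C b : R[X])) := ∑ i ∈ Finset.Ico 1 (q + 1), a i • (u ^ i * v ^ (q + 1 - i))
  have hw : KaehlerDifferential.D R (AdjoinRoot (X ^ (q + 1) - C b : R[X])) w =
      ((u + v) ^ q - u ^ q) • KaehlerDifferential.D R (AdjoinRoot (X ^ (q + 1) - C b : R[X])) u + ((u + v) ^ q - v ^ q) • KaehlerDifferential.D R (AdjoinRoot (X ^ (q + 1) - C b : R[X])) v := by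
    simp only [w, map_sum, map_nsmul, Derivation.leibniz, Derivation.leibniz_pow, smul_add, Finset.sum_add_distrib]
    refine (add_comm _ _).trans ?_
    congr 1
    · rw [add_pow, Finset.sum_range_succ _ q, Nat.choose_self, Nat.sub_self, pow_zero, mul_one, Nat.cast_one, mul_one, add_sub_cancel_right,
        Finset.sum_smul, Finset.sum_Ico_eq_sum_range, Nat.add_sub_cancel]
      refine Finset.sum_congr rfl fun i hi => ?_
      rw [Finset.mem_range] at hi
      have h1 := (ha1 (1 + i) (Finset.mem_Ico.2 ⟨by omega, by omega⟩)).1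
      rw [show 1 + i - 1 = i by omega] at h1
      rw [show 1 + i - 1 = i by omega, show q + 1 - (1 + i) = q - i by omega, smul_comm (v ^ (q - i)) (1 + i : ℕ),
        smul_smul, smul_smul, h1, ← Nat.cast_smul_eq_nsmul (AdjoinRoot (X ^ (q + 1) - C b : R[X])), smul_smul]
      congr 1; ring
    · rw [add_pow, Finset.sum_range_succ' _ q, Nat.choose_zero_right, Nat.sub_zero, pow_zero, one_mul, Nat.cast_one, mul_one, add_sub_cancel_right,
        Finset.sum_smul, Finset.sum_Ico_eq_sum_range, Nat.add_sub_cancel]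
      refine Finset.sum_congr rfl fun i hi => ?_
      rw [Finset.mem_range] at hi
      have h1 := (ha1 (1 + i) (Finset.mem_Ico.2 ⟨by omega, by omega⟩)).2
      rw [show q + 1 - (1 + i) - 1 = q - (i + 1) by omega, show 1 + i = i + 1 by omega] at *
      rw [smul_comm (u ^ (i + 1)) (q + 1 - (i + 1) : ℕ), smul_smul, smul_smul, h1, ← Nat.cast_smul_eq_nsmul (AdjoinRoot (X ^ (q + 1) - C b : R[X])), smul_smul]
      congr 1; ring
  have h := exact_zero T hT w
  rw [hw] at h
  rw [cdef, cdef, cdef, hq, ← map_add, ← sub_eq_zero, ← map_sub, map_add, smul_add]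
  convert h using 2
  simp only [sub_smul]; abel

include hT hT' in
theorem cdef_eq (u : (AdjoinRoot (X ^ p - C b : R[X]))) : ∀ a : R, u ^ p = algebraMap R (AdjoinRoot (X ^ p - C b : R[X])) a → cdef T u = KaehlerDifferential.D ℤ R a := by
  haveI : Nontrivial R := CharP.nontrivial_of_char_ne_one (v := p) (Fact.out : p.Prime).ne_one
  have hp : 1 ≤ p := (Fact.out : p.Prime).one_le
  have hinj : Function.Injective (algebraMap R (AdjoinRoot (X ^ p - C b : R[X]))) := by
    rw [injective_iff_map_eq_zero]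
    intro c hc
    rw [AdjoinRoot.algebraMap_eq, ← AdjoinRoot.mk_C, AdjoinRoot.mk_eq_zero] at hc
    by_contra hc0
    refine (monic_X_pow_sub_C b (show p ≠ 0 by omega)).not_dvd_of_natDegree_lt (by simpa using hc0) ?_ hc
    rw [natDegree_C, natDegree_X_pow_sub_C]; omega
  haveI : CharP (AdjoinRoot (X ^ p - C b : R[X])) p := charP_of_injective_algebraMap hinj p
  suffices ∃ a : R, u ^ p = algebraMap R (AdjoinRoot (X ^ p - C b : R[X])) a ∧ cdef T u = KaehlerDifferential.D ℤ R a by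
    obtain ⟨a, h1, h2⟩ := this
    intro a' h'
    rw [h2, hinj (h1.symm.trans h')]
  refine span_powers (fun u => ∃ a : R, u ^ p = algebraMap R (AdjoinRoot (X ^ p - C b : R[X])) a ∧ cdef T u = KaehlerDifferential.D ℤ R a)
    ⟨0, by simp [show p ≠ 0 by omega], by simp [cdef]⟩ ?_ ?_ u
  · rintro u v ⟨a, hu, hu'⟩ ⟨c, hv, hv'⟩
    exact ⟨a + c, by rw [add_pow_char, hu, hv, map_add], by rw [cdef_add T hT, hu', hv', map_add]⟩
  · intro c j _
    refine ⟨c ^ p * b ^ j, ?_, ?_⟩
    · rw [_root_.smul_pow, ← pow_mul, mul_comm j p, pow_mul, root_pow, Algebra.smul_def, ← map_pow, ← map_mul]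
    · have hdc : KaehlerDifferential.D ℤ R (c ^ p) = 0 := by
        rw [Derivation.leibniz_pow, ← Nat.cast_smul_eq_nsmul R, CharP.cast_eq_zero, zero_smul]
      rw [Derivation.leibniz, hdc, smul_zero, add_zero, Derivation.leibniz_pow]
      unfold cdef
      rcases Nat.eq_zero_or_pos j with rfl | hj
      · simp
      · rw [Derivation.map_smul, Derivation.leibniz_pow, smul_comm ((c • (AdjoinRoot.root (X ^ p - C b : R[X])) ^ j) ^ (p - 1)) c, map_smul, smul_comm ((c • (AdjoinRoot.root (X ^ p - C b : R[X])) ^ j) ^ (p - 1)) j,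
          map_nsmul, smul_smul, _root_.smul_pow, smul_mul_assoc, smul_assoc, map_smul, ← pow_mul, ← pow_add]
        have e : j * (p - 1) + (j - 1) = p * (j - 1) + (p - 1) := by
          obtain ⟨i, rfl⟩ : ∃ i, j = i + 1 := ⟨j - 1, by omega⟩
          obtain ⟨q, hq⟩ : ∃ q, p = q + 1 := ⟨p - 1, by omega⟩
          rw [hq]; simp; ring
        rw [e, pow_add, pow_mul, root_pow, ← map_pow, ← Algebra.smul_def, smul_assoc, map_smul, hT']
        have e2 : c * c ^ (p - 1) = c ^ p := by rw [← pow_succ', show p - 1 + 1 = p by omega]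
        simp only [← Nat.cast_smul_eq_nsmul R, smul_smul]
        congr 1
        rw [← e2]; ring

include hT hT' in
theorem T_pow (u : (AdjoinRoot (X ^ p - C b : R[X]))) (a : R) (hu : u ^ p = algebraMap R (AdjoinRoot (X ^ p - C b : R[X])) a) (m : ℕ) :
    T (u ^ m • KaehlerDifferential.D R (AdjoinRoot (X ^ p - C b : R[X])) u) =
      if m % p = p - 1 then a ^ (m / p) • KaehlerDifferential.D ℤ R a else 0 := by
  have hp : 1 ≤ p := (Fact.out : p.Prime).one_le
  conv_lhs => rw [← Nat.div_add_mod m p, pow_add, pow_mul, hu, ← map_pow, ← Algebra.smul_def, smul_assoc, map_smul]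
  split_ifs with h
  · rw [h]; exact congrArg _ (cdef_eq T hT hT' u a hu)
  · have hlt : m % p + 1 < p := by have := Nat.mod_lt m (show p > 0 by omega); omega
    have hu' : IsUnit ((m % p + 1 : ℕ) : R) := by
      rw [CharP.isUnit_natCast_iff (Fact.out : p.Prime)]
      exact fun hd => by have := Nat.le_of_dvd (by omega) hd; omega
    have h2 := exact_zero T hT (u ^ (m % p + 1))
    rw [Derivation.leibniz_pow, map_nsmul, Nat.add_sub_cancel, ← Nat.cast_smul_eq_nsmul R, hu'.smul_eq_zero] at h2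
    rw [h2, smul_zero]

theorem main {a : R} (φ : AdjoinRoot (X ^ p - C a : R[X]) →ₐ[R] (AdjoinRoot (X ^ p - C b : R[X]))) (Tx : Ω[AdjoinRoot (X ^ p - C a : R[X])⁄R] →ₗ[R] Ω[R⁄ℤ])
    (hTx : ∀ i : ℕ, i + 2 ≤ p →
      Tx (AdjoinRoot.root (X ^ p - C a) ^ i • KaehlerDifferential.D R _ (AdjoinRoot.root (X ^ p - C a))) = 0)
    (hTx' : Tx (AdjoinRoot.root (X ^ p - C a) ^ (p - 1) • KaehlerDifferential.D R _ (AdjoinRoot.root (X ^ p - C a))) =
      KaehlerDifferential.D ℤ R a)
    (Ty : Ω[(AdjoinRoot (X ^ p - C b : R[X]))⁄R] →ₗ[R] Ω[R⁄ℤ])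
    (hTy : ∀ i : ℕ, i + 2 ≤ p → Ty ((AdjoinRoot.root (X ^ p - C b : R[X])) ^ i • KaehlerDifferential.D R (AdjoinRoot (X ^ p - C b : R[X])) (AdjoinRoot.root (X ^ p - C b : R[X]))) = 0)
    (hTy' : Ty ((AdjoinRoot.root (X ^ p - C b : R[X])) ^ (p - 1) • KaehlerDifferential.D R (AdjoinRoot (X ^ p - C b : R[X])) (AdjoinRoot.root (X ^ p - C b : R[X]))) = KaehlerDifferential.D ℤ R b)
    (s t : AdjoinRoot (X ^ p - C a : R[X])) :
    Tx (s • KaehlerDifferential.D R _ t) = Ty (φ s • KaehlerDifferential.D R _ (φ t)) := by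
  set x := AdjoinRoot.root (X ^ p - C a : R[X]) with hx
  have hu : φ x ^ p = algebraMap R (AdjoinRoot (X ^ p - C b : R[X])) a := by rw [← map_pow, root_pow, AlgHom.commutes]
  have key : ∀ m, Tx (x ^ m • KaehlerDifferential.D R _ x) = Ty (φ x ^ m • KaehlerDifferential.D R _ (φ x)) := fun m => by
    rw [T_pow Tx hTx hTx' x a root_pow m, T_pow Ty hTy hTy' (φ x) a hu m]
  refine span_powers (fun s => Tx (s • KaehlerDifferential.D R _ t) = Ty (φ s • KaehlerDifferential.D R _ (φ t)))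
    (by simp) (fun u v hu hv => by simp [add_smul, hu, hv]) (fun c i _ => ?_) s
  refine span_powers (fun t => Tx ((c • x ^ i) • KaehlerDifferential.D R _ t) = Ty (φ (c • x ^ i) • KaehlerDifferential.D R _ (φ t)))
    (by simp) (fun u v hu hv => by simp only [map_add, smul_add, hu, hv]) (fun d j _ => ?_) t
  rcases Nat.eq_zero_or_pos j with rfl | hj
  · simp
  rw [map_smul φ, map_smul φ, map_pow, map_pow, Derivation.map_smul, Derivation.map_smul, Derivation.leibniz_pow, Derivation.leibniz_pow]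
  rw [smul_assoc, smul_assoc, smul_comm (x ^ i) d, smul_comm (φ x ^ i) d, smul_comm (x ^ i) j, smul_comm (φ x ^ i) j,
    smul_smul (x ^ i), smul_smul (φ x ^ i), ← hx, ← pow_add, ← pow_add]
  simp only [LinearMap.map_smul, map_nsmul, key]

/-- Let p be a prime number and R an F_p-algebra, a, b ∈ R, S_a = R[x]/(x^p - a) and S_b = R[y]/(y^p -
b). The trace Tr_x : Ω_{S_a/R} → Ω_R is the R-linear map with x^i dx ↦ 0 for 0 ≤ i ≤ p - 2 and
x^{p-1} dx ↦ da (these determine it, Ω_{S_a/R} being free over R on the x^i dx), and similarly Tr_y.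
Then for every R-algebra homomorphism φ : S_a → S_b one has Tr_x = Tr_y ∘ φ_*: for all s, t ∈ S_a,
Tr_x(s dt) = Tr_y(φ(s) dφ(t)). Here Ω_R is the module of absolute differentials Ω_{R/Z}. -/
theorem result (p : ℕ) [Fact p.Prime] (R : Type u) [CommRing R] [CharP R p] (a b : R)
    (φ : AdjoinRoot (X ^ p - C a : R[X]) →ₐ[R] AdjoinRoot (X ^ p - C b : R[X]))
    (Tx : Ω[AdjoinRoot (X ^ p - C a : R[X])⁄R] →ₗ[R] Ω[R⁄ℤ])
    (Ty : Ω[AdjoinRoot (X ^ p - C b : R[X])⁄R] →ₗ[R] Ω[R⁄ℤ])
    (hTx : ∀ i : ℕ, i + 2 ≤ p →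
      Tx (AdjoinRoot.root (X ^ p - C a) ^ i • KaehlerDifferential.D R _ (AdjoinRoot.root (X ^ p - C a))) = 0)
    (hTx' : Tx (AdjoinRoot.root (X ^ p - C a) ^ (p - 1) • KaehlerDifferential.D R _ (AdjoinRoot.root (X ^ p - C a))) =
      KaehlerDifferential.D ℤ R a)
    (hTy : ∀ i : ℕ, i + 2 ≤ p →
      Ty (AdjoinRoot.root (X ^ p - C b) ^ i • KaehlerDifferential.D R _ (AdjoinRoot.root (X ^ p - C b))) = 0)
    (hTy' : Ty (AdjoinRoot.root (X ^ p - C b) ^ (p - 1) • KaehlerDifferential.D R _ (AdjoinRoot.root (X ^ p - C b))) =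
      KaehlerDifferential.D ℤ R b)
    (s t : AdjoinRoot (X ^ p - C a : R[X])) :
    Tx (s • KaehlerDifferential.D R _ t) = Ty (φ s • KaehlerDifferential.D R _ (φ t)) := by
  exact main φ Tx hTx hTx' Ty hTy hTy' s t

end Groth.Agent.S7340
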