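import Groth.Statements.S7341
import Groth.Agent.NumTypeLib.Config

set_option autoImplicit false
open Finset
open Models Models.NumericalType

namespace Groth.Agent.S7341

open Groth.Agent.NumTypeLib

/-- Classification of proper subgraphs which are chains of three vertices: let T be a numerical type on
n > 3 indices and i, j, k distinct (-2)-indices with a_ij > 0 and a_jk > 0. Then a_ik = 0 and, up to
reversing the order of i, j, k, one of the following holds for some integer w: (A3) w_i = w_j = w_k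
= w, a_ij = a_jk = w, with 2 m_i ≥ m_j, 2 m_j ≥ m_i + m_k, 2 m_k ≥ m_j; (C3) w_i = w_j = w, w_k =
2w, a_ij = w, a_jk = 2w, with 2 m_i ≥ m_j, 2 m_j ≥ m_i + 2 m_k, 2 m_k ≥ m_j; (B3) w_i = w_j = 2w,
w_k = w, a_ij = a_jk = 2w, with 2 m_i ≥ m_j, 2 m_j ≥ m_i + m_k, m_k ≥ m_j. -/
theorem result {n : ℕ} (T : Models.NumericalType n) (hn : 3 < n) (i j k : Fin n)
    (hij : i ≠ j) (hjk : j ≠ k) (hik : i ≠ k) (hi : T.IsMinusTwo i) (hj : T.IsMinusTwo j) (hk : T.IsMinusTwo k)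
    (h1 : 0 < T.a i j) (h2 : 0 < T.a j k) :
    T.a i k = 0 ∧ ∃ (i' k' : Fin n) (w : ℤ), ((i' = i ∧ k' = k) ∨ (i' = k ∧ k' = i)) ∧
      ((T.w i' = w ∧ T.w j = w ∧ T.w k' = w ∧ T.a i' j = w ∧ T.a j k' = w ∧
          T.m j ≤ 2 * T.m i' ∧ T.m i' + T.m k' ≤ 2 * T.m j ∧ T.m j ≤ 2 * T.m k') ∨
        (T.w i' = w ∧ T.w j = w ∧ T.w k' = 2 * w ∧ T.a i' j = w ∧ T.a j k' = 2 * w ∧
          T.m j ≤ 2 * T.m i' ∧ T.m i' + 2 * T.m k' ≤ 2 * T.m j ∧ T.m j ≤ 2 * T.m k') ∨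
        (T.w i' = 2 * w ∧ T.w j = 2 * w ∧ T.w k' = w ∧ T.a i' j = 2 * w ∧ T.a j k' = 2 * w ∧
          T.m j ≤ 2 * T.m i' ∧ T.m i' + T.m k' ≤ 2 * T.m j ∧ T.m j ≤ T.m k')) := by
  have hv : Function.Injective ![i, j, k] := by
    intro a b hab; fin_cases a <;> fin_cases b <;> simp_all
  have hv2 : ∀ a, T.IsMinusTwo (![i, j, k] a) := by intro a; fin_cases a <;> assumption
  have hz : T.a i k = 0 := tree_zero T ![i, j, k] hv (by simpa using hn) hv2
    (⟨![0, 1], ![1, 2]⟩ : Edges (Fin 3) (Fin 2)) (by decide)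
    (by intro e; fin_cases e <;> simpa) (by simp) 0 2 (by decide) (by decide)
  have ri := row1 T hi hij
  have rj := row2 T hj hij.symm hjk hik
  have rk := row1 T hk hjk.symm
  rw [a_symm T k j] at rk
  rw [a_symm T j i] at rj
  refine ⟨hz, ?_⟩
  have h1' : 0 < T.a k j := by rwa [a_symm]
  have two : Heavy T i j → Heavy T j k → False := fun e f =>
    double_heavy T 0 ![i, j, k] hv (by simpa using hn) hv2 (by intro a; fin_cases a <;> simpa) e f
  have hwi := T.w_pos i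
  have hwj := T.w_pos j
  have hwk := T.w_pos k
  rcases edge2 T hn hi hj hk hik hjk h1 (Or.inr h2) with ⟨ea, ew⟩ | e | e <;>
    rcases edge2 T hn hj hk hi hij.symm hik.symm h2 (Or.inl (by rwa [a_symm])) with ⟨fa, fw⟩ | f | f
  · refine ⟨i, k, T.w i, Or.inl ⟨rfl, rfl⟩, Or.inl ⟨rfl, ew, fw.trans ew, ea, fa.trans ew, ?_, ?_, ?_⟩⟩
    · rw [ea] at ri; nlinarith
    · rw [ea, fa, ew] at rj; nlinarith
    · rw [fa, fw] at rk; nlinarith
  · obtain ⟨fw, fa⟩ := f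
    refine ⟨i, k, T.w i, Or.inl ⟨rfl, rfl⟩, Or.inr (Or.inl ⟨rfl, ew, by omega, ea, by omega, ?_, ?_, ?_⟩)⟩
    · rw [ea] at ri; nlinarith
    · rw [ea, fa, ew] at rj; nlinarith
    · rw [fa, fw] at rk; nlinarith
  · obtain ⟨fw, fa⟩ := f
    rw [a_symm T k j] at fa
    refine ⟨i, k, T.w k, Or.inl ⟨rfl, rfl⟩, Or.inr (Or.inr ⟨by omega, fw, rfl, by omega, fa, ?_, ?_, ?_⟩)⟩
    · rw [ea] at ri; nlinarith
    · rw [ea, fa, fw, ← ew, fw] at rj; nlinarith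
    · rw [fa] at rk; nlinarith
  · obtain ⟨ew, ea⟩ := e
    refine ⟨k, i, T.w i, Or.inr ⟨rfl, rfl⟩, Or.inr (Or.inr ⟨by omega, ew, rfl, by rw [a_symm]; omega,
      by rw [a_symm]; omega, ?_, ?_, ?_⟩)⟩
    · rw [fa, fw] at rk; nlinarith
    · rw [ea, fa, ew] at rj; nlinarith
    · rw [ea] at ri; nlinarith
  · exact (two e.heavy f.heavy).elim
  · exact (two e.heavy f.heavy').elim
  · obtain ⟨ew, ea⟩ := e
    rw [a_symm T j i] at ea
    refine ⟨k, i, T.w j, Or.inr ⟨rfl, rfl⟩, Or.inr (Or.inl ⟨fw, rfl, ew, by rw [a_symm]; omega,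
      by rw [a_symm]; omega, ?_, ?_, ?_⟩)⟩
    · rw [fa, fw] at rk; nlinarith
    · rw [ea, fa] at rj; nlinarith
    · rw [ea, ew] at ri; nlinarith
  · exact (two e.heavy' f.heavy).elim
  · exact (two e.heavy' f.heavy').elim

end Groth.Agent.S7341
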