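import Groth.Statements.S7342
import Groth.Agent.NumTypeLib.Config

set_option autoImplicit false
open Finset
open Models Models.NumericalType

namespace Groth.Agent.S7342

open Groth.Agent.NumTypeLib

/-- Let T be a numerical type on n indices, t ≥ 4 and n > t + 2. Then no t + 2 (-2)-indices of T,
pairwise distinct and numbered i_0, …, i_{t+1}, satisfy: a_{i_j i_{j+1}} > 0 for 1 ≤ j ≤ t - 1,
a_{i_0 i_2} > 0 and a_{i_{t-1} i_{t+1}} > 0. -/
theorem result {n : ℕ} (T : Models.NumericalType n) (t : ℕ) (ht : 4 ≤ t) (hn : t + 2 < n)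
    (v : Fin (t + 2) ↪ Fin n) (hv : ∀ j, T.IsMinusTwo (v j))
    (hchain : ∀ j j' : Fin (t + 2), 1 ≤ j.val → j.val + 1 ≤ t → j'.val = j.val + 1 → 0 < T.a (v j) (v j'))
    (h02 : ∀ j j' : Fin (t + 2), j.val = 0 → j'.val = 2 → 0 < T.a (v j) (v j'))
    (hlast : ∀ j j' : Fin (t + 2), j.val = t - 1 → j'.val = t + 1 → 0 < T.a (v j) (v j')) : False := by
  refine double_fork T (t - 3)
    (v ∘ Sum.elim (Sum.elim (fun b => if b then ⟨0, by omega⟩ else ⟨1, by omega⟩)
      (fun b => if b then ⟨t, by omega⟩ else ⟨t + 1, by omega⟩))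
      (fun i => ⟨i.val + 2, by omega⟩)) (v.injective.comp ?_) (by omega) (fun _ => hv _) ?_ ?_ ?_
  · rintro ((b | b) | i) ((b' | b') | i') h <;> (try cases b) <;> (try cases b') <;>
      simp only [Sum.elim_inl, Sum.elim_inr, Bool.false_eq_true, if_true, if_false, Fin.mk.injEq] at h <;>
      first | rfl | omega | exact congrArg _ (Fin.ext (by omega))
  · intro b
    cases b
    · exact hchain _ _ le_rfl (by simp <;> omega) (by simp)
    · exact h02 _ _ rfl (by simp)
  · intro b
    cases b
    · rw [a_symm]; exact hlast _ _ (by simp <;> omega) rfl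
    · rw [a_symm]; exact hchain _ _ (by simp) (by simp <;> omega) (by simp <;> omega)
  · intro i
    exact hchain _ _ (by simp) (by simp <;> omega) (by simp <;> omega)

end Groth.Agent.S7342
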