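import Groth.Statements.S7344
import Groth.Agent.NumTypeLib.Config

set_option autoImplicit false
open Finset
open Models Models.NumericalType

namespace Groth.Agent.S7344

open Groth.Agent.NumTypeLib

/-- Let T be a numerical type on n > 8 indices. Then no eight (-2)-indices of T, pairwise distinct and
named e, f, g, h, i, j, k, l, have a_ef, a_fg, a_gh, a_hi, a_ij, a_jk and a_lh all nonzero (a chain
of seven, e to k, with l joined to its fourth vertex h). -/
theorem result {n : ℕ} (T : Models.NumericalType n) (hn : 8 < n)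
    (v : Fin 8 ↪ Fin n) (hv : ∀ j, T.IsMinusTwo (v j))
    (h01 : T.a (v 0) (v 1) ≠ 0) (h12 : T.a (v 1) (v 2) ≠ 0) (h23 : T.a (v 2) (v 3) ≠ 0)
    (h34 : T.a (v 3) (v 4) ≠ 0) (h45 : T.a (v 4) (v 5) ≠ 0) (h56 : T.a (v 5) (v 6) ≠ 0)
    (h73 : T.a (v 7) (v 3) ≠ 0) : False := by
  have p0 : 0 < T.a (v 0) (v 1) :=
    lt_of_le_of_ne (T.offDiag_nonneg _ _ (v.injective.ne (by decide))) (Ne.symm h01)
  have p1 : 0 < T.a (v 1) (v 2) :=
    lt_of_le_of_ne (T.offDiag_nonneg _ _ (v.injective.ne (by decide))) (Ne.symm h12)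
  have p2 : 0 < T.a (v 2) (v 3) :=
    lt_of_le_of_ne (T.offDiag_nonneg _ _ (v.injective.ne (by decide))) (Ne.symm h23)
  have p3 : 0 < T.a (v 3) (v 4) :=
    lt_of_le_of_ne (T.offDiag_nonneg _ _ (v.injective.ne (by decide))) (Ne.symm h34)
  have p4 : 0 < T.a (v 4) (v 5) :=
    lt_of_le_of_ne (T.offDiag_nonneg _ _ (v.injective.ne (by decide))) (Ne.symm h45)
  have p5 : 0 < T.a (v 5) (v 6) :=
    lt_of_le_of_ne (T.offDiag_nonneg _ _ (v.injective.ne (by decide))) (Ne.symm h56)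
  have p6 : 0 < T.a (v 7) (v 3) :=
    lt_of_le_of_ne (T.offDiag_nonneg _ _ (v.injective.ne (by decide))) (Ne.symm h73)
  refine no_test T v v.injective (by simpa using hn) hv
    (⟨![0, 1, 2, 3, 4, 5, 7], ![1, 2, 3, 4, 5, 6, 3]⟩ : Edges (Fin 8) (Fin 7)) (by decide) (fun _ => 1) ?_ ?_ ![1, 2, 3, 4, 3, 2, 1, 2] ?_ 0
    (by simp) ?_
  · intro e; fin_cases e <;> assumption
  · intro e; fin_cases e <;> exact one_ww T (by assumption)
  · intro a; fin_cases a <;> simp
  · simp [Fin.sum_univ_succ]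
    norm_num

end Groth.Agent.S7344
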