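import Groth.Statements.S7346
import Groth.Agent.NumTypeLib.Config

set_option autoImplicit false
open Finset
open Models Models.NumericalType

namespace Groth.Agent.S7346

open Groth.Agent.NumTypeLib

/-- Classification of proper subgraphs of type D4 (one vertex joined to three others): let T be a
numerical type on n > 4 indices and i_1, …, i_4 distinct (-2)-indices with a_{12}, a_{13}, a_{14}
nonzero. Then for some integer w all w_{i_j} equal w, these intersection numbers equal w, all other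
a_{i_j i_k} (j ≠ k) vanish, and 2 m_1 ≥ m_2 + m_3 + m_4, 2 m_2 ≥ m_1, 2 m_3 ≥ m_1, 2 m_4 ≥ m_1. -/
theorem result {n : ℕ} (T : Models.NumericalType n) (hn : 4 < n)
    (v : Fin 4 ↪ Fin n) (hv : ∀ j, T.IsMinusTwo (v j)) (h01 : T.a (v 0) (v 1) ≠ 0) (h02 : T.a (v 0) (v 2) ≠ 0) (h03 : T.a (v 0) (v 3) ≠ 0) :
    ∃ w : ℤ, (∀ j : Fin 4, T.w (v j) = w) ∧
      T.a (v 0) (v 1) = w ∧
      T.a (v 0) (v 2) = w ∧
      T.a (v 0) (v 3) = w ∧
      T.a (v 1) (v 2) = 0 ∧
      T.a (v 1) (v 3) = 0 ∧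
      T.a (v 2) (v 3) = 0 ∧
      T.m (v 1) + T.m (v 2) + T.m (v 3) ≤ 2 * T.m (v 0) ∧
      T.m (v 0) ≤ 2 * T.m (v 1) ∧
      T.m (v 0) ≤ 2 * T.m (v 2) ∧
      T.m (v 0) ≤ 2 * T.m (v 3) := by
  have p0 : 0 < T.a (v 0) (v 1) :=
    lt_of_le_of_ne (T.offDiag_nonneg _ _ (v.injective.ne (by decide))) (Ne.symm h01)
  have p0' : 0 < T.a (v 1) (v 0) := by rwa [a_symm]
  have p1 : 0 < T.a (v 0) (v 2) :=
    lt_of_le_of_ne (T.offDiag_nonneg _ _ (v.injective.ne (by decide))) (Ne.symm h02)
  have p1' : 0 < T.a (v 2) (v 0) := by rwa [a_symm]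
  have p2 : 0 < T.a (v 0) (v 3) :=
    lt_of_le_of_ne (T.offDiag_nonneg _ _ (v.injective.ne (by decide))) (Ne.symm h03)
  have p2' : 0 < T.a (v 3) (v 0) := by rwa [a_symm]
  have hz : ∀ i j : Fin 4, i ≠ j →
      (∀ e, ¬((![0, 0, 0] : Fin 3 → Fin 4) e = i ∧ (![1, 2, 3] : Fin 3 → Fin 4) e = j) ∧
        ¬((![0, 0, 0] : Fin 3 → Fin 4) e = j ∧ (![1, 2, 3] : Fin 3 → Fin 4) e = i)) →
      T.a (v i) (v j) = 0 := fun i j hij hnot =>
    tree_zero T v v.injective (by simpa using hn) hv
      (⟨![0, 0, 0], ![1, 2, 3]⟩ : Edges (Fin 4) (Fin 3)) (by decide)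
      (by intro e; fin_cases e <;> assumption) (by simp) i j hij hnot
  have s0 : Simple T (v 0) (v 1) := by
    refine simple_of_fork T v v.injective hv 0 (by omega)
      (Sum.elim (fun b => if b then 2 else 3) ![0, 1]) (by decide) ?_ ?_ rfl rfl
      (by assumption)
    · intro b; cases b <;> assumption
    · intro i; fin_cases i <;> assumption
  have s1 : Simple T (v 0) (v 2) := by
    refine simple_of_fork T v v.injective hv 0 (by omega)
      (Sum.elim (fun b => if b then 1 else 3) ![0, 2]) (by decide) ?_ ?_ rfl rfl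
      (by assumption)
    · intro b; cases b <;> assumption
    · intro i; fin_cases i <;> assumption
  have s2 : Simple T (v 0) (v 3) := by
    refine simple_of_fork T v v.injective hv 0 (by omega)
      (Sum.elim (fun b => if b then 1 else 2) ![0, 3]) (by decide) ?_ ?_ rfl rfl
      (by assumption)
    · intro b; cases b <;> assumption
    · intro i; fin_cases i <;> assumption
  obtain ⟨a0, w0⟩ := s0
  obtain ⟨a1, w1⟩ := s1
  obtain ⟨a2, w2⟩ := s2
  have hw : ∀ j, T.w (v j) = T.w (v 0) := by intro j; fin_cases j <;> simp only [] <;> grind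
  have r0 := row3 T (i := v 0) (j := v 1) (k := v 2) (l := v 3) (hv 0) (v.injective.ne (by decide)) (v.injective.ne (by decide)) (v.injective.ne (by decide)) (v.injective.ne (by decide)) (v.injective.ne (by decide)) (v.injective.ne (by decide))
  have r1 := row1 T (i := v 1) (j := v 0) (hv 1) (v.injective.ne (by decide))
  have r2 := row1 T (i := v 2) (j := v 0) (hv 2) (v.injective.ne (by decide))
  have r3 := row1 T (i := v 3) (j := v 0) (hv 3) (v.injective.ne (by decide))
  have hedge : ∀ i j, (∃ e, ((![0, 0, 0] : Fin 3 → Fin 4) e = i ∧ (![1, 2, 3] : Fin 3 → Fin 4) e = j) ∨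
      ((![0, 0, 0] : Fin 3 → Fin 4) e = j ∧ (![1, 2, 3] : Fin 3 → Fin 4) e = i)) → T.a (v i) (v j) = T.w (v 0) := by
    rintro i j ⟨e, ⟨rfl, rfl⟩ | ⟨rfl, rfl⟩⟩ <;> fin_cases e <;>
      first
      | exact a0.trans (hw _) | exact (a_symm T _ _).trans (a0.trans (hw _))
      | exact a1.trans (hw _) | exact (a_symm T _ _).trans (a1.trans (hw _))
      | exact a2.trans (hw _) | exact (a_symm T _ _).trans (a2.trans (hw _))
  rw [hedge 0 1 (by decide), hedge 0 2 (by decide), hedge 0 3 (by decide), hw 0] at r0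
  rw [hedge 1 0 (by decide), hw 1] at r1
  rw [hedge 2 0 (by decide), hw 2] at r2
  rw [hedge 3 0 (by decide), hw 3] at r3
  have hpos := T.w_pos (v 0)
  exact ⟨T.w (v 0), hw, hedge 0 1 (by decide),
    hedge 0 2 (by decide),
    hedge 0 3 (by decide),
    hz 1 2 (by decide) (by decide),
    hz 1 3 (by decide) (by decide),
    hz 2 3 (by decide) (by decide),
    by nlinarith,
    by nlinarith,
    by nlinarith,
    by nlinarith⟩

end Groth.Agent.S7346
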