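import Groth.Statements.S7347
import Groth.Agent.NumTypeLib.Config

set_option autoImplicit false
open Finset
open Models Models.NumericalType

namespace Groth.Agent.S7347

open Groth.Agent.NumTypeLib

/-- Classification of proper subgraphs of type D5 (a chain i_1 i_2 i_3 with i_4 and i_5 both joined to
i_3): let T be a numerical type on n > 5 indices and i_1, …, i_5 distinct (-2)-indices with a_{12},
a_{23}, a_{34}, a_{35} nonzero. Then for some integer w all w_{i_j} equal w, these intersection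
numbers equal w, all other a_{i_j i_k} (j ≠ k) vanish, and 2 m_1 ≥ m_2, 2 m_2 ≥ m_1 + m_3, 2 m_3 ≥
m_2 + m_4 + m_5, 2 m_4 ≥ m_3, 2 m_5 ≥ m_3. -/
theorem result {n : ℕ} (T : Models.NumericalType n) (hn : 5 < n)
    (v : Fin 5 ↪ Fin n) (hv : ∀ j, T.IsMinusTwo (v j)) (h01 : T.a (v 0) (v 1) ≠ 0) (h12 : T.a (v 1) (v 2) ≠ 0) (h23 : T.a (v 2) (v 3) ≠ 0) (h24 : T.a (v 2) (v 4) ≠ 0) :
    ∃ w : ℤ, (∀ j : Fin 5, T.w (v j) = w) ∧
      T.a (v 0) (v 1) = w ∧
      T.a (v 1) (v 2) = w ∧
      T.a (v 2) (v 3) = w ∧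
      T.a (v 2) (v 4) = w ∧
      T.a (v 0) (v 2) = 0 ∧
      T.a (v 0) (v 3) = 0 ∧
      T.a (v 0) (v 4) = 0 ∧
      T.a (v 1) (v 3) = 0 ∧
      T.a (v 1) (v 4) = 0 ∧
      T.a (v 3) (v 4) = 0 ∧
      T.m (v 1) ≤ 2 * T.m (v 0) ∧
      T.m (v 0) + T.m (v 2) ≤ 2 * T.m (v 1) ∧
      T.m (v 1) + T.m (v 3) + T.m (v 4) ≤ 2 * T.m (v 2) ∧
      T.m (v 2) ≤ 2 * T.m (v 3) ∧
      T.m (v 2) ≤ 2 * T.m (v 4) := by
  have p0 : 0 < T.a (v 0) (v 1) :=
    lt_of_le_of_ne (T.offDiag_nonneg _ _ (v.injective.ne (by decide))) (Ne.symm h01)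
  have p0' : 0 < T.a (v 1) (v 0) := by rwa [a_symm]
  have p1 : 0 < T.a (v 1) (v 2) :=
    lt_of_le_of_ne (T.offDiag_nonneg _ _ (v.injective.ne (by decide))) (Ne.symm h12)
  have p1' : 0 < T.a (v 2) (v 1) := by rwa [a_symm]
  have p2 : 0 < T.a (v 2) (v 3) :=
    lt_of_le_of_ne (T.offDiag_nonneg _ _ (v.injective.ne (by decide))) (Ne.symm h23)
  have p2' : 0 < T.a (v 3) (v 2) := by rwa [a_symm]
  have p3 : 0 < T.a (v 2) (v 4) :=
    lt_of_le_of_ne (T.offDiag_nonneg _ _ (v.injective.ne (by decide))) (Ne.symm h24)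
  have p3' : 0 < T.a (v 4) (v 2) := by rwa [a_symm]
  have hz : ∀ i j : Fin 5, i ≠ j →
      (∀ e, ¬((![0, 1, 2, 2] : Fin 4 → Fin 5) e = i ∧ (![1, 2, 3, 4] : Fin 4 → Fin 5) e = j) ∧
        ¬((![0, 1, 2, 2] : Fin 4 → Fin 5) e = j ∧ (![1, 2, 3, 4] : Fin 4 → Fin 5) e = i)) →
      T.a (v i) (v j) = 0 := fun i j hij hnot =>
    tree_zero T v v.injective (by simpa using hn) hv
      (⟨![0, 1, 2, 2], ![1, 2, 3, 4]⟩ : Edges (Fin 5) (Fin 4)) (by decide)
      (by intro e; fin_cases e <;> assumption) (by simp) i j hij hnot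
  have s0 : Simple T (v 1) (v 0) := by
    refine simple_of_fork T v v.injective hv 1 (by omega)
      (Sum.elim (fun b => if b then 3 else 4) ![2, 1, 0]) (by decide) ?_ ?_ rfl rfl
      (by assumption)
    · intro b; cases b <;> assumption
    · intro i; fin_cases i <;> assumption
  have s1 : Simple T (v 2) (v 1) := by
    refine simple_of_fork T v v.injective hv 0 (by omega)
      (Sum.elim (fun b => if b then 3 else 4) ![2, 1]) (by decide) ?_ ?_ rfl rfl
      (by assumption)
    · intro b; cases b <;> assumption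
    · intro i; fin_cases i <;> assumption
  have s2 : Simple T (v 2) (v 3) := by
    refine simple_of_fork T v v.injective hv 0 (by omega)
      (Sum.elim (fun b => if b then 1 else 4) ![2, 3]) (by decide) ?_ ?_ rfl rfl
      (by assumption)
    · intro b; cases b <;> assumption
    · intro i; fin_cases i <;> assumption
  have s3 : Simple T (v 2) (v 4) := by
    refine simple_of_fork T v v.injective hv 0 (by omega)
      (Sum.elim (fun b => if b then 1 else 3) ![2, 4]) (by decide) ?_ ?_ rfl rfl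
      (by assumption)
    · intro b; cases b <;> assumption
    · intro i; fin_cases i <;> assumption
  obtain ⟨a0, w0⟩ := s0
  obtain ⟨a1, w1⟩ := s1
  obtain ⟨a2, w2⟩ := s2
  obtain ⟨a3, w3⟩ := s3
  have hw : ∀ j, T.w (v j) = T.w (v 2) := by intro j; fin_cases j <;> simp only [] <;> grind
  have r0 := row1 T (i := v 0) (j := v 1) (hv 0) (v.injective.ne (by decide))
  have r1 := row2 T (i := v 1) (j := v 0) (k := v 2) (hv 1) (v.injective.ne (by decide)) (v.injective.ne (by decide)) (v.injective.ne (by decide))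
  have r2 := row3 T (i := v 2) (j := v 1) (k := v 3) (l := v 4) (hv 2) (v.injective.ne (by decide)) (v.injective.ne (by decide)) (v.injective.ne (by decide)) (v.injective.ne (by decide)) (v.injective.ne (by decide)) (v.injective.ne (by decide))
  have r3 := row1 T (i := v 3) (j := v 2) (hv 3) (v.injective.ne (by decide))
  have r4 := row1 T (i := v 4) (j := v 2) (hv 4) (v.injective.ne (by decide))
  have hedge : ∀ i j, (∃ e, ((![0, 1, 2, 2] : Fin 4 → Fin 5) e = i ∧ (![1, 2, 3, 4] : Fin 4 → Fin 5) e = j) ∨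
      ((![0, 1, 2, 2] : Fin 4 → Fin 5) e = j ∧ (![1, 2, 3, 4] : Fin 4 → Fin 5) e = i)) → T.a (v i) (v j) = T.w (v 2) := by
    rintro i j ⟨e, ⟨rfl, rfl⟩ | ⟨rfl, rfl⟩⟩ <;> fin_cases e <;>
      first
      | exact a0.trans (hw _) | exact (a_symm T _ _).trans (a0.trans (hw _))
      | exact a1.trans (hw _) | exact (a_symm T _ _).trans (a1.trans (hw _))
      | exact a2.trans (hw _) | exact (a_symm T _ _).trans (a2.trans (hw _))
      | exact a3.trans (hw _) | exact (a_symm T _ _).trans (a3.trans (hw _))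
  rw [hedge 0 1 (by decide), hw 0] at r0
  rw [hedge 1 0 (by decide), hedge 1 2 (by decide), hw 1] at r1
  rw [hedge 2 1 (by decide), hedge 2 3 (by decide), hedge 2 4 (by decide), hw 2] at r2
  rw [hedge 3 2 (by decide), hw 3] at r3
  rw [hedge 4 2 (by decide), hw 4] at r4
  have hpos := T.w_pos (v 2)
  exact ⟨T.w (v 2), hw, hedge 0 1 (by decide),
    hedge 1 2 (by decide),
    hedge 2 3 (by decide),
    hedge 2 4 (by decide),
    hz 0 2 (by decide) (by decide),
    hz 0 3 (by decide) (by decide),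
    hz 0 4 (by decide) (by decide),
    hz 1 3 (by decide) (by decide),
    hz 1 4 (by decide) (by decide),
    hz 3 4 (by decide) (by decide),
    by nlinarith,
    by nlinarith,
    by nlinarith,
    by nlinarith,
    by nlinarith⟩

end Groth.Agent.S7347
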