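import Groth.Statements.S7350
import Groth.Agent.NumTypeLib.Config

set_option autoImplicit false
open Finset
open Models Models.NumericalType

namespace Groth.Agent.S7350

open Groth.Agent.NumTypeLib

set_option maxHeartbeats 2000000

/-- Classification of proper subgraphs of type E8 (a chain i_1 … i_7 with i_8 joined to i_5): let T be a
numerical type on n > 8 indices and i_1, …, i_8 distinct (-2)-indices with a_{12}, a_{23}, a_{34},
a_{45}, a_{56}, a_{67}, a_{58} nonzero. Then for some integer w all w_{i_j} equal w, these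
intersection numbers equal w, all other a_{i_j i_k} (j ≠ k) vanish, and 2 m_1 ≥ m_2, 2 m_2 ≥ m_1 +
m_3, 2 m_3 ≥ m_2 + m_4, 2 m_4 ≥ m_3 + m_5, 2 m_5 ≥ m_4 + m_6 + m_8, 2 m_6 ≥ m_5 + m_7, 2 m_7 ≥ m_6,
2 m_8 ≥ m_5. (The published statement lists a_{65} and a_{57} among the nonzero entries, which
contradicts its own conclusion a_{57} = 0; this row uses the edges of the E8 graph, a_{67} and
a_{58}, as the pictured graph and the matrix give them.) -/
theorem result {n : ℕ} (T : Models.NumericalType n) (hn : 8 < n)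
    (v : Fin 8 ↪ Fin n) (hv : ∀ j, T.IsMinusTwo (v j)) (h01 : T.a (v 0) (v 1) ≠ 0) (h12 : T.a (v 1) (v 2) ≠ 0) (h23 : T.a (v 2) (v 3) ≠ 0) (h34 : T.a (v 3) (v 4) ≠ 0) (h45 : T.a (v 4) (v 5) ≠ 0) (h56 : T.a (v 5) (v 6) ≠ 0) (h47 : T.a (v 4) (v 7) ≠ 0) :
    ∃ w : ℤ, (∀ j : Fin 8, T.w (v j) = w) ∧
      T.a (v 0) (v 1) = w ∧
      T.a (v 1) (v 2) = w ∧
      T.a (v 2) (v 3) = w ∧
      T.a (v 3) (v 4) = w ∧
      T.a (v 4) (v 5) = w ∧
      T.a (v 5) (v 6) = w ∧
      T.a (v 4) (v 7) = w ∧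
      T.a (v 0) (v 2) = 0 ∧
      T.a (v 0) (v 3) = 0 ∧
      T.a (v 0) (v 4) = 0 ∧
      T.a (v 0) (v 5) = 0 ∧
      T.a (v 0) (v 6) = 0 ∧
      T.a (v 0) (v 7) = 0 ∧
      T.a (v 1) (v 3) = 0 ∧
      T.a (v 1) (v 4) = 0 ∧
      T.a (v 1) (v 5) = 0 ∧
      T.a (v 1) (v 6) = 0 ∧
      T.a (v 1) (v 7) = 0 ∧
      T.a (v 2) (v 4) = 0 ∧
      T.a (v 2) (v 5) = 0 ∧
      T.a (v 2) (v 6) = 0 ∧
      T.a (v 2) (v 7) = 0 ∧
      T.a (v 3) (v 5) = 0 ∧
      T.a (v 3) (v 6) = 0 ∧
      T.a (v 3) (v 7) = 0 ∧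
      T.a (v 4) (v 6) = 0 ∧
      T.a (v 5) (v 7) = 0 ∧
      T.a (v 6) (v 7) = 0 ∧
      T.m (v 1) ≤ 2 * T.m (v 0) ∧
      T.m (v 0) + T.m (v 2) ≤ 2 * T.m (v 1) ∧
      T.m (v 1) + T.m (v 3) ≤ 2 * T.m (v 2) ∧
      T.m (v 2) + T.m (v 4) ≤ 2 * T.m (v 3) ∧
      T.m (v 3) + T.m (v 5) + T.m (v 7) ≤ 2 * T.m (v 4) ∧
      T.m (v 4) + T.m (v 6) ≤ 2 * T.m (v 5) ∧
      T.m (v 5) ≤ 2 * T.m (v 6) ∧
      T.m (v 4) ≤ 2 * T.m (v 7) := by
  have p0 : 0 < T.a (v 0) (v 1) :=
    lt_of_le_of_ne (T.offDiag_nonneg _ _ (v.injective.ne (by decide))) (Ne.symm h01)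
  have p0' : 0 < T.a (v 1) (v 0) := by rwa [a_symm]
  have p1 : 0 < T.a (v 1) (v 2) :=
    lt_of_le_of_ne (T.offDiag_nonneg _ _ (v.injective.ne (by decide))) (Ne.symm h12)
  have p1' : 0 < T.a (v 2) (v 1) := by rwa [a_symm]
  have p2 : 0 < T.a (v 2) (v 3) :=
    lt_of_le_of_ne (T.offDiag_nonneg _ _ (v.injective.ne (by decide))) (Ne.symm h23)
  have p2' : 0 < T.a (v 3) (v 2) := by rwa [a_symm]
  have p3 : 0 < T.a (v 3) (v 4) :=
    lt_of_le_of_ne (T.offDiag_nonneg _ _ (v.injective.ne (by decide))) (Ne.symm h34)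
  have p3' : 0 < T.a (v 4) (v 3) := by rwa [a_symm]
  have p4 : 0 < T.a (v 4) (v 5) :=
    lt_of_le_of_ne (T.offDiag_nonneg _ _ (v.injective.ne (by decide))) (Ne.symm h45)
  have p4' : 0 < T.a (v 5) (v 4) := by rwa [a_symm]
  have p5 : 0 < T.a (v 5) (v 6) :=
    lt_of_le_of_ne (T.offDiag_nonneg _ _ (v.injective.ne (by decide))) (Ne.symm h56)
  have p5' : 0 < T.a (v 6) (v 5) := by rwa [a_symm]
  have p6 : 0 < T.a (v 4) (v 7) :=
    lt_of_le_of_ne (T.offDiag_nonneg _ _ (v.injective.ne (by decide))) (Ne.symm h47)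
  have p6' : 0 < T.a (v 7) (v 4) := by rwa [a_symm]
  have hz : ∀ i j : Fin 8, i ≠ j →
      (∀ e, ¬((![0, 1, 2, 3, 4, 5, 4] : Fin 7 → Fin 8) e = i ∧ (![1, 2, 3, 4, 5, 6, 7] : Fin 7 → Fin 8) e = j) ∧
        ¬((![0, 1, 2, 3, 4, 5, 4] : Fin 7 → Fin 8) e = j ∧ (![1, 2, 3, 4, 5, 6, 7] : Fin 7 → Fin 8) e = i)) →
      T.a (v i) (v j) = 0 := fun i j hij hnot =>
    tree_zero T v v.injective (by simpa using hn) hv
      (⟨![0, 1, 2, 3, 4, 5, 4], ![1, 2, 3, 4, 5, 6, 7]⟩ : Edges (Fin 8) (Fin 7)) (by decide)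
      (by intro e; fin_cases e <;> assumption) (by simp) i j hij hnot
  have s0 : Simple T (v 1) (v 0) := by
    refine simple_of_fork T v v.injective hv 3 (by omega)
      (Sum.elim (fun b => if b then 5 else 7) ![4, 3, 2, 1, 0]) (by decide) ?_ ?_ rfl rfl
      (by assumption)
    · intro b; cases b <;> assumption
    · intro i; fin_cases i <;> assumption
  have s1 : Simple T (v 2) (v 1) := by
    refine simple_of_fork T v v.injective hv 2 (by omega)
      (Sum.elim (fun b => if b then 5 else 7) ![4, 3, 2, 1]) (by decide) ?_ ?_ rfl rfl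
      (by assumption)
    · intro b; cases b <;> assumption
    · intro i; fin_cases i <;> assumption
  have s2 : Simple T (v 3) (v 2) := by
    refine simple_of_fork T v v.injective hv 1 (by omega)
      (Sum.elim (fun b => if b then 5 else 7) ![4, 3, 2]) (by decide) ?_ ?_ rfl rfl
      (by assumption)
    · intro b; cases b <;> assumption
    · intro i; fin_cases i <;> assumption
  have s3 : Simple T (v 4) (v 3) := by
    refine simple_of_fork T v v.injective hv 0 (by omega)
      (Sum.elim (fun b => if b then 5 else 7) ![4, 3]) (by decide) ?_ ?_ rfl rfl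
      (by assumption)
    · intro b; cases b <;> assumption
    · intro i; fin_cases i <;> assumption
  have s4 : Simple T (v 4) (v 5) := by
    refine simple_of_fork T v v.injective hv 0 (by omega)
      (Sum.elim (fun b => if b then 3 else 7) ![4, 5]) (by decide) ?_ ?_ rfl rfl
      (by assumption)
    · intro b; cases b <;> assumption
    · intro i; fin_cases i <;> assumption
  have s5 : Simple T (v 5) (v 6) := by
    refine simple_of_fork T v v.injective hv 1 (by omega)
      (Sum.elim (fun b => if b then 3 else 7) ![4, 5, 6]) (by decide) ?_ ?_ rfl rfl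
      (by assumption)
    · intro b; cases b <;> assumption
    · intro i; fin_cases i <;> assumption
  have s6 : Simple T (v 4) (v 7) := by
    refine simple_of_fork T v v.injective hv 0 (by omega)
      (Sum.elim (fun b => if b then 3 else 5) ![4, 7]) (by decide) ?_ ?_ rfl rfl
      (by assumption)
    · intro b; cases b <;> assumption
    · intro i; fin_cases i <;> assumption
  obtain ⟨a0, w0⟩ := s0
  obtain ⟨a1, w1⟩ := s1
  obtain ⟨a2, w2⟩ := s2
  obtain ⟨a3, w3⟩ := s3
  obtain ⟨a4, w4⟩ := s4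
  obtain ⟨a5, w5⟩ := s5
  obtain ⟨a6, w6⟩ := s6
  have hw : ∀ j, T.w (v j) = T.w (v 4) := by intro j; fin_cases j <;> simp only [] <;> grind
  have r0 := row1 T (i := v 0) (j := v 1) (hv 0) (v.injective.ne (by decide))
  have r1 := row2 T (i := v 1) (j := v 0) (k := v 2) (hv 1) (v.injective.ne (by decide)) (v.injective.ne (by decide)) (v.injective.ne (by decide))
  have r2 := row2 T (i := v 2) (j := v 1) (k := v 3) (hv 2) (v.injective.ne (by decide)) (v.injective.ne (by decide)) (v.injective.ne (by decide))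
  have r3 := row2 T (i := v 3) (j := v 2) (k := v 4) (hv 3) (v.injective.ne (by decide)) (v.injective.ne (by decide)) (v.injective.ne (by decide))
  have r4 := row3 T (i := v 4) (j := v 3) (k := v 5) (l := v 7) (hv 4) (v.injective.ne (by decide)) (v.injective.ne (by decide)) (v.injective.ne (by decide)) (v.injective.ne (by decide)) (v.injective.ne (by decide)) (v.injective.ne (by decide))
  have r5 := row2 T (i := v 5) (j := v 4) (k := v 6) (hv 5) (v.injective.ne (by decide)) (v.injective.ne (by decide)) (v.injective.ne (by decide))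
  have r6 := row1 T (i := v 6) (j := v 5) (hv 6) (v.injective.ne (by decide))
  have r7 := row1 T (i := v 7) (j := v 4) (hv 7) (v.injective.ne (by decide))
  have hedge : ∀ i j, (∃ e, ((![0, 1, 2, 3, 4, 5, 4] : Fin 7 → Fin 8) e = i ∧ (![1, 2, 3, 4, 5, 6, 7] : Fin 7 → Fin 8) e = j) ∨
      ((![0, 1, 2, 3, 4, 5, 4] : Fin 7 → Fin 8) e = j ∧ (![1, 2, 3, 4, 5, 6, 7] : Fin 7 → Fin 8) e = i)) → T.a (v i) (v j) = T.w (v 4) := by
    rintro i j ⟨e, ⟨rfl, rfl⟩ | ⟨rfl, rfl⟩⟩ <;> fin_cases e <;>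
      first
      | exact a0.trans (hw _) | exact (a_symm T _ _).trans (a0.trans (hw _))
      | exact a1.trans (hw _) | exact (a_symm T _ _).trans (a1.trans (hw _))
      | exact a2.trans (hw _) | exact (a_symm T _ _).trans (a2.trans (hw _))
      | exact a3.trans (hw _) | exact (a_symm T _ _).trans (a3.trans (hw _))
      | exact a4.trans (hw _) | exact (a_symm T _ _).trans (a4.trans (hw _))
      | exact a5.trans (hw _) | exact (a_symm T _ _).trans (a5.trans (hw _))
      | exact a6.trans (hw _) | exact (a_symm T _ _).trans (a6.trans (hw _))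
  rw [hedge 0 1 (by decide), hw 0] at r0
  rw [hedge 1 0 (by decide), hedge 1 2 (by decide), hw 1] at r1
  rw [hedge 2 1 (by decide), hedge 2 3 (by decide), hw 2] at r2
  rw [hedge 3 2 (by decide), hedge 3 4 (by decide), hw 3] at r3
  rw [hedge 4 3 (by decide), hedge 4 5 (by decide), hedge 4 7 (by decide), hw 4] at r4
  rw [hedge 5 4 (by decide), hedge 5 6 (by decide), hw 5] at r5
  rw [hedge 6 5 (by decide), hw 6] at r6
  rw [hedge 7 4 (by decide), hw 7] at r7
  have hpos := T.w_pos (v 4)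
  exact ⟨T.w (v 4), hw, hedge 0 1 (by decide),
    hedge 1 2 (by decide),
    hedge 2 3 (by decide),
    hedge 3 4 (by decide),
    hedge 4 5 (by decide),
    hedge 5 6 (by decide),
    hedge 4 7 (by decide),
    hz 0 2 (by decide) (by decide),
    hz 0 3 (by decide) (by decide),
    hz 0 4 (by decide) (by decide),
    hz 0 5 (by decide) (by decide),
    hz 0 6 (by decide) (by decide),
    hz 0 7 (by decide) (by decide),
    hz 1 3 (by decide) (by decide),
    hz 1 4 (by decide) (by decide),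
    hz 1 5 (by decide) (by decide),
    hz 1 6 (by decide) (by decide),
    hz 1 7 (by decide) (by decide),
    hz 2 4 (by decide) (by decide),
    hz 2 5 (by decide) (by decide),
    hz 2 6 (by decide) (by decide),
    hz 2 7 (by decide) (by decide),
    hz 3 5 (by decide) (by decide),
    hz 3 6 (by decide) (by decide),
    hz 3 7 (by decide) (by decide),
    hz 4 6 (by decide) (by decide),
    hz 5 7 (by decide) (by decide),
    hz 6 7 (by decide) (by decide),
    by nlinarith,
    by nlinarith,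
    by nlinarith,
    by nlinarith,
    by nlinarith,
    by nlinarith,
    by nlinarith,
    by nlinarith⟩

end Groth.Agent.S7350
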