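import Groth.Statements.S7352
import Groth.Agent.NumTypeLib.Chain

set_option autoImplicit false
open Finset
open Models Models.NumericalType

namespace Groth.Agent.S7352

open Groth.Agent.NumTypeLib

lemma half {n : ℕ} {T : Models.NumericalType n} {u : Fin 4 → Fin n} (h : Chain T u)
    (e0 : Simple T (u 0) (u 1)) : ∃ w : ℤ,
      ((T.w (u 0) = w ∧ T.w (u 1) = w ∧ T.w (u 2) = w ∧ T.w (u 3) = w ∧ T.a (u 0) (u 1) = w ∧ T.a (u 1) (u 2) = w ∧ T.a (u 2) (u 3) = w ∧ T.m (u 1) ≤ 2 * T.m (u 0) ∧ T.m (u 0) + T.m (u 2) ≤ 2 * T.m (u 1) ∧ T.m (u 1) + T.m (u 3) ≤ 2 * T.m (u 2) ∧ T.m (u 2) ≤ 2 * T.m (u 3)) ∨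
      (T.w (u 0) = w ∧ T.w (u 1) = w ∧ T.w (u 2) = w ∧ T.w (u 3) = 2 * w ∧ T.a (u 0) (u 1) = w ∧ T.a (u 1) (u 2) = w ∧ T.a (u 2) (u 3) = 2 * w ∧ T.m (u 1) ≤ 2 * T.m (u 0) ∧ T.m (u 0) + T.m (u 2) ≤ 2 * T.m (u 1) ∧ T.m (u 1) + 2 * T.m (u 3) ≤ 2 * T.m (u 2) ∧ T.m (u 2) ≤ 2 * T.m (u 3)) ∨
      (T.w (u 0) = 2 * w ∧ T.w (u 1) = 2 * w ∧ T.w (u 2) = 2 * w ∧ T.w (u 3) = w ∧ T.a (u 0) (u 1) = 2 * w ∧ T.a (u 1) (u 2) = 2 * w ∧ T.a (u 2) (u 3) = 2 * w ∧ T.m (u 1) ≤ 2 * T.m (u 0) ∧ T.m (u 0) + T.m (u 2) ≤ 2 * T.m (u 1) ∧ T.m (u 1) + T.m (u 3) ≤ 2 * T.m (u 2) ∧ T.m (u 2) ≤ T.m (u 3)) ∨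
      (T.w (u 0) = w ∧ T.w (u 1) = w ∧ T.w (u 2) = 2 * w ∧ T.w (u 3) = 2 * w ∧ T.a (u 0) (u 1) = w ∧ T.a (u 1) (u 2) = 2 * w ∧ T.a (u 2) (u 3) = 2 * w ∧ T.m (u 1) ≤ 2 * T.m (u 0) ∧ T.m (u 0) + 2 * T.m (u 2) ≤ 2 * T.m (u 1) ∧ T.m (u 1) + T.m (u 3) ≤ 2 * T.m (u 2) ∧ T.m (u 2) ≤ 2 * T.m (u 3))) ∨
      (T.w (u 0) = 2 * w ∧ T.w (u 1) = 2 * w ∧ T.w (u 2) = w ∧ T.w (u 3) = w ∧ T.a (u 0) (u 1) = 2 * w ∧ T.a (u 1) (u 2) = 2 * w ∧ T.a (u 2) (u 3) = w ∧ T.m (u 1) ≤ 2 * T.m (u 0) ∧ T.m (u 0) + T.m (u 2) ≤ 2 * T.m (u 1) ∧ 2 * T.m (u 1) + T.m (u 3) ≤ 2 * T.m (u 2) ∧ T.m (u 2) ≤ 2 * T.m (u 3)) := by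
  have ne : ∀ i j : Fin 4, i ≠ j → u i ≠ u j := fun i j hij => h.inj.ne hij
  have r0 := row1 T (h.two 0) (ne 0 1 (by decide))
  have r1 := row2 T (h.two 1) (ne 1 0 (by decide)) (ne 1 2 (by decide)) (ne 0 2 (by decide))
  have r2 := row2 T (h.two 2) (ne 2 1 (by decide)) (ne 2 3 (by decide)) (ne 1 3 (by decide))
  have r3 := row1 T (h.two 3) (ne 3 2 (by decide))
  rw [a_symm T (u 1) (u 0)] at r1
  rw [a_symm T (u 2) (u 1)] at r2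
  rw [a_symm T (u 3) (u 2)] at r3
  obtain ⟨a0, w0⟩ := e0
  have hw0 := T.w_pos (u 0)
  have hw3 := T.w_pos (u 3)
  have two : Heavy T (u 1) (u 2) → Heavy T (u 2) (u 3) → False :=
    fun e f => h.two_heavy 1 2 2 3 rfl rfl (by decide) e f
  rcases h.edge (by norm_num) 1 2 rfl with ⟨a1, w1⟩ | e | e <;>
    rcases h.edge (by norm_num) 2 3 rfl with ⟨a2, w2⟩ | f | f
  · rw [a0] at r0; rw [a0, a1, w0] at r1; rw [a1, a2, w1, w0] at r2; rw [a2, w2, w1, w0] at r3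
    exact ⟨T.w (u 0), Or.inl (Or.inl ⟨rfl, by omega, by omega, by omega, a0, by omega, by omega,
      by nlinarith, by nlinarith, by nlinarith, by nlinarith⟩)⟩
  · obtain ⟨w2, a2⟩ := f
    rw [a0] at r0; rw [a0, a1, w0] at r1; rw [a1, a2, w1, w0] at r2; rw [a2, w2, w1, w0] at r3
    exact ⟨T.w (u 0), Or.inl (Or.inr (Or.inl ⟨rfl, by omega, by omega, by omega, a0, by omega, by omega,
      by nlinarith, by nlinarith, by nlinarith, by nlinarith⟩))⟩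
  · obtain ⟨w2, a2⟩ := f
    rw [a_symm T (u 3) (u 2)] at a2
    have e01 : T.w (u 0) = 2 * T.w (u 3) := by omega
    rw [a0, e01] at r0; rw [a0, a1, w0, e01] at r1; rw [a1, a2, w1, w0, e01] at r2; rw [a2] at r3
    exact ⟨T.w (u 3), Or.inl (Or.inr (Or.inr (Or.inl ⟨e01, by omega, by omega, rfl, by omega, by omega, a2,
      by nlinarith, by nlinarith, by nlinarith, by nlinarith⟩)))⟩
  · obtain ⟨w1, a1⟩ := e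
    rw [a0] at r0; rw [a0, a1, w0] at r1; rw [a1, a2, w1, w0] at r2; rw [a2, w2, w1, w0] at r3
    exact ⟨T.w (u 0), Or.inl (Or.inr (Or.inr (Or.inr ⟨rfl, by omega, by omega, by omega, a0, by omega,
      by omega, by nlinarith, by nlinarith, by nlinarith, by nlinarith⟩)))⟩
  · exact (two (e.heavy T) (f.heavy T)).elim
  · exact (two (e.heavy T) (f.heavy' T)).elim
  · obtain ⟨w1, a1⟩ := e
    rw [a_symm T (u 2) (u 1)] at a1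
    have e01 : T.w (u 0) = 2 * T.w (u 2) := by omega
    rw [a0, e01] at r0; rw [a0, a1, w1, e01] at r1; rw [a1, a2] at r2; rw [a2, w2] at r3
    exact ⟨T.w (u 2), Or.inr ⟨e01, w1, rfl, w2, by omega, a1, a2,
      by nlinarith, by nlinarith, by nlinarith, by nlinarith⟩⟩
  · exact (two (e.heavy' T) (f.heavy T)).elim
  · exact (two (e.heavy' T) (f.heavy' T)).elim


/-- Classification of proper subgraphs which are chains of four vertices: let T be a numerical type on n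
> 4 indices and i_1, …, i_4 distinct (-2)-indices with a_{i_j i_{j+1}} nonzero for j < 4. Then
a_{i_j i_l} = 0 for |j - l| ≥ 2 and, after possibly reversing the order of the indices, for some
integer w one of the following holds: (A4) w = (w, w, w, w), consecutive a = (w, w, w), with 2m_1 ≥
m_2, 2m_2 ≥ m_1 + m_3, 2m_3 ≥ m_2 + m_4, 2m_4 ≥ m_3; (C4) w = (w, w, w, 2w), consecutive a = (w, w,
2w), with 2m_1 ≥ m_2, 2m_2 ≥ m_1 + m_3, 2m_3 ≥ m_2 + 2m_4, 2m_4 ≥ m_3; (B4) w = (2w, 2w, 2w, w),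
consecutive a = (2w, 2w, 2w), with 2m_1 ≥ m_2, 2m_2 ≥ m_1 + m_3, 2m_3 ≥ m_2 + m_4, m_4 ≥ m_3; (F4) w
= (w, w, 2w, 2w), consecutive a = (w, 2w, 2w), with 2m_1 ≥ m_2, 2m_2 ≥ m_1 + 2m_3, 2m_3 ≥ m_2 + m_4,
2m_4 ≥ m_3. -/
theorem result {n : ℕ} (T : Models.NumericalType n) (hn : 4 < n)
    (v : Fin 4 ↪ Fin n) (hv : ∀ j, T.IsMinusTwo (v j)) (h01 : T.a (v 0) (v 1) ≠ 0) (h12 : T.a (v 1) (v 2) ≠ 0) (h23 : T.a (v 2) (v 3) ≠ 0) :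
    (T.a (v 0) (v 2) = 0 ∧ T.a (v 0) (v 3) = 0 ∧ T.a (v 1) (v 3) = 0) ∧
    ∃ (u : Fin 4 → Fin n) (w : ℤ), ((∀ j, u j = v j) ∨ (∀ j, u j = v (Fin.rev j))) ∧
      ((T.w (u 0) = w ∧ T.w (u 1) = w ∧ T.w (u 2) = w ∧ T.w (u 3) = w ∧ T.a (u 0) (u 1) = w ∧ T.a (u 1) (u 2) = w ∧ T.a (u 2) (u 3) = w ∧ T.m (u 1) ≤ 2 * T.m (u 0) ∧ T.m (u 0) + T.m (u 2) ≤ 2 * T.m (u 1) ∧ T.m (u 1) + T.m (u 3) ≤ 2 * T.m (u 2) ∧ T.m (u 2) ≤ 2 * T.m (u 3)) ∨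
      (T.w (u 0) = w ∧ T.w (u 1) = w ∧ T.w (u 2) = w ∧ T.w (u 3) = 2 * w ∧ T.a (u 0) (u 1) = w ∧ T.a (u 1) (u 2) = w ∧ T.a (u 2) (u 3) = 2 * w ∧ T.m (u 1) ≤ 2 * T.m (u 0) ∧ T.m (u 0) + T.m (u 2) ≤ 2 * T.m (u 1) ∧ T.m (u 1) + 2 * T.m (u 3) ≤ 2 * T.m (u 2) ∧ T.m (u 2) ≤ 2 * T.m (u 3)) ∨
      (T.w (u 0) = 2 * w ∧ T.w (u 1) = 2 * w ∧ T.w (u 2) = 2 * w ∧ T.w (u 3) = w ∧ T.a (u 0) (u 1) = 2 * w ∧ T.a (u 1) (u 2) = 2 * w ∧ T.a (u 2) (u 3) = 2 * w ∧ T.m (u 1) ≤ 2 * T.m (u 0) ∧ T.m (u 0) + T.m (u 2) ≤ 2 * T.m (u 1) ∧ T.m (u 1) + T.m (u 3) ≤ 2 * T.m (u 2) ∧ T.m (u 2) ≤ T.m (u 3)) ∨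
      (T.w (u 0) = w ∧ T.w (u 1) = w ∧ T.w (u 2) = 2 * w ∧ T.w (u 3) = 2 * w ∧ T.a (u 0) (u 1) = w ∧ T.a (u 1) (u 2) = 2 * w ∧ T.a (u 2) (u 3) = 2 * w ∧ T.m (u 1) ≤ 2 * T.m (u 0) ∧ T.m (u 0) + 2 * T.m (u 2) ≤ 2 * T.m (u 1) ∧ T.m (u 1) + T.m (u 3) ≤ 2 * T.m (u 2) ∧ T.m (u 2) ≤ 2 * T.m (u 3))) := by
  have h := Chain.of_ne v.injective hn hv (fun i j hij => by
    fin_cases i <;> fin_cases j <;> simp at hij <;> assumption)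
  refine ⟨⟨h.zero 0 2 (by decide), h.zero 0 3 (by decide), h.zero 1 3 (by decide)⟩, ?_⟩
  have h' := h.rev
  rcases h.orient (by norm_num) 0 1 2 3 rfl rfl rfl rfl with e | e
  · obtain ⟨w, hw | ⟨h1, h2, h3, h4, h5, h6, h7, h8, h9, h10, h11⟩⟩ := half h e
    · exact ⟨v, w, Or.inl fun _ => rfl, hw⟩
    · refine ⟨fun j => v j.rev, w, Or.inr fun _ => rfl, Or.inr (Or.inr (Or.inr ?_))⟩
      simp only [Fin.rev, Fin.mk.injEq]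
      exact ⟨h4, h3, h2, h1, (a_symm T _ _).trans h7, (a_symm T _ _).trans h6, (a_symm T _ _).trans h5,
        h11, (add_comm _ _).trans_le h10, (add_comm _ _).trans_le h9, h8⟩
  · obtain ⟨w, hw | ⟨h1, h2, h3, h4, h5, h6, h7, h8, h9, h10, h11⟩⟩ := half h' e
    · exact ⟨fun j => v j.rev, w, Or.inr fun _ => rfl, hw⟩
    · refine ⟨v, w, Or.inl fun _ => rfl, Or.inr (Or.inr (Or.inr ?_))⟩
      exact ⟨h4, h3, h2, h1, (a_symm T _ _).trans h7, (a_symm T _ _).trans h6, (a_symm T _ _).trans h5,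
        h11, (add_comm _ _).trans_le h10, (add_comm _ _).trans_le h9, h8⟩

end Groth.Agent.S7352
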