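import Groth.Statements.S7353
import Groth.Agent.NumTypeLib.Chain

set_option autoImplicit false
open Finset
open Models Models.NumericalType

namespace Groth.Agent.S7353

open Groth.Agent.NumTypeLib

lemma half {n : ℕ} {T : Models.NumericalType n} {u : Fin 5 → Fin n} (h : Chain T u)
    (e0 : Simple T (u 0) (u 1)) : ∃ w : ℤ,
      ((T.w (u 0) = w ∧ T.w (u 1) = w ∧ T.w (u 2) = w ∧ T.w (u 3) = w ∧ T.w (u 4) = w ∧ T.a (u 0) (u 1) = w ∧ T.a (u 1) (u 2) = w ∧ T.a (u 2) (u 3) = w ∧ T.a (u 3) (u 4) = w ∧ T.m (u 1) ≤ 2 * T.m (u 0) ∧ T.m (u 0) + T.m (u 2) ≤ 2 * T.m (u 1) ∧ T.m (u 1) + T.m (u 3) ≤ 2 * T.m (u 2) ∧ T.m (u 2) + T.m (u 4) ≤ 2 * T.m (u 3) ∧ T.m (u 3) ≤ 2 * T.m (u 4)) ∨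
      (T.w (u 0) = w ∧ T.w (u 1) = w ∧ T.w (u 2) = w ∧ T.w (u 3) = w ∧ T.w (u 4) = 2 * w ∧ T.a (u 0) (u 1) = w ∧ T.a (u 1) (u 2) = w ∧ T.a (u 2) (u 3) = w ∧ T.a (u 3) (u 4) = 2 * w ∧ T.m (u 1) ≤ 2 * T.m (u 0) ∧ T.m (u 0) + T.m (u 2) ≤ 2 * T.m (u 1) ∧ T.m (u 1) + T.m (u 3) ≤ 2 * T.m (u 2) ∧ T.m (u 2) + 2 * T.m (u 4) ≤ 2 * T.m (u 3) ∧ T.m (u 3) ≤ 2 * T.m (u 4)) ∨
      (T.w (u 0) = 2 * w ∧ T.w (u 1) = 2 * w ∧ T.w (u 2) = 2 * w ∧ T.w (u 3) = 2 * w ∧ T.w (u 4) = w ∧ T.a (u 0) (u 1) = 2 * w ∧ T.a (u 1) (u 2) = 2 * w ∧ T.a (u 2) (u 3) = 2 * w ∧ T.a (u 3) (u 4) = 2 * w ∧ T.m (u 1) ≤ 2 * T.m (u 0) ∧ T.m (u 0) + T.m (u 2) ≤ 2 * T.m (u 1) ∧ T.m (u 1) + T.m (u 3) ≤ 2 * T.m (u 2) ∧ T.m (u 2) + T.m (u 4) ≤ 2 * T.m (u 3) ∧ T.m (u 3) ≤ T.m (u 4))) := by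
  have ne : ∀ i j : Fin 5, i ≠ j → u i ≠ u j := fun i j hij => h.inj.ne hij
  have r0 := row1 T (h.two 0) (ne 0 1 (by decide))
  have r1 := row2 T (h.two 1) (ne 1 0 (by decide)) (ne 1 2 (by decide)) (ne 0 2 (by decide))
  have r2 := row2 T (h.two 2) (ne 2 1 (by decide)) (ne 2 3 (by decide)) (ne 1 3 (by decide))
  have r3 := row2 T (h.two 3) (ne 3 2 (by decide)) (ne 3 4 (by decide)) (ne 2 4 (by decide))
  have r4 := row1 T (h.two 4) (ne 4 3 (by decide))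
  rw [a_symm T (u 1) (u 0)] at r1
  rw [a_symm T (u 2) (u 1)] at r2
  rw [a_symm T (u 3) (u 2)] at r3
  rw [a_symm T (u 4) (u 3)] at r4
  obtain ⟨a0, w0⟩ := e0
  obtain ⟨a1, w1⟩ := h.interior_simple 1 2 rfl le_rfl (by decide) le_rfl
  obtain ⟨a2, w2⟩ := h.interior_simple 2 3 rfl (by decide) (by decide) le_rfl
  have hw0 := T.w_pos (u 0)
  have hw4 := T.w_pos (u 4)
  rcases h.edge (by norm_num) 3 4 rfl with ⟨a3, w3⟩ | f | f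
  · rw [a0] at r0; rw [a0, a1, w0] at r1; rw [a1, a2, w1, w0] at r2; rw [a2, a3, w2, w1, w0] at r3
    rw [a3, w3, w2, w1, w0] at r4
    exact ⟨T.w (u 0), Or.inl ⟨rfl, by omega, by omega, by omega, by omega, a0, by omega, by omega, by omega,
      by nlinarith, by nlinarith, by nlinarith, by nlinarith, by nlinarith⟩⟩
  · obtain ⟨w3, a3⟩ := f
    rw [a0] at r0; rw [a0, a1, w0] at r1; rw [a1, a2, w1, w0] at r2; rw [a2, a3, w2, w1, w0] at r3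
    rw [a3, w3, w2, w1, w0] at r4
    exact ⟨T.w (u 0), Or.inr (Or.inl ⟨rfl, by omega, by omega, by omega, by omega, a0, by omega, by omega,
      by omega, by nlinarith, by nlinarith, by nlinarith, by nlinarith, by nlinarith⟩)⟩
  · obtain ⟨w3, a3⟩ := f
    rw [a_symm T (u 4) (u 3)] at a3
    have e01 : T.w (u 0) = 2 * T.w (u 4) := by omega
    rw [a0, e01] at r0; rw [a0, a1, w0, e01] at r1; rw [a1, a2, w1, w0, e01] at r2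
    rw [a2, a3, w2, w1, w0, e01] at r3; rw [a3] at r4
    exact ⟨T.w (u 4), Or.inr (Or.inr ⟨e01, by omega, by omega, by omega, rfl, by omega, by omega, by omega, a3,
      by nlinarith, by nlinarith, by nlinarith, by nlinarith, by nlinarith⟩)⟩


/-- Classification of proper subgraphs which are chains of five vertices: let T be a numerical type on n
> 5 indices and i_1, …, i_5 distinct (-2)-indices with a_{i_j i_{j+1}} nonzero for j < 5. Then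
a_{i_j i_l} = 0 for |j - l| ≥ 2 and, after possibly reversing the order of the indices, for some
integer w one of the following holds: (A5) w = (w, w, w, w, w), consecutive a = (w, w, w, w), with
2m_1 ≥ m_2, 2m_2 ≥ m_1 + m_3, 2m_3 ≥ m_2 + m_4, 2m_4 ≥ m_3 + m_5, 2m_5 ≥ m_4; (C5) w = (w, w, w, w,
2w), consecutive a = (w, w, w, 2w), with 2m_1 ≥ m_2, 2m_2 ≥ m_1 + m_3, 2m_3 ≥ m_2 + m_4, 2m_4 ≥ m_3
+ 2m_5, 2m_5 ≥ m_4; (B5) w = (2w, 2w, 2w, 2w, w), consecutive a = (2w, 2w, 2w, 2w), with 2m_1 ≥ m_2,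
2m_2 ≥ m_1 + m_3, 2m_3 ≥ m_2 + m_4, 2m_4 ≥ m_3 + m_5, m_5 ≥ m_4. (The inequalities are those given
by the rows Σ_l a_{kl} m_l = 0 of the displayed matrices; the published text has 2m_3 ≥ m_2 + 2m_4
and 2m_4 ≥ m_3 + m_5 in case C5 and m_4 ≥ m_3 in case B5, of which the first does not follow — for
the numerical type with six indices, weights (1,1,1,1,2,1), chain intersection numbers (1,1,1,2)
plus a_{16} = 1, a_{66} = -1 and multiplicities (2,2,2,2,1,2) one has 2m_3 = 4 < m_2 + 2m_4 = 6 — so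
the matrix inequalities are stated.) -/
theorem result {n : ℕ} (T : Models.NumericalType n) (hn : 5 < n)
    (v : Fin 5 ↪ Fin n) (hv : ∀ j, T.IsMinusTwo (v j)) (h01 : T.a (v 0) (v 1) ≠ 0) (h12 : T.a (v 1) (v 2) ≠ 0) (h23 : T.a (v 2) (v 3) ≠ 0) (h34 : T.a (v 3) (v 4) ≠ 0) :
    (T.a (v 0) (v 2) = 0 ∧ T.a (v 0) (v 3) = 0 ∧ T.a (v 0) (v 4) = 0 ∧ T.a (v 1) (v 3) = 0 ∧ T.a (v 1) (v 4) = 0 ∧ T.a (v 2) (v 4) = 0) ∧
    ∃ (u : Fin 5 → Fin n) (w : ℤ), ((∀ j, u j = v j) ∨ (∀ j, u j = v (Fin.rev j))) ∧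
      ((T.w (u 0) = w ∧ T.w (u 1) = w ∧ T.w (u 2) = w ∧ T.w (u 3) = w ∧ T.w (u 4) = w ∧ T.a (u 0) (u 1) = w ∧ T.a (u 1) (u 2) = w ∧ T.a (u 2) (u 3) = w ∧ T.a (u 3) (u 4) = w ∧ T.m (u 1) ≤ 2 * T.m (u 0) ∧ T.m (u 0) + T.m (u 2) ≤ 2 * T.m (u 1) ∧ T.m (u 1) + T.m (u 3) ≤ 2 * T.m (u 2) ∧ T.m (u 2) + T.m (u 4) ≤ 2 * T.m (u 3) ∧ T.m (u 3) ≤ 2 * T.m (u 4)) ∨
      (T.w (u 0) = w ∧ T.w (u 1) = w ∧ T.w (u 2) = w ∧ T.w (u 3) = w ∧ T.w (u 4) = 2 * w ∧ T.a (u 0) (u 1) = w ∧ T.a (u 1) (u 2) = w ∧ T.a (u 2) (u 3) = w ∧ T.a (u 3) (u 4) = 2 * w ∧ T.m (u 1) ≤ 2 * T.m (u 0) ∧ T.m (u 0) + T.m (u 2) ≤ 2 * T.m (u 1) ∧ T.m (u 1) + T.m (u 3) ≤ 2 * T.m (u 2) ∧ T.m (u 2) + 2 * T.m (u 4) ≤ 2 * T.m (u 3) ∧ T.m (u 3) ≤ 2 * T.m (u 4)) ∨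
      (T.w (u 0) = 2 * w ∧ T.w (u 1) = 2 * w ∧ T.w (u 2) = 2 * w ∧ T.w (u 3) = 2 * w ∧ T.w (u 4) = w ∧ T.a (u 0) (u 1) = 2 * w ∧ T.a (u 1) (u 2) = 2 * w ∧ T.a (u 2) (u 3) = 2 * w ∧ T.a (u 3) (u 4) = 2 * w ∧ T.m (u 1) ≤ 2 * T.m (u 0) ∧ T.m (u 0) + T.m (u 2) ≤ 2 * T.m (u 1) ∧ T.m (u 1) + T.m (u 3) ≤ 2 * T.m (u 2) ∧ T.m (u 2) + T.m (u 4) ≤ 2 * T.m (u 3) ∧ T.m (u 3) ≤ T.m (u 4))) := by
  have h := Chain.of_ne v.injective hn hv (fun i j hij => by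
    fin_cases i <;> fin_cases j <;> simp at hij <;> assumption)
  refine ⟨⟨h.zero 0 2 (by decide), h.zero 0 3 (by decide), h.zero 0 4 (by decide), h.zero 1 3 (by decide),
    h.zero 1 4 (by decide), h.zero 2 4 (by decide)⟩, ?_⟩
  rcases h.orient (by norm_num) 0 1 3 4 rfl rfl rfl rfl with e | e
  · obtain ⟨w, hw⟩ := half h e
    exact ⟨v, w, Or.inl fun _ => rfl, hw⟩
  · obtain ⟨w, hw⟩ := half h.rev e
    exact ⟨fun j => v j.rev, w, Or.inr fun _ => rfl, hw⟩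

end Groth.Agent.S7353
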