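import Groth.Statements.S7354
import Groth.Agent.NumTypeLib.Chain

set_option autoImplicit false
open Finset
open Models Models.NumericalType

namespace Groth.Agent.S7354

open Groth.Agent.NumTypeLib

lemma half {n t : ℕ} {T : Models.NumericalType n} {u : Fin t → Fin n} (h : Chain T u) (ht : 5 < t)
    (e0 : Simple T (u ⟨0, by omega⟩) (u ⟨1, by omega⟩)) : ∃ w : ℤ,
      ((∀ j : Fin t, T.w (u j) = w) ∧ (∀ j j' : Fin t, j'.val = j.val + 1 → T.a (u j) (u j') = w) ∨
        ((∀ j : Fin t, j.val + 1 < t → T.w (u j) = w) ∧ (∀ j : Fin t, j.val + 1 = t → T.w (u j) = 2 * w) ∧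
          (∀ j j' : Fin t, j'.val = j.val + 1 → j'.val + 1 < t → T.a (u j) (u j') = w) ∧
          (∀ j j' : Fin t, j'.val = j.val + 1 → j'.val + 1 = t → T.a (u j) (u j') = 2 * w)) ∨
        ((∀ j : Fin t, j.val + 1 < t → T.w (u j) = 2 * w) ∧ (∀ j : Fin t, j.val + 1 = t → T.w (u j) = w) ∧
          (∀ j j' : Fin t, j'.val = j.val + 1 → T.a (u j) (u j') = 2 * w))) := by
  have hs : ∀ j j' : Fin t, j'.val = j.val + 1 → j'.val + 1 < t → Simple T (u j) (u j') := by
    intro j j' hj hj'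
    rcases Nat.eq_zero_or_pos j.val with h0 | h0
    · convert e0 using 2 <;> ext <;> simp <;> omega
    · exact h.interior_simple j j' hj h0 hj' (by omega)
  set W := T.w (u ⟨0, by omega⟩) with hW
  have hw : ∀ k, ∀ hk : k + 1 < t, T.w (u ⟨k, by omega⟩) = W := by
    intro k
    induction k with
    | zero => intro _; rfl
    | succ k ih =>
      intro hk
      rw [(hs ⟨k, by omega⟩ ⟨k + 1, by omega⟩ rfl hk).2, ih (by omega)]
  have hw' : ∀ j : Fin t, j.val + 1 < t → T.w (u j) = W := fun j hj => hw j.val hj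
  have ha : ∀ j j' : Fin t, j'.val = j.val + 1 → j'.val + 1 < t → T.a (u j) (u j') = W :=
    fun j j' hj hj' => (hs j j' hj hj').1.trans (hw' j (by omega))
  let c : Fin t := ⟨t - 2, by omega⟩
  let d : Fin t := ⟨t - 1, by omega⟩
  have hd : ∀ j : Fin t, j.val + 1 = t → j = d := fun j hj => Fin.ext (by simp [d]; omega)
  have hcd : ∀ j j' : Fin t, j'.val = j.val + 1 → j'.val + 1 = t → j = c ∧ j' = d :=
    fun j j' hj hj' => ⟨Fin.ext (by simp [c]; omega), hd j' hj'⟩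
  have hwc : T.w (u c) = W := hw' c (by simp [c]; omega)
  rcases h.edge (by omega) c d (by simp [c, d]; omega) with ⟨a, w⟩ | f | f
  · refine ⟨W, Or.inl ⟨fun j => ?_, fun j j' hj => ?_⟩⟩
    · by_cases hj : j.val + 1 < t
      · exact hw' j hj
      · rw [hd j (by omega), w, hwc]
    · by_cases hj' : j'.val + 1 < t
      · exact ha j j' hj hj'
      · obtain ⟨rfl, rfl⟩ := hcd j j' hj (by omega)
        rw [a, hwc]
  · obtain ⟨w, a⟩ := f
    refine ⟨W, Or.inr (Or.inl ⟨hw', fun j hj => by rw [hd j hj, w, hwc], ha, fun j j' hj hj' => ?_⟩)⟩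
    obtain ⟨rfl, rfl⟩ := hcd j j' hj hj'
    rw [a, hwc]
  · obtain ⟨w, a⟩ := f
    rw [a_symm T (u d) (u c)] at a
    refine ⟨T.w (u d), Or.inr (Or.inr ⟨fun j hj => by rw [hw' j hj, ← hwc, w],
      fun j hj => by rw [hd j hj], fun j j' hj => ?_⟩)⟩
    by_cases hj' : j'.val + 1 < t
    · rw [ha j j' hj hj', ← hwc, w]
    · obtain ⟨rfl, rfl⟩ := hcd j j' hj (by omega)
      exact a


/-- Let T be a numerical type on n indices, t > 5 with n > t, and i_1, …, i_t distinct (-2)-indices with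
a_{i_j i_{j+1}} nonzero for j = 1, …, t - 1. Then, after possibly reversing the order of the
indices, for some integer w either (A) w_{i_1} = … = w_{i_t} = w and a_{i_j i_{j+1}} = w for all j;
or (C) w_{i_1} = … = w_{i_{t-1}} = w, w_{i_t} = 2w, a_{i_j i_{j+1}} = w for j < t - 1 and a_{i_{t-1}
i_t} = 2w; or (B) w_{i_1} = … = w_{i_{t-1}} = 2w, w_{i_t} = w and a_{i_j i_{j+1}} = 2w for all j;
and in every case a_{i_j i_k} = 0 whenever k > j + 1. -/
theorem result {n : ℕ} (T : Models.NumericalType n) (t : ℕ) (ht : 5 < t) (hn : t < n)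
    (v : Fin t ↪ Fin n) (hv : ∀ j, T.IsMinusTwo (v j))
    (hchain : ∀ j j' : Fin t, j'.val = j.val + 1 → T.a (v j) (v j') ≠ 0) :
    ∃ (u : Fin t → Fin n) (w : ℤ), ((∀ j, u j = v j) ∨ (∀ j, u j = v (Fin.rev j))) ∧
      (∀ j k : Fin t, j.val + 1 < k.val → T.a (u j) (u k) = 0) ∧
      ((∀ j : Fin t, T.w (u j) = w) ∧ (∀ j j' : Fin t, j'.val = j.val + 1 → T.a (u j) (u j') = w) ∨
        ((∀ j : Fin t, j.val + 1 < t → T.w (u j) = w) ∧ (∀ j : Fin t, j.val + 1 = t → T.w (u j) = 2 * w) ∧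
          (∀ j j' : Fin t, j'.val = j.val + 1 → j'.val + 1 < t → T.a (u j) (u j') = w) ∧
          (∀ j j' : Fin t, j'.val = j.val + 1 → j'.val + 1 = t → T.a (u j) (u j') = 2 * w)) ∨
        ((∀ j : Fin t, j.val + 1 < t → T.w (u j) = 2 * w) ∧ (∀ j : Fin t, j.val + 1 = t → T.w (u j) = w) ∧
          (∀ j j' : Fin t, j'.val = j.val + 1 → T.a (u j) (u j') = 2 * w))) := by
  have h := Chain.of_ne v.injective hn hv hchain
  rcases h.orient (by omega) ⟨0, by omega⟩ ⟨1, by omega⟩ ⟨t - 2, by omega⟩ ⟨t - 1, by omega⟩ rfl rfl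
    (by simp only; omega) (by simp only; omega) with e | e
  · obtain ⟨w, hw⟩ := half h ht e
    exact ⟨v, w, Or.inl fun _ => rfl, h.zero, hw⟩
  · obtain ⟨w, hw⟩ := half h.rev ht (by convert e using 3 <;> simp [Fin.rev] <;> omega)
    exact ⟨fun j => v j.rev, w, Or.inr fun _ => rfl, h.rev.zero, hw⟩

end Groth.Agent.S7354
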