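import Groth.Statements.S7355
import Groth.Agent.NumTypeLib.Chain

set_option autoImplicit false
open Finset
open Models Models.NumericalType

namespace Groth.Agent.S7355

open Groth.Agent.NumTypeLib


/-- Classification of proper subgraphs of type D: let T be a numerical type on n indices, t > 4 with n >
t + 1, and i_1, …, i_{t+1} distinct (-2)-indices such that a_{i_j i_{j+1}} is nonzero for j = 1, …,
t - 1 and a_{i_{t-1} i_{t+1}} is nonzero. Then for some integer w one has w_{i_1} = … = w_{i_{t+1}}
= w, a_{i_j i_{j+1}} = w for j < t, a_{i_{t-1} i_{t+1}} = w, and a_{i_j i_k} = 0 for all other pairs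
j ≠ k. -/
theorem result {n : ℕ} (T : Models.NumericalType n) (t : ℕ) (ht : 4 < t) (hn : t + 1 < n)
    (v : Fin (t + 1) ↪ Fin n) (hv : ∀ j, T.IsMinusTwo (v j))
    (hchain : ∀ j j' : Fin (t + 1), j'.val = j.val + 1 → j'.val < t → T.a (v j) (v j') ≠ 0)
    (hbranch : ∀ j j' : Fin (t + 1), j.val + 2 = t → j'.val = t → T.a (v j) (v j') ≠ 0) :
    ∃ w : ℤ, (∀ j : Fin (t + 1), T.w (v j) = w) ∧
      (∀ j j' : Fin (t + 1), j'.val = j.val + 1 → j'.val < t → T.a (v j) (v j') = w) ∧
      (∀ j j' : Fin (t + 1), j.val + 2 = t → j'.val = t → T.a (v j) (v j') = w) ∧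
      (∀ j k : Fin (t + 1), j.val < k.val → ¬ (k.val = j.val + 1 ∧ k.val < t) → ¬ (j.val + 2 = t ∧ k.val = t) →
        T.a (v j) (v k) = 0) := by
  have pc : ∀ j j' : Fin (t + 1), j'.val = j.val + 1 → j'.val < t → 0 < T.a (v j) (v j') :=
    fun j j' h1 h2 => lt_of_le_of_ne (T.offDiag_nonneg _ _ (v.injective.ne (Fin.ne_of_val_ne (by omega))))
      (Ne.symm (hchain j j' h1 h2))
  have pb : ∀ j j' : Fin (t + 1), j.val + 2 = t → j'.val = t → 0 < T.a (v j) (v j') :=
    fun j j' h1 h2 => lt_of_le_of_ne (T.offDiag_nonneg _ _ (v.injective.ne (Fin.ne_of_val_ne (by omega))))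
      (Ne.symm (hbranch j j' h1 h2))
  -- every edge is simple
  have sc : ∀ j j' : Fin (t + 1), j'.val = j.val + 1 → j'.val + 2 ≤ t → Simple T (v j') (v j) := by
    intro j j' h1 h2
    refine simple_of_fork T v v.injective hv (t - 3 - j.val) (by omega)
      (Sum.elim (fun b => if b then ⟨t - 1, by omega⟩ else ⟨t, by omega⟩)
        (fun i => ⟨t - 2 - i.val, by omega⟩)) ?_ ?_ ?_ (Fin.ext (by simp; omega)) (Fin.ext (by simp; omega))
      (by rw [a_symm]; exact pc j j' h1 (by omega))
    · rintro (b | i) (b' | i') h <;> (try cases b) <;> (try cases b') <;>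
        simp only [Sum.elim_inl, Sum.elim_inr, Bool.false_eq_true, if_true, if_false, Fin.mk.injEq] at h <;>
        first | rfl | omega | exact congrArg _ (Fin.ext (by omega))
    · intro b
      rw [a_symm]
      cases b
      · exact pb _ _ (by simp <;> omega) rfl
      · exact pc _ _ (by simp <;> omega) (by simp <;> omega)
    · intro i
      rw [a_symm]
      exact pc _ _ (by simp <;> omega) (by simp <;> omega)
  let p : Fin (t + 1) := ⟨t - 3, by omega⟩
  let c : Fin (t + 1) := ⟨t - 2, by omega⟩
  let d : Fin (t + 1) := ⟨t - 1, by omega⟩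
  let e : Fin (t + 1) := ⟨t, by omega⟩
  have hpc : 0 < T.a (v p) (v c) := pc p c (by simp [p, c]; omega) (by simp [c]; omega)
  have hdc : 0 < T.a (v c) (v d) := pc c d (by simp [c, d]; omega) (by simp [d]; omega)
  have hec : 0 < T.a (v c) (v e) := pb c e (by simp [c]; omega) (by simp [e])
  have sd : Simple T (v c) (v d) := by
    refine simple_of_fork T v v.injective hv 0 (by omega)
      (Sum.elim (fun b => if b then p else e) ![c, d]) ?_ ?_ ?_ rfl rfl hdc
    · rintro (b | i) (b' | i') h <;> (try cases b) <;> (try cases b') <;> (try fin_cases i) <;>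
        (try fin_cases i') <;> first | rfl | (simp [p, c, d, e] at h; done) | (simp [p, c, d, e] at h; omega)
    · intro b; cases b
      · simpa [a_symm T (v e)] using hec
      · exact hpc
    · intro i; fin_cases i; exact hdc
  have se : Simple T (v c) (v e) := by
    refine simple_of_fork T v v.injective hv 0 (by omega)
      (Sum.elim (fun b => if b then p else d) ![c, e]) ?_ ?_ ?_ rfl rfl hec
    · rintro (b | i) (b' | i') h <;> (try cases b) <;> (try cases b') <;> (try fin_cases i) <;>
        (try fin_cases i') <;> first | rfl | (simp [p, c, d, e] at h; done) | (simp [p, c, d, e] at h; omega)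
    · intro b; cases b
      · simpa [a_symm T (v d)] using hdc
      · exact hpc
    · intro i; fin_cases i; exact hec
  have hw : ∀ k, ∀ hk : k + 2 ≤ t, T.w (v ⟨t - 2 - k, by omega⟩) = T.w (v c) := by
    intro k
    induction k with
    | zero => intro _; rfl
    | succ k ih =>
      intro hk
      rw [← ih (by omega)]
      exact (sc ⟨t - 2 - (k + 1), by omega⟩ ⟨t - 2 - k, by omega⟩ (by simp; omega) (by simp; omega)).2
  have hall : ∀ j : Fin (t + 1), T.w (v j) = T.w (v c) := by
    intro j
    rcases (by omega : j.val + 2 ≤ t ∨ j.val + 1 = t ∨ j.val = t) with h | h | h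
    · convert hw (t - 2 - j.val) (by omega) using 3; ext; simp; omega
    · rw [show j = d from Fin.ext (by simp [d]; omega)]; exact sd.2
    · rw [show j = e from Fin.ext (by simp [e]; omega)]; exact se.2
  have ha : ∀ j j' : Fin (t + 1), j'.val = j.val + 1 → j'.val < t → T.a (v j) (v j') = T.w (v c) := by
    intro j j' h1 h2
    by_cases h3 : j'.val + 2 ≤ t
    · rw [a_symm, (sc j j' h1 h3).1, hall]
    · rw [show j = c from Fin.ext (by simp [c]; omega), show j' = d from Fin.ext (by simp [d]; omega)]
      exact sd.1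
  refine ⟨T.w (v c), hall, ha, fun j j' h1 h2 => ?_, fun j k hjk h1 h2 => ?_⟩
  · rw [show j = c from Fin.ext (by simp [c]; omega), show j' = e from Fin.ext (by simp [e]; omega)]
    exact se.1
  · refine tree_zero T v v.injective (by simpa using hn) hv
      (⟨fun l => ⟨if l.val + 1 < t then l.val else t - 2, by split_ifs <;> omega⟩,
        fun l => ⟨l.val + 1, by omega⟩⟩ : Edges (Fin (t + 1)) (Fin t)) ⟨?_, ?_⟩ ?_ (by simp) j k
      (by intro h; subst h; omega) (fun l => ⟨?_, ?_⟩)
    · intro l l' _ h
      have := Fin.mk.inj_iff.1 h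
      exact Fin.ext (by omega)
    · intro l l' h3 h4
      have h3' := congrArg Fin.val h3
      have h4' := congrArg Fin.val h4
      simp only at h3' h4'
      split_ifs at h3' h4' <;> omega
    · intro l
      simp only
      by_cases hl : l.val + 1 < t
      · exact pc _ _ (by simp [hl]) (by simpa using hl)
      · exact pb _ _ (by simp [hl]; omega) (by simp; omega)
    · rintro ⟨h3, h4⟩
      have h3' := congrArg Fin.val h3
      have h4' := congrArg Fin.val h4
      simp only at h3' h4'
      split_ifs at h3' <;> omega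
    · rintro ⟨h3, h4⟩
      have h3' := congrArg Fin.val h3
      have h4' := congrArg Fin.val h4
      simp only at h3' h4'
      split_ifs at h3' <;> omega

end Groth.Agent.S7355
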