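import Groth.Statements.S7358
import Groth.Agent.CastLib.PointStrict
-- import your own Groth.Agent.* helpers here

set_option autoImplicit false
set_option backward.isDefEq.respectTransparency false
set_option maxHeartbeats 800000
set_option synthInstance.maxHeartbeats 200000
universe u
open CategoryTheory CategoryTheory.Limits AlgebraicGeometry
open Resolve

namespace Groth.Agent.S7358

/-- Let X be a locally Noetherian scheme, Y and Z closed subschemes with ideal sheaves I_Y and I_Z, p a
closed point lying on Y and on Z, with Y integral of dimension one, the generic point of Y not on Z,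
and O_{Y,p} regular; the multiplicity m_p(Y ∩ Z) is the length of the local ring of Y ∩ Z (ideal I_Y
+ I_Z) at p. Let b : X' → X be the blowing up of X at p (in the reduced point), E its exceptional
divisor, and Y', Z' ⊂ X' the strict transforms of Y and Z, i.e. the closed subschemes whose ideals
are the kernels of b^{-1}(Y) ∖ E → X' and b^{-1}(Z) ∖ E → X'. Then (1) b induces an isomorphism Y' ≅
Y; (2) Y' meets E in exactly one point q, and m_q(Y' ∩ E) = 1; (3) if moreover q ∈ Z', then m_q(Y' ∩
Z') < m_p(Y ∩ Z). -/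
theorem result (X : Scheme.{u}) [IsLocallyNoetherian X]
    (IY IZ : X.IdealSheafData) [IsIntegral IY.subscheme] (hdimY : topologicalKrullDim ↥IY.subscheme = 1)
    (p : X) (hp : IsClosed ({p} : Set X)) (hpY : p ∈ (IY.support : Set X)) (hpZ : p ∈ (IZ.support : Set X))
    (hgen : IY.subschemeι.base (genericPoint ↥IY.subscheme) ∉ (IZ.support : Set X))
    (hreg : ∀ y : ↥IY.subscheme, IY.subschemeι.base y = p → IsRegularLocalRing (IY.subscheme.presheaf.stalk y))
    (X' : Scheme.{u}) (b : X' ⟶ X) (hb : BlowUp.IsBlowUp b (Scheme.IdealSheafData.vanishingIdeal ⟨{p}, hp⟩))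
    (IY' IZ' : X'.IdealSheafData)
    (hY' : IY' = Scheme.Hom.ker ((((IY.comap b).subschemeι ⁻¹ᵁ
        (BlowUp.exceptional b (Scheme.IdealSheafData.vanishingIdeal ⟨{p}, hp⟩)).support.compl).ι) ≫ (IY.comap b).subschemeι))
    (hZ' : IZ' = Scheme.Hom.ker ((((IZ.comap b).subschemeι ⁻¹ᵁ
        (BlowUp.exceptional b (Scheme.IdealSheafData.vanishingIdeal ⟨{p}, hp⟩)).support.compl).ι) ≫ (IZ.comap b).subschemeι)) :
    (∃ e : IY'.subscheme ≅ IY.subscheme, e.hom ≫ IY.subschemeι = IY'.subschemeι ≫ b) ∧
    (∃ q : X', {x : X' | x ∈ (IY'.support : Set X') ∧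
          x ∈ ((BlowUp.exceptional b (Scheme.IdealSheafData.vanishingIdeal ⟨{p}, hp⟩)).support : Set X')} = {q} ∧
      (∀ q1 : ↥(IY' ⊔ BlowUp.exceptional b (Scheme.IdealSheafData.vanishingIdeal ⟨{p}, hp⟩)).subscheme,
          (IY' ⊔ BlowUp.exceptional b (Scheme.IdealSheafData.vanishingIdeal ⟨{p}, hp⟩)).subschemeι.base q1 = q →
          Module.length
            ((IY' ⊔ BlowUp.exceptional b (Scheme.IdealSheafData.vanishingIdeal ⟨{p}, hp⟩)).subscheme.presheaf.stalk q1)
            ((IY' ⊔ BlowUp.exceptional b (Scheme.IdealSheafData.vanishingIdeal ⟨{p}, hp⟩)).subscheme.presheaf.stalk q1) = 1) ∧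
      (q ∈ (IZ'.support : Set X') →
        ∀ (q0 : ↥(IY ⊔ IZ).subscheme) (q1 : ↥(IY' ⊔ IZ').subscheme),
          (IY ⊔ IZ).subschemeι.base q0 = p → (IY' ⊔ IZ').subschemeι.base q1 = q →
          Module.length ((IY' ⊔ IZ').subscheme.presheaf.stalk q1) ((IY' ⊔ IZ').subscheme.presheaf.stalk q1) <
            Module.length ((IY ⊔ IZ).subscheme.presheaf.stalk q0) ((IY ⊔ IZ).subscheme.presheaf.stalk q0))) := by
    haveI : IsLocallyNoetherian IY.subscheme := LocallyOfFiniteType.isLocallyNoetherian IY.subschemeι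
    obtain ⟨y, hy⟩ : p ∈ Set.range IY.subschemeι := by rw [Scheme.IdealSheafData.range_subschemeι]; exact hpY
    subst hy
    have hyc : IsClosed ({y} : Set IY.subscheme) := by
      have h := hp.preimage IY.subschemeι.continuous
      rwa [← Set.image_singleton, Set.preimage_image_eq _ IY.subschemeι.isEmbedding.injective] at h
    have hne : y ≠ genericPoint IY.subscheme := fun e => hgen (e ▸ hpZ)
    obtain ⟨k, hkc, hk, hker, hkE, hlen1, hlt⟩ := Groth.Agent.CastLib.PointStrict.main hdimY.le IY.subschemeι IZ hyc hne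
      (hreg y rfl) hp hpZ hgen b hb
    haveI := hkc
    have hIY : IY' = k.ker := by
      rw [hY', hker, Scheme.IdealSheafData.ker_subschemeι]
      rfl
    have hIZ : IZ' = Groth.Agent.CastLib.PointStrict.cutKer (IZ.comap b)
        (BlowUp.exceptional b (Scheme.IdealSheafData.vanishingIdeal ⟨{IY.subschemeι y}, hp⟩)).support.compl := hZ'
    have hrange : (k.ker.support : Set X') = Set.range k := by
      rw [Scheme.Hom.support_ker, k.isClosedEmbedding.isClosed_range.closure_eq]
    subst hIY
    refine ⟨⟨(asIso k.toImage).symm, ?_⟩, k y, ?_, fun q1 hq1 => ?_, fun hq q0 q1 hq0 hq1 => ?_⟩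
    · simp only [Iso.symm_hom, asIso_inv, IsIso.inv_comp_eq]
      rw [← hk]
      exact (k.toImage_imageι_assoc b).symm
    · ext x
      constructor
      · rintro ⟨hx, hxE⟩
        rw [hrange] at hx
        obtain ⟨z, rfl⟩ := hx
        exact congrArg k ((hkE z).1 hxE)
      · rintro rfl
        exact ⟨hrange.ge ⟨y, rfl⟩, (hkE y).2 rfl⟩
    · rw [Groth.Agent.CastLib.PointStrict.length_stalk_eq, hq1, Groth.Agent.CastLib.PointStrict.length_inter]
      exact hlen1
    · rw [Groth.Agent.CastLib.PointStrict.length_stalk_eq, hq1, Groth.Agent.CastLib.PointStrict.length_inter,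
        Groth.Agent.CastLib.PointStrict.length_stalk_eq, hq0]
      have h2 := Groth.Agent.CastLib.PointStrict.length_inter IY.subschemeι IZ y
      rw [Scheme.IdealSheafData.ker_subschemeι] at h2
      rw [h2, hIZ]
      exact hlt (hIZ ▸ hq)

end Groth.Agent.S7358
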