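import Groth.Statements.S7360
import Groth.Agent.CastLib.ColengthDrop
import Groth.Agent.CastLib.CurveCfg
import Groth.Agent.RegLocal.Consequences
import Groth.Agent.CastLib.StrictPoint
-- import your own Groth.Agent.* helpers here

set_option autoImplicit false
set_option backward.isDefEq.respectTransparency false
set_option maxHeartbeats 800000
set_option synthInstance.maxHeartbeats 200000
universe u
open CategoryTheory CategoryTheory.Limits AlgebraicGeometry
open Resolve

namespace Groth.Agent.S7360

/-- Let (A, m) be a regular local ring of dimension two, X → Spec A (the structure morphism) the blowing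
up in m with exceptional divisor E and its ideal I_E, and I an ideal of A with m^n ⊆ I ⊆ m for some
n. Let d be the largest integer with I O_X ⊆ O_X(-dE) = I_E^d and I' ⊆ O_X the ideal with I O_X = I'
· I_E^d (so I' = I O_X(dE)). Then d > 0, O_X/I' is supported in finitely many closed points x_1, …,
x_r, and length_A(A/I) > length_A Γ(X, O_X/I') ≥ Σ_i length_{O_{X,x_i}}(O_{X,x_i}/I'_{x_i}), the sum
written as a finite sum over the points of the subscheme defined by I'. -/
theorem result (A : Type u) [CommRing A] [IsRegularLocalRing A] (hA : ringKrullDim A = 2)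
    (X : Scheme.{u}) [X.Over (Spec (CommRingCat.of A))]
    (hb : BlowUp.IsBlowUp (X ↘ Spec (CommRingCat.of A)) (Curv2.idealSheaf A (IsLocalRing.maximalIdeal A)))
    (I : Ideal A) (n : ℕ) (hIn : IsLocalRing.maximalIdeal A ^ n ≤ I) (hIm : I ≤ IsLocalRing.maximalIdeal A)
    (d : ℕ) (I' : X.IdealSheafData)
    (hd : (Curv2.idealSheaf A I).comap (X ↘ Spec (CommRingCat.of A)) =
      I' * BlowUp.exceptional (X ↘ Spec (CommRingCat.of A)) (Curv2.idealSheaf A (IsLocalRing.maximalIdeal A)) ^ d)
    (hmax : ¬ (Curv2.idealSheaf A I).comap (X ↘ Spec (CommRingCat.of A)) ≤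
      BlowUp.exceptional (X ↘ Spec (CommRingCat.of A)) (Curv2.idealSheaf A (IsLocalRing.maximalIdeal A)) ^ (d + 1)) :
    0 < d ∧ (I'.support : Set X).Finite ∧ (∀ x ∈ (I'.support : Set X), IsClosed ({x} : Set X)) ∧
      Module.length A (Coh.HH X (ClSub.quotMod I') 0) < Module.length A (A ⧸ I) ∧
      ∑ᶠ x : ↥I'.subscheme, Module.length (I'.subscheme.presheaf.stalk x) (I'.subscheme.presheaf.stalk x) ≤
        Module.length A (Coh.HH X (ClSub.quotMod I') 0) := by
    open Groth.Agent Groth.Agent.CastLib Groth.Agent.TwistShriek Groth.Agent.TwistShriek.PointBlow in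
    classical
    haveI : IsNoetherianRing (CommRingCat.of A) := inferInstanceAs (IsNoetherianRing A)
    let b := X ↘ Spec (CommRingCat.of A)
    let x₀ : Spec (CommRingCat.of A) := IsLocalRing.closedPoint A
    have hxc : IsClosed ({x₀} : Set (Spec (CommRingCat.of A))) := BlowPic.isClosed_closed
    have hp : BlowUp.IsBlowUp b (pointIdeal hxc) := by
      rw [BlowPic.pointIdeal_eq_idealSheaf]; exact hb
    obtain ⟨hregx, hdx⟩ := BlowPic.dim_closed hA
    haveI := RegLocal.isDomain A
    haveI : IsDomain (CommRingCat.of A) := inferInstanceAs (IsDomain A)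
    haveI : IsProper b := TwistShriek.PointBlow.isProper hp
    haveI : IsLocallyNoetherian X := LocallyOfFiniteType.isLocallyNoetherian b
    haveI : CompactSpace X := QuasiCompact.compactSpace_of_compactSpace b
    haveI : AlgebraicGeometry.IsNoetherian X := {}
    obtain ⟨hintX, -⟩ := SurfPtBlow.integral_blowUp hp hdx
    haveI := hintX
    have hregA : ∀ s : Spec (CommRingCat.of A), IsRegularLocalRing ((Spec (CommRingCat.of A)).presheaf.stalk s) := fun s => by
      haveI := RegLocal.isRegularLocalRing_localization A s.asIdeal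
      letI : Algebra A ((Spec (CommRingCat.of A)).presheaf.stalk s) :=
        StructureSheaf.stalkAlgebra A s
      haveI : IsLocalization.AtPrime ((Spec (CommRingCat.of A)).presheaf.stalk s) s.asIdeal :=
        StructureSheaf.IsLocalization.to_stalk A s
      exact IsRegularLocalRing.of_ringEquiv (R := Localization.AtPrime s.asIdeal)
        (IsLocalization.algEquiv s.asIdeal.primeCompl (Localization.AtPrime s.asIdeal)
          ((Spec (CommRingCat.of A)).presheaf.stalk s)).toRingEquiv
    have hdimA : topologicalKrullDim (Spec (CommRingCat.of A)) ≤ 2 := by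
      refine le_of_eq ?_
      rw [← hA]
      exact PrimeSpectrum.topologicalKrullDim_eq_ringKrullDim A
    obtain ⟨P⟩ := TwistShriek.exists_pointParams hxc hregx hdx
    have hdimX : topologicalKrullDim X ≤ 2 := TwistShriek.PointBlow.topologicalKrullDim_blowUp_le hp P hdimA
    obtain ⟨η₀, hbη, hcp₀, -, hker₀, huniq⟩ := CurveCfg.exists_exc hp hregA hdx hdimX
    let E := BlowUp.exceptional b (Curv2.idealSheaf A (IsLocalRing.maximalIdeal A))
    have hker : CurveCfg.cvI η₀ = E := by
      rw [hker₀, BlowPic.pointIdeal_eq_idealSheaf]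
    let J := (Curv2.idealSheaf A I).comap b
    have hJy : ∀ y : X, IntMult.stalkIdeal J y = IntMult.stalkIdeal I' y * IntMult.stalkIdeal E y ^ d := fun y => by
      show IntMult.stalkIdeal ((Curv2.idealSheaf A I).comap b) y = _
      rw [hd, DivisorialLib.stalkIdeal_mul, InfNbhdLib.stalkIdeal_pow]
    have hEy : ∀ y : X, IntMult.stalkIdeal E y = (IsLocalRing.maximalIdeal A).map (ColengthDrop.toStalk (A := A) y) :=
      fun y => ColengthDrop.stalkIdeal_comap_idealSheaf _ y
    have hJy' : ∀ y : X, IntMult.stalkIdeal J y = I.map (ColengthDrop.toStalk (A := A) y) :=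
      fun y => ColengthDrop.stalkIdeal_comap_idealSheaf _ y
    have hd0 : 0 < d := by
      rcases Nat.eq_zero_or_pos d with rfl | h
      · refine absurd ?_ hmax
        refine DivisorialLib.le_of_stalk fun y => ?_
        rw [InfNbhdLib.stalkIdeal_pow, zero_add, pow_one, hJy', hEy]
        exact Ideal.map_mono hIm
      · exact h
    -- the support lies in the exceptional curve, away from its generic point
    have hoff : ∀ y ∈ (I'.support : Set X), y ∈ closure {η₀} := fun y hy => by
      by_contra hyE
      have h1 : IntMult.stalkIdeal E y = ⊤ := IdealMulLib.stalkIdeal_eq_top E fun h => hyE (by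
        rwa [← SetLike.mem_coe, ← hker, CurveCfg.supp_cv] at h)
      have h2 : IntMult.stalkIdeal J y = ⊤ := by
        refine top_le_iff.1 (le_trans ?_ ((hJy' y).symm ▸ Ideal.map_mono hIn))
        rw [Ideal.map_pow, ← hEy, h1, Ideal.top_pow]
      rw [hJy, h1, Ideal.top_pow, Ideal.mul_top] at h2
      exact (IsLocalRing.maximalIdeal.isMaximal _).ne_top
        (top_le_iff.1 (h2 ▸ IdealStalkLib.stalkIdeal_le_maximal I' hy))
    have hnot : η₀ ∉ (I'.support : Set X) := fun h => hmax (by
      have hle : I' ≤ E := by
        rw [← hker]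
        exact Scheme.IdealSheafData.le_support_iff_le_vanishingIdeal.1
          (show closure {η₀} ⊆ (I'.support : Set X) from closure_minimal (Set.singleton_subset_iff.2 h) I'.support.isClosed)
      refine DivisorialLib.le_of_stalk fun y => ?_
      show IntMult.stalkIdeal J y ≤ _
      rw [hJy, InfNbhdLib.stalkIdeal_pow, pow_succ']
      exact Ideal.mul_mono_left (CurveSep.stalkIdeal_mono hle y))
    have hclosed : ∀ y ∈ (I'.support : Set X), IsClosed ({y} : Set X) := fun y hy => by
      by_contra hc
      have hby : b y = x₀ := by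
        have h1 : η₀ ⤳ y := specializes_iff_mem_closure.2 (hoff y hy)
        have h2 := h1.map b.continuous
        rw [show b η₀ = x₀ from hbη] at h2
        exact h2.mem_closed hxc rfl
      exact hnot ((huniq y hby hc) ▸ hy)
    have hfin : (I'.support : Set X).Finite := H6CurveCorr.finite_of_isClosed_points I'.support.isClosed hclosed
    haveI : Finite I'.subscheme := by
      have h1 : (Set.range I'.subschemeι).Finite := by rw [Scheme.IdealSheafData.range_subschemeι]; exact hfin
      exact Finite.of_finite_univ (Set.Finite.of_finite_image (f := I'.subschemeι) (by rwa [Set.image_univ])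
        (I'.subschemeι.isEmbedding.injective.injOn))
    haveI := Fintype.ofFinite I'.subscheme
    let S : Finset X := Finset.univ.image I'.subschemeι
    have hS : (I'.support : Set X) ⊆ (S : Set X) := by
      intro y hy
      rw [← Scheme.IdealSheafData.range_subschemeι] at hy
      obtain ⟨w, rfl⟩ := hy
      exact Finset.mem_coe.2 (Finset.mem_image_of_mem _ (Finset.mem_univ w))
    have hcl : ∀ y ∈ S, IsClosed ({y} : Set X) := fun y hy => by
      obtain ⟨w, -, rfl⟩ := Finset.mem_image.1 hy
      exact hclosed _ (by rw [← Scheme.IdealSheafData.range_subschemeι]; exact ⟨w, rfl⟩)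
    have hlen := ColengthDrop.length_H0_quotMod (A := A) I' S hS hcl
    have hsurjA : Function.Surjective (Coh.toGlobal b) := by
      have h1 := (SurfPtBlow.bijective_app_blowUp hp hregx hdx ⊤).2
      intro g
      obtain ⟨f, hf⟩ := h1 g
      obtain ⟨a, ha⟩ := (Scheme.ΓSpecIso (CommRingCat.of A)).commRingCatIsoToRingEquiv.symm.surjective f
      exact ⟨a, (congrArg (b.app ⊤).hom ha).trans hf⟩
    have hfinI : Module.length A (A ⧸ I) ≠ ⊤ :=
      ne_top_of_le_ne_top (Module.length_ne_top_iff.2 (FinLenEquivLib.isFiniteLength_quot_pow (A := A) n))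
        (Module.length_le_of_surjective (Submodule.factor hIn) (Submodule.factor_surjective hIn))
    have hEd : BlowUp.IsEffCartierIdeal (E ^ d) := Groth.Agent.CastLib.StrictPoint.isEffCartier_pow hb.1 d
    have hEne : ((E ^ d).support : Set X).Nonempty := ⟨η₀, by
      by_contra h
      have h1 := IdealMulLib.stalkIdeal_eq_top (E ^ d) h
      rw [InfNbhdLib.stalkIdeal_pow] at h1
      have hEm : IntMult.stalkIdeal E η₀ ≤ IsLocalRing.maximalIdeal _ := IdealStalkLib.stalkIdeal_le_maximal E (by
        rw [← SetLike.mem_coe, ← hker, CurveCfg.supp_cv]; exact subset_closure rfl)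
      exact (IsLocalRing.maximalIdeal.isMaximal _).ne_top (top_le_iff.1 (h1 ▸
        (Ideal.pow_le_self hd0.ne').trans hEm))⟩
    refine ⟨hd0, hfin, hclosed, ?_, ?_⟩
    · rw [hlen]
      exact ColengthDrop.sum_lt hsurjA (fun F hF hgg => S1624.result A hA X b hb F hF hgg) hfinI (E ^ d) I' hEd hEne hd S hS hcl
    · rw [hlen, finsum_eq_sum_of_fintype, Finset.sum_image fun a _ c _ h => I'.subschemeι.isEmbedding.injective h]
      refine Finset.sum_le_sum fun w _ => ?_
      letI := (ColengthDrop.toStalk (A := A) (I'.subschemeι w)).toAlgebra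
      rw [PointStrict.length_stalk_eq]
      exact ColengthDrop.length_le_restrict A

end Groth.Agent.S7360
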