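import Groth.Statements.S7362
import Groth.Agent.NumTypeLib.Classify

set_option autoImplicit false
open Finset
open Models Models.NumericalType

namespace Groth.Agent.S7362

open Groth.Agent.NumTypeLib

set_option maxHeartbeats 4000000

/-- Genus one classification: case n = 2: let T be a minimal numerical type of genus 1 on two indices.
Then for some ordering i, j of the indices and some integers m, w, either m_i = m_j = m, a_ii = a_jj
= -2w, a_ij = 2w, w_i = w_j = w, g_i = g_j = 0; or m_i = 2m, m_j = m, a_ii = -2w, a_ij = 4w, a_jj =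
-8w, w_i = w, w_j = 4w, g_i = g_j = 0. Only the classification direction is stated. -/
theorem result (T : Models.NumericalType 2) (hmin : T.IsMinimal) (hg : T.genus = 1) :
    ∃ (i j : Fin 2) (m w : ℤ), i ≠ j ∧ T.g i = 0 ∧ T.g j = 0 ∧
      ((T.m i = m ∧ T.m j = m ∧ T.a i i = -2 * w ∧ T.a i j = 2 * w ∧ T.a j j = -2 * w ∧ T.w i = w ∧ T.w j = w) ∨
        (T.m i = 2 * m ∧ T.m j = m ∧ T.a i i = -2 * w ∧ T.a i j = 4 * w ∧ T.a j j = -8 * w ∧ T.w i = w ∧ T.w j = 4 * w)) := by
  have hall : ∀ i, T.IsMinusTwo i := minusTwo_of_genus_one T hmin (by omega) hg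
  have h01 : 0 < T.a 0 1 := by
    obtain ⟨j, hj, hpos⟩ := exists_adj T (by norm_num) (0 : Fin 2)
    fin_cases j
    · exact absurd rfl hj
    · exact hpos
  have r0 := sum_row_erase T 0
  have r1 := sum_row_erase T 1
  rw [show (Finset.univ.erase (0 : Fin 2)) = {1} by decide, Finset.sum_singleton, (hall 0).2] at r0
  rw [show (Finset.univ.erase (1 : Fin 2)) = {0} by decide, Finset.sum_singleton, (hall 1).2, a_symm] at r1
  obtain ⟨p, hp⟩ := T.w_dvd 0 1
  obtain ⟨q, hq⟩ := T.w_dvd 1 0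
  rw [a_symm] at hq
  have hw0 := T.w_pos 0
  have hw1 := T.w_pos 1
  have hm0 := T.m_pos 0
  have hm1 := T.m_pos 1
  have e0 : p * T.m 1 = 2 * T.m 0 := mul_left_cancel₀ hw0.ne' (by rw [← mul_assoc, ← hp]; linarith)
  have e1 : q * T.m 0 = 2 * T.m 1 := mul_left_cancel₀ hw1.ne' (by rw [← mul_assoc, ← hq]; linarith)
  have hp0 : 0 < p := (pos_iff_pos_of_mul_pos (hp ▸ h01)).1 hw0
  have hq0 : 0 < q := (pos_iff_pos_of_mul_pos (hq ▸ h01)).1 hw1
  have hpq : p * q = 4 := mul_right_cancel₀ (mul_pos hm0 hm1).ne' (by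
    calc p * q * (T.m 0 * T.m 1) = (p * T.m 1) * (q * T.m 0) := by ring
      _ = _ := by rw [e0, e1]; ring)
  have hp4 : p ≤ 4 := by nlinarith
  have hd : ∀ i, T.a i i = -2 * T.w i := fun i => (hall i).2
  rcases (by omega : p = 1 ∨ p = 2 ∨ p = 3 ∨ p = 4) with rfl | rfl | rfl | rfl
  · refine ⟨1, 0, T.m 0, T.w 1, by decide, (hall 1).1, (hall 0).1, Or.inr ?_⟩
    obtain rfl : q = 4 := by omega
    and_intros <;> first | (simp only [hd] <;> linarith) | (rw [a_symm]; linarith) | linarith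
  · refine ⟨0, 1, T.m 0, T.w 0, by decide, (hall 0).1, (hall 1).1, Or.inl ?_⟩
    obtain rfl : q = 2 := by omega
    and_intros <;> first | (simp only [hd] <;> linarith) | linarith
  · omega
  · refine ⟨0, 1, T.m 1, T.w 0, by decide, (hall 0).1, (hall 1).1, Or.inr ?_⟩
    obtain rfl : q = 1 := by omega
    and_intros <;> first | (simp only [hd] <;> linarith) | linarith

end Groth.Agent.S7362
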