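import Groth.Statements.S7363
import Groth.Agent.NumTypeLib.Classify

set_option autoImplicit false
open Finset
open Models Models.NumericalType

namespace Groth.Agent.S7363

open Groth.Agent.NumTypeLib

set_option maxHeartbeats 4000000

/-- Genus one classification: case n = 3: let T be a minimal numerical type of genus 1 on three indices.
Then all g = 0 and, for some ordering i, j, k of the indices and some integers m, w, the data (m; a;
w) is one of: (m,m,m; a_ii = a_jj = a_kk = -2w, a_ij = a_ik = a_jk = w; w,w,w); (m,2m,m; a_ii = -2w,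
a_ij = w, a_ik = 0, a_jj = -2w, a_jk = 3w, a_kk = -6w; w,w,3w); (m,2m,3m; a_ii = -6w, a_ij = 3w,
a_ik = 0, a_jj = -6w, a_jk = 3w, a_kk = -2w; 3w,3w,w); (2m,2m,m; a_ii = -2w, a_ij = 2w, a_ik = 0,
a_jj = -4w, a_jk = 4w, a_kk = -8w; w,2w,4w); (m,m,m; a_ii = -2w, a_ij = 2w, a_ik = 0, a_jj = -4w,
a_jk = 2w, a_kk = -2w; w,2w,w); (m,2m,m; a_ii = -4w, a_ij = 2w, a_ik = 0, a_jj = -2w, a_jk = 2w,
a_kk = -4w; 2w,w,2w). Only the classification direction is stated. -/
theorem result (T : Models.NumericalType 3) (hmin : T.IsMinimal) (hg : T.genus = 1) :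
    ∃ (i j k : Fin 3) (m w : ℤ), i ≠ j ∧ j ≠ k ∧ i ≠ k ∧ T.g i = 0 ∧ T.g j = 0 ∧ T.g k = 0 ∧
      ((T.m i = m ∧ T.m j = m ∧ T.m k = m ∧ T.a i i = -2 * w ∧ T.a j j = -2 * w ∧ T.a k k = -2 * w ∧
          T.a i j = w ∧ T.a i k = w ∧ T.a j k = w ∧ T.w i = w ∧ T.w j = w ∧ T.w k = w) ∨
        (T.m i = m ∧ T.m j = 2 * m ∧ T.m k = m ∧ T.a i i = -2 * w ∧ T.a i j = w ∧ T.a i k = 0 ∧ T.a j j = -2 * w ∧
          T.a j k = 3 * w ∧ T.a k k = -6 * w ∧ T.w i = w ∧ T.w j = w ∧ T.w k = 3 * w) ∨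
        (T.m i = m ∧ T.m j = 2 * m ∧ T.m k = 3 * m ∧ T.a i i = -6 * w ∧ T.a i j = 3 * w ∧ T.a i k = 0 ∧ T.a j j = -6 * w ∧
          T.a j k = 3 * w ∧ T.a k k = -2 * w ∧ T.w i = 3 * w ∧ T.w j = 3 * w ∧ T.w k = w) ∨
        (T.m i = 2 * m ∧ T.m j = 2 * m ∧ T.m k = m ∧ T.a i i = -2 * w ∧ T.a i j = 2 * w ∧ T.a i k = 0 ∧ T.a j j = -4 * w ∧
          T.a j k = 4 * w ∧ T.a k k = -8 * w ∧ T.w i = w ∧ T.w j = 2 * w ∧ T.w k = 4 * w) ∨
        (T.m i = m ∧ T.m j = m ∧ T.m k = m ∧ T.a i i = -2 * w ∧ T.a i j = 2 * w ∧ T.a i k = 0 ∧ T.a j j = -4 * w ∧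
          T.a j k = 2 * w ∧ T.a k k = -2 * w ∧ T.w i = w ∧ T.w j = 2 * w ∧ T.w k = w) ∨
        (T.m i = m ∧ T.m j = 2 * m ∧ T.m k = m ∧ T.a i i = -4 * w ∧ T.a i j = 2 * w ∧ T.a i k = 0 ∧ T.a j j = -2 * w ∧
          T.a j k = 2 * w ∧ T.a k k = -4 * w ∧ T.w i = 2 * w ∧ T.w j = w ∧ T.w k = 2 * w)) := by
  have hall : ∀ i, T.IsMinusTwo i := minusTwo_of_genus_one T hmin (by omega) hg
  have hd : ∀ i, T.a i i = -2 * T.w i := fun i => (hall i).2
  have hg0 : ∀ i, T.g i = 0 := fun i => (hall i).1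
  rcases affineType_of_minusTwo hall (by omega) with h | h | h | h | h | h | h | h | h | h | h | h
  · obtain ⟨σ, m, w, h0, h1, h2, h3, h4⟩ := h
    refine ⟨σ 0, σ 1, σ 2, m, w, σ.injective.ne (by decide), σ.injective.ne (by decide), σ.injective.ne (by decide), hg0 _, hg0 _, hg0 _, Or.inl ?_⟩
    and_intros <;> first
      | exact h0 _
      | exact h1 _
      | exact h2 _ _ (by decide) (by decide)
      | (rw [a_symm T]; exact h2 _ _ (by decide) (by decide))
      | exact h3 _ _ (by decide) (by decide)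
      | (rw [a_symm T]; exact h3 _ _ (by decide) (by decide))
      | exact h4 _ _ (by decide) (by decide) (by decide)
      | (rw [a_symm T]; exact h4 _ _ (by decide) (by decide) (by decide))
      | (rw [hd, h1 _] <;> ring)
  · obtain ⟨σ, m, w, h0, h1, h2, h3, h4, h5, h6, h7⟩ := h
    refine ⟨σ 0, σ 1, σ 2, m, w, σ.injective.ne (by decide), σ.injective.ne (by decide), σ.injective.ne (by decide), hg0 _, hg0 _, hg0 _, Or.inr (Or.inr (Or.inr (Or.inl ?_)))⟩
    and_intros <;> first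
      | exact h0 _ (by decide)
      | exact h1 _ (by decide)
      | exact h2 _ (by decide)
      | exact h3 _ (by decide)
      | exact h4 _ (by decide)
      | exact h5 _ _ (by decide) (by decide)
      | (rw [a_symm T]; exact h5 _ _ (by decide) (by decide))
      | exact h6 _ _ (by decide) (by decide)
      | (rw [a_symm T]; exact h6 _ _ (by decide) (by decide))
      | exact h7 _ _ (by decide) (by decide) (by decide)
      | (rw [a_symm T]; exact h7 _ _ (by decide) (by decide) (by decide))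
      | (rw [hd, h2 _ (by decide)] <;> ring)
      | (rw [hd, h3 _ (by decide)] <;> ring)
      | (rw [hd, h4 _ (by decide)] <;> ring)
  · obtain ⟨σ, m, w, h0, h1, h2, h3, h4, h5⟩ := h
    refine ⟨σ 0, σ 1, σ 2, m, w, σ.injective.ne (by decide), σ.injective.ne (by decide), σ.injective.ne (by decide), hg0 _, hg0 _, hg0 _, Or.inr (Or.inr (Or.inr (Or.inr (Or.inl ?_))))⟩
    and_intros <;> first
      | exact h0 _
      | exact h1 _ (by decide)
      | exact h2 _ (by decide)
      | exact h3 _ (by decide)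
      | exact h4 _ _ (by decide) (by decide)
      | (rw [a_symm T]; exact h4 _ _ (by decide) (by decide))
      | exact h5 _ _ (by decide) (by decide)
      | (rw [a_symm T]; exact h5 _ _ (by decide) (by decide))
      | (rw [hd, h1 _ (by decide)] <;> ring)
      | (rw [hd, h2 _ (by decide)] <;> ring)
      | (rw [hd, h3 _ (by decide)] <;> ring)
  · obtain ⟨σ, m, w, h0, h1, h2, h3, h4, h5, h6, h7, h8, h9⟩ := h
    refine ⟨σ 0, σ 1, σ 2, m, w, σ.injective.ne (by decide), σ.injective.ne (by decide), σ.injective.ne (by decide), hg0 _, hg0 _, hg0 _, Or.inr (Or.inr (Or.inr (Or.inr (Or.inr (?_)))))⟩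
    and_intros <;> first
      | exact h0 _ (by decide)
      | exact h1 _ (by decide)
      | exact h2 _ (by decide)
      | exact h3 _ (by decide)
      | exact h4 _ (by decide)
      | exact h5 _ (by decide)
      | exact h6 _ _ (by decide) (by decide)
      | (rw [a_symm T]; exact h6 _ _ (by decide) (by decide))
      | exact h7 _ _ (by decide) (by decide)
      | (rw [a_symm T]; exact h7 _ _ (by decide) (by decide))
      | exact h8 _ _ (by decide) (by decide)
      | (rw [a_symm T]; exact h8 _ _ (by decide) (by decide))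
      | exact h9 _ _ (by decide) (by decide) (by decide) (by decide)
      | (rw [a_symm T]; exact h9 _ _ (by decide) (by decide) (by decide) (by decide))
      | (rw [hd, h3 _ (by decide)] <;> ring)
      | (rw [hd, h4 _ (by decide)] <;> ring)
      | (rw [hd, h5 _ (by decide)] <;> ring)
  · exact absurd h.2 (by norm_num)
  · exact absurd h.2 (by norm_num)
  · exact absurd h.2 (by norm_num)
  · obtain ⟨v, hv⟩ := h
    have s0 := simple_of_sq (hv.pos 0) (hv.sq_eq 0)
    have s1 := mult_of_sq Nat.prime_three (hv.pos 1) (hv.sq_eq 1)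
    have hY : ∀ i, (g2Y i : ℝ) ^ 2 = (((![1, 4, 3] : Fin 3 → ℤ) i : ℤ) : ℝ) := by
      intro i; fin_cases i <;> simp [g2Y, mul_pow] <;> norm_num
    have hm1 := hv.mw _ hY 1 0
    have hm2 := hv.mw _ hY 2 0
    simp [g2E, Simple, Up, g2E] at s0 s1 hm1 hm2
    have z02 : T.a (v 0) (v 2) = 0 := hv.zero 0 2 (by decide) (by simp only [g2E]; decide)
    rcases s1 with ⟨wh, ah⟩ | ⟨wh, ah⟩
    · obtain ⟨a0, w0⟩ := s0
      have hW := T.w_pos (v 0)
      have hwe : T.w (v 0) = 1 * T.w (v 0) ∧ T.w (v 1) = 1 * T.w (v 0) ∧ T.w (v 2) = 3 * T.w (v 0) := by and_intros <;> omega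
      obtain ⟨we0, we1, we2⟩ := hwe
      rw [we1, we0] at hm1
      have me1 : T.m (v 1) = 2 * T.m (v 0) :=
        m_cancel (T.m_pos _) (by linarith [T.m_pos (v 0)]) (T.w_pos (v 0)) (by linarith)
      rw [we2, we0] at hm2
      have me2 : T.m (v 2) = 1 * T.m (v 0) :=
        m_cancel (T.m_pos _) (by linarith [T.m_pos (v 0)]) (T.w_pos (v 0)) (by linarith)
      refine ⟨v 0, v 1, v 2, T.m (v 0), T.w (v 0), hv.inj.ne (by decide), hv.inj.ne (by decide), hv.inj.ne (by decide), hg0 _, hg0 _, hg0 _, Or.inr (Or.inl ?_)⟩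
      and_intros <;> first | exact (hv.inj.ne (by decide)) | exact hg0 _ | (simp only [hd] <;> linarith) | linarith
    · obtain ⟨a0, w0⟩ := s0
      have hW := T.w_pos (v 2)
      have hwe : T.w (v 0) = 3 * T.w (v 2) ∧ T.w (v 1) = 3 * T.w (v 2) ∧ T.w (v 2) = 1 * T.w (v 2) := by and_intros <;> omega
      obtain ⟨we0, we1, we2⟩ := hwe
      rw [we1, we0] at hm1
      have me1 : T.m (v 1) = 2 * T.m (v 0) :=
        m_cancel (T.m_pos _) (by linarith [T.m_pos (v 0)]) (T.w_pos (v 2)) (by linarith)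
      rw [we2, we0] at hm2
      have me2 : T.m (v 2) = 3 * T.m (v 0) :=
        m_cancel (T.m_pos _) (by linarith [T.m_pos (v 0)]) (T.w_pos (v 2)) (by linarith)
      refine ⟨v 0, v 1, v 2, T.m (v 0), T.w (v 2), hv.inj.ne (by decide), hv.inj.ne (by decide), hv.inj.ne (by decide), hg0 _, hg0 _, hg0 _, Or.inr (Or.inr (Or.inl ?_))⟩
      and_intros <;> first | exact (hv.inj.ne (by decide)) | exact hg0 _ | (simp only [hd] <;> linarith) | linarith
  · obtain ⟨v, hv⟩ := h; exact absurd hv.span (by norm_num)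
  · obtain ⟨v, hv⟩ := h; exact absurd hv.span (by norm_num)
  · obtain ⟨v, hv⟩ := h; exact absurd hv.span (by norm_num)
  · obtain ⟨v, hv⟩ := h; exact absurd hv.span (by norm_num)

end Groth.Agent.S7363
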