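import Groth.Statements.S7365
import Groth.Agent.NumTypeLib.Classify

set_option autoImplicit false
open Finset
open Models Models.NumericalType

namespace Groth.Agent.S7365

open Groth.Agent.NumTypeLib

set_option maxHeartbeats 4000000

/-- Genus one classification: case n = 5: let T be a minimal numerical type of genus 1 on 5 indices.
Then all g_i = 0 and, for some permutation σ of the indices and some integers m, w, the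
multiplicities, weights and intersection matrix (m_{σ(i)}, w_{σ(i)}, a_{σ(i)σ(j)}) are those of one
of the following 9 types: [five cycle] m = (m, m, m, m, m), w = (w, w, w, w, w), a = (-2 * w w 0 0 w
/ w -2 * w w 0 0 / 0 w -2 * w w 0 / 0 0 w -2 * w w / w 0 0 w -2 * w); [equal equal up equal] m = (m,
2 * m, 3 * m, 2 * m, m), w = (w, w, w, 2 * w, 2 * w), a = (-2 * w w 0 0 0 / w -2 * w w 0 0 / 0 w -2
* w 2 * w 0 / 0 0 2 * w -4 * w 2 * w / 0 0 0 2 * w -4 * w); [equal equal down equal] m = (m, 2 * m,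
3 * m, 4 * m, 2 * m), w = (2 * w, 2 * w, 2 * w, w, w), a = (-4 * w 2 * w 0 0 0 / 2 * w -4 * w 2 * w
0 0 / 0 2 * w -4 * w 2 * w 0 / 0 0 2 * w -2 * w w / 0 0 0 w -2 * w); [up equal equal up] m = (2 * m,
2 * m, 2 * m, 2 * m, m), w = (w, 2 * w, 2 * w, 2 * w, 4 * w), a = (-2 * w 2 * w 0 0 0 / 2 * w -4 * w
2 * w 0 0 / 0 2 * w -4 * w 2 * w 0 / 0 0 2 * w -4 * w 4 * w / 0 0 0 4 * w -8 * w); [up equal equal
down] m = (m, m, m, m, m), w = (w, 2 * w, 2 * w, 2 * w, w), a = (-2 * w 2 * w 0 0 0 / 2 * w -4 * w 2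
* w 0 0 / 0 2 * w -4 * w 2 * w 0 / 0 0 2 * w -4 * w 2 * w / 0 0 0 2 * w -2 * w); [down equal equal
up] m = (m, 2 * m, 2 * m, 2 * m, m), w = (2 * w, w, w, w, 2 * w), a = (-4 * w 2 * w 0 0 0 / 2 * w -2
* w w 0 0 / 0 w -2 * w w 0 / 0 0 w -2 * w 2 * w / 0 0 0 2 * w -4 * w); [quadruple] m = (2 * m, m, m,
m, m), w = (w, w, w, w, w), a = (-2 * w w w w w / w -2 * w 0 0 0 / w 0 -2 * w 0 0 / w 0 0 -2 * w 0 /
w 0 0 0 -2 * w); [triple extended up] m = (m, 2 * m, 2 * m, m, m), w = (2 * w, w, w, w, w), a = (-4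
* w 2 * w 0 0 0 / 2 * w -2 * w w 0 0 / 0 w -2 * w w w / 0 0 w -2 * w 0 / 0 0 w 0 -2 * w); [triple
extended down] m = (2 * m, 2 * m, 2 * m, m, m), w = (w, 2 * w, 2 * w, 2 * w, 2 * w), a = (-2 * w 2 *
w 0 0 0 / 2 * w -4 * w 2 * w 0 0 / 0 2 * w -4 * w 2 * w 2 * w / 0 0 2 * w -4 * w 0 / 0 0 2 * w 0 -4
* w). Only the classification direction is stated. -/
theorem result (T : Models.NumericalType 5) (hmin : T.IsMinimal) (hg : T.genus = 1) :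
    (∀ i, T.g i = 0) ∧ ∃ (σ : Equiv.Perm (Fin 5)) (m w : ℤ),
      ((T.m (σ 0) = m ∧ T.m (σ 1) = m ∧ T.m (σ 2) = m ∧ T.m (σ 3) = m ∧ T.m (σ 4) = m ∧ T.w (σ 0) = w ∧ T.w (σ 1) = w ∧ T.w (σ 2) = w ∧ T.w (σ 3) = w ∧ T.w (σ 4) = w ∧ T.a (σ 0) (σ 0) = -2 * w ∧ T.a (σ 0) (σ 1) = w ∧ T.a (σ 0) (σ 2) = 0 ∧ T.a (σ 0) (σ 3) = 0 ∧ T.a (σ 0) (σ 4) = w ∧ T.a (σ 1) (σ 1) = -2 * w ∧ T.a (σ 1) (σ 2) = w ∧ T.a (σ 1) (σ 3) = 0 ∧ T.a (σ 1) (σ 4) = 0 ∧ T.a (σ 2) (σ 2) = -2 * w ∧ T.a (σ 2) (σ 3) = w ∧ T.a (σ 2) (σ 4) = 0 ∧ T.a (σ 3) (σ 3) = -2 * w ∧ T.a (σ 3) (σ 4) = w ∧ T.a (σ 4) (σ 4) = -2 * w) ∨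
      (T.m (σ 0) = m ∧ T.m (σ 1) = 2 * m ∧ T.m (σ 2) = 3 * m ∧ T.m (σ 3) = 2 * m ∧ T.m (σ 4) = m ∧ T.w (σ 0) = w ∧ T.w (σ 1) = w ∧ T.w (σ 2) = w ∧ T.w (σ 3) = 2 * w ∧ T.w (σ 4) = 2 * w ∧ T.a (σ 0) (σ 0) = -2 * w ∧ T.a (σ 0) (σ 1) = w ∧ T.a (σ 0) (σ 2) = 0 ∧ T.a (σ 0) (σ 3) = 0 ∧ T.a (σ 0) (σ 4) = 0 ∧ T.a (σ 1) (σ 1) = -2 * w ∧ T.a (σ 1) (σ 2) = w ∧ T.a (σ 1) (σ 3) = 0 ∧ T.a (σ 1) (σ 4) = 0 ∧ T.a (σ 2) (σ 2) = -2 * w ∧ T.a (σ 2) (σ 3) = 2 * w ∧ T.a (σ 2) (σ 4) = 0 ∧ T.a (σ 3) (σ 3) = -4 * w ∧ T.a (σ 3) (σ 4) = 2 * w ∧ T.a (σ 4) (σ 4) = -4 * w) ∨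
      (T.m (σ 0) = m ∧ T.m (σ 1) = 2 * m ∧ T.m (σ 2) = 3 * m ∧ T.m (σ 3) = 4 * m ∧ T.m (σ 4) = 2 * m ∧ T.w (σ 0) = 2 * w ∧ T.w (σ 1) = 2 * w ∧ T.w (σ 2) = 2 * w ∧ T.w (σ 3) = w ∧ T.w (σ 4) = w ∧ T.a (σ 0) (σ 0) = -4 * w ∧ T.a (σ 0) (σ 1) = 2 * w ∧ T.a (σ 0) (σ 2) = 0 ∧ T.a (σ 0) (σ 3) = 0 ∧ T.a (σ 0) (σ 4) = 0 ∧ T.a (σ 1) (σ 1) = -4 * w ∧ T.a (σ 1) (σ 2) = 2 * w ∧ T.a (σ 1) (σ 3) = 0 ∧ T.a (σ 1) (σ 4) = 0 ∧ T.a (σ 2) (σ 2) = -4 * w ∧ T.a (σ 2) (σ 3) = 2 * w ∧ T.a (σ 2) (σ 4) = 0 ∧ T.a (σ 3) (σ 3) = -2 * w ∧ T.a (σ 3) (σ 4) = w ∧ T.a (σ 4) (σ 4) = -2 * w) ∨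
      (T.m (σ 0) = 2 * m ∧ T.m (σ 1) = 2 * m ∧ T.m (σ 2) = 2 * m ∧ T.m (σ 3) = 2 * m ∧ T.m (σ 4) = m ∧ T.w (σ 0) = w ∧ T.w (σ 1) = 2 * w ∧ T.w (σ 2) = 2 * w ∧ T.w (σ 3) = 2 * w ∧ T.w (σ 4) = 4 * w ∧ T.a (σ 0) (σ 0) = -2 * w ∧ T.a (σ 0) (σ 1) = 2 * w ∧ T.a (σ 0) (σ 2) = 0 ∧ T.a (σ 0) (σ 3) = 0 ∧ T.a (σ 0) (σ 4) = 0 ∧ T.a (σ 1) (σ 1) = -4 * w ∧ T.a (σ 1) (σ 2) = 2 * w ∧ T.a (σ 1) (σ 3) = 0 ∧ T.a (σ 1) (σ 4) = 0 ∧ T.a (σ 2) (σ 2) = -4 * w ∧ T.a (σ 2) (σ 3) = 2 * w ∧ T.a (σ 2) (σ 4) = 0 ∧ T.a (σ 3) (σ 3) = -4 * w ∧ T.a (σ 3) (σ 4) = 4 * w ∧ T.a (σ 4) (σ 4) = -8 * w) ∨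
      (T.m (σ 0) = m ∧ T.m (σ 1) = m ∧ T.m (σ 2) = m ∧ T.m (σ 3) = m ∧ T.m (σ 4) = m ∧ T.w (σ 0) = w ∧ T.w (σ 1) = 2 * w ∧ T.w (σ 2) = 2 * w ∧ T.w (σ 3) = 2 * w ∧ T.w (σ 4) = w ∧ T.a (σ 0) (σ 0) = -2 * w ∧ T.a (σ 0) (σ 1) = 2 * w ∧ T.a (σ 0) (σ 2) = 0 ∧ T.a (σ 0) (σ 3) = 0 ∧ T.a (σ 0) (σ 4) = 0 ∧ T.a (σ 1) (σ 1) = -4 * w ∧ T.a (σ 1) (σ 2) = 2 * w ∧ T.a (σ 1) (σ 3) = 0 ∧ T.a (σ 1) (σ 4) = 0 ∧ T.a (σ 2) (σ 2) = -4 * w ∧ T.a (σ 2) (σ 3) = 2 * w ∧ T.a (σ 2) (σ 4) = 0 ∧ T.a (σ 3) (σ 3) = -4 * w ∧ T.a (σ 3) (σ 4) = 2 * w ∧ T.a (σ 4) (σ 4) = -2 * w) ∨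
      (T.m (σ 0) = m ∧ T.m (σ 1) = 2 * m ∧ T.m (σ 2) = 2 * m ∧ T.m (σ 3) = 2 * m ∧ T.m (σ 4) = m ∧ T.w (σ 0) = 2 * w ∧ T.w (σ 1) = w ∧ T.w (σ 2) = w ∧ T.w (σ 3) = w ∧ T.w (σ 4) = 2 * w ∧ T.a (σ 0) (σ 0) = -4 * w ∧ T.a (σ 0) (σ 1) = 2 * w ∧ T.a (σ 0) (σ 2) = 0 ∧ T.a (σ 0) (σ 3) = 0 ∧ T.a (σ 0) (σ 4) = 0 ∧ T.a (σ 1) (σ 1) = -2 * w ∧ T.a (σ 1) (σ 2) = w ∧ T.a (σ 1) (σ 3) = 0 ∧ T.a (σ 1) (σ 4) = 0 ∧ T.a (σ 2) (σ 2) = -2 * w ∧ T.a (σ 2) (σ 3) = w ∧ T.a (σ 2) (σ 4) = 0 ∧ T.a (σ 3) (σ 3) = -2 * w ∧ T.a (σ 3) (σ 4) = 2 * w ∧ T.a (σ 4) (σ 4) = -4 * w) ∨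
      (T.m (σ 0) = 2 * m ∧ T.m (σ 1) = m ∧ T.m (σ 2) = m ∧ T.m (σ 3) = m ∧ T.m (σ 4) = m ∧ T.w (σ 0) = w ∧ T.w (σ 1) = w ∧ T.w (σ 2) = w ∧ T.w (σ 3) = w ∧ T.w (σ 4) = w ∧ T.a (σ 0) (σ 0) = -2 * w ∧ T.a (σ 0) (σ 1) = w ∧ T.a (σ 0) (σ 2) = w ∧ T.a (σ 0) (σ 3) = w ∧ T.a (σ 0) (σ 4) = w ∧ T.a (σ 1) (σ 1) = -2 * w ∧ T.a (σ 1) (σ 2) = 0 ∧ T.a (σ 1) (σ 3) = 0 ∧ T.a (σ 1) (σ 4) = 0 ∧ T.a (σ 2) (σ 2) = -2 * w ∧ T.a (σ 2) (σ 3) = 0 ∧ T.a (σ 2) (σ 4) = 0 ∧ T.a (σ 3) (σ 3) = -2 * w ∧ T.a (σ 3) (σ 4) = 0 ∧ T.a (σ 4) (σ 4) = -2 * w) ∨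
      (T.m (σ 0) = m ∧ T.m (σ 1) = 2 * m ∧ T.m (σ 2) = 2 * m ∧ T.m (σ 3) = m ∧ T.m (σ 4) = m ∧ T.w (σ 0) = 2 * w ∧ T.w (σ 1) = w ∧ T.w (σ 2) = w ∧ T.w (σ 3) = w ∧ T.w (σ 4) = w ∧ T.a (σ 0) (σ 0) = -4 * w ∧ T.a (σ 0) (σ 1) = 2 * w ∧ T.a (σ 0) (σ 2) = 0 ∧ T.a (σ 0) (σ 3) = 0 ∧ T.a (σ 0) (σ 4) = 0 ∧ T.a (σ 1) (σ 1) = -2 * w ∧ T.a (σ 1) (σ 2) = w ∧ T.a (σ 1) (σ 3) = 0 ∧ T.a (σ 1) (σ 4) = 0 ∧ T.a (σ 2) (σ 2) = -2 * w ∧ T.a (σ 2) (σ 3) = w ∧ T.a (σ 2) (σ 4) = w ∧ T.a (σ 3) (σ 3) = -2 * w ∧ T.a (σ 3) (σ 4) = 0 ∧ T.a (σ 4) (σ 4) = -2 * w) ∨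
      (T.m (σ 0) = 2 * m ∧ T.m (σ 1) = 2 * m ∧ T.m (σ 2) = 2 * m ∧ T.m (σ 3) = m ∧ T.m (σ 4) = m ∧ T.w (σ 0) = w ∧ T.w (σ 1) = 2 * w ∧ T.w (σ 2) = 2 * w ∧ T.w (σ 3) = 2 * w ∧ T.w (σ 4) = 2 * w ∧ T.a (σ 0) (σ 0) = -2 * w ∧ T.a (σ 0) (σ 1) = 2 * w ∧ T.a (σ 0) (σ 2) = 0 ∧ T.a (σ 0) (σ 3) = 0 ∧ T.a (σ 0) (σ 4) = 0 ∧ T.a (σ 1) (σ 1) = -4 * w ∧ T.a (σ 1) (σ 2) = 2 * w ∧ T.a (σ 1) (σ 3) = 0 ∧ T.a (σ 1) (σ 4) = 0 ∧ T.a (σ 2) (σ 2) = -4 * w ∧ T.a (σ 2) (σ 3) = 2 * w ∧ T.a (σ 2) (σ 4) = 2 * w ∧ T.a (σ 3) (σ 3) = -4 * w ∧ T.a (σ 3) (σ 4) = 0 ∧ T.a (σ 4) (σ 4) = -4 * w)) := by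
  have hall : ∀ i, T.IsMinusTwo i := minusTwo_of_genus_one T hmin (by omega) hg
  have hd : ∀ i, T.a i i = -2 * T.w i := fun i => (hall i).2
  have hg0 : ∀ i, T.g i = 0 := fun i => (hall i).1
  rcases affineType_of_minusTwo hall (by omega) with h | h | h | h | h | h | h | h | h | h | h | h
  · obtain ⟨σ, m, w, h0, h1, h2, h3, h4⟩ := h
    refine ⟨hg0, σ, m, w, Or.inl ?_⟩
    and_intros <;> first
      | exact h0 _
      | exact h1 _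
      | exact h2 _ _ (by decide) (by decide)
      | (rw [a_symm T]; exact h2 _ _ (by decide) (by decide))
      | exact h3 _ _ (by decide) (by decide)
      | (rw [a_symm T]; exact h3 _ _ (by decide) (by decide))
      | exact h4 _ _ (by decide) (by decide) (by decide)
      | (rw [a_symm T]; exact h4 _ _ (by decide) (by decide) (by decide))
      | (rw [hd, h1 _] <;> ring)
  · obtain ⟨σ, m, w, h0, h1, h2, h3, h4, h5, h6, h7⟩ := h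
    refine ⟨hg0, σ, m, w, Or.inr (Or.inr (Or.inr (Or.inl ?_)))⟩
    and_intros <;> first
      | exact h0 _ (by decide)
      | exact h1 _ (by decide)
      | exact h2 _ (by decide)
      | exact h3 _ (by decide)
      | exact h4 _ (by decide)
      | exact h5 _ _ (by decide) (by decide)
      | (rw [a_symm T]; exact h5 _ _ (by decide) (by decide))
      | exact h6 _ _ (by decide) (by decide)
      | (rw [a_symm T]; exact h6 _ _ (by decide) (by decide))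
      | exact h7 _ _ (by decide) (by decide) (by decide)
      | (rw [a_symm T]; exact h7 _ _ (by decide) (by decide) (by decide))
      | (rw [hd, h2 _ (by decide)] <;> ring)
      | (rw [hd, h3 _ (by decide)] <;> ring)
      | (rw [hd, h4 _ (by decide)] <;> ring)
  · obtain ⟨σ, m, w, h0, h1, h2, h3, h4, h5⟩ := h
    refine ⟨hg0, σ, m, w, Or.inr (Or.inr (Or.inr (Or.inr (Or.inl ?_))))⟩
    and_intros <;> first
      | exact h0 _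
      | exact h1 _ (by decide)
      | exact h2 _ (by decide)
      | exact h3 _ (by decide)
      | exact h4 _ _ (by decide) (by decide)
      | (rw [a_symm T]; exact h4 _ _ (by decide) (by decide))
      | exact h5 _ _ (by decide) (by decide)
      | (rw [a_symm T]; exact h5 _ _ (by decide) (by decide))
      | (rw [hd, h1 _ (by decide)] <;> ring)
      | (rw [hd, h2 _ (by decide)] <;> ring)
      | (rw [hd, h3 _ (by decide)] <;> ring)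
  · obtain ⟨σ, m, w, h0, h1, h2, h3, h4, h5, h6, h7, h8, h9⟩ := h
    refine ⟨hg0, σ, m, w, Or.inr (Or.inr (Or.inr (Or.inr (Or.inr (Or.inl ?_)))))⟩
    and_intros <;> first
      | exact h0 _ (by decide)
      | exact h1 _ (by decide)
      | exact h2 _ (by decide)
      | exact h3 _ (by decide)
      | exact h4 _ (by decide)
      | exact h5 _ (by decide)
      | exact h6 _ _ (by decide) (by decide)
      | (rw [a_symm T]; exact h6 _ _ (by decide) (by decide))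
      | exact h7 _ _ (by decide) (by decide)
      | (rw [a_symm T]; exact h7 _ _ (by decide) (by decide))
      | exact h8 _ _ (by decide) (by decide)
      | (rw [a_symm T]; exact h8 _ _ (by decide) (by decide))
      | exact h9 _ _ (by decide) (by decide) (by decide) (by decide)
      | (rw [a_symm T]; exact h9 _ _ (by decide) (by decide) (by decide) (by decide))
      | (rw [hd, h3 _ (by decide)] <;> ring)
      | (rw [hd, h4 _ (by decide)] <;> ring)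
      | (rw [hd, h5 _ (by decide)] <;> ring)
  · obtain ⟨σ, m, w, h0, h1, h2, h3, h4, h5, h6, h7, h8⟩ := h.1
    refine ⟨hg0, σ, m, w, Or.inr (Or.inr (Or.inr (Or.inr (Or.inr (Or.inr (Or.inr (Or.inl ?_)))))))⟩
    and_intros <;> first
      | exact h0 _ (by decide)
      | exact h1 _ (by decide)
      | exact h2 _ (by decide)
      | exact h3 _ (by decide)
      | exact h4 _ (by decide)
      | exact h5 _ _ (by decide) (by decide)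
      | (rw [a_symm T]; exact h5 _ _ (by decide) (by decide))
      | exact h6 _ _ (by decide) (by decide)
      | (rw [a_symm T]; exact h6 _ _ (by decide) (by decide))
      | exact h7 _ _ (by decide) (by decide)
      | (rw [a_symm T]; exact h7 _ _ (by decide) (by decide))
      | exact h8 _ _ (by decide) (by decide) (by decide) (by decide)
      | (rw [a_symm T]; exact h8 _ _ (by decide) (by decide) (by decide) (by decide))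
      | (rw [hd, h3 _ (by decide)] <;> ring)
      | (rw [hd, h4 _ (by decide)] <;> ring)
  · obtain ⟨σ, m, w, h0, h1, h2, h3, h4, h5, h6⟩ := h.1
    refine ⟨hg0, σ, m, w, Or.inr (Or.inr (Or.inr (Or.inr (Or.inr (Or.inr (Or.inr (Or.inr (?_))))))))⟩
    and_intros <;> first
      | exact h0 _ (by decide)
      | exact h1 _ (by decide)
      | exact h2 _ (by decide)
      | exact h3 _ (by decide)
      | exact h4 _ _ (by decide) (by decide)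
      | (rw [a_symm T]; exact h4 _ _ (by decide) (by decide))
      | exact h5 _ _ (by decide) (by decide)
      | (rw [a_symm T]; exact h5 _ _ (by decide) (by decide))
      | exact h6 _ _ (by decide) (by decide) (by decide)
      | (rw [a_symm T]; exact h6 _ _ (by decide) (by decide) (by decide))
      | (rw [hd, h2 _ (by decide)] <;> ring)
      | (rw [hd, h3 _ (by decide)] <;> ring)
  · obtain ⟨σ, m, w, h0, h1, h2, h3, h4, h5, h6, h7, h8⟩ := h.1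
    refine ⟨hg0, (((Equiv.swap 0 1).trans (Equiv.swap 1 2)).trans σ), m, w, Or.inr (Or.inr (Or.inr (Or.inr (Or.inr (Or.inr (Or.inl ?_))))))⟩
    simp only [Equiv.trans_apply, Equiv.swap_apply_def, finRotate_succ_apply, Fin.reduceAdd, Fin.reduceEq, if_true, if_false]
    and_intros <;> first
      | exact h0 _ (by decide)
      | exact h1 _ (by decide)
      | exact h2 _ (by decide)
      | exact h3 _
      | exact h4 _ _ (by decide) (by decide)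
      | (rw [a_symm T]; exact h4 _ _ (by decide) (by decide))
      | exact h5 _ _ (by decide) (by decide)
      | (rw [a_symm T]; exact h5 _ _ (by decide) (by decide))
      | exact h6 _ _ (by decide) (by decide)
      | (rw [a_symm T]; exact h6 _ _ (by decide) (by decide))
      | exact h7 _ _ (by decide) (by decide)
      | (rw [a_symm T]; exact h7 _ _ (by decide) (by decide))
      | exact h8 _ _ (by decide) (by decide) (by decide) (by decide) (by decide)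
      | (rw [a_symm T]; exact h8 _ _ (by decide) (by decide) (by decide) (by decide) (by decide))
      | (rw [hd, h3 _] <;> ring)
  · obtain ⟨v, hv⟩ := h; exact absurd hv.span (by norm_num)
  · obtain ⟨v, hv⟩ := h
    have s0 := simple_of_sq (hv.pos 0) (hv.sq_eq 0)
    have s1 := simple_of_sq (hv.pos 1) (hv.sq_eq 1)
    have s2 := up_of_sq (hv.pos 2) (hv.sq_eq 2)
    have s3 := simple_of_sq (hv.pos 3) (hv.sq_eq 3)
    have hY : ∀ i, (f4Y i : ℝ) ^ 2 = (((![1, 4, 9, 8, 2] : Fin 5 → ℤ) i : ℤ) : ℝ) := by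
      intro i; fin_cases i <;> simp [f4Y, mul_pow] <;> norm_num
    have hm1 := hv.mw _ hY 1 0
    have hm2 := hv.mw _ hY 2 0
    have hm3 := hv.mw _ hY 3 0
    have hm4 := hv.mw _ hY 4 0
    simp [f4E, Simple, Up, f4E] at s0 s1 s2 s3 hm1 hm2 hm3 hm4
    have z02 : T.a (v 0) (v 2) = 0 := hv.zero 0 2 (by decide) (by simp only [f4E]; decide)
    have z03 : T.a (v 0) (v 3) = 0 := hv.zero 0 3 (by decide) (by simp only [f4E]; decide)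
    have z04 : T.a (v 0) (v 4) = 0 := hv.zero 0 4 (by decide) (by simp only [f4E]; decide)
    have z13 : T.a (v 1) (v 3) = 0 := hv.zero 1 3 (by decide) (by simp only [f4E]; decide)
    have z14 : T.a (v 1) (v 4) = 0 := hv.zero 1 4 (by decide) (by simp only [f4E]; decide)
    have z24 : T.a (v 2) (v 4) = 0 := hv.zero 2 4 (by decide) (by simp only [f4E]; decide)
    rcases s2 with ⟨wh, ah⟩ | ⟨wh, ah⟩
    · obtain ⟨a0, w0⟩ := s0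
      obtain ⟨a1, w1⟩ := s1
      obtain ⟨a3, w3⟩ := s3
      have hW := T.w_pos (v 0)
      have hwe : T.w (v 0) = 1 * T.w (v 0) ∧ T.w (v 1) = 1 * T.w (v 0) ∧ T.w (v 2) = 1 * T.w (v 0) ∧ T.w (v 3) = 2 * T.w (v 0) ∧ T.w (v 4) = 2 * T.w (v 0) := by and_intros <;> omega
      obtain ⟨we0, we1, we2, we3, we4⟩ := hwe
      rw [we1, we0] at hm1
      have me1 : T.m (v 1) = 2 * T.m (v 0) :=
        m_cancel (T.m_pos _) (by linarith [T.m_pos (v 0)]) (T.w_pos (v 0)) (by linarith)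
      rw [we2, we0] at hm2
      have me2 : T.m (v 2) = 3 * T.m (v 0) :=
        m_cancel (T.m_pos _) (by linarith [T.m_pos (v 0)]) (T.w_pos (v 0)) (by linarith)
      rw [we3, we0] at hm3
      have me3 : T.m (v 3) = 2 * T.m (v 0) :=
        m_cancel (T.m_pos _) (by linarith [T.m_pos (v 0)]) (T.w_pos (v 0)) (by linarith)
      rw [we4, we0] at hm4
      have me4 : T.m (v 4) = 1 * T.m (v 0) :=
        m_cancel (T.m_pos _) (by linarith [T.m_pos (v 0)]) (T.w_pos (v 0)) (by linarith)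
      refine ⟨hg0, hv.perm, T.m (v 0), T.w (v 0), Or.inr (Or.inl ?_)⟩
      and_intros <;> first | (simp only [hd, Tight.perm, Equiv.ofBijective_apply] <;> linarith) | (show T.a (v _) (v _) = 0; assumption) | linarith
    · rw [a_symm T] at ah
      obtain ⟨a0, w0⟩ := s0
      obtain ⟨a1, w1⟩ := s1
      obtain ⟨a3, w3⟩ := s3
      have hW := T.w_pos (v 3)
      have hwe : T.w (v 0) = 2 * T.w (v 3) ∧ T.w (v 1) = 2 * T.w (v 3) ∧ T.w (v 2) = 2 * T.w (v 3) ∧ T.w (v 3) = 1 * T.w (v 3) ∧ T.w (v 4) = 1 * T.w (v 3) := by and_intros <;> omega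
      obtain ⟨we0, we1, we2, we3, we4⟩ := hwe
      rw [we1, we0] at hm1
      have me1 : T.m (v 1) = 2 * T.m (v 0) :=
        m_cancel (T.m_pos _) (by linarith [T.m_pos (v 0)]) (T.w_pos (v 3)) (by linarith)
      rw [we2, we0] at hm2
      have me2 : T.m (v 2) = 3 * T.m (v 0) :=
        m_cancel (T.m_pos _) (by linarith [T.m_pos (v 0)]) (T.w_pos (v 3)) (by linarith)
      rw [we3, we0] at hm3
      have me3 : T.m (v 3) = 4 * T.m (v 0) :=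
        m_cancel (T.m_pos _) (by linarith [T.m_pos (v 0)]) (T.w_pos (v 3)) (by linarith)
      rw [we4, we0] at hm4
      have me4 : T.m (v 4) = 2 * T.m (v 0) :=
        m_cancel (T.m_pos _) (by linarith [T.m_pos (v 0)]) (T.w_pos (v 3)) (by linarith)
      refine ⟨hg0, hv.perm, T.m (v 0), T.w (v 3), Or.inr (Or.inr (Or.inl ?_))⟩
      and_intros <;> first | (simp only [hd, Tight.perm, Equiv.ofBijective_apply] <;> linarith) | (show T.a (v _) (v _) = 0; assumption) | linarith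
  · obtain ⟨v, hv⟩ := h; exact absurd hv.span (by norm_num)
  · obtain ⟨v, hv⟩ := h; exact absurd hv.span (by norm_num)
  · obtain ⟨v, hv⟩ := h; exact absurd hv.span (by norm_num)

end Groth.Agent.S7365
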