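import Groth.Statements.S7367
import Groth.Agent.NumTypeLib.Classify

set_option autoImplicit false
open Finset
open Models Models.NumericalType

namespace Groth.Agent.S7367

open Groth.Agent.NumTypeLib

set_option maxHeartbeats 4000000

/-- Genus one classification: case n = 6: let T be a minimal numerical type of genus 1 on 6 indices.
Then all g_i = 0 and, for some permutation σ of the indices and some integers m, w, the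
multiplicities, weights and intersection matrix (m_{σ(i)}, w_{σ(i)}, a_{σ(i)σ(j)}) are those of one
of the following 7 types: [cycle] m = (m, m, m, m, m, m), w = (w, w, w, w, w, w), a = (-2 * w w 0 0
0 w / w -2 * w w 0 0 0 / 0 w -2 * w w 0 0 / 0 0 w -2 * w w 0 / 0 0 0 w -2 * w w / w 0 0 0 w -2 * w);
[up chain equal up] m = (2 * m, 2 * m, 2 * m, 2 * m, 2 * m, m), w = (w, 2 * w, 2 * w, 2 * w, 2 * w,
4 * w), a = (-2 * w 2 * w 0 0 0 0 / 2 * w -4 * w 2 * w 0 0 0 / 0 2 * w -4 * w 2 * w 0 0 / 0 0 2 * w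
-4 * w 2 * w 0 / 0 0 0 2 * w -4 * w 4 * w / 0 0 0 0 4 * w -8 * w); [up chain equal down] m = (m, m,
m, m, m, m), w = (w, 2 * w, 2 * w, 2 * w, 2 * w, w), a = (-2 * w 2 * w 0 0 0 0 / 2 * w -4 * w 2 * w
0 0 0 / 0 2 * w -4 * w 2 * w 0 0 / 0 0 2 * w -4 * w 2 * w 0 / 0 0 0 2 * w -4 * w 2 * w / 0 0 0 0 2 *
w -2 * w); [down chain equal up] m = (m, 2 * m, 2 * m, 2 * m, 2 * m, m), w = (2 * w, w, w, w, w, 2 *
w), a = (-4 * w 2 * w 0 0 0 0 / 2 * w -2 * w w 0 0 0 / 0 w -2 * w w 0 0 / 0 0 w -2 * w w 0 / 0 0 0 w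
-2 * w 2 * w / 0 0 0 0 2 * w -4 * w); [D extended up] m = (m, 2 * m, 2 * m, 2 * m, m, m), w = (2 *
w, w, w, w, w, w), a = (-4 * w 2 * w 0 0 0 0 / 2 * w -2 * w w 0 0 0 / 0 w -2 * w w 0 0 / 0 0 w -2 *
w w w / 0 0 0 w -2 * w 0 / 0 0 0 w 0 -2 * w); [D extended down] m = (2 * m, 2 * m, 2 * m, 2 * m, m,
m), w = (w, 2 * w, 2 * w, 2 * w, 2 * w, 2 * w), a = (-2 * w 2 * w 0 0 0 0 / 2 * w -4 * w 2 * w 0 0 0
/ 0 2 * w -4 * w 2 * w 0 0 / 0 0 2 * w -4 * w 2 * w 2 * w / 0 0 0 2 * w -4 * w 0 / 0 0 0 2 * w 0 -4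
* w); [double triple] m = (m, m, 2 * m, 2 * m, m, m), w = (w, w, w, w, w, w), a = (-2 * w 0 w 0 0 0
/ 0 -2 * w w 0 0 0 / w w -2 * w w 0 0 / 0 0 w -2 * w w w / 0 0 0 w -2 * w 0 / 0 0 0 w 0 -2 * w).
Only the classification direction is stated. (In the family with weights (w, 2w, …, 2w, w) the
consecutive intersection numbers are 2w, as divisibility by the weights forces; the published list
prints w there, and omits m_{n-2} = 2m in the two D-type families.) -/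
theorem result (T : Models.NumericalType 6) (hmin : T.IsMinimal) (hg : T.genus = 1) :
    (∀ i, T.g i = 0) ∧ ∃ (σ : Equiv.Perm (Fin 6)) (m w : ℤ),
      ((T.m (σ 0) = m ∧ T.m (σ 1) = m ∧ T.m (σ 2) = m ∧ T.m (σ 3) = m ∧ T.m (σ 4) = m ∧ T.m (σ 5) = m ∧ T.w (σ 0) = w ∧ T.w (σ 1) = w ∧ T.w (σ 2) = w ∧ T.w (σ 3) = w ∧ T.w (σ 4) = w ∧ T.w (σ 5) = w ∧ T.a (σ 0) (σ 0) = -2 * w ∧ T.a (σ 0) (σ 1) = w ∧ T.a (σ 0) (σ 2) = 0 ∧ T.a (σ 0) (σ 3) = 0 ∧ T.a (σ 0) (σ 4) = 0 ∧ T.a (σ 0) (σ 5) = w ∧ T.a (σ 1) (σ 1) = -2 * w ∧ T.a (σ 1) (σ 2) = w ∧ T.a (σ 1) (σ 3) = 0 ∧ T.a (σ 1) (σ 4) = 0 ∧ T.a (σ 1) (σ 5) = 0 ∧ T.a (σ 2) (σ 2) = -2 * w ∧ T.a (σ 2) (σ 3) = w ∧ T.a (σ 2) (σ 4) = 0 ∧ T.a (σ 2) (σ 5) = 0 ∧ T.a (σ 3) (σ 3) = -2 * w ∧ T.a (σ 3) (σ 4) = w ∧ T.a (σ 3) (σ 5) = 0 ∧ T.a (σ 4) (σ 4) = -2 * w ∧ T.a (σ 4) (σ 5) = w ∧ T.a (σ 5) (σ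 5) = -2 * w) ∨
      (T.m (σ 0) = 2 * m ∧ T.m (σ 1) = 2 * m ∧ T.m (σ 2) = 2 * m ∧ T.m (σ 3) = 2 * m ∧ T.m (σ 4) = 2 * m ∧ T.m (σ 5) = m ∧ T.w (σ 0) = w ∧ T.w (σ 1) = 2 * w ∧ T.w (σ 2) = 2 * w ∧ T.w (σ 3) = 2 * w ∧ T.w (σ 4) = 2 * w ∧ T.w (σ 5) = 4 * w ∧ T.a (σ 0) (σ 0) = -2 * w ∧ T.a (σ 0) (σ 1) = 2 * w ∧ T.a (σ 0) (σ 2) = 0 ∧ T.a (σ 0) (σ 3) = 0 ∧ T.a (σ 0) (σ 4) = 0 ∧ T.a (σ 0) (σ 5) = 0 ∧ T.a (σ 1) (σ 1) = -4 * w ∧ T.a (σ 1) (σ 2) = 2 * w ∧ T.a (σ 1) (σ 3) = 0 ∧ T.a (σ 1) (σ 4) = 0 ∧ T.a (σ 1) (σ 5) = 0 ∧ T.a (σ 2) (σ 2) = -4 * w ∧ T.a (σ 2) (σ 3) = 2 * w ∧ T.a (σ 2) (σ 4) = 0 ∧ T.a (σ 2) (σ 5) = 0 ∧ T.a (σ 3) (σ 3) = -4 * w ∧ T.a (σ 3) (σ 4) = 2 * w ∧ T.a (σ 3) (σ 5) = 0 ∧ T.a (σ 4) (σ 4) = -4 * w ∧ T.a (σ 4) (σ 5) = 4 * w ∧ T.a (σ 5) (σ 5) = -8 * w) ∨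
      (T.m (σ 0) = m ∧ T.m (σ 1) = m ∧ T.m (σ 2) = m ∧ T.m (σ 3) = m ∧ T.m (σ 4) = m ∧ T.m (σ 5) = m ∧ T.w (σ 0) = w ∧ T.w (σ 1) = 2 * w ∧ T.w (σ 2) = 2 * w ∧ T.w (σ 3) = 2 * w ∧ T.w (σ 4) = 2 * w ∧ T.w (σ 5) = w ∧ T.a (σ 0) (σ 0) = -2 * w ∧ T.a (σ 0) (σ 1) = 2 * w ∧ T.a (σ 0) (σ 2) = 0 ∧ T.a (σ 0) (σ 3) = 0 ∧ T.a (σ 0) (σ 4) = 0 ∧ T.a (σ 0) (σ 5) = 0 ∧ T.a (σ 1) (σ 1) = -4 * w ∧ T.a (σ 1) (σ 2) = 2 * w ∧ T.a (σ 1) (σ 3) = 0 ∧ T.a (σ 1) (σ 4) = 0 ∧ T.a (σ 1) (σ 5) = 0 ∧ T.a (σ 2) (σ 2) = -4 * w ∧ T.a (σ 2) (σ 3) = 2 * w ∧ T.a (σ 2) (σ 4) = 0 ∧ T.a (σ 2) (σ 5) = 0 ∧ T.a (σ 3) (σ 3) = -4 * w ∧ T.a (σ 3) (σ 4) = 2 * w ∧ T.a (σ 3) (σ 5) = 0 ∧ T.a (σ 4) (σ 4) = -4 * w ∧ T.a (σ 4) (σ 5) = 2 * w ∧ T.a (σ 5) (σ 5) = -2 * w) ∨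
      (T.m (σ 0) = m ∧ T.m (σ 1) = 2 * m ∧ T.m (σ 2) = 2 * m ∧ T.m (σ 3) = 2 * m ∧ T.m (σ 4) = 2 * m ∧ T.m (σ 5) = m ∧ T.w (σ 0) = 2 * w ∧ T.w (σ 1) = w ∧ T.w (σ 2) = w ∧ T.w (σ 3) = w ∧ T.w (σ 4) = w ∧ T.w (σ 5) = 2 * w ∧ T.a (σ 0) (σ 0) = -4 * w ∧ T.a (σ 0) (σ 1) = 2 * w ∧ T.a (σ 0) (σ 2) = 0 ∧ T.a (σ 0) (σ 3) = 0 ∧ T.a (σ 0) (σ 4) = 0 ∧ T.a (σ 0) (σ 5) = 0 ∧ T.a (σ 1) (σ 1) = -2 * w ∧ T.a (σ 1) (σ 2) = w ∧ T.a (σ 1) (σ 3) = 0 ∧ T.a (σ 1) (σ 4) = 0 ∧ T.a (σ 1) (σ 5) = 0 ∧ T.a (σ 2) (σ 2) = -2 * w ∧ T.a (σ 2) (σ 3) = w ∧ T.a (σ 2) (σ 4) = 0 ∧ T.a (σ 2) (σ 5) = 0 ∧ T.a (σ 3) (σ 3) = -2 * w ∧ T.a (σ 3) (σ 4) = w ∧ T.a (σ 3) (σ 5) = 0 ∧ T.a (σ 4) (σ 4) = -2 * w ∧ T.a (σ 4) (σ 5) = 2 * w ∧ T.a (σ 5) (σ 5) = -4 * w) ∨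
      (T.m (σ 0) = m ∧ T.m (σ 1) = 2 * m ∧ T.m (σ 2) = 2 * m ∧ T.m (σ 3) = 2 * m ∧ T.m (σ 4) = m ∧ T.m (σ 5) = m ∧ T.w (σ 0) = 2 * w ∧ T.w (σ 1) = w ∧ T.w (σ 2) = w ∧ T.w (σ 3) = w ∧ T.w (σ 4) = w ∧ T.w (σ 5) = w ∧ T.a (σ 0) (σ 0) = -4 * w ∧ T.a (σ 0) (σ 1) = 2 * w ∧ T.a (σ 0) (σ 2) = 0 ∧ T.a (σ 0) (σ 3) = 0 ∧ T.a (σ 0) (σ 4) = 0 ∧ T.a (σ 0) (σ 5) = 0 ∧ T.a (σ 1) (σ 1) = -2 * w ∧ T.a (σ 1) (σ 2) = w ∧ T.a (σ 1) (σ 3) = 0 ∧ T.a (σ 1) (σ 4) = 0 ∧ T.a (σ 1) (σ 5) = 0 ∧ T.a (σ 2) (σ 2) = -2 * w ∧ T.a (σ 2) (σ 3) = w ∧ T.a (σ 2) (σ 4) = 0 ∧ T.a (σ 2) (σ 5) = 0 ∧ T.a (σ 3) (σ 3) = -2 * w ∧ T.a (σ 3) (σ 4) = w ∧ T.a (σ 3) (σ 5) = w ∧ T.a (σ 4) (σ 4) = -2 * w ∧ T.a (σ 4) (σ 5) = 0 ∧ T.a (σ 5) (σ 5) = -2 * w) ∨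
      (T.m (σ 0) = 2 * m ∧ T.m (σ 1) = 2 * m ∧ T.m (σ 2) = 2 * m ∧ T.m (σ 3) = 2 * m ∧ T.m (σ 4) = m ∧ T.m (σ 5) = m ∧ T.w (σ 0) = w ∧ T.w (σ 1) = 2 * w ∧ T.w (σ 2) = 2 * w ∧ T.w (σ 3) = 2 * w ∧ T.w (σ 4) = 2 * w ∧ T.w (σ 5) = 2 * w ∧ T.a (σ 0) (σ 0) = -2 * w ∧ T.a (σ 0) (σ 1) = 2 * w ∧ T.a (σ 0) (σ 2) = 0 ∧ T.a (σ 0) (σ 3) = 0 ∧ T.a (σ 0) (σ 4) = 0 ∧ T.a (σ 0) (σ 5) = 0 ∧ T.a (σ 1) (σ 1) = -4 * w ∧ T.a (σ 1) (σ 2) = 2 * w ∧ T.a (σ 1) (σ 3) = 0 ∧ T.a (σ 1) (σ 4) = 0 ∧ T.a (σ 1) (σ 5) = 0 ∧ T.a (σ 2) (σ 2) = -4 * w ∧ T.a (σ 2) (σ 3) = 2 * w ∧ T.a (σ 2) (σ 4) = 0 ∧ T.a (σ 2) (σ 5) = 0 ∧ T.a (σ 3) (σ 3) = -4 * w ∧ T.a (σ 3) (σ 4) = 2 * w ∧ T.a (σ 3) (σ 5) = 2 * w ∧ T.a (σ 4) (σ 4) = -4 * w ∧ T.a (σ 4) (σ 5) = 0 ∧ T.a (σ 5) (σ 5) = -4 * w) ∨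
      (T.m (σ 0) = m ∧ T.m (σ 1) = m ∧ T.m (σ 2) = 2 * m ∧ T.m (σ 3) = 2 * m ∧ T.m (σ 4) = m ∧ T.m (σ 5) = m ∧ T.w (σ 0) = w ∧ T.w (σ 1) = w ∧ T.w (σ 2) = w ∧ T.w (σ 3) = w ∧ T.w (σ 4) = w ∧ T.w (σ 5) = w ∧ T.a (σ 0) (σ 0) = -2 * w ∧ T.a (σ 0) (σ 1) = 0 ∧ T.a (σ 0) (σ 2) = w ∧ T.a (σ 0) (σ 3) = 0 ∧ T.a (σ 0) (σ 4) = 0 ∧ T.a (σ 0) (σ 5) = 0 ∧ T.a (σ 1) (σ 1) = -2 * w ∧ T.a (σ 1) (σ 2) = w ∧ T.a (σ 1) (σ 3) = 0 ∧ T.a (σ 1) (σ 4) = 0 ∧ T.a (σ 1) (σ 5) = 0 ∧ T.a (σ 2) (σ 2) = -2 * w ∧ T.a (σ 2) (σ 3) = w ∧ T.a (σ 2) (σ 4) = 0 ∧ T.a (σ 2) (σ 5) = 0 ∧ T.a (σ 3) (σ 3) = -2 * w ∧ T.a (σ 3) (σ 4) = w ∧ T.a (σ 3) (σ 5) = w ∧ T.a (σ 4) (σ 4) = -2 * w ∧ T.a (σ 4) (σ 5) = 0 ∧ T.a (σ 5) (σ 5) = -2 * w)) := by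
  have hall : ∀ i, T.IsMinusTwo i := minusTwo_of_genus_one T hmin (by omega) hg
  have hd : ∀ i, T.a i i = -2 * T.w i := fun i => (hall i).2
  have hg0 : ∀ i, T.g i = 0 := fun i => (hall i).1
  rcases affineType_of_minusTwo hall (by omega) with h | h | h | h | h | h | h | h | h | h | h | h
  · obtain ⟨σ, m, w, h0, h1, h2, h3, h4⟩ := h
    refine ⟨hg0, σ, m, w, Or.inl ?_⟩
    and_intros <;> first
      | exact h0 _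
      | exact h1 _
      | exact h2 _ _ (by decide) (by decide)
      | (rw [a_symm T]; exact h2 _ _ (by decide) (by decide))
      | exact h3 _ _ (by decide) (by decide)
      | (rw [a_symm T]; exact h3 _ _ (by decide) (by decide))
      | exact h4 _ _ (by decide) (by decide) (by decide)
      | (rw [a_symm T]; exact h4 _ _ (by decide) (by decide) (by decide))
      | (rw [hd, h1 _] <;> ring)
  · obtain ⟨σ, m, w, h0, h1, h2, h3, h4, h5, h6, h7⟩ := h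
    refine ⟨hg0, σ, m, w, Or.inr (Or.inl ?_)⟩
    and_intros <;> first
      | exact h0 _ (by decide)
      | exact h1 _ (by decide)
      | exact h2 _ (by decide)
      | exact h3 _ (by decide)
      | exact h4 _ (by decide)
      | exact h5 _ _ (by decide) (by decide)
      | (rw [a_symm T]; exact h5 _ _ (by decide) (by decide))
      | exact h6 _ _ (by decide) (by decide)
      | (rw [a_symm T]; exact h6 _ _ (by decide) (by decide))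
      | exact h7 _ _ (by decide) (by decide) (by decide)
      | (rw [a_symm T]; exact h7 _ _ (by decide) (by decide) (by decide))
      | (rw [hd, h2 _ (by decide)] <;> ring)
      | (rw [hd, h3 _ (by decide)] <;> ring)
      | (rw [hd, h4 _ (by decide)] <;> ring)
  · obtain ⟨σ, m, w, h0, h1, h2, h3, h4, h5⟩ := h
    refine ⟨hg0, σ, m, w, Or.inr (Or.inr (Or.inl ?_))⟩
    and_intros <;> first
      | exact h0 _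
      | exact h1 _ (by decide)
      | exact h2 _ (by decide)
      | exact h3 _ (by decide)
      | exact h4 _ _ (by decide) (by decide)
      | (rw [a_symm T]; exact h4 _ _ (by decide) (by decide))
      | exact h5 _ _ (by decide) (by decide)
      | (rw [a_symm T]; exact h5 _ _ (by decide) (by decide))
      | (rw [hd, h1 _ (by decide)] <;> ring)
      | (rw [hd, h2 _ (by decide)] <;> ring)
      | (rw [hd, h3 _ (by decide)] <;> ring)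
  · obtain ⟨σ, m, w, h0, h1, h2, h3, h4, h5, h6, h7, h8, h9⟩ := h
    refine ⟨hg0, σ, m, w, Or.inr (Or.inr (Or.inr (Or.inl ?_)))⟩
    and_intros <;> first
      | exact h0 _ (by decide)
      | exact h1 _ (by decide)
      | exact h2 _ (by decide)
      | exact h3 _ (by decide)
      | exact h4 _ (by decide)
      | exact h5 _ (by decide)
      | exact h6 _ _ (by decide) (by decide)
      | (rw [a_symm T]; exact h6 _ _ (by decide) (by decide))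
      | exact h7 _ _ (by decide) (by decide)
      | (rw [a_symm T]; exact h7 _ _ (by decide) (by decide))
      | exact h8 _ _ (by decide) (by decide)
      | (rw [a_symm T]; exact h8 _ _ (by decide) (by decide))
      | exact h9 _ _ (by decide) (by decide) (by decide) (by decide)
      | (rw [a_symm T]; exact h9 _ _ (by decide) (by decide) (by decide) (by decide))
      | (rw [hd, h3 _ (by decide)] <;> ring)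
      | (rw [hd, h4 _ (by decide)] <;> ring)
      | (rw [hd, h5 _ (by decide)] <;> ring)
  · obtain ⟨σ, m, w, h0, h1, h2, h3, h4, h5, h6, h7, h8⟩ := h.1
    refine ⟨hg0, σ, m, w, Or.inr (Or.inr (Or.inr (Or.inr (Or.inl ?_))))⟩
    and_intros <;> first
      | exact h0 _ (by decide)
      | exact h1 _ (by decide)
      | exact h2 _ (by decide)
      | exact h3 _ (by decide)
      | exact h4 _ (by decide)
      | exact h5 _ _ (by decide) (by decide)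
      | (rw [a_symm T]; exact h5 _ _ (by decide) (by decide))
      | exact h6 _ _ (by decide) (by decide)
      | (rw [a_symm T]; exact h6 _ _ (by decide) (by decide))
      | exact h7 _ _ (by decide) (by decide)
      | (rw [a_symm T]; exact h7 _ _ (by decide) (by decide))
      | exact h8 _ _ (by decide) (by decide) (by decide) (by decide)
      | (rw [a_symm T]; exact h8 _ _ (by decide) (by decide) (by decide) (by decide))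
      | (rw [hd, h3 _ (by decide)] <;> ring)
      | (rw [hd, h4 _ (by decide)] <;> ring)
  · obtain ⟨σ, m, w, h0, h1, h2, h3, h4, h5, h6⟩ := h.1
    refine ⟨hg0, σ, m, w, Or.inr (Or.inr (Or.inr (Or.inr (Or.inr (Or.inl ?_)))))⟩
    and_intros <;> first
      | exact h0 _ (by decide)
      | exact h1 _ (by decide)
      | exact h2 _ (by decide)
      | exact h3 _ (by decide)
      | exact h4 _ _ (by decide) (by decide)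
      | (rw [a_symm T]; exact h4 _ _ (by decide) (by decide))
      | exact h5 _ _ (by decide) (by decide)
      | (rw [a_symm T]; exact h5 _ _ (by decide) (by decide))
      | exact h6 _ _ (by decide) (by decide) (by decide)
      | (rw [a_symm T]; exact h6 _ _ (by decide) (by decide) (by decide))
      | (rw [hd, h2 _ (by decide)] <;> ring)
      | (rw [hd, h3 _ (by decide)] <;> ring)
  · obtain ⟨σ, m, w, h0, h1, h2, h3, h4, h5, h6, h7, h8⟩ := h.1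
    refine ⟨hg0, σ, m, w, Or.inr (Or.inr (Or.inr (Or.inr (Or.inr (Or.inr (?_))))))⟩
    and_intros <;> first
      | exact h0 _ (by decide)
      | exact h1 _ (by decide)
      | exact h2 _ (by decide)
      | exact h3 _
      | exact h4 _ _ (by decide) (by decide)
      | (rw [a_symm T]; exact h4 _ _ (by decide) (by decide))
      | exact h5 _ _ (by decide) (by decide)
      | (rw [a_symm T]; exact h5 _ _ (by decide) (by decide))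
      | exact h6 _ _ (by decide) (by decide)
      | (rw [a_symm T]; exact h6 _ _ (by decide) (by decide))
      | exact h7 _ _ (by decide) (by decide)
      | (rw [a_symm T]; exact h7 _ _ (by decide) (by decide))
      | exact h8 _ _ (by decide) (by decide) (by decide) (by decide) (by decide)
      | (rw [a_symm T]; exact h8 _ _ (by decide) (by decide) (by decide) (by decide) (by decide))
      | (rw [hd, h3 _] <;> ring)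
  · obtain ⟨v, hv⟩ := h; exact absurd hv.span (by norm_num)
  · obtain ⟨v, hv⟩ := h; exact absurd hv.span (by norm_num)
  · obtain ⟨v, hv⟩ := h; exact absurd hv.span (by norm_num)
  · obtain ⟨v, hv⟩ := h; exact absurd hv.span (by norm_num)
  · obtain ⟨v, hv⟩ := h; exact absurd hv.span (by norm_num)

end Groth.Agent.S7367
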