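import Groth.Statements.S7372
import Groth.Agent.CastLib.CurveRes
-- import your own Groth.Agent.* helpers here

set_option autoImplicit false
set_option backward.isDefEq.respectTransparency false
set_option maxHeartbeats 800000
set_option synthInstance.maxHeartbeats 200000
universe u
open CategoryTheory CategoryTheory.Limits AlgebraicGeometry
open Resolve

namespace Groth.Agent.S7372

/-- Let Y be an integral Noetherian scheme of dimension one. Then Y has a resolution of singularities (a
proper morphism X → Y from an integral scheme with regular local rings which is an isomorphism over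
a nonempty open of Y) if and only if there is a finite sequence of blowings up in closed points Y_n
→ Y_{n-1} → … → Y_1 → Y with Y_n regular (all local rings regular). -/
theorem result (Y : Scheme.{u}) [IsIntegral Y] [IsNoetherian Y]
    (hdim : topologicalKrullDim Y = 1) :
    (∃ (X : Scheme.{u}) (g : X ⟶ Y), IsProper g ∧ IsIntegral X ∧
        (∃ V : Y.Opens, (V : Set Y).Nonempty ∧ IsIso (g ∣_ V)) ∧ ∀ x : X, IsRegularLocalRing (X.presheaf.stalk x)) ↔
      ∃ (Y' : Scheme.{u}) (g : Y' ⟶ Y), Resolve.IsPtBlowupSeq g ∧ ∀ y : Y', IsRegularLocalRing (Y'.presheaf.stalk y) := by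
    constructor
    · rintro ⟨X, g, hp, hX, ⟨V, hV, hiso⟩, hreg⟩
      haveI := hX
      haveI : QuasiCompact (Y.fromSpecStalk (genericPoint Y)) := inferInstance
      haveI : QuasiSeparated (Y.fromSpecStalk (genericPoint Y)) := inferInstance
      haveI : IsDominant g := by
        obtain ⟨hgen, -⟩ := Groth.Agent.BirQFLib.birational_of_isIso_restrict g V hV hiso
        refine ⟨?_⟩
        rw [DenseRange, dense_iff_closure_eq, Set.eq_univ_iff_forall]
        intro z
        have h3 : ({genericPoint Y} : Set Y) ⊆ Set.range g := Set.singleton_subset_iff.2 ⟨genericPoint X, hgen⟩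
        exact closure_mono h3 (genericPoint_specializes z).mem_closure
      haveI := hp
      haveI := Groth.Agent.CastLib.CurveRes.finite_normalization g (Groth.Agent.CastLib.CurveRes.isNormal_of_regular hreg)
      obtain ⟨hN, hn, hpre, -⟩ := Groth.Agent.NormUPLib.generic_facts (X := Y)
      haveI := hN
      haveI : IsDominant (Curv2.normalizationι Y) := by
        refine ⟨?_⟩
        rw [DenseRange, dense_iff_closure_eq, Set.eq_univ_iff_forall]
        intro z
        have h4 : Curv2.normalizationι Y (genericPoint (Curv2.normalization Y)) = genericPoint Y := by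
          have : genericPoint (Curv2.normalization Y) ∈ (Curv2.normalizationι Y).base ⁻¹' {genericPoint Y} := hpre ▸ rfl
          exact this
        have h3 : ({genericPoint Y} : Set Y) ⊆ Set.range (Curv2.normalizationι Y) :=
          Set.singleton_subset_iff.2 ⟨_, h4⟩
        exact closure_mono h3 (genericPoint_specializes z).mem_closure
      exact Groth.Agent.CastLib.CurveRes.exists_seq (Curv2.normalizationι Y) hdim.le
        (Groth.Agent.CastLib.CurveRes.regular_of_finite (Curv2.normalizationι Y) hn hdim.le)
    · rintro ⟨Y', g, hseq, hreg⟩
      obtain ⟨h1, h2, h3⟩ := Groth.Agent.CastLib.CurveRes.props_of_seq hseq hdim.le (Groth.Agent.CastLib.CurveRes.not_isClosed_generic hdim)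
      exact ⟨Y', g, h1, h2, h3, hreg⟩

end Groth.Agent.S7372
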