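import Groth.Statements.S7373
import Groth.Agent.CastLib.CurveEmb
-- import your own Groth.Agent.* helpers here

set_option autoImplicit false
set_option backward.isDefEq.respectTransparency false
set_option maxHeartbeats 800000
set_option synthInstance.maxHeartbeats 200000
universe u
open CategoryTheory CategoryTheory.Limits AlgebraicGeometry
open Resolve

namespace Groth.Agent.S7373

/-- Let X be a Noetherian scheme and Y ⊂ X an integral closed subscheme of dimension one (given by its
ideal sheaf I) whose normalization morphism is finite. Then there is a finite sequence of blowings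
up in closed points g : X' → X such that the strict transform Y' of Y in X' is a regular curve: an
integral closed subscheme Y' ⊂ X' (ideal I') mapped by g into Y, isomorphically over a nonempty open
of Y, all of whose local rings are regular. (The quasi-compactness and quasi-separatedness binders
on Spec K(Y) → Y always hold.) -/
theorem result (X : Scheme.{u}) [IsNoetherian X] (I : X.IdealSheafData)
    [IsIntegral I.subscheme] (hdim : topologicalKrullDim ↥I.subscheme = 1)
    [QuasiCompact (I.subscheme.fromSpecStalk (genericPoint ↥I.subscheme))]
    [QuasiSeparated (I.subscheme.fromSpecStalk (genericPoint ↥I.subscheme))]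
    (hfin : IsFinite (Curv2.normalizationι I.subscheme)) :
    ∃ (X' : Scheme.{u}) (g : X' ⟶ X), Resolve.IsPtBlowupSeq g ∧
      ∃ (I' : X'.IdealSheafData) (g' : I'.subscheme ⟶ I.subscheme), IsIntegral I'.subscheme ∧
        g' ≫ I.subschemeι = I'.subschemeι ≫ g ∧
        (∃ V : I.subscheme.Opens, (V : Set ↥I.subscheme).Nonempty ∧ IsIso (g' ∣_ V)) ∧
        ∀ y : ↥I'.subscheme, IsRegularLocalRing (I'.subscheme.presheaf.stalk y) := by
    obtain ⟨hN, hn, hpre, -⟩ := Groth.Agent.NormUPLib.generic_facts (X := I.subscheme)
    haveI := hfin
    haveI := hN
    haveI : IsLocallyNoetherian I.subscheme := LocallyOfFiniteType.isLocallyNoetherian I.subschemeι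
    haveI : CompactSpace I.subscheme := QuasiCompact.compactSpace_of_compactSpace I.subschemeι
    haveI : AlgebraicGeometry.IsNoetherian I.subscheme := {}
    haveI : IsDominant (Curv2.normalizationι I.subscheme) := by
      refine ⟨?_⟩
      rw [DenseRange, dense_iff_closure_eq, Set.eq_univ_iff_forall]
      intro z
      have h4 : Curv2.normalizationι I.subscheme (genericPoint (Curv2.normalization I.subscheme)) = genericPoint I.subscheme := by
        have : genericPoint (Curv2.normalization I.subscheme) ∈
            (Curv2.normalizationι I.subscheme).base ⁻¹' {genericPoint I.subscheme} := hpre ▸ rfl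
        exact this
      have h3 : ({genericPoint I.subscheme} : Set I.subscheme) ⊆ Set.range (Curv2.normalizationι I.subscheme) :=
        Set.singleton_subset_iff.2 ⟨_, h4⟩
      exact closure_mono h3 (genericPoint_specializes z).mem_closure
    obtain ⟨X', hX', g, hseq, -, Z, k, r, hk, hZ, -, hkg, ⟨V, hV, hiso⟩, -, hreg⟩ :=
      Groth.Agent.CastLib.CurveEmb.exists_embedded hdim.le I.subschemeι (Curv2.normalizationι I.subscheme)
        (Groth.Agent.CastLib.CurveRes.regular_of_finite (Curv2.normalizationι I.subscheme) hn hdim.le)
        (fun {A} _ => True) trivial (fun {A A' C} _ _ _ _ _ _ _ _ _ _ _ => trivial)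
    haveI := hk
    haveI := hZ
    haveI := hiso
    haveI : Nonempty k.ker.subscheme := ⟨k.toImage (genericPoint Z)⟩
    haveI : IsIntegral k.ker.subscheme := isIntegral_of_isOpenImmersion (inv k.toImage)
    refine ⟨X', g, hseq, k.ker, inv k.toImage ≫ r, inferInstance, ?_, ⟨V, hV, ?_⟩, fun y => ?_⟩
    · rw [Category.assoc, ← hkg, IsIso.inv_comp_eq]
      exact (k.toImage_imageι_assoc g).symm
    · rw [morphismRestrict_comp]
      infer_instance
    · haveI := hreg ((inv k.toImage) y)
      exact IsRegularLocalRing.of_ringEquiv (asIso ((inv k.toImage).stalkMap y)).commRingCatIsoToRingEquiv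

end Groth.Agent.S7373
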