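import Groth.Statements.S7374
import Groth.Agent.CastLib.CurveSep
-- import your own Groth.Agent.* helpers here

set_option autoImplicit false
set_option backward.isDefEq.respectTransparency false
set_option maxHeartbeats 800000
set_option synthInstance.maxHeartbeats 200000
universe u
open CategoryTheory CategoryTheory.Limits AlgebraicGeometry
open Resolve

namespace Groth.Agent.S7374

/-- Let X be a Noetherian scheme and Y_1, …, Y_n ⊂ X integral closed subschemes of dimension one (ideal
sheaves I_i), pairwise distinct, each with finite normalization morphism. Then there is a finite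
sequence of blowings up in closed points g : X' → X such that the strict transforms Y'_i ⊂ X' —
integral closed subschemes (ideals I'_i) mapped by g into Y_i, isomorphically over a nonempty open
of Y_i — are pairwise disjoint and have regular local rings. (The quasi-compactness and
quasi-separatedness binders always hold. The published statement does not say the Y_i are distinct;
for Y_1 = Y_2 the strict transforms coincide and cannot be disjoint, so distinctness is assumed
here, as the proof's use of the intersection multiplicities m_p(Y_i ∩ Y_j) requires.) -/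
theorem result (X : Scheme.{u}) [IsNoetherian X] {n : ℕ}
    (I : Fin n → X.IdealSheafData) [∀ i, IsIntegral (I i).subscheme] (hdim : ∀ i, topologicalKrullDim ↥(I i).subscheme = 1)
    [∀ i, QuasiCompact ((I i).subscheme.fromSpecStalk (genericPoint ↥(I i).subscheme))]
    [∀ i, QuasiSeparated ((I i).subscheme.fromSpecStalk (genericPoint ↥(I i).subscheme))]
    (hfin : ∀ i, IsFinite (Curv2.normalizationι (I i).subscheme)) (hdist : Function.Injective I) :
    ∃ (X' : Scheme.{u}) (g : X' ⟶ X), Resolve.IsPtBlowupSeq g ∧
      ∃ (I' : Fin n → X'.IdealSheafData) (g' : ∀ i, (I' i).subscheme ⟶ (I i).subscheme),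
        (∀ i, IsIntegral (I' i).subscheme ∧ g' i ≫ (I i).subschemeι = (I' i).subschemeι ≫ g ∧
          (∃ V : (I i).subscheme.Opens, (V : Set ↥(I i).subscheme).Nonempty ∧ IsIso (g' i ∣_ V)) ∧
          ∀ y : ↥(I' i).subscheme, IsRegularLocalRing ((I' i).subscheme.presheaf.stalk y)) ∧
        ∀ i j, i ≠ j → Disjoint ((I' i).support : Set X') ((I' j).support : Set X') := by
    classical
    haveI : ∀ i, IsLocallyNoetherian (I i).subscheme := fun i => LocallyOfFiniteType.isLocallyNoetherian (I i).subschemeι
    haveI : ∀ i, CompactSpace (I i).subscheme := fun i => QuasiCompact.compactSpace_of_compactSpace (I i).subschemeι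
    haveI : ∀ i, AlgebraicGeometry.IsNoetherian (I i).subscheme := fun i => {}
    have hN := fun i => Groth.Agent.NormUPLib.generic_facts (X := (I i).subscheme)
    haveI : ∀ i, IsIntegral (Curv2.normalization (I i).subscheme) := fun i => (hN i).fst
    haveI := hfin
    haveI : ∀ i, IsDominant (Curv2.normalizationι (I i).subscheme) := by
      intro i
      obtain ⟨_, -, hpre, -⟩ := hN i
      refine ⟨?_⟩
      rw [DenseRange, dense_iff_closure_eq, Set.eq_univ_iff_forall]
      intro z
      have h4 : Curv2.normalizationι (I i).subscheme (genericPoint (Curv2.normalization (I i).subscheme)) =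
          genericPoint (I i).subscheme := by
        have : genericPoint (Curv2.normalization (I i).subscheme) ∈
            (Curv2.normalizationι (I i).subscheme).base ⁻¹' {genericPoint (I i).subscheme} := hpre ▸ rfl
        exact this
      have h3 : ({genericPoint (I i).subscheme} : Set (I i).subscheme) ⊆ Set.range (Curv2.normalizationι (I i).subscheme) :=
        Set.singleton_subset_iff.2 ⟨_, h4⟩
      exact closure_mono h3 (genericPoint_specializes z).mem_closure
    have hd := fun i => (hdim i).le
    have hnc := fun i => Groth.Agent.CastLib.CurveRes.not_isClosed_generic (hdim i)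
    have hreg : ∀ i, ∀ x : Curv2.normalization (I i).subscheme, IsRegularLocalRing ((Curv2.normalization (I i).subscheme).presheaf.stalk x) :=
      fun i => Groth.Agent.CastLib.CurveRes.regular_of_finite (Curv2.normalizationι (I i).subscheme)
        (hN i).snd.1 (hd i)
    obtain ⟨A₀, g₀, hs₀, -, ht⟩ := Groth.Agent.CastLib.CurveSep.exists_all_regular (fun i => (I i).subschemeι)
      (fun i => Curv2.normalizationι (I i).subscheme) hd hnc hreg (fun {A} _ => True) trivial
      (fun {A A'} _ _ _ _ _ _ _ => trivial)
    choose Z k r h hk hZ hr hkg hbir hh hhr hZreg using ht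
    haveI := hZ
    haveI := hr
    haveI : ∀ i, IsLocallyNoetherian (Z i) := fun i => LocallyOfFiniteType.isLocallyNoetherian (r i)
    haveI : ∀ i, CompactSpace (Z i) := fun i => QuasiCompact.compactSpace_of_compactSpace (r i)
    haveI : ∀ i, AlgebraicGeometry.IsNoetherian (Z i) := fun i => {}
    have hgen : ∀ i, r i (genericPoint (Z i)) = genericPoint (I i).subscheme := fun i => by
      obtain ⟨V, hV, hiso⟩ := hbir i
      exact (Groth.Agent.BirQFLib.birational_of_isIso_restrict (r i) V hV hiso).1
    have hncX : ∀ i, ¬ IsClosed ({(I i).subschemeι (genericPoint (I i).subscheme)} : Set X) := fun i hc => hnc i (by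
      have h2 := hc.preimage (I i).subschemeι.continuous
      rwa [← Set.image_singleton, Set.preimage_image_eq _ (I i).subschemeι.isEmbedding.injective] at h2)
    have hne : ∀ i l, i ≠ l → (r i ≫ (I i).subschemeι) (genericPoint (Z i)) ∉ Set.range (r l ≫ (I l).subschemeι) := by
      rintro i l hil ⟨z, hz⟩
      rw [Scheme.Hom.comp_apply, Scheme.Hom.comp_apply, hgen i] at hz
      by_cases hzg : r l z = genericPoint (I l).subscheme
      · apply hil
        apply hdist
        refine Groth.Agent.TwistShriek.ideal_eq_of_support inferInstance inferInstance ?_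
        have hcl : ∀ m, closure {(I m).subschemeι (genericPoint (I m).subscheme)} = ((I m).support : Set X) := fun m => by
          rw [← Scheme.IdealSheafData.range_subschemeι, ← Set.image_singleton,
            (I m).subschemeι.isClosedEmbedding.closure_image_eq, genericPoint_closure, Set.image_univ]
        rw [← hcl i, ← hcl l, ← hz, hzg]
      · have hc := Groth.Agent.H6CurveCorr.isClosed_singleton (hd l) (fun x => genericPoint_specializes x) hzg
        have hc' := (I l).subschemeι.isClosedEmbedding.isClosedMap _ hc
        rw [Set.image_singleton, hz] at hc'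
        exact hncX i hc'
    obtain ⟨A, g, k', hs, -, hk', hkg', hdisj⟩ := Groth.Agent.CastLib.CurveSep.exists_separate
      (fun i => r i ≫ (I i).subschemeι) (fun i => hZreg i trivial)
      (fun i => (Groth.Agent.S9683.result (r i)).1.trans (hd i))
      (fun i => by rw [Scheme.Hom.comp_apply, hgen i]; exact hncX i) hne (fun {A} _ => True)
      (fun {A A'} _ _ _ _ _ _ _ => trivial) g₀ hs₀ trivial k hk hkg
    haveI := hk'
    refine ⟨A, g, hs, fun i => (k' i).ker, fun i => inv (k' i).toImage ≫ r i, fun i => ?_, fun i l hil => ?_⟩
    · haveI : Nonempty (k' i).ker.subscheme := ⟨(k' i).toImage (genericPoint (Z i))⟩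
      obtain ⟨V, hV, hiso⟩ := hbir i
      haveI := hiso
      refine ⟨isIntegral_of_isOpenImmersion (inv (k' i).toImage), ?_, ⟨V, hV, ?_⟩, fun y => ?_⟩
      · rw [Category.assoc, ← hkg' i, IsIso.inv_comp_eq]
        exact ((k' i).toImage_imageι_assoc g).symm
      · rw [morphismRestrict_comp]
        infer_instance
      · haveI := hZreg i trivial ((inv (k' i).toImage) y)
        exact IsRegularLocalRing.of_ringEquiv (asIso ((inv (k' i).toImage).stalkMap y)).commRingCatIsoToRingEquiv
    · rw [Scheme.Hom.support_ker, Scheme.Hom.support_ker, (k' i).isClosedEmbedding.isClosed_range.closure_eq,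
        (k' l).isClosedEmbedding.isClosed_range.closure_eq]
      exact hdisj i l hil

end Groth.Agent.S7374
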