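import Groth.Statements.S7390
import Groth.Agent.AmpleLib.GenLocus

set_option autoImplicit false
universe u
open CategoryTheory AlgebraicGeometry
open Mor

namespace Groth.Agent.S7390

/-- Let `X` be a scheme such that every point lies in some affine open `X_s`, the locus where a global
section `s` generates an invertible `O_X`-module `L` (both depending on the point). Then the
diagonal of `X` is an affine morphism. -/
theorem result (X : Scheme.{u})
    (h : ∀ x : X, ∃ (L : X.Modules) (s : Coh.structureModule X ⟶ L), PicF.IsInvertible L ∧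
      x ∈ CohB1.genLocus L s ∧ IsAffineOpen (CohB1.genLocus L s)) :
    IsAffineHom (Limits.pullback.diagonal (Limits.terminal.from X)) := by
  refine isAffineHom_of_forall_exists_isAffineOpen _ fun p => ?_
  obtain ⟨L, s, hL, hx, hU⟩ := h (Limits.pullback.fst (Limits.terminal.from X) (Limits.terminal.from X) p)
  obtain ⟨M, t, hM, hy, hV⟩ := h (Limits.pullback.snd (Limits.terminal.from X) (Limits.terminal.from X) p)
  set U := CohB1.genLocus L s
  set V := CohB1.genLocus M t
  haveI : IsAffine U.toScheme := hU
  haveI : IsAffine V.toScheme := hV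
  let m := Limits.pullback.map (Limits.terminal.from U.toScheme) (Limits.terminal.from V.toScheme)
    (Limits.terminal.from X) (Limits.terminal.from X) U.ι V.ι (𝟙 _) (Subsingleton.elim _ _) (Subsingleton.elim _ _)
  have hm : m.opensRange = Limits.pullback.fst (Limits.terminal.from X) (Limits.terminal.from X) ⁻¹ᵁ U ⊓
      Limits.pullback.snd (Limits.terminal.from X) (Limits.terminal.from X) ⁻¹ᵁ V := by
    apply TopologicalSpace.Opens.ext
    simp [m, Scheme.Pullback.range_map]
  refine ⟨m.opensRange, ?_, isAffineOpen_opensRange m, ?_⟩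
  · rw [hm]
    exact ⟨hx, hy⟩
  · rw [hm]
    have e : ∀ (W : X.Opens) (q : Limits.pullback (Limits.terminal.from X) (Limits.terminal.from X) ⟶ X),
        Limits.pullback.diagonal (Limits.terminal.from X) ≫ q = 𝟙 X →
        Limits.pullback.diagonal (Limits.terminal.from X) ⁻¹ᵁ (q ⁻¹ᵁ W) = W := by
      intro W q hq
      rw [← Scheme.Hom.comp_preimage, hq, Scheme.Hom.id_preimage]
    rw [Scheme.Hom.preimage_inf, e U _ (Limits.pullback.diagonal_fst _), e V _ (Limits.pullback.diagonal_snd _)]
    exact Groth.Agent.AmpleLib.isAffineOpen_inf_genLocus hL s hV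

end Groth.Agent.S7390
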