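import Groth.Statements.S7392
import Groth.Agent.ProjLocal.Basic

set_option autoImplicit false
set_option linter.style.haveILetI false
set_option backward.isDefEq.respectTransparency false
universe u
open CategoryTheory AlgebraicGeometry
open Opposite
open Mor

namespace Groth.Agent.S7392

/-- For a ring `A` and an `A`-module `M`, the module `M~` on `Spec A` is locally projective (projective
sections over every affine open) if and only if `M` is a projective `A`-module. -/
theorem result (A : CommRingCat.{u}) (M : ModuleCat.{u} A) :
    (∀ U : (Spec A).Opens, IsAffineOpen U →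
      Module.Projective ((Spec A).ringCatSheaf.obj.obj (op U)) ((tilde M).val.obj (op U))) ↔
      Module.Projective A M := by
  let N := (modulesSpecToSheaf.obj (tilde M)).presheaf.obj (op ⊤)
  let e₀ : M ≃ₗ[A] N := (asIso (tilde.toOpen M ⊤)).toLinearEquiv
  let er : A ≃+* Γ(Spec A, ⊤) := (Scheme.ΓSpecIso A).symm.commRingCatIsoToRingEquiv
  let φ : M ≃+ Γ(tilde M, ⊤) := e₀.toAddEquiv
  have key : ∀ (a : A) (m : M), φ (a • m) = er a • φ m :=
    fun a m => e₀.map_smul a m
  constructor
  · intro h
    haveI : Module.Projective Γ(Spec A, ⊤) Γ(tilde M, ⊤) := h ⊤ (isAffineOpen_top _)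
    letI := RingHomInvPair.of_ringEquiv er
    letI := RingHomInvPair.of_ringEquiv er.symm
    let e : M ≃ₛₗ[(er : A →+* Γ(Spec A, ⊤))] Γ(tilde M, ⊤) := { φ with map_smul' := key }
    exact Module.Projective.of_equiv e.symm
  · intro h U hU
    haveI : (tilde M).IsQuasicoherent :=
      inferInstanceAs (((tilde.functor A).obj M).IsQuasicoherent)
    refine ProjLocal.projective_sections (tilde M) (fun _ : PUnit => (⊤ : (Spec A).Opens))
      (iSup_const) (fun _ => isAffineOpen_top _) (fun _ => ?_) hU
    letI := RingHomInvPair.of_ringEquiv er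
    letI := RingHomInvPair.of_ringEquiv er.symm
    let e : M ≃ₛₗ[(er : A →+* Γ(Spec A, ⊤))] Γ(tilde M, ⊤) := { φ with map_smul' := key }
    exact Module.Projective.of_equiv e

end Groth.Agent.S7392
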