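import Groth.Statements.S7393
import Groth.Agent.ExcLib.Transfer
import Groth.Agent.RegLocLib.LocClosedPoint
import Groth.Agent.GRingCompleteLib.Descend

set_option autoImplicit false
universe u
set_option backward.isDefEq.respectTransparency false
open CategoryTheory AlgebraicGeometry
open Mor

namespace Groth.Agent.S7393

/-- A scheme `X` is a G-scheme (every point has an affine open neighbourhood whose coordinate ring is a
G-ring) if and only if `X` is locally Noetherian and, for every closed point `x`, the completion map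
of the local ring `O_{X,x} → O_{X,x}^∧` is a regular ring map. -/
theorem result (X : Scheme.{u}) :
    (∀ x : X, ∃ U : X.Opens, x ∈ U ∧ IsAffineOpen U ∧ CAlg.IsGRing Γ(X, U)) ↔
      IsLocallyNoetherian X ∧ ∀ x : X, IsClosed ({x} : Set X) →
        CAlg.IsRegularHom (X.presheaf.stalk x)
          (AdicCompletion (IsLocalRing.maximalIdeal (X.presheaf.stalk x)) (X.presheaf.stalk x)) := by
  have hNoeth : (∀ x : X, ∃ U : X.Opens, x ∈ U ∧ IsAffineOpen U ∧ CAlg.IsGRing Γ(X, U)) → IsLocallyNoetherian X := by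
    intro h
    choose V hxV hV hG using h
    exact (isLocallyNoetherian_iff_of_iSup_eq_top (S := fun x => ⟨V x, hV x⟩)
      (eq_top_iff.2 fun x _ => TopologicalSpace.Opens.mem_iSup.2 ⟨x, hxV x⟩)).2 fun x => (hG x).1
  constructor
  · intro h
    refine ⟨hNoeth h, fun x _ => ?_⟩
    obtain ⟨V, hxV, hV, hG⟩ := h x
    letI : Algebra Γ(X, V) (X.presheaf.stalk x) := TopCat.Presheaf.algebra_section_stalk X.presheaf ⟨x, hxV⟩
    haveI : IsLocalization.AtPrime (X.presheaf.stalk x) (hV.primeIdealOf ⟨x, hxV⟩).asIdeal :=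
      hV.isLocalization_stalk ⟨x, hxV⟩
    exact Groth.Agent.ExcLib.isRegularHom_completion_of_ringEquiv
      (IsLocalization.algEquiv (hV.primeIdealOf ⟨x, hxV⟩).asIdeal.primeCompl (Localization.AtPrime (hV.primeIdealOf ⟨x, hxV⟩).asIdeal)
        (X.presheaf.stalk x)).toRingEquiv
      (hG.2 (hV.primeIdealOf ⟨x, hxV⟩).asIdeal)
  · rintro ⟨hX, h⟩ x
    obtain ⟨_, ⟨U, hU, rfl⟩, hxU, -⟩ := X.isBasis_affineOpens.exists_subset_of_mem_open (Set.mem_univ x) isOpen_univ
    haveI : IsNoetherianRing Γ(X, U) := IsLocallyNoetherian.component_noetherian ⟨U, hU⟩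
    refine ⟨U, hxU, hU, inferInstance, fun p hp => ?_⟩
    let y : X := hU.fromSpec ⟨p, hp⟩
    have hyU : y ∈ U := hU.range_fromSpec.le ⟨⟨p, hp⟩, rfl⟩
    obtain ⟨x₀, hx₀, hc⟩ := RegLocLib.exists_closed_point (isClosed_closure (s := ({y} : Set X))) ⟨y, subset_closure rfl⟩
    have hy : y ⤳ x₀ := specializes_iff_mem_closure.2 hx₀
    obtain ⟨_, ⟨V, hV, rfl⟩, hxV, -⟩ := X.isBasis_affineOpens.exists_subset_of_mem_open (Set.mem_univ x₀) isOpen_univ
    have hyV : y ∈ V := hy.mem_open V.2 hxV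
    haveI : IsNoetherianRing Γ(X, V) := IsLocallyNoetherian.component_noetherian ⟨V, hV⟩
    letI : Algebra Γ(X, V) (X.presheaf.stalk x₀) := TopCat.Presheaf.algebra_section_stalk X.presheaf ⟨x₀, hxV⟩
    letI : Algebra Γ(X, V) (X.presheaf.stalk y) := TopCat.Presheaf.algebra_section_stalk X.presheaf ⟨y, hyV⟩
    haveI : IsLocalization.AtPrime (X.presheaf.stalk x₀) (hV.primeIdealOf ⟨x₀, hxV⟩).asIdeal :=
      hV.isLocalization_stalk ⟨x₀, hxV⟩
    haveI : IsLocalization.AtPrime (X.presheaf.stalk y) (hV.primeIdealOf ⟨y, hyV⟩).asIdeal :=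
      hV.isLocalization_stalk ⟨y, hyV⟩
    letI : Algebra (X.presheaf.stalk x₀) (X.presheaf.stalk y) := (X.presheaf.stalkSpecializes hy).hom.toAlgebra
    haveI : IsScalarTower Γ(X, V) (X.presheaf.stalk x₀) (X.presheaf.stalk y) :=
      IsScalarTower.of_algebraMap_eq fun r => (congr($(X.presheaf.germ_stalkSpecializes hxV hy) r)).symm
    haveI : Algebra.EssFiniteType Γ(X, V) (X.presheaf.stalk y) :=
      Algebra.EssFiniteType.of_isLocalization _ (hV.primeIdealOf ⟨y, hyV⟩).asIdeal.primeCompl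
    haveI : Algebra.EssFiniteType (X.presheaf.stalk x₀) (X.presheaf.stalk y) :=
      Algebra.EssFiniteType.of_comp Γ(X, V) _ _
    letI : Algebra Γ(X, U) (X.presheaf.stalk y) := TopCat.Presheaf.algebra_section_stalk X.presheaf ⟨y, hyU⟩
    haveI : IsLocalization.AtPrime (X.presheaf.stalk y) p := hU.isLocalization_stalk' ⟨p, hp⟩ hyU
    exact Groth.Agent.ExcLib.isRegularHom_completion_of_ringEquiv
      (IsLocalization.algEquiv p.primeCompl (X.presheaf.stalk y) (Localization.AtPrime p)).toRingEquiv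
      (GRingCompleteLib.isRegularHom_completion_essFiniteType (X.presheaf.stalk x₀) (h x₀ hc) (X.presheaf.stalk y))

end Groth.Agent.S7393
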