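import Groth.Statements.S7394
import Mathlib

set_option autoImplicit false
set_option linter.style.haveILetI false
universe u
open CategoryTheory AlgebraicGeometry
open Lim

namespace Groth.Agent.S7394

theorem exists_common_ext {k : Type u} [Field k] {ι : Type u} (L : ι → Type u) [∀ i, Field (L i)]
    [∀ i, Algebra k (L i)] :
    ∃ (K : Type u) (_ : Field K) (_ : Algebra k K), ∀ i, Nonempty (L i →ₐ[k] K) := by
  let P := FractionRing (MvPolynomial (Σ i, L i) k)
  let K := AlgebraicClosure P
  refine ⟨K, inferInstance, inferInstance, fun i => ?_⟩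
  obtain ⟨B, hB⟩ := exists_isTranscendenceBasis k (L i)
  let g : MvPolynomial B k →ₐ[k] K :=
    (IsScalarTower.toAlgHom k P K).comp ((IsScalarTower.toAlgHom k (MvPolynomial (Σ i, L i) k) P).comp
      (MvPolynomial.rename fun b : B => (⟨i, b.1⟩ : Σ i, L i)))
  have hg : Function.Injective g :=
    (algebraMap P K).injective.comp ((IsFractionRing.injective (MvPolynomial (Σ i, L i) k) P).comp
      (MvPolynomial.rename_injective _ fun a b h => Subtype.ext (by simpa using h)))
  let φ : FractionRing (MvPolynomial B k) →ₐ[k] K := IsFractionRing.liftAlgHom hg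
  let F := IntermediateField.adjoin k (Set.range ((↑) : B → L i))
  let ψ : F →ₐ[k] K := φ.comp hB.1.reprField
  letI aFK : Algebra F K := ψ.toRingHom.toAlgebra
  haveI : Algebra.IsAlgebraic F (L i) := hB.isAlgebraic_field
  let χ : L i →ₐ[F] K := IsAlgClosed.lift
  exact ⟨{ χ.toRingHom with
    commutes' := fun x => by
      show χ (algebraMap k (L i) x) = _
      rw [IsScalarTower.algebraMap_apply k F (L i), χ.commutes]
      exact ψ.commutes x }⟩

/-- Let `S` be a scheme and `T_i → S`, `i ∈ I`, surjective affine morphisms. Then any product of the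
`T_i` in the category of schemes over `S` maps surjectively onto `S`. -/
theorem result {S : Scheme.{u}} {I : Type u} (T : I → Over S)
    (hT : ∀ i, IsAffineHom (T i).hom ∧ Surjective (T i).hom) (c : Limits.Fan T) (hc : Limits.IsLimit c) :
    Surjective c.pt.hom := by
  refine ⟨fun s => ?_⟩
  choose t ht using fun i => (hT i).2.surj s
  letI : ∀ i, Algebra (S.residueField s) ((T i).left.residueField (t i)) := fun i =>
    ((S.residueFieldCongr (ht i)).inv ≫ (T i).hom.residueFieldMap (t i)).hom.toAlgebra
  obtain ⟨K, _, _, hK⟩ := exists_common_ext (k := S.residueField s) (fun i => (T i).left.residueField (t i))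
  let φ' := fun i => (hK i).some
  let b : Spec (CommRingCat.of K) ⟶ S :=
    Spec.map (CommRingCat.ofHom (algebraMap (S.residueField s) K)) ≫ S.fromSpecResidueField s
  have hcomm : ∀ i, (Spec.map (CommRingCat.ofHom (φ' i).toRingHom) ≫
      (T i).left.fromSpecResidueField (t i)) ≫ (T i).hom = b := fun i => by
    have h1 : (S.residueFieldCongr (ht i)).inv ≫ (T i).hom.residueFieldMap (t i) ≫
        CommRingCat.ofHom (φ' i).toRingHom = CommRingCat.ofHom (algebraMap (S.residueField s) K) := by
      ext x
      exact (φ' i).commutes x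
    rw [Category.assoc, ← Scheme.Hom.SpecMap_residueFieldMap_fromSpecResidueField, ← Category.assoc,
      ← Spec.map_comp]
    show _ = Spec.map _ ≫ _
    rw [← h1, Spec.map_comp (S.residueFieldCongr (ht i)).inv, Category.assoc]
    congr 1
    rw [← Iso.inv_hom_id_assoc (Scheme.Spec.mapIso (S.residueFieldCongr (ht i)).op) ((S.fromSpecResidueField _))]
    simp
  let c' : Limits.Fan T := Limits.Fan.mk (Over.mk b) fun i => Over.homMk _ (hcomm i)
  have hw := Over.w (hc.lift c')
  obtain ⟨pK⟩ := (inferInstance : Nonempty (Spec (CommRingCat.of K)))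
  refine ⟨(hc.lift c').left pK, ?_⟩
  rw [← Scheme.Hom.comp_apply, hw]
  show b pK = s
  rw [Scheme.Hom.comp_apply, Scheme.fromSpecResidueField_apply]

end Groth.Agent.S7394
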