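import Groth.Statements.S7397
import Mathlib

set_option autoImplicit false
universe u
open Mor

namespace Groth.Agent.S7397

/-- Let `A ⊆ B` be a ring extension and `b ∈ B`, `b ∉ A`, with `b^n, b^(n+1) ∈ A` for some `n ≥ 2`. Then
some `b' ∈ B` with `b' ∉ A` has `b'^2 ∈ A` and `b'^3 ∈ A`. -/
theorem result {B : Type u} [CommRing B] (A : Subring B) (b : B) (hb : b ∉ A)
    (n : ℕ) (hn : 2 ≤ n) (h1 : b ^ n ∈ A) (h2 : b ^ (n + 1) ∈ A) :
    ∃ b' : B, b' ∉ A ∧ b' ^ 2 ∈ A ∧ b' ^ 3 ∈ A := by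
  classical
  have hall : ∀ N : ℕ, n * n ≤ N → b ^ N ∈ A := by
    intro N hN
    obtain ⟨q, r, hr, rfl⟩ : ∃ q r, r < n ∧ N = q * n + r :=
      ⟨N / n, N % n, Nat.mod_lt _ (by omega), (Nat.div_add_mod' N n).symm⟩
    have hq : r ≤ q := by nlinarith
    obtain ⟨d, rfl⟩ := Nat.exists_eq_add_of_le hq
    rw [show (r + d) * n + r = n * d + (n + 1) * r by ring, pow_add, pow_mul, pow_mul]
    exact A.mul_mem (A.pow_mem h1 d) (A.pow_mem h2 r)
  let k := Nat.findGreatest (fun k => b ^ k ∉ A) (n * n)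
  have h1' : (1 : ℕ) ≤ n * n := by nlinarith
  have hk : b ^ k ∉ A := Nat.findGreatest_spec (P := fun k => b ^ k ∉ A) h1' (by simpa using hb)
  have hk1 : 1 ≤ k := Nat.le_findGreatest h1' (by simpa using hb)
  have hbig : ∀ j, k < j → b ^ j ∈ A := fun j hj => by
    by_contra hj'
    exact Nat.findGreatest_is_greatest hj (le_of_not_gt fun h => hj' (hall j h.le)) hj'
  exact ⟨b ^ k, hk, by rw [← pow_mul]; exact hbig _ (by omega), by rw [← pow_mul]; exact hbig _ (by omega)⟩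

end Groth.Agent.S7397
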