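import Groth.Statements.S7402
import Groth.Agent.AdjRootLib.Basic

set_option autoImplicit false
universe u
open CategoryTheory AlgebraicGeometry
open Polynomial
open Mor

namespace Groth.Agent.S7402

/-- Let `A` be a ring and `x, y ∈ A` with `x^3 = y^2`. Then `A → B = A[t]/(t^2 - x, t^3 - y)` induces a
universal homeomorphism on spectra and isomorphisms on residue fields. -/
theorem result (A : Type u) [CommRing A] (x y : A) (h : x ^ 3 = y ^ 2) :
    FlatMor.IsUnivHomeo (Spec.map (CommRingCat.ofHom (algebraMap A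
      (A[X] ⧸ Ideal.span ({X ^ 2 - C x, X ^ 3 - C y} : Set A[X]))))) ∧
    ∀ q : Spec (CommRingCat.of (A[X] ⧸ Ideal.span ({X ^ 2 - C x, X ^ 3 - C y} : Set A[X]))),
      Function.Surjective ((Spec.map (CommRingCat.ofHom (algebraMap A
        (A[X] ⧸ Ideal.span ({X ^ 2 - C x, X ^ 3 - C y} : Set A[X]))))).residueFieldMap q) := by
  let I := Ideal.span ({X ^ 2 - C x, X ^ 3 - C y} : Set A[X])
  haveI : AlgebraicGeometry.Surjective (Spec.map (CommRingCat.ofHom (algebraMap A (A[X] ⧸ I)))) := by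
    refine Groth.Agent.AdjRootLib.surjective I fun K _ _ φ => ?_
    have hxy : φ x ^ 3 = φ y ^ 2 := by rw [← map_pow, h, map_pow]
    refine ⟨φ y / φ x, Groth.Agent.AdjRootLib.eval₂_eq_zero_of_span φ _ _ ?_⟩
    rintro Q (rfl | rfl) <;> simp only [eval₂_sub, eval₂_pow, eval₂_X, eval₂_C, sub_eq_zero] <;>
      rcases eq_or_ne (φ x) 0 with hx | hx
    · simp [hx]
    · field_simp; linear_combination -hxy
    · have hy : φ y = 0 := (pow_eq_zero_iff two_ne_zero).1 (by rw [← hxy, hx, zero_pow three_ne_zero])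
      simp [hx, hy]
    · field_simp; linear_combination -(φ y) * hxy
  have hT : Groth.Agent.UnivHomeo.Step False (Set.range (algebraMap A (A[X] ⧸ I))) (Ideal.Quotient.mk I X) :=
    Or.inl ⟨⟨x, by rw [← map_pow]; exact (Groth.Agent.AdjRootLib.mk_eq I (Ideal.subset_span (Or.inl rfl))).symm⟩,
      ⟨y, by rw [← map_pow]; exact (Groth.Agent.AdjRootLib.mk_eq I (Ideal.subset_span (Or.inr rfl))).symm⟩⟩
  exact ⟨Groth.Agent.UnivHomeo.isUnivHomeo_of_chains' (Groth.Agent.AdjRootLib.chains I hT),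
    Groth.Agent.UnivHomeo.residueFieldMap_surjective_of_chains (Groth.Agent.AdjRootLib.chains I hT)⟩

end Groth.Agent.S7402
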