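import Groth.Statements.S7404
import Groth.Agent.AWNLib.Colim

set_option autoImplicit false
universe u
open CategoryTheory AlgebraicGeometry
open Mor

namespace Groth.Agent.S7404

/-- Let `A → B` be a ring map and `B' ⊆ B` an `A`-subalgebra, with `f : Spec B → Spec A` and `f' : Spec
B' → Spec A` the induced morphisms. Each of the following properties passes from `f` to `f'`: being
a universal homeomorphism; being a universal homeomorphism with trivial residue field extensions;
being universally closed; being both universally closed and universally injective. -/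
theorem result {A B : Type u} [CommRing A] [CommRing B] [Algebra A B]
    (B' : Subalgebra A B) :
    (FlatMor.IsUnivHomeo (Spec.map (CommRingCat.ofHom (algebraMap A B))) →
      FlatMor.IsUnivHomeo (Spec.map (CommRingCat.ofHom (algebraMap A B')))) ∧
    ((FlatMor.IsUnivHomeo (Spec.map (CommRingCat.ofHom (algebraMap A B))) ∧
      ∀ x : Spec (CommRingCat.of B),
        Function.Surjective ((Spec.map (CommRingCat.ofHom (algebraMap A B))).residueFieldMap x)) →
      FlatMor.IsUnivHomeo (Spec.map (CommRingCat.ofHom (algebraMap A B'))) ∧
      ∀ x : Spec (CommRingCat.of B'),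
        Function.Surjective ((Spec.map (CommRingCat.ofHom (algebraMap A B'))).residueFieldMap x)) ∧
    (UniversallyClosed (Spec.map (CommRingCat.ofHom (algebraMap A B))) →
      UniversallyClosed (Spec.map (CommRingCat.ofHom (algebraMap A B')))) ∧
    (UniversallyClosed (Spec.map (CommRingCat.ofHom (algebraMap A B))) →
      UniversallyInjective (Spec.map (CommRingCat.ofHom (algebraMap A B))) →
      UniversallyClosed (Spec.map (CommRingCat.ofHom (algebraMap A B'))) ∧
      UniversallyInjective (Spec.map (CommRingCat.ofHom (algebraMap A B')))) := by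
  let f' := Spec.map (CommRingCat.ofHom (algebraMap A B'))
  let π := Spec.map (CommRingCat.ofHom B'.val.toRingHom)
  have hcomp : π ≫ f' = Spec.map (CommRingCat.ofHom (algebraMap A B)) := by
    rw [← Spec.map_comp]; rfl
  have hint : UniversallyClosed (Spec.map (CommRingCat.ofHom (algebraMap A B))) → IsIntegralHom f' ∧ Surjective π := by
    intro h
    have h1 : (algebraMap A B).IsIntegral :=
      IsIntegralHom.SpecMap_iff.mp (IsIntegralHom.iff_universallyClosed_and_isAffineHom.2 ⟨h, inferInstance⟩)
    haveI : Algebra.IsIntegral A B := ⟨h1⟩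
    haveI : Algebra.IsIntegral A B' :=
      ⟨fun b => (isIntegral_algHom_iff B'.val Subtype.val_injective).1 (h1 b.1)⟩
    refine ⟨IsIntegralHom.SpecMap_iff.mpr fun b => Algebra.IsIntegral.isIntegral b, ⟨?_⟩⟩
    exact RingHom.IsIntegral.comap_surjective (RingHom.IsIntegral.tower_top (algebraMap A B') B'.val.toRingHom
      h1) Subtype.val_injective
  have hui : UniversallyClosed (Spec.map (CommRingCat.ofHom (algebraMap A B))) →
      UniversallyInjective (Spec.map (CommRingCat.ofHom (algebraMap A B))) → UniversallyInjective f' := by
    intro hc hi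
    haveI := (hint hc).2
    haveI : UniversallyInjective (π ≫ f') := hcomp.symm ▸ hi
    rw [UniversallyInjective.iff_diagonal]
    refine ⟨fun z => ?_⟩
    let μ := Limits.pullback.map (π ≫ f') (π ≫ f') f' f' π π (𝟙 _) (by simp) (by simp)
    have e : π ≫ Limits.pullback.diagonal f' = Limits.pullback.diagonal (π ≫ f') ≫ μ := by
      apply Limits.pullback.hom_ext
      · rw [Category.assoc, Limits.pullback.diagonal_fst, Category.comp_id, Category.assoc]
        erw [Limits.pullback.lift_fst, Limits.pullback.diagonal_fst_assoc]
      · rw [Category.assoc, Limits.pullback.diagonal_snd, Category.comp_id, Category.assoc]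
        erw [Limits.pullback.lift_snd, Limits.pullback.diagonal_snd_assoc]
    have hμ : z ∈ Set.range μ := by
      rw [Scheme.Pullback.range_map, π.surjective.range_eq]; exact ⟨trivial, trivial⟩
    obtain ⟨w, rfl⟩ := hμ
    obtain ⟨b, rfl⟩ := ((UniversallyInjective.iff_diagonal (π ≫ f')).1 inferInstance).1 w
    exact ⟨π b, by rw [← Scheme.Hom.comp_apply, ← Scheme.Hom.comp_apply, e]⟩
  have hh : FlatMor.IsUnivHomeo (Spec.map (CommRingCat.ofHom (algebraMap A B))) → FlatMor.IsUnivHomeo f' := fun h => by
    haveI := (hint (Groth.Agent.UnivHomeo.universallyClosed h)).2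
    exact Groth.Agent.AWNLib.isUnivHomeo_of_comp_surjective π f' (hcomp.symm ▸ h)
  refine ⟨hh, ?_, fun h => ?_, fun hc hi => ?_⟩
  · rintro ⟨h, hr⟩
    refine ⟨hh h, fun z y => ?_⟩
    haveI := (hint (Groth.Agent.UnivHomeo.universallyClosed h)).2
    obtain ⟨b, rfl⟩ := π.surjective z
    have hr' : Function.Surjective ((π ≫ f').residueFieldMap b) := by rw [hcomp]; exact hr b
    rw [Scheme.residueFieldMap_comp] at hr'
    obtain ⟨a, ha⟩ := hr' (π.residueFieldMap b y)
    exact ⟨a, RingHom.injective (π.residueFieldMap b).hom ha⟩
  · haveI := (hint h).1; infer_instance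
  · haveI := (hint hc).1; exact ⟨inferInstance, hui hc hi⟩

end Groth.Agent.S7404
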