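import Groth.Statements.S7405
import Groth.Agent.UnivHomeo.Basic

set_option autoImplicit false
set_option backward.isDefEq.respectTransparency false
universe u
open CategoryTheory AlgebraicGeometry
open Mor

namespace Groth.Agent.S7405

/-- Let `A` be a ring and `B` the colimit of a filtered diagram `j ↦ B_j` of `A`-algebras. Each of the
following properties, when it holds for every `Spec B_j → Spec A`, holds for `Spec B → Spec A`:
being a universal homeomorphism; being a universal homeomorphism with trivial residue field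
extensions; being universally closed; being both universally closed and universally injective. -/
theorem result (A : CommRingCat.{u}) {J : Type u} [SmallCategory J]
    [IsFiltered J] (F : J ⥤ Under A) (c : Limits.Cocone F) (hc : Limits.IsColimit c) :
    ((∀ j, FlatMor.IsUnivHomeo (Spec.map (F.obj j).hom)) → FlatMor.IsUnivHomeo (Spec.map c.pt.hom)) ∧
    ((∀ j, FlatMor.IsUnivHomeo (Spec.map (F.obj j).hom) ∧
        ∀ x : Spec (F.obj j).right, Function.Surjective ((Spec.map (F.obj j).hom).residueFieldMap x)) →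
      FlatMor.IsUnivHomeo (Spec.map c.pt.hom) ∧
        ∀ x : Spec c.pt.right, Function.Surjective ((Spec.map c.pt.hom).residueFieldMap x)) ∧
    ((∀ j, UniversallyClosed (Spec.map (F.obj j).hom)) → UniversallyClosed (Spec.map c.pt.hom)) ∧
    ((∀ j, UniversallyClosed (Spec.map (F.obj j).hom) ∧ UniversallyInjective (Spec.map (F.obj j).hom)) →
      UniversallyClosed (Spec.map c.pt.hom) ∧ UniversallyInjective (Spec.map c.pt.hom)) := by
  let φ : A ⟶ c.pt.right := c.pt.hom
  let ψ : ∀ j, A ⟶ (F.obj j).right := fun j => (F.obj j).hom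
  let ι : ∀ j, (F.obj j).right ⟶ c.pt.right := fun j => (c.ι.app j).right
  have hw : ∀ j a, ι j (ψ j a) = φ a := fun j a => ConcreteCategory.congr_hom (Under.w (c.ι.app j)) a
  have hc' := Limits.isColimitOfPreserves (Under.forget A ⋙ forget CommRingCat) hc
  have hsurj : ∀ b : c.pt.right, ∃ j b', ι j b' = b := fun b =>
    Limits.Types.jointly_surjective _ hc' b
  have hint : (∀ j, (ψ j).hom.IsIntegral) → φ.hom.IsIntegral := fun h b => by
    obtain ⟨j, b', rfl⟩ := hsurj b
    letI := φ.hom.toAlgebra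
    letI := (ψ j).hom.toAlgebra
    have hint' : _root_.IsIntegral A b' := h j b'
    exact hint'.map ({ (ι j).hom with commutes' := hw j } : (F.obj j).right →ₐ[A] c.pt.right)
  have hUC : ∀ {R S : CommRingCat.{u}} (g : R ⟶ S), UniversallyClosed (Spec.map g) ↔ g.hom.IsIntegral := fun g =>
    ⟨fun _ => IsIntegralHom.SpecMap_iff.1 (IsIntegralHom.iff_universallyClosed_and_isAffineHom.mpr ⟨‹_›, inferInstance⟩),
      fun hg => (IsIntegralHom.iff_universallyClosed_and_isAffineHom.mp (IsIntegralHom.SpecMap_iff.2 hg)).1⟩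
  have hcl : (∀ j, UniversallyClosed (Spec.map (ψ j))) → UniversallyClosed (Spec.map φ) := fun h =>
    (hUC φ).2 (hint fun j => (hUC _).1 (h j))
  have hinj : (∀ j, UniversallyInjective (Spec.map (ψ j))) → UniversallyInjective (Spec.map φ) := fun h => by
    refine ((tfae_universallyInjective _).out 1 0 :
      (∀ (K : Type u) [Field K], Function.Injective fun g : Spec (.of K) ⟶ _ => g ≫ Spec.map φ) ↔
        UniversallyInjective (Spec.map φ)).mp fun K _ g g' hg => ?_
    obtain ⟨g, rfl⟩ := Spec.map_surjective g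
    obtain ⟨g', rfl⟩ := Spec.map_surjective g'
    have hg' : φ ≫ g = φ ≫ g' := Spec.map_injective (by simpa only [Spec.map_comp] using hg)
    refine congrArg Spec.map (CommRingCat.hom_ext (RingHom.ext fun b => ?_))
    obtain ⟨j, b', rfl⟩ := hsurj b
    have hj := ((tfae_universallyInjective (Spec.map (ψ j))).out 0 1 :
        UniversallyInjective (Spec.map (ψ j)) ↔
          ∀ (K : Type u) [Field K], Function.Injective fun g : Spec (.of K) ⟶ _ => g ≫ Spec.map (ψ j)).mp (h j) K
    have := Spec.map_injective (@hj (Spec.map (ι j ≫ g)) (Spec.map (ι j ≫ g')) (by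
      show Spec.map _ ≫ Spec.map _ = Spec.map _ ≫ Spec.map _
      rw [← Spec.map_comp, ← Spec.map_comp]
      refine congrArg Spec.map (CommRingCat.hom_ext (RingHom.ext fun a => ?_))
      show g (ι j (ψ j a)) = g' (ι j (ψ j a))
      rw [hw]
      exact ConcreteCategory.congr_hom hg' a))
    exact ConcreteCategory.congr_hom this b'
  have hsur : (∀ j, (ψ j).hom.IsIntegral) → (∀ j, Surjective (Spec.map (ψ j))) → Surjective (Spec.map φ) := by
    intro hi h
    refine ⟨fun p => ?_⟩
    letI := φ.hom.toAlgebra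
    haveI : Algebra.IsIntegral A c.pt.right := ⟨hint hi⟩
    have hker : (⊥ : Ideal c.pt.right).comap (algebraMap A c.pt.right) ≤ p.asIdeal := by
      intro a ha
      have h0 : φ a = 0 := ha
      obtain ⟨j₀⟩ : Nonempty J := IsFiltered.nonempty
      rw [← hw j₀, ← map_zero (ι j₀).hom] at h0
      obtain ⟨k, f, g, hfg⟩ := (Limits.Types.FilteredColimit.isColimit_eq_iff _ hc').1 h0
      change (F.map f).right (ψ j₀ a) = (F.map g).right 0 at hfg
      erw [map_zero (F.map g).right.hom, ConcreteCategory.congr_hom (Under.w (F.map f)) a] at hfg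
      obtain ⟨q, hq⟩ := (h k).surj p
      rw [← hq]
      show (F.obj k).hom a ∈ q.asIdeal
      rw [hfg]
      exact zero_mem _
    obtain ⟨Q, -, hQ, hQp⟩ := Ideal.exists_ideal_over_prime_of_isIntegral p.asIdeal ⊥ hker
    exact ⟨⟨Q, hQ⟩, PrimeSpectrum.ext hQp⟩
  have hUH : (∀ j, FlatMor.IsUnivHomeo (Spec.map (ψ j))) → FlatMor.IsUnivHomeo (Spec.map φ) := fun h => by
    refine Groth.Agent.UnivHomeo.iff_integral.2 ⟨?_, hinj fun j => Groth.Agent.UnivHomeo.universallyInjective (h j),
      hsur (fun j => IsIntegralHom.SpecMap_iff.1 (Groth.Agent.UnivHomeo.isIntegralHom (h j)))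
        fun j => Groth.Agent.UnivHomeo.surjective (h j)⟩
    exact IsIntegralHom.SpecMap_iff.2 (hint fun j => IsIntegralHom.SpecMap_iff.1 (Groth.Agent.UnivHomeo.isIntegralHom (h j)))
  refine ⟨hUH, fun h => ⟨hUH fun j => (h j).1, fun x => ?_⟩, hcl,
    fun h => ⟨hcl fun j => (h j).1, hinj fun j => (h j).2⟩⟩
  have hb : ∀ b, ∃ z, (Spec.map φ).residueFieldMap x z = Groth.Agent.UnivHomeo.ev x b := fun b => by
    obtain ⟨j, b', rfl⟩ := hsurj b
    obtain ⟨a, s, hs, hm⟩ := Groth.Agent.UnivHomeo.exists_sub_mem_of_surjective (ψ j).hom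
      (fun y => (h j).2 y) (x.asIdeal.comap (ι j).hom) b'
    refine ⟨Groth.Agent.UnivHomeo.ev _ a / Groth.Agent.UnivHomeo.ev _ s, ?_⟩
    rw [map_div₀]
    erw [Groth.Agent.UnivHomeo.residueFieldMap_ev φ.hom x, Groth.Agent.UnivHomeo.residueFieldMap_ev φ.hom x]
    have hs' : φ s ∉ x.asIdeal := by rw [← hw j]; exact hs
    have hs0 : Groth.Agent.UnivHomeo.ev x (φ.hom s) ≠ 0 := fun h => hs' ((Groth.Agent.UnivHomeo.ev_eq_zero x _).mp h)
    rw [div_eq_iff hs0, ← map_mul]
    symm
    rw [← sub_eq_zero, ← map_sub, Groth.Agent.UnivHomeo.ev_eq_zero]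
    have hm' : ι j ((ψ j).hom s * b' - (ψ j).hom a) ∈ x.asIdeal := hm
    rw [map_sub, map_mul] at hm'
    erw [hw, hw] at hm'
    rwa [mul_comm] at hm'
  intro z
  obtain ⟨b, t, ht, rfl⟩ := Groth.Agent.UnivHomeo.exists_div_ev x z
  obtain ⟨z₁, hz₁⟩ := hb b
  obtain ⟨z₂, hz₂⟩ := hb t
  exact ⟨z₁ / z₂, by rw [map_div₀, hz₁, hz₂]⟩

end Groth.Agent.S7405
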