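import Groth.Statements.S7406
import Mathlib
import Groth.Agent.S7407

set_option backward.isDefEq.respectTransparency false
set_option autoImplicit false
universe u
open CategoryTheory AlgebraicGeometry
open Desc

namespace Groth.Agent.S7406

/-- Consider a commutative square of schemes with horizontal maps `h' : U' → V'`, `h : U → V` and étale
vertical maps `a : U' → U`, `b : V' → V`, and let `v' ∈ V'` with image `v = b(v')`. Then the induced
morphism of fibres `U'_{v'} → U_v` is étale. (The morphism of fibres is characterised by its
compatibility with `a` and with `Spec κ(v') → Spec κ(v)`.) -/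
theorem result {U U' V V' : Scheme.{u}} (h : U ⟶ V) (h' : U' ⟶ V') (a : U' ⟶ U)
    (b : V' ⟶ V) [Etale a] [Etale b] (comm : h' ≫ b = a ≫ h) (v' : V')
    (φ : h'.fiber v' ⟶ h.fiber (b v')) (hφ1 : φ ≫ h.fiberι (b v') = h'.fiberι v' ≫ a)
    (hφ2 : φ ≫ h.fiberToSpecResidueField (b v') = h'.fiberToSpecResidueField v' ≫ Spec.map (b.residueFieldMap v')) :
    Etale φ := by
  let c : Spec (V'.residueField v') ⟶ Spec (V.residueField (b v')) := Spec.map (b.residueFieldMap v')
  haveI hc : Etale c := by
    show Etale (Spec.map (b.residueFieldMap v'))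
    rw [HasRingHomProperty.Spec_iff (P := @Etale)]
    have hfin := Groth.Agent.S7407.finite_residueFieldMap_of_etale b v'
    algebraize [(b.residueFieldMap v').hom]
    haveI : Algebra.IsSeparable (V.residueField (b v')) (V'.residueField v') := inferInstance
    haveI : Algebra.FormallyEtale (V.residueField (b v')) (V'.residueField v') :=
      Algebra.FormallyEtale.of_isSeparable _ _
    haveI : Algebra.FinitePresentation (V.residueField (b v')) (V'.residueField v') :=
      Algebra.FinitePresentation.of_finiteType.1 inferInstance
    exact RingHom.etale_algebraMap.2 ⟨inferInstance, inferInstance⟩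
  let P := Limits.pullback h b
  let a'' : U' ⟶ P := Limits.pullback.lift a h' comm.symm
  haveI : Etale (Limits.pullback.fst h b) := MorphismProperty.pullback_fst (P := @Etale) h b inferInstance
  haveI : Etale a'' := by
    refine MorphismProperty.of_postcomp (W := @Etale) (W' := @Etale) a'' (Limits.pullback.fst h b) inferInstance ?_
    rw [Limits.pullback.lift_fst]
    infer_instance
  let fr := V'.fromSpecResidueField v'
  let Q := Limits.pullback (Limits.pullback.snd h b) fr
  let ψ : h'.fiber v' ⟶ Q := Limits.pullback.lift (h'.fiberι v' ≫ a'') (h'.fiberToSpecResidueField v') (by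
    rw [Category.assoc, Limits.pullback.lift_snd]
    exact Limits.pullback.condition)
  have hψ : IsPullback (h'.fiberι v') ψ a'' (Limits.pullback.fst (Limits.pullback.snd h b) fr) := by
    refine IsPullback.of_bot (h₃₁ := fr) (v₂₁ := Limits.pullback.snd (Limits.pullback.snd h b) fr)
      (v₂₂ := Limits.pullback.snd h b) ?_ (Limits.pullback.lift_fst _ _ _).symm (IsPullback.of_hasPullback _ _)
    rw [Limits.pullback.lift_snd, Limits.pullback.lift_snd]
    exact IsPullback.of_hasPullback h' fr
  haveI : Etale ψ := MorphismProperty.of_isPullback (P := @Etale) hψ inferInstance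
  have hcb : c ≫ V.fromSpecResidueField (b v') = fr ≫ b :=
    Scheme.Hom.SpecMap_residueFieldMap_fromSpecResidueField b v'
  let ρ : Q ⟶ h.fiber (b v') := Limits.pullback.lift
    (Limits.pullback.fst (Limits.pullback.snd h b) fr ≫ Limits.pullback.fst h b)
    (Limits.pullback.snd (Limits.pullback.snd h b) fr ≫ c) (by
      rw [Category.assoc, Category.assoc, hcb, Limits.pullback.condition, Limits.pullback.condition_assoc])
  have hρ : IsPullback ρ (Limits.pullback.snd (Limits.pullback.snd h b) fr)
      (h.fiberToSpecResidueField (b v')) c := by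
    refine IsPullback.of_right (h₁₂ := h.fiberι (b v')) (v₁₃ := h) (h₂₂ := V.fromSpecResidueField (b v')) ?_
      (Limits.pullback.lift_snd _ _ _) (IsPullback.of_hasPullback h (V.fromSpecResidueField (b v')))
    rw [show ρ ≫ h.fiberι (b v') = _ from Limits.pullback.lift_fst _ _ _, hcb]
    exact (IsPullback.of_hasPullback (Limits.pullback.snd h b) fr).paste_horiz (IsPullback.of_hasPullback h b)
  haveI : Etale ρ := MorphismProperty.of_isPullback (P := @Etale) hρ.flip hc
  have hφ : φ = ψ ≫ ρ := by
    refine Limits.pullback.hom_ext ?_ ?_
    · simp only [ψ, ρ, Category.assoc, Limits.pullback.lift_fst, Limits.pullback.lift_fst_assoc]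
      rw [show φ ≫ Limits.pullback.fst _ _ = h'.fiberι v' ≫ a from hφ1, Limits.pullback.lift_fst]
    · simp only [ψ, ρ, Category.assoc, Limits.pullback.lift_snd, Limits.pullback.lift_snd_assoc]
      exact hφ2
  rw [hφ]
  infer_instance

end Groth.Agent.S7406
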