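import Groth.Statements.S7411
import Groth.Agent.FibreVanishQC.Main

set_option autoImplicit false
universe u
open Lim

namespace Groth.Agent.S7411

open AlgebraicGeometry CategoryTheory in
/-- Let `f : X → Y` be proper and `y ∈ Y` a point whose fibre `X_y` has dimension at most `d`. Then for
every quasi-coherent `O_X`-module `F` and every `i > d` the stalk `(R^i f_* F)_y` vanishes. (The
published statement assumes that the fibre has dimension exactly `d`; this row assumes dimension at
most `d`.) -/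
theorem result {X Y : Scheme.{u}} (f : X ⟶ Y) [IsProper f]
    (y : Y) (d : ℕ) (hd : topologicalKrullDim ↥(f.fiber y) ≤ d) (M : X.Modules) [Coh.IsQCoh M] (i : ℕ)
    (hi : d < i) :
    Limits.IsZero (TopCat.Presheaf.stalk ((Coh.RpushAb f i).obj (Coh.toAb M)).obj y) := by
  haveI : HasInjectiveResolutions X.Modules := inferInstance
  obtain ⟨p, rfl⟩ : ∃ p, i = p + 1 := ⟨i - 1, by omega⟩
  let E : Y.Opens := ⟨{z | topologicalKrullDim ↥(f.fiber z) ≤ d}, Groth.Agent.S0403.result f d⟩
  refine Limits.IsZero.of_iso ?_ ((TopCat.Presheaf.stalkFunctor AddCommGrpCat.{u} y).mapIso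
    ((sheafToPresheaf _ _).mapIso ((Groth.Agent.RpushLib.toAbRpushIso f (p + 1)).app M))).symm
  haveI : Subsingleton (((Coh.Rpush f (p + 1)).obj M).presheaf.stalk y : Type u) := by
    refine subsingleton_of_forall_eq 0 fun a => ?_
    obtain ⟨U, hyU, s, rfl⟩ := TopCat.Presheaf.exists_germ_eq ((Coh.Rpush f (p + 1)).obj M).presheaf a
    obtain ⟨_, ⟨W, hW, rfl⟩, hyW, hle⟩ :=
      Y.isBasis_affineOpens.exists_subset_of_mem_open (⟨hyU, hd⟩ : y ∈ U ⊓ E) (U ⊓ E).2
    haveI := Groth.Agent.FibreVanishQC.subsingleton_rpush_sections f d hW (fun z hz => (hle hz).2) M p (by omega)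
    rw [← TopCat.Presheaf.germ_res_apply _ (homOfLE (fun z hz => (hle hz).1 : W ≤ U)) y hyW,
      Subsingleton.elim (((Coh.Rpush f (p + 1)).obj M).presheaf.map _ s) 0, map_zero]
  exact AddCommGrpCat.isZero_of_subsingleton (((Coh.Rpush f (p + 1)).obj M).presheaf.stalk y)

end Groth.Agent.S7411
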