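import Groth.Statements.S7412
import Mathlib

set_option autoImplicit false
universe u
open Desc

namespace Groth.Agent.S7412

/-- Let `R` be a ring and `f : M → N` a map of `R`-modules. Then `f` is universally injective (`f ⊗ 1_P`
is injective for every `R`-module `P`; here `P` ranges over modules in the same universe, which
suffices) if and only if the map of character modules `C(N) → C(M)`, `C(-) = Hom_ℤ(-, ℚ/ℤ)`, is a
split surjection of `R`-modules. -/
theorem result {R : Type u} [CommRing R] {M N : Type u}
    [AddCommGroup M] [Module R M] [AddCommGroup N] [Module R N] (f : M →ₗ[R] N) :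
    (∀ (P : Type u) [AddCommGroup P] [Module R P], Function.Injective (f.lTensor P)) ↔
      ∃ g : CharacterModule M →ₗ[R] CharacterModule N, (CharacterModule.dual f).comp g = LinearMap.id := by
  classical
  let tp : ∀ {A B : Type u} [AddCommGroup A] [Module R A] [AddCommGroup B] [Module R B],
      (A →ₗ[R] CharacterModule B) → (B →ₗ[R] CharacterModule A) := fun {A B} _ _ _ _ φ =>
    { toFun := fun b => AddMonoidHom.mk' (fun a => φ a b) (fun a a' => by rw [map_add]; rfl)
      map_add' := fun b b' => by ext a; exact map_add (φ a) b b'
      map_smul' := fun r b => by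
        ext a
        show φ a (r • b) = φ (r • a) b
        rw [map_smul φ r a]
        exact (CharacterModule.smul_apply (φ a) r b).symm }
  constructor
  · intro h
    have h1 : Function.Injective (f.rTensor (CharacterModule M)) := by
      have h2 := h (CharacterModule M)
      have : f.rTensor (CharacterModule M) = (TensorProduct.comm R _ _).toLinearMap ∘ₗ
          f.lTensor (CharacterModule M) ∘ₗ (TensorProduct.comm R _ _).toLinearMap := by
        ext; simp
      rw [this]
      exact (TensorProduct.comm R _ _).injective.comp (h2.comp (TensorProduct.comm R _ _).injective)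
    obtain ⟨hN, hN'⟩ := rTensor_injective_iff_lcomp_surjective.mp h1 (tp LinearMap.id)
    refine ⟨tp hN, LinearMap.ext fun χ => ?_⟩
    ext m
    exact congr($hN' m χ)
  · rintro ⟨g, hg⟩ P _ _
    have h1 : Function.Injective (f.rTensor P) := by
      rw [rTensor_injective_iff_lcomp_surjective]
      intro φ
      refine ⟨tp (g ∘ₗ tp φ), LinearMap.ext fun m => ?_⟩
      ext p
      show g (tp φ p) (f m) = φ m p
      exact congr($hg (tp φ p) m)
    have : f.lTensor P = (TensorProduct.comm R _ _).toLinearMap ∘ₗ
        f.rTensor P ∘ₗ (TensorProduct.comm R _ _).toLinearMap := by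
      ext; simp
    rw [this]
    exact (TensorProduct.comm R _ _).injective.comp (h1.comp (TensorProduct.comm R _ _).injective)

end Groth.Agent.S7412
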