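import Groth.Statements.S7413
import Groth.Agent.PullbackMod.Proj
import Groth.Agent.MLProjLib.Descent

set_option autoImplicit false
set_option linter.style.haveILetI false
universe u
open CategoryTheory AlgebraicGeometry
open Opposite
open Mor

namespace Groth.Agent.S7413

/-- Let `f : X → Y` be a morphism of schemes and `G` a quasi-coherent, locally projective `O_Y`-module
(projective sections over every affine open). Then `f^* G` is locally projective on `X`. -/
theorem result {X Y : Scheme.{u}} (f : X ⟶ Y) (G : Y.Modules) [Coh.IsQCoh G]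
    (hG : ∀ V : Y.Opens, IsAffineOpen V → Module.Projective (Y.ringCatSheaf.obj.obj (op V)) (G.val.obj (op V)))
    (U : X.Opens) (hU : IsAffineOpen U) :
    Module.Projective (X.ringCatSheaf.obj.obj (op U)) (((Scheme.Modules.pullback f).obj G).val.obj (op U)) := by
  classical
  let P := (Scheme.Modules.pullback f).obj G
  haveI : Coh.IsQCoh P := PullbackMod.isQCoh_pullback f G
  have : ∀ x : U, ∃ (a : Γ(X, U)) (V : Y.Opens), IsAffineOpen V ∧ X.basicOpen a ≤ f ⁻¹ᵁ V ∧
      x.1 ∈ X.basicOpen a := by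
    intro x
    obtain ⟨_, ⟨V : Y.Opens, (hV : IsAffineOpen V), rfl⟩, hxV, -⟩ :=
      Y.isBasis_affineOpens.exists_subset_of_mem_open (Set.mem_univ (f x.1)) isOpen_univ
    obtain ⟨a, ha, hxa⟩ := hU.exists_basicOpen_le (V := f ⁻¹ᵁ V) ⟨x.1, hxV⟩ x.2
    exact ⟨a, V, hV, ha, hxa⟩
  choose a V hV ha hx using this
  obtain ⟨s, hs⟩ := hU.isCompact.elim_finite_subcover (fun x => (X.basicOpen (a x) : Set X))
    (fun x => (X.basicOpen (a x)).isOpen) fun x hx' => Set.mem_iUnion.mpr ⟨⟨x, hx'⟩, hx _⟩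
  have hspan : Ideal.span (Set.range fun x : s => a x.1) = ⊤ := by
    rw [← hU.self_le_iSup_basicOpen_iff]
    intro x hx'
    obtain ⟨y, hy, hxy⟩ := Set.mem_iUnion₂.mp (hs hx')
    exact TopologicalSpace.Opens.mem_iSup.mpr ⟨⟨a y, ⟨y, hy⟩, rfl⟩, hxy⟩
  let R := Γ(X, U)
  let S := fun x : s => Γ(X, X.basicOpen (a x.1))
  letI : ∀ x, Algebra R (S x) := fun x =>
    (X.presheaf.map (homOfLE (X.basicOpen_le (a x.1))).op).hom.toAlgebra
  haveI : ∀ x, IsLocalization.Away (a x.1) (S x) := fun x => hU.isLocalization_basicOpen _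
  haveI : Module.FaithfullyFlat R (∀ x, S x) := PullbackMod.faithfullyFlat_pi (fun x => ↥(S x)) (fun x => a x.1) hspan
  have hp : ∀ x : s, Module.Projective (S x) (TensorProduct R (S x) Γ(P, U)) := by
    intro x
    haveI : Module.Projective Γ(Y, V x.1) Γ(G, V x.1) := hG _ (hV x.1)
    exact PullbackMod.projective_basicOpen_pullback f G hU (a x.1) (hV x.1) (ha x.1)
  haveI : Module.Projective (∀ x, S x) (TensorProduct R (∀ x, S x) Γ(P, U)) :=
    PullbackMod.projective_pi_tensor (fun x => ↥(S x)) Γ(P, U) hp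
  exact MLProjLib.projective_of_baseChange (R := R) (∀ x, S x) (M := Γ(P, U))

end Groth.Agent.S7413
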