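import Groth.Statements.S7414
import Groth.Agent.ExcLib.Transfer

set_option autoImplicit false
universe u
open CategoryTheory AlgebraicGeometry
open Mor

namespace Groth.Agent.S7414

/-- A scheme `X` is a G-scheme (every point has an affine open neighbourhood with G-ring coordinate
ring) if and only if `O_X(U)` is a G-ring for every affine open `U ⊆ X`. -/
theorem result (X : Scheme.{u}) :
    (∀ x : X, ∃ U : X.Opens, x ∈ U ∧ IsAffineOpen U ∧ CAlg.IsGRing Γ(X, U)) ↔
      ∀ U : X.Opens, IsAffineOpen U → CAlg.IsGRing Γ(X, U) := by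
  constructor
  · intro h U hU
    haveI : IsLocallyNoetherian X := by
      choose V hxV hV hG using h
      exact (isLocallyNoetherian_iff_of_iSup_eq_top (S := fun x => ⟨V x, hV x⟩)
        (eq_top_iff.2 fun x _ => TopologicalSpace.Opens.mem_iSup.2 ⟨x, hxV x⟩)).2 fun x => (hG x).1
    refine ⟨IsLocallyNoetherian.component_noetherian ⟨U, hU⟩, fun p hp => ?_⟩
    let x : X := hU.fromSpec ⟨p, hp⟩
    have hxU : x ∈ U := hU.range_fromSpec.le ⟨⟨p, hp⟩, rfl⟩
    obtain ⟨V, hxV, hV, hG⟩ := h x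
    letI : Algebra Γ(X, U) (X.presheaf.stalk x) := TopCat.Presheaf.algebra_section_stalk X.presheaf ⟨x, hxU⟩
    letI : Algebra Γ(X, V) (X.presheaf.stalk x) := TopCat.Presheaf.algebra_section_stalk X.presheaf ⟨x, hxV⟩
    haveI : IsLocalization.AtPrime (X.presheaf.stalk x) p := hU.isLocalization_stalk' ⟨p, hp⟩ hxU
    haveI : IsLocalization.AtPrime (X.presheaf.stalk x) (hV.primeIdealOf ⟨x, hxV⟩).asIdeal :=
      hV.isLocalization_stalk ⟨x, hxV⟩
    exact Groth.Agent.ExcLib.isRegularHom_completion_of_ringEquiv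
      ((IsLocalization.algEquiv (hV.primeIdealOf ⟨x, hxV⟩).asIdeal.primeCompl (Localization.AtPrime (hV.primeIdealOf ⟨x, hxV⟩).asIdeal)
        (X.presheaf.stalk x)).toRingEquiv.trans
        (IsLocalization.algEquiv p.primeCompl (Localization.AtPrime p) (X.presheaf.stalk x)).toRingEquiv.symm)
      (hG.2 (hV.primeIdealOf ⟨x, hxV⟩).asIdeal)
  · intro h x
    obtain ⟨_, ⟨U, hU, rfl⟩, hxU, -⟩ := X.isBasis_affineOpens.exists_subset_of_mem_open (Set.mem_univ x) isOpen_univ
    exact ⟨U, hxU, hU, h U hU⟩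

end Groth.Agent.S7414
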