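import Groth.Statements.S7416
import Mathlib

set_option autoImplicit false
universe u
open CategoryTheory AlgebraicGeometry
open Mor

namespace Groth.Agent.S7416

/-- Let `U`, `V` be affine schemes and `W → U`, `W → V` open immersions. Then every `w ∈ W` has an open
neighbourhood `W' ⊆ W` whose images in `U` and in `V` are standard opens `D(f) ⊆ U`, `D(g) ⊆ V` (in
particular `W'` is affine). -/
theorem result {U V W : Scheme.{u}} [IsAffine U]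
    [IsAffine V] (i : W ⟶ U) (j : W ⟶ V) [IsOpenImmersion i] [IsOpenImmersion j] (w : W) :
    ∃ (W' : W.Opens) (f : Γ(U, ⊤)) (g : Γ(V, ⊤)), w ∈ W' ∧ i ''ᵁ W' = U.basicOpen f ∧ j ''ᵁ W' = V.basicOpen g := by
  -- a neighbourhood of `i w` inside the image of `W`
  obtain ⟨f₀, hf₀, hwf₀⟩ := (isAffineOpen_top U).exists_basicOpen_le (V := i.opensRange)
    ⟨i w, ⟨w, rfl⟩⟩ trivial
  obtain ⟨g₀, hg₀, hwg₀⟩ := (isAffineOpen_top V).exists_basicOpen_le (V := j.opensRange)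
    ⟨j w, ⟨w, rfl⟩⟩ trivial
  have hU₁ : IsAffineOpen (i ⁻¹ᵁ U.basicOpen f₀) :=
    ((isAffineOpen_top U).basicOpen f₀).preimage_of_isOpenImmersion i hf₀
  have hV₁ : IsAffineOpen (j ⁻¹ᵁ V.basicOpen g₀) :=
    ((isAffineOpen_top V).basicOpen g₀).preimage_of_isOpenImmersion j hg₀
  obtain ⟨a, b, hab, hwa⟩ := exists_basicOpen_le_affine_inter hU₁ hV₁ w ⟨hwf₀, hwg₀⟩
  have key : ∀ {Z : Scheme.{u}} (k : W ⟶ Z) [IsOpenImmersion k] [IsAffine Z] (O : Z.Opens) (h₀ : Γ(Z, ⊤))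
      (_ : O = Z.basicOpen h₀) (_ : O ≤ k.opensRange) (c : Γ(W, k ⁻¹ᵁ O)),
      ∃ h : Γ(Z, ⊤), k ''ᵁ W.basicOpen c = Z.basicOpen h := by
    intro Z k _ _ O h₀ hO hr c
    subst hO
    obtain ⟨h, hh⟩ := (isAffineOpen_top Z).basicOpen_basicOpen_is_basicOpen h₀
      (Z.presheaf.map (eqToHom (by rw [Scheme.Hom.image_preimage_eq_opensRange_inf, inf_eq_right.2 hr])).op
        ((k.appIso (k ⁻¹ᵁ Z.basicOpen h₀)).inv c))
    refine ⟨h, ?_⟩
    rw [hh, Scheme.basicOpen_res_eq, Scheme.image_basicOpen]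
  obtain ⟨f, hf⟩ := key i (U.basicOpen f₀) f₀ rfl hf₀ a
  obtain ⟨g, hg⟩ := key j (V.basicOpen g₀) g₀ rfl hg₀ b
  exact ⟨W.basicOpen a, f, g, hwa, hf, by rw [hab, hg]⟩

end Groth.Agent.S7416
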