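import Groth.Statements.S7421
import Groth.Agent.AWNLib.Local
-- import your own Groth.Agent.* helpers here

set_option autoImplicit false
universe u
open CategoryTheory AlgebraicGeometry
open HTop

namespace Groth.Agent.S7421

/-- A seminormal ring is reduced, and a seminormal scheme is reduced. -/
theorem result :
    (∀ (A : Type u) [CommRing A], HTop.IsSeminormalRing A → IsReduced A) ∧
    ∀ (X : Scheme.{u}), HTop.IsSeminormal X → AlgebraicGeometry.IsReduced X := by
  refine ⟨fun A _ h => AWNLib.isReduced_of_isSeminormalRing h, fun X h => ?_⟩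
  haveI : ∀ x : X, _root_.IsReduced (X.presheaf.stalk x) := fun x => by
    obtain ⟨U, hx, hU⟩ := h x
    have := AWNLib.isReduced_of_isSeminormalRing hU
    letI := TopCat.Presheaf.algebra_section_stalk X.presheaf ⟨x, hx⟩
    haveI := U.2.isLocalization_stalk ⟨x, hx⟩
    exact isReduced_localizationPreserves (U.2.primeIdealOf ⟨x, hx⟩).asIdeal.primeCompl _ inferInstance
  exact AlgebraicGeometry.isReduced_of_isReduced_stalk X

end Groth.Agent.S7421
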