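import Groth.Statements.S7426
import Groth.Agent.AWNLib.Scheme2
-- import your own Groth.Agent.* helpers here

set_option autoImplicit false
universe u
open CategoryTheory AlgebraicGeometry
open HTop

namespace Groth.Agent.S7426

/-- For a scheme `X` the following are equivalent: `X` is absolutely weakly normal; `X^awn → X` is an
isomorphism (equivalently, the identity of `X` is an absolute weak normalization); every universal
homeomorphism `Y → X` with `Y` reduced is an isomorphism. -/
theorem result (X : Scheme.{u}) :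
    (HTop.IsAWN X ↔ HTop.IsAWNormalization (𝟙 X)) ∧
    (HTop.IsAWN X ↔ ∀ (Y : Scheme.{u}) (π : Y ⟶ X), FlatMor.IsUnivHomeo π → AlgebraicGeometry.IsReduced Y → IsIso π) := by
  have hid : FlatMor.IsUnivHomeo (𝟙 X) :=
    UnivHomeo.of_isIntegralHom (𝟙 X)
  have hb := AWNLib.isAWNormalization_awnToBase X
  have key : IsIso (AWNLib.awnToBase X) ↔ HTop.IsAWN X :=
    AWNLib.isIso_iff_isAWN hb (𝟙 X) hid (AWNLib.awnToBase X) (Category.comp_id _)
  refine ⟨⟨fun h => ?_, fun h => AWNLib.isAWN_of_isAWNormalization h⟩,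
    ⟨fun h Y π hπ _ => AWNLib.isIso_of_isAWN π hπ h, fun h => key.1 (h _ _ hb.1 ?_)⟩⟩
  · haveI := key.2 h
    refine ⟨hid, fun Y π hπ => ?_⟩
    obtain ⟨g, hg, hu⟩ := hb.2 Y π hπ
    refine ⟨inv (AWNLib.awnToBase X) ≫ g, ?_, fun g' hg' => ?_⟩
    · show (inv (AWNLib.awnToBase X) ≫ g) ≫ π = 𝟙 X
      rw [Category.assoc, hg, IsIso.inv_hom_id]
    · have h2 : (AWNLib.awnToBase X ≫ g') ≫ π = AWNLib.awnToBase X := by
        rw [Category.assoc, show g' ≫ π = 𝟙 X from hg', Category.comp_id]
      rw [← hu _ h2, IsIso.inv_hom_id_assoc]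
  · exact AWNLib.isReduced_of_isSeminormal (AWNLib.isSeminormal_of_isAWN (AWNLib.isAWN_awnScheme X))

end Groth.Agent.S7426
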