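import Groth.Statements.S7427
import Groth.Agent.AWNLib.Basic

set_option autoImplicit false
universe u
set_option backward.isDefEq.respectTransparency false
open CategoryTheory AlgebraicGeometry
open Mor

namespace Groth.Agent.S7427

/-- Let `A → B` be a ring map with `Spec B → Spec A` dominant. Then some `A`-subalgebra `B' ⊆ B` has
`Spec B' → Spec A` a universal homeomorphism and contains the image of `C → B` whenever `C` is an
`A`-algebra with an `A`-algebra map `C → B` whose structure map gives a universal homeomorphism
`Spec C → Spec A`. (The test algebras `C` range over the universe of `A` and `B`.) -/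
theorem result {A B : Type u} [CommRing A] [CommRing B] [Algebra A B]
    [IsDominant (Spec.map (CommRingCat.ofHom (algebraMap A B)))] :
    ∃ B' : Subalgebra A B, FlatMor.IsUnivHomeo (Spec.map (CommRingCat.ofHom (algebraMap A B'))) ∧
      ∀ (C : Type u) [CommRing C] [Algebra A C] (g : C →ₐ[A] B),
        FlatMor.IsUnivHomeo (Spec.map (CommRingCat.ofHom (algebraMap A C))) → g.range ≤ B' := by
  classical
  -- integral intermediate algebras dominate, hence surject on spectra
  have hsurj : ∀ D : Subalgebra A B, (algebraMap A D).IsIntegral →
      Function.Surjective (PrimeSpectrum.comap (algebraMap A D)) := fun D hD => by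
    let π := Spec.map (CommRingCat.ofHom (algebraMap A D))
    haveI : IsIntegralHom π := IsIntegralHom.SpecMap_iff.mpr hD
    haveI : IsDominant (Spec.map (CommRingCat.ofHom D.val.toRingHom) ≫ π) := by
      rw [← Spec.map_comp, ← CommRingCat.ofHom_comp]
      exact inferInstanceAs (IsDominant (Spec.map (CommRingCat.ofHom (algebraMap A B))))
    haveI : IsDominant π := IsDominant.of_comp (Spec.map (CommRingCat.ofHom D.val.toRingHom)) π
    exact (surjective_of_isDominant_of_isClosed_range π π.isClosedMap.isClosed_range).1
  let S : Set (Subalgebra A B) := {D | FlatMor.IsUnivHomeo (Spec.map (CommRingCat.ofHom (algebraMap A D)))}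
  refine ⟨sSup S, ?_, fun C _ _ g hC => le_sSup ?_⟩
  · have hint : (algebraMap A ↥(sSup S)).IsIntegral := by
      have hle : sSup S ≤ integralClosure A B := sSup_le fun D hD x hx =>
        (Algebra.IsIntegral.mk (R := A) (A := D) (Groth.Agent.AWNLib.isIntegral hD)).isIntegral ⟨x, hx⟩ |>.map D.val
      exact fun x => (isIntegral_algHom_iff (sSup S).val Subtype.val_injective).1 (hle x.2)
    refine Groth.Agent.AWNLib.isUnivHomeo_of _ hint (fun K _ g g' e => ?_) (hsurj _ hint)
    letI : Algebra A K := (g.comp (algebraMap A ↥(sSup S))).toAlgebra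
    let G : ↥(sSup S) →ₐ[A] K := { g with commutes' := fun a => rfl }
    let G' : ↥(sSup S) →ₐ[A] K := { g' with commutes' := fun a => (DFunLike.congr_fun e a).symm }
    suffices h : sSup S ≤ (AlgHom.equalizer G G').map (sSup S).val by
      refine RingHom.ext fun x => ?_
      obtain ⟨y, hy, hyx⟩ := h x.2
      obtain rfl : y = x := Subtype.ext hyx
      exact hy
    refine sSup_le fun D hD x hx => ?_
    have hDle : D ≤ sSup S := le_sSup hD
    have := Groth.Agent.AWNLib.hom_ext hD (g.comp (Subalgebra.inclusion hDle).toRingHom)
      (g'.comp (Subalgebra.inclusion hDle).toRingHom) (RingHom.ext fun a => DFunLike.congr_fun e a)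
    exact ⟨⟨x, hDle hx⟩, (DFunLike.congr_fun this ⟨x, hx⟩ :), rfl⟩
  · have hint : (algebraMap A g.range).IsIntegral := by
      rw [← g.rangeRestrict.comp_algebraMap]
      exact RingHom.IsIntegral.trans _ _ (Groth.Agent.AWNLib.isIntegral hC)
        (RingHom.isIntegral_of_surjective _ g.rangeRestrict_surjective)
    refine Groth.Agent.AWNLib.isUnivHomeo_of _ hint (fun K _ a a' e => ?_) (hsurj _ hint)
    have := Groth.Agent.AWNLib.hom_ext hC (a.comp g.rangeRestrict.toRingHom) (a'.comp g.rangeRestrict.toRingHom)
      (by
        rw [RingHom.comp_assoc, RingHom.comp_assoc,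
          show g.rangeRestrict.toRingHom.comp (algebraMap A C) = algebraMap A g.range from g.rangeRestrict.comp_algebraMap, e])
    refine RingHom.ext fun y => ?_
    obtain ⟨c, rfl⟩ := g.rangeRestrict_surjective y
    exact DFunLike.congr_fun this c

end Groth.Agent.S7427
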