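import Groth.Statements.S7428
import Groth.Agent.AWNLib.Basic
import Groth.Agent.UnivHomeo.Basic

set_option autoImplicit false
universe u
set_option backward.isDefEq.respectTransparency false
open CategoryTheory AlgebraicGeometry
open Mor

namespace Groth.Agent.S7428

/-- Let `A → B` be a ring map with `Spec B → Spec A` dominant. Then some `A`-subalgebra `B' ⊆ B` has
`Spec B' → Spec A` a universal homeomorphism with trivial residue field extensions and contains the
image of `C → B` for every `A`-algebra `C` with an `A`-algebra map `C → B` such that `Spec C → Spec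
A` is a universal homeomorphism with trivial residue field extensions. (Trivial residue field
extensions: every residue field map of the morphism of spectra is surjective. The test algebras `C`
range over the universe of `A` and `B`.) -/
theorem result {A B : Type u} [CommRing A] [CommRing B] [Algebra A B]
    [IsDominant (Spec.map (CommRingCat.ofHom (algebraMap A B)))] :
    ∃ B' : Subalgebra A B, (FlatMor.IsUnivHomeo (Spec.map (CommRingCat.ofHom (algebraMap A B'))) ∧
      ∀ x : Spec (CommRingCat.of B'),
        Function.Surjective ((Spec.map (CommRingCat.ofHom (algebraMap A B'))).residueFieldMap x)) ∧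
      ∀ (C : Type u) [CommRing C] [Algebra A C] (g : C →ₐ[A] B),
        FlatMor.IsUnivHomeo (Spec.map (CommRingCat.ofHom (algebraMap A C))) →
        (∀ x : Spec (CommRingCat.of C),
          Function.Surjective ((Spec.map (CommRingCat.ofHom (algebraMap A C))).residueFieldMap x)) →
        g.range ≤ B' := by
  classical
  -- integral intermediate algebras dominate, hence surject on spectra
  have hsurj : ∀ D : Subalgebra A B, (algebraMap A D).IsIntegral →
      Function.Surjective (PrimeSpectrum.comap (algebraMap A D)) := fun D hD => by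
    let π := Spec.map (CommRingCat.ofHom (algebraMap A D))
    haveI : IsIntegralHom π := IsIntegralHom.SpecMap_iff.mpr hD
    haveI : IsDominant (Spec.map (CommRingCat.ofHom D.val.toRingHom) ≫ π) := by
      rw [← Spec.map_comp, ← CommRingCat.ofHom_comp]
      exact inferInstanceAs (IsDominant (Spec.map (CommRingCat.ofHom (algebraMap A B))))
    haveI : IsDominant π := IsDominant.of_comp (Spec.map (CommRingCat.ofHom D.val.toRingHom)) π
    exact (surjective_of_isDominant_of_isClosed_range π π.isClosedMap.isClosed_range).1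
  let S : Set (Subalgebra A B) := {D | FlatMor.IsUnivHomeo (Spec.map (CommRingCat.ofHom (algebraMap A D))) ∧
    ∀ (q : Ideal D) [q.IsPrime] (d : D), ∃ c s : A, algebraMap A D s ∉ q ∧ algebraMap A D s * d - algebraMap A D c ∈ q}
  refine ⟨sSup S, ⟨?_, fun x z => ?_⟩, fun C _ _ g hC hCr => ?_⟩
  · have hint : (algebraMap A ↥(sSup S)).IsIntegral := by
      have hle : sSup S ≤ integralClosure A B := sSup_le fun D hD x hx =>
        (Algebra.IsIntegral.mk (R := A) (A := D) (Groth.Agent.AWNLib.isIntegral hD.1)).isIntegral ⟨x, hx⟩ |>.map D.val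
      exact fun x => (isIntegral_algHom_iff (sSup S).val Subtype.val_injective).1 (hle x.2)
    refine Groth.Agent.AWNLib.isUnivHomeo_of _ hint (fun K _ g g' e => ?_) (hsurj _ hint)
    letI : Algebra A K := (g.comp (algebraMap A ↥(sSup S))).toAlgebra
    let G : ↥(sSup S) →ₐ[A] K := { g with commutes' := fun a => rfl }
    let G' : ↥(sSup S) →ₐ[A] K := { g' with commutes' := fun a => (DFunLike.congr_fun e a).symm }
    suffices h : sSup S ≤ (AlgHom.equalizer G G').map (sSup S).val by
      refine RingHom.ext fun x => ?_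
      obtain ⟨y, hy, hyx⟩ := h x.2
      obtain rfl : y = x := Subtype.ext hyx
      exact hy
    refine sSup_le fun D hD x hx => ?_
    have hDle : D ≤ sSup S := le_sSup hD
    have := Groth.Agent.AWNLib.hom_ext hD.1 (g.comp (Subalgebra.inclusion hDle).toRingHom)
      (g'.comp (Subalgebra.inclusion hDle).toRingHom) (RingHom.ext fun a => DFunLike.congr_fun e a)
    exact ⟨⟨x, hDle hx⟩, (DFunLike.congr_fun this ⟨x, hx⟩ :), rfl⟩
  · -- the residue extensions of the supremum are trivial
    let f := Spec.map (CommRingCat.ofHom (algebraMap A ↥(sSup S)))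
    let ρ := (f.residueFieldMap x).hom
    have hA : ∀ a, Groth.Agent.UnivHomeo.ev x (algebraMap A ↥(sSup S) a) ∈ ρ.fieldRange := fun a =>
      ⟨_, Groth.Agent.UnivHomeo.residueFieldMap_ev _ x a⟩
    let E : Subalgebra A ↥(sSup S) :=
      { (ρ.fieldRange.toSubring.comap (Groth.Agent.UnivHomeo.ev x)) with algebraMap_mem' := hA }
    have hE : ∀ b : ↥(sSup S), b ∈ E := fun b => by
      suffices h : sSup S ≤ E.map (sSup S).val by
        obtain ⟨y, hy, hyb⟩ := h b.2
        exact (Subtype.ext hyb : y = b) ▸ hy
      refine sSup_le fun D hD d hd => ?_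
      have hDle : D ≤ sSup S := le_sSup hD
      obtain ⟨c, s, hs, hcs⟩ := hD.2 (x.asIdeal.comap (Subalgebra.inclusion hDle).toRingHom) ⟨d, hd⟩
      refine ⟨⟨d, hDle hd⟩, ?_, rfl⟩
      show Groth.Agent.UnivHomeo.ev x ⟨d, hDle hd⟩ ∈ ρ.fieldRange
      have h1 : algebraMap A ↥(sSup S) s ∉ x.asIdeal := hs
      have h2 := (Groth.Agent.UnivHomeo.ev_eq_zero x
        (algebraMap A ↥(sSup S) s * ⟨d, hDle hd⟩ - algebraMap A ↥(sSup S) c)).2 hcs
      have h3 : Groth.Agent.UnivHomeo.ev x (algebraMap A ↥(sSup S) s) ≠ 0 :=
        fun h => h1 ((Groth.Agent.UnivHomeo.ev_eq_zero x _).1 h)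
      rw [map_sub, map_mul, sub_eq_zero] at h2
      rw [eq_div_of_mul_eq h3 ((mul_comm _ _).trans h2)]
      exact div_mem (hA c) (hA s)
    obtain ⟨b, s, -, rfl⟩ := Groth.Agent.UnivHomeo.exists_div_ev x z
    exact RingHom.mem_fieldRange.1 (div_mem (hE b) (hE s))
  have hres : ∀ (q : Ideal g.range) [q.IsPrime] (d : g.range), ∃ c s : A,
      algebraMap A g.range s ∉ q ∧ algebraMap A g.range s * d - algebraMap A g.range c ∈ q := fun q _ d => by
    obtain ⟨y, rfl⟩ := g.rangeRestrict_surjective d
    obtain ⟨c, s, hs, hcs⟩ := Groth.Agent.UnivHomeo.exists_sub_mem_of_surjective (algebraMap A C) hCr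
      (q.comap g.rangeRestrict.toRingHom) y
    refine ⟨c, s, fun h => hs ?_, ?_⟩
    · rw [Ideal.mem_comap]; exact (g.rangeRestrict.commutes s).symm ▸ h
    · have h' : g.rangeRestrict (algebraMap A C s * y - algebraMap A C c) ∈ q := hcs
      rwa [map_sub, map_mul, g.rangeRestrict.commutes, g.rangeRestrict.commutes] at h'
  refine le_sSup (a := g.range) ?_
  refine ⟨?_, hres⟩
  have hint : (algebraMap A g.range).IsIntegral := by
    rw [← g.rangeRestrict.comp_algebraMap]
    exact RingHom.IsIntegral.trans _ _ (Groth.Agent.AWNLib.isIntegral hC)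
      (RingHom.isIntegral_of_surjective _ g.rangeRestrict_surjective)
  refine Groth.Agent.AWNLib.isUnivHomeo_of _ hint (fun K _ a a' e => ?_) (hsurj _ hint)
  have := Groth.Agent.AWNLib.hom_ext hC (a.comp g.rangeRestrict.toRingHom) (a'.comp g.rangeRestrict.toRingHom)
    (by
      rw [RingHom.comp_assoc, RingHom.comp_assoc,
        show g.rangeRestrict.toRingHom.comp (algebraMap A C) = algebraMap A g.range from g.rangeRestrict.comp_algebraMap, e])
  refine RingHom.ext fun y => ?_
  obtain ⟨c, rfl⟩ := g.rangeRestrict_surjective y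
  exact DFunLike.congr_fun this c

end Groth.Agent.S7428
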