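import Groth.Statements.S7431
import Mathlib

set_option backward.isDefEq.respectTransparency false
set_option autoImplicit false
universe u
open CategoryTheory AlgebraicGeometry
open Lim

namespace Groth.Agent.S7431

/-- Let `B' = B ×_R R'` be a cartesian square of rings with maps `s : B → R`, `t : R' → R`, and let `W'
= D(f_1) ∪ … ∪ D(f_n) ⊆ Spec R'` with `t(f_i) = s(g_i)` for elements `g_i ∈ B` such that `B_{g_i} →
R_{s(g_i)}` is an isomorphism for each `i`. Then the composite `W' → Spec R' → Spec B'`, the second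
map coming from `B' → R'`, is an open immersion. -/
theorem result {B B' R R' : Type u} [CommRing B] [CommRing B']
    [CommRing R] [CommRing R'] (s : B →+* R) (t : R' →+* R) (p : B' →+* B) (q : B' →+* R')
    (hsq : IsPullback (CommRingCat.ofHom p) (CommRingCat.ofHom q) (CommRingCat.ofHom s) (CommRingCat.ofHom t))
    {n : ℕ} (f : Fin n → R') (g : Fin n → B) (hfg : ∀ i, t (f i) = s (g i))
    (hiso : ∀ i, Function.Bijective (Localization.awayMap s (g i))) :
    IsOpenImmersion (Scheme.Opens.ι (X := Spec (CommRingCat.of R')) (⨆ i, PrimeSpectrum.basicOpen (f i)) ≫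
      Spec.map (CommRingCat.ofHom q)) := by
  have hcomm : ∀ x, s (p x) = t (q x) := fun x => congr($(hsq.w).hom x)
  let φ := hsq.isLimit.conePointUniqueUpToIso (CommRingCat.pullbackConeIsLimit (CommRingCat.ofHom s) (CommRingCat.ofHom t))
  have hfst : φ.hom ≫ (CommRingCat.pullbackCone (CommRingCat.ofHom s) (CommRingCat.ofHom t)).fst = CommRingCat.ofHom p :=
    hsq.isLimit.conePointUniqueUpToIso_hom_comp _ Limits.WalkingCospan.left
  have hsnd : φ.hom ≫ (CommRingCat.pullbackCone (CommRingCat.ofHom s) (CommRingCat.ofHom t)).snd = CommRingCat.ofHom q :=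
    hsq.isLimit.conePointUniqueUpToIso_hom_comp _ Limits.WalkingCospan.right
  have hmk : ∀ (b : B) (y : R'), s b = t y → ∃ x, p x = b ∧ q x = y := fun b y h => by
    let z : (CommRingCat.pullbackCone (CommRingCat.ofHom s) (CommRingCat.ofHom t)).pt := ⟨(b, y), h⟩
    refine ⟨φ.inv z, ?_, ?_⟩
    · exact congr($(show φ.inv ≫ CommRingCat.ofHom p =
        (CommRingCat.pullbackCone (CommRingCat.ofHom s) (CommRingCat.ofHom t)).fst by
          exact (Iso.inv_comp_eq φ).2 hfst.symm).hom z)
    · exact congr($(show φ.inv ≫ CommRingCat.ofHom q =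
        (CommRingCat.pullbackCone (CommRingCat.ofHom s) (CommRingCat.ofHom t)).snd by
          exact (Iso.inv_comp_eq φ).2 hsnd.symm).hom z)
  have hext : ∀ x x' : B', p x = p x' → q x = q x' → x = x' := fun x x' h₁ h₂ => by
    have hi : Function.Injective φ.hom := φ.commRingCatIsoToRingEquiv.injective
    apply hi
    refine Subtype.ext (Prod.ext ?_ ?_)
    · exact (congr($(hfst).hom x)).trans (h₁.trans (congr($(hfst).hom x')).symm)
    · exact (congr($(hsnd).hom x)).trans (h₂.trans (congr($(hsnd).hom x')).symm)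
  choose e hep heq using fun i => hmk (g i) (f i) (hfg i).symm
  have hloc : ∀ i, Function.Bijective (Localization.awayMap q (e i)) := fun i => by
    refine ⟨Localization.awayMap_injective_iff.2 fun x hx => ?_, Localization.awayMap_surjective_iff.2 fun y => ?_⟩
    · obtain ⟨m, hm⟩ := (Localization.awayMap_injective_iff.1 (hiso i).1) (p x) (by rw [hcomm, hx, map_zero])
      exact ⟨m, hext _ _ (by rw [map_mul, map_pow, hep, hm, map_zero]) (by rw [map_mul, hx, mul_zero, map_zero])⟩
    · obtain ⟨b, m, hb⟩ := (Localization.awayMap_surjective_iff.1 (hiso i).2) (t y)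
      obtain ⟨x, -, hx⟩ := hmk b (f i ^ m * y) (by rw [hb, map_mul, map_pow, hfg])
      exact ⟨x, m, by rw [hx, heq]⟩
  set W' : (Spec (CommRingCat.of R')).Opens := ⨆ i, PrimeSpectrum.basicOpen (f i)
  set V : Fin n → (Spec (CommRingCat.of B')).Opens := fun i => PrimeSpectrum.basicOpen (e i)
  have hpre : ∀ i, Spec.map (CommRingCat.ofHom q) ⁻¹ᵁ V i = PrimeSpectrum.basicOpen (f i) := fun i => by
    rw [← heq i]
    rfl
  have hoi : ∀ i, IsOpenImmersion (Scheme.Opens.ι (X := Spec (CommRingCat.of R')) (PrimeSpectrum.basicOpen (f i)) ≫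
      Spec.map (CommRingCat.ofHom q)) := fun i => by
    letI := (Localization.awayMap q (e i)).toAlgebra
    let m : CommRingCat.of R' ⟶ CommRingCat.of (Localization.Away (q (e i))) := CommRingCat.ofHom (algebraMap _ _)
    haveI : IsOpenImmersion (Spec.map m) := IsOpenImmersion.of_isLocalization (S := Localization.Away (q (e i))) (q (e i))
    haveI : IsOpenImmersion (Spec.map (CommRingCat.ofHom (algebraMap B' (Localization.Away (e i))))) :=
      IsOpenImmersion.of_isLocalization (S := Localization.Away (e i)) (e i)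
    haveI : IsIso (CommRingCat.ofHom (Localization.awayMap q (e i))) :=
      (RingEquiv.ofBijective (Localization.awayMap q (e i)) (hloc i)).toCommRingCatIso.isIso_hom
    have hm : IsOpenImmersion (Spec.map m ≫ Spec.map (CommRingCat.ofHom q)) := by
      rw [← Spec.map_comp, show CommRingCat.ofHom q ≫ m =
        CommRingCat.ofHom (algebraMap B' (Localization.Away (e i))) ≫ CommRingCat.ofHom (Localization.awayMap q (e i)) from
          CommRingCat.hom_ext ((IsLocalization.map_comp (M := Submonoid.powers (e i)) (T := Submonoid.powers (q (e i))) (S := Localization.Away (e i)) (Q := Localization.Away (q (e i))) (Submonoid.map_le_iff_le_comap.1 (Submonoid.map_powers q (e i)).le)).symm), Spec.map_comp]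
      infer_instance
    have hr : Set.range (Scheme.Opens.ι (X := Spec (CommRingCat.of R')) (PrimeSpectrum.basicOpen (f i))) = Set.range (Spec.map m) := by
      rw [Scheme.Opens.range_ι, ← heq i]
      exact (PrimeSpectrum.localization_away_comap_range (Localization.Away (q (e i))) (q (e i))).symm
    rw [← IsOpenImmersion.isoOfRangeEq_hom_fac _ _ hr, Category.assoc]
    infer_instance
  refine IsZariskiLocalAtTarget.of_range_subset_iSup (P := @IsOpenImmersion) V ?_ fun i => ?_
  · rintro _ ⟨x, rfl⟩
    obtain ⟨i, hi⟩ := TopologicalSpace.Opens.mem_iSup.1 x.2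
    refine TopologicalSpace.Opens.mem_iSup.2 ⟨i, ?_⟩
    have : Scheme.Opens.ι W' x ∈ Spec.map (CommRingCat.ofHom q) ⁻¹ᵁ V i := by rw [hpre]; exact hi
    exact this
  · set h := Scheme.Opens.ι (X := Spec (CommRingCat.of R')) W' ≫ Spec.map (CommRingCat.ofHom q)
    have hr : Set.range ((h ⁻¹ᵁ V i).ι ≫ W'.ι) ⊆ Set.range (Scheme.Opens.ι (X := Spec (CommRingCat.of R')) (PrimeSpectrum.basicOpen (f i))) := by
      rintro _ ⟨x, rfl⟩
      rw [Scheme.Opens.range_ι, ← hpre i]
      exact x.2
    let k := IsOpenImmersion.lift _ _ hr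
    have hk : k ≫ Scheme.Opens.ι (X := Spec (CommRingCat.of R')) (PrimeSpectrum.basicOpen (f i)) = (h ⁻¹ᵁ V i).ι ≫ W'.ι :=
      IsOpenImmersion.lift_fac _ _ _
    haveI : IsOpenImmersion k := by
      haveI : IsOpenImmersion (k ≫ Scheme.Opens.ι (X := Spec (CommRingCat.of R')) (PrimeSpectrum.basicOpen (f i))) := by
        rw [hk]; infer_instance
      exact IsOpenImmersion.of_comp k (Scheme.Opens.ι (X := Spec (CommRingCat.of R')) (PrimeSpectrum.basicOpen (f i)))
    haveI : IsOpenImmersion ((h ∣_ V i) ≫ (V i).ι) := by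
      rw [morphismRestrict_ι, ← Category.assoc, ← hk, Category.assoc]
      haveI := hoi i
      infer_instance
    exact IsOpenImmersion.of_comp (h ∣_ V i) (V i).ι

end Groth.Agent.S7431
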