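import Groth.Statements.S7432
import Groth.Agent.FibreVanishQC.TopDegree

set_option autoImplicit false
universe u
open Lim

namespace Groth.Agent.S7432

open AlgebraicGeometry CategoryTheory in
/-- Assume `f : X → Y` is a proper morphism whose fibres all have dimension no greater than `d`, and
consider an `O_X`-module `F` that is quasi-coherent and of finite type. Then `R^d f_* F` is again an
`O_Y`-module that is quasi-coherent and of finite type. (Being 'quasi-coherent of finite type' is
expressed via the prelude's predicate `Coh.IsCoh`, which on an arbitrary scheme means precisely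
this; `R^d f_*` denotes the right derived functor of `f_*` on `O`-modules, defined under the
instance binder asserting that `O_X`-modules admit injective resolutions.) -/
theorem result {X Y : Scheme.{u}} (f : X ⟶ Y) [IsProper f] (d : ℕ)
    (hd : ∀ y : Y, topologicalKrullDim ↥(f.fiber y) ≤ d) [HasInjectiveResolutions X.Modules] (M : X.Modules)
    (hM : Coh.IsCoh M) : Coh.IsCoh ((Coh.Rpush f d).obj M) := by
  haveI := hM.1
  haveI : Coh.IsQCoh ((Coh.Rpush f d).obj M) := Groth.Agent.RpushLib.isQCoh_rpush f (M := M) d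
  refine Groth.Agent.QCohLib.isCoh_of_finite _ fun W hW => ?_
  obtain ⟨e, he⟩ := Groth.Agent.RpushLib.exists_sections_equiv (M := M) f d hW
  let p : (f ⁻¹ᵁ W).toScheme ⟶ Spec (CommRingCat.of Γ(Y, W)) := (f ∣_ W) ≫ hW.isoSpec.hom
  haveI : IsProper (f ∣_ W) := MorphismProperty.of_isPullback (isPullback_morphismRestrict f W).flip ‹_›
  have hdp : ∀ s, topologicalKrullDim ↥(p.fiber s) ≤ d := fun s => by
    have hiso : IsPullback (𝟙 _) p (f ∣_ W) hW.isoSpec.inv := IsPullback.of_horiz_isIso ⟨by simp [p]⟩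
    exact ((Groth.Agent.S9777.result (f ∣_ W) _ p (𝟙 _) hiso s).trans
      (Groth.Agent.S9777.result f W.ι (f ∣_ W) (f ⁻¹ᵁ W).ι (isPullback_morphismRestrict f W).flip _)).trans_le (hd _)
  have hfin := Groth.Agent.FibreVanishQC.finite_HH_top p d hdp (M.restrict (f ⁻¹ᵁ W).ι)
    (Groth.Agent.ProjCoh.isCoh_of_iso ((Scheme.Modules.restrictFunctorIsoPullback (f ⁻¹ᵁ W).ι).app M).symm
      (Groth.Agent.PullbackMod.isCoh_pullback _ M hM))
  rw [Groth.Agent.RpushLib.toGlobal_eq f hW] at hfin
  letI := Module.compHom (Coh.HH (f ⁻¹ᵁ W).toScheme (M.restrict (f ⁻¹ᵁ W).ι) d) (Groth.Agent.RpushLib.preTop f W)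
  haveI := hfin
  exact Module.Finite.equiv ({ e with map_smul' := he } : Γ((Coh.Rpush f d).obj M, W) ≃ₗ[Γ(Y, W)]
    Coh.HH (f ⁻¹ᵁ W).toScheme (M.restrict (f ⁻¹ᵁ W).ι) d).symm

end Groth.Agent.S7432
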