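import Groth.Statements.S7447
import Groth.Agent.ApproxZLib.Approx

set_option autoImplicit false
universe u
open CategoryTheory AlgebraicGeometry
open Opposite
open Lim

namespace Groth.Agent.S7447

/-- Noetherian approximation relative to a quasi-compact open: let `S` be quasi-compact and
quasi-separated, `V ⊆ S` a quasi-compact open, and `V = lim V_i` the limit of an inverse system,
over a nonempty directed set `I`, of schemes of finite type over `ℤ` with affine transition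
morphisms. Then there are a nonempty directed set `J`, an inverse system `(S_j)` of schemes of
finite type over `ℤ` with affine transition morphisms and `S = lim S_j`, an order preserving map `α
: J → I`, opens `V'_j ⊆ S_j` and isomorphisms `V'_j ≅ V_{α(j)}` such that: the transition maps
satisfy `g_{jj'}⁻¹(V'_{j'}) = V'_j`; `V` is the inverse image of each `V'_j` under `S → S_j` (which
identifies `V` with `lim V'_j`); the composite `V → V'_j → V_{α(j)}` is the projection; and the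
squares `V'_j → V_{α(j)} → V_{α(j')}`, `V'_j → V'_{j'} → V_{α(j')}` commute. -/
theorem result (S : Scheme.{u}) [CompactSpace S] [QuasiSeparatedSpace S]
    (V : S.Opens) (hV : IsCompact (V : Set S)) (I : Type u) [Preorder I] [IsDirected I (fun a b => a ≤ b)] [Nonempty I]
    (DV : Iᵒᵖ ⥤ Scheme.{u}) (haff : ∀ (i i' : Iᵒᵖ) (a : i ⟶ i'), IsAffineHom (DV.map a))
    (hft : ∀ i, CompactSpace (DV.obj i) ∧ LocallyOfFiniteType (Limits.IsTerminal.from specULiftZIsTerminal (DV.obj i)))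
    (cV : Limits.Cone DV) (hcV : Limits.IsLimit cV) (eV : cV.pt ≅ (V : Scheme.{u})) :
    ∃ (J : Type u) (_ : Preorder J) (_ : IsDirected J (fun a b => a ≤ b)) (_ : Nonempty J)
      (DS : Jᵒᵖ ⥤ Scheme.{u}) (cS : Limits.Cone DS) (_ : Limits.IsLimit cS) (eS : cS.pt ≅ S)
      (α : J →o I) (V' : ∀ j : J, (DS.obj (op j)).Opens)
      (φ : ∀ j : J, (V' j : Scheme.{u}) ≅ DV.obj (op (α j))),
      (∀ (j j' : Jᵒᵖ) (a : j ⟶ j'), IsAffineHom (DS.map a)) ∧
      (∀ j, CompactSpace (DS.obj j) ∧ LocallyOfFiniteType (Limits.IsTerminal.from specULiftZIsTerminal (DS.obj j))) ∧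
      (∀ (j j' : J) (h : j' ≤ j), (DS.map (homOfLE h).op) ⁻¹ᵁ (V' j') = V' j) ∧
      (∀ j : J, (eS.inv ≫ cS.π.app (op j)) ⁻¹ᵁ (V' j) = V) ∧
      (∀ j : J, ∃ ρ : (V : Scheme.{u}) ⟶ (V' j : Scheme.{u}),
        ρ ≫ (V' j).ι = V.ι ≫ eS.inv ≫ cS.π.app (op j) ∧ ρ ≫ (φ j).hom = eV.inv ≫ cV.π.app (op (α j))) ∧
      (∀ (j j' : J) (h : j' ≤ j), ∃ τ : (V' j : Scheme.{u}) ⟶ (V' j' : Scheme.{u}),
        τ ≫ (V' j').ι = (V' j).ι ≫ DS.map (homOfLE h).op ∧
        (φ j).hom ≫ DV.map (homOfLE (α.mono h)).op = τ ≫ (φ j').hom) := by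
  haveI : ∀ {i j : Iᵒᵖ} (a : i ⟶ j), IsAffineHom (DV.map a) := fun a => haff _ _ a
  haveI : ∀ i, CompactSpace (DV.obj i) := fun i => (hft i).1
  haveI : ∀ i, QuasiSeparatedSpace (DV.obj i) := fun i =>
    Groth.Agent.ApproxZLib.quasiSeparated_of_ft (hft i).2
  obtain ⟨E⟩ := Groth.Agent.ApproxZLib.nonempty_ext hcV (eV.hom ≫ V.ι) (fun i => (hft i).2)
  letI := E.preorder
  haveI hoi : ∀ j : E.J, IsOpenImmersion (E.ν.app (op j)) := fun j => E.isOpenImmersion _
  have hrange : Set.range (eV.hom ≫ V.ι) = (V : Set S) := by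
    rw [Scheme.Hom.comp_base, TopCat.coe_comp, Set.range_comp, eV.hom.surjective.range_eq, Set.image_univ,
      Scheme.Opens.range_ι]
  let V' : ∀ j : E.J, (E.DS.obj (op j)).Opens := fun j => @Scheme.Hom.opensRange _ _ (E.ν.app (op j)) (hoi j)
  let φ : ∀ j : E.J, (V' j : Scheme.{u}) ≅ DV.obj (op (E.α j)) := fun j => (@Scheme.Hom.isoOpensRange _ _ (E.ν.app (op j)) (hoi j)).symm
  let ν : ∀ j : E.J, DV.obj (op (E.α j)) ⟶ E.DS.obj (op j) := fun j => E.ν.app (op j)
  have hφ : ∀ j, (φ j).inv ≫ (V' j).ι = ν j := fun j => @Scheme.Hom.isoOpensRange_hom_ι _ _ (E.ν.app (op j)) (hoi j)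
  have hφ' : ∀ j, (V' j).ι = (φ j).hom ≫ ν j := fun j => by rw [← hφ j, Iso.hom_inv_id_assoc]
  refine ⟨E.J, E.preorder, E.directed, E.nonempty, E.DS, Limits.Cone.mk S E.π, E.isLimit, Iso.refl S, E.α,
    V', φ, E.affine, fun j => ⟨E.compact j, E.ft j⟩,
    fun j j' h => TopologicalSpace.Opens.ext (E.cart _ _ (homOfLE h).op), fun j => ?_,
    fun j => ⟨eV.inv ≫ cV.π.app (op (E.α j)) ≫ (φ j).inv, ?_, ?_⟩,
    fun j j' h => ⟨(φ j).hom ≫ DV.map (homOfLE (OrderHomClass.mono E.α h)).op ≫ (φ j').inv, ?_, ?_⟩⟩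
  · ext1
    show (E.π.app (op j)) ⁻¹' Set.range (E.ν.app (op j)) = (V : Set S)
    rw [E.pre, hrange]
  · show _ = V.ι ≫ 𝟙 S ≫ E.π.app (op j)
    have h1 : (eV.hom ≫ V.ι) ≫ E.π.app (op j) = cV.π.app (op (E.α j)) ≫ ν j := E.comm (op j)
    rw [Category.assoc] at h1
    rw [Category.assoc, Category.assoc, hφ, Category.id_comp, ← h1, Iso.inv_hom_id_assoc]
  · rw [Category.assoc, Category.assoc, Iso.inv_hom_id, Category.comp_id]
  · rw [Category.assoc, Category.assoc, hφ, hφ' j, Category.assoc]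
    exact congrArg ((φ j).hom ≫ ·) (E.ν.naturality (homOfLE h).op)
  · rw [Category.assoc, Category.assoc, Iso.inv_hom_id, Category.comp_id]

end Groth.Agent.S7447
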