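import Groth.Statements.S7448
import Groth.Agent.CohBase.PushNat
import Groth.Agent.CohBase.Affine
import Groth.Agent.ProperFin.PushHH
import Groth.Agent.RpushLib.Sections
import Groth.Agent.RpushLib.ToAb
import Groth.Agent.PullbackMod.Basic
import Groth.Agent.QCohLib.Push
import Groth.Agent.RpushLib.Vanish
import Groth.Agent.SubLib.ExtendWO
import Groth.Agent.CurveLib.Components

set_option autoImplicit false
universe u
open Lim

namespace Groth.Agent.S7448

open AlgebraicGeometry CategoryTheory Groth.Agent.CohBase in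
/-- The hypothesis, on the preimage of an affine open. -/
theorem subsingleton_HH_preimage {X Y : Scheme.{u}} (f : X ⟶ Y) [QuasiCompact f] [QuasiSeparated f]
    [QuasiSeparatedSpace X] (p : ℕ)
    (hvan : ∀ (M : X.Modules), Coh.IsQCoh M → Limits.IsZero ((Coh.RpushAb f (p + 1)).obj (Coh.toAb M)))
    {V : Y.Opens} (hV : IsAffineOpen V) (N : (f ⁻¹ᵁ V).toScheme.Modules) [Coh.IsQCoh N] :
    Subsingleton (Coh.HH (f ⁻¹ᵁ V).toScheme N (p + 1)) := by
  haveI : HasInjectiveResolutions X.Modules := inferInstance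
  haveI : QuasiCompact (f ⁻¹ᵁ V).ι := Groth.Agent.SubLib.quasiCompact_ι_of_isCompact_inter _ fun W hW =>
    QuasiSeparatedSpace.inter_isCompact _ _ W.2 hW (f ⁻¹ᵁ V).2 (f.isCompact_preimage hV.isCompact)
  let P := (Scheme.Modules.pushforward (f ⁻¹ᵁ V).ι).obj N
  haveI : Coh.IsQCoh P := Groth.Agent.SubLib.isQCoh_push_open (f ⁻¹ᵁ V) N
  have hz : Limits.IsZero (((Coh.Rpush f (p + 1)).obj P).presheaf.obj (.op V)) :=
    (Functor.map_isZero (sheafToPresheaf _ _) ((hvan P ‹_›).of_iso ((Groth.Agent.RpushLib.toAbRpushIso f (p + 1)).app P))).obj _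
  haveI : Subsingleton Γ((Coh.Rpush f (p + 1)).obj P, V) := AddCommGrpCat.subsingleton_of_isZero hz
  obtain ⟨e, -⟩ := Groth.Agent.RpushLib.exists_sections_equiv (M := P) f (p + 1) hV
  exact Groth.Agent.CurveLib.subsingleton_HH_iso (Groth.Agent.SubLib.pushOpenIso (f ⁻¹ᵁ V) N) (p + 1)
    e.symm.toEquiv.subsingleton

open AlgebraicGeometry CategoryTheory in
/-- Let `f : X → Y` be a morphism with `X`, `Y` quasi-compact and quasi-separated, and `d ≥ 0` such that
`R^i f_* F = 0` for all `i > d` and all quasi-coherent `F`. Then for every cartesian square with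
base change `f' : X' → Y'` of `f`, `R^i f'_* F' = 0` for all `i > d` and all quasi-coherent
`O_{X'}`-modules `F'`. -/
theorem result {X Y X' Y' : Scheme.{u}} (f : X ⟶ Y) [CompactSpace X]
    [QuasiSeparatedSpace X] [CompactSpace Y] [QuasiSeparatedSpace Y] (d : ℕ)
    (hvan : ∀ (M : X.Modules) (i : ℕ), Coh.IsQCoh M → d < i → Limits.IsZero ((Coh.RpushAb f i).obj (Coh.toAb M)))
    (g : Y' ⟶ Y) (f' : X' ⟶ Y') (g' : X' ⟶ X) (sq : IsPullback g' f' f g) (M' : X'.Modules) [Coh.IsQCoh M']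
    (i : ℕ) (hi : d < i) : Limits.IsZero ((Coh.RpushAb f' i).obj (Coh.toAb M')) := by
  obtain ⟨p, rfl⟩ : ∃ p, i = p + 1 := ⟨i - 1, by omega⟩
  haveI : QuasiCompact f := quasiCompact_of_compactSpace f
  haveI : QuasiSeparated f := inferInstance
  haveI : QuasiCompact f' := MorphismProperty.of_isPullback (P := @QuasiCompact) sq ‹_›
  haveI : QuasiSeparated f' := MorphismProperty.of_isPullback (P := @QuasiSeparated) sq ‹_›
  haveI : HasInjectiveResolutions X'.Modules := inferInstance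
  refine Groth.Agent.RpushLib.isZero_rightDerived_at f'.base
    (B := fun W : Y'.Opens => IsAffineOpen W ∧ ∃ V : Y.Opens, IsAffineOpen V ∧ W ≤ g ⁻¹ᵁ V) (fun W y hy => ?_)
    (Coh.toAb M') p ?_
  · obtain ⟨_, ⟨V, hV, rfl⟩, hyV, -⟩ := Y.isBasis_affineOpens.exists_subset_of_mem_open
      (Set.mem_univ (g y)) isOpen_univ
    obtain ⟨_, ⟨T, hT, rfl⟩, hyT, hle⟩ := Y'.isBasis_affineOpens.exists_subset_of_mem_open
      (show y ∈ W ⊓ g ⁻¹ᵁ V from ⟨hy, hyV⟩) (W ⊓ g ⁻¹ᵁ V).2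
    exact ⟨T, ⟨hT, V, hV, fun z hz => (hle hz).2⟩, hyT, fun z hz => (hle hz).1⟩
  intro W hW'
  change Y'.Opens at W
  obtain ⟨hW, V, hV, hle⟩ := hW'
  haveI : IsAffine V.toScheme := hV
  haveI : IsAffine W.toScheme := hW
  let gW : W.toScheme ⟶ V.toScheme := g.resLE V W hle
  have e : f' ⁻¹ᵁ W ≤ g' ⁻¹ᵁ (f ⁻¹ᵁ V) := fun z hz => by
    show f (g' z) ∈ V
    rw [← Scheme.Hom.comp_apply, sq.w, Scheme.Hom.comp_apply]
    exact hle hz
  let k : (f' ⁻¹ᵁ W).toScheme ⟶ (f ⁻¹ᵁ V).toScheme := g'.resLE (f ⁻¹ᵁ V) (f' ⁻¹ᵁ W) e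
  have h1 : IsPullback ((f' ⁻¹ᵁ W).ι ≫ g') (f' ∣_ W) f (W.ι ≫ g) :=
    ((isPullback_morphismRestrict f' W).flip.paste_horiz sq)
  have h2 : IsPullback k (f' ∣_ W) (f ∣_ V) gW :=
    IsPullback.of_right (by rw [Scheme.Hom.resLE_comp_ι, Scheme.Hom.resLE_comp_ι]; exact h1)
      (by
        rw [← cancel_mono V.ι, Category.assoc, Category.assoc, morphismRestrict_ι, Scheme.Hom.resLE_comp_ι_assoc,
          Scheme.Hom.resLE_comp_ι, morphismRestrict_ι_assoc, sq.w])
      (isPullback_morphismRestrict f V).flip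
  haveI : IsAffineHom gW := isAffineHom_of_isAffine _
  haveI : IsAffineHom k := MorphismProperty.of_isPullback (P := @IsAffineHom) h2.flip ‹_›
  haveI : Coh.IsQCoh (M'.restrict (f' ⁻¹ᵁ W).ι) :=
    (SheafOfModules.isQuasicoherent (f' ⁻¹ᵁ W).toScheme.ringCatSheaf).prop_of_iso
      ((Scheme.Modules.restrictFunctorIsoPullback (f' ⁻¹ᵁ W).ι).app M').symm
      (Groth.Agent.PullbackMod.isQCoh_pullback (f' ⁻¹ᵁ W).ι M')
  let N := M'.restrict (f' ⁻¹ᵁ W).ι
  haveI : Coh.IsQCoh ((Scheme.Modules.pushforward k).obj N) := Groth.Agent.QCohLib.isQCoh_pushforward N k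
  obtain ⟨e', -⟩ := Groth.Agent.ProperFin.exists_pushEquiv k (M := N)
    (fun T hT n => Groth.Agent.CohBase.affine_vanishing N (hT.preimage k) n) (p + 1)
  haveI := subsingleton_HH_preimage f p (fun M hM => hvan M (p + 1) hM hi) hV ((Scheme.Modules.pushforward k).obj N)
  haveI : Subsingleton (Coh.HH (f' ⁻¹ᵁ W).toScheme N (p + 1)) := e'.toEquiv.subsingleton
  obtain ⟨E, -⟩ := Groth.Agent.RpushLib.exists_sections_equiv (M := M') f' (p + 1) hW
  haveI : Subsingleton Γ((Coh.Rpush f' (p + 1)).obj M', W) := E.toEquiv.subsingleton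
  obtain ⟨E'⟩ := Groth.Agent.RpushLib.nonempty_sections f' (M := M') p hW
  exact E'.symm.toEquiv.subsingleton

end Groth.Agent.S7448
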