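import Groth.Statements.S7453
import Groth.Agent.FinGrpdLib.Field
-- import your own Groth.Agent.* helpers here

set_option autoImplicit false
set_option backward.isDefEq.respectTransparency false
universe u
open CategoryTheory CategoryTheory.Limits AlgebraicGeometry
open Grpd
open Groth.Agent Groth.Agent.FinGrpdLib

namespace Groth.Agent.S7453

/-- Cancelling on the right. -/
theorem mul_cancel_right'' {S : Scheme.{u}} {G : Grpd.GroupoidScheme S} {T : Scheme.{u}} {α β : T ⟶ G.R}
    (h : α ≫ G.s = (β ≫ G.i) ≫ G.t) (h' : mul G α (β ≫ G.i) h ≫ G.s = β ≫ G.t) :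
    mul G (mul G α (β ≫ G.i) h) β h' = α := by
  have h₁ : (β ≫ G.i) ≫ G.s = β ≫ G.t := by rw [Category.assoc, G.i_s]
  refine (G.assoc α (β ≫ G.i) β h h₁).trans ?_
  change mul G α (mul G (β ≫ G.i) β h₁) (h.trans (mul_t h₁).symm) = α
  rw [mul_congr rfl (show mul G (β ≫ G.i) β h₁ = α ≫ G.s ≫ G.e from (G.i_comp β).trans (by
    rw [Category.assoc, G.i_t] at h
    rw [reassoc_of% h]))]
  exact G.comp_e α

/-- Let (U, R, s, t, c) be a groupoid scheme over S with U the spectrum of a field. Then R is a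
separated scheme. (A groupoid scheme carries U, R, s, t, c, e, i over S with the groupoid axioms on
T-points; c is defined on the fibre product of s and t and sends a pair (a, b) with s(a) = t(b) to a
composed with b.) -/
theorem result (S : Scheme.{u}) (G : Grpd.GroupoidScheme S) (k : Type u) [Field k] (eU : G.U ≅ Spec (CommRingCat.of k)) : G.R.IsSeparated := by
  obtain ⟨_, _⟩ := point_props eU
  haveI : IsAffine G.U := isAffine_of_isAffineHom eU.hom
  let a := pullback.fst G.s G.s
  let b := pullback.snd G.s G.s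
  have hab : a ≫ G.s = (b ≫ G.i) ≫ G.t := by rw [Category.assoc, G.i_t]; exact pullback.condition
  let φ := mul G a (b ≫ G.i) hab
  have w : pullback.diagonal G.s ≫ φ = G.t ≫ G.e := by
    rw [comp_mul, mul_congr (show pullback.diagonal G.s ≫ a = 𝟙 _ from pullback.diagonal_fst _)
      (show pullback.diagonal G.s ≫ b ≫ G.i = 𝟙 G.R ≫ G.i by rw [← Category.assoc, pullback.diagonal_snd])]
    exact (G.comp_i _).trans (Category.id_comp _)
  have hpb : IsPullback (pullback.diagonal G.s) G.t φ G.e := by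
    refine ⟨⟨w⟩, ⟨PullbackCone.IsLimit.mk _ (fun c => c.fst ≫ a) (fun c => ?_) (fun c => ?_) (fun c m h₁ _ => ?_)⟩⟩
    · have hab' : c.fst ≫ a = c.fst ≫ b := by
        have hbi : ((c.fst ≫ b) ≫ G.i) ≫ G.s = (c.fst ≫ b) ≫ G.t := by rw [Category.assoc, G.i_s]
        have h₁ : (c.fst ≫ a) ≫ G.s = ((c.fst ≫ b) ≫ G.i) ≫ G.t := by
          simpa only [Category.assoc] using congrArg (c.fst ≫ ·) hab
        have h := mul_cancel_right'' h₁ (by rw [mul_s]; exact hbi)
        rw [mul_congr (show mul G (c.fst ≫ a) ((c.fst ≫ b) ≫ G.i) h₁ = (c.fst ≫ b) ≫ G.t ≫ G.e by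
          have hc : c.fst ≫ φ = c.snd ≫ G.e := c.condition
          rw [comp_mul, mul_congr rfl (Category.assoc _ _ _).symm] at hc
          rw [hc]
          have := congrArg (· ≫ G.s) hc
          simp only [mul_s, Category.assoc, G.i_s, G.e_s, Category.comp_id] at this
          rw [← this]
          simp only [Category.assoc]) rfl] at h
        exact h.symm.trans (G.e_comp _)
      apply pullback.hom_ext
      · simp only [Category.assoc, pullback.diagonal_fst, Category.comp_id, a]
      · simp only [Category.assoc, pullback.diagonal_snd, Category.comp_id]; exact hab'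
    · have hc : c.fst ≫ φ = c.snd ≫ G.e := c.condition
      have := congrArg (· ≫ G.t) hc
      simpa only [φ, Category.assoc, mul_t, G.e_t, Category.comp_id] using this
    · rw [← h₁]; simp [a]
  have hec : IsClosed (Set.range ⇑G.e) := by
    refine isOpen_compl_iff.1 (isOpen_iff_forall_mem_open.2 fun y hy => ?_)
    obtain ⟨_, ⟨V₀, hV, rfl⟩, hyV, -⟩ := G.R.isBasis_affineOpens.exists_subset_of_mem_open (Set.mem_univ y) isOpen_univ
    let V : G.R.Opens := V₀
    by_cases hx : Set.range ⇑G.e ⊆ (V : Set G.R)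
    · haveI : IsAffine V.toScheme := hV
      let e' : G.U ⟶ V.toScheme := IsOpenImmersion.lift V.ι G.e (by rwa [Scheme.Opens.range_ι])
      have he' : e' ≫ V.ι = G.e := IsOpenImmersion.lift_fac _ _ _
      haveI : IsClosedImmersion (e' ≫ V.ι ≫ G.s) := by rw [reassoc_of% he', G.e_s]; infer_instance
      haveI : IsClosedImmersion e' := IsClosedImmersion.of_comp e' (V.ι ≫ G.s)
      refine ⟨⇑V.ι '' (Set.range ⇑e')ᶜ, ?_, V.ι.isOpenEmbedding.isOpenMap _ e'.isClosedEmbedding.isClosed_range.isOpen_compl,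
        ⟨⟨y, hyV⟩, ?_, rfl⟩⟩
      · rintro _ ⟨z, hz, rfl⟩ ⟨u, hu⟩
        exact hz ⟨u, V.ι.isOpenEmbedding.injective (by rw [← Scheme.Hom.comp_apply, he']; exact hu)⟩
      · rintro ⟨u, hu⟩
        exact hy ⟨u, by rw [← he', Scheme.Hom.comp_apply, hu]; rfl⟩
    · obtain ⟨_, ⟨u, rfl⟩, hu⟩ := Set.not_subset.1 hx
      exact ⟨V, fun z hz ⟨u', hu'⟩ => hu (by rw [Subsingleton.elim u u', hu']; exact hz), V.2, hyV⟩
  haveI : IsPreimmersion (G.e ≫ G.s) := by rw [G.e_s]; infer_instance
  haveI : IsImmersion G.e := by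
    haveI : IsImmersion (G.e ≫ G.s) := by rw [G.e_s]; infer_instance
    exact IsImmersion.of_comp G.e G.s
  haveI : IsClosedImmersion G.e := IsClosedImmersion.of_isPreimmersion _ hec
  haveI : IsSeparated G.s := ⟨MorphismProperty.of_isPullback hpb.flip inferInstance⟩
  refine ⟨?_⟩
  rw [← terminal.comp_from G.s]
  infer_instance

end Groth.Agent.S7453
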