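import Groth.Statements.S7454
import Groth.Agent.FinGrpdLib.FieldChar0
-- import your own Groth.Agent.* helpers here

set_option autoImplicit false
set_option backward.isDefEq.respectTransparency false
universe u
open CategoryTheory CategoryTheory.Limits AlgebraicGeometry
open Grpd
open Groth.Agent Groth.Agent.FinGrpdLib

namespace Groth.Agent.S7454

/-- Let (U, R, s, t, c) be a groupoid scheme over S with U the spectrum of a field of characteristic
zero and s, t locally of finite type. Then s and t are smooth. (A groupoid scheme carries U, R, s,
t, c, e, i over S with the groupoid axioms on T-points; c is defined on the fibre product of s and t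
and sends a pair (a, b) with s(a) = t(b) to a composed with b.) -/
theorem result (S : Scheme.{u}) (G : Grpd.GroupoidScheme S) (k : Type u) [Field k] [CharZero k] (eU : G.U ≅ Spec (CommRingCat.of k)) [LocallyOfFiniteType G.s] [LocallyOfFiniteType G.t] : Smooth G.s ∧ Smooth G.t := by
  obtain ⟨_, _⟩ := point_props eU
  haveI : IsLocallyNoetherian G.U := LocallyOfFiniteType.isLocallyNoetherian eU.hom
  haveI : LocallyOfFinitePresentation G.t := inferInstance
  haveI : LocallyOfFinitePresentation G.s := inferInstance
  haveI : LocallyOfFinitePresentation (G.t ≫ eU.hom) := inferInstance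
  have hne : (G.t.smoothLocus : Set G.R).Nonempty := by
    have h : G.t.smoothLocus = 𝟙 G.R ⁻¹ᵁ (G.t ≫ eU.hom).smoothLocus :=
      Groth.Agent.S2155.result (G.t ≫ eU.hom) eU.hom G.t (𝟙 G.R)
        (IsPullback.of_horiz_isIso ⟨Category.id_comp _⟩) (Or.inr inferInstance)
    obtain ⟨x, hx⟩ := FinGrpdLib.smoothLocus_nonempty G eU
    exact ⟨x, h.symm ▸ hx⟩
  exact smooth_of_smoothLocus G hne

end Groth.Agent.S7454
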