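import Groth.Statements.S7458
import Groth.Agent.GrpSchLib.Basic
-- import your own Groth.Agent.* helpers here

set_option autoImplicit false
universe u
open CategoryTheory MonoidalCategory CartesianMonoidalCategory MonObj GrpObj AlgebraicGeometry
open GrpSch

namespace Groth.Agent.S7458

/-- For a group scheme G over a scheme S, a scheme T flat over S and a morphism ψ : T -> G over S, the
map T x_S G -> G sending (t, g) to the product ψ(t)·g is a flat morphism; taking T = G and ψ the
identity, the multiplication G x_S G -> G is flat whenever G is flat over S. -/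
theorem result (S : Scheme.{u}) (G : Over S) [GrpObj G] : (∀ (T : Over S) (ψ : T ⟶ G), Flat T.hom → Flat (ψ ▷ G ≫ μ[G]).left) ∧ (Flat G.hom → Flat μ[G].left) := by
  refine ⟨fun T ψ h => Groth.Agent.GrpSchLib.flat_mulMap ψ h, fun h => ?_⟩
  have := Groth.Agent.GrpSchLib.flat_mulMap (𝟙 G) h
  rwa [MonoidalCategory.id_whiskerRight, Category.id_comp] at this

end Groth.Agent.S7458
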