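import Groth.Statements.S7463
import Groth.Agent.FinGrpdLib.Field
-- import your own Groth.Agent.* helpers here

set_option autoImplicit false
set_option backward.isDefEq.respectTransparency false
universe u
open CategoryTheory CategoryTheory.Limits AlgebraicGeometry
open Grpd
open Groth.Agent Groth.Agent.FinGrpdLib

namespace Groth.Agent.S7463

/-- Consider a groupoid scheme (U, R, s, t, c) over S in which U is the spectrum of a field, and write Z
for the closure of the image of the morphism j = (t, s) : R -> U x_S U. Then, set-theoretically,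
pr_02 carries Z x_(pr_1,U,pr_0) Z into Z: given the morphism pr_02 from (U x_S U) x_(pr_1,U,pr_0) (U
x_S U) to U x_S U, whose components are pr_0 of the first factor and pr_1 of the second, any point
both of whose projections land in Z is mapped to a point of Z. (A groupoid scheme consists of U, R,
s, t, c, e, i over S satisfying the groupoid axioms on T-points; c is defined on the fibre product
of s and t and takes a pair (a, b) with s(a) = t(b) to the composite of a with b.) -/
theorem result (S : Scheme.{u}) (G : Grpd.GroupoidScheme S) (k : Type u) [Field k] (eU : G.U ≅ Spec (CommRingCat.of k)) (pr02 : pullback (pullback.snd G.pU G.pU) (pullback.fst G.pU G.pU) ⟶ pullback G.pU G.pU) (h0 : pr02 ≫ pullback.fst G.pU G.pU = pullback.fst (pullback.snd G.pU G.pU) (pullback.fst G.pU G.pU) ≫ pullback.fst G.pU G.pU) (h1 : pr02 ≫ pullback.snd G.pU G.pU = pullback.snd (pullback.snd G.pU G.pU) (pullback.fst G.pU G.pU) ≫ pullback.snd G.pU G.pU) (p : ↑(pullback (pullback.snd G.pU G.pU) (pullback.fst G.pU G.pU))) (h₁ : pullback.fst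 (pullback.snd G.pU G.pU) (pullback.fst G.pU G.pU) p ∈ closure (Set.range ⇑G.j)) (h₂ : pullback.snd (pullback.snd G.pU G.pU) (pullback.fst G.pU G.pU) p ∈ closure (Set.range ⇑G.j)) : pr02 p ∈ closure (Set.range ⇑G.j) := by
  obtain ⟨_, _⟩ := point_props eU
  refine map_mem_closure pr02.continuous (mem_closure_inter (IsPullback.of_hasPullback _ _) p h₁ h₂) ?_
  rintro x ⟨⟨r₁, e₁⟩, ⟨r₂, e₂⟩⟩
  let P₁ := pullback.fst (pullback.snd G.pU G.pU) (pullback.fst G.pU G.pU)
  let P₂ := pullback.snd (pullback.snd G.pU G.pU) (pullback.fst G.pU G.pU)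
  obtain ⟨w, hw, -⟩ := Scheme.Pullback.exists_preimage_pullback (f := P₁) (g := G.j) x r₁ e₁.symm
  let π := pullback.fst P₁ G.j
  obtain ⟨v, hv, -⟩ := Scheme.Pullback.exists_preimage_pullback (f := π ≫ P₂) (g := G.j) w r₂
    (by rw [Scheme.Hom.comp_apply, hw]; exact e₂.symm)
  let π' := pullback.fst (π ≫ P₂) G.j
  let α := π' ≫ pullback.snd P₁ G.j
  let β := pullback.snd (π ≫ P₂) G.j
  have eα : α ≫ G.j = π' ≫ π ≫ P₁ := by simp only [α, π, Category.assoc, pullback.condition]
  have eβ : β ≫ G.j = π' ≫ π ≫ P₂ := pullback.condition.symm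
  have jt : G.j ≫ pullback.fst G.pU G.pU = G.t := pullback.lift_fst _ _ _
  have js : G.j ≫ pullback.snd G.pU G.pU = G.s := pullback.lift_snd _ _ _
  have h : α ≫ G.s = β ≫ G.t := by
    rw [← js, ← jt, reassoc_of% eα, reassoc_of% eβ]
    simp only [P₁, P₂, pullback.condition]
  have e : mul G α β h ≫ G.j = (π' ≫ π) ≫ pr02 := by
    apply pullback.hom_ext
    · rw [Category.assoc, jt, mul_t, ← jt, reassoc_of% eα, Category.assoc, Category.assoc, h0]
    · rw [Category.assoc, js, mul_s, ← js, reassoc_of% eβ, Category.assoc, Category.assoc, h1]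
  exact ⟨mul G α β h v, by rw [← Scheme.Hom.comp_apply, e, Scheme.Hom.comp_apply, Scheme.Hom.comp_apply, hv, hw]⟩

end Groth.Agent.S7463
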