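import Groth.Statements.S7476
import Groth.Agent.HTopV.Quot
-- import your own Groth.Agent.* helpers here

set_option autoImplicit false
universe w u
open HTop

namespace Groth.Agent.S7476

open CategoryTheory CategoryTheory.Limits AlgebraicGeometry in
/-- Let f : X -> Y be a quasi-compact morphism of schemes. Then the one-member family of f is a V
covering if and only if every morphism from the spectrum of a valuation ring to Y lifts to X after
an extension of valuation rings; and the latter holds if and only if for every morphism Z -> Y and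
every specialization z' ⤳ z of points of Z there is a specialization w' ⤳ w of points of Z x_Y X
mapping to z' ⤳ z. -/
theorem result {X Y : Scheme.{u}} (f : X ⟶ Y) [QuasiCompact f] : (HTop.IsVCover (PreZeroHypercover.singleton f) ↔ HTop.HasValLift (PreZeroHypercover.singleton f)) ∧ (HTop.HasValLift (PreZeroHypercover.singleton f) ↔ ∀ (Z : Scheme.{u}) (g : Z ⟶ Y) (z' z : Z), z' ⤳ z → ∃ w' w : ↑(pullback g f), w' ⤳ w ∧ pullback.fst g f w' = z' ∧ pullback.fst g f w = z) := by
  refine ⟨⟨fun h V _ _ g => ?_, fun h => Groth.Agent.HTopV.isVCover_of_hasValLift _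
    (fun _ => show QuasiCompact f from inferInstance) fun V _ _ g => ?_⟩, fun h Z g z' z hz => ?_, fun h => ?_⟩
  · obtain ⟨W, hd, hv, φ, hφ, i, l, hl⟩ := h.hasValLift' V g
    exact ⟨W, hd, hv, φ, hφ, PUnit.unit, l, hl⟩
  · obtain ⟨W, hd, hv, φ, hφ, i, l, hl⟩ := h V g
    exact ⟨W, hd, hv, φ, hφ, PUnit.unit, l, hl⟩
  · obtain ⟨V, hd, hv, l, hl, hl'⟩ := Groth.Agent.HTopV.exists_valuationRing_of_specializes hz
    obtain ⟨W, hd', hv', φ, hφ, i, l', hl''⟩ := h V (l ≫ g)
    have hc : (Spec.map φ ≫ l) ≫ g = l' ≫ f := by rw [Category.assoc]; exact hl''.symm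
    have hfst : ∀ x, pullback.fst g f (pullback.lift (Spec.map φ ≫ l) l' hc x) =
        l (Spec.map φ x) := fun x =>
      congrArg (fun m => m x) (pullback.lift_fst _ _ hc)
    refine ⟨pullback.lift (Spec.map φ ≫ l) l' hc (Groth.Agent.HTopV.genPt W),
      pullback.lift (Spec.map φ ≫ l) l' hc (IsLocalRing.closedPoint W),
      (Groth.Agent.HTopV.genPt_specializes W _).map (pullback.lift _ l' hc).continuous, ?_, ?_⟩
    · rw [hfst, ← hl']
      exact congrArg l (PrimeSpectrum.ext (Ideal.comap_bot_of_injective _ hφ.1))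
    · haveI := hφ.2
      rw [hfst, Spec_closedPoint, hl]
  · refine Groth.Agent.HTopV.hasValLift_of_specializes _ fun V _ _ g => ?_
    obtain ⟨w', w, hw, h1, h2⟩ := h (Spec V) g _ _
      (Groth.Agent.HTopV.genPt_specializes V (IsLocalRing.closedPoint V))
    exact ⟨PUnit.unit, w', w, hw, h2, h1⟩

end Groth.Agent.S7476
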