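import Groth.Statements.S7484
import Groth.Agent.SchDesc.Finite

set_option autoImplicit false
set_option linter.style.haveILetI false
open CategoryTheory CategoryTheory.Limits AlgebraicGeometry
universe u
open Desc

namespace Groth.Agent.S7484

/-- Let p : X -> Y be a surjective finite locally free morphism and d a positive integer such that for
every algebraically closed field k and every k-point of Y there are at most d k-points of X over it.
Let V be a scheme over X such that any d points of V (not necessarily distinct) lying over one point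
of Y are contained in an affine open of V. Then every descent datum on V relative to p is effective.
(Descent data are taken in functor-of-points form.) -/
theorem result {X Y : Scheme.{u}} (p : X ⟶ Y) [Surjective p] [IsFinite p] [Flat p] [LocallyOfFinitePresentation p] (d : ℕ) (hd : 0 < d) (hfib : ∀ (k : Type u) [Field k] [IsAlgClosed k] (y : Spec (CommRingCat.of k) ⟶ Y), Set.encard {x : Spec (CommRingCat.of k) ⟶ X | x ≫ p = y} ≤ d) (D : Desc.SchDD p) (hV : ∀ (y : Y) (v : Fin d → ↑(D.obj.left)), (∀ i, p (D.obj.hom (v i)) = y) → ∃ U : D.obj.left.Opens, IsAffineOpen U ∧ ∀ i, v i ∈ U) : ∃ W : Over Y, Nonempty ((Desc.toDD p).obj W ≅ D) := by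
  classical
  obtain ⟨Q⟩ := Groth.Agent.SchDesc.quot_of_affine_orbits D fun v => by
    let f := pullback.fst (D.obj.hom ≫ p) p
    haveI : IsFinite f := MorphismProperty.pullback_fst (P := @IsFinite) _ _ ‹_›
    let K := AlgebraicClosure (D.obj.left.residueField v)
    let pt : Spec (CommRingCat.of K) ⟶ D.obj.left :=
      Spec.map (CommRingCat.ofHom (algebraMap (D.obj.left.residueField v) K)) ≫ D.obj.left.fromSpecResidueField v
    have hpt : ∀ a, pt a = v := fun a => by
      rw [Scheme.Hom.comp_apply, Scheme.fromSpecResidueField_apply]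
    let G := {x : Spec (CommRingCat.of K) ⟶ X | x ≫ p = pt ≫ D.obj.hom ≫ p}
    let a₀ : ↥(Spec (CommRingCat.of K)) := default
    let σ : G → ↥(pullback (D.obj.hom ≫ p) p) := fun x => pullback.lift pt x.1 x.2.symm a₀
    have hσ : f ⁻¹' {v} ⊆ Set.range σ := fun t (ht : f t = v) => by
      obtain ⟨z, -, hz⟩ := Scheme.Pullback.exists_preimage_pullback (f := pt) (g := f) a₀ t (by rw [hpt, ht])
      haveI : IsFinite (pullback.fst pt f) := MorphismProperty.pullback_fst (P := @IsFinite) _ _ ‹_›
      haveI : IsLocallyArtinian (pullback pt f) := .of_locallyQuasiFinite (pullback.fst pt f)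
      obtain ⟨⟨s, hs⟩, hs'⟩ := (pointEquivClosedPoint (pullback.fst pt f)).surjective
        ⟨z, show IsClosed {z} from isClosed_discrete _⟩
      have he : (s ≫ pullback.snd pt f ≫ pullback.snd (D.obj.hom ≫ p) p) ≫ p = pt ≫ D.obj.hom ≫ p :=
        calc _ = s ≫ pullback.snd pt f ≫ pullback.snd (D.obj.hom ≫ p) p ≫ p := by simp only [Category.assoc]
          _ = s ≫ pullback.snd pt f ≫ f ≫ D.obj.hom ≫ p :=
            congrArg (fun m => s ≫ pullback.snd pt f ≫ m) pullback.condition.symm
          _ = s ≫ pullback.fst pt f ≫ pt ≫ D.obj.hom ≫ p :=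
            congrArg (s ≫ ·) (pullback.condition_assoc (f := pt) (g := f) _).symm
          _ = pt ≫ D.obj.hom ≫ p := by rw [reassoc_of% hs]
      refine ⟨⟨s ≫ pullback.snd pt f ≫ pullback.snd _ _, he⟩, ?_⟩
      · show pullback.lift pt _ _ a₀ = t
        have e : pullback.lift pt (s ≫ pullback.snd pt f ≫ pullback.snd _ _) he.symm = s ≫ pullback.snd pt f := by
          apply pullback.hom_ext
          · rw [pullback.lift_fst, Category.assoc]
            show pt = s ≫ pullback.snd pt f ≫ f
            rw [← pullback.condition, reassoc_of% hs]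
          · rw [pullback.lift_snd, Category.assoc]
        rw [e, Scheme.Hom.comp_apply, ← hz]
        congr 1
        have := congrArg Subtype.val hs'
        rw [Subsingleton.elim a₀ (IsLocalRing.closedPoint K)]
        exact this
    have hfin := Groth.Agent.SchDesc.finite_orbit D v
    have hcard : hfin.toFinset.card ≤ d := by
      have h1 : (Groth.Agent.SchDesc.act D '' (f ⁻¹' {v})).encard ≤ d :=
        (Set.encard_mono (Set.image_mono hσ)).trans ((Set.encard_image_le _ _).trans
          (le_of_eq_of_le (by rw [Set.image_univ]) ((Set.encard_image_le σ Set.univ).trans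
            (le_of_eq_of_le (by rw [Set.encard_univ]; rfl) (hfib K (pt ≫ D.obj.hom ≫ p))))))
      rw [hfin.encard_eq_coe_toFinset_card] at h1
      exact_mod_cast h1
    let L := hfin.toFinset.toList
    obtain ⟨U, hU, hUs⟩ := hV (p (D.obj.hom v)) (fun i => L.getD i.1 v) fun i => by
      show p (D.obj.hom (L.getD i.1 v)) = _
      rcases lt_or_ge i.1 L.length with hi | hi
      · rw [List.getD_eq_getElem _ _ hi]
        obtain ⟨t, ht, e⟩ := hfin.mem_toFinset.mp (Finset.mem_toList.mp (List.getElem_mem hi))
        rw [← e, Groth.Agent.SchDesc.p_act, show pullback.fst (D.obj.hom ≫ p) p t = v from ht]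
      · rw [List.getD_eq_default _ _ hi]
    refine ⟨U, hU, fun t ht => ?_⟩
    obtain ⟨k, hk, e⟩ := List.mem_iff_getElem.mp
      (Finset.mem_toList.mpr (hfin.mem_toFinset.mpr ⟨t, ht, rfl⟩) : Groth.Agent.SchDesc.act D t ∈ L)
    have := hUs ⟨k, lt_of_lt_of_le hk ((Finset.length_toList _).trans_le hcard)⟩
    rwa [List.getD_eq_getElem _ _ hk, e] at this
  exact Q.effective

end Groth.Agent.S7484
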