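import Groth.Statements.S7486
import Groth.Agent.FinGrpdLib.Scheme

set_option autoImplicit false
set_option backward.isDefEq.respectTransparency false
universe u
open CategoryTheory CategoryTheory.Limits AlgebraicGeometry
open Grpd

namespace Groth.Agent.S7486

/-- Linear independence is preserved by base change. -/
theorem baseChange_inj {B B' C D : CommRingCat.{u}} {σ : B ⟶ C} {f : B ⟶ B'} {g : C ⟶ D} {f' : B' ⟶ D}
    (h : IsPushout σ f g f') {I : Type u} (v : I → C)
    (hv : letI := σ.hom.toAlgebra; ∃ b : Module.Basis I B C, ∀ i, b i = v i) (c : I →₀ B')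
    (h0 : c.sum (fun i a => f'.hom a * g.hom (v i)) = 0) : c = 0 := by
  let _ : Algebra B C := σ.hom.toAlgebra
  let _ : Algebra B B' := f.hom.toAlgebra
  let _ : Algebra B' D := f'.hom.toAlgebra
  let _ : Algebra C D := g.hom.toAlgebra
  let _ : Algebra B D := (f'.hom.comp f.hom).toAlgebra
  haveI : IsScalarTower B B' D := .of_algebraMap_eq fun _ => rfl
  haveI : IsScalarTower B C D := .of_algebraMap_eq fun b => (congrArg (fun φ => φ.hom b) h.w).symm
  haveI : Algebra.IsPushout B B' C D := CommRingCat.isPushout_iff_isPushout.1 h.flip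
  have hb : IsBaseChange B' (IsScalarTower.toAlgHom B C D).toLinearMap := Algebra.IsPushout.out
  obtain ⟨b, hbv⟩ := hv
  have h1 : Finsupp.linearCombination B' (hb.basis b) c = 0 := by
    rw [Finsupp.linearCombination_apply, ← h0]
    exact Finsupp.sum_congr fun i _ => by rw [IsBaseChange.basis_apply, hbv]; rfl
  exact (hb.basis b).linearIndependent (h1.trans (map_zero _).symm)


/-- Let (U, R, s, t, c) be a groupoid scheme over S with U = Spec A and R = Spec B affine (A, B the
rings of global functions), and let x_i, i in I, be elements of A such that B is free as an A-module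
through s^# with basis the elements t^#(x_i). Let C be the subring of R-invariant functions (those a
with s^#(a) = t^#(a)). Then the x_i form a basis of A as a C-module, and the C-linear map A (x)_C A
-> B sending a (x) a' to t^#(a) s^#(a') is bijective (B carries the C-module structure through s^#).
(A groupoid scheme carries U, R, s, t, c, e, i over S with the groupoid axioms on T-points; c is
defined on the fibre product of s and t and sends a pair (a, b) with s(a) = t(b) to a composed with
b.) -/
theorem result (S : Scheme.{u}) (G : Grpd.GroupoidScheme S) [IsAffine G.U] [IsAffine G.R] (I : Type u) (x : I → Γ(G.U, ⊤)) (hB : letI := G.s.appTop.hom.toAlgebra; ∃ b : Module.Basis I Γ(G.U, ⊤) Γ(G.R, ⊤), ∀ i, b i = G.t.appTop.hom (x i)) : (∃ b : Module.Basis I G.invariants Γ(G.U, ⊤), ∀ i, b i = x i) ∧ (letI := (G.s.appTop.hom.comp G.invariants.subtype).toAlgebra; ∀ φ : TensorProduct G.invariants Γ(G.U, ⊤) Γ(G.U, ⊤) →ₗ[G.invariants] Γ(G.R, ⊤), (∀ a a' : Γ(G.U, ⊤), φ (a ⊗ₜ[G.invariants] a') = G.t.appTop.hom a * G.s.appTop.hom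 a') → Function.Bijective φ) := by
  classical
  letI := G.s.appTop.hom.toAlgebra
  obtain ⟨b, hb⟩ := hB
  let σ := G.s.appTop.hom
  let τ := G.t.appTop.hom
  let p₁ := (pullback.fst G.s G.t).appTop.hom
  let p₂ := (pullback.snd G.s G.t).appTop.hom
  let γ := G.c.appTop.hom
  let ε := G.e.appTop.hom
  have hεσ : ∀ a, ε (σ a) = a := fun a => by
    have := congrArg (fun k : G.U ⟶ G.U => k.appTop.hom a) G.e_s
    simpa using this
  have hετ : ∀ a, ε (τ a) = a := fun a => by
    have := congrArg (fun k : G.U ⟶ G.U => k.appTop.hom a) G.e_t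
    simpa using this
  have hR : ∀ z, (b.repr z).sum (fun i a => σ a * τ (x i)) = z := fun z => by
    conv_rhs => rw [← b.linearCombination_repr z, Finsupp.linearCombination_apply]
    exact Finsupp.sum_congr fun i _ => by rw [hb]; rfl
  have hinjB : ∀ c : I →₀ Γ(G.U, ⊤), c.sum (fun i a => σ a * τ (x i)) = 0 → c = 0 := fun c hc => by
    letI := G.s.appTop.hom.toAlgebra
    have h0 : Finsupp.linearCombination Γ(G.U, ⊤) b c = 0 := by
      rw [Finsupp.linearCombination_apply, ← hc]
      exact Finsupp.sum_congr fun i _ => by rw [hb]; rfl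
    exact b.linearIndependent (h0.trans (map_zero _).symm)
  have hinjD : ∀ c : I →₀ Γ(G.R, ⊤), c.sum (fun i a => p₂ a * p₁ (τ (x i))) = 0 → c = 0 :=
    baseChange_inj (FinGrpdLib.left_isPushout G) (fun i => τ (x i)) ⟨b, hb⟩
  have hinv : ∀ a i, b.repr (τ a) i ∈ G.invariants := fun a i => by
    let c := b.repr (τ a)
    have h1 := congrArg γ (hR (τ a))
    have h2 := congrArg p₁ (hR (τ a))
    simp only [map_finsuppSum, map_mul] at h1 h2
    have hγσ : ∀ a, γ (σ a) = p₂ (σ a) := fun a => FinGrpdLib.appTop_eq (FinGrpdLib.c_s G) a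
    have hγτ : ∀ a, γ (τ a) = p₁ (τ a) := fun a => FinGrpdLib.appTop_eq (FinGrpdLib.c_t G) a
    have hp : ∀ a, p₁ (σ a) = p₂ (τ a) := fun a => FinGrpdLib.appTop_eq pullback.condition a
    simp only [hγσ, hγτ, hp] at h1 h2
    have := hinjD (c.mapRange (fun a => σ a - τ a) (by simp)) (by
      rw [Finsupp.sum_mapRange_index (fun i => by rw [map_zero, zero_mul])]
      simp only [map_sub, sub_mul, Finsupp.sum_sub]
      rw [h1, h2, sub_self])
    exact sub_eq_zero.1 (DFunLike.congr_fun this i)
  let cA : Γ(G.U, ⊤) → I →₀ G.invariants := fun a =>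
    Finsupp.onFinset (b.repr (τ a)).support (fun i => ⟨b.repr (τ a) i, hinv a i⟩)
      (fun i hi => Finsupp.mem_support_iff.2 fun h => hi (Subtype.ext h))
  have hspan : ∀ a, Finsupp.linearCombination G.invariants x (cA a) = a := fun a => by
    conv_rhs => rw [← hετ a, ← hR (τ a), map_finsuppSum]
    rw [Finsupp.linearCombination_apply]
    refine (Finsupp.onFinset_sum (g := fun i (c : G.invariants) => c • x i) _ (fun i => zero_smul _ _)).trans ?_
    exact Finset.sum_congr rfl fun i _ => by simp only [map_mul, hεσ, hετ]; rfl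
  have hli : LinearIndependent G.invariants x := by
    rw [linearIndependent_iff]
    intro c hc
    have := hinjB (c.mapRange Subtype.val rfl) (by
      rw [Finsupp.sum_mapRange_index (fun i => by rw [map_zero, zero_mul]), ← map_zero τ, ← hc,
        Finsupp.linearCombination_apply, map_finsuppSum]
      refine Finsupp.sum_congr fun i _ => ?_
      change σ (c i : Γ(G.U, ⊤)) * τ (x i) = τ ((c i : Γ(G.U, ⊤)) * x i)
      rw [map_mul, ← show σ (c i : Γ(G.U, ⊤)) = τ (c i : Γ(G.U, ⊤)) from (c i).2])
    ext i
    exact DFunLike.congr_fun this i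
  let bA : Module.Basis I G.invariants Γ(G.U, ⊤) := Module.Basis.mk hli fun a _ => by
    rw [← hspan a, Finsupp.linearCombination_apply]
    exact Submodule.sum_mem _ fun i _ => Submodule.smul_mem _ _ (Submodule.subset_span ⟨i, rfl⟩)
  refine ⟨⟨bA, fun i => Module.Basis.mk_apply _ _ i⟩, ?_⟩
  letI := (G.s.appTop.hom.comp G.invariants.subtype).toAlgebra
  intro φ hφ
  have key : ∀ z : TensorProduct G.invariants Γ(G.U, ⊤) Γ(G.U, ⊤), ∃ c : I →₀ Γ(G.U, ⊤),
      z = c.sum fun i a => TensorProduct.tmul G.invariants (bA i) a := fun z => by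
    obtain ⟨c, hc⟩ := TensorProduct.eq_repr_basis_left bA z
    exact ⟨c, hc.symm⟩
  have hφc : ∀ c : I →₀ Γ(G.U, ⊤), φ (c.sum fun i a => TensorProduct.tmul G.invariants (bA i) a) =
      c.sum fun i a => σ a * τ (x i) := fun c => by
    rw [map_finsuppSum]
    exact Finsupp.sum_congr fun i _ => by rw [hφ, Module.Basis.mk_apply, mul_comm]
  constructor
  · rw [injective_iff_map_eq_zero]
    intro z hz
    obtain ⟨c, rfl⟩ := key z
    rw [hφc] at hz
    simp [hinjB c hz]
  · intro z
    exact ⟨_, (hφc (b.repr z)).trans (hR z)⟩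

end Groth.Agent.S7486
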