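import Groth.Statements.S7487
import Groth.Agent.FinGrpdLib.Points

set_option autoImplicit false
set_option backward.isDefEq.respectTransparency false
set_option maxHeartbeats 1600000
universe u
open CategoryTheory CategoryTheory.Limits AlgebraicGeometry
open Grpd

open scoped TensorProduct

namespace Groth.Agent.S7487

theorem line_eq {R : Type u} [CommRing R] {ι : Type} [Fintype ι] (x m F : R) (a c : ι → R)
    (h : ∑ i, a i * c i = F * m) : x * m + ∑ i, -a i * c i = x * m - F * m := by
  simp only [neg_mul, Finset.sum_neg_distrib, h, sub_eq_add_neg]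

/-- A polynomial with coefficients killing `σ - τ` descends to the equalizer. -/
theorem exists_map_eq {B C : Type u} [CommRing B] [CommRing C] {ι : Type*} (σ τ : B →+* C) (D : MvPolynomial ι B)
    (h : MvPolynomial.map σ D = MvPolynomial.map τ D) :
    ∃ D₀ : MvPolynomial ι (RingHom.eqLocus σ τ), MvPolynomial.map (RingHom.eqLocus σ τ).subtype D₀ = D :=
  (RingHom.mem_range.1 (MvPolynomial.mem_range_map_iff_coeffs_subset.2 (fun x hx => by
    obtain ⟨m, -, rfl⟩ := MvPolynomial.mem_coeffs_iff.1 hx
    have := congrArg (MvPolynomial.coeff m) h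
    rw [MvPolynomial.coeff_map, MvPolynomial.coeff_map] at this
    exact ⟨⟨_, this⟩, rfl⟩)))

theorem rankPoly_map {A R : Type u} [CommRing A] [CommRing R] {n : ℕ} (E : Matrix (Fin n) (Fin n) A)
    (φ : Polynomial A →+* R) :
    φ (Matrix.det ((Polynomial.X : Polynomial A) • E.map Polynomial.C + (1 - E.map Polynomial.C))) =
      Matrix.det (φ Polynomial.X • E.map (φ.comp Polynomial.C) + (1 - E.map (φ.comp Polynomial.C))) := by
  rw [RingHom.map_det]
  congr 1
  refine Matrix.ext fun i j => ?_
  simp only [RingHom.mapMatrix_apply, Matrix.map_apply, Matrix.add_apply, Matrix.sub_apply, Matrix.smul_apply,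
    smul_eq_mul, map_add, map_sub, map_mul, Matrix.one_apply, apply_ite φ, map_one, map_zero, RingHom.comp_apply]

/-- The rank polynomial of an idempotent matrix. -/
theorem rankPoly_mul {A : Type u} [CommRing A] {n : ℕ} (E : Matrix (Fin n) (Fin n) A) (hE : E * E = E) :
    let Q := Matrix.det ((Polynomial.X : Polynomial A) • E.map Polynomial.C + (1 - E.map Polynomial.C))
    ∀ r k, Polynomial.C (Q.coeff r) * Q ^ k = Polynomial.C (Q.coeff r) * Polynomial.X ^ (r * k) := by
  intro Q
  have hev : ∀ {R : Type u} [CommRing R] (φ : Polynomial A →+* R),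
      φ Q = Matrix.det (φ Polynomial.X • E.map (φ.comp Polynomial.C) + (1 - E.map (φ.comp Polynomial.C))) :=
    fun φ => rankPoly_map E φ
  have hprod : ∀ {R : Type u} [CommRing R] (M : Matrix (Fin n) (Fin n) R) (hM : M * M = M) (a b : R),
      Matrix.det (a • M + (1 - M)) * Matrix.det (b • M + (1 - M)) = Matrix.det ((a * b) • M + (1 - M)) := by
    intro R _ M hM a b
    rw [← Matrix.det_mul]
    congr 1
    simp only [Matrix.add_mul, Matrix.mul_add, Matrix.smul_mul, Matrix.mul_smul, hM, Matrix.sub_mul, Matrix.mul_sub,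
      Matrix.one_mul, Matrix.mul_one, sub_self, smul_zero, smul_smul, add_zero, zero_add, sub_zero]
    rw [mul_comm a b]
    abel
  let φ₁ : Polynomial A →+* Polynomial (Polynomial A) := Polynomial.C
  let φ₂ : Polynomial A →+* Polynomial (Polynomial A) := Polynomial.mapRingHom Polynomial.C
  let φ₃ : Polynomial A →+* Polynomial (Polynomial A) :=
    Polynomial.eval₂RingHom (Polynomial.C.comp Polynomial.C) (Polynomial.C Polynomial.X * Polynomial.X)
  have hC₂ : φ₂.comp Polynomial.C = Polynomial.C.comp Polynomial.C := RingHom.ext fun a => by simp [φ₂]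
  have hC₃ : φ₃.comp Polynomial.C = Polynomial.C.comp Polynomial.C := RingHom.ext fun a => by simp [φ₃]
  have key : φ₁ Q * φ₂ Q = φ₃ Q := by
    rw [hev φ₁, hev φ₂, hev φ₃, hC₂, hC₃]
    have hM : E.map (φ₁.comp Polynomial.C) * E.map (φ₁.comp Polynomial.C) = E.map (φ₁.comp Polynomial.C) := by
      rw [← Matrix.map_mul, hE]
    convert hprod _ hM (φ₁ Polynomial.X) (φ₂ Polynomial.X) using 4 <;> simp [φ₁, φ₂, φ₃]
  have h1 : ∀ r, Polynomial.C (Q.coeff r) * Q = Polynomial.C (Q.coeff r) * Polynomial.X ^ r := by
    intro r
    have h := congrArg (fun p => Polynomial.coeff p r) key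
    simp only [φ₁, φ₂, Polynomial.coeff_C_mul, Polynomial.coe_mapRingHom, Polynomial.coeff_map] at h
    rw [mul_comm, h]
    simp only [φ₃, Polynomial.coe_eval₂RingHom, Polynomial.eval₂_eq_sum, Polynomial.sum_def, Polynomial.finsetSum_coeff,
      RingHom.comp_apply, mul_pow, ← map_pow, ← mul_assoc, ← map_mul, Polynomial.coeff_C_mul_X_pow]
    rw [Finset.sum_ite_eq]
    split_ifs with hr
    · rfl
    · rw [Polynomial.notMem_support_iff.1 hr, map_zero, zero_mul]
  intro r k
  induction k with
  | zero => simp
  | succ k ih =>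
    rw [pow_succ, ← mul_assoc, ih, mul_comm (Polynomial.C (Q.coeff r)) (Polynomial.X ^ (r * k)), mul_assoc, h1,
      mul_left_comm, ← pow_add, Nat.mul_succ]


/-- Let (U, R, s, t, c) be a groupoid scheme over S with U = Spec A and R = Spec B affine and s, t
finite locally free; let C be the subring of R-invariant functions of A and C -> C' a ring map. Put
A' = A (x)_C C' and B' = B (x)_C C' (B a C-algebra through s^#) and let C^1 be the subring of A'
where the two maps s^# (x) 1, t^# (x) 1 : A' -> B' agree; the structure map C' -> A' lands in C^1,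
giving φ : C' -> C^1. Then: (a) for every f in C^1 there are n > 0 and a polynomial P over C' whose
image in A'[x] is (x - f)^n; (b) every element of the kernel of φ is nilpotent; (c) if C -> C' is
flat then φ is bijective, that is C' -> A' is injective with image C^1. (The published statement
also asserts that the base change is again a groupoid scheme; this row omits that clause.) (A
groupoid scheme carries U, R, s, t, c, e, i over S with the groupoid axioms on T-points; c is
defined on the fibre product of s and t and sends a pair (a, b) with s(a) = t(b) to a composed with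
b.) -/
theorem result (S : Scheme.{u}) (G : Grpd.GroupoidScheme S) [IsAffine G.U] [IsAffine G.R] [IsFinite G.s] [Flat G.s] [LocallyOfFinitePresentation G.s] [IsFinite G.t] [Flat G.t] [LocallyOfFinitePresentation G.t] (C' : Type u) [CommRing C'] [Algebra G.invariants C'] : letI : Algebra G.invariants Γ(G.R, ⊤) := (G.s.appTop.hom.comp G.invariants.subtype).toAlgebra; ∀ (sT tT : TensorProduct G.invariants Γ(G.U, ⊤) C' →ₐ[G.invariants] TensorProduct G.invariants Γ(G.R, ⊤) C'), (∀ (a : Γ(G.U, ⊤)) (c : C'), sT (a ⊗ₜ c) = G.s.appTop.hom a ⊗ₜ c) → (∀ (a : Γ(G.U, ⊤)) (c : C'), tT (a ⊗ₜ c) = G.t.appTop.hom a ⊗ₜ c) → (∀ f : TensorProduct G.invariants Γ(G.U, ⊤) C', sT f = tT f → ∃ (n : ℕ) (P : Polynomial C'), 0 < n ∧ Polynomial.map (Algebra.TensorProduct.includeRight : C' →ₐ[G.invariants] TensorProduct G.invariants Γ(G.U, ⊤) C').toRingHom P = (Polynomial.X - Polynomial.C f) ^ n) ∧ (∀ c : C', (Algebra.TensorProduct.includeRight : C' →ₐ[G.invariants] TensorProduct G.invariants Γ(G.U, ⊤) C') c = 0 → IsNilpotent c) ∧ (Module.Flat G.invariants C' → Function.Injective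 (Algebra.TensorProduct.includeRight : C' →ₐ[G.invariants] TensorProduct G.invariants Γ(G.U, ⊤) C') ∧ ∀ f : TensorProduct G.invariants Γ(G.U, ⊤) C', sT f = tT f → f ∈ Set.range (Algebra.TensorProduct.includeRight : C' →ₐ[G.invariants] TensorProduct G.invariants Γ(G.U, ⊤) C')) := by
  classical
  letI : Algebra G.invariants Γ(G.R, ⊤) := (G.s.appTop.hom.comp G.invariants.subtype).toAlgebra
  intro sT tT hsT htT
  let A := Γ(G.U, ⊤)
  let inclL : A →+* TensorProduct G.invariants A C' := Algebra.TensorProduct.includeLeftRingHom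
  let inclR : C' →ₐ[G.invariants] TensorProduct G.invariants A C' := Algebra.TensorProduct.includeRight
  let E := FinGrpdLib.toData G
  refine ⟨fun f hf => ?_, fun c hc => ?_, fun hflat => ?_⟩
  · obtain ⟨n, v, l, hl, hv⟩ := FinGrpdLib.exists_coords E.σ E.finite E.flat E.finitePresentation
    let M₁ := FinGrpdLib.mat v l (1 : Γ(G.R, ⊤))
    have hM₁ : M₁ * M₁ = M₁ := by rw [← FinGrpdLib.mat_mul hl hv, one_mul]
    let Q := Matrix.det ((Polynomial.X : Polynomial A) • M₁.map Polynomial.C + (1 - M₁.map Polynomial.C))
    have hQ : ∀ r, Q.coeff r ∈ G.invariants := fun r => by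
      have h := FinGrpdLib.det_eq E hl hv (Polynomial.C : Γ(G.R, ⊤) →+* Polynomial Γ(G.R, ⊤)) (ι := Unit)
        (fun _ => Polynomial.X) (fun _ => 1)
      simp only [Finset.univ_unique, Finset.sum_singleton, map_one] at h
      have hmap : ∀ g : A →+* Γ(G.R, ⊤), Q.map g = Matrix.det ((Polynomial.X : Polynomial Γ(G.R, ⊤)) •
          M₁.map (Polynomial.C.comp g) + (1 - M₁.map (Polynomial.C.comp g))) := fun g => by
        rw [← Polynomial.coe_mapRingHom, rankPoly_map, Polynomial.coe_mapRingHom, Polynomial.map_X]
        rw [show (Polynomial.mapRingHom g).comp Polynomial.C = Polynomial.C.comp g from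
          RingHom.ext fun a => by simp]
      have h' := congrArg (fun p => Polynomial.coeff p r) ((hmap E.σ).trans (h.symm.trans (hmap E.τ).symm))
      simp only [Polynomial.coeff_map] at h'
      exact h'
    have hQk := rankPoly_mul M₁ hM₁
    have h0 : Q.coeff 0 = 0 := by
      have hdet : Q.coeff 0 = Matrix.det (1 - M₁) := by
        rw [Polynomial.coeff_zero_eq_eval_zero, ← Polynomial.coe_evalRingHom, rankPoly_map,
          show (Polynomial.evalRingHom (0 : A)).comp Polynomial.C = RingHom.id A from RingHom.ext fun a => by simp]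
        simp only [Polynomial.coe_evalRingHom, Polynomial.eval_X, zero_smul, zero_add]
        rfl
      have hzE : Q.coeff 0 • M₁ = 0 := by
        rw [hdet]
        calc Matrix.det (1 - M₁) • M₁ = (Matrix.det (1 - M₁) • (1 : Matrix (Fin n) (Fin n) A)) * M₁ := by
              rw [Matrix.smul_mul, Matrix.one_mul]
          _ = (Matrix.adjugate (1 - M₁) * (1 - M₁)) * M₁ := by rw [Matrix.adjugate_mul]
          _ = 0 := by rw [Matrix.mul_assoc, Matrix.sub_mul, Matrix.one_mul, hM₁, sub_self, Matrix.mul_zero]
      have hl0 : ∀ i, Q.coeff 0 * l i 1 = 0 := fun i => by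
        conv_lhs => rw [← hv 1, map_sum, Finset.mul_sum]
        refine Finset.sum_eq_zero fun j _ => ?_
        rw [hl, mul_left_comm]
        have := congrFun (congrFun hzE i) j
        simp only [M₁, FinGrpdLib.mat, Matrix.smul_apply, Matrix.of_apply, one_mul, smul_eq_mul, Matrix.zero_apply] at this
        rw [this, mul_zero]
      have h1 : E.σ (Q.coeff 0) = 0 := by
        rw [← mul_one (E.σ (Q.coeff 0)), ← hv 1, Finset.mul_sum]
        exact Finset.sum_eq_zero fun i _ => by rw [← mul_assoc, ← map_mul, hl0, map_zero, zero_mul]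
      rw [← E.hεσ (Q.coeff 0), h1, map_zero]
    have hsum : ∑ r ∈ Finset.range (Q.natDegree + 1), Q.coeff r = 1 := by
      have : Q.eval 1 = 1 := by
        rw [← Polynomial.coe_evalRingHom, rankPoly_map,
          show (Polynomial.evalRingHom (1 : A)).comp Polynomial.C = RingHom.id A from RingHom.ext fun a => by simp]
        simp only [Polynomial.coe_evalRingHom, Polynomial.eval_X, one_smul, add_sub_cancel, Matrix.det_one]
      rw [Polynomial.eval_eq_sum_range] at this
      simpa using this
    obtain ⟨k, b, t, rfl⟩ : ∃ (k : ℕ) (b : Fin k → A) (t : Fin k → C'), f = ∑ m, b m ⊗ₜ[G.invariants] t m := by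
      obtain ⟨T, hT⟩ := TensorProduct.exists_finset f
      refine ⟨T.card, fun i => (T.equivFin.symm i).1.1, fun i => (T.equivFin.symm i).1.2, ?_⟩
      rw [hT, ← Finset.sum_coe_sort T, ← T.equivFin.symm.sum_comp]
    set f := ∑ m, b m ⊗ₜ[G.invariants] t m with hfdef
    let bo : Option (Fin k) → A := fun o => o.elim 1 b
    let D : MvPolynomial (Option (Fin k)) A := Matrix.det (∑ o, (MvPolynomial.X o : MvPolynomial (Option (Fin k)) A) •
      (FinGrpdLib.mat v l (E.τ (bo o))).map (MvPolynomial.C : A →+* MvPolynomial (Option (Fin k)) A) + (1 - M₁.map (MvPolynomial.C : A →+* MvPolynomial (Option (Fin k)) A)))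
    have hD : ∀ {R : Type u} [CommRing R] (φ : MvPolynomial (Option (Fin k)) A →+* R), φ D =
        Matrix.det (∑ o, φ (MvPolynomial.X o) • (FinGrpdLib.mat v l (E.τ (bo o))).map (φ.comp MvPolynomial.C) +
          (1 - M₁.map (φ.comp MvPolynomial.C))) := by
      intro R _ φ
      rw [RingHom.map_det]
      congr 1
      ext i j
      simp [Matrix.sum_apply, Matrix.one_apply, apply_ite φ]
    have hD' : ∀ {R : Type u} [CommRing R] (φ : MvPolynomial (Option (Fin k)) A →+* R) (c : Option (Fin k) → R)
        (g : A →+* R), (∀ o, φ (MvPolynomial.X o) = c o) → (∀ a, φ (MvPolynomial.C a) = g a) → φ D =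
        Matrix.det (∑ o, c o • (FinGrpdLib.mat v l (E.τ (bo o))).map g + (1 - M₁.map g)) := by
      intro R _ φ c g hc hg
      obtain rfl : φ.comp MvPolynomial.C = g := RingHom.ext hg
      obtain rfl : (fun o => φ (MvPolynomial.X o)) = c := funext hc
      exact hD φ
    obtain ⟨D₀, hD₀⟩ := exists_map_eq G.s.appTop.hom G.t.appTop.hom D (by
      change MvPolynomial.map E.σ D = MvPolynomial.map E.τ D
      rw [hD' (MvPolynomial.map E.σ) MvPolynomial.X (MvPolynomial.C.comp E.σ) (fun o => MvPolynomial.map_X _ o)
          (fun a => MvPolynomial.map_C _ a),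
        hD' (MvPolynomial.map E.τ) MvPolynomial.X (MvPolynomial.C.comp E.τ) (fun o => MvPolynomial.map_X _ o)
          (fun a => MvPolynomial.map_C _ a)]
      exact (FinGrpdLib.det_eq E hl hv (MvPolynomial.C : Γ(G.R, ⊤) →+* MvPolynomial (Option (Fin k)) Γ(G.R, ⊤)) MvPolynomial.X bo).symm)
    let w₀ : Option (Fin k) → Polynomial C' := fun o => o.elim Polynomial.X fun m => -Polynomial.C (t m)
    let P₁ : Polynomial C' := MvPolynomial.eval₂Hom (Polynomial.C.comp (algebraMap G.invariants C')) w₀ D₀
    let lam : Polynomial (TensorProduct G.invariants A C') := Polynomial.X - Polynomial.C f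
    have hP₁ : P₁.map inclR.toRingHom = Polynomial.eval₂RingHom (Polynomial.C.comp inclL) lam Q := by
      let w : Option (Fin k) → Polynomial (TensorProduct G.invariants A C') := fun o =>
        o.elim Polynomial.X fun m => -Polynomial.C (inclR (t m))
      have e1 : P₁.map inclR.toRingHom = MvPolynomial.eval₂Hom (Polynomial.C.comp inclL) w D := by
        rw [← hD₀]
        refine (RingHom.congr_fun (MvPolynomial.ringHom_ext (f := (Polynomial.mapRingHom inclR.toRingHom).comp
            (MvPolynomial.eval₂Hom (Polynomial.C.comp (algebraMap G.invariants C')) w₀))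
          (g := (MvPolynomial.eval₂Hom (Polynomial.C.comp inclL) w).comp (MvPolynomial.map G.invariants.subtype))
          (fun a => ?_) (fun o => ?_)) D₀)
        · simp only [RingHom.comp_apply, MvPolynomial.eval₂Hom_C, MvPolynomial.map_C, Polynomial.coe_mapRingHom,
            Polynomial.map_C]
          exact congrArg Polynomial.C ((inclR.commutes a).trans rfl)
        · simp only [RingHom.comp_apply, MvPolynomial.eval₂Hom_X', MvPolynomial.map_X, Polynomial.coe_mapRingHom, w₀, w]
          cases o <;> simp
      let lA : Fin n → Γ(G.R, ⊤) →ₗ[G.invariants] A := fun i =>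
        { toFun := l i
          map_add' := map_add (l i)
          map_smul' := fun a z => by
            rw [Algebra.smul_def, RingHom.id_apply, Algebra.smul_def]
            exact hl i a z }
      let L : Fin n → TensorProduct G.invariants Γ(G.R, ⊤) C' →ₗ[G.invariants] TensorProduct G.invariants A C' :=
        fun i => (lA i).rTensor C'
      have hL : ∀ i z x, L i (sT z * x) = z * L i x := fun i z x => by
        induction z with
        | zero => simp
        | tmul a c =>
          induction x with
          | zero => simp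
          | tmul y c' =>
            rw [hsT, Algebra.TensorProduct.tmul_mul_tmul]
            change (lA i).rTensor C' _ = (a ⊗ₜ[G.invariants] c) * (lA i).rTensor C' _
            rw [LinearMap.rTensor_tmul, LinearMap.rTensor_tmul, Algebra.TensorProduct.tmul_mul_tmul]
            exact congrArg (· ⊗ₜ[G.invariants] (c * c')) (hl i a y)
          | add x x' hx hx' => simp only [mul_add, map_add, hx, hx']
        | add z z' hz hz' => simp only [map_add, add_mul, hz, hz']
      have hmat : ∀ i j, ∑ m, inclR (t m) * inclL (FinGrpdLib.mat v l (E.τ (b m)) i j) = f * inclL (M₁ i j) := by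
        intro i j
        have h1 : L i (tT f * (v j ⊗ₜ 1)) = f * inclL (M₁ i j) := by
          rw [← hf, hL]
          change f * (lA i).rTensor C' _ = _
          rw [LinearMap.rTensor_tmul]
          simp only [M₁, FinGrpdLib.mat, Matrix.of_apply, one_mul]
          rfl
        rw [← h1]
        simp only [f, map_sum, Finset.sum_mul, htT, Algebra.TensorProduct.tmul_mul_tmul, mul_one]
        refine Finset.sum_congr rfl fun m _ => ?_
        change ((1 : A) ⊗ₜ[G.invariants] t m) * ((l i (E.τ (b m) * v j)) ⊗ₜ[G.invariants] (1 : C')) = _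
        rw [Algebra.TensorProduct.tmul_mul_tmul, one_mul, mul_one]
        rfl
      rw [e1, hD, RingHom.map_det]
      congr 1
      refine Matrix.ext fun i j => ?_
      have h3 : ∑ m, Polynomial.C (inclR (t m)) * Polynomial.C (inclL (FinGrpdLib.mat v l (E.τ (b m)) i j)) =
          Polynomial.C f * Polynomial.C (inclL (M₁ i j)) := by
        rw [← map_mul, ← hmat i j, map_sum]
        exact Finset.sum_congr rfl fun m _ => (map_mul _ _ _).symm
      simp only [Matrix.add_apply, Matrix.sub_apply, Matrix.sum_apply, Matrix.smul_apply, Matrix.map_apply,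
        RingHom.mapMatrix_apply, smul_eq_mul, map_add, map_sub, map_mul, MvPolynomial.eval₂Hom_X', RingHom.comp_apply,
        MvPolynomial.eval₂Hom_C, Polynomial.coe_eval₂RingHom, Polynomial.eval₂_X, Polynomial.eval₂_C, Fintype.sum_option,
        Polynomial.eval₂_add, Polynomial.eval₂_sub, Polynomial.eval₂_mul, w, bo, Option.elim_none, Option.elim_some,
        map_one, lam, sub_mul]
      have hC2 : ∀ a : A, Polynomial.eval₂ (Polynomial.C.comp inclL) (Polynomial.X - Polynomial.C f) (Polynomial.C a) = Polynomial.C (inclL a) :=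
        fun a => Polynomial.eval₂_C _ _
      erw [hC2]
      congr 1
      dsimp only [M₁] at h3 ⊢
      exact line_eq _ _ _ _ _ h3
    let N := (Q.natDegree + 1).factorial
    refine ⟨N, ∑ r ∈ Finset.range (Q.natDegree + 1),
      Polynomial.C (algebraMap G.invariants C' ⟨Q.coeff r, hQ r⟩) * P₁ ^ (N / r), Nat.factorial_pos _, ?_⟩
    change Polynomial.map inclR.toRingHom _ = lam ^ N
    rw [Polynomial.map_sum]
    let θ := Polynomial.eval₂RingHom (Polynomial.C.comp inclL) lam
    have hterm : ∀ r ∈ Finset.range (Q.natDegree + 1),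
        Polynomial.map inclR.toRingHom (Polynomial.C (algebraMap G.invariants C' ⟨Q.coeff r, hQ r⟩) * P₁ ^ (N / r)) =
          θ (Polynomial.C (Q.coeff r)) * lam ^ N := by
      intro r hr
      rw [Polynomial.map_mul, Polynomial.map_pow, hP₁, Polynomial.map_C]
      have he : Polynomial.C (inclR.toRingHom (algebraMap G.invariants C' ⟨Q.coeff r, hQ r⟩)) = θ (Polynomial.C (Q.coeff r)) := by
        simp only [θ, Polynomial.coe_eval₂RingHom, Polynomial.eval₂_C, RingHom.comp_apply]
        exact congrArg Polynomial.C ((inclR.commutes ⟨Q.coeff r, hQ r⟩).trans rfl)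
      rw [he]
      rcases Nat.eq_zero_or_pos r with rfl | hpos
      · rw [h0, map_zero, map_zero, zero_mul, zero_mul]
      · change θ (Polynomial.C (Q.coeff r)) * θ Q ^ (N / r) = _
        rw [← map_pow, ← map_mul, hQk r (N / r), map_mul, map_pow,
          Nat.mul_div_cancel' (Nat.dvd_factorial hpos (Finset.mem_range.1 hr).le)]
        rw [show θ Polynomial.X = lam from Polynomial.eval₂_X _ _]
    rw [Finset.sum_congr rfl hterm, ← Finset.sum_mul, ← map_sum, ← map_sum, hsum, map_one, map_one, one_mul]
  · refine (nilpotent_iff_mem_prime).2 fun q hq => ?_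
    haveI := hq
    let k := AlgebraicClosure q.ResidueField
    let ψ : C' →+* k := (algebraMap q.ResidueField k).comp (algebraMap C' q.ResidueField)
    have hψ : RingHom.ker ψ = q := by
      rw [RingHom.ker_comp_of_injective _ (RingHom.injective _), Ideal.ker_algebraMap_residueField]
    obtain ⟨x, hx⟩ := FinGrpdLib.exists_lift_point G (ψ.comp (algebraMap G.invariants C'))
    let _ : Algebra G.invariants k := (ψ.comp (algebraMap G.invariants C')).toAlgebra
    let Φ := Algebra.TensorProduct.lift
      ({ x with commutes' := fun a => RingHom.congr_fun hx a } : A →ₐ[G.invariants] k)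
      ({ ψ with commutes' := fun a => rfl } : C' →ₐ[G.invariants] k) (fun _ _ => Commute.all _ _)
    have h := congrArg Φ hc
    rw [map_zero] at h
    rw [← hψ, RingHom.mem_ker]
    simpa [Φ] using h
  · have hinj : Function.Injective inclR := by
      have h' := Module.Flat.rTensor_preserves_injective_linearMap (M := C') (Algebra.linearMap G.invariants A)
        Subtype.val_injective
      intro c c' e
      have he : ∀ c, (Algebra.linearMap G.invariants A).rTensor C' ((1 : G.invariants) ⊗ₜ c) = inclR c := fun c => by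
        rw [LinearMap.rTensor_tmul, Algebra.linearMap_apply, map_one]; rfl
      have := h' ((he c).trans (e.trans (he c').symm))
      simpa using congrArg (TensorProduct.lid G.invariants C') this
    refine ⟨hinj, fun f hf => ?_⟩
    let σA : A →ₐ[G.invariants] Γ(G.R, ⊤) := { G.s.appTop.hom with commutes' := fun a => rfl }
    let τA : A →ₐ[G.invariants] Γ(G.R, ⊤) := { G.t.appTop.hom with commutes' := fun a => a.2.symm }
    have hex : Function.Exact (Algebra.linearMap G.invariants A) (σA.toLinearMap - τA.toLinearMap) := fun a => by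
      rw [LinearMap.sub_apply, sub_eq_zero]
      exact ⟨fun h => ⟨⟨a, h⟩, rfl⟩, fun ⟨a', ha'⟩ => ha' ▸ a'.2⟩
    have hex' := Module.Flat.rTensor_exact C' hex
    have hlt : ∀ (φ : A →ₐ[G.invariants] Γ(G.R, ⊤)) (Ψ : TensorProduct G.invariants A C' →ₐ[G.invariants] _),
        (∀ a c, Ψ (a ⊗ₜ c) = φ a ⊗ₜ c) → ∀ z, φ.toLinearMap.rTensor C' z = Ψ z := fun φ Ψ h z => by
      induction z with
      | zero => simp
      | tmul a c => rw [h]; rfl
      | add z z' hz hz' => simp only [map_add, hz, hz']
    obtain ⟨w, rfl⟩ := (hex' f).1 (by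
      rw [LinearMap.rTensor_sub, LinearMap.sub_apply, hlt σA sT hsT, hlt τA tT htT, hf, sub_self])
    refine ⟨TensorProduct.lid G.invariants C' w, ?_⟩
    clear hf
    induction w with
    | zero => simp
    | tmul a c =>
      rw [LinearMap.rTensor_tmul, TensorProduct.lid_tmul, map_smul, Algebra.linearMap_apply,
        Algebra.TensorProduct.includeRight_apply, TensorProduct.smul_tmul', Algebra.algebraMap_eq_smul_one]
    | add z z' hz hz' => simp only [map_add, hz, hz']

end Groth.Agent.S7487
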