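import Groth.Statements.S7488
import Groth.Agent.FinGrpdLib.Points
import Groth.Agent.GrpQuotLib.Sheaf

set_option autoImplicit false
set_option backward.isDefEq.respectTransparency false
universe u
open CategoryTheory CategoryTheory.Limits AlgebraicGeometry
open Grpd

namespace Groth.Agent.S7488

/-- Let (U, R, s, t, c) be a groupoid scheme over S with U and R affine, s and t finite locally free,
and j = (t, s) : R -> U x_S U a monomorphism. Let C be the ring of R-invariant functions on U and M
= Spec C. Then the structure morphism U -> S factors uniquely through U -> M, and for the resulting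
structure of scheme over S on M, the morphism U -> M represents the quotient sheaf U/R in the fppf
topology: it coequalizes s and t and the induced map from the coequalizer of h_R => h_U (sheaves of
sets on the big fppf site of S) to h_M is an isomorphism. (The published statement also asserts that
U -> M is finite locally free and that R = U x_M U; this row states only the quotient-sheaf clause.)
(A groupoid scheme carries U, R, s, t, c, e, i over S with the groupoid axioms on T-points; c is
defined on the fibre product of s and t and sends a pair (a, b) with s(a) = t(b) to a composed with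
b.) -/
theorem result (S : Scheme.{u}) (G : Grpd.GroupoidScheme S) [IsAffine G.U] [IsAffine G.R] [IsFinite G.s] [Flat G.s] [LocallyOfFinitePresentation G.s] [IsFinite G.t] [Flat G.t] [LocallyOfFinitePresentation G.t] [Mono G.j] : ∃! m : Spec (CommRingCat.of G.invariants) ⟶ S, ∃ h : G.toQuot ≫ m = G.pU, QuotSh.IsQuotient Scheme.fppfPrecoverage (Over.homMk G.s G.s_over : Over.mk G.pR ⟶ Over.mk G.pU) (Over.homMk G.t G.t_over : Over.mk G.pR ⟶ Over.mk G.pU) (Over.homMk G.toQuot h : Over.mk G.pU ⟶ Over.mk m) := by
  obtain ⟨⟨_, _, _⟩, hk⟩ := FinGrpdLib.toQuot_finite_flat G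
  haveI := FinGrpdLib.surjective_toQuot G
  have hw : ∀ {Z : Scheme.{u}} (g₁ g₂ : Z ⟶ G.U), g₁ ≫ G.toQuot = g₂ ≫ G.toQuot → g₁ ≫ G.pU = g₂ ≫ G.pU := by
    intro Z g₁ g₂ h
    rw [← hk.lift_fst g₁ g₂ h]
    conv_rhs => rw [← hk.lift_snd g₁ g₂ h]
    rw [Category.assoc, Category.assoc, G.t_over, G.s_over]
  let m := EffectiveEpi.desc G.toQuot G.pU hw
  have hm : G.toQuot ≫ m = G.pU := EffectiveEpi.fac G.toQuot G.pU hw
  refine ⟨m, ⟨hm, ?_⟩, fun m' ⟨h', _⟩ => by rw [← cancel_epi G.toQuot, h', hm]⟩
  let q : Over.mk G.pU ⟶ Over.mk m := Over.homMk G.toQuot hm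
  let s' : Over.mk G.pR ⟶ Over.mk G.pU := Over.homMk G.s G.s_over
  let t' : Over.mk G.pR ⟶ Over.mk G.pU := Over.homMk G.t G.t_over
  have w : s' ≫ q = t' ≫ q := Over.OverMorphism.ext (FinGrpdLib.s_toQuot G)
  have hP : IsPullback t' s' q q := IsPullback.of_map (Over.forget S) w.symm hk
  haveI : Epi (QuotSh.repMap Scheme.fppfPrecoverage (𝟙 (Over.mk G.pR))) := by
    change Epi ((GrpQuotLib.repFunctor Scheme.fppfPrecoverage S).map (𝟙 (Over.mk G.pR)))
    rw [CategoryTheory.Functor.map_id]; infer_instance
  haveI : Surjective q.left := FinGrpdLib.surjective_toQuot G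
  exact GrpQuotLib.isQuotient_of_epi _ s' t' q w hP (𝟙 _) (Category.id_comp _) (Category.id_comp _)
    (GrpQuotLib.epi_repMap_of_cover (P := @Flat ⊓ @LocallyOfFinitePresentation) q ⟨‹Flat G.toQuot›, ‹LocallyOfFinitePresentation G.toQuot›⟩) ‹_›

end Groth.Agent.S7488
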