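import Groth.Statements.S7491
import Groth.Agent.FinGrpdLib.Perfect
-- import your own Groth.Agent.* helpers here

set_option autoImplicit false
set_option backward.isDefEq.respectTransparency false
universe u
open CategoryTheory CategoryTheory.Limits AlgebraicGeometry
open Grpd
open Groth.Agent Groth.Agent.FinGrpdLib

namespace Groth.Agent.S7491

/-- Let (U, R_1, s_1, t_1, c_1) -> (U, R_2, s_2, t_2, c_2) be a morphism of groupoid schemes over S that
is an isomorphism on object schemes, where U is the spectrum of a perfect field, and let Z be the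
reduced closed subscheme of R_2 supported on the closure of a(R_1), for the arrow map a : R_1 ->
R_2. Restricting s_2, t_2 and c_2 to Z makes U and Z into a groupoid scheme over S; stated as: there
are a groupoid scheme G' over S with G'.R reduced and a morphism of groupoid schemes G' -> (U, R_2,
...) which is an isomorphism on object schemes and a closed immersion on arrow schemes with image
the closure of the image of a. (A groupoid scheme carries U, R, s, t, c, e, i over S with the
groupoid axioms on T-points; c is defined on the fibre product of s and t and sends a pair (a, b)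
with s(a) = t(b) to a composed with b.) -/
theorem result (S : Scheme.{u}) (G₁ G₂ : Grpd.GroupoidScheme S) (f : Grpd.GroupoidScheme.Hom G₁ G₂) [IsIso f.fU] (k : Type u) [Field k] [PerfectField k] (eU : G₂.U ≅ Spec (CommRingCat.of k)) : ∃ (G' : Grpd.GroupoidScheme S) (ψ : Grpd.GroupoidScheme.Hom G' G₂), IsIso ψ.fU ∧ IsClosedImmersion ψ.fR ∧ IsReduced G'.R ∧ Set.range ⇑ψ.fR = closure (Set.range ⇑f.fR) := by
  obtain ⟨_, _⟩ := point_props eU
  let C : TopologicalSpace.Closeds G₂.R := TopologicalSpace.Closeds.closure (Set.range ⇑f.fR)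
  let Z := (Scheme.IdealSheafData.vanishingIdeal C).subscheme
  let ι : Z ⟶ G₂.R := (Scheme.IdealSheafData.vanishingIdeal C).subschemeι
  haveI : IsReduced Z := DVRCrit.isReduced_vanishingIdeal C
  have hι : Set.range ⇑ι = closure (Set.range ⇑f.fR) := by
    rw [Scheme.IdealSheafData.range_subschemeι, Scheme.IdealSheafData.coe_support_vanishingIdeal]; rfl
  have hιC : ∀ z, ι z ∈ closure (Set.range ⇑f.fR) := fun z => hι ▸ ⟨z, rfl⟩
  have he : ∃ eZ : G₂.U ⟶ Z, eZ ≫ ι = G₂.e := exists_lift_reduced G₂.e C (by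
    rintro _ ⟨y, rfl⟩
    obtain ⟨y', rfl⟩ := f.fU.homeomorph.surjective y
    exact subset_closure ⟨G₁.e y', by rw [← Scheme.Hom.comp_apply, hom_e, Scheme.Hom.comp_apply]; rfl⟩)
  have hi : ∃ iZ : Z ⟶ Z, iZ ≫ ι = ι ≫ G₂.i := exists_lift_reduced (ι ≫ G₂.i) C (by
    rintro _ ⟨z, rfl⟩
    rw [Scheme.Hom.comp_apply]
    refine map_mem_closure G₂.i.continuous (hιC z) ?_
    rintro _ ⟨x, rfl⟩
    exact ⟨G₁.i x, by rw [← Scheme.Hom.comp_apply, hom_i, Scheme.Hom.comp_apply]⟩)
  have hc : ∀ {T : Scheme.{u}} (α β : T ⟶ Z) (h : (α ≫ ι) ≫ G₂.s = (β ≫ ι) ≫ G₂.t),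
      ∃ γ : T ⟶ Z, γ ≫ ι = mul G₂ (α ≫ ι) (β ≫ ι) h := by
    intro T α β h
    let p₁ := pullback.fst (ι ≫ G₂.s) (ι ≫ G₂.t)
    let p₂ := pullback.snd (ι ≫ G₂.s) (ι ≫ G₂.t)
    haveI : IsReduced (pullback (ι ≫ G₂.s) (ι ≫ G₂.t)) := isReduced_pullback eU _ _
    have hp : (p₁ ≫ ι) ≫ G₂.s = (p₂ ≫ ι) ≫ G₂.t := by simpa only [Category.assoc] using pullback.condition
    obtain ⟨cZ, hcZ⟩ := exists_lift_reduced (mul G₂ (p₁ ≫ ι) (p₂ ≫ ι) hp) C (by
      rintro _ ⟨w, rfl⟩
      exact closure_range_mul f _ _ hp w (by rw [Scheme.Hom.comp_apply]; exact hιC _)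
        (by rw [Scheme.Hom.comp_apply]; exact hιC _))
    refine ⟨pullback.lift α β (by simpa only [Category.assoc] using h) ≫ cZ, ?_⟩
    rw [Category.assoc, hcZ, comp_mul]
    exact mul_congr (by rw [pullback.lift_fst_assoc]) (by rw [pullback.lift_snd_assoc]) _
  obtain ⟨G', ψ, eR, hψU, hψR⟩ := exists_subgroupoid G₂ ι he hi hc
  refine ⟨G', ψ, hψU, hψR ▸ inferInstance, isReduced_of_isOpenImmersion eR.hom, ?_⟩
  rw [← hψR, ← hι, Scheme.Hom.comp_base, TopCat.coe_comp, Set.range_comp,
    show Set.range ⇑eR.hom = Set.univ from Set.range_eq_univ.2 eR.hom.homeomorph.surjective, Set.image_univ]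

end Groth.Agent.S7491
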