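import Groth.Statements.S7492
import Groth.Agent.FinGrpdLib.SubGrpd
-- import your own Groth.Agent.* helpers here

set_option autoImplicit false
set_option backward.isDefEq.respectTransparency false
universe u
open CategoryTheory CategoryTheory.Limits AlgebraicGeometry
open Grpd
open Groth.Agent Groth.Agent.FinGrpdLib

namespace Groth.Agent.S7492

/-- Let (U, R_1, s_1, t_1, c_1) -> (U, R_2, s_2, t_2, c_2) be a morphism of groupoid schemes over S that
is an isomorphism on object schemes, where U is the spectrum of a field, and assume a : R_1 -> R_2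
is quasi-compact. Let Z be the scheme-theoretic image of a (the closed subscheme of R_2 cut out by
the kernel ideal sheaf of a). Then (U, Z, s_2|_Z, t_2|_Z, c_2|_Z) is a groupoid scheme over S;
stated as: there are a groupoid scheme G' over S and a morphism of groupoid schemes G' -> (U, R_2,
...) which is an isomorphism on object schemes and whose arrow component is a closed immersion with
kernel ideal sheaf equal to that of a. (A groupoid scheme carries U, R, s, t, c, e, i over S with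
the groupoid axioms on T-points; c is defined on the fibre product of s and t and sends a pair (a,
b) with s(a) = t(b) to a composed with b.) -/
theorem result (S : Scheme.{u}) (G₁ G₂ : Grpd.GroupoidScheme S) (f : Grpd.GroupoidScheme.Hom G₁ G₂) [IsIso f.fU] [QuasiCompact f.fR] (k : Type u) [Field k] (eU : G₂.U ≅ Spec (CommRingCat.of k)) : ∃ (G' : Grpd.GroupoidScheme S) (ψ : Grpd.GroupoidScheme.Hom G' G₂), IsIso ψ.fU ∧ IsClosedImmersion ψ.fR ∧ ψ.fR.ker = f.fR.ker := by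
  obtain ⟨_, _⟩ := point_props eU
  let Z := f.fR.image
  let ι : Z ⟶ G₂.R := f.fR.imageι
  let τ : G₁.R ⟶ Z := f.fR.toImage
  haveI : IsSchemeTheoreticallyDominant τ := toImage_dominant f.fR
  have hτ : τ ≫ ι = f.fR := f.fR.toImage_imageι
  have hl : ∀ {D W : Scheme.{u}} (μ : D ⟶ W) [IsSchemeTheoreticallyDominant μ] (q : W ⟶ G₂.R) (m : D ⟶ G₁.R),
      μ ≫ q = m ≫ f.fR → ∃ z : W ⟶ Z, z ≫ ι = q := fun μ _ q m h => exists_lift_image f.fR μ q m h
  have he : ∃ eZ : G₂.U ⟶ Z, eZ ≫ ι = G₂.e := hl (𝟙 _) G₂.e (inv f.fU ≫ G₁.e) (by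
    rw [Category.id_comp, Category.assoc, hom_e, IsIso.inv_hom_id_assoc])
  have hi : ∃ iZ : Z ⟶ Z, iZ ≫ ι = ι ≫ G₂.i := hl τ (ι ≫ G₂.i) G₁.i (by rw [reassoc_of% hτ, hom_i])
  have hZ : (pullback.fst (ι ≫ G₂.s) (ι ≫ G₂.t) ≫ ι) ≫ G₂.s = (pullback.snd (ι ≫ G₂.s) (ι ≫ G₂.t) ≫ ι) ≫ G₂.t := by
    simpa only [Category.assoc] using pullback.condition
  have hcz : ∃ cZ : pullback (ι ≫ G₂.s) (ι ≫ G₂.t) ⟶ Z, cZ ≫ ι = mul G₂ _ _ hZ := by
    let σ := ι ≫ G₂.s
    let θ := ι ≫ G₂.t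
    let p₁ := pullback.fst σ θ
    let p₂ := pullback.snd σ θ
    let μ₁ := pullback.snd τ p₁
    let μ₂ := pullback.snd τ (μ₁ ≫ p₂)
    haveI : IsSchemeTheoreticallyDominant μ₁ := inferInstance
    haveI : IsSchemeTheoreticallyDominant μ₂ := by
      have : Flat (μ₁ ≫ p₂) := by
        have hpb : IsPullback (pullback.fst τ p₁) (μ₁ ≫ p₂) (τ ≫ σ) θ :=
          ((IsPullback.of_hasPullback τ p₁).flip.paste_horiz (IsPullback.of_hasPullback σ θ).flip).flip
        exact MorphismProperty.of_isPullback hpb (inferInstance : Flat (τ ≫ σ))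
      infer_instance
    let α := pullback.snd τ (μ₁ ≫ p₂) ≫ pullback.fst τ p₁
    let β := pullback.fst τ (μ₁ ≫ p₂)
    have eα : α ≫ f.fR = (μ₂ ≫ μ₁) ≫ p₁ ≫ ι := by
      simp only [α, μ₁, μ₂, ← hτ, Category.assoc]
      rw [reassoc_of% (pullback.condition : pullback.fst τ p₁ ≫ τ = _)]
    have eβ : β ≫ f.fR = (μ₂ ≫ μ₁) ≫ p₂ ≫ ι := by
      simp only [β, μ₂, ← hτ, Category.assoc]
      rw [reassoc_of% (pullback.condition : pullback.fst τ (μ₁ ≫ p₂) ≫ τ = _)]
    have h₁ : α ≫ G₁.s = β ≫ G₁.t := by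
      rw [← cancel_mono f.fU]
      simp only [Category.assoc, ← f.comm_s, ← f.comm_t, reassoc_of% eα, reassoc_of% eβ]
      simp only [p₁, p₂, σ, θ, pullback.condition]
    refine hl (μ₂ ≫ μ₁) _ (mul G₁ α β h₁) ?_
    rw [comp_mul]
    exact (mul_congr eα.symm eβ.symm _).trans (f.comm_c α β h₁).symm
  have hc : ∀ {T : Scheme.{u}} (α β : T ⟶ Z) (h : (α ≫ ι) ≫ G₂.s = (β ≫ ι) ≫ G₂.t),
      ∃ γ : T ⟶ Z, γ ≫ ι = mul G₂ (α ≫ ι) (β ≫ ι) h := by
    intro T α β h
    obtain ⟨cZ, hcZ⟩ := hcz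
    refine ⟨pullback.lift α β (by simpa only [Category.assoc] using h) ≫ cZ, ?_⟩
    rw [Category.assoc, hcZ, comp_mul]
    exact mul_congr (by rw [pullback.lift_fst_assoc]) (by rw [pullback.lift_snd_assoc]) _
  obtain ⟨G', ψ, eR, hψU, hψR⟩ := exists_subgroupoid G₂ ι he hi hc
  refine ⟨G', ψ, hψU, hψR ▸ inferInstance, ?_⟩
  rw [← hψR, Scheme.Hom.ker_comp, eR.hom.ker_eq_bot, Scheme.IdealSheafData.map_bot]
  exact Scheme.IdealSheafData.ker_subschemeι _

end Groth.Agent.S7492
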