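import Groth.Statements.S7494
import Groth.Agent.FinGrpdLib.EqvQuot
-- import your own Groth.Agent.* helpers here

set_option autoImplicit false
set_option backward.isDefEq.respectTransparency false
universe u
open CategoryTheory MonoidalCategory CartesianMonoidalCategory MonObj GrpObj AlgebraicGeometry
open AlgGrp
open Groth.Agent

namespace Groth.Agent.S7494

/-- Let G be a group scheme over S acting on a scheme X over S by a. The action is free, meaning that
for every scheme T over S and all T-points g of G and x of X with g · x = x one has g = 1, if and
only if the morphism G x_S X -> X x_S X, (g, x) ↦ (a(g, x), x), is a monomorphism of schemes. -/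
theorem result {S : Scheme.{u}} (G X : Over S) [GrpObj G] (a : AlgGrp.Action G X) : (∀ (T : Over S) (g : T ⟶ G) (x : T ⟶ X), lift g x ≫ a.act = x → g = toUnit T ≫ η[G]) ↔ Mono (lift a.act (snd G X)).left := by
  constructor
  · intro h
    haveI : Mono (lift a.act (snd G X)) := ⟨fun {T} r r' e => by
      have e1 := congrArg (· ≫ fst X X) e
      have e2 := congrArg (· ≫ snd X X) e
      simp only [Category.assoc, lift_fst, lift_snd] at e1 e2
      exact (FinGrpdLib.isEqvRel_of_free a h).1 _ r r' e1 e2⟩
    infer_instance
  · intro h T g x e
    haveI : Mono (lift a.act (snd G X)) := Over.mono_of_mono_left _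
    have : lift g x = lift (1 : T ⟶ G) x := by
      rw [← cancel_mono (lift a.act (snd G X))]
      apply CartesianMonoidalCategory.hom_ext <;>
        simp only [Category.assoc, lift_fst, lift_snd, e, FinGrpdLib.act_one]
    have := congrArg (· ≫ fst G X) this
    simpa only [lift_fst, CategoryTheory.Hom.one_def] using this

end Groth.Agent.S7494
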