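import Groth.Statements.S7498
import Groth.Agent.FinGrpdLib.Cancel
-- import your own Groth.Agent.* helpers here

set_option autoImplicit false
set_option backward.isDefEq.respectTransparency false
universe u
open CategoryTheory CategoryTheory.Limits AlgebraicGeometry
open Grpd
open Groth.Agent Groth.Agent.FinGrpdLib

namespace Groth.Agent.S7498

/-- Cancelling on the right. -/
theorem mul_cancel_right {S : Scheme.{u}} {G : Grpd.GroupoidScheme S} {T : Scheme.{u}} {α β : T ⟶ G.R}
    (h : α ≫ G.s = β ≫ G.t) (h' : mul G α β h ≫ G.s = (β ≫ G.i) ≫ G.t) :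
    mul G (mul G α β h) (β ≫ G.i) h' = α := by
  have h₁ : β ≫ G.s = (β ≫ G.i) ≫ G.t := by rw [Category.assoc, G.i_t]
  refine (G.assoc α β (β ≫ G.i) h h₁).trans ?_
  change mul G α (mul G β (β ≫ G.i) h₁) (h.trans (mul_t h₁).symm) = α
  rw [mul_congr rfl (show mul G β (β ≫ G.i) h₁ = α ≫ G.s ≫ G.e from (G.comp_i β).trans (by rw [reassoc_of% h]))]
  exact G.comp_e α

/-- Cancelling on the right. -/
theorem mul_cancel_right' {S : Scheme.{u}} {G : Grpd.GroupoidScheme S} {T : Scheme.{u}} {α β : T ⟶ G.R}
    (h : α ≫ G.s = (β ≫ G.i) ≫ G.t) (h' : mul G α (β ≫ G.i) h ≫ G.s = β ≫ G.t) :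
    mul G (mul G α (β ≫ G.i) h) β h' = α := by
  have h₁ : (β ≫ G.i) ≫ G.s = β ≫ G.t := by rw [Category.assoc, G.i_s]
  refine (G.assoc α (β ≫ G.i) β h h₁).trans ?_
  change mul G α (mul G (β ≫ G.i) β h₁) (h.trans (mul_t h₁).symm) = α
  rw [mul_congr rfl (show mul G (β ≫ G.i) β h₁ = α ≫ G.s ≫ G.e from (G.i_comp β).trans (by
    rw [Category.assoc, G.i_t] at h
    rw [reassoc_of% h]))]
  exact G.comp_e α

/-- Let (U, R, s, t, c) be a groupoid scheme over S and r, r' points of R with t(r) = t(r'); put u =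
s(r), u' = s(r') and let F_u, F_u' be the scheme-theoretic fibres of s. Then there are a field k
which is a common extension of κ(u) and κ(u') (morphisms a, b : Spec k -> U with images u, u') and
an isomorphism of the base changes (F_u)_k and (F_u')_k over Spec k, which moreover can be chosen to
send some point lying over r to a point lying over r'. (The published statement also compares the
germs of s at r and at r' when s and t are flat or flat of finite presentation; this row omits
that.) (A groupoid scheme carries U, R, s, t, c, e, i over S with the groupoid axioms on T-points; c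
is defined on the fibre product of s and t and sends a pair (a, b) with s(a) = t(b) to a composed
with b.) -/
theorem result (S : Scheme.{u}) (G : Grpd.GroupoidScheme S) (r r' : G.R) (h : G.t r = G.t r') : ∃ (k : Type u) (_ : Field k) (a b : Spec (CommRingCat.of k) ⟶ G.U) (φ : pullback G.s a ≅ pullback G.s b) (p : ↑(pullback G.s a)), a (IsLocalRing.closedPoint k) = G.s r ∧ b (IsLocalRing.closedPoint k) = G.s r' ∧ φ.hom ≫ pullback.snd G.s b = pullback.snd G.s a ∧ pullback.fst G.s a p = r ∧ pullback.fst G.s b (φ.hom p) = r' := by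
  obtain ⟨z, hz₁, hz₂⟩ := Scheme.Pullback.exists_preimage_pullback (f := G.t) (g := G.t) r r' h
  let k := (pullback G.t G.t).residueField z
  let i₀ : Spec k ⟶ pullback G.t G.t := (pullback G.t G.t).fromSpecResidueField z
  let ρ : Spec k ⟶ G.R := i₀ ≫ pullback.fst _ _
  let ρ' : Spec k ⟶ G.R := i₀ ≫ pullback.snd _ _
  have hρ : ρ ≫ G.t = ρ' ≫ G.t := by simp only [ρ, ρ', Category.assoc, pullback.condition]
  have hρr : ∀ p, ρ p = r := fun p => by
    rw [Scheme.Hom.comp_apply, Scheme.fromSpecResidueField_apply, hz₁]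
  have hρr' : ∀ p, ρ' p = r' := fun p => by
    rw [Scheme.Hom.comp_apply, Scheme.fromSpecResidueField_apply, hz₂]
  have hδ : (ρ ≫ G.i) ≫ G.s = ρ' ≫ G.t := by rw [Category.assoc, G.i_s, hρ]
  let δ := mul G (ρ ≫ G.i) ρ' hδ
  let a : Spec k ⟶ G.U := ρ ≫ G.s
  let b : Spec k ⟶ G.U := ρ' ≫ G.s
  have hδt : δ ≫ G.t = a := by rw [mul_t, Category.assoc, G.i_t]
  have hδs : δ ≫ G.s = b := mul_s _
  let X := pullback.fst G.s a
  let K := pullback.snd G.s a
  let X' := pullback.fst G.s b
  let K' := pullback.snd G.s b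
  have h₁ : X ≫ G.s = (K ≫ δ) ≫ G.t := by rw [Category.assoc, hδt]; exact pullback.condition
  have h₂ : X' ≫ G.s = ((K' ≫ δ) ≫ G.i) ≫ G.t := by
    rw [Category.assoc, G.i_t, Category.assoc, hδs]; exact pullback.condition
  let F : pullback G.s a ⟶ pullback G.s b := pullback.lift (mul G X (K ≫ δ) h₁) K (by rw [mul_s, Category.assoc, hδs])
  let F' : pullback G.s b ⟶ pullback G.s a := pullback.lift (mul G X' ((K' ≫ δ) ≫ G.i) h₂) K'
    (by rw [mul_s, Category.assoc, G.i_s, Category.assoc, hδt])
  have hFX : F ≫ X' = mul G X (K ≫ δ) h₁ := pullback.lift_fst _ _ _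
  have hFK : F ≫ K' = K := pullback.lift_snd _ _ _
  have hFX' : F' ≫ X = mul G X' ((K' ≫ δ) ≫ G.i) h₂ := pullback.lift_fst _ _ _
  have hFK' : F' ≫ K = K' := pullback.lift_snd _ _ _
  let φ : pullback G.s a ≅ pullback G.s b :=
    { hom := F
      inv := F'
      hom_inv_id := by
        apply pullback.hom_ext
        · rw [Category.assoc, hFX', Category.id_comp, comp_mul,
            mul_congr hFX (show F ≫ (K' ≫ δ) ≫ G.i = (K ≫ δ) ≫ G.i by simp only [Category.assoc, reassoc_of% hFK])]
          exact mul_cancel_right h₁ _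
        · rw [Category.assoc, hFK', hFK, Category.id_comp]
      inv_hom_id := by
        apply pullback.hom_ext
        · rw [Category.assoc, hFX, Category.id_comp, comp_mul,
            mul_congr hFX' (show F' ≫ K ≫ δ = K' ≫ δ by rw [reassoc_of% hFK'])]
          exact mul_cancel_right' h₂ _
        · rw [Category.assoc, hFK, hFK', Category.id_comp] }
  let σ : Spec k ⟶ pullback G.s a := pullback.lift ρ (𝟙 _) (Category.id_comp _).symm
  have hσF : σ ≫ F ≫ X' = ρ' := by
    rw [hFX, comp_mul, mul_congr (pullback.lift_fst _ _ _) (show σ ≫ K ≫ δ = δ by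
      rw [pullback.lift_snd_assoc, Category.id_comp])]
    exact mul_inv_cancel' hδ _
  refine ⟨k, (inferInstance : Field ((pullback G.t G.t).residueField z)), a, b, φ, σ (IsLocalRing.closedPoint k), ?_, ?_, hFK, ?_, ?_⟩
  · exact congrArg G.s (hρr _)
  · exact congrArg G.s (hρr' _)
  · rw [← Scheme.Hom.comp_apply, pullback.lift_fst]; exact hρr _
  · change X' (F (σ _)) = r'
    rw [← Scheme.Hom.comp_apply, ← Scheme.Hom.comp_apply, hσF]; exact hρr' _

end Groth.Agent.S7498
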