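import Groth.Statements.S7499
import Groth.Agent.S0593
import Groth.Agent.FinGrpdLib.Sat

set_option autoImplicit false
universe u
open CategoryTheory CategoryTheory.Limits AlgebraicGeometry
open Grpd

namespace Groth.Agent.S7499

/-- Let (U, R, s, t, c) be a groupoid scheme over S with s and t integral, and g : U' -> U an integral
morphism such that every R-orbit of U meets the image of g. Let R' = (U' x_(g,U,t) R) x_(s pr, U, g)
U' be the restriction of R to U', with t' the projection to the first factor U' and s' the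
projection to the last. If u' is a point of U' contained in an affine open W' of U' with t'^{-1}(W')
= s'^{-1}(W'), then g(u') is contained in an affine open W of U with s^{-1}(W) = t^{-1}(W). (A
groupoid scheme carries U, R, s, t, c, e, i over S with the groupoid axioms on T-points; c is
defined on the fibre product of s and t and sends a pair (a, b) with s(a) = t(b) to a composed with
b.) -/
theorem result (S : Scheme.{u}) (G : Grpd.GroupoidScheme S) [IsIntegralHom G.s] [IsIntegralHom G.t] (U' : Scheme.{u}) (g : U' ⟶ G.U) [IsIntegralHom g] (horb : ∀ u : G.U, ∃ r : G.R, G.s r = u ∧ G.t r ∈ Set.range ⇑g) (u' : U') (W' : U'.Opens) (hW' : IsAffineOpen W') (hu' : u' ∈ W') (hinv : (pullback.fst (pullback.snd g G.t ≫ G.s) g ≫ pullback.fst g G.t) ⁻¹ᵁ W' = (pullback.snd (pullback.snd g G.t ≫ G.s) g) ⁻¹ᵁ W') : ∃ W : G.U.Opens, IsAffineOpen W ∧ g u' ∈ W ∧ G.s ⁻¹ᵁ W = G.t ⁻¹ᵁ W := by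
  classical
  let T : Set G.U := ⇑g '' (W' : Set U')ᶜ
  let K : Set G.U := ⇑G.t '' (⇑G.s ⁻¹' T)
  have hT : IsClosed T := g.isClosedMap _ W'.2.isClosed_compl
  have hK : IsClosed K := G.t.isClosedMap _ (hT.preimage G.s.continuous)
  let W : G.U.Opens := ⟨Kᶜ, hK.isOpen_compl⟩
  have hWinv : G.s ⁻¹ᵁ W = G.t ⁻¹ᵁ W := by
    refine TopologicalSpace.Opens.ext ?_
    show (⇑G.s ⁻¹' K)ᶜ = (⇑G.t ⁻¹' K)ᶜ
    rw [Groth.Agent.FinGrpdLib.sat_invariant G T]
  let φ : pullback g G.t ⟶ G.U := pullback.snd g G.t ≫ G.s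
  have key : ∀ p : ↥(pullback g G.t), φ p ∈ W ↔ pullback.fst g G.t p ∈ W' := by
    intro p
    have hp : G.t (pullback.snd g G.t p) = g (pullback.fst g G.t p) := by
      rw [← Scheme.Hom.comp_apply, ← pullback.condition, Scheme.Hom.comp_apply]
    have hrel : Groth.Agent.FinGrpdLib.Rel G (g (pullback.fst g G.t p)) (φ p) :=
      ⟨pullback.snd g G.t p, hp, rfl⟩
    constructor
    · intro h
      by_contra ha
      exact h ((Groth.Agent.FinGrpdLib.mem_sat G).2 ⟨_, ⟨_, ha, rfl⟩, hrel.symm⟩)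
    · intro ha hK'
      obtain ⟨_, ⟨c, hc, rfl⟩, hrel'⟩ := (Groth.Agent.FinGrpdLib.mem_sat G).1 hK'
      obtain ⟨ρ, hρt, hρs⟩ := hrel.trans hrel'
      obtain ⟨q, hq₁, hq₂⟩ := Scheme.Pullback.exists_preimage_pullback (f := g) (g := G.t)
        (pullback.fst g G.t p) ρ hρt.symm
      obtain ⟨z, hz₁, hz₂⟩ := Scheme.Pullback.exists_preimage_pullback (f := pullback.snd g G.t ≫ G.s) (g := g)
        q c (by rw [Scheme.Hom.comp_apply, hq₂, hρs])
      have hz : z ∈ (pullback.fst (pullback.snd g G.t ≫ G.s) g ≫ pullback.fst g G.t) ⁻¹ᵁ W' := by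
        show (pullback.fst (pullback.snd g G.t ≫ G.s) g ≫ pullback.fst g G.t) z ∈ W'
        rw [Scheme.Hom.comp_apply, hz₁, hq₁]
        exact ha
      rw [hinv] at hz
      exact hc (hz₂ ▸ hz)
  have hpre : φ ⁻¹ᵁ W = pullback.fst g G.t ⁻¹ᵁ W' := TopologicalSpace.Opens.ext (Set.ext key)
  refine ⟨W, ?_, ?_, hWinv⟩
  · haveI : IsAffine (φ ⁻¹ᵁ W).toScheme := by rw [hpre]; exact hW'.preimage (pullback.fst g G.t)
    haveI : Surjective φ := ⟨fun x => by
      obtain ⟨r, hr, a, ha⟩ := horb x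
      obtain ⟨p, -, hp⟩ := Scheme.Pullback.exists_preimage_pullback (f := g) (g := G.t) a r ha
      exact ⟨p, (congrArg (⇑G.s) hp).trans hr⟩⟩
    haveI : Surjective (φ ∣_ W) := IsZariskiLocalAtTarget.restrict ‹_› W
    haveI : IsIntegralHom (φ ∣_ W) := IsZariskiLocalAtTarget.restrict (inferInstanceAs (IsIntegralHom φ)) W
    exact Groth.Agent.S0593.result _ _ (φ ∣_ W)
  · obtain ⟨p, hp₁, hp₂⟩ := Scheme.Pullback.exists_preimage_pullback (f := g) (g := G.t) u' (G.e (g u'))
      (by rw [← Scheme.Hom.comp_apply G.e G.t, G.e_t]; rfl)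
    have h := (key p).2 (hp₁.symm ▸ hu')
    have e : φ p = g u' := by
      show (pullback.snd g G.t ≫ G.s) p = g u'
      rw [Scheme.Hom.comp_apply, hp₂, ← Scheme.Hom.comp_apply, G.e_s]
      rfl
    exact e ▸ h

end Groth.Agent.S7499
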