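import Groth.Statements.S7500
import Mathlib
set_option backward.isDefEq.respectTransparency false

set_option autoImplicit false
universe u
open CategoryTheory CategoryTheory.Limits AlgebraicGeometry
open Grpd

namespace Groth.Agent.S7500

/-- Let (U, R, s, t, c) be a groupoid scheme over S and G -> U its stabilizer group scheme (the base
change of j = (t, s) along the diagonal). The action of G on R by composition, base changed to G_0 =
G x_(U, pr_0) (U x_S U), makes R a pseudo G_0-torsor over U x_S U. Concretely: let α : G x_(U, t) R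
-> R x_(s, U, t) R be the morphism with components (γ viewed in R, r) and β : G x_(U, t) R -> R
x_(j, U x_S U, j) R the morphism with components (c ∘ α, r); then β is an isomorphism. (A groupoid
scheme carries U, R, s, t, c, e, i over S with the groupoid axioms on T-points; c is defined on the
fibre product of s and t and sends a pair (a, b) with s(a) = t(b) to a composed with b.) -/
theorem result (S : Scheme.{u}) (G : Grpd.GroupoidScheme S) (α : pullback G.stabilizerToU G.t ⟶ pullback G.s G.t) (hα₁ : α ≫ pullback.fst G.s G.t = pullback.fst G.stabilizerToU G.t ≫ pullback.fst G.j G.diag) (hα₂ : α ≫ pullback.snd G.s G.t = pullback.snd G.stabilizerToU G.t) (β : pullback G.stabilizerToU G.t ⟶ pullback G.j G.j) (hβ₁ : β ≫ pullback.fst G.j G.j = α ≫ G.c) (hβ₂ : β ≫ pullback.snd G.j G.j = pullback.snd G.stabilizerToU G.t) : IsIso β := by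
  let K := pullback G.j G.j
  let r' : K ⟶ G.R := pullback.fst _ _
  let r : K ⟶ G.R := pullback.snd _ _
  have hK : r' ≫ G.j = r ≫ G.j := pullback.condition
  have hjt : G.j ≫ pullback.fst _ _ = G.t := pullback.lift_fst _ _ _
  have hjs : G.j ≫ pullback.snd _ _ = G.s := pullback.lift_snd _ _ _
  have ht : r' ≫ G.t = r ≫ G.t := by rw [← hjt, reassoc_of% hK]
  have hs : r' ≫ G.s = r ≫ G.s := by rw [← hjs, reassoc_of% hK]
  let x : K ⟶ G.R := pullback.lift r' (r ≫ G.i) (by rw [Category.assoc, G.i_t, hs]) ≫ G.c
  have hxs : x ≫ G.s = r ≫ G.t := by rw [G.comp_s, Category.assoc, G.i_s]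
  have hxt : x ≫ G.t = r ≫ G.t := by rw [G.comp_t, ht]
  have hxd : x ≫ G.j = (x ≫ G.t) ≫ G.diag := by
    apply pullback.hom_ext
    · simp [Grpd.GroupoidScheme.j, Grpd.GroupoidScheme.diag]
    · simp [Grpd.GroupoidScheme.j, Grpd.GroupoidScheme.diag, hxs, hxt]
  let γ : K ⟶ G.stabilizer := pullback.lift x (x ≫ G.t) hxd
  have hγ₁ : γ ≫ pullback.fst G.j G.diag = x := pullback.lift_fst _ _ _
  have hγ₂ : γ ≫ G.stabilizerToU = r ≫ G.t := (pullback.lift_snd _ _ _).trans hxt
  let β' : K ⟶ pullback G.stabilizerToU G.t := pullback.lift γ r hγ₂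
  let g₀ := pullback.fst G.stabilizerToU G.t ≫ pullback.fst G.j G.diag
  let r₀ := pullback.snd G.stabilizerToU G.t
  have hd : g₀ ≫ G.j = (r₀ ≫ G.t) ≫ G.diag := by
    simp only [g₀, r₀, Category.assoc, pullback.condition]
    rw [← pullback.condition_assoc]
    rfl
  have hg : g₀ ≫ G.s = r₀ ≫ G.t := by
    have := congrArg (· ≫ pullback.snd _ _) hd
    simpa [Grpd.GroupoidScheme.j, Grpd.GroupoidScheme.diag] using this
  have hα : α = pullback.lift g₀ r₀ hg := pullback.hom_ext (by rw [hα₁, pullback.lift_fst]) (by rw [hα₂, pullback.lift_snd])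
  refine ⟨β', ?_, ?_⟩
  · apply pullback.hom_ext
    · have e₁ : β ≫ r' = pullback.lift g₀ r₀ hg ≫ G.c := by rw [← hα, ← hβ₁]
      have e₂ : β ≫ r = r₀ := hβ₂
      have h₂ : r₀ ≫ G.s = (r₀ ≫ G.i) ≫ G.t := by rw [Category.assoc, G.i_t]
      have key : β ≫ x = g₀ := by
        calc β ≫ x = pullback.lift (pullback.lift g₀ r₀ hg ≫ G.c) (r₀ ≫ G.i) ((G.comp_s g₀ r₀ hg).trans h₂) ≫ G.c := by
              rw [show β ≫ x = (β ≫ pullback.lift r' (r ≫ G.i) (by rw [Category.assoc, G.i_t, hs])) ≫ G.c from
                (Category.assoc _ _ _).symm]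
              congr 1
              apply pullback.hom_ext
              · rw [Category.assoc, pullback.lift_fst, pullback.lift_fst, e₁]
              · rw [Category.assoc, pullback.lift_snd, pullback.lift_snd, reassoc_of% e₂]
          _ = g₀ := by
              rw [G.assoc g₀ r₀ (r₀ ≫ G.i) hg h₂]
              conv_rhs => rw [← G.comp_e g₀]
              congr 1
              apply pullback.hom_ext <;> simp [G.comp_i, reassoc_of% hg]
      rw [Category.assoc, pullback.lift_fst, Category.id_comp]
      apply pullback.hom_ext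
      · rw [Category.assoc, hγ₁, key]
      · change (β ≫ γ) ≫ G.stabilizerToU = pullback.fst G.stabilizerToU G.t ≫ G.stabilizerToU
        rw [Category.assoc, hγ₂, reassoc_of% e₂, pullback.condition]
    · rw [Category.assoc, pullback.lift_snd, Category.id_comp]
      exact hβ₂
  · apply pullback.hom_ext
    · rw [Category.assoc, hβ₁, Category.id_comp, hα]
      have h₁ : r' ≫ G.s = (r ≫ G.i) ≫ G.t := by rw [Category.assoc, G.i_t, hs]
      have h₂ : (r ≫ G.i) ≫ G.s = r ≫ G.t := by rw [Category.assoc, G.i_s]
      calc β' ≫ pullback.lift g₀ r₀ hg ≫ G.c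
          = pullback.lift (pullback.lift r' (r ≫ G.i) h₁ ≫ G.c) r ((G.comp_s _ _ h₁).trans h₂) ≫ G.c := by
            rw [← Category.assoc]
            congr 1
            apply pullback.hom_ext <;> simp [β', g₀, r₀, γ, x]
        _ = r' := by
            rw [G.assoc r' (r ≫ G.i) r h₁ h₂]
            conv_rhs => rw [← G.comp_e r']
            congr 1
            apply pullback.hom_ext <;> simp [G.i_comp, reassoc_of% hs]
    · rw [Category.assoc, hβ₂, Category.id_comp]
      exact pullback.lift_snd _ _ _

end Groth.Agent.S7500
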