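import Groth.Statements.S7502
import Groth.Agent.PullbackMod.Descent
import Groth.Agent.PullbackMod.Hom
import Groth.Agent.FPApproxLib.Step
import Groth.Agent.QCohLib.Coherent
import Groth.Agent.QCohLib.Push

set_option autoImplicit false
set_option linter.style.haveILetI false
set_option backward.isDefEq.respectTransparency false
universe u
open CategoryTheory CategoryTheory.Limits AlgebraicGeometry
open Coh

namespace Groth.Agent.S7502

/-- Let f : Y -> X be a morphism of schemes which is quasi-compact, quasi-separated, flat and
surjective, with X and Y locally Noetherian. Let F be a quasi-coherent O_X-module, G a coherent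
O_Y-module and φ : G -> f^*F an injective map of O_Y-modules. Then the O_X-module F ∩ f_*G, defined
as the fibre product of the adjunction unit F -> f_*f^*F with f_*φ : f_*G -> f_*f^*F, is coherent.
('Coherent' is quasi-coherent of finite type, the usual notion on locally Noetherian schemes.) -/
theorem result {X Y : Scheme.{u}} (f : Y ⟶ X) [QuasiCompact f] [QuasiSeparated f] [Flat f] [Surjective f] [IsLocallyNoetherian X] [IsLocallyNoetherian Y] (F : X.Modules) (hF : Coh.IsQCoh F) (G : Y.Modules) (hG : Coh.IsCoh G) (φ : G ⟶ (Scheme.Modules.pullback f).obj F) [Mono φ] : Coh.IsCoh (Limits.pullback ((Scheme.Modules.pullbackPushforwardAdjunction f).unit.app F) ((Scheme.Modules.pushforward f).map φ)) := by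
  let adj := Scheme.Modules.pullbackPushforwardAdjunction f
  let η := adj.unit.app F
  let φ' := (Scheme.Modules.pushforward f).map φ
  haveI : (Scheme.Modules.pushforward f).IsRightAdjoint := adj.isRightAdjoint
  haveI : Mono φ' := inferInstanceAs (Mono ((Scheme.Modules.pushforward f).map φ))
  haveI := hF
  haveI := hG.1
  haveI : Coh.IsQCoh ((Scheme.Modules.pullback f).obj F) := PullbackMod.isQCoh_pullback f F
  have hH : Coh.IsQCoh (Limits.pullback η φ') := FPApproxLib.isQCoh_pullback' η φ' hF
    (QCohLib.isQCoh_pushforward G f) (QCohLib.isQCoh_pushforward _ f)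
  haveI := hH
  let ψ : (Scheme.Modules.pullback f).obj (Limits.pullback η φ') ⟶ G :=
    (adj.homEquiv _ _).symm (Limits.pullback.snd η φ')
  have hψ : ψ ≫ φ = (Scheme.Modules.pullback f).map (Limits.pullback.fst η φ') := by
    apply (adj.homEquiv _ _).injective
    rw [Adjunction.homEquiv_naturality_right, Equiv.apply_symm_apply, Adjunction.homEquiv_unit]
    refine (Limits.pullback.condition).symm.trans ?_
    exact adj.unit.naturality (Limits.pullback.fst η φ')
  haveI : Mono (ψ ≫ φ) := hψ ▸ PullbackMod.mono_map_pullback f _
  haveI : Mono ψ := mono_of_mono ψ φ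
  have hc := QCohLib.isCoh_of_mono ψ hG (PullbackMod.isQCoh_pullback f _)
  exact ⟨hH, PullbackMod.isFiniteType_descent f _
    (fun W hW => PullbackMod.hasAffineLift_of_quasiCompact f hW) hc.2⟩

end Groth.Agent.S7502
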