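import Groth.Statements.S7503
import Groth.Agent.FinGrpdLib.Perfect
import Groth.Agent.S7491
-- import your own Groth.Agent.* helpers here

set_option autoImplicit false
set_option backward.isDefEq.respectTransparency false
universe u
open CategoryTheory CategoryTheory.Limits AlgebraicGeometry
open Grpd
open Groth.Agent Groth.Agent.FinGrpdLib

namespace Groth.Agent.S7503

/-- Let (U, R, s, t, c) be a groupoid scheme over S with U the spectrum of a perfect field and let Z be
the reduced closed subscheme of U x_S U whose underlying set is the closure of the image of j = (t,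
s). Then (U, Z, pr_0|_Z, pr_1|_Z, pr_02) is a groupoid scheme over S; stated as: there are a
groupoid scheme G' over S with G'.R reduced and an isomorphism of schemes over S from G'.U to U such
that j' = (t', s') : G'.R -> G'.U x_S G'.U is a closed immersion and the image of j' followed by the
induced isomorphism G'.U x_S G'.U -> U x_S U is the closure of the image of j. (No morphism from (U,
R, s, t, c) to G' is asserted: when R is not reduced, j need not factor through the reduced
subscheme Z.) (A groupoid scheme carries U, R, s, t, c, e, i over S with the groupoid axioms on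
T-points; c is defined on the fibre product of s and t and sends a pair (a, b) with s(a) = t(b) to a
composed with b.) -/
theorem result (S : Scheme.{u}) (G : Grpd.GroupoidScheme S) (k : Type u) [Field k] [PerfectField k] (eU : G.U ≅ Spec (CommRingCat.of k)) : ∃ (G' : Grpd.GroupoidScheme S) (ψ : G'.U ≅ G.U) (hψ : ψ.hom ≫ G.pU = G'.pU), IsReduced G'.R ∧ IsClosedImmersion G'.j ∧ Set.range ⇑(G'.j ≫ pullback.map G'.pU G'.pU G.pU G.pU ψ.hom ψ.hom (𝟙 S) ((Category.comp_id _).trans hψ.symm) ((Category.comp_id _).trans hψ.symm)) = closure (Set.range ⇑G.j) := by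
  obtain ⟨P, ψ, pU, pR, w, hψU, hψR, hψUU, hfst, hsnd⟩ := exists_pair G
  haveI := hψU
  obtain ⟨G', χ, hχU, hχR, hred, hrange⟩ := Groth.Agent.S7491.result S G P ψ k (pU ≪≫ eU)
  haveI := hχU
  haveI := hχR
  let i : G'.U ≅ G.U := asIso χ.fU ≪≫ pU
  have hw : i.hom ≫ G.pU = G'.pU := by
    simp only [i, Iso.trans_hom, asIso_hom, Category.assoc, w, χ.fU_over]
  let M := pullback.map G'.pU G'.pU G.pU G.pU i.hom i.hom (𝟙 S)
    ((Category.comp_id _).trans hw.symm) ((Category.comp_id _).trans hw.symm)
  have hj : G'.j ≫ M = χ.fR ≫ pR.hom := by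
    apply pullback.hom_ext <;>
      simp [M, i, pullback.map, hfst, hsnd, Grpd.GroupoidScheme.j, reassoc_of% χ.comm_t, reassoc_of% χ.comm_s]
  haveI : IsIso M := inferInstance
  haveI : IsClosedImmersion (G'.j ≫ M) := by rw [hj]; infer_instance
  refine ⟨G', i, hw, hred, IsClosedImmersion.of_comp G'.j M, ?_⟩
  change Set.range ⇑(G'.j ≫ M) = _
  rw [hj, ← hψR, Scheme.Hom.comp_base, TopCat.coe_comp, Set.range_comp, hrange, Scheme.Hom.comp_base,
    TopCat.coe_comp, Set.range_comp]
  exact pR.hom.homeomorph.image_closure _

end Groth.Agent.S7503
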