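import Groth.Statements.S7504
import Groth.Agent.FinGrpdLib.Points2
import Groth.Agent.FinGrpdLib.Sat
import Groth.Agent.FinGrpdLib.Scheme
-- import your own Groth.Agent.* helpers here

set_option autoImplicit false
set_option backward.isDefEq.respectTransparency false
universe u
open CategoryTheory CategoryTheory.Limits AlgebraicGeometry
open Grpd

namespace Groth.Agent.S7504

open Groth.Agent Groth.Agent.FinGrpdLib

/-- A property respecting isomorphisms only depends on the pullback up to isomorphism. -/
theorem prop_of_isPullback {P : MorphismProperty Scheme.{u}} [P.RespectsIso] {X Y B Z Z' : Scheme.{u}} {f : X ⟶ B}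
    {g : Y ⟶ B} {a : Z ⟶ X} {b : Z ⟶ Y} {a' : Z' ⟶ X} {b' : Z' ⟶ Y} (h : IsPullback a b f g)
    (h' : IsPullback a' b' f g) (hb : P b) : P b' := by
  rw [← h'.isoIsPullback_hom_snd X Y h]
  exact (P.cancel_left_of_respectsIso _ _).2 hb

/-- Let (U, R, s, t, c) be a groupoid scheme over S, let τ be the Zariski, étale, smooth or fppf
topology (given as the corresponding precoverage K on schemes), and let P be a property of scheme
morphisms that is τ-local on the target. (The published statement also allows the syntomic topology,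
which has no precoverage here; this row omits it.) Assume the one-arrow families {s : R -> U} and {t
: R -> U} are τ-coverings. If W is the largest open subscheme of U such that the restriction
s^{-1}(W) -> W of s has P (W has the property and contains every open with the property), then W is
R-invariant: s^{-1}(W) = t^{-1}(W). (A groupoid scheme carries U, R, s, t, c, e, i over S with the
groupoid axioms on T-points; c is defined on the fibre product of s and t and sends a pair (a, b)
with s(a) = t(b) to a composed with b.) -/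
theorem result (S : Scheme.{u}) (G : Grpd.GroupoidScheme S) (K : Precoverage Scheme.{u}) (hK : K = Scheme.zariskiPrecoverage ∨ K = Scheme.etalePrecoverage ∨ K = Scheme.precoverage @Smooth ∨ K = Scheme.fppfPrecoverage) (P : MorphismProperty Scheme.{u}) [P.IsLocalAtTarget K] (hs : Presieve.singleton G.s ∈ K G.U) (ht : Presieve.singleton G.t ∈ K G.U) (W : G.U.Opens) (hW : P (G.s ∣_ W)) (hmax : ∀ W' : G.U.Opens, P (G.s ∣_ W') → W' ≤ W) : G.s ⁻¹ᵁ W = G.t ⁻¹ᵁ W := by
  classical
  obtain ⟨Q, hQb, hQc, hQo, hQf, rfl⟩ : ∃ Q : MorphismProperty Scheme.{u}, Q.IsStableUnderBaseChange ∧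
      Q.IsStableUnderComposition ∧ (∀ {X Y : Scheme.{u}} (f : X ⟶ Y), IsOpenImmersion f → Q f) ∧
      (∀ {X Y : Scheme.{u}} (f : X ⟶ Y), Q f → Flat f ∧ LocallyOfFinitePresentation f) ∧
      K = Scheme.precoverage Q := by
    rcases hK with rfl | rfl | rfl | rfl
    · exact ⟨@IsOpenImmersion, inferInstance, inferInstance, fun f h => h,
        fun f h => ⟨inferInstance, inferInstance⟩, rfl⟩
    · exact ⟨@Etale, inferInstance, inferInstance, fun f _ => inferInstance, fun f _ => ⟨inferInstance, inferInstance⟩, rfl⟩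
    · exact ⟨@Smooth, inferInstance, inferInstance, fun f _ => inferInstance, fun f _ => ⟨inferInstance, inferInstance⟩, rfl⟩
    · exact ⟨@Flat ⊓ @LocallyOfFinitePresentation, inferInstance, inferInstance,
        fun f _ => ⟨inferInstance, inferInstance⟩, fun f h => h, rfl⟩
  rw [Scheme.singleton_mem_precoverage_iff] at hs ht
  obtain ⟨_, _⟩ := hQf _ ht.2
  haveI : UniversallyOpen G.t := inferInstance
  let W' : G.U.Opens := ⟨⇑G.t '' (⇑G.s ⁻¹' (W : Set G.U)), G.t.isOpenMap _ (W.2.preimage G.s.continuous)⟩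
  suffices h : W' ≤ W by
    rw [invariant_iff]
    exact fun {x y} hxy hx => h ((mem_sat G).2 ⟨x, hx, Rel.symm hxy⟩)
  apply hmax
  let V : G.R.Opens := G.s ⁻¹ᵁ W
  have hV : V ≤ G.t ⁻¹ᵁ W' := fun r hr => ⟨r, hr, rfl⟩
  let τ : V.toScheme ⟶ W'.toScheme := G.t.resLE W' V hV
  have hτ : Presieve.singleton τ ∈ Scheme.precoverage Q W'.toScheme := by
    rw [Scheme.singleton_mem_precoverage_iff]
    refine ⟨fun w => ?_, ?_⟩
    · obtain ⟨r, hr, hrw⟩ := w.2
      refine ⟨⟨r, hr⟩, W'.ι.isOpenEmbedding.injective ?_⟩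
      change (τ ≫ W'.ι) ⟨r, hr⟩ = W'.ι w
      rw [Scheme.Hom.resLE_comp_ι]
      exact hrw
    · exact Q.comp_mem _ _ (hQo _ inferInstance) (Q.of_isPullback (isPullback_morphismRestrict G.t W').flip ht.2)
  have hσ : Presieve.singleton (G.s ∣_ W) ∈ Scheme.precoverage Q W.toScheme := by
    rw [Scheme.singleton_mem_precoverage_iff]
    refine ⟨fun w => ?_, Q.of_isPullback (isPullback_morphismRestrict G.s W).flip hs.2⟩
    obtain ⟨r, hr⟩ := hs.1 w.1
    exact ⟨⟨r, show G.s r ∈ W by rw [hr]; exact w.2⟩, W.ι.isOpenEmbedding.injective (by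
      rw [← Scheme.Hom.comp_apply, morphismRestrict_ι]; exact hr)⟩
  refine MorphismProperty.IsLocalAtTarget.of_forall_pullbackSnd hτ ?_
  rintro _ _ _ ⟨⟩
  obtain ⟨c, hc⟩ : ∃ c, IsPullback c (pullback.snd G.s G.s) G.s G.t := by
    have hp := isPullback_comp (G := G)
    refine ⟨hp.isoPullback.inv ≫ pullback.fst G.s G.t, IsPullback.of_iso_pullback ⟨?_⟩ hp.isoPullback.symm rfl
      hp.isoPullback_inv_snd⟩
    have e := hp.isoPullback_inv_snd
    rw [Category.assoc, pullback.condition, ← Category.assoc, e]
  have hP₁ : P (pullback.snd (G.s ∣_ W) (G.s ∣_ W)) :=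
    MorphismProperty.IsLocalAtTarget.pullbackSnd hσ Presieve.singleton.mk hW
  have A := (IsPullback.of_hasPullback (pullback.snd G.s G.s) V.ι).paste_horiz
    (IsPullback.of_hasPullback G.s G.s)
  have B := (IsPullback.of_hasPullback (pullback.snd G.s G.s) V.ι).paste_horiz hc
  have C := (IsPullback.of_hasPullback (G.s ∣_ W) (G.s ∣_ W)).paste_horiz
    (isPullback_morphismRestrict G.s W).flip
  have D := (IsPullback.of_hasPullback (G.s ∣_ W') τ).paste_horiz
    (isPullback_morphismRestrict G.s W').flip
  rw [morphismRestrict_ι] at C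
  rw [show τ ≫ W'.ι = V.ι ≫ G.t from Scheme.Hom.resLE_comp_ι _ _] at D
  exact prop_of_isPullback B D (prop_of_isPullback C A hP₁)

end Groth.Agent.S7504
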