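import Groth.Statements.S7505
import Groth.Agent.FinGrpdLib.Points2
import Groth.Agent.FinGrpdLib.Sat
-- import your own Groth.Agent.* helpers here

set_option autoImplicit false
set_option backward.isDefEq.respectTransparency false
universe u
open CategoryTheory CategoryTheory.Limits AlgebraicGeometry
open Grpd
open Groth.Agent Groth.Agent.FinGrpdLib

namespace Groth.Agent.S7505

/-- Conjugating back and forth. -/
theorem conj_cancel {S : Scheme.{u}} {G : Grpd.GroupoidScheme S} {T : Scheme.{u}} (r α : T ⟶ G.R)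
    (h₁ : r ≫ G.s = α ≫ G.t) (h₂ : mul G r α h₁ ≫ G.s = (r ≫ G.i) ≫ G.t) (h₀ : α ≫ G.s = α ≫ G.t)
    (h₃ : (r ≫ G.i) ≫ G.s = mul G (mul G r α h₁) (r ≫ G.i) h₂ ≫ G.t)
    (h₄ : mul G (r ≫ G.i) (mul G (mul G r α h₁) (r ≫ G.i) h₂) h₃ ≫ G.s = r ≫ G.t) :
    mul G (mul G (r ≫ G.i) (mul G (mul G r α h₁) (r ≫ G.i) h₂) h₃) r h₄ = α := by
  let g : (⟨r ≫ G.s⟩ : Pt G T) ⟶ ⟨r ≫ G.s⟩ := ⟨α, h₀.trans h₁.symm, h₁.symm⟩
  exact congrArg Subtype.val (show arr r ≫ (Groupoid.inv (arr r) ≫ g ≫ arr r) ≫ Groupoid.inv (arr r) = g by simp)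

/-- Conjugating back and forth. -/
theorem conj_cancel' {S : Scheme.{u}} {G : Grpd.GroupoidScheme S} {T : Scheme.{u}} (r β : T ⟶ G.R)
    (h₁ : (r ≫ G.i) ≫ G.s = β ≫ G.t) (h₂ : mul G (r ≫ G.i) β h₁ ≫ G.s = r ≫ G.t) (h₀ : β ≫ G.s = β ≫ G.t)
    (h₃ : r ≫ G.s = mul G (mul G (r ≫ G.i) β h₁) r h₂ ≫ G.t)
    (h₄ : mul G r (mul G (mul G (r ≫ G.i) β h₁) r h₂) h₃ ≫ G.s = (r ≫ G.i) ≫ G.t) :
    mul G (mul G r (mul G (mul G (r ≫ G.i) β h₁) r h₂) h₃) (r ≫ G.i) h₄ = β := by
  have hb : β ≫ G.t = r ≫ G.t := by rw [← h₁, Category.assoc, G.i_s]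
  let g : (⟨r ≫ G.t⟩ : Pt G T) ⟶ ⟨r ≫ G.t⟩ := ⟨β, h₀.trans hb, hb⟩
  exact congrArg Subtype.val (show Groupoid.inv (arr r) ≫ (arr r ≫ g ≫ Groupoid.inv (arr r)) ≫ arr r = g by simp)

/-- Conjugation: the stabilizer pulled back along the source is the stabilizer pulled back along the target. -/
theorem exists_conj {S : Scheme.{u}} (G : Grpd.GroupoidScheme S) :
    ∃ c : pullback G.stabilizerToU G.s ⟶ G.stabilizer,
      IsPullback c (pullback.snd G.stabilizerToU G.s) G.stabilizerToU G.t := by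
  let st : G.stabilizer ⟶ G.R := pullback.fst G.j G.diag
  have hst : st ≫ G.s = G.stabilizerToU ∧ st ≫ G.t = G.stabilizerToU := by
    constructor
    · have := congrArg (· ≫ pullback.snd _ _) (pullback.condition : st ≫ G.j = G.stabilizerToU ≫ G.diag)
      simpa [Grpd.GroupoidScheme.j, Grpd.GroupoidScheme.diag, st, Grpd.GroupoidScheme.stabilizerToU] using this
    · have := congrArg (· ≫ pullback.fst _ _) (pullback.condition : st ≫ G.j = G.stabilizerToU ≫ G.diag)
      simpa [Grpd.GroupoidScheme.j, Grpd.GroupoidScheme.diag, st, Grpd.GroupoidScheme.stabilizerToU] using this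
  let a := pullback.fst G.stabilizerToU G.s
  let r := pullback.snd G.stabilizerToU G.s
  let b := pullback.fst G.stabilizerToU G.t
  let r' := pullback.snd G.stabilizerToU G.t
  have w : a ≫ G.stabilizerToU = r ≫ G.s := pullback.condition
  have w' : b ≫ G.stabilizerToU = r' ≫ G.t := pullback.condition
  have k₁ : r ≫ G.s = (a ≫ st) ≫ G.t := by rw [Category.assoc, hst.2, w]
  have k₂ : mul G r (a ≫ st) k₁ ≫ G.s = (r ≫ G.i) ≫ G.t := by
    rw [mul_s, Category.assoc, hst.1, w, Category.assoc, G.i_t]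
  let α' := mul G (mul G r (a ≫ st) k₁) (r ≫ G.i) k₂
  have l₁ : (r' ≫ G.i) ≫ G.s = (b ≫ st) ≫ G.t := by rw [Category.assoc, Category.assoc, hst.2, G.i_s, w']
  have l₂ : mul G (r' ≫ G.i) (b ≫ st) l₁ ≫ G.s = r' ≫ G.t := by rw [mul_s, Category.assoc, hst.1, w']
  let β' := mul G (mul G (r' ≫ G.i) (b ≫ st) l₁) r' l₂
  have hα't : α' ≫ G.t = r ≫ G.t := by rw [mul_t, mul_t]
  have hα's : α' ≫ G.s = r ≫ G.t := by rw [mul_s, Category.assoc, G.i_s]
  have hβ't : β' ≫ G.t = r' ≫ G.s := by rw [mul_t, mul_t, Category.assoc, G.i_t]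
  have hβ's : β' ≫ G.s = r' ≫ G.s := mul_s _
  let c : pullback G.stabilizerToU G.s ⟶ G.stabilizer := pullback.lift α' (r ≫ G.t) (by
    apply pullback.hom_ext
    · simpa [Grpd.GroupoidScheme.j, Grpd.GroupoidScheme.diag] using hα't
    · simpa [Grpd.GroupoidScheme.j, Grpd.GroupoidScheme.diag] using hα's)
  let d : pullback G.stabilizerToU G.t ⟶ G.stabilizer := pullback.lift β' (r' ≫ G.s) (by
    apply pullback.hom_ext
    · simpa [Grpd.GroupoidScheme.j, Grpd.GroupoidScheme.diag] using hβ't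
    · simpa [Grpd.GroupoidScheme.j, Grpd.GroupoidScheme.diag] using hβ's)
  have hc : c ≫ G.stabilizerToU = r ≫ G.t := pullback.lift_snd _ _ _
  have hd : d ≫ G.stabilizerToU = r' ≫ G.s := pullback.lift_snd _ _ _
  have hcst : c ≫ st = α' := pullback.lift_fst _ _ _
  have hdst : d ≫ st = β' := pullback.lift_fst _ _ _
  let Φ : pullback G.stabilizerToU G.s ⟶ pullback G.stabilizerToU G.t := pullback.lift c r hc
  let Ψ : pullback G.stabilizerToU G.t ⟶ pullback G.stabilizerToU G.s := pullback.lift d r' hd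
  have hΦb : Φ ≫ b = c := pullback.lift_fst _ _ _
  have hΦr : Φ ≫ r' = r := pullback.lift_snd _ _ _
  have hΨa : Ψ ≫ a = d := pullback.lift_fst _ _ _
  have hΨr : Ψ ≫ r = r' := pullback.lift_snd _ _ _
  have h₁ : Φ ≫ β' = a ≫ st := by
    have e₁ : Φ ≫ b ≫ st = α' := by rw [reassoc_of% hΦb, hcst]
    have e₂ : Φ ≫ r' ≫ G.i = r ≫ G.i := by rw [reassoc_of% hΦr]
    rw [show Φ ≫ β' = _ from comp_mul Φ _, mul_congr ((comp_mul Φ _).trans (mul_congr e₂ e₁ _)) hΦr]
    exact conj_cancel r (a ≫ st) k₁ k₂ (by rw [Category.assoc, Category.assoc, hst.1, hst.2]) _ _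
  have h₂ : Ψ ≫ α' = b ≫ st := by
    have e₁ : Ψ ≫ a ≫ st = β' := by rw [reassoc_of% hΨa, hdst]
    have e₂ : Ψ ≫ r ≫ G.i = r' ≫ G.i := by rw [reassoc_of% hΨr]
    rw [show Ψ ≫ α' = _ from comp_mul Ψ _, mul_congr ((comp_mul Ψ _).trans (mul_congr hΨr e₁ _)) e₂]
    exact conj_cancel' r' (b ≫ st) l₁ l₂ (by rw [Category.assoc, Category.assoc, hst.1, hst.2]) _ _
  let iso : pullback G.stabilizerToU G.s ≅ pullback G.stabilizerToU G.t :=
    { hom := Φ
      inv := Ψ
      hom_inv_id := by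
        apply pullback.hom_ext
        · rw [Category.assoc, hΨa, Category.id_comp]
          apply pullback.hom_ext
          · exact (Category.assoc _ _ _).trans ((congrArg (Φ ≫ ·) hdst).trans h₁)
          · exact (Category.assoc _ _ _).trans ((congrArg (Φ ≫ ·) hd).trans (((reassoc_of% hΦr) G.s).trans w.symm))
        · rw [Category.assoc, hΨr, hΦr, Category.id_comp]
      inv_hom_id := by
        apply pullback.hom_ext
        · rw [Category.assoc, hΦb, Category.id_comp]
          apply pullback.hom_ext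
          · exact (Category.assoc _ _ _).trans ((congrArg (Ψ ≫ ·) hcst).trans h₂)
          · exact (Category.assoc _ _ _).trans ((congrArg (Ψ ≫ ·) hc).trans (((reassoc_of% hΨr) G.t).trans w'.symm))
        · rw [Category.assoc, hΦr, hΨr, Category.id_comp] }
  exact ⟨c, (IsPullback.of_hasPullback G.stabilizerToU G.t).of_iso iso.symm (Iso.refl _) (Iso.refl _) (Iso.refl _)
    (by rw [Iso.refl_hom, Category.comp_id]; exact (Iso.eq_inv_comp iso).2 hΦb)
    (by rw [Iso.refl_hom, Category.comp_id]; exact (Iso.eq_inv_comp iso).2 hΦr) (by simp) (by simp)⟩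

/-- A property respecting isomorphisms only depends on the pullback up to isomorphism. -/
theorem prop_of_isPullback {P : MorphismProperty Scheme.{u}} [P.RespectsIso] {X Y B Z Z' : Scheme.{u}} {f : X ⟶ B}
    {g : Y ⟶ B} {a : Z ⟶ X} {b : Z ⟶ Y} {a' : Z' ⟶ X} {b' : Z' ⟶ Y} (h : IsPullback a b f g)
    (h' : IsPullback a' b' f g) (hb : P b) : P b' := by
  rw [← h'.isoIsPullback_hom_snd X Y h]
  exact (P.cancel_left_of_respectsIso _ _).2 hb

/-- Let (U, R, s, t, c) be a groupoid scheme over S with stabilizer group scheme G -> U, let τ be the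
étale, smooth or fppf topology (given as the corresponding precoverage K), and let P be a property
of scheme morphisms that is τ-local on the target. (The published statement also allows the syntomic
topology; this row omits it.) Assume {s : R -> U} and {t : R -> U} are τ-coverings. If W is the
largest open subscheme of U such that the restriction G_W -> W of the stabilizer has P, then W is
R-invariant: s^{-1}(W) = t^{-1}(W). (A groupoid scheme carries U, R, s, t, c, e, i over S with the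
groupoid axioms on T-points; c is defined on the fibre product of s and t and sends a pair (a, b)
with s(a) = t(b) to a composed with b.) -/
theorem result (S : Scheme.{u}) (G : Grpd.GroupoidScheme S) (K : Precoverage Scheme.{u}) (hK : K = Scheme.etalePrecoverage ∨ K = Scheme.precoverage @Smooth ∨ K = Scheme.fppfPrecoverage) (P : MorphismProperty Scheme.{u}) [P.IsLocalAtTarget K] (hs : Presieve.singleton G.s ∈ K G.U) (ht : Presieve.singleton G.t ∈ K G.U) (W : G.U.Opens) (hW : P (G.stabilizerToU ∣_ W)) (hmax : ∀ W' : G.U.Opens, P (G.stabilizerToU ∣_ W') → W' ≤ W) : G.s ⁻¹ᵁ W = G.t ⁻¹ᵁ W := by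
  classical
  obtain ⟨Q, hQb, hQc, hQo, hQf, rfl⟩ : ∃ Q : MorphismProperty Scheme.{u}, Q.IsStableUnderBaseChange ∧
      Q.IsStableUnderComposition ∧ (∀ {X Y : Scheme.{u}} (f : X ⟶ Y), IsOpenImmersion f → Q f) ∧
      (∀ {X Y : Scheme.{u}} (f : X ⟶ Y), Q f → Flat f ∧ LocallyOfFinitePresentation f) ∧
      K = Scheme.precoverage Q := by
    rcases hK with rfl | rfl | rfl
    · exact ⟨@Etale, inferInstance, inferInstance, fun f _ => inferInstance, fun f _ => ⟨inferInstance, inferInstance⟩, rfl⟩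
    · exact ⟨@Smooth, inferInstance, inferInstance, fun f _ => inferInstance, fun f _ => ⟨inferInstance, inferInstance⟩, rfl⟩
    · exact ⟨@Flat ⊓ @LocallyOfFinitePresentation, inferInstance, inferInstance,
        fun f _ => ⟨inferInstance, inferInstance⟩, fun f h => h, rfl⟩
  rw [Scheme.singleton_mem_precoverage_iff] at hs ht
  obtain ⟨_, _⟩ := hQf _ ht.2
  haveI : UniversallyOpen G.t := inferInstance
  let W' : G.U.Opens := ⟨⇑G.t '' (⇑G.s ⁻¹' (W : Set G.U)), G.t.isOpenMap _ (W.2.preimage G.s.continuous)⟩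
  suffices h : W' ≤ W by
    rw [invariant_iff]
    exact fun {x y} hxy hx => h ((mem_sat G).2 ⟨x, hx, Rel.symm hxy⟩)
  apply hmax
  let V : G.R.Opens := G.s ⁻¹ᵁ W
  have hV : V ≤ G.t ⁻¹ᵁ W' := fun r hr => ⟨r, hr, rfl⟩
  let τ : V.toScheme ⟶ W'.toScheme := G.t.resLE W' V hV
  have hτ : Presieve.singleton τ ∈ Scheme.precoverage Q W'.toScheme := by
    rw [Scheme.singleton_mem_precoverage_iff]
    refine ⟨fun w => ?_, ?_⟩
    · obtain ⟨r, hr, hrw⟩ := w.2
      refine ⟨⟨r, hr⟩, W'.ι.isOpenEmbedding.injective ?_⟩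
      change (τ ≫ W'.ι) ⟨r, hr⟩ = W'.ι w
      rw [Scheme.Hom.resLE_comp_ι]
      exact hrw
    · exact Q.comp_mem _ _ (hQo _ inferInstance) (Q.of_isPullback (isPullback_morphismRestrict G.t W').flip ht.2)
  have hσ : Presieve.singleton (G.s ∣_ W) ∈ Scheme.precoverage Q W.toScheme := by
    rw [Scheme.singleton_mem_precoverage_iff]
    refine ⟨fun w => ?_, Q.of_isPullback (isPullback_morphismRestrict G.s W).flip hs.2⟩
    obtain ⟨r, hr⟩ := hs.1 w.1
    exact ⟨⟨r, show G.s r ∈ W by rw [hr]; exact w.2⟩, W.ι.isOpenEmbedding.injective (by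
      rw [← Scheme.Hom.comp_apply, morphismRestrict_ι]; exact hr)⟩
  refine MorphismProperty.IsLocalAtTarget.of_forall_pullbackSnd hτ ?_
  rintro _ _ _ ⟨⟩
  obtain ⟨c, hc⟩ := exists_conj G
  have hP₁ : P (pullback.snd (G.stabilizerToU ∣_ W) (G.s ∣_ W)) :=
    MorphismProperty.IsLocalAtTarget.pullbackSnd hσ Presieve.singleton.mk hW
  have A := (IsPullback.of_hasPullback (pullback.snd G.stabilizerToU G.s) V.ι).paste_horiz
    (IsPullback.of_hasPullback G.stabilizerToU G.s)
  have B := (IsPullback.of_hasPullback (pullback.snd G.stabilizerToU G.s) V.ι).paste_horiz hc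
  have C := (IsPullback.of_hasPullback (G.stabilizerToU ∣_ W) (G.s ∣_ W)).paste_horiz
    (isPullback_morphismRestrict G.stabilizerToU W).flip
  have D := (IsPullback.of_hasPullback (G.stabilizerToU ∣_ W') τ).paste_horiz
    (isPullback_morphismRestrict G.stabilizerToU W').flip
  rw [morphismRestrict_ι] at C
  rw [show τ ≫ W'.ι = V.ι ≫ G.t from Scheme.Hom.resLE_comp_ι _ _] at D
  exact prop_of_isPullback B D (prop_of_isPullback C A hP₁)

end Groth.Agent.S7505
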