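import Groth.Statements.S7507
import Groth.Agent.SliceLib.Shrink

set_option autoImplicit false
set_option backward.isDefEq.respectTransparency false
universe u
open CategoryTheory CategoryTheory.Limits AlgebraicGeometry
open Grpd
open Groth.Agent

namespace Groth.Agent.S7507

/-- Let (U, R, s, t, c, e, i) be a groupoid scheme over S with s and t Cohen-Macaulay and locally of
finite presentation, G -> U the stabilizer and u a finite type point of U. Then there exist an
affine scheme U', an immersion g : U' -> U locally of finite presentation and a point u' with g(u')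
= u such that: h = s ∘ pr_1 : U' x_(g,U,t) R -> U is Cohen-Macaulay as well as locally of finite
presentation; the source and target s', t' : R' -> U' of the restriction R' = (U' x_(g,U,t) R)
x_(h,U,g) U' are likewise locally of finite presentation and Cohen-Macaulay; and, p being the point
of U' x_(g,U,t) R with projections u' and e(u), the local dimension at p of the fibre of h equals
dim(G_u) (that is, dim_(e'(u'))(F'_(u')) = dim(G'_(u'))). Here a morphism is Cohen-Macaulay when it
is Cohen-Macaulay at every point of its source (flat there with Cohen-Macaulay fibre local ring,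
Grpd.IsCMAt), a finite type point u is one for which Spec κ(u) -> U is locally of finite type, dim_x
of a fibre is the local dimension FlatMor.fibreDimAt, and G_u is the scheme-theoretic fibre of the
stabilizer G -> U over u. (A groupoid scheme carries U, R, s, t, c, e, i over S with the groupoid
axioms on T-points; c is defined on the fibre product of s and t and sends a pair (a, b) with s(a) =
t(b) to a composed with b.) -/
theorem result (S : Scheme.{u}) (G : Grpd.GroupoidScheme S) [LocallyOfFinitePresentation G.s] [LocallyOfFinitePresentation G.t] (hs : ∀ r : G.R, Grpd.IsCMAt G.s r) (ht : ∀ r : G.R, Grpd.IsCMAt G.t r) (u : G.U) (hu : LocallyOfFiniteType (G.U.fromSpecResidueField u)) : ∃ (U' : Scheme.{u}) (_ : IsAffine U') (g : U' ⟶ G.U) (u' : U') (p : ↑(pullback g G.t)), IsImmersion g ∧ LocallyOfFinitePresentation g ∧ g u' = u ∧ pullback.fst g G.t p = u' ∧ pullback.snd g G.t p = G.e u ∧ (∀ q, Grpd.IsCMAt (pullback.snd g G.t ≫ G.s) q) ∧ LocallyOfFinitePresentation (pullback.snd g G.t ≫ G.s) ∧ (∀ q, Grpd.IsCMAt (pullback.snd (pullback.snd g G.t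 ≫ G.s) g) q) ∧ LocallyOfFinitePresentation (pullback.snd (pullback.snd g G.t ≫ G.s) g) ∧ (∀ q, Grpd.IsCMAt (pullback.fst (pullback.snd g G.t ≫ G.s) g ≫ pullback.fst g G.t) q) ∧ LocallyOfFinitePresentation (pullback.fst (pullback.snd g G.t ≫ G.s) g ≫ pullback.fst g G.t) ∧ FlatMor.fibreDimAt (pullback.snd g G.t ≫ G.s) p = topologicalKrullDim ↥(G.stabilizerToU.fiber u) := by
  obtain ⟨U', g, u', hA, hI, hfp, rfl, hcm, hdim, -⟩ := SliceLib.exists_cm_slice G u hu
    (fun r => (CMFlatLib.grpd_isCMAt_iff _ _).1 (hs r)) False False.elim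
  haveI := hI; haveI := hfp
  haveI : LocallyOfFinitePresentation (SliceLib.hs G g) := inferInstance
  haveI : Flat (SliceLib.hs G g) :=
    (Flat.iff_flat_stalkMap (f := SliceLib.hs G g)).2 fun z => ((CMFlatLib.isCMAt_iff _ z).1 (hcm z)).1
  obtain ⟨h1, h2⟩ := SliceLib.isCMAt_restr G g hcm
  obtain ⟨σ, hσ, hσ'⟩ := SliceLib.exists_swap G g
  haveI := hσ
  exact ⟨U', hA, g, u', SliceLib.sec G g u', hI, hfp, rfl, SliceLib.fst_sec_apply G g u',
    SliceLib.snd_sec_apply G g u', fun q => (CMFlatLib.grpd_isCMAt_iff _ _).2 (hcm q), inferInstance,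
    fun q => (CMFlatLib.grpd_isCMAt_iff _ _).2 (h1 q), inferInstance,
    fun q => (CMFlatLib.grpd_isCMAt_iff _ _).2 (h2 q),
    hσ' ▸ (inferInstance : LocallyOfFinitePresentation (σ ≫ pullback.snd (SliceLib.hs G g) g)),
    (SliceLib.fibreDimAt_sec G g u').trans hdim⟩

end Groth.Agent.S7507
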