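import Groth.Statements.S7508
import Groth.Agent.SliceLib.Shrink
import Groth.Agent.ASp.GoodAt

set_option autoImplicit false
set_option backward.isDefEq.respectTransparency false
universe u
open CategoryTheory CategoryTheory.Limits AlgebraicGeometry
open Grpd
open Groth.Agent

namespace Groth.Agent.S7508

/-- Let (U, R, s, t, c, e, i) be a groupoid scheme over S with s and t Cohen-Macaulay and locally of
finite presentation, assume the stabilizer G -> U is locally quasi-finite (locally of finite type
with discrete fibres), and let u be a finite type point of U. Then there exist an affine scheme U',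
an immersion g : U' -> U locally of finite presentation and a point u' with g(u') = u such that h =
s ∘ pr_1 : U' x_(g,U,t) R -> U and the source and target s', t' : R' -> U' of the restriction R' =
(U' x_(g,U,t) R) x_(h,U,g) U' are flat, locally of finite presentation and locally quasi-finite.
Here a morphism is Cohen-Macaulay when it is Cohen-Macaulay at every point of its source (flat there
with Cohen-Macaulay fibre local ring, Grpd.IsCMAt), and a finite type point u is one for which Spec
κ(u) -> U is locally of finite type. (A groupoid scheme carries U, R, s, t, c, e, i over S with the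
groupoid axioms on T-points; c is defined on the fibre product of s and t and sends a pair (a, b)
with s(a) = t(b) to a composed with b.) -/
theorem result (S : Scheme.{u}) (G : Grpd.GroupoidScheme S) [LocallyOfFinitePresentation G.s] [LocallyOfFinitePresentation G.t] (hs : ∀ r : G.R, Grpd.IsCMAt G.s r) (ht : ∀ r : G.R, Grpd.IsCMAt G.t r) [LocallyOfFiniteType G.stabilizerToU] [LocallyQuasiFinite G.stabilizerToU] (u : G.U) (hu : LocallyOfFiniteType (G.U.fromSpecResidueField u)) : ∃ (U' : Scheme.{u}) (_ : IsAffine U') (g : U' ⟶ G.U) (u' : U'), IsImmersion g ∧ LocallyOfFinitePresentation g ∧ g u' = u ∧ (Flat (pullback.snd g G.t ≫ G.s) ∧ LocallyOfFinitePresentation (pullback.snd g G.t ≫ G.s) ∧ LocallyOfFiniteType (pullback.snd g G.t ≫ G.s) ∧ LocallyQuasiFinite (pullback.snd g G.t ≫ G.s)) ∧ (Flat (pullback.snd (pullback.snd g G.t ≫ G.s) g) ∧ LocallyOfFinitePresentation (pullback.snd (pullback.snd g G.t ≫ G.s) g) ∧ LocallyQuasiFinite (pullback.snd (pullback.snd g G.t ≫ G.s) g)) ∧ (Flat (pullback.fst (pullback.snd g G.t ≫ G.s) g ≫ pullback.fst g G.t) ∧ LocallyOfFinitePresentation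 (pullback.fst (pullback.snd g G.t ≫ G.s) g ≫ pullback.fst g G.t) ∧ LocallyQuasiFinite (pullback.fst (pullback.snd g G.t ≫ G.s) g ≫ pullback.fst g G.t)) := by
  haveI : LocallyOfFiniteType (G.stabilizerToU.fiberToSpecResidueField u) :=
    MorphismProperty.pullback_snd (P := @LocallyOfFiniteType) _ _ inferInstance
  have hzero : topologicalKrullDim ↥(G.stabilizerToU.fiber u) = 0 := by
    haveI : DiscreteTopology ↥(G.stabilizerToU.fiber u) :=
      (G.stabilizerToU.fiberHomeo u).symm.discreteTopology_iff.1
        (isDiscrete_iff_discreteTopology.1 (G.stabilizerToU.isDiscrete_preimage_singleton u))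
    haveI : Nonempty ↥(G.stabilizerToU.fiber u) := by
      let e : G.U ⟶ G.stabilizer := pullback.lift G.e (𝟙 G.U) (by
        apply pullback.hom_ext <;> simp [Grpd.GroupoidScheme.j, Grpd.GroupoidScheme.diag, G.e_s, G.e_t])
      exact ⟨(G.stabilizerToU.fiberHomeo u).symm ⟨e u, by
        show (e ≫ G.stabilizerToU) u = u
        rw [show e ≫ G.stabilizerToU = 𝟙 G.U from pullback.lift_snd _ _ _]; rfl⟩⟩
    haveI : Nonempty (TopologicalSpace.IrreducibleCloseds ↥(G.stabilizerToU.fiber u)) :=
      ⟨⟨{Classical.arbitrary _}, isIrreducible_singleton, isClosed_discrete _⟩⟩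
    exact le_antisymm (topologicalKrullDim_zero_of_discreteTopology _) Order.krullDim_nonneg
  obtain ⟨U', g, u', hA, hI, hfp, rfl, hcm, -, hqf⟩ := SliceLib.exists_cm_slice G u hu
    (fun r => (CMFlatLib.grpd_isCMAt_iff _ _).1 (hs r)) True (fun _ => hzero)
  haveI := hI; haveI := hfp
  haveI : LocallyOfFinitePresentation (SliceLib.hs G g) := inferInstance
  haveI : Flat (SliceLib.hs G g) :=
    (Flat.iff_flat_stalkMap (f := SliceLib.hs G g)).2 fun z => ((CMFlatLib.isCMAt_iff _ z).1 (hcm z)).1
  haveI : LocallyQuasiFinite (SliceLib.hs G g) := ASp.locallyQuasiFinite_of_forall_quasiFiniteAt _ (hqf trivial)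
  obtain ⟨σ, hσ, hσ'⟩ := SliceLib.exists_swap G g
  haveI := hσ
  refine ⟨U', hA, g, u', hI, hfp, rfl, ⟨inferInstance, inferInstance, inferInstance, inferInstance⟩,
    ⟨inferInstance, inferInstance, inferInstance⟩, ?_⟩
  rw [← hσ']
  exact ⟨inferInstance, inferInstance, inferInstance⟩

end Groth.Agent.S7508
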