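import Groth.Statements.S7509
import Groth.Agent.FinGrpdLib.Perfect
import Groth.Agent.S7492
import Groth.Agent.S7453
-- import your own Groth.Agent.* helpers here

set_option autoImplicit false
set_option backward.isDefEq.respectTransparency false
universe u
open CategoryTheory CategoryTheory.Limits AlgebraicGeometry
open Grpd
open Groth.Agent Groth.Agent.FinGrpdLib

namespace Groth.Agent.S7509

/-- Let (U, R, s, t, c) be a groupoid scheme over S with U the spectrum of a field and R quasi-compact
(equivalently s, t quasi-compact), and let Z be the scheme-theoretic image of j = (t, s) : R -> U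
x_S U. Then (U, Z, pr_0|_Z, pr_1|_Z, pr_02) is a groupoid scheme over S; stated as: there are a
groupoid scheme G' over S and a morphism of groupoid schemes φ : (U, R, s, t, c) -> G' which is an
isomorphism on object schemes, such that j' : G'.R -> G'.U x_S G'.U is a closed immersion whose
kernel ideal sheaf equals the kernel ideal sheaf of j followed by the induced isomorphism U x_S U ->
G'.U x_S G'.U (so G'.R is the scheme-theoretic image of j, transported). (A groupoid scheme carries
U, R, s, t, c, e, i over S with the groupoid axioms on T-points; c is defined on the fibre product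
of s and t and sends a pair (a, b) with s(a) = t(b) to a composed with b.) -/
theorem result (S : Scheme.{u}) (G : Grpd.GroupoidScheme S) (k : Type u) [Field k] (eU : G.U ≅ Spec (CommRingCat.of k)) [CompactSpace G.R] : ∃ (G' : Grpd.GroupoidScheme S) (φ : Grpd.GroupoidScheme.Hom G G'), IsIso φ.fU ∧ IsClosedImmersion G'.j ∧ G'.j.ker = (G.j ≫ pullback.map G.pU G.pU G'.pU G'.pU φ.fU φ.fU (𝟙 S) ((Category.comp_id _).trans φ.fU_over.symm) ((Category.comp_id _).trans φ.fU_over.symm)).ker := by
  obtain ⟨P, ψ, pU, pR, w, hψU, hψR, hψUU, hfst, hsnd⟩ := exists_pair G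
  obtain ⟨_, _⟩ := point_props eU
  haveI : IsAffine G.U := isAffine_of_isAffineHom eU.hom
  haveI : QuasiSeparatedSpace P.R := by
    haveI : P.R.IsSeparated := Groth.Agent.S7453.result S P k (pU ≪≫ eU)
    infer_instance
  haveI : QuasiCompact ψ.fR := by
    haveI : QuasiCompact (ψ.fR ≫ terminal.from P.R) := by
      rw [terminal.comp_from]; exact HasAffineProperty.iff_of_isAffine.2 ‹_›
    exact QuasiCompact.of_comp ψ.fR (terminal.from P.R)
  haveI := hψU
  obtain ⟨G', χ, hχU, hχR, hker⟩ := Groth.Agent.S7492.result S G P ψ k (pU ≪≫ eU)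
  haveI := hχU
  haveI := hχR
  have hj : G'.j ≫ pullback.map G'.pU G'.pU G.pU G.pU (χ.fU ≫ pU.hom) (χ.fU ≫ pU.hom) (𝟙 S)
      (by rw [Category.comp_id, Category.assoc, w, χ.fU_over])
      (by rw [Category.comp_id, Category.assoc, w, χ.fU_over]) = χ.fR ≫ pR.hom := by
    apply pullback.hom_ext <;>
      simp [pullback.map, hfst, hsnd, Grpd.GroupoidScheme.j, reassoc_of% χ.comm_t, reassoc_of% χ.comm_s]
  let M := pullback.map G'.pU G'.pU G.pU G.pU (χ.fU ≫ pU.hom) (χ.fU ≫ pU.hom) (𝟙 S)
      (by rw [Category.comp_id, Category.assoc, w, χ.fU_over])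
      (by rw [Category.comp_id, Category.assoc, w, χ.fU_over])
  haveI : IsIso M := inferInstance
  haveI : IsClosedImmersion (G'.j ≫ M) := by rw [hj]; infer_instance
  haveI : IsClosedImmersion G'.j := IsClosedImmersion.of_comp G'.j M
  haveI : IsClosedImmersion χ.fR := hχR
  -- the morphism to the image
  have hle : χ.fR.ker ≤ ψ.fR.ker := hker.le
  let lam : G.R ⟶ G'.R := IsClosedImmersion.lift χ.fR ψ.fR hle
  have hl : lam ≫ χ.fR = ψ.fR := IsClosedImmersion.lift_fac _ _ _
  let φ : Grpd.GroupoidScheme.Hom G G' :=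
    { fU := ψ.fU ≫ inv χ.fU
      fR := lam
      fU_over := by rw [Category.assoc, ← χ.fU_over, IsIso.inv_hom_id_assoc, ψ.fU_over]
      comm_s := by
        rw [← cancel_mono χ.fU, Category.assoc, ← χ.comm_s, reassoc_of% hl, ψ.comm_s]
        simp only [Category.assoc, IsIso.inv_hom_id, Category.comp_id]
      comm_t := by
        rw [← cancel_mono χ.fU, Category.assoc, ← χ.comm_t, reassoc_of% hl, ψ.comm_t]
        simp only [Category.assoc, IsIso.inv_hom_id, Category.comp_id]
      comm_c := fun α β h => by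
        rw [← cancel_mono χ.fR]
        refine (Category.assoc _ _ _).trans ((congrArg ((pullback.lift α β h ≫ G.c) ≫ ·) hl).trans ?_)
        exact (ψ.comm_c α β h).trans ((mul_congr (by rw [Category.assoc, hl]) (by rw [Category.assoc, hl]) _).trans
          (χ.comm_c (α ≫ lam) (β ≫ lam) _).symm) }
  have h2 : pU.hom ≫ ψ.fU = 𝟙 _ := by rw [← cancel_epi ψ.fU, reassoc_of% hψUU, Category.comp_id]
  refine ⟨G', φ, inferInstanceAs (IsIso (ψ.fU ≫ inv χ.fU)), inferInstance, ?_⟩
  have e : ψ.fR ≫ pR.hom ≫ inv M = G.j ≫ pullback.map G.pU G.pU G'.pU G'.pU φ.fU φ.fU (𝟙 S)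
      ((Category.comp_id _).trans φ.fU_over.symm) ((Category.comp_id _).trans φ.fU_over.symm) := by
    rw [reassoc_of% hψR]
    congr 1
    rw [IsIso.inv_eq_of_hom_inv_id]
    apply pullback.hom_ext <;> simp [M, φ, reassoc_of% h2]
  rw [← e, show G'.j = χ.fR ≫ pR.hom ≫ inv M by rw [← reassoc_of% hj, IsIso.hom_inv_id, Category.comp_id],
    Scheme.Hom.ker_comp, hker, ← Scheme.Hom.ker_comp]

end Groth.Agent.S7509
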