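import Groth.Statements.S7510
import Groth.Agent.FinGrpdLib.Cancel
-- import your own Groth.Agent.* helpers here

set_option autoImplicit false
set_option backward.isDefEq.respectTransparency false
universe u
open CategoryTheory CategoryTheory.Limits AlgebraicGeometry
open Grpd
open Groth.Agent Groth.Agent.FinGrpdLib

namespace Groth.Agent.S7510

/-- The inverse of a composite. -/
theorem inv_mul_i {S : Scheme.{u}} {G : Grpd.GroupoidScheme S} {T : Scheme.{u}} {α β : T ⟶ G.R}
    (h : (α ≫ G.i) ≫ G.s = β ≫ G.t) (h' : (β ≫ G.i) ≫ G.s = α ≫ G.t) :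
    mul G (β ≫ G.i) α h' ≫ G.i = mul G (α ≫ G.i) β h := by
  have ht : β ≫ G.t = α ≫ G.t := by rw [← h, Category.assoc, G.i_s]
  let f : (⟨α ≫ G.s⟩ : Pt G T) ⟶ ⟨α ≫ G.t⟩ := arr α
  let g : (⟨β ≫ G.s⟩ : Pt G T) ⟶ ⟨α ≫ G.t⟩ := ⟨β, rfl, ht⟩
  exact congrArg Subtype.val (show Groupoid.inv (f ≫ Groupoid.inv g) = g ≫ Groupoid.inv f by simp)

/-- The double of the arrows over `U'` is a base change of `h` along the target. -/
theorem isPullback_double {S : Scheme.{u}} (G : Grpd.GroupoidScheme S) {U' D : Scheme.{u}} (g : U' ⟶ G.U)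
    {a b : D ⟶ pullback g G.t} (hD : IsPullback a b (pullback.fst g G.t) (pullback.fst g G.t))
    (h : ((a ≫ pullback.snd g G.t) ≫ G.i) ≫ G.s = (b ≫ pullback.snd g G.t) ≫ G.t) :
    IsPullback a (mul G ((a ≫ pullback.snd g G.t) ≫ G.i) (b ≫ pullback.snd g G.t) h)
      (pullback.snd g G.t ≫ G.s) G.t := by
  refine ⟨⟨by rw [mul_t, Category.assoc, G.i_t, Category.assoc]⟩, ⟨PullbackCone.IsLimit.mk _
    (fun c => hD.lift c.fst (pullback.lift (c.fst ≫ pullback.fst g G.t)
      (mul G (c.fst ≫ pullback.snd g G.t) c.snd ((Category.assoc _ _ _).trans c.condition))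
      (by rw [mul_t, Category.assoc, Category.assoc, pullback.condition])) (by rw [pullback.lift_fst]))
    (fun c => hD.lift_fst _ _ _) (fun c => ?_) (fun c m h₁ h₂ => ?_)⟩⟩
  · rw [comp_mul, mul_congr (show _ ≫ (a ≫ pullback.snd g G.t) ≫ G.i = (c.fst ≫ pullback.snd g G.t) ≫ G.i by
      simp only [Category.assoc, IsPullback.lift_fst_assoc])
      (show _ ≫ b ≫ pullback.snd g G.t = mul G (c.fst ≫ pullback.snd g G.t) c.snd
        ((Category.assoc _ _ _).trans c.condition) by
        rw [IsPullback.lift_snd_assoc, pullback.lift_snd])]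
    exact mul_inv_cancel _ _
  · apply hD.hom_ext
    · rw [h₁, hD.lift_fst]
    · rw [hD.lift_snd]
      apply pullback.hom_ext
      · rw [pullback.lift_fst, Category.assoc, ← hD.w, reassoc_of% h₁]
      · rw [pullback.lift_snd]
        have h₂' : mul G ((m ≫ a ≫ pullback.snd g G.t) ≫ G.i) (m ≫ b ≫ pullback.snd g G.t)
            (by simpa only [Category.assoc] using congrArg (m ≫ ·) h) = c.snd := by
          rw [← h₂]
          simp only [comp_mul]
          exact (mul_congr (by simp only [Category.assoc]) rfl _).symm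
        rw [mul_congr (show c.fst ≫ pullback.snd g G.t = m ≫ a ≫ pullback.snd g G.t by rw [reassoc_of% h₁]) h₂'.symm]
        exact ((Category.assoc _ _ _).trans (mul_inv_cancel' _ _).symm)

/-- Let (U, R, s, t, c, e, i) be a groupoid scheme over S and g : U' -> U a morphism; write h = s ∘ pr_1
: U' x_(g,U,t) R -> U. Let P, Q, R be properties of morphisms of schemes, with P invariant under
composition with isomorphisms, such that (1) R implies Q, (2) Q is stable under base change and
composition, (3) every morphism f : X -> Y with Q has a largest open W(P, f) of X on which the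
restriction of f has P (given here as a function W with these two properties), and (4) for f with Q
and a base change along Y' -> Y with R, the preimage of W(P, f) in X x_Y Y' is W(P, f') for the base
change f'. If s, t have R and g has Q, then there is an open W of U' whose preimage in U' x_(g,U,t)
R equals W(P, h). (The published statement speaks of arbitrary properties of morphisms; this row
asks P to be invariant under composition with isomorphisms, which the proof uses to identify the
largest opens on the two isomorphic fibre products of h with t and with s.) (A groupoid scheme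
carries U, R, s, t, c, e, i over S with the groupoid axioms on T-points; c is defined on the fibre
product of s and t and sends a pair (a, b) with s(a) = t(b) to a composed with b.) -/
theorem result (S : Scheme.{u}) (G : Grpd.GroupoidScheme S) {U' : Scheme.{u}} (g : U' ⟶ G.U) (P Q R : MorphismProperty Scheme.{u}) [P.RespectsIso] (hRQ : R ≤ Q) [Q.IsStableUnderBaseChange] [Q.IsStableUnderComposition] (W : ∀ {X Y : Scheme.{u}} (f : X ⟶ Y), Q f → X.Opens) (hWP : ∀ {X Y : Scheme.{u}} (f : X ⟶ Y) (hf : Q f), P ((W f hf).ι ≫ f)) (hWmax : ∀ {X Y : Scheme.{u}} (f : X ⟶ Y) (hf : Q f) (V : X.Opens), P (V.ι ≫ f) → V ≤ W f hf) (hWbc : ∀ {X Y Y' : Scheme.{u}} (f : X ⟶ Y) (hf : Q f) (b : Y' ⟶ Y), R b → ∀ hf' : Q (pullback.snd f b), pullback.fst f b ⁻¹ᵁ W f hf = W (pullback.snd f b) hf') (hs : R G.s) (ht : R G.t) (hg : Q g) (hh : Q (pullback.snd g G.t ≫ G.s)) : ∃ V : U'.Opens, pullback.fst g G.t ⁻¹ᵁ V = W (pullback.snd g G.t ≫ G.s) hh := by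
  let h := pullback.snd g G.t ≫ G.s
  let π := pullback.fst g G.t
  have W_le : ∀ {Z X Y : Scheme.{u}} (e : Z ⟶ X) [IsIso e] (f : X ⟶ Y) (hf : Q f) (f' : Z ⟶ Y) (hf' : Q f'),
      e ≫ f = f' → e ⁻¹ᵁ W f hf ≤ W f' hf' := by
    intro Z X Y e _ f hf f' hf' he
    apply hWmax
    rw [← he, ← morphismRestrict_ι_assoc]
    exact (P.cancel_left_of_respectsIso _ _).2 (hWP f hf)
  have W_bc : ∀ {D X Y Y' : Scheme.{u}} {a : D ⟶ X} {b : D ⟶ Y'} {f : X ⟶ Y} {c : Y' ⟶ Y} (sq : IsPullback a b f c)
      (hf : Q f), R c → ∀ hb : Q b, a ⁻¹ᵁ W f hf = W b hb := by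
    intro D X Y Y' a b f c sq hf hc hb
    have hq : Q (pullback.snd f c) := MorphismProperty.pullback_snd _ _ hf
    rw [← sq.isoPullback_hom_fst, Scheme.Hom.comp_preimage, hWbc f hf c hc hq]
    refine le_antisymm (W_le _ _ hq b hb sq.isoPullback_hom_snd) fun z hz => ?_
    have hx := W_le sq.isoPullback.inv b hb _ hq sq.isoPullback_inv_snd
      (show sq.isoPullback.hom z ∈ sq.isoPullback.inv ⁻¹ᵁ W b hb by
        change sq.isoPullback.inv (sq.isoPullback.hom z) ∈ W b hb
        rwa [← Scheme.Hom.comp_apply, Iso.hom_inv_id])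
    exact hx
  let a := pullback.fst π π
  let b := pullback.snd π π
  have hab : ((a ≫ pullback.snd g G.t) ≫ G.i) ≫ G.s = (b ≫ pullback.snd g G.t) ≫ G.t := by
    rw [Category.assoc, G.i_s, Category.assoc, Category.assoc, ← pullback.condition]
    exact ((Category.assoc _ _ _).symm.trans (congrArg (· ≫ g) (pullback.condition : a ≫ π = b ≫ π))).trans (Category.assoc _ _ _)
  have hba : ((b ≫ pullback.snd g G.t) ≫ G.i) ≫ G.s = (a ≫ pullback.snd g G.t) ≫ G.t := by
    rw [Category.assoc, G.i_s, Category.assoc, Category.assoc, ← pullback.condition]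
    exact (((Category.assoc _ _ _).symm.trans (congrArg (· ≫ g) (pullback.condition : a ≫ π = b ≫ π))).trans (Category.assoc _ _ _)).symm
  let γ := mul G ((a ≫ pullback.snd g G.t) ≫ G.i) (b ≫ pullback.snd g G.t) hab
  have A : IsPullback a γ h G.t := isPullback_double G g (IsPullback.of_hasPullback π π) hab
  have B' : IsPullback b (mul G ((b ≫ pullback.snd g G.t) ≫ G.i) (a ≫ pullback.snd g G.t) hba) h G.t :=
    isPullback_double G g (IsPullback.of_hasPullback π π).flip hba
  haveI := isIso_i G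
  have B : IsPullback b γ h G.s := by
    refine B'.of_iso (Iso.refl _) (Iso.refl _) (asIso G.i) (Iso.refl _) ?_ ?_ (by simp) ?_
    · simp
    · simp only [Iso.refl_hom, Category.id_comp, asIso_hom]
      exact inv_mul_i hab hba
    · simp [G.i_s]
  have hQh : Q h := hh
  have hγ : Q γ := Q.of_isPullback A hQh
  have key : a ⁻¹ᵁ W h hQh = b ⁻¹ᵁ W h hQh := by rw [W_bc A hQh ht hγ, W_bc B hQh hs hγ]
  let σ : U' ⟶ pullback g G.t := pullback.lift (𝟙 U') (g ≫ G.e) (by rw [Category.assoc, G.e_t, Category.id_comp, Category.comp_id])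
  refine ⟨σ ⁻¹ᵁ W h hQh, TopologicalSpace.Opens.ext (Set.ext fun x => ?_)⟩
  have hσ : π (σ (π x)) = π x := by
    rw [← Scheme.Hom.comp_apply, pullback.lift_fst]; rfl
  obtain ⟨w, hw₁, hw₂⟩ := Scheme.Pullback.exists_preimage_pullback (f := π) (g := π) (σ (π x)) x hσ
  change σ (π x) ∈ W h hQh ↔ x ∈ W h hQh
  rw [← hw₁, ← hw₂]
  change w ∈ a ⁻¹ᵁ W h hQh ↔ w ∈ b ⁻¹ᵁ W h hQh
  rw [key]

end Groth.Agent.S7510
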