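import Groth.Statements.S7511
import Groth.Agent.HTopV.Fpqc
-- import your own Groth.Agent.* helpers here

set_option autoImplicit false
universe u
open CategoryTheory CategoryTheory.Limits AlgebraicGeometry
open HTop

namespace Groth.Agent.S7511

/-- Let {f_i : T_i -> T} be a family of morphisms of schemes (indexed by a type in the universe of T, so
that the coproduct exists). Then it is an fpqc covering if and only if the one-arrow family
consisting of the induced morphism from the coproduct of the T_i to T is an fpqc covering. -/
theorem result {T : Scheme.{u}} (E : PreZeroHypercover.{u} T) : E.presieve₀ ∈ Scheme.fpqcPrecoverage T ↔ Presieve.singleton (Sigma.desc E.f) ∈ Scheme.fpqcPrecoverage T := by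
  rw [Groth.Agent.HTopV.mem_fpqc_iff, ← show (PreZeroHypercover.singleton.{u} (Sigma.desc E.f)).presieve₀ = _ from
      PreZeroHypercover.presieve₀_singleton _,
    Groth.Agent.HTopV.mem_fpqc_iff, Groth.Agent.HTopV.quasiCompactCover_sigmaDesc_iff]
  refine and_congr_right fun _ => ⟨fun h _ => IsZariskiLocalAtSource.sigmaDesc h, fun h i => ?_⟩
  haveI : Flat (Sigma.desc E.f) := h PUnit.unit
  rw [← Sigma.ι_desc E.f i]
  infer_instance

end Groth.Agent.S7511
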