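import Groth.Statements.S7521
import Groth.Agent.AmpleEmb.FiniteSet
import Groth.Agent.S7483
-- import your own Groth.Agent.* helpers here

set_option autoImplicit false
open CategoryTheory CategoryTheory.Limits AlgebraicGeometry
universe u
open Desc

namespace Groth.Agent.S7521

/-- Let p : X -> Y be a surjective finite locally free morphism and V a scheme over X which has an
invertible module ample relative to V -> X. Then every descent datum on V relative to p is
effective. (A quasi-projective morphism V -> X, in particular a projective one, carries such a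
module.) (Descent data are taken in functor-of-points form.) -/
theorem result {X Y : Scheme.{u}} (p : X ⟶ Y) [Surjective p] [IsFinite p] [Flat p] [LocallyOfFinitePresentation p] (D : Desc.SchDD p) (L : D.obj.left.Modules) (hL : RelAmple.IsRelAmple D.obj.hom L) : ∃ W : Over Y, Nonempty ((Desc.toDD p).obj W ≅ D) := by
  refine S7483.result p D fun y s hs => ?_
  obtain ⟨_, ⟨V, hV, rfl⟩, hyV, -⟩ := Y.isBasis_affineOpens.exists_subset_of_mem_open (Set.mem_univ y) isOpen_univ
  let W := D.obj.hom ⁻¹ᵁ (p ⁻¹ᵁ V)
  have hL' : CohB1.IsAmple (L.restrict W.ι) := hL.2 ⟨_, IsAffineOpen.preimage hV p⟩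
  obtain ⟨n, t, hst, -, ht⟩ := AmpleEmb.exists_genLocus_finite hL' (Z := W.ι ⁻¹' (s : Set D.obj.left))
    (s.finite_toSet.preimage W.ι.isOpenEmbedding.injective.injOn) (U := ⊤) fun _ _ => trivial
  refine ⟨_, ht.image_of_isOpenImmersion W.ι, fun v hv => ?_⟩
  have hvW : v ∈ W := by
    show p (D.obj.hom v) ∈ V
    rw [hs v hv]; exact hyV
  exact ⟨⟨v, hvW⟩, hst hv, rfl⟩

end Groth.Agent.S7521
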