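import Groth.Statements.S7527
import Groth.Agent.SpectralLib.Basic

set_option autoImplicit false
universe u
open SpecSp

namespace Groth.Agent.S7527

/-- Let X be a spectral space and x, y ∈ X. Then either there is a third point specializing to both x
and y, or there are disjoint open neighbourhoods of x and of y. -/
theorem result {X : Type u} [TopologicalSpace X] [SpectralSpace X] (x y : X) :
    (∃ z : X, z ⤳ x ∧ z ⤳ y) ∨
    (∃ U V : Set X, IsOpen U ∧ IsOpen V ∧ x ∈ U ∧ y ∈ V ∧ Disjoint U V) := by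
  by_contra! H
  obtain ⟨h1, h2⟩ := H
  let ι := {U : Set X // IsOpen U ∧ IsCompact U ∧ (x ∈ U ∨ y ∈ U)}
  obtain ⟨V, ⟨hVo, hVc⟩, hxV, -⟩ :=
    PrespectralSpace.isTopologicalBasis.exists_subset_of_mem_open (Set.mem_univ x) isOpen_univ
  obtain ⟨W, ⟨hWo, hWc⟩, hyW, -⟩ :=
    PrespectralSpace.isTopologicalBasis.exists_subset_of_mem_open (Set.mem_univ y) isOpen_univ
  let A := {p : Set X × Set X // IsOpen p.1 ∧ IsCompact p.1 ∧ IsOpen p.2 ∧ IsCompact p.2 ∧ x ∈ p.1 ∧ y ∈ p.2}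
  have : Nonempty A := ⟨⟨(V, W), hVo, hVc, hWo, hWc, hxV, hyW⟩⟩
  obtain ⟨z, hz⟩ := SpectralLib.nonempty_iInter_of_directed (fun p : A => p.1.1 ∩ p.1.2)
    (fun p => @IsClosed.inter X _ _ (constructibleTopology X)
      (SpectralLib.isClosed_C_of_compactOpen p.2.1 p.2.2.1)
      (SpectralLib.isClosed_C_of_compactOpen p.2.2.2.1 p.2.2.2.2.1))
    (fun p q => ⟨⟨(p.1.1 ∩ q.1.1, p.1.2 ∩ q.1.2), p.2.1.inter q.2.1,
      QuasiSeparatedSpace.inter_isCompact _ _ p.2.1 p.2.2.1 q.2.1 q.2.2.1,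
      p.2.2.2.1.inter q.2.2.2.1,
      QuasiSeparatedSpace.inter_isCompact _ _ p.2.2.2.1 p.2.2.2.2.1 q.2.2.2.1 q.2.2.2.2.1,
      ⟨p.2.2.2.2.2.1, q.2.2.2.2.2.1⟩, ⟨p.2.2.2.2.2.2, q.2.2.2.2.2.2⟩⟩,
      fun w hw => ⟨hw.1.1, hw.2.1⟩, fun w hw => ⟨hw.1.2, hw.2.2⟩⟩)
    (fun p => Set.not_disjoint_iff_nonempty_inter.mp
      (h2 p.1.1 p.1.2 p.2.1 p.2.2.2.1 p.2.2.2.2.2.1 p.2.2.2.2.2.2))
  simp only [Set.mem_iInter] at hz
  exact h1 z (SpectralLib.specializes_of_forall_compactOpen fun U ho hc hxU =>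
      (hz ⟨(U, W), ho, hc, hWo, hWc, hxU, hyW⟩).1)
    (SpectralLib.specializes_of_forall_compactOpen fun U ho hc hyU =>
      (hz ⟨(V, U), hVo, hVc, ho, hc, hxV, hyU⟩).2)

end Groth.Agent.S7527
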