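import Groth.Statements.S7528
import Groth.Agent.SpectralLib.Basic

set_option autoImplicit false
universe u
open SpecSp

namespace Groth.Agent.S7528

/-- For a spectral space X the following are equivalent: (1) X is profinite, i.e. quasi-compact,
Hausdorff and totally disconnected (quasi-compactness being automatic); (2) X is Hausdorff; (3) X is
totally disconnected; (4) every quasi-compact open subset is closed; (5) there are no nontrivial
specializations between points; (6) every point is closed; (7) every point is the generic point of
an irreducible component; (8) the constructible topology coincides with the topology of X. -/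
theorem result (X : Type u) [tX : TopologicalSpace X] [SpectralSpace X] :
    List.TFAE [
      T2Space X ∧ TotallyDisconnectedSpace X,
      T2Space X,
      TotallyDisconnectedSpace X,
      ∀ U : Set X, IsOpen U → IsCompact U → IsClosed U,
      ∀ x y : X, x ⤳ y → x = y,
      ∀ x : X, IsClosed ({x} : Set X),
      ∀ x : X, closure ({x} : Set X) ∈ irreducibleComponents X,
      constructibleTopology X = tX] := by
  tfae_have 1 → 2 := And.left
  tfae_have 1 → 3 := And.right
  tfae_have 2 → 4 := fun h U _ hU => hU.isClosed
  tfae_have 3 → 5 := fun h x y hxy => by
    have := h.1 _ (Set.subset_univ _) (isPreconnected_singleton (x := x)).closure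
      (subset_closure rfl) (specializes_iff_mem_closure.mp hxy)
    exact this
  tfae_have 4 → 5 := fun h x y hxy =>
    (hxy.antisymm (SpectralLib.specializes_of_forall_compactOpen fun U ho hc hx =>
      hxy.mem_closed (h U ho hc) hx)).eq
  tfae_have 5 → 6 := fun h x => isClosed_of_closure_subset fun y hy =>
    (h x y (specializes_iff_mem_closure.mpr hy)).symm
  tfae_have 6 → 5 := fun h x y hxy => (hxy.mem_closed (h x) rfl).symm
  tfae_have 5 → 7 := fun h x => by
    refine ⟨isIrreducible_singleton.closure, fun Z hZ hle => ?_⟩
    obtain ⟨z, hz⟩ := QuasiSober.sober hZ.closure isClosed_closure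
    obtain rfl := h z x (hz.specializes (subset_closure (hle (subset_closure rfl))))
    exact fun w hw => hz.def.ge (subset_closure hw)
  tfae_have 7 → 5 := fun h x y hxy => by
    have := (h y).2 isIrreducible_singleton.closure (hxy.closure_subset)
    exact (hxy.antisymm (specializes_iff_mem_closure.mpr (this (subset_closure rfl)))).eq
  tfae_have 5 → 8 := fun h => by
    refine le_antisymm SpectralLib.C_le fun s hs => ?_
    exact SpectralLib.isOpen_of_stableUnderGeneralization hs fun a b hba ha => (h b a hba) ▸ ha
  tfae_have 8 → 1 := fun h => by
    have h1 := SpectralLib.t2Space_C (X := X)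
    have h2 := @TotallySeparatedSpace.totallyDisconnectedSpace X (constructibleTopology X)
      SpectralLib.totallySeparatedSpace_C
    rw [h] at h1 h2
    exact ⟨h1, h2⟩
  tfae_finish

end Groth.Agent.S7528
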