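import Groth.Statements.S7530
import Groth.Agent.SpectralLib.Basic

set_option autoImplicit false
universe u
open SpecSp

namespace Groth.Agent.S7530

/-- Let f : X → Y be a map of spectral spaces which is spectral and bijective, and assume that
generalizations lift along f or that specializations lift along f. Then f is a homeomorphism. -/
theorem result {X Y : Type u} [TopologicalSpace X] [TopologicalSpace Y]
    [SpectralSpace X] [SpectralSpace Y] (f : X → Y) (hf : IsSpectralMap f) (hb : Function.Bijective f)
    (hlift : GeneralizingMap f ∨ SpecializingMap f) :
    IsHomeomorph f := by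
  have hclosed : ∀ Z : Set X, @IsClosed X (constructibleTopology X) Z →
      @IsClosed Y (constructibleTopology Y) (f '' Z) := fun Z hZ =>
    @IsCompact.isClosed Y (constructibleTopology Y) SpectralLib.t2Space_C _
      (@IsCompact.image X Y (constructibleTopology X) (constructibleTopology Y) Z f
        (SpectralLib.isCompact_C_of_isClosed hZ) (SpectralLib.continuous_C hf))
  rcases hlift with hg | hs
  · refine ⟨hf.continuous, fun U hU => ?_, hb⟩
    refine SpectralLib.isOpen_of_stableUnderGeneralization ?_ (hU.stableUnderGeneralization.image hg)
    rw [← compl_compl U, Set.image_compl_eq hb]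
    exact (@isOpen_compl_iff Y _ (constructibleTopology Y)).mpr
      (hclosed _ (SpectralLib.isClosed_C_of_isClosed hU.isClosed_compl))
  · refine isHomeomorph_iff_continuous_isClosedMap_bijective.mpr ⟨hf.continuous, fun Z hZ => ?_, hb⟩
    exact SpectralLib.isClosed_of_stableUnderSpecialization
      (hclosed _ (SpectralLib.isClosed_C_of_isClosed hZ)) (hZ.stableUnderSpecialization.image hs)

end Groth.Agent.S7530
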