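import Groth.Statements.S7532
import Groth.Agent.SpectralLib.Basic

set_option autoImplicit false
universe u
open SpecSp

namespace Groth.Agent.S7532

/-- Let W be the two-point space with one closed and one non-closed point (here the Sierpiński topology
on Prop). A topological space X is spectral exactly when, for some index type I, X admits a
topological embedding into the power W^I whose image is a closed set for the constructible topology
on W^I. -/
theorem result (X : Type u) [TopologicalSpace X] :
    SpectralSpace X ↔ ∃ (I : Type u) (f : X → (I → Prop)),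
      Topology.IsEmbedding f ∧ @IsClosed (I → Prop) (constructibleTopology (I → Prop)) (Set.range f) := by
  have : QuasiSober Prop := SpectralLib.quasiSober_of_finite Prop
  have : SpectralSpace Prop := SpectralLib.spectralSpace_of_finite
  constructor
  · intro _
    let ι := {U : Set X // IsOpen U ∧ IsCompact U}
    let f : X → (ι → Prop) := fun x U => x ∈ U.1
    have hc : Continuous f := continuous_pi fun U => continuous_Prop.mpr U.2.1
    have hi : Topology.IsInducing f := by
      refine ⟨le_antisymm hc.le_induced ?_⟩
      conv_rhs => rw [(PrespectralSpace.isTopologicalBasis (X := X)).eq_generateFrom]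
      refine le_generateFrom fun U hU => ?_
      refine isOpen_induced_iff.mpr ⟨{g | g ⟨U, hU⟩}, ?_, rfl⟩
      exact continuous_Prop.mp (continuous_apply (⟨U, hU⟩ : ι))
    refine ⟨ι, f, hi.isEmbedding, ?_⟩
    refine SpectralLib.isClosed_C_range (SpectralLib.isSpectralMap_of_continuous_C hc ?_)
    refine continuous_generateFrom_iff.mpr fun s hs => ?_
    have key : ∀ P : Set (ι → Prop), IsOpen P → IsCompact P →
        @IsOpen X (constructibleTopology X) (f ⁻¹' P) ∧ @IsClosed X (constructibleTopology X) (f ⁻¹' P) := by
      intro P hPo hPc
      have hpre : IsOpen (f ⁻¹' P) := hPo.preimage hc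
      obtain ⟨t, ht, rfl⟩ := eq_finite_iUnion_of_isTopologicalBasis_of_isCompact_open
        (Subtype.val : ↥{S : Set (ι → Prop) | ∃ (U : ι → Set Prop) (F : Finset ι),
          (∀ i, i ∈ F → IsOpen (U i) ∧ IsCompact (U i)) ∧ S = (F : Set ι).pi U} → Set (ι → Prop))
        (by rw [Subtype.range_coe]; exact SpectralLib.isTopologicalBasis_pi_compactOpen fun _ : ι => Prop)
        P hPc hPo
      simp only [Set.preimage_iUnion]
      have hpiece : ∀ S ∈ t, IsCompact (f ⁻¹' S.1) := by
        intro S _
        obtain ⟨U, F, hU, e⟩ := S.2
        rw [e]
        have : f ⁻¹' ((F : Set ι).pi U) = ⋂ i ∈ F, {x | (x ∈ i.1) ∈ U i} := by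
          ext x; simp [f]
        rw [this]
        refine SpectralLib.isCompact_of_isClosed_C
          (@isClosed_iInter X _ (constructibleTopology X) _ fun i =>
            @isClosed_iInter X _ (constructibleTopology X) _ fun hi => ?_)
        by_cases h1 : True ∈ U i <;> by_cases h2 : False ∈ U i
        · convert @isClosed_univ X (constructibleTopology X) using 1
          ext x; by_cases hx : x ∈ i.1 <;> simp [hx, h1, h2]
        · convert SpectralLib.isClosed_C_of_compactOpen i.2.1 i.2.2 using 1
          ext x; by_cases hx : x ∈ i.1 <;> simp [hx, h1, h2]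
        · exfalso
          exact h1 ((show True ⤳ False by rw [Specializes, nhds_false]; exact le_top).mem_open
            (hU i hi).1 h2)
        · convert @isClosed_empty X (constructibleTopology X) using 1
          ext x; by_cases hx : x ∈ i.1 <;> simp [hx, h1, h2]
      refine ⟨SpectralLib.isOpen_C_of_compactOpen ?_ (ht.isCompact_biUnion hpiece),
        SpectralLib.isClosed_C_of_compactOpen ?_ (ht.isCompact_biUnion hpiece)⟩ <;>
      simpa only [Set.preimage_iUnion] using hpre
    rcases hs with ⟨ho, hcp⟩ | ⟨hcl, hcp⟩
    · exact (key s ho hcp).1
    · have := (key sᶜ hcl.isOpen_compl hcp).2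
      rw [Set.preimage_compl] at this
      exact (@isClosed_compl_iff X (constructibleTopology X) _).mp this
  · rintro ⟨I, f, hf, hr⟩
    have := (SpectralLib.spectralSpace_of_isClosed hr).1
    exact (SpectralLib.spectralSpace_homeomorph hf.toHomeomorph.symm).1

end Groth.Agent.S7532
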