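import Groth.Statements.S7534
import Groth.Agent.SpectralLib.Limit

set_option autoImplicit false
universe u
open CategoryTheory CategoryTheory.Limits
open SpecSp

namespace Groth.Agent.S7534

/-- Let j ↦ X_j be a cofiltered diagram of spectral spaces with spectral transition maps, and X its
limit in topological spaces with projections p_j. (1) If Z_j ⊆ X_j are nonempty, closed in the
constructible topology, and carried into each other by the transition maps, then lim Z_j is
nonempty, i.e. some x ∈ X has p_j(x) ∈ Z_j for all j. (2) If every X_j is nonempty then X is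
nonempty. -/
theorem result {J : Type u} [SmallCategory J] [IsCofiltered J] (F : J ⥤ TopCat.{u})
    (hF : ∀ j, SpectralSpace (F.obj j))
    (hFm : ∀ {i j : J} (a : i ⟶ j), IsSpectralMap (F.map a : F.obj i → F.obj j))
    (c : Cone F) (hc : IsLimit c) :
    (∀ Z : ∀ j, Set (F.obj j),
      (∀ j, (Z j).Nonempty) →
      (∀ j, @IsClosed (F.obj j) (constructibleTopology (F.obj j)) (Z j)) →
      (∀ {i j : J} (a : i ⟶ j), Set.MapsTo (F.map a) (Z i) (Z j)) →
      ∃ x : c.pt, ∀ j, c.π.app j x ∈ Z j) ∧
    ((∀ j, Nonempty (F.obj j)) → Nonempty c.pt) := by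
  have main : ∀ Z : ∀ j, Set (F.obj j), (∀ j, (Z j).Nonempty) →
      (∀ j, @IsClosed (F.obj j) (constructibleTopology (F.obj j)) (Z j)) →
      (∀ {i j : J} (a : i ⟶ j), Set.MapsTo (F.map a) (Z i) (Z j)) →
      ∃ x : c.pt, ∀ j, c.π.app j x ∈ Z j := fun Z hne hZ hmap => by
    obtain ⟨i⟩ := (IsCofiltered.nonempty : Nonempty J)
    refine SpectralLib.exists_point_of_forall F c hc hF hFm Z hZ i fun O S T _ => ?_
    obtain ⟨z, hz⟩ := hne S
    exact ⟨z, fun X hX => hmap (T hX) hz⟩
  refine ⟨main, fun h => ?_⟩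
  obtain ⟨x, -⟩ := main (fun j => Set.univ) (fun j => ⟨(h j).some, trivial⟩)
    (fun j => @isClosed_univ _ (constructibleTopology _)) (fun a => Set.mapsTo_univ _ _)
  exact ⟨x⟩

end Groth.Agent.S7534
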