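import Groth.Statements.S7538
import Groth.Agent.SpectralLib.Limit

set_option autoImplicit false
universe u
open CategoryTheory CategoryTheory.Limits
open SpecSp

namespace Groth.Agent.S7538

/-- Let j ↦ X_j be a cofiltered diagram of spectral spaces with spectral transition maps f_a and X its
limit with projections p_j. (1) Any quasi-compact open U ⊆ X is p_i⁻¹(U_i) for some i and some
quasi-compact open U_i ⊆ X_i. (2) If U_i ⊆ X_i and U_j ⊆ X_j are quasi-compact opens with p_i⁻¹(U_i)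
⊆ p_j⁻¹(U_j), there are k and a : k → i, b : k → j with f_a⁻¹(U_i) ⊆ f_b⁻¹(U_j). (3) If U_i and
finitely many U_{l,i} are quasi-compact opens of X_i with p_i⁻¹(U_i) = ⋃_l p_i⁻¹(U_{l,i}), then
f_a⁻¹(U_i) = ⋃_l f_a⁻¹(U_{l,i}) for some a : j → i. (4) The same with intersections. -/
theorem result {J : Type u} [SmallCategory J] [IsCofiltered J] (F : J ⥤ TopCat.{u})
    (hF : ∀ j, SpectralSpace (F.obj j))
    (hFm : ∀ {i j : J} (a : i ⟶ j), IsSpectralMap (F.map a : F.obj i → F.obj j))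
    (c : Cone F) (hc : IsLimit c) :
    (∀ U : Set c.pt, IsOpen U → IsCompact U →
      ∃ (i : J) (Ui : Set (F.obj i)), IsOpen Ui ∧ IsCompact Ui ∧ c.π.app i ⁻¹' Ui = U) ∧
    (∀ (i j : J) (Ui : Set (F.obj i)) (Uj : Set (F.obj j)),
      IsOpen Ui → IsCompact Ui → IsOpen Uj → IsCompact Uj →
      c.π.app i ⁻¹' Ui ⊆ c.π.app j ⁻¹' Uj →
      ∃ (k : J) (a : k ⟶ i) (b : k ⟶ j), F.map a ⁻¹' Ui ⊆ F.map b ⁻¹' Uj) ∧
    (∀ (i : J) (n : ℕ) (Ui : Set (F.obj i)) (V : Fin n → Set (F.obj i)),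
      IsOpen Ui → IsCompact Ui → (∀ l, IsOpen (V l) ∧ IsCompact (V l)) →
      (c.π.app i ⁻¹' Ui = ⋃ l, c.π.app i ⁻¹' V l →
        ∃ (j : J) (a : j ⟶ i), F.map a ⁻¹' Ui = ⋃ l, F.map a ⁻¹' V l) ∧
      (c.π.app i ⁻¹' Ui = ⋂ l, c.π.app i ⁻¹' V l →
        ∃ (j : J) (a : j ⟶ i), F.map a ⁻¹' Ui = ⋂ l, F.map a ⁻¹' V l)) := by
  have := hF
  refine ⟨fun U ho hcp => SpectralLib.exists_compactOpen_eq F c hc hF hFm ho hcp, ?_, ?_⟩
  · intro i j Ui Uj hio hic hjo hjc h
    obtain ⟨k, a, b, -⟩ := IsCofilteredOrEmpty.cone_objs i j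
    have h' : c.π.app k ⁻¹' (F.map a ⁻¹' Ui) ⊆ c.π.app k ⁻¹' (F.map b ⁻¹' Uj) := fun x hx => by
      simp only [Set.mem_preimage, SpectralLib.map_π F c] at hx ⊢
      exact h hx
    obtain ⟨l, d, hl⟩ := (SpectralLib.exists_of_preimage_subset F c hc hF hFm
      (SpectralLib.isClosed_C_of_compactOpen (hio.preimage (hFm a).continuous) (hic.preimage_of_isOpen (hFm a) hio))
      (SpectralLib.isOpen_C_of_compactOpen (hjo.preimage (hFm b).continuous) (hjc.preimage_of_isOpen (hFm b) hjo))).mp h'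
    refine ⟨l, d ≫ a, d ≫ b, fun x hx => ?_⟩
    rw [Set.mem_preimage, F.map_comp, CategoryTheory.comp_apply] at hx ⊢
    exact hl hx
  · intro i n Ui V ho hcp hV
    have key : ∀ W : Set (F.obj i), IsOpen W → IsCompact W →
        c.π.app i ⁻¹' Ui = c.π.app i ⁻¹' W → ∃ (j : J) (a : j ⟶ i), F.map a ⁻¹' Ui = F.map a ⁻¹' W := by
      intro W hWo hWc h
      obtain ⟨j₁, a₁, h₁⟩ := (SpectralLib.exists_of_preimage_subset F c hc hF hFm
        (SpectralLib.isClosed_C_of_compactOpen ho hcp) (SpectralLib.isOpen_C_of_compactOpen hWo hWc)).mp h.subset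
      obtain ⟨j₂, a₂, h₂⟩ := (SpectralLib.exists_of_preimage_subset F c hc hF hFm
        (SpectralLib.isClosed_C_of_compactOpen hWo hWc) (SpectralLib.isOpen_C_of_compactOpen ho hcp)).mp h.symm.subset
      obtain ⟨j, b₁, b₂, e⟩ := IsCofiltered.cospan a₁ a₂
      refine ⟨j, b₁ ≫ a₁, Set.Subset.antisymm ?_ ?_⟩
      · intro x hx
        rw [Set.mem_preimage, F.map_comp, CategoryTheory.comp_apply] at hx ⊢
        exact h₁ hx
      · intro x hx
        rw [Set.mem_preimage, e, F.map_comp, CategoryTheory.comp_apply] at hx ⊢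
        exact h₂ hx
    refine ⟨fun h => ?_, fun h => ?_⟩
    · simp_rw [← Set.preimage_iUnion] at h
      obtain ⟨j, a, e⟩ := key _ (isOpen_iUnion fun l => (hV l).1) (isCompact_iUnion fun l => (hV l).2) h
      exact ⟨j, a, by rw [e, Set.preimage_iUnion]⟩
    · simp_rw [← Set.preimage_iInter] at h
      obtain ⟨j, a, e⟩ := key _ (isOpen_iInter_of_finite fun l => (hV l).1)
        (SpectralLib.isCompact_of_isClosed_C (@isClosed_iInter _ _ (constructibleTopology _) _ fun l =>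
          SpectralLib.isClosed_C_of_compactOpen (hV l).1 (hV l).2)) h
      exact ⟨j, a, by rw [e, Set.preimage_iInter]⟩

end Groth.Agent.S7538
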