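import Groth.Statements.S7539
import Groth.Agent.SpectralLib.Basic

set_option autoImplicit false
universe u
open SpecSp

namespace Groth.Agent.S7539

/-- For a subset W of a spectral space X, these five conditions coincide: (1) W can be written as an
intersection of constructible subsets and is stable under generalization; (2) W is quasi-compact and
stable under generalization; (3) for some quasi-compact E ⊆ X, W consists exactly of the points that
specialize to a point of E; (4) W is the intersection of some family of quasi-compact opens; (5)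
there are a nonempty index set I and quasi-compact opens U_i with W = ⋂ U_i such that for all i, j
some U_k is contained in U_i ∩ U_j. -/
theorem result {X : Type u} [TopologicalSpace X] [SpectralSpace X] (W : Set X) :
    List.TFAE [
      (∃ S : Set (Set X), (∀ s ∈ S, Topology.IsConstructible s) ∧ W = ⋂₀ S) ∧ StableUnderGeneralization W,
      IsCompact W ∧ StableUnderGeneralization W,
      ∃ E : Set X, IsCompact E ∧ W = {x | ∃ e ∈ E, x ⤳ e},
      ∃ S : Set (Set X), (∀ s ∈ S, IsOpen s ∧ IsCompact s) ∧ W = ⋂₀ S,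
      ∃ (I : Type u) (_ : Nonempty I) (U : I → Set X), (∀ i, IsOpen (U i) ∧ IsCompact (U i)) ∧
        W = ⋂ i, U i ∧ ∀ i j, ∃ k, U k ⊆ U i ∩ U j] := by
  tfae_have 1 → 2 := by
    rintro ⟨⟨S, hS, rfl⟩, hg⟩
    exact ⟨SpectralLib.isCompact_of_isClosed_C (@isClosed_sInter X (constructibleTopology X) S
      fun s hs => (SpectralLib.isClopen_C_of_isConstructible (hS s hs)).1), hg⟩
  tfae_have 2 → 3 := fun ⟨hc, hg⟩ =>
    ⟨W, hc, Set.Subset.antisymm (fun x hx => ⟨x, hx, specializes_rfl⟩)
      (fun x ⟨e, he, hxe⟩ => hg hxe he)⟩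
  tfae_have 3 → 4 := by
    rintro ⟨E, hE, rfl⟩
    refine ⟨{U | IsOpen U ∧ IsCompact U ∧ E ⊆ U}, fun s hs => ⟨hs.1, hs.2.1⟩, ?_⟩
    rw [SpectralLib.generalizations_eq_iInter hE, Set.sInter_eq_iInter]
    rfl
  tfae_have 4 → 5 := by
    rintro ⟨S, hS, rfl⟩
    have key : ∀ t : Finset S, IsOpen (⋂ s ∈ t, (s : Set X)) ∧ IsCompact (⋂ s ∈ t, (s : Set X)) := by
      classical
      intro t
      induction t using Finset.induction_on with
      | empty => simpa using isCompact_univ
      | insert a t _ ih =>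
        rw [Finset.set_biInter_insert]
        exact ⟨(hS a a.2).1.inter ih.1,
          QuasiSeparatedSpace.inter_isCompact _ _ (hS a a.2).1 (hS a a.2).2 ih.1 ih.2⟩
    refine ⟨Finset S, ⟨∅⟩, fun t => ⋂ s ∈ t, (s : Set X), key, ?_, fun s t => ?_⟩
    · ext x
      simp only [Set.mem_sInter, Set.mem_iInter]
      exact ⟨fun h t s _ => h s s.2, fun h s hs => h {⟨s, hs⟩} ⟨s, hs⟩ (Finset.mem_singleton_self _)⟩
    · classical
      refine ⟨s ∪ t, fun x hx => ?_⟩
      simp only [Set.mem_iInter, Set.mem_inter_iff, Finset.mem_union] at hx ⊢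
      exact ⟨fun i hi => hx i (Or.inl hi), fun i hi => hx i (Or.inr hi)⟩
  tfae_have 5 → 1 := by
    rintro ⟨I, _, U, hU, rfl, -⟩
    refine ⟨⟨Set.range U, ?_, (Set.sInter_range U).symm⟩, ?_⟩
    · rintro _ ⟨i, rfl⟩
      exact (hU i).2.isConstructible (hU i).1
    · exact fun x y hyx hx => Set.mem_iInter.mpr fun i => hyx.mem_open (hU i).1 (Set.mem_iInter.mp hx i)
  tfae_finish

end Groth.Agent.S7539
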