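import Groth.Statements.S7540
import Groth.Agent.SpectralLib.Basic

set_option autoImplicit false
universe u
open SpecSp

namespace Groth.Agent.S7540

/-- Let X be a spectral space, I a nonempty index set and U_i ⊆ X quasi-compact opens such that for all
i, j some U_k lies in U_i ∩ U_j; put W = ⋂ U_i. Then every open subset of X containing W contains
some U_i. The published statement also asserts that W is spectral and is the limit of the U_i; this
row states the neighbourhood property. -/
theorem result {X : Type u} [TopologicalSpace X] [SpectralSpace X]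
    {I : Type u} [Nonempty I] (U : I → Set X) (hU : ∀ i, IsOpen (U i) ∧ IsCompact (U i))
    (hdir : ∀ i j, ∃ k, U k ⊆ U i ∩ U j) :
    ∀ V : Set X, IsOpen V → (⋂ i, U i) ⊆ V → ∃ i, U i ⊆ V := by
  intro V hV hsub
  by_contra! H
  obtain ⟨x, hx⟩ := SpectralLib.nonempty_iInter_of_directed (fun i => U i ∩ Vᶜ)
    (fun i => @IsClosed.inter X _ _ (constructibleTopology X)
      (SpectralLib.isClosed_C_of_compactOpen (hU i).1 (hU i).2)
      (SpectralLib.isClosed_C_of_isClosed hV.isClosed_compl))
    (fun i j => (hdir i j).imp fun k hk =>
      ⟨Set.inter_subset_inter_left _ (hk.trans Set.inter_subset_left),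
        Set.inter_subset_inter_left _ (hk.trans Set.inter_subset_right)⟩)
    (fun i => Set.not_subset.mp (H i))
  simp only [Set.mem_iInter] at hx
  exact (hx (Classical.arbitrary I)).2 (hsub (Set.mem_iInter.mpr fun i => (hx i).1))

end Groth.Agent.S7540
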