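import Groth.Statements.S7541
import Groth.Agent.SpectralLib.Basic

set_option autoImplicit false
universe u
open SpecSp

namespace Groth.Agent.S7541

/-- Let X be a spectral space, E ⊆ X a constructible subset and W the set of points of X that specialize
to a point of E. Then the subspace W minus E is a spectral space. (The description of W minus E as a
limit of the U_i minus E is not recorded here.) -/
theorem result {X : Type u} [TopologicalSpace X] [SpectralSpace X]
    (E : Set X) (hE : Topology.IsConstructible E) :
    SpectralSpace ↥({x : X | ∃ e ∈ E, x ⤳ e} \ E) := by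
  refine (SpectralLib.spectralSpace_of_isClosed ?_).1
  obtain ⟨hcl, hop⟩ := SpectralLib.isClopen_C_of_isConstructible hE
  refine @IsClosed.inter X _ _ (constructibleTopology X) ?_ ((@isClosed_compl_iff X (constructibleTopology X) E).mpr hop)
  let ι := {U : Set X // IsOpen U ∧ IsCompact U ∧ E ⊆ U}
  have h : {x | ∃ e ∈ E, x ⤳ e} = ⋂ U : ι, U.1 := by
    ext x
    refine ⟨fun ⟨e, he, hxe⟩ => Set.mem_iInter.mpr fun U => hxe.mem_open U.2.1 (U.2.2.2 he), fun hx => ?_⟩
    rw [Set.mem_iInter] at hx
    by_contra H
    have hH : E ⊆ (closure {x})ᶜ := fun e he hex => H ⟨e, he, specializes_iff_mem_closure.mpr hex⟩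
    obtain ⟨K, hK, hKo, h1, h2⟩ := PrespectralSpace.exists_isCompact_and_isOpen_between
      (SpectralLib.isCompact_of_isClosed_C hcl) isClosed_closure.isOpen_compl hH
    exact h2 (hx ⟨K, hKo, hK, h1⟩) (subset_closure rfl)
  rw [h]
  exact @isClosed_iInter X _ (constructibleTopology X) _ fun U =>
    SpectralLib.isClosed_C_of_compactOpen U.2.1 U.2.2.1

end Groth.Agent.S7541
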