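import Groth.Statements.S7543
import Mathlib
import Groth.Agent.ConstrNoeth.Basic
import Groth.Agent.ConstrNoeth.Prespectral

set_option autoImplicit false
universe u
open ConstrTop

namespace Groth.Agent.S7543

/-- Let X be a topological space such that the quasi-compact opens form a basis for the topology. Let E
⊆ X be constructible in X and let F be a constructible subset of the subspace E. Then F, viewed in
X, is constructible in X. -/
theorem result {X : Type u} [TopologicalSpace X] [PrespectralSpace X]
    (E : Set X) (hE : Topology.IsConstructible E) (F : Set E) (hF : Topology.IsConstructible F) :
    Topology.IsConstructible ((Subtype.val : E → X) '' F) := by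
  exact ConstrPrespectral.image_val_constructible hE hF

end Groth.Agent.S7543
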