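import Groth.Statements.S7544
import Mathlib
import Groth.Agent.ConstrNoeth.Basic
import Groth.Agent.ConstrNoeth.Prespectral

set_option autoImplicit false
universe u
open ConstrTop

namespace Groth.Agent.S7544

/-- Let X be a quasi-compact topological space whose quasi-compact opens form a basis and are closed
under pairwise intersection. Take T ⊆ X to be locally closed, quasi-compact, and with retrocompact
complement. Then T is constructible in X. -/
theorem result {X : Type u} [TopologicalSpace X]
    [CompactSpace X] [PrespectralSpace X] [QuasiSeparatedSpace X]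
    (T : Set X) (hT : IsLocallyClosed T) (hTc : IsCompact T) (hTr : IsRetrocompact Tᶜ) :
    Topology.IsConstructible T := by
  obtain ⟨U, C, hU, hC, rfl⟩ := hT
  obtain ⟨W, hW, hWo, hTW, hWU⟩ := PrespectralSpace.exists_isCompact_and_isOpen_between hTc hU Set.inter_subset_left
  have h2 : IsCompact ((U ∩ C)ᶜ ∩ W) := hTr hW hWo
  have ho : IsOpen ((U ∩ C)ᶜ ∩ W) := by
    have : (U ∩ C)ᶜ ∩ W = Cᶜ ∩ W := by
      ext y
      simp only [Set.mem_inter_iff, Set.mem_compl_iff]
      exact ⟨fun h => ⟨fun hc => h.1 ⟨hWU h.2, hc⟩, h.2⟩, fun h => ⟨fun hc => h.1 hc.2, h.2⟩⟩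
    rw [this]; exact hC.isOpen_compl.inter hWo
  have he : U ∩ C = W \ ((U ∩ C)ᶜ ∩ W) := by
    ext y
    simp only [Set.mem_sdiff, Set.mem_inter_iff, Set.mem_compl_iff]
    constructor
    · exact fun h => ⟨hTW h, fun h' => h'.1 h⟩
    · rintro ⟨hw, hn⟩
      by_contra h
      exact hn ⟨h, hw⟩
  rw [he]
  exact (hW.isConstructible hWo).sdiff (h2.isConstructible ho)

end Groth.Agent.S7544
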