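import Groth.Statements.S7547
import Mathlib
import Groth.Agent.ConstrNoeth.Basic
import Groth.Agent.ConstrNoeth.Prespectral

set_option autoImplicit false
universe u
open PtTop

namespace Groth.Agent.S7547

/-- Let X be a Kolmogorov topological space whose quasi-compact opens form a basis for the topology. If
X is not Jacobson, there is a point x ∈ X which is not closed but such that {x} is locally closed. -/
theorem result {X : Type u} [TopologicalSpace X]
    [T0Space X] [PrespectralSpace X] (hX : ¬ JacobsonSpace X) :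
    ∃ x : X, ¬ IsClosed ({x} : Set X) ∧ IsLocallyClosed ({x} : Set X) := by
  rw [jacobsonSpace_iff_locallyClosed] at hX
  push Not at hX
  obtain ⟨Z, ⟨z, hz⟩, hZ, hno⟩ := hX
  obtain ⟨U, C, hU, hC, rfl⟩ := hZ
  obtain ⟨W, ⟨hWo, hWc⟩, hzW, hWU⟩ := PrespectralSpace.isTopologicalBasis.exists_subset_of_mem_open hz.1 hU
  have : CompactSpace W := isCompact_iff_compactSpace.mp hWc
  obtain ⟨x, hxC, hx⟩ := (hC.preimage (continuous_subtype_val : Continuous ((↑) : W → X))).exists_closed_singleton ⟨⟨z, hzW⟩, hz.2⟩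
  refine ⟨x.1, fun h => Set.eq_empty_iff_forall_notMem.mp hno x.1 ⟨⟨hWU x.2, hxC⟩, h⟩, ?_⟩
  obtain ⟨D, hD, hDe⟩ := isClosed_induced_iff.mp hx
  refine ⟨W, D, hWo, hD, ?_⟩
  ext y
  constructor
  · rintro rfl
    exact ⟨x.2, (Set.ext_iff.mp hDe x).mpr rfl⟩
  · rintro ⟨hy, hyD⟩
    exact congrArg Subtype.val ((Set.ext_iff.mp hDe ⟨y, hy⟩).mp hyD)

end Groth.Agent.S7547
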