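import Groth.Statements.S7548

-- import your own Groth.Agent.* helpers here

set_option autoImplicit false
universe u
open PtTop

namespace Groth.Agent.S7548

/-- Let X be a Jacobson space and let T = ⋃ T_i be a union of subsets T_i ⊆ X each locally closed in X
(open, closed, locally closed and constructible subsets are of this form). Then T is Jacobson and
every point of T closed in T is closed in X. -/
theorem result {X : Type u} [TopologicalSpace X] [JacobsonSpace X]
    {ι : Type u} (T : ι → Set X) (hT : ∀ i, IsLocallyClosed (T i)) :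
    JacobsonSpace ↥(⋃ i, T i) ∧
      closedPoints ↥(⋃ i, T i) ⊆ (Subtype.val : ↥(⋃ i, T i) → X) ⁻¹' closedPoints X := by
  have key : ∀ Z : Set ↥(⋃ i, T i), Z.Nonempty → IsLocallyClosed Z →
      ∃ y ∈ Z, (y : X) ∈ closedPoints X := by
    rintro Z ⟨z, hz⟩ hZ
    obtain ⟨i, hi⟩ := Set.mem_iUnion.mp z.2
    obtain ⟨L, hL, rfl⟩ := (Topology.IsInducing.subtypeVal.isLocallyClosed_iff).mp hZ
    obtain ⟨y, ⟨hy1, hy2⟩, hy3⟩ :=
      nonempty_inter_closedPoints (Z := L ∩ T i) ⟨z.1, hz, hi⟩ (hL.inter (hT i))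
    exact ⟨⟨y, Set.mem_iUnion_of_mem i hy2⟩, hy1, hy3⟩
  refine ⟨jacobsonSpace_iff_locallyClosed.mpr fun Z hne hlc => ?_, fun y hy => ?_⟩
  · obtain ⟨y, hy, hy'⟩ := key Z hne hlc
    exact ⟨y, hy, preimage_closedPoints_subset Subtype.val_injective continuous_subtype_val hy'⟩
  · obtain ⟨y', hy', hy''⟩ := key {y} (Set.singleton_nonempty y)
      (IsClosed.isLocallyClosed (mem_closedPoints_iff.mp hy))
    rw [Set.mem_singleton_iff] at hy'
    exact hy' ▸ hy''


end Groth.Agent.S7548
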