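import Groth.Statements.S7550
import Mathlib
import Groth.Agent.ConstrNoeth.Basic
import Groth.Agent.ConstrNoeth.Prespectral

set_option autoImplicit false
universe u
open PtTop

namespace Groth.Agent.S7550

/-- Let f : X → Y be a continuous and open map of topological spaces, with X Noetherian, every
irreducible closed subset of X having a generic point, and Y Kolmogorov. Then generalizations lift
along f. (Part (1), closed maps are specializing, is a library fact.) -/
theorem result {X Y : Type u} [TopologicalSpace X] [TopologicalSpace Y]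
    [TopologicalSpace.NoetherianSpace X] [QuasiSober X] [T0Space Y]
    (f : X → Y) (hf : Continuous f) (hfo : IsOpenMap f) :
    GeneralizingMap f := by
  intro x y' hy
  have hxcl : x ∈ closure (f ⁻¹' {y'}) := by
    rw [mem_closure_iff]
    intro U hU hxU
    obtain ⟨u, hu, hu'⟩ := hy.mem_open (hfo U hU) ⟨x, hxU, rfl⟩
    exact ⟨u, hu, hu'⟩
  suffices ∀ Y, IsClosed Y → x ∈ closure (f ⁻¹' {y'} ∩ Y) → ∃ a', a' ⤳ x ∧ f a' = y' from
    this Set.univ isClosed_univ (by simpa using hxcl)
  refine ConstrNoeth.irreducible_induction (by simp) (fun A B _ _ hA hB h => ?_) fun Y hY hirr ih h => ?_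
  · rw [Set.inter_union_distrib_left, closure_union] at h
    exact h.elim hA hB
  by_cases hd : Y ⊆ closure (f ⁻¹' {y'} ∩ Y)
  · have hη := hirr.isGenericPoint_genericPoint hY
    refine ⟨_, hη.specializes (closure_minimal Set.inter_subset_right hY h), ?_⟩
    obtain ⟨a, ha⟩ := hirr.nonempty
    obtain ⟨z, hz, hzY⟩ : (f ⁻¹' {y'} ∩ Y).Nonempty := closure_nonempty_iff.mp ⟨a, hd ha⟩
    refine Specializes.antisymm ?_ ?_ |>.eq
    · exact (hz : f z = y') ▸ (hη.specializes hzY).map hf
    · have hm : f hirr.genericPoint ∈ closure {y'} :=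
        closure_mono (by rintro _ ⟨w, hw, rfl⟩; exact hw.1) (image_closure_subset_closure_image hf ⟨_, hd hη.mem, rfl⟩)
      exact specializes_iff_mem_closure.mpr hm
  · refine ih _ isClosed_closure ((closure_minimal Set.inter_subset_right hY).ssubset_of_ne fun e => hd e.ge) ?_
    exact closure_mono (show f ⁻¹' {y'} ∩ Y ⊆ f ⁻¹' {y'} ∩ closure (f ⁻¹' {y'} ∩ Y) from fun w hw => ⟨hw.1, subset_closure hw⟩) h

end Groth.Agent.S7550
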