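import Groth.Statements.S7551

-- import your own Groth.Agent.* helpers here

set_option autoImplicit false
universe u
open PtTop

namespace Groth.Agent.S7551

/-- Let s, t : R → U and π : U → X be continuous maps between topological spaces satisfying: (1) π is an
open map, (2) U is a sober space, (3) s and t have finite fibres, (4) generalizations lift along s
and along t, and (5) the image of (t, s) : R → U × U is an equivalence relation on U and π
identifies X, as a set, with the quotient of U by it. Then X is Kolmogorov. -/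
theorem result {R U X : Type u}
    [TopologicalSpace R] [TopologicalSpace U] [TopologicalSpace X] [QuasiSober U] [T0Space U]
    (s t : R → U) (π : U → X) (hs : Continuous s) (ht : Continuous t) (hπ : Continuous π)
    (hπo : IsOpenMap π) (hsf : ∀ u, (s ⁻¹' {u}).Finite) (htf : ∀ u, (t ⁻¹' {u}).Finite)
    (hsg : GeneralizingMap s) (htg : GeneralizingMap t)
    (hE : Equivalence fun u u' : U => ∃ r, t r = u ∧ s r = u')
    (hπs : Function.Surjective π) (hπq : ∀ u u' : U, π u = π u' ↔ ∃ r, t r = u ∧ s r = u') :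
    T0Space X := by
  classical
  have _ := hs
  have _ := ht
  have _ := hsg
  have _ := htg
  have _ := hπs
  refine ⟨fun x y hxy => ?_⟩
  by_contra hne
  have hC : ∀ z : X, (π ⁻¹' {z}).Finite := by
    intro z
    obtain ⟨w, rfl⟩ := hπs z
    refine ((htf w).image s).subset fun v hv => ?_
    obtain ⟨r, hr, hr'⟩ := (hπq w v).mp (Eq.symm hv)
    exact ⟨r, hr, hr'⟩
  have gen : ∀ z z' : X, z ⤳ z' → ∀ w, π w = z' → ∃ c, π c = z ∧ c ⤳ w := by
    intro z z' h w hw
    have hcl : w ∈ closure (π ⁻¹' {z}) := by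
      rw [mem_closure_iff]
      intro W hW hwW
      obtain ⟨c, hc, hcz⟩ := h.mem_open (hπo W hW) (hw ▸ Set.mem_image_of_mem π hwW)
      exact ⟨c, hc, hcz⟩
    rw [← Set.biUnion_of_singleton (π ⁻¹' {z}), (hC z).closure_biUnion] at hcl
    obtain ⟨c, hc, hcw⟩ := Set.mem_iUnion₂.mp hcl
    exact ⟨c, hc, specializes_iff_mem_closure.mpr hcw⟩
  let D : Finset U := (hC x).toFinset ∪ (hC y).toFinset
  have hmem : ∀ w, w ∈ D ↔ π w = x ∨ π w = y := fun w => by
    simp [D, Set.Finite.mem_toFinset]
  let φ : U → ℕ := fun w => (D.filter (fun d => d ⤳ w)).card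
  obtain ⟨w₀, hw₀⟩ := hπs x
  obtain ⟨w, hwD, hw⟩ := D.exists_min_image φ ⟨w₀, (hmem w₀).mpr (.inl hw₀)⟩
  have key : ∀ c, c ∈ D → π c ≠ π w → ¬ c ⤳ w := by
    intro c hc hcne hcw
    refine (hw c hc).not_gt (Finset.card_lt_card ⟨fun d hd => ?_, fun hsub => ?_⟩)
    · rw [Finset.mem_filter] at hd ⊢
      exact ⟨hd.1, hd.2.trans hcw⟩
    · have := (Finset.mem_filter.mp
        (hsub (Finset.mem_filter.mpr ⟨hwD, specializes_rfl⟩))).2
      exact hcne (congrArg π (hcw.antisymm this).eq)
  rcases (hmem w).mp hwD with h | h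
  · obtain ⟨c, hc, hcw⟩ := gen y x hxy.specializes' w h
    exact key c ((hmem c).mpr (.inr hc)) (by rw [hc, h]; exact Ne.symm hne) hcw
  · obtain ⟨c, hc, hcw⟩ := gen x y hxy.specializes w h
    exact key c ((hmem c).mpr (.inl hc)) (by rw [hc, h]; exact hne) hcw


end Groth.Agent.S7551
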