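import Groth.Statements.S7555
import Mathlib

set_option autoImplicit false
universe u
open PtTop

namespace Groth.Agent.S7555

/-- Let f : X → X be a surjective continuous self-map of a Hausdorff topological space with f ≠ id. Then
there is a closed subset E ⊊ X such that X = E ∪ f(E). -/
theorem result {X : Type u} [TopologicalSpace X] [T2Space X]
    (f : X → X) (hf : Continuous f) (hsurj : Function.Surjective f) (hne : f ≠ id) :
    ∃ E : Set X, IsClosed E ∧ E ≠ Set.univ ∧ E ∪ f '' E = Set.univ := by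
  obtain ⟨x, hx⟩ := Function.ne_iff.mp hne
  obtain ⟨U, V, hU, hV, hfx, hxV, hd⟩ := t2_separation hx
  refine ⟨(f ⁻¹' U ∩ V)ᶜ, ((hU.preimage hf).inter hV).isClosed_compl, ?_, ?_⟩
  · intro h
    exact (Set.eq_empty_iff_forall_notMem.mp (Set.compl_univ_iff.mp h)) x ⟨hfx, hxV⟩
  · ext w
    simp only [Set.mem_union, Set.mem_compl_iff, Set.mem_image, Set.mem_univ, iff_true]
    by_cases hw : w ∈ f ⁻¹' U ∩ V
    · obtain ⟨z, rfl⟩ := hsurj w
      exact Or.inr ⟨z, fun hz => Set.disjoint_left.mp hd hz.1 hw.2, rfl⟩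
    · exact Or.inl hw

end Groth.Agent.S7555
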