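import Groth.Statements.S7556
import Mathlib.Topology.ExtremallyDisconnected
import Mathlib.Topology.Compactification.StoneCech

set_option autoImplicit false
universe u
open PtTop

namespace Groth.Agent.S7556

/-- A type with the discrete topology. -/
def Disc (X : Type u) : Type u := X
instance (X : Type u) : TopologicalSpace (Disc X) := ⊥
instance (X : Type u) : DiscreteTopology (Disc X) := ⟨rfl⟩

open Set in
theorem eq_id_of_comp_eq {X E : Type u} [TopologicalSpace X] [TopologicalSpace E] [T2Space E] {p : E → X}
    (hp : Function.Surjective p) (hmin : ∀ F : Set E, IsClosed F → F ≠ univ → p '' F ≠ univ)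
    {h : E → E} (hc : Continuous h) (he : p ∘ h = p) : h = id := by
  funext e
  by_contra hne
  obtain ⟨V, U, hV, hU, hhe, heU, hd⟩ := t2_separation hne
  let U' : Set E := U ∩ h ⁻¹' V
  have hU' : IsOpen U' := hU.inter (hV.preimage hc)
  have heU' : e ∈ U' := ⟨heU, hhe⟩
  have hne' : U'ᶜ ≠ univ := fun H => (H.ge (mem_univ e)) heU'
  obtain ⟨x, hx⟩ := (ne_univ_iff_exists_notMem _).1 (hmin _ hU'.isClosed_compl hne')
  obtain ⟨y, rfl⟩ := hp x
  have hy : y ∈ U' := by_contra fun H => hx ⟨y, H, rfl⟩
  have hhy : h y ∈ U' := by_contra fun H => hx ⟨h y, H, congrFun he y⟩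
  exact disjoint_left.1 hd hy.2 hhy.1

/-- Let X be a quasi-compact Hausdorff space. There is a continuous surjection p : X' → X with X'
quasi-compact, Hausdorff and extremally disconnected such that no proper closed subset of X' maps
onto X; and if q : X'' → X is a second cover with the same properties, there is a homeomorphism X' ≃
X'' compatible with p and q. -/
theorem result (X : Type u) [TopologicalSpace X] [CompactSpace X] [T2Space X] :
    (∃ (X' : Type u) (_ : TopologicalSpace X') (_ : CompactSpace X') (_ : T2Space X') (_ : ExtremallyDisconnected X')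
        (p : X' → X), Continuous p ∧ Function.Surjective p ∧
        ∀ E : Set X', IsClosed E → E ≠ Set.univ → p '' E ≠ Set.univ) ∧
    (∀ (X' X'' : Type u) [TopologicalSpace X'] [CompactSpace X'] [T2Space X'] [ExtremallyDisconnected X']
        [TopologicalSpace X''] [CompactSpace X''] [T2Space X''] [ExtremallyDisconnected X'']
        (p : X' → X) (q : X'' → X),
        Continuous p → Function.Surjective p → (∀ E : Set X', IsClosed E → E ≠ Set.univ → p '' E ≠ Set.univ) →
        Continuous q → Function.Surjective q → (∀ E : Set X'', IsClosed E → E ≠ Set.univ → q '' E ≠ Set.univ) →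
        ∃ h : X' ≃ₜ X'', q ∘ h = p) := by
  constructor
  · let D := StoneCech (Disc X)
    have hD : CompactT2.Projective D := StoneCech.projective
    let ι₀ : Disc X → X := fun x => x
    have hid : Continuous ι₀ := continuous_of_discreteTopology
    let π : D → X := stoneCechExtend hid
    have hπ : Continuous π := continuous_stoneCechExtend hid
    have hπs : Function.Surjective π := fun x =>
      ⟨stoneCechUnit (x : Disc X), congrFun (stoneCechExtend_extends hid) x⟩
    obtain ⟨E, hE, hEs, hmin⟩ := exists_compact_surjective_zorn_subset hπ hπs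
    let ρ : E → X := E.domRestrict π
    have hρ : Continuous ρ := hπ.comp continuous_subtype_val
    have hρs : Function.Surjective ρ := fun x => by
      obtain ⟨d, hd, rfl⟩ := hEs.ge (Set.mem_univ x)
      exact ⟨⟨d, hd⟩, rfl⟩
    have hmin' : ∀ F : Set E, IsClosed F → F ≠ Set.univ → ρ '' F ≠ Set.univ := fun F h₁ h₂ => hmin F h₂ h₁
    obtain ⟨r, hr, hre⟩ := hD hπ hρ hρs
    have hret : r ∘ Subtype.val = id := eq_id_of_comp_eq hρs hmin' (hr.comp continuous_subtype_val)
      (funext fun e => congrFun hre e.1)
    have hEP : CompactT2.Projective E := by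
      intro Y Z _ _ _ _ _ _ f g hf hg hgs
      obtain ⟨l, hl, hle⟩ := hD (hf.comp hr) hg hgs
      exact ⟨l ∘ Subtype.val, hl.comp continuous_subtype_val,
        funext fun e => (congrFun hle e.1).trans (congrArg f (congrFun hret e))⟩
    exact ⟨E, inferInstance, hE, inferInstance, hEP.extremallyDisconnected, ρ, hρ, hρs, hmin'⟩
  · intro X' X'' _ _ _ _ _ _ _ _ p q hp hps hpm hq hqs hqm
    obtain ⟨h, hh, he⟩ := (CompactT2.ExtremallyDisconnected.projective (A := X')) hp hq hqs
    obtain ⟨k, hk, ke⟩ := (CompactT2.ExtremallyDisconnected.projective (A := X'')) hq hp hps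
    have e₁ := eq_id_of_comp_eq hps hpm (hk.comp hh) (by rw [← Function.comp_assoc, ke, he])
    have e₂ := eq_id_of_comp_eq hqs hqm (hh.comp hk) (by rw [← Function.comp_assoc, he, ke])
    exact ⟨⟨⟨h, k, congrFun e₁, congrFun e₂⟩, hh, hk⟩, he⟩

end Groth.Agent.S7556
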