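import Groth.Statements.S7557
import Mathlib.Topology.Category.TopCat.Limits.Basic
import Mathlib.Algebra.Category.Ring.Limits
import Mathlib.CategoryTheory.Limits.Preserves.Limits
-- import your own Groth.Agent.* helpers here

set_option autoImplicit false
universe u
open CategoryTheory CategoryTheory.Limits
open PtTop

namespace Groth.Agent.S7557

/-- The category of topological rings (commutative, with continuous ring homomorphisms) has limits, and
limits commute with the forgetful functors to topological spaces and to rings. -/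
theorem result :
    HasLimits TopCommRingCat.{u} ∧
    PreservesLimits (forget₂ TopCommRingCat.{u} TopCat.{u}) ∧
    PreservesLimits (forget₂ TopCommRingCat.{u} CommRingCat.{u}) := by
  suffices h : ∀ (J : Type u) [SmallCategory J] (F : J ⥤ TopCommRingCat.{u}),
      ∃ c : Cone F, Nonempty (IsLimit c) ∧
        Nonempty (IsLimit ((forget₂ TopCommRingCat.{u} TopCat.{u}).mapCone c)) ∧
        Nonempty (IsLimit ((forget₂ TopCommRingCat.{u} CommRingCat.{u}).mapCone c)) by
    refine ⟨⟨fun J _ => ⟨fun F => ?_⟩⟩, ⟨fun {J} _ => ⟨fun {F} => ?_⟩⟩, ⟨fun {J} _ => ⟨fun {F} => ?_⟩⟩⟩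
    · obtain ⟨c, ⟨hc⟩, -, -⟩ := h J F
      exact ⟨⟨⟨c, hc⟩⟩⟩
    · obtain ⟨c, ⟨hc⟩, ⟨h1⟩, -⟩ := h J F
      exact preservesLimit_of_preserves_limit_cone hc h1
    · obtain ⟨c, ⟨hc⟩, -, ⟨h2⟩⟩ := h J F
      exact preservesLimit_of_preserves_limit_cone hc h2
  intro J _ F
  let G := F ⋙ forget₂ TopCommRingCat.{u} CommRingCat.{u}
  let c₀ := limit.cone G
  let p : ∀ j, c₀.pt →+* (F.obj j) := fun j => (c₀.π.app j).hom
  let t : TopologicalSpace c₀.pt := ⨅ j, (F.obj j).isTopologicalSpace.induced (p j)
  have hp : ∀ j, @Continuous _ _ t _ (p j) := fun j =>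
    continuous_iff_le_induced.mpr (iInf_le _ j)
  have hinto : ∀ {Y : Type u} [tY : TopologicalSpace Y] (f : Y → c₀.pt),
      (∀ j, Continuous fun y => p j (f y)) → @Continuous Y _ tY t f := fun f hf =>
    continuous_iInf_rng.mpr fun j => continuous_induced_rng.mpr (hf j)
  have tr : @IsTopologicalRing c₀.pt t _ :=
    { continuous_add := hinto _ fun j => by
        simp only [map_add]
        exact ((hp j).comp continuous_fst).add ((hp j).comp continuous_snd)
      continuous_mul := hinto _ fun j => by
        simp only [map_mul]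
        exact ((hp j).comp continuous_fst).mul ((hp j).comp continuous_snd)
      continuous_neg := hinto _ fun j => by
        simp only [map_neg]
        exact (hp j).neg }
  let c : Cone F :=
    { pt := @TopCommRingCat.of c₀.pt _ t tr
      π :=
        { app := fun j => ⟨p j, hp j⟩
          naturality := fun i j f => Subtype.ext (RingHom.ext fun x =>
            ConcreteCategory.congr_hom (c₀.π.naturality f) x) } }
  have hc₂ : IsLimit ((forget₂ TopCommRingCat.{u} CommRingCat.{u}).mapCone c) :=
    IsLimit.ofIsoLimit (limit.isLimit G) (Cone.ext (Iso.refl _))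
  let lift : ∀ s : Cone F, s.pt.α →+* c₀.pt := fun s =>
    ((limit.isLimit G).lift ((forget₂ TopCommRingCat.{u} CommRingCat.{u}).mapCone s)).hom
  have hlift : ∀ (s : Cone F) (j) (x), p j (lift s x) = (s.π.app j).1 x := fun s j x =>
    ConcreteCategory.congr_hom ((limit.isLimit G).fac
      ((forget₂ TopCommRingCat.{u} CommRingCat.{u}).mapCone s) j) x
  have hc : IsLimit c :=
    { lift := fun s => ⟨lift s, hinto _ fun j => by simpa only [hlift] using (s.π.app j).2⟩
      fac := fun s j => Subtype.ext (RingHom.ext fun x => hlift s j x)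
      uniq := fun s m hm => Subtype.ext (congrArg CommRingCat.Hom.hom
        ((limit.isLimit G).uniq ((forget₂ TopCommRingCat.{u} CommRingCat.{u}).mapCone s)
          (CommRingCat.ofHom m.1) fun j => CommRingCat.hom_ext
            (RingHom.ext fun x => DFunLike.congr_fun (congrArg Subtype.val (hm j)) x))) }
  refine ⟨c, ⟨hc⟩, ?_, ⟨hc₂⟩⟩
  refine (TopCat.nonempty_isLimit_iff_eq_induced _ ?_).mpr rfl
  exact isLimitOfPreserves (forget CommRingCat.{u}) hc₂


end Groth.Agent.S7557
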