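import Groth.Statements.S7558
import Mathlib
-- import your own Groth.Agent.* helpers here

set_option autoImplicit false
universe u
open CategoryTheory CategoryTheory.Limits
open PtTop

namespace Groth.Agent.S7558

/-- The category of topological rings (commutative, with continuous ring homomorphisms) has colimits,
and colimits commute with the forgetful functor to rings. -/
theorem result :
    HasColimits TopCommRingCat.{u} ∧
    PreservesColimits (forget₂ TopCommRingCat.{u} CommRingCat.{u}) := by
  classical
  have key : ∀ {J : Type u} [Category.{u} J] (F : J ⥤ TopCommRingCat.{u}),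
      ∃ c : Cocone F, Nonempty (IsColimit c) ∧
        Nonempty (IsColimit ((forget₂ TopCommRingCat.{u} CommRingCat.{u}).mapCocone c)) := by
    intro J _ F
    let G := F ⋙ forget₂ TopCommRingCat.{u} CommRingCat.{u}
    let R : CommRingCat.{u} := colimit G
    let ι : ∀ j : J, (F.obj j) →+* R := fun j => (colimit.ι G j).hom
    let S : Set (TopologicalSpace R) :=
      {t | @IsTopologicalRing R t _ ∧ ∀ j, @Continuous _ _ (F.obj j).isTopologicalSpace t (ι j)}
    letI tR : TopologicalSpace R := sInf S
    haveI : IsTopologicalRing R :=
      { toContinuousAdd := continuousAdd_sInf fun t ht =>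
          letI := t; haveI := ht.1; inferInstance
        toContinuousMul := continuousMul_sInf fun t ht =>
          letI := t; haveI := ht.1; inferInstance
        toContinuousNeg := continuousNeg_sInf fun t ht =>
          letI := t; haveI := ht.1; inferInstance }
    have hι : ∀ j, Continuous (ι j) := fun j => continuous_sInf_rng.2 fun t ht => ht.2 j
    let c : Cocone F :=
      { pt := TopCommRingCat.of R
        ι := { app := fun j => ⟨ι j, hι j⟩
               naturality := fun i j g => by
                refine Subtype.ext (RingHom.ext fun x => ?_)
                exact ConcreteCategory.congr_hom (colimit.w G g) x } }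
    refine ⟨c, ⟨?_⟩, ⟨IsColimit.ofIsoColimit (colimit.isColimit G) (Cocone.ext (Iso.refl _) fun j => ?_)⟩⟩
    · let d : ∀ s : Cocone F, R →+* s.pt := fun s =>
        (colimit.desc G ((forget₂ TopCommRingCat.{u} CommRingCat.{u}).mapCocone s)).hom
      have hd : ∀ (s : Cocone F) (j : J) (x : F.obj j), d s (ι j x) = (s.ι.app j).1 x := fun s j x =>
        ConcreteCategory.congr_hom
          (colimit.ι_desc ((forget₂ TopCommRingCat.{u} CommRingCat.{u}).mapCocone s) j) x
      have hcont : ∀ s : Cocone F, @Continuous R s.pt tR s.pt.isTopologicalSpace (d s) := by
        intro s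
        rw [continuous_iff_le_induced]
        refine sInf_le ⟨?_, fun j => ?_⟩
        · letI t : TopologicalSpace R := TopologicalSpace.induced (d s) s.pt.isTopologicalSpace
          have hi : Topology.IsInducing (d s) := ⟨rfl⟩
          exact { toContinuousAdd := hi.continuousAdd (d s)
                  toContinuousMul := hi.continuousMul (d s)
                  toContinuousNeg := hi.continuousNeg fun x => map_neg (d s) x }
        · rw [continuous_induced_rng]
          have : (fun x => d s (ι j x)) = (s.ι.app j).1 := funext fun x => hd s j x
          show @Continuous _ _ (F.obj j).isTopologicalSpace s.pt.isTopologicalSpace (fun x => d s (ι j x))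
          rw [this]
          exact (s.ι.app j).2
      exact
        { desc := fun s => ⟨d s, hcont s⟩
          fac := fun s j => Subtype.ext (RingHom.ext fun x => hd s j x)
          uniq := fun s m hm => Subtype.ext (by
            have : CommRingCat.ofHom m.1 =
                colimit.desc G ((forget₂ TopCommRingCat.{u} CommRingCat.{u}).mapCocone s) := by
              refine colimit.hom_ext fun j => ?_
              refine Eq.trans ?_ (colimit.ι_desc ((forget₂ TopCommRingCat.{u} CommRingCat.{u}).mapCocone s) j).symm
              exact CommRingCat.hom_ext (congrArg Subtype.val (hm j))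
            exact congrArg CommRingCat.Hom.hom this) }
    · ext x
      rfl
  refine ⟨⟨fun J _ => ⟨fun F => ?_⟩⟩, ⟨fun {J} _ => ⟨fun {F} => ?_⟩⟩⟩
  · obtain ⟨c, ⟨h⟩, -⟩ := key F
    exact ⟨⟨⟨c, h⟩⟩⟩
  · obtain ⟨c, ⟨h⟩, ⟨h'⟩⟩ := key F
    exact preservesColimit_of_preserves_colimit_cocone h h'

end Groth.Agent.S7558
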