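import Groth.Statements.S7559
import Mathlib.Data.Fintype.Sum
import Mathlib.Data.Fintype.Powerset
import Mathlib.Data.Fintype.Order
-- import your own Groth.Agent.* helpers here

set_option autoImplicit false
universe u
open PtTop

namespace Groth.Agent.S7559

/-- Let X be a topological space and X = ∐ P_k a finite partition into locally closed parts. Then there
is a finite stratification of X refining it: a finite partially ordered index set I and pairwise
disjoint locally closed strata S_i covering X with closure(S_j) ⊆ ⋃_{i ≤ j} S_i, such that every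
part P_k is a union of strata. -/
theorem result {X : Type u} [TopologicalSpace X]
    {n : ℕ} (P : Fin n → Set X) (hP : ∀ k, IsLocallyClosed (P k)) (hcov : ⋃ k, P k = Set.univ)
    (hdisj : ∀ k k', k ≠ k' → Disjoint (P k) (P k')) :
    ∃ (I : Type) (_ : Fintype I) (_ : PartialOrder I) (S : I → Set X),
      (∀ i, IsLocallyClosed (S i)) ∧ (⋃ i, S i = Set.univ) ∧ (∀ i j, i ≠ j → Disjoint (S i) (S j)) ∧
      (∀ j, closure (S j) ⊆ ⋃ i ∈ Set.Iic j, S i) ∧
      (∀ i k, (S i ∩ P k).Nonempty → S i ⊆ P k) := by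
  classical
  have _ := hcov
  let C : Fin n ⊕ Fin n → Set X :=
    Sum.elim (fun k => closure (P k)) (fun k => closure (P k) \ P k)
  have hC : ∀ a, IsClosed (C a) := by
    rintro (k | k)
    · exact isClosed_closure
    · show IsClosed (closure (P k) \ P k)
      have h := isLocallyClosed_iff_isOpen_coborder.mp (hP k)
      rw [← isOpen_compl_iff]
      exact h
  let S : (Finset (Fin n ⊕ Fin n))ᵒᵈ → Set X := fun σ =>
    {x | ∀ a, x ∈ C a ↔ a ∈ OrderDual.ofDual σ}
  let sig : X → (Finset (Fin n ⊕ Fin n))ᵒᵈ := fun x =>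
    OrderDual.toDual (Finset.univ.filter fun a => x ∈ C a)
  have hsig : ∀ x, x ∈ S (sig x) := fun x a => by simp [sig]
  refine ⟨(Finset (Fin n ⊕ Fin n))ᵒᵈ, inferInstance, inferInstance, S, fun σ => ?_,
    Set.eq_univ_of_forall fun x => Set.mem_iUnion.mpr ⟨sig x, hsig x⟩, fun σ τ hne => ?_,
    fun σ => ?_, fun σ k => ?_⟩
  · refine ⟨⋂ a ∈ {a | a ∉ OrderDual.ofDual σ}, (C a)ᶜ, ⋂ a ∈ {a | a ∈ OrderDual.ofDual σ}, C a,
      (Set.toFinite _).isOpen_biInter fun a _ => (hC a).isOpen_compl,
      isClosed_biInter fun a _ => hC a, ?_⟩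
    ext x
    simp only [S, Set.mem_ofPred_eq, Set.mem_inter_iff, Set.mem_iInter, Set.mem_compl_iff]
    exact ⟨fun h => ⟨fun a ha hx => ha ((h a).mp hx), fun a ha => (h a).mpr ha⟩,
      fun h a => ⟨fun hx => not_not.mp fun ha => h.1 a ha hx, h.2 a⟩⟩
  · rw [Set.disjoint_left]
    intro x hx hx'
    exact hne (OrderDual.ofDual.injective (Finset.ext fun a => (hx a).symm.trans (hx' a)))
  · intro x hx
    refine Set.mem_iUnion₂.mpr ⟨sig x, fun a ha => ?_, hsig x⟩
    exact (hsig x a).mp ((hC a).closure_subset_iff.mpr (fun y hy => (hy a).mpr ha) hx)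
  · rintro ⟨x, hx, hxk⟩ y hy
    have h1 : y ∈ closure (P k) :=
      (hy (.inl k)).mpr ((hx (.inl k)).mp (subset_closure hxk : x ∈ C (.inl k)))
    by_contra hyk
    exact (((hx (.inr k)).mpr ((hy (.inr k)).mp (show y ∈ C (.inr k) from ⟨h1, hyk⟩))) :
      x ∈ closure (P k) \ P k).2 hxk


end Groth.Agent.S7559
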