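import Groth.Statements.S7560
import Mathlib
-- import your own Groth.Agent.* helpers here

set_option autoImplicit false
universe u
open ConstrTop

namespace Groth.Agent.S7560

/-- Let X be a topological space written as a finite union X = T_1 ∪ … ∪ T_n of constructible subsets.
Then there is a finite stratification X = ∐ S_i (pairwise disjoint locally closed strata indexed by
a finite partially ordered set, with closure(S_j) ⊆ ⋃_{i ≤ j} S_i) whose strata are constructible
and such that every T_k is a union of strata. -/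
theorem result {X : Type u} [TopologicalSpace X]
    {n : ℕ} (T : Fin n → Set X) (hT : ∀ k, Topology.IsConstructible (T k)) (hcov : ⋃ k, T k = Set.univ) :
    ∃ (I : Type) (_ : Fintype I) (_ : PartialOrder I) (S : I → Set X),
      (∀ i, IsLocallyClosed (S i) ∧ Topology.IsConstructible (S i)) ∧ (⋃ i, S i = Set.univ) ∧
      (∀ i j, i ≠ j → Disjoint (S i) (S j)) ∧
      (∀ j, closure (S j) ⊆ ⋃ i ∈ Set.Iic j, S i) ∧
      (∀ i k, (S i ∩ T k).Nonempty → S i ⊆ T k) := by
  classical
  have key : ∀ C : Set X, Topology.IsConstructible C → ∃ 𝒰 : Finset (Set X),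
      (∀ U ∈ 𝒰, IsOpen U ∧ Topology.IsConstructible U) ∧
        ∀ x y : X, (∀ U ∈ 𝒰, (x ∈ U ↔ y ∈ U)) → (x ∈ C ↔ y ∈ C) := by
    intro C hC
    induction hC using Topology.IsConstructible.empty_union_induction with
    | open_retrocompact U hU hUc =>
      exact ⟨{U}, by simpa using ⟨hU, hUc.isConstructible hU⟩, fun x y h => h U (by simp)⟩
    | union s hs t ht h1 h2 =>
      obtain ⟨A, hA, hA'⟩ := h1
      obtain ⟨B, hB, hB'⟩ := h2
      refine ⟨A ∪ B, fun U hU => (Finset.mem_union.1 hU).elim (hA U) (hB U), fun x y h => ?_⟩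
      have e1 := hA' x y fun U hU => h U (Finset.mem_union_left _ hU)
      have e2 := hB' x y fun U hU => h U (Finset.mem_union_right _ hU)
      simp [e1, e2]
    | compl s hs h1 =>
      obtain ⟨A, hA, hA'⟩ := h1
      exact ⟨A, hA, fun x y h => not_congr (hA' x y h)⟩
  choose 𝒰 h𝒰 h𝒰' using fun k => key (T k) (hT k)
  let F : Finset (Set X) := Finset.univ.biUnion 𝒰
  let e : Fin F.card → Set X := fun i => (F.equivFin.symm i : Set X)
  have hF : ∀ i, IsOpen (e i) ∧ Topology.IsConstructible (e i) := by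
    intro i
    obtain ⟨k, -, hk⟩ := Finset.mem_biUnion.1 (F.equivFin.symm i).2
    exact h𝒰 k _ hk
  let S : Finset (Fin F.card) → Set X := fun s => {x | ∀ i, x ∈ e i ↔ i ∈ s}
  have hSeq : ∀ s, S s = (⋂ i : {i // i ∈ s}, e i) ∩ ⋂ i : {i // i ∉ s}, (e i)ᶜ := by
    intro s; ext x
    simp only [S, Set.mem_setOf_eq, Set.mem_inter_iff, Set.mem_iInter, Set.mem_compl_iff]
    exact ⟨fun h => ⟨fun i => (h i).2 i.2, fun i hx => i.2 ((h i).1 hx)⟩,
      fun h i => ⟨fun hx => by_contra fun hi => h.2 ⟨i, hi⟩ hx, fun hi => h.1 ⟨i, hi⟩⟩⟩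
  refine ⟨Finset (Fin F.card), inferInstance, inferInstance, S, fun s => ⟨?_, ?_⟩, ?_, ?_, ?_, ?_⟩
  · rw [hSeq]
    exact IsLocallyClosed.inter (isOpen_iInter_of_finite fun i : {i // i ∈ s} => (hF i).1).isLocallyClosed
      (isClosed_iInter fun i : {i // i ∉ s} => (hF i).1.isClosed_compl).isLocallyClosed
  · rw [hSeq]
    exact (Topology.IsConstructible.iInter fun i : {i // i ∈ s} => (hF i).2).inter
      (Topology.IsConstructible.iInter fun i : {i // i ∉ s} => Topology.isConstructible_compl.2 (hF i).2)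
  · exact Set.eq_univ_of_forall fun x => Set.mem_iUnion.2
      ⟨Finset.univ.filter (fun i => x ∈ e i), fun i => by simp⟩
  · intro i j hij
    rw [Set.disjoint_left]
    exact fun x hi hj => hij (Finset.ext fun a => (hi a).symm.trans (hj a))
  · intro s x hx
    have hsub : ∀ i, x ∈ e i → i ∈ s := by
      intro i hi
      obtain ⟨z, hz, hzS⟩ := mem_closure_iff.1 hx (e i) (hF i).1 hi
      exact (hzS i).1 hz
    simp only [Set.mem_iUnion, Set.mem_Iic]
    exact ⟨Finset.univ.filter (fun i => x ∈ e i), fun i hi => hsub i (by simpa using hi),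
      fun i => by simp⟩
  · rintro s k ⟨x, hx, hxT⟩ y hy
    refine (h𝒰' k x y fun U hU => ?_).1 hxT
    have hmem : U ∈ F := Finset.mem_biUnion.2 ⟨k, Finset.mem_univ _, hU⟩
    have he : e (F.equivFin ⟨U, hmem⟩) = U := by simp [e]
    rw [← he]
    exact (hx _).trans (hy _).symm

end Groth.Agent.S7560
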