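import Groth.Statements.S7561

-- import your own Groth.Agent.* helpers here

set_option autoImplicit false
universe u
open PtTop

namespace Groth.Agent.S7561

/-- Let X be a Noetherian topological space and X = ∐ P_k a finite partition into locally closed parts.
Then it is refined by a finite good stratification: a finite partition X = ∐ S_i into locally closed
strata such that S_i ∩ closure(S_j) ≠ ∅ implies S_i ⊆ closure(S_j), with every P_k a union of
strata. -/
theorem result {X : Type u} [TopologicalSpace X]
    [TopologicalSpace.NoetherianSpace X]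
    {n : ℕ} (P : Fin n → Set X) (hP : ∀ k, IsLocallyClosed (P k)) (hcov : ⋃ k, P k = Set.univ)
    (hdisj : ∀ k k', k ≠ k' → Disjoint (P k) (P k')) :
    ∃ (m : ℕ) (S : Fin m → Set X),
      (∀ i, IsLocallyClosed (S i)) ∧ (⋃ i, S i = Set.univ) ∧ (∀ i j, i ≠ j → Disjoint (S i) (S j)) ∧
      (∀ i j, (S i ∩ closure (S j)).Nonempty → S i ⊆ closure (S j)) ∧
      (∀ i k, (S i ∩ P k).Nonempty → S i ⊆ P k) := by
  classical
  have _ := hdisj
  have key : ∀ Z : TopologicalSpace.Closeds X, ∀ C : Finset (Set X),
      (∀ c ∈ C, IsClosed c) → ∃ T : Finset (Set X), (∀ t ∈ T, IsLocallyClosed t) ∧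
        (∀ t ∈ T, t ⊆ (Z : Set X)) ∧ (∀ z ∈ (Z : Set X), ∃ t ∈ T, z ∈ t) ∧
        (∀ t ∈ T, ∀ t' ∈ T, t ≠ t' → Disjoint t t') ∧
        (∀ t ∈ T, ∀ t' ∈ T, (t ∩ closure t').Nonempty → t ⊆ closure t') ∧
        (∀ t ∈ T, ∀ c ∈ C, t ⊆ c ∨ Disjoint t c) := by
    intro Z
    induction Z using WellFoundedLT.induction with
    | _ Z IH =>
      intro C hC
      have combine : ∀ (A : Set X), IsClosed A → A ⊂ (Z : Set X) → ∀ T : Finset (Set X),
          (∀ t ∈ T, IsLocallyClosed t) → (∀ t ∈ T, t ⊆ (Z : Set X) \ A) →
          (∀ z ∈ (Z : Set X) \ A, ∃ t ∈ T, z ∈ t) →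
          (∀ t ∈ T, ∀ t' ∈ T, t ≠ t' → Disjoint t t') →
          (∀ t ∈ T, ∀ t' ∈ T, (t ∩ closure t').Nonempty → t ⊆ closure t') →
          (∀ t ∈ T, ∀ c ∈ C, t ⊆ c ∨ Disjoint t c) →
          ∃ T : Finset (Set X), (∀ t ∈ T, IsLocallyClosed t) ∧
            (∀ t ∈ T, t ⊆ (Z : Set X)) ∧ (∀ z ∈ (Z : Set X), ∃ t ∈ T, z ∈ t) ∧
            (∀ t ∈ T, ∀ t' ∈ T, t ≠ t' → Disjoint t t') ∧
            (∀ t ∈ T, ∀ t' ∈ T, (t ∩ closure t').Nonempty → t ⊆ closure t') ∧
            (∀ t ∈ T, ∀ c ∈ C, t ⊆ c ∨ Disjoint t c) := by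
        intro A hA hAZ T h1 h2 h3 h4 h5 h6
        obtain ⟨S, k1, k2, k3, k4, k5, k6⟩ := IH ⟨A, hA⟩ hAZ (C ∪ T.image closure) (by
          intro c hc
          rcases Finset.mem_union.mp hc with hc | hc
          · exact hC c hc
          · obtain ⟨t, -, rfl⟩ := Finset.mem_image.mp hc
            exact isClosed_closure)
        have hd : ∀ s ∈ S, ∀ t ∈ T, Disjoint s t := fun s hs t ht =>
          Set.disjoint_left.mpr fun x hxs hxt => (h2 t ht hxt).2 (k2 s hs hxs)
        refine ⟨T ∪ S, fun t ht => ?_, fun t ht => ?_, fun z hz => ?_, fun t ht t' ht' hne => ?_,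
          fun t ht t' ht' hn => ?_, fun t ht c hc => ?_⟩
        · exact (Finset.mem_union.mp ht).elim (h1 t) (k1 t)
        · exact (Finset.mem_union.mp ht).elim (fun h => (h2 t h).trans Set.sdiff_subset)
            (fun h => (k2 t h).trans hAZ.subset)
        · by_cases hzA : z ∈ A
          · obtain ⟨t, ht, hzt⟩ := k3 z hzA
            exact ⟨t, Finset.mem_union_right _ ht, hzt⟩
          · obtain ⟨t, ht, hzt⟩ := h3 z ⟨hz, hzA⟩
            exact ⟨t, Finset.mem_union_left _ ht, hzt⟩
        · rcases Finset.mem_union.mp ht with ht | ht <;>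
            rcases Finset.mem_union.mp ht' with ht' | ht'
          · exact h4 t ht t' ht' hne
          · exact (hd t' ht' t ht).symm
          · exact hd t ht t' ht'
          · exact k4 t ht t' ht' hne
        · rcases Finset.mem_union.mp ht with ht | ht <;>
            rcases Finset.mem_union.mp ht' with ht' | ht'
          · exact h5 t ht t' ht' hn
          · obtain ⟨x, hxt, hx⟩ := hn
            exact absurd (hA.closure_subset_iff.mpr (k2 t' ht') hx) (h2 t ht hxt).2
          · refine (k6 t ht (closure t')
              (Finset.mem_union_right _ (Finset.mem_image_of_mem _ ht'))).resolve_right ?_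
            exact Set.not_disjoint_iff_nonempty_inter.mpr hn
          · exact k5 t ht t' ht' hn
        · exact (Finset.mem_union.mp ht).elim (fun h => h6 t h c hc)
            (fun h => k6 t h c (Finset.mem_union_left _ hc))
      by_cases hirr : IsIrreducible (Z : Set X)
      · let bad := C.filter fun c => ¬ (Z : Set X) ⊆ c
        let A : Set X := ⋃ c ∈ bad, c ∩ (Z : Set X)
        have hA : IsClosed A := isClosed_biUnion_finset fun c hc =>
          (hC c (Finset.mem_filter.mp hc).1).inter Z.isClosed
        have hAZ : A ⊂ (Z : Set X) := by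
          refine ⟨Set.iUnion₂_subset fun c _ => Set.inter_subset_right, fun hsub => ?_⟩
          obtain ⟨c, hc, hcZ⟩ := isIrreducible_iff_sUnion_isClosed.mp hirr
            (bad.image fun c => c ∩ (Z : Set X))
            (by
              intro c hc
              obtain ⟨c, hc', rfl⟩ := Finset.mem_image.mp hc
              exact (hC c (Finset.mem_filter.mp hc').1).inter Z.isClosed)
            (by
              refine hsub.trans (Set.iUnion₂_subset fun c hc => ?_)
              exact Set.subset_sUnion_of_mem (Finset.mem_image_of_mem _ hc))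
          obtain ⟨c, hc', rfl⟩ := Finset.mem_image.mp hc
          exact (Finset.mem_filter.mp hc').2 (hcZ.trans Set.inter_subset_left)
        refine combine A hA hAZ {(Z : Set X) \ A} ?_ ?_ ?_ ?_ ?_ ?_
        · simp only [Finset.mem_singleton, forall_eq]
          exact Z.isClosed.isLocallyClosed.inter hA.isOpen_compl.isLocallyClosed
        · simp
        · intro z hz
          exact ⟨_, Finset.mem_singleton_self _, hz⟩
        · simp only [Finset.mem_singleton]
          rintro t rfl t' rfl h
          exact absurd rfl h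
        · simp only [Finset.mem_singleton]
          rintro t rfl t' rfl -
          exact subset_closure
        · simp only [Finset.mem_singleton]
          rintro t rfl c hc
          by_cases hZc : (Z : Set X) ⊆ c
          · exact .inl (Set.sdiff_subset.trans hZc)
          · exact .inr (Set.disjoint_left.mpr fun x hx hxc => hx.2
              (Set.mem_iUnion₂.mpr ⟨c, Finset.mem_filter.mpr ⟨hc, hZc⟩, hxc, hx.1⟩))
      · by_cases hne : (Z : Set X).Nonempty
        · have hpre : ¬ IsPreirreducible (Z : Set X) := fun h => hirr ⟨hne, h⟩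
          simp only [isPreirreducible_iff_isClosed_union_isClosed, not_forall, not_or] at hpre
          obtain ⟨A, B, hA, hB, hAB, hZA, hZB⟩ := hpre
          obtain ⟨S, k1, k2, k3, k4, k5, k6⟩ := IH ⟨(Z : Set X) ∩ B, Z.isClosed.inter hB⟩
            ⟨Set.inter_subset_left, fun h => hZB ((show (Z : Set X) ⊆ (Z : Set X) ∩ B from h).trans Set.inter_subset_right)⟩
            (insert ((Z : Set X) ∩ A) C)
            (by
              intro c hc
              rcases Finset.mem_insert.mp hc with rfl | hc
              · exact Z.isClosed.inter hA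
              · exact hC c hc)
          refine combine ((Z : Set X) ∩ A) (Z.isClosed.inter hA)
            ⟨Set.inter_subset_left, fun h => hZA (h.trans Set.inter_subset_right)⟩
            (S.filter fun t => Disjoint t ((Z : Set X) ∩ A)) ?_ ?_ ?_ ?_ ?_ ?_
          · exact fun t ht => k1 t (Finset.mem_filter.mp ht).1
          · intro t ht x hx
            obtain ⟨h, h'⟩ := Finset.mem_filter.mp ht
            exact ⟨(k2 t h hx).1, Set.disjoint_left.mp h' hx⟩
          · rintro z ⟨hz, hzA⟩
            obtain ⟨t, ht, hzt⟩ := k3 z ⟨hz, (hAB hz).resolve_left fun h => hzA ⟨hz, h⟩⟩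
            refine ⟨t, Finset.mem_filter.mpr ⟨ht, ?_⟩, hzt⟩
            exact (k6 t ht _ (Finset.mem_insert_self _ _)).resolve_left fun h => hzA (h hzt)
          · exact fun t ht t' ht' => k4 t (Finset.mem_filter.mp ht).1 t' (Finset.mem_filter.mp ht').1
          · exact fun t ht t' ht' => k5 t (Finset.mem_filter.mp ht).1 t' (Finset.mem_filter.mp ht').1
          · exact fun t ht c hc =>
              k6 t (Finset.mem_filter.mp ht).1 c (Finset.mem_insert_of_mem hc)
        · exact ⟨∅, by simp, by simp, fun z hz => absurd ⟨z, hz⟩ hne, by simp, by simp, by simp⟩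
  obtain ⟨T, h1, -, h3, h4, h5, h6⟩ := key ⊤
    (Finset.univ.image (fun k => closure (P k)) ∪
      Finset.univ.image (fun k => closure (P k) \ P k)) (by
      intro c hc
      rcases Finset.mem_union.mp hc with hc | hc <;> obtain ⟨k, -, rfl⟩ := Finset.mem_image.mp hc
      · exact isClosed_closure
      · rw [← isOpen_compl_iff]
        exact isLocallyClosed_iff_isOpen_coborder.mp (hP k))
  have _ := hcov
  let e := Fintype.equivFin T
  refine ⟨Fintype.card T, fun i => (e.symm i).1, fun i => h1 _ (e.symm i).2, ?_, ?_, ?_, ?_⟩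
  · refine Set.eq_univ_of_forall fun x => ?_
    obtain ⟨t, ht, hx⟩ := h3 x trivial
    exact Set.mem_iUnion.mpr ⟨e ⟨t, ht⟩, by simpa using hx⟩
  · exact fun i j hij => h4 _ (e.symm i).2 _ (e.symm j).2
      fun h => hij (e.symm.injective (Subtype.ext h))
  · exact fun i j => h5 _ (e.symm i).2 _ (e.symm j).2
  · rintro i k ⟨x, hx, hxk⟩ y hy
    have hc1 : ∀ {z}, z ∈ (e.symm i).1 → z ∈ closure (P k) := by
      intro z hz
      rcases h6 _ (e.symm i).2 (closure (P k)) (Finset.mem_union_left _
        (Finset.mem_image_of_mem _ (Finset.mem_univ k))) with h | h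
      · exact h hz
      · exact absurd (subset_closure hxk) (Set.disjoint_left.mp h hx)
    rcases h6 _ (e.symm i).2 (closure (P k) \ P k) (Finset.mem_union_right _
      (Finset.mem_image_of_mem (fun k => closure (P k) \ P k) (Finset.mem_univ k))) with h | h
    · exact absurd hxk (h hx).2
    · by_contra hyk
      exact Set.disjoint_left.mp h hy ⟨hc1 hy, hyk⟩


end Groth.Agent.S7561
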