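import Groth.Statements.S7565
import Mathlib
import Groth.Agent.ConstrNoeth.Basic
import Groth.Agent.ConstrNoeth.Prespectral

set_option autoImplicit false
universe u
open PtTop

namespace Groth.Agent.S7565

/-- Let f : X → Y be a continuous open map of topological spaces and assume every point of X has a
Noetherian neighbourhood. Then every point of f(X) (with the induced topology) has a Noetherian
neighbourhood. The published statement also asserts that a continuous image of a Noetherian space is
Noetherian; this row states the part about open maps and locally Noetherian spaces. -/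
theorem result {X Y : Type u} [TopologicalSpace X] [TopologicalSpace Y]
    (f : X → Y) (hf : Continuous f) (hfo : IsOpenMap f)
    (hX : ∀ x : X, ∃ E ∈ nhds x, TopologicalSpace.NoetherianSpace E) :
    ∀ y : Set.range f, ∃ E : Set (Set.range f), E ∈ nhds y ∧ TopologicalSpace.NoetherianSpace E := by
  rintro ⟨_, x, rfl⟩
  obtain ⟨E, hE, hN⟩ := hX x
  obtain ⟨W, hWE, hW, hxW⟩ := mem_nhds_iff.mp hE
  refine ⟨Subtype.val ⁻¹' (f '' W), ((hfo W hW).preimage continuous_subtype_val).mem_nhds ⟨x, hxW, rfl⟩, ?_⟩
  have := TopologicalSpace.NoetherianSpace.of_subset hWE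
  let g : W → ↥(Subtype.val ⁻¹' (f '' W) : Set (Set.range f)) := fun w => ⟨⟨f w.1, w.1, rfl⟩, w.1, w.2, rfl⟩
  refine TopologicalSpace.noetherianSpace_of_surjective g (by fun_prop) ?_
  rintro ⟨⟨y, hy⟩, w, hw, hwy⟩
  exact ⟨⟨w, hw⟩, Subtype.ext (Subtype.ext hwy)⟩

end Groth.Agent.S7565
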