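import Groth.Statements.S7567
import Mathlib
import Groth.Agent.ConstrNoeth.Basic
import Groth.Agent.ConstrNoeth.Prespectral

set_option autoImplicit false
universe u
open PtTop

namespace Groth.Agent.S7567

/-- Let X be a quasi-compact topological space whose quasi-compact opens form a basis, any two of them
meeting in a quasi-compact set. For a subset T ⊆ X these two conditions are equivalent: (a) T can be
written as an intersection of clopen subsets of X; (b) T is closed and is a union of connected
components of X. -/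
theorem result {X : Type u} [TopologicalSpace X]
    [CompactSpace X] [PrespectralSpace X] [QuasiSeparatedSpace X] (T : Set X) :
    (∃ S : Set (Set X), (∀ Z ∈ S, IsClopen Z) ∧ T = ⋂₀ S) ↔
      (IsClosed T ∧ ∀ x ∈ T, connectedComponent x ⊆ T) := by
  constructor
  · rintro ⟨S, hS, rfl⟩
    exact ⟨isClosed_sInter fun Z hZ => (hS Z hZ).1, fun x hx => Set.subset_sInter fun Z hZ => (hS Z hZ).connectedComponent_subset (hx Z hZ)⟩
  · rintro ⟨hT, hsat⟩
    refine ⟨{Z | IsClopen Z ∧ T ⊆ Z}, fun Z hZ => hZ.1, (Set.subset_sInter fun Z hZ => hZ.2).antisymm fun y hy => ?_⟩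
    by_contra hyT
    have hne : Nonempty {Z : Set X // IsClopen Z ∧ y ∈ Z} := ⟨⟨Set.univ, isClopen_univ, trivial⟩⟩
    obtain ⟨t, ht⟩ := hT.isCompact.elim_finite_subfamily_closed (fun Z : {Z : Set X // IsClopen Z ∧ y ∈ Z} => Z.1) (fun Z => Z.2.1.1) (by
      rw [Set.eq_empty_iff_forall_notMem]
      rintro z ⟨hz, hz'⟩
      have hzy : z ∈ connectedComponent y := by
        rw [ConstrPrespectral.connectedComponent_eq_sInter]
        exact fun Z hZ => Set.mem_iInter.mp hz' ⟨Z, hZ⟩
      exact hyT (hsat z hz (by rw [← connectedComponent_eq hzy]; exact mem_connectedComponent)))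
    have hZ : IsClopen (⋂ i ∈ t, i.1) := isClopen_biInter_finset fun i _ => i.2.1
    exact hy _ ⟨hZ.compl, fun z hz h' => Set.eq_empty_iff_forall_notMem.mp ht z ⟨hz, h'⟩⟩ (Set.mem_iInter₂.mpr fun i _ => i.2.2)

end Groth.Agent.S7567
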