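import Groth.Statements.S7568
import Mathlib.Topology.Separation.Regular
import Mathlib.Topology.ShrinkingLemma

set_option autoImplicit false
universe u
open PtTop

namespace Groth.Agent.S7568

/-- Let X be a Hausdorff quasi-compact space, X = ⋃ U_i an open covering, p ≥ 0 an integer, and for
every (p+1)-tuple (i_0, …, i_p) an open covering of U_{i_0} ∩ … ∩ U_{i_p} by opens W_{i_0…i_p,k}.
Then there are an open covering X = ⋃_{j ∈ J} V_j and a map α : J → I with closure(V_j) ⊆ U_{α(j)}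
such that each V_{j_0} ∩ … ∩ V_{j_p} is contained in W_{α(j_0)…α(j_p),k} for some k. The published
statement allows a covering of an empty intersection to have no members; this row requires every
covering W_{i_0…i_p} to have at least one member (possibly empty), without which the conclusion
fails. -/
theorem result {X : Type u} [TopologicalSpace X] [CompactSpace X] [T2Space X]
    {ι : Type u} (U : ι → Set X) (hU : ∀ i, IsOpen (U i)) (hcov : ⋃ i, U i = Set.univ) (p : ℕ)
    (W : (Fin (p + 1) → ι) → Set (Set X)) (hWo : ∀ t, ∀ w ∈ W t, IsOpen w)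
    (hWc : ∀ t, ⋃₀ W t = ⋂ l, U (t l)) (hWne : ∀ t, (W t).Nonempty) :
    ∃ (J : Type u) (V : J → Set X) (α : J → ι), (∀ j, IsOpen (V j)) ∧ (⋃ j, V j = Set.univ) ∧
      (∀ j, closure (V j) ⊆ U (α j)) ∧
      (∀ t : Fin (p + 1) → J, ∃ w ∈ W (α ∘ t), (⋂ l, V (t l)) ⊆ w) := by
  classical
  obtain ⟨s, hs⟩ := isCompact_univ.elim_finite_subcover U hU hcov.ge
  obtain ⟨K, hK, hKU, hKc⟩ := isCompact_univ.finite_compact_cover s U (fun i _ => hU i) hs
  have hsep : ∀ i, ∃ P : Set X, IsOpen P ∧ K i ⊆ P ∧ closure P ⊆ U i := fun i => by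
    obtain ⟨P, hP, hKP, hPU, -⟩ := exists_open_between_and_isCompact_closure (hK i) (hU i) (hKU i)
    exact ⟨P, hP, hKP, hPU⟩
  choose P hP hKP hPU using hsep
  have hx : ∀ x, ∃ i ∈ s, x ∈ P i := fun x => by
    have hxK : x ∈ ⋃ i ∈ s, K i := hKc ▸ Set.mem_univ x
    obtain ⟨i, hi, h⟩ := Set.mem_iUnion₂.1 hxK
    exact ⟨i, hi, hKP i h⟩
  choose α hαs hα using hx
  let S : X → Finset ι := fun x => s.filter fun i => x ∈ closure (P i)
  have hw : ∀ x, ∀ t ∈ Fintype.piFinset (fun _ : Fin (p + 1) => S x), ∃ w ∈ W t, x ∈ w := fun x t ht => by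
    refine Set.mem_sUnion.1 ((hWc t).symm ▸ Set.mem_iInter.2 fun l => hPU _ ?_)
    exact (Finset.mem_filter.1 (Fintype.mem_piFinset.1 ht l)).2
  choose w hwW hxw using hw
  let V : X → Set X := fun x => P (α x) ∩
    (⋂ t : Fintype.piFinset (fun _ : Fin (p + 1) => S x), w x t.1 t.2) ∩ (⋂ i : ↥(s \ S x), (closure (P i.1))ᶜ)
  have hxV : ∀ x, x ∈ V x := fun x => ⟨⟨hα x, Set.mem_iInter.2 fun t => hxw _ _ _⟩, Set.mem_iInter.2 fun i => by
    have := i.2
    simp only [Finset.mem_sdiff, S, Finset.mem_filter, not_and] at this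
    exact this.2 this.1⟩
  refine ⟨X, V, α, fun x => ((hP _).inter (isOpen_iInter_of_finite fun t => hWo _ _ (hwW _ _ _))).inter
      (isOpen_iInter_of_finite fun i => isClosed_closure.isOpen_compl),
    Set.eq_univ_of_forall fun x => Set.mem_iUnion.2 ⟨x, hxV x⟩,
    fun x => (closure_mono fun y hy => hy.1.1).trans (hPU _), fun t => ?_⟩
  by_cases hne : (⋂ l, V (t l)).Nonempty
  · obtain ⟨y, hy⟩ := hne
    rw [Set.mem_iInter] at hy
    have ht : α ∘ t ∈ Fintype.piFinset (fun _ : Fin (p + 1) => S (t 0)) := Fintype.mem_piFinset.2 fun l => by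
      by_contra h
      exact Set.mem_iInter.1 (hy 0).2 ⟨α (t l), Finset.mem_sdiff.2 ⟨hαs _, h⟩⟩ (subset_closure (hy l).1.1)
    refine ⟨_, hwW _ _ ht, fun z hz => ?_⟩
    exact Set.mem_iInter.1 (Set.mem_iInter.1 hz 0).1.2 ⟨_, ht⟩
  · obtain ⟨w, hw⟩ := hWne (α ∘ t)
    exact ⟨w, hw, fun z hz => absurd ⟨z, hz⟩ hne⟩

end Groth.Agent.S7568
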