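import Mathlib.Topology.Separation.Regular
import Mathlib.Topology.Compactness.Compact
import Mathlib.Topology.ShrinkingLemma

/-! Shrinking finite families of opens near a compact set. -/

set_option autoImplicit false
universe u v

namespace Groth.Agent.ShrinkLib

variable {X : Type u} [TopologicalSpace X]

/-- Disjoint opens around two compact sets any two points of which can be separated. -/
theorem sep_compacts {A B : Set X} (hA : IsCompact A) (hB : IsCompact B)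
    (h : ∀ a ∈ A, ∀ b ∈ B, ∃ P Q : Set X, IsOpen P ∧ IsOpen Q ∧ a ∈ P ∧ b ∈ Q ∧ Disjoint P Q) :
    ∃ P Q : Set X, IsOpen P ∧ IsOpen Q ∧ A ⊆ P ∧ B ⊆ Q ∧ Disjoint P Q := by
  let n : Set (X × X) := ⋃ r : {r : Set X × Set X // IsOpen r.1 ∧ IsOpen r.2 ∧ Disjoint r.1 r.2}, r.1.1 ×ˢ r.1.2
  have hn : IsOpen n := isOpen_iUnion fun r => r.2.1.prod r.2.2.1
  have hAB : A ×ˢ B ⊆ n := fun z hz => by
    obtain ⟨P, Q, hP, hQ, ha, hb, hd⟩ := h z.1 hz.1 z.2 hz.2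
    exact Set.mem_iUnion.2 ⟨⟨(P, Q), hP, hQ, hd⟩, ha, hb⟩
  obtain ⟨P, Q, hP, hQ, hAP, hBQ, hPQ⟩ := generalized_tube_lemma hA hB hn hAB
  refine ⟨P, Q, hP, hQ, hAP, hBQ, Set.disjoint_left.2 fun x hx hx' => ?_⟩
  obtain ⟨r, hr₁, hr₂⟩ := Set.mem_iUnion.1 (hPQ (Set.mk_mem_prod hx hx'))
  exact Set.disjoint_left.1 r.2.2.2 hr₁ hr₂

/-- Removing the bad closed sets from a finite shrinking. -/
theorem shrink_avoid {ι : Type v} (Z : Set X) (U : ι → Set X) (p : ℕ) (W : (Fin (p + 1) → ι) → Set X)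
    (hWo : ∀ t, IsOpen (W t)) (hWZ : ∀ t, (⋂ l, U (t l)) ∩ Z ⊆ W t) (s : Finset ι) (V₀ : ι → Set X)
    (ho : ∀ i, IsOpen (V₀ i)) (hsupp : ∀ i, i ∉ s → V₀ i = ∅) (hcov : Z ⊆ ⋃ i, V₀ i)
    (hcl : ∀ i, closure (V₀ i) ∩ Z ⊆ U i) :
    ∃ V : ι → Set X, (∀ i, IsOpen (V i)) ∧ (Z ⊆ ⋃ i, V i) ∧ (∀ i, V i ⊆ V₀ i) ∧
      (∀ t, (⋂ l, V (t l)) ⊆ W t) := by
  classical
  let T : Finset (Fin (p + 1) → ι) := Fintype.piFinset fun _ => s
  let C : Set X := ⋃ t ∈ T, (⋂ l, closure (V₀ (t l))) \ W t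
  have hC : IsClosed C :=
    T.finite_toSet.isClosed_biUnion fun t _ => (isClosed_iInter fun l => isClosed_closure).sdiff (hWo t)
  have hCZ : ∀ z ∈ Z, z ∉ C := fun z hz hzC => by
    obtain ⟨t, -, hz₁, hz₂⟩ := Set.mem_iUnion₂.1 hzC
    exact hz₂ (hWZ t ⟨Set.mem_iInter.2 fun l => hcl _ ⟨Set.mem_iInter.1 hz₁ l, hz⟩, hz⟩)
  refine ⟨fun i => V₀ i \ C, fun i => (ho i).sdiff hC, fun z hz => ?_, fun i => Set.sdiff_subset, fun t x hx => ?_⟩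
  · obtain ⟨i, hi⟩ := Set.mem_iUnion.1 (hcov hz)
    exact Set.mem_iUnion.2 ⟨i, hi, hCZ z hz⟩
  · rw [Set.mem_iInter] at hx
    by_contra hxW
    have ht : t ∈ T := Fintype.mem_piFinset.2 fun l => by
      by_contra hl
      have := (hx l).1
      rw [hsupp _ hl] at this
      exact this
    exact (hx 0).2 (Set.mem_iUnion₂.2 ⟨t, ht, Set.mem_iInter.2 fun l => subset_closure (hx l).1, hxW⟩)

end Groth.Agent.ShrinkLib
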