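import Groth.Statements.S7569
import Groth.Agent.ShrinkLib

set_option autoImplicit false
universe u
open PtTop

namespace Groth.Agent.S7569

open Groth.Agent.ShrinkLib

/-- Let X be a Hausdorff, locally quasi-compact space and Z ⊆ X a quasi-compact subset. Let p ≥ 0, let
U_i ⊆ X be opens with Z ⊆ ⋃ U_i, and for every (p+1)-tuple (i_0, …, i_p) let W_{i_0…i_p} ⊆ U_{i_0} ∩
… ∩ U_{i_p} be an open with W_{i_0…i_p} ∩ Z = U_{i_0} ∩ … ∩ U_{i_p} ∩ Z. Then there are opens V_i ⊆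
X with Z ⊆ ⋃ V_i, closure(V_i) ⊆ U_i for all i, and V_{i_0} ∩ … ∩ V_{i_p} ⊆ W_{i_0…i_p} for all
(p+1)-tuples. -/
theorem result {X : Type u} [TopologicalSpace X]
    [T2Space X] [LocallyCompactSpace X] (Z : Set X) (hZ : IsCompact Z)
    {ι : Type u} (U : ι → Set X) (hU : ∀ i, IsOpen (U i)) (hcov : Z ⊆ ⋃ i, U i) (p : ℕ)
    (W : (Fin (p + 1) → ι) → Set X) (hWo : ∀ t, IsOpen (W t)) (hWU : ∀ t, W t ⊆ ⋂ l, U (t l))
    (hWZ : ∀ t, W t ∩ Z = (⋂ l, U (t l)) ∩ Z) :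
    ∃ V : ι → Set X, (∀ i, IsOpen (V i)) ∧ (Z ⊆ ⋃ i, V i) ∧ (∀ i, closure (V i) ⊆ U i) ∧
      (∀ t : Fin (p + 1) → ι, (⋂ l, V (t l)) ⊆ W t) := by
  classical
  obtain ⟨s, hs⟩ := hZ.elim_finite_subcover U hU hcov
  obtain ⟨K, hK, hKU, hKc⟩ := hZ.finite_compact_cover s U (fun i _ => hU i) hs
  have hsep : ∀ i, ∃ P : Set X, IsOpen P ∧ K i ⊆ P ∧ closure P ⊆ U i := fun i => by
    obtain ⟨P, hP, hKP, hPU, -⟩ := exists_open_between_and_isCompact_closure (hK i) (hU i) (hKU i)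
    exact ⟨P, hP, hKP, hPU⟩
  choose P hP hKP hPU using hsep
  let V₀ : ι → Set X := fun i => if i ∈ s then P i else ∅
  have hcl : ∀ i, closure (V₀ i) ⊆ U i := fun i => by
    by_cases hi : i ∈ s
    · simp only [V₀, if_pos hi]; exact hPU i
    · simp [V₀, hi]
  have hcov₀ : Z ⊆ ⋃ i, V₀ i := fun z hz => by
    have hzK : z ∈ ⋃ i ∈ s, K i := hKc ▸ hz
    obtain ⟨i, hi, hzi⟩ := Set.mem_iUnion₂.1 hzK
    exact Set.mem_iUnion.2 ⟨i, by simp only [V₀, if_pos hi]; exact hKP i hzi⟩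
  obtain ⟨V, hV, hVc, hV₀, hVW⟩ := shrink_avoid Z U p W hWo
    (fun t => (hWZ t).symm.subset.trans Set.inter_subset_left) s V₀
    (fun i => by by_cases hi : i ∈ s <;> simp [V₀, hi, hP i])
    (fun i hi => by simp [V₀, hi]) hcov₀ (fun i => Set.inter_subset_left.trans (hcl i))
  exact ⟨V, hV, hVc, fun i => (closure_mono (hV₀ i)).trans (hcl i), hVW⟩

end Groth.Agent.S7569
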