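import Groth.Statements.S7570
import Groth.Agent.ShrinkLib

set_option autoImplicit false
universe u
open PtTop

namespace Groth.Agent.S7570

open Groth.Agent.ShrinkLib

/-- Let X be a topological space and Z ⊆ X a quasi-compact subset such that any two distinct points of Z
have disjoint open neighbourhoods in X. Let p ≥ 0, let U_i ⊆ X be opens with Z ⊆ ⋃ U_i, and for
every (p+1)-tuple let W_{i_0…i_p} ⊆ U_{i_0} ∩ … ∩ U_{i_p} be an open with W_{i_0…i_p} ∩ Z = U_{i_0}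
∩ … ∩ U_{i_p} ∩ Z. Then there are opens V_i with (1) Z ⊆ ⋃ V_i, (2) V_i ⊆ U_i, (3) closure(V_i) ∩ Z
⊆ U_i, and (4) V_{i_0} ∩ … ∩ V_{i_p} ⊆ W_{i_0…i_p} for all (p+1)-tuples. -/
theorem result {X : Type u} [TopologicalSpace X]
    (Z : Set X) (hZ : IsCompact Z)
    (hZsep : ∀ z ∈ Z, ∀ z' ∈ Z, z ≠ z' → ∃ A B : Set X, IsOpen A ∧ IsOpen B ∧ z ∈ A ∧ z' ∈ B ∧ Disjoint A B)
    {ι : Type u} (U : ι → Set X) (hU : ∀ i, IsOpen (U i)) (hcov : Z ⊆ ⋃ i, U i) (p : ℕ)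
    (W : (Fin (p + 1) → ι) → Set X) (hWo : ∀ t, IsOpen (W t)) (hWU : ∀ t, W t ⊆ ⋂ l, U (t l))
    (hWZ : ∀ t, W t ∩ Z = (⋂ l, U (t l)) ∩ Z) :
    ∃ V : ι → Set X, (∀ i, IsOpen (V i)) ∧ (Z ⊆ ⋃ i, V i) ∧ (∀ i, V i ⊆ U i) ∧
      (∀ i, closure (V i) ∩ Z ⊆ U i) ∧ (∀ t : Fin (p + 1) → ι, (⋂ l, V (t l)) ⊆ W t) := by
  classical
  obtain ⟨s, hs⟩ := hZ.elim_finite_subcover U hU hcov
  have : CompactSpace Z := isCompact_iff_compactSpace.1 hZ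
  have : T2Space Z := ⟨fun a b hab => by
    obtain ⟨A, B, hA, hB, ha, hb, hd⟩ := hZsep a.1 a.2 b.1 b.2 (fun e => hab (Subtype.ext e))
    exact ⟨Subtype.val ⁻¹' A, Subtype.val ⁻¹' B, hA.preimage continuous_subtype_val,
      hB.preimage continuous_subtype_val, ha, hb, hd.preimage _⟩⟩
  have hs' : (Set.univ : Set Z) ⊆ ⋃ i ∈ s, Subtype.val ⁻¹' U i := fun z _ => by
    obtain ⟨i, hi, hz⟩ := Set.mem_iUnion₂.1 (hs z.2)
    exact Set.mem_iUnion₂.2 ⟨i, hi, hz⟩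
  obtain ⟨K, hK, hKU, hKc⟩ := IsCompact.finite_compact_cover isCompact_univ s (fun i => (Subtype.val ⁻¹' U i : Set Z))
    (fun i _ => (hU i).preimage continuous_subtype_val) hs'
  have hsep : ∀ i, ∃ P Q : Set X, IsOpen P ∧ IsOpen Q ∧ Subtype.val '' K i ⊆ P ∧ Z \ U i ⊆ Q ∧ Disjoint P Q :=
    fun i => sep_compacts ((hK i).image continuous_subtype_val) (hZ.diff (hU i)) (by
      rintro a ⟨z, hz, rfl⟩ b hb
      exact hZsep z.1 z.2 b hb.1 (fun e => hb.2 (e ▸ hKU i hz)))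
  choose P Q hP hQ hKP hQU hPQ using hsep
  let V₀ : ι → Set X := fun i => if i ∈ s then P i ∩ U i else ∅
  have hcl : ∀ i, closure (V₀ i) ∩ Z ⊆ U i := fun i x ⟨hx, hxZ⟩ => by
    by_contra hxU
    have hsub : V₀ i ⊆ P i := by
      by_cases hi : i ∈ s
      · simp [V₀, hi]
      · simp [V₀, hi]
    exact Set.disjoint_left.1 ((hPQ i).closure_left (hQ i)) (closure_mono hsub hx) (hQU i ⟨hxZ, hxU⟩)
  have hcov₀ : Z ⊆ ⋃ i, V₀ i := fun z hz => by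
    have hzK : (⟨z, hz⟩ : Z) ∈ ⋃ i ∈ s, K i := hKc ▸ Set.mem_univ _
    obtain ⟨i, hi, hzi⟩ := Set.mem_iUnion₂.1 hzK
    exact Set.mem_iUnion.2 ⟨i, by simp only [V₀, if_pos hi]; exact ⟨hKP i ⟨_, hzi, rfl⟩, hKU i hzi⟩⟩
  have hsub₀ : ∀ i, V₀ i ⊆ U i := fun i => by by_cases hi : i ∈ s <;> simp [V₀, hi]
  obtain ⟨V, hV, hVc, hV₀, hVW⟩ := shrink_avoid Z U p W hWo
    (fun t => (hWZ t).symm.subset.trans Set.inter_subset_left) s V₀
    (fun i => by by_cases hi : i ∈ s <;> simp [V₀, hi, (hP i).inter (hU i)])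
    (fun i hi => by simp [V₀, hi]) hcov₀ hcl
  exact ⟨V, hV, hVc, fun i => (hV₀ i).trans (hsub₀ i),
    fun i => (Set.inter_subset_inter_left _ (closure_mono (hV₀ i))).trans (hcl i), hVW⟩

end Groth.Agent.S7570
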