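import Groth.Statements.S7571
import Mathlib.Topology.Category.TopCat.Limits.Cofiltered
-- import your own Groth.Agent.* helpers here

set_option autoImplicit false
universe u
open CategoryTheory CategoryTheory.Limits
open PtTop

namespace Groth.Agent.S7571

/-- Let j ↦ X_j be a diagram of topological spaces over a cofiltered category with limit X and
projections f_j. (1) Every open of X is a union of subsets of the form f_j⁻¹(U_j) with U_j ⊆ X_j
open. (2) Every quasi-compact open of X equals f_i⁻¹(U_i) for some i and some open U_i ⊆ X_i. -/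
theorem result {J : Type u} [SmallCategory J] [IsCofiltered J]
    (F : J ⥤ TopCat.{u}) (c : Cone F) (hc : IsLimit c) :
    (∀ W : Set c.pt, IsOpen W →
      ∃ S : Set (Σ j, Set (F.obj j)), (∀ s ∈ S, IsOpen s.2) ∧ W = ⋃ s ∈ S, c.π.app s.1 ⁻¹' s.2) ∧
    (∀ W : Set c.pt, IsOpen W → IsCompact W →
      ∃ (i : J) (Ui : Set (F.obj i)), IsOpen Ui ∧ W = c.π.app i ⁻¹' Ui) := by
  classical
  have hb := TopCat.isTopologicalBasis_cofiltered_limit.{u, u} F c hc (fun j => {U | IsOpen U})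
    (fun j => TopologicalSpace.isTopologicalBasis_opens) (fun _ => isOpen_univ)
    (fun _ _ _ h1 h2 => IsOpen.inter h1 h2)
    (fun i j f V hV => hV.preimage (F.map f).hom.continuous)
  have h1 : ∀ W : Set c.pt, IsOpen W →
      ∃ S : Set (Σ j, Set (F.obj j)),
        (∀ s ∈ S, IsOpen s.2) ∧ W = ⋃ s ∈ S, c.π.app s.1 ⁻¹' s.2 := by
    intro W hW
    refine ⟨{s | IsOpen s.2 ∧ c.π.app s.1 ⁻¹' s.2 ⊆ W}, fun s hs => hs.1, ?_⟩
    refine Set.Subset.antisymm (fun x hx => ?_) (Set.iUnion₂_subset fun s hs => hs.2)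
    obtain ⟨_, ⟨j, V, hV, rfl⟩, hxV, hVW⟩ := hb.exists_subset_of_mem_open hx hW
    exact Set.mem_iUnion₂.mpr ⟨⟨j, V⟩, ⟨hV, hVW⟩, hxV⟩
  refine ⟨h1, fun W hW hWc => ?_⟩
  obtain ⟨S, hS, rfl⟩ := h1 W hW
  obtain ⟨b, hb1, hb2, hb3⟩ := hWc.elim_finite_subcover_image
    (fun s hs => (hS s hs).preimage (c.π.app s.1).hom.continuous) subset_rfl
  obtain ⟨i, hi⟩ := IsCofiltered.inf_objs_exists (hb2.toFinset.image Sigma.fst)
  let g : ∀ s ∈ b, i ⟶ s.1 := fun s hs =>
    (hi (Finset.mem_image_of_mem _ (hb2.mem_toFinset.mpr hs))).some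
  refine ⟨i, ⋃ (s) (hs : s ∈ b), F.map (g s hs) ⁻¹' s.2,
    isOpen_iUnion fun s => isOpen_iUnion fun hs =>
      (hS s (hb1 hs)).preimage (F.map (g s hs)).hom.continuous, ?_⟩
  have hw : ∀ (s) (hs : s ∈ b) (x : c.pt),
      F.map (g s hs) (c.π.app i x) = c.π.app s.1 x := fun s hs x => by
    rw [← c.w (g s hs)]
    rfl
  refine Set.Subset.antisymm (fun x hx => ?_) (fun x hx => ?_)
  · obtain ⟨s, hs, hxs⟩ := Set.mem_iUnion₂.mp (hb3 hx)
    refine Set.mem_iUnion₂.mpr ⟨s, hs, ?_⟩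
    show F.map (g s hs) (c.π.app i x) ∈ s.2
    rw [hw s hs]
    exact hxs
  · obtain ⟨s, hs, hxs⟩ := Set.mem_iUnion₂.mp hx
    refine Set.mem_iUnion₂.mpr ⟨s, hb1 hs, ?_⟩
    show c.π.app s.1 x ∈ s.2
    rw [← hw s hs]
    exact hxs


end Groth.Agent.S7571
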