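import Groth.Statements.S7573
import Mathlib
import Groth.Agent.ShSetLib

set_option autoImplicit false
universe u
open CategoryTheory TopologicalSpace
open ShSp

namespace Groth.Agent.S7573

/-- Let i : Z → X be the inclusion of a closed subset (a closed embedding). Then i_* : Sh(Z) → Sh(X) on
sheaves of sets is fully faithful, and its essential image consists exactly of the sheaves G whose
stalk G_x is a one-point set for every x ∈ X not in Z. -/
theorem result {Z X : TopCat.{u}} (i : Z ⟶ X) (hi : Topology.IsClosedEmbedding i) :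
    (TopCat.Sheaf.pushforward (Type u) i).Full ∧ (TopCat.Sheaf.pushforward (Type u) i).Faithful ∧
    ∀ G : X.Sheaf (Type u), (TopCat.Sheaf.pushforward (Type u) i).essImage G ↔
      ∀ x : X, x ∉ Set.range i → Nonempty (Unique (G.presheaf.stalk x)) := by
  haveI := ShSetLib.full_push (i := i) hi.isInducing
  haveI := ShSetLib.faithful_push (i := i) hi.isInducing
  refine ⟨inferInstance, inferInstance, fun G => ⟨?_, fun hG => ?_⟩⟩
  · rintro ⟨F, ⟨e⟩⟩ x hx
    obtain ⟨u⟩ := ShSetLib.unique_stalk_push F
      (V := ⟨(Set.range i)ᶜ, hi.isClosed_range.isOpen_compl⟩) hx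
      (le_bot_iff.mp fun z hz => hz ⟨z, rfl⟩)
    exact ⟨@Equiv.unique _ _ u ((ShSetLib.stalkF x).mapIso e).toEquiv.symm⟩
  · let adj := TopCat.Sheaf.pullbackPushforwardAdjunction (Type u) i
    haveI := ShSetLib.isIso_counit (i := i) hi.isInducing
    haveI hη : IsIso ((TopCat.Sheaf.pullback (Type u) i).map (adj.unit.app G)) := by
      let ε := adj.counit.app ((TopCat.Sheaf.pullback (Type u) i).obj G)
      haveI : IsIso ε := NatIso.isIso_app_of_isIso adj.counit _
      have e : (TopCat.Sheaf.pullback (Type u) i).map (adj.unit.app G) = inv ε :=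
        (IsIso.eq_inv_of_inv_hom_id (adj.left_triangle_components G))
      rw [e]
      exact IsIso.inv_isIso
    haveI : IsIso (adj.unit.app G) := ShSetLib.isIso_of_stalk _ fun x => by
      by_cases hx : x ∈ Set.range i
      · obtain ⟨z, rfl⟩ := hx
        exact ShSetLib.isIso_stalk_map i adj (adj.unit.app G) z
      · exact ShSetLib.isIso_of_unique _ (hG x hx) (ShSetLib.unique_stalk_push _
          (V := ⟨(Set.range i)ᶜ, hi.isClosed_range.isOpen_compl⟩) hx
          (le_bot_iff.mp fun z hz => hz ⟨z, rfl⟩))
    exact ⟨_, ⟨(asIso (adj.unit.app G)).symm⟩⟩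

end Groth.Agent.S7573
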