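import Groth.Statements.S7574
import Mathlib
import Groth.Agent.ShSetLib

set_option autoImplicit false
universe u
open CategoryTheory TopologicalSpace
open ShSp

namespace Groth.Agent.S7574

/-- Let X be a topological space, U ⊆ X open and j_! : Sh(U) → Sh(X) a left adjoint of restriction of
sheaves of sets to U. Then j_! is fully faithful, and a sheaf G on X lies in its essential image if
and only if G_x = ∅ for all x ∈ X not in U. -/
theorem result {X : TopCat.{u}} (U : Opens X)
    (L : (TopCat.of U).Sheaf (Type u) ⥤ X.Sheaf (Type u)) (adj : L ⊣ U.sheafRestrict (C := Type u)) :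
    L.Full ∧ L.Faithful ∧
    ∀ G : X.Sheaf (Type u), L.essImage G ↔ ∀ x : X, x ∉ U → IsEmpty (G.presheaf.stalk x) := by
  haveI := ShSetLib.full_push (i := ShSetLib.incl U) (ShSetLib.incl_isOpenEmbedding U).isInducing
  haveI := ShSetLib.faithful_push (i := ShSetLib.incl U) (ShSetLib.incl_isOpenEmbedding U).isInducing
  let t : CategoryTheory.Adjunction.Triple L (U.sheafRestrict (C := Type u))
      (TopCat.Sheaf.pushforward (Type u) (ShSetLib.incl U)) := ⟨adj, ShSetLib.restrictPushAdj U⟩
  let ff := t.fullyFaithfulEquiv.symm (Functor.FullyFaithful.ofFullyFaithful _)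
  haveI := ff.full
  haveI := ff.faithful
  refine ⟨inferInstance, inferInstance, fun G => ⟨?_, fun hG => ?_⟩⟩
  · rintro ⟨F, ⟨e⟩⟩ x hx
    exact @Function.isEmpty _ _ (ShSetLib.isEmpty_stalk_extend U adj F hx)
      ((ShSetLib.stalkF x).mapIso e).toEquiv.symm
  · haveI hε : IsIso (U.sheafRestrict.map (adj.counit.app G)) := by
      have h : IsIso (adj.unit.app (U.sheafRestrict.obj G) ≫
          U.sheafRestrict.map (adj.counit.app G)) := by
        rw [adj.right_triangle_components]
        exact IsIso.id _
      exact IsIso.of_isIso_comp_left (adj.unit.app (U.sheafRestrict.obj G)) _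
    haveI : IsIso (adj.counit.app G) := ShSetLib.isIso_of_stalk _ fun x => by
      by_cases hx : x ∈ U
      · exact ShSetLib.isIso_stalk_map (ShSetLib.incl U) (ShSetLib.restrictPushAdj U)
          (adj.counit.app G) ⟨x, hx⟩
      · exact @ShSetLib.isIso_of_isEmpty _ _ _
          (ShSetLib.isEmpty_stalk_extend U adj (U.sheafRestrict.obj G) hx) (hG x hx)
    exact ⟨_, ⟨asIso (adj.counit.app G)⟩⟩

end Groth.Agent.S7574
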