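import Groth.Statements.S7575
import Mathlib.Topology.Sheaves.Skyscraper
import Mathlib.Topology.Sheaves.SheafCondition.UniqueGluing
import Mathlib.CategoryTheory.Limits.Types.Filtered
import Mathlib.CategoryTheory.Adjunction.Limits

set_option autoImplicit false
universe u
open CategoryTheory CategoryTheory.Limits TopologicalSpace Opposite
open ShSp

namespace Groth.Agent.S7575

set_option backward.isDefEq.respectTransparency false

open TopCat

namespace S7575Aux

variable {X : TopCat.{u}} {J : Type u} [Preorder J] [Nonempty J] [IsDirected J (· ≤ ·)]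
    (F : J ⥤ X.Sheaf (Type u)) (c : Cocone F)

/-- The image of a section in the colimit sheaf. -/
def toColim (i : J) {V : Opens X} (s : (F.obj i).1.obj (op V)) : c.pt.1.obj (op V) :=
  (c.ι.app i).1.app (op V) s

/-- The transition map on sections. -/
def push {i j : J} (h : i ≤ j) {V : Opens X} (s : (F.obj i).1.obj (op V)) :
    (F.obj j).1.obj (op V) :=
  (F.map (homOfLE h)).1.app (op V) s

omit [Nonempty J] [IsDirected J (· ≤ ·)] in
lemma toColim_push {i j : J} (h : i ≤ j) {V : Opens X} (s : (F.obj i).1.obj (op V)) :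
    toColim F c j (push F h s) = toColim F c i s := by
  rw [toColim, toColim, push, ← c.w (homOfLE h)]
  rfl

omit [Nonempty J] [IsDirected J (· ≤ ·)] in
lemma push_push {i j l : J} (h : i ≤ j) (h' : j ≤ l) {V : Opens X}
    (s : (F.obj i).1.obj (op V)) : push F h' (push F h s) = push F (h.trans h') s := by
  simp only [push]
  rw [← ConcreteCategory.comp_apply]
  change ((F.map (homOfLE h) ≫ F.map (homOfLE h')).1.app (op V)) s = _
  rw [← F.map_comp, homOfLE_comp]

omit [Nonempty J] [IsDirected J (· ≤ ·)] in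
lemma push_res {i j : J} (h : i ≤ j) {V W : Opens X} (ι : W ⟶ V) (s : (F.obj i).1.obj (op V)) :
    push F h ((F.obj i).1.map ι.op s) = (F.obj j).1.map ι.op (push F h s) :=
  NatTrans.naturality_apply (F.map (homOfLE h)).1 ι.op s

omit [Nonempty J] [IsDirected J (· ≤ ·)] in
lemma toColim_res (i : J) {V W : Opens X} (ι : W ⟶ V) (s : (F.obj i).1.obj (op V)) :
    toColim F c i ((F.obj i).1.map ι.op s) = c.pt.1.map ι.op (toColim F c i s) :=
  NatTrans.naturality_apply (c.ι.app i).1 ι.op s

variable (hc : IsColimit c)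
include hc

omit [Nonempty J] [IsDirected J (· ≤ ·)] in
lemma exists_local {V : Opens X} (σ : c.pt.1.obj (op V)) (x : X) (hx : x ∈ V) :
    ∃ (i : J) (W : Opens X) (_ : x ∈ W) (ι : W ⟶ V) (t : (F.obj i).1.obj (op W)),
      toColim F c i t = c.pt.1.map ι.op σ := by
  obtain ⟨i, e, he⟩ := Types.jointly_surjective_of_isColimit
    (isColimitOfPreserves (Sheaf.forget (Type u) X ⋙ Presheaf.stalkFunctor (Type u) x) hc)
    (Presheaf.germ c.pt.1 V x hx σ)
  obtain ⟨W, mW, t, rfl⟩ := Presheaf.germ_exist (F.obj i).1 e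
  have he' : Presheaf.germ c.pt.1 W x mW (toColim F c i t) = Presheaf.germ c.pt.1 V x hx σ := by
    rw [← he]
    exact (Presheaf.stalkFunctor_map_germ_apply W x mW (c.ι.app i).1 t).symm
  obtain ⟨W', mW', iW, iV, e'⟩ := Presheaf.germ_eq c.pt.1 x mW hx _ _ he'
  exact ⟨i, W', mW', iV, (F.obj i).1.map iW.op t, by rw [toColim_res, e']⟩

lemma local_eq (i : J) {V : Opens X} (s t : (F.obj i).1.obj (op V))
    (h : toColim F c i s = toColim F c i t) (x : X) (hx : x ∈ V) :
    ∃ (j : J) (hj : i ≤ j) (W : Opens X) (_ : x ∈ W) (ι : W ⟶ V),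
      (F.obj j).1.map ι.op (push F hj s) = (F.obj j).1.map ι.op (push F hj t) := by
  let P := Sheaf.forget (Type u) X ⋙ Presheaf.stalkFunctor (Type u) x
  have h' : (P.mapCocone c).ι.app i (Presheaf.germ (F.obj i).1 V x hx s) =
      (P.mapCocone c).ι.app i (Presheaf.germ (F.obj i).1 V x hx t) := by
    change (Presheaf.stalkFunctor (Type u) x).map (c.ι.app i).1 _ =
      (Presheaf.stalkFunctor (Type u) x).map (c.ι.app i).1 _
    exact (Presheaf.stalkFunctor_map_germ_apply V x hx (c.ι.app i).1 s).trans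
      ((congrArg _ h).trans (Presheaf.stalkFunctor_map_germ_apply V x hx (c.ι.app i).1 t).symm)
  obtain ⟨l, f, g, e⟩ := (Types.FilteredColimit.isColimit_eq_iff (F ⋙ P)
    (isColimitOfPreserves P hc)).1 h'
  obtain rfl : g = f := Subsingleton.elim _ _
  change (Presheaf.stalkFunctor (Type u) x).map (F.map (homOfLE g.le)).1 _ =
    (Presheaf.stalkFunctor (Type u) x).map (F.map (homOfLE g.le)).1 _ at e
  have e' : Presheaf.germ (F.obj l).1 V x hx (push F g.le s) = Presheaf.germ (F.obj l).1 V x hx (push F g.le t) :=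
    (Presheaf.stalkFunctor_map_germ_apply V x hx (F.map (homOfLE g.le)).1 s).symm.trans
      (e.trans (Presheaf.stalkFunctor_map_germ_apply V x hx (F.map (homOfLE g.le)).1 t))
  obtain ⟨W, mW, iU, iV, e''⟩ := Presheaf.germ_eq (F.obj l).1 x hx hx _ _ e'
  obtain rfl : iU = iV := Subsingleton.elim _ _
  exact ⟨l, g.le, W, mW, iU, e''⟩

lemma eq_of_injective
    (hinj : ∀ (i j : J) (h : i ⟶ j) (V : Opens X), Function.Injective ((F.map h).1.app (op V)))
    (i : J) {V : Opens X} (s t : (F.obj i).1.obj (op V))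
    (h : toColim F c i s = toColim F c i t) : s = t := by
  refine Presheaf.section_ext (F.obj i) V s t (fun x hx => ?_)
  obtain ⟨j, hj, W, mW, ι, e⟩ := local_eq F c hc i s t h x hx
  rw [← push_res, ← push_res] at e
  have := congrArg (Presheaf.germ (F.obj i).1 W x mW) (hinj i j (homOfLE hj) W e)
  rwa [Presheaf.germ_res_apply, Presheaf.germ_res_apply] at this

lemma eq_of_isCompact (i : J) {V : Opens X} (hV : IsCompact (V : Set X))
    (s t : (F.obj i).1.obj (op V)) (h : toColim F c i s = toColim F c i t) :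
    ∃ (j : J) (hj : i ≤ j), push F hj s = push F hj t := by
  classical
  choose j hj W mW ι e using fun x : ↥V => local_eq F c hc i s t h x.1 x.2
  obtain ⟨T, hT⟩ := hV.elim_finite_subcover (fun x : ↥V => (W x : Set X))
    (fun x => (W x).isOpen) (fun x hx => Set.mem_iUnion.2 ⟨⟨x, hx⟩, mW ⟨x, hx⟩⟩)
  obtain ⟨l, hl⟩ := Finset.exists_le (insert i (T.image j))
  have hil : i ≤ l := hl i (Finset.mem_insert_self _ _)
  refine ⟨l, hil, (F.obj l).eq_of_locally_eq' (fun x : {x // x ∈ T} => W x.1) V
    (fun x => ι x.1) ?_ _ _ (fun x => ?_)⟩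
  · intro y hy
    obtain ⟨x, hx, hy'⟩ := Set.mem_iUnion₂.1 (hT hy)
    exact Opens.mem_iSup.2 ⟨⟨x, hx⟩, hy'⟩
  · have hjl : j x.1 ≤ l := hl _ (Finset.mem_insert_of_mem (Finset.mem_image_of_mem _ x.2))
    have := congrArg (push F hjl) (e x.1)
    rwa [push_res, push_res, push_push, push_push] at this

/-- Gluing of a finite family of local preimages. -/
lemma exists_glue {ι : Type} [Finite ι] {V : Opens X} (σ : c.pt.1.obj (op V))
    (W : ι → Opens X) (hW : ∀ a, W a ≤ V) (hcov : V ≤ iSup W) (i : ι → J)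
    (t : ∀ a, (F.obj (i a)).1.obj (op (W a)))
    (ht : ∀ a, toColim F c (i a) (t a) = c.pt.1.map (homOfLE (hW a)).op σ)
    (hov : ∀ (a b : ι) (k : J) (s s' : (F.obj k).1.obj (op (W a ⊓ W b))),
      toColim F c k s = toColim F c k s' → ∃ (l : J) (hl : k ≤ l), push F hl s = push F hl s') :
    ∃ (k : J) (s : (F.obj k).1.obj (op V)), toColim F c k s = σ := by
  classical
  haveI := Fintype.ofFinite ι
  obtain ⟨k, hk⟩ := Finset.exists_le (Finset.univ.image i)
  have hik : ∀ a, i a ≤ k := fun a => hk _ (Finset.mem_image_of_mem _ (Finset.mem_univ a))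
  choose l hl el using fun p : ι × ι => hov p.1 p.2 k
    ((F.obj k).1.map (Opens.infLELeft (W p.1) (W p.2)).op (push F (hik p.1) (t p.1)))
    ((F.obj k).1.map (Opens.infLERight (W p.1) (W p.2)).op (push F (hik p.2) (t p.2))) (by
      rw [toColim_res, toColim_res, toColim_push, toColim_push, ht, ht,
        ← ConcreteCategory.comp_apply, ← ConcreteCategory.comp_apply, ← Functor.map_comp,
        ← Functor.map_comp]
      rfl)
  obtain ⟨m, hm⟩ := Finset.exists_le (insert k (Finset.univ.image l))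
  have hkm : k ≤ m := hm k (Finset.mem_insert_self _ _)
  obtain ⟨s, hs, -⟩ := (F.obj m).existsUnique_gluing' W V (fun a => homOfLE (hW a)) hcov
    (fun a => push F ((hik a).trans hkm) (t a)) (fun a b => by
      have hlm : l (a, b) ≤ m :=
        hm _ (Finset.mem_insert_of_mem (Finset.mem_image_of_mem _ (Finset.mem_univ _)))
      have := congrArg (push F hlm) (el (a, b))
      rwa [push_push, push_push, push_res, push_res, push_push, push_push] at this)
  refine ⟨m, s, c.pt.eq_of_locally_eq' W V (fun a => homOfLE (hW a)) hcov _ _ (fun a => ?_)⟩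
  rw [← toColim_res, hs, toColim_push, ht]

lemma exists_finite_local {V : Opens X} (hV : IsCompact (V : Set X)) (σ : c.pt.1.obj (op V)) :
    ∃ (m : ℕ) (W : Fin m → Opens X) (hW : ∀ a, W a ≤ V) (_ : V ≤ iSup W) (i : Fin m → J)
      (t : ∀ a, (F.obj (i a)).1.obj (op (W a))),
      ∀ a, toColim F c (i a) (t a) = c.pt.1.map (homOfLE (hW a)).op σ := by
  choose i W mW ι t e using fun x : ↥V => exists_local F c hc σ x.1 x.2
  obtain ⟨T, hT⟩ := hV.elim_finite_subcover (fun x : ↥V => (W x : Set X))
    (fun x => (W x).isOpen) (fun x hx => Set.mem_iUnion.2 ⟨⟨x, hx⟩, mW ⟨x, hx⟩⟩)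
  refine ⟨T.card, fun a => W (T.equivFin.symm a).1, fun a => (ι _).le, fun y hy => ?_,
    fun a => i _, fun a => t _, fun a => e _⟩
  obtain ⟨x, hx, hy'⟩ := Set.mem_iUnion₂.1 (hT hy)
  exact Opens.mem_iSup.2 ⟨T.equivFin ⟨x, hx⟩, by rwa [Equiv.symm_apply_apply]⟩

end S7575Aux

open S7575Aux

/-- Let X be a topological space, I a directed set, (F_i) a system of sheaves of sets on X over I with
colimit F (in sheaves), U ⊆ X open, and Ψ : colim_i F_i(U) → F(U) the canonical map. (1) If all
transition maps F_i → F_{i'} are injective (on all sections) then Ψ is injective. (2)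
Quasi-compactness of U alone already makes Ψ injective. (3) When U is quasi-compact and every
transition map is injective, Ψ is bijective. (4) If every open covering of U can be refined by a
finite open covering U = U_1 ∪ … ∪ U_m with all U_j ∩ U_{j'} quasi-compact, then Ψ is bijective. -/
theorem result {X : TopCat.{u}} {J : Type u} [Preorder J] [Nonempty J] [IsDirected J (· ≤ ·)]
    (F : J ⥤ X.Sheaf (Type u)) (c : Cocone F) (hc : IsColimit c) (U : Opens X) :
    let ev := TopCat.Sheaf.forget (Type u) X ⋙ (evaluation (Opens X)ᵒᵖ (Type u)).obj (op U)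
    let Ψ : colimit (F ⋙ ev) → ev.obj c.pt := colimit.desc (F ⋙ ev) (ev.mapCocone c)
    ((∀ (i j : J) (h : i ⟶ j) (V : Opens X), Function.Injective ((F.map h).1.app (op V))) → Function.Injective Ψ) ∧
    (IsCompact (U : Set X) → Function.Injective Ψ) ∧
    (IsCompact (U : Set X) → (∀ (i j : J) (h : i ⟶ j) (V : Opens X), Function.Injective ((F.map h).1.app (op V))) →
      Function.Bijective Ψ) ∧
    ((∀ 𝒱 : Set (Opens X), (⨆ V ∈ 𝒱, V) = U →
        ∃ (m : ℕ) (W : Fin m → Opens X), (∀ j, ∃ V ∈ 𝒱, W j ≤ V) ∧ (⨆ j, W j) = U ∧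
          ∀ j j', IsCompact ((W j ⊓ W j' : Opens X) : Set X)) →
      Function.Bijective Ψ) := by
  intro ev Ψ
  have hΨ : ∀ (i : J) (s : (F.obj i).1.obj (op U)),
      Ψ (colimit.ι (F ⋙ ev) i s) = toColim F c i s := fun i s => by
    have := congrArg (fun φ : (F ⋙ ev).obj i ⟶ ev.obj c.pt => φ s)
      (colimit.ι_desc (ev.mapCocone c) i)
    exact this
  have hι : ∀ {i j : J} (h : i ≤ j) (s : (F.obj i).1.obj (op U)),
      colimit.ι (F ⋙ ev) j (push F h s) = colimit.ι (F ⋙ ev) i s := fun {i j} h s => by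
    have := congrArg (fun φ : (F ⋙ ev).obj i ⟶ colimit (F ⋙ ev) => φ s)
      (colimit.w (F ⋙ ev) (homOfLE h))
    exact this
  -- injectivity criterion
  have injOf : (∀ (i : J) (s t : (F.obj i).1.obj (op U)), toColim F c i s = toColim F c i t →
      ∃ (j : J) (hj : i ≤ j), push F hj s = push F hj t) → Function.Injective Ψ := by
    intro H a b hab
    obtain ⟨i, s, rfl⟩ := Types.jointly_surjective' a
    obtain ⟨j, t, rfl⟩ := Types.jointly_surjective' b
    rw [hΨ, hΨ] at hab
    obtain ⟨k, hik, hjk⟩ := exists_ge_ge i j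
    obtain ⟨l, hl, e⟩ := H k (push F hik s) (push F hjk t) (by rw [toColim_push, toColim_push, hab])
    rw [← hι hik s, ← hι hjk t, ← hι hl, e, hι]
  have surjOf : ∀ (σ : c.pt.1.obj (op U)) (k : J) (s : (F.obj k).1.obj (op U)),
      toColim F c k s = σ → ∃ a, Ψ a = σ := fun σ k s h => ⟨_, (hΨ k s).trans h⟩
  refine ⟨fun hinj => injOf fun i s t h => ⟨i, le_rfl, by rw [eq_of_injective F c hc hinj i s t h]⟩,
    fun hU => injOf fun i s t h => eq_of_isCompact F c hc i hU s t h, fun hU hinj => ⟨?_, ?_⟩, ?_⟩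
  · exact injOf fun i s t h => eq_of_isCompact F c hc i hU s t h
  · intro σ
    obtain ⟨m, W, hW, hcov, i, t, ht⟩ := exists_finite_local F c hc hU σ
    obtain ⟨k, s, hs⟩ := exists_glue F c hc σ W hW hcov i t ht
      (fun a b k s s' h => ⟨k, le_rfl, by rw [eq_of_injective F c hc hinj k s s' h]⟩)
    exact surjOf σ k s hs
  · intro H
    have hU : IsCompact (U : Set X) := by
      obtain ⟨m, W, -, hW, hc'⟩ := H {U} (by simp)
      rw [← hW, Opens.coe_iSup]
      exact isCompact_iUnion fun j => by simpa using hc' j j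
    refine ⟨injOf fun i s t h => eq_of_isCompact F c hc i hU s t h, fun σ => ?_⟩
    choose i V mV ι t e using fun x : ↥U => exists_local F c hc σ x.1 x.2
    obtain ⟨m, W, href, hW, hc'⟩ := H (Set.range V) (by
      rw [iSup_range]
      exact le_antisymm (iSup_le fun x => (ι x).le)
        (fun y hy => Opens.mem_iSup.2 ⟨⟨y, hy⟩, mV ⟨y, hy⟩⟩))
    have href' : ∀ j, ∃ x, W j ≤ V x := fun j => by
      obtain ⟨_, ⟨x, rfl⟩, hle⟩ := href j
      exact ⟨x, hle⟩
    choose x hle using href'
    obtain ⟨k, s, hs⟩ := exists_glue F c hc σ W (fun j => (hle j).trans (ι (x j)).le) hW.ge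
      (fun j => i (x j)) (fun j => (F.obj _).1.map (homOfLE (hle j)).op (t (x j))) (fun j => by
        rw [toColim_res, e, ← ConcreteCategory.comp_apply, ← Functor.map_comp]
        rfl)
      (fun a b k s s' h => eq_of_isCompact F c hc k (hc' a b) s s' h)
    exact surjOf σ k s hs

end Groth.Agent.S7575
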