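import Groth.Statements.S7577
import Groth.Agent.CatSpaceLib.Scheme
-- import your own Groth.Agent.* helpers here

set_option autoImplicit false
universe u
open PtTop

namespace Groth.Agent.S7577

/-- Let X be a sober topological space and δ : X → ℤ a dimension function. Then X is catenary, and for
any specialization x ⤳ y the codimension of the closure of {y} in the closure of {x} equals δ(x) −
δ(y). -/
theorem result {X : Type u} [TopologicalSpace X] [QuasiSober X] [T0Space X]
    (δ : X → ℤ) (hδ : PtTop.IsDimensionFunction δ) :
    PtTop.IsCatenarySpace X ∧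
    ∀ x y : X, x ⤳ y →
      PtTop.codim (⟨closure {y}, isIrreducible_singleton.closure, isClosed_closure⟩ : TopologicalSpace.IrreducibleCloseds X)
        (closure {x}) = ((δ x - δ y).toNat : ℕ∞) := by
  obtain ⟨h1, h2⟩ := CatSpaceLib.rank_of_dimensionFunction δ hδ
  exact ⟨CatSpaceLib.isCatenarySpace_iff.2 h1,
    fun x y h => (CatSpaceLib.codim_eq_dist (CatSpaceLib.ofPoint y) (CatSpaceLib.ofPoint x)).trans (h2 x y h)⟩

end Groth.Agent.S7577
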