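import Groth.Statements.S7578

-- import your own Groth.Agent.* helpers here

set_option autoImplicit false
universe u
open PtTop

namespace Groth.Agent.S7578

/-- Let X be a topological space which is locally Noetherian (every point has a Noetherian
neighbourhood) and sober, and let δ, δ' be two dimension functions on X. Then δ − δ' is locally
constant. -/
theorem result {X : Type u} [TopologicalSpace X] [QuasiSober X] [T0Space X]
    (hX : ∀ x : X, ∃ E ∈ nhds x, TopologicalSpace.NoetherianSpace E)
    (δ δ' : X → ℤ) (hδ : PtTop.IsDimensionFunction δ) (hδ' : PtTop.IsDimensionFunction δ') :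
    IsLocallyConstant (fun x => δ x - δ' x) := by
  classical
  have key : ∀ N : ℕ, ∀ a b : X, a ⤳ b → (δ a - δ b).toNat ≤ N →
      δ a - δ' a = δ b - δ' b := by
    intro N
    induction N using Nat.strong_induction_on with
    | _ N IH =>
      intro a b hab hN
      by_cases hne : a = b
      · rw [hne]
      by_cases him : PtTop.IsImmediateSpecialization a b
      · have := hδ.2 a b him
        have := hδ'.2 a b him
        omega
      · simp only [PtTop.IsImmediateSpecialization, not_and, not_forall, not_or] at him
        obtain ⟨z, haz, hzb, hza, hzb'⟩ := him hab hne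
        have h1 := hδ.1 a z haz (Ne.symm hza)
        have h2 := hδ.1 z b hzb hzb'
        rw [IH ((δ a - δ z).toNat) (by omega) a z haz le_rfl,
          IH ((δ z - δ b).toNat) (by omega) z b hzb le_rfl]
  rw [IsLocallyConstant.iff_exists_open]
  intro x
  obtain ⟨E, hE, hEN⟩ := hX x
  obtain ⟨V, hVE, hVo, hxV⟩ := mem_nhds_iff.mp hE
  have : TopologicalSpace.NoetherianSpace V :=
    (Topology.IsEmbedding.inclusion hVE).isInducing.noetherianSpace
  have : QuasiSober V := (hVo.isOpenEmbedding_subtypeVal).quasiSober
  let B : Set (Set V) := {Z | Z ∈ irreducibleComponents V ∧ (⟨x, hxV⟩ : V) ∉ Z}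
  have hB : B.Finite :=
    (TopologicalSpace.NoetherianSpace.finite_irreducibleComponents).subset fun Z hZ => hZ.1
  have hBc : IsClosed (⋃ Z ∈ B, Z) :=
    hB.isClosed_biUnion fun Z hZ => isClosed_of_mem_irreducibleComponents Z hZ.1
  refine ⟨Subtype.val '' (⋃ Z ∈ B, Z)ᶜ,
    hVo.isOpenEmbedding_subtypeVal.isOpenMap _ hBc.isOpen_compl, ⟨⟨x, hxV⟩, ?_, rfl⟩, ?_⟩
  · simp [B]
  · rintro _ ⟨y, hy, rfl⟩
    have hZ := irreducibleComponent_mem_irreducibleComponents y
    have hxZ : (⟨x, hxV⟩ : V) ∈ irreducibleComponent y := by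
      by_contra hxZ
      exact hy (Set.mem_biUnion (x := irreducibleComponent y) ⟨hZ, hxZ⟩ mem_irreducibleComponent)
    obtain ⟨ξ, hξ⟩ := QuasiSober.sober (isIrreducible_irreducibleComponent (x := y))
      isClosed_irreducibleComponent
    have h1 : (ξ : X) ⤳ x := (hξ.specializes hxZ).map continuous_subtype_val
    have h2 : (ξ : X) ⤳ (y : X) :=
      (hξ.specializes (mem_irreducibleComponent (x := y))).map continuous_subtype_val
    exact (key _ _ _ h2 le_rfl).symm.trans (key _ _ _ h1 le_rfl)


end Groth.Agent.S7578
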