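import Groth.Statements.S7579
import Groth.Agent.SpectralLib.Basic

set_option autoImplicit false
universe u
open SpecSp

namespace Groth.Agent.S7579

/-- Let X be a spectral space. Then X with its constructible topology is Hausdorff and totally
disconnected. The published statement also asserts that the constructible topology is quasi-compact;
this row states the Hausdorff and totally disconnected parts. -/
theorem result (X : Type u) [TopologicalSpace X] [SpectralSpace X] :
    T2Space (WithConstructibleTopology X) ∧ TotallyDisconnectedSpace (WithConstructibleTopology X) := by
  let e : WithConstructibleTopology X → X := WithTopology.ofTopology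
  have he : @Continuous _ X _ (constructibleTopology X) e := WithTopology.continuous_ofTopology _
  refine ⟨@T2Space.of_injective_continuous _ X _ (constructibleTopology X) SpectralLib.t2Space_C e
    (WithTopology.ofTopology_injective _) he, ⟨?_⟩⟩
  intro s _ hs a ha b hb
  refine WithTopology.ofTopology_injective _ ?_
  have h := @IsPreconnected.image _ X _ (constructibleTopology X) s hs e (@Continuous.continuousOn _ X _ (constructibleTopology X) e s he)
  exact (@TotallySeparatedSpace.totallyDisconnectedSpace X (constructibleTopology X)
    SpectralLib.totallySeparatedSpace_C).1 _ (Set.subset_univ _) h ⟨a, ha, rfl⟩ ⟨b, hb, rfl⟩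

end Groth.Agent.S7579
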