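import Groth.Statements.S7580
import Mathlib
import Groth.Agent.ConstrNoeth.Basic
import Groth.Agent.ConstrNoeth.Prespectral

set_option autoImplicit false
universe u
open PtTop

namespace Groth.Agent.S7580

/-- Let f : X → Y be a continuous map of topological spaces with f(X) dense in Y and Y Hausdorff. Then
the cardinality of Y is at most that of the double power set of X. -/
theorem result {X Y : Type u} [TopologicalSpace X] [TopologicalSpace Y] [T2Space Y]
    (f : X → Y) (hf : Continuous f) (hd : DenseRange f) :
    Cardinal.mk Y ≤ (2 : Cardinal.{u}) ^ ((2 : Cardinal.{u}) ^ Cardinal.mk X) := by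
  let Φ : Y → Set (Set X) := fun y => {A | y ∈ closure (f '' A)}
  have key : Function.Injective Φ := by
    intro y y' he
    by_contra hne
    obtain ⟨U, V, hU, hV, hy, hy', hdis⟩ := t2_separation hne
    have h1 : f ⁻¹' U ∈ Φ y := by
      show y ∈ closure _
      rw [Set.image_preimage_eq_inter_range]
      exact hd.open_subset_closure_inter hU hy
    rw [he] at h1
    obtain ⟨_, hwV, w, hw, rfl⟩ := mem_closure_iff.mp h1 V hV hy'
    exact Set.disjoint_left.mp hdis hw hwV
  have := Cardinal.mk_le_of_injective key
  simpa only [Cardinal.mk_set] using this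

end Groth.Agent.S7580
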