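import Groth.Prelude.Def_W4stktopologysheavesDim
import Mathlib.Topology.Sober
import Mathlib.Topology.Spectral.Basic

/-! Basic facts about the soberification `PtTop.Sob`. -/

set_option autoImplicit false
universe u

open TopologicalSpace Topology

namespace Groth.Agent.SobLib

open PtTop

variable {X : Type u} [TopologicalSpace X]

/-- The set underlying a point of the soberification. -/
def carrier (Z : Sob X) : Set X := (Z : IrreducibleCloseds X).carrier

lemma carrier_irr (Z : Sob X) : IsIrreducible (carrier Z) :=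
  IrreducibleCloseds.isIrreducible (Z : IrreducibleCloseds X)

lemma carrier_closed (Z : Sob X) : IsClosed (carrier Z) :=
  IrreducibleCloseds.isClosed (Z : IrreducibleCloseds X)

lemma sob_ext {Z Z' : Sob X} (h : carrier Z = carrier Z') : Z = Z' :=
  IrreducibleCloseds.ext (α := X) h

/-- The point of the soberification given by an irreducible closed set. -/
def sobMk (K : Set X) (h : IsIrreducible K) (h' : IsClosed K) : Sob X :=
  (⟨K, h, h'⟩ : IrreducibleCloseds X)

@[simp] lemma carrier_sobMk (K : Set X) (h : IsIrreducible K) (h' : IsClosed K) :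
    carrier (sobMk K h h') = K := rfl

@[simp] lemma carrier_toSob (x : X) : carrier (toSob X x) = closure {x} := rfl

/-- The open of the soberification attached to a subset of `X`. -/
def osb (U : Set X) : Set (Sob X) := {Z | (carrier Z ∩ U).Nonempty}

@[simp] lemma mem_osb {U : Set X} {Z : Sob X} : Z ∈ osb U ↔ (carrier Z ∩ U).Nonempty := Iff.rfl

lemma isOpen_osb {U : Set X} (hU : IsOpen U) : IsOpen (osb U) :=
  TopologicalSpace.GenerateOpen.basic _ ⟨⟨U, hU⟩, rfl⟩

lemma osb_inter {U V : Set X} (hU : IsOpen U) (hV : IsOpen V) :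
    osb U ∩ osb V = osb (U ∩ V) := by
  ext Z
  refine ⟨fun h => (carrier_irr Z).2 U V hU hV h.1 h.2, fun ⟨x, hx, hxU, hxV⟩ =>
    ⟨⟨x, hx, hxU⟩, ⟨x, hx, hxV⟩⟩⟩

lemma osb_iUnion {ι : Sort*} (U : ι → Set X) : osb (⋃ i, U i) = ⋃ i, osb (U i) := by
  ext Z
  simp only [mem_osb, Set.inter_iUnion, Set.nonempty_iUnion, Set.mem_iUnion]

lemma osb_mono {U V : Set X} (h : U ⊆ V) : osb U ⊆ osb V :=
  fun _ ⟨x, hx, hxU⟩ => ⟨x, hx, h hxU⟩

lemma exists_osb {S : Set (Sob X)} (h : IsOpen S) : ∃ U, IsOpen U ∧ S = osb U := by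
  induction h with
  | basic S hS =>
    obtain ⟨U, rfl⟩ := hS
    exact ⟨U, U.2, rfl⟩
  | univ =>
    refine ⟨Set.univ, isOpen_univ, ?_⟩
    ext Z
    simp [(carrier_irr Z).nonempty]
  | inter S T _ _ hS hT =>
    obtain ⟨U, hU, rfl⟩ := hS
    obtain ⟨V, hV, rfl⟩ := hT
    exact ⟨U ∩ V, hU.inter hV, osb_inter hU hV⟩
  | sUnion 𝒮 _ h =>
    choose U hU hU' using h
    refine ⟨⋃ (S) (hS : S ∈ 𝒮), U S hS, isOpen_iUnion fun S => isOpen_iUnion (hU S), ?_⟩
    simp only [osb_iUnion, Set.sUnion_eq_biUnion]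
    exact Set.iUnion₂_congr hU'

lemma toSob_mem_osb {U : Set X} (hU : IsOpen U) {x : X} : toSob X x ∈ osb U ↔ x ∈ U := by
  rw [mem_osb, carrier_toSob, (isGenericPoint_closure (x := x)).mem_open_set_iff hU]

lemma preimage_osb {U : Set X} (hU : IsOpen U) : toSob X ⁻¹' osb U = U :=
  Set.ext fun _ => toSob_mem_osb hU

lemma continuous_toSob : Continuous (toSob X) :=
  ⟨fun S hS => by
    obtain ⟨U, hU, rfl⟩ := exists_osb hS
    rw [preimage_osb hU]
    exact hU⟩

lemma subset_of_osb_subset {U V : Set X} (hU : IsOpen U) (hV : IsOpen V)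
    (h : osb U ⊆ osb V) : U ⊆ V := by
  rw [← preimage_osb hU, ← preimage_osb hV]
  exact Set.preimage_mono h

lemma isCompact_osb {U : Set X} (hU : IsOpen U) :
    IsCompact (osb U) ↔ IsCompact U := by
  classical
  constructor
  · intro h
    refine isCompact_of_finite_subcover fun {ι} V hV hUV => ?_
    obtain ⟨t, ht⟩ := h.elim_finite_subcover (fun i => osb (V i))
      (fun i => isOpen_osb (hV i)) (by rw [← osb_iUnion]; exact osb_mono hUV)
    refine ⟨t, subset_of_osb_subset hU (isOpen_biUnion fun i _ => hV i) ?_⟩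
    simpa [osb_iUnion] using ht
  · intro h
    refine isCompact_of_finite_subcover fun {ι} V hV hUV => ?_
    choose W hW hW' using fun i => exists_osb (hV i)
    obtain ⟨t, ht⟩ := h.elim_finite_subcover W hW (subset_of_osb_subset hU (isOpen_iUnion hW)
      (by rw [osb_iUnion]; simpa [← hW'] using hUV))
    refine ⟨t, (osb_mono ht).trans ?_⟩
    simp [osb_iUnion, hW']

instance t0Space_sob : T0Space (Sob X) := by
  refine ⟨fun Z Z' h => sob_ext ?_⟩
  have key : ∀ A B : Sob X, (∀ S, IsOpen S → (A ∈ S ↔ B ∈ S)) → carrier A ⊆ carrier B := by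
    intro A B h x hx
    by_contra hxB
    obtain ⟨y, hy, hy'⟩ := (h _ (isOpen_osb (carrier_closed B).isOpen_compl)).mp ⟨x, hx, hxB⟩
    exact hy' hy
  have h' := inseparable_iff_forall_isOpen.mp h
  exact (key Z Z' h').antisymm (key Z' Z fun S hS => (h' S hS).symm)

instance quasiSober_sob : QuasiSober (Sob X) := by
  refine ⟨fun {A} hA hA' => ?_⟩
  obtain ⟨U, hU, hAU⟩ := exists_osb hA'.isOpen_compl
  have hmem : ∀ Z : Sob X, Z ∈ A ↔ carrier Z ⊆ Uᶜ := by
    intro Z
    rw [← not_not (a := Z ∈ A), ← Set.mem_compl_iff, hAU, mem_osb,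
      Set.not_nonempty_iff_eq_empty, ← Set.disjoint_iff_inter_eq_empty,
      Set.subset_compl_iff_disjoint_right]
  have hirr : IsIrreducible Uᶜ := by
    refine ⟨?_, fun V W hV hW ⟨x, hx, hxV⟩ ⟨y, hy, hyW⟩ => ?_⟩
    · obtain ⟨Z, hZ⟩ := hA.nonempty
      exact (carrier_irr Z).nonempty.mono ((hmem Z).mp hZ)
    · have h1 : ∀ z ∈ Uᶜ, toSob X z ∈ A := fun z hz =>
        (hmem _).mpr (hU.isClosed_compl.closure_subset_iff.mpr (Set.singleton_subset_iff.mpr hz))
      obtain ⟨Z, hZA, hZV, hZW⟩ := hA.2 (osb V) (osb W) (isOpen_osb hV) (isOpen_osb hW)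
        ⟨toSob X x, h1 x hx, (toSob_mem_osb hV).mpr hxV⟩
        ⟨toSob X y, h1 y hy, (toSob_mem_osb hW).mpr hyW⟩
      obtain ⟨z, hz, hz'⟩ := (carrier_irr Z).2 V W hV hW hZV hZW
      exact ⟨z, (hmem Z).mp hZA hz, hz'⟩
  refine ⟨sobMk Uᶜ hirr hU.isClosed_compl, (isGenericPoint_def).mpr ?_⟩
  refine (hA'.closure_subset_iff.mpr
    (Set.singleton_subset_iff.mpr ((hmem _).mpr subset_rfl))).antisymm fun Z hZ => ?_
  rw [mem_closure_iff]
  intro S hS hZS
  obtain ⟨W, -, rfl⟩ := exists_osb hS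
  obtain ⟨z, hz, hzW⟩ := hZS
  exact ⟨sobMk Uᶜ hirr hU.isClosed_compl, ⟨z, (hmem Z).mp hZ hz, hzW⟩, rfl⟩

lemma prespectralSpace_sob [PrespectralSpace X] : PrespectralSpace (Sob X) := by
  refine PrespectralSpace.of_isTopologicalBasis
    (B := osb '' {U : Set X | IsOpen U ∧ IsCompact U}) ?_ ?_
  · refine isTopologicalBasis_of_isOpen_of_nhds ?_ ?_
    · rintro _ ⟨U, hU, rfl⟩
      exact isOpen_osb hU.1
    · intro Z S hZ hS
      obtain ⟨V, hV, rfl⟩ := exists_osb hS
      obtain ⟨x, hx, hxV⟩ := hZ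
      obtain ⟨U, hU, hxU, hUV⟩ :=
        PrespectralSpace.isTopologicalBasis.exists_subset_of_mem_open hxV hV
      exact ⟨osb U, ⟨U, hU, rfl⟩, ⟨x, hx, hxU⟩, osb_mono hUV⟩
  · rintro _ ⟨U, hU, rfl⟩
    exact (isCompact_osb hU.1).mpr hU.2

lemma quasiSeparatedSpace_sob [QuasiSeparatedSpace X] : QuasiSeparatedSpace (Sob X) := by
  refine ⟨fun S T hSo hSc hTo hTc => ?_⟩
  obtain ⟨U, hU, rfl⟩ := exists_osb hSo
  obtain ⟨V, hV, rfl⟩ := exists_osb hTo
  rw [osb_inter hU hV, isCompact_osb (hU.inter hV)]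
  exact QuasiSeparatedSpace.inter_isCompact U V hU ((isCompact_osb hU).mp hSc) hV
    ((isCompact_osb hV).mp hTc)

lemma compactSpace_sob [CompactSpace X] : CompactSpace (Sob X) := by
  refine ⟨?_⟩
  obtain ⟨U, hU, hU'⟩ := exists_osb (isOpen_univ (X := Sob X))
  have hUniv : U = Set.univ := by
    rw [← preimage_osb hU, ← hU', Set.preimage_univ]
  rw [hU', isCompact_osb hU, hUniv]
  exact isCompact_univ

lemma noetherianSpace_sob [NoetherianSpace X] : NoetherianSpace (Sob X) := by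
  refine (noetherianSpace_iff_opens _).mpr fun S => ?_
  obtain ⟨U, hU, hU'⟩ := exists_osb S.2
  show IsCompact S.carrier
  rw [hU', isCompact_osb hU]
  exact NoetherianSpace.isCompact U

end Groth.Agent.SobLib
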