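import Groth.Statements.S7582
import Groth.Agent.SobLib
-- import your own Groth.Agent.* helpers here

set_option autoImplicit false
universe u
open PtTop

namespace Groth.Agent.S7582

/-- Let X be a topological space and c : X → X′ the canonical map to its soberification (X′ =
irreducible closed subsets of X, with opens the sets of those meeting a given open of X; c(x) =
closure of {x}). Then X′ is sober, c is continuous, the rule U′ ↦ c⁻¹(U′) is a bijection from the
open subsets of X′ onto the open subsets of X (it automatically respects finite intersections and
arbitrary unions), and every continuous map from X to a sober space Y is of the form g ∘ c for a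
continuous g : X′ → Y. The published statement also asserts that g is unique and that c(X) is a
Kolmogorov space universal for maps to Kolmogorov spaces; this row omits those clauses and lets Y
range over the universe of X. -/
theorem result (X : Type u) [TopologicalSpace X] :
    QuasiSober (PtTop.Sob X) ∧ T0Space (PtTop.Sob X) ∧ Continuous (PtTop.toSob X) ∧
    Set.BijOn (fun U' : Set (PtTop.Sob X) => PtTop.toSob X ⁻¹' U') {U' | IsOpen U'} {U : Set X | IsOpen U} ∧
    ∀ (Y : Type u) [TopologicalSpace Y] [QuasiSober Y] [T0Space Y] (f : X → Y), Continuous f →
      ∃ g : PtTop.Sob X → Y, Continuous g ∧ g ∘ PtTop.toSob X = f := by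
  classical
  refine ⟨inferInstance, inferInstance, SobLib.continuous_toSob, ⟨fun S hS => ?_, ?_, ?_⟩, ?_⟩
  · exact hS.preimage SobLib.continuous_toSob
  · intro S hS T hT h
    obtain ⟨U, hU, rfl⟩ := SobLib.exists_osb hS
    obtain ⟨V, hV, rfl⟩ := SobLib.exists_osb hT
    simp only [SobLib.preimage_osb hU, SobLib.preimage_osb hV] at h
    rw [h]
  · intro U hU
    exact ⟨SobLib.osb U, SobLib.isOpen_osb hU, SobLib.preimage_osb hU⟩
  · intro Y _ _ _ f hf
    let g : PtTop.Sob X → Y := fun Z =>
      ((SobLib.carrier_irr Z).image f hf.continuousOn).genericPoint
    have hg : ∀ Z, IsGenericPoint (g Z) (closure (f '' SobLib.carrier Z)) := fun Z =>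
      IsIrreducible.isGenericPoint_genericPoint_closure _
    refine ⟨g, ⟨fun V hV => ?_⟩, funext fun x => ?_⟩
    · convert SobLib.isOpen_osb (hV.preimage hf) using 1
      ext Z
      rw [Set.mem_preimage, (hg Z).mem_open_set_iff hV, SobLib.mem_osb,
        closure_inter_open_nonempty_iff hV, ← Set.image_inter_preimage, Set.image_nonempty]
    · have h1 := hg (PtTop.toSob X x)
      have h2 : IsGenericPoint (f x) (closure (f '' closure ({x} : Set X))) := by
        rw [isGenericPoint_def, closure_image_closure hf, Set.image_singleton]
      exact h1.eq h2


end Groth.Agent.S7582
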