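import Groth.Statements.S7585
import Mathlib


set_option autoImplicit false
universe u
open ShSp

namespace Groth.Agent.S7585

open TopologicalSpace

/-- Separatedness: sections agreeing on a covering by members of the basis agree. -/
lemma eq_of_cover {X : Type u} [TopologicalSpace X] {B : Set (Opens X)} (F : ShB.Pre B)
    (C : ∀ U : B, Set (ShB.Cover B)) (hCU : ∀ U, ∀ c ∈ C U, c.U = U)
    (hC : ∀ (U : B) (ι : Type u) (V : ι → B), (∀ i, (V i : Opens X) ≤ (U : Opens X)) →
      (U : Opens X) ≤ ⨆ i, (V i : Opens X) →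
      ∃ c ∈ C U, ∀ i' : c.ι, ∃ i, (c.V i' : Opens X) ≤ (V i : Opens X))
    (h : ∀ U, ∀ c ∈ C U, ShB.GluesUniquely F c) {U : B} (s t : F.obj U)
    (hloc : ∀ x ∈ (U : Opens X), ∃ (W : B) (hW : (W : Opens X) ≤ (U : Opens X)),
      x ∈ (W : Opens X) ∧ F.res hW s = F.res hW t) : s = t := by
  let ι := {W : B // ∃ hW : (W : Opens X) ≤ (U : Opens X), F.res hW s = F.res hW t}
  obtain ⟨c, hc, href⟩ := hC U ι (fun W => W.1) (fun W => W.2.1) (fun x hx => by
    obtain ⟨W, hW, hxW, he⟩ := hloc x hx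
    exact Opens.mem_iSup.2 ⟨⟨W, hW, he⟩, hxW⟩)
  obtain rfl := hCU U c hc
  obtain ⟨u, -, hu⟩ := h c.U c hc (fun i => F.res (c.V_le i) s) fun i j k => by
    rw [F.res_comp, F.res_comp]
  refine (hu s fun i => rfl).trans (hu t fun i => ?_).symm
  obtain ⟨⟨W, hW, he⟩, hi⟩ := href i
  rw [← F.res_comp hW hi t, ← he, F.res_comp]


/-- Let X be a topological space, ℬ a basis for its topology and F a presheaf of sets on ℬ. For each U ∈
ℬ let C(U) be a cofinal system of coverings of U by members of ℬ (every covering of U by members of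
ℬ is refined by one in C(U)), each member of C(U) coming with chosen coverings of the pairwise
intersections U_i ∩ U_j by members of ℬ. Then F is a sheaf on ℬ if and only if the sheaf condition
(**) holds for every U ∈ ℬ and every covering in C(U) with its chosen intersection coverings. -/
theorem result {X : Type u} [TopologicalSpace X] {B : Set (TopologicalSpace.Opens X)}
    (hB : TopologicalSpace.Opens.IsBasis B) (F : ShB.Pre B)
    (C : ∀ U : B, Set (ShB.Cover B)) (hCU : ∀ U, ∀ c ∈ C U, c.U = U)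
    (hC : ∀ (U : B) (ι : Type u) (V : ι → B), (∀ i, (V i : TopologicalSpace.Opens X) ≤ (U : TopologicalSpace.Opens X)) →
      (U : TopologicalSpace.Opens X) ≤ ⨆ i, (V i : TopologicalSpace.Opens X) →
      ∃ c ∈ C U, ∀ i' : c.ι, ∃ i, (c.V i' : TopologicalSpace.Opens X) ≤ (V i : TopologicalSpace.Opens X)) :
    ShB.IsSheaf F ↔ ∀ U, ∀ c ∈ C U, ShB.GluesUniquely F c := by
  refine ⟨fun h U c _ => h c, fun h => ?_⟩
  have sep := fun {U : B} => eq_of_cover F C hCU hC h (U := U)
  have nbhd : ∀ {U : TopologicalSpace.Opens X} {x}, x ∈ U → ∃ U' ∈ B, x ∈ U' ∧ U' ≤ U :=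
    TopologicalSpace.Opens.isBasis_iff_nbhd.1 hB
  intro c s hs
  -- the sections agree on every member inside two members of the covering
  have agree : ∀ (i j : c.ι) (W : B) (hi : (W : TopologicalSpace.Opens X) ≤ (c.V i : TopologicalSpace.Opens X))
      (hj : (W : TopologicalSpace.Opens X) ≤ (c.V j : TopologicalSpace.Opens X)),
      F.res hi (s i) = F.res hj (s j) := by
    intro i j W hi hj
    refine sep _ _ fun x hx => ?_
    obtain ⟨k, hk⟩ := TopologicalSpace.Opens.mem_iSup.1 (c.W_cover i j ⟨hi hx, hj hx⟩)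
    obtain ⟨W', hW', hxW', hle⟩ := nbhd
      (show x ∈ (W : TopologicalSpace.Opens X) ⊓ (c.W i j k : TopologicalSpace.Opens X) from ⟨hx, hk⟩)
    refine ⟨⟨W', hW'⟩, hle.trans inf_le_left, hxW', ?_⟩
    have := congrArg (F.res (V := ⟨W', hW'⟩) (hle.trans inf_le_right)) (hs i j k)
    rw [F.res_comp, F.res_comp] at this
    rw [F.res_comp, F.res_comp]
    exact this
  obtain ⟨c', hc', href⟩ := hC c.U c.ι c.V c.V_le c.V_cover
  have hU := hCU c.U c' hc'
  choose r hr using href
  obtain ⟨t, ht, -⟩ := h c.U c' hc' (fun i' => F.res (hr i') (s (r i'))) fun i j k => by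
    rw [F.res_comp, F.res_comp]; exact agree _ _ _ _ _
  have hle : ∀ i, (c.V i : TopologicalSpace.Opens X) ≤ (c'.U : TopologicalSpace.Opens X) :=
    fun i => hU.symm ▸ c.V_le i
  have hglue : ∀ i, F.res (hle i) t = s i := by
    intro i
    refine sep _ _ fun x hx => ?_
    obtain ⟨i', hi'⟩ := TopologicalSpace.Opens.mem_iSup.1 (c'.V_cover (hle i hx))
    obtain ⟨W', hW', hxW', hle'⟩ := nbhd
      (show x ∈ (c.V i : TopologicalSpace.Opens X) ⊓ (c'.V i' : TopologicalSpace.Opens X) from ⟨hx, hi'⟩)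
    refine ⟨⟨W', hW'⟩, hle'.trans inf_le_left, hxW', ?_⟩
    have := congrArg (F.res (V := ⟨W', hW'⟩) (hle'.trans inf_le_right)) (ht i')
    rw [F.res_comp, F.res_comp] at this
    rw [F.res_comp, this]
    exact agree _ _ _ _ _
  refine ⟨F.res (hU.symm ▸ le_rfl) t, fun i => by rw [F.res_comp]; exact hglue i, fun t' ht' => ?_⟩
  refine sep _ _ fun x hx => ?_
  obtain ⟨i, hi⟩ := TopologicalSpace.Opens.mem_iSup.1 (c.V_cover hx)
  exact ⟨c.V i, c.V_le i, hi, by rw [ht' i, F.res_comp]; exact (hglue i).symm⟩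

end Groth.Agent.S7585
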