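import Groth.Statements.S7587
import Mathlib

set_option autoImplicit false
universe u
open ShSp

namespace Groth.Agent.S7587

open TopologicalSpace

/-- a covering datum from a covering -/
def mkCover {X : Type u} [TopologicalSpace X] {B : Set (Opens X)} (hB : Opens.IsBasis B) (U : B)
    (ι : Type u) (V : ι → B) (hle : ∀ i, (V i : Opens X) ≤ (U : Opens X))
    (hcov : (U : Opens X) ≤ ⨆ i, (V i : Opens X)) : ShB.Cover B where
  U := U
  ι := ι
  V := V
  V_le := hle
  V_cover := hcov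
  κ i j := {W : B // (W : Opens X) ≤ (V i : Opens X) ∧ (W : Opens X) ≤ (V j : Opens X)}
  W i j k := k.1
  W_le_left i j k := k.2.1
  W_le_right i j k := k.2.2
  W_cover i j x hx := by
    obtain ⟨W', hW', hxW', hle'⟩ := Opens.isBasis_iff_nbhd.1 hB hx
    exact Opens.mem_iSup.2 ⟨⟨⟨W', hW'⟩, hle'.trans inf_le_left, hle'.trans inf_le_right⟩, hxW'⟩

theorem germ_res {X : Type u} [TopologicalSpace X] {B : Set (Opens X)} (F : ShB.Pre B) {U V : B}
    (h : (V : Opens X) ≤ (U : Opens X)) (x : X) (hx : x ∈ (V : Opens X)) (s : F.obj U) :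
    ShB.germ F x hx (F.res h s) = ShB.germ F x (h hx) s :=
  Quot.sound ⟨V, hx, le_rfl, h, by rw [F.res_id]⟩

theorem stalkRel_equiv {X : Type u} [TopologicalSpace X] {B : Set (Opens X)} (hB : Opens.IsBasis B)
    (F : ShB.Pre B) (x : X) : Equivalence (ShB.StalkRel F x) where
  refl a := ⟨a.1.1, a.1.2, le_rfl, le_rfl, rfl⟩
  symm := by
    rintro a b ⟨W, hx, ha, hb, e⟩
    exact ⟨W, hx, hb, ha, e.symm⟩
  trans := by
    rintro a b c ⟨W, hx, ha, hb, e⟩ ⟨W', hx', hb', hc, e'⟩
    obtain ⟨W'', hW'', hxW, hle⟩ := Opens.isBasis_iff_nbhd.1 hB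
      (show x ∈ (W : Opens X) ⊓ (W' : Opens X) from ⟨hx, hx'⟩)
    refine ⟨⟨W'', hW''⟩, hxW, (hle.trans inf_le_left).trans ha, (hle.trans inf_le_right).trans hc, ?_⟩
    have e1 := congrArg (F.res (V := ⟨W'', hW''⟩) (hle.trans inf_le_left)) e
    have e2 := congrArg (F.res (V := ⟨W'', hW''⟩) (hle.trans inf_le_right)) e'
    rw [F.res_comp, F.res_comp] at e1 e2
    exact e1.trans e2

theorem sep {X : Type u} [TopologicalSpace X] {B : Set (Opens X)} (hB : Opens.IsBasis B)
    (F : ShB.Pre B) (hF : ShB.IsSheaf F) {U : B} (s t : F.obj U)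
    (h : ∀ (x : X) (hx : x ∈ (U : Opens X)), ShB.germ F x hx s = ShB.germ F x hx t) : s = t := by
  let ι := {W : B // ∃ hW : (W : Opens X) ≤ (U : Opens X), F.res hW s = F.res hW t}
  have hcov : (U : Opens X) ≤ ⨆ i : ι, (i.1 : Opens X) := fun x hx => by
    obtain ⟨W, hxW, ha, hb, e⟩ := (stalkRel_equiv hB F x).eqvGen_iff.mp (Quot.eqvGen_exact (h x hx))
    exact Opens.mem_iSup.2 ⟨⟨W, ha, e⟩, hxW⟩
  obtain ⟨u, -, hu⟩ := hF (mkCover hB U ι (fun i => i.1) (fun i => i.2.1) hcov)
    (fun i => F.res i.2.1 s) (fun i j k => by rw [F.res_comp, F.res_comp])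
  refine (hu s fun i => rfl).trans (hu t fun i => ?_).symm
  exact i.2.2.symm


/-- Let X be a topological space, ℬ a basis for its topology, U ∈ ℬ and F a sheaf of sets on ℬ. Sending
a section over U to its germs at the points of U, a map from F(U) into the product of the stalks F_x
over x ∈ U, puts F(U) in bijection with those germ families (s_x)_{x ∈ U} that satisfy (*): each x ∈
U lies in some V ∈ ℬ contained in U carrying a section σ ∈ F(V) whose germ at every y ∈ V equals
s_y. That is, the map is injective and its image is exactly the set of such families. -/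
theorem result {X : Type u} [TopologicalSpace X] {B : Set (TopologicalSpace.Opens X)}
    (hB : TopologicalSpace.Opens.IsBasis B) (F : ShB.Pre B) (hF : ShB.IsSheaf F) (U : B) :
    Function.Injective (fun (s : F.obj U) (x : (U : TopologicalSpace.Opens X)) => ShB.germ F x.1 x.2 s) ∧
    ∀ f : ∀ x : (U : TopologicalSpace.Opens X), ShB.Stalk F x.1,
      (∃ s : F.obj U, ∀ x, ShB.germ F x.1 x.2 s = f x) ↔
      ∀ x : (U : TopologicalSpace.Opens X), ∃ (V : B) (hxV : x.1 ∈ (V : TopologicalSpace.Opens X))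
        (hVU : (V : TopologicalSpace.Opens X) ≤ (U : TopologicalSpace.Opens X)) (σ : F.obj V),
        ∀ (y : X) (hy : y ∈ (V : TopologicalSpace.Opens X)), ShB.germ F y hy σ = f ⟨y, hVU hy⟩ := by
  classical
  refine ⟨fun s t h => sep hB F hF s t fun x hx => congrFun h ⟨x, hx⟩, fun f => ⟨?_, ?_⟩⟩
  · rintro ⟨s, hs⟩ x
    exact ⟨U, x.2, le_rfl, s, fun y hy => hs ⟨y, hy⟩⟩
  · intro hloc
    choose V hxV hVU σ hσ using hloc
    obtain ⟨s, hs, -⟩ := hF (mkCover hB U (U : TopologicalSpace.Opens X) V hVU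
        (fun x hx => TopologicalSpace.Opens.mem_iSup.2 ⟨⟨x, hx⟩, hxV ⟨x, hx⟩⟩)) σ (fun i j k => by
      refine sep hB F hF _ _ fun y hy => ?_
      rw [germ_res, germ_res]
      exact (hσ i y (k.2.1 hy)).trans (hσ j y (k.2.2 hy)).symm)
    refine ⟨s, fun x => ?_⟩
    rw [← hσ x x.1 (hxV x), ← hs x]
    exact (germ_res F (hVU x) x.1 (hxV x) s).symm

end Groth.Agent.S7587
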