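import Groth.Statements.S7588
import Mathlib
import Groth.Agent.S7587

set_option autoImplicit false
universe u
open CategoryTheory
open ShSp

namespace Groth.Agent.S7588
open TopologicalSpace Opposite in
/-- the predicate of being locally a germ of a section over a member -/
def germPred {X : Type u} [TopologicalSpace X] {B : Set (Opens X)} (F : ShB.Pre B) :
    TopCat.PrelocalPredicate (X := TopCat.of X) fun x => ShB.Stalk F x where
  pred {U} f := ∃ (V : B) (h : U ≤ (V : Opens X)) (σ : F.obj V), ∀ x : U, f x = ShB.germ F x.1 (h x.2) σ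
  res {U W} i f := by
    rintro ⟨V, h, σ, hσ⟩
    exact ⟨V, (leOfHom i).trans h, σ, fun x => hσ ⟨x.1, leOfHom i x.2⟩⟩

open TopologicalSpace Opposite in
theorem exists_extend {X : Type u} [TopologicalSpace X] {B : Set (Opens X)}
    (hB : Opens.IsBasis B) (F : ShB.Pre B) (hF : ShB.IsSheaf F) :
    ∃ G : TopCat.Sheaf (Type u) (TopCat.of X), Nonempty (ShB.Iso (ShB.restrict B G.presheaf) F) := by
  let G := TopCat.subsheafToTypes (germPred F).sheafify
  have hbij : ∀ U : B, Function.Bijective (fun s : F.obj U =>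
      (⟨fun x => ShB.germ F x.1 x.2 s, fun x => ⟨(U : Opens X), x.2, 𝟙 _, U, le_rfl, s, fun y => rfl⟩⟩ :
        G.presheaf.obj (op (U : Opens X)))) := by
    intro U
    refine ⟨fun s t h => (Groth.Agent.S7587.result hB F hF U).1 (congrArg Subtype.val h), fun f => ?_⟩
    obtain ⟨s, hs⟩ := ((Groth.Agent.S7587.result hB F hF U).2 f.1).mpr fun x => by
      obtain ⟨W, hxW, i, V, hWV, σ, hσ⟩ := f.2 x
      obtain ⟨V', hV', hxV', hle⟩ := Opens.isBasis_iff_nbhd.1 hB hxW
      refine ⟨⟨V', hV'⟩, hxV', hle.trans (leOfHom i), F.res (hle.trans hWV) σ, fun y hy => ?_⟩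
      rw [Groth.Agent.S7587.germ_res]
      exact (hσ ⟨y, hle hy⟩).symm
    exact ⟨s, Subtype.ext (funext hs)⟩
  let e := fun U : B => Equiv.ofBijective _ (hbij U)
  have nat : ∀ {U V : B} (h : (V : Opens X) ≤ (U : Opens X)) (s : F.obj U),
      G.presheaf.map (homOfLE h).op (e U s) = e V (F.res h s) := by
    intro U V h s
    apply Subtype.ext
    funext x
    exact (Groth.Agent.S7587.germ_res F h x.1 x.2 s).symm
  refine ⟨G, ⟨⟨⟨fun U => (e U).symm, ?_⟩, ⟨fun U => e U, fun h s => nat h s⟩,
    fun U s => (e U).apply_symm_apply s, fun U t => (e U).symm_apply_apply t⟩⟩⟩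
  intro U V h g
  apply (e V).injective
  exact ((nat h ((e U).symm g)).symm.trans
    (congrArg (fun z => G.presheaf.map (homOfLE h).op z) ((e U).apply_symm_apply g))).trans
      ((e V).apply_symm_apply _).symm

open TopologicalSpace Opposite in
theorem unique_extend {X : Type u} [TopologicalSpace X] {B : Set (Opens X)} (hB : Opens.IsBasis B)
    {F : ShB.Pre B} (G G' : TopCat.Sheaf (Type u) (TopCat.of X))
    (e : ShB.Iso (ShB.restrict B G.presheaf) F) (e' : ShB.Iso (ShB.restrict B G'.presheaf) F) :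
      ∃! φ : G ⟶ G', IsIso φ ∧ ∀ (U : B) (s : G.presheaf.obj (op (U : Opens X))),
        e'.hom.app U (φ.1.app (op (U : Opens X)) s) = e.hom.app U s := by
  have hr : Opens.IsBasis (Set.range (fun U : B => (U : Opens X))) := by
    rw [Subtype.range_coe]; exact hB
  let mkα : ∀ {K K' : TopCat.Sheaf (Type u) (TopCat.of X)}
      (_ : ShB.Iso (ShB.restrict B K.presheaf) F) (_ : ShB.Iso (ShB.restrict B K'.presheaf) F),
      (inducedFunctor (fun U : B => (U : Opens X))).op ⋙ K.1 ⟶
        (inducedFunctor (fun U : B => (U : Opens X))).op ⋙ K'.1 := fun {K K'} a b =>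
    { app := fun U => TypeCat.ofHom fun s => b.inv.app U.unop (a.hom.app U.unop s)
      naturality := fun U V i => by
        ext s
        let U' : B := U.unop
        let V' : B := V.unop
        have hle : (V' : Opens X) ≤ (U' : Opens X) := leOfHom i.unop.hom
        exact ((congrArg (b.inv.app V.unop) (a.hom.natural hle s)).symm.trans
          (b.inv.natural hle (a.hom.app U.unop s)).symm) }
  let φ₁ := TopCat.Sheaf.restrictHomEquivHom G.1 G' hr (mkα e e')
  let φ₂ := TopCat.Sheaf.restrictHomEquivHom G'.1 G hr (mkα e' e)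
  have h1 : ∀ (U : B) (s : G.1.obj (op (U : Opens X))),
      φ₁.app (op (U : Opens X)) s = e'.inv.app U (e.hom.app U s) := fun U s =>
    congr($(TopCat.Sheaf.extend_hom_app G.1 G' hr (mkα e e') U) s)
  have h2 : ∀ (U : B) (s : G'.1.obj (op (U : Opens X))),
      φ₂.app (op (U : Opens X)) s = e.inv.app U (e'.hom.app U s) := fun U s =>
    congr($(TopCat.Sheaf.extend_hom_app G'.1 G hr (mkα e' e) U) s)
  let ψ₁ : G ⟶ G' := ⟨φ₁⟩
  let ψ₂ : G' ⟶ G := ⟨φ₂⟩
  have hiso : IsIso ψ₁ := by
    refine ⟨ψ₂, ?_, ?_⟩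
    · refine Sheaf.hom_ext (TopCat.Sheaf.hom_ext G.1 G hr fun U => ?_)
      ext s
      show φ₂.app (op (U : Opens X)) (φ₁.app (op (U : Opens X)) s) = s
      rw [h1, h2]
      exact (congrArg (e.inv.app U) (e'.inv_hom U _)).trans (e.hom_inv U s)
    · refine Sheaf.hom_ext (TopCat.Sheaf.hom_ext G'.1 G' hr fun U => ?_)
      ext s
      show φ₁.app (op (U : Opens X)) (φ₂.app (op (U : Opens X)) s) = s
      rw [h2, h1]
      exact (congrArg (e'.inv.app U) (e.inv_hom U _)).trans (e'.hom_inv U s)
  refine ⟨ψ₁, ⟨hiso, fun U s => ?_⟩, ?_⟩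
  · show e'.hom.app U (φ₁.app _ s) = _
    rw [h1]
    exact e'.inv_hom U _
  · rintro ψ ⟨-, hψ⟩
    refine Sheaf.hom_ext (TopCat.Sheaf.hom_ext G.1 G' hr fun U => ?_)
    ext s
    exact ((e'.hom_inv U _).symm.trans (congrArg (e'.inv.app U) (hψ U s))).trans (h1 U s).symm


/-- Let X be a topological space, ℬ a basis for its topology and F a sheaf of sets on ℬ. There is a
sheaf of sets F^ext on X together with an isomorphism of presheaves on ℬ between the restriction of
F^ext to ℬ and F; and it is unique: given two sheaves G, G′ on X with such isomorphisms e, e′, there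
is a unique isomorphism G ≅ G′ whose restriction to the members of ℬ is compatible with e and e′. -/
theorem result {X : Type u} [TopologicalSpace X] {B : Set (TopologicalSpace.Opens X)}
    (hB : TopologicalSpace.Opens.IsBasis B) (F : ShB.Pre B) (hF : ShB.IsSheaf F) :
    (∃ G : TopCat.Sheaf (Type u) (TopCat.of X), Nonempty (ShB.Iso (ShB.restrict B G.presheaf) F)) ∧
    ∀ (G G' : TopCat.Sheaf (Type u) (TopCat.of X)) (e : ShB.Iso (ShB.restrict B G.presheaf) F)
      (e' : ShB.Iso (ShB.restrict B G'.presheaf) F),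
      ∃! φ : G ⟶ G', IsIso φ ∧ ∀ (U : B) (s : G.presheaf.obj (Opposite.op (U : TopologicalSpace.Opens X))),
        e'.hom.app U (φ.1.app (Opposite.op (U : TopologicalSpace.Opens X)) s) = e.hom.app U s := by
  exact ⟨exists_extend hB F hF, unique_extend hB⟩

end Groth.Agent.S7588
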