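import Groth.Statements.S7589
import Groth.Agent.FibreComp.Basic
import Groth.Agent.DimFormulaLib.Field
set_option backward.isDefEq.respectTransparency false
open CategoryTheory.Limits Groth.Agent.DimFormulaLib
-- import your own Groth.Agent.* helpers here

set_option autoImplicit false
universe u
open CategoryTheory CategoryTheory.Limits AlgebraicGeometry
attribute [local instance] Curv2.stalkAlgebra Curv2.resAlgebra
open Variety

namespace Groth.Agent.S7589

/-- Let X be locally of finite type over a field k, K an extension field of k, y a point of the base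
change X_K and x its image in X; write a = trdeg_k κ(x) and a' = trdeg_K κ(y). Then dim O_{X_K, y} +
a' = dim O_{X, x} + a, and the fibre ring O_{X_K, y} / m_x O_{X_K, y} has Krull dimension a - a' (in
particular a' ≤ a); dimensions in WithBot ℕ∞. -/
theorem result (k : Type u) [Field k] (X : Scheme.{u}) [X.Over (Spec (CommRingCat.of k))] [LocallyOfFiniteType (X ↘ (Spec (CommRingCat.of k)))]
    (K : Type u) [Field K] [Algebra k K] (y : ↥(Curv2.bc k X K)) (a a' : ℕ)
    (ha : Algebra.trdeg k (X.residueField (Curv2.bcFst k X K y)) = a)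
    (ha' : letI : (Curv2.bc k X K).Over (Spec (CommRingCat.of K)) := ⟨Curv2.bcSnd k X K⟩
      Algebra.trdeg K ((Curv2.bc k X K).residueField y) = a') :
    ringKrullDim ((Curv2.bc k X K).presheaf.stalk y) + (a' : WithBot ℕ∞) =
        ringKrullDim (X.presheaf.stalk (Curv2.bcFst k X K y)) + (a : WithBot ℕ∞) ∧
      ringKrullDim (↥((Curv2.bc k X K).presheaf.stalk y) ⧸ Ideal.map ((Curv2.bcFst k X K).stalkMap y).hom (IsLocalRing.maximalIdeal ↥(X.presheaf.stalk (Curv2.bcFst k X K y)))) + (a' : WithBot ℕ∞) =
        (a : WithBot ℕ∞) := by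
  let S := Spec (CommRingCat.of k)
  let X' := Curv2.bc k X K
  letI : X'.Over (Spec (CommRingCat.of K)) := ⟨Curv2.bcSnd k X K⟩
  haveI : LocallyOfFiniteType (X' ↘ Spec (CommRingCat.of K)) := MorphismProperty.pullback_snd _ _ ‹LocallyOfFiniteType (X ↘ S)›
  haveI : Flat (Spec.map (CommRingCat.ofHom (algebraMap k K))) := inferInstance
  haveI : Flat (Curv2.bcFst k X K) := MorphismProperty.pullback_fst _ _ inferInstance
  let x := Curv2.bcFst k X K y
  obtain ⟨c, t, hc, ht, hl, -⟩ := field_dims (X ↘ S) x
  obtain ⟨c', t', hc', ht', hl', -⟩ := field_dims (X' ↘ Spec (CommRingCat.of K)) y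
  rw [resTrdegAt_over] at ht ht'
  have hat : a = t := by exact_mod_cast ha.symm.trans ht
  have hat' : a' = t' := by exact_mod_cast ha'.symm.trans ht'
  have hloc := Groth.Agent.LocDimBC.localDim_fieldExtension (Z := X) (Z' := X') (m := Curv2.bcFst k X K)
    (π := X ↘ S) (π' := Curv2.bcSnd k X K) (ι := Spec.map (CommRingCat.ofHom (algebraMap k K))) (IsPullback.of_hasPullback _ _) y
  rw [show FlatMor.localDim ↥X' y = _ from hl', show FlatMor.localDim ↥X (Curv2.bcFst k X K y) = _ from hl] at hloc
  have hsum : c' + t' = c + t := by exact_mod_cast hloc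
  refine ⟨?_, ?_⟩
  · rw [show ringKrullDim (X'.presheaf.stalk y) = _ from hc', show ringKrullDim (X.presheaf.stalk x) = _ from hc]
    exact_mod_cast (show c' + a' = c + a by omega)
  · haveI : IsLocallyNoetherian X' := LocallyOfFiniteType.isLocallyNoetherian (X' ↘ Spec (CommRingCat.of K))
    haveI : IsLocallyNoetherian X := LocallyOfFiniteType.isLocallyNoetherian (X ↘ S)
    let A := X.presheaf.stalk x
    let B := X'.presheaf.stalk y
    letI := ((Curv2.bcFst k X K).stalkMap y).hom.toAlgebra
    haveI : IsLocalHom (algebraMap A B) := inferInstanceAs (IsLocalHom ((Curv2.bcFst k X K).stalkMap y).hom)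
    haveI : Module.Flat A B := Flat.stalkMap (Curv2.bcFst k X K) y
    have hq := Groth.Agent.FibreComp.ringKrullDim_quotient_of_flat (A := A) (B := B)
    rw [show ringKrullDim A = _ from hc, show ringKrullDim B = _ from hc'] at hq
    obtain ⟨d, hd⟩ : ∃ d : ℕ, ringKrullDim (B ⧸ (IsLocalRing.maximalIdeal A).map (algebraMap A B)) = (d : WithBot ℕ∞) := by
      generalize ringKrullDim (B ⧸ (IsLocalRing.maximalIdeal A).map (algebraMap A B)) = w at hq
      induction w using WithBot.recBotCoe with
      | bot => rw [WithBot.add_bot] at hq; exact absurd hq.symm (WithBot.natCast_ne_bot c')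
      | coe m =>
        induction m using ENat.recTopCoe with
        | top =>
          rw [show (c : WithBot ℕ∞) = ((c : ℕ∞) : WithBot ℕ∞) from rfl, ← WithBot.coe_add, add_top] at hq
          exact absurd (WithBot.coe_inj.1 hq) (ENat.coe_ne_top c').symm
        | coe m => exact ⟨m, rfl⟩
    rw [hd] at hq
    have hq' : c + d = c' := by exact_mod_cast hq
    show ringKrullDim (B ⧸ (IsLocalRing.maximalIdeal A).map (algebraMap A B)) + _ = _
    rw [hd]
    exact_mod_cast (show d + a' = a by omega)

end Groth.Agent.S7589
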