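import Groth.Statements.S7592
import Groth.Agent.ConnImgLib.Orbit

set_option autoImplicit false
universe u
open CategoryTheory CategoryTheory.Limits AlgebraicGeometry
open Variety

namespace Groth.Agent.S7592

open CategoryTheory CategoryTheory.Limits AlgebraicGeometry

set_option backward.isDefEq.respectTransparency false
set_option backward.defeqAttrib.useBackward true
set_option linter.style.haveILetI false


/-- Let K be a (possibly infinite) Galois extension of a field k and f : T → X a morphism of schemes
over k. If the base change T_K is connected and X_K is not connected, then X is not connected. -/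
theorem result (k : Type u) [Field k] (K : Type u) [Field K] [Algebra k K] [IsGalois k K]
    (T X : Scheme.{u}) [T.Over (Spec (CommRingCat.of k))] [X.Over (Spec (CommRingCat.of k))]
    (f : T ⟶ X) [f.IsOver (Spec (CommRingCat.of k))]
    [ConnectedSpace ↥(Curv2.bc k T K)] (hX : ¬ ConnectedSpace ↥(Curv2.bc k X K)) :
    ¬ ConnectedSpace ↥X := by
  intro hc
  apply hX
  let g := X ↘ Spec (CommRingCat.of k)
  let fK : Curv2.bc k T K ⟶ Curv2.bc k X K := pullback.map _ _ _ _ f (𝟙 _) (𝟙 _) (by simp) (by simp)
  obtain ⟨t⟩ := (inferInstance : Nonempty ↥(Curv2.bc k T K))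
  refine Groth.Agent.ConnImgLib.connectedSpace_of_invariant g K (fK t) fun σ => ?_
  rw [← connectedComponentIn_univ, (Groth.Agent.ConnImgLib.transHomeo g σ).image_connectedComponentIn (Set.mem_univ _), Set.image_univ, EquivLike.range_eq_univ,
    connectedComponentIn_univ, connectedComponentIn_univ]
  refine (connectedComponent_eq ?_).symm
  refine (isPreconnected_range fK.continuous).subset_connectedComponent ⟨t, rfl⟩ ?_
  refine ⟨Groth.Agent.ConnImgLib.transHomeo (T ↘ Spec (CommRingCat.of k)) σ t, ?_⟩
  have h : GeomIrred.trans (T ↘ Spec (CommRingCat.of k)) σ.toAlgHom ≫ fK = fK ≫ GeomIrred.trans g σ.toAlgHom := by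
    apply pullback.hom_ext
    · simp [fK, g, GeomIrred.trans]
    · simp [fK, g, GeomIrred.trans]
  exact congrArg (fun q => q t) h

end Groth.Agent.S7592
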