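import Groth.Statements.S7593
import Groth.Agent.ConnImgLib.Orbit

set_option autoImplicit false
universe u
open CategoryTheory CategoryTheory.Limits AlgebraicGeometry
open Variety

namespace Groth.Agent.S7593

open CategoryTheory CategoryTheory.Limits AlgebraicGeometry

set_option backward.isDefEq.respectTransparency false
set_option backward.defeqAttrib.useBackward true
set_option linter.style.haveILetI false


/-- Let k̄ be a separable algebraic closure of a field k, X a scheme over k and t a point of X_{k̄} with
image x in X. The connected component of t is mapped onto itself by the action of every
k-automorphism of k̄ if and only if it equals the full inverse image of the connected component T of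
x in X and T is geometrically connected over k (the inverse image of T in X_K is connected for every
extension field K of k). -/
theorem result (k : Type u) [Field k] (X : Scheme.{u}) [X.Over (Spec (CommRingCat.of k))] (t : ↥(Curv2.bc k X (SeparableClosure k))) :
    (∀ σ : SeparableClosure k ≃ₐ[k] SeparableClosure k,
        (Curv2.galAct k X (SeparableClosure k) σ).base '' connectedComponent t = connectedComponent t) ↔
      ((Curv2.bcFst k X (SeparableClosure k)).base ⁻¹' connectedComponent (Curv2.bcFst k X (SeparableClosure k) t) = connectedComponent t ∧
        ∀ (K : Type u) [Field K] [Algebra k K],
          _root_.IsConnected ((Curv2.bcFst k X K).base ⁻¹' connectedComponent (Curv2.bcFst k X (SeparableClosure k) t))) := by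
  let f := X ↘ Spec (CommRingCat.of k)
  constructor
  · intro h
    have hpre : (Curv2.bcFst k X (SeparableClosure k)).base ⁻¹' connectedComponent (Curv2.bcFst k X (SeparableClosure k) t) =
        connectedComponent t :=
      Set.Subset.antisymm (Groth.Agent.ConnImgLib.preimage_subset_of_invariant f (SeparableClosure k) h
        (Groth.Agent.ConnImgLib.subset_image_connectedComponent_normal f (SeparableClosure k) t))
        fun z hz => Continuous.image_connectedComponent_subset (Curv2.bcFst k X (SeparableClosure k)).continuous t ⟨z, hz, rfl⟩
    exact ⟨hpre, fun K _ _ => Groth.Agent.ConnImgLib.isConnected_preimage_of_sepClosed f (SeparableClosure k) isClosed_connectedComponent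
      (hpre.symm ▸ isConnected_connectedComponent) K⟩
  · rintro ⟨h, -⟩ σ
    rw [← h]
    exact Groth.Agent.ConnImgLib.image_preimage f (SeparableClosure k) σ _

end Groth.Agent.S7593
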