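import Groth.Statements.S7594
import Groth.Agent.GeomIrred.Criteria
import Groth.Agent.GeomIrred.CurvPoint
-- import your own Groth.Agent.* helpers here

set_option autoImplicit false
universe u
open CategoryTheory CategoryTheory.Limits AlgebraicGeometry
open Variety

namespace Groth.Agent.S7594

/-- A scheme X over a field k is geometrically irreducible over k precisely when the fibre product X ×_k
X of X with itself is an irreducible scheme. -/
theorem result (k : Type u) [Field k] (X : Scheme.{u}) [X.Over (Spec (CommRingCat.of k))] :
    GeometricallyIrreducible (X ↘ (Spec (CommRingCat.of k))) ↔ IrreducibleSpace ↥(pullback (X ↘ (Spec (CommRingCat.of k))) (X ↘ (Spec (CommRingCat.of k)))) := by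
  refine ⟨fun hg => ?_, fun hXX => ?_⟩
  · haveI : IrreducibleSpace ↥X := GeometricallyIrreducible.irreducibleSpace_of_subsingleton (X ↘ (Spec (CommRingCat.of k)))
    infer_instance
  · let f := X ↘ (Spec (CommRingCat.of k))
    haveI : Nonempty ↥X := ⟨pullback.fst f f (Classical.arbitrary _)⟩
    haveI : Surjective f := ⟨fun y => ⟨Classical.arbitrary ↥X, Subsingleton.elim (α := PrimeSpectrum k) _ _⟩⟩
    haveI : IrreducibleSpace ↥X := by
      rw [irreducibleSpace_def, Set.top_eq_univ, ← Set.range_eq_univ.mpr (pullback.fst f f).surjective, ← Set.image_univ]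
      exact (IrreducibleSpace.isIrreducible_univ _).image _ (pullback.fst f f).continuous.continuousOn
    let ξ := genericPoint X
    letI := Curv2.resAlgebra k X ξ
    have h1 := GeomIrred.fst_genericPoint f f
    haveI h2 := GeomIrred.irreducibleSpace_fibre f ξ (Curv2.resMap k X ξ) (GeomIrred.spec_resMap k X ξ) f h1
    let g := Spec.map (CommRingCat.ofHom (Curv2.resMap k X ξ))
    haveI : IrreducibleSpace ↥(pullback f g) :=
      (pullbackSymmetry f g).hom.homeomorph.irreducibleSpace_iff.mpr h2
    haveI : Surjective g := GeomIrred.surjective_specMap_field k (X.residueField ξ)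
    haveI h3 := GeomIrred.irreducibleSpace_fibre f ξ (Curv2.resMap k X ξ) (GeomIrred.spec_resMap k X ξ) g
      (GeomIrred.fst_genericPoint f g)
    have h4 : IrreducibleSpace (PrimeSpectrum (TensorProduct k (X.residueField ξ) (X.residueField ξ))) :=
      (pullbackSpecIso k (X.residueField ξ) (X.residueField ξ)).hom.homeomorph.irreducibleSpace_iff.mp h3
    refine GeomIrred.geometricallyIrreducible_of_points _ fun U hU hne => ?_
    refine ⟨ξ, ((genericPoint_spec X).mem_open_set_iff hU).mpr (by simpa using hne),
      Curv2.resMap k X _, GeomIrred.spec_resMap k X _, ?_⟩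
    refine eq_bot_iff.mpr fun a ha => IntermediateField.mem_bot.mpr
      (GeomIrred.mem_range_of_irreducible_tensor (mem_separableClosure_iff.mp ha) fun L _ _ _ τ => ?_)
    exact GeomIrred.irreducibleSpace_of_injective (Algebra.TensorProduct.map (AlgHom.id k _) τ).toRingHom
      (Module.Flat.lTensor_preserves_injective_linearMap τ.toLinearMap τ.toRingHom.injective) h4

end Groth.Agent.S7594
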