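import Groth.Statements.S7597
import Groth.Agent.ConnImgLib.Orbit

set_option autoImplicit false
universe u
open CategoryTheory CategoryTheory.Limits AlgebraicGeometry
open Variety

namespace Groth.Agent.S7597

open CategoryTheory CategoryTheory.Limits AlgebraicGeometry

set_option backward.isDefEq.respectTransparency false
set_option backward.defeqAttrib.useBackward true
set_option linter.style.haveILetI false


/-- Let k̄ be a separable algebraic closure of a field k, X a scheme over k and Z an irreducible
component of X_{k̄}. Then Z is mapped onto itself by the action of every k-automorphism of k̄ if and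
only if Z is the full inverse image of some irreducible component T of X which is geometrically
irreducible over k (the inverse image of T in X_K is irreducible for every extension field K of k). -/
theorem result (k : Type u) [Field k] (X : Scheme.{u}) [X.Over (Spec (CommRingCat.of k))]
    (Z : Set ↥(Curv2.bc k X (SeparableClosure k))) (hZ : Z ∈ irreducibleComponents ↥(Curv2.bc k X (SeparableClosure k))) :
    (∀ σ : SeparableClosure k ≃ₐ[k] SeparableClosure k, (Curv2.galAct k X (SeparableClosure k) σ).base '' Z = Z) ↔
      ∃ T ∈ irreducibleComponents ↥X, (Curv2.bcFst k X (SeparableClosure k)).base ⁻¹' T = Z ∧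
        ∀ (K : Type u) [Field K] [Algebra k K], IsIrreducible ((Curv2.bcFst k X K).base ⁻¹' T) := by
  constructor
  · intro h
    obtain ⟨η, hη⟩ := QuasiSober.sober hZ.1 (isClosed_of_mem_irreducibleComponents _ hZ)
    let f := X ↘ Spec (CommRingCat.of k)
    have hTe : closure {(Curv2.bcFst k X (SeparableClosure k)) η} = (Curv2.bcFst k X (SeparableClosure k)).base '' Z :=
      (Groth.Agent.ConnImgLib.image_irreducible f (SeparableClosure k) hη).symm
    have hpre : (Curv2.bcFst k X (SeparableClosure k)).base ⁻¹' closure {(Curv2.bcFst k X (SeparableClosure k)) η} = Z := by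
      refine Set.Subset.antisymm (Groth.Agent.ConnImgLib.preimage_subset_of_invariant f (SeparableClosure k) h hTe.le) fun z hz => ?_
      show _ ∈ closure _
      rw [hTe]
      exact ⟨z, hz, rfl⟩
    exact ⟨_, Groth.Agent.ConnImgLib.closure_fst_mem_irreducibleComponents f (SeparableClosure k) hZ hη, hpre, fun K _ _ =>
      Groth.Agent.ConnImgLib.isIrreducible_preimage_of_sepClosed f (SeparableClosure k) isClosed_closure (hpre.symm ▸ hZ.1) K⟩
  · rintro ⟨T, -, rfl, -⟩ σ
    exact Groth.Agent.ConnImgLib.image_preimage (X ↘ Spec (CommRingCat.of k)) (SeparableClosure k) σ T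

end Groth.Agent.S7597
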