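import Groth.Statements.S7600
import Groth.Agent.GeomIrred.ClopenDescend
import Groth.Agent.GeomRedPtLib.NormRegAt
import Groth.Agent.GeomRedPtLib.ProdPt
import Groth.Agent.S9413
import Groth.Agent.FBaseLib.ReducedProd
import Groth.Agent.NearGen.FibreScheme
import Groth.Agent.NormalTensor.Henselian
set_option backward.isDefEq.respectTransparency false
open TensorProduct
attribute [local instance] Curv2.stalkAlgebra
-- import your own Groth.Agent.* helpers here

set_option autoImplicit false
universe u
open CategoryTheory CategoryTheory.Limits AlgebraicGeometry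
open Variety

namespace Groth.Agent.S7600

/-- (2) ⇒ (1): let X be a scheme over a field k, k' an extension field of k and x' a point of X_{k'}
with image x in X. If X_{k'} is geometrically normal at x' over k' (for every extension field k'' of
k' and every point x'' of (X_{k'})_{k''} over x' the local ring at x'' is an integrally closed
domain), then X is geometrically normal at x over k. -/
theorem result (k : Type u) [Field k] (X : Scheme.{u}) [X.Over (Spec (CommRingCat.of k))] (k' : Type u) [Field k'] [Algebra k k'] (x' : ↥(Curv2.bc k X k'))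
    (h : letI : (Curv2.bc k X k').Over (Spec (CommRingCat.of k')) := ⟨Curv2.bcSnd k X k'⟩
      ∀ (k'' : Type u) [Field k''] [Algebra k' k''] (x'' : ↥(Curv2.bc k' (Curv2.bc k X k') k'')), Curv2.bcFst k' (Curv2.bc k X k') k'' x'' = x' →
          IsDomain ↥((Curv2.bc k' (Curv2.bc k X k') k'').presheaf.stalk x'') ∧ IsIntegrallyClosed ↥((Curv2.bc k' (Curv2.bc k X k') k'').presheaf.stalk x'')) :
    ∀ (K : Type u) [Field K] [Algebra k K] (y : ↥(Curv2.bc k X K)), Curv2.bcFst k X K y = (Curv2.bcFst k X k' x') →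
          IsDomain ↥((Curv2.bc k X K).presheaf.stalk y) ∧ IsIntegrallyClosed ↥((Curv2.bc k X K).presheaf.stalk y) := by
  intro K _ _ y hy
  letI overX' : (Curv2.bc k X k').Over (Spec (CommRingCat.of k')) := ⟨Curv2.bcSnd k X k'⟩
  let x := Curv2.bcFst k X k' x'
  refine GeomRedPtLib.normal_stalk_bc K x (GeomRedPtLib.isNormalRing_tensor_of_purelyInseparable_at x ?_ K) y
    (specializes_of_eq hy)
  intro κ _ _ _ _ z hz
  haveI : Algebra.IsAlgebraic k κ := Algebra.IsAlgebraic.of_finite k κ
  let L := AlgebraicClosure k'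
  let σ : κ →ₐ[k] L := IsAlgClosed.lift
  let tL := Spec.map (CommRingCat.ofHom (algebraMap k' L))
  let tκ := Spec.map (CommRingCat.ofHom (algebraMap k κ))
  let tσ := Spec.map (CommRingCat.ofHom σ.toRingHom)
  haveI : Surjective tL := ⟨fun _ => ⟨default, Subsingleton.elim _ _⟩⟩
  haveI : Surjective (Curv2.bcFst k' (Curv2.bc k X k') L) := MorphismProperty.pullback_fst _ tL inferInstance
  obtain ⟨x'', hx''⟩ := (Curv2.bcFst k' (Curv2.bc k X k') L).surjective x'
  obtain ⟨hd, hi⟩ := h L x'' hx''
  let fL := Curv2.bcFst k' (Curv2.bc k X k') L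
  let sL := Curv2.bcSnd k' (Curv2.bc k X k') L
  have hσ : tσ ≫ tκ = tL ≫ Spec.map (CommRingCat.ofHom (algebraMap k k')) := by
    rw [← Spec.map_comp, ← Spec.map_comp]
    congr 1
    ext c
    exact (σ.commutes c).trans (IsScalarTower.algebraMap_apply k k' L c)
  have w : (fL ≫ Curv2.bcFst k X k') ≫ (X ↘ Spec (CommRingCat.of k)) = (sL ≫ tσ) ≫ tκ := by
    have h1 : Curv2.bcFst k X k' ≫ (X ↘ Spec (CommRingCat.of k)) =
        Curv2.bcSnd k X k' ≫ Spec.map (CommRingCat.ofHom (algebraMap k k')) := pullback.condition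
    have h2 : fL ≫ Curv2.bcSnd k X k' = sL ≫ tL := pullback.condition
    rw [Category.assoc, Category.assoc, hσ, h1, reassoc_of% h2]
  let m : Curv2.bc k' (Curv2.bc k X k') L ⟶ Curv2.bc k X κ := pullback.lift (fL ≫ Curv2.bcFst k X k') (sL ≫ tσ) w
  have hm1 : m ≫ Curv2.bcFst k X κ = fL ≫ Curv2.bcFst k X k' := pullback.lift_fst _ _ _
  have hm2 : m ≫ Curv2.bcSnd k X κ = sL ≫ tσ := pullback.lift_snd _ _ _
  have hpb : IsPullback m sL (Curv2.bcSnd k X κ) tσ := by
    refine IsPullback.of_right ?_ hm2 (IsPullback.of_hasPullback (X ↘ Spec (CommRingCat.of k)) tκ)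
    have := (IsPullback.of_hasPullback (Curv2.bcSnd k X k') tL).paste_horiz
      (IsPullback.of_hasPullback (X ↘ Spec (CommRingCat.of k)) (Spec.map (CommRingCat.ofHom (algebraMap k k'))))
    rw [show m ≫ pullback.fst (X ↘ Spec (CommRingCat.of k)) tκ = fL ≫ Curv2.bcFst k X k' from hm1, hσ]
    exact this
  haveI : Flat tσ := by
    refine (HasRingHomProperty.Spec_iff (P := @Flat)).mpr ?_
    letI := σ.toRingHom.toAlgebra
    show σ.toRingHom.Flat
    exact (RingHom.flat_algebraMap_iff (R := κ) (S := L)).2 inferInstance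
  haveI : Flat m := MorphismProperty.of_isPullback (P := @Flat) hpb.flip inferInstance
  haveI : UniversallyInjective (Spec.map (CommRingCat.ofHom (algebraMap k κ))) :=
    GeomIrred.universallyInjective_specMap k κ
  haveI : UniversallyInjective (Curv2.bcFst k X κ) :=
    MorphismProperty.pullback_fst (X ↘ Spec (CommRingCat.of k)) tκ inferInstance
  have hmz : m x'' = z := (Curv2.bcFst k X κ).injective (by
    rw [← Scheme.Hom.comp_apply, hm1, Scheme.Hom.comp_apply]
    exact (congrArg _ hx'').trans hz.symm)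
  subst hmz
  algebraize [(m.stalkMap x'').hom]
  haveI : IsLocalHom (algebraMap ((Curv2.bc k X κ).presheaf.stalk (m x''))
      ((Curv2.bc k' (Curv2.bc k X k') L).presheaf.stalk x'')) := m.toLRSHom.prop x''
  haveI : Module.Flat ((Curv2.bc k X κ).presheaf.stalk (m x''))
      ((Curv2.bc k' (Curv2.bc k X k') L).presheaf.stalk x'') := Flat.stalkMap m x''
  haveI := Module.FaithfullyFlat.of_flat_of_isLocalHom (A := (Curv2.bc k X κ).presheaf.stalk (m x''))
    (B := (Curv2.bc k' (Curv2.bc k X k') L).presheaf.stalk x'')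
  haveI := hd
  haveI := hi
  have hn := NormalTensor.isNormalRing_of_faithfullyFlat ((Curv2.bc k X κ).presheaf.stalk (m x''))
    ((Curv2.bc k' (Curv2.bc k X k') L).presheaf.stalk x'') (NormalTensor.isNormalRing_of_domain _)
  haveI := NormalTensor.isDomain_of_isNormalRing_local hn
  exact ⟨inferInstance, NormalTensor.isIntegrallyClosed_of_isNormalRing hn⟩

end Groth.Agent.S7600
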