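import Groth.Statements.S7601
import Groth.Agent.GeomRedPtLib.NormRegAt
import Groth.Agent.GeomRedPtLib.ProdPt
import Groth.Agent.S9413
import Groth.Agent.FBaseLib.ReducedProd
import Groth.Agent.NearGen.FibreScheme
import Groth.Agent.NormalTensor.Henselian
set_option backward.isDefEq.respectTransparency false
open TensorProduct
attribute [local instance] Curv2.stalkAlgebra
-- import your own Groth.Agent.* helpers here

set_option autoImplicit false
universe u
open CategoryTheory CategoryTheory.Limits AlgebraicGeometry
open Variety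

namespace Groth.Agent.S7601

/-- Let X be a geometrically normal scheme over a field k (X_K is a normal scheme for every extension
field K of k) and Y a normal scheme over k. Then X ×_k Y is a normal scheme. -/
theorem result (k : Type u) [Field k] (X : Scheme.{u}) [X.Over (Spec (CommRingCat.of k))] (Y : Scheme.{u}) [Y.Over (Spec (CommRingCat.of k))]
    (hX : ∀ (K : Type u) [Field K] [Algebra k K], Pi1.IsNormalScheme (Curv2.bc k X K)) (hY : Pi1.IsNormalScheme Y) :
    Pi1.IsNormalScheme (pullback (X ↘ (Spec (CommRingCat.of k))) (Y ↘ (Spec (CommRingCat.of k)))) := by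
  intro z
  obtain ⟨Q, _, ⟨e⟩⟩ := GeomRedPtLib.exists_prod_stalk_equiv z
  let x := pullback.fst (X ↘ (Spec (CommRingCat.of k))) (Y ↘ (Spec (CommRingCat.of k))) z
  let y := pullback.snd (X ↘ (Spec (CommRingCat.of k))) (Y ↘ (Spec (CommRingCat.of k))) z
  have hA : EGA4.IsGeomNormal k (X.presheaf.stalk x) := fun k' _ _ hf => by
    haveI := hf
    haveI : Algebra.IsAlgebraic k k' := Algebra.IsAlgebraic.of_finite k k'
    exact GeomRedPtLib.isNormalRing_tensor_of_stalk_bc k' x fun x' _ => hX k' x'
  haveI := (hY y).1
  haveI := (hY y).2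
  obtain ⟨hd, hi⟩ := S9413.result k _ (Y.presheaf.stalk y) hA (NormalTensor.isNormalRing_of_domain _) Q
  haveI := hd
  haveI := hi
  haveI := e.toMulEquiv.isDomain _
  exact ⟨inferInstance, IsIntegrallyClosed.of_equiv e.symm⟩

end Groth.Agent.S7601
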