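import Groth.Statements.S7603
import Groth.Agent.NormalFibLib.Basic
set_option backward.isDefEq.respectTransparency false
-- import your own Groth.Agent.* helpers here

set_option autoImplicit false
universe u
open CategoryTheory CategoryTheory.Limits AlgebraicGeometry
open Variety

namespace Groth.Agent.S7603

/-- (2) ⇔ (3): let X be a proper scheme over a field k which is geometrically normal (X_K is a normal
scheme for every extension field K of k). Then X is geometrically connected over k exactly when it
is geometrically irreducible over k. (The published statement lists geometric integrality as a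
further equivalent condition; given geometric normality it is equivalent to geometric irreducibility
by a direct argument, so this row omits it.) -/
theorem result (k : Type u) [Field k] (X : Scheme.{u}) [X.Over (Spec (CommRingCat.of k))] [IsProper (X ↘ (Spec (CommRingCat.of k)))]
    (hX : ∀ (K : Type u) [Field K] [Algebra k K], Pi1.IsNormalScheme (Curv2.bc k X K)) :
    GeometricallyConnected (X ↘ (Spec (CommRingCat.of k))) ↔ GeometricallyIrreducible (X ↘ (Spec (CommRingCat.of k))) := by
  constructor
  · intro h
    refine ⟨fun K _ p Z a b H => ?_⟩
    obtain ⟨φ, rfl⟩ := Spec.map_surjective p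
    letI : Algebra k K := φ.hom.toAlgebra
    let e : Z ≅ Curv2.bc k X K := H.isoPullback
    haveI : IsProper (Curv2.bcSnd k X K) := MorphismProperty.pullback_snd _ _ inferInstance
    haveI : IsLocallyNoetherian (Curv2.bc k X K) := LocallyOfFiniteType.isLocallyNoetherian (Curv2.bcSnd k X K)
    haveI : CompactSpace (Curv2.bc k X K) := QuasiCompact.compactSpace_of_compactSpace (Curv2.bcSnd k X K)
    haveI : IsNoetherian (Curv2.bc k X K) := ⟨⟩
    haveI : ConnectedSpace Z := h.geometrically_connectedSpace _ a b H
    haveI : ConnectedSpace (Curv2.bc k X K) := e.hom.homeomorph.surjective.connectedSpace e.hom.continuous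
    haveI := NormalFibLib.isIntegral_of_connected (Curv2.bc k X K) (hX K)
    haveI : Nonempty Z := inferInstance
    haveI : IsIntegral Z := isIntegral_of_isOpenImmersion e.hom
    infer_instance
  · intro h
    exact ⟨fun K _ p Z a b H => by
      haveI : IrreducibleSpace Z := h.geometrically_irreducibleSpace _ a b H
      infer_instance⟩

end Groth.Agent.S7603
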