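import Groth.Statements.S7604
import Groth.Agent.GeomRedPtLib.NormRegAt
import Groth.Agent.GeomRedPtLib.ProdPt
import Groth.Agent.S9413
import Groth.Agent.FBaseLib.ReducedProd
import Groth.Agent.NearGen.FibreScheme
import Groth.Agent.NormalTensor.Henselian
set_option backward.isDefEq.respectTransparency false
open TensorProduct
attribute [local instance] Curv2.stalkAlgebra
-- import your own Groth.Agent.* helpers here

set_option autoImplicit false
universe u
open CategoryTheory CategoryTheory.Limits AlgebraicGeometry
open Variety

namespace Groth.Agent.S7604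

/-- Let X and Y be schemes over a field k with Y reduced, and let x be a point of X at which X is
geometrically reduced. Then each point of X ×_k Y mapping to x has a reduced local ring. -/
theorem result (k : Type u) [Field k] (X : Scheme.{u}) [X.Over (Spec (CommRingCat.of k))] (Y : Scheme.{u}) [Y.Over (Spec (CommRingCat.of k))] [IsReduced Y]
    (x : ↥X) (hx : Curv2.IsGeomReducedAt k X x) (z : ↥(pullback (X ↘ (Spec (CommRingCat.of k))) (Y ↘ (Spec (CommRingCat.of k)))))
    (hz : pullback.fst (X ↘ (Spec (CommRingCat.of k))) (Y ↘ (Spec (CommRingCat.of k))) z = x) :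
    _root_.IsReduced ↥((pullback (X ↘ (Spec (CommRingCat.of k))) (Y ↘ (Spec (CommRingCat.of k)))).presheaf.stalk z) := by
  subst hz
  obtain ⟨Q, _, ⟨e⟩⟩ := GeomRedPtLib.exists_prod_stalk_equiv z
  haveI := (GeomRedPtLib.isGeomReducedAt_iff _).1 hx
  let A := X.presheaf.stalk (pullback.fst (X ↘ (Spec (CommRingCat.of k))) (Y ↘ (Spec (CommRingCat.of k))) z)
  let B := Y.presheaf.stalk (pullback.snd (X ↘ (Spec (CommRingCat.of k))) (Y ↘ (Spec (CommRingCat.of k))) z)
  haveI := FBaseLib.geometricallyReduced_of_algebra (k := k) A
  haveI := FBaseLib.isReduced_tensor_of_geometricallyReduced (k := k) (T := A) B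
  haveI : _root_.IsReduced (A ⊗[k] B) :=
    isReduced_of_injective (Algebra.TensorProduct.comm k A B) (AlgEquiv.injective _)
  haveI : _root_.IsReduced (Localization.AtPrime Q) := isReduced_localizationPreserves Q.primeCompl _ inferInstance
  exact isReduced_of_injective e e.injective

end Groth.Agent.S7604
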