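import Groth.Statements.S7605
import Groth.Agent.FpqcDesc.Noeth
import Groth.Agent.RegDesc.Basic
set_option backward.isDefEq.respectTransparency false
open TensorProduct
-- import your own Groth.Agent.* helpers here

set_option autoImplicit false
universe u
open CategoryTheory CategoryTheory.Limits AlgebraicGeometry
open Variety

namespace Groth.Agent.S7605

/-- For a scheme X over a field k and a finitely generated field extension k' of k, local Noetherianity
of X is equivalent to local Noetherianity of its base change X_{k'}. -/
theorem result (k : Type u) [Field k] (X : Scheme.{u}) [X.Over (Spec (CommRingCat.of k))] (k' : Type u) [Field k'] [Algebra k k']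
    (hfg : (⊤ : IntermediateField k k').FG) :
    IsLocallyNoetherian X ↔ IsLocallyNoetherian (Curv2.bc k X k') := by
  haveI : Algebra.EssFiniteType k k' := IntermediateField.fg_top_iff.mp hfg
  let t := Spec.map (CommRingCat.ofHom (algebraMap k k'))
  let s := X ↘ Spec (CommRingCat.of k)
  constructor
  · intro _
    refine (isLocallyNoetherian_iff_openCover (Scheme.Pullback.openCoverOfLeft X.affineCover s t)).2 fun i => ?_
    show IsLocallyNoetherian (pullback (X.affineCover.f i ≫ s) t)
    haveI : IsLocallyNoetherian (X.affineCover.X i) := inferInstance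
    let g := X.affineCover.f i ≫ s
    let A := Γ(X.affineCover.X i, ⊤)
    let φ : CommRingCat.of k ⟶ A := (Scheme.ΓSpecIso (CommRingCat.of k)).inv ≫ g.appTop
    letI : Algebra k A := φ.hom.toAlgebra
    have hg : g = (X.affineCover.X i).isoSpec.hom ≫ Spec.map φ := by
      rw [Spec.map_comp, Scheme.isoSpec_hom_naturality_assoc, Scheme.isoSpec_Spec_hom, ← Spec.map_comp]
      simp
    haveI : IsNoetherianRing A := IsLocallyNoetherian.component_noetherian ⟨⊤, isAffineOpen_top _⟩
    haveI : IsNoetherianRing (A ⊗[k] k') := Algebra.EssFiniteType.isNoetherianRing A _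
    haveI : IsNoetherianRing (CommRingCat.of (A ⊗[k] k')) := ‹_›
    let e : pullback g t ≅ Spec (CommRingCat.of (A ⊗[k] k')) :=
      (pullback.congrHom hg rfl) ≪≫ asIso (pullback.map _ t (Spec.map φ) t (X.affineCover.X i).isoSpec.hom (𝟙 _) (𝟙 _) (by simp) (by simp)) ≪≫ pullbackSpecIso k A k'
    exact isLocallyNoetherian_of_isOpenImmersion e.hom
  · intro _
    haveI : Flat t := by
      refine (HasRingHomProperty.Spec_iff (P := @Flat)).mpr ?_
      exact (RingHom.flat_algebraMap_iff (R := k) (S := k')).2 inferInstance
    haveI : Surjective t := ⟨fun _ => ⟨default, Subsingleton.elim _ _⟩⟩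
    haveI : Flat (Curv2.bcFst k X k') := MorphismProperty.pullback_fst s t inferInstance
    haveI : Surjective (Curv2.bcFst k X k') := MorphismProperty.pullback_fst s t inferInstance
    haveI : QuasiCompact (Curv2.bcFst k X k') := MorphismProperty.pullback_fst s t inferInstance
    exact NoethDesc.of_quasiCompact (Curv2.bcFst k X k')

end Groth.Agent.S7605
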