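import Groth.Statements.S7607
import Groth.Agent.GeomIrred.ClopenDescend
import Groth.Agent.GeomRedPtLib.NormRegAt
import Groth.Agent.NearGen.FibreScheme
import Groth.Agent.FpqcDesc.Noeth
import Groth.Agent.RegLocal.Consequences
set_option backward.isDefEq.respectTransparency false
open TensorProduct
set_option synthInstance.maxHeartbeats 200000
set_option maxHeartbeats 1000000
attribute [local instance] Curv2.stalkAlgebra
-- import your own Groth.Agent.* helpers here

set_option autoImplicit false
universe u
open CategoryTheory CategoryTheory.Limits AlgebraicGeometry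
open Variety

namespace Groth.Agent.S7607

/-- (2) ⇒ (1): let X be a scheme over a field k, k' a finitely generated field extension of k and x' a
point of X_{k'} with image x in X. If X_{k'} is geometrically regular at x' over k', then X is
geometrically regular at x over k. (The published setting defines geometric regularity only for
locally Noetherian schemes; this row allows any scheme X over k.) -/
theorem result (k : Type u) [Field k] (X : Scheme.{u}) [X.Over (Spec (CommRingCat.of k))] (k' : Type u) [Field k'] [Algebra k k'] (hfg : (⊤ : IntermediateField k k').FG)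
    (x' : ↥(Curv2.bc k X k'))
    (h : @Curv2.IsGeomRegularAt k' _ (Curv2.bc k X k') ⟨Curv2.bcSnd k X k'⟩ x') :
    Curv2.IsGeomRegularAt k X (Curv2.bcFst k X k' x') := by
  letI overX' : (Curv2.bc k X k').Over (Spec (CommRingCat.of k')) := ⟨Curv2.bcSnd k X k'⟩
  haveI : Nontrivial k' := inferInstance
  let x := Curv2.bcFst k X k' x'
  haveI hN : IsNoetherianRing (X.presheaf.stalk x) := by
    let t := Spec.map (CommRingCat.ofHom (algebraMap k' k'))
    haveI : Surjective t := ⟨fun _ => ⟨default, Subsingleton.elim _ _⟩⟩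
    haveI : Surjective (Curv2.bcFst k' (Curv2.bc k X k') k') := MorphismProperty.pullback_fst _ t inferInstance
    obtain ⟨y₀, hy₀⟩ := (Curv2.bcFst k' (Curv2.bc k X k') k').surjective x'
    haveI := h k' (IntermediateField.fg_top_iff.mpr inferInstance) y₀ hy₀
    let m := Curv2.bcFst k' (Curv2.bc k X k') k' ≫ Curv2.bcFst k X k'
    haveI : Flat t := by
      refine (HasRingHomProperty.Spec_iff (P := @Flat)).mpr ?_
      exact (RingHom.flat_algebraMap_iff (R := k') (S := k')).2 inferInstance
    haveI : Flat (Curv2.bcFst k' (Curv2.bc k X k') k') := MorphismProperty.pullback_fst _ t inferInstance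
    haveI : Flat (Spec.map (CommRingCat.ofHom (algebraMap k k'))) := by
      refine (HasRingHomProperty.Spec_iff (P := @Flat)).mpr ?_
      exact (RingHom.flat_algebraMap_iff (R := k) (S := k')).2 inferInstance
    haveI : Flat (Curv2.bcFst k X k') :=
      MorphismProperty.pullback_fst (X ↘ Spec (CommRingCat.of k)) (Spec.map (CommRingCat.ofHom (algebraMap k k'))) inferInstance
    have hmy : m y₀ = x := (Scheme.Hom.comp_apply _ _ _).trans (congrArg _ hy₀)
    have key : IsNoetherianRing (X.presheaf.stalk (m y₀)) := by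
      algebraize [(m.stalkMap y₀).hom]
      haveI : IsLocalHom (algebraMap (X.presheaf.stalk (m y₀))
          ((Curv2.bc k' (Curv2.bc k X k') k').presheaf.stalk y₀)) := m.toLRSHom.prop y₀
      haveI : Module.Flat (X.presheaf.stalk (m y₀))
          ((Curv2.bc k' (Curv2.bc k X k') k').presheaf.stalk y₀) := Flat.stalkMap m y₀
      haveI := Module.FaithfullyFlat.of_flat_of_isLocalHom (A := X.presheaf.stalk (m y₀))
        (B := (Curv2.bc k' (Curv2.bc k X k') k').presheaf.stalk y₀)
      exact NoethDesc.isNoetherianRing_of_faithfullyFlat (X.presheaf.stalk (m y₀))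
        ((Curv2.bc k' (Curv2.bc k X k') k').presheaf.stalk y₀)
    rwa [hmy] at key
  refine GeomRedPtLib.isGeomRegularAt_of_isGeometricallyRegular x
    (GeomRedPtLib.isGeometricallyRegular_of_purelyInseparable_at x ?_)
  intro κ _ _ _ _ z hz
  haveI : Algebra.IsAlgebraic k κ := Algebra.IsAlgebraic.of_finite k κ
  obtain ⟨m₀, hm₀⟩ := Ideal.exists_maximal (k' ⊗[k] κ)
  letI : Field ((k' ⊗[k] κ) ⧸ m₀) := Ideal.Quotient.field m₀
  let L := (k' ⊗[k] κ) ⧸ m₀
  let σ : κ →ₐ[k] L := (Ideal.Quotient.mkₐ k m₀).comp Algebra.TensorProduct.includeRight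
  haveI : Module.Finite k' L :=
    Module.Finite.of_surjective (Ideal.Quotient.mkₐ k' m₀).toLinearMap (Ideal.Quotient.mkₐ_surjective k' m₀)
  let tL := Spec.map (CommRingCat.ofHom (algebraMap k' L))
  let tκ := Spec.map (CommRingCat.ofHom (algebraMap k κ))
  let tσ := Spec.map (CommRingCat.ofHom σ.toRingHom)
  haveI : Surjective tL := ⟨fun _ => ⟨default, Subsingleton.elim _ _⟩⟩
  haveI : Surjective (Curv2.bcFst k' (Curv2.bc k X k') L) := MorphismProperty.pullback_fst _ tL inferInstance
  obtain ⟨x'', hx''⟩ := (Curv2.bcFst k' (Curv2.bc k X k') L).surjective x'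
  haveI hreg := h L (IntermediateField.fg_top_iff.mpr inferInstance) x'' hx''
  let fL := Curv2.bcFst k' (Curv2.bc k X k') L
  let sL := Curv2.bcSnd k' (Curv2.bc k X k') L
  have hσ : tσ ≫ tκ = tL ≫ Spec.map (CommRingCat.ofHom (algebraMap k k')) := by
    rw [← Spec.map_comp, ← Spec.map_comp]
    congr 1
    ext c
    exact (σ.commutes c).trans (IsScalarTower.algebraMap_apply k k' L c)
  have w : (fL ≫ Curv2.bcFst k X k') ≫ (X ↘ Spec (CommRingCat.of k)) = (sL ≫ tσ) ≫ tκ := by
    have h1 : Curv2.bcFst k X k' ≫ (X ↘ Spec (CommRingCat.of k)) =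
        Curv2.bcSnd k X k' ≫ Spec.map (CommRingCat.ofHom (algebraMap k k')) := pullback.condition
    have h2 : fL ≫ Curv2.bcSnd k X k' = sL ≫ tL := pullback.condition
    rw [Category.assoc, Category.assoc, hσ, h1, reassoc_of% h2]
  let m : Curv2.bc k' (Curv2.bc k X k') L ⟶ Curv2.bc k X κ := pullback.lift (fL ≫ Curv2.bcFst k X k') (sL ≫ tσ) w
  have hm1 : m ≫ Curv2.bcFst k X κ = fL ≫ Curv2.bcFst k X k' := pullback.lift_fst _ _ _
  have hm2 : m ≫ Curv2.bcSnd k X κ = sL ≫ tσ := pullback.lift_snd _ _ _
  have hpb : IsPullback m sL (Curv2.bcSnd k X κ) tσ := by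
    refine IsPullback.of_right ?_ hm2 (IsPullback.of_hasPullback (X ↘ Spec (CommRingCat.of k)) tκ)
    have := (IsPullback.of_hasPullback (Curv2.bcSnd k X k') tL).paste_horiz
      (IsPullback.of_hasPullback (X ↘ Spec (CommRingCat.of k)) (Spec.map (CommRingCat.ofHom (algebraMap k k'))))
    rw [show m ≫ pullback.fst (X ↘ Spec (CommRingCat.of k)) tκ = fL ≫ Curv2.bcFst k X k' from hm1, hσ]
    exact this
  haveI : Flat tσ := by
    refine (HasRingHomProperty.Spec_iff (P := @Flat)).mpr ?_
    letI := σ.toRingHom.toAlgebra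
    show σ.toRingHom.Flat
    exact (RingHom.flat_algebraMap_iff (R := κ) (S := L)).2 inferInstance
  haveI : Flat m := MorphismProperty.of_isPullback (P := @Flat) hpb.flip inferInstance
  haveI : UniversallyInjective (Spec.map (CommRingCat.ofHom (algebraMap k κ))) :=
    GeomIrred.universallyInjective_specMap k κ
  haveI : UniversallyInjective (Curv2.bcFst k X κ) :=
    MorphismProperty.pullback_fst (X ↘ Spec (CommRingCat.of k)) tκ inferInstance
  have hmz : m x'' = z := (Curv2.bcFst k X κ).injective (by
    rw [← Scheme.Hom.comp_apply, hm1, Scheme.Hom.comp_apply]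
    exact (congrArg _ hx'').trans hz.symm)
  subst hmz
  algebraize [(m.stalkMap x'').hom]
  haveI : IsLocalHom (algebraMap ((Curv2.bc k X κ).presheaf.stalk (m x''))
      ((Curv2.bc k' (Curv2.bc k X k') L).presheaf.stalk x'')) := m.toLRSHom.prop x''
  haveI : Module.Flat ((Curv2.bc k X κ).presheaf.stalk (m x''))
      ((Curv2.bc k' (Curv2.bc k X k') L).presheaf.stalk x'') := Flat.stalkMap m x''
  haveI := Module.FaithfullyFlat.of_flat_of_isLocalHom (A := (Curv2.bc k X κ).presheaf.stalk (m x''))
    (B := (Curv2.bc k' (Curv2.bc k X k') L).presheaf.stalk x'')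
  haveI : IsNoetherianRing ((Curv2.bc k X κ).presheaf.stalk (m x'')) :=
    NoethDesc.isNoetherianRing_of_faithfullyFlat _ ((Curv2.bc k' (Curv2.bc k X k') L).presheaf.stalk x'')
  exact RegLocal.isRegularLocalRing_of_flat _ ((Curv2.bc k' (Curv2.bc k X k') L).presheaf.stalk x'')

end Groth.Agent.S7607
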