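import Groth.Statements.S7610
import Groth.Agent.FibreComp.Basic
import Groth.Agent.DimFormulaLib.Scheme
set_option backward.isDefEq.respectTransparency false
-- import your own Groth.Agent.* helpers here

set_option autoImplicit false
universe u
open CategoryTheory CategoryTheory.Limits AlgebraicGeometry
open Variety

namespace Groth.Agent.S7610

/-- Let X and Y be schemes locally of finite type over a field k and z a point of X ×_k Y lying over x
in X and y in Y. Then dim_z(X ×_k Y) = dim_x X + dim_y Y (local dimensions of the underlying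
topological spaces, in WithBot ℕ∞). -/
theorem result (k : Type u) [Field k] (X : Scheme.{u}) [X.Over (Spec (CommRingCat.of k))] [LocallyOfFiniteType (X ↘ (Spec (CommRingCat.of k)))]
    (Y : Scheme.{u}) [Y.Over (Spec (CommRingCat.of k))] [LocallyOfFiniteType (Y ↘ (Spec (CommRingCat.of k)))]
    (z : ↥(pullback (X ↘ (Spec (CommRingCat.of k))) (Y ↘ (Spec (CommRingCat.of k))))) :
    FlatMor.localDim ↥(pullback (X ↘ (Spec (CommRingCat.of k))) (Y ↘ (Spec (CommRingCat.of k)))) z =
      FlatMor.localDim ↥X (pullback.fst (X ↘ (Spec (CommRingCat.of k))) (Y ↘ (Spec (CommRingCat.of k))) z) +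
        FlatMor.localDim ↥Y (pullback.snd (X ↘ (Spec (CommRingCat.of k))) (Y ↘ (Spec (CommRingCat.of k))) z) := by
  let S := Spec (CommRingCat.of k)
  haveI : Subsingleton ↥S := inferInstanceAs (Subsingleton (PrimeSpectrum k))
  let p := X ↘ S
  let q := Y ↘ S
  let fst := pullback.fst p q
  let snd := pullback.snd p q
  haveI : Flat p := inferInstance
  haveI : LocallyOfFiniteType snd := MorphismProperty.pullback_snd _ _ ‹LocallyOfFiniteType p›
  haveI : Flat snd := MorphismProperty.pullback_snd _ _ ‹Flat p›
  have h := (Groth.Agent.FibreComp.fibreDimAt_comp snd q z).2 (Flat.stalkMap snd z)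
  rw [Groth.Agent.LocDimBC.fibreDimAt_baseChange (IsPullback.of_hasPullback p q) z,
    ← Groth.Agent.DimFormulaLib.localDim_eq_fibreDimAt_of_subsingleton (snd ≫ q) z,
    ← Groth.Agent.DimFormulaLib.localDim_eq_fibreDimAt_of_subsingleton p (fst z),
    ← Groth.Agent.DimFormulaLib.localDim_eq_fibreDimAt_of_subsingleton q (snd z)] at h
  exact h

end Groth.Agent.S7610
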