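import Groth.Statements.S7612
import Mathlib

set_option autoImplicit false
universe u
open CategoryTheory CategoryTheory.Limits AlgebraicGeometry
open Variety

namespace Groth.Agent.S7612

open CategoryTheory CategoryTheory.Limits AlgebraicGeometry

set_option backward.isDefEq.respectTransparency false
set_option backward.defeqAttrib.useBackward true
set_option linter.style.haveILetI false


/-- Let X and Y be schemes over a field k and A ⊆ X, B ⊆ Y subsets. Inside X ×_k Y, the closure of the
set of points projecting into A and into B equals the set of points projecting into the closure of A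
and into the closure of B. -/
theorem result (k : Type u) [Field k] (X : Scheme.{u}) [X.Over (Spec (CommRingCat.of k))] (Y : Scheme.{u}) [Y.Over (Spec (CommRingCat.of k))] (A : Set ↥X) (B : Set ↥Y) :
    closure ((pullback.fst (X ↘ (Spec (CommRingCat.of k))) (Y ↘ (Spec (CommRingCat.of k)))).base ⁻¹' A ∩ (pullback.snd (X ↘ (Spec (CommRingCat.of k))) (Y ↘ (Spec (CommRingCat.of k)))).base ⁻¹' B) =
      (pullback.fst (X ↘ (Spec (CommRingCat.of k))) (Y ↘ (Spec (CommRingCat.of k)))).base ⁻¹' closure A ∩ (pullback.snd (X ↘ (Spec (CommRingCat.of k))) (Y ↘ (Spec (CommRingCat.of k)))).base ⁻¹' closure B := by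
  let f := X ↘ Spec (CommRingCat.of k)
  let g := Y ↘ Spec (CommRingCat.of k)
  -- the fibre of a projection maps openly to the other factor
  have key : ∀ {X Y : Scheme.{u}} (f : X ⟶ Spec (CommRingCat.of k)) (g : Y ⟶ Spec (CommRingCat.of k)) (a : X) (B : Set Y),
      pullback.fst f g ⁻¹' {a} ∩ pullback.snd f g ⁻¹' closure B ⊆
        closure (pullback.fst f g ⁻¹' {a} ∩ pullback.snd f g ⁻¹' B) := by
    intro X Y f g a B
    let m := pullback.map (X.fromSpecResidueField a ≫ f) g f g (X.fromSpecResidueField a) (𝟙 _) (𝟙 _) (by simp) (by simp)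
    have hr : Set.range m = pullback.fst f g ⁻¹' {a} := by
      rw [Scheme.Pullback.range_map, Scheme.range_fromSpecResidueField]
      simp
    have hm : ∀ x, pullback.snd f g (m x) = pullback.snd (X.fromSpecResidueField a ≫ f) g x := fun x => by
      simp only [m, ← Scheme.Hom.comp_apply, pullback.lift_snd, Category.comp_id]
    haveI : IsIntegral (Spec (CommRingCat.of k)) := inferInstance
    have ho : IsOpenMap (pullback.snd (X.fromSpecResidueField a ≫ f) g) := Scheme.Hom.isOpenMap _
    rintro w ⟨hw1, hw2⟩
    obtain ⟨x, rfl⟩ := hr.symm.subset hw1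
    refine m.continuous.closure_preimage_subset _ (show x ∈ closure (m ⁻¹' (pullback.fst f g ⁻¹' {a} ∩ pullback.snd f g ⁻¹' B)) from ?_)
    refine closure_mono (s := pullback.snd (X.fromSpecResidueField a ≫ f) g ⁻¹' B)
      (t := m ⁻¹' (pullback.fst f g ⁻¹' {a} ∩ pullback.snd f g ⁻¹' B))
      (fun y hy => ⟨hr.subset ⟨y, rfl⟩, ?_⟩) (ho.preimage_closure_subset_closure_preimage
      (show pullback.snd (X.fromSpecResidueField a ≫ f) g x ∈ closure B by rw [← hm]; exact hw2))
    show _ ∈ B
    rw [hm]
    exact hy
  refine Set.Subset.antisymm (closure_minimal (Set.inter_subset_inter (Set.preimage_mono subset_closure) (Set.preimage_mono subset_closure))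
    ((isClosed_closure.preimage (pullback.fst f g).continuous).inter (isClosed_closure.preimage (pullback.snd f g).continuous))) ?_
  have h1 : pullback.fst f g ⁻¹' A ∩ pullback.snd f g ⁻¹' closure B ⊆ closure (pullback.fst f g ⁻¹' A ∩ pullback.snd f g ⁻¹' B) :=
    fun w hw => closure_mono (Set.inter_subset_inter_left _ (Set.preimage_mono (f := pullback.fst f g) (Set.singleton_subset_iff.2 hw.1)))
      (key f g (pullback.fst f g w) B ⟨rfl, hw.2⟩)
  refine Set.Subset.trans ?_ (closure_minimal h1 isClosed_closure)
  rintro w ⟨hw1, hw2⟩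
  let e := pullbackSymmetry f g
  have h2 := @key _ _ g f (pullback.snd f g w) A (e.hom w) ⟨by simp [e, ← Scheme.Hom.comp_apply], by
    show pullback.snd g f (e.hom w) ∈ closure A
    simpa [e, ← Scheme.Hom.comp_apply] using hw1⟩
  have h3 := image_closure_subset_closure_image e.inv.continuous ⟨e.hom w, h2, by rw [← Scheme.Hom.comp_apply, Iso.hom_inv_id]⟩
  refine closure_mono ?_ h3
  rintro _ ⟨v, ⟨hv1, hv2⟩, rfl⟩
  refine ⟨?_, ?_⟩
  · show pullback.fst f g (e.inv v) ∈ A
    simpa [e, ← Scheme.Hom.comp_apply] using hv2
  · show pullback.snd f g (e.inv v) ∈ closure B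
    rw [show pullback.snd f g (e.inv v) = pullback.fst g f v by simp [e, ← Scheme.Hom.comp_apply], show pullback.fst g f v = pullback.snd f g w from hv1]
    exact hw2

end Groth.Agent.S7612
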