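import Groth.Statements.S7613
import Groth.Agent.GeomRedPtLib.SmoothPt
import Groth.Agent.GeomRedPtLib.RegSep
import Groth.Agent.GeomIrred.Criteria
import Groth.Agent.GeomIrred.CurvPoint
import Groth.Agent.RegLocal.UFD
import Groth.Agent.S1543
set_option backward.isDefEq.respectTransparency false
attribute [local instance] Curv2.stalkAlgebra
-- import your own Groth.Agent.* helpers here

set_option autoImplicit false
universe u
open CategoryTheory CategoryTheory.Limits AlgebraicGeometry
open Variety

namespace Groth.Agent.S7613

/-- Let X be a variety over a field k (integral, separated and of finite type over k) with a k-rational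
point x (k → κ(x) onto) such that X → Spec k is smooth at x. Then every base change of X to an
extension field of k is an integral scheme (X is geometrically integral over k). -/
theorem result (k : Type u) [Field k] (X : Scheme.{u}) [X.Over (Spec (CommRingCat.of k))] [IsIntegral X] [IsSeparated (X ↘ (Spec (CommRingCat.of k)))]
    [LocallyOfFiniteType (X ↘ (Spec (CommRingCat.of k)))] [QuasiCompact (X ↘ (Spec (CommRingCat.of k)))]
    (x : ↥X) (hx : Function.Surjective (Curv2.resMap k X x)) (hsm : x ∈ (X ↘ (Spec (CommRingCat.of k))).smoothLocus) :
    GeometricallyIntegral (X ↘ (Spec (CommRingCat.of k))) := by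
  let s := X ↘ Spec (CommRingCat.of k)
  haveI : IsLocallyNoetherian X := LocallyOfFiniteType.isLocallyNoetherian s
  let η := genericPoint X
  have hη : η ∈ s.smoothLocus :=
    ((genericPoint_spec X).mem_open_set_iff s.smoothLocus.isOpen).2 ⟨x, Set.mem_univ x, hsm⟩
  have hgr : ∀ y ∈ s.smoothLocus, CAlg.IsGeometricallyRegular k (X.presheaf.stalk y) := fun y hy =>
    (GeomRedPtLib.formallySmooth_stalk_iff_isGeometricallyRegular y).1
      ((GeomRedPtLib.mem_smoothLocus_iff_formallySmooth_stalk y).1 hy)
  haveI hred : GeometricallyReduced s := by
    refine S1543.result k X fun Z hZ ζ hζ => ?_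
    rw [irreducibleComponents_eq_singleton] at hZ
    subst hZ
    obtain rfl : ζ = η := hζ.eq (genericPoint_spec X)
    exact (GeomRedPtLib.isGeomReducedAt_iff _).2
      (GeomRedPtLib.isGeometricallyReduced_of_isGeometricallyRegular (hgr _ hη))
  haveI hirr : GeometricallyIrreducible s := by
    refine GeomIrred.geometricallyIrreducible_of_points s fun U hU hUne =>
      ⟨η, ((genericPoint_spec X).mem_open_set_iff hU).2 (by simpa using hUne), Curv2.resMap k X η,
        GeomIrred.spec_resMap k X η, ?_⟩
    letI := (Curv2.resMap k X η).toAlgebra
    rw [eq_bot_iff]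
    intro α hα
    let A := X.presheaf.stalk x
    haveI : IsRegularLocalRing A := by
      haveI := hgr x hsm k inferInstance
      haveI : IsRegularRing A := IsRegularRing.of_ringEquiv (Algebra.TensorProduct.lid k A).toRingEquiv
      exact IsRegularLocalRing.of_isRegularRing_of_isLocalRing A
    haveI : UniqueFactorizationMonoid A := RegLocal.ufd A
    haveI : IsIntegrallyClosed A := UniqueFactorizationMonoid.instIsIntegrallyClosed
    haveI : IsScalarTower k A X.functionField := IsScalarTower.of_algebraMap_eq fun c => by
      exact (TopCat.Presheaf.germ_stalkSpecializes_apply X.presheaf (U := ⊤) (y := x) trivial (genericPoint_specializes x) _).symm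
    let π : X.functionField →ₐ[k] X.residueField η :=
      { (X.residue η).hom with commutes' := fun _ => rfl }
    have hπi : Function.Injective π := π.toRingHom.injective
    obtain ⟨β, hβ⟩ := X.residue_surjective η α
    have hαint : IsIntegral k α := (mem_separableClosure_iff.1 hα).isIntegral
    have hβint : IsIntegral k β := by
      obtain ⟨p, hp, hp0⟩ := hαint
      refine ⟨p, hp, hπi ?_⟩
      rw [map_zero, ← Polynomial.aeval_def, ← Polynomial.aeval_algHom_apply]
      exact (congrArg (fun z => Polynomial.aeval z p) (show π β = α from hβ)).trans hp0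
    obtain ⟨b, hb⟩ := IsIntegrallyClosed.isIntegral_iff.1 (hβint.tower_top (A := A))
    obtain ⟨c, hc⟩ := hx (X.residue x b)
    let d := b - algebraMap k A c
    have hd0 : d = 0 := by
      by_contra hne
      have hdm : d ∈ IsLocalRing.maximalIdeal A := by
        rw [← IsLocalRing.residue_eq_zero_iff]
        show (X.residue x).hom d = 0
        rw [map_sub, sub_eq_zero]
        exact hc.symm
      have halg : IsAlgebraic k d := by
        refine IsIntegral.isAlgebraic ?_
        refine (isIntegral_algebraMap_iff (B := X.functionField) (IsFractionRing.injective A X.functionField)).1 ?_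
        rw [map_sub, hb, ← IsScalarTower.algebraMap_apply]
        exact hβint.sub isIntegral_algebraMap
      obtain ⟨r, hr, hdvd⟩ := halg.exists_nonzero_dvd (mem_nonZeroDivisors_of_ne_zero hne)
      exact hdm (isUnit_of_dvd_unit hdvd ((IsUnit.mk0 r hr).map _))
    refine ⟨c, ?_⟩
    have h1 : β = algebraMap k X.functionField c := by
      rw [← hb, IsScalarTower.algebraMap_apply k A X.functionField, ← sub_eq_zero.1 hd0]
    rw [← hβ, h1]
    rfl
  rw [GeometricallyIntegral.eq_geometricallyReduced_inf_geometricallyIrreducible]
  exact ⟨hred, hirr⟩

end Groth.Agent.S7613
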