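import Groth.Statements.S7614
import Groth.Agent.AmpleLib.Descent
import Groth.Agent.AmpleLib.Pullback
open CategoryTheory CategoryTheory.Limits AlgebraicGeometry
open Groth.Agent.AmpleLib
-- import your own Groth.Agent.* helpers here

set_option autoImplicit false
universe u
open CategoryTheory CategoryTheory.Limits AlgebraicGeometry
open Variety

namespace Groth.Agent.S7614

/-- Let X be a scheme over a field k and K an extension field of k. If X_K is quasi-affine, then X is
quasi-affine. -/
theorem result (k : Type u) [Field k] (X : Scheme.{u}) [X.Over (Spec (CommRingCat.of k))] (K : Type u) [Field K] [Algebra k K]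
    [(Curv2.bc k X K).IsQuasiAffine] : X.IsQuasiAffine := by
  let g := Spec.map (CommRingCat.ofHom (algebraMap k K))
  let f := X ↘ Spec (CommRingCat.of k)
  haveI : Flat g := by
    rw [Flat.SpecMap_iff]
    exact RingHom.flat_algebraMap_iff.2 inferInstance
  haveI : Surjective g := ⟨fun x => ⟨Classical.arbitrary _, Subsingleton.elim _ _⟩⟩
  haveI hb : (pullback f g).IsQuasiAffine := ‹(Curv2.bc k X K).IsQuasiAffine›
  haveI : CompactSpace ↥(pullback f g) := inferInstance
  haveI : Surjective (pullback.fst f g) := MorphismProperty.pullback_fst (P := @Surjective) _ _ inferInstance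
  haveI : CompactSpace X := ⟨by
    rw [← (pullback.fst f g).surjective.range_eq]
    exact isCompact_range (pullback.fst f g).continuous⟩
  haveI : QuasiCompact f := (quasiCompact_iff_compactSpace f).2 inferInstance
  refine (isQuasiAffine_iff (X := X)).2 (isAmple_of_pullback f g Groth.Agent.ParaFLib.isInvertible_structureModule ?_)
  exact isAmple_of_iso (pullO (pullback.fst f g)).symm ((isQuasiAffine_iff (X := pullback f g)).1 hb)

end Groth.Agent.S7614
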