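import Groth.Statements.S7616
import Groth.Agent.NagNorm.Basic
import Groth.Agent.NagataLib.FiniteType

set_option autoImplicit false
universe u
open CategoryTheory CategoryTheory.Limits AlgebraicGeometry
open Variety

namespace Groth.Agent.S7616

/-- Let f : Y → X be a quasi-compact morphism of schemes locally of finite type over a field k, with Y
reduced; f is automatically quasi-separated. Then the normalization of X in Y is finite over X. -/
theorem result (k : Type u) [Field k] (X : Scheme.{u}) [X.Over (Spec (CommRingCat.of k))] [LocallyOfFiniteType (X ↘ (Spec (CommRingCat.of k)))]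
    (Y : Scheme.{u}) [Y.Over (Spec (CommRingCat.of k))] [LocallyOfFiniteType (Y ↘ (Spec (CommRingCat.of k)))] [IsReduced Y]
    (f : Y ⟶ X) [f.IsOver (Spec (CommRingCat.of k))] [QuasiCompact f] [QuasiSeparated f] :
    IsFinite f.fromNormalization := by
  haveI : LocallyOfFiniteType f := by
    have : LocallyOfFiniteType (f ≫ X ↘ Spec (CommRingCat.of k)) := by
      rw [comp_over f (Spec (CommRingCat.of k))]; infer_instance
    exact locallyOfFiniteType_of_comp f (X ↘ Spec (CommRingCat.of k))
  refine NagNorm.isFinite_fromNormalization_finiteType f fun U => ?_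
  have hk : CAlg.IsNagata Γ(Spec (CommRingCat.of k), ⊤) := by
    refine NagataLib.isNagata_of_surjective (A := k) (Scheme.ΓSpecIso (CommRingCat.of k)).commRingCatIsoToRingEquiv.symm.toRingHom
      (Scheme.ΓSpecIso (CommRingCat.of k)).commRingCatIsoToRingEquiv.symm.surjective ?_
    refine ⟨inferInstance, fun p hp => ?_⟩
    intro L _ _ _ _ hfd
    haveI := hfd
    haveI : p.IsMaximal := (Ideal.eq_bot_or_top p).elim (fun h => h ▸ Ideal.bot_isMaximal) (fun h => absurd h hp.ne_top)
    letI := Ideal.Quotient.field p
    haveI : FiniteDimensional (k ⧸ p) (FractionRing (k ⧸ p)) :=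
      Module.Finite.equiv (FractionRing.algEquiv (k ⧸ p) (k ⧸ p)).toLinearEquiv.symm
    haveI : Module.Finite (k ⧸ p) L := Module.Finite.trans (FractionRing (k ⧸ p)) L
    exact Module.Finite.of_injective (integralClosure (k ⧸ p) L).val.toLinearMap Subtype.val_injective
  have hft : ((X ↘ Spec (CommRingCat.of k)).appLE ⊤ U.1 le_top).hom.FiniteType :=
    LocallyOfFiniteType.finiteType_appLE _ (isAffineOpen_top _) U.2 _
  letI := ((X ↘ Spec (CommRingCat.of k)).appLE ⊤ U.1 le_top).hom.toAlgebra
  haveI : Algebra.FiniteType Γ(Spec (CommRingCat.of k), ⊤) Γ(X, U) := hft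
  exact NagataLib.isNagata_of_finiteType hk

end Groth.Agent.S7616
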