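import Groth.Statements.S7617
import Groth.Agent.GeomRedPtLib.RegSep
import Groth.Agent.GeomRedPtLib.NormRegAt
import Groth.Agent.NearGen.FibreScheme
import Groth.Agent.S1585
set_option backward.isDefEq.respectTransparency false
attribute [local instance] Curv2.stalkAlgebra
-- import your own Groth.Agent.* helpers here

set_option autoImplicit false
universe u
open CategoryTheory CategoryTheory.Limits AlgebraicGeometry
open Variety

namespace Groth.Agent.S7617

/-- Let X be an integral scheme locally of finite type over a field k, ν : X^ν → X its normalization,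
and x a point of X with dim O_{X, x} = 1 such that for every point x' of X^ν over x the residue
field κ(x') is separable over k (Spec κ(x') → Spec k geometrically reduced). Then X is geometrically
reduced at x, and at every point of X^ν over x the normalization is geometrically regular. (The
published statement covers every scheme locally of finite type over k with reduced local ring at x,
using the normalization of a possibly non-integral scheme; this row takes X integral.) -/
theorem result (k : Type u) [Field k] (X : Scheme.{u}) [X.Over (Spec (CommRingCat.of k))] [IsIntegral X] [LocallyOfFiniteType (X ↘ (Spec (CommRingCat.of k)))]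
    [QuasiCompact (X.fromSpecStalk (genericPoint X))] [QuasiSeparated (X.fromSpecStalk (genericPoint X))]
    (x : ↥X) (hdim : ringKrullDim ↥(X.presheaf.stalk x) = 1)
    (hsep : letI : (Curv2.normalization X).Over (Spec (CommRingCat.of k)) := ⟨Curv2.normalizationι X ≫ (X ↘ (Spec (CommRingCat.of k)))⟩
      ∀ x' : ↥(Curv2.normalization X), Curv2.normalizationι X x' = x →
        GeometricallyReduced (Spec.map (CommRingCat.ofHom (Curv2.resMap k (Curv2.normalization X) x')))) :
    Curv2.IsGeomReducedAt k X x ∧
      letI : (Curv2.normalization X).Over (Spec (CommRingCat.of k)) := ⟨Curv2.normalizationι X ≫ (X ↘ (Spec (CommRingCat.of k)))⟩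
      ∀ x' : ↥(Curv2.normalization X), Curv2.normalizationι X x' = x → Curv2.IsGeomRegularAt k (Curv2.normalization X) x' := by
  obtain ⟨hfin, hdom, -, hint, hnor⟩ := S1585.result k X
  let ν := Curv2.normalizationι X
  letI overN : (Curv2.normalization X).Over (Spec (CommRingCat.of k)) := ⟨ν ≫ (X ↘ (Spec (CommRingCat.of k)))⟩
  haveI := hfin
  haveI := hdom
  haveI := hint
  haveI : LocallyOfFiniteType ((Curv2.normalization X) ↘ Spec (CommRingCat.of k)) :=
    inferInstanceAs (LocallyOfFiniteType (ν ≫ (X ↘ Spec (CommRingCat.of k))))
  haveI : IsLocallyNoetherian (Curv2.normalization X) :=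
    LocallyOfFiniteType.isLocallyNoetherian ((Curv2.normalization X) ↘ Spec (CommRingCat.of k))
  have hreg : ∀ x' : ↥(Curv2.normalization X), ν x' = x →
      CAlg.IsGeometricallyRegular k ((Curv2.normalization X).presheaf.stalk x') := by
    intro x' hx'
    subst hx'
    obtain ⟨U, hU, hxU, -⟩ := exists_isAffineOpen_mem_and_subset (X := X) (x := ν x') (U := ⊤) trivial
    let V := ν ⁻¹ᵁ U
    have hV : IsAffineOpen V := hU.preimage ν
    let q := (hV.primeIdealOf ⟨x', hxU⟩)
    have hq : q.asIdeal.comap (ν.app U).hom = (hU.primeIdealOf ⟨ν x', hxU⟩).asIdeal := by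
      rw [Scheme.Hom.app_eq_appLE]
      exact congrArg PrimeSpectrum.asIdeal (IsAffineOpen.comap_primeIdealOf_appLE U hU V hV le_rfl hxU)
    letI := (ν.app U).hom.toAlgebra
    haveI : Algebra.IsIntegral Γ(X, U) Γ(Curv2.normalization X, V) := ⟨(IsIntegralHom.isIntegral_app ν U hU)⟩
    letI : Algebra Γ(Curv2.normalization X, V) ((Curv2.normalization X).presheaf.stalk x') :=
      TopCat.Presheaf.algebra_section_stalk (Curv2.normalization X).presheaf ⟨x', hxU⟩
    haveI : IsLocalization.AtPrime ((Curv2.normalization X).presheaf.stalk x') q.asIdeal :=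
      hV.isLocalization_stalk ⟨x', hxU⟩
    letI : Algebra Γ(X, U) (X.presheaf.stalk (ν x')) := TopCat.Presheaf.algebra_section_stalk X.presheaf ⟨ν x', hxU⟩
    haveI : IsLocalization.AtPrime (X.presheaf.stalk (ν x')) (hU.primeIdealOf ⟨ν x', hxU⟩).asIdeal :=
      hU.isLocalization_stalk ⟨ν x', hxU⟩
    have hle : ringKrullDim ((Curv2.normalization X).presheaf.stalk x') ≤ 1 := by
      rw [← hdim, IsLocalization.AtPrime.ringKrullDim_eq_height q.asIdeal ((Curv2.normalization X).presheaf.stalk x'),
        IsLocalization.AtPrime.ringKrullDim_eq_height (hU.primeIdealOf ⟨ν x', hxU⟩).asIdeal (X.presheaf.stalk (ν x'))]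
      refine WithBot.coe_le_coe.2 ?_
      rw [PrimeSpectrum.height_eq_orderHeight, PrimeSpectrum.height_eq_orderHeight]
      have hm : StrictMono (PrimeSpectrum.comap (algebraMap Γ(X, U) Γ(Curv2.normalization X, V))) :=
        fun P Q hPQ => Ideal.IsIntegral.comap_lt_comap (R := Γ(X, U)) hPQ
      refine (Order.height_le_height_apply_of_strictMono _ hm q).trans (le_of_eq ?_)
      exact congrArg Order.height (PrimeSpectrum.ext hq)
    let B := (Curv2.normalization X).presheaf.stalk x'
    haveI : IsDomain B := (hnor x').1
    haveI : IsIntegrallyClosed B := (hnor x').2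
    haveI : Ring.KrullDimLE 1 B := Ring.krullDimLE_iff.2 hle
    haveI : Ring.DimensionLEOne B := ⟨fun hne hp => hp.isMaximal_of_ne_bot hne⟩
    haveI : IsDedekindDomain B := { }
    haveI : IsRegularRing B := inferInstance
    haveI : IsRegularLocalRing B := IsRegularLocalRing.of_isRegularRing_of_isLocalRing B
    haveI : Algebra.IsGeometricallyReduced k (IsLocalRing.ResidueField B) := by
      letI : Algebra k ((Curv2.normalization X).residueField x') := (Curv2.resMap k (Curv2.normalization X) x').toAlgebra
      haveI h0 : GeometricallyReduced (Spec.map (CommRingCat.ofHom (algebraMap k ((Curv2.normalization X).residueField x')))) :=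
        hsep x' rfl
      have h1 : Algebra.IsGeometricallyReduced k ((Curv2.normalization X).residueField x') := by
        rw [Algebra.isGeometricallyReduced_field_iff]
        exact (NearGen.geometricallyReduced_Spec_iff k _).1 h0 (AlgebraicClosure k)
      let ε : IsLocalRing.ResidueField B →ₐ[k] (Curv2.normalization X).residueField x' :=
        { RingHom.id (IsLocalRing.ResidueField B) with commutes' := fun c => rfl }
      exact Algebra.IsGeometricallyReduced.of_injective ε fun a b h => h
    exact GeomRedPtLib.isGeometricallyRegular_of_separable_residue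
  refine ⟨?_, fun x' hx' => GeomRedPtLib.isGeomRegularAt_of_isGeometricallyRegular x' (hreg x' hx')⟩
  obtain ⟨x', hx'⟩ : ∃ x', ν x' = x := by
    have hc : IsClosed (Set.range ν) := ν.isClosedMap.isClosed_range
    have : x ∈ closure (Set.range ν) := by rw [ν.denseRange.closure_range]; trivial
    rwa [hc.closure_eq] at this
  have h2 := GeomRedPtLib.isGeometricallyReduced_of_isGeometricallyRegular (hreg x' hx')
  subst hx'
  rw [GeomRedPtLib.isGeomReducedAt_iff]
  haveI := h2
  let ψ : X.presheaf.stalk (ν x') →ₐ[k] (Curv2.normalization X).presheaf.stalk x' :=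
    { (ν.stalkMap x').hom with
      commutes' := fun c => Scheme.Hom.germ_stalkMap_apply ν ⊤ x' trivial (Coh.toGlobal (X ↘ Spec (CommRingCat.of k)) c) }
  exact Algebra.IsGeometricallyReduced.of_injective ψ (GeomRedPtLib.stalkMap_injective_of_dominant ν x')

end Groth.Agent.S7617
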