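import Groth.Statements.S7618
import Groth.Agent.CubeLib.ConnConst

set_option autoImplicit false
universe u
open CategoryTheory CategoryTheory.Limits AlgebraicGeometry
open Variety

namespace Groth.Agent.S7618

/-- Let X be a connected reduced scheme over a field k. Then the global functions on X that are integral
over k form a field. -/
theorem result (k : Type u) [Field k] (X : Scheme.{u}) [X.Over (Spec (CommRingCat.of k))] [ConnectedSpace ↥X] [IsReduced X] :
    letI := ((X ↘ (Spec (CommRingCat.of k))).appTop.hom.comp (Scheme.ΓSpecIso (CommRingCat.of k)).inv.hom : k →+* Γ(X, ⊤)).toAlgebra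
    IsField ↥(integralClosure k ↑Γ(X, ⊤)) := by
  letI := ((X ↘ (Spec (CommRingCat.of k))).appTop.hom.comp (Scheme.ΓSpecIso (CommRingCat.of k)).inv.hom : k →+* Γ(X, ⊤)).toAlgebra
  haveI : Nonempty X := inferInstance
  haveI : Nonempty (⊤ : X.Opens) := ⟨⟨Classical.arbitrary X, trivial⟩⟩
  haveI : Nontrivial Γ(X, ⊤) := Scheme.component_nontrivial X ⊤
  refine { exists_pair_ne := ⟨0, 1, zero_ne_one⟩, mul_comm := mul_comm, mul_inv_cancel := fun {a} ha => ?_ }
  let B : Subalgebra k ↥(integralClosure k ↑Γ(X, ⊤)) := Algebra.adjoin k {a}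
  have hint : IsIntegral k a := Algebra.IsIntegral.isIntegral a
  haveI : Module.Finite k B := Module.Finite.iff_fg.2 hint.fg_adjoin_singleton
  haveI : IsArtinianRing B := IsArtinianRing.of_finite k B
  obtain ⟨n, y, hy⟩ := IsArtinian.exists_pow_succ_smul_dvd (⟨a, Algebra.subset_adjoin rfl⟩ : B) (1 : B)
  have hy' : a ^ n.succ * (y : ↥(integralClosure k ↑Γ(X, ⊤))) = a ^ n := by
    have := congrArg (fun b : B => (b : ↥(integralClosure k ↑Γ(X, ⊤)))) hy
    simpa using this
  set y' : ↥(integralClosure k ↑Γ(X, ⊤)) := ↑y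
  have hrec : ∀ j, a ^ (n + j) * y' ^ j = a ^ n := fun j => by
    induction j with
    | zero => simp
    | succ j ih =>
      calc a ^ (n + (j + 1)) * y' ^ (j + 1) = (a ^ n.succ * y') * (a ^ j * y' ^ j) := by
            rw [Nat.succ_eq_add_one]; ring
        _ = a ^ n := by rw [hy', ← mul_assoc, ← pow_add, ih]
  have he : (a * y') ^ n * (a * y') ^ n = (a * y') ^ n := by
    calc (a * y') ^ n * (a * y') ^ n = (a ^ (n + n) * y' ^ n) * y' ^ n := by ring
      _ = (a * y') ^ n := by rw [hrec n, mul_pow]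
  have he' : ((a * y') ^ n).1 * ((a * y') ^ n).1 = ((a * y') ^ n).1 := congrArg Subtype.val he
  rcases CubeLib.eq_zero_or_one_of_idem he' with h | h
  · exfalso
    haveI : _root_.IsReduced ↥(integralClosure k ↑Γ(X, ⊤)) :=
      isReduced_of_injective (integralClosure k ↑Γ(X, ⊤)).val Subtype.val_injective
    refine ha (IsReduced.eq_zero a ⟨n, ?_⟩)
    have h' : (a * y') ^ n = 0 := Subtype.ext h
    rw [← hrec n, pow_add, mul_assoc, ← mul_pow, h']
    exact mul_zero _
  · have h' : (a * y') ^ n = 1 := Subtype.ext h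
    cases n with
    | zero => exact ⟨y', by simpa using hy'⟩
    | succ n => exact ⟨(a * y') ^ n * y', by rw [← h']; ring⟩


end Groth.Agent.S7618
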