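import Groth.Statements.S7619
set_option maxHeartbeats 800000
-- import your own Groth.Agent.* helpers here

set_option autoImplicit false
universe u
open CategoryTheory CategoryTheory.Limits AlgebraicGeometry
open scoped TensorProduct
open Variety

namespace Groth.Agent.S7619

/-- Let A → B be a finite type ring map (a finite type morphism of affine schemes), q a prime of B and r
= dim_{κ(q)} Ω_{B/A} ⊗_B κ(q). Then there is an A-algebra homomorphism A[x_1, …, x_r] → B for which
B is unramified over A[x_1, …, x_r] at q. -/
theorem result (A B : Type u) [CommRing A] [CommRing B] [Algebra A B] [Algebra.FiniteType A B]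
    (q : Ideal B) [q.IsPrime] (r : ℕ) (hr : Module.finrank q.ResidueField (q.ResidueField ⊗[B] Ω[B⁄A]) = r) :
    ∃ φ : MvPolynomial (Fin r) A →ₐ[A] B,
      letI := φ.toRingHom.toAlgebra
      Algebra.IsUnramifiedAt (MvPolynomial (Fin r) A) q := by
  classical
  let K := q.ResidueField
  let V := K ⊗[B] Ω[B⁄A]
  let s : Set V := Set.range fun x : B => (1 : K) ⊗ₜ[B] KaehlerDifferential.D A B x
  have hs : Submodule.span K s = ⊤ := by
    rw [eq_top_iff]
    rintro z -
    induction z using TensorProduct.induction_on with
    | zero => exact Submodule.zero_mem _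
    | add a b ha hb => exact Submodule.add_mem _ ha hb
    | tmul c m =>
      rw [show c ⊗ₜ[B] m = c • ((1 : K) ⊗ₜ[B] m) by rw [TensorProduct.smul_tmul', smul_eq_mul, mul_one]]
      refine Submodule.smul_mem _ _ ?_
      have hm : m ∈ Submodule.span B (Set.range (KaehlerDifferential.D A B)) := by
        rw [KaehlerDifferential.span_range_derivation]; trivial
      induction hm using Submodule.span_induction with
      | mem x hx => obtain ⟨x, rfl⟩ := hx; exact Submodule.subset_span ⟨x, rfl⟩
      | zero => rw [TensorProduct.tmul_zero]; exact Submodule.zero_mem _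
      | add x y _ _ hx hy => rw [TensorProduct.tmul_add]; exact Submodule.add_mem _ hx hy
      | smul a x _ hx =>
        rw [TensorProduct.tmul_smul, ← algebraMap_smul K a]
        exact Submodule.smul_mem _ _ hx
  have hrk : Module.finrank K (Submodule.span K s) = r := by
    rw [hs, finrank_top]; exact hr
  obtain ⟨f, hfs, hfspan, -⟩ := Submodule.exists_fun_fin_finrank_span_eq K s
  choose b hb using fun i => hfs (Fin.cast hrk.symm i)
  let φ : MvPolynomial (Fin r) A →ₐ[A] B := MvPolynomial.aeval b
  refine ⟨φ, ?_⟩
  letI : Algebra (MvPolynomial (Fin r) A) B := φ.toRingHom.toAlgebra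
  haveI : IsScalarTower A (MvPolynomial (Fin r) A) B := .of_algebraMap_eq fun a => (φ.commutes a).symm
  haveI : Algebra.FiniteType (MvPolynomial (Fin r) A) B :=
    Algebra.FiniteType.of_restrictScalars_finiteType A _ B
  show (⟨q, inferInstance⟩ : PrimeSpectrum B) ∈ Algebra.unramifiedLocus (MvPolynomial (Fin r) A) B
  rw [Algebra.unramifiedLocus_eq_compl_support, Set.mem_compl_iff,
    Module.mem_support_iff_nontrivial_residueField_tensorProduct, not_nontrivial_iff_subsingleton]
  let μ : V →ₗ[K] K ⊗[B] Ω[B⁄MvPolynomial (Fin r) A] :=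
    (KaehlerDifferential.map A (MvPolynomial (Fin r) A) B B).baseChange K
  have hμ : Function.Surjective μ :=
    LinearMap.lTensor_surjective K (KaehlerDifferential.map_surjective A (MvPolynomial (Fin r) A) B)
  have hker : (⊤ : Submodule K V) ≤ LinearMap.ker μ := by
    rw [← hs, ← hfspan, Submodule.span_le]
    rintro _ ⟨j, rfl⟩
    obtain ⟨i, rfl⟩ : ∃ i, Fin.cast hrk.symm i = j := ⟨Fin.cast hrk j, by simp⟩
    rw [← hb i]
    show μ ((1 : K) ⊗ₜ[B] KaehlerDifferential.D A B (b i)) = 0
    show (1 : K) ⊗ₜ[B] KaehlerDifferential.map A (MvPolynomial (Fin r) A) B B (KaehlerDifferential.D A B (b i)) = 0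
    rw [KaehlerDifferential.map_D,
      show algebraMap B B (b i) = algebraMap (MvPolynomial (Fin r) A) B (MvPolynomial.X i) by simp [RingHom.algebraMap_toAlgebra, φ],
      Derivation.map_algebraMap, TensorProduct.tmul_zero]
  refine subsingleton_of_forall_eq 0 fun z => ?_
  obtain ⟨w, rfl⟩ := hμ z
  exact LinearMap.mem_ker.1 (hker Submodule.mem_top)

end Groth.Agent.S7619
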