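import Groth.Statements.S7620
import Groth.Agent.NearGen.Dim
set_option maxHeartbeats 800000
-- import your own Groth.Agent.* helpers here

set_option autoImplicit false
universe u
open CategoryTheory CategoryTheory.Limits AlgebraicGeometry
open scoped TensorProduct
open Variety

namespace Groth.Agent.S7620

/-- Let A → B be a finite type ring map (a finite type morphism of affine schemes X → S), p a prime of A
and suppose the fibre ring κ(p) ⊗_A B has Krull dimension d. Then there is an A-algebra homomorphism
π : A[t_1, …, t_d] → B such that the induced map of fibres κ(p) ⊗_A A[t_1, …, t_d] → κ(p) ⊗_A B is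
finite. -/
theorem result (A B : Type u) [CommRing A] [CommRing B] [Algebra A B] [Algebra.FiniteType A B]
    (p : Ideal A) [p.IsPrime] (d : ℕ) (hd : ringKrullDim (p.ResidueField ⊗[A] B) = d) :
    ∃ π : MvPolynomial (Fin d) A →ₐ[A] B,
      (Algebra.TensorProduct.map (AlgHom.id p.ResidueField p.ResidueField) π).toRingHom.Finite := by
  classical
  let K := p.ResidueField
  let T := K ⊗[A] B
  haveI hnt : Nontrivial T := by
    by_contra h
    rw [not_nontrivial_iff_subsingleton] at h
    haveI := h
    rw [ringKrullDim_eq_bot_of_subsingleton] at hd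
    exact absurd hd.symm (WithBot.natCast_ne_bot d)
  obtain ⟨e, g, hg, hgfin⟩ := exists_finite_inj_algHom_of_fg K T
  obtain rfl : e = d := by
    have h1 : ringKrullDim (MvPolynomial (Fin e) K) = ringKrullDim T :=
      GrSegreLib.ringKrullDim_eq_of_integral_injective g.toRingHom hg (RingHom.IsIntegral.of_finite hgfin)
    rw [MvPolynomial.ringKrullDim_of_isNoetherianRing, ringKrullDim_eq_zero_of_field, zero_add, hd] at h1
    simpa using h1
  have hfrac : ∀ z : T, ∃ (s : A) (b : B), algebraMap A K s ≠ 0 ∧ algebraMap A K s • z = (1 : K) ⊗ₜ[A] b := by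
    intro z
    induction z using TensorProduct.induction_on with
    | zero => exact ⟨1, 0, by simp, by simp⟩
    | tmul c b =>
      obtain ⟨a, ⟨s, hs⟩, rfl⟩ := IsLocalization.exists_mk'_eq (nonZeroDivisors (A ⧸ p)) c
      obtain ⟨a, rfl⟩ := Ideal.Quotient.mk_surjective a
      obtain ⟨s, rfl⟩ := Ideal.Quotient.mk_surjective s
      refine ⟨s, a • b, ?_, ?_⟩
      · rw [ne_eq, Ideal.algebraMap_residueField_eq_zero, ← Ideal.Quotient.eq_zero_iff_mem]
        exact nonZeroDivisors.ne_zero hs
      · have h1 := IsLocalization.mk'_spec' p.ResidueField (Ideal.Quotient.mk p a) ⟨Ideal.Quotient.mk p s, hs⟩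
        simp only [Ideal.algebraMap_quotient_residueField_mk] at h1
        rw [TensorProduct.smul_tmul', smul_eq_mul, h1, Algebra.algebraMap_eq_smul_one, TensorProduct.smul_tmul]
    | add z w hz hw =>
      obtain ⟨s, b, hs, hb⟩ := hz
      obtain ⟨t, c, ht, hc⟩ := hw
      refine ⟨s * t, t • b + s • c, by rw [map_mul]; exact mul_ne_zero hs ht, ?_⟩
      rw [map_mul, smul_add, mul_smul, mul_smul, hc, smul_comm, hb, TensorProduct.tmul_add,
        ← TensorProduct.smul_tmul (R := A), ← TensorProduct.smul_tmul (R := A), algebraMap_smul, algebraMap_smul,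
        TensorProduct.smul_tmul', TensorProduct.smul_tmul']
  choose s b hs hb using fun i => hfrac (g (MvPolynomial.X i))
  let σ : MvPolynomial (Fin e) K →ₐ[K] MvPolynomial (Fin e) K :=
    MvPolynomial.aeval fun i => algebraMap A K (s i) • MvPolynomial.X i
  have hσ : Function.Surjective σ := by
    let τ : MvPolynomial (Fin e) K →ₐ[K] MvPolynomial (Fin e) K :=
      MvPolynomial.aeval fun i => (algebraMap A K (s i))⁻¹ • MvPolynomial.X i
    have hστ : σ.comp τ = AlgHom.id K _ := MvPolynomial.algHom_ext fun i => by
      simp [σ, τ, smul_smul, inv_mul_cancel₀ (hs i), -algebraMap_smul]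
    exact fun x => ⟨τ x, AlgHom.congr_fun hστ x⟩
  let π : MvPolynomial (Fin e) A →ₐ[A] B := MvPolynomial.aeval b
  refine ⟨π, ?_⟩
  have heq : Algebra.TensorProduct.map (AlgHom.id p.ResidueField p.ResidueField) π =
      (g.comp σ).comp (MvPolynomial.algebraTensorAlgEquiv A K).toAlgHom := by
    apply Algebra.TensorProduct.ext
    · exact AlgHom.ext fun c => (AlgHom.commutes _ c).trans (AlgHom.commutes _ c).symm
    · refine MvPolynomial.algHom_ext fun i => ?_
      simp [π, σ, -algebraMap_smul, hb, T, K]
  rw [heq]
  exact RingHom.Finite.comp (RingHom.Finite.comp hgfin (RingHom.Finite.of_surjective _ hσ))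
    (RingHom.Finite.of_surjective _ (MvPolynomial.algebraTensorAlgEquiv A K).surjective)

end Groth.Agent.S7620
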