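import Groth.Statements.S7621
import Groth.Agent.S7628
import Mathlib
set_option backward.isDefEq.respectTransparency false
open CategoryTheory CategoryTheory.Limits
-- import your own Groth.Agent.* helpers here

set_option autoImplicit false
universe u
open CategoryTheory CategoryTheory.Limits AlgebraicGeometry
open Variety

namespace Groth.Agent.S7621

/-- Let K be a (possibly infinite) Galois extension of a field k, X a scheme over k and V a
quasi-compact open subset of X_K. Then there is a subextension k'/k of K, finite over k, such that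
every k-automorphism of K fixing k' pointwise maps V onto itself under its action on X_K (an open
subgroup of the Galois group stabilises V). -/
theorem result (k : Type u) [Field k] (K : Type u) [Field K] [Algebra k K] [IsGalois k K]
    (X : Scheme.{u}) [X.Over (Spec (CommRingCat.of k))] (V : Set ↥(Curv2.bc k X K)) (hV : IsOpen V) (hVc : IsCompact V) :
    ∃ E : IntermediateField k K, FiniteDimensional k ↥E ∧
      ∀ σ : K ≃ₐ[k] K, (∀ a : K, a ∈ E → σ a = a) → (Curv2.galAct k X K σ).base '' V = V := by
  obtain ⟨A', ⟨t, ht⟩, V', -, -, hV'⟩ := Groth.Agent.S7628.result k X K V hV hVc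
  refine ⟨IntermediateField.adjoin k (t : Set K), IntermediateField.finiteDimensional_adjoin
    (fun x _ => Algebra.IsIntegral.isIntegral x), fun σ hσ => ?_⟩
  have hfix : ∀ (τ : K ≃ₐ[k] K), (∀ a ∈ (t : Set K), τ a = a) → (τ : K →ₐ[k] K).comp A'.val = A'.val := by
    intro τ hτ
    refine AlgHom.ext fun a => ?_
    have ha : (a : K) ∈ Algebra.adjoin k (t : Set K) := ht.symm ▸ a.2
    exact (Algebra.adjoin_le (S := AlgHom.equalizer (τ : K →ₐ[k] K) (AlgHom.id k K)) hτ) ha
  let p := X ↘ Spec (CommRingCat.of k)
  let π : Curv2.bc k X K ⟶ pullback p (Spec.map (CommRingCat.ofHom (algebraMap k ↥A'))) :=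
    pullback.map _ _ _ _ (𝟙 X) (Spec.map (CommRingCat.ofHom A'.val.toRingHom)) (𝟙 _) (by simp [p])
      (by rw [Category.comp_id, ← Spec.map_comp, ← CommRingCat.ofHom_comp, AlgHom.toRingHom_eq_coe, AlgHom.comp_algebraMap])
  have hπ := hV' π ((pullback.lift_fst _ _ _).trans (Category.comp_id _)) (pullback.lift_snd _ _ _)
  have hfσ : ∀ a ∈ (t : Set K), σ a = a := fun a ha => hσ a (IntermediateField.subset_adjoin k _ ha)
  have hcomp : Curv2.galAct k X K σ ≫ π = π := by
    apply pullback.hom_ext
    · simp [π, Curv2.galAct]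
    · simp only [π, Curv2.galAct, Category.assoc, pullback.lift_snd, pullback.lift_snd_assoc]
      rw [← Spec.map_comp, ← CommRingCat.ofHom_comp, AlgHom.toRingHom_eq_coe, AlgHom.toRingHom_eq_coe,
        ← AlgHom.comp_toRingHom, hfix σ hfσ]
  have hinv : Curv2.galAct k X K σ.symm ≫ Curv2.galAct k X K σ = 𝟙 _ := by
    apply pullback.hom_ext
    · simp [Curv2.galAct]
    · simp only [Curv2.galAct, Category.assoc, pullback.lift_snd, pullback.lift_snd_assoc, Category.id_comp]
      rw [← Spec.map_comp, ← CommRingCat.ofHom_comp, AlgHom.toRingHom_eq_coe, AlgHom.toRingHom_eq_coe,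
        ← AlgHom.comp_toRingHom, AlgEquiv.symm_comp]
      exact (congrArg (pullback.snd p _ ≫ ·) (Spec.map_id _)).trans (Category.comp_id _)
  have hpre : (Curv2.galAct k X K σ).base ⁻¹' V = V := by
    conv_rhs => rw [← hπ, ← hcomp]
    conv_lhs => rw [← hπ]
    rw [← Set.preimage_comp]
    rfl
  conv_lhs => rw [← hpre]
  refine Set.image_preimage_eq V fun w => ⟨(Curv2.galAct k X K σ.symm).base w, ?_⟩
  rw [← Scheme.Hom.comp_apply, hinv]
  rfl

end Groth.Agent.S7621
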