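import Groth.Statements.S7622
import Groth.Agent.PSStructLib.Basic
import Groth.Agent.RegLocal.Completion
import Groth.Agent.NodeComplLib.Basic
import Groth.Agent.CIFlatLib.Basic
import Groth.Agent.S2452

set_option autoImplicit false
universe u
open CategoryTheory CategoryTheory.Limits AlgebraicGeometry
open Variety

namespace Groth.Agent.S7622

open CategoryTheory CategoryTheory.Limits AlgebraicGeometry

open Groth.Agent IsLocalRing
set_option backward.isDefEq.respectTransparency false

/-- Let A be a Noetherian local algebra over a field k (such as the local ring of a locally Noetherian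
k-scheme at a point) whose residue field κ is a separable extension of k, meaning geometrically
reduced over k; κ need not be algebraic over k. Then there are n ≥ 0, an ideal I of κ[[x_1, …, x_n]]
and a k-algebra isomorphism e from κ[[x_1, …, x_n]]/I onto the completion A^∧ of A at its maximal
ideal which induces the identity on residue fields: for every a in A, the value of e on the constant
power series whose value is the residue class of a is congruent to the image of a modulo the
extended maximal ideal of A^∧. -/
theorem result (k A : Type u) [Field k] [CommRing A] [Algebra k A]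
    [IsNoetherianRing A] [IsLocalRing A] [Algebra.IsGeometricallyReduced k (IsLocalRing.ResidueField A)] :
    ∃ (n : ℕ) (I : Ideal (MvPowerSeries (Fin n) (IsLocalRing.ResidueField A)))
      (e : (MvPowerSeries (Fin n) (IsLocalRing.ResidueField A) ⧸ I) ≃ₐ[k]
        AdicCompletion (IsLocalRing.maximalIdeal A) A),
      ∀ a : A, e (Ideal.Quotient.mk I (MvPowerSeries.C (IsLocalRing.residue A a))) -
          algebraMap A (AdicCompletion (IsLocalRing.maximalIdeal A) A) a ∈
        (IsLocalRing.maximalIdeal A).map (algebraMap A (AdicCompletion (IsLocalRing.maximalIdeal A) A)) := by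
  let Ah := AdicCompletion (maximalIdeal A) A
  have hI : maximalIdeal A ≠ ⊤ := (maximalIdeal.isMaximal A).ne_top
  haveI : IsLocalRing Ah := RegLocal.isLocalRing_completion A _ hI
  haveI : IsNoetherianRing Ah := NodeComplLib.isNoetherianRing_completion A
  haveI : IsAdicComplete (maximalIdeal Ah) Ah := CIFlatLib.isAdicComplete_completion A
  have hm : maximalIdeal Ah = (maximalIdeal A).map (algebraMap A Ah) := RegLocal.maximalIdeal_completion A _ hI
  haveI : IsLocalHom (algebraMap A Ah) := ((IsLocalRing.local_hom_TFAE _).out 0 2).mpr (by rw [hm])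
  let φ : ResidueField A →+* ResidueField Ah := ResidueField.map (algebraMap A Ah)
  have hφ : Function.Surjective φ := fun y => by
    obtain ⟨y, rfl⟩ := residue_surjective y
    obtain ⟨a, ha⟩ := Ideal.Quotient.mk_surjective (AdicCompletion.evalOneₐ (maximalIdeal A) y)
    refine ⟨residue A a, ?_⟩
    rw [ResidueField.map_residue]
    refine Ideal.Quotient.eq.2 ?_
    rw [hm, ← AdicCompletion.ker_evalOneₐ_eq_map (maximalIdeal A) (maximalIdeal A).fg_of_isNoetherianRing,
      RingHom.mem_ker, map_sub, sub_eq_zero, AlgHom.toRingHom_eq_coe, RingHom.coe_coe, AlgHom.commutes]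
    exact ha
  let E : ResidueField A ≃ₐ[k] ResidueField Ah := AlgEquiv.ofRingEquiv
    (f := RingEquiv.ofBijective φ ⟨φ.injective, hφ⟩) fun c => by
      show φ (residue A (algebraMap k A c)) = residue Ah (algebraMap k Ah c)
      rw [ResidueField.map_residue, ← IsScalarTower.algebraMap_apply]
  haveI : Algebra.IsGeometricallyReduced k (ResidueField Ah) :=
    Algebra.IsGeometricallyReduced.of_injective E.symm.toAlgHom E.symm.injective
  obtain ⟨σ, hσ⟩ := Groth.Agent.S2452.result (k := k) (A := Ah)
  letI : Algebra (ResidueField A) Ah := ((σ.comp E.toAlgHom).toRingHom).toAlgebra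
  haveI : IsScalarTower k (ResidueField A) Ah := IsScalarTower.of_algebraMap_eq fun c => ((σ.comp E.toAlgHom).commutes c).symm
  have hres : ∀ a : A, residue Ah (algebraMap (ResidueField A) Ah (residue A a)) = residue Ah (algebraMap A Ah a) := fun a =>
    (hσ _).trans (ResidueField.map_residue _ a)
  obtain ⟨x, hx⟩ := RegLocal.exists_generators (R := Ah)
  obtain ⟨ψ, hψ⟩ := Groth.Agent.ArtFunLib.ps_exists_lift (Λ := ResidueField A) (maximalIdeal Ah) x fun i =>
    hx ▸ Ideal.subset_span ⟨i, rfl⟩
  have hk : Function.Surjective ((residue Ah).comp (algebraMap (ResidueField A) Ah)) := fun y => by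
    obtain ⟨z, rfl⟩ := hφ y
    exact ⟨z, hσ _⟩
  have hsurj : Function.Surjective ψ := PSStructLib.surjective_of_span ψ hk (by rw [funext hψ]; exact hx)
  refine ⟨_, RingHom.ker ψ.toRingHom, ((Ideal.quotientKerAlgEquivOfSurjective hsurj).restrictScalars k), fun a => ?_⟩
  rw [← hm, ← residue_eq_zero_iff, map_sub, sub_eq_zero, ← hres a]
  exact congrArg (residue Ah) (ψ.commutes (residue A a))

end Groth.Agent.S7622
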