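import Groth.Statements.S7624
import Groth.Agent.OpenDim.Indep
import Groth.Agent.DimFormulaLib.FibreComp

set_option autoImplicit false
universe u
open CategoryTheory CategoryTheory.Limits AlgebraicGeometry
open Variety

namespace Groth.Agent.S7624

/-- Let R be a valuation ring, X an irreducible scheme and f : X → Spec R a surjective morphism locally
of finite type. Then each irreducible component of the fibre of f over the closed point of Spec R
has Krull dimension equal to that of the fibre of f over the generic point. -/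
theorem result (R : Type u) [CommRing R] [IsDomain R] [ValuationRing R]
    (X : Scheme.{u}) [IrreducibleSpace ↥X] (f : X ⟶ Spec (CommRingCat.of R)) [LocallyOfFiniteType f] [Surjective f]
    (Z : Set ↥(f.fiber (IsLocalRing.closedPoint R))) (hZ : Z ∈ irreducibleComponents ↥(f.fiber (IsLocalRing.closedPoint R))) :
    topologicalKrullDim ↥Z = topologicalKrullDim ↥(f.fiber (⟨⊥, Ideal.bot_prime⟩ : PrimeSpectrum R)) := by
  let η : ↥(Spec (CommRingCat.of R)) := (⟨⊥, Ideal.bot_prime⟩ : PrimeSpectrum R)
  let ξ := genericPoint X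
  have hgen : ∀ z : ↥(Spec (CommRingCat.of R)), η ⤳ z := fun z =>
    (PrimeSpectrum.le_iff_specializes _ _).1 (show (⊥ : Ideal R) ≤ _ from bot_le)
  have hfξ : f ξ = η := by
    obtain ⟨x, hx⟩ := f.surjective η
    have h1 : f ξ ⤳ η := hx ▸ (genericPoint_specializes x).map f.continuous
    exact (h1.antisymm (hgen _)).eq
  obtain ⟨z, rfl, hzmax⟩ := Groth.Agent.DimFormulaLib.exists_generic_of_mem_irreducibleComponents hZ
  let y := IsLocalRing.closedPoint R
  let e : ↥(f.fiber y) → X := fun v => (f.fiberHomeo y v).1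
  have he : Topology.IsEmbedding e := Topology.IsEmbedding.subtypeVal.comp (f.fiberHomeo y).isEmbedding
  have hy : f (e z) = y := (f.fiberHomeo y z).2
  have hrange : ∀ x' : X, f x' = y → ∃ v, e v = x' := fun x' hx' => by
    obtain ⟨v, hv⟩ := (f.fiberHomeo y).surjective ⟨x', hx'⟩
    exact ⟨v, congrArg Subtype.val hv⟩
  let S : Set X := closure {e z} ∩ Set.univ ∩ f ⁻¹' {y}
  have hS : e '' closure {z} = S := by
    rw [he.closure_eq_preimage_closure_image, Set.image_singleton, Set.image_preimage_eq_inter_range]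
    ext x'
    simp only [S, Set.inter_univ, Set.mem_inter_iff, Set.mem_preimage, Set.mem_singleton_iff, Set.mem_range]
    exact ⟨fun ⟨h1, v, hv⟩ => ⟨h1, hv ▸ (f.fiberHomeo y v).2⟩, fun ⟨h1, h2⟩ => ⟨h1, hrange x' h2⟩⟩
  have hhom : topologicalKrullDim ↥(closure ({z} : Set ↥(f.fiber y))) = topologicalKrullDim ↥S := by
    rw [← hS]
    exact IsHomeomorph.topologicalKrullDim_eq _ (he.homeomorphImage _).isHomeomorph
  obtain ⟨w, -, hwx, hfw, hle⟩ := Groth.Agent.OpenDim.exists_trd_ge f (genericPoint_specializes (e z) : ξ ⤳ e z)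
  obtain rfl : w = e z := by
    obtain ⟨v, rfl⟩ := hrange w (hfw.trans hy)
    rw [hzmax v (he.isInducing.specializes_iff.1 hwx)]
  have hdim : topologicalKrullDim ↥(closure ({z} : Set ↥(f.fiber y))) =
      (Groth.Agent.OpenDim.trd f (e z) : WithBot ℕ∞) := by
    rw [hhom]
    refine le_antisymm
      (Groth.Agent.OpenDim.dim_inter_le f (closure {e z}) isClosed_closure Set.univ isOpen_univ y S rfl fun v hv => ?_)
      (Groth.Agent.OpenDim.trd_le_dim_inter f (closure {e z}) isClosed_closure Set.univ isOpen_univ y S rfl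
        ⟨⟨subset_closure rfl, trivial⟩, hy⟩)
    exact_mod_cast Groth.Agent.OpenDim.trd_le f (specializes_iff_mem_closure.2 hv.1.1) (hy.trans hv.2.symm)
  have hge : Groth.Agent.OpenDim.trd f (e z) ≤ Groth.Agent.OpenDim.trd f ξ :=
    Groth.Agent.OpenDim.trd_le_of_valuationRing f hy (genericPoint_specializes _) hfξ
  have hη : topologicalKrullDim ↥(f.fiber η) = (Groth.Agent.OpenDim.trd f ξ : WithBot ℕ∞) := by
    rw [IsHomeomorph.topologicalKrullDim_eq _ (f.fiberHomeo η).isHomeomorph]
    refine le_antisymm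
      (Groth.Agent.OpenDim.dim_inter_le f Set.univ isClosed_univ Set.univ isOpen_univ η _ (by simp) fun v hv => ?_)
      (Groth.Agent.OpenDim.trd_le_dim_inter f Set.univ isClosed_univ Set.univ isOpen_univ η _ (by simp) hfξ)
    exact_mod_cast Groth.Agent.OpenDim.trd_le f (genericPoint_specializes v) (hfξ.trans hv.symm)
  rw [hdim, hη, le_antisymm hge hle]

end Groth.Agent.S7624
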