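import Groth.Statements.S9175
import Groth.Agent.DimFormulaLib.LocalDim
import Groth.Agent.GrSegreLib.Dim
-- import your own Groth.Agent.* helpers here

set_option autoImplicit false
universe u
open CAlg

namespace Groth.Agent.S9175

open scoped TensorProduct

theorem exists_basicOpen_dim {S : Type u} [CommRing S] (p : PrimeSpectrum S) (n : ℕ)
    (hdim : FlatMor.localDim (PrimeSpectrum S) p = (n : WithBot ℕ∞)) :
    ∃ f : S, f ∉ p.asIdeal ∧ ringKrullDim (Localization.Away f) = n := by
  haveI : Nonempty {U : TopologicalSpace.Opens (PrimeSpectrum S) // p ∈ U} := ⟨⟨⊤, trivial⟩⟩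
  obtain ⟨U, hU⟩ := ciInf_mem fun U : {U : TopologicalSpace.Opens (PrimeSpectrum S) // p ∈ U} =>
    topologicalKrullDim (U.1 : Set (PrimeSpectrum S))
  obtain ⟨_, ⟨f, rfl⟩, hpf, hfU⟩ :=
    PrimeSpectrum.isTopologicalBasis_basic_opens.exists_subset_of_mem_open
      (show p ∈ (U.1 : Set (PrimeSpectrum S)) from U.2) U.1.isOpen
  refine ⟨f, hpf, ?_⟩
  rw [← DimFormulaLib.topologicalKrullDim_basicOpen]
  refine le_antisymm ?_ (hdim.symm.le.trans (iInf_le_of_le ⟨PrimeSpectrum.basicOpen f, hpf⟩ le_rfl))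
  exact (Topology.IsEmbedding.inclusion hfU).isInducing.topologicalKrullDim_le.trans (hU.trans hdim).le

variable {R S : Type u} [CommRing R] [CommRing S] [Algebra R S]

theorem exists_coords [Algebra.FiniteType R S] (p : Ideal R) [p.IsPrime] (q : Ideal S) [q.IsPrime] [q.LiesOver p]
    (Q : PrimeSpectrum (p.Fiber S))
    (hQ : Q.asIdeal.comap (Algebra.TensorProduct.includeRight.toRingHom) = q) (n : ℕ)
    (hdim : FlatMor.localDim (PrimeSpectrum (p.Fiber S)) Q = (n : WithBot ℕ∞)) :
    ∃ h0 : S, h0 ∉ q ∧ ∃ (c : Fin n → Localization.Away h0)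
      (ψ : Localization.Away h0 →+* Localization.Away ((1 : p.ResidueField) ⊗ₜ[R] h0 : p.Fiber S))
      (g : MvPolynomial (Fin n) p.ResidueField →ₐ[p.ResidueField]
        Localization.Away ((1 : p.ResidueField) ⊗ₜ[R] h0 : p.Fiber S)),
      g.toRingHom.Finite ∧
      (∀ s : S, ψ (algebraMap _ _ s) = algebraMap (p.Fiber S) _ ((1 : p.ResidueField) ⊗ₜ[R] s)) ∧
      ∀ i, ∃ k : p.ResidueField, g (MvPolynomial.X i) = algebraMap p.ResidueField _ k * ψ (c i) := by
  obtain ⟨h, hh, hd⟩ := exists_basicOpen_dim Q n hdim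
  obtain ⟨s, hs, h0, hsh⟩ := Ideal.Fiber.exists_smul_eq_one_tmul _ h
  have hu : IsUnit (algebraMap R p.ResidueField s) := isUnit_iff_ne_zero.2 fun e =>
    hs ((Ideal.algebraMap_residueField_eq_zero).1 e)
  have hassoc : Associated h ((1 : p.ResidueField) ⊗ₜ[R] h0 : p.Fiber S) := by
    refine ⟨(hu.map (algebraMap p.ResidueField (p.Fiber S))).unit, ?_⟩
    rw [← hsh, IsUnit.unit_spec, ← IsScalarTower.algebraMap_apply, Algebra.smul_def, mul_comm]
  have hh0 : h0 ∉ q := by
    rw [← hQ]
    exact fun hm => hh ((Q.asIdeal.mem_iff_of_associated hassoc).2 hm)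
  haveI : IsLocalization.Away h (Localization.Away ((1 : p.ResidueField) ⊗ₜ[R] h0 : p.Fiber S)) :=
    IsLocalization.Away.of_associated hassoc.symm
  have hd' : ringKrullDim (Localization.Away ((1 : p.ResidueField) ⊗ₜ[R] h0 : p.Fiber S)) = n :=
    (ringKrullDim_eq_of_ringEquiv (IsLocalization.algEquiv (Submonoid.powers h) _
      (Localization.Away h)).toRingEquiv).trans hd
  haveI : Nontrivial (Localization.Away ((1 : p.ResidueField) ⊗ₜ[R] h0 : p.Fiber S)) := by
    by_contra hc
    rw [not_nontrivial_iff_subsingleton] at hc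
    rw [ringKrullDim_eq_bot_of_subsingleton] at hd'
    exact WithBot.bot_ne_coe hd'
  obtain ⟨m, g, hg, hgf⟩ := exists_finite_inj_algHom_of_fg p.ResidueField
    (Localization.Away ((1 : p.ResidueField) ⊗ₜ[R] h0 : p.Fiber S))
  have hm : m = n := by
    have e := Groth.Agent.GrSegreLib.ringKrullDim_eq_of_integral_injective g.toRingHom hg hgf.to_isIntegral
    rw [hd', MvPolynomial.ringKrullDim_of_isNoetherianRing, ringKrullDim_eq_zero_of_field] at e
    simp at e
    exact_mod_cast e
  subst hm
  let ψ : Localization.Away h0 →+* Localization.Away ((1 : p.ResidueField) ⊗ₜ[R] h0 : p.Fiber S) :=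
    IsLocalization.Away.lift h0 (g := (algebraMap (p.Fiber S) _).comp
      (Algebra.TensorProduct.includeRight : S →ₐ[R] p.Fiber S).toRingHom)
      (IsLocalization.Away.algebraMap_isUnit ((1 : p.ResidueField) ⊗ₜ[R] h0 : p.Fiber S))
  have hψ : ∀ s : S, ψ (algebraMap _ _ s) = algebraMap (p.Fiber S) _ ((1 : p.ResidueField) ⊗ₜ[R] s) := fun s =>
    IsLocalization.Away.lift_eq _ _ _
  have hc : ∀ i, ∃ c : Localization.Away h0, ∃ k : p.ResidueField,
      g (MvPolynomial.X i) = algebraMap p.ResidueField _ k * ψ c := fun i => by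
    obtain ⟨⟨z, ⟨_, N, rfl⟩⟩, hz⟩ := IsLocalization.surj (Submonoid.powers ((1 : p.ResidueField) ⊗ₜ[R] h0 : p.Fiber S))
      (g (MvPolynomial.X i))
    obtain ⟨t, ht, x, htx⟩ := Ideal.Fiber.exists_smul_eq_one_tmul _ z
    have ht' : algebraMap R p.ResidueField t ≠ 0 := fun e => ht ((Ideal.algebraMap_residueField_eq_zero).1 e)
    refine ⟨algebraMap S _ x * IsLocalization.Away.invSelf h0 ^ N, (algebraMap R p.ResidueField t)⁻¹, ?_⟩
    have h1 : ψ (IsLocalization.Away.invSelf h0) * algebraMap (p.Fiber S) _ ((1 : p.ResidueField) ⊗ₜ[R] h0) = 1 := by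
      rw [← hψ, ← map_mul, mul_comm, IsLocalization.Away.mul_invSelf, map_one]
    have h2 : ψ (algebraMap S _ x) = algebraMap p.ResidueField _ (algebraMap R p.ResidueField t) *
        algebraMap (p.Fiber S) _ z := by
      rw [hψ, ← htx, Algebra.smul_def, map_mul, ← IsScalarTower.algebraMap_apply, ← IsScalarTower.algebraMap_apply]
    simp only [map_pow] at hz
    rw [map_mul, map_pow, h2, ← hz, ← mul_assoc, ← mul_assoc, ← map_mul, inv_mul_cancel₀ ht', map_one, one_mul,
      mul_assoc, ← mul_pow, mul_comm (algebraMap (p.Fiber S) _ _) (ψ _), h1, one_pow, mul_one]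
  choose c k hk using hc
  exact ⟨h0, hh0, c, ψ, g, hgf, hψ, fun i => ⟨k i, hk i⟩⟩

theorem exists_span_image {A B C k : Type u} [CommRing A] [CommRing B] [CommRing C] [CommRing k] [Algebra k C]
    (g : A →+* B) (hg : g.Finite) (Ψ : B →+* C) (h : ∀ t, Ψ (g t) ∈ (algebraMap k C).range) :
    ∃ W : Finset C, ∀ f : B, Ψ f ∈ Submodule.span k (W : Set C) := by
  classical
  letI := g.toAlgebra
  obtain ⟨W, hW⟩ : (⊤ : Submodule A B).FG := hg.fg_top
  refine ⟨W.image Ψ, fun f => ?_⟩
  rw [Finset.coe_image]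
  have hf : f ∈ Submodule.span A (W : Set B) := hW ▸ Submodule.mem_top
  induction hf using Submodule.span_induction with
  | mem x hx => exact Submodule.subset_span ⟨x, hx, rfl⟩
  | zero => rw [map_zero]; exact zero_mem _
  | add x y _ _ hx hy => rw [map_add]; exact add_mem hx hy
  | smul t x _ hx =>
    obtain ⟨a, ha⟩ := h t
    have e : Ψ (t • x) = a • Ψ x := by
      rw [Algebra.smul_def a, ha, ← map_mul]; rfl
    rw [e]
    exact Submodule.smul_mem _ a hx

theorem finite_fibre (p : Ideal R) [p.IsPrime] {n : ℕ} (h0 : S) (c : Fin n → Localization.Away h0)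
    (ψ : Localization.Away h0 →+* Localization.Away ((1 : p.ResidueField) ⊗ₜ[R] h0 : p.Fiber S))
    (g : MvPolynomial (Fin n) p.ResidueField →ₐ[p.ResidueField]
      Localization.Away ((1 : p.ResidueField) ⊗ₜ[R] h0 : p.Fiber S))
    (hgf : g.toRingHom.Finite)
    (hψ : ∀ s : S, ψ (algebraMap _ _ s) = algebraMap (p.Fiber S) _ ((1 : p.ResidueField) ⊗ₜ[R] s))
    (hk : ∀ i, ∃ k : p.ResidueField, g (MvPolynomial.X i) = algebraMap p.ResidueField _ k * ψ (c i))
    [Algebra (MvPolynomial (Fin n) R) (Localization.Away h0)]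
    (halg : algebraMap (MvPolynomial (Fin n) R) (Localization.Away h0) = (MvPolynomial.aeval c).toRingHom)
    (P : Ideal (MvPolynomial (Fin n) R)) [P.IsPrime] (hP : p = P.comap (algebraMap R (MvPolynomial (Fin n) R))) :
    Module.Finite P.ResidueField (P.Fiber (Localization.Away h0)) := by
  let ι : Localization.Away h0 →+* P.Fiber (Localization.Away h0) :=
    (Algebra.TensorProduct.includeRight : _ →ₐ[MvPolynomial (Fin n) R] P.Fiber (Localization.Away h0)).toRingHom
  have hι : ∀ t : MvPolynomial (Fin n) R, ι (MvPolynomial.aeval c t) =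
      algebraMap P.ResidueField _ (algebraMap (MvPolynomial (Fin n) R) P.ResidueField t) := fun t => by
    show (1 : P.ResidueField) ⊗ₜ[MvPolynomial (Fin n) R] (MvPolynomial.aeval c t) = _
    rw [← IsScalarTower.algebraMap_apply, Algebra.TensorProduct.algebraMap_apply,
      ← show algebraMap _ (Localization.Away h0) t = MvPolynomial.aeval c t from RingHom.congr_fun halg t,
      Algebra.algebraMap_eq_smul_one, Algebra.algebraMap_eq_smul_one, TensorProduct.smul_tmul]
  let ρ : p.ResidueField →+* P.Fiber (Localization.Away h0) :=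
    (algebraMap P.ResidueField _).comp (Ideal.ResidueField.map p P (algebraMap R _) hP)
  let σ : S →+* P.Fiber (Localization.Away h0) := ι.comp (algebraMap S (Localization.Away h0))
  have hρ : ∀ r : R, ρ (algebraMap R p.ResidueField r) = algebraMap R _ r := fun r => by
    simp only [ρ, RingHom.comp_apply, Ideal.ResidueField.map_algebraMap]
    rw [← IsScalarTower.algebraMap_apply R (MvPolynomial (Fin n) R) P.ResidueField,
      ← IsScalarTower.algebraMap_apply R P.ResidueField]
  have hσ : ∀ r : R, σ (algebraMap R S r) = algebraMap R _ r := fun r => by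
    simp only [σ, RingHom.comp_apply]
    rw [← IsScalarTower.algebraMap_apply R S (Localization.Away h0), ← (MvPolynomial.aeval c).commutes, hι,
      ← IsScalarTower.algebraMap_apply R (MvPolynomial (Fin n) R) P.ResidueField,
      ← IsScalarTower.algebraMap_apply R P.ResidueField]
  let ρ' : p.ResidueField →ₐ[R] P.Fiber (Localization.Away h0) := { ρ with commutes' := hρ }
  let σ' : S →ₐ[R] P.Fiber (Localization.Away h0) := { σ with commutes' := hσ }
  let F : p.Fiber S →+* P.Fiber (Localization.Away h0) :=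
    (Algebra.TensorProduct.lift ρ' σ' fun _ _ => Commute.all _ _).toRingHom
  have hF : ∀ a s, F (a ⊗ₜ[R] s) = ρ a * σ s := fun a s => Algebra.TensorProduct.lift_tmul _ _ _ _ _
  have hu : IsUnit (F ((1 : p.ResidueField) ⊗ₜ[R] h0)) := by
    rw [hF, map_one, one_mul]
    exact (IsLocalization.Away.algebraMap_isUnit h0).map ι
  let Ψ := IsLocalization.Away.lift (S := Localization.Away ((1 : p.ResidueField) ⊗ₜ[R] h0 : p.Fiber S))
    ((1 : p.ResidueField) ⊗ₜ[R] h0 : p.Fiber S) hu
  have hΨψ : Ψ.comp ψ = ι := IsLocalization.ringHom_ext (Submonoid.powers h0) (RingHom.ext fun s => by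
    simp [Ψ, hψ, hF, σ])
  have hΨk : ∀ k : p.ResidueField, Ψ (algebraMap _ _ k) = ρ k := fun k => by
    rw [IsScalarTower.algebraMap_apply p.ResidueField (p.Fiber S), IsLocalization.Away.lift_eq,
      Algebra.TensorProduct.algebraMap_apply, hF, map_one σ, mul_one]
    rfl
  have hrange : ∀ t : MvPolynomial (Fin n) p.ResidueField, Ψ (g t) ∈ (algebraMap P.ResidueField
      (P.Fiber (Localization.Away h0))).range := fun t => by
    induction t using MvPolynomial.induction_on with
    | C a =>
      rw [← MvPolynomial.algebraMap_eq, AlgHom.commutes, hΨk]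
      exact ⟨_, rfl⟩
    | add a b ha hb => rw [map_add, map_add]; exact add_mem ha hb
    | mul_X a i ha =>
      rw [map_mul, map_mul]
      refine mul_mem ha ?_
      obtain ⟨k, hk⟩ := hk i
      rw [hk, map_mul, hΨk, ← RingHom.comp_apply Ψ ψ, hΨψ, ← MvPolynomial.aeval_X (R := R) c i, hι]
      exact mul_mem ⟨_, rfl⟩ ⟨_, rfl⟩
  obtain ⟨W, key⟩ := exists_span_image g.toRingHom hgf Ψ hrange
  refine ⟨⟨W, ?_⟩⟩
  rw [eq_top_iff]
  rintro z -
  induction z using TensorProduct.induction_on with
  | zero => exact zero_mem _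
  | add x y hx hy => exact add_mem hx hy
  | tmul a x =>
    have e : (a ⊗ₜ[MvPolynomial (Fin n) R] x : P.Fiber (Localization.Away h0)) = a • Ψ (ψ x) := by
      rw [← RingHom.comp_apply, hΨψ]
      show _ = a • ((1 : P.ResidueField) ⊗ₜ[MvPolynomial (Fin n) R] x)
      rw [TensorProduct.smul_tmul', smul_eq_mul, mul_one]
    rw [e]
    exact Submodule.smul_mem _ a (key _)

/-- Let R → S be of finite type, q a prime of S over p, and Q the prime of the fibre ring κ(p) ⊗ S
pulling back to q. If Spec(κ(p) ⊗ S) has local dimension n at Q (the relative dimension of S over R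
at q is n), then some S_g with g ∉ q admits an R-algebra map from the polynomial ring R[t_1, …, t_n]
which is of finite type and quasi-finite. -/
theorem result (R S : Type u) [CommRing R] [CommRing S]
    [Algebra R S] [Algebra.FiniteType R S] (p : Ideal R) [p.IsPrime] (q : Ideal S) [q.IsPrime] [q.LiesOver p]
    (Q : PrimeSpectrum (p.Fiber S))
    (hQ : Q.asIdeal.comap (Algebra.TensorProduct.includeRight.toRingHom) = q) (n : ℕ)
    (hdim : FlatMor.localDim (PrimeSpectrum (p.Fiber S)) Q = (n : WithBot ℕ∞)) :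
    ∃ g : S, g ∉ q ∧ ∃ φ : MvPolynomial (Fin n) R →ₐ[R] Localization.Away g,
      φ.toRingHom.FiniteType ∧ φ.toRingHom.QuasiFinite := by
  obtain ⟨h0, hh0, c, ψ, g, hgf, hψ, hk⟩ := exists_coords p q Q hQ n hdim
  letI : Algebra (MvPolynomial (Fin n) R) (Localization.Away h0) := (MvPolynomial.aeval c).toRingHom.toAlgebra
  haveI : IsScalarTower R (MvPolynomial (Fin n) R) (Localization.Away h0) :=
    IsScalarTower.of_algebraMap_eq fun r => ((MvPolynomial.aeval c).commutes r).symm
  haveI : Algebra.FiniteType R (Localization.Away h0) :=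
    Algebra.FiniteType.trans (S := S) inferInstance inferInstance
  haveI : Algebra.FiniteType (MvPolynomial (Fin n) R) (Localization.Away h0) :=
    Algebra.FiniteType.of_restrictScalars_finiteType R _ _
  let qG := q.map (algebraMap S (Localization.Away h0))
  have hd : Disjoint (Submonoid.powers h0 : Set S) q := Set.disjoint_left.2 fun x ⟨m, hm⟩ hx => hh0
    (‹q.IsPrime›.mem_of_pow_mem m (show h0 ^ m ∈ q by rwa [show h0 ^ m = x from hm]))
  haveI : qG.IsPrime := IsLocalization.isPrime_of_isPrime_disjoint _ _ q inferInstance hd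
  have hqc : qG.comap (algebraMap S (Localization.Away h0)) = q :=
    IsLocalization.under_map_of_isPrime_disjoint _ _ inferInstance hd
  let P := qG.comap (algebraMap (MvPolynomial (Fin n) R) (Localization.Away h0))
  have hP : p = P.comap (algebraMap R (MvPolynomial (Fin n) R)) := by
    rw [Ideal.comap_comap, ← IsScalarTower.algebraMap_eq, IsScalarTower.algebraMap_eq R S, ← Ideal.comap_comap, hqc]
    exact Ideal.LiesOver.over
  haveI := finite_fibre p h0 c ψ g hgf hψ hk rfl P hP
  haveI : qG.LiesOver P := ⟨rfl⟩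
  let QP := PrimeSpectrum.primesOverOrderIsoFiber (MvPolynomial (Fin n) R) (Localization.Away h0) P
    ⟨qG, ‹_›, ‹_›⟩
  haveI : Algebra.QuasiFiniteAt (MvPolynomial (Fin n) R) qG :=
    Algebra.QuasiFiniteAt.of_quasiFiniteAt_residueField P qG QP.asIdeal
      congr($((PrimeSpectrum.primesOverOrderIsoFiber (MvPolynomial (Fin n) R) (Localization.Away h0) P).symm_apply_apply
        ⟨qG, ‹_›, ‹_›⟩).1)
  obtain ⟨S', hS', r, hrp, H⟩ :=
    Algebra.QuasiFiniteAt.exists_fg_and_exists_notMem_and_awayMap_bijective (R := MvPolynomial (Fin n) R) qG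
  haveI : Module.Finite (MvPolynomial (Fin n) R) S' := ⟨(Submodule.fg_top _).mpr hS'⟩
  haveI : Algebra.QuasiFinite (MvPolynomial (Fin n) R) (Localization.Away r) := .trans _ S' _
  haveI hqf : Algebra.QuasiFinite (MvPolynomial (Fin n) R) (Localization.Away r.1) :=
    let fm : Localization.Away r →ₐ[MvPolynomial (Fin n) R] Localization.Away r.1 :=
      Localization.awayMapₐ S'.val r
    Algebra.QuasiFinite.of_surjective_algHom fm H.2
  obtain ⟨⟨x, ⟨_, N, rfl⟩⟩, hx⟩ := IsLocalization.surj (Submonoid.powers h0) r.1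
  have hu : IsUnit (algebraMap S (Localization.Away h0) (h0 ^ N)) := by
    rw [map_pow]; exact (IsLocalization.Away.algebraMap_isUnit h0).pow _
  have hxq : x ∉ q := fun hm => hrp <| by
    have h1 : algebraMap S (Localization.Away h0) x ∈ qG := Ideal.mem_map_of_mem _ hm
    rw [← hx] at h1
    exact (Ideal.IsPrime.mem_or_mem ‹qG.IsPrime› h1).resolve_right fun h2 => ‹qG.IsPrime›.ne_top (qG.eq_top_of_isUnit_mem h2 hu)
  refine ⟨h0 * x, fun hm => (‹q.IsPrime›.mem_or_mem hm).elim hh0 hxq, ?_⟩
  haveI : IsLocalization.Away (algebraMap S (Localization.Away h0) x) (Localization.Away r.1) :=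
    IsLocalization.Away.of_associated ⟨hu.unit, by rw [IsUnit.unit_spec]; exact hx⟩
  haveI : IsLocalization.Away (h0 * x) (Localization.Away r.1) :=
    mul_comm x h0 ▸ IsLocalization.Away.mul (Localization.Away h0) (Localization.Away r.1) h0 x
  let e : Localization.Away r.1 ≃ₐ[S] Localization.Away (h0 * x) :=
    IsLocalization.algEquiv (Submonoid.powers (h0 * x)) _ _
  let φ : MvPolynomial (Fin n) R →ₐ[R] Localization.Away (h0 * x) :=
    ((e.restrictScalars R).toAlgHom.comp (IsScalarTower.toAlgHom R (Localization.Away h0) (Localization.Away r.1))).comp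
      (MvPolynomial.aeval c)
  refine ⟨φ, ?_, ?_⟩
  · haveI : Algebra.FiniteType R (Localization.Away (h0 * x)) :=
      Algebra.FiniteType.trans (S := S) inferInstance inferInstance
    refine RingHom.FiniteType.of_comp_finiteType (f := algebraMap R (MvPolynomial (Fin n) R)) ?_
    show (φ.toRingHom.comp (algebraMap R (MvPolynomial (Fin n) R))).FiniteType
    rw [show φ.toRingHom.comp (algebraMap R (MvPolynomial (Fin n) R)) = algebraMap R _ from φ.comp_algebraMap]
    exact RingHom.finiteType_algebraMap.2 inferInstance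
  · letI := φ.toRingHom.toAlgebra
    let e' : Localization.Away r.1 ≃ₐ[MvPolynomial (Fin n) R] Localization.Away (h0 * x) :=
      { e with commutes' := fun t => rfl }
    haveI := (Algebra.QuasiFinite.iff_of_algEquiv e').1 hqf
    exact RingHom.quasiFinite_algebraMap.2 this

end Groth.Agent.S9175
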