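import Groth.Statements.S7625
import Groth.Agent.DimFormulaLib.Chart
import Groth.Agent.S9175
set_option maxHeartbeats 1600000
set_option backward.isDefEq.respectTransparency false
-- import your own Groth.Agent.* helpers here

set_option autoImplicit false
universe u
open CategoryTheory CategoryTheory.Limits AlgebraicGeometry
open Variety

namespace Groth.Agent.S7625

/-- Let f : X → S be locally of finite type, x a point of X with image s, V an affine open neighbourhood
of s in S, and suppose dim_x(X_s) = d. Then there is an affine open neighbourhood U of x with f(U) ⊆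
V and a factorisation of f|_U as U → 𝔸^d_V → V with U → 𝔸^d_V locally quasi-finite and locally of
finite type (hence quasi-finite, U being affine). -/
theorem result {X S : Scheme.{u}} (f : X ⟶ S) [LocallyOfFiniteType f] (x : ↥X)
    (V : S.Opens) (hV : IsAffineOpen V) (hxV : f x ∈ V) (d : ℕ) (hd : FlatMor.fibreDimAt f x = d) :
    ∃ (U : X.Opens), IsAffineOpen U ∧ x ∈ U ∧
      ∃ (g : (U : Scheme.{u}) ⟶ (V : Scheme.{u})) (π : (U : Scheme.{u}) ⟶ 𝔸(ULift.{u} (Fin d); (V : Scheme.{u}))),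
        g ≫ V.ι = U.ι ≫ f ∧ π ≫ (𝔸(ULift.{u} (Fin d); (V : Scheme.{u})) ↘ (V : Scheme.{u})) = g ∧
          LocallyQuasiFinite π ∧ LocallyOfFiniteType π := by
  -- an affine chart over `V`
  obtain ⟨W, hW, hxW, hWV⟩ := exists_isAffineOpen_mem_and_subset (show x ∈ f ⁻¹ᵁ V from hxV)
  have hle : W ≤ f ⁻¹ᵁ V := hWV
  let φ := f.appLE V W hle
  letI : Algebra Γ(S, V) Γ(X, W) := φ.hom.toAlgebra
  haveI : Algebra.FiniteType Γ(S, V) Γ(X, W) := f.finiteType_appLE hV hW hle
  obtain ⟨q, hq⟩ : x ∈ Set.range hW.fromSpec := by rw [hW.range_fromSpec]; exact hxW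
  let c : DimFormulaLib.Chart f x :=
    { A := Γ(S, V)
      B := Γ(X, W)
      i := hV.fromSpec
      j := hW.fromSpec
      w := (IsAffineOpen.SpecMap_appLE_fromSpec f hV hW hle).symm
      q := q
      hq := hq }
  rw [c.fibreDimAt_eq] at hd
  haveI : c.q.asIdeal.LiesOver c.p.asIdeal := ⟨rfl⟩
  obtain ⟨b, hb, ψ, hψft, hψqf⟩ := Groth.Agent.S9175.result Γ(S, V) Γ(X, W) c.p.asIdeal c.q.asIdeal c.Q c.comap_Q d hd
  let Bb := CommRingCat.of (Localization.Away b)
  let j : Spec Bb ⟶ X := Spec.map (CommRingCat.ofHom (algebraMap Γ(X, W) (Localization.Away b))) ≫ hW.fromSpec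
  let U : X.Opens := j.opensRange
  refine ⟨U, isAffineOpen_opensRange j, ?_, ?_⟩
  · obtain ⟨z, hz⟩ : q ∈ Set.range (PrimeSpectrum.comap (algebraMap Γ(X, W) (Localization.Away b))) := by
      rw [PrimeSpectrum.localization_away_comap_range (Localization.Away b) b]
      exact hb
    exact ⟨z, (congrArg hW.fromSpec hz).trans hq⟩
  let e : (U : Scheme.{u}) ≅ Spec Bb := j.isoOpensRange.symm
  have he : e.hom ≫ j = U.ι := by
    rw [Iso.symm_hom, Iso.inv_comp_eq, Scheme.Hom.isoOpensRange_hom_ι]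
  let ρ : MvPolynomial (ULift.{u} (Fin d)) Γ(S, V) ≃ₐ[Γ(S, V)] MvPolynomial (Fin d) Γ(S, V) :=
    MvPolynomial.renameEquiv Γ(S, V) Equiv.ulift
  let χ : MvPolynomial (ULift.{u} (Fin d)) Γ(S, V) →+* Localization.Away b := ψ.toRingHom.comp ρ.toAlgHom.toRingHom
  have hχft : χ.FiniteType := hψft.comp (RingHom.FiniteType.of_surjective _ ρ.surjective)
  have hχqf : χ.QuasiFinite :=
    hψqf.comp (RingHom.QuasiFinite.of_finite (RingHom.Finite.of_surjective _ ρ.surjective))
  let η : Spec Bb ⟶ Spec (.of (MvPolynomial (ULift.{u} (Fin d)) Γ(S, V))) := Spec.map (CommRingCat.ofHom χ)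
  haveI : LocallyQuasiFinite η := (HasRingHomProperty.Spec_iff (P := @LocallyQuasiFinite)).2 hχqf
  haveI : LocallyOfFiniteType η := (HasRingHomProperty.Spec_iff (P := @LocallyOfFiniteType)).2 hχft
  let κ : Spec (.of (MvPolynomial (ULift.{u} (Fin d)) Γ(S, V))) ⟶ 𝔸(ULift.{u} (Fin d); (V : Scheme.{u})) :=
    (AffineSpace.SpecIso (ULift.{u} (Fin d)) Γ(S, V)).inv ≫ AffineSpace.map (ULift.{u} (Fin d)) hV.isoSpec.inv
  haveI : IsIso (AffineSpace.map (ULift.{u} (Fin d)) hV.isoSpec.inv) :=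
    ⟨AffineSpace.map _ hV.isoSpec.hom, by rw [← AffineSpace.map_comp, Iso.inv_hom_id, AffineSpace.map_id],
      by rw [← AffineSpace.map_comp, Iso.hom_inv_id, AffineSpace.map_id]⟩
  haveI : IsIso κ := inferInstance
  refine ⟨(e.hom ≫ η ≫ κ) ≫ (𝔸(ULift.{u} (Fin d); (V : Scheme.{u})) ↘ (V : Scheme.{u})), e.hom ≫ η ≫ κ, ?_, rfl,
    inferInstance, inferInstance⟩
  have hC : χ.comp MvPolynomial.C = (algebraMap Γ(X, W) (Localization.Away b)).comp φ.hom := by
    refine RingHom.ext fun a => ?_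
    show ψ (ρ (MvPolynomial.C a)) = algebraMap Γ(X, W) _ (φ.hom a)
    rw [show ρ (MvPolynomial.C a) = MvPolynomial.C a from ρ.commutes a]
    exact (ψ.commutes a).trans (IsScalarTower.algebraMap_apply Γ(S, V) Γ(X, W) (Localization.Away b) a)
  simp only [κ, Category.assoc, AffineSpace.map_over, AffineSpace.map_over_assoc, IsAffineOpen.isoSpec_inv_ι]
  rw [AffineSpace.SpecIso_inv_over_assoc, ← Spec.map_comp_assoc, ← CommRingCat.ofHom_comp, hC, CommRingCat.ofHom_comp,
    Spec.map_comp, Category.assoc, CommRingCat.ofHom_hom, IsAffineOpen.SpecMap_appLE_fromSpec f hV hW hle,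
    ← reassoc_of% he]
  rfl

end Groth.Agent.S7625
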