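import Groth.Statements.S7626
import Groth.Agent.PointsRegLib.Geom
import Groth.Agent.LinPencilLib.Basic
import Groth.Agent.H1ZeroLib.EmbedDim

set_option autoImplicit false
universe u
open CategoryTheory CategoryTheory.Limits AlgebraicGeometry
open Variety

namespace Groth.Agent.S7626

open CategoryTheory CategoryTheory.Limits AlgebraicGeometry

set_option backward.isDefEq.respectTransparency false
set_option backward.defeqAttrib.useBackward true
set_option linter.style.haveILetI false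

open Groth.Agent.PullbackMod Groth.Agent.DCohLib Groth.Agent.ParaFLib Groth.Agent.AmpleLib Groth.Agent.PointsRegLib
open TopologicalSpace Opposite

section

variable {k : Type u} [Field k] {n : ℕ}

local notation "PS" => CohB1.ProjSpace n k
local notation "U[" a "]" => AmpleEmb.stdOpen n k a

/-- Constants in a residue field. -/
noncomputable def phi (y : CohB1.ProjSpace n k) : k →+* (PS).residueField y :=
  ((PS).evaluation ⊤ y trivial).hom.comp cst

theorem ev_cstOn {U : (PS).Opens} {y : CohB1.ProjSpace n k} (hy : y ∈ U) (c : k) :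
    (PS).evaluation U y hy (cstOn U c) = phi y c :=
  congrArg ((PS).residue y) ((PS).presheaf.germ_res_apply (homOfLE le_top) y hy (cst c))

/-- The section of a linear form. -/
noncomputable def lin (c : Fin (n + 1) → k) : Coh.structureModule (PS) ⟶ Twist.twistProjSpace n k 1 :=
  secHom _ (∑ b, cst (n := n) (c b) • sec (AmpleEmb.coordSec n k b))

/-- The value of a linear form. -/
noncomputable def val (c : Fin (n + 1) → k) {y : CohB1.ProjSpace n k} {a : Fin (n + 1)} (hy : y ∈ U[a]) : (PS).residueField y :=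
  ∑ b, phi y (c b) * (PS).evaluation U[a] y hy (ratio a b)

theorem mem_lin_iff (c : Fin (n + 1) → k) {y : CohB1.ProjSpace n k} {a : Fin (n + 1)} (hy : y ∈ U[a]) :
    y ∈ CohB1.genLocus _ (lin c) ↔ val c hy ≠ 0 := by
  have ha : (∑ b, cstOn U[a] (c b) * ratio a b) • resT (sec (AmpleEmb.coordSec n k a)) U[a] =
      resT (sec (lin c)) U[a] := by
    rw [lin, sec_secHom, resT, resT, map_sum, Finset.sum_smul]
    refine Finset.sum_congr rfl fun b _ => ?_
    rw [Scheme.Modules.map_smul, mul_smul]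
    exact congrArg (cstOn U[a] (c b) • ·) (AmpleEmb.coordRatio_smul n k a b)
  have h := genLocus_inf_eq_basicOpen (lin c) (AmpleEmb.gen_coordSec n k a) ha
  have h2 : y ∈ CohB1.genLocus _ (lin c) ↔ y ∈ (PS).basicOpen (∑ b, cstOn U[a] (c b) * ratio a b) := by
    rw [← h]
    exact ⟨fun h => ⟨h, hy⟩, fun h => h.1⟩
  rw [h2, ← Scheme.evaluation_ne_zero_iff_mem_basicOpen _ y hy, map_sum]
  simp only [map_mul, ev_cstOn, val]

theorem val_single (v : Fin (n + 1)) (r : k) (i : Fin (n + 1)) {y : CohB1.ProjSpace n k} {a : Fin (n + 1)} (hy : y ∈ U[a]) :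
    val (Pi.single v 1 - r • Pi.single i 1) hy =
      (PS).evaluation U[a] y hy (ratio a v) - phi y r * (PS).evaluation U[a] y hy (ratio a i) := by
  classical
  simp [val, Pi.single_apply, sub_mul, apply_ite (phi y), ite_mul]

theorem val_sum (t : k) (c : Fin (n + 1) → Fin (n + 1) → k) {y : CohB1.ProjSpace n k} {a : Fin (n + 1)} (hy : y ∈ U[a]) :
    val (∑ b : Fin (n + 1), t ^ (b : ℕ) • c b) hy = ∑ b : Fin (n + 1), phi y t ^ (b : ℕ) * val (c b) hy := by
  simp only [val, Finset.sum_apply, Pi.smul_apply, smul_eq_mul, map_sum, map_mul, map_pow, Finset.sum_mul,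
    Finset.mul_sum, mul_assoc]
  rw [Finset.sum_comm]

theorem exists_val_ne_zero {y₀ y : CohB1.ProjSpace n k} {a₀ a : Fin (n + 1)} (h₀ : y₀ ∈ U[a₀]) (hy : y ∈ U[a])
    (v : Fin (n + 1) → k) (hv : ∀ b, phi y₀ (v b) = (PS).evaluation U[a₀] y₀ h₀ (ratio a₀ b)) (hne : y ≠ y₀) :
    ∃ b, val (Pi.single b 1 - v b • Pi.single a₀ 1) hy ≠ 0 := by
  by_contra hc
  simp only [not_exists, not_not, val_single, sub_eq_zero] at hc
  have h1 : phi y (v a) * (PS).evaluation U[a] y hy (ratio a a₀) = 1 := by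
    rw [← hc a, ratio_self, map_one]
  have hya : y ∈ U[a₀] := by
    have := (Scheme.evaluation_ne_zero_iff_mem_basicOpen _ y hy (ratio a a₀)).1 (right_ne_zero_of_mul_eq_one h1)
    rw [AmpleEmb.basicOpen_coordRatio] at this
    exact this.2
  have hr : ∀ b, (PS).evaluation U[a₀] y hya (ratio a₀ b) = phi y (v b) := fun b => by
    have h2 : (PS).evaluation U[a] y hy (ratio a b) =
        (PS).evaluation U[a] y hy (ratio a a₀) * (PS).evaluation U[a₀] y hya (ratio a₀ b) :=
      (congrArg ((PS).residue y) (ratio_mul a₀ a b y hya hy)).trans (map_mul _ _ _)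
    exact mul_left_cancel₀ (right_ne_zero_of_mul_eq_one h1) ((h2.symm.trans (hc b)).trans (mul_comm _ _))
  have hS : ∀ f : Γ(PS, U[a₀]), ∃ c, phi y₀ c = (PS).evaluation U[a₀] y₀ h₀ f ∧ phi y c = (PS).evaluation U[a₀] y hya f := by
    intro f
    obtain ⟨c, hc⟩ := adjoin_ratio a₀ f (((phi y₀).prod (phi y)).range.comap
      (((PS).evaluation U[a₀] y₀ h₀).hom.prod ((PS).evaluation U[a₀] y hya).hom))
      (fun c => ⟨c, Prod.ext (ev_cstOn h₀ c).symm (ev_cstOn hya c).symm⟩) (fun b => ⟨v b, Prod.ext (hv b) (hr b).symm⟩)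
    exact ⟨c, congrArg Prod.fst hc, congrArg Prod.snd hc⟩
  refine hne ?_
  have hU := PointsRegLib.isAffineOpen_stdOpen (k := k) a₀
  refine (hU.fromSpec_primeIdealOf ⟨y, hya⟩).symm.trans (Eq.trans (congrArg _ ?_) (hU.fromSpec_primeIdealOf ⟨y₀, h₀⟩))
  refine PrimeSpectrum.ext (Ideal.ext fun f => not_iff_not.1 ?_)
  have hp : ∀ (z : U[a₀]), f ∉ (hU.primeIdealOf z).asIdeal ↔ (z : CohB1.ProjSpace n k) ∈ (PS).basicOpen f := fun z => by
    conv_rhs => rw [← hU.fromSpec_primeIdealOf z]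
    show _ ↔ hU.primeIdealOf z ∈ hU.fromSpec ⁻¹ᵁ (PS).basicOpen f
    rw [hU.fromSpec_preimage_basicOpen]
    rfl
  obtain ⟨c, hc0, hcy⟩ := hS f
  rw [hp, hp, ← Scheme.evaluation_ne_zero_iff_mem_basicOpen _ y hya, ← Scheme.evaluation_ne_zero_iff_mem_basicOpen _ y₀ h₀,
    ← hc0, ← hcy, map_ne_zero, map_ne_zero]

theorem exists_lin [Infinite k] (y₀ : CohB1.ProjSpace n k) (hs : Function.Surjective (phi y₀)) {ι : Type*} [Finite ι]
    (y : ι → CohB1.ProjSpace n k) (hne : ∀ i, y i ≠ y₀) :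
    ∃ c, y₀ ∉ CohB1.genLocus _ (lin c) ∧ ∀ i, y i ∈ CohB1.genLocus _ (lin c) := by
  classical
  obtain ⟨a₀, h₀⟩ := exists_chart y₀
  choose a hy using fun i => exists_chart (y i)
  choose v hv using fun b => hs ((PS).evaluation U[a₀] y₀ h₀ (ratio a₀ b))
  let e : Fin (n + 1) → Fin (n + 1) → k := fun b => Pi.single b 1 - v b • Pi.single a₀ 1
  let p : ∀ i, Polynomial ((PS).residueField (y i)) := fun i =>
    ∑ b : Fin (n + 1), Polynomial.monomial (b : ℕ) (val (e b) (hy i))
  have hp : ∀ i, p i ≠ 0 := fun i h => by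
    obtain ⟨b, hb⟩ := exists_val_ne_zero h₀ (hy i) v hv (hne i)
    refine hb ?_
    have := congrArg (fun q => Polynomial.coeff q (b : ℕ)) h
    simpa [p, Polynomial.coeff_monomial, Fin.val_inj, e] using this
  have hfin : (⋃ i, {t : k | (p i).IsRoot (phi (y i) t)}).Finite :=
    Set.finite_iUnion fun i => (Polynomial.finite_setOf_isRoot (hp i)).preimage (phi (y i)).injective.injOn
  obtain ⟨t, ht⟩ := hfin.exists_notMem
  refine ⟨∑ b : Fin (n + 1), t ^ (b : ℕ) • e b, ?_, fun i => ?_⟩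
  · rw [mem_lin_iff _ h₀, val_sum, not_not]
    refine Finset.sum_eq_zero fun b _ => ?_
    rw [val_single, hv, ratio_self, map_one, mul_one, sub_self, mul_zero]
  · rw [mem_lin_iff _ (hy i), val_sum]
    intro h
    refine ht (Set.mem_iUnion.2 ⟨i, ?_⟩)
    show Polynomial.eval _ _ = 0
    rw [Polynomial.eval_finset_sum]
    simpa [Polynomial.eval_monomial, mul_comm] using h

end

theorem exists_immersion_of_pn (k : Type u) [Field k] {X : Scheme.{u}}
    (f : X ⟶ Spec (CommRingCat.of k)) {L : X.Modules}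
    (n : ℕ) (i : X ⟶ CohB1.ProjSpaceOver n (Spec (CommRingCat.of k))) (hi : IsImmersion i)
    (hw : i ≫ CohB1.ProjSpaceOver.toBase n (Spec (CommRingCat.of k)) = f)
    (θ : L ≅ (Scheme.Modules.pullback i).obj (Twist.twistOver n (Spec (CommRingCat.of k)) 1)) :
    ∃ i : X ⟶ CohB1.ProjSpace n k, IsImmersion i ∧ i ≫ CohB1.ProjSpace.toSpec n k = f ∧
      Nonempty ((Scheme.Modules.pullback i).obj (Twist.twistProjSpace n k 1) ≅ L) := by
  letI : Algebra (ULift.{u} ℤ) k :=
    ((Int.castRingHom k).comp (ULift.ringEquiv : ULift.{u} ℤ ≃+* ℤ).toRingHom).toAlgebra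
  obtain ⟨g, hg', ⟨τ⟩⟩ := S4471.exists_bc n (ULift.{u} ℤ) k 1
  let S := Spec (CommRingCat.of k)
  let ε : CohB1.ProjSpace n k ⟶ CohB1.ProjSpaceOver n S := ProjMap.liftOver g (CohB1.ProjSpace.toSpec n k)
  have hsq : IsPullback ε (CohB1.ProjSpace.toSpec n k) (CohB1.ProjSpaceOver.toBase n S) (𝟙 S) := by
    refine IsPullback.of_right ?_ (by rw [Category.comp_id]; exact ProjMap.liftOver_toBase _ _)
      (IsPullback.of_hasPullback _ _)
    rw [show ε ≫ pullback.fst _ _ = g from ProjMap.liftOver_toInt _ _,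
      show 𝟙 S ≫ specULiftZIsTerminal.from S = Spec.map (CommRingCat.ofHom (algebraMap (ULift.{u} ℤ) k)) from
        specULiftZIsTerminal.hom_ext _ _]
    exact hg'
  haveI : IsIso ε := hsq.isIso_fst_of_isIso
  have hw' : i ≫ CohB1.ProjSpaceOver.toBase n S = f := hw
  let j : X ⟶ CohB1.ProjSpace n k := i ≫ inv ε
  have hj : j ≫ CohB1.ProjSpace.toSpec n k = f := by
    have h1 : inv ε ≫ CohB1.ProjSpace.toSpec n k = CohB1.ProjSpaceOver.toBase n S := by
      rw [IsIso.inv_comp_eq, hsq.w, Category.comp_id]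
    rw [Category.assoc, h1, hw']
  haveI := hi
  refine ⟨j, inferInstanceAs (IsImmersion (i ≫ inv ε)), hj, ⟨?_⟩⟩
  have hεt : inv ε ≫ g = pullback.fst _ _ := by
    rw [IsIso.inv_comp_eq]
    exact (ProjMap.liftOver_toInt _ _).symm
  let e₁ : (Scheme.Modules.pullback (inv ε)).obj (Twist.twistProjSpace n k 1) ≅ Twist.twistOver n S 1 :=
    (Scheme.Modules.pullback (inv ε)).mapIso τ.symm ≪≫ (Scheme.Modules.pullbackComp (inv ε) g).app _ ≪≫
      (Scheme.Modules.pullbackCongr hεt).app _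
  exact ((Scheme.Modules.pullbackComp i (inv ε)).app _).symm ≪≫ (Scheme.Modules.pullback i).mapIso e₁ ≪≫ θ.symm


/-- Let k be an infinite field, X a scheme of finite type over k, L a very ample invertible O_X-module
on X over k, n ≥ 0, x a k-rational point of X and x_1, …, x_n points of X with x_i ≠ x. Then there
is a global section s of L which vanishes at x (x is not in the open where s generates L) but does
not vanish at any x_i. -/
theorem result (k : Type u) [Field k] (X : Scheme.{u}) [X.Over (Spec (CommRingCat.of k))] [Infinite k]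
    [LocallyOfFiniteType (X ↘ (Spec (CommRingCat.of k)))] [QuasiCompact (X ↘ (Spec (CommRingCat.of k)))]
    (L : X.Modules) (hL : RelAmple.IsRelVeryAmplePn (X ↘ (Spec (CommRingCat.of k))) L)
    (x : ↥X) (hx : Function.Surjective (Curv2.resMap k X x)) (n : ℕ) (pts : Fin n → ↥X) (hne : ∀ i, pts i ≠ x) :
    ∃ s : Coh.structureModule X ⟶ L, x ∉ CohB1.genLocus L s ∧ ∀ i, pts i ∈ CohB1.genLocus L s := by
  obtain ⟨N, i, hi, hw, ⟨θ⟩⟩ := hL
  obtain ⟨j, hj, hjw, ⟨e⟩⟩ := exists_immersion_of_pn k (X ↘ (Spec (CommRingCat.of k))) N i hi hw θ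
  haveI := hj
  have hinj : Function.Injective j.base := j.isEmbedding.injective
  have hc : ∀ r : k, PointsRegLib.cst (n := N) r =
      (CohB1.ProjSpace.toSpec N k).appTop ((Scheme.ΓSpecIso (CommRingCat.of k)).inv r) := fun r =>
    (LinPencilLib.constΓ_eq_cst r).symm
  have hs : Function.Surjective (phi (j x)) := fun z => by
    obtain ⟨r, hr⟩ := hx (j.residueFieldMap x z)
    refine ⟨r, (j.residueFieldMap x).hom.injective ?_⟩
    refine Eq.trans ?_ hr
    show j.residueFieldMap x ((CohB1.ProjSpace N k).evaluation ⊤ (j x) trivial (PointsRegLib.cst r)) = _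
    have h1 := Scheme.evaluation_naturality_apply (f := j) (V := ⊤) x trivial (PointsRegLib.cst r)
    refine h1.trans ?_
    rw [hc r, show ∀ z, j.app ⊤ ((CohB1.ProjSpace.toSpec N k).appTop z) = (X ↘ Spec (CommRingCat.of k)).appTop z from
      fun z => by rw [← hjw]; rfl]
    rfl
  obtain ⟨c, hc0, hci⟩ := exists_lin (j x) hs (fun m => j (pts m)) (fun m h => hne m (hinj h))
  have hM := AmpleEmb.isInvertible_twistOne N k
  refine ⟨pullS j (lin c) ≫ e.hom, ?_, fun m => ?_⟩
  · rw [genLocus_comp_iso, genLocus_pullS j hM]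
    exact hc0
  · rw [genLocus_comp_iso, genLocus_pullS j hM]
    exact hci m

end Groth.Agent.S7626
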