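import Groth.Statements.S7630
import Groth.Agent.AmpleFieldLib.Descend
import Groth.Agent.FpqcDesc.Basic
import Groth.Agent.AmpleLib.RelLocal
import Mathlib.AlgebraicGeometry.Morphisms.LocalFlatDescent

set_option autoImplicit false
universe u
open CategoryTheory CategoryTheory.Limits AlgebraicGeometry
open Variety

namespace Groth.Agent.S7630

/-- Let X be a scheme over a field k and K an extension field of k. If X_K → Spec K is quasi-projective
(of finite type and admitting a relatively ample invertible module), then so is X → Spec k. -/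
theorem result (k : Type u) [Field k] (X : Scheme.{u}) [X.Over (Spec (CommRingCat.of k))] (K : Type u) [Field K] [Algebra k K]
    (h : RelProj.IsQuasiProjective (Curv2.bcSnd k X K)) : RelProj.IsQuasiProjective (X ↘ (Spec (CommRingCat.of k))) := by
  obtain ⟨h1, h2, L, hL⟩ := h
  let j : Spec (CommRingCat.of K) ⟶ Spec (CommRingCat.of k) := Spec.map (CommRingCat.ofHom (algebraMap k K))
  haveI : Surjective j := ⟨fun y => ⟨IsLocalRing.closedPoint K, Subsingleton.elim (α := PrimeSpectrum k) _ _⟩⟩
  haveI : Flat j := (HasRingHomProperty.Spec_iff (P := @Flat)).2 (RingHom.flat_algebraMap_iff.2 inferInstance)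
  have hsq := (IsPullback.of_hasPullback (X ↘ Spec (CommRingCat.of k)) j).flip
  haveI := @Groth.Agent.FpqcDesc.quasiCompact_descends.{u}
  have hqc : QuasiCompact (X ↘ Spec (CommRingCat.of k)) := MorphismProperty.of_isPullback_of_descendsAlong
    (P := @QuasiCompact) (Q := @Surjective ⊓ @Flat ⊓ @QuasiCompact) hsq ⟨⟨‹_›, ‹_›⟩, inferInstance⟩ h2
  have hft : LocallyOfFiniteType (X ↘ Spec (CommRingCat.of k)) := MorphismProperty.of_isPullback_of_descendsAlong
    (P := @LocallyOfFiniteType) (Q := @Surjective ⊓ @Flat ⊓ @QuasiCompact) hsq ⟨⟨‹_›, ‹_›⟩, inferInstance⟩ h1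
  haveI := h2
  obtain ⟨M, hM⟩ := Groth.Agent.AmpleFieldLib.exists_isAmple_of_extension (X ↘ Spec (CommRingCat.of k)) K
    ((Groth.Agent.AmpleLib.isRelAmple_iff_isAmple (Curv2.bcSnd k X K)).1 hL)
  exact ⟨hft, hqc, M, (Groth.Agent.AmpleLib.isRelAmple_iff_isAmple _).2 hM⟩

end Groth.Agent.S7630
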