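import Groth.Statements.S7642
import Groth.Agent.CurveLib.Components
-- import your own Groth.Agent.* helpers here

set_option autoImplicit false
universe u
open CategoryTheory CategoryTheory.Limits AlgebraicGeometry
open Variety

namespace Groth.Agent.S7642

/-- Let X be proper of dimension at most one over a field k and let L be an invertible module on X. Then
L is ample if and only if deg(L|_C) > 0 for every irreducible component C of X of dimension one, C
carrying its reduced induced structure. -/
theorem result (k : Type u) [Field k] (X : Scheme.{u}) [X.Over (Spec (CommRingCat.of k))] [IsProper (X ↘ (Spec (CommRingCat.of k)))] [IsNoetherian X]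
    (hdim : topologicalKrullDim X ≤ 1) (L : X.Modules) (hL : PicF.IsInvertible L) :
    CohB1.IsAmple L ↔ ∀ (C : Set X) (hC : C ∈ irreducibleComponents (X : Type u)),
      topologicalKrullDim C = 1 → 0 < @Curv2.deg k _ (X.irreducibleComponentIdeal C hC).radical.subscheme ⟨(X.irreducibleComponentIdeal C hC).radical.subschemeι ≫ (X ↘ (Spec (CommRingCat.of k)))⟩ ((Scheme.Modules.pullback (X.irreducibleComponentIdeal C hC).radical.subschemeι).obj L) 1 := by
  have hcomp : ∀ (C : Set X) (hC : C ∈ irreducibleComponents (X : Type u)),
      (X.irreducibleComponentIdeal C hC).radical =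
        Scheme.IdealSheafData.vanishingIdeal (⟨C, isClosed_of_mem_irreducibleComponents C hC⟩ :
          TopologicalSpace.Closeds X) := fun C hC => by
    rw [← Scheme.IdealSheafData.vanishingIdeal_support]
    exact congrArg _ (SetLike.coe_injective rfl)
  constructor
  · intro h C hC hd
    rw [hcomp C hC]
    let i := (Scheme.IdealSheafData.vanishingIdeal
      (⟨C, isClosed_of_mem_irreducibleComponents C hC⟩ : TopologicalSpace.Closeds X)).subschemeι
    letI : (Scheme.IdealSheafData.vanishingIdeal
        (⟨C, isClosed_of_mem_irreducibleComponents C hC⟩ : TopologicalSpace.Closeds X)).subscheme.Over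
        (Spec (CommRingCat.of k)) := ⟨i ≫ (X ↘ Spec (CommRingCat.of k))⟩
    haveI : IsProper ((Scheme.IdealSheafData.vanishingIdeal
        (⟨C, isClosed_of_mem_irreducibleComponents C hC⟩ : TopologicalSpace.Closeds X)).subscheme ↘
          Spec (CommRingCat.of k)) :=
      (inferInstanceAs (IsProper (i ≫ (X ↘ Spec (CommRingCat.of k)))))
    haveI := CurveLib.isIntegral_vanishingIdeal (isClosed_of_mem_irreducibleComponents C hC) hC.1
    exact (CurveLib.isAmple_iff_deg_pos (k := k) ((CurveLib.dim_vanishingIdeal _).trans hd)
      (AmpleLib.isInvertible_pullback i hL)).1 (AmpleLib.isAmple_pullback i h)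
  · intro h
    refine CurveLib.isAmple_of_deg_pos k hdim hL fun C hC hirr hd => ?_
    have hmem : C ∈ irreducibleComponents (X : Type u) := CurveLib.mem_irreducibleComponents hdim hC hirr hd
    have := h C hmem hd
    rw [hcomp C hmem] at this
    exact this

end Groth.Agent.S7642
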