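import Groth.Statements.S7644
import Mathlib

set_option autoImplicit false
universe u
open CategoryTheory CategoryTheory.Limits AlgebraicGeometry
open Variety

namespace Groth.Agent.S7644

open CategoryTheory CategoryTheory.Limits AlgebraicGeometry

set_option backward.isDefEq.respectTransparency false
set_option backward.defeqAttrib.useBackward true
set_option linter.style.haveILetI false


/-- If X is an irreducible scheme of positive dimension, separated over a field k, and x is a closed
point of X, then the open subscheme obtained by removing x is not proper over k. -/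
theorem result (k : Type u) [Field k] (X : Scheme.{u}) [X.Over (Spec (CommRingCat.of k))]
    [IsSeparated (X ↘ (Spec (CommRingCat.of k)))] [IrreducibleSpace X] (hdim : 0 < topologicalKrullDim X)
    (x : X) (hx : IsClosed ({x} : Set X)) :
    ¬ IsProper (Scheme.Opens.ι (⟨({x} : Set X)ᶜ, hx.isOpen_compl⟩ : X.Opens) ≫ (X ↘ (Spec (CommRingCat.of k)))) := by
  intro hp
  let U : X.Opens := ⟨({x} : Set X)ᶜ, hx.isOpen_compl⟩
  haveI : IsProper U.ι := IsProper.of_comp U.ι (X ↘ Spec (CommRingCat.of k))
  have hU : IsClosed (U : Set X) := by
    rw [← Scheme.Opens.range_ι]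
    exact U.ι.isClosedMap.isClosed_range
  have hxo : IsOpen ({x} : Set X) := by simpa [U] using hU.isOpen_compl
  haveI hsub : Subsingleton X := ⟨fun a b => by
    have key : ∀ y : X, y = x := fun y => by
      by_contra hy
      obtain ⟨w, hw1, hw2⟩ := nonempty_preirreducible_inter hxo hx.isOpen_compl ⟨x, rfl⟩ ⟨y, hy⟩
      exact hw2 hw1
    rw [key a, key b]⟩
  haveI : Subsingleton (TopologicalSpace.IrreducibleCloseds X) := ⟨fun a b => by
    refine TopologicalSpace.IrreducibleCloseds.ext (Set.ext fun y => ?_)
    obtain ⟨p, hp⟩ := a.isIrreducible.nonempty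
    obtain ⟨q, hq⟩ := b.isIrreducible.nonempty
    rw [Subsingleton.elim y p]
    exact iff_of_true hp (Subsingleton.elim p q ▸ hq)⟩
  exact not_le_of_gt hdim (Order.krullDim_nonpos_of_subsingleton)

end Groth.Agent.S7644
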