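import Groth.Statements.S7647
import Groth.Agent.IntLib.Coeff
-- import your own Groth.Agent.* helpers here

set_option autoImplicit false
set_option backward.isDefEq.respectTransparency false
universe u
open CategoryTheory CategoryTheory.Limits AlgebraicGeometry
open Variety

namespace Groth.Agent.S7647
open CategoryTheory CategoryTheory.Limits AlgebraicGeometry

/-- Let X be proper over a field k, Z ⊆ X a closed subscheme of dimension ≤ 1 and L an invertible
module. Then the intersection number (L · Z), i.e. the coefficient of n in the polynomial computing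
χ(X, O_Z ⊗ L^{⊗n}), equals the degree of L|_Z on Z. -/
theorem result (k : Type u) [Field k] (X : Scheme.{u}) [X.Over (Spec (CommRingCat.of k))] [IsProper (X ↘ (Spec (CommRingCat.of k)))]
    (D : X.IdealSheafData) (hD : topologicalKrullDim (D.support : Set X) ≤ 1)
    (L : X.Modules) (hL : PicF.IsInvertible L) (P : MvPolynomial (Fin 1) ℚ)
    (hP : ∀ n : Fin 1 → ℕ, (Curv2.euler k X (Curv2.tensorPows (ClSub.quotMod D) 1 (fun _ => L) n) : ℚ) = MvPolynomial.eval (fun i => (n i : ℚ)) P) :
    MvPolynomial.coeff (Finsupp.equivFunOnFinite.symm fun _ : Fin 1 => 1) P =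
      (@Curv2.deg k _ D.subscheme ⟨D.subschemeι ≫ (X ↘ (Spec (CommRingCat.of k)))⟩
        ((Scheme.Modules.pullback D.subschemeι).obj L) 1 : ℚ) := by
  haveI := EulerIneqLib.isNoetherian_proper (X := X) k
  letI : D.subscheme.Over (Spec (CommRingCat.of k)) := ⟨D.subschemeι ≫ (X ↘ Spec (CommRingCat.of k))⟩
  haveI : IsProper (D.subscheme ↘ Spec (CommRingCat.of k)) :=
    inferInstanceAs (IsProper (D.subschemeι ≫ (X ↘ Spec (CommRingCat.of k))))
  haveI : IsLocallyNoetherian D.subscheme := LocallyOfFiniteType.isLocallyNoetherian D.subschemeι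
  have hc : Coh.IsCoh (Coh.structureModule D.subscheme) := DevLib.isCoh_structureModule _
  have hO : Coh.IsCoh (ClSub.quotMod D) := DevLib.isCoh_pushforward_closed D.subschemeι hc
  have hd : topologicalKrullDim (CohB1.support (ClSub.quotMod D)) ≤ ((1 : ℕ) : WithBot ℕ∞) := by
    refine le_trans (Topology.IsEmbedding.inclusion ?_).isInducing.topologicalKrullDim_le (le_of_le_of_eq hD Nat.cast_one.symm)
    rw [← Scheme.IdealSheafData.range_subschemeι]
    exact IntLib.support_pushforward_subset D.subschemeι _
  rw [IntLib.coeff_eq_pairing k hO hd (fun _ => L) (fun _ => hL) P hP, Fin.prod_univ_one, IntLib.pairing_dif, pow_one]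
  have e1 : Curv2.euler k X (ClSub.quotMod D) = Curv2.euler k D.subscheme (Coh.structureModule D.subscheme) :=
    haveI := hc.1
    IntLib.euler_push k D.subschemeι rfl _
  have e2 : Curv2.euler k X (CohB1.tensorMod (ClSub.quotMod D) L) =
      Curv2.euler k D.subscheme ((Scheme.Modules.pullback D.subschemeι).obj L) :=
    (IntLib.euler_push_tensor k (i := D.subschemeι) rfl hc hL).trans
      (CurveLib.euler_iso (K := k) (AmpleLib.unitL _))
  rw [e1, e2, Curv2.deg]
  push_cast
  ring

end Groth.Agent.S7647
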