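import Groth.Statements.S7648
import Groth.Agent.IntLib.Divisor
-- import your own Groth.Agent.* helpers here

set_option autoImplicit false
set_option backward.isDefEq.respectTransparency false
universe u
open CategoryTheory CategoryTheory.Limits AlgebraicGeometry
open Variety

namespace Groth.Agent.S7648
open CategoryTheory CategoryTheory.Limits AlgebraicGeometry

/-- Let X be proper over a field k of dimension e + 1, let D ⊆ X be an effective Cartier divisor and let
L_0, L_1, …, L_e be invertible modules with L_0 ≅ O_X(D), i.e. L_0 ⊗ I_D ≅ O_X. Then (L_0 ⋯ L_e · X)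
= (L_1 ⋯ L_e · D): the coefficient of n_0⋯n_e in the polynomial computing χ(X, ⊗_j L_j^{⊗n_j})
equals the coefficient of n_1⋯n_e in the polynomial computing χ(X, O_D ⊗ L_1^{⊗n_1} ⊗ ⋯ ⊗
L_e^{⊗n_e}). (The published statement has a closed subscheme Z ⊆ X of dimension d with D ⊆ Z and
L_1|_Z ≅ O_Z(D); this row is its case Z = X.) -/
theorem result (k : Type u) [Field k] (X : Scheme.{u}) [X.Over (Spec (CommRingCat.of k))] [IsProper (X ↘ (Spec (CommRingCat.of k)))]
    (e : ℕ) (hX : topologicalKrullDim X = e + 1) (D : X.IdealSheafData) (hD : FGA.IsEffCartier D)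
    (L : Fin (e + 1) → X.Modules) (hL : ∀ j, PicF.IsInvertible (L j))
    (hLD : ClSub.IsInverseOf (L 0) (ClSub.idealMod D))
    (P : MvPolynomial (Fin (e + 1)) ℚ) (Q : MvPolynomial (Fin e) ℚ)
    (hP : ∀ n : Fin (e + 1) → ℕ, (Curv2.euler k X (Curv2.tensorPows (Coh.structureModule X) (e + 1) L n) : ℚ) = MvPolynomial.eval (fun i => (n i : ℚ)) P)
    (hQ : ∀ n : Fin e → ℕ, (Curv2.euler k X (Curv2.tensorPows (ClSub.quotMod D) e (fun j => L j.succ) n) : ℚ) = MvPolynomial.eval (fun i => (n i : ℚ)) Q) :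
    MvPolynomial.coeff (Finsupp.equivFunOnFinite.symm fun _ : Fin (e + 1) => 1) P = MvPolynomial.coeff (Finsupp.equivFunOnFinite.symm fun _ : Fin e => 1) Q := by
  haveI := EulerIneqLib.isNoetherian_proper (X := X) k
  have hI : PicF.IsInvertible (ClSub.idealMod D) := by
    obtain ⟨e⟩ := hLD
    exact AmpleLib.isInvertible_of_tensor_iso (AmpleLib.comm (ClSub.idealMod D) (L 0) ≪≫ e)
  obtain ⟨e0⟩ := hLD
  have hD' : BlowUp.IsEffCartierIdeal D := hD
  have hdim : topologicalKrullDim X ≤ ((e + 1 : ℕ) : WithBot ℕ∞) := le_of_eq (hX.trans (Nat.cast_succ e).symm)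
  have hdD : topologicalKrullDim (CohB1.support (ClSub.quotMod D)) ≤ (e : WithBot ℕ∞) :=
    (Topology.IsEmbedding.inclusion (IntLib.support_quotMod_subset D)).isInducing.topologicalKrullDim_le.trans
      (IntLib.dim_support_le hD' hdim)
  have hsub : topologicalKrullDim (CohB1.support (Coh.structureModule X)) ≤ ((e + 1 : ℕ) : WithBot ℕ∞) :=
    le_trans (Topology.IsEmbedding.subtypeVal.isInducing.topologicalKrullDim_le) hdim
  have hO : Coh.IsCoh (Coh.structureModule X) := CurveLib.isCoh_of_isInvertible ParaFLib.isInvertible_structureModule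
  rw [IntLib.coeff_eq_pairing k hO hsub L hL P hP,
    IntLib.coeff_eq_pairing k (IntLib.isCoh_quotMod D) hdD (fun j => L j.succ) (fun j => hL j.succ) Q hQ,
    IntLib.pairing_quotMod k hI,
    IntLib.pairing_dif_inv k (hL 0) hI e0 hO (lt_of_le_of_lt hsub (by exact_mod_cast Nat.lt_succ_self (e + 1))),
    Fin.prod_univ_succ]
  push_cast
  ring

end Groth.Agent.S7648
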