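import Groth.Statements.S7649
import Groth.Agent.DegDevLib.Dim
import Groth.Agent.IntLib.Positive
import Groth.Agent.AmpleEmb.Serre
import Mathlib.Algebra.MvPolynomial.Coeff

set_option autoImplicit false
universe u
open CategoryTheory CategoryTheory.Limits AlgebraicGeometry
open Variety

namespace Groth.Agent.S7649

open CategoryTheory CategoryTheory.Limits AlgebraicGeometry

open Groth.Agent.IntLib Groth.Agent.HilbLib

theorem coeff_ones (d : ℕ) (q : Polynomial ℚ) (hq : q.natDegree < d + 1) :
    MvPolynomial.coeff (Finsupp.equivFunOnFinite.symm fun _ : Fin d => 1)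
      (Polynomial.aeval (∑ i : Fin d, (MvPolynomial.X i : MvPolynomial (Fin d) ℚ)) q) =
      q.coeff d * d.factorial := by
  classical
  set ones := Finsupp.equivFunOnFinite.symm fun _ : Fin d => 1 with hones
  have hsupp : ones.support = Finset.univ := by ext i; simp [hones]
  have hsum : (ones.sum fun _ m => m) = d := by
    rw [Finsupp.sum, hsupp]
    simp [hones]
  have hmult : ones.multinomial = d.factorial := by
    rw [Finsupp.multinomial_eq, hsupp, Nat.multinomial]
    simp [hones]
  rw [Polynomial.aeval_eq_sum_range' hq, MvPolynomial.coeff_sum]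
  rw [Finset.sum_eq_single d]
  · rw [MvPolynomial.coeff_smul, MvPolynomial.coeff_sum_X_pow_of_fintype, if_pos hsum, hmult, smul_eq_mul]
  · intro j _ hj
    rw [MvPolynomial.coeff_smul, MvPolynomial.coeff_sum_X_pow_of_fintype, if_neg (by omega)]
    simp
  · intro h; simp at h

/-- Let X be proper over a field k of dimension d and L an ample invertible module. With deg_L(X) the
coefficient of n_1⋯n_d in the polynomial computing χ(X, L^{⊗n_1} ⊗ ⋯ ⊗ L^{⊗n_d}) and c =
deg_L(X)/d!, the constant c is positive and dim_k Γ(X, L^{⊗n}) = c·n^d + lower order terms; here the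
lower-order bound is written as |dim_k H^0(X, L^{⊗n}) − c·n^d| ≤ C·(n+1)^{d−1} for a constant C and
all n ≥ 0. -/
theorem result (k : Type u) [Field k] (X : Scheme.{u}) [X.Over (Spec (CommRingCat.of k))] [IsProper (X ↘ (Spec (CommRingCat.of k)))]
    (d : ℕ) (hX : topologicalKrullDim X = d) (L : X.Modules) (hL : CohB1.IsAmple L)
    (P : MvPolynomial (Fin d) ℚ)
    (hP : ∀ n : Fin d → ℕ, (Curv2.euler k X (Curv2.tensorPows (Coh.structureModule X) d (fun _ => L) n) : ℚ) = MvPolynomial.eval (fun i => (n i : ℚ)) P) :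
    0 < MvPolynomial.coeff (Finsupp.equivFunOnFinite.symm fun _ : Fin d => 1) P ∧
      ∃ C : ℚ, ∀ n : ℕ,
        |(Module.finrank k (Coh.HH X (CohB1.tensorPow L n) 0) : ℚ) -
            MvPolynomial.coeff (Finsupp.equivFunOnFinite.symm fun _ : Fin d => 1) P / (d.factorial : ℚ) * (n : ℚ) ^ d| ≤
          C * ((n : ℚ) + 1) ^ (d - 1) := by
  classical
  haveI := EulerIneqLib.isNoetherian_proper (X := X) k
  have hO : Coh.IsCoh (Coh.structureModule X) := DevLib.isCoh_structureModule X
  have hsupp : CohB1.support (Coh.structureModule X) = Set.univ := by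
    refine Set.eq_univ_of_forall fun x hx => ?_
    have h01 : (CurveLib.uni X x) = 0 := @Subsingleton.elim _ hx _ _
    exact one_ne_zero ((ParaFLib.bijective_oneG x).1 (show (1 : X.presheaf.stalk x) • CurveLib.uni X x =
      (0 : X.presheaf.stalk x) • CurveLib.uni X x by simp [h01]))
  have hdO : topologicalKrullDim (CohB1.support (Coh.structureModule X)) ≤ (d : WithBot ℕ∞) :=
    (Topology.IsEmbedding.subtypeVal.isInducing.topologicalKrullDim_le).trans hX.le
  have hdO' : topologicalKrullDim (CohB1.support (Coh.structureModule X)) < ((d + 1 : ℕ) : WithBot ℕ∞) :=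
    lt_of_le_of_lt hdO (by exact_mod_cast Nat.lt_succ_self d)
  obtain ⟨q, hqdeg, hq⟩ := exists_poly k hL.1 (d + 1) (Coh.structureModule X) hO hdO'
  have hqd : q.natDegree < d + 1 := by
    rcases eq_or_ne q 0 with h | h
    · simp [h]
    · exact (Polynomial.natDegree_lt_iff_degree_lt h).2 hqdeg
  have heul : ∀ m : ℕ, (Curv2.euler k X (CohB1.tensorPow L m) : ℚ) = q.eval (m : ℚ) := fun m =>
    (congrArg (fun z : ℤ => (z : ℚ)) (CurveLib.euler_iso (K := k) (AmpleLib.unitL _).symm)).trans (hq m)
  obtain rfl : P = Polynomial.aeval (∑ i : Fin d, (MvPolynomial.X i : MvPolynomial (Fin d) ℚ)) q := by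
    refine mvPoly_eq_of_nat fun n => (hP n).symm.trans ?_
    have e : IntLib.mk (Curv2.tensorPows (Coh.structureModule X) d (fun _ => L) n) =
        IntLib.mk (CohB1.tensorPow L (∑ i, n i)) := by
      rw [mk_tensorPows, mk_structureModule, one_mul, mk_tensorPow, Finset.prod_pow_eq_pow_sum]
    obtain ⟨e⟩ := mk_eq_mk.1 e
    rw [CurveLib.euler_iso (K := k) e, heul, ← MvPolynomial.aeval_eq_eval]
    show _ = (MvPolynomial.aeval fun i => (n i : ℚ)) (Polynomial.aeval _ q)
    rw [← Polynomial.aeval_algHom_apply, map_sum]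
    simp [Polynomial.coe_aeval_eq_eval]
  rw [coeff_ones d q hqd, mul_div_assoc, div_self (by exact_mod_cast d.factorial_ne_zero), mul_one]
  refine ⟨?_, ?_⟩
  · obtain ⟨N, hN, ⟨eN⟩⟩ := AmpleEmb.exists_isInverseOf hL.1
    have hpos := (isPos_prod k d (fun _ => L) (fun _ => N) (fun _ => hL) (fun _ => hN) (fun _ => ⟨eN⟩)
      (Coh.structureModule X) hO hdO').2 ((not_dim_lt_iff (by rw [hsupp]; exact isClosed_univ) d).1 (by
        rw [hsupp, not_lt, (Homeomorph.Set.univ X).isHomeomorph.topologicalKrullDim_eq, hX]))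
    have hinv : inv' hN * inv' hL.1 = 1 := Subtype.ext (by
      rw [Submonoid.coe_mul, Submonoid.coe_one, mul_comm]
      exact mk_congr eN)
    have hdif : dif hN = -(MonoidAlgebra.of ℤ _ (inv' hN) * dif hL.1) := by
      simp only [dif, mul_sub, mul_one, ← map_mul, hinv, map_one]
      ring
    let G := CohB1.tensorPow N d
    have hG : PicF.IsInvertible G := AmpleLib.isInvertible_tensorPow hN d
    have hGof : MonoidAlgebra.of ℤ (IntLib.Inv X) (inv' hN) ^ d = MonoidAlgebra.of ℤ _ (inv' hG) := by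
      rw [← map_pow]
      exact congrArg _ (Subtype.ext (by rw [SubmonoidClass.coe_pow]; exact (mk_tensorPow N d).symm))
    have h0 := pairing_prod_eq_zero k (r := d + 1) hO hdO' (Fin.cons G fun _ => L)
      (fun i => Fin.cases (by simpa using hG) (fun j => by simpa using hL.1) i)
    have hLi : PicF.IsInvertible L := hL.1
    rw [Fin.prod_univ_succ] at h0
    replace h0 : pairing k (Coh.structureModule X) (dif hG * ∏ _ : Fin d, dif hLi) = 0 := h0
    rw [Finset.prod_const, Finset.card_univ, Fintype.card_fin] at h0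
    simp only [show dif hG = 1 - MonoidAlgebra.of ℤ _ (inv' hG) from rfl, sub_mul, one_mul, map_sub, sub_eq_zero] at h0
    have hc := coeff_eq_pairing k hO hdO (fun _ => L) (fun _ => hLi) _ hP
    rw [coeff_ones d q hqd] at hc
    rw [hc]
    simp only [hdif, Finset.prod_const, Finset.card_univ, Fintype.card_fin] at hpos
    rw [neg_pow, mul_pow, hGof] at hpos
    simp only [Finset.prod_const, Finset.card_univ, Fintype.card_fin]
    have hpair : pairing k (Coh.structureModule X) ((-1) ^ d * (MonoidAlgebra.of ℤ (IntLib.Inv X) (inv' hG) * dif hL.1 ^ d)) =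
        (-1) ^ d * pairing k (Coh.structureModule X) (dif hL.1 ^ d) := by
      rcases Nat.even_or_odd d with h | h
      · rw [h.neg_one_pow, h.neg_one_pow, one_mul, one_mul]; exact h0.symm
      · rw [h.neg_one_pow, h.neg_one_pow, neg_one_mul, neg_one_mul, map_neg]; exact congrArg Neg.neg h0.symm
    rw [hpair] at hpos
    exact_mod_cast hpos
  obtain ⟨n₀, hn₀⟩ := AmpleEmb.serre_vanishing (X ↘ Spec (CommRingCat.of k)) hL hO
  let f : ℕ → ℚ := fun n =>
    |(Module.finrank k (Coh.HH X (CohB1.tensorPow L n) 0) : ℚ) - q.coeff d * (n : ℚ) ^ d|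
  refine ⟨(∑ n ∈ Finset.range n₀, f n) + ∑ j ∈ Finset.range d, |q.coeff j|, fun n => ?_⟩
  have h1 : (1 : ℚ) ≤ ((n : ℚ) + 1) ^ (d - 1) := one_le_pow₀ (by linarith [(Nat.cast_nonneg n : (0 : ℚ) ≤ n)])
  have hA : 0 ≤ ∑ n ∈ Finset.range n₀, f n := Finset.sum_nonneg fun _ _ => abs_nonneg _
  have hB : 0 ≤ ∑ j ∈ Finset.range d, |q.coeff j| := Finset.sum_nonneg fun _ _ => abs_nonneg _
  rcases lt_or_ge n n₀ with hn | hn
  · have h2 : f n ≤ ∑ n ∈ Finset.range n₀, f n :=
      Finset.single_le_sum (fun _ _ => abs_nonneg _) (Finset.mem_range.2 hn)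
    calc f n ≤ _ + ∑ j ∈ Finset.range d, |q.coeff j| := h2.trans (le_add_of_nonneg_right hB)
      _ ≤ _ := le_mul_of_one_le_right (add_nonneg hA hB) h1
  · have he := CurveLib.euler_eq_sum (K := k) (CohB1.tensorPow L n) 1 fun p hp =>
      CurveLib.subsingleton_HH_iso (AmpleLib.unitL _) p (hn₀ n hn p hp)
    simp only [Finset.range_one, Finset.sum_singleton, pow_zero, one_mul] at he
    have h2 := heul n
    rw [he, Int.cast_natCast, Polynomial.eval_eq_sum_range' hqd, Finset.sum_range_succ] at h2
    rw [h2, add_sub_cancel_right]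
    refine (Finset.abs_sum_le_sum_abs _ _).trans ?_
    rw [add_mul]
    refine le_trans ?_ (le_add_of_nonneg_left (mul_nonneg hA (zero_le_one.trans h1)))
    rw [Finset.sum_mul]
    refine Finset.sum_le_sum fun j hj => ?_
    rw [abs_mul, abs_pow, Nat.abs_cast]
    refine mul_le_mul_of_nonneg_left ?_ (abs_nonneg _)
    exact (pow_le_pow_left₀ (Nat.cast_nonneg n) (by linarith) j).trans
      (pow_le_pow_right₀ (by linarith [(Nat.cast_nonneg n : (0 : ℚ) ≤ n)]) (by
        have := Finset.mem_range.1 hj; omega))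

end Groth.Agent.S7649
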