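import Groth.Statements.S7650
import Groth.Agent.DegDevLib.Dim

set_option autoImplicit false
universe u
open CategoryTheory CategoryTheory.Limits AlgebraicGeometry
open Variety

namespace Groth.Agent.S7650

open CategoryTheory CategoryTheory.Limits AlgebraicGeometry

open Groth.Agent.IntLib Groth.Agent.HilbLib

theorem pairing_of_prod (k : Type u) [Field k] {Y : Scheme.{u}} [Y.Over (Spec (CommRingCat.of k))]
    [IsProper (Y ↘ Spec (CommRingCat.of k))] {r : ℕ} (L : Fin r → Y.Modules)
    (hL : ∀ i, PicF.IsInvertible (L i)) (N : Y.Modules) (n : Fin r → ℕ) :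
    pairing k N (MonoidAlgebra.of ℤ (IntLib.Inv Y) (∏ i, inv' (hL i) ^ n i)) =
      Curv2.euler k Y (Curv2.tensorPows N r L n) := by
  rw [pairing_of, ← chiC_mk, mk_tensorPows, Submonoid.coe_finset_prod]
  rfl

/-- `χ_X(O_Z ⊗ L^n) = χ_Z(L|_Z^n)`. -/
theorem euler_closed (k : Type u) [Field k] {X : Scheme.{u}} [X.Over (Spec (CommRingCat.of k))]
    [IsProper (X ↘ Spec (CommRingCat.of k))] (J : X.IdealSheafData) {r : ℕ} (L : Fin r → X.Modules)
    (hL : ∀ i, PicF.IsInvertible (L i)) (n : Fin r → ℕ) :
    Curv2.euler k X (Curv2.tensorPows (ClSub.quotMod J) r L n) =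
      @Curv2.euler k _ J.subscheme ⟨J.subschemeι ≫ (X ↘ (Spec (CommRingCat.of k)))⟩
        (Curv2.tensorPows (Coh.structureModule J.subscheme) r
          (fun i => (Scheme.Modules.pullback J.subschemeι).obj (L i)) n) := by
  haveI := EulerIneqLib.isNoetherian_proper (X := X) k
  letI : J.subscheme.Over (Spec (CommRingCat.of k)) := ⟨J.subschemeι ≫ (X ↘ Spec (CommRingCat.of k))⟩
  haveI : IsProper (J.subscheme ↘ Spec (CommRingCat.of k)) :=
    inferInstanceAs (IsProper (J.subschemeι ≫ (X ↘ Spec (CommRingCat.of k))))
  haveI : IsLocallyNoetherian J.subscheme := LocallyOfFiniteType.isLocallyNoetherian J.subschemeι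
  let G := Curv2.tensorPows (Coh.structureModule X) r L n
  have hG : PicF.IsInvertible G := tensorPows_invertible r L hL n _ ParaFLib.isInvertible_structureModule
  obtain ⟨e⟩ := mk_eq_mk.1 (show mk (Curv2.tensorPows (ClSub.quotMod J) r L n) =
    mk (CohB1.tensorMod (ClSub.quotMod J) G) by
      rw [mk_tensor, mk_tensorPows, mk_tensorPows, mk_structureModule, one_mul])
  obtain ⟨e'⟩ := mk_eq_mk.1 (show mk (CohB1.tensorMod (Coh.structureModule J.subscheme)
      ((Scheme.Modules.pullback J.subschemeι).obj G)) =
    mk (Curv2.tensorPows (Coh.structureModule J.subscheme) r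
      (fun i => (Scheme.Modules.pullback J.subschemeι).obj (L i)) n) by
      rw [mk_tensor, mk_tensorPows, mk_structureModule, ← pullCls_mk, mk_tensorPows, mk_structureModule,
        one_mul, one_mul, map_prod]
      simp only [map_pow, pullCls_mk, one_mul])
  exact (CurveLib.euler_iso (K := k) e).trans
    ((euler_push_tensor k (i := J.subschemeι) rfl (DevLib.isCoh_structureModule _) hG).trans
      (CurveLib.euler_iso (K := k) e'))

/-- Evaluation of polynomials at natural points. -/
noncomputable def evalNat (r : ℕ) : MvPolynomial (Fin r) ℚ →ₗ[ℚ] (Fin r → ℕ) → ℚ :=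
  LinearMap.pi fun n => (MvPolynomial.aeval fun i => (n i : ℚ)).toLinearMap

/-- Let X be proper over a field k, F a coherent module with dim Supp(F) = d and L_1, …, L_r invertible
modules. The Euler characteristic of F twisted by L_1^{⊗n_1} ⊗ ⋯ ⊗ L_r^{⊗n_r}, minus the sum over
the d-dimensional irreducible components Z of Supp(F) of the length of F at the generic point of Z
times the Euler characteristic on Z of the restricted twist, agrees with a rational polynomial in
the exponents each of whose monomials has total degree less than d. Here the sum is written over all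
points ξ of X whose closure has dimension d (the term vanishes unless ξ is the generic point of a
d-dimensional component of Supp(F)), and Z_ξ carries its reduced induced structure. (The published
statement lets the exponents range over all integers; this row takes them in ℕ.) -/
theorem result (k : Type u) [Field k] (X : Scheme.{u}) [X.Over (Spec (CommRingCat.of k))] [IsProper (X ↘ (Spec (CommRingCat.of k)))]
    (F : X.Modules) (hF : Coh.IsCoh F) (d : ℕ) (hd : topologicalKrullDim (CohB1.support F) = d)
    (r : ℕ) (L : Fin r → X.Modules) (hL : ∀ i, PicF.IsInvertible (L i)) :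
    ∃ P : MvPolynomial (Fin r) ℚ, (∀ m ∈ P.support, (m.sum fun _ e => e) < d) ∧
      ∀ n : Fin r → ℕ,
        (Curv2.euler k X (Curv2.tensorPows F r L n) : ℚ) -
          ∑ᶠ ξ : X, (if topologicalKrullDim (closure ({ξ} : Set X)) = (d : WithBot ℕ∞) then
            ((Module.length (X.presheaf.stalk ξ) (F.presheaf.stalk ξ)).toNat : ℚ) *
              (@Curv2.euler k _
                (Scheme.IdealSheafData.vanishingIdeal (⟨closure ({ξ} : Set X), isClosed_closure⟩ : TopologicalSpace.Closeds X)).subscheme
                ⟨(Scheme.IdealSheafData.vanishingIdeal (⟨closure ({ξ} : Set X), isClosed_closure⟩ : TopologicalSpace.Closeds X)).subschemeι ≫ (X ↘ (Spec (CommRingCat.of k)))⟩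
                (Curv2.tensorPows
                  (Coh.structureModule (Scheme.IdealSheafData.vanishingIdeal (⟨closure ({ξ} : Set X), isClosed_closure⟩ : TopologicalSpace.Closeds X)).subscheme)
                  r (fun i => (Scheme.Modules.pullback
                    (Scheme.IdealSheafData.vanishingIdeal (⟨closure ({ξ} : Set X), isClosed_closure⟩ : TopologicalSpace.Closeds X)).subschemeι).obj (L i)) n) : ℚ)
            else 0)
          = MvPolynomial.eval (fun i => (n i : ℚ)) P := by
  classical
  haveI := EulerIneqLib.isNoetherian_proper (X := X) k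
  let T : Set (Fin r →₀ ℕ) := {m | (m.sum fun _ e => e) < d}
  let W : Submodule ℚ ((Fin r → ℕ) → ℚ) := (MvPolynomial.restrictSupport ℚ T).map (evalNat r)
  let f : X.Modules → (Fin r → ℕ) → ℚ := fun N n => (Curv2.euler k X (Curv2.tensorPows N r L n) : ℚ)
  let ψ : X.Modules → ((Fin r → ℕ) → ℚ) ⧸ W := fun N => Submodule.Quotient.mk (f N)
  have hf : ∀ N n, f N n = (pairing k N (MonoidAlgebra.of ℤ (IntLib.Inv X) (∏ i, inv' (hL i) ^ n i)) : ℚ) := fun N n => by
    rw [pairing_of_prod k L hL]
  have hfin := DegDevLib.finite_top_points (DevLib.isClosed_support hF) hd.le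
  obtain ⟨-, h⟩ := DegDevLib.additive_decomp ψ
    (fun A B ⟨e⟩ => congrArg Submodule.Quotient.mk (funext fun n => by rw [hf, hf, pairing_iso k e]))
    (fun S hS h₁ h₂ h₃ => by
      rw [← Submodule.Quotient.mk_add]
      refine congrArg Submodule.Quotient.mk (funext fun n => ?_)
      rw [Pi.add_apply, hf, hf, hf, pairing_shortExact k hS h₁ h₂ h₃]
      push_cast
      rfl)
    (fun N hN => (Submodule.Quotient.mk_eq_zero W).2 (by
      have h0 : f N = 0 := funext fun n => by rw [hf, pairing_isZero k hN]; simp
      rw [h0]; exact W.zero_mem))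
    (r := d) (fun N hN hlt => (Submodule.Quotient.mk_eq_zero W).2 (by
      obtain - | d' := d
      · have h0 : f N = 0 := funext fun n => by
          rw [hf, pairing_isZero k (DevLib.isZero_of_support_empty ?_)]
          · simp
          · by_contra hne
            obtain ⟨x, hx⟩ := Set.nonempty_iff_ne_empty.2 hne
            haveI : Nonempty (TopologicalSpace.IrreducibleCloseds (CohB1.support N)) :=
              ⟨⟨closure {⟨x, hx⟩}, isIrreducible_singleton.closure, isClosed_closure⟩⟩
            exact absurd hlt (not_lt.2 (by rw [Nat.cast_zero]; exact Order.krullDim_nonneg_iff.2 inferInstance))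
        rw [h0]; exact W.zero_mem
      · obtain ⟨P, hP, hPe⟩ := snapper k r L hL N hN d' (dim_le_of_lt hlt)
        refine ⟨P, (MvPolynomial.mem_restrictSupport_iff ℚ).2 fun m hm => ?_, funext fun n => ?_⟩
        · exact Nat.lt_succ_of_le ((MvPolynomial.le_totalDegree hm).trans hP)
        · show MvPolynomial.aeval _ P = f N n
          rw [MvPolynomial.aeval_eq_eval]
          exact (hPe n).symm))
    hF hd.le hfin.toFinset (fun ξ => by simp)
  have hmem : f F - ∑ ξ ∈ hfin.toFinset,
      ((Module.length (X.presheaf.stalk ξ) (F.presheaf.stalk ξ)).toNat : ℤ) • f (compMod ξ) ∈ W := by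
    rw [← Submodule.Quotient.mk_eq_zero, Submodule.Quotient.mk_sub, sub_eq_zero]
    exact h.trans (map_sum W.mkQ _ _).symm
  obtain ⟨P, hP, hPe⟩ := hmem
  refine ⟨P, fun m hm => (MvPolynomial.mem_restrictSupport_iff ℚ).1 hP hm, fun n => ?_⟩
  rw [finsum_eq_sum_of_support_subset (s := hfin.toFinset)]
  · have h1 : MvPolynomial.eval (fun i => (n i : ℚ)) P = evalNat r P n := by
      show _ = MvPolynomial.aeval _ P
      rw [MvPolynomial.aeval_eq_eval]
    rw [h1, hPe, Pi.sub_apply, Finset.sum_apply]
    refine congrArg (_ - ·) (Finset.sum_congr rfl fun ξ hξ => ?_)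
    rw [if_pos (hfin.mem_toFinset.1 hξ).2, Pi.smul_apply, zsmul_eq_mul, Int.cast_natCast]
    refine congrArg (_ * ·) ?_
    exact congrArg (Int.cast : ℤ → ℚ) (euler_closed k _ L hL n).symm
  · intro ξ hξ
    rw [Function.mem_support] at hξ
    split_ifs at hξ with hξd
    · refine hfin.mem_toFinset.2 ⟨fun hsub => hξ ?_, hξd⟩
      haveI : Subsingleton (F.presheaf.stalk ξ) := hsub
      rw [Module.length_eq_zero]
      simp
    · exact absurd rfl hξ

end Groth.Agent.S7650
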