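import Groth.Statements.S7651
import Groth.Agent.CAlgBasics.Depth
import Groth.Agent.RegLocLib.FiniteNor


set_option autoImplicit false
universe u
open CategoryTheory CategoryTheory.Limits AlgebraicGeometry
open Variety

namespace Groth.Agent.S7651

open CategoryTheory CategoryTheory.Limits AlgebraicGeometry

open Groth.Agent IsLocalRing
set_option backward.isDefEq.respectTransparency false

section aux

variable (A : Type u) [CommRing A] [IsLocalRing A] [IsNoetherianRing A]

theorem maximalIdeal_notMem (hdim : ringKrullDim A = 1) : maximalIdeal A ∉ minimalPrimes A := fun h => by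
  have h0 : (maximalIdeal A).height = 0 := Ideal.height_eq_zero_iff.2 h
  rw [← IsLocalRing.maximalIdeal_height_eq_ringKrullDim, h0] at hdim
  exact zero_ne_one (α := WithBot ℕ∞) hdim

theorem exists_avoid (hdim : ringKrullDim A = 1) : ∃ f ∈ maximalIdeal A, ∀ p ∈ minimalPrimes A, f ∉ p := by
  by_contra hne
  push Not at hne
  have hfin := (⊥ : Ideal A).finite_minimalPrimes_of_isNoetherianRing A
  obtain ⟨P, hP, hPle⟩ := (Ideal.subset_union_prime (s := hfin.toFinset) (f := fun P => P) (I := maximalIdeal A)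
    ⊥ ⊥ fun P hP _ _ => (hfin.mem_toFinset.1 hP).1.1).1 fun x hx => by
      obtain ⟨η, hη, hxη⟩ := hne x hx
      exact Set.mem_iUnion₂.2 ⟨η, Finset.mem_coe.2 (hfin.mem_toFinset.2 hη), hxη⟩
  have hPmin := hfin.mem_toFinset.1 hP
  obtain rfl : maximalIdeal A = P := (maximalIdeal.isMaximal A).eq_of_le hPmin.1.1.ne_top hPle
  exact maximalIdeal_notMem A hdim hPmin

theorem le_radical_of_avoid (hdim : ringKrullDim A = 1) {f : A} (hf : ∀ p ∈ minimalPrimes A, f ∉ p) :
    maximalIdeal A ≤ (Ideal.span {f}).radical := by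
  rw [Ideal.radical_eq_sInf]
  refine le_sInf fun P ⟨hfP, hP⟩ => ?_
  haveI := hP
  haveI : Ring.KrullDimLE 1 A := Ring.krullDimLE_iff.2 (le_of_eq hdim)
  rcases (Ring.krullDimLE_one_iff.1 inferInstance) P hP with h | h
  · exact absurd (hfP (Ideal.mem_span_singleton_self f)) (hf P h)
  · exact (eq_maximalIdeal h).ge

theorem exists_pow_mul {f : A} (hdim : ringKrullDim A = 1) (hfm : f ∈ maximalIdeal A) {s : A}
    (hs : ∀ p ∈ minimalPrimes A, s ∉ p) : ∃ (N : ℕ) (r : A), r * s = f ^ N := by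
  obtain ⟨N, hN⟩ := le_radical_of_avoid A hdim hs hfm
  obtain ⟨r, hr⟩ := Ideal.mem_span_singleton'.1 hN
  exact ⟨N, r, hr⟩

/-- The comparison map. -/
noncomputable def toPi {f : A} (hf : ∀ p ∈ minimalPrimes A, f ∉ p) :
    Localization.Away f →ₐ[A] ∀ p : {p : PrimeSpectrum A // p.asIdeal ∈ minimalPrimes A}, Localization.AtPrime p.1.asIdeal :=
  IsLocalization.liftAlgHom (M := Submonoid.powers f) (f := Algebra.ofId A _) fun s => by
    obtain ⟨N, hN⟩ := s.2
    refine Pi.isUnit_iff.2 fun p => IsLocalization.map_units (Localization.AtPrime p.1.asIdeal) (⟨s.1, fun h => ?_⟩ : p.1.asIdeal.primeCompl)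
    exact hf _ p.2 (p.1.isPrime.mem_of_pow_mem N ((show f ^ N = s.1 from hN).symm ▸ h))

theorem toPi_bijective (hdim : ringKrullDim A = 1) {f : A} (hfm : f ∈ maximalIdeal A)
    (hf : ∀ p ∈ minimalPrimes A, f ∉ p) : Function.Bijective (toPi A hf) := by
  classical
  have hfin := (⊥ : Ideal A).finite_minimalPrimes_of_isNoetherianRing A
  haveI : Finite {p : PrimeSpectrum A // p.asIdeal ∈ minimalPrimes A} :=
    haveI : Finite (minimalPrimes A) := hfin.to_subtype
    Finite.of_injective (fun p => (⟨p.1.asIdeal, p.2⟩ : minimalPrimes A)) fun p q h =>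
      Subtype.ext (PrimeSpectrum.ext (congrArg Subtype.val h :))
  cases nonempty_fintype {p : PrimeSpectrum A // p.asIdeal ∈ minimalPrimes A}
  have hv : ∀ a, toPi A hf (algebraMap A _ a) = algebraMap A _ a := (toPi A hf).commutes
  refine ⟨(injective_iff_map_eq_zero _).2 fun z hz => ?_, fun y => ?_⟩
  · obtain ⟨a, s, rfl⟩ := IsLocalization.exists_mk'_eq (Submonoid.powers f) z
    have ha : algebraMap A (∀ p : {p : PrimeSpectrum A // p.asIdeal ∈ minimalPrimes A}, Localization.AtPrime p.1.asIdeal) a = 0 := by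
      rw [← hv, ← IsLocalization.mk'_spec (Localization.Away f) a s, map_mul, hz, zero_mul]
    have hnle : ¬ ((Submodule.span A {a}).annihilator : Set A) ⊆ ⋃ p ∈ (hfin.toFinset : Set (Ideal A)), (p : Set A) := by
      intro hsub
      obtain ⟨P, hP, hPle⟩ := (Ideal.subset_union_prime (s := hfin.toFinset) (f := fun P => P)
        ⊥ ⊥ fun P hP _ _ => (hfin.mem_toFinset.1 hP).1.1).1 hsub
      have hPm := hfin.mem_toFinset.1 hP
      haveI : P.IsPrime := hPm.1.1
      obtain ⟨v, hv'⟩ := (IsLocalization.map_eq_zero_iff P.primeCompl _ a).1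
        (congrFun ha ⟨⟨P, hPm.1.1⟩, hPm⟩)
      exact v.2 (hPle ((Submodule.mem_annihilator_span_singleton a (v : A)).2 hv'))
    obtain ⟨t, ht, htn⟩ := Set.not_subset.1 hnle
    obtain ⟨N, r, hr⟩ := exists_pow_mul A hdim hfm (s := t) fun p hp htp =>
      htn (Set.mem_iUnion₂.2 ⟨p, Finset.mem_coe.2 (hfin.mem_toFinset.2 hp), htp⟩)
    rw [IsLocalization.mk'_eq_zero_iff]
    refine ⟨⟨f ^ N, N, rfl⟩, ?_⟩
    have ht0 : t * a = 0 := (Submodule.mem_annihilator_span_singleton a t).1 ht
    show f ^ N * a = 0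
    rw [← hr, mul_assoc, ht0, mul_zero]
  · choose a s hy using fun p : {p : PrimeSpectrum A // p.asIdeal ∈ minimalPrimes A} =>
      IsLocalization.exists_mk'_eq p.1.asIdeal.primeCompl (y p)
    have hsep : ∀ p : {p : PrimeSpectrum A // p.asIdeal ∈ minimalPrimes A}, ∃ t : A, t ∉ p.1.asIdeal ∧
        ∀ q, q ≠ p → algebraMap A (Localization.AtPrime q.1.asIdeal) t = 0 := by
      intro p
      have h1 : ∀ q, q ≠ p → ∃ e, e ∈ q.1.asIdeal ∧ e ∉ p.1.asIdeal := fun q hq => by
        by_contra hne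
        push Not at hne
        exact hq (Subtype.ext (PrimeSpectrum.ext (le_antisymm (fun e he => hne e he) (p.2.2 ⟨q.1.isPrime, bot_le⟩ fun e he => hne e he))))
      choose e he he' using h1
      have h2 : ∀ q (hq : q ≠ p), ∃ j : ℕ, algebraMap A (Localization.AtPrime q.1.asIdeal) (e q hq) ^ j = 0 := fun q hq => by
        haveI : Ring.KrullDimLE 0 (Localization.AtPrime q.1.asIdeal) := by
          rw [Ring.krullDimLE_iff, IsLocalization.AtPrime.ringKrullDim_eq_height q.1.asIdeal, Ideal.height_eq_zero_iff.2 q.2]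
          simp
        exact Ring.KrullDimLE.isNilpotent_iff_mem_nonunits.2
          ((IsLocalization.AtPrime.to_map_mem_maximal_iff _ q.1.asIdeal _).2 (he q hq))
      choose j hj using h2
      refine ⟨∏ q ∈ Finset.univ.attach.filter (fun q => q.1 ≠ p), if h : q.1 ≠ p then e q.1 h ^ j q.1 h else 1, fun hmem => ?_,
        fun q hq => ?_⟩
      · obtain ⟨q, hq, hqm⟩ := (Ideal.IsPrime.prod_mem_iff (p := p.1.asIdeal)).1 hmem
        have hq' := (Finset.mem_filter.1 hq).2
        rw [dif_pos hq'] at hqm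
        exact he' _ hq' (p.1.isPrime.mem_of_pow_mem _ hqm)
      · rw [map_prod]
        refine Finset.prod_eq_zero (i := ⟨q, Finset.mem_univ q⟩) (Finset.mem_filter.2 ⟨Finset.mem_attach _ _, hq⟩) ?_
        rw [dif_pos hq, map_pow, hj]
    choose t ht ht' using hsep
    let S := ∑ p, (s p : A) * t p
    have hS : ∀ q : {p : PrimeSpectrum A // p.asIdeal ∈ minimalPrimes A},
        algebraMap A (Localization.AtPrime q.1.asIdeal) S = algebraMap A _ ((s q : A) * t q) := fun q => by
      rw [map_sum, Finset.sum_eq_single q (fun p _ hp => by rw [map_mul, ht' p q (Ne.symm hp), mul_zero])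
        (fun h => absurd (Finset.mem_univ q) h)]
    have hSn : ∀ p ∈ minimalPrimes A, S ∉ p := fun P hP hSP => by
      haveI : P.IsPrime := hP.1.1
      have h1 := hS ⟨⟨P, hP.1.1⟩, hP⟩
      have h2 : IsUnit (algebraMap A (Localization.AtPrime P) S) :=
        h1 ▸ IsLocalization.map_units (Localization.AtPrime P) (⟨(s ⟨⟨P, hP.1.1⟩, hP⟩ : A) * t ⟨⟨P, hP.1.1⟩, hP⟩,
          fun h => (hP.1.1.mem_or_mem h).elim (fun h' => (s ⟨⟨P, hP.1.1⟩, hP⟩).2 h') (ht ⟨⟨P, hP.1.1⟩, hP⟩)⟩ : P.primeCompl)
      exact ((IsLocalization.AtPrime.isUnit_to_map_iff _ P S).1 h2) hSP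
    obtain ⟨N, r, hr⟩ := exists_pow_mul A hdim hfm hSn
    refine ⟨IsLocalization.mk' _ (r * ∑ p, a p * t p) (⟨f ^ N, N, rfl⟩ : Submonoid.powers f), funext fun q => ?_⟩
    have hu : IsUnit (algebraMap A (Localization.AtPrime q.1.asIdeal) (f ^ N)) :=
      IsLocalization.map_units _ (⟨_, fun h => hf _ q.2 (q.1.isPrime.mem_of_pow_mem N h)⟩ : q.1.asIdeal.primeCompl)
    refine hu.mul_right_cancel ?_
    have h1 := congrFun (congrArg (toPi A hf) (IsLocalization.mk'_spec (Localization.Away f) (r * ∑ p, a p * t p)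
      (⟨f ^ N, N, rfl⟩ : Submonoid.powers f))) q
    rw [map_mul, hv, hv, Pi.mul_apply, Pi.algebraMap_apply, Pi.algebraMap_apply] at h1
    rw [h1, map_mul, map_sum, Finset.sum_eq_single q (fun p _ hp => by rw [map_mul, ht' p q (Ne.symm hp), mul_zero])
      (fun h => absurd (Finset.mem_univ q) h), ← hr, map_mul _ r S, hS, map_mul, map_mul, ← hy q,
      ← IsLocalization.mk'_spec (Localization.AtPrime q.1.asIdeal) (a q) (s q)]
    ring

end aux


/-- Let (A, m) be a Noetherian local ring of dimension one and f ∈ m. Then (1) m = √(f), (2) f lies in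
no minimal prime of A, and (3) A_f ≅ ∏_{p minimal} A_p as A-algebras, are equivalent; such an f
exists; if A has depth one, for instance if A is reduced, they are also equivalent to (4) f is a
nonzerodivisor and to (5) A → A_f is the localization of A at all its nonzerodivisors; and if A is
reduced they are also equivalent to (6) A_f ≅ ∏_{p minimal} κ(p) as A-algebras. -/
theorem result (A : Type u) [CommRing A] [IsLocalRing A]
    [IsNoetherianRing A] (hdim : ringKrullDim A = 1) :
    (∃ f ∈ IsLocalRing.maximalIdeal A, ∀ p ∈ minimalPrimes A, f ∉ p) ∧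
    ∀ f ∈ IsLocalRing.maximalIdeal A,
      ((IsLocalRing.maximalIdeal A = (Ideal.span {f}).radical) ↔ (∀ p ∈ minimalPrimes A, f ∉ p)) ∧
      ((∀ p ∈ minimalPrimes A, f ∉ p) ↔
        Nonempty (Localization.Away f ≃ₐ[A] (∀ p : {p : PrimeSpectrum A // p.asIdeal ∈ minimalPrimes A}, Localization.AtPrime p.1.asIdeal))) ∧
      ((LocCoh.depth A A = 1 ∨ IsReduced A) →
        ((∀ p ∈ minimalPrimes A, f ∉ p) ↔ f ∈ nonZeroDivisors A) ∧
        ((∀ p ∈ minimalPrimes A, f ∉ p) ↔ IsLocalization (nonZeroDivisors A) (Localization.Away f))) ∧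
      (IsReduced A →
        ((∀ p ∈ minimalPrimes A, f ∉ p) ↔
          Nonempty (Localization.Away f ≃ₐ[A] (∀ p : {p : PrimeSpectrum A // p.asIdeal ∈ minimalPrimes A}, p.1.asIdeal.ResidueField)))) := by
  classical
  refine ⟨exists_avoid A hdim, fun f hfm => ⟨⟨fun hrad p hp hfp => ?_, fun hf => ?_⟩, ?_, ?_, fun hred => ?_⟩⟩
  · haveI : p.IsPrime := hp.1.1
    have h1 : maximalIdeal A ≤ p := hrad.le.trans (((Ideal.IsPrime.isRadical ‹_›).radical_le_iff).2
      ((Ideal.span_singleton_le_iff_mem _).2 hfp))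
    exact maximalIdeal_notMem A hdim (((maximalIdeal.isMaximal A).eq_of_le (Ideal.IsPrime.ne_top ‹_›) h1) ▸ hp)
  · refine le_antisymm (le_radical_of_avoid A hdim hf) ?_
    exact ((maximalIdeal.isMaximal A).isPrime.isRadical.radical_le_iff).2 ((Ideal.span_singleton_le_iff_mem _).2 hfm)
  · refine ⟨fun hf => ⟨AlgEquiv.ofBijective _ (toPi_bijective A hdim hfm hf)⟩, fun ⟨e⟩ p hp hfp => ?_⟩
    haveI : p.IsPrime := hp.1.1
    have h1 : IsUnit (algebraMap A (Localization.AtPrime p) f) := by
      have h2 := (Pi.isUnit_iff.1 ((IsLocalization.Away.algebraMap_isUnit (S := Localization.Away f) f).map e)) ⟨⟨p, hp.1.1⟩, hp⟩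
      rwa [e.commutes] at h2
    exact ((IsLocalization.AtPrime.isUnit_to_map_iff _ p f).1 h1) hfp
  · intro hdr
    have key : ∀ s : A, (∀ p ∈ minimalPrimes A, s ∉ p) → s ∈ nonZeroDivisors A := fun s hs => by
      rcases hdr with hd | hr
      · refine mem_nonZeroDivisors_iff_right.2 fun x hx => ?_
        obtain ⟨N, hN⟩ := Ideal.exists_pow_le_of_le_radical_of_fg (le_radical_of_avoid A hdim hs)
          (maximalIdeal A).fg_of_isNoetherianRing
        refine (CAlgBasics.one_le_depth_iff.1 (le_of_eq hd.symm)).eq_zero_of_pow N fun a ha => ?_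
        obtain ⟨r, rfl⟩ := Ideal.mem_span_singleton'.1 (hN ha)
        rw [smul_eq_mul, mul_assoc, mul_comm s x, hx, mul_zero]
      · haveI := hr
        exact RegLocLib.mem_nonZeroDivisors_of_forall_notMem hs
    have key' : ∀ s : A, s ∈ nonZeroDivisors A → ∀ p ∈ minimalPrimes A, s ∉ p := fun s hs p hp hsp =>
      Set.disjoint_left.1 (Ideal.disjoint_nonZeroDivisors_of_mem_minimalPrimes hp) hsp hs
    refine ⟨⟨key f, key' f⟩, fun hf => ?_, fun hloc => ?_⟩
    · refine IsLocalization.of_le_of_exists_dvd (S := Localization.Away f) (Submonoid.powers f) _ ?_ fun s hs => ?_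
      · exact Submonoid.powers_le.2 (key f hf)
      · obtain ⟨N, r, hr⟩ := exists_pow_mul A hdim hfm (key' s hs)
        exact ⟨f ^ N, ⟨N, rfl⟩, Dvd.intro_left r hr⟩
    · refine key' f (mem_nonZeroDivisors_iff_right.2 fun x hx => ?_)
      refine IsLocalization.injective (Localization.Away f) (le_refl (nonZeroDivisors A)) ?_
      rw [map_zero]
      have h := congrArg (algebraMap A (Localization.Away f)) hx
      rw [map_mul, map_zero] at h
      exact (IsLocalization.Away.algebraMap_isUnit f).mul_left_eq_zero.1 h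
  · haveI := hred
    have hres : ∀ p : {p : PrimeSpectrum A // p.asIdeal ∈ minimalPrimes A},
        Function.Bijective (IsScalarTower.toAlgHom A (Localization.AtPrime p.1.asIdeal) p.1.asIdeal.ResidueField) := fun p => by
      haveI : Ring.KrullDimLE 0 (Localization.AtPrime p.1.asIdeal) := by
        rw [Ring.krullDimLE_iff, IsLocalization.AtPrime.ringKrullDim_eq_height p.1.asIdeal, Ideal.height_eq_zero_iff.2 p.2]
        simp
      refine ⟨(injective_iff_map_eq_zero _).2 fun z hz => ?_, residue_surjective⟩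
      exact (Ring.KrullDimLE.isNilpotent_iff_mem_nonunits.2 (Ideal.Quotient.eq_zero_iff_mem.1 hz)).eq_zero
    refine ⟨fun hf => ⟨(AlgEquiv.ofBijective _ (toPi_bijective A hdim hfm hf)).trans
      (AlgEquiv.piCongrRight fun p => AlgEquiv.ofBijective _ (hres p))⟩, fun ⟨e⟩ p hp hfp => ?_⟩
    haveI : p.IsPrime := hp.1.1
    have h2 := (Pi.isUnit_iff.1 ((IsLocalization.Away.algebraMap_isUnit (S := Localization.Away f) f).map e)) ⟨⟨p, hp.1.1⟩, hp⟩
    rw [e.commutes] at h2
    exact h2.ne_zero (Ideal.algebraMap_residueField_eq_zero.2 hfp)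


end Groth.Agent.S7651
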