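import Groth.Statements.S7654
import Groth.Agent.DeltaBCLib.Local
import Groth.Agent.RegLocal.Completion
import Groth.Agent.S0507
import Groth.Agent.S0508
import Groth.Agent.S0509
import Groth.Agent.S0511
import Groth.Agent.S0538
import Groth.Agent.S0539
import Groth.Agent.S0540


set_option autoImplicit false
universe u
open CategoryTheory CategoryTheory.Limits AlgebraicGeometry
open Variety

namespace Groth.Agent.S7654

open CategoryTheory CategoryTheory.Limits AlgebraicGeometry

open IsLocalRing

theorem isSeparable_of_surjective {K L : Type u} [Field K] [Field L] [Algebra K L]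
    (h : Function.Surjective (algebraMap K L)) : Algebra.IsSeparable K L :=
  ⟨fun x => by obtain ⟨a, rfl⟩ := h x; exact isSeparable_algebraMap a⟩


/-- For a reduced local Nagata ring A of Krull dimension one, the δ-invariant does not change on passing
to a henselization of A, to a strict henselization of A, or to the completion of A. -/
theorem result (A : Type u) [CommRing A] [IsLocalRing A]
    [IsReduced A] (hN : CAlg.IsNagata A) (hdim : ringKrullDim A = 1) :
    (∀ (B : Type u) [CommRing B] [IsLocalRing B] [Algebra A B] [IsLocalHom (algebraMap A B)],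
        Hensel.IsHenselization A B → Curv2.deltaInv B = Curv2.deltaInv A) ∧
      (∀ (B : Type u) [CommRing B] [IsLocalRing B] [Algebra A B] [IsLocalHom (algebraMap A B)],
        Hensel.IsStrictHenselization A B → Curv2.deltaInv B = Curv2.deltaInv A) ∧
      Curv2.deltaInv (Curv2.cpl A) = Curv2.deltaInv A := by
  haveI := hN.1
  refine ⟨fun B _ _ _ _ hB => ?_, fun B _ _ _ _ hB => ?_, ?_⟩
  · haveI := hB
    haveI := Groth.Agent.S0509.result A B
    haveI : IsNoetherianRing B := (Groth.Agent.S0511.result A B).1 inferInstance
    exact Groth.Agent.DeltaBC.deltaInv_eq_of_unramified A B hN hdim (Groth.Agent.S0507.result A B)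
      (isSeparable_of_surjective (Groth.Agent.S0508.result A B).2)
  · haveI := hB
    haveI := Groth.Agent.S0539.result A B
    haveI : IsNoetherianRing B := (Groth.Agent.S0540.result A B).1 inferInstance
    haveI := hB.isSepClosure
    exact Groth.Agent.DeltaBC.deltaInv_eq_of_unramified A B hN hdim (Groth.Agent.S0538.result A B)
      (IsSepClosure.separable (k := ResidueField A))
  · have hI : maximalIdeal A ≠ ⊤ := (maximalIdeal.isMaximal A).ne_top
    haveI : IsLocalRing (Curv2.cpl A) := Groth.Agent.RegLocal.isLocalRing_completion A _ hI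
    haveI := Groth.Agent.RegLocal.faithfullyFlat_completion A _ hI
    have hmax := Groth.Agent.RegLocal.maximalIdeal_completion A _ hI
    haveI : IsLocalHom (algebraMap A (Curv2.cpl A)) := by
      refine ((local_hom_TFAE _).out 0 2).mpr ?_
      rw [hmax]
    haveI : IsNoetherianRing (Curv2.cpl A) := Groth.Agent.RegLocal.isNoetherianRing_completion A _
    refine Groth.Agent.DeltaBC.deltaInv_eq_of_unramified A (Curv2.cpl A) hN hdim hmax.symm
      (isSeparable_of_surjective fun y => ?_)
    obtain ⟨x, rfl⟩ := residue_surjective y
    obtain ⟨a, ha⟩ := Ideal.Quotient.mk_surjective ((AdicCompletion.evalOneₐ (maximalIdeal A)) x)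
    refine ⟨residue A a, ((Ideal.Quotient.eq).2 ?_).symm⟩
    rw [hmax, ← AdicCompletion.ker_evalOneₐ_eq_map _ (maximalIdeal A).fg_of_isNoetherianRing, RingHom.mem_ker,
      map_sub, sub_eq_zero]
    exact ha.symm


end Groth.Agent.S7654
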