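import Groth.Statements.S7656
import Groth.Agent.BranchInv.Field
import Groth.Agent.GeomRk.Point
-- import your own Groth.Agent.* helpers here

set_option autoImplicit false
universe u
open CategoryTheory CategoryTheory.Limits AlgebraicGeometry
open Variety

namespace Groth.Agent.S7656

/-- For X locally of finite type over a field k, a field extension K/k and a point y of X_K over x ∈ X,
the local rings of X at x and of X_K at y have the same number of geometric branches. -/
theorem result (k : Type u) [Field k] (X : Scheme.{u}) [X.Over (Spec (CommRingCat.of k))]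
    [LocallyOfFiniteType (X ↘ (Spec (CommRingCat.of k)))] (K : Type u) [Field K] [Algebra k K]
    (y : ↥(Curv2.bc k X K)) :
    Brnch.numGeomBranchesAt X ((Curv2.bcFst k X K).base y) =
      Brnch.numGeomBranchesAt (Curv2.bc k X K) y := by
  obtain ⟨c, q₀, hq₀⟩ := Groth.Agent.GeomRk.exists_chart (X ↘ (Spec (CommRingCat.of k))) ((Curv2.bcFst k X K).base y)
  obtain ⟨Q, hQ, hy⟩ := c.exists_bc_point K q₀ y hq₀.symm
  obtain ⟨eY⟩ : Nonempty ((Curv2.bc k X K).presheaf.stalk y ≃+* Localization.AtPrime Q.asIdeal) :=
    hy ▸ c.exists_bc_stalk_equiv K Q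
  obtain ⟨eX⟩ : Nonempty (X.presheaf.stalk ((Curv2.bcFst k X K).base y) ≃+* Localization.AtPrime q₀.asIdeal) :=
    hq₀ ▸ c.exists_stalk_equiv q₀
  unfold Brnch.numGeomBranchesAt
  rw [Groth.Agent.BranchInv.numGeomBranches_congr eX.symm, Groth.Agent.BranchInv.numGeomBranches_congr eY.symm]
  let e := (Algebra.TensorProduct.comm k c.C K).toRingEquiv
  let q₁ : Ideal (TensorProduct k c.C K) := Q.asIdeal.comap e.toRingHom
  haveI : q₁.IsPrime := Ideal.IsPrime.comap _
  have h := Groth.Agent.BranchInv.numGeomBranches_tensor_field_atPrime k c.C K q₁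
  let E := IsLocalization.ringEquivOfRingEquiv (M := q₁.primeCompl) (T := Q.asIdeal.primeCompl)
      (Localization.AtPrime q₁) (Localization.AtPrime Q.asIdeal) e (by
        ext x
        constructor
        · rintro ⟨z, hz, rfl⟩
          exact hz
        · intro hx
          exact ⟨e.symm x, fun h => hx (by simpa [q₁] using h), e.apply_symm_apply x⟩)
  rw [Groth.Agent.BranchInv.numGeomBranches_congr E, h]
  have hcomap : q₁.comap (algebraMap c.C (TensorProduct k c.C K)) = q₀.asIdeal := by
    rw [Ideal.comap_comap]
    exact hQ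
  have key : ∀ (I : Ideal c.C) [I.IsPrime], I = q₀.asIdeal →
      Brnch.numGeomBranches (Localization.AtPrime I) = Brnch.numGeomBranches (Localization.AtPrime q₀.asIdeal) := by
    rintro I _ rfl
    rfl
  exact (key _ hcomap).symm

end Groth.Agent.S7656
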