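import Groth.Statements.S7658
import Mathlib


set_option autoImplicit false
universe u
open CategoryTheory CategoryTheory.Limits AlgebraicGeometry
open Variety

namespace Groth.Agent.S7658

/-- A separated morphism of schemes f : X → Y such that X has an open covering on whose members f
restricts to open immersions, and such that no two distinct generic points of irreducible components
of X have the same image under f, is an open immersion. -/
theorem result {X Y : Scheme.{u}}
    (f : X ⟶ Y) [IsSeparated f]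
    (hloc : ∀ x : X, ∃ U : X.Opens, x ∈ U ∧ IsOpenImmersion (U.ι ≫ f))
    (hinj : ∀ ξ ξ' : X, closure ({ξ} : Set X) ∈ irreducibleComponents (X : Type u) → closure ({ξ'} : Set X) ∈ irreducibleComponents (X : Type u) →
      f.base ξ = f.base ξ' → ξ = ξ') :
    IsOpenImmersion f := by
  choose U hxU hU using hloc
  have hinjf : Function.Injective f.base := by
    intro x x' he
    by_contra hne
    haveI := hU x
    haveI := hU x'
    let W : Y.Opens := ((U x).ι ≫ f).opensRange ⊓ ((U x').ι ≫ f).opensRange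
    have hr : Set.range W.ι ⊆ Set.range ((U x).ι ≫ f) := by
      rw [Scheme.Opens.range_ι]; exact fun z hz => hz.1
    have hr' : Set.range W.ι ⊆ Set.range ((U x').ι ≫ f) := by
      rw [Scheme.Opens.range_ι]; exact fun z hz => hz.2
    let l := IsOpenImmersion.lift ((U x).ι ≫ f) W.ι hr
    let l' := IsOpenImmersion.lift ((U x').ι ≫ f) W.ι hr'
    let s : (W : Scheme.{u}) ⟶ X := l ≫ (U x).ι
    let s' : (W : Scheme.{u}) ⟶ X := l' ≫ (U x').ι
    have hs : s ≫ f = W.ι := (Category.assoc _ _ _).trans (IsOpenImmersion.lift_fac _ _ _)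
    have hs' : s' ≫ f = W.ι := (Category.assoc _ _ _).trans (IsOpenImmersion.lift_fac _ _ _)
    haveI : IsOpenImmersion (l ≫ (U x).ι ≫ f) := by
      rw [IsOpenImmersion.lift_fac]; infer_instance
    haveI : IsOpenImmersion (l' ≫ (U x').ι ≫ f) := by
      rw [IsOpenImmersion.lift_fac]; infer_instance
    haveI : IsOpenImmersion l := IsOpenImmersion.of_comp l ((U x).ι ≫ f)
    haveI : IsOpenImmersion l' := IsOpenImmersion.of_comp l' ((U x').ι ≫ f)
    haveI : IsOpenImmersion s := inferInstanceAs (IsOpenImmersion (l ≫ (U x).ι))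
    haveI : IsOpenImmersion s' := inferInstanceAs (IsOpenImmersion (l' ≫ (U x').ι))
    let y : (W : Scheme.{u}) := ⟨f.base x, ⟨⟨⟨x, hxU x⟩, rfl⟩, ⟨⟨x', hxU x'⟩, he.symm⟩⟩⟩
    have hsy : s y = x := by
      have h1 : ((U x).ι ≫ f) (l y) = ((U x).ι ≫ f) ⟨x, hxU x⟩ := by
        rw [← Scheme.Hom.comp_apply, IsOpenImmersion.lift_fac]
        rfl
      exact congrArg (U x).ι ((Scheme.Hom.isOpenEmbedding _).injective h1)
    have hsy' : s' y = x' := by
      have h1 : ((U x').ι ≫ f) (l' y) = ((U x').ι ≫ f) ⟨x', hxU x'⟩ := by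
        rw [← Scheme.Hom.comp_apply, IsOpenImmersion.lift_fac]
        exact he
      exact congrArg (U x').ι ((Scheme.Hom.isOpenEmbedding _).injective h1)
    obtain ⟨η, hη⟩ := QuasiSober.sober (isIrreducible_irreducibleComponent (x := y)) isClosed_irreducibleComponent
    have hηy : η ⤳ y := hη.specializes mem_irreducibleComponent
    have hgen : ∀ (t : (W : Scheme.{u}) ⟶ X) [IsOpenImmersion t], closure ({t η} : Set X) ∈ irreducibleComponents (X : Type u) := by
      intro t _
      refine ⟨isIrreducible_singleton.closure, fun T hT hle => ?_⟩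
      obtain ⟨ξ, hξ⟩ := QuasiSober.sober hT.closure isClosed_closure
      have hξη : ξ ⤳ t η := hξ.specializes (subset_closure (hle (subset_closure rfl)))
      obtain ⟨w, rfl⟩ := hξη.mem_open t.isOpenEmbedding.isOpen_range (Set.mem_range_self η)
      have hwη : w ⤳ η := t.isOpenEmbedding.isInducing.specializes_iff.1 hξη
      have hmax := (irreducibleComponent_mem_irreducibleComponents y).2
        (isIrreducible_singleton (x := w)).closure (by rw [← hη.def]; exact hwη.closure_subset)
      have hηw : η ⤳ w := hη.specializes (hmax (subset_closure rfl))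
      calc T ⊆ closure T := subset_closure
        _ = closure {t w} := hξ.def.symm
        _ ⊆ closure {t η} := (hηw.map t.continuous).closure_subset
    have hfη : f.base (s η) = f.base (s' η) :=
      (Scheme.Hom.comp_apply s f η).symm.trans (((congrArg (fun φ => φ η) hs).trans (congrArg (fun φ => φ η) hs'.symm)).trans
        (Scheme.Hom.comp_apply s' f η))
    have heq : s η = s' η := hinj _ _ (hgen s) (hgen s') hfη
    let W₀ : (W : Scheme.{u}).Opens := s ⁻¹ᵁ U x ⊓ s' ⁻¹ᵁ U x
    have hηW₀ : η ∈ W₀ := by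
      have h1 : s η ∈ U x := (l η).2
      exact ⟨h1, show s' η ∈ U x from heq ▸ h1⟩
    have hWs : Set.range (W₀.ι ≫ s) ⊆ Set.range (U x).ι := by
      rw [Scheme.Opens.range_ι]; rintro _ ⟨w, rfl⟩; exact w.2.1
    have hWs' : Set.range (W₀.ι ≫ s') ⊆ Set.range (U x).ι := by
      rw [Scheme.Opens.range_ι]; rintro _ ⟨w, rfl⟩; exact w.2.2
    have hcancel : IsOpenImmersion.lift (U x).ι (W₀.ι ≫ s) hWs = IsOpenImmersion.lift (U x).ι (W₀.ι ≫ s') hWs' := by
      refine (cancel_mono ((U x).ι ≫ f)).1 ?_
      rw [IsOpenImmersion.lift_fac_assoc, IsOpenImmersion.lift_fac_assoc]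
      exact (Category.assoc _ _ _).trans ((congrArg (fun φ => W₀.ι ≫ φ) (hs.trans hs'.symm)).trans (Category.assoc _ _ _).symm)
    have hsame : W₀.ι ≫ s = W₀.ι ≫ s' := by
      have := congrArg (fun φ => φ ≫ (U x).ι) hcancel
      rwa [IsOpenImmersion.lift_fac, IsOpenImmersion.lift_fac] at this
    let pr := pullback.lift (f := f) (g := f) s s' (hs.trans hs'.symm)
    have hfac : W₀.ι ≫ pr = (W₀.ι ≫ s) ≫ pullback.diagonal f := by
      apply pullback.hom_ext
      · rw [Category.assoc, pullback.lift_fst, Category.assoc, pullback.diagonal_fst, Category.comp_id]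
      · rw [Category.assoc, pullback.lift_snd, Category.assoc, pullback.diagonal_snd, Category.comp_id]; exact hsame.symm
    have hcl : IsClosed (Set.range (pullback.diagonal f)) :=
      (IsSeparated.isClosedImmersion_diagonal (f := f)).base_closed.isClosed_range
    have hmem : pr η ∈ Set.range (pullback.diagonal f) :=
      ⟨(W₀.ι ≫ s) ⟨η, hηW₀⟩, ((congrArg (fun φ => φ ⟨η, hηW₀⟩) hfac).symm.trans (Scheme.Hom.comp_apply W₀.ι pr _))⟩
    obtain ⟨z, hz⟩ := (hηy.map pr.continuous).mem_closed hcl hmem
    apply hne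
    have h1 := congrArg (pullback.fst f f) hz
    have h2 := congrArg (pullback.snd f f) hz
    rw [← Scheme.Hom.comp_apply, ← Scheme.Hom.comp_apply, pullback.diagonal_fst, pullback.lift_fst, hsy] at h1
    rw [← Scheme.Hom.comp_apply, ← Scheme.Hom.comp_apply, pullback.diagonal_snd, pullback.lift_snd, hsy'] at h2
    exact h1.symm.trans h2
  have hopen : IsOpenMap f.base := by
    intro O hO
    have : f.base '' O = ⋃ x : X, ((U x).ι ≫ f) '' ((U x).ι ⁻¹' O) := by
      ext z
      constructor
      · rintro ⟨a, ha, rfl⟩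
        exact Set.mem_iUnion.2 ⟨a, ⟨a, hxU a⟩, ha, rfl⟩
      · intro hz
        obtain ⟨x, a, ha, rfl⟩ := Set.mem_iUnion.1 hz
        exact ⟨_, ha, rfl⟩
    rw [this]
    exact isOpen_iUnion fun x => haveI := hU x; ((U x).ι ≫ f).isOpenEmbedding.isOpenMap _ (hO.preimage (U x).ι.continuous)
  haveI : ∀ x, IsIso (f.stalkMap x) := fun x => by
    haveI := hU x
    have h : IsIso (f.stalkMap ((U x).ι ⟨x, hxU x⟩) ≫ (U x).ι.stalkMap ⟨x, hxU x⟩) := by
      rw [← Scheme.Hom.stalkMap_comp]; exact (IsOpenImmersion.iff_isIso_stalkMap.1 (hU x)).2 _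
    exact IsIso.of_isIso_comp_right (f.stalkMap ((U x).ι ⟨x, hxU x⟩)) ((U x).ι.stalkMap ⟨x, hxU x⟩)
  exact IsOpenImmersion.of_isIso_stalkMap f (Topology.IsOpenEmbedding.of_continuous_injective_isOpenMap f.continuous hinjf hopen)

end Groth.Agent.S7658
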