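import Groth.Statements.S7661
import Mathlib


set_option autoImplicit false
universe u
open CategoryTheory CategoryTheory.Limits AlgebraicGeometry
open Variety

namespace Groth.Agent.S7661

/-- Let A be a ring, I an ideal, p_1, …, p_r prime ideals with I ⊄ p_i for all i, and let f̄ ∈ A/I. Then
f̄ lifts to an element f ∈ A with f ∉ p_i for all i. -/
theorem result (A : Type u) [CommRing A] (I : Ideal A)
    (s : Finset (Ideal A)) (hs : ∀ p ∈ s, p.IsPrime) (hI : ∀ p ∈ s, ¬ I ≤ p) (fbar : A ⧸ I) :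
    ∃ f : A, Ideal.Quotient.mk I f = fbar ∧ ∀ p ∈ s, f ∉ p := by
  classical
  obtain ⟨g, rfl⟩ := Ideal.Quotient.mk_surjective fbar
  induction s using Finset.strongInduction with
  | H s ih =>
    by_cases hg : ∀ p ∈ s, g ∉ p
    · exact ⟨g, rfl, hg⟩
    rcases s.eq_empty_or_nonempty with rfl | hne
    · exact absurd (fun p hp => absurd hp (Finset.notMem_empty p)) hg
    obtain ⟨m, hm⟩ := Finset.exists_minimal hne
    obtain ⟨f, hf, hfs⟩ := ih (s.erase m) (Finset.erase_ssubset hm.1) (fun p hp => hs p (Finset.mem_of_mem_erase hp))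
      (fun p hp => hI p (Finset.mem_of_mem_erase hp))
    by_cases hfm : f ∈ m
    swap
    · exact ⟨f, hf, fun p hp => if h : p = m then h ▸ hfm else hfs p (Finset.mem_erase.2 ⟨h, hp⟩)⟩
    haveI := hs m hm.1
    have hnle : ¬ I * ∏ q ∈ s.erase m, q ≤ m := by
      rw [(hs m hm.1).mul_le, not_or, (hs m hm.1).prod_le]
      refine ⟨hI m hm.1, ?_⟩
      rintro ⟨q, hq, hqm⟩
      exact (Finset.ne_of_mem_erase hq) (le_antisymm hqm (hm.2 (Finset.mem_of_mem_erase hq) hqm))
    obtain ⟨e, he, hem⟩ := SetLike.not_le_iff_exists.1 hnle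
    refine ⟨f + e, ?_, fun p hp hfe => ?_⟩
    · rw [map_add, hf, Ideal.Quotient.eq_zero_iff_mem.2 (Ideal.mul_le_inf he).1, add_zero]
    · by_cases h : p = m
      · subst h
        exact hem ((Ideal.add_mem_iff_right _ hfm).1 hfe)
      · have hep : e ∈ p := (Ideal.prod_le_inf.trans (Finset.inf_le (f := fun q : Ideal A => q) (Finset.mem_erase.2 ⟨h, hp⟩))) (Ideal.mul_le_inf he).2
        exact hfs p (Finset.mem_erase.2 ⟨h, hp⟩) ((Ideal.add_mem_iff_left _ hep).1 hfe)

end Groth.Agent.S7661
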