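import Groth.Statements.S7663
import Mathlib
import Groth.Agent.DomDVR.KrullAkizuki


set_option autoImplicit false
universe u
open CategoryTheory CategoryTheory.Limits AlgebraicGeometry
open Variety

namespace Groth.Agent.S7663

/-- Let K be a field and A, B ⊆ K subrings with fraction field K, with A Noetherian of dimension one.
Then A ⊗ B → K is not surjective (equivalently, the subring generated by A and B is not K) if and
only if some discrete valuation ring O ⊆ K with fraction field K contains both A and B. -/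
theorem result (K : Type u) [Field K]
    (A : Subring K) [IsFractionRing A K] (B : Subring K) [IsFractionRing B K] [IsNoetherianRing A] (hdim : ringKrullDim A = 1) :
    A ⊔ B ≠ ⊤ ↔ ∃ O : ValuationSubring K, IsDiscreteValuationRing O ∧ A ≤ O.toSubring ∧ B ≤ O.toSubring := by
  constructor
  · intro hne
    haveI : Ring.KrullDimLE 1 A := (Ring.krullDimLE_iff (n := 1)).2 hdim.le
    let C : Subring K := A ⊔ B
    haveI : IsFractionRing C K := IsFractionRing.of_field C K fun z => by
      obtain ⟨x, y, -, rfl⟩ := IsFractionRing.div_surjective A z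
      exact ⟨⟨x.1, le_sup_left (b := B) x.2⟩, ⟨y.1, le_sup_left (b := B) y.2⟩, rfl⟩
    have hCfield : ¬ IsField C := fun hF => hne (eq_top_iff.2 fun z _ => by
      obtain ⟨x, hx⟩ := IsFractionRing.surjective_iff_isField.2 hF z
      rw [← hx]
      exact x.2)
    let C₁ := integralClosure C K
    let C' : Subalgebra A K :=
      { C₁.toSubsemiring with
        algebraMap_mem' := fun a => C₁.algebraMap_mem (⟨a.1, le_sup_left (b := B) a.2⟩ : C) }
    have hNoeth : IsNoetherianRing C₁ := Groth.Agent.DomDVR.isNoetherianRing_of_subalgebra C'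
    have hmax : ∀ P : Ideal C₁, P.IsPrime → P ≠ ⊥ → P.IsMaximal := fun P hP hP0 =>
      @Groth.Agent.DomDVR.isMaximal_of_ne_bot _ _ _ _ _ _ _ _ _ C' P hP hP0
    haveI := hNoeth
    haveI : IsIntegrallyClosed C₁ := IsIntegrallyClosed.of_isIntegrallyClosed_of_isIntegrallyClosedIn _ K
    haveI : IsFractionRing C₁ K := IsFractionRing.of_field C₁ K fun z => by
      obtain ⟨x, y, -, rfl⟩ := IsFractionRing.div_surjective C z
      exact ⟨algebraMap C C₁ x, algebraMap C C₁ y, rfl⟩
    haveI : Ring.DimensionLEOne C₁ := ⟨fun h0 hP => hmax _ hP h0⟩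
    haveI : IsDedekindDomain C₁ := (isDedekindDomain_iff C₁ K).2 ⟨inferInstance, inferInstance, inferInstance,
      fun {x} hx => IsIntegrallyClosed.isIntegral_iff.1 hx⟩
    obtain ⟨P, hP0, hP⟩ : ∃ P : Ideal C₁, P ≠ ⊥ ∧ P.IsMaximal := by
      obtain ⟨P, hP⟩ := Ideal.exists_maximal C₁
      refine ⟨P, fun h0 => hCfield ?_, hP⟩
      refine isField_of_isIntegral_of_isField (R := C) (S := C₁) (FaithfulSMul.algebraMap_injective C C₁) ?_
      subst h0
      by_contra hF
      obtain ⟨Q, hQ0, hQ⟩ := Ring.not_isField_iff_exists_prime.1 hF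
      exact hQ0 ((hP.eq_of_le hQ.ne_top bot_le).symm)
    haveI := hP
    let O₁ := Localization.subalgebra.ofField K P.primeCompl P.primeCompl_le_nonZeroDivisors
    haveI : IsDiscreteValuationRing O₁ := IsLocalization.AtPrime.isDiscreteValuationRing_of_dedekind_domain C₁ hP0 O₁
    haveI : IsFractionRing O₁ K := IsFractionRing.of_field O₁ K fun z => by
      obtain ⟨x, y, -, rfl⟩ := IsFractionRing.div_surjective C₁ z
      exact ⟨algebraMap C₁ O₁ x, algebraMap C₁ O₁ y, rfl⟩
    refine ⟨{ O₁.toSubring with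
      mem_or_inv_mem' := fun z => ?_ }, ‹IsDiscreteValuationRing O₁›, fun a ha => ?_, fun b hb => ?_⟩
    · rcases ValuationRing.isInteger_or_isInteger O₁ z with ⟨w, hw⟩ | ⟨w, hw⟩
      · exact Or.inl (hw ▸ w.2)
      · exact Or.inr (hw ▸ w.2)
    · exact O₁.algebraMap_mem (algebraMap C C₁ ⟨a, le_sup_left (b := B) ha⟩)
    · exact O₁.algebraMap_mem (algebraMap C C₁ ⟨b, le_sup_right (a := A) hb⟩)
  · rintro ⟨O, hO, hA, hB⟩ h
    refine IsDiscreteValuationRing.not_isField O ?_
    refine (IsFractionRing.surjective_iff_isField (R := O) (K := K)).1 fun z => ?_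
    exact ⟨⟨z, (sup_le hA hB) (h ▸ trivial : z ∈ A ⊔ B)⟩, rfl⟩

end Groth.Agent.S7663
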