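import Groth.Statements.S7664
import Groth.Agent.SemiLocGlue.Two

set_option autoImplicit false
universe u
open CategoryTheory CategoryTheory.Limits AlgebraicGeometry
open Variety

namespace Groth.Agent.S7664

open CategoryTheory CategoryTheory.Limits AlgebraicGeometry



/-- Let K be a field, A ⊆ K a Noetherian semi-local domain of dimension one and B ⊆ K a discrete
valuation ring, both with fraction field K, and R = A ∩ B. (a) If some unit of A does not lie in R,
then Spec A and Spec B each map to Spec R by an open immersion, Spec R is the union of the two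
images, and the natural map A ⊗_R B → K is an isomorphism. (b) If every unit of A lies in R, then B
dominates the local ring of A at one of its maximal ideals (A ⊆ B and the maximal ideal of B
contracts to a maximal ideal of A) and A ⊗ B → K is not surjective. -/
theorem result (K : Type u) [Field K]
    (A : Subring K) [IsFractionRing A K] [IsNoetherianRing A] (hdim : ringKrullDim A = 1) (hsl : Finite (MaximalSpectrum A))
    (B : ValuationSubring K) [IsDiscreteValuationRing B] :
    ((∃ u : A, IsUnit u ∧ (u : K) ∉ B) →
      IsOpenImmersion (Spec.map (CommRingCat.ofHom (Subring.inclusion (inf_le_left : A ⊓ B.toSubring ≤ A)))) ∧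
      IsOpenImmersion (Spec.map (CommRingCat.ofHom (Subring.inclusion (inf_le_right : A ⊓ B.toSubring ≤ B.toSubring)))) ∧
      Set.range (Spec.map (CommRingCat.ofHom (Subring.inclusion (inf_le_left : A ⊓ B.toSubring ≤ A)))).base ∪
        Set.range (Spec.map (CommRingCat.ofHom (Subring.inclusion (inf_le_right : A ⊓ B.toSubring ≤ B.toSubring)))).base = Set.univ ∧
      IsPushout (CommRingCat.ofHom (Subring.inclusion (inf_le_left : A ⊓ B.toSubring ≤ A)))
        (CommRingCat.ofHom (Subring.inclusion (inf_le_right : A ⊓ B.toSubring ≤ B.toSubring)))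
        (CommRingCat.ofHom A.subtype) (CommRingCat.ofHom B.toSubring.subtype)) ∧
    ((∀ u : A, IsUnit u → (u : K) ∈ B) →
      (∃ h : A ≤ B.toSubring,
        (Ideal.comap (Subring.inclusion h) (IsLocalRing.maximalIdeal B)).IsMaximal) ∧ A ⊔ B.toSubring ≠ ⊤) := by
  classical
  haveI : IsNoetherianRing B.toSubring := inferInstanceAs (IsNoetherianRing B)
  haveI : IsFractionRing B.toSubring K := inferInstanceAs (IsFractionRing B K)
  have hdimB : ringKrullDim B.toSubring = 1 := IsPrincipalIdealRing.ringKrullDim_eq_one B
    (IsDiscreteValuationRing.not_isField B)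
  have hslB : Finite (MaximalSpectrum B.toSubring) := inferInstanceAs (Finite (MaximalSpectrum B))
  refine ⟨fun ⟨u, hu, huB⟩ => Groth.Agent.SemiLocGlue.glue_two A B.toSubring hdim hdimB hsl hslB ?_, fun h => ?_⟩
  · have hu0 : (u : K) ≠ 0 := fun h0 => huB (h0 ▸ B.zero_mem)
    have hinv : (u : K)⁻¹ ∈ B := (B.mem_or_inv_mem (u : K)).resolve_left huB
    have hjac : Groth.Agent.SemiLocGlue.InJac B.toSubring (u : K)⁻¹ := by
      refine ⟨hinv, fun P hP => ?_⟩
      have hnu : (⟨(u : K)⁻¹, hinv⟩ : B) ∈ IsLocalRing.maximalIdeal B :=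
        ValuationSubring.coe_mem_nonunits_iff.mp (B.inv_mem_nonunits_iff.mpr (Or.inr huB))
      exact (IsLocalRing.eq_maximalIdeal (R := B) hP) ▸ hnu
    rw [eq_top_iff]
    intro z _
    obtain ⟨n, hn⟩ := Groth.Agent.SemiLocGlue.exists_pow_mul_mem (A := fun _ : Fin 1 => B.toSubring) (fun _ => hdimB) (j := 0) hjac z
    rw [show z = (u : K) ^ n * ((u : K)⁻¹ ^ n * z) by
      rw [← mul_assoc, ← mul_pow, mul_inv_cancel₀ hu0, one_pow, one_mul]]
    exact mul_mem (pow_mem ((le_sup_left : A ≤ A ⊔ B.toSubring) u.2) n) ((le_sup_right : B.toSubring ≤ A ⊔ B.toSubring) hn)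
  · haveI : Finite (MaximalSpectrum A) := hsl
    haveI := Fintype.ofFinite (MaximalSpectrum A)
    have hle : A ≤ B.toSubring := by
      intro a ha
      by_contra haB
      have hv : 1 < B.valuation a := not_le.mp fun h' => haB ((B.valuation_le_one_iff a).mp h')
      let a' : A := ⟨a, ha⟩
      let bad : MaximalSpectrum A → ℕ := fun m =>
        max (orderOf (Ideal.Quotient.mk m.asIdeal a')) (ringChar (A ⧸ m.asIdeal))
      obtain ⟨q, hq, hqp⟩ := Nat.exists_infinite_primes (Finset.univ.sup bad + 2)
      let t : A := ∑ i ∈ Finset.range q, a' ^ i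
      have ht : IsUnit t := by
        by_contra htu
        obtain ⟨m, hm, hle⟩ := Ideal.exists_le_maximal _ (fun htop => htu (Ideal.span_singleton_eq_top.mp htop))
        have hm0 : Ideal.Quotient.mk m t = 0 :=
          Ideal.Quotient.eq_zero_iff_mem.mpr (hle (Ideal.mem_span_singleton_self t))
        rw [map_sum] at hm0
        simp only [map_pow] at hm0
        have hlt : bad ⟨m, hm⟩ < q := by
          have := Finset.le_sup (f := bad) (Finset.mem_univ ⟨m, hm⟩)
          omega
        haveI := hm
        haveI := hm.isPrime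
        have hpow : Ideal.Quotient.mk m a' ^ q = 1 := by
          have := geom_sum_mul (Ideal.Quotient.mk m a') q
          rw [hm0, zero_mul] at this
          exact sub_eq_zero.mp this.symm
        have hone : Ideal.Quotient.mk m a' = 1 := by
          rcases hqp.eq_one_or_self_of_dvd _ (orderOf_dvd_of_pow_eq_one hpow) with h1 | h1
          · exact orderOf_eq_one_iff.mp h1
          · have h2 : orderOf (Ideal.Quotient.mk m a') ≤ bad ⟨m, hm⟩ := le_max_left _ _
            omega
        rw [hone] at hm0
        simp only [one_pow, Finset.sum_const, Finset.card_range, nsmul_eq_mul, mul_one] at hm0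
        rcases hqp.eq_one_or_self_of_dvd _ ((ringChar.spec (A ⧸ m) q).mp hm0) with h1 | h1
        · exact CharP.ringChar_ne_one (R := A ⧸ m) h1
        · have h2 : ringChar (A ⧸ m) ≤ bad ⟨m, hm⟩ := le_max_right _ _
          omega
      have htB : B.valuation (t : K) ≤ 1 := (B.valuation_le_one_iff _).mpr (h t ht)
      have heq : (t : K) * (a - 1) = a ^ q - 1 := by
        have := congrArg Subtype.val (geom_sum_mul a' q)
        simpa [t, a'] using this
      have h1 := congrArg B.valuation heq
      rw [map_mul, Valuation.map_sub_eq_of_lt_left _ (by rw [map_one]; exact hv),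
        Valuation.map_sub_eq_of_lt_left _ (by rw [map_one, map_pow]; exact one_lt_pow₀ hv (by omega)),
        map_pow] at h1
      have h2 : B.valuation a ^ q ≤ B.valuation a := h1 ▸ mul_le_of_le_one_left zero_le htB
      exact absurd h2 (not_le.mpr (lt_self_pow₀ hv (by omega)))
    refine ⟨⟨hle, ?_⟩, fun htop => ?_⟩
    · haveI : (Ideal.comap (Subring.inclusion hle) (IsLocalRing.maximalIdeal B)).IsPrime :=
        Ideal.comap_isPrime _ _
      refine Groth.Agent.SemiLocGlue.isMaximal_of_ne_bot hdim fun hbot => ?_
      obtain ⟨d, hd, hlt⟩ := Groth.Agent.SemiLocGlue.exists_small (A := A) (V := B)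
        ⟨hle, fun hB => IsDiscreteValuationRing.not_isField B (by
          subst hB
          exact MulEquiv.isField (Field.toIsField K)
            (RingEquiv.ofBijective (ValuationSubring.subtype ⊤) ⟨ValuationSubring.subtype_injective ⊤,
              fun z => ⟨⟨z, ValuationSubring.mem_top z⟩, rfl⟩⟩).toMulEquiv)⟩
      have : d ∈ Ideal.comap (Subring.inclusion hle) (IsLocalRing.maximalIdeal B) :=
        (ValuationSubring.valuation_lt_one_iff B _).mpr hlt
      rw [hbot] at this
      exact hd ((Submodule.mem_bot A).mp this)
    · refine IsDiscreteValuationRing.not_isField B ?_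
      have hB : B = ⊤ := eq_top_iff.mpr fun z _ => (sup_le hle le_rfl) (htop.ge trivial)
      subst hB
      exact MulEquiv.isField (Field.toIsField K)
        (RingEquiv.ofBijective (ValuationSubring.subtype ⊤) ⟨ValuationSubring.subtype_injective ⊤,
          fun z => ⟨⟨z, ValuationSubring.mem_top z⟩, rfl⟩⟩).toMulEquiv

end Groth.Agent.S7664
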