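import Groth.Statements.S7666
import Mathlib
import Groth.Agent.DimOneLib.Total


set_option autoImplicit false
universe u
open CategoryTheory CategoryTheory.Limits AlgebraicGeometry
open Variety

namespace Groth.Agent.S7666

/-- Let A be a one-dimensional Noetherian local ring and L = ∏ A_p, the product over the minimal primes
of A. If a_1, a_2 ∈ m_A have the same image in L, then a_1 and a_2 have equal n-th powers for some
positive integer n. -/
theorem result (A : Type u) [CommRing A]
    [IsLocalRing A] [IsNoetherianRing A] (hdim : ringKrullDim A = 1)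
    (a₁ a₂ : A) (h₁ : a₁ ∈ IsLocalRing.maximalIdeal A) (h₂ : a₂ ∈ IsLocalRing.maximalIdeal A)
    (heq : ∀ p : {p : PrimeSpectrum A // p.asIdeal ∈ minimalPrimes A},
      algebraMap A (Localization.AtPrime p.1.asIdeal) a₁ = algebraMap A (Localization.AtPrime p.1.asIdeal) a₂) :
    ∃ n : ℕ, 0 < n ∧ a₁ ^ n = a₂ ^ n := by
  let J : Ideal A := LinearMap.ker (LinearMap.toSpanSingleton A A (a₁ - a₂))
  have hJ : ∀ p ∈ minimalPrimes A, ¬ J ≤ p := fun p hp hle => by
    haveI := hp.1.1
    obtain ⟨c, hc⟩ := (IsLocalization.eq_iff_exists p.primeCompl (Localization.AtPrime p)).1 (heq ⟨⟨p, hp.1.1⟩, hp⟩)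
    exact c.2 (hle (show (c : A) * (a₁ - a₂) = 0 by rw [mul_sub, hc, sub_self]))
  obtain ⟨N, hN⟩ := Groth.Agent.DimOneLib.exists_pow_maximal_le hdim.le J hJ
  refine ⟨N + 1, N.succ_pos, sub_eq_zero.1 ?_⟩
  rw [← geom_sum₂_mul]
  have hmem : ∑ i ∈ Finset.range (N + 1), a₁ ^ i * a₂ ^ (N + 1 - 1 - i) ∈ J := by
    refine sum_mem fun i hi => hN ?_
    have hiN : i + (N + 1 - 1 - i) = N := by have := Finset.mem_range.1 hi; omega
    have h := Ideal.mul_mem_mul (Ideal.pow_mem_pow h₁ i) (Ideal.pow_mem_pow h₂ (N + 1 - 1 - i))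
    rw [← pow_add, hiN] at h
    exact h
  exact hmem

end Groth.Agent.S7666
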