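import Groth.Statements.S7667
import Mathlib
import Groth.Agent.DimOneLib.Total


set_option autoImplicit false
universe u
open CategoryTheory CategoryTheory.Limits AlgebraicGeometry
open Variety

namespace Groth.Agent.S7667

/-- Let A be a one-dimensional Noetherian local ring, L the product of the localizations A_p over its
minimal primes p, and I the intersection of those primes (the nilradical of A). If f ∈ L equals i +
a with a in the maximal ideal of A and i ∈ I·L, then for some positive integer n, f^n belongs to the
subring of L obtained as the image of the structure map from A. -/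
theorem result (A : Type u) [CommRing A]
    [IsLocalRing A] [IsNoetherianRing A] (hdim : ringKrullDim A = 1)
    (a : A) (ha : a ∈ IsLocalRing.maximalIdeal A)
    (i : ∀ p : {p : PrimeSpectrum A // p.asIdeal ∈ minimalPrimes A}, Localization.AtPrime p.1.asIdeal)
    (hi : i ∈ (nilradical A).map (algebraMap A (∀ p : {p : PrimeSpectrum A // p.asIdeal ∈ minimalPrimes A}, Localization.AtPrime p.1.asIdeal))) :
    ∃ n : ℕ, 0 < n ∧ (i + algebraMap A (∀ p : {p : PrimeSpectrum A // p.asIdeal ∈ minimalPrimes A}, Localization.AtPrime p.1.asIdeal) a) ^ n ∈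
      (algebraMap A (∀ p : {p : PrimeSpectrum A // p.asIdeal ∈ minimalPrimes A}, Localization.AtPrime p.1.asIdeal)).range := by
  classical
  let L := ∀ p : {p : PrimeSpectrum A // p.asIdeal ∈ minimalPrimes A}, Localization.AtPrime p.1.asIdeal
  have hJ : ∀ t : L, ∃ N : ℕ, ∀ r ∈ IsLocalRing.maximalIdeal A ^ N, algebraMap A L r * t ∈ (algebraMap A L).range := fun t => by
    let J : Ideal A :=
      { carrier := {r | algebraMap A L r * t ∈ (algebraMap A L).range}
        add_mem' := fun {x y} hx hy => by show algebraMap A L (x + y) * t ∈ (algebraMap A L).range; rw [map_add, add_mul]; exact add_mem hx hy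
        zero_mem' := by show algebraMap A L 0 * t ∈ (algebraMap A L).range; rw [map_zero, zero_mul]; exact zero_mem _
        smul_mem' := fun c x hx => by
          show algebraMap A L (c * x) * t ∈ (algebraMap A L).range
          rw [map_mul, mul_assoc]
          exact mul_mem ⟨c, rfl⟩ hx }
    obtain ⟨N, hN⟩ := Groth.Agent.DimOneLib.exists_pow_maximal_le hdim.le J fun p hp hle => by
      obtain ⟨r, hr, hr'⟩ := Groth.Agent.DimOneLib.exists_smul_mem_range t ⟨⟨p, hp.1.1⟩, hp⟩
      exact hr (hle hr')
    exact ⟨N, fun r hr => hN hr⟩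
  choose N hN using hJ
  have hnil : IsNilpotent i := by
    have h : (nilradical A).map (algebraMap A L) ≤ nilradical L := Ideal.map_le_iff_le_comap.2 fun z hz => (mem_nilradical.1 hz).map _
    exact h hi
  obtain ⟨M, hM⟩ := hnil
  let K := Finset.sum (Finset.range M) fun k => N (i ^ k)
  refine ⟨M + K + 1, Nat.succ_pos _, ?_⟩
  rw [(Commute.all _ _).add_pow]
  refine sum_mem fun k hk => ?_
  rcases lt_or_ge k M with hkM | hkM
  · refine mul_mem ?_ (natCast_mem _ _)
    rw [← map_pow, mul_comm]
    refine hN _ _ (Ideal.pow_le_pow_right ?_ (Ideal.pow_mem_pow ha _))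
    have h1 : N (i ^ k) ≤ K := Finset.single_le_sum (f := fun k => N (i ^ k)) (fun _ _ => Nat.zero_le _) (Finset.mem_range.2 hkM)
    omega
  · rw [pow_eq_zero_of_le hkM hM, zero_mul, zero_mul]
    exact zero_mem _

end Groth.Agent.S7667
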