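import Groth.Statements.S7668
import Mathlib


set_option autoImplicit false
universe u
open CategoryTheory CategoryTheory.Limits AlgebraicGeometry
open Variety

namespace Groth.Agent.S7668

/-- Let A be a ring, p_1, …, p_r primes of A and S = A ∖ ⋃ p_i. Then S is a multiplicative subset, S⁻¹A
is semi-local, and contraction to A is a bijection from the maximal ideals of S⁻¹A onto the maximal
elements of {p_1, …, p_r}. -/
theorem result (A : Type u) [CommRing A]
    (r : ℕ) (p : Fin r → PrimeSpectrum A) :
    Finite (MaximalSpectrum (Localization (⨅ i, (p i).asIdeal.primeCompl))) ∧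
      Set.BijOn (fun m : Ideal (Localization (⨅ i, (p i).asIdeal.primeCompl)) =>
          m.comap (algebraMap A (Localization (⨅ i, (p i).asIdeal.primeCompl))))
        {m | m.IsMaximal}
        {q | q ∈ Set.range (fun i => (p i).asIdeal) ∧
          ∀ j, q ≤ (p j).asIdeal → q = (p j).asIdeal} := by
  classical
  let S : Submonoid A := ⨅ i, (p i).asIdeal.primeCompl
  let L := Localization S
  have hS : ∀ x, x ∈ S ↔ ∀ i, x ∉ (p i).asIdeal := fun x => by simp [S, Submonoid.mem_iInf, Ideal.primeCompl]
  have hdis : ∀ i, Disjoint (S : Set A) ((p i).asIdeal : Set A) := fun i => Set.disjoint_left.2 fun x hx => (hS x).1 hx i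
  have hle : ∀ q : Ideal A, q.IsPrime → Disjoint (S : Set A) q → ∃ i, q ≤ (p i).asIdeal := by
    intro q hq hd
    have h : (q : Set A) ⊆ ⋃ i ∈ (↑(Finset.univ : Finset (Fin r)) : Set (Fin r)), ((p i).asIdeal : Set A) := fun x hx => by
      by_contra hn
      simp only [Finset.coe_univ, Set.mem_univ, Set.iUnion_true, Set.mem_iUnion, not_exists] at hn
      exact Set.disjoint_left.1 hd ((hS x).2 hn) hx
    rcases Nat.eq_zero_or_pos r with h0 | h0
    · subst h0
      exact absurd q.zero_mem (Set.disjoint_left.1 hd ((hS 0).2 fun i => i.elim0))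
    · obtain ⟨i, -, hi⟩ := (Ideal.subset_union_prime ⟨0, h0⟩ ⟨0, h0⟩ fun i _ _ _ => (p i).isPrime).1 h
      exact ⟨i, hi⟩
  have hmax : ∀ m : Ideal L, m.IsMaximal → ∃ i, m.comap (algebraMap A L) = (p i).asIdeal ∧
      ∀ j, (p i).asIdeal ≤ (p j).asIdeal → (p i).asIdeal = (p j).asIdeal := by
    intro m hm
    have h1 := (IsLocalization.isPrime_iff_isPrime_disjoint S L m).1 hm.isPrime
    obtain ⟨i, hi⟩ := hle _ h1.1 h1.2
    have key : ∀ j, m.comap (algebraMap A L) ≤ (p j).asIdeal → m.comap (algebraMap A L) = (p j).asIdeal := fun j hj => by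
      have hpr := IsLocalization.isPrime_of_isPrime_disjoint S L _ (p j).isPrime (hdis j)
      have h2 : m ≤ (p j).asIdeal.map (algebraMap A L) := by
        rw [← IsLocalization.map_comap S L m]
        exact Ideal.map_mono hj
      rw [hm.eq_of_le hpr.ne_top h2]
      exact IsLocalization.comap_map_of_isPrime_disjoint S L (p j).isPrime (hdis j)
    exact ⟨i, key i hi, fun j hj => (key i hi).symm.trans (key j (hi.trans hj))⟩
  refine ⟨?_, ⟨fun m hm => ?_, fun m hm m' hm' he => ?_, ?_⟩⟩
  · refine Finite.of_injective (β := Fin r) (fun m => (hmax m.asIdeal m.isMaximal).choose) fun m m' he => ?_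
    refine MaximalSpectrum.ext ?_
    have h1 := (hmax m.asIdeal m.isMaximal).choose_spec.1
    have h2 := (hmax m'.asIdeal m'.isMaximal).choose_spec.1
    simp only at he
    rw [he, ← h2] at h1
    exact (IsLocalization.map_comap S L _).symm.trans ((congrArg (Ideal.map (algebraMap A L)) h1).trans (IsLocalization.map_comap S L _))
  · obtain ⟨i, hi, hi'⟩ := hmax m hm
    refine ⟨⟨i, hi.symm⟩, fun j => ?_⟩
    show m.comap (algebraMap A L) ≤ _ → m.comap (algebraMap A L) = _
    rw [hi]
    exact hi' j
  · exact (IsLocalization.map_comap S L _).symm.trans ((congrArg (Ideal.map (algebraMap A L)) he).trans (IsLocalization.map_comap S L _))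
  · rintro q ⟨⟨i, rfl⟩, hi⟩
    have hpr := IsLocalization.isPrime_of_isPrime_disjoint S L _ (p i).isPrime (hdis i)
    obtain ⟨m, hm, hle'⟩ := Ideal.exists_le_maximal _ hpr.ne_top
    obtain ⟨j, hj, -⟩ := hmax m hm
    have hij : (p i).asIdeal ≤ (p j).asIdeal := by
      rw [← hj]
      refine (IsLocalization.comap_map_of_isPrime_disjoint S L (p i).isPrime (hdis i)).ge.trans ?_
      exact Ideal.comap_mono hle'
    exact ⟨m, hm, hj.trans (hi j hij).symm⟩

end Groth.Agent.S7668
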