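import Groth.Statements.S7669
import Groth.Agent.PicCurveLib.Shrink
import Groth.Agent.PicCurveLib.Glue

set_option autoImplicit false
universe u
open CategoryTheory CategoryTheory.Limits AlgebraicGeometry
open Variety

namespace Groth.Agent.S7669

open CategoryTheory CategoryTheory.Limits AlgebraicGeometry

open TopologicalSpace Groth.Agent.ParaFLib Groth.Agent.PicCurveLib

variable {X : Scheme.{u}}

/-- Near a point outside `U`, a module with local bases on `U` has a basis on `U`. -/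
theorem exists_gen_near {U : X.Opens} {L : X.Modules} (hL : LocGen L U) {x : X} (hxU : x ∉ U)
    (hN : IsNoetherianRing (X.presheaf.stalk x)) (hd : ringKrullDim (X.presheaf.stalk x) ≤ 1)
    {A : X.Opens} (hA : IsAffineOpen A) (hxA : x ∈ A) (f : Γ(X, A)) (hf : A ⊓ U = X.basicOpen f) :
    ∃ D : X.Opens, x ∈ D ∧ D ≤ A ∧ ∃ s : Γ(L, U ⊓ D), Gen (U ⊓ D) s := by
  classical
  let T : Set X := {y | y ⤳ x ∧ y ∈ U}
  have hT : T.Finite := (finite_generalisations hN hd).subset fun y hy => hy.1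
  haveI := hT.fintype
  have hTA : ∀ y : X, y ⤳ x → y ∈ A := fun y hy => hy.mem_open A.isOpen hxA
  have hex : ∀ y : T, ∃ h : Γ(X, A), y.1 ∈ X.basicOpen h ∧
      (∀ y' : T, y'.1 ∈ X.basicOpen h → y' = y) ∧ ∃ s : Γ(L, X.basicOpen h), Gen (X.basicOpen h) s := by
    intro y
    obtain ⟨W, e, hyW, he⟩ := hL y.1 y.2.2
    let C : Set X := ⋃ y' ∈ T \ {y.1}, closure {y'}
    have hC : IsClosed C := (hT.sdiff (t := {y.1})).isClosed_biUnion fun _ _ => isClosed_closure
    have hyC : y.1 ∉ C := fun hy => by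
      obtain ⟨y', ⟨hy'T, hy'ne⟩, hy'⟩ := Set.mem_iUnion₂.1 hy
      exact hy'ne (eq_of_specializes hN hd y.2.1 (specializes_iff_mem_closure.2 hy')
        (fun e => hxU (e ▸ y.2.2)))
    let O : X.Opens := W ⊓ ⟨Cᶜ, hC.isOpen_compl⟩
    obtain ⟨h, hhO, hyh⟩ := hA.exists_basicOpen_le (V := O) ⟨y.1, hyW, hyC⟩ (hTA y.1 y.2.1)
    refine ⟨h, hyh, fun y' hy' => ?_, ⟨_, he.res (hhO.trans inf_le_left)⟩⟩
    by_contra hne
    exact (hhO hy').2 (Set.mem_biUnion (x := y'.1)
      (⟨y'.2, fun e => hne (Subtype.ext e)⟩ : y'.1 ∈ T \ {y.1}) (subset_closure rfl))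
  choose h hyh hsep hgen using hex
  have hpair : ∀ p : T × T, ∃ t : Γ(X, A), x ∈ X.basicOpen t ∧
      (p.1 ≠ p.2 → X.basicOpen t ⊓ X.basicOpen (f * (h p.1 * h p.2)) ≤ ⊥) := by
    intro p
    by_cases hp : p.1 = p.2
    · obtain ⟨t, ht, -⟩ := exists_shrink hA hxA f ⊤ fun _ _ _ => trivial
      exact ⟨t, ht, fun hne => absurd hp hne⟩
    · obtain ⟨t, ht, htle⟩ := exists_shrink hA hxA (f * (h p.1 * h p.2)) ⊥ fun y hy hyx => by
        rw [Scheme.basicOpen_mul, Scheme.basicOpen_mul] at hy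
        have hyT : y ∈ T := ⟨hyx, (hf.ge hy.1).2⟩
        exact absurd ((hsep p.1 ⟨y, hyT⟩ hy.2.1).symm.trans (hsep p.2 ⟨y, hyT⟩ hy.2.2)) hp
      exact ⟨t, ht, fun _ => htle⟩
  choose t htx ht using hpair
  obtain ⟨t0, ht0x, ht0⟩ := exists_shrink hA hxA f (⨆ y : T, X.basicOpen (h y)) fun y hy hyx =>
    Opens.mem_iSup.2 ⟨⟨y, hyx, (hf.ge hy).2⟩, hyh _⟩
  let τ := t0 * ∏ p : T × T, t p
  have hτx : x ∈ X.basicOpen τ := by
    rw [mem_basicOpen_iff hA hxA]
    refine (hA.primeIdealOf ⟨x, hxA⟩).asIdeal.primeCompl.mul_mem ?_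
      (Submonoid.prod_mem _ fun p _ => ?_)
    · exact (mem_basicOpen_iff hA hxA _).1 ht0x
    · exact (mem_basicOpen_iff hA hxA _).1 (htx p)
  have hτ0 : X.basicOpen τ ≤ X.basicOpen t0 := (X.basicOpen_mul _ _).le.trans inf_le_left
  have hτp : ∀ p, X.basicOpen τ ≤ X.basicOpen (t p) := fun p => by
    refine ((X.basicOpen_mul _ _).le.trans inf_le_right).trans ?_
    rw [← Finset.mul_prod_erase Finset.univ t (Finset.mem_univ p), Scheme.basicOpen_mul]
    exact inf_le_left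
  refine ⟨X.basicOpen τ, hτx, X.basicOpen_le τ, ?_⟩
  have hUf : U ⊓ X.basicOpen τ ≤ X.basicOpen f := (le_inf (inf_le_right.trans (X.basicOpen_le τ)) inf_le_left).trans hf.le
  let B : T → X.Opens := fun y => U ⊓ X.basicOpen τ ⊓ X.basicOpen (h y)
  have hB : iSup B = U ⊓ X.basicOpen τ := le_antisymm (iSup_le fun y => inf_le_left) fun z hz => by
    obtain ⟨y, hy⟩ := Opens.mem_iSup.1 (ht0 ⟨hτ0 hz.2, hUf hz⟩)
    exact Opens.mem_iSup.2 ⟨y, hz, hy⟩
  refine exists_gen_of_eq hB (exists_gen_of_disjoint B (fun i j hij => le_bot_iff.1 ?_) fun y => ?_)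
  · refine le_trans ?_ (ht (i, j) hij)
    rw [Scheme.basicOpen_mul, Scheme.basicOpen_mul]
    exact le_inf ((inf_le_left.trans (inf_le_left.trans inf_le_right)).trans (hτp (i, j)))
      (le_inf ((inf_le_left.trans inf_le_left).trans hUf)
        (le_inf (inf_le_left.trans inf_le_right) (inf_le_right.trans inf_le_right)))
  · obtain ⟨s, hs⟩ := hgen y
    exact ⟨_, hs.res (inf_le_right : B y ≤ _)⟩


/-- Let X be a scheme and U ⊆ X a retrocompact open such that X ∖ U is discrete and O_{X,x} is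
Noetherian of dimension ≤ 1 for every x ∈ X ∖ U. Then (1) there are an invertible module L and a
global section s with U = X_s, and (2) Pic(X) → Pic(U) is surjective. -/
theorem result (X : Scheme.{u}) (U : X.Opens)
    [QuasiCompact U.ι] (hdisc : DiscreteTopology ↥((U : Set X)ᶜ))
    (hloc : ∀ x : X, x ∉ U → IsNoetherianRing (X.presheaf.stalk x) ∧ ringKrullDim (X.presheaf.stalk x) ≤ 1) :
    (∃ (L : X.Modules) (s : Coh.structureModule X ⟶ L), PicF.IsInvertible L ∧ CohB1.genLocus L s = U) ∧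
      ∀ N : (↑U : Scheme.{u}).Modules, PicF.IsInvertible N →
        ∃ L : X.Modules, PicF.IsInvertible L ∧ Nonempty (L.restrict U.ι ≅ N) := by
  have hch := fun a : {x : X // x ∉ U} =>
    exists_chart hdisc a.2 (hloc a.1 a.2).1 (hloc a.1 a.2).2
  choose A f hA hxA hA1 hAf using hch
  refine ⟨?_, fun N hN => ?_⟩
  · refine exists_invertible_genLocus U A (top_le_iff.1 fun x _ => ?_) (fun a b hab => ?_) f hAf
    · by_cases hx : x ∈ U
      · exact Or.inl hx
      · exact Or.inr (Opens.mem_iSup.2 ⟨⟨x, hx⟩, hxA _⟩)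
    · exact fun y hy => by_contra fun hyU =>
        hab (Subtype.ext ((hA1 a y hy.1 hyU).symm.trans (hA1 b y hy.2 hyU)))
  let L0 := (Scheme.Modules.pushforward U.ι).obj N
  have hL0 : LocGen L0 U := locGen_pushforward U hN
  choose D hxD hDA hgen using fun a => exists_gen_near hL0 a.2 (hloc a.1 a.2).1 (hloc a.1 a.2).2
    (hA a) (hxA a) (f a) (hAf a)
  obtain ⟨L', hL', ⟨e⟩⟩ := exists_glue_family U D (top_le_iff.1 fun x _ => by
    by_cases hx : x ∈ U
    · exact Or.inl hx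
    · exact Or.inr (Opens.mem_iSup.2 ⟨⟨x, hx⟩, hxD _⟩))
    (fun a b hab y hy => by_contra fun hyU => hab (Subtype.ext
      ((hA1 a y (hDA a hy.1) hyU).symm.trans (hA1 b y (hDA b hy.2) hyU))))
    hL0 hgen
  exact ⟨L', hL', ⟨e ≪≫ asIso ((Scheme.Modules.restrictAdjunction U.ι).counit.app N)⟩⟩

end Groth.Agent.S7669
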