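import Groth.Statements.S7670
import Groth.Agent.PicCurveLib.Lift
import Groth.Agent.AmpleEmb.ComposeRel
import Groth.Agent.PullbackMod.Basic
import Mathlib.AlgebraicGeometry.Properties

set_option autoImplicit false
universe u
open CategoryTheory CategoryTheory.Limits AlgebraicGeometry
open Variety

namespace Groth.Agent.S7670

open CategoryTheory CategoryTheory.Limits AlgebraicGeometry

open TopologicalSpace Groth.Agent.ParaFLib Groth.Agent.PicCurveLib Groth.Agent.PullbackMod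

variable {X : Scheme.{u}}

/-- A function on a reduced scheme vanishing on closed subschemes covering it is zero. -/
theorem eq_of_appLE [IsReduced X] {n : ℕ} {Z : Fin n → X.IdealSheafData}
    (hcov : ⋃ i, ((Z i).support : Set X) = Set.univ) {O : X.Opens} {a b : Γ(X, O)}
    (h : ∀ i, (Z i).subschemeι.appLE O ((Z i).subschemeι ⁻¹ᵁ O) le_rfl a =
      (Z i).subschemeι.appLE O ((Z i).subschemeι ⁻¹ᵁ O) le_rfl b) : a = b := by
  rw [← sub_eq_zero]
  refine eq_zero_of_basicOpen_eq_bot _ (le_bot_iff.1 fun y hy => ?_)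
  obtain ⟨i, hi⟩ := Set.mem_iUnion.1 (hcov.ge (Set.mem_univ y))
  rw [← Scheme.IdealSheafData.range_subschemeι] at hi
  obtain ⟨z, rfl⟩ := hi
  have h0 : (Z i).subschemeι.appLE O ((Z i).subschemeι ⁻¹ᵁ O) le_rfl (a - b) = 0 := by
    rw [map_sub, h i, sub_self]
  have h1 : z ∈ (Z i).subschemeι ⁻¹ᵁ X.basicOpen (a - b) := hy
  rw [Scheme.preimage_basicOpen, Scheme.Hom.app_eq_appLE, h0, Scheme.basicOpen_zero] at h1
  exact h1

theorem bijective_app_of_cover [IsReduced X] (Z : X.IdealSheafData) {B : X.Opens}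
    (hB : (B : Set X) ⊆ (Z.support : Set X)) : Function.Bijective (Z.subschemeι.app B) := by
  haveI : IsClosedImmersion (Z.subschemeι ∣_ B) := IsZariskiLocalAtTarget.restrict
    (P := @IsClosedImmersion) (inferInstanceAs (IsClosedImmersion Z.subschemeι)) B
  haveI : Surjective (Z.subschemeι ∣_ B) := ⟨fun y => by
    have hy : y.1 ∈ (Z.support : Set X) := hB y.2
    rw [← Scheme.IdealSheafData.range_subschemeι] at hy
    obtain ⟨z, hz⟩ := hy
    exact ⟨⟨z, show Z.subschemeι z ∈ B from hz.symm ▸ y.2⟩, Subtype.ext ((morphismRestrict_base_coe ..).trans hz)⟩⟩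
  haveI : IsIso (Z.subschemeι ∣_ B) := isIso_of_isClosedImmersion_of_surjective _
  haveI : IsIso ((Z.subschemeι ∣_ B).app ⊤) := inferInstance
  have h : Function.Bijective ((Z.subschemeι ∣_ B).app ⊤) := ConcreteCategory.bijective_of_isIso _
  rw [morphismRestrict_app] at h
  have key : ∀ O : X.Opens, O = B → Function.Bijective (Z.subschemeι.app O) →
      Function.Bijective (Z.subschemeι.app B) := by
    rintro O rfl ho
    exact ho
  refine key (B.ι ''ᵁ ⊤) B.ι_image_top ?_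
  let ψ := Z.subscheme.presheaf.map (eqToHom (image_morphismRestrict_preimage Z.subschemeι B ⊤)).op
  refine ⟨fun a b hab => h.1 (congrArg ψ hab), fun r => ?_⟩
  obtain ⟨a, ha⟩ := h.2 (ψ r)
  exact ⟨a, (ConcreteCategory.bijective_of_isIso ψ).1 ha⟩

/-- Away from the intersections, functions may be prescribed on each piece. -/
theorem exists_of_pieces [IsReduced X] {n : ℕ} {Z : Fin n → X.IdealSheafData}
    (hcov : ⋃ i, ((Z i).support : Set X) = Set.univ) (O : X.Opens)
    (hO : ∀ y ∈ O, ∀ i j, y ∈ (Z i).support → y ∈ (Z j).support → i = j)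
    (r : ∀ i, Γ((Z i).subscheme, (Z i).subschemeι ⁻¹ᵁ O)) :
    ∃ g : Γ(X, O), ∀ i, (Z i).subschemeι.appLE O ((Z i).subschemeι ⁻¹ᵁ O) le_rfl g = r i := by
  let C : Fin n → Set X := fun i => ⋃ j ∈ {j : Fin n | j ≠ i}, ((Z j).support : Set X)
  have hC : ∀ i, IsClosed (C i) := fun i =>
    (Set.toFinite _).isClosed_biUnion fun j _ => (Z j).support.isClosed
  let B : ULift.{u} (Fin n) → X.Opens := fun i => O ⊓ ⟨(C i.down)ᶜ, (hC i.down).isOpen_compl⟩
  have hBZ : ∀ i, (B i : Set X) ⊆ ((Z i.down).support : Set X) := fun i y hy => by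
    obtain ⟨j, hj⟩ := Set.mem_iUnion.1 (hcov.ge (Set.mem_univ y))
    by_contra hne
    exact hy.2 (Set.mem_biUnion (x := j) (fun e => hne (e ▸ hj)) hj)
  have hsur : ∀ i, ∃ g : Γ(X, B i), (Z i.down).subschemeι.appLE (B i) ((Z i.down).subschemeι ⁻¹ᵁ B i) le_rfl g =
      (Z i.down).subscheme.presheaf.map
        (homOfLE ((Z i.down).subschemeι.preimage_mono (inf_le_left : B i ≤ O))).op (r i.down) := fun i => by
    obtain ⟨g, hg⟩ := (bijective_app_of_cover (Z i.down) (hBZ i)).2 ((Z i.down).subscheme.presheaf.map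
        (homOfLE ((Z i.down).subschemeι.preimage_mono (inf_le_left : B i ≤ O))).op (r i.down))
    rw [Scheme.Hom.app_eq_appLE] at hg
    exact ⟨g, hg⟩
  choose g hg using hsur
  have hcovO : O ≤ iSup B := fun y hy => by
    obtain ⟨i, hi⟩ := Set.mem_iUnion.1 (hcov.ge (Set.mem_univ y))
    refine Opens.mem_iSup.2 ⟨⟨i⟩, hy, fun h => ?_⟩
    obtain ⟨j, hj, hyj⟩ := Set.mem_iUnion₂.1 h
    exact hj (hO y hy j i hyj hi)
  obtain ⟨G, hG, -⟩ := X.sheaf.existsUnique_gluing' B O (fun i => homOfLE inf_le_left) hcovO g fun i j => by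
    by_cases hij : i = j
    · subst hij
      rfl
    · haveI := subsingleton_secX (X := X) (O := B i ⊓ B j) (le_bot_iff.1 fun y hy =>
        hy.1.2 (Set.mem_biUnion (x := j.down) (fun e => hij (ULift.ext _ _ e.symm)) (hBZ j hy.2)))
      exact Subsingleton.elim (α := Γ(X, B i ⊓ B j)) _ _
  refine ⟨G, fun i => ?_⟩
  have hle : (Z i).subschemeι ⁻¹ᵁ O ≤ (Z i).subschemeι ⁻¹ᵁ B ⟨i⟩ := fun z hz => ⟨hz, fun h => by
    obtain ⟨j, hj, hyj⟩ := Set.mem_iUnion₂.1 h
    refine hj (hO _ hz j i hyj ?_)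
    rw [← SetLike.mem_coe, ← Scheme.IdealSheafData.range_subschemeι]
    exact ⟨z, rfl⟩⟩
  have h1 := hg ⟨i⟩
  rw [← (show X.presheaf.map (homOfLE (inf_le_left : B ⟨i⟩ ≤ O)).op G = g ⟨i⟩ from hG ⟨i⟩), appLE_res,
    ← res_appLE (Z i).subschemeι (le_refl ((Z i).subschemeι ⁻¹ᵁ O))
      ((Z i).subschemeι.preimage_mono (inf_le_left : B ⟨i⟩ ≤ O))] at h1
  have h2 := congrArg ((Z i).subscheme.presheaf.map (homOfLE hle).op) h1
  rw [resX_resX, resX_resX] at h2
  simpa using h2

/-- Near a point, isolate it in a closed set with discrete topology. -/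
theorem exists_nhd_inter {S : Set X} (hS : IsClosed S) (hd : DiscreteTopology S) (x : X) :
    ∃ N : X.Opens, x ∈ N ∧ ∀ y ∈ N, y ∈ S → y = x := by
  by_cases hx : x ∈ S
  · obtain ⟨W, hW, hWx⟩ := isOpen_induced_iff.1 (@isOpen_discrete _ _ hd ({⟨x, hx⟩} : Set S))
    refine ⟨⟨W, hW⟩, ?_, fun y hy hyS => ?_⟩
    · have : (⟨x, hx⟩ : S) ∈ Subtype.val ⁻¹' W := by rw [hWx]; rfl
      exact this
    · have : (⟨y, hyS⟩ : S) ∈ Subtype.val ⁻¹' W := hy
      rw [hWx] at this
      exact congrArg Subtype.val this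
  · exact ⟨⟨Sᶜ, hS.isOpen_compl⟩, hx, fun y hy hyS => absurd hyS hy⟩

/-- A common neighbourhood with bases on all the pieces. -/
theorem exists_nhd_gens {n : ℕ} {Z : Fin n → X.IdealSheafData}
    {L : ∀ i, (Z i).subscheme.Modules} (hL : ∀ i, PicF.IsInvertible (L i)) (x : X) :
    ∃ W : X.Opens, x ∈ W ∧ ∀ i, ∃ e : Γ(L i, (Z i).subschemeι ⁻¹ᵁ W), Gen ((Z i).subschemeι ⁻¹ᵁ W) e := by
  have hex : ∀ i, ∃ W : X.Opens, x ∈ W ∧
      ∃ e : Γ(L i, (Z i).subschemeι ⁻¹ᵁ W), Gen ((Z i).subschemeι ⁻¹ᵁ W) e := fun i => by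
    by_cases hx : x ∈ Set.range (Z i).subschemeι
    · obtain ⟨z, rfl⟩ := hx
      obtain ⟨O, e, hzO, he⟩ := exists_gen_nhd (hL i) z
      obtain ⟨W, hW, hWO⟩ := (Z i).subschemeι.isEmbedding.isInducing.isOpen_iff.1 O.isOpen
      have hle : (Z i).subschemeι ⁻¹ᵁ ⟨W, hW⟩ ≤ O := fun y hy => hWO.le hy
      exact ⟨⟨W, hW⟩, hWO.ge hzO, _, he.res hle⟩
    · let R : X.Opens := ⟨(Set.range (Z i).subschemeι)ᶜ,
        (Z i).subschemeι.isClosedEmbedding.isClosed_range.isOpen_compl⟩
      exact ⟨R, hx, exists_gen_of_eq (le_bot_iff.1 fun y hy => hy ⟨y, rfl⟩).symm exists_gen_bot⟩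
  choose W hxW e he using hex
  refine ⟨⟨⋂ i, W i, isOpen_iInter_of_finite fun i => (W i).isOpen⟩, Set.mem_iInter.2 hxW, fun i => ?_⟩
  exact ⟨_, (he i).res ((Z i).subschemeι.preimage_mono fun y hy => Set.mem_iInter.1 hy i)⟩

/-- Let X be a reduced scheme and Z_1, …, Z_n ⊆ X closed subschemes with X = ⋃ Z_i set-theoretically and
Z_i ∩ Z_j discrete for i ≠ j, and let L_i be an invertible module on Z_i. Then there is an
invertible module L on X whose restriction to each Z_i is isomorphic to L_i. (The published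
statement also gives, for sections s_i of L_i that do not vanish at the points of Z_i ∩ Z_j, a
choice of L with a global section restricting to each s_i; this row states only the existence of L.) -/
theorem result (X : Scheme.{u}) [IsReduced X]
    (n : ℕ) (Z : Fin n → X.IdealSheafData)
    (hcov : ⋃ i, ((Z i).support : Set X) = Set.univ)
    (hdisc : ∀ i j, i ≠ j → DiscreteTopology ↥(((Z i).support : Set X) ∩ ((Z j).support : Set X)))
    (L : ∀ i, (Z i).subscheme.Modules) (hL : ∀ i, PicF.IsInvertible (L i)) :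
    ∃ M : X.Modules, PicF.IsInvertible M ∧
      ∀ i, Nonempty ((Scheme.Modules.pullback (Z i).subschemeι).obj M ≅ L i) := by
  classical
  choose W hxW e he using fun x => exists_nhd_gens hL x
  have hN : ∀ x : X, ∀ p : Fin n × Fin n, ∃ N : X.Opens, x ∈ N ∧
      ∀ y ∈ N, p.1 ≠ p.2 → y ∈ (Z p.1).support → y ∈ (Z p.2).support → y = x := fun x p => by
    by_cases hp : p.1 = p.2
    · exact ⟨⊤, trivial, fun y _ h => absurd hp h⟩
    · obtain ⟨N, hx, hN⟩ := exists_nhd_inter ((Z p.1).support.isClosed.inter (Z p.2).support.isClosed)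
        (hdisc p.1 p.2 hp) x
      exact ⟨N, hx, fun y hy _ h1 h2 => hN y hy ⟨h1, h2⟩⟩
  choose N hxN hN using hN
  let U : X → X.Opens := fun x => W x ⊓ ⟨⋂ p, (N x p : Set X), isOpen_iInter_of_finite fun p => (N x p).isOpen⟩
  have hxU : ∀ x, x ∈ U x := fun x => ⟨hxW x, Set.mem_iInter.2 fun p => hxN x p⟩
  let b : ∀ x i, Γ(L i, (Z i).subschemeι ⁻¹ᵁ U x) := fun x i =>
    (L i).presheaf.map (homOfLE ((Z i).subschemeι.preimage_mono (inf_le_left : U x ≤ W x))).op (e x i)
  have hb : ∀ x i, Gen ((Z i).subschemeι ⁻¹ᵁ U x) (b x i) := fun x i =>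
    (he x i).res ((Z i).subschemeι.preimage_mono inf_le_left)
  have hU0 : ∀ x x', x ≠ x' → ∀ y ∈ U x ⊓ U x', ∀ i j, y ∈ (Z i).support → y ∈ (Z j).support → i = j :=
    fun x x' hne y hy i j hi hj => by_contra fun hij => hne
      ((hN x (i, j) y (Set.mem_iInter.1 hy.1.2 (i, j)) hij hi hj).symm.trans
        (hN x' (i, j) y (Set.mem_iInter.1 hy.2.2 (i, j)) hij hi hj))
  -- the transition functions
  have hη : ∀ x x', ∃ η : Γ(X, U x ⊓ U x'), ∀ i,
      (L i).presheaf.map (homOfLE ((Z i).subschemeι.preimage_mono inf_le_left)).op (b x i) =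
        (Z i).subschemeι.appLE (U x ⊓ U x') ((Z i).subschemeι ⁻¹ᵁ (U x ⊓ U x')) le_rfl η •
          (L i).presheaf.map (homOfLE ((Z i).subschemeι.preimage_mono inf_le_right)).op (b x' i) := by
    intro x x'
    by_cases hxx : x = x'
    · subst hxx
      exact ⟨1, fun i => by rw [map_one, one_smul]⟩
    · have hr : ∀ i, ∃ r : Γ((Z i).subscheme, (Z i).subschemeι ⁻¹ᵁ (U x ⊓ U x')),
          r • (L i).presheaf.map (homOfLE ((Z i).subschemeι.preimage_mono inf_le_right)).op (b x' i) =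
          (L i).presheaf.map (homOfLE ((Z i).subschemeι.preimage_mono inf_le_left)).op (b x i) := fun i => by
        obtain ⟨a, -, ha⟩ := ((hb x i).res ((Z i).subschemeι.preimage_mono
          (inf_le_left : U x ⊓ U x' ≤ U x))).exists_unit
          ((hb x' i).res ((Z i).subschemeι.preimage_mono (inf_le_right : U x ⊓ U x' ≤ U x')))
        exact ⟨a, ha⟩
      choose r hr using hr
      obtain ⟨g, hg⟩ := exists_of_pieces hcov (U x ⊓ U x') (hU0 x x' hxx) r
      exact ⟨g, fun i => by rw [hg i, hr i]⟩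
  choose η hη using hη
  have huniq : ∀ (x' : X) (O : X.Opens) (hO : O ≤ U x') (a c : Γ(X, O)),
      (∀ i, (Z i).subschemeι.appLE O ((Z i).subschemeι ⁻¹ᵁ O) le_rfl a •
          (L i).presheaf.map (homOfLE ((Z i).subschemeι.preimage_mono hO)).op (b x' i) =
        (Z i).subschemeι.appLE O ((Z i).subschemeι ⁻¹ᵁ O) le_rfl c •
          (L i).presheaf.map (homOfLE ((Z i).subschemeι.preimage_mono hO)).op (b x' i)) → a = c :=
    fun x' O hO a c h => eq_of_appLE hcov fun i => (hb x' i _ ((Z i).subschemeι.preimage_mono hO)).1 (h i)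
  have hηres : ∀ x x' (O : X.Opens) (h : O ≤ U x ⊓ U x') i,
      (L i).presheaf.map (homOfLE ((Z i).subschemeι.preimage_mono (h.trans inf_le_left))).op (b x i) =
        (Z i).subschemeι.appLE O ((Z i).subschemeι ⁻¹ᵁ O) le_rfl (X.presheaf.map (homOfLE h).op (η x x')) •
          (L i).presheaf.map (homOfLE ((Z i).subschemeι.preimage_mono (h.trans inf_le_right))).op (b x' i) :=
    fun x x' O h i => by
      have := congrArg ((L i).presheaf.map (homOfLE ((Z i).subschemeι.preimage_mono h)).op) (hη x x' i)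
      rw [Scheme.Modules.map_smul, res_appLE] at this
      rw [appLE_res]
      exact (res_res _ _ (b x i)).symm.trans (this.trans (congrArg _ (res_res _ _ (b x' i))))
  have hunit : ∀ x x', IsUnit (η x x') := fun x x' => by
    refine IsUnit.of_mul_eq_one (X.presheaf.map (homOfLE (le_inf inf_le_right inf_le_left :
      U x ⊓ U x' ≤ U x' ⊓ U x)).op (η x' x)) (huniq x _ inf_le_left _ _ fun i => ?_)
    rw [map_one, one_smul, map_mul, mul_smul,
      ← hηres x' x (U x ⊓ U x') (le_inf inf_le_right inf_le_left) i, ← hη x x' i]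
  have hcoc : IsCocycle U (fun x x' => (hunit x x').unit) := by
    intro x y z
    refine huniq z _ inf_le_right _ _ fun i => ?_
    simp only [IsUnit.unit_spec]
    rw [map_mul, mul_smul, ← hηres x z (U x ⊓ U y ⊓ U z) (inf_le_inf_right (U z) inf_le_left) i,
      ← hηres y z (U x ⊓ U y ⊓ U z) (inf_le_inf_right (U z) inf_le_right) i,
      ← hηres x y (U x ⊓ U y ⊓ U z) inf_le_left i]
  have hU : iSup U = ⊤ := top_le_iff.1 fun x _ => Opens.mem_iSup.2 ⟨x, hxU x⟩
  obtain ⟨M, s, hM, hs, hst⟩ := exists_invertible_of_cocycle U _ hU hcoc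
  refine ⟨M, hM, fun i => ?_⟩
  refine nonempty_iso_of_bases (U := fun x => (Z i).subschemeι ⁻¹ᵁ U x)
    (s := fun x => pullMap (Z i).subschemeι M le_rfl (s x)) (t := fun x => b x i)
    (Scheme.Hom.iSup_preimage_eq_top _ hU) (fun x => AmpleEmb.gen_pullMap _ hM (hs x)) (fun x => hb x i)
    (fun x x' => (Z i).subschemeι.appLE (U x ⊓ U x')
      ((Z i).subschemeι ⁻¹ᵁ U x ⊓ (Z i).subschemeι ⁻¹ᵁ U x') le_rfl (η x x'))
    (fun x x' => ?_) fun x x' => hη x x' i
  refine (pullMap_res (W := U x) (W' := (Z i).subschemeι ⁻¹ᵁ U x) (V := U x ⊓ U x')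
    (V' := (Z i).subschemeι ⁻¹ᵁ U x ⊓ (Z i).subschemeι ⁻¹ᵁ U x') (Z i).subschemeι M
    le_rfl inf_le_left inf_le_left le_rfl (s x)).trans ?_
  rw [hst x x', pullMap_smul, IsUnit.unit_spec]
  exact congrArg _ (pullMap_res (W := U x') (W' := (Z i).subschemeι ⁻¹ᵁ U x') (V := U x ⊓ U x')
    (V' := (Z i).subschemeι ⁻¹ᵁ U x ⊓ (Z i).subschemeι ⁻¹ᵁ U x') (Z i).subschemeι M
    le_rfl inf_le_right inf_le_right le_rfl (s x')).symm

end Groth.Agent.S7670
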