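import Groth.Statements.S7672
import Groth.Agent.S7819

set_option autoImplicit false
universe u
open CategoryTheory CategoryTheory.Limits AlgebraicGeometry
open Variety

namespace Groth.Agent.S7672

open CategoryTheory CategoryTheory.Limits AlgebraicGeometry


open Groth.Agent
set_option backward.isDefEq.respectTransparency false

/-- Let X be a normal variety over a field k, U an open of affine n-space over k containing two k-points
p and q, and L an invertible module on X ×_k U. Then L|_{X × p} ≅ L|_{X × q}; here the two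
restrictions are compared on X through the sections σ_p, σ_q : X → X ×_k U determined by p and q. -/
theorem result (k : Type u) [Field k] (X : Scheme.{u}) [X.Over (Spec (CommRingCat.of k))]
    [IsIntegral X] (hN : Pi1.IsNormalScheme X) [IsSeparated (X ↘ (Spec (CommRingCat.of k)))]
    [LocallyOfFiniteType (X ↘ (Spec (CommRingCat.of k)))] [QuasiCompact (X ↘ (Spec (CommRingCat.of k)))]
    (n : ℕ) (U : (𝔸(ULift.{u} (Fin n); Spec (CommRingCat.of k))).Opens)
    (p q : Spec (CommRingCat.of k) ⟶ (↑U : Scheme.{u}))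
    (hp : p ≫ U.ι ≫ (𝔸(ULift.{u} (Fin n); Spec (CommRingCat.of k)) ↘ Spec (CommRingCat.of k)) = 𝟙 _)
    (hq : q ≫ U.ι ≫ (𝔸(ULift.{u} (Fin n); Spec (CommRingCat.of k)) ↘ Spec (CommRingCat.of k)) = 𝟙 _)
    (σp σq : X ⟶ pullback (X ↘ (Spec (CommRingCat.of k)))
      (U.ι ≫ (𝔸(ULift.{u} (Fin n); Spec (CommRingCat.of k)) ↘ Spec (CommRingCat.of k))))
    (hσp₁ : σp ≫ pullback.fst _ _ = 𝟙 X) (hσp₂ : σp ≫ pullback.snd _ _ = (X ↘ (Spec (CommRingCat.of k))) ≫ p)
    (hσq₁ : σq ≫ pullback.fst _ _ = 𝟙 X) (hσq₂ : σq ≫ pullback.snd _ _ = (X ↘ (Spec (CommRingCat.of k))) ≫ q)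
    (L : (pullback (X ↘ (Spec (CommRingCat.of k)))
      (U.ι ≫ (𝔸(ULift.{u} (Fin n); Spec (CommRingCat.of k)) ↘ Spec (CommRingCat.of k)))).Modules)
    (hL : PicF.IsInvertible L) :
    Nonempty ((Scheme.Modules.pullback σp).obj L ≅ (Scheme.Modules.pullback σq).obj L) := by
  let kk := CommRingCat.of k
  haveI : IsNoetherian (Spec kk) := inferInstance
  haveI : IsLocallyNoetherian X := LocallyOfFiniteType.isLocallyNoetherian (X ↘ Spec kk)
  haveI : CompactSpace X := QuasiCompact.compactSpace_of_compactSpace (X ↘ Spec kk)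
  haveI : IsNoetherian X := {}
  obtain ⟨c, ⟨⟨M, hc, -⟩, hM⟩, -⟩ := S7819.result (Spec kk) n U p hp (X ↘ Spec kk) hN (PicF.cl L) ⟨L, rfl, hL⟩
  subst hc
  have hiso : ∀ σ : X ⟶ _, σ ≫ pullback.fst (X ↘ Spec kk)
      (U.ι ≫ (𝔸(ULift.{u} (Fin n); Spec kk) ↘ Spec kk)) = 𝟙 X →
      PicF.pullCl σ (PicF.cl L) = PicF.cl M := fun σ hσ => by
    rw [← hM, PicCurveSmoothLib.pullCl_pullCl, hσ, PicCurveSmoothLib.pullCl_id]
  have h := Quot.eqvGen_exact (((hiso σp hσp₁).trans (hiso σq hσq₁).symm :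
    Quot.mk _ ((Scheme.Modules.pullback σp).obj L) = Quot.mk _ ((Scheme.Modules.pullback σq).obj L)))
  revert h
  generalize (Scheme.Modules.pullback σp).obj L = A
  generalize (Scheme.Modules.pullback σq).obj L = B
  intro h
  induction h with
  | rel a b h => exact h
  | refl a => exact ⟨Iso.refl a⟩
  | symm a b _ ih => exact ih.map Iso.symm
  | trans a b c _ _ ih ih' => exact ih.elim fun e => ih'.map fun f => e ≪≫ f

end Groth.Agent.S7672
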