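import Groth.Statements.S7674
import Groth.Agent.InterDimLib.Affine
import Groth.Agent.InterDimLib.Topo
import Groth.Agent.HLVTLib.Connected
import Mathlib.AlgebraicGeometry.AffineSpace

set_option autoImplicit false
universe u
open CategoryTheory CategoryTheory.Limits AlgebraicGeometry
open Variety

namespace Groth.Agent.S7674

/-- Let k be a field, n ≥ 0, and X, Y ⊆ A^n_k closed subsets which are equidimensional of dimensions r
and s. Then each irreducible component Z of the intersection X ∩ Y satisfies dim Z ≥ r + s − n. -/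
theorem result (k : Type u) [Field k] (n r s : ℕ)
    (X Y : Set ↥(𝔸(ULift.{u} (Fin n); Spec (CommRingCat.of k)))) (hX : IsClosed X) (hY : IsClosed Y)
    (hXr : ∀ Z ∈ irreducibleComponents X, topologicalKrullDim Z = r)
    (hYs : ∀ Z ∈ irreducibleComponents Y, topologicalKrullDim Z = s)
    (Z : Set ↥(X ∩ Y)) (hZ : Z ∈ irreducibleComponents ↥(X ∩ Y)) :
    ((r + s : ℕ) : WithBot ℕ∞) ≤ topologicalKrullDim Z + (n : WithBot ℕ∞) := by
  classical
  let e : ↥(𝔸(ULift.{u} (Fin n); Spec (CommRingCat.of k))) ≃ₜ PrimeSpectrum (MvPolynomial (ULift.{u} (Fin n)) k) :=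
    (AlgebraicGeometry.AffineSpace.SpecIso (ULift.{u} (Fin n)) (CommRingCat.of k)).hom.homeomorph
  have hdim : ∀ η, topologicalKrullDim ↥(closure ({η} : Set ↥(𝔸(ULift.{u} (Fin n); Spec (CommRingCat.of k))))) =
      ringKrullDim (MvPolynomial (ULift.{u} (Fin n)) k ⧸ (e η).asIdeal) := fun η => by
    rw [← Groth.Agent.InterDimLib.dim_closure_homeo e η,
      show closure ({e η} : Set (PrimeSpectrum (MvPolynomial (ULift.{u} (Fin n)) k))) =
        PrimeSpectrum.zeroLocus ((e η).asIdeal : Set (MvPolynomial (ULift.{u} (Fin n)) k)) from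
        PrimeSpectrum.closure_singleton _]
    exact Groth.Agent.HLVTLib.krullDim_zeroLocus _
  obtain ⟨η, hη, hmin, -, hd⟩ := Groth.Agent.InterDimLib.exists_generic (hX.inter hY) hZ
  obtain ⟨a, haX, ha, ZX, hZX, hdX⟩ := Groth.Agent.InterDimLib.exists_generic_specializes hX hη.1
  obtain ⟨b, hbY, hb, ZY, hZY, hdY⟩ := Groth.Agent.InterDimLib.exists_generic_specializes hY hη.2
  have hle : ∀ c c', c ⤳ c' → (e c).asIdeal ≤ (e c').asIdeal := fun c c' h =>
    (PrimeSpectrum.le_iff_specializes (e c) (e c')).2 (h.map e.continuous)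
  have hR : (e η).asIdeal ∈ ((e a).asIdeal ⊔ (e b).asIdeal).minimalPrimes := by
    refine ⟨⟨(e η).isPrime, sup_le (hle a η ha) (hle b η hb)⟩, fun Q hQ hQle => ?_⟩
    have h1 : e.symm ⟨Q, hQ.1⟩ ⤳ η := by
      have := ((PrimeSpectrum.le_iff_specializes (⟨Q, hQ.1⟩ : PrimeSpectrum _) (e η)).1 hQle).map
        e.symm.continuous
      rwa [e.symm_apply_apply] at this
    have h2 : ∀ c, (e c).asIdeal ≤ Q → c ⤳ e.symm ⟨Q, hQ.1⟩ := fun c hc => by
      have := ((PrimeSpectrum.le_iff_specializes (e c) (⟨Q, hQ.1⟩ : PrimeSpectrum _)).1 hc).map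
        e.symm.continuous
      rwa [e.symm_apply_apply] at this
    have h3 := hmin _ ⟨(h2 a (le_sup_left.trans hQ.2)).mem_closed hX haX,
      (h2 b (le_sup_right.trans hQ.2)).mem_closed hY hbY⟩ h1
    rw [← h3, e.apply_symm_apply]
  have key := Groth.Agent.InterDimLib.le_dim_add_card k (e a).asIdeal (e b).asIdeal (e η).asIdeal hR
  rw [← hdim, ← hdim, ← hdim, ← hdX, ← hdY, ← hd, hXr ZX hZX, hYs ZY hZY, Nat.card_ulift, Nat.card_fin] at key
  exact_mod_cast key

end Groth.Agent.S7674
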