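import Groth.Statements.S7675
import Groth.Agent.InterDimLib.Proj

set_option autoImplicit false
universe u
open CategoryTheory CategoryTheory.Limits AlgebraicGeometry
open Variety

namespace Groth.Agent.S7675

/-- Let k be a field, n ≥ 0 and X, Y ⊆ P^n_k nonempty closed subsets of dimensions r and s with r + s ≥
n. Then X ∩ Y is nonempty and dim(X ∩ Y) ≥ r + s − n. -/
theorem result (k : Type u) [Field k] (n r s : ℕ)
    (X Y : Set ↥(CohB1.ProjSpace n k)) (hX : IsClosed X) (hY : IsClosed Y)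
    (hXne : X.Nonempty) (hYne : Y.Nonempty)
    (hXr : topologicalKrullDim X = r) (hYs : topologicalKrullDim Y = s) (hrs : n ≤ r + s) :
    (X ∩ Y).Nonempty ∧ ((r + s : ℕ) : WithBot ℕ∞) ≤ topologicalKrullDim ↥(X ∩ Y) + (n : WithBot ℕ∞) := by
  classical
  obtain ⟨a, haX, ha⟩ := Groth.Agent.InterDimLib.exists_pt_of_dim hX hXr
  obtain ⟨b, hbY, hb⟩ := Groth.Agent.InterDimLib.exists_pt_of_dim hY hYs
  haveI : (Groth.Agent.InterDimLib.idl a).IsPrime := a.isPrime
  haveI : (Groth.Agent.InterDimLib.idl b).IsPrime := b.isPrime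
  obtain ⟨R, hR, -⟩ := Ideal.exists_minimalPrimes_le
    (sup_le (Groth.Agent.InterDimLib.idl_le_vars a) (Groth.Agent.InterDimLib.idl_le_vars b))
  haveI := hR.1.1
  obtain ⟨e, he⟩ := Groth.Agent.InterDimLib.exists_nat_dim R
  have key := Groth.Agent.InterDimLib.le_dim_add_card_fin k (Groth.Agent.InterDimLib.idl a)
    (Groth.Agent.InterDimLib.idl b) R hR
  rw [ha, hb, he, Nat.card_fin] at key
  have key' : (r + 1) + (s + 1) ≤ e + (n + 1) := by exact_mod_cast key
  have hne : R ≠ MvPolynomial.idealOfVars (Fin (n + 1)) k := fun h => by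
    rw [h, Groth.Agent.InterDimLib.dim_vars] at he
    have : 0 = e := by exact_mod_cast he
    omega
  obtain ⟨z, hz⟩ := Groth.Agent.InterDimLib.exists_pt hR.1.1
    (Groth.Agent.CMGraded.isHomogeneous_of_mem_minimalPrimes (CohB1.polyGrading n k)
      (a.asHomogeneousIdeal.isHomogeneous.sup b.asHomogeneousIdeal.isHomogeneous) hR) hne
  have hzXY : z ∈ X ∩ Y :=
    ⟨(Groth.Agent.InterDimLib.idl_le_iff.1 (hz ▸ le_sup_left.trans hR.1.2) : a ⤳ z).mem_closed hX haX,
      (Groth.Agent.InterDimLib.idl_le_iff.1 (hz ▸ le_sup_right.trans hR.1.2) : b ⤳ z).mem_closed hY hbY⟩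
  refine ⟨⟨z, hzXY⟩, ?_⟩
  have hc := Groth.Agent.InterDimLib.dim_closure z (d := e - 1)
    (by rw [hz, he]; exact congrArg Nat.cast (show e = e - 1 + 1 by omega))
  have hsub : closure ({z} : Set (Groth.Agent.InterDimLib.Pts n k)) ⊆ X ∩ Y :=
    closure_minimal (Set.singleton_subset_iff.2 hzXY) (hX.inter hY)
  have h2 := (Topology.IsEmbedding.inclusion hsub).isInducing.topologicalKrullDim_le
  rw [hc] at h2
  refine le_trans ?_ (add_le_add h2 le_rfl)
  exact_mod_cast (show r + s ≤ e - 1 + n by omega)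

end Groth.Agent.S7675
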