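import Groth.Statements.S7677
import Groth.Agent.AmpleEmb.Serre
import Groth.Agent.AmpleEmb.TwistOne
import Groth.Agent.ProjTwistLib.Ample
import Groth.Agent.CompleteCurve.ProjSpace
import Groth.Agent.EulerIneqLib.Basic
-- import your own Groth.Agent.* helpers here

set_option autoImplicit false
set_option backward.isDefEq.respectTransparency false
universe u
open CategoryTheory CategoryTheory.Limits AlgebraicGeometry
open Variety

namespace Groth.Agent.S7677

/-- Let k be a field, n ≥ 0 and F a coherent module on P^n_k with Hilbert polynomial P, i.e. χ(P^n_k,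
F(d)) = P(d) for all d. Then P(d) = dim_k H^0(P^n_k, F(d)) for all d ≫ 0. -/
theorem result (k : Type u) [Field k] (n : ℕ)
    (F : (CohB1.ProjSpace n k).Modules) (hF : Coh.IsCoh F) (P : Polynomial ℚ)
    (hP : ∀ d : ℤ, (Curv2.euler k (CohB1.ProjSpace n k)
      (CohB1.tensorMod F (Twist.twistProjSpace n k d)) : ℚ) = P.eval (d : ℚ)) :
    ∃ d₀ : ℤ, ∀ d : ℤ, d₀ ≤ d →
      P.eval (d : ℚ) = (Module.finrank k (Coh.HH (CohB1.ProjSpace n k)
        (CohB1.tensorMod F (Twist.twistProjSpace n k d)) 0) : ℚ) := by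
  haveI : IsProper ((CohB1.ProjSpace n k) ↘ Spec (CommRingCat.of k)) :=
    inferInstanceAs (IsProper (CohB1.ProjSpace.toSpec n k))
  haveI := Groth.Agent.EulerIneqLib.isNoetherian_proper (X := CohB1.ProjSpace n k) k
  have hcov : (⨆ f : CohB1.polyGrading n k 1, Proj.basicOpen (CohB1.polyGrading n k) (f : _)) = ⊤ := by
    rw [eq_top_iff, ← Groth.Agent.AmpleEmb.iSup_stdOpen n k]
    exact iSup_le fun a => le_iSup_of_le (Groth.Agent.AmpleEmb.coordForm n k a) le_rfl
  obtain ⟨m₀, hm₀⟩ := Groth.Agent.AmpleEmb.serre_vanishing ((CohB1.ProjSpace n k) ↘ Spec (CommRingCat.of k))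
    (Groth.Agent.AmpleEmb.isAmple_twistOne n k) hF
  refine ⟨(m₀ : ℤ), fun d hd => ?_⟩
  obtain ⟨m, rfl⟩ : ∃ m : ℕ, d = (m : ℤ) := ⟨d.toNat, (Int.toNat_of_nonneg ((Int.natCast_nonneg m₀).trans hd)).symm⟩
  rw [← hP, Curv2.euler, finsum_eq_single _ 0 fun i hi => ?_]
  · simp
  · let e : CohB1.tensorMod F (CohB1.tensorPow (Twist.twistProjSpace n k 1) m) ≅
        CohB1.tensorMod F (Twist.twistProjSpace n k (m : ℤ)) :=
      Groth.Agent.AmpleLib.tIso (Iso.refl F)
        (Groth.Agent.ProjTwistLib.powIso (Groth.Agent.ProjTwistLib.hasUnit_one_of_cover hcov 1) m ≪≫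
          eqToIso (congrArg (Twist.twist (CohB1.polyGrading n k)) (mul_one (m : ℤ))))
    haveI := Groth.Agent.CurveLib.subsingleton_HH_iso e i (hm₀ m (by exact_mod_cast hd) i (Nat.pos_of_ne_zero hi))
    rw [Module.finrank_zero_of_subsingleton]
    simp

end Groth.Agent.S7677
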