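import Groth.Statements.S7678
import Groth.Agent.GeomRedPtLib.PInsep
import Groth.Agent.FrobRedLib.Basic
-- import your own Groth.Agent.* helpers here

set_option autoImplicit false
set_option backward.isDefEq.respectTransparency false
attribute [local instance] Curv2.stalkAlgebra
universe u
open CategoryTheory CategoryTheory.Limits AlgebraicGeometry
open Variety

namespace Groth.Agent.S7678

/-- For a field k of positive characteristic p and a k-scheme X, the base change of X along the p-th
power map of k is a reduced scheme exactly when X is geometrically reduced over k. -/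
theorem result (k : Type u) [Field k] (X : Scheme.{u}) [X.Over (Spec (CommRingCat.of k))]
    (p : ℕ) [Fact p.Prime] [CharP k p] :
    GeometricallyReduced (X ↘ (Spec (CommRingCat.of k))) ↔
      IsReduced ↑(pullback (X ↘ (Spec (CommRingCat.of k))) (Spec.map (CommRingCat.ofHom (frobenius k p)))) := by
  constructor
  · intro h
    exact pullback_of_geometrically h.geometrically_isReduced k _
  · intro h
    haveI : IsReduced (Curv2.bc k X (Groth.Agent.FrobRedLib.Tw (frobenius k p))) := h
    haveI := Groth.Agent.FrobRedLib.isAlgebraic_tw (k := k) p
    refine Groth.Agent.GeomRedPtLib.geometricallyReduced_iff_forall.mpr fun x =>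
      (Groth.Agent.GeomRedPtLib.isGeomReducedAt_iff x).mpr ?_
    haveI := Groth.Agent.GeomRedPtLib.isReduced_tensor_of_stalk_bc (k := k) (Groth.Agent.FrobRedLib.Tw (frobenius k p)) x
      fun x' _ => inferInstance
    exact Groth.Agent.GeomRedPtLib.isGeometricallyReduced_of_pinsep k _ fun k' _ _ _ _ =>
      Groth.Agent.FrobRedLib.isReduced_tensor_of_pinsep p k' 

end Groth.Agent.S7678
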