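import Groth.Statements.S7679
import Groth.Agent.AmpleEmb.Serre
import Groth.Agent.AssLib.Basic
import Groth.Agent.ProperFin.Main
import Groth.Agent.RpushLib.Finite

set_option autoImplicit false
universe u
open CategoryTheory CategoryTheory.Limits AlgebraicGeometry
open Variety

namespace Groth.Agent.S7679

open CategoryTheory CategoryTheory.Limits AlgebraicGeometry

open TopologicalSpace Opposite Groth.Agent.PullbackMod Groth.Agent.DCohLib Groth.Agent.ParaFLib
open Groth.Agent.AmpleLib Groth.Agent.AmpleEmb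
open scoped TensorProduct

noncomputable section

variable {X : Scheme.{u}}

/-- Associated points do not change on twisting by an invertible module. -/
theorem isAssPoint_of_twist {F Q G : X.Modules} (hQ : PicF.IsInvertible Q) (e : G ≅ tmod F Q) {x : X}
    (h : Curv2.IsAssPoint G x) : Curv2.IsAssPoint F x := by
  obtain ⟨a, ha⟩ := exists_stalk_gen hQ x
  let eQ : X.presheaf.stalk x ≃ₗ[X.presheaf.stalk x] Q.presheaf.stalk x :=
    LinearEquiv.ofBijective (LinearMap.toSpanSingleton _ _ a) ha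
  let eG : G.presheaf.stalk x ≃ₗ[X.presheaf.stalk x] (tmod F Q).presheaf.stalk x :=
    LinearEquiv.ofBijective (stalkLin e.hom x) ((isIso_iff_stalk e.hom).1 inferInstance x)
  exact ((eG ≪≫ₗ (stalkTensor x F Q).symm ≪≫ₗ eQ.symm.lTensor (F.presheaf.stalk x) ≪≫ₗ
    TensorProduct.rid _ _).isAssociatedPrime_iff).1 h

/-- An algebra-finite stable set of sections of a module without closed associated points vanishes. -/
theorem eq_bot_of_stable {k : Type u} [Field k] (φ : k →+* Γ(X, ⊤)) [JacobsonSpace X] [IsLocallyNoetherian X]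
    {G : X.Modules} [Coh.IsQCoh G] (hass : ∀ x : X, IsClosed ({x} : Set X) → ¬ Curv2.IsAssPoint G x)
    {U : X.Opens} (hU : IsAffineOpen U) (V : Submodule Γ(X, U) Γ(G, U))
    (hfin : letI := Module.compHom Γ(G, U) (constV φ U);
      ∃ W : Submodule k Γ(G, U), Module.Finite k W ∧ (W : Set Γ(G, U)) = V) : V = ⊥ := by
  by_contra hV
  letI := (constV φ U).toAlgebra
  letI := Module.compHom Γ(G, U) (constV φ U)
  haveI : IsScalarTower k Γ(X, U) Γ(G, U) := IsScalarTower.of_algebraMap_smul fun _ _ => rfl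
  obtain ⟨W, hW, hWV⟩ := hfin
  haveI : IsNoetherianRing Γ(X, U) := IsLocallyNoetherian.component_noetherian ⟨U, hU⟩
  haveI : Nontrivial V := Submodule.nontrivial_iff_ne_bot.2 hV
  obtain ⟨q, hq⟩ := associatedPrimes.nonempty Γ(X, U) V
  obtain ⟨hqp, f, hf⟩ := (isAssociatedPrime_iff_exists_injective_linearMap q V).1 hq
  haveI := hqp
  let g : (Γ(X, U) ⧸ q) →ₗ[k] W :=
    LinearMap.codRestrict W ((V.subtype ∘ₗ f).restrictScalars k) fun z => show ((f z).1 : Γ(G, U)) ∈ (W : Set Γ(G, U)) from hWV.symm ▸ (f z).2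
  have hg : Function.Injective g := fun a b h => hf (Subtype.ext (congrArg (fun w : W => (w : Γ(G, U))) h))
  haveI : FiniteDimensional k (Γ(X, U) ⧸ q) := Module.Finite.of_injective g hg
  haveI : IsArtinianRing (Γ(X, U) ⧸ q) := isArtinian_of_tower k inferInstance
  have hmax : q.IsMaximal := Ideal.Quotient.maximal_of_isField q (IsArtinianRing.isField_of_isDomain _)
  have hq' : IsAssociatedPrime q Γ(G, U) := IsAssociatedPrime.map_of_injective V.subtype hq V.injective_subtype
  refine hass (AssLib.pt hU ⟨q, hqp⟩) ?_ (AssLib.isAssPoint_of_mem hU (AssLib.pt_mem hU ⟨q, hqp⟩) ?_)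
  · have h1 : (⟨q, hqp⟩ : PrimeSpectrum Γ(X, U)) ∈ closedPoints (PrimeSpectrum Γ(X, U)) :=
      (PrimeSpectrum.isClosed_singleton_iff_isMaximal _).2 hmax
    exact (hU.fromSpec.isOpenEmbedding.preimage_closedPoints.ge h1 :)
  · rw [AssLib.pr_pt]
    exact hq'

section

variable {ι : Type} (T : ProjCoh.MulData X ι)

/-- The negative twists. -/
abbrev G (n : ℕ) : X.Modules := T.F (-(n : ℤ))

/-- Multiplication by a section. -/
def st (a : ι) (n : ℕ) : G T (n + 1) ⟶ G T n :=
  eqToHom (congrArg T.F (by push_cast; ring : -((n + 1 : ℕ) : ℤ) = -(n : ℤ) - 1)) ≫ T.μ a (-(n : ℤ))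

/-- Multiplication by a power of a section. -/
def down (i : ι) : ∀ n, G T n ⟶ G T 0
  | 0 => 𝟙 _
  | n + 1 => st T i n ≫ down i n

theorem bijective_st (i : ι) (n : ℕ) {x : X} (hx : x ∈ T.U i) :
    Function.Bijective (stalkLin (st T i n) x) := by
  rw [st, stalkLin_comp]
  exact (T.bij i _ x hx).comp ((isIso_iff_stalk _).1 inferInstance x)

theorem ratio_st (i a : ι) (n : ℕ) {V : X.Opens} (hV : V ≤ T.U i) (m : Γ(G T (n + 1), V)) :
    (st T a n).app V m = X.presheaf.map (homOfLE hV).op (T.t i a) • (st T i n).app V m := by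
  refine ProjCoh.app_ratio_of_stalk _ _ _ (fun x hx z => ?_) hV m
  rw [st, st, stalkLin_comp, stalkLin_comp]
  exact T.ratio i a _ x hx _

theorem bijective_down (i : ι) : ∀ (n : ℕ) {x : X}, x ∈ T.U i →
    Function.Bijective (stalkLin (down T i n) x)
  | 0, x, _ => by rw [down, stalkLin_id]; exact Function.bijective_id
  | n + 1, x, hx => by rw [down, stalkLin_comp]; exact (bijective_down i n hx).comp (bijective_st T i n hx)

end

/-- Sections of high negative twists vanish when no closed point is associated. -/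
theorem key {k : Type u} [Field k] (f : X ⟶ Spec (CommRingCat.of k)) [IsProper f] {L : X.Modules}
    (E : Emb (Coh.toGlobal f) L) {N : X.Modules} (hN : PicF.IsInvertible N)
    (e : CohB1.tensorMod E.P N ≅ Coh.structureModule X) (F : X.Modules) (hF : Coh.IsCoh F)
    (hass : ∀ x : X, IsClosed ({x} : Set X) → ¬ Curv2.IsAssPoint F x) :
    ∃ n₀ : ℕ, ∀ n : ℕ, n₀ ≤ n → Subsingleton Γ(G ((E.mulData e).tensor F) n, ⊤) := by
  classical
  let T0 := (E.mulData e).tensor F
  haveI : IsLocallyNoetherian X := LocallyOfFiniteType.isLocallyNoetherian f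
  haveI : JacobsonSpace X := LocallyOfFiniteType.jacobsonSpace f
  haveI : CompactSpace X := QuasiCompact.compactSpace_of_compactSpace f
  haveI : IsNoetherian X := { }
  have hinv : ∀ d, PicF.IsInvertible (pw E.P N d) := isInvertible_pw E.inv hN
  have hcoh : ∀ n, Coh.IsCoh (G T0 n) := fun n =>
    CurveLib.isCoh_tmod hF (CurveLib.isCoh_of_isInvertible (hinv _))
  haveI := (hcoh 0).1
  have hass0 : ∀ x : X, IsClosed ({x} : Set X) → ¬ Curv2.IsAssPoint (G T0 0) x := fun x hx h =>
    hass x hx (isAssPoint_of_twist (hinv _) (Iso.refl _) h)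
  let ψ : k →+* Γ(X, ⊤) := Coh.toGlobal f
  letI modΓ : ∀ n, Module k Γ(G T0 n, ⊤) := fun n => Module.compHom _ ψ
  haveI finΓ : ∀ n, Module.Finite k Γ(G T0 n, ⊤) := fun n => by
    letI := Module.compHom (Coh.HH X (G T0 n) 0) (Coh.toGlobal f)
    haveI := ProperFin.allFin_of_isCoh f (G T0 n) (hcoh n) 0
    let l : Γ(G T0 n, ⊤) →ₗ[k] Coh.HH X (G T0 n) 0 :=
      { toFun := RpushLib.h0Γ _
        map_add' := map_add _
        map_smul' := fun c z => RpushLib.h0Γ_smul _ (ψ c) z }
    exact Module.Finite.of_injective l (RpushLib.h0Γ _).injective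
  have hi : ∀ i ∈ E.G, ∃ n₀ : ℕ, ∀ n, n₀ ≤ n → ∀ σ : Γ(G T0 n, ⊤),
      (G T0 n).presheaf.map (homOfLE (le_top : CohB1.genLocus E.P (E.s i) ≤ ⊤)).op σ = 0 := by
    intro i hiG
    let U := CohB1.genLocus E.P (E.s i)
    letI := Module.compHom Γ(G T0 0, U) (constV ψ U)
    let im : ∀ n, Γ(G T0 n, ⊤) →ₗ[k] Γ(G T0 0, U) := fun n =>
      { toFun := fun σ => (down T0 i n).app U ((G T0 n).presheaf.map (homOfLE le_top).op σ)
        map_add' := fun a b => by rw [map_add, map_add]
        map_smul' := fun c a => by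
          show (down T0 i n).app U ((G T0 n).presheaf.map _ (ψ c • a)) = constV ψ U c • _
          rw [(G T0 n).map_smul, Scheme.Modules.Hom.app_smul]
          rfl }
    let W : ℕ → Submodule k Γ(G T0 0, U) := fun n => LinearMap.range (im n)
    have hnat : ∀ (a : Fin (E.n + 1)) n (σ : Γ(G T0 (n + 1), ⊤)),
        (G T0 n).presheaf.map (homOfLE (le_top : U ≤ ⊤)).op ((st T0 a n).app ⊤ σ) =
          (st T0 a n).app U ((G T0 (n + 1)).presheaf.map (homOfLE le_top).op σ) := fun a n σ =>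
      (NatTrans.naturality_apply (st T0 a n).mapPresheaf (homOfLE (le_top : U ≤ ⊤)).op σ).symm
    have hdec : ∀ n, W (n + 1) ≤ W n := by
      rintro n _ ⟨σ, rfl⟩
      exact ⟨(st T0 i n).app ⊤ σ, congrArg ((down T0 i n).app U) (hnat i n σ)⟩
    have hmul : ∀ n a, ∀ x ∈ W (n + 1), E.t i a • x ∈ W n := by
      rintro n a _ ⟨σ, rfl⟩
      refine ⟨(st T0 a n).app ⊤ σ, ?_⟩
      show (down T0 i n).app U _ = E.t i a • (down T0 i (n + 1)).app U _
      rw [hnat, ratio_st T0 i a n (le_refl U), Scheme.Modules.Hom.app_smul]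
      congr 1
      exact ConcreteCategory.congr_hom (X.presheaf.map_id _) (E.t i a)
    haveI : ∀ n, Module.Finite k (W n) := fun n => Module.Finite.range _
    obtain ⟨n₀, hn₀⟩ : ∃ n₀, ∀ n, n₀ ≤ n → W n = W n₀ := by
      refine ⟨Function.argmin (fun n => Module.finrank k (W n)), fun n hn => ?_⟩
      exact Submodule.eq_of_le_of_finrank_le (antitone_nat_of_succ_le hdec hn)
        (Function.argmin_le (fun n => Module.finrank k (W n)) n)
    have hstab : ∀ r : Γ(X, U), ∀ x ∈ W n₀, r • x ∈ W n₀ := by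
      intro r
      obtain ⟨p, rfl⟩ := E.gen i hiG r
      induction p using MvPolynomial.induction_on with
      | C c =>
        intro x hx
        rw [MvPolynomial.eval₂Hom_C]
        exact (W n₀).smul_mem c hx
      | add p p' hp hp' => intro x hx; rw [map_add, add_smul]; exact add_mem (hp x hx) (hp' x hx)
      | mul_X p a hp =>
        intro x hx
        rw [map_mul, MvPolynomial.eval₂Hom_X', mul_smul]
        exact hp _ (hmul n₀ a x (by rw [hn₀ (n₀ + 1) (Nat.le_succ _)]; exact hx))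
    let V : Submodule Γ(X, U) Γ(G T0 0, U) :=
      { carrier := W n₀
        add_mem' := fun ha hb => add_mem ha hb
        zero_mem' := (W n₀).zero_mem
        smul_mem' := fun r x hx => hstab r x hx }
    have hV : V = ⊥ := eq_bot_of_stable ψ hass0 (E.affine i) V ⟨W n₀, inferInstance, rfl⟩
    refine ⟨n₀, fun n hn σ => ?_⟩
    have h0 : im n σ ∈ V := show im n σ ∈ W n₀ from hn₀ n hn ▸ ⟨σ, rfl⟩
    rw [hV, Submodule.mem_bot] at h0
    exact (ProjCoh.app_bijective_of_stalk (down T0 i n) (fun x hx => bijective_down T0 i n hx)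
      (le_refl U)).1 (h0.trans (map_zero _).symm)
  choose! n₀ hn₀ using hi
  refine ⟨Finset.univ.sup n₀, fun n hn => ⟨fun a b => ?_⟩⟩
  rw [← sub_eq_zero]
  refine AssLib.eq_zero_of_germ _ _ fun x hx => ?_
  obtain ⟨i, hiG, hxi⟩ := E.cover x
  rw [← TopCat.Presheaf.germ_res_apply (G T0 n).presheaf (homOfLE (le_top : _ ≤ ⊤)) x hxi,
    hn₀ i hiG n ((Finset.le_sup (Finset.mem_univ i)).trans hn) (a - b), map_zero]

end


/-- Let X be proper over a field k, L an ample invertible module and F a coherent module such that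
Ass(F) contains no closed point. Then Γ(X, F ⊗ L^{⊗n}) = 0 for n ≪ 0; here negative powers of L are
written as positive powers of an inverse M of L. -/
theorem result (k : Type u) [Field k] (X : Scheme.{u}) [X.Over (Spec (CommRingCat.of k))] [IsProper (X ↘ (Spec (CommRingCat.of k)))]
    (L : X.Modules) (hL : CohB1.IsAmple L) (M : X.Modules) (hM : ClSub.IsInverseOf L M)
    (F : X.Modules) (hF : Coh.IsCoh F) (hass : ∀ x : X, IsClosed ({x} : Set X) → ¬ Curv2.IsAssPoint F x) :
    ∃ n₀ : ℕ, ∀ n : ℕ, n₀ ≤ n →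
      Subsingleton (Coh.HH X (CohB1.tensorMod F (CohB1.tensorPow M n)) 0) := by
  classical
  rcases isEmpty_or_nonempty X with hX | hX
  · refine ⟨0, fun n _ => (RpushLib.h0Γ _).toEquiv.symm.subsingleton_congr.2 ⟨fun a b => ?_⟩⟩
    rw [← sub_eq_zero]
    exact AssLib.eq_zero_of_germ _ _ fun x _ => isEmptyElim x
  let f := X ↘ Spec (CommRingCat.of k)
  haveI : IsLocallyNoetherian X := LocallyOfFiniteType.isLocallyNoetherian f
  obtain ⟨E⟩ := AmpleEmb.exists_emb hL f (Coh.toGlobal f) rfl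
  obtain ⟨eLM⟩ := hM
  have hMinv : PicF.IsInvertible M := AmpleLib.isInvertible_of_tensor_iso (AmpleLib.comm M L ≪≫ eLM)
  let N := CohB1.tensorPow M E.D
  let e : CohB1.tensorMod E.P N ≅ Coh.structureModule X :=
    AmpleLib.tIso E.iso (Iso.refl _) ≪≫ (AmpleLib.powTensor L M E.D).symm ≪≫
      AmpleLib.powCongr eLM E.D ≪≫ AmpleLib.powUnit E.D
  have hr : ∀ r : ℕ, ∃ q₀ : ℕ, ∀ q, q₀ ≤ q →
      Subsingleton Γ(G ((E.mulData e).tensor (tmod F (CohB1.tensorPow M r))) q, ⊤) := fun r =>
    key f E (AmpleLib.isInvertible_tensorPow hMinv E.D) e _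
      (CurveLib.isCoh_tmod hF (CurveLib.isCoh_of_isInvertible (AmpleLib.isInvertible_tensorPow hMinv r)))
      fun x hx h => hass x hx (isAssPoint_of_twist (AmpleLib.isInvertible_tensorPow hMinv r) (Iso.refl _) h)
  choose q₀ hq₀ using hr
  refine ⟨E.D * ((Finset.range E.D).sup q₀ + 1), fun n hn => ?_⟩
  have h1 := Nat.div_add_mod n E.D
  have hlt : n % E.D < E.D := Nat.mod_lt n E.hD
  have hq : (Finset.range E.D).sup q₀ + 1 ≤ n / E.D := (Nat.le_div_iff_mul_le E.hD).2 (by rw [mul_comm]; omega)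
  obtain ⟨q, hqe⟩ : ∃ q, n / E.D = q + 1 := ⟨n / E.D - 1, by omega⟩
  rw [hqe] at h1 hq
  haveI := hq₀ (n % E.D) (q + 1) (by
    have := Finset.le_sup (f := q₀) (Finset.mem_range.2 hlt)
    omega)
  haveI : Subsingleton (Coh.HH X (G ((E.mulData e).tensor (tmod F (CohB1.tensorPow M (n % E.D)))) (q + 1)) 0) :=
    (RpushLib.h0Γ _).symm.toEquiv.subsingleton
  exact ProjCoh.subsingleton_of_iso
    (M := G ((E.mulData e).tensor (tmod F (CohB1.tensorPow M (n % E.D)))) (q + 1))
    (AmpleLib.assoc _ _ _ ≪≫ AmpleLib.tIso (Iso.refl F)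
      (AmpleLib.tIso (Iso.refl _) (AmpleLib.powMul M E.D (q + 1)) ≪≫
        (AmpleLib.powAdd M (n % E.D) (E.D * (q + 1))).symm ≪≫
          eqToIso (congrArg (CohB1.tensorPow M) ((add_comm _ _).trans h1)))) 0

end Groth.Agent.S7679
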