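import Groth.Statements.S7681
import Groth.Agent.ZeroConnLib.Basic

set_option backward.isDefEq.respectTransparency false
set_option backward.isDefEq.respectTransparency.types false

set_option autoImplicit false
universe u
open CategoryTheory CategoryTheory.Limits AlgebraicGeometry
open Variety TopologicalSpace

namespace Groth.Agent.S7681

/-- Let X be proper over a field k, L ample invertible and s ∈ Γ(X, L) a regular section; assume
depth(O_{X,x}) ≥ 2 for every closed point x and X connected. Then the zero scheme Z(s) is connected. -/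
theorem result (k : Type u) [Field k] (X : Scheme.{u}) [X.Over (Spec (CommRingCat.of k))] [IsProper (X ↘ (Spec (CommRingCat.of k)))]
    [ConnectedSpace X] (L : X.Modules) (hL : CohB1.IsAmple L)
    (s : Coh.structureModule X ⟶ L) (hs : Mono s)
    (hdepth : ∀ x : X, IsClosed ({x} : Set X) → 2 ≤ LocCoh.depth (X.presheaf.stalk x) (X.presheaf.stalk x)) :
    ConnectedSpace ↥(PicF2.zeroScheme L s).subscheme := by
  haveI := hs
  have hconn := Groth.Agent.ZeroConnLib.isConnected_compl_genLocus k hL s hdepth
  have hsupp : ((PicF2.zeroScheme L s).support : Set X) = (CohB1.genLocus L s : Set X)ᶜ := by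
    ext x
    obtain ⟨W, e, hxW, he⟩ := ParaFLib.exists_gen_nhd hL.1 x
    obtain ⟨_, ⟨U, hU, rfl⟩, hxU, hUW⟩ := X.isBasis_affineOpens.exists_subset_of_mem_open hxW W.2
    have he' := he.res (show U ≤ W from hUW)
    obtain ⟨c, hc⟩ := (he' U le_rfl).2 (AmpleLib.resT (AmpleLib.sec s) (O := U))
    have hc' : c • L.presheaf.map (homOfLE (show U ≤ W from hUW)).op e = AmpleLib.resT (AmpleLib.sec s) (O := U) := by
      rw [← hc]
      show _ = c • _
      rw [ParaFLib.res_res]
    rw [SetLike.mem_coe, Scheme.IdealSheafData.mem_support_iff_of_mem (U := ⟨U, hU⟩) hxU,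
      ZeroSchemeLib.zeroScheme_ideal hL.1, ZeroSchemeLib.colonIdeal_of_gen s he' hc', Scheme.zeroLocus_span,
      Scheme.mem_zeroLocus_iff, Set.mem_compl_iff, SetLike.mem_coe]
    simp only [Set.mem_singleton_iff, forall_eq]
    have := AmpleLib.genLocus_inf_eq_basicOpen s he' hc'
    rw [← this]
    exact ⟨fun h hx => h ⟨hx, hxU⟩, fun h hx => h hx.1⟩
  rw [← hsupp, ← Scheme.IdealSheafData.range_subschemeι] at hconn
  refine connectedSpace_iff_univ.2 ?_
  rw [← Set.image_univ] at hconn
  exact ⟨Set.image_nonempty.1 hconn.1, (PicF2.zeroScheme L s).subschemeι.isEmbedding.isInducing.isPreconnected_image.1 hconn.2⟩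

end Groth.Agent.S7681
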