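import Groth.Statements.S7682
import Groth.Agent.CycLib.IntIntegral


set_option autoImplicit false
universe u
open CategoryTheory CategoryTheory.Limits AlgebraicGeometry
open Variety

namespace Groth.Agent.S7682

open CategoryTheory CategoryTheory.Limits AlgebraicGeometry

open Groth.Agent
set_option backward.isDefEq.respectTransparency false

/-- Let f : Y → X be a morphism of proper schemes over a field k, Z ⊆ Y an integral closed subscheme of
dimension d and L_1, …, L_d invertible modules on X. Then (f^*L_1 ⋯ f^*L_d · Z) = deg(Z → f(Z)) ·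
(L_1 ⋯ L_d · f(Z)), f(Z) being the scheme-theoretic image and deg the degree of the function field
extension, read as 0 when dim f(Z) < d (equivalently when that extension is infinite). Both
intersection numbers are the n_1⋯n_d-coefficients of the polynomials computing the corresponding
Euler characteristics. -/
theorem result (k : Type u) [Field k] (X Y : Scheme.{u})
    [X.Over (Spec (CommRingCat.of k))] [Y.Over (Spec (CommRingCat.of k))]
    [IsProper (X ↘ (Spec (CommRingCat.of k)))] [IsProper (Y ↘ (Spec (CommRingCat.of k)))]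
    (f : Y ⟶ X) (hf : f ≫ (X ↘ (Spec (CommRingCat.of k))) = Y ↘ (Spec (CommRingCat.of k)))
    (Z : Y.IdealSheafData) [IsIntegral Z.subscheme] (d : ℕ)
    (hZ : topologicalKrullDim (Z.support : Set Y) = d)
    (L : Fin d → X.Modules) (hL : ∀ i, PicF.IsInvertible (L i))
    (PY PX : MvPolynomial (Fin d) ℚ)
    (hPY : ∀ n : Fin d → ℕ, (Curv2.euler k Y (Curv2.tensorPows (ClSub.quotMod Z) d (fun i => (Scheme.Modules.pullback f).obj (L i)) n) : ℚ) = MvPolynomial.eval (fun i => (n i : ℚ)) PY)
    (hPX : ∀ n : Fin d → ℕ, (Curv2.euler k X (Curv2.tensorPows (ClSub.quotMod (Z.subschemeι ≫ f).ker) d L n) : ℚ) = MvPolynomial.eval (fun i => (n i : ℚ)) PX) :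
    MvPolynomial.coeff (Finsupp.equivFunOnFinite.symm fun _ : Fin d => 1) PY =
      ((Z.subschemeι ≫ f).residueDegree (genericPoint Z.subscheme) : ℚ) *
        MvPolynomial.coeff (Finsupp.equivFunOnFinite.symm fun _ : Fin d => 1) PX := by
  obtain ⟨δY, hδY⟩ := CycLib.exists_delta k Y
  obtain ⟨δX, hδX⟩ := CycLib.exists_delta k X
  haveI := EulerIneqLib.isNoetherian_proper (X := Y) k
  haveI := EulerIneqLib.isNoetherian_proper (X := X) k
  haveI : IsProper f := by
    haveI : IsProper (f ≫ (X ↘ Spec (CommRingCat.of k))) := hf ▸ inferInstance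
    exact IsProper.of_comp f (X ↘ Spec (CommRingCat.of k))
  haveI : QuasiCompact (Z.subschemeι ≫ f) := inferInstance
  haveI : IsIntegral (Z.subschemeι ≫ f).ker.subscheme :=
    ProperFin.isIntegral_image (Z.subschemeι ≫ f)
  have hgd := CycLib.deltaCompat_of_over k hf hδY hδX
  set η := genericPoint Z.subscheme with hη
  set ξ := Z.subschemeι η with hξ
  set W := (Z.subschemeι ≫ f).ker with hW
  have hWsupp : (W.support : Set X) = closure {f ξ} := by
    rw [hW, Scheme.Hom.support_ker]
    refine Set.Subset.antisymm (closure_minimal ?_ isClosed_closure) (closure_mono ?_)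
    · rintro _ ⟨z, rfl⟩
      exact ((genericPoint_specializes z).map (Z.subschemeι ≫ f).continuous).mem_closure
    · exact Set.singleton_subset_iff.2 ⟨η, rfl⟩
  have hξW : W.subschemeι (genericPoint W.subscheme) = f ξ := by
    have h1 : IsGenericPoint (W.subschemeι (genericPoint W.subscheme)) (closure {f ξ}) := by
      have := (genericPoint_spec W.subscheme).image W.subschemeι.continuous
      rwa [Set.image_univ, Scheme.IdealSheafData.range_subschemeι, hWsupp, closure_closure] at this
    exact h1.eq isGenericPoint_closure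
  obtain ⟨hξd, eY⟩ := CycLib.pairing_quot_integral k hδY Z hZ.le
    (fun i => (Scheme.Modules.pullback f).obj (L i)) fun i => AmpleLib.isInvertible_pullback f (hL i)
  have hξd' : δY ξ = d := by
    obtain ⟨t, ht, htd⟩ := CycLib.delta_dim k δY hδY ξ
    have h1 : closure ({ξ} : Set Y) = Z.support := by
      have := (genericPoint_spec Z.subscheme).image Z.subschemeι.continuous
      rw [Set.image_univ, Scheme.IdealSheafData.range_subschemeι, Z.support.isClosed.closure_eq] at this
      exact this
    rw [h1] at htd
    have : t = d := by exact_mod_cast htd.symm.trans hZ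
    rw [ht, this]
  have hle : δX (f ξ) ≤ d := by
    obtain ⟨n, -, e⟩ := hgd ξ
    omega
  have hWd : topologicalKrullDim (W.support : Set X) ≤ (d : WithBot ℕ∞) := by
    obtain ⟨t, ht, htd⟩ := CycLib.delta_dim k δX hδX (f ξ)
    rw [hWsupp, htd]
    exact_mod_cast (show t ≤ d by omega)
  obtain ⟨-, eX⟩ := CycLib.pairing_quot_integral k hδX W hWd L hL
  haveI := CycLib.isLocallyNoetherian_closed Z.subschemeι
  haveI := CycLib.isLocallyNoetherian_closed W.subschemeι
  have hsY : topologicalKrullDim (CohB1.support (ClSub.quotMod Z)) ≤ (d : WithBot ℕ∞) :=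
    (Topology.IsEmbedding.inclusion fun y hy => (Scheme.IdealSheafData.range_subschemeι Z).le
      (IntLib.support_pushforward_subset Z.subschemeι _ hy)).isInducing.topologicalKrullDim_le.trans hZ.le
  have hsX : topologicalKrullDim (CohB1.support (ClSub.quotMod W)) ≤ (d : WithBot ℕ∞) :=
    (Topology.IsEmbedding.inclusion fun y hy => (Scheme.IdealSheafData.range_subschemeι W).le
      (IntLib.support_pushforward_subset W.subschemeι _ hy)).isInducing.topologicalKrullDim_le.trans hWd
  rw [IntLib.coeff_eq_pairing k (DevLib.isCoh_pushforward_closed _ (DevLib.isCoh_structureModule _)) hsY _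
      (fun i => AmpleLib.isInvertible_pullback f (hL i)) PY hPY,
    IntLib.coeff_eq_pairing k (DevLib.isCoh_pushforward_closed _ (DevLib.isCoh_structureModule _)) hsX L hL PX hPX,
    eY, eX, hξW, if_pos hξd', one_mul, CycLib.pairing_pullback k hf hδY hδX d L hL ξ hξd',
    WeilCohLib.residueDegree_comp', CycLib.residueDegree_closedImmersion Z.subschemeι, mul_one,
    CycLib.residueDegree_eq_mapCoeff f hgd ξ]
  by_cases h : δX (f ξ) = d
  · rw [if_pos h]
    push_cast
    ring
  · have : AlgebraicCycle.mapCoeff f δY δX ξ = 0 := by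
      rw [AlgebraicCycle.mapCoeff, if_neg fun e => h (e.symm.trans hξd')]
    rw [this]
    simp

end Groth.Agent.S7682
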