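import Groth.Statements.S7683
import Groth.Agent.DeltaBCLib.Stalk
import Groth.Agent.DomDVR.NormChart
import Groth.Agent.FBaseLib.ReducedProd
import Groth.Agent.S7652


set_option autoImplicit false
universe u
open CategoryTheory CategoryTheory.Limits AlgebraicGeometry
open Variety

namespace Groth.Agent.S7683

open CategoryTheory CategoryTheory.Limits AlgebraicGeometry

open Groth.Agent TensorProduct
set_option backward.isDefEq.respectTransparency false
attribute [local instance] Curv2.stalkAlgebra Groth.Agent.DeltaBC.bcAlgebra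

/-- Maximal ideals of the normalized local ring come from points of the normalization. -/
theorem exists_point (k : Type u) [Field k] (X : Scheme.{u}) [X.Over (Spec (CommRingCat.of k))]
    [IsIntegral X] [QuasiCompact (X.fromSpecStalk (genericPoint X))] [QuasiSeparated (X.fromSpecStalk (genericPoint X))]
    (x : X) (n : Ideal (DeltaBC.Nor (X.presheaf.stalk x))) [n.IsMaximal] :
    letI : (Curv2.normalization X).Over (Spec (CommRingCat.of k)) :=
      ⟨Curv2.normalizationι X ≫ (X ↘ (Spec (CommRingCat.of k)))⟩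
    ∃ x' : Curv2.normalization X, (Curv2.normalizationι X).base x' = x ∧
      ∃ φ : DeltaBC.Nor (X.presheaf.stalk x) ⧸ n →+* (Curv2.normalization X).residueField x',
        ∀ c : k, φ (Ideal.Quotient.mk n (algebraMap (X.presheaf.stalk x) _ (algebraMap k (X.presheaf.stalk x) c))) =
          Curv2.resMap k (Curv2.normalization X) x' c := by
  letI : (Curv2.normalization X).Over (Spec (CommRingCat.of k)) :=
    ⟨Curv2.normalizationι X ≫ (X ↘ (Spec (CommRingCat.of k)))⟩
  let ν := Curv2.normalizationι X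
  let N := Curv2.normalization X
  haveI : IsAffineHom ν := inferInstanceAs (IsAffineHom (X.fromSpecStalk (genericPoint X)).fromNormalization)
  obtain ⟨_, ⟨U : X.Opens, hU, rfl⟩, hxU, -⟩ := X.isBasis_affineOpens.exists_subset_of_mem_open (Set.mem_univ x) isOpen_univ
  haveI : Nonempty U := ⟨⟨x, hxU⟩⟩
  haveI : IsDomain Γ(X, U) := IsIntegral.component_integral U
  let A := X.presheaf.stalk x
  let Q := FractionRing A
  letI : Algebra Γ(X, U) A := TopCat.Presheaf.algebra_section_stalk X.presheaf ⟨x, hxU⟩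
  haveI := hU.isLocalization_stalk ⟨x, hxU⟩
  haveI : IsDomain A := IsLocalization.isDomain_of_atPrime A (hU.primeIdealOf ⟨x, hxU⟩).asIdeal
  haveI : IsFractionRing Γ(X, U) Q := by
    have hinj : Function.Injective (algebraMap Γ(X, U) A) :=
      IsLocalization.injective A (M := (hU.primeIdealOf ⟨x, hxU⟩).asIdeal.primeCompl) (Ideal.primeCompl_le_nonZeroDivisors _)
    have h := IsLocalization.localization_localization_isLocalization_of_has_all_units (hU.primeIdealOf ⟨x, hxU⟩).asIdeal.primeCompl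
      (nonZeroDivisors A) Q fun z hz => hz.mem_nonZeroDivisors
    have hc : (nonZeroDivisors A).comap (algebraMap Γ(X, U) A) = nonZeroDivisors Γ(X, U) := by
      ext a
      rw [Submonoid.mem_comap, mem_nonZeroDivisors_iff_ne_zero, mem_nonZeroDivisors_iff_ne_zero, map_ne_zero_iff _ hinj]
    rw [hc] at h
    exact h
  obtain ⟨e, he⟩ := DomDVR.exists_normalization_chart X hU Q
  let IC := integralClosure Γ(X, U) Q
  let ι : IC →+* DeltaBC.Nor A :=
    { toFun := fun c => ⟨c.1, IsIntegral.tower_top c.2⟩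
      map_one' := rfl
      map_mul' := fun _ _ => rfl
      map_zero' := rfl
      map_add' := fun _ _ => rfl }
  have hι : ∀ r, ι (algebraMap Γ(X, U) IC r) = algebraMap A _ (algebraMap Γ(X, U) A r) := fun r =>
    Subtype.ext (IsScalarTower.algebraMap_apply Γ(X, U) A Q r)
  let P : Ideal Γ(N, ν ⁻¹ᵁ U) := (n.comap ι).comap e.symm.toRingHom
  haveI : P.IsPrime := Ideal.IsPrime.comap e.symm.toRingHom
  have hV := hU.preimage ν
  let x' : N := hV.fromSpec ⟨P, inferInstance⟩
  have hx'V : x' ∈ ν ⁻¹ᵁ U := by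
    show x' ∈ ((ν ⁻¹ᵁ U : N.Opens) : Set N)
    rw [← hV.range_fromSpec]; exact ⟨_, rfl⟩
  have hprime : hV.primeIdealOf ⟨x', hx'V⟩ = ⟨P, inferInstance⟩ :=
    hV.fromSpec.isOpenEmbedding.injective (hV.fromSpec_primeIdealOf _)
  haveI : Algebra.IsIntegral A (DeltaBC.Nor A) := inferInstance
  have hn : n.comap (algebraMap A (DeltaBC.Nor A)) = IsLocalRing.maximalIdeal A :=
    IsLocalRing.eq_maximalIdeal (Ideal.isMaximal_comap_of_isIntegral_of_isMaximal (R := A) n)
  have hxx : ν x' = x := by
    have h := IsAffineOpen.comap_primeIdealOf_appLE (f := ν) U hU (ν ⁻¹ᵁ U) hV le_rfl hx'V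
    rw [hprime] at h
    have hp : hU.primeIdealOf ⟨ν x', hx'V⟩ = hU.primeIdealOf ⟨x, hxU⟩ := by
      rw [← h]
      apply PrimeSpectrum.ext
      ext r
      show (ν.appLE U (ν ⁻¹ᵁ U) le_rfl).hom r ∈ P ↔ _
      rw [Scheme.Hom.appLE_eq_app]
      show ι (e.symm ((ν.app U).hom r)) ∈ n ↔ _
      rw [← he, e.symm_apply_apply, hι, ← Ideal.mem_comap, hn,
        IsLocalization.AtPrime.to_map_mem_maximal_iff A (hU.primeIdealOf ⟨x, hxU⟩).asIdeal r]
    have h2 := congrArg hU.fromSpec hp
    rwa [hU.fromSpec_primeIdealOf, hU.fromSpec_primeIdealOf] at h2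
  refine ⟨x', hxx, ?_⟩
  let χ : IC →+* N.residueField x' := (N.evaluation (ν ⁻¹ᵁ U) x' hx'V).hom.comp e.toRingHom
  have hχ : ∀ c, χ c = 0 ↔ ι c ∈ n := fun c => by
    show N.evaluation (ν ⁻¹ᵁ U) x' hx'V (e c) = 0 ↔ _
    rw [N.evaluation_eq_zero_iff_notMem_basicOpen x' hx'V,
      show x' ∈ N.basicOpen (e c) ↔ (⟨P, inferInstance⟩ : PrimeSpectrum _) ∈ hV.fromSpec ⁻¹ᵁ N.basicOpen (e c) from Iff.rfl,
      hV.fromSpec_preimage_basicOpen]
    show ¬ (e c) ∉ P ↔ _
    rw [not_not]
    show ι (e.symm (e c)) ∈ n ↔ _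
    rw [e.symm_apply_apply]
  letI : Algebra IC (DeltaBC.Nor A) := ι.toAlgebra
  haveI : IsScalarTower IC (DeltaBC.Nor A) Q := .of_algebraMap_eq fun c => rfl
  haveI : IsScalarTower Γ(X, U) IC (DeltaBC.Nor A) := .of_algebraMap_eq fun r => (hι r).symm
  haveI : IsLocalization (Algebra.algebraMapSubmonoid Q (hU.primeIdealOf ⟨x, hxU⟩).asIdeal.primeCompl) Q :=
    IsLocalization.self fun z hz => by
      obtain ⟨s, hs, rfl⟩ := hz
      exact IsLocalization.map_units Q (⟨s, Ideal.primeCompl_le_nonZeroDivisors _ hs⟩ : nonZeroDivisors Γ(X, U))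
  haveI hloc : IsLocalization (Algebra.algebraMapSubmonoid IC (hU.primeIdealOf ⟨x, hxU⟩).asIdeal.primeCompl) (DeltaBC.Nor A) :=
    IsLocalization.integralClosure (S := Q) (Rf := A) (Sf := Q) _
  have hu : ∀ z : Algebra.algebraMapSubmonoid IC (hU.primeIdealOf ⟨x, hxU⟩).asIdeal.primeCompl, IsUnit (χ z) := fun z =>
    isUnit_iff_ne_zero.2 fun h0 =>
      ‹n.IsMaximal›.ne_top (n.eq_top_of_isUnit_mem ((hχ _).1 h0) (IsLocalization.map_units (DeltaBC.Nor A) z))
  let Φ : DeltaBC.Nor A →+* N.residueField x' := IsLocalization.lift hu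
  have hΦ : ∀ z ∈ n, Φ z = 0 := fun z hz => by
    obtain ⟨c, s, rfl⟩ := IsLocalization.exists_mk'_eq (Algebra.algebraMapSubmonoid IC (hU.primeIdealOf ⟨x, hxU⟩).asIdeal.primeCompl) z
    have hc : ι c ∈ n := by
      show algebraMap IC (DeltaBC.Nor A) c ∈ n
      rw [← IsLocalization.mk'_spec (DeltaBC.Nor A) c s]
      exact n.mul_mem_right _ hz
    rw [IsLocalization.lift_mk', (hχ c).2 hc, zero_mul]
  refine ⟨Ideal.Quotient.lift n Φ hΦ, fun c => ?_⟩
  rw [Ideal.Quotient.lift_mk]
  let r₀ := Coh.toGlobal (X ↘ Spec (CommRingCat.of k)) c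
  have hA : algebraMap k A c = algebraMap Γ(X, U) A (X.presheaf.map (homOfLE le_top).op r₀) :=
    (X.presheaf.germ_res_apply (homOfLE le_top) x hxU r₀).symm
  rw [hA, ← hι]
  refine (IsLocalization.lift_eq hu _).trans ?_
  show N.evaluation (ν ⁻¹ᵁ U) x' hx'V (e (algebraMap Γ(X, U) IC _)) = _
  rw [he]
  show N.residue x' (N.presheaf.germ (ν ⁻¹ᵁ U) x' hx'V ((X.presheaf.map (homOfLE le_top).op ≫ ν.app U) r₀)) = _
  rw [ν.naturality]
  exact congrArg (N.residue x') (N.presheaf.germ_res_apply _ x' hx'V (ν.appTop r₀))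


/-- Let X be locally of finite type over a field k with normalization ν : X^ν → X, K/k a field
extension, y ∈ X_K a point with image x ∈ X. Assume O_{X,x} is reduced of dimension one, κ(x')/k is
separable for every x' ∈ X^ν over x, and dim O_{X_K,y} = 1. Then the δ-invariant of X at x equals
the δ-invariant of X_K at y. (The published statement needs only O_{X,x} reduced; this row takes X
integral so that X^ν is the normalization of an integral scheme.) -/
theorem result (k : Type u) [Field k] (X : Scheme.{u}) [X.Over (Spec (CommRingCat.of k))]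
    [IsIntegral X] [LocallyOfFiniteType (X ↘ (Spec (CommRingCat.of k)))]
    [QuasiCompact (X.fromSpecStalk (genericPoint X))] [QuasiSeparated (X.fromSpecStalk (genericPoint X))]
    (K : Type u) [Field K] [Algebra k K] (y : ↥(Curv2.bc k X K))
    (hdx : ringKrullDim (X.presheaf.stalk ((Curv2.bcFst k X K).base y)) = 1)
    (hsep : letI : (Curv2.normalization X).Over (Spec (CommRingCat.of k)) :=
        ⟨Curv2.normalizationι X ≫ (X ↘ (Spec (CommRingCat.of k)))⟩
      ∀ x' : ↥(Curv2.normalization X), (Curv2.normalizationι X).base x' = (Curv2.bcFst k X K).base y →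
        GeometricallyReduced (Spec.map (CommRingCat.ofHom (Curv2.resMap k (Curv2.normalization X) x'))))
    (hdy : ringKrullDim ((Curv2.bc k X K).presheaf.stalk y) = 1) :
    Curv2.deltaInv (X.presheaf.stalk ((Curv2.bcFst k X K).base y)) =
      Curv2.deltaInv ((Curv2.bc k X K).presheaf.stalk y) := by
  haveI : IsDomain (X.presheaf.stalk (Curv2.bcFst k X K y)) := inferInstance
  have hN := DeltaBC.isNagata_stalk k X (Curv2.bcFst k X K y)
  haveI := hN.1
  obtain ⟨hfin, hnor, -⟩ := S7652.result _ hN hdx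
  haveI : Module.Finite (X.presheaf.stalk (Curv2.bcFst k X K y)) (DeltaBC.Nor (X.presheaf.stalk (Curv2.bcFst k X K y))) := hfin
  haveI := DeltaBC.flat_bc k X K y
  haveI := DeltaBC.isNoetherianRing_bc k X K y
  let A := X.presheaf.stalk (Curv2.bcFst k X K y)
  let B := (Curv2.bc k X K).presheaf.stalk y
  haveI : Algebra.IsIntegral A (DeltaBC.Nor A) := Algebra.IsIntegral.of_finite A _
  -- residue fields of the normalization have reduced base change
  have hkey : ∀ (n : Ideal (DeltaBC.Nor A)) [n.IsMaximal],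
      _root_.IsReduced ((DeltaBC.Nor A ⧸ n) ⊗[k] K) := by
    intro n _
    letI : (Curv2.normalization X).Over (Spec (CommRingCat.of k)) :=
      ⟨Curv2.normalizationι X ≫ (X ↘ (Spec (CommRingCat.of k)))⟩
    obtain ⟨x', hx', φ, hφ⟩ := exists_point k X (Curv2.bcFst k X K y) n
    letI : Algebra k ((Curv2.normalization X).residueField x') := Curv2.resAlgebra k (Curv2.normalization X) x'
    haveI : GeometricallyReduced (Spec.map (CommRingCat.ofHom (algebraMap k ((Curv2.normalization X).residueField x')))) :=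
      hsep x' hx'
    haveI := FBaseLib.isReduced_tensor_of_geometricallyReduced (k := k) (T := (Curv2.normalization X).residueField x') K
    let φ' : DeltaBC.Nor A ⧸ n →ₐ[k] (Curv2.normalization X).residueField x' := { φ with commutes' := fun c => (congrArg φ (IsScalarTower.algebraMap_apply k A (DeltaBC.Nor A ⧸ n) c)).trans (hφ c) }
    haveI : _root_.IsReduced ((Curv2.normalization X).residueField x' ⊗[k] K) :=
      isReduced_of_injective (Algebra.TensorProduct.comm k _ K) (AlgEquiv.injective _)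
    letI : Field (DeltaBC.Nor A ⧸ n) := Ideal.Quotient.field _
    exact isReduced_of_injective (Algebra.TensorProduct.map φ' (AlgHom.id k K))
      (Module.Flat.rTensor_preserves_injective_linearMap (M := K) φ'.toLinearMap φ.injective)
  haveI : _root_.IsReduced (IsLocalRing.ResidueField A ⊗[k] K) := by
    obtain ⟨n, hn⟩ := Ideal.exists_maximal (DeltaBC.Nor A)
    haveI := hkey n
    let ψ : IsLocalRing.ResidueField A →+* DeltaBC.Nor A ⧸ n := Ideal.Quotient.lift _ (algebraMap A _) fun a ha => by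
      rw [IsScalarTower.algebraMap_apply A (DeltaBC.Nor A) (DeltaBC.Nor A ⧸ n), Ideal.Quotient.algebraMap_eq,
        Ideal.Quotient.eq_zero_iff_mem, ← Ideal.mem_comap,
        IsLocalRing.eq_maximalIdeal (Ideal.isMaximal_comap_of_isIntegral_of_isMaximal (R := A) n)]
      exact ha
    let ψ' : IsLocalRing.ResidueField A →ₐ[k] DeltaBC.Nor A ⧸ n := { ψ with commutes' := fun c => (IsScalarTower.algebraMap_apply k A (DeltaBC.Nor A ⧸ n) c).symm }
    exact isReduced_of_injective (Algebra.TensorProduct.map ψ' (AlgHom.id k K))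
      (Module.Flat.rTensor_preserves_injective_linearMap (M := K) ψ'.toLinearMap ψ.injective)
  have hm := DeltaBC.map_maximalIdeal_bc k X K y (hdx.trans hdy.symm)
  haveI : IsSimpleModule B (B ⧸ IsLocalRing.maximalIdeal B) :=
    isSimpleModule_iff_isCoatom.2 (IsLocalRing.maximalIdeal.isMaximal B).out
  show Curv2.deltaInv A = Curv2.deltaInv B
  rw [DeltaBC.deltaInv_eq (A := A) (B := B) hnor hdx (hm ▸ Ideal.le_radical) fun n hn => ?_, hm,
    Module.length_eq_one B (B ⧸ IsLocalRing.maximalIdeal B), mul_one]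
  haveI := hn
  letI : Field (DeltaBC.Nor A ⧸ n) := Ideal.Quotient.field _
  haveI := hkey n
  exact DeltaBC.isReduced_bc_tensor k X K y (DeltaBC.Nor A ⧸ n)


end Groth.Agent.S7683
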