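import Groth.Statements.S7684
import Mathlib
import Groth.Agent.NormalSch.Normalization
import Groth.Agent.DomDVR.CurveNorm
import Groth.Agent.InvExt.Cartier


set_option autoImplicit false
universe u
open CategoryTheory CategoryTheory.Limits AlgebraicGeometry
open Variety

namespace Groth.Agent.S7684

open CategoryTheory CategoryTheory.Limits AlgebraicGeometry

open Groth.Agent in
/-- The normalisation over an affine open. -/
theorem chart (X : Scheme.{u}) [IsIntegral X] [IsLocallyNoetherian X]
    [QuasiCompact (X.fromSpecStalk (genericPoint X))] [QuasiSeparated (X.fromSpecStalk (genericPoint X))]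
    (hdim : topologicalKrullDim X = 1) {U : X.Opens} (hU : IsAffineOpen U) [Nonempty U] :
    IsNoetherianRing Γ(Curv2.normalization X, Curv2.normalizationι X ⁻¹ᵁ U) ∧
      (∀ P : Ideal Γ(Curv2.normalization X, Curv2.normalizationι X ⁻¹ᵁ U), P.IsPrime → P ≠ ⊥ → P.IsMaximal) ∧
      (∀ b, ∃ r s : Γ(X, U), s ≠ 0 ∧ b * (Curv2.normalizationι X).app U s = (Curv2.normalizationι X).app U r) ∧
      (∀ a : Γ(X, U), a ≠ 0 → ∀ P : Ideal Γ(Curv2.normalization X, Curv2.normalizationι X ⁻¹ᵁ U),
        (Curv2.normalizationι X).app U a ∈ P → ((Ideal.Quotient.mk P).comp ((Curv2.normalizationι X).app U).hom).Finite) ∧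
      (∀ a : Γ(X, U), a ≠ 0 →
        {P : Ideal Γ(Curv2.normalization X, Curv2.normalizationι X ⁻¹ᵁ U) | P.IsPrime ∧ (Curv2.normalizationι X).app U a ∈ P}.Finite) ∧
      Function.Injective ((Curv2.normalizationι X).app U).hom := by
  let φ : X.functionField →+* X.presheaf.stalk (genericPoint X) := RingHom.id _
  letI : Field (X.presheaf.stalk (genericPoint X)) := inferInstanceAs (Field X.functionField)
  let g := X.fromSpecStalk (genericPoint X)
  have hg : g = Spec.map (CommRingCat.ofHom φ) ≫ X.fromSpecStalk (genericPoint X) := by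
    rw [show Spec.map (CommRingCat.ofHom φ) = 𝟙 (Spec (X.presheaf.stalk (genericPoint X))) from Spec.map_id _]
    exact (Category.id_comp _).symm
  letI algL : Algebra Γ(X, U) Γ(Spec (CommRingCat.of (X.presheaf.stalk (genericPoint X))), g ⁻¹ᵁ U) := (g.app U).hom.toAlgebra
  let L := Γ(Spec (CommRingCat.of (X.presheaf.stalk (genericPoint X))), g ⁻¹ᵁ U)
  let ε : X.functionField ≃+* L := FinIntClosure.fieldEquiv φ g hg U
  letI fL : Field L := (MulEquiv.isField (Field.toIsField X.functionField) ε.symm.toMulEquiv).toField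
  haveI : IsFractionRing Γ(X, U) X.functionField := functionField_isFractionRing_of_isAffineOpen X U hU
  let εA : X.functionField ≃ₐ[Γ(X, U)] L := AlgEquiv.ofRingEquiv (f := ε) fun a => by
    change _ = (g.app U) a
    rw [FinIntClosure.app_eq φ g hg U]
    rfl
  haveI : IsFractionRing Γ(X, U) L := IsLocalization.isLocalization_of_algEquiv _ εA
  haveI : IsNoetherianRing Γ(X, U) := IsLocallyNoetherian.component_noetherian ⟨U, hU⟩
  haveI : Ring.KrullDimLE 1 Γ(X, U) := by
    rw [Ring.krullDimLE_iff, ← PrimeSpectrum.topologicalKrullDim_eq_ringKrullDim]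
    exact (hU.fromSpec.isOpenEmbedding.isEmbedding.isInducing.topologicalKrullDim_le).trans hdim.le
  let e : integralClosure Γ(X, U) L ≃+* Γ(Curv2.normalization X, Curv2.normalizationι X ⁻¹ᵁ U) :=
    (g.normalizationObjIso hU).commRingCatIsoToRingEquiv.symm
  have he : ∀ a, e (algebraMap Γ(X, U) _ a) = ((Curv2.normalizationι X).app U).hom a := fun a => by
    show (g.normalizationObjIso hU).inv (algebraMap Γ(X, U) _ a) = g.fromNormalization.app U a
    rw [g.fromNormalization_app hU]
    rfl
  have hinj : Function.Injective ((Curv2.normalizationι X).app U).hom := fun a b hab => by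
    rw [← he, ← he] at hab
    have h1 : algebraMap Γ(X, U) L a = algebraMap Γ(X, U) L b := congrArg Subtype.val (e.injective hab)
    exact IsFractionRing.injective Γ(X, U) L h1
  exact ⟨DomDVR.isNoetherianRing_of_equiv e, fun P _ hP => DomDVR.isMaximal_of_equiv e hP,
    DomDVR.exists_frac e _ he, fun a ha P haP => DomDVR.finite_comp_mk e _ he ha P haP,
    fun a ha => DomDVR.finite_primes_over e _ he ha (fun h => ha (hinj (h.trans (map_zero _).symm))), hinj⟩

/-- For an integral scheme: let X be an integral locally Noetherian scheme of dimension one and ν : X^ν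
→ X its normalization. Then ν has finite fibres and finite residue field extensions, and X^ν is a
locally Noetherian scheme whose nonempty affine opens are spectra of Dedekind domains. (The
published statement is for any locally Noetherian X of dimension one, with X^ν → X_red, and also
says that ν is integral, surjective and birational, that X^ν is normal and that its stalks are the
integral closures of those of X; here X is integral, and those clauses, which hold for the
normalization of every integral scheme, are not restated.) -/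
theorem result (X : Scheme.{u}) [IsIntegral X] [IsLocallyNoetherian X]
    [QuasiCompact (X.fromSpecStalk (genericPoint X))] [QuasiSeparated (X.fromSpecStalk (genericPoint X))]
    (hdim : topologicalKrullDim X = 1) :
    (∀ x : X, Finite {x' : ↥(Curv2.normalization X) // (Curv2.normalizationι X).base x' = x}) ∧
      (∀ x' : ↥(Curv2.normalization X),
        letI := ((Curv2.normalizationι X).residueFieldMap x').hom.toAlgebra
        Module.Finite (X.residueField ((Curv2.normalizationι X).base x')) ((Curv2.normalization X).residueField x')) ∧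
      IsLocallyNoetherian (Curv2.normalization X) ∧
      (∀ U : (Curv2.normalization X).affineOpens, ((U : (Curv2.normalization X).Opens) : Set ↥(Curv2.normalization X)).Nonempty →
        IsDedekindDomain Γ(Curv2.normalization X, (U : (Curv2.normalization X).Opens))) := by
  let ν := Curv2.normalizationι X
  let N := Curv2.normalization X
  letI : Field (X.presheaf.stalk (genericPoint X)) := inferInstanceAs (Field X.functionField)
  haveI : IsIntegral N := inferInstanceAs (IsIntegral (X.fromSpecStalk (genericPoint X)).normalization)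
  haveI : IsAffineHom ν := inferInstanceAs (IsAffineHom (X.fromSpecStalk (genericPoint X)).fromNormalization)
  let φ : X.functionField →+* X.presheaf.stalk (genericPoint X) := RingHom.id _
  have hg : X.fromSpecStalk (genericPoint X) = Spec.map (CommRingCat.ofHom φ) ≫ X.fromSpecStalk (genericPoint X) := by
    rw [show Spec.map (CommRingCat.ofHom φ) = 𝟙 (Spec (X.presheaf.stalk (genericPoint X))) from Spec.map_id _]
    exact (Category.id_comp _).symm
  have hnorm : Pi1.IsNormalScheme N := Groth.Agent.NormalSch.isNormalScheme_normalization φ _ hg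
  have hcov : ∀ x : X, ∃ U : X.Opens, IsAffineOpen U ∧ x ∈ U := fun x => by
    obtain ⟨_, ⟨U : X.Opens, hU, rfl⟩, hxU, -⟩ := X.isBasis_affineOpens.exists_subset_of_mem_open (Set.mem_univ x) isOpen_univ
    exact ⟨U, hU, hxU⟩
  choose U hU hxU using hcov
  have hNo : IsLocallyNoetherian N := by
    refine (isLocallyNoetherian_iff_of_iSup_eq_top (S := fun x : X => ⟨ν ⁻¹ᵁ U x, (hU x).preimage ν⟩) ?_).2 fun x => ?_
    · exact eq_top_iff.2 fun y _ => TopologicalSpace.Opens.mem_iSup.2 ⟨ν y, hxU (ν y)⟩
    · haveI : Nonempty (U x) := ⟨⟨x, hxU x⟩⟩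
      exact (chart X hdim (hU x)).1
  refine ⟨fun x => ?_, fun x' => ?_, hNo, fun V hV => ?_⟩
  · haveI : Nonempty (U x) := ⟨⟨x, hxU x⟩⟩
    obtain ⟨-, -, -, -, hfin, hinj⟩ := chart X hdim (hU x)
    show ({x' : N | ν x' = x} : Set N).Finite
    by_cases hp : ((hU x).primeIdealOf ⟨x, hxU x⟩).asIdeal = ⊥
    · have hx : x = genericPoint X := by
        refine (Specializes.antisymm ?_ ((genericPoint_spec X).specializes trivial)).eq
        exact Groth.Agent.InvExt.specializes_of_primeIdealOf_le (hU x) (hxU x)
          (((genericPoint_spec X).mem_open_set_iff (U x).2).2 ⟨x, trivial, hxU x⟩) (by rw [hp]; exact bot_le)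
      have h1 : ν ⁻¹' {genericPoint X} = {genericPoint N} := Groth.Agent.NormalSch.preimage_generic φ _ hg
      subst hx
      exact (Set.finite_singleton (genericPoint N)).subset fun y hy => h1.le hy
    · obtain ⟨a, ha, ha0⟩ := Submodule.exists_mem_ne_zero_of_ne_bot hp
      have hV := (hU x).preimage ν
      haveI := (hfin a ha0).to_subtype
      let F : {x' : N | ν x' = x} → {P : Ideal Γ(N, ν ⁻¹ᵁ U x) | P.IsPrime ∧ ν.app (U x) a ∈ P} := fun y =>
        ⟨(hV.primeIdealOf ⟨y.1, show ν y.1 ∈ U x by rw [y.2]; exact hxU x⟩).asIdeal, inferInstance, by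
          obtain ⟨y, rfl : ν y = x⟩ := y
          by_contra hn
          rw [← Groth.Agent.InvExt.mem_basicOpen_iff_not_mem hV y (hxU _), ← Scheme.preimage_basicOpen] at hn
          exact (Groth.Agent.InvExt.mem_basicOpen_iff_not_mem (hU _) (ν y) (hxU _) a).1 hn ha⟩
      refine Finite.of_injective F fun y z hyz => Subtype.ext ?_
      have h1 := congrArg hV.fromSpec (PrimeSpectrum.ext (congrArg Subtype.val hyz))
      rwa [hV.fromSpec_primeIdealOf, hV.fromSpec_primeIdealOf] at h1
  · haveI : Nonempty (U (ν x')) := ⟨⟨ν x', hxU _⟩⟩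
    obtain ⟨-, -, hfrac, hqfin, -, -⟩ := chart X hdim (hU (ν x'))
    have hV := (hU (ν x')).preimage ν
    have hx'V : x' ∈ ν ⁻¹ᵁ U (ν x') := hxU _
    letI := (ν.residueFieldMap x').hom.toAlgebra
    let F := X.residueField (ν x')
    let φ' : Γ(N, ν ⁻¹ᵁ U (ν x')) →+* N.residueField x' := (N.evaluation _ x' hx'V).hom
    let ev : Γ(X, U (ν x')) →+* F := (X.evaluation _ (ν x') (hxU _)).hom
    have hcomm : ∀ a, φ' (ν.app _ a) = algebraMap F (N.residueField x') (ev a) := fun a => by
      show N.residue x' (N.presheaf.germ _ x' hx'V (ν.app _ a)) = ν.residueFieldMap x' (X.residue _ (X.presheaf.germ _ _ (hxU _) a))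
      rw [← CommRingCat.comp_apply (X.residue _), Scheme.residue_residueFieldMap, CommRingCat.comp_apply,
        Scheme.Hom.germ_stalkMap_apply]
    have hker : ∀ c, φ' c = 0 ↔ c ∈ (hV.primeIdealOf ⟨x', hx'V⟩).asIdeal := fun c => by
      rw [show φ' c = N.evaluation _ x' hx'V c from rfl, Scheme.evaluation_eq_zero_iff_notMem_basicOpen,
        Groth.Agent.InvExt.mem_basicOpen_iff_not_mem hV x' hx'V, not_not]
    have hgen : ∀ z : N.residueField x', ∃ c d, φ' d ≠ 0 ∧ z = φ' c / φ' d := by
      intro z
      obtain ⟨w, rfl⟩ := N.residue_surjective x' z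
      letI : Algebra Γ(N, ν ⁻¹ᵁ U (ν x')) (N.presheaf.stalk x') := TopCat.Presheaf.algebra_section_stalk N.presheaf ⟨x', hx'V⟩
      haveI := hV.isLocalization_stalk ⟨x', hx'V⟩
      obtain ⟨⟨c, d⟩, h⟩ := IsLocalization.surj (hV.primeIdealOf ⟨x', hx'V⟩).asIdeal.primeCompl w
      refine ⟨c, d, fun h0 => d.2 ((hker _).1 h0), ?_⟩
      rw [eq_div_iff (fun h0 => d.2 ((hker _).1 h0))]
      exact ((map_mul (N.residue x').hom _ _).symm.trans (congrArg (N.residue x') h))
    suffices hfd : ∃ S : Finset (N.residueField x'), ∀ z, z ∈ Submodule.span F (S : Set (N.residueField x')) by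
      obtain ⟨S, hS⟩ := hfd
      exact ⟨⟨S, eq_top_iff.2 fun z _ => hS z⟩⟩
    by_cases hP : ∃ a, a ≠ 0 ∧ ν.app _ a ∈ (hV.primeIdealOf ⟨x', hx'V⟩).asIdeal
    · obtain ⟨a, ha, haP⟩ := hP
      set P := (hV.primeIdealOf ⟨x', hx'V⟩).asIdeal
      have h2 := hqfin a ha P haP
      letI := ((Ideal.Quotient.mk P).comp (ν.app (U (ν x'))).hom).toAlgebra
      haveI : Module.Finite Γ(X, U (ν x')) (Γ(N, ν ⁻¹ᵁ U (ν x')) ⧸ P) := h2
      obtain ⟨s, hs⟩ := Module.Finite.fg_top (R := Γ(X, U (ν x'))) (M := Γ(N, ν ⁻¹ᵁ U (ν x')) ⧸ P)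
      let ψ : Γ(N, ν ⁻¹ᵁ U (ν x')) ⧸ P →+* N.residueField x' := Ideal.Quotient.lift P φ' fun c hc => (hker c).2 hc
      classical
      let V : Submodule F (N.residueField x') := Submodule.span F ↑(s.image ψ)
      refine ⟨s.image ψ, ?_⟩
      have himg : ∀ q, ψ q ∈ V := fun q => by
        have hq : q ∈ Submodule.span Γ(X, U (ν x')) (s : Set _) := hs ▸ trivial
        induction hq using Submodule.span_induction with
        | mem w hw => exact Submodule.subset_span (Finset.mem_coe.2 (Finset.mem_image_of_mem ψ hw))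
        | zero => rw [map_zero]; exact zero_mem _
        | add u v _ _ hu hv => rw [map_add]; exact add_mem hu hv
        | smul r w _ hw =>
          rw [Algebra.smul_def, map_mul, show ψ (algebraMap _ _ r) = algebraMap F (N.residueField x') (ev r) from hcomm r,
            ← Algebra.smul_def]
          exact Submodule.smul_mem _ _ hw
      have hmul : ∀ u ∈ V, ∀ v ∈ V, u * v ∈ V := by
        intro u hu v hv
        induction hu, hv using Submodule.span_induction₂ with
        | mem_mem a b ha hb =>
          obtain ⟨a, -, rfl⟩ := Finset.mem_image.1 (Finset.mem_coe.1 ha)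
          obtain ⟨b, -, rfl⟩ := Finset.mem_image.1 (Finset.mem_coe.1 hb)
          rw [← map_mul]; exact himg _
        | zero_left y _ => rw [zero_mul]; exact zero_mem _
        | zero_right y _ => rw [mul_zero]; exact zero_mem _
        | add_left x y z _ _ _ h1 h2 => rw [add_mul]; exact add_mem h1 h2
        | add_right x y z _ _ _ h1 h2 => rw [mul_add]; exact add_mem h1 h2
        | smul_left r x y _ _ h => rw [smul_mul_assoc]; exact Submodule.smul_mem _ _ h
        | smul_right r x y _ _ h => rw [mul_smul_comm]; exact Submodule.smul_mem _ _ h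
      intro z
      obtain ⟨c, d, hd, rfl⟩ := hgen z
      haveI : FiniteDimensional F V := FiniteDimensional.span_of_finite F (Finset.finite_toSet _)
      let m : V →ₗ[F] V := (LinearMap.mulLeft F (φ' d)).restrict fun v hv => hmul _ (himg (Ideal.Quotient.mk P d)) _ hv
      have hm : Function.Injective m := fun p q hpq => Subtype.ext (mul_left_cancel₀ hd (congrArg Subtype.val hpq))
      obtain ⟨w, hw⟩ := LinearMap.injective_iff_surjective.1 hm ⟨φ' c, himg (Ideal.Quotient.mk P c)⟩
      have hw' : φ' d * w.1 = φ' c := congrArg Subtype.val hw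
      rw [← hw', mul_div_cancel_left₀ _ hd]
      exact w.2
    · push Not at hP
      refine ⟨{1}, fun z => ?_⟩
      have himg : ∀ c, ∃ t : F, φ' c = algebraMap F (N.residueField x') t := by
        intro c
        obtain ⟨r, s, hs, hrs⟩ := hfrac c
        have h0 : φ' (ν.app _ s) ≠ 0 := fun h => hP s hs ((hker _).1 h)
        refine ⟨ev r / ev s, ?_⟩
        rw [map_div₀, ← hcomm, ← hcomm, eq_div_iff h0, ← map_mul]
        exact congrArg φ' hrs
      obtain ⟨c, d, -, rfl⟩ := hgen z
      obtain ⟨t, ht⟩ := himg c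
      obtain ⟨t', ht'⟩ := himg d
      rw [Finset.coe_singleton, ht, ht', ← map_div₀, Algebra.algebraMap_eq_smul_one]
      exact Submodule.smul_mem _ _ (Submodule.subset_span rfl)
  · haveI : IsNoetherianRing Γ(N, V.1) := IsLocallyNoetherian.component_noetherian V
    obtain ⟨y₀, hy₀⟩ := hV
    haveI : Nonempty V.1 := ⟨⟨y₀, hy₀⟩⟩
    haveI : IsDomain Γ(N, V.1) := IsIntegral.component_integral V.1
    haveI : IsIntegrallyClosed Γ(N, V.1) := by
      refine IsIntegrallyClosed.of_localization_maximal fun P hP0 hP => ?_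
      obtain ⟨y, hy, rfl⟩ := Groth.Agent.InvExt.exists_point_primeIdealOf V.2 P hP.isPrime
      letI : Algebra Γ(N, V.1) (N.presheaf.stalk y) := TopCat.Presheaf.algebra_section_stalk N.presheaf ⟨y, hy⟩
      haveI := V.2.isLocalization_stalk ⟨y, hy⟩
      obtain ⟨_, hic⟩ := hnorm y
      exact IsIntegrallyClosed.of_equiv (IsLocalization.algEquiv (V.2.primeIdealOf ⟨y, hy⟩).asIdeal.primeCompl
        (N.presheaf.stalk y) (Localization.AtPrime (V.2.primeIdealOf ⟨y, hy⟩).asIdeal)).toRingEquiv
    haveI : Ring.DimensionLEOne Γ(N, V.1) := ⟨fun {P} hP0 hP => by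
      obtain ⟨M, hM, hPM⟩ := Ideal.exists_le_maximal P hP.ne_top
      obtain ⟨y, hy, hyP⟩ := Groth.Agent.InvExt.exists_point_primeIdealOf V.2 P hP
      obtain ⟨z, hz, hzM⟩ := Groth.Agent.InvExt.exists_point_primeIdealOf V.2 M hM.isPrime
      have hyz : y ⤳ z := Groth.Agent.InvExt.specializes_of_primeIdealOf_le V.2 hy hz (by rw [hyP, hzM]; exact hPM)
      haveI : Nonempty (U (ν z)) := ⟨⟨ν z, hxU _⟩⟩
      have hW := (hU (ν z)).preimage ν
      have hzW : z ∈ ν ⁻¹ᵁ U (ν z) := hxU _
      have hyW : y ∈ ν ⁻¹ᵁ U (ν z) := hyz.mem_open (ν ⁻¹ᵁ U (ν z)).2 hzW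
      haveI : Nonempty ↥(ν ⁻¹ᵁ U (ν z)) := ⟨⟨z, hzW⟩⟩
      have hle : (hW.primeIdealOf ⟨y, hyW⟩).asIdeal ≤ (hW.primeIdealOf ⟨z, hzW⟩).asIdeal := fun r hr => by
        by_contra hn
        exact (Groth.Agent.InvExt.mem_basicOpen_iff_not_mem hW y hyW r).1
          (hyz.mem_open (N.basicOpen r).2 ((Groth.Agent.InvExt.mem_basicOpen_iff_not_mem hW z hzW r).2 hn)) hr
      have hne : (hW.primeIdealOf ⟨y, hyW⟩).asIdeal ≠ ⊥ := fun h0 => by
        obtain ⟨t, ht, ht0⟩ := Submodule.exists_mem_ne_zero_of_ne_bot hP0
        have hgy : y = genericPoint N := by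
          refine (Specializes.antisymm ?_ ((genericPoint_spec N).specializes trivial)).eq
          exact Groth.Agent.InvExt.specializes_of_primeIdealOf_le hW hyW
            (((genericPoint_spec N).mem_open_set_iff (ν ⁻¹ᵁ U (ν z)).2).2 ⟨y, trivial, hyW⟩) (by rw [h0]; exact bot_le)
        subst hgy
        refine (Groth.Agent.InvExt.mem_basicOpen_iff_not_mem V.2 _ hy t).1 ?_ (hyP.symm ▸ ht)
        refine ((genericPoint_spec N).mem_open_set_iff (N.basicOpen t).2).2 ?_
        rw [Set.univ_inter]
        exact Set.nonempty_iff_ne_empty.2 fun he => ht0 (basicOpen_eq_bot_iff t |>.1 (TopologicalSpace.Opens.ext he))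
      haveI hmax := (chart X hdim (hU (ν z))).2.1 _ inferInstance hne
      have heq := hmax.eq_of_le (Ideal.IsPrime.ne_top inferInstance) hle
      have h1 := congrArg hW.fromSpec (PrimeSpectrum.ext heq)
      rw [hW.fromSpec_primeIdealOf, hW.fromSpec_primeIdealOf] at h1
      obtain rfl : y = z := h1
      rw [← hyP, hzM]
      exact hM⟩
    exact (isDedekindDomain_iff Γ(N, V.1) (FractionRing Γ(N, V.1))).2 ⟨inferInstance, inferInstance, inferInstance,
      fun {x} hx => IsIntegrallyClosed.isIntegral_iff.1 hx⟩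

end Groth.Agent.S7684
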