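import Groth.Statements.S7685
import Groth.Agent.IntLib.Pairing
import Groth.Agent.DevLib.Closed
-- import your own Groth.Agent.* helpers here

set_option autoImplicit false
set_option backward.isDefEq.respectTransparency false
universe u
open CategoryTheory CategoryTheory.Limits AlgebraicGeometry
open Variety

namespace Groth.Agent.S7685

/-- Let X be proper over a field k, Z ⊆ X a closed subscheme of dimension d and L_1, …, L_d invertible
modules. Then the intersection number (L_1 ⋯ L_d · Z), the coefficient of n_1⋯n_d in the polynomial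
computing χ(X, O_Z ⊗ L_1^{⊗n_1} ⊗ ⋯ ⊗ L_d^{⊗n_d}) for all exponents in ℕ^d, is an integer. -/
theorem result (k : Type u) [Field k] (X : Scheme.{u}) [X.Over (Spec (CommRingCat.of k))] [IsProper (X ↘ (Spec (CommRingCat.of k)))]
    (D : X.IdealSheafData) (d : ℕ) (hD : topologicalKrullDim (D.support : Set X) = d)
    (L : Fin d → X.Modules) (hL : ∀ i, PicF.IsInvertible (L i)) (P : MvPolynomial (Fin d) ℚ)
    (hP : ∀ n : Fin d → ℕ, (Curv2.euler k X (Curv2.tensorPows (ClSub.quotMod D) d L n) : ℚ) = MvPolynomial.eval (fun i => (n i : ℚ)) P) :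
    ∃ z : ℤ, MvPolynomial.coeff (Finsupp.equivFunOnFinite.symm fun _ : Fin d => 1) P = (z : ℚ) := by
  haveI := Groth.Agent.EulerIneqLib.isNoetherian_proper (X := X) k
  have hsub : CohB1.support (ClSub.quotMod D) ⊆ (D.support : Set X) := fun y hy => by
    rw [← D.range_subschemeι]
    exact by_contra fun h => hy (Groth.Agent.DCohLib.subsingleton_stalk_pushforward D.subschemeι _ y h)
  have hdim : topologicalKrullDim (CohB1.support (ClSub.quotMod D)) ≤ (d : WithBot ℕ∞) :=
    le_trans (Topology.IsEmbedding.inclusion hsub).isInducing.topologicalKrullDim_le hD.le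
  obtain ⟨Q, hQd, hQ⟩ := Groth.Agent.HilbLib.snapper k d L hL (ClSub.quotMod D)
    (Groth.Agent.DevLib.isCoh_pushforward_closed D.subschemeι (Groth.Agent.DevLib.isCoh_structureModule _)) d hdim
  have e : P = Q := MvPolynomial.funext_set (fun _ => Set.range (Nat.cast : ℕ → ℚ))
    (fun _ => Set.infinite_range_of_injective Nat.cast_injective) fun x hx => by
      choose n hn using fun i => hx i (Set.mem_univ i)
      rw [show x = fun i => (n i : ℚ) from funext fun i => (hn i).symm, ← hP n, ← hQ n]
  have h := Groth.Agent.IntLib.pairing_prod_eq_coeff k (ClSub.quotMod D) L hL Q hQd hQ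
  refine ⟨(-1) ^ d * Groth.Agent.IntLib.pairing k (ClSub.quotMod D) (∏ i, Groth.Agent.IntLib.dif (hL i)), ?_⟩
  rw [e]
  push_cast
  rw [h, ← mul_assoc, ← mul_pow]
  norm_num

end Groth.Agent.S7685
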