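import Groth.Statements.S7688
import Groth.Agent.PicCurveLib.Lift
import Groth.Agent.AmpleEmb.ComposeRel
import Groth.Agent.PullbackMod.Basic

set_option autoImplicit false
universe u
open CategoryTheory CategoryTheory.Limits AlgebraicGeometry
open Variety

namespace Groth.Agent.S7688

open CategoryTheory CategoryTheory.Limits AlgebraicGeometry

open TopologicalSpace Groth.Agent.ParaFLib Groth.Agent.PicCurveLib Groth.Agent.PullbackMod

/-- Let f : X → Y be finite with Y Noetherian of dimension at most one, and suppose that over some dense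
open V ⊆ Y the restriction f⁻¹(V) → V is a closed immersion. Then each invertible O_X-module arises,
up to isomorphism, by pulling back an invertible O_Y-module along f. -/
theorem result {X Y : Scheme.{u}} (f : X ⟶ Y)
    [IsFinite f] [IsNoetherian Y] (hdim : topologicalKrullDim Y ≤ 1)
    (V : Y.Opens) (hV : Dense (V : Set Y)) (hfV : IsClosedImmersion (f ∣_ V))
    (L : X.Modules) (hL : PicF.IsInvertible L) :
    ∃ N : Y.Modules, PicF.IsInvertible N ∧ Nonempty ((Scheme.Modules.pullback f).obj N ≅ L) := by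
  classical
  haveI : NoetherianSpace Y := inferInstance
  have hηV : ∀ η ∈ genPts Y, η ∈ V := fun η hη => mem_of_dense hη hV
  choose A hA sA hsA using fun y : Y => exists_gen_finite f hL y
  -- a dense open over which `L` is trivial
  let Ω : genPts Y → Y.Opens := fun η => genNhd η.1 ⊓ V ⊓ A η.1
  let V0 : Y.Opens := ⨆ η, Ω η
  have hV0V : V0 ≤ V := iSup_le fun η => inf_le_left.trans inf_le_right
  have hgen : ∀ η ∈ genPts Y, η ∈ V0 := fun η hη =>
    Opens.mem_iSup.2 ⟨⟨η, hη⟩, ⟨mem_genNhd hη, hηV η hη⟩, hA η⟩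
  obtain ⟨b0, hb0⟩ : ∃ b0 : Γ(L, f ⁻¹ᵁ V0), Gen (f ⁻¹ᵁ V0) b0 := by
    refine exists_gen_of_eq (f.preimage_iSup Ω).symm
      (exists_gen_of_disjoint (fun η => f ⁻¹ᵁ Ω η) (fun i j hij => le_bot_iff.1 ?_) fun η => ?_)
    · intro z hz
      exact (genNhd_disjoint i.2 fun e => hij (Subtype.ext e)).le (show f z ∈ genNhd i.1 ⊓ genNhd j.1 from
        ⟨hz.1.1.1, hz.2.1.1⟩)
    · exact ⟨_, (hsA η.1).res (f.preimage_mono (inf_le_right : Ω η ≤ A η.1))⟩
  obtain ⟨hTf, hTc⟩ := finite_of_disjoint_genPts hdim (C := ((V0 : Set Y))ᶜ) V0.isOpen.isClosed_compl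
    fun η hη h => h (hgen η hη)
  have hex : ∀ y : {y : Y // y ∉ V0}, ∃ D : Y.Opens, y.1 ∈ D ∧ (∀ z ∈ D, z ∉ V0 → z = y.1) ∧
      ∃ b : Γ(L, f ⁻¹ᵁ D), Gen (f ⁻¹ᵁ D) b ∧ ∃ v : Γ(Y, D ⊓ V0), IsUnit v ∧
        L.presheaf.map (homOfLE (f.preimage_mono inf_le_left)).op b =
          f.appLE (D ⊓ V0) (f ⁻¹ᵁ (D ⊓ V0)) le_rfl v •
            L.presheaf.map (homOfLE (f.preimage_mono inf_le_right)).op b0 := by
    intro y
    have hE : IsClosed (⋃ z ∈ ((V0 : Set Y))ᶜ \ {y.1}, ({z} : Set Y)) :=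
      hTf.sdiff.isClosed_biUnion fun z hz => hTc z hz.1
    let D0 : Y.Opens := A y.1 ⊓ ⟨_, hE.isOpen_compl⟩
    have hyD : y.1 ∈ D0 := ⟨hA y.1, fun h => by
      obtain ⟨z, hz, hyz⟩ := Set.mem_iUnion₂.1 h
      exact hz.2 hyz.symm⟩
    obtain ⟨a, hau, ha⟩ := ((hsA y.1).res
        (f.preimage_mono (inf_le_left.trans inf_le_left) : f ⁻¹ᵁ (D0 ⊓ V0) ≤ f ⁻¹ᵁ A y.1)).exists_unit
      (hb0.res (f.preimage_mono (inf_le_right : D0 ⊓ V0 ≤ V0)))
    obtain ⟨D, hD, hyD', v, hv, hfv⟩ := exists_lift_near hdim f hfV hV0V hgen y.2 hyD a hau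
    refine ⟨D, hyD', fun z hz hzV => ?_, _, (hsA y.1).res (f.preimage_mono (hD.trans inf_le_left)),
      v, hv, ?_⟩
    · by_contra hne
      exact (hD hz).2 (Set.mem_biUnion (x := z)
        (⟨hzV, hne⟩ : z ∈ ((V0 : Set Y))ᶜ \ {y.1}) rfl)
    · have h := congrArg (L.presheaf.map (homOfLE (f.preimage_mono (inf_le_inf_right V0 hD))).op) ha
      rw [L.map_smul, res_res, res_res, ← hfv] at h
      rw [res_res]
      exact h.symm
  choose D hyD honly b hb v hv hrel using hex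
  let U : Option {y : Y // y ∉ V0} → Y.Opens := fun i => i.elim V0 D
  let w : ∀ i, Γ(Y, U i ⊓ V0) := fun i => match i with
    | none => (1 : Γ(Y, V0 ⊓ V0))
    | some y => v y
  let β : ∀ i, Γ(L, f ⁻¹ᵁ U i) := fun i => match i with
    | none => b0
    | some y => b y
  have hw : ∀ i, IsUnit (w i) := by
    rintro (_ | y)
    exacts [isUnit_one, hv y]
  have hβ : ∀ i, Gen (f ⁻¹ᵁ U i) (β i) := by
    rintro (_ | y)
    exacts [hb0, hb y]
  have hβrel : ∀ i, L.presheaf.map (homOfLE (f.preimage_mono inf_le_left)).op (β i) =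
      f.appLE (U i ⊓ V0) (f ⁻¹ᵁ (U i ⊓ V0)) le_rfl (w i) •
        L.presheaf.map (homOfLE (f.preimage_mono inf_le_right)).op b0 := by
    rintro (_ | y)
    · show L.presheaf.map (homOfLE (f.preimage_mono (inf_le_left : V0 ⊓ V0 ≤ V0))).op b0 =
        f.appLE (V0 ⊓ V0) (f ⁻¹ᵁ (V0 ⊓ V0)) le_rfl (1 : Γ(Y, V0 ⊓ V0)) •
          L.presheaf.map (homOfLE (f.preimage_mono (inf_le_right : V0 ⊓ V0 ≤ V0))).op b0
      rw [map_one, one_smul]
    · exact hrel y
  have hsub : ∀ i j, i ≠ j → U i ⊓ U j ≤ V0 := by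
    rintro (_ | y) (_ | y') hne
    · exact absurd rfl hne
    · exact inf_le_left
    · exact inf_le_right
    · exact fun z hz => by_contra fun hzV => hne
        (congrArg some (Subtype.ext ((honly y z hz.1 hzV).symm.trans (honly y' z hz.2 hzV))))
  let r : ∀ (i) (O : Y.Opens), O ≤ U i ⊓ V0 → Γ(Y, O) := fun i O h =>
    Y.presheaf.map (homOfLE h).op (w i)
  have hr : ∀ i O h, IsUnit (r i O h) := fun i O h => (hw i).map _
  have hη : ∀ i j, ∃ η : (Γ(Y, U i ⊓ U j))ˣ, (i = j → η = 1) ∧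
      ∀ (hi : U i ⊓ U j ≤ U i ⊓ V0) (hj : U i ⊓ U j ≤ U j ⊓ V0),
        (η : Γ(Y, U i ⊓ U j)) * r j _ hj = r i _ hi := by
    intro i j
    by_cases hij : i = j
    · subst hij
      exact ⟨1, fun _ => rfl, fun _ _ => by rw [Units.val_one, one_mul]⟩
    · refine ⟨(hr i _ (le_inf inf_le_left (hsub i j hij))).unit *
        (hr j _ (le_inf inf_le_right (hsub i j hij))).unit⁻¹, fun e => absurd e hij, fun hi hj => ?_⟩
      rw [Units.val_mul, mul_assoc, IsUnit.val_inv_mul, mul_one, IsUnit.unit_spec]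
  choose η hη1 hη2 using hη
  have hcoc : IsCocycle U η := by
    intro i j k
    by_cases hle : U i ⊓ U j ⊓ U k ≤ V0
    · have hi : U i ⊓ U j ⊓ U k ≤ U i ⊓ V0 := le_inf (inf_le_left.trans inf_le_left) hle
      have hj : U i ⊓ U j ⊓ U k ≤ U j ⊓ V0 := le_inf (inf_le_left.trans inf_le_right) hle
      have hk : U i ⊓ U j ⊓ U k ≤ U k ⊓ V0 := le_inf inf_le_right hle
      have key : ∀ (a c : Option {y : Y // y ∉ V0}) (h : U i ⊓ U j ⊓ U k ≤ U a ⊓ U c)
          (ha : U i ⊓ U j ⊓ U k ≤ U a ⊓ V0) (hc : U i ⊓ U j ⊓ U k ≤ U c ⊓ V0),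
          Y.presheaf.map (homOfLE h).op (η a c : Γ(Y, U a ⊓ U c)) * r c _ hc = r a _ ha := by
        intro a c h ha hc
        by_cases hac : a = c
        · subst hac
          rw [hη1 a a rfl, Units.val_one, map_one, one_mul]
        · have e := congrArg (Y.presheaf.map (homOfLE h).op)
            (hη2 a c (le_inf inf_le_left (hsub a c hac)) (le_inf inf_le_right (hsub a c hac)))
          rw [map_mul] at e
          simp only [r, resX_resX] at e ⊢
          exact e
      refine (hr k _ hk).mul_right_cancel ?_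
      rw [mul_assoc, key j k _ hj hk, key i j _ hi hj, key i k _ hi hk]
    · have hij : i = j := by_contra fun h => hle (inf_le_left.trans (hsub i j h))
      subst hij
      have hjk : i = k := by_contra fun h => hle ((inf_le_inf_right (U k) inf_le_left).trans (hsub i k h))
      subst hjk
      simp only [hη1 i i rfl, Units.val_one, map_one, one_mul]
  have hU : iSup U = ⊤ := top_le_iff.1 fun y _ => by
    by_cases hy : y ∈ V0
    · exact Opens.mem_iSup.2 ⟨none, hy⟩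
    · exact Opens.mem_iSup.2 ⟨some ⟨y, hy⟩, hyD _⟩
  obtain ⟨N, s, hN, hs, hst⟩ := exists_invertible_of_cocycle U η hU hcoc
  refine ⟨N, hN, ?_⟩
  refine nonempty_iso_of_bases (U := fun i => f ⁻¹ᵁ U i) (s := fun i => pullMap f N le_rfl (s i)) (t := β)
    (Scheme.Hom.iSup_preimage_eq_top f hU) (fun i => AmpleEmb.gen_pullMap f hN (hs i)) hβ
    (fun i j => f.appLE (U i ⊓ U j) (f ⁻¹ᵁ U i ⊓ f ⁻¹ᵁ U j) le_rfl (η i j : Γ(Y, U i ⊓ U j)))
    (fun i j => ?_) fun i j => ?_
  · refine (pullMap_res f N le_rfl inf_le_left inf_le_left le_rfl (s i)).trans ?_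
    rw [hst i j, pullMap_smul]
    exact congrArg _ (pullMap_res f N le_rfl inf_le_right inf_le_right le_rfl (s j)).symm
  · by_cases hij : i = j
    · subst hij
      rw [hη1 i i rfl, Units.val_one, map_one, one_smul]
    · have hi : U i ⊓ U j ≤ U i ⊓ V0 := le_inf inf_le_left (hsub i j hij)
      have hj : U i ⊓ U j ≤ U j ⊓ V0 := le_inf inf_le_right (hsub i j hij)
      have e1 := congrArg (L.presheaf.map (homOfLE (f.preimage_mono hi)).op) (hβrel i)
      have e2 := congrArg (L.presheaf.map (homOfLE (f.preimage_mono hj)).op) (hβrel j)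
      rw [L.map_smul, res_res, res_res, res_appLE] at e1 e2
      have e3 := congrArg (f.appLE (U i ⊓ U j) (f ⁻¹ᵁ (U i ⊓ U j)) le_rfl) (hη2 i j hi hj)
      simp only [r, map_mul, appLE_res] at e3
      refine e1.trans (Eq.trans ?_ (congrArg (fun x : Γ(L, f ⁻¹ᵁ (U i ⊓ U j)) =>
        f.appLE (U i ⊓ U j) (f ⁻¹ᵁ (U i ⊓ U j)) le_rfl (η i j : Γ(Y, U i ⊓ U j)) • x) e2.symm))
      refine Eq.trans ?_ (mul_smul (α := Γ(X, f ⁻¹ᵁ (U i ⊓ U j))) _ _ _)
      exact congrArg (fun c => c • L.presheaf.map (homOfLE (f.preimage_mono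
        (hi.trans inf_le_right))).op b0) e3.symm

end Groth.Agent.S7688
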