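import Groth.Statements.S7690
import Groth.Agent.DegDevLib.BC
import Groth.Agent.PicProjLib.Pic
import Groth.Agent.CompleteCurve.ProjSpace
import Groth.Agent.BCLib.TensorQCoh
import Groth.Agent.CurveLib.DegTensor

set_option autoImplicit false
universe u
open CategoryTheory CategoryTheory.Limits AlgebraicGeometry
open Variety

namespace Groth.Agent.S7690

open CategoryTheory CategoryTheory.Limits AlgebraicGeometry

set_option backward.isDefEq.respectTransparency false


/-- Let k'/k be a field extension (k' in the universe of k), n ≥ 0, F a coherent module on P^n_k with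
pullback F' to P^n_{k'}. For every integer m, F is m-regular exactly when F' is. Here P^n_{k'} is
taken as the base change P^n_k ×_k Spec k' and the m-regularity of F' is spelled out as the
vanishing of H^i(P^n_{k'}, (F(m − i))') for 1 ≤ i ≤ n, (F(m − i))' being the pullback of F ⊗ O(m −
i). -/
theorem result (k : Type u) [Field k] (n : ℕ)
    (k' : Type u) [Field k'] [Algebra k k'] (F : (CohB1.ProjSpace n k).Modules) (hF : Coh.IsCoh F) (m : ℤ) :
    Curv2.IsMRegular k n F m ↔
      ∀ i : ℕ, 1 ≤ i → i ≤ n →
        Subsingleton (Coh.HH (Curv2.bc k (CohB1.ProjSpace n k) k')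
          ((Scheme.Modules.pullback (Curv2.bcFst k (CohB1.ProjSpace n k) k')).obj
            (CohB1.tensorMod F (Twist.twistProjSpace n k (m - i)))) i) := by
  haveI : IsProper (CohB1.ProjSpace n k ↘ Spec (CommRingCat.of k)) := CompleteCurve.isProper_toSpec n k
  haveI := EulerIneqLib.isNoetherian_proper (X := CohB1.ProjSpace n k) k
  haveI : Coh.IsQCoh F := hF.1
  refine forall₃_congr fun i _ _ => ?_
  haveI : Coh.IsQCoh (Twist.twistProjSpace n k (m - i)) := (CurveLib.isCoh_of_isInvertible (PicProjLib.isInvertible_twist _)).1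
  haveI : Coh.IsQCoh (CohB1.tensorMod F (Twist.twistProjSpace n k (m - i))) := BCLib.isQCoh_tensorMod _ _
  letI : (Curv2.bc k (CohB1.ProjSpace n k) k').Over (Spec (CommRingCat.of k')) := ⟨Curv2.bcSnd k _ k'⟩
  obtain ⟨e⟩ := DegDevLib.nonempty_hh_bc k (CohB1.ProjSpace n k) k' (CohB1.tensorMod F (Twist.twistProjSpace n k (m - i))) i
  refine ⟨fun h => ?_, fun h => ?_⟩
  · haveI := h
    exact e.symm.toEquiv.subsingleton
  · haveI := h
    haveI := e.toEquiv.subsingleton
    exact (Module.FaithfullyFlat.subsingleton_tensorProduct_iff_right k k').1 inferInstance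


end Groth.Agent.S7690
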