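import Groth.Statements.S9349
import Groth.Agent.FlatModLib.Affine

set_option autoImplicit false
universe u
open FlatMod

namespace Groth.Agent.S9349

open AlgebraicGeometry CategoryTheory in
/-- Let f : X → Y be an affine morphism of S-schemes, with q : Y → S, and F a quasi-coherent O_X-module.
Flatness of F over S (along f ≫ q) is equivalent to flatness of f_*F over S (along q). -/
theorem result {X Y S : Scheme.{u}} (f : X ⟶ Y) [IsAffineHom f] (q : Y ⟶ S)
    (F : X.Modules) (hF : Coh.IsQCoh F) :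
    FlatMod.IsFlatOver (f ≫ q) F ↔ FlatMod.IsFlatOver q ((Coh.push f).obj F) := by
  haveI := hF
  haveI : Coh.IsQCoh ((Coh.push f).obj F) := Groth.Agent.QCohLib.isQCoh_pushforward F f
  constructor
  · intro hfl
    refine (Groth.Agent.FlatModLib.isFlatOver_iff q _).mpr fun W V h hW hV => ?_
    have h' : f ⁻¹ᵁ W ≤ (f ≫ q) ⁻¹ᵁ V := fun x hx => h hx
    exact (Groth.Agent.FlatModLib.secFlat_pushforward_iff f q F W V h h').mpr
      ((Groth.Agent.FlatModLib.isFlatOver_iff (f ≫ q) F).mp hfl _ V h' (hW.preimage f) hV)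
  · intro hfl x
    obtain ⟨W, V, hW, hV, hWV, hxW⟩ := Groth.Agent.FlatModLib.exists_affines q (f x)
    have h' : f ⁻¹ᵁ W ≤ (f ≫ q) ⁻¹ᵁ V := fun y hy => hWV hy
    exact Groth.Agent.FlatModLib.isFlatOverAt_of_secFlat (f ≫ q) F (hW.preimage f) hV h'
      ((Groth.Agent.FlatModLib.secFlat_pushforward_iff f q F W V hWV h').mp
        ((Groth.Agent.FlatModLib.isFlatOver_iff q _).mp hfl W V hWV hW hV)) x hxW

end Groth.Agent.S9349
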