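import Groth.Statements.S9620

set_option autoImplicit false
universe u
open CAlg

namespace Groth.Agent.S9620

/-- For a ring R and a point p of Spec R, the connected component of p is the zero locus of the ideal I
generated by the idempotents of R contained in p, and every idempotent e of R satisfies e ∈ I or 1 -
e ∈ I (e maps to 0 or 1 in R/I). -/
theorem result {R : Type u} [CommRing R] (p : PrimeSpectrum R) :
    connectedComponent p = PrimeSpectrum.zeroLocus {e : R | IsIdempotentElem e ∧ e ∈ p.asIdeal} ∧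
      ∀ e : R, IsIdempotentElem e → (e ∈ Ideal.span {e : R | IsIdempotentElem e ∧ e ∈ p.asIdeal} ∨ 1 - e ∈ Ideal.span {e : R | IsIdempotentElem e ∧ e ∈ p.asIdeal}) := by
  set E : Set R := {e : R | IsIdempotentElem e ∧ e ∈ p.asIdeal} with hE
  have hjoin : ∀ x ∈ Ideal.span E, ∃ f, f ∈ E ∧ x * (1 - f) = 0 := by
    intro x hx
    induction hx using Submodule.span_induction with
    | mem e he => exact ⟨e, he, by rw [mul_sub, mul_one, he.1.eq, sub_self]⟩
    | zero => exact ⟨0, ⟨IsIdempotentElem.zero, p.asIdeal.zero_mem⟩, by simp⟩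
    | add a b _ _ ha hb =>
      obtain ⟨f, hf, hf'⟩ := ha
      obtain ⟨g, hg, hg'⟩ := hb
      refine ⟨1 - (1 - f) * (1 - g), ⟨((hf.1.one_sub).mul hg.1.one_sub).one_sub, ?_⟩, by linear_combination (1 - g) * hf' + (1 - f) * hg'⟩
      rw [show 1 - (1 - f) * (1 - g) = f + g * (1 - f) by ring]
      exact add_mem hf.2 (Ideal.mul_mem_right _ _ hg.2)
    | smul c a _ ha =>
      obtain ⟨f, hf, hf'⟩ := ha
      exact ⟨f, hf, by rw [smul_eq_mul, mul_assoc, hf', mul_zero]⟩
  have h2 : ∀ e : R, IsIdempotentElem e → (e ∈ Ideal.span E ∨ 1 - e ∈ Ideal.span E) := by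
    intro e he
    rcases p.2.mem_or_mem (show e * (1 - e) ∈ p.asIdeal by rw [mul_sub, mul_one, he.eq, sub_self]; exact p.asIdeal.zero_mem) with h | h
    · exact Or.inl (Ideal.subset_span ⟨he, h⟩)
    · exact Or.inr (Ideal.subset_span ⟨he.one_sub, h⟩)
  refine ⟨le_antisymm ?_ ?_, h2⟩
  · intro q hq e he
    have hclopen : IsClopen (PrimeSpectrum.zeroLocus {e}) := PrimeSpectrum.isClopen_iff_zeroLocus.mpr ⟨e, he.1, rfl⟩
    exact hclopen.connectedComponent_subset (by simpa using he.2) hq (Set.mem_singleton e)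
  · rw [← PrimeSpectrum.zeroLocus_span E]
    haveI : PreconnectedSpace (PrimeSpectrum (R ⧸ Ideal.span E)) := by
      rw [preconnectedSpace_iff_clopen]
      intro s hs
      obtain ⟨ebar, heb, rfl⟩ := PrimeSpectrum.isClopen_iff.mp hs
      obtain ⟨e, rfl⟩ := Ideal.Quotient.mk_surjective ebar
      obtain ⟨f, hf, hf'⟩ := hjoin (e * e - e) (Ideal.Quotient.eq.mp (by rw [map_mul]; exact heb))
      have he' : IsIdempotentElem (e * (1 - f)) := by
        show e * (1 - f) * (e * (1 - f)) = e * (1 - f)
        linear_combination (1 - f) * hf' + e * hf.1.eq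
      have hfI : Ideal.Quotient.mk (Ideal.span E) f = 0 := Ideal.Quotient.eq_zero_iff_mem.mpr (Ideal.subset_span hf)
      have hmk : Ideal.Quotient.mk (Ideal.span E) (e * (1 - f)) = Ideal.Quotient.mk _ e := by
        rw [map_mul, map_sub, hfI, map_one, sub_zero, mul_one]
      rcases h2 _ he' with h | h
      · left
        rw [← hmk, Ideal.Quotient.eq_zero_iff_mem.mpr h, PrimeSpectrum.basicOpen_zero]; rfl
      · right
        have h1 := Ideal.Quotient.eq_zero_iff_mem.mpr h
        rw [map_sub, map_one, sub_eq_zero, hmk] at h1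
        rw [← h1, PrimeSpectrum.basicOpen_one]; rfl
    have hr : Set.range (PrimeSpectrum.comap (Ideal.Quotient.mk (Ideal.span E))) = PrimeSpectrum.zeroLocus (Ideal.span E : Set R) := by
      rw [range_comap_of_surjective _ _ Ideal.Quotient.mk_surjective, Ideal.mk_ker]
    rw [← hr]
    refine (isPreconnected_range (PrimeSpectrum.continuous_comap _)).subset_connectedComponent ?_
    rw [hr, PrimeSpectrum.zeroLocus_span]
    exact fun e he => he.2

end Groth.Agent.S9620
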