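import Groth.Statements.S8260
import Groth.Agent.RelProjLib.Basic

set_option autoImplicit false
set_option linter.style.haveILetI false
set_option backward.isDefEq.respectTransparency false
universe u
open CategoryTheory CategoryTheory.Limits AlgebraicGeometry Opposite TopologicalSpace
open scoped HomogeneousIdeal
open EGA2

namespace Groth.Agent.S8260

/-- If the quasi-coherent positively graded O_Y-algebra 𝒮 is of finite type (over every affine open U of
Y the ring 𝒮(U) is a finitely generated O_Y(U)-algebra), then its relative homogeneous spectrum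
Proj(𝒮) is of finite type over Y. -/
theorem result {Y P : Scheme.{u}} (𝒮 : RelProj.QCGrAlg Y)
    (hft : ∀ (U : Y.Opens) (hU : IsAffineOpen U), (𝒮.str.app (op U)).hom.FiniteType)
    (p : P ⟶ Y)
    (chart : ∀ (U : Y.Opens) (hU : IsAffineOpen U), (((p ⁻¹ᵁ U : P.Opens) : Scheme.{u}) ≅ Proj (𝒮.deg U hU)))
    (hP : RelProj.IsRelProj 𝒮 p chart) : LocallyOfFiniteType p ∧ QuasiCompact p := by
  have key : ∀ (U : Y.Opens) (hU : IsAffineOpen U),
      LocallyOfFiniteType (Proj.toSpecZero (𝒮.deg U hU) ≫ Spec.map (𝒮.strZero U hU)) ∧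
        QuasiCompact (Proj.toSpecZero (𝒮.deg U hU) ≫ Spec.map (𝒮.strZero U hU)) := by
    intro U hU
    have h := hft U hU
    haveI : Algebra.FiniteType (𝒮.deg U hU 0) (𝒮.presheaf.obj (op U)) := by
      have hsub : (algebraMap (𝒮.deg U hU 0) (𝒮.presheaf.obj (op U))).FiniteType :=
        RingHom.FiniteType.of_comp_finiteType (f := (𝒮.strZero U hU).hom) h
      simpa only [RingHom.finiteType_algebraMap] using hsub
    haveI : LocallyOfFiniteType (Spec.map (𝒮.strZero U hU)) := by
      rw [HasRingHomProperty.Spec_iff (P := @LocallyOfFiniteType)]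
      have e : (𝒮.strZero U hU).hom =
          (GradedRing.projZeroRingHom' (𝒮.deg U hU)).comp (𝒮.str.app (op U)).hom := by
        refine RingHom.ext fun r => Subtype.ext ?_
        exact (DirectSum.decompose_of_mem_same (𝒮.deg U hU) (𝒮.str_mem U hU r)).symm
      rw [e]
      have hsurj : Function.Surjective (GradedRing.projZeroRingHom' (𝒮.deg U hU)) :=
        fun x => ⟨x, GradedRing.projZeroRingHom'_apply_coe (𝒮.deg U hU) x⟩
      exact RingHom.FiniteType.comp (RingHom.FiniteType.of_surjective _ hsurj) h
    exact ⟨inferInstance, inferInstance⟩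
  exact ⟨Groth.Agent.RelProjLib.of_charts hP @LocallyOfFiniteType fun U hU => (key U hU).1,
    Groth.Agent.RelProjLib.of_charts hP @QuasiCompact fun U hU => (key U hU).2⟩

end Groth.Agent.S8260
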