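import Groth.Statements.S8264
import Groth.Agent.RelProjLib.Basic

set_option autoImplicit false
set_option linter.style.haveILetI false
set_option backward.isDefEq.respectTransparency false
universe u
open CategoryTheory CategoryTheory.Limits AlgebraicGeometry Opposite TopologicalSpace
open scoped HomogeneousIdeal
open EGA2

namespace Groth.Agent.S8264

/-- Let Y be an integral scheme and 𝒮 a quasi-coherent positively graded O_Y-algebra with 𝒮_0 = O_Y
which is integral, stated here affine-locally: over every nonempty affine open U the ring 𝒮(U) is an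
integral domain whose irrelevant ideal is nonzero (for Y integral this is equivalent to the
stalkwise condition of the published text: every stalk 𝒮_y an integral domain with (𝒮_y)_+ ≠ 0).
Then Proj(𝒮) is integral and its structure morphism to Y is dominant. -/
theorem result {Y P : Scheme.{u}} [IsIntegral Y] (𝒮 : RelProj.QCGrAlg Y)
    (h0 : ∀ (U : Y.Opens) (hU : IsAffineOpen U), Function.Bijective (𝒮.strZero U hU).hom)
    (hint : ∀ (U : Y.Opens) (hU : IsAffineOpen U), (U : Set Y).Nonempty →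
      IsDomain (𝒮.presheaf.obj (op U)) ∧ ((𝒮.deg U hU)₊).toIdeal ≠ ⊥)
    (p : P ⟶ Y)
    (chart : ∀ (U : Y.Opens) (hU : IsAffineOpen U), (((p ⁻¹ᵁ U : P.Opens) : Scheme.{u}) ≅ Proj (𝒮.deg U hU)))
    (hP : RelProj.IsRelProj 𝒮 p chart) : IsIntegral P ∧ DenseRange p.base := by
  classical
  haveI hred : AlgebraicGeometry.IsReduced P := by
    haveI : ∀ U : Y.affineOpens, AlgebraicGeometry.IsReduced ((p ⁻¹ᵁ (U : Y.Opens) : P.Opens) : Scheme.{u}) := fun U => by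
      haveI : AlgebraicGeometry.IsReduced (Proj (𝒮.deg U U.2)) := Groth.Agent.ProjRed.isReduced fun f hf hn => by
        rcases (U.1 : Set Y).eq_empty_or_nonempty with h | h
        · have hU : IsEmpty (Proj (𝒮.deg U U.2)) := ⟨fun y => by
            have hy := ((chart U U.2).inv y).2
            have : p.base ((chart U U.2).inv y).1 ∈ (U.1 : Set Y) := hy
            rw [h] at this; exact this⟩
          obtain ⟨k, hk⟩ := hn
          have h1 : (1 : Γ(Y, (U : Y.Opens))) = 0 := by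
            have : Subsingleton Γ(Y, (U : Y.Opens)) := by
              have hbot : (U : Y.Opens) = ⊥ := TopologicalSpace.Opens.coe_inj.1 (by simpa using h)
              rw [hbot]; infer_instance
            exact Subsingleton.elim _ _
          have h2 : (1 : 𝒮.presheaf.obj (op (U : Y.Opens))) = 0 := by
            simpa using congrArg (𝒮.str.app (op (U : Y.Opens))).hom h1
          calc f = f * 1 := (mul_one f).symm
            _ = 0 := by rw [h2, mul_zero]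
        · haveI := (hint U U.2 h).1
          exact IsReduced.eq_zero f hn
      exact isReduced_of_isOpenImmersion (chart U U.2).hom
    exact @AlgebraicGeometry.IsReduced.of_openCover P
      (P.openCoverOfIsOpenCover _ (Groth.Agent.RelProjLib.iSup_preimage p)) fun U => this U
  -- the generic point of a chart
  have hgen : ∀ (U : Y.Opens) (hU : IsAffineOpen U), (U : Set Y).Nonempty →
      ∃ η : Proj (𝒮.deg U hU), ∀ O : (Proj (𝒮.deg U hU)).Opens, (O : Set (Proj (𝒮.deg U hU))).Nonempty → η ∈ O := by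
    intro U hU hne
    obtain ⟨hdom, hirr⟩ := hint U hU hne
    let η : ProjectiveSpectrum (𝒮.deg U hU) := ⟨⊥, Ideal.isPrime_bot, fun h => hirr (by
      rw [eq_bot_iff]; exact h)⟩
    refine ⟨η, fun O ⟨x, hx⟩ => ?_⟩
    obtain ⟨-, ⟨f, rfl⟩, hxf, hfO⟩ :=
      (ProjectiveSpectrum.isTopologicalBasis_basic_opens (𝒮.deg U hU)).exists_subset_of_mem_open hx O.2
    refine hfO ?_
    intro h
    have h' : f = 0 := h
    exact hxf (h' ▸ zero_mem _)
  have hmeet : ∀ (U : Y.Opens) (hU : IsAffineOpen U), (U : Set Y).Nonempty →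
      ∃ x ∈ p ⁻¹ᵁ U, ∀ O : P.Opens, (∃ y ∈ O, y ∈ p ⁻¹ᵁ U) → x ∈ O := by
    intro U hU hne
    obtain ⟨η, hη⟩ := hgen U hU hne
    refine ⟨((chart U hU).inv η).1, ((chart U hU).inv η).2, fun O ⟨y, hyO, hyU⟩ => ?_⟩
    refine hη ((chart U hU).inv ⁻¹ᵁ ((p ⁻¹ᵁ U).ι ⁻¹ᵁ O)) ⟨(chart U hU).hom ⟨y, hyU⟩, ?_⟩
    change ((chart U hU).inv ((chart U hU).hom ⟨y, hyU⟩)).1 ∈ O
    rw [← Scheme.Hom.comp_apply, Iso.hom_inv_id]
    exact hyO
  have hdense : DenseRange p.base := by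
    rw [DenseRange, dense_iff_inter_open]
    rintro O hO ⟨s, hs⟩
    obtain ⟨W, hW, hsW, hWO⟩ := exists_isAffineOpen_mem_and_subset (x := s) (U := ⟨O, hO⟩) hs
    obtain ⟨x, hx, -⟩ := hmeet W hW ⟨s, hsW⟩
    exact ⟨p.base x, hWO hx, ⟨x, rfl⟩⟩
  haveI : Nonempty P := by
    obtain ⟨s⟩ := (inferInstance : Nonempty Y)
    obtain ⟨W, hW, hsW, -⟩ := exists_isAffineOpen_mem_and_subset (x := s) (U := ⊤) trivial
    obtain ⟨x, -⟩ := hmeet W hW ⟨s, hsW⟩
    exact ⟨x⟩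
  haveI : IrreducibleSpace P := by
    refine { toPreirreducibleSpace := ⟨?_⟩, toNonempty := inferInstance }
    rintro O₁ O₂ h₁ h₂ ⟨y₁, -, hy₁⟩ ⟨y₂, -, hy₂⟩
    obtain ⟨U₁, hU₁, hyU₁, -⟩ := exists_isAffineOpen_mem_and_subset (x := p.base y₁) (U := ⊤) trivial
    obtain ⟨U₂, hU₂, hyU₂, -⟩ := exists_isAffineOpen_mem_and_subset (x := p.base y₂) (U := ⊤) trivial
    obtain ⟨s, hs⟩ := nonempty_preirreducible_inter U₁.2 U₂.2 ⟨_, hyU₁⟩ ⟨_, hyU₂⟩
    obtain ⟨W, hW, hsW, hWle⟩ := exists_isAffineOpen_mem_and_subset (x := s) (U := U₁ ⊓ U₂) hs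
    obtain ⟨xW, hxW, hmaxW⟩ := hmeet W hW ⟨s, hsW⟩
    obtain ⟨x₁, hx₁, hmax₁⟩ := hmeet U₁ hU₁ ⟨_, hyU₁⟩
    obtain ⟨x₂, hx₂, hmax₂⟩ := hmeet U₂ hU₂ ⟨_, hyU₂⟩
    refine ⟨xW, trivial, ?_, ?_⟩
    · refine hmaxW ⟨O₁, h₁⟩ ⟨x₁, hmax₁ ⟨O₁, h₁⟩ ⟨y₁, hy₁, hyU₁⟩, ?_⟩
      exact hmax₁ (p ⁻¹ᵁ W) ⟨xW, hxW, (hWle hxW).1⟩
    · refine hmaxW ⟨O₂, h₂⟩ ⟨x₂, hmax₂ ⟨O₂, h₂⟩ ⟨y₂, hy₂, hyU₂⟩, ?_⟩
      exact hmax₂ (p ⁻¹ᵁ W) ⟨xW, hxW, (hWle hxW).2⟩
  exact ⟨isIntegral_of_irreducibleSpace_of_isReduced P, hdense⟩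

end Groth.Agent.S8264
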