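import Groth.Statements.S8265
import Groth.Agent.RelProjLib.Basic

set_option autoImplicit false
set_option linter.style.haveILetI false
set_option backward.isDefEq.respectTransparency false
universe u
open CategoryTheory CategoryTheory.Limits AlgebraicGeometry Opposite TopologicalSpace
open scoped HomogeneousIdeal
open EGA2

namespace Groth.Agent.S8265

/-- Let Y be an integral scheme and 𝒮 a quasi-coherent positively graded O_Y-algebra with 𝒮_0 = O_Y
which is essentially reduced (affine-locally, every nilpotent element of the irrelevant ideal of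
𝒮(U) vanishes). If Proj(𝒮) is integral and dominant over Y, then 𝒮 is integral: over every nonempty
affine open U, 𝒮(U) is an integral domain with nonzero irrelevant ideal (for Y integral, the
affine-local form of the stalkwise condition of the text). -/
theorem result {Y P : Scheme.{u}} [IsIntegral Y] (𝒮 : RelProj.QCGrAlg Y)
    (h0 : ∀ (U : Y.Opens) (hU : IsAffineOpen U), Function.Bijective (𝒮.strZero U hU).hom)
    (hred : ∀ (U : Y.Opens) (hU : IsAffineOpen U) (x : 𝒮.presheaf.obj (op U)),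
      x ∈ (𝒮.deg U hU)₊ → IsNilpotent x → x = 0)
    (p : P ⟶ Y)
    (chart : ∀ (U : Y.Opens) (hU : IsAffineOpen U), (((p ⁻¹ᵁ U : P.Opens) : Scheme.{u}) ≅ Proj (𝒮.deg U hU)))
    (hP : RelProj.IsRelProj 𝒮 p chart) [IsIntegral P] (hdom : DenseRange p.base)
    (U : Y.Opens) (hU : IsAffineOpen U) (hne : (U : Set Y).Nonempty) :
    IsDomain (𝒮.presheaf.obj (op U)) ∧ ((𝒮.deg U hU)₊).toIdeal ≠ ⊥ := by
  classical
  set 𝒜 := 𝒮.deg U hU
  haveI : Nonempty U := ⟨⟨hne.some, hne.some_mem⟩⟩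
  have hstr : ∀ a ∈ 𝒜 0, ∃ c : Γ(Y, U), (𝒮.str.app (op U)).hom c = a := fun a ha => by
    obtain ⟨c, hc⟩ := (h0 U hU).2 ⟨a, ha⟩
    exact ⟨c, congrArg Subtype.val hc⟩
  have hnil : ∀ (n : ℕ) (b : 𝒮.presheaf.obj (op U)), 0 < n → b ∈ 𝒜 n →
      (∀ y : Proj 𝒜, b ∈ y.asHomogeneousIdeal) → b = 0 := by
    intro n b hn hb hy
    have hirr : b ∈ (𝒜₊).toIdeal := Groth.Agent.ProjRed.mem_irrelevant hn hb
    refine hred U hU b hirr ?_
    rw [← mem_nilradical, nilradical_eq_sInf, Submodule.mem_sInf]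
    intro P hP
    by_contra hbP
    exact hbP (Ideal.toIdeal_homogeneousCore_le 𝒜 P (hy ⟨Ideal.homogeneousCore 𝒜 P,
      Ideal.IsPrime.homogeneousCore (𝒜 := 𝒜) hP,
      fun hle => hbP (Ideal.toIdeal_homogeneousCore_le 𝒜 P (hle hirr))⟩))
  -- points over a nonempty open of `U`
  have hpt : ∀ c : Γ(Y, U), c ≠ 0 → ∀ (n : ℕ) (b : 𝒮.presheaf.obj (op U)), 0 < n → b ∈ 𝒜 n →
      (∃ y : Proj 𝒜, b ∉ y.asHomogeneousIdeal) →
      ∃ y : Proj 𝒜, b ∉ y.asHomogeneousIdeal ∧ (𝒮.str.app (op U)).hom c ∉ y.asHomogeneousIdeal := by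
    intro c hc n b hn hb ⟨y₀, hy₀⟩
    have hD : (Y.basicOpen c : Set Y).Nonempty := by
      rw [Set.nonempty_iff_ne_empty]
      intro h
      exact hc ((basicOpen_eq_bot_iff c).1 (TopologicalSpace.Opens.coe_inj.1 (by simpa using h)))
    obtain ⟨x₁, hx₁⟩ := hdom.exists_mem_open (Y.basicOpen c).2 hD
    have hO : IsOpen (((p ⁻¹ᵁ U).ι ''ᵁ ((chart U hU).hom ⁻¹ᵁ Proj.basicOpen 𝒜 b) : P.Opens) : Set P) :=
      Opens.isOpen _
    obtain ⟨x, hxb, hxc⟩ := nonempty_preirreducible_inter hO (p ⁻¹ᵁ Y.basicOpen c).2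
      ⟨_, (chart U hU).inv y₀, by
        change (chart U hU).hom ((chart U hU).inv y₀) ∈ Proj.basicOpen 𝒜 b
        rw [← Scheme.Hom.comp_apply, Iso.inv_hom_id]
        exact hy₀, rfl⟩ ⟨x₁, hx₁⟩
    obtain ⟨⟨x', hx'U⟩, hx', rfl⟩ := hxb
    refine ⟨(chart U hU).hom ⟨x', hx'U⟩, hx', fun hmem => ?_⟩
    have hover := congr(($(hP.chart_over U hU)) ⟨x', hx'U⟩)
    simp only [Scheme.Hom.comp_apply] at hover
    have hxc' : hU.fromSpec (Spec.map (𝒮.strZero U hU)
        (Proj.toSpecZero 𝒜 ((chart U hU).hom ⟨x', hx'U⟩))) ∈ Y.basicOpen c := by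
      rw [hover]; exact hxc
    obtain ⟨d, g, hd, hg, hgy⟩ := Groth.Agent.ProjRed.exists_not_mem ((chart U hU).hom ⟨x', hx'U⟩)
    obtain ⟨q, hq⟩ : (chart U hU).hom ⟨x', hx'U⟩ ∈ Set.range (Proj.awayι 𝒜 g hg hd) := by
      rw [← Scheme.Hom.coe_opensRange, Proj.opensRange_awayι]
      exact hgy
    rw [← hq] at hxc' hmem
    have hq' : q ∈ (Proj.awayι 𝒜 g hg hd ≫ Proj.toSpecZero 𝒜 ≫ Spec.map (𝒮.strZero U hU) ≫
        hU.fromSpec) ⁻¹ᵁ Y.basicOpen c := hxc'
    rw [Proj.awayι_toSpecZero_assoc, ← Spec.map_comp_assoc, Scheme.Hom.comp_preimage,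
      hU.fromSpec_preimage_basicOpen] at hq'
    refine hq' ?_
    have hcd : (𝒮.str.app (op U)).hom c * g ∈ 𝒜 d := by
      simpa using SetLike.mul_mem_graded (𝒮.str_mem U hU c) hg
    have hg2 : q ∉ Proj.awayι 𝒜 g hg hd ⁻¹ᵁ Proj.basicOpen 𝒜 ((𝒮.str.app (op U)).hom c * g) :=
      fun h => h (Ideal.mul_mem_right _ _ hmem)
    rw [Proj.awayι_preimage_basicOpen 𝒜 hg hd hcd hd] at hg2
    have hg3 : HomogeneousLocalization.Away.isLocalizationElem hg hcd ∈
        (q : PrimeSpectrum (HomogeneousLocalization.Away 𝒜 g)).asIdeal := not_not.1 hg2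
    refine (q : PrimeSpectrum (HomogeneousLocalization.Away 𝒜 g)).isPrime.mem_of_pow_mem d ?_
    convert hg3 using 1
    ext
    change (HomogeneousLocalization.fromZeroRingHom 𝒜 _ ((𝒮.strZero U hU).hom c) ^ d).val = _
    rw [HomogeneousLocalization.val_pow, HomogeneousLocalization.Away.val_mk]
    change Localization.mk ((𝒮.str.app (op U)).hom c) 1 ^ d = _
    rw [Localization.mk_pow, Localization.mk_eq_mk_iff, Localization.r_iff_exists]
    exact ⟨1, by simp [mul_pow]; ring⟩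
  haveI : IsDomain Γ(Y, U) := inferInstance
  haveI : Nontrivial (𝒮.presheaf.obj (op U)) := by
    refine ⟨⟨1, 0, fun h => one_ne_zero (α := Γ(Y, U)) ((h0 U hU).1 (Subtype.ext ?_))⟩⟩
    change (𝒮.str.app (op U)).hom 1 = (𝒮.str.app (op U)).hom 0
    rw [map_one, map_zero, h]
  have hprime : (⊥ : Ideal (𝒮.presheaf.obj (op U))).IsPrime := by
    refine (Ideal.IsHomogeneous.bot 𝒜).isPrime_of_homogeneous_mem_or_mem bot_ne_top ?_
    rintro a b ⟨i, ha⟩ ⟨j, hb⟩ hab
    simp only [Ideal.mem_bot] at hab ⊢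
    have step : ∀ (a b : 𝒮.presheaf.obj (op U)) (j : ℕ), a ∈ 𝒜 0 → 0 < j → b ∈ 𝒜 j → a * b = 0 →
        a = 0 ∨ b = 0 := by
      intro a b j ha hj hb hab
      obtain ⟨c, rfl⟩ := hstr a ha
      by_cases hc : c = 0
      · exact Or.inl (by rw [hc, map_zero])
      refine Or.inr (hnil j b hj hb fun y => ?_)
      by_contra hy
      obtain ⟨y', hy'b, hy'c⟩ := hpt c hc j b hj hb ⟨y, hy⟩
      exact (y'.isPrime.mem_or_mem (show (𝒮.str.app (op U)).hom c * b ∈ y'.asHomogeneousIdeal.toIdeal by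
        rw [hab]; exact zero_mem _)).elim hy'c hy'b
    rcases Nat.eq_zero_or_pos i with rfl | hi
    · rcases Nat.eq_zero_or_pos j with rfl | hj
      · obtain ⟨c, rfl⟩ := hstr a ha
        obtain ⟨e, rfl⟩ := hstr b hb
        have : c * e = 0 := (h0 U hU).1 (Subtype.ext (by
          change (𝒮.str.app (op U)).hom (c * e) = (𝒮.str.app (op U)).hom 0
          rw [map_mul, map_zero, hab]))
        rcases mul_eq_zero.1 this with h | h <;> simp [h]
      · exact step a b j ha hj hb hab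
    · rcases Nat.eq_zero_or_pos j with rfl | hj
      · exact (step b a i hb hi ha (by rw [mul_comm, hab])).symm
      · by_contra! hne'
        obtain ⟨ha0, hb0⟩ := hne'
        obtain ⟨y₁, hy₁⟩ : ∃ y : Proj 𝒜, a ∉ y.asHomogeneousIdeal := by
          by_contra! h; exact ha0 (hnil i a hi ha h)
        obtain ⟨y₂, hy₂⟩ : ∃ y : Proj 𝒜, b ∉ y.asHomogeneousIdeal := by
          by_contra! h; exact hb0 (hnil j b hj hb h)
        let O : 𝒮.presheaf.obj (op U) → P.Opens := fun g =>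
          (p ⁻¹ᵁ U).ι ''ᵁ ((chart U hU).hom ⁻¹ᵁ Proj.basicOpen 𝒜 g)
        have hOne : ∀ g, (∃ y : Proj 𝒜, g ∉ y.asHomogeneousIdeal) → ((O g : Set P)).Nonempty :=
          fun g ⟨y, hy⟩ => ⟨_, (chart U hU).inv y, by
            change (chart U hU).hom ((chart U hU).inv y) ∈ Proj.basicOpen 𝒜 g
            rw [← Scheme.Hom.comp_apply, Iso.inv_hom_id]
            exact hy, rfl⟩
        obtain ⟨x, hxa, hxb⟩ := nonempty_preirreducible_inter (O a).2 (O b).2
          (hOne a ⟨y₁, hy₁⟩) (hOne b ⟨y₂, hy₂⟩)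
        obtain ⟨xa, hxa', rfl⟩ := hxa
        obtain ⟨xb, hxb', hxe⟩ := hxb
        obtain rfl : xb = xa := (p ⁻¹ᵁ U).ι.isOpenEmbedding.injective hxe
        exact (((chart U hU).hom xb).isPrime.mem_or_mem (show a * b ∈ ((chart U hU).hom xb).asHomogeneousIdeal.toIdeal by
          rw [hab]; exact zero_mem _)).elim hxa' hxb'
  refine ⟨IsDomain.of_bot_isPrime _, fun h => ?_⟩
  obtain ⟨x₁, hx₁⟩ := hdom.exists_mem_open U.2 hne
  refine ((chart U hU).hom ⟨x₁, hx₁⟩).not_irrelevant_le fun z hz => ?_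
  have hz' : z ∈ (𝒮.deg U hU)₊.toIdeal := hz
  rw [h, Ideal.mem_bot] at hz'
  rw [hz']
  exact zero_mem _

end Groth.Agent.S8265
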