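import Groth.Statements.S8266
import Groth.Agent.RelProjLib.Basic

set_option autoImplicit false
set_option linter.style.haveILetI false
set_option backward.isDefEq.respectTransparency false
universe u
open CategoryTheory CategoryTheory.Limits AlgebraicGeometry Opposite TopologicalSpace
open scoped HomogeneousIdeal
open EGA2

namespace Groth.Agent.S8266

/-- If the quasi-coherent positively graded O_Y-algebra 𝒮 is essentially reduced (affine-locally, no
nonzero nilpotent element in the irrelevant ideal), then Proj(𝒮) is reduced. -/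
theorem result {Y P : Scheme.{u}} (𝒮 : RelProj.QCGrAlg Y)
    (hred : ∀ (U : Y.Opens) (hU : IsAffineOpen U) (x : 𝒮.presheaf.obj (op U)),
      x ∈ (𝒮.deg U hU)₊ → IsNilpotent x → x = 0)
    (p : P ⟶ Y)
    (chart : ∀ (U : Y.Opens) (hU : IsAffineOpen U), (((p ⁻¹ᵁ U : P.Opens) : Scheme.{u}) ≅ Proj (𝒮.deg U hU)))
    (hP : RelProj.IsRelProj 𝒮 p chart) : IsReduced P := by
  haveI : ∀ U : Y.affineOpens, AlgebraicGeometry.IsReduced ((p ⁻¹ᵁ (U : Y.Opens) : P.Opens) : Scheme.{u}) := fun U => by
    haveI : AlgebraicGeometry.IsReduced (Proj (𝒮.deg U U.2)) :=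
      Groth.Agent.ProjRed.isReduced fun f hf hn => hred U U.2 f hf hn
    exact isReduced_of_isOpenImmersion (chart U U.2).hom
  exact @AlgebraicGeometry.IsReduced.of_openCover P
    (P.openCoverOfIsOpenCover _ (Groth.Agent.RelProjLib.iSup_preimage p)) fun U => this U

end Groth.Agent.S8266
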