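import Groth.Statements.S8269
import Groth.Agent.RelSpecLib.SymData
import Groth.Agent.RelSpecLib.Gen
import Groth.Agent.RelSpecLib.Basic
import Groth.Agent.SpecQCAlg.Basic
import Groth.Agent.ProjBundleLib.DegOne
import Groth.Agent.ProjBundleLib.FTSub

set_option autoImplicit false
universe u
open CategoryTheory CategoryTheory.Limits AlgebraicGeometry Opposite TopologicalSpace
open EGA2

namespace Groth.Agent.S8269

/-- Let Y be either a quasi-compact separated scheme or a scheme with Noetherian underlying space, and X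
affine and of finite type over Y. Then X is Y-isomorphic to a closed subscheme of a vector bundle
V(E) with E a quasi-coherent O_Y-module of finite type: there are such an E, its symmetric algebra
A, and a closed immersion X → Spec(A) over Y. -/
theorem result {X Y : Scheme.{u}}
    (hY : (CompactSpace Y ∧ Y.IsSeparated) ∨ NoetherianSpace Y) (f : X ⟶ Y) [IsAffineHom f]
    [LocallyOfFiniteType f] :
    ∃ (E : Y.Modules) (_ : Coh.IsCoh E) (A : RelSpec.QCAlg Y) (j : E ⟶ A.toModule)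
      (_ : RelSpec.IsSymAlg E A j) (i : X ⟶ A.spec), IsClosedImmersion i ∧ i ≫ A.π = f := by
  classical
  have hqs : CompactSpace Y ∧ QuasiSeparatedSpace Y := by
    rcases hY with ⟨h1, h2⟩ | h
    · exact ⟨h1, inferInstance⟩
    · exact ⟨inferInstance, inferInstance⟩
  haveI := hqs.1
  haveI := hqs.2
  obtain ⟨t, ht⟩ := isCompact_univ.elim_finite_subcover
    (fun V : Y.affineOpens => ((V : Y.Opens) : Set Y)) (fun V => V.1.isOpen) fun y _ => by
      obtain ⟨_, ⟨V, hV, rfl⟩, hy, -⟩ :=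
        Y.isBasis_affineOpens.exists_subset_of_mem_open (Set.mem_univ y) isOpen_univ
      exact Set.mem_iUnion.mpr ⟨⟨V, hV⟩, hy⟩
  have hgen : ∀ V : Y.affineOpens, ∃ S : Finset Γ(X, f ⁻¹ᵁ V.1), ∀ R : Subring Γ(X, f ⁻¹ᵁ V.1),
      (∀ r, (f.app V.1).hom r ∈ R) → (∀ b ∈ S, b ∈ R) → R = ⊤ := fun V => by
    have h := HasRingHomProperty.appLE (P := @LocallyOfFiniteType) f inferInstance V
      ⟨f ⁻¹ᵁ V.1, V.2.preimage f⟩ le_rfl
    rw [Scheme.Hom.appLE_eq_app] at h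
    letI := (f.app V.1).hom.toAlgebra
    haveI : Algebra.FiniteType Γ(Y, V.1) Γ(X, f ⁻¹ᵁ V.1) := h
    obtain ⟨c, hc⟩ := (Algebra.FiniteType.out : (⊤ : Subalgebra Γ(Y, V.1) Γ(X, f ⁻¹ᵁ V.1)).FG)
    refine ⟨c, fun R h1 h2 => eq_top_iff.mpr fun z _ => ?_⟩
    exact (Algebra.adjoin_le (S := { R with algebraMap_mem' := h1 }) fun w hw => h2 w hw)
      (hc ▸ Algebra.mem_top : z ∈ Algebra.adjoin Γ(Y, V.1) (c : Set Γ(X, f ⁻¹ᵁ V.1)))
  choose S hS using hgen
  let F := RelSpec.QCAlg.directImage f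
  haveI : Coh.IsQCoh F.toModule := ProjBundleLib.isQCoh_toModule F
  obtain ⟨E, i, hE, hft, -, hmem⟩ := ProjBundleLib.exists_ft_through (M := F.toModule)
    (ι := Σ V : t, {b // b ∈ S V.1}) (fun k => k.1.1.1) (fun k => k.1.1.2) (fun k => k.2.1)
  have hA := RelSpecLib.isSymAlg_symAlg E
  let A := RelSpecLib.symAlg E
  obtain ⟨ψ, hψ, -⟩ := hA F i
  let j := RelSpecLib.lift A f ψ.hom
  have hj : j ≫ A.π = f := RelSpecLib.lift_π A f ψ.hom ψ.comm
  refine ⟨E, ⟨hE, hft⟩, A, RelSpecLib.symJ E, hA, j, ?_, hj⟩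
  refine IsZariskiLocalAtTarget.of_iSup_eq_top (fun V : t => A.π ⁻¹ᵁ V.1.1) ?_ fun V => ?_
  · refine eq_top_iff.mpr fun z _ => ?_
    obtain ⟨V, hV, hz⟩ := Set.mem_iUnion₂.mp (ht (Set.mem_univ (A.π z)))
    exact Opens.mem_iSup.mpr ⟨⟨V, hV⟩, hz⟩
  have hpre : j ⁻¹ᵁ (A.π ⁻¹ᵁ V.1.1) = f ⁻¹ᵁ V.1.1 := by rw [← Scheme.Hom.comp_preimage, hj]
  haveI : IsAffine (A.π ⁻¹ᵁ V.1.1).toScheme := RelSpecLib.isAffineOpen_preimage A V.1.1 V.1.2
  haveI : IsAffine (j ⁻¹ᵁ (A.π ⁻¹ᵁ V.1.1)).toScheme := by rw [hpre]; exact V.1.2.preimage f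
  refine IsClosedImmersion.of_surjective_of_isAffine _ ?_
  haveI := SpecQCAlg.isIso_gammaAff A V.1.1 V.1.2
  have hψsur : Function.Surjective (ψ.hom.app (op V.1.1)).hom := by
    rw [← RingHom.range_eq_top]
    refine hS V.1 _ (fun r => ?_) fun b hb => ?_
    · exact ⟨(A.str.app (op V.1.1)).hom r,
        congrArg (fun p : Y.presheaf ⟶ F.presheaf => (p.app (op V.1.1)).hom r) ψ.comm⟩
    · obtain ⟨g, hg⟩ := hmem ⟨V, b, hb⟩
      refine ⟨RelSpecLib.jsec A (RelSpecLib.symJ E) g, Eq.trans ?_ hg⟩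
      exact congrArg (fun q : E ⟶ F.toModule => q.app V.1.1 g) hψ
  have hsur : Function.Surjective (j.appLE (A.π ⁻¹ᵁ V.1.1) (f ⁻¹ᵁ V.1.1) hpre.ge).hom := by
    have h := RelSpecLib.gammaAff_algMap A f j hj V.1.1 V.1.2
    rw [show RelSpecLib.algMap A f j hj = ψ.hom from RelSpecLib.algMap_lift A f ψ.hom ψ.comm] at h
    rw [← h]
    exact hψsur.comp (ConcreteCategory.bijective_of_isIso (A.gammaAff V.1.1 V.1.2)).2
  have hgenW : ∀ (W : A.spec.Opens) (e : f ⁻¹ᵁ V.1.1 = j ⁻¹ᵁ W), W = A.π ⁻¹ᵁ V.1.1 →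
      Function.Surjective (j.app W) := fun W e hW => by
    subst hW
    intro z
    obtain ⟨w, hw⟩ := hsur ((X.presheaf.map (eqToHom e).op).hom z)
    refine ⟨w, (ConcreteCategory.bijective_of_isIso (X.presheaf.map (eqToHom e).op)).1 (hw ▸ ?_)⟩
    rw [Scheme.Hom.appLE, CommRingCat.comp_apply]
    rfl
  rw [morphismRestrict_appTop]
  refine (ConcreteCategory.bijective_of_isIso (X.presheaf.map _)).2.comp ?_
  refine hgenW _ ?_ (Scheme.Opens.ι_image_top _)
  rw [Scheme.Opens.ι_image_top, hpre]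

end Groth.Agent.S8269
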