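import Groth.Statements.S8271
import Groth.Agent.RelSpecLib.Basic

set_option autoImplicit false
set_option linter.style.haveILetI false
set_option backward.isDefEq.respectTransparency false
universe u
open CategoryTheory CategoryTheory.Limits AlgebraicGeometry Opposite TopologicalSpace
open EGA2

namespace Groth.Agent.S8271

/-- For quasi-coherent O_S-modules E and F, the vector bundle V(E ⊕ F) is identified with V(E) ×_S V(F):
with A_E, A_F, A the symmetric algebras of E, F, E ⊕ F and ψ_E : A_E → A, ψ_F : A_F → A the algebra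
maps extending the inclusions of the two summands, the square formed by Spec(A) → Spec(A_E), Spec(A)
→ Spec(A_F) and the two structure morphisms to S is a pullback square. -/
theorem result {S : Scheme.{u}} (E F : S.Modules) (hE : Coh.IsQCoh E) (hF : Coh.IsQCoh F)
    (AE AF A : RelSpec.QCAlg S) (jE : E ⟶ AE.toModule) (jF : F ⟶ AF.toModule) (j : E ⊞ F ⟶ A.toModule)
    (hAE : RelSpec.IsSymAlg E AE jE) (hAF : RelSpec.IsSymAlg F AF jF) (hA : RelSpec.IsSymAlg (E ⊞ F) A j)
    (ψE : AE ⟶ A) (ψF : AF ⟶ A)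
    (hψE : jE ≫ RelSpec.QCAlg.Hom.toModuleMap ψE = biprod.inl ≫ j)
    (hψF : jF ≫ RelSpec.QCAlg.Hom.toModuleMap ψF = biprod.inr ≫ j) :
    IsPullback (RelSpec.QCAlg.specMap ψE) (RelSpec.QCAlg.specMap ψF) AE.π AF.π := by
  let a := RelSpec.QCAlg.specMap ψE
  let b := RelSpec.QCAlg.specMap ψF
  let p := pullback.fst AE.π AF.π
  let q := pullback.snd AE.π AF.π
  let πP : pullback AE.π AF.π ⟶ S := p ≫ AE.π
  have hq : q ≫ AF.π = πP := pullback.condition.symm
  let ωE : AE ⟶ RelSpec.QCAlg.directImage πP :=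
    ⟨Groth.Agent.RelSpecLib.algMap AE πP p rfl, Groth.Agent.RelSpecLib.str_algMap _ _ _ _⟩
  let ωF : AF ⟶ RelSpec.QCAlg.directImage πP :=
    ⟨Groth.Agent.RelSpecLib.algMap AF πP q hq, Groth.Agent.RelSpecLib.str_algMap _ _ _ _⟩
  obtain ⟨ψ, hψ, -⟩ := hA (RelSpec.QCAlg.directImage πP)
    (biprod.desc (jE ≫ RelSpec.QCAlg.Hom.toModuleMap ωE) (jF ≫ RelSpec.QCAlg.Hom.toModuleMap ωF))
  have hE' : ψE ≫ ψ = ωE := (hAE _ (jE ≫ RelSpec.QCAlg.Hom.toModuleMap ωE)).unique (by
    rw [Groth.Agent.RelSpecLib.toModuleMap_comp, reassoc_of% hψE, hψ, biprod.inl_desc]) rfl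
  have hF' : ψF ≫ ψ = ωF := (hAF _ (jF ≫ RelSpec.QCAlg.Hom.toModuleMap ωF)).unique (by
    rw [Groth.Agent.RelSpecLib.toModuleMap_comp, reassoc_of% hψF, hψ, biprod.inr_desc]) rfl
  let r := Groth.Agent.RelSpecLib.lift A πP ψ.hom
  have hr : r ≫ A.π = πP := Groth.Agent.RelSpecLib.lift_π A πP ψ.hom ψ.comm
  have hra : r ≫ a = p := by
    show r ≫ RelSpec.QCAlg.specMap ψE = p
    rw [Groth.Agent.RelSpecLib.lift_specMap, ← RelSpec.QCAlg.comp_hom, hE']
    exact Groth.Agent.RelSpecLib.lift_algMap AE πP p rfl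
  have hrb : r ≫ b = q := by
    show r ≫ RelSpec.QCAlg.specMap ψF = q
    rw [Groth.Agent.RelSpecLib.lift_specMap, ← RelSpec.QCAlg.comp_hom, hF']
    exact Groth.Agent.RelSpecLib.lift_algMap AF πP q hq
  have hw : a ≫ AE.π = b ≫ AF.π := by
    show RelSpec.QCAlg.specMap ψE ≫ AE.π = RelSpec.QCAlg.specMap ψF ≫ AF.π
    rw [RelSpec.QCAlg.specMap_π, RelSpec.QCAlg.specMap_π]
  let m := pullback.lift a b hw
  have hma : m ≫ p = a := pullback.lift_fst _ _ _
  have hmb : m ≫ q = b := pullback.lift_snd _ _ _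
  have hmπ : m ≫ πP = A.π := by
    show m ≫ p ≫ AE.π = A.π
    rw [reassoc_of% hma]
    exact RelSpec.QCAlg.specMap_π ψE
  have hmr : m ≫ r = 𝟙 A.spec := by
    refine Groth.Agent.RelSpecLib.ext_over A A.π (by rw [Category.assoc, hr, hmπ]) (Category.id_comp _) ?_
    rw [Groth.Agent.RelSpecLib.algMap_comp A πP A.π r hr m hmπ,
      Groth.Agent.RelSpecLib.algMap_lift A πP ψ.hom ψ.comm]
    let η : RelSpec.QCAlg.directImage πP ⟶ RelSpec.QCAlg.directImage A.π :=
      ⟨AffAlg.algHom πP A.π m hmπ, AffAlg.algHom_comm _ _ _ _⟩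
    refine congrArg RelSpec.QCAlg.Hom.hom (show ψ ≫ η = Groth.Agent.RelSpecLib.unitHom A from ?_)
    refine (hA _ (j ≫ RelSpec.QCAlg.Hom.toModuleMap (Groth.Agent.RelSpecLib.unitHom A))).unique ?_ rfl
    have hEη : ωE ≫ η = ψE ≫ Groth.Agent.RelSpecLib.unitHom A := by
      apply RelSpec.QCAlg.hom_ext
      show Groth.Agent.RelSpecLib.algMap AE πP p rfl ≫ AffAlg.algHom πP A.π m hmπ = _
      rw [← Groth.Agent.RelSpecLib.algMap_comp AE πP A.π p rfl m hmπ]
      simp only [hma]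
      have h := Groth.Agent.RelSpecLib.algMap_specMap A.π ψE (𝟙 _) (Category.id_comp _)
      simp only [Category.id_comp] at h
      exact h
    have hFη : ωF ≫ η = ψF ≫ Groth.Agent.RelSpecLib.unitHom A := by
      apply RelSpec.QCAlg.hom_ext
      show Groth.Agent.RelSpecLib.algMap AF πP q hq ≫ AffAlg.algHom πP A.π m hmπ = _
      rw [← Groth.Agent.RelSpecLib.algMap_comp AF πP A.π q hq m hmπ]
      simp only [hmb]
      have h := Groth.Agent.RelSpecLib.algMap_specMap A.π ψF (𝟙 _) (Category.id_comp _)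
      simp only [Category.id_comp] at h
      exact h
    rw [Groth.Agent.RelSpecLib.toModuleMap_comp, reassoc_of% hψ]
    apply biprod.hom_ext'
    · rw [biprod.inl_desc_assoc, Category.assoc, ← Groth.Agent.RelSpecLib.toModuleMap_comp, hEη,
        Groth.Agent.RelSpecLib.toModuleMap_comp, reassoc_of% hψE]
    · rw [biprod.inr_desc_assoc, Category.assoc, ← Groth.Agent.RelSpecLib.toModuleMap_comp, hFη,
        Groth.Agent.RelSpecLib.toModuleMap_comp, reassoc_of% hψF]
  have hrm : r ≫ m = 𝟙 _ := by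
    apply pullback.hom_ext
    · rw [Category.assoc, Category.id_comp]
      exact (congrArg (r ≫ ·) hma).trans hra
    · rw [Category.assoc, Category.id_comp]
      exact (congrArg (r ≫ ·) hmb).trans hrb
  exact IsPullback.of_iso_pullback ⟨hw⟩ ⟨m, r, hmr, hrm⟩ hma hmb

end Groth.Agent.S8271
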