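import Groth.Statements.S8272
import Mathlib

set_option autoImplicit false
set_option linter.style.haveILetI false
set_option linter.unusedVariables false
set_option backward.isDefEq.respectTransparency false
universe u
open CategoryTheory CategoryTheory.Limits AlgebraicGeometry Opposite TopologicalSpace
open EGA2

namespace Groth.Agent.S8272

/-- Let T be a positively graded ring, Z = Proj T and g ∈ T_d (d > 0) a homogeneous element that is not
a zero divisor in T. Then Z is the smallest closed subscheme of Z containing the open D_+(g);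
equivalently the kernel (ideal sheaf) of the open immersion D_+(g) → Z vanishes. -/
theorem result {R A : Type u} [CommRing R] [CommRing A] [Algebra R A]
    (𝒜 : ℕ → Submodule R A) [GradedAlgebra 𝒜] {d : ℕ} (hd : 0 < d) (g : A) (hg : g ∈ 𝒜 d)
    (hnz : g ∈ nonZeroDivisors A) :
    (Proj.basicOpen 𝒜 g).ι.ker = ⊥ := by
  classical
  set i := (Proj.basicOpen 𝒜 g).ι
  haveI : QuasiCompact i := by
    haveI : CompactSpace ((Proj.basicOpen 𝒜 g : (Proj 𝒜).Opens) : Scheme.{u}) :=
      isCompact_iff_compactSpace.mp (Proj.isAffineOpen_basicOpen 𝒜 g hg hd).isCompact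
    infer_instance
  refine Scheme.IdealSheafData.ext_of_iSup_eq_top
    (fun s : (Σ e : PNat, 𝒜 e) => ⟨(Proj.awayι 𝒜 (s.2 : A) s.2.2 s.1.2).opensRange, isAffineOpen_opensRange _⟩) ?_ ?_
  · refine top_le_iff.mp fun x _ => ?_
    obtain ⟨s, w, hw⟩ : ∃ s : Σ e : PNat, 𝒜 e, ∃ w, Proj.awayι 𝒜 (s.2 : A) s.2.2 s.1.2 w = x :=
      (Proj.affineOpenCover 𝒜).openCover.exists_eq x
    exact Opens.mem_iSup.mpr ⟨s, w, hw⟩
  · rintro ⟨e, a, ha⟩
    simp only [Scheme.Hom.ker_apply, Scheme.IdealSheafData.ideal_bot, Pi.bot_apply]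
    refine (RingHom.injective_iff_ker_eq_bot _).mp ((injective_iff_map_eq_zero _).mpr fun s hs => ?_)
    let ek := Proj.awayι 𝒜 a ha e.2
    let k := IsOpenImmersion.lift i (Proj.awayι 𝒜 (a * g) (SetLike.mul_mem_graded ha hg) (Nat.add_pos_left e.2 _)) (by
      rw [Scheme.Opens.range_ι]
      rintro _ ⟨w, rfl⟩
      have h : Proj.awayι 𝒜 (a * g) (SetLike.mul_mem_graded ha hg) (Nat.add_pos_left e.2 _) w ∈ Proj.basicOpen 𝒜 (a * g) := by
        rw [← Proj.opensRange_awayι 𝒜 (a * g) (SetLike.mul_mem_graded ha hg) (Nat.add_pos_left e.2 _)]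
        exact ⟨w, rfl⟩
      rw [Proj.basicOpen_mul] at h
      exact h.2)
    let m := Spec.map (CommRingCat.ofHom (HomogeneousLocalization.awayMap 𝒜 hg (show a * g = a * g from rfl))) ≫ ek
    have hmk : m = k ≫ i := by
      simp only [m, k, ek]
      rw [IsOpenImmersion.lift_fac, Proj.SpecMap_awayMap_awayι]
    have hle : ⊤ ≤ m ⁻¹ᵁ ek.opensRange := fun w _ => ⟨_, rfl⟩
    have h0 : m.appLE ek.opensRange ⊤ hle s = 0 := by
      simp only [hmk]
      rw [Scheme.Hom.comp_appLE, CommRingCat.comp_apply]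
      exact (congrArg _ hs).trans (map_zero _)
    change (Spec.map _ ≫ ek).appLE _ _ _ s = 0 at h0
    rw [← Scheme.Hom.appLE_comp_appLE _ ek ek.opensRange ⊤ ⊤ (fun w _ => ⟨w, rfl⟩) le_top,
      CommRingCat.comp_apply] at h0
    have hinj : Function.Injective (Spec.map (CommRingCat.ofHom
        (HomogeneousLocalization.awayMap 𝒜 hg (show a * g = a * g from rfl)))).appTop := by
      have hf : Function.Injective (HomogeneousLocalization.awayMap 𝒜 hg (show a * g = a * g from rfl)) := by
        refine (injective_iff_map_eq_zero _).mpr fun q hq => ?_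
        obtain ⟨n, b, hb, rfl⟩ := HomogeneousLocalization.Away.mk_surjective _ ha q
        have hq' := congrArg HomogeneousLocalization.val hq
        erw [HomogeneousLocalization.val_awayMap_mk] at hq'
        rw [HomogeneousLocalization.val_zero, Localization.mk_eq_mk', IsLocalization.mk'_eq_zero_iff] at hq'
        obtain ⟨⟨_, l, rfl⟩, hl⟩ := hq'
        refine HomogeneousLocalization.val_injective _ ?_
        rw [HomogeneousLocalization.Away.val_mk, HomogeneousLocalization.val_zero, Localization.mk_eq_mk',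
          IsLocalization.mk'_eq_zero_iff]
        refine ⟨⟨a ^ l, l, rfl⟩, ?_⟩
        have h1 : a ^ l * b * g ^ (l + n) = 0 := by
          refine Eq.trans ?_ hl
          show a ^ l * b * g ^ (l + n) = (a * g) ^ l * (b * g ^ n)
          rw [mul_pow, pow_add]
          ring
        exact (mul_right_mem_nonZeroDivisors_eq_zero_iff (pow_mem hnz _)).mp h1
      intro u₁ u₂ hab
      have hn := Scheme.ΓSpecIso_naturality (CommRingCat.ofHom (HomogeneousLocalization.awayMap 𝒜 hg (show a * g = a * g from rfl)))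
      have h1 := congrArg (fun t => t u₁) hn
      have h2 := congrArg (fun t => t u₂) hn
      erw [CommRingCat.comp_apply, CommRingCat.comp_apply] at h1 h2
      erw [hab] at h1
      exact (ConcreteCategory.bijective_of_isIso (Scheme.ΓSpecIso _).hom).1 (hf (h1.symm.trans h2))
    have h1 := hinj (a₁ := ek.appLE ek.opensRange ⊤ (fun w _ => ⟨w, rfl⟩) s) (a₂ := 0) ((by
      rw [Scheme.Hom.appTop, Scheme.Hom.app_eq_appLE]; exact h0.trans (map_zero _).symm))
    have hiso : IsIso (ek.appLE ek.opensRange ⊤ (fun w _ => ⟨w, rfl⟩)) := by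
      have gen : ∀ (O : (Proj 𝒜).Opens) (hO : O = ek ''ᵁ ⊤) (hle : ⊤ ≤ ek ⁻¹ᵁ O), IsIso (ek.appLE O ⊤ hle) := by
        rintro _ rfl hle
        rw [← Scheme.Hom.appIso_hom']
        infer_instance
      exact gen _ ek.image_top_eq_opensRange.symm _
    exact (ConcreteCategory.bijective_of_isIso (ek.appLE ek.opensRange ⊤ (fun w _ => ⟨w, rfl⟩))).1
      (h1.trans (map_zero _).symm)

end Groth.Agent.S8272
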