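import Groth.Statements.S8273
import Groth.Agent.RelProjLib.Basic

set_option autoImplicit false
set_option linter.style.haveILetI false
set_option backward.isDefEq.respectTransparency false
universe u
open CategoryTheory CategoryTheory.Limits AlgebraicGeometry Opposite TopologicalSpace
open scoped HomogeneousIdeal
open EGA2

namespace Groth.Agent.S8273

/-- Uniqueness of the relative homogeneous spectrum: two schemes over Y equipped with the chart data of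
Proj(𝒮) are related by a unique morphism compatible with the charts (chartwise the identity of Proj
𝒮(U)), and that morphism is a Y-isomorphism. -/
theorem result {Y P P' : Scheme.{u}} (𝒮 : RelProj.QCGrAlg Y) (p : P ⟶ Y)
    (chart : ∀ (U : Y.Opens) (hU : IsAffineOpen U), (((p ⁻¹ᵁ U : P.Opens) : Scheme.{u}) ≅ Proj (𝒮.deg U hU)))
    (hP : RelProj.IsRelProj 𝒮 p chart) (p' : P' ⟶ Y)
    (chart' : ∀ (U : Y.Opens) (hU : IsAffineOpen U), (((p' ⁻¹ᵁ U : P'.Opens) : Scheme.{u}) ≅ Proj (𝒮.deg U hU)))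
    (hP' : RelProj.IsRelProj 𝒮 p' chart') :
    (∃! e : P ⟶ P', ∀ (U : Y.Opens) (hU : IsAffineOpen U),
        (p ⁻¹ᵁ U).ι ≫ e = (chart U hU).hom ≫ (chart' U hU).inv ≫ (p' ⁻¹ᵁ U).ι) ∧
      ∀ e : P ⟶ P', (∀ (U : Y.Opens) (hU : IsAffineOpen U),
        (p ⁻¹ᵁ U).ι ≫ e = (chart U hU).hom ≫ (chart' U hU).inv ≫ (p' ⁻¹ᵁ U).ι) → IsIso e ∧ e ≫ p' = p := by
  have hφ : RelProj.IsGradedHom (𝒜 := 𝒮) (ℬ := 𝒮) (𝟙 𝒮.toQCAlg) := fun U hU d x hx => hx
  have hid : ∀ (U : Y.Opens) (hU : IsAffineOpen U),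
      RelProj.gradedHomAt (𝒜 := 𝒮) (ℬ := 𝒮) (𝟙 𝒮.toQCAlg) hφ U hU = GradedRingHom.id (𝒮.deg U hU) :=
    fun U hU => GradedRingHom.ext fun x => rfl
  have hirr : ∀ (U : Y.Opens) (hU : IsAffineOpen U),
      (𝒮.deg U hU)₊ ≤ ((𝒮.deg U hU)₊).map (RelProj.gradedHomAt (𝟙 𝒮.toQCAlg) hφ U hU) := fun U hU => by
    rw [hid]; simp
  have hmap : ∀ (U : Y.Opens) (hU : IsAffineOpen U),
      Proj.map (RelProj.gradedHomAt (𝟙 𝒮.toQCAlg) hφ U hU) (hirr U hU) = 𝟙 _ := fun U hU => by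
    simp only [hid]; exact Proj.map_id
  have hiff : ∀ e : P ⟶ P', RelProj.IsRelProjMap (𝒜 := 𝒮) (ℬ := 𝒮) (𝟙 𝒮.toQCAlg) hφ hirr chart' chart e ↔
      ∀ (U : Y.Opens) (hU : IsAffineOpen U),
        (p ⁻¹ᵁ U).ι ≫ e = (chart U hU).hom ≫ (chart' U hU).inv ≫ (p' ⁻¹ᵁ U).ι := by
    intro e
    unfold RelProj.IsRelProjMap
    simp only [hmap, Category.id_comp]
  constructor
  · obtain ⟨h, hh, huniq⟩ := Groth.Agent.RelProjLib.existsUnique_map (hφ := hφ) (hirr := hirr) hP' hP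
    exact ⟨h, (hiff h).1 hh, fun y hy => huniq y ((hiff y).2 hy)⟩
  · intro e he
    refine ⟨Groth.Agent.RelProjLib.of_charts_map hP' hP ((hiff e).2 he)
      (MorphismProperty.isomorphisms Scheme.{u}) fun U hU => ?_,
      Groth.Agent.RelProjLib.comp_eq hP' hP ((hiff e).2 he)⟩
    show IsIso _
    rw [hmap]
    infer_instance

end Groth.Agent.S8273
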