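import Groth.Statements.S8277
import Groth.Agent.GrNatLib.Basic

set_option autoImplicit false
set_option linter.style.haveILetI false
set_option backward.isDefEq.respectTransparency false
universe u
open EGA2

namespace Groth.Agent.S8277

/-- For a positively graded ring S, the graded ring S♮ with S♮_n = S_{≥ n} = ⊕_{m ≥ n} S_m (presented
here as a graded ring S' with an injective algebra homomorphism φ : S' → S[X] carrying S'_n onto
S_{≥ n}·X^n for every n, so that S'_0 is identified with S), and n₀ ≥ 0: S♮_{n+1} = S♮_1 S♮_n for n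
≥ n₀ if and only if S_{n+1} = S_1 S_n for n ≥ n₀. -/
theorem result {R A B : Type u} [CommRing R] [CommRing A] [Algebra R A]
    (𝒜 : ℕ → Submodule R A) [GradedAlgebra 𝒜] [CommRing B] [Algebra R B] (ℬ : ℕ → Submodule R B) [GradedAlgebra ℬ]
    (φ : B →ₐ[R] Polynomial A) (hφ : Function.Injective φ)
    (hdeg : ∀ n : ℕ, Submodule.map φ.toLinearMap (ℬ n) =
      Submodule.map ((Polynomial.monomial n : A →ₗ[A] Polynomial A).restrictScalars R) (⨆ (m : ℕ) (_ : n ≤ m), 𝒜 m)) (n₀ : ℕ) :
    (∀ n : ℕ, n₀ ≤ n → ℬ (n + 1) = ℬ 1 * ℬ n) ↔ (∀ n : ℕ, n₀ ≤ n → 𝒜 (n + 1) = 𝒜 1 * 𝒜 n) := by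
  classical
  open Groth.Agent.GrNatLib in
  constructor
  · intro h n hn
    refine le_antisymm (fun a ha => ?_) (Submodule.mul_le.2 fun x hx y hy => by
      rw [add_comm]; exact SetLike.mul_mem_graded hx hy)
    obtain ⟨b, hb, hba⟩ := exists_of_ge hdeg (mem_ge_of_mem ha le_rfl)
    rw [h n hn] at hb
    have key : ∀ b ∈ ℬ 1 * ℬ n, (DirectSum.decompose 𝒜 ((φ b).coeff (1 + n)) (1 + n) : A) ∈ 𝒜 1 * 𝒜 n := by
      intro b hb
      induction hb using Submodule.mul_induction_on' with
      | mem_mul_mem x hx y hy =>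
        obtain ⟨u, hu, hxu⟩ := exists_of_mem hdeg hx
        obtain ⟨v, hv, hyv⟩ := exists_of_mem hdeg hy
        rw [map_mul, hxu, hyv, Polynomial.monomial_mul_monomial, Polynomial.coeff_monomial, if_pos rfl,
          decompose_mul_ge hu hv]
        exact Submodule.mul_mem_mul (SetLike.coe_mem _) (SetLike.coe_mem _)
      | add x _ y _ hx hy =>
        rw [map_add, Polynomial.coeff_add, DirectSum.decompose_add, DirectSum.add_apply, Submodule.coe_add]
        exact add_mem hx hy
    have := key b hb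
    rw [hba, add_comm 1 n, Polynomial.coeff_monomial, if_pos rfl, DirectSum.decompose_of_mem_same 𝒜 ha] at this
    exact this
  · intro h n hn
    refine le_antisymm (fun b hb => ?_) (Submodule.mul_le.2 fun x hx y hy => by
      rw [add_comm]; exact SetLike.mul_mem_graded hx hy)
    obtain ⟨a, ha, hba⟩ := exists_of_mem hdeg hb
    suffices Polynomial.monomial (n + 1) a ∈ Submodule.map φ.toLinearMap (ℬ 1 * ℬ n) by
      obtain ⟨b', hb', e⟩ := this
      rwa [hφ (hba.trans e.symm)]
    have hle : ge 𝒜 (n + 1) ≤ (Submodule.map φ.toLinearMap (ℬ 1 * ℬ n)).comap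
        ((Polynomial.monomial (n + 1) : A →ₗ[A] Polynomial A).restrictScalars R) := by
      refine iSup₂_le fun m hm x hx => ?_
      obtain ⟨k, rfl⟩ : ∃ k, m = k + 1 := ⟨m - 1, by omega⟩
      rw [h k (by omega)] at hx
      induction hx using Submodule.mul_induction_on' with
      | mem_mul_mem u hu v hv =>
        obtain ⟨bu, hbu, eu⟩ := exists_of_ge hdeg (mem_ge_of_mem hu le_rfl)
        obtain ⟨bv, hbv, ev⟩ := exists_of_ge hdeg (mem_ge_of_mem hv (show n ≤ k by omega))
        refine ⟨bu * bv, Submodule.mul_mem_mul hbu hbv, ?_⟩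
        show φ (bu * bv) = Polynomial.monomial (n + 1) (u * v)
        rw [map_mul, eu, ev, Polynomial.monomial_mul_monomial, add_comm 1 n]
      | add x _ y _ hx hy => exact add_mem hx hy
    exact hle ha

end Groth.Agent.S8277
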