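import Groth.Statements.S8278
import Groth.Agent.GrNatLib.Basic

set_option autoImplicit false
set_option linter.style.haveILetI false
set_option backward.isDefEq.respectTransparency false
universe u
open EGA2

namespace Groth.Agent.S8278

lemma pow_one_le {R A : Type u} [CommRing R] [CommRing A] [Algebra R A] (𝒜 : ℕ → Submodule R A)
    [GradedAlgebra 𝒜] (n : ℕ) : 𝒜 1 ^ n ≤ 𝒜 n := by
  induction n with
  | zero =>
    rw [pow_zero, Submodule.one_eq_span, Submodule.span_le, Set.singleton_subset_iff]
    exact SetLike.GradedOne.one_mem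
  | succ n ih =>
    rw [pow_succ, Submodule.mul_le]
    exact fun x hx y hy => SetLike.mul_mem_graded (ih hx) hy

/-- For a positively graded ring S, the graded ring S♮ with S♮_n = S_{≥ n} = ⊕_{m ≥ n} S_m (presented
here as a graded ring S' with an injective algebra homomorphism φ : S' → S[X] carrying S'_n onto
S_{≥ n}·X^n for every n, so that S'_0 is identified with S), and n₀ ≥ 1: S♮_n = (S♮_1)^n for n ≥ n₀
if and only if S_n = (S_1)^n for n ≥ n₀. (n₀ ≥ 1 because the zeroth power of a submodule is the span
of 1, not the degree-zero part.) -/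
theorem result {R A B : Type u} [CommRing R] [CommRing A] [Algebra R A]
    (𝒜 : ℕ → Submodule R A) [GradedAlgebra 𝒜] [CommRing B] [Algebra R B] (ℬ : ℕ → Submodule R B) [GradedAlgebra ℬ]
    (φ : B →ₐ[R] Polynomial A) (hφ : Function.Injective φ)
    (hdeg : ∀ n : ℕ, Submodule.map φ.toLinearMap (ℬ n) =
      Submodule.map ((Polynomial.monomial n : A →ₗ[A] Polynomial A).restrictScalars R) (⨆ (m : ℕ) (_ : n ≤ m), 𝒜 m)) (n₀ : ℕ) (hn₀ : 1 ≤ n₀) :
    (∀ n : ℕ, n₀ ≤ n → ℬ n = ℬ 1 ^ n) ↔ (∀ n : ℕ, n₀ ≤ n → 𝒜 n = 𝒜 1 ^ n) := by
  classical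
  open Groth.Agent.GrNatLib in
  constructor
  · intro h n hn
    refine le_antisymm (fun a ha => ?_) ?_
    · obtain ⟨b, hb, hba⟩ := exists_of_ge hdeg (mem_ge_of_mem ha le_rfl)
      rw [h n hn] at hb
      have key : ∀ k, ∀ b ∈ ℬ 1 ^ k, (φ b).coeff k ∈ ge 𝒜 k ∧ φ b = Polynomial.monomial k ((φ b).coeff k) ∧
          (DirectSum.decompose 𝒜 ((φ b).coeff k) k : A) ∈ 𝒜 1 ^ k := by
        intro k
        induction k with
        | zero =>
          intro b hb
          rw [pow_zero, Submodule.mem_one] at hb
          obtain ⟨r, rfl⟩ := hb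
          rw [AlgHom.commutes, Polynomial.algebraMap_apply, Polynomial.coeff_C_zero]
          refine ⟨ge_zero _, by simp, ?_⟩
          rw [DirectSum.decompose_of_mem_same 𝒜 (SetLike.algebraMap_mem_graded 𝒜 r), pow_zero, Submodule.mem_one]
          exact ⟨r, rfl⟩
        | succ k ih =>
          intro b hb
          rw [pow_succ] at hb
          induction hb using Submodule.mul_induction_on' with
          | mem_mul_mem x hx y hy =>
            obtain ⟨hu, hxu, hxm⟩ := ih x hx
            obtain ⟨v, hv, hyv⟩ := exists_of_mem hdeg hy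
            have e : φ (x * y) = Polynomial.monomial (k + 1) ((φ x).coeff k * v) := by
              rw [map_mul, hyv]
              conv_lhs => rw [hxu]
              rw [Polynomial.monomial_mul_monomial]
            rw [e, Polynomial.coeff_monomial, if_pos rfl, decompose_mul_ge hu hv, pow_succ]
            exact ⟨mul_mem_ge hu hv, rfl, Submodule.mul_mem_mul hxm (SetLike.coe_mem _)⟩
          | add x _ y _ hx hy =>
            refine ⟨?_, ?_, ?_⟩
            · rw [map_add, Polynomial.coeff_add]; exact add_mem hx.1 hy.1
            · rw [map_add, Polynomial.coeff_add, map_add, ← hx.2.1, ← hy.2.1]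
            · rw [map_add, Polynomial.coeff_add, DirectSum.decompose_add, DirectSum.add_apply,
                Submodule.coe_add]
              exact add_mem hx.2.2 hy.2.2
      have := (key n b hb).2.2
      rwa [hba, Polynomial.coeff_monomial, if_pos rfl, DirectSum.decompose_of_mem_same 𝒜 ha] at this
    · exact pow_one_le 𝒜 n
  · intro h n hn
    refine le_antisymm (fun b hb => ?_) ?_
    · obtain ⟨a, ha, hba⟩ := exists_of_mem hdeg hb
      suffices Polynomial.monomial n a ∈ Submodule.map φ.toLinearMap (ℬ 1 ^ n) by
        obtain ⟨b', hb', e⟩ := this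
        rwa [hφ (hba.trans e.symm)]
      have hle : ge 𝒜 n ≤ (Submodule.map φ.toLinearMap (ℬ 1 ^ n)).comap
          ((Polynomial.monomial n : A →ₗ[A] Polynomial A).restrictScalars R) := by
        refine iSup₂_le fun m hm x hx => ?_
        obtain ⟨j, rfl⟩ : ∃ j, m = j + n := ⟨m - n, by omega⟩
        have key : ∀ k, 1 ≤ k → ∀ u ∈ 𝒜 1 ^ k, ∀ v ∈ ge 𝒜 0,
            Polynomial.monomial k (u * v) ∈ Submodule.map φ.toLinearMap (ℬ 1 ^ k) := by
          intro k hk
          induction k, hk using Nat.le_induction with
          | base =>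
            intro u hu v hv
            rw [pow_one] at hu
            have h' : u * v ∈ ge 𝒜 1 := mul_mem_ge (m := 1) (n := 0) (mem_ge_of_mem (n := 1) hu le_rfl) hv
            obtain ⟨b, hb, e⟩ := exists_of_ge hdeg h' 
            exact ⟨b, by simpa using hb, e⟩
          | succ k _ ih =>
            intro u hu v hv
            rw [pow_succ] at hu
            induction hu using Submodule.mul_induction_on' with
            | mem_mul_mem p hp q hq =>
              obtain ⟨bp, hbp, ep⟩ := ih p hp v hv
              obtain ⟨bq, hbq, eq⟩ := exists_of_ge hdeg (mem_ge_of_mem hq le_rfl)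
              refine ⟨bp * bq, by rw [pow_succ]; exact Submodule.mul_mem_mul hbp hbq, ?_⟩
              show φ (bp * bq) = _
              rw [map_mul, eq, show φ bp = Polynomial.monomial k (p * v) from ep,
                Polynomial.monomial_mul_monomial, mul_right_comm]
            | add p _ q _ hp hq =>
              rw [add_mul, map_add]
              exact add_mem hp hq
        rw [h (j + n) (by omega), pow_add] at hx
        induction hx using Submodule.mul_induction_on' with
        | mem_mul_mem p hp q hq =>
          rw [Submodule.mem_comap, mul_comm p q]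
          exact key n (by omega) q hq p (ge_zero p)
        | add p _ q _ hp hq => exact add_mem hp hq
      exact hle ha
    · exact pow_one_le ℬ n

end Groth.Agent.S8278
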