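import Groth.Statements.S8281
import Groth.Agent.RelSpecLib.Basic

set_option autoImplicit false
set_option linter.style.haveILetI false
set_option backward.isDefEq.respectTransparency false
universe u
open CategoryTheory CategoryTheory.Limits AlgebraicGeometry Opposite TopologicalSpace
open EGA2

namespace Groth.Agent.S8281

/-- Let q : S' → S be a morphism, B and B' quasi-coherent algebras over O_S and O_{S'}, and u : B →
q_*B' a q-morphism (compatible with the structure maps). Then u induces a unique morphism v =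
Spec(u) : Spec(B') → Spec(B) which on the charts over affine opens U ⊆ S, U' ⊆ q⁻¹(U) is Spec of the
ring map B(U) → B'(U') given by u and restriction; it lies over q. -/
theorem result {S S' : Scheme.{u}} (q : S' ⟶ S) (B : RelSpec.QCAlg S)
    (B' : RelSpec.QCAlg S') (u : B.presheaf ⟶ q.base _* B'.presheaf)
    (hu : B.str ≫ u = q.c ≫ (TopCat.Presheaf.pushforward CommRingCat.{u} q.base).map B'.str) :
    (∃! v : B'.spec ⟶ B.spec,
        ∀ (U : S.Opens) (hU : IsAffineOpen U) (U' : S'.Opens) (hU' : IsAffineOpen U') (hle : U' ≤ q ⁻¹ᵁ U),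
          B'.ι U' hU' ≫ v =
            Spec.map ((u.app (op U) : B.presheaf.obj (op U) ⟶ B'.presheaf.obj (op (q ⁻¹ᵁ U))) ≫
              B'.presheaf.map (homOfLE hle).op) ≫ B.ι U hU) ∧
      ∀ v : B'.spec ⟶ B.spec,
        (∀ (U : S.Opens) (hU : IsAffineOpen U) (U' : S'.Opens) (hU' : IsAffineOpen U') (hle : U' ≤ q ⁻¹ᵁ U),
          B'.ι U' hU' ≫ v =
            Spec.map ((u.app (op U) : B.presheaf.obj (op U) ⟶ B'.presheaf.obj (op (q ⁻¹ᵁ U))) ≫
              B'.presheaf.map (homOfLE hle).op) ≫ B.ι U hU) →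
        v ≫ B.π = B'.π ≫ q := by
  haveI := Groth.Agent.SpecQCAlg.isIso_gammaMap B'
  let ω : B.presheaf ⟶ (B'.π ≫ q).base _* B'.spec.presheaf :=
    u ≫ (TopCat.Presheaf.pushforward CommRingCat.{u} q.base).map (inv B'.gammaMap)
  have hω : B.str ≫ ω = (B'.π ≫ q).c := by
    have h1 : B'.str ≫ inv B'.gammaMap = B'.π.c := by
      rw [IsIso.comp_inv_eq, B'.π_c_gammaMap]
    change B.str ≫ u ≫ _ = _
    rw [reassoc_of% hu, ← Functor.map_comp, h1]
    rfl
  let v₀ := Groth.Agent.RelSpecLib.lift B (B'.π ≫ q) ω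
  have hv₀ : ∀ (U : S.Opens) (hU : IsAffineOpen U) (U' : S'.Opens) (hU' : IsAffineOpen U') (hle : U' ≤ q ⁻¹ᵁ U),
      B'.ι U' hU' ≫ v₀ =
        Spec.map ((u.app (op U) : B.presheaf.obj (op U) ⟶ B'.presheaf.obj (op (q ⁻¹ᵁ U))) ≫
          B'.presheaf.map (homOfLE hle).op) ≫ B.ι U hU := by
    intro U hU U' hU' hle
    have hle' : B'.π ⁻¹ᵁ U' ≤ (B'.π ≫ q) ⁻¹ᵁ U := B'.π.preimage_mono hle
    rw [Groth.Agent.RelSpecLib.ι_eq B' U' hU', IsAffineOpen.fromSpec,
      ← Scheme.homOfLE_ι _ hle']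
    simp only [Category.assoc]
    rw [Groth.Agent.RelSpecLib.ι_lift B (B'.π ≫ q) ω U hU, Groth.Agent.RelSpecLib.homOn,
      ← reassoc_of% Scheme.Opens.toSpecΓ_SpecMap_presheaf_map, IsAffineOpen.isoSpec_inv_toSpecΓ_assoc]
    rw [← Spec.map_comp_assoc, ← Spec.map_comp_assoc]
    congr 2
    have hn := B'.gammaMap.naturality (homOfLE hle).op
    rw [B'.gammaMap_app U' hU'] at hn
    have hi : (inv B'.gammaMap).app (op (q ⁻¹ᵁ U)) ≫ B'.gammaMap.app (op (q ⁻¹ᵁ U)) = 𝟙 _ := by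
      rw [← NatTrans.comp_app, IsIso.inv_hom_id, NatTrans.id_app]
    change (u.app (op U) ≫ (inv B'.gammaMap).app (op (q ⁻¹ᵁ U))) ≫ _ ≫ _ = _
    rw [Category.assoc]
    congr 1
    erw [hn]
    rw [reassoc_of% hi]
  have hext : ∀ v v' : B'.spec ⟶ B.spec,
      (∀ (U : S.Opens) (hU : IsAffineOpen U) (U' : S'.Opens) (hU' : IsAffineOpen U') (hle : U' ≤ q ⁻¹ᵁ U),
        B'.ι U' hU' ≫ v = B'.ι U' hU' ≫ v') → v = v' := by
    intro v v' H
    refine Scheme.Cover.hom_ext (B'.spec.openCoverOfIsOpenCover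
      (fun W : {W : S'.affineOpens // ∃ U : S.affineOpens, (W : S'.Opens) ≤ q ⁻¹ᵁ (U : S.Opens)} =>
        B'.π ⁻¹ᵁ (W.1 : S'.Opens)) ?_) _ _ ?_
    · refine top_le_iff.mp fun x _ => ?_
      obtain ⟨U, hU, hxU, -⟩ := exists_isAffineOpen_mem_and_subset (U := (⊤ : S.Opens))
        (show q (B'.π x) ∈ (⊤ : S.Opens) from trivial)
      obtain ⟨W, hW, hxW, hWle⟩ := exists_isAffineOpen_mem_and_subset (U := q ⁻¹ᵁ U)
        (show B'.π x ∈ q ⁻¹ᵁ U from hxU)
      exact Opens.mem_iSup.mpr ⟨⟨⟨W, hW⟩, ⟨⟨U, hU⟩, hWle⟩⟩, hxW⟩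
    · rintro ⟨⟨W, hW⟩, ⟨U, hU⟩, hle⟩
      have h := H U hU W hW hle
      rw [Groth.Agent.RelSpecLib.ι_eq B' W hW, IsAffineOpen.fromSpec] at h
      simp only [Category.assoc] at h
      haveI : IsIso (B'.gammaAff W hW) := Groth.Agent.SpecQCAlg.isIso_gammaAff B' W hW
      rw [cancel_epi, cancel_epi] at h
      exact h
  refine ⟨⟨v₀, hv₀, fun v hv => hext v v₀ fun U hU U' hU' hle => ?_⟩, fun v hv => ?_⟩
  · rw [hv U hU U' hU' hle, hv₀ U hU U' hU' hle]
  · rw [hext v v₀ fun U hU U' hU' hle => by rw [hv U hU U' hU' hle, hv₀ U hU U' hU' hle]]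
    exact Groth.Agent.RelSpecLib.lift_π B _ ω hω

end Groth.Agent.S8281
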