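import Groth.Statements.S8282
import Groth.Agent.DegOneGenLib.Eventually
import Groth.Agent.GrTildeLib.Basic
-- import your own Groth.Agent.* helpers here

set_option autoImplicit false
universe u
open CategoryTheory CategoryTheory.Limits AlgebraicGeometry
open EGA2

namespace Groth.Agent.S8282

/-- Let T be a positively graded ring which is a T_0-algebra of finite type, and T' = ⊕_n T_1^n → T the
injective graded homomorphism from the subalgebra generated by T_1 (T' presented as a graded ring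
with φ : T' → T injective, bijective in degrees 0 and 1, and T'_n = (T'_1)^n for n ≥ 1). If the
morphism of homogeneous spectra induced by φ is everywhere defined (its domain G(φ) is the whole of
Proj T) and is an isomorphism onto Proj T', then there is n₀ with T_n = T_1^n for all n ≥ n₀. -/
theorem result {R A B : Type u} [CommRing R] [CommRing A] [Algebra R A]
    (𝒜 : ℕ → Submodule R A) [GradedAlgebra 𝒜] [CommRing B] [Algebra R B] (ℬ : ℕ → Submodule R B) [GradedAlgebra ℬ]
    [Algebra.FiniteType (ℬ 0) B] (φ : 𝒜 →+*ᵍ ℬ) (hφ : Function.Injective φ)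
    (h0 : Set.BijOn φ (𝒜 0) (ℬ 0)) (h1 : Set.BijOn φ (𝒜 1) (ℬ 1))
    (hgen : ∀ n : ℕ, 1 ≤ n → 𝒜 n = 𝒜 1 ^ n)
    (hdom : PCone.dom φ = ⊤)
    (p : (PCone.dom φ : Scheme.{u}) ⟶ Proj 𝒜)
    (hp : ∀ (d : ℕ) (f : A) (hd : 0 < d) (hf : f ∈ 𝒜 d),
      PCone.chart φ hf hd ≫ p =
        Spec.map (CommRingCat.ofHom (HomogeneousLocalization.Away.map φ f)) ≫ Proj.awayι 𝒜 f hf hd)
    [IsIso p] :
    ∃ n₀ : ℕ, ∀ n : ℕ, n₀ ≤ n → ℬ n = ℬ 1 ^ n := by
  classical
  have hpre : ∀ (e : ℕ) (g : A), 0 < e → g ∈ 𝒜 e →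
      p ⁻¹ᵁ Proj.basicOpen 𝒜 g = (PCone.dom φ).ι ⁻¹ᵁ Proj.basicOpen ℬ (φ g) := by
    intro e g he hg
    refine TopologicalSpace.Opens.ext (Set.ext fun x => ?_)
    obtain ⟨⟨f, d, hd, hf⟩, hx⟩ := TopologicalSpace.Opens.mem_iSup.mp x.2
    obtain ⟨q, hq⟩ : x.1 ∈ Set.range (Proj.awayι ℬ (φ f) (φ.2 hf) hd) := by
      rw [← Scheme.Hom.coe_opensRange, Proj.opensRange_awayι]
      exact hx
    have hqx : PCone.chart φ hf hd q = x := by
      refine (PCone.dom φ).ι.isOpenEmbedding.injective ?_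
      rw [← Scheme.Hom.comp_apply, PCone.chart, IsOpenImmersion.lift_fac]
      exact hq
    subst hqx
    change q ∈ (PCone.chart φ hf hd ≫ p) ⁻¹ᵁ Proj.basicOpen 𝒜 g ↔
      q ∈ (PCone.chart φ hf hd ≫ (PCone.dom φ).ι) ⁻¹ᵁ Proj.basicOpen ℬ (φ g)
    rw [hp, PCone.chart, IsOpenImmersion.lift_fac, Scheme.Hom.comp_preimage,
      Proj.awayι_preimage_basicOpen 𝒜 hf hd hg he]
    erw [Proj.awayι_preimage_basicOpen ℬ (φ.2 hf) hd (φ.2 hg) he]
    change HomogeneousLocalization.Away.map φ f (HomogeneousLocalization.Away.isLocalizationElem hf hg) ∉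
        (q : PrimeSpectrum (HomogeneousLocalization.Away ℬ (φ f))).asIdeal ↔ _
    rw [HomogeneousLocalization.Away.map_mk]
    have : φ (g ^ d) = φ g ^ d := map_pow φ.toRingHom g d
    simp only [this]
    rfl
  have hbij : ∀ a ∈ 𝒜 1, Function.Bijective (HomogeneousLocalization.Away.map φ a) := fun a ha => by
    let c := PCone.chart φ ha one_pos
    let o := Proj.awayι 𝒜 a ha one_pos
    haveI : IsOpenImmersion (c ≫ (PCone.dom φ).ι) := by
      rw [show c ≫ (PCone.dom φ).ι = _ from IsOpenImmersion.lift_fac _ _ _]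
      infer_instance
    haveI : IsOpenImmersion c := IsOpenImmersion.of_comp _ (PCone.dom φ).ι
    have hc : Set.range c = (p ⁻¹ᵁ Proj.basicOpen 𝒜 a : (PCone.dom φ : Scheme.{u}).Opens) := by
      rw [hpre 1 a one_pos ha]
      refine Set.ext fun x => ⟨?_, fun hx => ?_⟩
      · rintro ⟨q, rfl⟩
        show (c ≫ (PCone.dom φ).ι) q ∈ Proj.basicOpen ℬ (φ a)
        rw [show c ≫ (PCone.dom φ).ι = _ from IsOpenImmersion.lift_fac _ _ _, ← Proj.opensRange_awayι ℬ (φ a) (φ.2 ha) one_pos]
        exact ⟨q, rfl⟩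
      · have hx' : (PCone.dom φ).ι x ∈ Proj.basicOpen ℬ (φ a) := hx
        rw [← Proj.opensRange_awayι ℬ (φ a) (φ.2 ha) one_pos] at hx'
        obtain ⟨q, hq⟩ := hx'
        refine ⟨q, (PCone.dom φ).ι.isOpenEmbedding.injective ?_⟩
        rw [← Scheme.Hom.comp_apply, show c ≫ (PCone.dom φ).ι = _ from IsOpenImmersion.lift_fac _ _ _]
        exact hq
    have hr : Set.range (c ≫ p) = Set.range o := by
      rw [show Set.range o = ((Proj.basicOpen 𝒜 a : (Proj 𝒜).Opens) : Set (Proj 𝒜)) by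
          rw [← Proj.opensRange_awayι 𝒜 a ha one_pos]; rfl,
        Scheme.Hom.comp_base, TopCat.coe_comp, Set.range_comp, hc]
      have hps : Function.Surjective p := fun y => ⟨inv p y, by rw [← Scheme.Hom.comp_apply, IsIso.inv_hom_id]; rfl⟩
      exact Set.image_preimage_eq ((Proj.basicOpen 𝒜 a : (Proj 𝒜).Opens) : Set (Proj 𝒜)) hps
    let e := IsOpenImmersion.isoOfRangeEq (c ≫ p) o hr
    have h1 : Spec.map (CommRingCat.ofHom (HomogeneousLocalization.Away.map φ a)) = e.hom := by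
      rw [← cancel_mono o, IsOpenImmersion.isoOfRangeEq_hom_fac, hp 1 a one_pos ha]
    have h2 : IsIso (Spec.map (CommRingCat.ofHom (HomogeneousLocalization.Away.map φ a))) := h1 ▸ inferInstance
    rw [isIso_SpecMap_iff] at h2
    exact h2
  refine Groth.Agent.DegOneGenLib.eventually_eq_pow ?_ ?_
  · have hpow : ∀ d, ∀ a ∈ 𝒜 1 ^ (d + 1), φ a ∈ Ideal.span (ℬ 1 : Set B) := fun d a ha => by
      rw [pow_succ] at ha
      refine Submodule.mul_induction_on ha (fun x _ y hy => ?_) fun x y hx hy => ?_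
      · rw [map_mul]; exact Ideal.mul_mem_left _ _ (Ideal.subset_span (φ.2 hy))
      · rw [map_add]; exact add_mem hx hy
    refine (HomogeneousIdeal.toIdeal_irrelevant_le _).mpr fun i hi b hb => ?_
    refine Groth.Agent.GrTildeLib.mem_radical_of_forall_basicOpen ℬ
      ⟨_, Ideal.homogeneous_span _ _ fun z hz => ⟨1, hz⟩⟩ hi hb fun x hx hle => ?_
    obtain ⟨⟨f, d, hd, hf⟩, hfx⟩ := TopologicalSpace.Opens.mem_iSup.mp (hdom.ge (show x ∈ (⊤ : (Proj ℬ).Opens) from trivial))
    obtain ⟨d, rfl⟩ : ∃ d', d = d' + 1 := ⟨d - 1, by omega⟩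
    rw [hgen _ hd] at hf
    exact hfx (hle (hpow d f hf))
  · rintro f hf n b hb
    obtain ⟨a, ha, rfl⟩ := h1.surjOn hf
    obtain ⟨z, hz⟩ := (hbij a ha).2 (HomogeneousLocalization.Away.mk ℬ (φ.2 ha) n b (by simpa using hb))
    obtain ⟨k, c, hc, rfl⟩ := HomogeneousLocalization.Away.mk_surjective _ ha z
    have hv := congrArg HomogeneousLocalization.val hz
    rw [HomogeneousLocalization.Away.map_mk, HomogeneousLocalization.Away.val_mk, HomogeneousLocalization.Away.val_mk,
      Localization.mk_eq_mk_iff, Localization.r_iff_exists] at hv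
    obtain ⟨⟨_, M, rfl⟩, hM⟩ := hv
    have hmem : ∀ i, ∀ x ∈ 𝒜 1 ^ i, φ x ∈ (ℬ 1 ^ i : Submodule R B) ∨ i = 0 := by
      intro i
      induction i with
      | zero => exact fun _ _ => Or.inr rfl
      | succ i ih =>
        intro x hx
        refine Or.inl ?_
        rw [pow_succ] at hx ⊢
        refine Submodule.mul_induction_on hx (fun y hy w hw => ?_) fun y w hy hw => ?_
        · rw [map_mul]
          rcases ih y hy with h | rfl
          · exact Submodule.mul_mem_mul h (φ.2 hw)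
          · rw [pow_zero] at hy ⊢
            rw [one_mul, ← map_mul]
            obtain ⟨r, rfl⟩ := Submodule.mem_one.1 hy
            refine φ.2 ?_
            rw [← Algebra.smul_def]
            exact Submodule.smul_mem _ r hw
        · rw [map_add]; exact add_mem hy hw
    have hac : a * c ∈ 𝒜 1 ^ (k + 1) := by
      rw [← hgen _ (by omega), add_comm k 1]
      exact SetLike.mul_mem_graded ha (by simpa using hc)
    refine ⟨M + k + 1, ?_⟩
    have e1 : φ a ^ (M + k + 1) * b = φ a ^ (M + n) * φ (a * c) := by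
      simp only [map_mul] at hM ⊢
      linear_combination (- φ a) * hM
    rw [e1, show n + (M + k + 1) = (M + n) + (k + 1) by ring, pow_add]
    exact Submodule.mul_mem_mul (Submodule.pow_mem_pow _ (φ.2 ha) _) ((hmem _ _ hac).resolve_right (by omega))

end Groth.Agent.S8282
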