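import Groth.Statements.S8283
import Groth.Agent.SecFibreLib.Basic
import Groth.Agent.RegIdealLib.Immersion
import Groth.Agent.FlatLocus.FibreStalk

set_option autoImplicit false
universe u
open CategoryTheory CategoryTheory.Limits AlgebraicGeometry Opposite TopologicalSpace
open EGA2

namespace Groth.Agent.S8283

/-- Let π : V → X be locally of finite type and j : X → V a section of π that is a closed immersion with
invertible ideal sheaf. Then for every x ∈ X the local ring at j(x) of the fibre π⁻¹(π(j(x))) =
π⁻¹(x) is a regular local ring of dimension one, i.e. a discrete valuation ring (so j(x) lies on a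
single irreducible component of the fibre; the completion of that local ring is then a power-series
ring in one variable over the residue field of x). (The published statement assumes π of finite
type; this row assumes only that π is locally of finite type, which is all the proof uses: it needs
no more than the Noetherian property of the local rings of the fibre.) -/
theorem result {X V : Scheme.{u}} (π : V ⟶ X) [LocallyOfFiniteType π]
    (j : X ⟶ V) [IsClosedImmersion j] (hj : j ≫ π = 𝟙 X) (hJ : BlowUp.IsEffCartierIdeal j.ker) (x : X) :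
    ∃ _ : IsDomain ((π.fiber (π.base (j.base x))).presheaf.stalk (π.asFiber (j.base x))),
      IsDiscreteValuationRing ((π.fiber (π.base (j.base x))).presheaf.stalk (π.asFiber (j.base x))) := by
  obtain ⟨U, hU, f, hf, hfU⟩ := hJ (j.base x)
  let v := j.base x
  let z := π.asFiber v
  have hvz : π.fiberι (π.base v) z = v := π.fiberι_asFiber v
  let w := π.fiberι (π.base v) z
  let α := π.stalkMap w
  let ψ := (π.fiberι (π.base v)).stalkMap z
  haveI : LocallyOfFiniteType (π.fiberToSpecResidueField (π.base v)) := MorphismProperty.pullback_snd _ _ ‹_›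
  haveI : IsLocallyNoetherian (π.fiber (π.base v)) := LocallyOfFiniteType.isLocallyNoetherian (π.fiberToSpecResidueField (π.base v))
  have hwU : w ∈ U.1 := by show π.fiberι (π.base v) z ∈ U.1; rw [hvz]; exact hU
  -- the germ of the local equation
  letI : Algebra Γ(V, U.1) (V.presheaf.stalk w) := TopCat.Presheaf.algebra_section_stalk V.presheaf ⟨w, hwU⟩
  haveI := U.2.isLocalization_stalk ⟨w, hwU⟩
  let t := V.presheaf.germ U.1 w hwU f
  have ht : t ∈ nonZeroDivisors (V.presheaf.stalk w) :=
    IsLocalization.map_nonZeroDivisors_le (U.2.primeIdealOf ⟨w, hwU⟩).asIdeal.primeCompl (V.presheaf.stalk w) ⟨f, hf, rfl⟩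
  have hσ : RingHom.ker (j.stalkMap x).hom = Ideal.span {V.presheaf.germ U.1 (j.base x) hU f} := by
    rw [Groth.Agent.RegIdealLib.ker_stalkMap j U.2 (IsZariskiLocalAtTarget.restrict ‹_› _) x hU,
      ← Scheme.Hom.ker_apply, hfU, Ideal.map_span, Set.image_singleton]
  let σ : V.presheaf.stalk w ⟶ X.presheaf.stalk x := (V.presheaf.stalkCongr (.of_eq hvz)).hom ≫ j.stalkMap x
  have hσ' : RingHom.ker σ.hom = Ideal.span {t} := by
    have hg : (V.presheaf.stalkCongr (.of_eq hvz)).hom t = V.presheaf.germ U.1 (j.base x) hU f :=
      TopCat.Presheaf.germ_stalkSpecializes_apply V.presheaf hwU (specializes_of_eq hvz.symm) f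
    let e := (V.presheaf.stalkCongr (.of_eq hvz)).commRingCatIsoToRingEquiv
    rw [show σ.hom = (j.stalkMap x).hom.comp e.toRingHom from rfl, ← RingHom.comap_ker, hσ,
      show V.presheaf.germ U.1 (j.base x) hU f = e t from hg.symm,
      show Ideal.span {e t} = (Ideal.span {t}).map e.toRingHom by rw [Ideal.map_span, Set.image_singleton]; rfl]
    exact Ideal.comap_map_of_bijective e.toRingHom e.bijective
  have hiso : IsIso (α ≫ σ) := by
    haveI : IsIso ((j ≫ π).stalkMap x) := by rw [hj]; infer_instance
    have : α ≫ σ = (X.presheaf.stalkCongr (.of_eq (congrArg π.base hvz))).hom ≫ (j ≫ π).stalkMap x := by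
      rw [Scheme.Hom.stalkMap_comp, ← Category.assoc, ← Category.assoc]
      exact congrArg (· ≫ j.stalkMap x) (π.stalkMap_congr_point w v hvz)
    rw [this]; exact IsIso.comp_isIso' inferInstance ‹_›
  exact Groth.Agent.SecFibreLib.isDVR_fibre α.hom σ.hom (asIso (α ≫ σ)).commRingCatIsoToRingEquiv (fun a => rfl)
    t ht hσ' ψ.hom (Groth.Agent.FlatLocus.fiberι_stalkMap_surjective π _ z) (Groth.Agent.FlatLocus.ker_fiberι_stalkMap π _ z)

end Groth.Agent.S8283
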