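import Groth.Statements.S8288
import Groth.Agent.RelTildeLib.Trivial
import Groth.Agent.GrModLib.Twist

set_option autoImplicit false
universe u
open CategoryTheory CategoryTheory.Limits AlgebraicGeometry Opposite TopologicalSpace
open scoped HomogeneousIdeal
noncomputable section
open EGA2

namespace Groth.Agent.S8288

/-- For a global section f of 𝒮 of degree d > 0 and the open X_f of P = Proj(𝒮) it defines, the twisting
sheaf O_P(nd) restricted to X_f is isomorphic to the structure sheaf of X_f, for every integer n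
(existence of an isomorphism; the published identification is canonical). -/
theorem result {Y P : Scheme.{u}} (𝒮 : RelProj.QCGrAlg Y) (p : P ⟶ Y)
    (chart : ∀ (U : Y.Opens) (hU : IsAffineOpen U), (((p ⁻¹ᵁ U : P.Opens) : Scheme.{u}) ≅ Proj (𝒮.deg U hU)))
    (hP : RelProj.IsRelProj 𝒮 p chart) {d : ℕ} (hd : 0 < d) (f : 𝒮.presheaf.obj (op ⊤))
    (hf : ∀ (U : Y.Opens) (hU : IsAffineOpen U), (𝒮.presheaf.map (homOfLE le_top).op).hom f ∈ 𝒮.deg U hU d)
    (Xf : P.Opens)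
    (hXf : ∀ (U : Y.Opens) (hU : IsAffineOpen U),
      Xf ⊓ p ⁻¹ᵁ U =
        (p ⁻¹ᵁ U).ι ''ᵁ ((chart U hU).hom ⁻¹ᵁ
          Proj.basicOpen (𝒮.deg U hU) ((𝒮.presheaf.map (homOfLE le_top).op).hom f)))
    (n : ℤ) (L : P.Modules)
    (lam : ∀ (U : Y.Opens) (hU : IsAffineOpen U),
      L ⟶ (Scheme.Modules.pushforward (RelProj.emb p chart U hU)).obj (GrTwist.twist (𝒮.deg U hU) (n * (d : ℤ))))
    (hL : RelProj.IsRelTwist 𝒮 p chart (n * (d : ℤ)) L lam) :
    Nonempty (L.restrict Xf.ι ≅ Coh.structureModule (Xf : Scheme.{u})) := by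
  let fU : ∀ U : Y.Opens, 𝒮.presheaf.obj (op U) := fun U => (𝒮.presheaf.map (homOfLE le_top).op).hom f
  let lam' : ∀ (U : Y.Opens) (hU : IsAffineOpen U),
      L ⟶ (Scheme.Modules.pushforward (RelProj.emb p chart U hU)).obj
        (GrMod.tilde (𝒮.deg U hU) (𝒮.deg U hU) (n * (d : ℤ))) := fun U hU =>
    lam U hU ≫ (Scheme.Modules.pushforward (RelProj.emb p chart U hU)).map
      (Groth.Agent.GrModLib.twistToTilde (𝒮.deg U hU) (n * (d : ℤ)))
  have hb' : ∀ (U : Y.Opens) (hU : IsAffineOpen U) (W : P.Opens), W ≤ p ⁻¹ᵁ U →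
      Function.Bijective ((lam' U hU).app W) := fun U hU W hW =>
    (ConcreteCategory.bijective_of_isIso ((Groth.Agent.GrModLib.twistToTilde (𝒮.deg U hU) (n * (d : ℤ))).app
      (RelProj.emb p chart U hU ⁻¹ᵁ W))).comp (hL.bijective U hU W hW)
  have hmem : ∀ (U : Y.Opens) (hU : IsAffineOpen U) (k : ℕ), fU U ^ k ∈ 𝒮.deg U hU (k * d) := fun U hU k => by
    simpa [smul_eq_mul] using SetLike.pow_mem_graded k (hf U hU)
  have hdeg : ((n.toNat * d : ℕ) : ℤ) = (((-n).toNat * d : ℕ) : ℤ) + n * (d : ℤ) := by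
    push_cast
    rw [← add_mul]
    congr 1
    omega
  have hle : ∀ (U : Y.Opens) (hU : IsAffineOpen U),
      RelProj.emb p chart U hU ⁻¹ᵁ Xf ≤ Proj.basicOpen (𝒮.deg U hU) (fU U) := by
    intro U hU y hy
    have hh : (chart U hU).hom.base ((chart U hU).inv.base y) = y :=
      congrArg (fun g : Proj (𝒮.deg U hU) ⟶ Proj (𝒮.deg U hU) => g.base y) (chart U hU).inv_hom_id
    obtain ⟨z, hz, e⟩ := (hXf U hU).le ⟨hy, (Groth.Agent.RelTildeLib.opensRange_emb U hU).le ⟨y, rfl⟩⟩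
    obtain rfl : z = (chart U hU).inv.base y := (p ⁻¹ᵁ U).ι.isOpenEmbedding.injective e
    have hz' : (chart U hU).hom.base ((chart U hU).inv.base y) ∈ Proj.basicOpen (𝒮.deg U hU) (fU U) := hz
    rwa [hh] at hz'
  have hpow : ∀ (U : Y.Opens) (hU : IsAffineOpen U) (k : ℕ),
      RelProj.emb p chart U hU ⁻¹ᵁ Xf ≤ Proj.basicOpen (𝒮.deg U hU) (fU U ^ k) := fun U hU k y hy hm =>
    hle U hU hy (y.isPrime.mem_of_pow_mem k hm)
  let σ₀ : ∀ (U : Y.Opens) (hU : IsAffineOpen U),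
      Γ(GrMod.tilde (𝒮.deg U hU) (𝒮.deg U hU) (n * (d : ℤ)), RelProj.emb p chart U hU ⁻¹ᵁ Xf) := fun U hU =>
    Groth.Agent.GrModLib.frac (𝒮.deg U hU) (𝒮.deg U hU) (⟨_, hmem U hU n.toNat⟩ : 𝒮.deg U hU (n.toNat * d))
      (⟨_, hmem U hU (-n).toNat⟩ : 𝒮.deg U hU ((-n).toNat * d)) _ hdeg (hpow U hU _)
  obtain ⟨T, hT⟩ := Groth.Agent.RelTildeLib.exists_section hb' σ₀ (by
    intro U hU r W' hW t ht
    refine Groth.Agent.GrModLib.sect_ext fun y => ?_
    have hy' : (RelProj.emb p chart U hU).base (ProjectiveSpectrum.comap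
        (𝒮.res hU (hU.basicOpen r) (Y.basicOpen_le r)) (𝒮.irrelevant_le_map U hU r) y.1) ∈ W' := by
      rw [Groth.Agent.RelTildeLib.emb_comap hP U hU r y.1]
      exact y.2
    have hval : ∀ (V : Y.Opens) (hV : IsAffineOpen V) (z : (RelProj.emb p chart V hV ⁻¹ᵁ W' : (Proj (𝒮.deg V hV)).Opens)),
        Groth.Agent.GrModLib.valAt ((lam' V hV).app W' t) z =
          GrTwist.val (V := RelProj.emb p chart V hV ⁻¹ᵁ W') ((lam V hV).app W' t) z :=
      fun V hV z => Groth.Agent.GrModLib.valAt_twistToTilde _ _ _ z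
    have h0 : GrTwist.val (V := RelProj.emb p chart U hU ⁻¹ᵁ W') ((lam U hU).app W' t)
        ⟨ProjectiveSpectrum.comap (𝒮.res hU (hU.basicOpen r) (Y.basicOpen_le r)) (𝒮.irrelevant_le_map U hU r) y.1, hy'⟩ =
        Localization.mk (fU U ^ n.toNat) ⟨fU U ^ (-n).toNat,
          hpow U hU _ ((RelProj.emb p chart U hU).preimage_mono hW hy')⟩ :=
      (hval U hU ⟨_, hy'⟩).symm.trans (congrArg (fun z => Groth.Agent.GrModLib.valAt z ⟨_, hy'⟩) ht)
    have hres : ∀ k : ℕ, 𝒮.res hU (hU.basicOpen r) (Y.basicOpen_le r) (fU U ^ k) = fU (Y.basicOpen r) ^ k := fun k => by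
      rw [map_pow]
      congr 1
      show (𝒮.presheaf.map _).hom ((𝒮.presheaf.map _).hom f) = _
      rw [← CommRingCat.comp_apply, ← Functor.map_comp]
      rfl
    refine (hval _ _ y).trans ((hL.compat U hU r W' t y.1 y.2 hy').trans ?_)
    rw [h0, GrTwist.locMap_mk]
    rw [Groth.Agent.GrModLib.valAt_res, Groth.Agent.GrModLib.valAt_frac]
    exact congr (congrArg Localization.mk (hres n.toNat)) (Subtype.ext (hres (-n).toNat)))
  refine Groth.Agent.ParaFLib.nonempty_iso_of_gen (s := T)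
    (Groth.Agent.RelTildeLib.gen_of_cover fun x hx => ?_)
  obtain ⟨⟨U, hU⟩, hxU⟩ := Groth.Agent.RelTildeLib.exists_mem_opensRange chart x
  refine ⟨Xf ⊓ p ⁻¹ᵁ U, inf_le_left, ⟨hx, (Groth.Agent.RelTildeLib.opensRange_emb U hU).le hxU⟩, ?_⟩
  refine Groth.Agent.RelTildeLib.gen_of_chart _ (lam' U hU) (Groth.Agent.RelTildeLib.bij_range hb' U hU)
    (inf_le_right.trans (Groth.Agent.RelTildeLib.opensRange_emb U hU).ge) ?_
  rw [show (lam' U hU).app (Xf ⊓ p ⁻¹ᵁ U) (L.presheaf.map (homOfLE inf_le_left).op T) = _ from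
    (hT U hU).res inf_le_left]
  exact Groth.Agent.GrModLib.gen_frac _ _ _ hdeg (((RelProj.emb p chart U hU).preimage_mono inf_le_left).trans (hpow U hU _))
    (((RelProj.emb p chart U hU).preimage_mono inf_le_left).trans (hpow U hU _))

end Groth.Agent.S8288
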