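import Groth.Statements.S8289
import Groth.Agent.RelSpecLib.ConeImm

set_option autoImplicit false
set_option linter.style.haveILetI false
set_option linter.unusedVariables false
set_option backward.isDefEq.respectTransparency false
universe u
open CategoryTheory CategoryTheory.Limits AlgebraicGeometry Opposite TopologicalSpace
open scoped HomogeneousIdeal
noncomputable section
open EGA2

namespace Groth.Agent.S8289

/-- The canonical morphism i from the affine cone to the projective cone: let 𝒮 be a quasi-coherent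
positively graded O_Y-algebra with 𝒮_0 = O_Y, Ŝ = 𝒮[z] (z of degree one; presented through a graded
homomorphism ι : 𝒮 → Ŝ and a degree-one global section z with 𝒮(U)[X] → Ŝ(U), X ↦ z, bijective on
affine opens), C = Spec(𝒮) and Ĉ = Proj(Ŝ). There is a unique morphism i : C → Ĉ which, on the chart
Spec 𝒮(U) of C over an affine open U, is Spec of the ring isomorphism Ŝ(U)_(z) ≅ 𝒮(U) (sending x/z^k
to x for x homogeneous of degree k) followed by the inclusion of D_+(z|U) into Proj Ŝ(U) and the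
chart of Ĉ; this i is an open immersion, affine, lies over Y, Ĉ is the smallest closed subscheme of
Ĉ containing its image (its kernel ideal sheaf is zero), and its image is the open Ĉ_z where the
section z does not vanish (characterised chartwise by D_+(z|U)). -/
theorem result {Y PC : Scheme.{u}} (𝒮 Sh : RelProj.QCGrAlg Y)
    (h0 : ∀ (U : Y.Opens) (hU : IsAffineOpen U), Function.Bijective (𝒮.strZero U hU).hom)
    (ι : 𝒮.toQCAlg ⟶ Sh.toQCAlg) (hι : RelProj.IsGradedHom ι) (z : Sh.presheaf.obj (op ⊤))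
    (hz : ∀ (U : Y.Opens) (hU : IsAffineOpen U), (Sh.presheaf.map (homOfLE le_top).op).hom z ∈ Sh.deg U hU 1)
    (hpoly : ∀ (U : Y.Opens) (hU : IsAffineOpen U),
      Function.Bijective (Polynomial.eval₂RingHom (ι.hom.app (op U)).hom ((Sh.presheaf.map (homOfLE le_top).op).hom z)))
    (pC : PC ⟶ Y)
    (chartC : ∀ (U : Y.Opens) (hU : IsAffineOpen U), (((pC ⁻¹ᵁ U : PC.Opens) : Scheme.{u}) ≅ Proj (Sh.deg U hU)))
    (hPC : RelProj.IsRelProj Sh pC chartC)
    (θ : ∀ (U : Y.Opens) (hU : IsAffineOpen U),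
      CommRingCat.of (HomogeneousLocalization.Away (Sh.deg U hU) ((Sh.presheaf.map (homOfLE le_top).op).hom z)) ⟶
        𝒮.presheaf.obj (op U))
    (hθ : ∀ (U : Y.Opens) (hU : IsAffineOpen U)
      (q : HomogeneousLocalization.Away (Sh.deg U hU) ((Sh.presheaf.map (homOfLE le_top).op).hom z))
      (k : ℕ) (x : 𝒮.presheaf.obj (op U)), x ∈ 𝒮.deg U hU k →
        q.val = Localization.mk ((ι.hom.app (op U)).hom x)
          ⟨(Sh.presheaf.map (homOfLE le_top).op).hom z ^ k,
            pow_mem (Submonoid.mem_powers ((Sh.presheaf.map (homOfLE le_top).op).hom z)) k⟩ →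
        (θ U hU).hom q = x) :
    (∃! i : 𝒮.toQCAlg.spec ⟶ PC, ∀ (U : Y.Opens) (hU : IsAffineOpen U),
        𝒮.toQCAlg.ι U hU ≫ i =
          Spec.map (θ U hU) ≫
            Proj.awayι (Sh.deg U hU) ((Sh.presheaf.map (homOfLE le_top).op).hom z) (hz U hU) one_pos ≫
              RelProj.emb pC chartC U hU) ∧
      ∀ i : 𝒮.toQCAlg.spec ⟶ PC, (∀ (U : Y.Opens) (hU : IsAffineOpen U),
        𝒮.toQCAlg.ι U hU ≫ i =
          Spec.map (θ U hU) ≫
            Proj.awayι (Sh.deg U hU) ((Sh.presheaf.map (homOfLE le_top).op).hom z) (hz U hU) one_pos ≫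
              RelProj.emb pC chartC U hU) →
        IsOpenImmersion i ∧ IsAffineHom i ∧ i ≫ pC = 𝒮.toQCAlg.π ∧ i.ker = ⊥ ∧
          ∀ Xz : PC.Opens, (∀ (U : Y.Opens) (hU : IsAffineOpen U),
            Xz ⊓ pC ⁻¹ᵁ U =
              (pC ⁻¹ᵁ U).ι ''ᵁ ((chartC U hU).hom ⁻¹ᵁ
                Proj.basicOpen (Sh.deg U hU) ((Sh.presheaf.map (homOfLE le_top).op).hom z))) →
            Set.range i.base = (Xz : Set PC) := by
  have hP : RelCone.IsPolyOver 𝒮 Sh ι z := ⟨hι, hz, hpoly⟩
  have hθ' : ∀ (U : Y.Opens) (hU : IsAffineOpen U), θ U hU = CommRingCat.ofHom (hP.awayZToBase U hU) := fun U hU =>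
    CommRingCat.hom_ext (Groth.Agent.RelSpecLib.eq_awayZToBase hP U hU (θ U hU).hom (hθ U hU))
  have hiff : ∀ i : 𝒮.toQCAlg.spec ⟶ PC, (∀ (U : Y.Opens) (hU : IsAffineOpen U),
        𝒮.toQCAlg.ι U hU ≫ i =
          Spec.map (θ U hU) ≫
            Proj.awayι (Sh.deg U hU) ((Sh.presheaf.map (homOfLE le_top).op).hom z) (hz U hU) one_pos ≫
              RelProj.emb pC chartC U hU) ↔ RelCone.IsConeImm 𝒮 hP pC chartC i := by
    intro i
    constructor
    · intro h U hU
      rw [h U hU, hθ' U hU]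
    · intro h U hU
      rw [h U hU, hθ' U hU]
  obtain ⟨i₀, hi₀, huniq⟩ := Groth.Agent.RelSpecLib.existsUnique_coneImm hP hPC
  refine ⟨⟨i₀, (hiff i₀).mpr hi₀, fun i hi => huniq i ((hiff i).mp hi)⟩, fun i hi => ?_⟩
  have hi' := (hiff i).mp hi
  refine ⟨Groth.Agent.RelSpecLib.coneImm_isOpenImmersion hP hPC hi',
    Groth.Agent.RelSpecLib.coneImm_isAffineHom hP hPC hi', Groth.Agent.RelSpecLib.coneImm_π hP hPC hi',
    Groth.Agent.RelSpecLib.coneImm_ker hP hPC hi', fun Xz hXz => ?_⟩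
  ext y
  obtain ⟨V, hV, hyV, -⟩ := exists_isAffineOpen_mem_and_subset (U := (⊤ : Y.Opens))
    (show pC y ∈ (⊤ : Y.Opens) from trivial)
  have h1 := Groth.Agent.RelSpecLib.range_coneImm hP V hV hPC hi'
  have h2 : (((pC ⁻¹ᵁ V).ι ''ᵁ ((chartC V hV).hom ⁻¹ᵁ
      Proj.basicOpen (Sh.deg V hV) (RelCone.restrictTop Sh z V)) : PC.Opens) : Set PC) =
      (RelProj.emb pC chartC V hV).base '' (Proj.basicOpen (Sh.deg V hV) (RelCone.restrictTop Sh z V) : Set _) := by
    ext t
    constructor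
    · rintro ⟨v, hv, rfl⟩
      refine ⟨_, hv, ?_⟩
      show ((chartC V hV).hom ≫ (chartC V hV).inv ≫ (pC ⁻¹ᵁ V).ι) v = _
      rw [Iso.hom_inv_id_assoc]
      rfl
    · rintro ⟨v, hv, rfl⟩
      refine ⟨(chartC V hV).inv v, ?_, rfl⟩
      show ((chartC V hV).inv ≫ (chartC V hV).hom) v ∈ Proj.basicOpen _ _
      rw [Iso.inv_hom_id]
      exact hv
  constructor
  · intro hy
    have h3 : y ∈ Set.range i.base ∩ (pC ⁻¹ᵁ V : PC.Opens) := ⟨hy, hyV⟩
    rw [h1, ← h2, ← hXz V hV] at h3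
    exact h3.1
  · intro hy
    have h3 : y ∈ ((Xz ⊓ pC ⁻¹ᵁ V : PC.Opens) : Set PC) := ⟨hy, hyV⟩
    rw [hXz V hV, h2, ← h1] at h3
    exact h3.1

end Groth.Agent.S8289
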