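import Groth.Statements.S8290
import Groth.Agent.RelTildeLib.Trivial
import Groth.Agent.GrModLib.Twist
import Groth.Agent.GrModLib.Sections
import Groth.Agent.ParaFLib.Ideal

set_option autoImplicit false
universe u
open CategoryTheory CategoryTheory.Limits AlgebraicGeometry Opposite TopologicalSpace
open scoped HomogeneousIdeal
noncomputable section
open EGA2

namespace Groth.Agent.S8290

/-- Let 𝒮 be a quasi-coherent positively graded O_Y-algebra, X = Proj(𝒮), and U a quasi-compact open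
subset of X. There is an integer d > 0 such that for every n divisible by d the twisting sheaf
O_X(n) restricted to U is invertible. (The published statement adds that its inverse is O_X(-n)|U.) -/
theorem result {Y X : Scheme.{u}} (𝒮 : RelProj.QCGrAlg Y) (q : X ⟶ Y)
    (chart : ∀ (U : Y.Opens) (hU : IsAffineOpen U), (((q ⁻¹ᵁ U : X.Opens) : Scheme.{u}) ≅ Proj (𝒮.deg U hU)))
    (hX : RelProj.IsRelProj 𝒮 q chart) (U : X.Opens) (hU : IsCompact (U : Set X)) :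
    ∃ d : ℕ, 0 < d ∧ ∀ (n : ℤ), (d : ℤ) ∣ n →
      ∀ (L : X.Modules)
        (lam : ∀ (V : Y.Opens) (hV : IsAffineOpen V),
          L ⟶ (Scheme.Modules.pushforward (RelProj.emb q chart V hV)).obj (GrTwist.twist (𝒮.deg V hV) n)),
        RelProj.IsRelTwist 𝒮 q chart n L lam → PicF.IsInvertible (L.restrict U.ι) := by
  classical
  have hex : ∀ x : X, ∃ a : {V : Y.Opens // IsAffineOpen V}, ∃ (e : ℕ) (g : 𝒮.presheaf.obj (op a.1)),
      0 < e ∧ g ∈ 𝒮.deg a.1 a.2 e ∧ x ∈ RelProj.emb q chart a.1 a.2 ''ᵁ Proj.basicOpen (𝒮.deg a.1 a.2) g := by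
    intro x
    obtain ⟨a, hxa⟩ := Groth.Agent.RelTildeLib.exists_mem_opensRange chart x
    obtain ⟨y, rfl⟩ := hxa
    obtain ⟨e, g, he, hg, hgy⟩ := Groth.Agent.GrModLib.exists_mem_pos_notMem y
    exact ⟨a, e, g, he, hg, ⟨y, hgy, rfl⟩⟩
  choose a e g he hg hxg using hex
  obtain ⟨t, ht⟩ := hU.elim_finite_subcover
    (fun x => ((RelProj.emb q chart (a x).1 (a x).2 ''ᵁ Proj.basicOpen (𝒮.deg (a x).1 (a x).2) (g x) : X.Opens) : Set X))
    (fun x => TopologicalSpace.Opens.isOpen _) fun x _ => Set.mem_iUnion.2 ⟨x, hxg x⟩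
  refine ⟨∏ x ∈ t, e x, Finset.prod_pos fun x _ => he x, fun n hn L lam hL => ?_⟩
  refine Groth.Agent.ParaFLib.isInvertible_restrict_of_cover L U fun z hz => ?_
  obtain ⟨x, hxt, hzx⟩ : ∃ x ∈ t, z ∈
      RelProj.emb q chart (a x).1 (a x).2 ''ᵁ Proj.basicOpen (𝒮.deg (a x).1 (a x).2) (g x) := by
    obtain ⟨x, hx⟩ := Set.mem_iUnion.1 (ht hz)
    obtain ⟨hx₁, hx₂⟩ := Set.mem_iUnion.1 hx
    exact ⟨x, hx₁, hx₂⟩
  obtain ⟨m, rfl⟩ : (e x : ℤ) ∣ n := (Int.natCast_dvd_natCast.2 (Finset.dvd_prod_of_mem e hxt)).trans hn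
  have hp : ∀ k : ℕ, g x ^ k ∈ 𝒮.deg (a x).1 (a x).2 (k * e x) := fun k => by
    simpa [smul_eq_mul] using SetLike.pow_mem_graded k (hg x)
  have hle : ∀ k : ℕ, Proj.basicOpen (𝒮.deg (a x).1 (a x).2) (g x) ≤
      Proj.basicOpen (𝒮.deg (a x).1 (a x).2) (g x ^ k) := fun k y hy hm => hy (y.isPrime.mem_of_pow_mem k hm)
  have hdeg : ((m.toNat * e x : ℕ) : ℤ) = (((-m).toNat * e x : ℕ) : ℤ) + (e x : ℤ) * m := by
    push_cast
    rw [mul_comm (e x : ℤ) m, ← add_mul]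
    congr 1
    omega
  obtain ⟨s, hs⟩ := Groth.Agent.RelTildeLib.exists_gen_image _
    (lam (a x).1 (a x).2 ≫ (Scheme.Modules.pushforward (RelProj.emb q chart (a x).1 (a x).2)).map
      (Groth.Agent.GrModLib.twistToTilde (𝒮.deg (a x).1 (a x).2) ((e x : ℤ) * m)))
    (fun W hW => (ConcreteCategory.bijective_of_isIso
      ((Groth.Agent.GrModLib.twistToTilde (𝒮.deg (a x).1 (a x).2) ((e x : ℤ) * m)).app
        (RelProj.emb q chart (a x).1 (a x).2 ⁻¹ᵁ W))).comp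
      (Groth.Agent.RelTildeLib.bij_range hL.bijective (a x).1 (a x).2 W hW))
    (Groth.Agent.GrModLib.gen_frac (⟨_, hp m.toNat⟩ : 𝒮.deg (a x).1 (a x).2 (m.toNat * e x))
      (⟨_, hp (-m).toNat⟩ : 𝒮.deg (a x).1 (a x).2 ((-m).toNat * e x)) _ hdeg (hle _) (hle _))
  exact ⟨_, hzx, Groth.Agent.ParaFLib.nonempty_iso_of_gen hs⟩

end Groth.Agent.S8290
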