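import Groth.Statements.S8291
import Groth.Agent.ProjBC.Bridge

set_option autoImplicit false
set_option linter.style.haveILetI false
set_option linter.unusedVariables false
set_option backward.isDefEq.respectTransparency false
universe u
open CategoryTheory CategoryTheory.Limits AlgebraicGeometry Opposite TopologicalSpace
open scoped HomogeneousIdeal
noncomputable section
open EGA2

namespace Groth.Agent.S8291

/-- Let ψ : Y' → Y be a morphism, 𝒮 a quasi-coherent positively graded O_Y-algebra and 𝒮' = ψ^*𝒮,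
presented as a quasi-coherent graded O_{Y'}-algebra with a graded ψ-morphism u : 𝒮 → ψ_*𝒮' whose
squares O_Y(U) → O_{Y'}(U'), 𝒮(U) → 𝒮'(U') over affine opens U' ⊆ ψ⁻¹(U) are pushouts of rings. If g
: Proj(𝒮') → Proj(𝒮) is chartwise the morphism of homogeneous spectra induced by 𝒮(U) → 𝒮'(U'), then
Proj(𝒮') together with g and its structure morphism is the fibre product Proj(𝒮) ×_Y Y'. -/
theorem result {Y Y' P P' : Scheme.{u}} (ψ : Y' ⟶ Y) (𝒮 : RelProj.QCGrAlg Y)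
    (𝒮' : RelProj.QCGrAlg Y') (u : 𝒮.presheaf ⟶ ψ.base _* 𝒮'.presheaf)
    (hu : 𝒮.str ≫ u = ψ.c ≫ (TopCat.Presheaf.pushforward CommRingCat.{u} ψ.base).map 𝒮'.str)
    (φ : ∀ (U : Y.Opens) (hU : IsAffineOpen U) (U' : Y'.Opens) (hU' : IsAffineOpen U') (_ : U' ≤ ψ ⁻¹ᵁ U),
      𝒮.deg U hU →+*ᵍ 𝒮'.deg U' hU')
    (hφ : ∀ (U : Y.Opens) (hU : IsAffineOpen U) (U' : Y'.Opens) (hU' : IsAffineOpen U') (hle : U' ≤ ψ ⁻¹ᵁ U),
      (φ U hU U' hU' hle).toRingHom =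
        ((u.app (op U) : 𝒮.presheaf.obj (op U) ⟶ 𝒮'.presheaf.obj (op (ψ ⁻¹ᵁ U))) ≫
          𝒮'.presheaf.map (homOfLE hle).op).hom)
    (hpo : ∀ (U : Y.Opens) (hU : IsAffineOpen U) (U' : Y'.Opens) (hU' : IsAffineOpen U') (hle : U' ≤ ψ ⁻¹ᵁ U),
      IsPushout (ψ.appLE U U' hle) (𝒮.str.app (op U)) (𝒮'.str.app (op U'))
        ((u.app (op U) : 𝒮.presheaf.obj (op U) ⟶ 𝒮'.presheaf.obj (op (ψ ⁻¹ᵁ U))) ≫
          𝒮'.presheaf.map (homOfLE hle).op))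
    (hirr : ∀ (U : Y.Opens) (hU : IsAffineOpen U) (U' : Y'.Opens) (hU' : IsAffineOpen U') (hle : U' ≤ ψ ⁻¹ᵁ U),
      (𝒮'.deg U' hU')₊ ≤ ((𝒮.deg U hU)₊).map (φ U hU U' hU' hle))
    (p : P ⟶ Y)
    (chart : ∀ (U : Y.Opens) (hU : IsAffineOpen U), (((p ⁻¹ᵁ U : P.Opens) : Scheme.{u}) ≅ Proj (𝒮.deg U hU)))
    (hP : RelProj.IsRelProj 𝒮 p chart) (p' : P' ⟶ Y')
    (chart' : ∀ (U' : Y'.Opens) (hU' : IsAffineOpen U'), (((p' ⁻¹ᵁ U' : P'.Opens) : Scheme.{u}) ≅ Proj (𝒮'.deg U' hU')))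
    (hP' : RelProj.IsRelProj 𝒮' p' chart') (g : P' ⟶ P)
    (hg : ∀ (U : Y.Opens) (hU : IsAffineOpen U) (U' : Y'.Opens) (hU' : IsAffineOpen U') (hle : U' ≤ ψ ⁻¹ᵁ U),
      (p' ⁻¹ᵁ U').ι ≫ g =
        (chart' U' hU').hom ≫ Proj.map (φ U hU U' hU' hle) (hirr U hU U' hU' hle) ≫ RelProj.emb p chart U hU) :
    IsPullback g p' p ψ := by
  refine IsPullback.flip ?_
  let ι := {W : Y'.affineOpens // ∃ U : Y.affineOpens, (W : Y'.Opens) ≤ ψ ⁻¹ᵁ (U : Y.Opens)}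
  have hcov : ∀ x : Y', ∃ W : ι, x ∈ (W.1.1 : Y'.Opens) := fun x => by
    obtain ⟨U, hU, hxU, -⟩ := exists_isAffineOpen_mem_and_subset (U := (⊤ : Y.Opens))
      (show ψ x ∈ (⊤ : Y.Opens) from trivial)
    obtain ⟨W, hW, hxW, hWle⟩ := exists_isAffineOpen_mem_and_subset (U := ψ ⁻¹ᵁ U) hxU
    exact ⟨⟨⟨W, hW⟩, ⟨⟨U, hU⟩, hWle⟩⟩, hxW⟩
  choose c hc using hcov
  let 𝒰 : Y'.OpenCover := Scheme.Cover.mkOfCovers ι (fun W => Spec Γ(Y', W.1.1)) (fun W => W.1.2.fromSpec)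
    (fun x => by
      have hx : x ∈ Set.range (c x).1.2.fromSpec := by rw [IsAffineOpen.range_fromSpec]; exact hc x
      exact ⟨c x, hx⟩) (fun _ => inferInstance)
  refine Scheme.isPullback_of_openCover _ _ _ _ 𝒰 ?_
  intro i
  obtain ⟨⟨W, hW⟩, ⟨U, hU⟩, hle⟩ := i
  have hemb : ∀ {Z Q : Scheme.{u}} (𝒯 : RelProj.QCGrAlg Z) (q : Q ⟶ Z)
      (ch : ∀ (V : Z.Opens) (hV : IsAffineOpen V), (((q ⁻¹ᵁ V : Q.Opens) : Scheme.{u}) ≅ Proj (𝒯.deg V hV)))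
      (_ : RelProj.IsRelProj 𝒯 q ch) (V : Z.Opens) (hV : IsAffineOpen V),
      IsPullback (Proj.toSpecZero (𝒯.deg V hV) ≫ Spec.map (𝒯.strZero V hV)) (RelProj.emb q ch V hV) hV.fromSpec q := by
    intro Z Q 𝒯 q ch hQ V hV
    refine IsOpenImmersion.isPullback _ _ _ _ ?_ ?_
    · rw [RelProj.emb, Category.assoc, ← hQ.chart_over V hV, Iso.inv_hom_id_assoc, Category.assoc]
    · rw [hV.opensRange_fromSpec]
      change _ = ((ch V hV).inv ≫ (q ⁻¹ᵁ V).ι).opensRange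
      rw [Scheme.Hom.opensRange_comp_of_isIso, Scheme.Opens.opensRange_ι]
  have h1 := hemb 𝒮' p' chart' hP' W hW
  have h2 := hemb 𝒮 p chart hP U hU
  have h3 := Groth.Agent.ProjBC.isPullback_of_isPushout (ψ.appLE U W hle) (𝒮.str.app (op U))
    (𝒮'.str.app (op W)) _ (hpo U hU W hW hle) (𝒮.deg U hU) (𝒮'.deg W hW) (𝒮.strZero U hU)
    (𝒮'.strZero W hW) (fun _ => rfl) (fun _ => rfl) (φ U hU W hW hle) (hφ U hU W hW hle)
    (hirr U hU W hW hle)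
  have h4 := h3.flip.paste_vert h2
  rw [hU.SpecMap_appLE_fromSpec ψ hW hle] at h4
  have hg' : RelProj.emb p' chart' W hW ≫ g = Proj.map (φ U hU W hW hle) (hirr U hU W hW hle) ≫
      RelProj.emb p chart U hU := by
    change ((chart' W hW).inv ≫ (p' ⁻¹ᵁ W).ι) ≫ g = _
    rw [Category.assoc, hg U hU W hW hle, Iso.inv_hom_id_assoc]
  rw [← hg'] at h4
  let e := h1.flip.isoPullback
  refine h4.of_iso e (Iso.refl _) (Iso.refl _) (Iso.refl _) ?_ ?_ ?_ ?_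
  · simp only [Iso.refl_hom, Category.comp_id]
    exact h1.flip.isoPullback_hom_snd.symm
  · simp only [Iso.refl_hom, Category.comp_id]
    exact (h1.flip.isoPullback_hom_fst_assoc g).symm
  · simp only [Iso.refl_hom, Category.id_comp, Category.comp_id]
    rfl
  · simp only [Iso.refl_hom, Category.id_comp, Category.comp_id]

end Groth.Agent.S8291
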