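import Groth.Statements.S8295
import Groth.Agent.RelSpecLib.Cone

set_option autoImplicit false
set_option linter.style.haveILetI false
set_option linter.unusedVariables false
set_option backward.isDefEq.respectTransparency false
universe u
open CategoryTheory CategoryTheory.Limits AlgebraicGeometry Opposite TopologicalSpace
open scoped HomogeneousIdeal
noncomputable section
open EGA2

namespace Groth.Agent.S8295

/-- The vertex section of the affine cone: let 𝒮 be a quasi-coherent positively graded O_Y-algebra with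
𝒮_0 = O_Y, aug : 𝒮 → O_Y its augmentation (the algebra homomorphism over O_Y that vanishes on
sections of positive degree) and C = Spec(𝒮) the affine cone. There is exactly one morphism ε : Y →
C which is a section of the structure morphism and which over every affine open U of Y is, on Spec
O_Y(U), the morphism Spec of aug(U) followed by the chart Spec 𝒮(U) → C; moreover every such ε is a
closed immersion. -/
theorem result {Y : Scheme.{u}} (𝒮 : RelProj.QCGrAlg Y)
    (h0 : RelCone.StrZeroBij 𝒮) (aug : 𝒮.toQCAlg ⟶ RelSpec.QCAlg.unit Y) (haug : RelCone.IsAugmentation 𝒮 aug) :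
    (∃! ε : Y ⟶ 𝒮.toQCAlg.spec, RelCone.IsVertex 𝒮 aug ε) ∧
      ∀ ε : Y ⟶ 𝒮.toQCAlg.spec, RelCone.IsVertex 𝒮 aug ε → IsClosedImmersion ε := by
  have hω : 𝒮.toQCAlg.str ≫ aug.hom = (𝟙 Y : Y ⟶ Y).c := aug.comm
  have hchart : ∀ (U : Y.Opens) (hU : IsAffineOpen U),
      hU.fromSpec ≫ Groth.Agent.RelSpecLib.lift 𝒮.toQCAlg (𝟙 Y) aug.hom =
        Spec.map (aug.hom.app (op U)) ≫ 𝒮.toQCAlg.ι U hU := by
    intro U hU
    rw [IsAffineOpen.fromSpec, Category.assoc]
    erw [Groth.Agent.RelSpecLib.ι_lift 𝒮.toQCAlg (𝟙 Y) aug.hom U hU]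
    rw [Groth.Agent.RelSpecLib.homOn]
    exact (hU.isoSpec_inv_toSpecΓ_assoc _).trans rfl
  refine ⟨⟨_, ⟨Groth.Agent.RelSpecLib.lift_π 𝒮.toQCAlg (𝟙 Y) aug.hom hω, hchart⟩, fun ε hε => ?_⟩,
    fun ε hε => ?_⟩
  · refine Scheme.Cover.hom_ext (Y.openCoverOfIsOpenCover (fun U : Y.affineOpens => (U : Y.Opens))
      (iSup_affineOpens_eq_top Y)) _ _ fun U => ?_
    show (U.1 : Y.Opens).ι ≫ _ = (U.1 : Y.Opens).ι ≫ _
    rw [← U.2.toSpecΓ_fromSpec, Category.assoc, Category.assoc, hε.chart U.1 U.2, hchart U.1 U.2]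
  · haveI : IsClosedImmersion (ε ≫ 𝒮.toQCAlg.π) := by rw [hε.comp_π]; infer_instance
    exact IsClosedImmersion.of_comp ε 𝒮.toQCAlg.π

end Groth.Agent.S8295
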