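import Groth.Statements.S8297
import Groth.Agent.RelSpecLib.ConeImm
import Groth.Agent.RelProjLib.Basic
import Groth.Agent.RelProjLib.ConeComp

set_option autoImplicit false
set_option linter.style.haveILetI false
set_option linter.unusedVariables false
set_option backward.isDefEq.respectTransparency false
universe u
open CategoryTheory CategoryTheory.Limits AlgebraicGeometry Opposite TopologicalSpace
open scoped HomogeneousIdeal
noncomputable section
open EGA2

namespace Groth.Agent.S8297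

/-- The relation i(C) = Ĉ − j(X): let 𝒮 be a quasi-coherent positively graded O_Y-algebra with 𝒮_0 =
O_Y, Ŝ = 𝒮[z] (given through a graded homomorphism ι : 𝒮 → Ŝ and a global section z of degree one,
the map 𝒮(U)[X] → Ŝ(U), X ↦ z, being bijective over every affine open U), C = Spec(𝒮) the affine
cone, Ĉ = Proj(Ŝ) the projective cone and X = Proj(𝒮), each relative homogeneous spectrum given with
its charts; let i : C → Ĉ be the canonical open immersion (chartwise Spec of Ŝ(U)_(z) → 𝒮(U), z ↦ 1,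
followed by the inclusion of D_+(z)), θ : Ŝ → 𝒮 the graded retraction of ι sending z to 0, and j : X
→ Ĉ the morphism chartwise induced by θ (the immersion of the locus at infinity). Then the
underlying set of the image of i is the complement of the image of j. -/
theorem result {Y PC P : Scheme.{u}} (𝒮 𝒮h : RelProj.QCGrAlg Y) (h0 : RelCone.StrZeroBij 𝒮)
    (ι : 𝒮.toQCAlg ⟶ 𝒮h.toQCAlg) (z : 𝒮h.presheaf.obj (op ⊤)) (hz : RelCone.IsPolyOver 𝒮 𝒮h ι z)
    (pC : PC ⟶ Y)
    (chartC : ∀ (U : Y.Opens) (hU : IsAffineOpen U), (((pC ⁻¹ᵁ U : PC.Opens) : Scheme.{u}) ≅ Proj (𝒮h.deg U hU)))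
    (hPC : RelProj.IsRelProj 𝒮h pC chartC)
    (i : 𝒮.toQCAlg.spec ⟶ PC) (hi : RelCone.IsConeImm 𝒮 hz pC chartC i)
    (θ : 𝒮h.toQCAlg ⟶ 𝒮.toQCAlg) (hθ : RelProj.IsGradedHom θ) (hιθ : ι ≫ θ = 𝟙 _)
    (hθz : (θ.hom.app (op ⊤)).hom z = 0)
    (hirr : ∀ (U : Y.Opens) (hU : IsAffineOpen U),
      (𝒮.deg U hU)₊ ≤ ((𝒮h.deg U hU)₊).map (RelProj.gradedHomAt θ hθ U hU))
    (p : P ⟶ Y)
    (chart : ∀ (U : Y.Opens) (hU : IsAffineOpen U), (((p ⁻¹ᵁ U : P.Opens) : Scheme.{u}) ≅ Proj (𝒮.deg U hU)))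
    (hP : RelProj.IsRelProj 𝒮 p chart) (j : P ⟶ PC) (hj : RelProj.IsRelProjMap θ hθ hirr chartC chart j) :
    Set.range i.base = (Set.range j.base)ᶜ := by
  classical
  have hθ1 : ∀ (U : Y.Opens) (y : 𝒮.presheaf.obj (op U)),
      (θ.hom.app (op U)).hom ((ι.hom.app (op U)).hom y) = y := fun U y =>
    congrArg (fun t : 𝒮.toQCAlg ⟶ 𝒮.toQCAlg => (t.hom.app (op U)).hom y) hιθ
  have hθ2 : ∀ (U : Y.Opens), (θ.hom.app (op U)).hom (RelCone.restrictTop 𝒮h z U) = 0 := fun U => by
    refine (congrArg (fun t => (t : 𝒮h.presheaf.obj (op ⊤) ⟶ 𝒮.presheaf.obj (op U)).hom z)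
      (θ.hom.naturality (homOfLE (le_top : U ≤ ⊤)).op)).trans ?_
    show (𝒮.presheaf.map _).hom ((θ.hom.app (op ⊤)).hom z) = 0
    rw [hθz, map_zero]
  ext y
  obtain ⟨V, hV, hyV, -⟩ := exists_isAffineOpen_mem_and_subset (U := (⊤ : Y.Opens))
    (show pC y ∈ (⊤ : Y.Opens) from trivial)
  obtain ⟨v, hv⟩ : ∃ v, RelProj.emb pC chartC V hV v = y := by
    refine ⟨(chartC V hV).hom ⟨y, hyV⟩, ?_⟩
    show ((chartC V hV).hom ≫ (chartC V hV).inv ≫ (pC ⁻¹ᵁ V).ι) ⟨y, hyV⟩ = y
    rw [Iso.hom_inv_id_assoc]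
    rfl
  have h1 := Groth.Agent.RelSpecLib.range_coneImm hz V hV hPC hi
  have hA : y ∈ Set.range i.base ↔ RelCone.restrictTop 𝒮h z V ∉ v.asHomogeneousIdeal := by
    rw [← ProjectiveSpectrum.mem_basicOpen]
    constructor
    · intro h
      have h2 : y ∈ Set.range i.base ∩ (pC ⁻¹ᵁ V : PC.Opens) := ⟨h, hyV⟩
      rw [h1] at h2
      obtain ⟨v', hv', e⟩ := h2
      rw [(RelProj.emb pC chartC V hV).isOpenEmbedding.injective (e.trans hv.symm)] at hv'
      exact hv'
    · intro h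
      have h2 : y ∈ Set.range i.base ∩ (pC ⁻¹ᵁ V : PC.Opens) := by rw [h1]; exact ⟨v, h, hv⟩
      exact h2.1
  rw [Set.mem_compl_iff, hA, not_iff_not]
  constructor
  · intro hzv
    have hdom := (Groth.Agent.RelProjLib.QMap.mem_basicOpen_or_domOpen hz V hV v).resolve_left (not_not.mpr hzv)
    obtain ⟨f, hf, hfv⟩ := (RelCone.mem_domOpen _ _).mp hdom
    let I : HomogeneousIdeal (𝒮.deg V hV) := HomogeneousIdeal.comap (RelProj.gradedHomAt ι hz.graded V hV) v.asHomogeneousIdeal
    let x : Proj (𝒮.deg V hV) := ⟨I, Ideal.IsPrime.comap _ (hK := v.isPrime), fun h => hfv (h hf)⟩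
    refine ⟨RelProj.emb p chart V hV x, ?_⟩
    have h2 : RelProj.emb p chart V hV ≫ j = Proj.map (RelProj.gradedHomAt θ hθ V hV) (hirr V hV) ≫
        RelProj.emb pC chartC V hV := by
      rw [RelProj.emb, Category.assoc, hj V hV, Iso.inv_hom_id_assoc]
      rfl
    have hx : Proj.map (RelProj.gradedHomAt θ hθ V hV) (hirr V hV) x = v := by
      have key : ∀ (k : ℕ) (b : 𝒮h.presheaf.obj (op V)), b ∈ 𝒮h.deg V hV k →
          ((RelProj.gradedHomAt θ hθ V hV) b ∈ I.toIdeal ↔ b ∈ v.asHomogeneousIdeal.toIdeal) := by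
        intro k b hb
        obtain ⟨c, hc, rfl⟩ := Groth.Agent.RelSpecLib.exists_decomp hz V hV hb
        have e : (RelProj.gradedHomAt θ hθ V hV)
            (∑ m ∈ Finset.range (k + 1), (ι.hom.app (op V)).hom (c m) * RelCone.restrictTop 𝒮h z V ^ m) = c 0 := by
          show (θ.hom.app (op V)).hom _ = _
          rw [map_sum, Finset.sum_eq_single 0]
          · rw [pow_zero, mul_one, hθ1]
          · intro m _ hm
            rw [map_mul, map_pow, hθ2, zero_pow hm, mul_zero]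
          · intro h; exact absurd (Finset.mem_range.mpr (Nat.succ_pos k)) h
        rw [e, Finset.sum_range_succ']
        have hs : ∑ m ∈ Finset.range k, (ι.hom.app (op V)).hom (c (m + 1)) * RelCone.restrictTop 𝒮h z V ^ (m + 1) ∈
            v.asHomogeneousIdeal.toIdeal :=
          Ideal.sum_mem _ fun m _ => Ideal.mul_mem_left _ _ (Ideal.pow_mem_of_mem _ hzv _ (Nat.succ_pos m))
        rw [pow_zero, mul_one]
        exact (Ideal.add_mem_iff_right _ hs).symm
      apply ProjectiveSpectrum.ext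
      apply HomogeneousIdeal.toIdeal_injective
      ext b
      show (RelProj.gradedHomAt θ hθ V hV) b ∈ I.toIdeal ↔ b ∈ v.asHomogeneousIdeal.toIdeal
      constructor
      · intro hb
        rw [← DirectSum.sum_support_decompose (𝒮h.deg V hV) b]
        refine Ideal.sum_mem _ fun k _ => (key k _ (SetLike.coe_mem _)).mp ?_
        rw [GradedRingHom.map_directSumDecompose]
        exact I.isHomogeneous k hb
      · intro hb
        rw [← DirectSum.sum_support_decompose (𝒮h.deg V hV) b, map_sum]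
        exact Ideal.sum_mem _ fun k _ => (key k _ (SetLike.coe_mem _)).mpr (v.asHomogeneousIdeal.isHomogeneous k hb)
    have h3 := congrArg (fun t => t x) h2
    simp only [Scheme.Hom.comp_apply] at h3
    rw [h3, hx, hv]
  · rintro ⟨w, hw⟩
    have hwV : p w ∈ V := by
      obtain ⟨W, hW, hwW, -⟩ := exists_isAffineOpen_mem_and_subset (U := (⊤ : Y.Opens))
        (show p w ∈ (⊤ : Y.Opens) from trivial)
      have h4 : pC (j w) = p w := by
        have h := congrArg (fun t => t ⟨w, hwW⟩) (hj W hW)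
        simp only [Scheme.Hom.comp_apply] at h
        have h5 : pC (j ((p ⁻¹ᵁ W).ι ⟨w, hwW⟩)) = p ((p ⁻¹ᵁ W).ι ⟨w, hwW⟩) := by
          have h6 : (p ⁻¹ᵁ W).ι ≫ j ≫ pC = (p ⁻¹ᵁ W).ι ≫ p := by
            rw [reassoc_of% hj W hW, ← hPC.chart_over W hW, Iso.inv_hom_id_assoc, reassoc_of% Groth.Agent.RelProjLib.map_toSpecZero (RelProj.gradedHomAt θ hθ W hW) (hirr W hW),
              ← hP.chart_over W hW, ← Spec.map_comp_assoc]
            congr 4
            ext r
            show (θ.hom.app (op W)).hom ((𝒮h.str.app (op W)).hom r) = (𝒮.str.app (op W)).hom r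
            exact congrArg (fun t : Y.presheaf.obj (op W) ⟶ 𝒮.presheaf.obj (op W) => t.hom r)
              (NatTrans.congr_app θ.comm (op W))
          exact congrArg (fun t : ((p ⁻¹ᵁ W : P.Opens) : Scheme.{u}) ⟶ Y => t ⟨w, hwW⟩) h6
        exact h5
      rw [← h4]
      exact (congrArg (fun t => pC t ∈ V) hw).mpr hyV
    have h := congrArg (fun t => t ⟨w, hwV⟩) (hj V hV)
    simp only [Scheme.Hom.comp_apply] at h
    have h5 : v = Proj.map (RelProj.gradedHomAt θ hθ V hV) (hirr V hV) ((chart V hV).hom ⟨w, hwV⟩) :=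
      (RelProj.emb pC chartC V hV).isOpenEmbedding.injective (hv.trans (hw.symm.trans h))
    rw [h5]
    show (θ.hom.app (op V)).hom (RelCone.restrictTop 𝒮h z V) ∈ ((chart V hV).hom ⟨w, hwV⟩).asHomogeneousIdeal
    rw [hθ2]
    exact zero_mem _

end Groth.Agent.S8297
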