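import Groth.Statements.S8300
import Groth.Agent.RelSpecLib.Cone

set_option autoImplicit false
set_option linter.style.haveILetI false
set_option linter.unusedVariables false
set_option backward.isDefEq.respectTransparency false
universe u
open CategoryTheory CategoryTheory.Limits AlgebraicGeometry Opposite TopologicalSpace
open scoped HomogeneousIdeal
noncomputable section
open EGA2

namespace Groth.Agent.S8300

/-- Let q : Y' → Y be a morphism of schemes, 𝒮 and 𝒮' quasi-coherent positively graded algebras over O_Y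
and O_{Y'} with 𝒮_0 = O_Y and 𝒮'_0 = O_{Y'}, and φ : 𝒮 → q_*𝒮' a graded q-morphism (a map of sheaves
of rings compatible with the structure maps through q^♯, whose components 𝒮(U) → 𝒮'(U') for affine
opens U' ⊆ q⁻¹(U) preserve degrees, recorded as graded ring homomorphisms); let C = Spec(𝒮), C' =
Spec(𝒮') be the affine cones and Φ : C' → C the morphism Spec(φ), i.e. the morphism which on the
charts over affine opens U' ⊆ q⁻¹(U) is Spec of 𝒮(U) → 𝒮'(U'); let E ⊆ C and E' ⊆ C' be the pointed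
affine cones (defined chart by chart as the complements of V(𝒮(U)_+), resp. V(𝒮'(U')_+)). Then
Proj(φ) is everywhere defined, which here means that for all affine opens U' ⊆ q⁻¹(U) the open of
Proj 𝒮'(U') where the morphism induced by 𝒮(U) → 𝒮'(U') is defined (the complement of V_+ of the
ideal generated by the image of the irrelevant ideal of 𝒮(U)) is the whole of Proj 𝒮'(U'), if and
only if the inverse image of E under Φ equals E'. -/
theorem result {Y Y' : Scheme.{u}} (q : Y' ⟶ Y) (𝒮 : RelProj.QCGrAlg Y) (𝒮' : RelProj.QCGrAlg Y')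
    (h0 : RelCone.StrZeroBij 𝒮) (h0' : RelCone.StrZeroBij 𝒮')
    (u : 𝒮.presheaf ⟶ q.base _* 𝒮'.presheaf)
    (hu : 𝒮.str ≫ u = q.c ≫ (TopCat.Presheaf.pushforward CommRingCat.{u} q.base).map 𝒮'.str)
    (φ : ∀ (U : Y.Opens) (hU : IsAffineOpen U) (U' : Y'.Opens) (hU' : IsAffineOpen U') (_ : U' ≤ q ⁻¹ᵁ U),
      𝒮.deg U hU →+*ᵍ 𝒮'.deg U' hU')
    (hφ : ∀ (U : Y.Opens) (hU : IsAffineOpen U) (U' : Y'.Opens) (hU' : IsAffineOpen U') (hle : U' ≤ q ⁻¹ᵁ U),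
      (φ U hU U' hU' hle).toRingHom =
        ((u.app (op U) : 𝒮.presheaf.obj (op U) ⟶ 𝒮'.presheaf.obj (op (q ⁻¹ᵁ U))) ≫
          𝒮'.presheaf.map (homOfLE hle).op).hom)
    (Φ : 𝒮'.toQCAlg.spec ⟶ 𝒮.toQCAlg.spec)
    (hΦ : ∀ (U : Y.Opens) (hU : IsAffineOpen U) (U' : Y'.Opens) (hU' : IsAffineOpen U') (hle : U' ≤ q ⁻¹ᵁ U),
      𝒮'.toQCAlg.ι U' hU' ≫ Φ =
        Spec.map ((u.app (op U) : 𝒮.presheaf.obj (op U) ⟶ 𝒮'.presheaf.obj (op (q ⁻¹ᵁ U))) ≫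
          𝒮'.presheaf.map (homOfLE hle).op) ≫ 𝒮.toQCAlg.ι U hU) :
    (∀ (U : Y.Opens) (hU : IsAffineOpen U) (U' : Y'.Opens) (hU' : IsAffineOpen U') (hle : U' ≤ q ⁻¹ᵁ U),
        RelCone.domOpen (φ U hU U' hU' hle) = ⊤) ↔
      Φ ⁻¹ᵁ RelCone.pointedCone 𝒮 = RelCone.pointedCone 𝒮' := by
  have key : ∀ (U : Y.Opens) (hU : IsAffineOpen U) (U' : Y'.Opens) (hU' : IsAffineOpen U') (hle : U' ≤ q ⁻¹ᵁ U)
      (p : Spec (𝒮'.presheaf.obj (op U'))),
      Φ (𝒮'.toQCAlg.ι U' hU' p) ∈ RelCone.pointedCone 𝒮 ↔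
        ¬ ∀ a ∈ ((𝒮.deg U hU)₊).toIdeal, φ U hU U' hU' hle a ∈ p.asIdeal := by
    intro U hU U' hU' hle p
    have h1 : Φ (𝒮'.toQCAlg.ι U' hU' p) = 𝒮.toQCAlg.ι U hU
        (Spec.map ((u.app (op U) : 𝒮.presheaf.obj (op U) ⟶ 𝒮'.presheaf.obj (op (q ⁻¹ᵁ U))) ≫
          𝒮'.presheaf.map (homOfLE hle).op) p) :=
      congrArg (fun t : Spec (𝒮'.presheaf.obj (op U')) ⟶ _ => t p) (hΦ U hU U' hU' hle)
    rw [h1]
    change _ ∈ 𝒮.toQCAlg.ι U hU ⁻¹ᵁ RelCone.pointedCone 𝒮 ↔ _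
    rw [Groth.Agent.RelSpecLib.ι_preimage_pointedCone, Groth.Agent.RelSpecLib.mem_vertexCompl, not_iff_not]
    refine forall₂_congr fun a _ => ?_
    rw [Groth.Agent.RelSpecLib.SpecMap_apply_mem, ← hφ U hU U' hU' hle]
    exact Iff.rfl
  have key' : ∀ (U' : Y'.Opens) (hU' : IsAffineOpen U') (p : Spec (𝒮'.presheaf.obj (op U'))),
      𝒮'.toQCAlg.ι U' hU' p ∈ RelCone.pointedCone 𝒮' ↔ ¬ ((𝒮'.deg U' hU')₊).toIdeal ≤ p.asIdeal := by
    intro U' hU' p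
    change _ ∈ 𝒮'.toQCAlg.ι U' hU' ⁻¹ᵁ RelCone.pointedCone 𝒮' ↔ _
    rw [Groth.Agent.RelSpecLib.ι_preimage_pointedCone]
    rfl
  constructor
  · intro h
    ext x
    obtain ⟨U, hU, hxU, -⟩ := exists_isAffineOpen_mem_and_subset (U := (⊤ : Y.Opens))
      (show q (𝒮'.toQCAlg.π x) ∈ (⊤ : Y.Opens) from trivial)
    obtain ⟨U', hU', hxU', hle⟩ := exists_isAffineOpen_mem_and_subset (U := q ⁻¹ᵁ U)
      (show 𝒮'.toQCAlg.π x ∈ q ⁻¹ᵁ U from hxU)
    have hx : x ∈ 𝒮'.toQCAlg.π ⁻¹ᵁ U' := hxU'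
    rw [𝒮'.toQCAlg.π_preimage U' hU'] at hx
    obtain ⟨p, rfl⟩ := hx
    show Φ (𝒮'.toQCAlg.ι U' hU' p) ∈ RelCone.pointedCone 𝒮 ↔ _
    refine (key U hU U' hU' hle p).trans (Iff.trans ?_ (key' U' hU' p).symm)
    rw [not_iff_not]
    exact ⟨fun h1 => (Groth.Agent.RelSpecLib.domOpen_eq_top_iff _).mp (h U hU U' hU' hle) p.asIdeal p.isPrime h1,
      fun h1 a ha => h1 (Groth.Agent.RelSpecLib.map_irrelevant_mem _ ha)⟩
  · intro h U hU U' hU' hle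
    rw [Groth.Agent.RelSpecLib.domOpen_eq_top_iff]
    intro p hp hψ
    by_contra hle'
    have h2 := (key' U' hU' ⟨p, hp⟩).mpr hle'
    rw [← h] at h2
    exact (key U hU U' hU' hle ⟨p, hp⟩).mp h2 hψ

end Groth.Agent.S8300
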