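import Groth.Statements.S8301
import Groth.Agent.PullbackMod.Sections
import Groth.Agent.KoszShLib.AffHom
import Groth.Agent.QCohLib.Push
import Groth.Agent.QCohLib.Exact

set_option autoImplicit false
set_option backward.isDefEq.respectTransparency false
set_option backward.isDefEq.respectTransparency.types false
set_option linter.style.haveILetI false
universe u
open CategoryTheory CategoryTheory.Limits AlgebraicGeometry Opposite TopologicalSpace
noncomputable section
open EGA2

namespace Groth.Agent.S8301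

noncomputable section

variable {X S : Scheme.{u}} (f : X ⟶ S) [IsAffineHom f] (M : AMod (RelSpec.QCAlg.directImage f))

/-- The underlying module over the structure sheaf. -/
abbrev OM : S.Modules := (AMod.toOS (RelSpec.QCAlg.directImage f)).obj M

/-- The inverse image of the underlying module. -/
abbrev P : X.Modules := (Scheme.Modules.pullback f).obj (OM f M)

/-- The action of functions on a preimage. -/
abbrev modM (V : S.Opens) : Module Γ(X, f ⁻¹ᵁ V) Γ(OM f M, V) :=
  inferInstanceAs (Module ((AMod.ringSheaf (RelSpec.QCAlg.directImage f)).obj.obj (op V)) (M.val.obj (op V)))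

theorem smul_eq (V : S.Opens) (a : Γ(S, V)) (m : Γ(OM f M, V)) :
    letI := modM f M V
    a • m = f.app V a • m := rfl

theorem res_smulM {V V' : S.Opens} (h : V' ≤ V) (b : Γ(X, f ⁻¹ᵁ V)) (m : Γ(OM f M, V)) :
    letI := modM f M V
    letI := modM f M V'
    (OM f M).presheaf.map (homOfLE h).op (b • m) =
      X.presheaf.map ((Opens.map f.base).map (homOfLE h)).op b • (OM f M).presheaf.map (homOfLE h).op m :=
  M.val.map_smul (homOfLE h).op b m

/-- The unit on sections. -/
abbrev η (V : S.Opens) : Γ(OM f M, V) →+ Γ(P f M, f ⁻¹ᵁ V) :=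
  (((Scheme.Modules.pullbackPushforwardAdjunction f).unit.app (OM f M)).app V).hom

theorem surjective_app_of_epi {Y : Scheme.{u}} {E E' : Y.Modules} (hE : Coh.IsQCoh E) (hE' : Coh.IsQCoh E')
    (π : E ⟶ E') [Epi π] {U : Y.Opens} (hU : IsAffineOpen U) : Function.Surjective (π.app U) := by
  have hS : (ShortComplex.mk (kernel.ι π) π (kernel.condition π)).ShortExact :=
    { exact := ShortComplex.exact_kernel π }
  exact QCohLib.app_surjective hS (QCohLib.isQCoh_X₁ hS hE hE') hU

theorem η_smul (V : S.Opens) (a : Γ(S, V)) (m : Γ(OM f M, V)) :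
    η f M V (a • m) = f.app V a • η f M V m :=
  Scheme.Modules.Hom.app_smul ((Scheme.Modules.pullbackPushforwardAdjunction f).unit.app (OM f M)) a m

theorem η_res {V V' : S.Opens} (h : V' ≤ V) (m : Γ(OM f M, V)) :
    η f M V' ((OM f M).presheaf.map (homOfLE h).op m) =
      (P f M).presheaf.map ((Opens.map f.base).map (homOfLE h)).op (η f M V m) :=
  KoszShLib.app_res ((Scheme.Modules.pullbackPushforwardAdjunction f).unit.app (OM f M)) h m

variable [hM : Coh.IsQCoh (OM f M)]

/-- Sections of the inverse image over the preimage of an affine open are a base change. -/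
theorem isBC {V : S.Opens} (hV : IsAffineOpen V) :
    letI : Algebra Γ(S, V) Γ(X, f ⁻¹ᵁ V) := (f.appLE V (f ⁻¹ᵁ V) le_rfl).hom.toAlgebra
    letI := Module.compHom Γ(P f M, f ⁻¹ᵁ V) (f.appLE V (f ⁻¹ᵁ V) le_rfl).hom
    haveI : IsScalarTower Γ(S, V) Γ(X, f ⁻¹ᵁ V) Γ(P f M, f ⁻¹ᵁ V) := .of_algebraMap_smul fun _ _ => rfl
    ∃ l : Γ(OM f M, V) →ₗ[Γ(S, V)] Γ(P f M, f ⁻¹ᵁ V), IsBaseChange Γ(X, f ⁻¹ᵁ V) l ∧ ∀ m, l m = η f M V m := by
  letI : Algebra Γ(S, V) Γ(X, f ⁻¹ᵁ V) := (f.appLE V (f ⁻¹ᵁ V) le_rfl).hom.toAlgebra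
  letI := Module.compHom Γ(P f M, f ⁻¹ᵁ V) (f.appLE V (f ⁻¹ᵁ V) le_rfl).hom
  haveI : IsScalarTower Γ(S, V) Γ(X, f ⁻¹ᵁ V) Γ(P f M, f ⁻¹ᵁ V) := .of_algebraMap_smul fun _ _ => rfl
  refine ⟨_, PullbackMod.isBaseChange_pullMapL f (OM f M) hV (hV.preimage f) le_rfl, fun m => ?_⟩
  show (P f M).presheaf.map (𝟙 _) (η f M V m) = _
  rw [CategoryTheory.Functor.map_id]
  rfl

theorem induction_η {V : S.Opens} (hV : IsAffineOpen V) {motive : Γ(P f M, f ⁻¹ᵁ V) → Prop} (h0 : motive 0)
    (hη : ∀ m, motive (η f M V m)) (hsmul : ∀ (b : Γ(X, f ⁻¹ᵁ V)) z, motive z → motive (b • z))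
    (hadd : ∀ y z, motive y → motive z → motive (y + z)) (z : Γ(P f M, f ⁻¹ᵁ V)) : motive z := by
  letI : Algebra Γ(S, V) Γ(X, f ⁻¹ᵁ V) := (f.appLE V (f ⁻¹ᵁ V) le_rfl).hom.toAlgebra
  letI := Module.compHom Γ(P f M, f ⁻¹ᵁ V) (f.appLE V (f ⁻¹ᵁ V) le_rfl).hom
  haveI : IsScalarTower Γ(S, V) Γ(X, f ⁻¹ᵁ V) Γ(P f M, f ⁻¹ᵁ V) := .of_algebraMap_smul fun _ _ => rfl
  obtain ⟨l, hl, he⟩ := isBC f M hV
  exact hl.inductionOn z motive h0 (fun m => he m ▸ hη m) hsmul hadd

theorem exists_act {V : S.Opens} (hV : IsAffineOpen V) :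
    letI := modM f M V
    ∃ μ : Γ(P f M, f ⁻¹ᵁ V) →ₗ[Γ(X, f ⁻¹ᵁ V)] Γ(OM f M, V), ∀ m, μ (η f M V m) = m := by
  letI := modM f M V
  letI : Algebra Γ(S, V) Γ(X, f ⁻¹ᵁ V) := (f.appLE V (f ⁻¹ᵁ V) le_rfl).hom.toAlgebra
  letI := Module.compHom Γ(P f M, f ⁻¹ᵁ V) (f.appLE V (f ⁻¹ᵁ V) le_rfl).hom
  haveI : IsScalarTower Γ(S, V) Γ(X, f ⁻¹ᵁ V) Γ(P f M, f ⁻¹ᵁ V) := .of_algebraMap_smul fun _ _ => rfl
  haveI : IsScalarTower Γ(S, V) Γ(X, f ⁻¹ᵁ V) Γ(OM f M, V) :=
    .of_algebraMap_smul fun a m => by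
      rw [RingHom.algebraMap_toAlgebra, ← Scheme.Hom.app_eq_appLE]
      exact (smul_eq f M V a m).symm
  obtain ⟨l, hl, he⟩ := isBC f M hV
  exact ⟨hl.lift LinearMap.id, fun m => by rw [← he, hl.lift_eq]; rfl⟩

/-- The comparison module. -/
theorem exists_act_hom :
    ∃ μ : (Scheme.Modules.pushforward f).obj (P f M) ⟶ OM f M, ∀ (W : S.affineOpens),
      letI := modM f M W.1
      (∀ m, μ.app W.1 (η f M W.1 m) = m) ∧
      ∀ (b : Γ(X, f ⁻¹ᵁ W.1)) (z : Γ(P f M, f ⁻¹ᵁ W.1)), μ.app W.1 (b • z) = b • μ.app W.1 z := by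
  choose μ hμ using fun W : S.affineOpens => exists_act f M W.2
  have hlin : ∀ (W : S.affineOpens) (a : Γ(S, W.1)) (z : Γ(P f M, f ⁻¹ᵁ W.1)),
      μ W (f.app W.1 a • z) = a • μ W z := fun W a z => by
    letI := modM f M W.1
    rw [map_smul]
    exact (smul_eq f M W.1 a (μ W z)).symm
  obtain ⟨φ, hφ⟩ := KoszShLib.exists_hom_of_affine (M := (Scheme.Modules.pushforward f).obj (P f M)) (N := OM f M)
    (fun W => { toFun := fun z => μ W z, map_add' := map_add (μ W), map_smul' := fun a z => hlin W a z })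
    (fun V W hVW z => by
      show μ V ((P f M).presheaf.map ((Opens.map f.base).map (homOfLE hVW)).op z) =
        (OM f M).presheaf.map (homOfLE hVW).op (μ W z)
      letI := modM f M W.1
      letI := modM f M V.1
      change Γ(P f M, f ⁻¹ᵁ W.1) at z
      induction z using induction_η f M W.2 with
      | h0 => simp
      | hη m => rw [← η_res, hμ, hμ]
      | hsmul b z hz =>
        rw [Scheme.Modules.map_smul, map_smul, map_smul, hz, res_smulM]
      | hadd y z hy hz => simp only [map_add, hy, hz])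
  refine ⟨φ, fun W => ⟨fun m => (hφ W _).trans (hμ W m), fun b z => ?_⟩⟩
  letI := modM f M W.1
  rw [hφ, hφ]
  exact map_smul (μ W) b z

end

end Groth.Agent.S8301

namespace Groth.Agent.S8301

/-- Existence of the module attached to a quasi-coherent module over a quasi-coherent algebra: for the
algebra A(X) = f_*O_X of a scheme X affine over S: let f : X → S be an affine morphism. Every module
M over the sheaf of rings f_*O_X which is quasi-coherent as an O_S-module is, up to an isomorphism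
of f_*O_X-modules, the direct image f_*F of a quasi-coherent O_X-module F (f_*F carrying its natural
f_*O_X-module structure). (Every quasi-coherent O_S-algebra B is of this form with X = Spec(B); the
published statement is phrased for such B.) -/
theorem result {X S : Scheme.{u}} (f : X ⟶ S) [IsAffineHom f]
    (M : AMod (RelSpec.QCAlg.directImage f))
    (hM : Coh.IsQCoh ((AMod.toOS (RelSpec.QCAlg.directImage f)).obj M)) :
    ∃ F : X.Modules, Coh.IsQCoh F ∧ Nonempty ((AMod.dirImg f).obj F ≅ M) := by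
  haveI : Coh.IsQCoh (OM f M) := hM
  obtain ⟨μ, hμ⟩ := exists_act_hom f M
  have hP : Coh.IsQCoh (P f M) := PullbackMod.isQCoh_pullback f (OM f M)
  haveI := hP
  have hfP : Coh.IsQCoh ((Scheme.Modules.pushforward f).obj (P f M)) :=
    QCohLib.isQCoh_pushforward (P f M) f
  have hK : Coh.IsQCoh (kernel μ) := (QCohLib.isQCoh_image μ hfP hM).1
  haveI := hK
  let adj := Scheme.Modules.pullbackPushforwardAdjunction f
  let κ : (Scheme.Modules.pullback f).obj (kernel μ) ⟶ P f M :=
    (adj.homEquiv _ _).symm (kernel.ι μ)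
  have hN : Coh.IsQCoh ((Scheme.Modules.pullback f).obj (kernel μ)) := PullbackMod.isQCoh_pullback f _
  let F := cokernel κ
  have hF : Coh.IsQCoh F := (QCohLib.isQCoh_image κ hN hP).2
  let ψ : OM f M ⟶ (Scheme.Modules.pushforward f).obj F :=
    adj.unit.app _ ≫ (Scheme.Modules.pushforward f).map (cokernel.π κ)
  have hψ : ∀ (V : S.Opens) m, ψ.app V m = (cokernel.π κ).app (f ⁻¹ᵁ V) (η f M V m) := fun _ _ => rfl
  -- the kernel of the projection over the preimage of an affine open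
  have hker : ∀ (W : S.affineOpens) (z : Γ(P f M, f ⁻¹ᵁ W.1)),
      (cokernel.π κ).app (f ⁻¹ᵁ W.1) z = 0 ↔ μ.app W.1 z = 0 := by
    intro W z
    letI := modM f M W.1
    have hη : ∀ t, κ.app (f ⁻¹ᵁ W.1) ((adj.unit.app (kernel μ)).app W.1 t) = (kernel.ι μ).app W.1 t := fun t => by
      show (adj.unit.app (kernel μ) ≫ (Scheme.Modules.pushforward f).map κ).app W.1 t = _
      exact congrArg (fun k : kernel μ ⟶ (Scheme.Modules.pushforward f).obj (P f M) => k.app W.1 t)
        ((Adjunction.homEquiv_unit adj _ _ κ).symm.trans ((adj.homEquiv _ _).apply_symm_apply (kernel.ι μ)))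
    constructor
    · intro hz
      obtain ⟨t, ht⟩ := QCohLib.kernel_app_exact (cokernel.π κ) _ z hz
      haveI : Epi (kernel.lift (cokernel.π κ) κ (cokernel.condition κ)) :=
        (ShortComplex.exact_of_g_is_cokernel (ShortComplex.mk κ (cokernel.π κ) (cokernel.condition κ))
          (cokernelIsCokernel κ)).epi_kernelLift
      obtain ⟨n, rfl⟩ := surjective_app_of_epi hN
        (QCohLib.isQCoh_image (cokernel.π κ) hP hF).1
        (kernel.lift (cokernel.π κ) κ (cokernel.condition κ)) (W.2.preimage f) t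
      have ht' : κ.app (f ⁻¹ᵁ W.1) n = z := by
        rw [← ht]
        exact congrArg (fun k : _ ⟶ P f M => k.app (f ⁻¹ᵁ W.1) n)
          (kernel.lift_ι (cokernel.π κ) κ (cokernel.condition κ)).symm
      subst ht'
      clear ht hz
      letI : Algebra Γ(S, W.1) Γ(X, f ⁻¹ᵁ W.1) := (f.appLE W.1 (f ⁻¹ᵁ W.1) le_rfl).hom.toAlgebra
      letI := Module.compHom Γ((Scheme.Modules.pullback f).obj (kernel μ), f ⁻¹ᵁ W.1)
        (f.appLE W.1 (f ⁻¹ᵁ W.1) le_rfl).hom
      haveI : IsScalarTower Γ(S, W.1) Γ(X, f ⁻¹ᵁ W.1) Γ((Scheme.Modules.pullback f).obj (kernel μ), f ⁻¹ᵁ W.1) :=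
        .of_algebraMap_smul fun _ _ => rfl
      induction n using (PullbackMod.isBaseChange_pullMapL f (kernel μ) W.2 (W.2.preimage f) le_rfl).inductionOn with
      | zero => simp
      | tmul t =>
        have e : PullbackMod.pullMapL f (kernel μ) (le_refl (f ⁻¹ᵁ W.1)) t =
            (adj.unit.app (kernel μ)).app W.1 t := by
          show ((Scheme.Modules.pullback f).obj (kernel μ)).presheaf.map (𝟙 _) _ = _
          rw [CategoryTheory.Functor.map_id]
          rfl
        rw [e, hη]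
        show (kernel.ι μ ≫ μ).app W.1 t = 0
        rw [kernel.condition]
        rfl
      | smul b n hn => rw [Scheme.Modules.Hom.app_smul, (hμ W).2, hn, smul_zero]
      | add n n' hn hn' => rw [map_add, map_add, hn, hn', add_zero]
    · intro hz
      obtain ⟨t, ht⟩ := QCohLib.kernel_app_exact μ W.1 z hz
      rw [← ht, ← hη]
      show (κ ≫ cokernel.π κ).app _ _ = 0
      rw [cokernel.condition]
      rfl
  -- linearity
  have hlin : ∀ (W : S.affineOpens) (b : Γ(X, f ⁻¹ᵁ W.1)) (m : Γ(OM f M, W.1)),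
      letI := modM f M W.1
      ψ.app W.1 (b • m) = b • (cokernel.π κ).app (f ⁻¹ᵁ W.1) (η f M W.1 m) := by
    intro W b m
    letI := modM f M W.1
    rw [hψ, ← Scheme.Modules.Hom.app_smul]
    refine @eq_of_sub_eq_zero Γ(F, f ⁻¹ᵁ W.1) _ _ _ ?_
    rw [← map_sub, hker W]
    rw [map_sub, (hμ W).2, (hμ W).1, (hμ W).1, sub_self]
  have hbij : ∀ W : S.affineOpens, Function.Bijective (ψ.app W.1) := by
    intro W
    letI := modM f M W.1
    refine ⟨(injective_iff_map_eq_zero (ψ.app W.1).hom).2 fun m hm => ?_, fun y => ?_⟩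
    · have := (hker W _).1 ((hψ W.1 m).symm.trans hm)
      rwa [(hμ W).1] at this
    · obtain ⟨z, rfl⟩ := surjective_app_of_epi hP hF (cokernel.π κ) (W.2.preimage f) y
      refine ⟨μ.app W.1 z, ?_⟩
      induction z using induction_η f M W.2 with
      | h0 => exact (congrArg (ψ.app W.1) (map_zero _)).trans ((map_zero _).trans (map_zero _).symm)
      | hη m => rw [(hμ W).1]; rfl
      | hsmul b z hz =>
        rw [(hμ W).2, hlin, Scheme.Modules.Hom.app_smul]
        exact congrArg (b • ·) ((hψ W.1 _).symm.trans hz)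
      | hadd y z hy hz => simp only [map_add, hy, hz]
  let inv : ∀ W : S.affineOpens, Γ((Scheme.Modules.pushforward f).obj F, W.1) →ₗ[Γ(S, W.1)] Γ(OM f M, W.1) :=
    fun W => (LinearEquiv.ofBijective (KoszShLib.appLin ψ W.1) (hbij W)).symm.toLinearMap
  have hinv : ∀ W t, ψ.app W.1 (inv W t) = t := fun W t =>
    (LinearEquiv.ofBijective (KoszShLib.appLin ψ W.1) (hbij W)).apply_symm_apply t
  obtain ⟨φ, hφ⟩ := KoszShLib.exists_hom_of_affine inv fun V W hVW t => (hbij V).1 (by
    rw [hinv, KoszShLib.app_res, hinv])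
  haveI : IsIso ψ := ⟨φ, KoszShLib.hom_ext_affine _ _ fun W t => (hbij W).1 (by
      show ψ.app W.1 (φ.app W.1 (ψ.app W.1 t)) = ψ.app W.1 t
      rw [hφ, hinv]), KoszShLib.hom_ext_affine _ _ fun W t => by
      show ψ.app W.1 (φ.app W.1 t) = t
      rw [hφ, hinv]⟩
  let e : M ⟶ (AMod.dirImg f).obj F := ⟨PresheafOfModules.homMk ψ.mapPresheaf fun U b m => by
    letI := modM f M U.unop
    change Γ(OM f M, U.unop) at m
    change Γ(X, f ⁻¹ᵁ U.unop) at b
    show ψ.app U.unop (b • m) = b • (show Γ(F, f ⁻¹ᵁ U.unop) from ψ.app U.unop m)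
    refine KoszShLib.eq_of_affine (N := (Scheme.Modules.pushforward f).obj F) U.unop _ _ fun W hW => ?_
    letI := modM f M W.1
    rw [← KoszShLib.app_res ψ hW (b • m), res_smulM]
    show _ = F.presheaf.map ((Opens.map f.base).map (homOfLE hW)).op (b • (show Γ(F, f ⁻¹ᵁ U.unop) from ψ.app U.unop m))
    rw [hlin, Scheme.Modules.map_smul]
    refine congrArg _ ?_
    exact (hψ W.1 _).symm.trans (KoszShLib.app_res ψ hW m)⟩
  haveI : IsIso ((SheafOfModules.toSheaf (AMod.ringSheaf (RelSpec.QCAlg.directImage f))).map e) :=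
    inferInstanceAs (IsIso ((SheafOfModules.toSheaf S.ringCatSheaf).map ψ))
  haveI : IsIso e := isIso_of_reflects_iso _ (SheafOfModules.toSheaf (AMod.ringSheaf (RelSpec.QCAlg.directImage f)))
  exact ⟨F, hF, ⟨(asIso e).symm⟩⟩

end Groth.Agent.S8301
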