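import Groth.Statements.S8302
import Groth.Agent.DirImgLib.Full

set_option autoImplicit false
universe u
set_option backward.isDefEq.respectTransparency false
set_option backward.isDefEq.respectTransparency.types false
open CategoryTheory CategoryTheory.Limits AlgebraicGeometry Opposite TopologicalSpace
noncomputable section
open EGA2

namespace Groth.Agent.S8302

/-- The case of a single scheme X affine over S and the identity morphism of X: let f : X → S be an
affine morphism and F, G quasi-coherent O_X-modules. Then the direct image u ↦ f_*(u) is a bijection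
from the set of O_X-module homomorphisms F → G onto the set of homomorphisms f_*F → f_*G of modules
over the direct-image algebra f_*O_X. -/
theorem result {X S : Scheme.{u}} (f : X ⟶ S) [IsAffineHom f]
    (F G : X.Modules) (hF : Coh.IsQCoh F) (hG : Coh.IsQCoh G) :
    Function.Bijective
      ((AMod.dirImg f).map : (F ⟶ G) → ((AMod.dirImg f).obj F ⟶ (AMod.dirImg f).obj G)) := by
  haveI : Coh.IsQCoh F := hF
  refine ⟨fun u v h => ?_, fun k => ?_⟩
  · let du : Groth.Agent.DirImgLib.Data f F G :=
      { ψ := fun U => (u.app (f ⁻¹ᵁ U)).hom
        nat := fun h' s => (ConcreteCategory.congr_hom (u.mapPresheaf.naturality ((TopologicalSpace.Opens.map f.base).map (homOfLE h')).op) s).symm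
        lin := fun U a s => Scheme.Modules.Hom.app_smul u a s }
    have key : ∀ (m : F ⟶ G), (AMod.dirImg f).map m = (AMod.dirImg f).map u → m = du.hom := fun m hm => by
      refine Scheme.Modules.hom_ext _ _ fun V => ConcreteCategory.hom_ext _ _ fun s₀ => ?_
      rw [du.hom_app]
      refine du.rel_unique (fun U V' h1 h2 a s e => ?_) (du.app_rel s₀)
      have e1 : m.app (f ⁻¹ᵁ U) s = u.app (f ⁻¹ᵁ U) s :=
        congrArg (fun k : (AMod.dirImg f).obj F ⟶ (AMod.dirImg f).obj G => k.val.app (op U) s) hm
      have n1 := ConcreteCategory.congr_hom (m.mapPresheaf.naturality (homOfLE h1).op) s₀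
      have n2 := ConcreteCategory.congr_hom (m.mapPresheaf.naturality (homOfLE h2).op) s
      refine n1.symm.trans ((congrArg (m.app V') e).trans ?_)
      rw [Scheme.Modules.Hom.app_smul]
      exact congrArg (a • ·) (n2.trans (congrArg _ e1))
    exact (key u rfl).trans (key v h.symm).symm
  · let d : Groth.Agent.DirImgLib.Data f F G :=
      { ψ := fun U => (k.val.app (op U)).hom.toAddMonoidHom
        nat := fun h' s => (PresheafOfModules.naturality_apply k.val (homOfLE h').op s).symm
        lin := fun U a s => (k.val.app (op U)).hom.map_smul a s }
    refine ⟨d.hom, ?_⟩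
    apply SheafOfModules.hom_ext
    ext U s
    exact d.app_preimage U.unop s

end Groth.Agent.S8302
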