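import Groth.Statements.S8305
import Groth.Agent.S8302
import Groth.Agent.QCohLib.Push

set_option autoImplicit false
universe u
set_option backward.isDefEq.respectTransparency false
set_option backward.isDefEq.respectTransparency.types false
open CategoryTheory CategoryTheory.Limits AlgebraicGeometry Opposite TopologicalSpace
noncomputable section
open EGA2

namespace Groth.Agent.S8305

/-- Let X and Y be schemes affine over S with structure morphisms gX and gY, h : Y → X a morphism over
S, F a quasi-coherent O_X-module, G a quasi-coherent O_Y-module and v : F → h_*G a homomorphism of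
O_X-modules, so that (h, v) is a morphism of pairs (Y, G) → (X, F). Then h and v are isomorphisms if
and only if the direct-image algebra homomorphism A(h) : gX_*O_X → gY_*O_Y and the direct image A(v)
= gX_*(v) : gX_*F → gX_*h_*G are isomorphisms (the pair (A(h), A(v)) is a di-isomorphism). -/
theorem result {X Y S : Scheme.{u}} (gX : X ⟶ S) [IsAffineHom gX]
    (gY : Y ⟶ S) [IsAffineHom gY] (h : Y ⟶ X) (hh : h ≫ gX = gY)
    (F : X.Modules) (G : Y.Modules) (hF : Coh.IsQCoh F) (hG : Coh.IsQCoh G)
    (v : F ⟶ (Scheme.Modules.pushforward h).obj G) :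
    (IsIso h ∧ IsIso v) ↔
      (IsIso (AffAlg.algHom gX gY h hh) ∧ IsIso ((Scheme.Modules.pushforward gX).map v)) := by
  subst hh
  haveI : IsAffineHom h := IsAffineHom.of_comp h gX
  constructor
  · rintro ⟨hi, hv'⟩
    haveI := hi
    haveI := hv'
    refine ⟨?_, inferInstance⟩
    haveI : ∀ U, IsIso (((TopCat.Presheaf.pushforward CommRingCat.{u} gX.base).map h.c).app U) := fun U =>
      inferInstanceAs (IsIso (h.app (gX ⁻¹ᵁ U.unop)))
    haveI : IsIso ((TopCat.Presheaf.pushforward CommRingCat.{u} gX.base).map h.c) := NatIso.isIso_of_isIso_app _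
    unfold AffAlg.algHom
    infer_instance
  rintro ⟨ha, hv'⟩
  haveI := ha
  haveI := hv'
  have hi : IsIso h := by
    change MorphismProperty.isomorphisms Scheme h
    rw [HasAffineProperty.iff_of_iSup_eq_top (P := MorphismProperty.isomorphisms Scheme.{u})
      (fun U : S.affineOpens => (⟨gX ⁻¹ᵁ U.1, U.2.preimage gX⟩ : X.affineOpens))
      (by
        refine top_le_iff.1 fun x _ => ?_
        obtain ⟨U, hU, hxU, -⟩ := exists_isAffineOpen_mem_and_subset (X := S) (x := gX x) (U := ⊤) trivial
        exact TopologicalSpace.Opens.mem_iSup.2 ⟨⟨U, hU⟩, hxU⟩)]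
    intro U
    refine ⟨((U.2.preimage gX).preimage h), ?_⟩
    have h1 : IsIso ((AffAlg.algHom gX (h ≫ gX) h rfl).app (op U.1)) := inferInstance
    unfold AffAlg.algHom at h1
    rw [NatTrans.comp_app] at h1
    haveI := h1
    haveI : IsIso (h.app (gX ⁻¹ᵁ U.1)) := by
      refine @IsIso.of_isIso_comp_right _ _ _ _ _ _ _ ?_ h1
      infer_instance
    rw [morphismRestrict_appTop]
    have key : ∀ O : X.Opens, O = gX ⁻¹ᵁ U.1 → IsIso (h.app O) := by rintro O rfl; infer_instance
    haveI := key _ (Scheme.Opens.ι_image_top _)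
    infer_instance
  refine ⟨hi, ?_⟩
  haveI : Coh.IsQCoh G := hG
  have hG' : Coh.IsQCoh ((Scheme.Modules.pushforward h).obj G) := Groth.Agent.QCohLib.isQCoh_pushforward G h
  haveI : IsIso ((SheafOfModules.toSheaf (AMod.ringSheaf (RelSpec.QCAlg.directImage gX))).map ((AMod.dirImg gX).map v)) :=
    inferInstanceAs (IsIso ((SheafOfModules.toSheaf S.ringCatSheaf).map ((Scheme.Modules.pushforward gX).map v)))
  haveI : IsIso ((AMod.dirImg gX).map v) :=
    isIso_of_reflects_iso _ (SheafOfModules.toSheaf (AMod.ringSheaf (RelSpec.QCAlg.directImage gX)))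
  obtain ⟨w, hw⟩ := (Groth.Agent.S8302.result gX _ _ hG' hF).2 (inv ((AMod.dirImg gX).map v))
  refine ⟨w, (Groth.Agent.S8302.result gX _ _ hF hF).1 ?_, (Groth.Agent.S8302.result gX _ _ hG' hG').1 ?_⟩
  · rw [Functor.map_comp, hw, IsIso.hom_inv_id, CategoryTheory.Functor.map_id]
  · rw [Functor.map_comp, hw, IsIso.inv_hom_id, CategoryTheory.Functor.map_id]

end Groth.Agent.S8305
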