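import Groth.Statements.S8306
import Mathlib
import Groth.Agent.QCohLib.Exact

set_option autoImplicit false
set_option backward.isDefEq.respectTransparency false
universe u
open CategoryTheory CategoryTheory.Limits AlgebraicGeometry Opposite TopologicalSpace
noncomputable section
open EGA2

namespace Groth.Agent.S8306

/-- Exactness: in the form it takes for the direct image: let f : X → S be an affine morphism and v : F
→ G an epimorphism between quasi-coherent O_X-modules. Then the direct image f_*(v) : f_*F → f_*G, a
homomorphism of modules over the direct-image algebra f_*O_X, is again an epimorphism. (The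
published statement says that the module on X attached to a quasi-coherent f_*O_X-module is an exact
functor of that module; since this functor is inverse to the direct image on quasi-coherent modules
and the direct image is left exact, its exactness amounts to the direct image preserving
epimorphisms between quasi-coherent modules.) -/
theorem result {X S : Scheme.{u}} (f : X ⟶ S) [IsAffineHom f]
    (F G : X.Modules) (hF : Coh.IsQCoh F) (hG : Coh.IsQCoh G) (v : F ⟶ G) [Epi v] :
    Epi ((AMod.dirImg f).map v) := by
  refine ⟨fun {Z} g h e => ?_⟩
  ext O s
  induction O with | op O => ?_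
  refine TopCat.Sheaf.eq_of_locally_eq' ((SheafOfModules.toSheaf _).obj Z) (fun V : {V : S.affineOpens // V.1 ≤ O} => V.1.1)
    O (fun V => homOfLE V.2) (fun x hx => ?_) _ _ fun V => ?_
  · obtain ⟨_, ⟨V, hV, rfl⟩, hxV, hle⟩ := S.isBasis_affineOpens.exists_subset_of_mem_open hx O.2
    exact TopologicalSpace.Opens.mem_iSup.2 ⟨⟨⟨V, hV⟩, hle⟩, hxV⟩
  · obtain ⟨t, ht⟩ := Groth.Agent.QCohLib.app_surjective
      (ShortComplex.ShortExact.mk (S := ShortComplex.mk (Limits.kernel.ι v) v (Limits.kernel.condition v)) (ShortComplex.exact_kernel v))
      (Groth.Agent.QCohLib.isQCoh_X₁ (ShortComplex.ShortExact.mk (ShortComplex.exact_kernel v)) hF hG) (V.1.2.preimage f)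
      (G.presheaf.map (homOfLE ((TopologicalSpace.Opens.map f.base).map (homOfLE V.2)).le).op s)
    have h1 := congrArg (fun z => z t) (congrArg (fun k => k.val.app (Opposite.op V.1.1)) e)
    have key : ∀ k : (AMod.dirImg f).obj G ⟶ Z,
        Z.val.presheaf.map (homOfLE V.2).op (k.val.app (Opposite.op O) s) =
          k.val.app (Opposite.op V.1.1) (v.app (f ⁻¹ᵁ V.1.1) t) := fun k => by
      rw [ht]
      exact (PresheafOfModules.naturality_apply k.val (homOfLE V.2).op s).symm
    exact (key g).trans (h1.trans (key h).symm)

end Groth.Agent.S8306
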