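import Groth.Statements.S8309
import Groth.Agent.RelSpecLib.Retr

set_option autoImplicit false
set_option linter.style.haveILetI false
set_option linter.unusedVariables false
set_option backward.isDefEq.respectTransparency false
universe u
open CategoryTheory CategoryTheory.Limits AlgebraicGeometry Opposite TopologicalSpace
open scoped HomogeneousIdeal
noncomputable section
open EGA2

namespace Groth.Agent.S8309

/-- The canonical retraction of the pointed affine cone: let 𝒮 be a quasi-coherent positively graded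
O_Y-algebra with 𝒮_0 = O_Y, Ŝ = 𝒮[z] (graded homomorphism ι : 𝒮 → Ŝ and a degree-one global section
z, polynomial over affine opens), C = Spec(𝒮), X = Proj(𝒮) and Ĉ = Proj(Ŝ) with their charts, E ⊆ C
and Ê ⊆ Ĉ the pointed cones, i : C → Ĉ the canonical open immersion and p : Ê → X the canonical
retraction (the morphism which on each affine piece Spec Ŝ(U)_(ι f), f ∈ 𝒮(U) homogeneous of
positive degree, is Spec of 𝒮(U)_(f) → Ŝ(U)_(ι f) followed by the chart of X). Then the image of E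
under i lies in Ê, and for the induced morphism i' : E → Ê the composite π = i' ≫ p : E → X is
affine and surjective. -/
theorem result {Y PC P : Scheme.{u}} (𝒮 𝒮h : RelProj.QCGrAlg Y) (h0 : RelCone.StrZeroBij 𝒮)
    (ι : 𝒮.toQCAlg ⟶ 𝒮h.toQCAlg) (z : 𝒮h.presheaf.obj (op ⊤)) (hz : RelCone.IsPolyOver 𝒮 𝒮h ι z)
    (pC : PC ⟶ Y)
    (chartC : ∀ (U : Y.Opens) (hU : IsAffineOpen U), (((pC ⁻¹ᵁ U : PC.Opens) : Scheme.{u}) ≅ Proj (𝒮h.deg U hU)))
    (hPC : RelProj.IsRelProj 𝒮h pC chartC)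
    (p : P ⟶ Y)
    (chart : ∀ (U : Y.Opens) (hU : IsAffineOpen U), (((p ⁻¹ᵁ U : P.Opens) : Scheme.{u}) ≅ Proj (𝒮.deg U hU)))
    (hP : RelProj.IsRelProj 𝒮 p chart)
    (i : 𝒮.toQCAlg.spec ⟶ PC) (hi : RelCone.IsConeImm 𝒮 hz pC chartC i)
    (r : ((RelCone.pointedProjCone 𝒮 hz pC chartC : PC.Opens) : Scheme.{u}) ⟶ P)
    (hr : (∀ (U : Y.Opens) (hU : IsAffineOpen U) (d : ℕ) (hd : 0 < d) (f : 𝒮.presheaf.obj (op U)) (hf : f ∈ 𝒮.deg U hU d)
        (g : Spec (CommRingCat.of (HomogeneousLocalization.Away (𝒮h.deg U hU) ((RelProj.gradedHomAt ι hz.graded U hU) f))) ⟶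
          ((RelCone.pointedProjCone 𝒮 hz pC chartC : PC.Opens) : Scheme.{u})),
        g ≫ (RelCone.pointedProjCone 𝒮 hz pC chartC).ι =
            Proj.awayι (𝒮h.deg U hU) ((RelProj.gradedHomAt ι hz.graded U hU) f) ((RelProj.gradedHomAt ι hz.graded U hU).2 hf) hd ≫
              RelProj.emb pC chartC U hU →
          g ≫ r =
            Spec.map (CommRingCat.ofHom (HomogeneousLocalization.Away.map (RelProj.gradedHomAt ι hz.graded U hU) f)) ≫
              Proj.awayι (𝒮.deg U hU) f hf hd ≫ RelProj.emb p chart U hU)) :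
    (RelCone.pointedCone 𝒮 : 𝒮.toQCAlg.spec.Opens) ≤ i ⁻¹ᵁ (RelCone.pointedProjCone 𝒮 hz pC chartC) ∧
      ∀ i' : ((RelCone.pointedCone 𝒮 : 𝒮.toQCAlg.spec.Opens) : Scheme.{u}) ⟶ ((RelCone.pointedProjCone 𝒮 hz pC chartC : PC.Opens) : Scheme.{u}),
        i' ≫ (RelCone.pointedProjCone 𝒮 hz pC chartC).ι = (RelCone.pointedCone 𝒮).ι ≫ i →
          IsAffineHom (i' ≫ r) ∧ Function.Surjective (i' ≫ r).base := by
  classical
  revert r hr
  rw [Groth.Agent.RelProjLib.QMap.pointedProjCone_eq_domQ hz hPC]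
  intro r hr
  let A := RelProj.QGrHom.ofHom ι hz.graded
  obtain ⟨v, hv, -⟩ := Groth.Agent.RelProjLib.QMap.existsUnique_on A p chart pC chartC hP hPC
  obtain rfl := Groth.Agent.RelSpecLib.eq_of_retr hz hPC hv r hr
  have hpt : ∀ (U : Y.Opens) (hU : IsAffineOpen U) (P₀ : Spec (𝒮.presheaf.obj (op U))) (d : ℕ) (a : 𝒮.presheaf.obj (op U))
      (ha : a ∈ 𝒮.deg U hU d), a ∉ P₀.asIdeal →
      Proj.awayι (𝒮h.deg U hU) (RelCone.restrictTop 𝒮h z U) (hz.deg_z U hU) one_pos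
        (Spec.map (CommRingCat.ofHom (hz.awayZToBase U hU)) P₀) ∈
          Proj.basicOpen (𝒮h.deg U hU) ((RelProj.gradedHomAt ι hz.graded U hU) a) := by
    intro U hU P₀ d a ha haP
    refine (ProjectiveSpectrum.mem_basicOpen _ _ _).mpr fun h => haP ?_
    have := (Groth.Agent.RelSpecLib.mem_awayι_apply hz U hU P₀ (hz.graded U hU d a ha)).mp h
    rwa [hz.evalOne_ι] at this
  have himg : ∀ (U : Y.Opens) (hU : IsAffineOpen U) (P₀ : Spec (𝒮.presheaf.obj (op U))),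
      i (𝒮.toQCAlg.ι U hU P₀) = RelProj.emb pC chartC U hU
        (Proj.awayι (𝒮h.deg U hU) (RelCone.restrictTop 𝒮h z U) (hz.deg_z U hU) one_pos
          (Spec.map (CommRingCat.ofHom (hz.awayZToBase U hU)) P₀)) := fun U hU P₀ =>
    congrArg (fun t : Spec (𝒮.presheaf.obj (op U)) ⟶ PC => t P₀) (hi U hU)
  refine ⟨?_, fun i' hi' => ?_⟩
  · intro x hx
    obtain ⟨U, P₀, hP₀, rfl⟩ := Opens.mem_iSup.mp hx
    have hP₁ : ¬ ((𝒮.deg U.1 U.2)₊).toIdeal ≤ P₀.asIdeal := hP₀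
    obtain ⟨d, hd, a, ha, haP⟩ : ∃ d, 0 < d ∧ ∃ a ∈ 𝒮.deg U.1 U.2 d, a ∉ P₀.asIdeal := by
      by_contra hcon
      push Not at hcon
      exact hP₁ ((HomogeneousIdeal.toIdeal_irrelevant_le _).mpr fun d hd a ha => hcon d hd a ha)
    show i (𝒮.toQCAlg.ι U.1 U.2 P₀) ∈ RelProj.domQ A pC chartC
    rw [himg, ← Groth.Agent.RelProjLib.QMap.pointedProjCone_eq_domQ hz hPC]
    refine Opens.mem_iSup.mpr ⟨U, _, (RelCone.mem_domOpen _ _).mpr ⟨a, HomogeneousIdeal.mem_irrelevant_of_mem _ hd ha, ?_⟩, rfl⟩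
    exact (ProjectiveSpectrum.mem_basicOpen _ _ _).mp (hpt U.1 U.2 P₀ d a ha haP)
  have hval : ∀ x : ↥((RelCone.pointedCone 𝒮 : 𝒮.toQCAlg.spec.Opens) : Scheme.{u}),
      (i' x).1 = i x.1 := fun x => congrArg (fun t : ((RelCone.pointedCone 𝒮 : 𝒮.toQCAlg.spec.Opens) : Scheme.{u}) ⟶ PC => t x) hi'
  have hcone : ∀ (U : Y.Opens) (hU : IsAffineOpen U) (P₀ : Spec (𝒮.presheaf.obj (op U))) (d : ℕ) (a : 𝒮.presheaf.obj (op U))
      (ha : a ∈ 𝒮.deg U hU d), 0 < d → a ∉ P₀.asIdeal → 𝒮.toQCAlg.ι U hU P₀ ∈ RelCone.pointedCone 𝒮 := by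
    intro U hU P₀ d a ha hd haP
    exact Opens.mem_iSup.mpr ⟨⟨U, hU⟩, P₀, fun h => haP (h (HomogeneousIdeal.mem_irrelevant_of_mem _ hd ha)), rfl⟩
  constructor
  · refine isAffineHom_of_forall_exists_isAffineOpen _ fun y => ?_
    obtain ⟨k, hk⟩ := Opens.mem_iSup.mp
      ((Groth.Agent.RelProjLib.QMap.iSup_chartRange hP).ge (Set.mem_univ y : y ∈ (⊤ : P.Opens)))
    obtain ⟨⟨U, hU'⟩, ⟨d, hd⟩, f, hf⟩ := k
    have hU : IsAffineOpen U := hU'
    refine ⟨_, hk, isAffineOpen_opensRange _, ?_⟩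
    rw [← Scheme.Hom.isAffineOpen_iff_of_isOpenImmersion (RelCone.pointedCone 𝒮).ι]
    have hO := Groth.Agent.RelProjLib.QMap.on_preimage hz.graded hP hPC hv U hU d hd f hf
    have e : (RelCone.pointedCone 𝒮).ι ''ᵁ ((i' ≫ r) ⁻¹ᵁ (Proj.awayι (𝒮.deg U hU) f hf hd ≫ RelProj.emb p chart U hU).opensRange) =
        𝒮.toQCAlg.ι U hU ''ᵁ PrimeSpectrum.basicOpen f := by
      rw [Scheme.Hom.comp_preimage, hO]
      have hr : ∀ w, w ∈ (Groth.Agent.RelProjLib.QMap.lMap A pC chartC ⟨U, hU, U, hU, le_rfl, d, hd, f, hf⟩).opensRange ↔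
          w.1 ∈ (RelProj.emb pC chartC U hU).base '' (Proj.basicOpen (𝒮h.deg U hU) (A.gradedAt U hU U hU le_rfl f) : Set _) := by
        intro w
        have hrc := Groth.Agent.RelProjLib.QMap.range_cMap A pC chartC ⟨U, hU, U, hU, le_rfl, d, hd, f, hf⟩
        constructor
        · rintro ⟨t, rfl⟩
          rw [← hrc]
          exact ⟨t, (congrArg (fun s => s t) (Groth.Agent.RelProjLib.QMap.lMap_ι A pC chartC _)).symm⟩
        · intro h
          rw [← hrc] at h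
          obtain ⟨t, ht⟩ := h
          refine ⟨t, (RelProj.domQ A pC chartC).ι.isOpenEmbedding.injective ?_⟩
          exact (congrArg (fun s => s t) (Groth.Agent.RelProjLib.QMap.lMap_ι A pC chartC _)).trans ht
      rw [Groth.Agent.RelProjLib.QMap.gradedAt_ofHom hz.graded U hU] at hr
      ext x
      constructor
      · rintro ⟨x', hx', rfl⟩
        obtain ⟨w, hw, hwx⟩ := (hr (i' x')).mp hx'
        have hπ : 𝒮.toQCAlg.π x'.1 ∈ U := by
          rw [← Groth.Agent.RelSpecLib.coneImm_π hz hPC hi, Scheme.Hom.comp_apply, ← hval x', ← hwx]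
          exact ((chartC U hU).inv w).2
        obtain ⟨P₀, hP₀⟩ := Groth.Agent.RelSpecLib.mem_range_ι 𝒮.toQCAlg x'.1 U hU hπ
        refine ⟨P₀, ?_, hP₀⟩
        show f ∉ P₀.asIdeal
        intro hfP
        have hw2 : w = _ := (RelProj.emb pC chartC U hU).isOpenEmbedding.injective
          (hwx.trans ((hval x').trans ((congrArg (fun t => i t) hP₀.symm).trans (himg U hU P₀))))
        rw [hw2] at hw
        refine (ProjectiveSpectrum.mem_basicOpen _ _ _).mp hw ((Groth.Agent.RelSpecLib.mem_awayι_apply hz U hU P₀ (hz.graded U hU d f hf)).mpr ?_)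
        rw [hz.evalOne_ι]
        exact hfP
      · rintro ⟨P₀, hP₀, rfl⟩
        refine ⟨⟨_, hcone U hU P₀ d f hf hd hP₀⟩, (hr _).mpr ⟨_, hpt U hU P₀ d f hf hP₀, ?_⟩, rfl⟩
        rw [hval]
        exact (himg U hU P₀).symm
    rw [e]
    exact (IsAffineOpen.Spec_basicOpen f).image_of_isOpenImmersion _
  · intro y
    obtain ⟨U, hU, hyU, -⟩ := exists_isAffineOpen_mem_and_subset (U := (⊤ : Y.Opens))
      (show p y ∈ (⊤ : Y.Opens) from trivial)
    obtain ⟨x₀, hx₀⟩ : ∃ x₀, RelProj.emb p chart U hU x₀ = y := by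
      refine ⟨(chart U hU).hom ⟨y, hyU⟩, ?_⟩
      show ((chart U hU).hom ≫ (chart U hU).inv ≫ (p ⁻¹ᵁ U).ι) ⟨y, hyU⟩ = y
      rw [Iso.hom_inv_id_assoc]
      rfl
    obtain ⟨d, hd, f, hf, hfx⟩ : ∃ d, 0 < d ∧ ∃ f ∈ 𝒮.deg U hU d, f ∉ x₀.asHomogeneousIdeal := by
      by_contra hcon
      push Not at hcon
      exact x₀.not_irrelevant_le ((HomogeneousIdeal.irrelevant_le _).mpr fun d hd a ha => hcon d hd a ha)
    let P₀ : Spec (𝒮.presheaf.obj (op U)) := ⟨x₀.asHomogeneousIdeal.toIdeal, x₀.isPrime⟩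
    let φ := RelProj.gradedHomAt ι hz.graded U hU
    obtain ⟨w, hw⟩ : Proj.awayι (𝒮h.deg U hU) (RelCone.restrictTop 𝒮h z U) (hz.deg_z U hU) one_pos
        (Spec.map (CommRingCat.ofHom (hz.awayZToBase U hU)) P₀) ∈
        (Proj.awayι (𝒮h.deg U hU) (φ f) (φ.map_mem hf) hd).opensRange := by
      rw [Proj.opensRange_awayι]
      exact hpt U hU P₀ d f hf hfx
    refine ⟨⟨_, hcone U hU P₀ d f hf hd hfx⟩, ?_⟩
    let g := IsOpenImmersion.lift (RelProj.domQ A pC chartC).ι (Proj.awayι (𝒮h.deg U hU) (φ f) (φ.2 hf) hd ≫ RelProj.emb pC chartC U hU) (by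
      rw [Scheme.Opens.range_ι]
      rintro _ ⟨t, rfl⟩
      rw [← Groth.Agent.RelProjLib.QMap.pointedProjCone_eq_domQ hz hPC]
      refine Opens.mem_iSup.mpr ⟨⟨U, hU⟩, Proj.awayι (𝒮h.deg U hU) (φ f) (φ.2 hf) hd t, ?_, rfl⟩
      refine (RelCone.mem_domOpen _ _).mpr ⟨f, HomogeneousIdeal.mem_irrelevant_of_mem _ hd hf, ?_⟩
      rw [← ProjectiveSpectrum.mem_basicOpen]
      show Proj.awayι _ _ _ _ t ∈ Proj.basicOpen (𝒮h.deg U hU) (φ f)
      rw [← Proj.opensRange_awayι _ (φ f) (φ.2 hf) hd]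
      exact ⟨t, rfl⟩)
    have hg : g ≫ (RelProj.domQ A pC chartC).ι = Proj.awayι (𝒮h.deg U hU) (φ f) (φ.2 hf) hd ≫ RelProj.emb pC chartC U hU :=
      IsOpenImmersion.lift_fac _ _ _
    have hx' : i' ⟨_, hcone U hU P₀ d f hf hd hfx⟩ = g w := by
      refine (RelProj.domQ A pC chartC).ι.isOpenEmbedding.injective ?_
      refine ((hval _).trans (himg U hU P₀)).trans ?_
      refine Eq.trans ?_ (congrArg (fun t => t w) hg).symm
      exact (congrArg (fun t => RelProj.emb pC chartC U hU t) hw).symm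
    show r (i' _) = y
    rw [hx', ← Scheme.Hom.comp_apply, hr U hU d hd f hf g hg, ← hx₀]
    refine congrArg (fun t => RelProj.emb p chart U hU t) ?_
    refine Groth.Agent.RelSpecLib.proj_ext_homogeneous fun k a ha => ?_
    refine (Groth.Agent.RelSpecLib.mem_awayι_map_iff φ hf hd w ha).trans ?_
    refine ((congrArg (fun t => φ a ∈ (t : Proj (𝒮h.deg U hU)).asHomogeneousIdeal) hw).to_iff).trans ?_
    refine (Groth.Agent.RelSpecLib.mem_awayι_apply hz U hU P₀ (hz.graded U hU k a ha)).trans ?_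
    rw [hz.evalOne_ι]
    exact Iff.rfl

end Groth.Agent.S8309
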