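import Groth.Statements.S8310
import Groth.Agent.GrNatLib.Gr

set_option autoImplicit false
set_option linter.style.haveILetI false
set_option backward.isDefEq.respectTransparency false
universe u
open CategoryTheory AlgebraicGeometry
open scoped HomogeneousIdeal
open EGA2

namespace Groth.Agent.S8310

/-- Let S be a positively graded ring (an ℕ-graded R-algebra), S♮ the graded ring with S♮_n = S_[n] =
⊕_{m ≥ n} S_m (presented as a graded ring S' with an injective algebra homomorphism φ : S' → S[X]
carrying S'_n onto S_[n]·X^n), and T = S♮ ⊗_S S_0 = ⊕_n S_[n]/S_+S_[n] (presented as a graded ring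
with a surjective graded homomorphism π : S' → T whose kernel is the ideal generated by the elements
of S' corresponding to the constants in S_+); let ρ : T → S be the surjective graded homomorphism
sending the class of a ∈ S_[n] (in degree n) to the degree-n component of a, and Proj S → Proj T the
morphism it induces (a closed immersion, ρ being surjective). Then this morphism Proj S → Proj T is
bijective. -/
theorem result {R A B C : Type u} [CommRing R] [CommRing A] [Algebra R A]
    (𝒜 : ℕ → Submodule R A) [GradedAlgebra 𝒜] [CommRing B] [Algebra R B] (ℬ : ℕ → Submodule R B) [GradedAlgebra ℬ]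
    (φ : B →ₐ[R] Polynomial A) (hφ : Function.Injective φ)
    (hdeg : ∀ n : ℕ, Submodule.map φ.toLinearMap (ℬ n) =
      Submodule.map ((Polynomial.monomial n : A →ₗ[A] Polynomial A).restrictScalars R) (⨆ (m : ℕ) (_ : n ≤ m), 𝒜 m))
    [CommRing C] [Algebra R C] (𝒞 : ℕ → Submodule R C) [GradedAlgebra 𝒞]
    (π : ℬ →+*ᵍ 𝒞) (hπ : Function.Surjective π)
    (hker : RingHom.ker π.toRingHom =
      Ideal.span (⇑φ ⁻¹' (⇑(Polynomial.C : A →+* Polynomial A) '' ((HomogeneousIdeal.irrelevant 𝒜).toIdeal : Set A))))
    (ρ : 𝒞 →+*ᵍ 𝒜) (hρ : ∀ (n : ℕ) (b : B), b ∈ ℬ n → ρ (π b) = GradedRing.proj 𝒜 n ((φ b).coeff n))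
    (hirr : HomogeneousIdeal.irrelevant 𝒜 ≤ (HomogeneousIdeal.irrelevant 𝒞).map ρ) :
    Function.Bijective (Proj.map ρ hirr).base := by
  have hci := Groth.Agent.ProjRed.isClosedImmersion_map ρ hirr (Groth.Agent.GrNatLib.rho_surjective hdeg π ρ hρ)
  have hnil : ∀ c : C, ρ c = 0 → IsNilpotent c := by
    classical
    intro c hc
    rw [← DirectSum.sum_support_decompose 𝒞 c, ← mem_nilradical]
    refine Submodule.sum_mem _ fun n _ => mem_nilradical.2 ?_
    refine Groth.Agent.GrNatLib.isNilpotent_of_rho_eq_zero hdeg π hπ ρ hρ hφ hker (SetLike.coe_mem _) ?_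
    rw [GradedRingHom.map_directSumDecompose, hc, DirectSum.decompose_zero]
    rfl
  have hd := Groth.Agent.ProjRed.denseRange_map ρ hirr hnil
  have hemb := (Proj.map ρ hirr).isClosedEmbedding
  refine ⟨hemb.injective, ?_⟩
  rw [← Set.range_eq_univ, ← hemb.isClosed_range.closure_eq, ← dense_iff_closure_eq]
  exact hd

end Groth.Agent.S8310
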