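import Groth.Statements.S8312
import Groth.Agent.GrNatLib.Basic

set_option autoImplicit false
set_option linter.style.haveILetI false
set_option backward.isDefEq.respectTransparency false
universe u
open scoped HomogeneousIdeal
open EGA2

namespace Groth.Agent.S8312

/-- Let S be a positively graded ring (an ℕ-graded R-algebra) and S♮ the graded ring with S♮_n = S_[n] =
⊕_{m ≥ n} S_m, presented as a graded ring S' with an injective algebra homomorphism φ : S' → S[X]
carrying S'_n onto S_[n]·X^n; for a homogeneous f ∈ S_d write f♮ for the element of S' with φ(f♮) =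
f·X^d (f placed in degree d of S♮). If (f_α) is a family of homogeneous elements of S of positive
degrees such that every element of the irrelevant ideal S_+ has a positive power in the ideal
generated by the f_α (that is, S_+ is the radical in S_+ of that ideal), then every element of the
irrelevant ideal S'_+ has a positive power in the ideal of S' generated by the f_α♮. -/
theorem result {R A B : Type u} [CommRing R] [CommRing A] [Algebra R A]
    (𝒜 : ℕ → Submodule R A) [GradedAlgebra 𝒜] [CommRing B] [Algebra R B] (ℬ : ℕ → Submodule R B) [GradedAlgebra ℬ]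
    (φ : B →ₐ[R] Polynomial A) (hφ : Function.Injective φ)
    (hdeg : ∀ n : ℕ, Submodule.map φ.toLinearMap (ℬ n) =
      Submodule.map ((Polynomial.monomial n : A →ₗ[A] Polynomial A).restrictScalars R) (⨆ (m : ℕ) (_ : n ≤ m), 𝒜 m))
    {ι : Type u} (d : ι → ℕ) (hd : ∀ a, 0 < d a) (f : ι → A) (hf : ∀ a, f a ∈ 𝒜 (d a))
    (hrad : ∀ g ∈ (HomogeneousIdeal.irrelevant 𝒜).toIdeal, ∃ n : ℕ, 0 < n ∧ g ^ n ∈ Ideal.span (Set.range f))
    (fn : ι → B) (hfn : ∀ a, φ (fn a) = Polynomial.monomial (d a) (f a)) :
    ∀ g ∈ (HomogeneousIdeal.irrelevant ℬ).toIdeal, ∃ n : ℕ, 0 < n ∧ g ^ n ∈ Ideal.span (Set.range fn) := by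
  classical
  open Groth.Agent.GrNatLib in
  set J := Ideal.span (Set.range fn)
  suffices (HomogeneousIdeal.irrelevant ℬ).toIdeal ≤ J.radical by
    intro g hg
    obtain ⟨n, hn⟩ := this hg
    refine ⟨n + 1, n.succ_pos, ?_⟩
    rw [pow_succ]
    exact J.mul_mem_right _ hn
  intro g hg
  rw [← DirectSum.sum_support_decompose ℬ g]
  refine Ideal.sum_mem _ fun n _ => ?_
  rcases Nat.eq_zero_or_pos n with rfl | hn
  · rw [← GradedRing.proj_apply, (HomogeneousIdeal.mem_irrelevant_iff ℬ g).1 hg]
    exact zero_mem _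
  set b := (DirectSum.decompose ℬ g n : B)
  obtain ⟨a, ha, hba⟩ := exists_of_mem hdeg (SetLike.coe_mem (DirectSum.decompose ℬ g n))
  have hairr : a ∈ (HomogeneousIdeal.irrelevant 𝒜).toIdeal :=
    mem_ge_one_iff.1 (mem_ge_iff.2 fun k hk => decompose_eq_zero ha (by omega))
  obtain ⟨N, -, hN⟩ := hrad a hairr
  obtain ⟨c, hc⟩ := (Finsupp.mem_span_range_iff_exists_finsupp (R := A) (v := f)).1 hN
  set D := c.support.sup d
  refine ⟨N + D, ?_⟩
  have hpow : ∀ k, a ^ k ∈ ge 𝒜 (n * k) := fun k => by
    induction k with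
    | zero => rw [pow_zero, mul_zero]; exact ge_zero _
    | succ k ih => rw [pow_succ, Nat.mul_succ]; exact mul_mem_ge ih ha
  set M := n * (N + D)
  let T := ((J.restrictScalars R).map φ.toLinearMap).comap
    ((Polynomial.monomial M : A →ₗ[A] Polynomial A).restrictScalars R)
  suffices a ^ (N + D) ∈ T by
    obtain ⟨b', hb', e⟩ := this
    have : b' = b ^ (N + D) := hφ (by
      rw [map_pow, show φ b = Polynomial.monomial n a from hba, Polynomial.monomial_pow]
      exact e)
    exact this ▸ hb'
  rw [← DirectSum.sum_support_decompose 𝒜 (a ^ (N + D))]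
  refine Submodule.sum_mem _ fun k _ => ?_
  rcases lt_or_ge k M with hk | hk
  · rw [decompose_eq_zero (hpow (N + D)) hk]; exact zero_mem _
  have he : a ^ (N + D) = ∑ i ∈ c.support, (c i * a ^ D) * f i := by
    rw [pow_add, ← hc, Finsupp.sum, Finset.sum_mul]
    exact Finset.sum_congr rfl fun i _ => by rw [smul_eq_mul]; ring
  rw [he, DirectSum.decompose_sum, DFinsupp.finsetSum_apply, AddSubmonoidClass.coe_finsetSum]
  refine Submodule.sum_mem _ fun i hi => ?_
  by_cases hle : d i ≤ k
  · rw [DirectSum.coe_decompose_mul_of_right_mem_of_le 𝒜 (hf i) hle]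
    have hdD : d i ≤ M := le_trans (Finset.le_sup (f := d) hi)
      (le_trans (Nat.le_add_left D N) (Nat.le_mul_of_pos_left _ hn))
    obtain ⟨b', -, e⟩ := exists_of_ge hdeg (n := M - d i)
      (mem_ge_of_mem (SetLike.coe_mem (DirectSum.decompose 𝒜 (c i * a ^ D) (k - d i))) (by omega))
    refine ⟨b' * fn i, J.mul_mem_left _ (Ideal.subset_span ⟨i, rfl⟩), ?_⟩
    show φ (b' * fn i) = Polynomial.monomial M _
    rw [map_mul, e, hfn, Polynomial.monomial_mul_monomial, Nat.sub_add_cancel hdD]
  · rw [DirectSum.coe_decompose_mul_of_right_mem_of_not_le 𝒜 (hf i) hle]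
    exact zero_mem _

end Groth.Agent.S8312
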