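import Groth.Statements.S8317
import Groth.Agent.ContrCritLib.Factor
import Groth.Agent.ContrCritLib.LineBundle


set_option autoImplicit false
set_option backward.isDefEq.respectTransparency false
set_option linter.style.haveILetI false
universe u
open CategoryTheory CategoryTheory.Limits AlgebraicGeometry Opposite TopologicalSpace
open scoped HomogeneousIdeal
noncomputable section
open EGA2

namespace Groth.Agent.S8317

/-- Let f : X → Y be a separated quasi-compact morphism such that f^♯ : O_Y → f_*O_X is an isomorphism,
L an invertible O_X-module, V = V(L) = Spec(Sym L) its line bundle with projection π : V → X, and C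
= Spec((f∘π)_*O_V) the relative spectrum over Y of the direct-image algebra of f∘π. (The published
statement takes C to be the affine cone Spec(O_Y ⊕ ⊕_{n≥1} f_*(L^{⊗n})); when f^♯ is an isomorphism
that cone is this relative spectrum.) Then: if X is integral, C is integral; and if X is locally
integral (every point has an integral open neighbourhood) and normal (all local rings integrally
closed domains), then C is normal. -/
theorem result {X Y : Scheme.{u}} (f : X ⟶ Y) [IsSeparated f] [QuasiCompact f]
    (hlam : IsIso f.c) (L : X.Modules) (hL : PicF.IsInvertible L) (hLq : Coh.IsQCoh L)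
    (𝒜 : RelSpec.QCAlg X) (jL : L ⟶ 𝒜.toModule) (hA : RelSpec.IsSymAlg L 𝒜 jL) :
    (IsIntegral X → IsIntegral (RelSpec.QCAlg.directImage (𝒜.π ≫ f)).spec) ∧
      ((∀ x : X, ∃ U : X.Opens, x ∈ U ∧ IsIntegral (U : Scheme.{u})) → Pi1.IsNormalScheme X →
        Pi1.IsNormalScheme (RelSpec.QCAlg.directImage (𝒜.π ≫ f)).spec) := by
  haveI := hLq
  refine ⟨fun hX => ?_, fun hX hN c => ?_⟩
  · haveI := hX
    haveI := Groth.Agent.ContrCritLib.isIntegral_spec 𝒜 hA hL
    exact Groth.Agent.ContrCritLib.isIntegral_directImage (f := 𝒜.π ≫ f)
  · exact Groth.Agent.ContrCritLib.isNormal_directImage (f := 𝒜.π ≫ f) (fun U hU P _ =>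
      Groth.Agent.ContrCritLib.normal_localization_sections
        (Groth.Agent.ContrCritLib.isLocallyIntegral_spec 𝒜 hA hL hX)
        (Groth.Agent.ContrCritLib.isNormalScheme_spec 𝒜 hA hL hX hN) _
        ((𝒜.π ≫ f).isCompact_preimage hU.isCompact) ((𝒜.π ≫ f).isQuasiSeparated_preimage hU.isQuasiSeparated) P) c

end Groth.Agent.S8317
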