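import Groth.Statements.S8325
import Groth.Agent.RelTildeLib.Finite
import Groth.Agent.GrModLib.FiniteType
import Groth.Agent.QCohLib.FiniteType

set_option autoImplicit false
universe u
open CategoryTheory CategoryTheory.Limits AlgebraicGeometry Opposite TopologicalSpace
open scoped HomogeneousIdeal
noncomputable section
open EGA2

namespace Groth.Agent.S8325

/-- Let 𝒮 be a quasi-coherent positively graded O_Y-algebra generated by 𝒮_1, with 𝒮_1 of finite type,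
and ℳ a quasi-coherent graded 𝒮-module satisfying (TF). Then the module ℳ~ on P = Proj(𝒮) (given
through its chartwise identifications) is of finite type. -/
theorem result {Y P : Scheme.{u}} (𝒮 : RelProj.QCGrAlg Y) (p : P ⟶ Y)
    (chart : ∀ (U : Y.Opens) (hU : IsAffineOpen U), (((p ⁻¹ᵁ U : P.Opens) : Scheme.{u}) ≅ Proj (𝒮.deg U hU)))
    (hP : RelProj.IsRelProj 𝒮 p chart) (hgen : 𝒮.IsGenDegOne) (hft : 𝒮.IsFTDeg 1)
    (ℳ : RelProj.GrModule 𝒮) (hℳ : Coh.IsQCoh ((AMod.toOS 𝒮.toQCAlg).obj ℳ.mod)) (hTF : ℳ.IsTF) (F : P.Modules)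
    (lam : ∀ (U : Y.Opens) (hU : IsAffineOpen U),
      F ⟶ (Scheme.Modules.pushforward (RelProj.emb p chart U hU)).obj (GrMod.tilde (𝒮.deg U hU) (ℳ.deg U hU) 0))
    (hF : RelProj.IsRelTilde 𝒮 p chart ℳ 0 F lam) : CohB1.IsFT F := by
  haveI : Coh.IsQCoh F := Groth.Agent.RelTildeLib.isQCoh_of_charts hF.bijective fun U hU =>
    Groth.Agent.GrModLib.isQCoh_tilde 0
  obtain ⟨n, hn⟩ := hTF
  refine Groth.Agent.QCohLib.isFiniteType_of_finite F
    (fun q : Σ a : {U : Y.Opens // IsAffineOpen U}, {g : 𝒮.presheaf.obj (op a.1) // g ∈ 𝒮.deg a.1 a.2 1} =>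
      RelProj.emb p chart q.1.1 q.1.2 ''ᵁ Proj.basicOpen (𝒮.deg q.1.1 q.1.2) q.2.1)
    (fun q => (Proj.isAffineOpen_basicOpen _ _ q.2.2 one_pos).image_of_isOpenImmersion _)
    (eq_top_iff.2 fun x _ => ?_) fun q => ?_
  · obtain ⟨a, hxa⟩ := Groth.Agent.RelTildeLib.exists_mem_opensRange chart x
    obtain ⟨y, rfl⟩ := hxa
    obtain ⟨g, hg⟩ := Groth.Agent.GrModLib.exists_mem_one_notMem
      (Groth.Agent.RelTildeLib.irrelevant_eq_span_one (hgen a.1 a.2)) y
    refine TopologicalSpace.Opens.mem_iSup.2 ⟨⟨a, g.1, g.2⟩, ?_⟩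
    exact ⟨y, hg, rfl⟩
  · exact Groth.Agent.RelTildeLib.finite_image _ (lam q.1.1 q.1.2)
      (Groth.Agent.RelTildeLib.bij_range hF.bijective q.1.1 q.1.2)
      (Groth.Agent.GrModLib.finite_sections_one (ℳ := ℳ.deg q.1.1 q.1.2) q.2.2 (hn q.1.1 q.1.2))

end Groth.Agent.S8325
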