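import Groth.Statements.S8326
import Groth.Agent.RelTildeLib.FamInst
import Groth.Agent.GrModLib.Zero

set_option autoImplicit false
universe u
open CategoryTheory CategoryTheory.Limits AlgebraicGeometry Opposite TopologicalSpace
open scoped HomogeneousIdeal
noncomputable section
open EGA2

namespace Groth.Agent.S8326

/-- Let Y be a scheme with quasi-compact underlying space, 𝒮 a quasi-coherent positively graded
O_Y-algebra generated by 𝒮_1 with 𝒮_1 of finite type, and ℳ a quasi-coherent graded 𝒮-module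
satisfying (TF). If ℳ~ = 0 on P = Proj(𝒮), then ℳ satisfies (TN). (With (TN) asking for one degree
bound over the whole base, the implication needs the base quasi-compact: over an infinite disjoint
union of points carrying the polynomial algebra in one variable, the module equal on the i-th point
to the residue field placed in degree i and killed by the variable satisfies (TF), has zero attached
module, and fails (TN). The published statement has no quasi-compactness hypothesis; its proof gives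
a bound on each affine open. The converse direction holds for any base and any graded module.) -/
theorem result {Y P : Scheme.{u}} (𝒮 : RelProj.QCGrAlg Y) (p : P ⟶ Y)
    (chart : ∀ (U : Y.Opens) (hU : IsAffineOpen U), (((p ⁻¹ᵁ U : P.Opens) : Scheme.{u}) ≅ Proj (𝒮.deg U hU)))
    (hP : RelProj.IsRelProj 𝒮 p chart) [CompactSpace Y] (hgen : 𝒮.IsGenDegOne)
    (hft : 𝒮.IsFTDeg 1) (ℳ : RelProj.GrModule 𝒮) (hℳ : Coh.IsQCoh ((AMod.toOS 𝒮.toQCAlg).obj ℳ.mod)) (hTF : ℳ.IsTF)
    (F : P.Modules)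
    (lam : ∀ (U : Y.Opens) (hU : IsAffineOpen U),
      F ⟶ (Scheme.Modules.pushforward (RelProj.emb p chart U hU)).obj (GrMod.tilde (𝒮.deg U hU) (ℳ.deg U hU) 0))
    (hF : RelProj.IsRelTilde 𝒮 p chart ℳ 0 F lam) (h0 : IsZero F) : ℳ.IsTN := by
  classical
  obtain ⟨n₀, hn₀⟩ := hTF
  have key : ∀ (U : Y.Opens) (hU : IsAffineOpen U), ∃ N : ℕ, ∀ k, N ≤ k → ∀ m ∈ ℳ.deg U hU k, m = 0 := by
    intro U hU
    have hgen' := Groth.Agent.RelTildeLib.irrelevant_eq_span_one (hgen U hU)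
    have hz : IsZero (GrMod.tilde (𝒮.deg U hU) (ℳ.deg U hU) 0) := by
      haveI := Groth.Agent.RelTildeLib.isIso_adjHom _ (lam U hU)
        (Groth.Agent.RelTildeLib.bij_range hF.bijective U hU)
      exact IsZero.of_iso ((Scheme.Modules.restrictFunctor _).map_isZero h0)
        (asIso (Groth.Agent.RelTildeLib.adjHom _ (lam U hU))).symm
    refine Groth.Agent.GrModLib.isTN_of_isZero ?_ hgen' ⟨n₀, hn₀ U hU⟩ hz
    obtain ⟨T, hT, hTgen⟩ := hft U hU
    refine ⟨T, le_antisymm (Ideal.span_le.2 fun t ht =>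
      HomogeneousIdeal.mem_irrelevant_of_mem _ one_pos (hT ht)) ?_⟩
    rw [hgen', Ideal.span_le]
    intro x hx
    obtain ⟨c, rfl⟩ := hTgen x hx
    exact Ideal.sum_mem _ fun t ht => Ideal.mul_mem_left _ _ (Ideal.subset_span ht)
  let κ := {U : Y.Opens // IsAffineOpen U}
  choose N hN using fun a : κ => key a.1 a.2
  obtain ⟨t, ht⟩ := isCompact_univ.elim_finite_subcover (fun a : κ => (a.1 : Set Y)) (fun a => a.1.isOpen)
    fun x _ => by
      obtain ⟨_, ⟨V, hV, rfl⟩, hx, -⟩ :=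
        Y.isBasis_affineOpens.exists_subset_of_mem_open (Set.mem_univ x) isOpen_univ
      exact Set.mem_iUnion.2 ⟨⟨V, hV⟩, hx⟩
  refine ⟨t.sup N, fun U hU k hk m hm => ?_⟩
  have hcov : ∀ x : U, ∃ (r : Γ(Y, U)), x.1 ∈ Y.basicOpen r ∧
      ℳ.res hU (hU.basicOpen r) (Y.basicOpen_le r) m = 0 := by
    rintro ⟨x, hx⟩
    obtain ⟨⟨V, hV⟩, hVt, hxV⟩ : ∃ a ∈ t, x ∈ a.1 := by simpa using ht (Set.mem_univ x)
    obtain ⟨r, g, hrg, hxr⟩ := exists_basicOpen_le_affine_inter hU hV x ⟨hx, hxV⟩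
    refine ⟨r, hxr, ?_⟩
    obtain ⟨c, hc⟩ := (Groth.Agent.RelTildeLib.Fam.ofModule ℳ hℳ).exists_loc hV (hU.basicOpen r) ⟨g, hrg.symm⟩
    obtain ⟨l, m₀, hm₀⟩ := hc.exists_num (i := k)
      ⟨ℳ.res hU (hU.basicOpen r) (Y.basicOpen_le r) m, ℳ.map_mem hU (hU.basicOpen r) (Y.basicOpen_le r) hm⟩
    have h2 : m₀.1 = 0 := hN ⟨V, hV⟩ k ((Finset.le_sup hVt).trans hk) m₀.1 m₀.2
    rw [h2, map_zero] at hm₀
    have hu : IsUnit (𝒮.res hV (hU.basicOpen r) (Groth.Agent.RelTildeLib.IsBasic.le ⟨g, hrg.symm⟩) (c ^ l)) := by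
      rw [map_pow]
      exact hc.isUnit.pow l
    exact (hu.smul_eq_zero).1 hm₀.symm
  choose r hxr hr using hcov
  refine TopCat.Sheaf.eq_of_locally_eq' (⟨((AMod.toOS 𝒮.toQCAlg).obj ℳ.mod).presheaf,
      ((AMod.toOS 𝒮.toQCAlg).obj ℳ.mod).isSheaf⟩ : TopCat.Sheaf Ab.{u} Y.carrier)
    (fun x => Y.basicOpen (r x)) U (fun x => homOfLE (Y.basicOpen_le _))
    (fun x hx => TopologicalSpace.Opens.mem_iSup.2 ⟨⟨x, hx⟩, hxr ⟨x, hx⟩⟩) _ _ fun x => ?_
  exact (hr x).trans (map_zero _).symm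

end Groth.Agent.S8326
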