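import Groth.Statements.S8329
import Groth.Agent.RelTildeLib.Compat

set_option autoImplicit false
universe u
open CategoryTheory CategoryTheory.Limits AlgebraicGeometry Opposite TopologicalSpace
open scoped HomogeneousIdeal
noncomputable section
open EGA2

namespace Groth.Agent.S8329

/-- A degree-preserving homomorphism u : ℳ → 𝒩 of quasi-coherent graded 𝒮-modules induces exactly one
O_P-module map ũ : (ℳ(n))~ → (𝒩(n))~ on P = Proj(𝒮) that agrees, under the chartwise identifications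
over every affine open U of Y, with the morphism of modules on Proj 𝒮(U) induced by u(U). -/
theorem result {Y P : Scheme.{u}} (𝒮 : RelProj.QCGrAlg Y) (p : P ⟶ Y)
    (chart : ∀ (U : Y.Opens) (hU : IsAffineOpen U), (((p ⁻¹ᵁ U : P.Opens) : Scheme.{u}) ≅ Proj (𝒮.deg U hU)))
    (hP : RelProj.IsRelProj 𝒮 p chart) (ℳ 𝒩 : RelProj.GrModule 𝒮)
    (hℳ : Coh.IsQCoh ((AMod.toOS 𝒮.toQCAlg).obj ℳ.mod)) (h𝒩 : Coh.IsQCoh ((AMod.toOS 𝒮.toQCAlg).obj 𝒩.mod))
    (u : ℳ.mod ⟶ 𝒩.mod) (hu : RelProj.IsGrModHom u) (n : ℤ) (F : P.Modules)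
    (lam : ∀ (U : Y.Opens) (hU : IsAffineOpen U),
      F ⟶ (Scheme.Modules.pushforward (RelProj.emb p chart U hU)).obj (GrMod.tilde (𝒮.deg U hU) (ℳ.deg U hU) n))
    (hF : RelProj.IsRelTilde 𝒮 p chart ℳ n F lam) (G : P.Modules)
    (lam' : ∀ (U : Y.Opens) (hU : IsAffineOpen U),
      G ⟶ (Scheme.Modules.pushforward (RelProj.emb p chart U hU)).obj (GrMod.tilde (𝒮.deg U hU) (𝒩.deg U hU) n))
    (hG : RelProj.IsRelTilde 𝒮 p chart 𝒩 n G lam') :
    ∃! ut : F ⟶ G, ∀ (U : Y.Opens) (hU : IsAffineOpen U),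
      ut ≫ lam' U hU =
        lam U hU ≫ (Scheme.Modules.pushforward (RelProj.emb p chart U hU)).map
          (GrMod.map (𝒮.deg U hU)
            (show ℳ.mod.val.obj (op U) →ₗ[𝒮.presheaf.obj (op U)] 𝒩.mod.val.obj (op U) from (u.val.app (op U)).hom)
            (hu U hU) n) := by
  let lamc : ∀ (U : Y.Opens) (hU : IsAffineOpen U),
      F ⟶ (Scheme.Modules.pushforward (RelProj.emb p chart U hU)).obj (GrMod.tilde (𝒮.deg U hU) (𝒩.deg U hU) n) :=
    fun U hU => lam U hU ≫ (Scheme.Modules.pushforward (RelProj.emb p chart U hU)).map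
      (GrMod.map (𝒮.deg U hU)
        (show ℳ.mod.val.obj (op U) →ₗ[𝒮.presheaf.obj (op U)] 𝒩.mod.val.obj (op U) from (u.val.app (op U)).hom)
        (hu U hU) n)
  have hnat : ∀ (U : Y.Opens) (hU : IsAffineOpen U) (r : Γ(Y, U)) (m : ℳ.mod.val.obj (op U)),
      (u.val.app (op (Y.basicOpen r))).hom (ℳ.res hU (hU.basicOpen r) (Y.basicOpen_le r) m) =
        𝒩.res hU (hU.basicOpen r) (Y.basicOpen_le r) ((u.val.app (op U)).hom m) := fun U hU r m =>
    PresheafOfModules.naturality_apply u.val (homOfLE (Y.basicOpen_le r)).op m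
  have hD : ∀ (U : Y.Opens) (hU : IsAffineOpen U) (r : Γ(Y, U)) (W : P.Opens) (s : Γ(F, W)) (t : Γ(G, W)),
      Groth.Agent.RelTildeLib.SameAt lamc lam' U hU s t →
      Groth.Agent.RelTildeLib.SameAt lamc lam' (Y.basicOpen r) (hU.basicOpen r) s t := by
    intro U hU r W s t h
    refine Groth.Agent.GrModLib.sect_ext fun y => ?_
    have hy' : (RelProj.emb p chart U hU).base (ProjectiveSpectrum.comap
        (𝒮.res hU (hU.basicOpen r) (Y.basicOpen_le r)) (𝒮.irrelevant_le_map U hU r) y.1) ∈ W := by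
      rw [Groth.Agent.RelTildeLib.emb_comap hP U hU r y.1]
      exact y.2
    refine (hG.compat U hU r W t y.1 y.2 hy').trans ?_
    rw [show (lam' U hU).app W t = (lamc U hU).app W s from h]
    refine Eq.trans ?_ (congrArg (GrMod.locMap _ _) (hF.compat U hU r W s y.1 y.2 hy')).symm
    show GrMod.locModMap _ _ _ y.1 (GrMod.locMap _ _ (GrMod.val
      (V := RelProj.emb p chart U hU ⁻¹ᵁ W) ((lam U hU).app W s) ⟨_, hy'⟩)) = _
    generalize GrMod.val (V := RelProj.emb p chart U hU ⁻¹ᵁ W) ((lam U hU).app W s) ⟨_, hy'⟩ = q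
    induction q using LocalizedModule.induction_on with
    | h m a =>
      rw [GrMod.locMap_mk, GrMod.locModMap_mk, GrMod.locModMap_mk, GrMod.locMap_mk]
      congr 1
      exact (hnat U hU r m).symm
  obtain ⟨φ, hφ⟩ := Groth.Agent.RelTildeLib.exists_hom (lam := lamc) hG.bijective hD
  exact ⟨φ, hφ, fun ψ hψ => Groth.Agent.RelTildeLib.hom_eq (lam := lamc) hG.bijective hψ hφ⟩

end Groth.Agent.S8329
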