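import Groth.Statements.S8333
import Groth.Agent.ProjBundleLib.RelProjQuot
import Groth.Agent.ProjBundleLib.ProjMor

set_option autoImplicit false
universe u
open CategoryTheory CategoryTheory.Limits AlgebraicGeometry Opposite TopologicalSpace
open scoped HomogeneousIdeal
noncomputable section
open EGA2

namespace Groth.Agent.S8333

/-- Let Y be a scheme with quasi-compact underlying space, 𝒮 a quasi-coherent positively graded
O_Y-algebra generated by 𝒮_1 with 𝒮_1 of finite type, p : P = Proj(𝒮) → Y, and F a quasi-coherent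
O_P-module of finite type. Then there is n₀ such that for all n ≥ n₀ the canonical morphism
p^*(p_*(F(n))) → F(n) is an epimorphism, where F(n) = F ⊗ O_P(n) with O_P(n) given through its
chartwise identifications. -/
theorem result {Y P : Scheme.{u}} (𝒮 : RelProj.QCGrAlg Y) (p : P ⟶ Y)
    (chart : ∀ (U : Y.Opens) (hU : IsAffineOpen U), (((p ⁻¹ᵁ U : P.Opens) : Scheme.{u}) ≅ Proj (𝒮.deg U hU)))
    (hP : RelProj.IsRelProj 𝒮 p chart) [CompactSpace Y] (hgen : 𝒮.IsGenDegOne)
    (hft : 𝒮.IsFTDeg 1) (F : P.Modules) (hFq : Coh.IsQCoh F) (hFt : CohB1.IsFT F) :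
    ∃ n₀ : ℤ, ∀ (n : ℤ), n₀ ≤ n → ∀ (L : P.Modules)
      (lam : ∀ (U : Y.Opens) (hU : IsAffineOpen U),
      L ⟶ (Scheme.Modules.pushforward (RelProj.emb p chart U hU)).obj (GrTwist.twist (𝒮.deg U hU) n)),
      RelProj.IsRelTwist 𝒮 p chart n L lam →
        Epi ((Scheme.Modules.pullbackPushforwardAdjunction p).counit.app (CohB1.tensorMod F L)) := by
  obtain ⟨O1, lam1, hO1⟩ := Groth.Agent.S8284.result 𝒮 p chart hP 1
  haveI : QuasiCompact p := by
    obtain ⟨M, Q, q, OQ, φ, D, h, hft', hh, hhq, -⟩ := Groth.Agent.ProjBundleLib.exists_embedding 𝒮 hgen hP hO1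
    haveI := hh
    haveI := D.isProper (hft' hft)
    rw [← hhq]
    infer_instance
  obtain ⟨N, hN⟩ := Groth.Agent.ProjBundleLib.eventually_epi_counit
    (Groth.Agent.ProjBundleLib.isRelVeryAmple_O1 𝒮 hP hgen hO1) hFq hFt
  refine ⟨(N : ℤ) + 1, fun n hn L lam hL => ?_⟩
  obtain ⟨k, hk, rfl⟩ : ∃ k : ℕ, N ≤ k + 1 ∧ n = ((k + 1 : ℕ) : ℤ) := ⟨n.toNat - 1, by omega, by omega⟩
  obtain ⟨a⟩ := Groth.Agent.ProjBundleLib.relTwist_iso_pow 𝒮 hP hgen hO1 k L lam hL
  haveI := hN (k + 1) hk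
  exact Groth.Agent.ProjBundleLib.epi_of_iso
    ((Scheme.Modules.pullback p).mapIso ((Scheme.Modules.pushforward p).mapIso
      (Groth.Agent.AmpleLib.tIso (Iso.refl F) a)))
    (Groth.Agent.AmpleLib.tIso (Iso.refl F) a)
    ((Scheme.Modules.pullbackPushforwardAdjunction p).counit.naturality _).symm

end Groth.Agent.S8333
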