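import Groth.Statements.S8334
import Groth.Agent.ProjBundleLib.RelProjQuot
import Groth.Agent.ProjBundleLib.ProjMor

set_option autoImplicit false
universe u
open CategoryTheory CategoryTheory.Limits AlgebraicGeometry Opposite TopologicalSpace
open scoped HomogeneousIdeal
noncomputable section
open EGA2

namespace Groth.Agent.S8334

/-- Let Y be a quasi-compact separated scheme, or a scheme with Noetherian underlying space, 𝒮 a
quasi-coherent positively graded O_Y-algebra generated by 𝒮_1 with 𝒮_1 of finite type, p : P =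
Proj(𝒮) → Y, and F a quasi-coherent O_P-module of finite type. Then there is n₀ such that for every
n ≥ n₀, F is a quotient of (p^*G)(−n) = p^*(G) ⊗ O_P(−n) for some quasi-coherent O_Y-module G of
finite type (which may vary with n), O_P(−n) being given through its chartwise identifications. -/
theorem result {Y P : Scheme.{u}} (𝒮 : RelProj.QCGrAlg Y) (p : P ⟶ Y)
    (chart : ∀ (U : Y.Opens) (hU : IsAffineOpen U), (((p ⁻¹ᵁ U : P.Opens) : Scheme.{u}) ≅ Proj (𝒮.deg U hU)))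
    (hP : RelProj.IsRelProj 𝒮 p chart)
    (hY : (CompactSpace Y ∧ Y.IsSeparated) ∨ NoetherianSpace Y) (hgen : 𝒮.IsGenDegOne)
    (hft : 𝒮.IsFTDeg 1) (F : P.Modules) (hFq : Coh.IsQCoh F) (hFt : CohB1.IsFT F) :
    ∃ n₀ : ℤ, ∀ (n : ℤ), n₀ ≤ n → ∀ (L : P.Modules)
      (lam : ∀ (U : Y.Opens) (hU : IsAffineOpen U),
      L ⟶ (Scheme.Modules.pushforward (RelProj.emb p chart U hU)).obj (GrTwist.twist (𝒮.deg U hU) (-n))),
      RelProj.IsRelTwist 𝒮 p chart (-n) L lam →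
        ∃ (G : Y.Modules) (π : CohB1.tensorMod ((Scheme.Modules.pullback p).obj G) L ⟶ F),
          Coh.IsQCoh G ∧ CohB1.IsFT G ∧ Epi π := by
  obtain ⟨hc, hs⟩ : CompactSpace Y ∧ QuasiSeparatedSpace Y := by
    rcases hY with ⟨hc, hs⟩ | hn
    · exact ⟨hc, inferInstance⟩
    · haveI := hn; exact ⟨inferInstance, inferInstance⟩
  haveI := hc
  haveI := hs
  obtain ⟨O1, lam1, hO1⟩ := Groth.Agent.S8284.result 𝒮 p chart hP 1
  haveI : QuasiCompact p := by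
    obtain ⟨M, Q, q, OQ, φ, D, h, hft', hh, hhq, -⟩ := Groth.Agent.ProjBundleLib.exists_embedding 𝒮 hgen hP hO1
    haveI := hh
    haveI := D.isProper (hft' hft)
    rw [← hhq]
    infer_instance
  have hI1 := Groth.Agent.S8286.result 𝒮 hgen p chart hP 1 O1 lam1 hO1
  obtain ⟨N, hN⟩ := Groth.Agent.ProjBundleLib.eventually_ft_quotient hI1
    (Groth.Agent.ProjBundleLib.isRelVeryAmple_O1 𝒮 hP hgen hO1) hFq hFt
  refine ⟨(N : ℤ) + 1, fun n hn L lam hL => ?_⟩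
  obtain ⟨k, hk, rfl⟩ : ∃ k : ℕ, N ≤ k + 1 ∧ n = ((k + 1 : ℕ) : ℤ) := ⟨n.toNat - 1, by omega, by omega⟩
  obtain ⟨G, φ, hG, hGft, hφ⟩ := hN (k + 1) hk
  haveI := hφ
  obtain ⟨Lp, lamp, hLp⟩ := Groth.Agent.S8284.result 𝒮 p chart hP ((k + 1 : ℕ) : ℤ)
  obtain ⟨L0, lam0, hL0⟩ := Groth.Agent.S8284.result 𝒮 p chart hP (((k + 1 : ℕ) : ℤ) + -((k + 1 : ℕ) : ℤ))
  obtain ⟨a⟩ := Groth.Agent.ProjBundleLib.relTwist_iso_pow 𝒮 hP hgen hO1 k Lp lamp hLp
  obtain ⟨b⟩ := Groth.Agent.S8336.result 𝒮 p chart hP hgen _ _ Lp lamp hLp L lam hL L0 lam0 hL0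
  have hz : ((k + 1 : ℕ) : ℤ) + -((k + 1 : ℕ) : ℤ) = 0 := add_neg_cancel _
  obtain ⟨e0⟩ : Nonempty (L0 ≅ Coh.structureModule P) := by
    clear b
    revert lam0 hL0
    rw [hz]
    intro lam0 hL0
    obtain ⟨c⟩ := Groth.Agent.S8336.result 𝒮 p chart hP hgen 0 0 L0 lam0 hL0 L0 lam0 hL0 L0 lam0 hL0
    obtain ⟨N, -, ⟨e⟩⟩ := Groth.Agent.AmpleEmb.exists_isInverseOf
      (Groth.Agent.S8286.result 𝒮 hgen p chart hP 0 L0 lam0 hL0)
    exact ⟨(Groth.Agent.AmpleLib.unitR L0).symm ≪≫ Groth.Agent.AmpleLib.tIso (Iso.refl L0) e.symm ≪≫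
      (Groth.Agent.AmpleLib.assoc _ _ _).symm ≪≫ Groth.Agent.AmpleLib.tIso c (Iso.refl N) ≪≫ e⟩
  let i : CohB1.tensorMod (CohB1.tensorMod F (CohB1.tensorPow O1 (k + 1))) L ≅ F :=
    Groth.Agent.AmpleLib.assoc _ _ _ ≪≫ Groth.Agent.AmpleLib.tIso (Iso.refl F)
      (Groth.Agent.AmpleLib.tIso a (Iso.refl L) ≪≫ b ≪≫ e0) ≪≫ Groth.Agent.AmpleLib.unitR F
  have he := Groth.Agent.ProjBundleLib.epi_tensor_right φ L
  exact ⟨G, ((DCoh.tensorBi (X := P)).map φ).app L ≫ i.hom, hG, hGft,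
    @epi_comp P.Modules _ _ _ _ _ he i.hom inferInstance⟩

end Groth.Agent.S8334
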