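import Groth.Statements.S8340
import Groth.Agent.RelTildeLib.Period
import Groth.Agent.S8284

set_option autoImplicit false
universe u
open CategoryTheory CategoryTheory.Limits AlgebraicGeometry Opposite TopologicalSpace
open scoped HomogeneousIdeal
noncomputable section
open EGA2

namespace Groth.Agent.S8340

/-- For a quasi-compact open U of X = Proj(𝒮), 𝒮 any quasi-coherent positively graded O_Y-algebra, there
is d > 0 such that for every n divisible by d the module O_X(−n)|U is an inverse of O_X(n)|U: the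
tensor product O_X(n)|U ⊗ O_X(−n)|U is isomorphic to O_U (existence of an isomorphism; the twisting
sheaves are given through their chartwise identifications). -/
theorem result {Y X : Scheme.{u}} (𝒮 : RelProj.QCGrAlg Y) (q : X ⟶ Y)
    (chart : ∀ (U : Y.Opens) (hU : IsAffineOpen U), (((q ⁻¹ᵁ U : X.Opens) : Scheme.{u}) ≅ Proj (𝒮.deg U hU)))
    (hX : RelProj.IsRelProj 𝒮 q chart) (U : X.Opens) (hU : IsCompact (U : Set X)) :
    ∃ d : ℕ, 0 < d ∧ ∀ (n : ℤ), (d : ℤ) ∣ n →
      ∀ (L : X.Modules)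
        (lam : ∀ (V : Y.Opens) (hV : IsAffineOpen V),
          L ⟶ (Scheme.Modules.pushforward (RelProj.emb q chart V hV)).obj (GrTwist.twist (𝒮.deg V hV) n)),
        RelProj.IsRelTwist 𝒮 q chart n L lam →
      ∀ (L' : X.Modules)
        (lam' : ∀ (V : Y.Opens) (hV : IsAffineOpen V),
          L' ⟶ (Scheme.Modules.pushforward (RelProj.emb q chart V hV)).obj (GrTwist.twist (𝒮.deg V hV) (-n))),
        RelProj.IsRelTwist 𝒮 q chart (-n) L' lam' →
          Nonempty (CohB1.tensorMod (L.restrict U.ι) (L'.restrict U.ι) ≅ Coh.structureModule (U : Scheme.{u})) := by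
  obtain ⟨d, hd, hper⟩ := Groth.Agent.RelTildeLib.exists_period (chart := chart) hU
  refine ⟨d, hd, fun n hn L lam hL L' lam' hL' => ?_⟩
  obtain ⟨L₀, lam₀, hL₀⟩ := Groth.Agent.S8284.result 𝒮 q chart hX 0
  obtain ⟨T, hT⟩ := Groth.Agent.RelTildeLib.exists_gen_top hX hL₀
  obtain ⟨e⟩ := Groth.Agent.ParaFLib.nonempty_iso_of_gen (hT.res (le_top : U ≤ ⊤))
  have h := Groth.Agent.RelTildeLib.isIso_restrict_of_stalk
    (Groth.Agent.RelTildeLib.mulData hX (add_neg_cancel n) hL hL' hL₀).pairing.lift U fun x hx => by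
      obtain ⟨V, hV, y, rfl, hy⟩ := hper n hn x hx
      exact Groth.Agent.RelTildeLib.bijective_stalk_mul hX (add_neg_cancel n) hL hL' hL₀ hy
  exact ⟨(Groth.Agent.AmpleLib.restrictTensor U.ι L L').symm ≪≫ @asIso _ _ _ _ _ h ≪≫ e⟩

end Groth.Agent.S8340
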