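import Groth.Statements.S8342
import Groth.Agent.RelTildeLib.Locus

set_option autoImplicit false
universe u
open CategoryTheory CategoryTheory.Limits AlgebraicGeometry Opposite TopologicalSpace
open scoped HomogeneousIdeal
noncomputable section
open EGA2

namespace Groth.Agent.S8342

/-- Let 𝒮 be a quasi-coherent positively graded O_Y-algebra generated by 𝒮_1, P = Proj(𝒮), and f a
global section of 𝒮 of degree d > 0. Then the open X_f (chartwise D_+(f|U)) is the set of points of
P where the global section α_d(f) of the invertible module O_P(d) does not vanish — here: X_f equals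
the largest open over which the module map O_P → O_P(d) defined by α_d(f) is an isomorphism; O_P(d)
is given through its chartwise identifications and α_d(f) is pinned as the section reading f|U / 1
on every chart. -/
theorem result {Y P : Scheme.{u}} (𝒮 : RelProj.QCGrAlg Y) (p : P ⟶ Y)
    (chart : ∀ (U : Y.Opens) (hU : IsAffineOpen U), (((p ⁻¹ᵁ U : P.Opens) : Scheme.{u}) ≅ Proj (𝒮.deg U hU)))
    (hP : RelProj.IsRelProj 𝒮 p chart) (hgen : 𝒮.IsGenDegOne) {d : ℕ} (hd : 0 < d)
    (f : 𝒮.presheaf.obj (op ⊤))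
    (hf : ∀ (U : Y.Opens) (hU : IsAffineOpen U), (𝒮.presheaf.map (homOfLE le_top).op).hom f ∈ 𝒮.deg U hU d)
    (Xf : P.Opens)
    (hXf : ∀ (U : Y.Opens) (hU : IsAffineOpen U),
      Xf ⊓ p ⁻¹ᵁ U =
        (p ⁻¹ᵁ U).ι ''ᵁ ((chart U hU).hom ⁻¹ᵁ
          Proj.basicOpen (𝒮.deg U hU) ((𝒮.presheaf.map (homOfLE le_top).op).hom f)))
    (L : P.Modules)
    (lam : ∀ (U : Y.Opens) (hU : IsAffineOpen U),
      L ⟶ (Scheme.Modules.pushforward (RelProj.emb p chart U hU)).obj (GrTwist.twist (𝒮.deg U hU) (d : ℤ)))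
    (hL : RelProj.IsRelTwist 𝒮 p chart (d : ℤ) L lam) (s : Coh.structureModule P ⟶ L)
    (hs : ∀ (U : Y.Opens) (hU : IsAffineOpen U) (y : Proj (𝒮.deg U hU)),
      GrTwist.val (V := RelProj.emb p chart U hU ⁻¹ᵁ ⊤)
        ((lam U hU).app ⊤ (s.app ⊤ (show Γ(Coh.structureModule P, ⊤) from (1 : Γ(P, ⊤))))) ⟨y, Set.mem_univ _⟩ =
        Localization.mk ((𝒮.presheaf.map (homOfLE le_top).op).hom f) 1) :
    Xf = CohB1.genLocus L s := by
  refine TopologicalSpace.Opens.ext (Set.ext fun x => ?_)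
  obtain ⟨⟨U, hU⟩, hx⟩ := Groth.Agent.RelTildeLib.exists_mem_opensRange chart x
  obtain ⟨y, rfl⟩ := hx
  have key := Groth.Agent.RelTildeLib.mem_genLocus_iff (RelProj.emb p chart U hU)
    (lam U hU ≫ (Scheme.Modules.pushforward (RelProj.emb p chart U hU)).map
      (Groth.Agent.GrModLib.twistToTilde (𝒮.deg U hU) (d : ℤ)))
    (fun W hW => (ConcreteCategory.bijective_of_isIso
      ((Groth.Agent.GrModLib.twistToTilde (𝒮.deg U hU) (d : ℤ)).app (RelProj.emb p chart U hU ⁻¹ᵁ W))).comp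
      (Groth.Agent.RelTildeLib.bij_range hL.bijective U hU W hW))
    s (hf U hU) (fun y => hs U hU y) (Groth.Agent.RelTildeLib.irrelevant_eq_span_one (hgen U hU)) y
  refine Iff.trans ?_ key.symm
  have hpU : (RelProj.emb p chart U hU).base y ∈ p ⁻¹ᵁ U :=
    (Groth.Agent.RelTildeLib.opensRange_emb U hU).le ⟨y, rfl⟩
  have hh : (chart U hU).hom.base ((chart U hU).inv.base y) = y :=
    congrArg (fun g : Proj (𝒮.deg U hU) ⟶ Proj (𝒮.deg U hU) => g.base y) (chart U hU).inv_hom_id
  constructor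
  · intro h
    obtain ⟨z, hz, e⟩ := (hXf U hU).le ⟨h, hpU⟩
    obtain rfl : z = (chart U hU).inv.base y := (p ⁻¹ᵁ U).ι.isOpenEmbedding.injective e
    have hz' : (chart U hU).hom.base ((chart U hU).inv.base y) ∈
        Proj.basicOpen (𝒮.deg U hU) ((𝒮.presheaf.map (homOfLE le_top).op).hom f) := hz
    rwa [hh] at hz'
  · intro h
    have hz' : (chart U hU).hom.base ((chart U hU).inv.base y) ∈
        Proj.basicOpen (𝒮.deg U hU) ((𝒮.presheaf.map (homOfLE le_top).op).hom f) := by rwa [hh]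
    exact ((hXf U hU).ge ⟨(chart U hU).inv.base y, hz', rfl⟩).1

end Groth.Agent.S8342
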