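import Groth.Statements.S8346
import Mathlib
import Groth.Agent.S8344
import Groth.Agent.ConstrNoeth.Basic
import Groth.Agent.ConstrNoeth.Prespectral

set_option autoImplicit false
universe u
open ConstrTop

namespace Groth.Agent.S8346

open TopologicalSpace in
/-- Let X be a topological space admitting a basis of open subsets which are retrocompact in X. Then
every locally constructible subset T of X is retrocompact in X. -/
theorem result {X : Type u} [TopologicalSpace X]
    {B : Set (Set X)} (hB : IsTopologicalBasis B) (hBr : ∀ U ∈ B, IsRetrocompact U) {T : Set X}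
    (hT : Topology.IsLocallyConstructible T) : IsRetrocompact T := by
  intro K hK hKo
  choose U hU hUo hUc using hT
  choose V hV hVsub using fun x => (hB.mem_nhds_iff.mp (hU x) : _)
  obtain ⟨t, ht⟩ := hK.elim_finite_subcover V (fun x => hB.isOpen (hV x)) (fun x _ => Set.mem_iUnion.mpr ⟨x, (hVsub x).1⟩)
  have heq : T ∩ K = ⋃ x ∈ t, Subtype.val '' ((Subtype.val ⁻¹' T : Set (U x)) ∩ Subtype.val ⁻¹' (V x ∩ K)) := by
    ext y
    simp only [Set.mem_inter_iff, Set.mem_iUnion, Set.mem_image, Set.mem_preimage, exists_prop]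
    constructor
    · rintro ⟨hyT, hyK⟩
      obtain ⟨x, hx, hyV⟩ := Set.mem_iUnion₂.mp (ht hyK)
      exact ⟨x, hx, ⟨y, (hVsub x).2 hyV⟩, ⟨hyT, hyV, hyK⟩, rfl⟩
    · rintro ⟨x, hx, z, ⟨hzT, -, hzK⟩, rfl⟩
      exact ⟨hzT, hzK⟩
  rw [heq]
  refine t.isCompact_biUnion fun x _ => IsCompact.image ?_ continuous_subtype_val
  refine Groth.Agent.S8344.result (hUc x) ?_ ((hB.isOpen (hV x)).inter hKo |>.preimage continuous_subtype_val)
  rw [Subtype.isCompact_iff, Set.image_preimage_eq_inter_range, Subtype.range_coe, Set.inter_eq_left.mpr (Set.inter_subset_left.trans (hVsub x).2)]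
  exact hBr _ (hV x) hK hKo

end Groth.Agent.S8346
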