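import Groth.Statements.S8348
import Mathlib

set_option autoImplicit false
universe v u
open CategoryTheory CategoryTheory.Limits
open HomAlg3
set_option linter.style.haveILetI false

namespace Groth.Agent.S8348

/-- Let C be an abelian category and Q a cochain complex of objects of C in degrees 0, 1, 2, ... such
that every Q^i is injective, every homology object H^i(Q) with i ≥ 1 is zero, and every inclusion of
the cycles Z^i(Q) into Q^i (i ≥ 0) is a split monomorphism. Then Q is an injective object of the
category of cochain complexes of C indexed by the natural numbers. (The published statement is for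
the narrower class of complexes with Z^i(Q) = B^i(Q) for every i ≥ 0, which in degree 0, where there
is no incoming differential, forces Z^0(Q) = 0; this row allows a nonzero Z^0(Q), so that it pairs
with the embedding of an arbitrary complex into such a Q. Such a Q is the direct sum of Z^0(Q)
placed in degree 0 and of the two-term complexes with Z^{i+1}(Q) in degrees i and i+1 and the
identity as differential, and the published argument carries over with Z^i(Q) in place of B^i(Q) as
the first summand of Q^i.) -/
theorem result {C : Type u} [Category.{v} C] [Abelian C]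
    (Q : CochainComplex C ℕ) (hinj : ∀ i : ℕ, Injective (Q.X i)) (hac : ∀ i : ℕ, IsZero (Q.homology (i + 1)))
    (hsplit : ∀ i : ℕ, IsSplitMono (Q.iCycles i)) : Injective Q := by
  have hker : ∀ n, (n + 1 : ℕ) = (ComplexShape.up ℕ).next n := fun n => by simp
  let τ : ∀ n, Q.X n ⟶ Q.cycles (n + 1) := fun n => Q.toCycles n (n + 1)
  have hι : ∀ n, Q.iCycles n ≫ Q.d n (n + 1) = 0 := fun n => Q.iCycles_d n (n + 1)
  have hτ : ∀ n, τ n ≫ Q.iCycles (n + 1) = Q.d n (n + 1) := fun n => Q.toCycles_i n (n + 1)
  have hw : ∀ n, Q.iCycles n ≫ τ n = 0 := fun n => by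
    rw [← cancel_mono (Q.iCycles (n + 1)), Category.assoc, hτ, hι, zero_comp]
  haveI : ∀ n, Epi (τ n) := fun n => by
    refine Preadditive.epi_of_cancel_zero _ fun {Z} g hg => ?_
    let hc := Q.homologyIsCokernel n (n + 1) (by simp)
    have h1 : Q.homologyπ (n + 1) ≫ hc.desc (CokernelCofork.ofπ g hg) = g :=
      hc.fac (CokernelCofork.ofπ g hg) WalkingParallelPair.one
    rw [← h1, (hac n).eq_of_src (hc.desc (CokernelCofork.ofπ g hg)) 0, comp_zero]
  have hexact : ∀ n, (ShortComplex.mk (Q.iCycles n) (τ n) (hw n)).Exact := fun n => by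
    refine ShortComplex.exact_of_f_is_kernel _ (KernelFork.IsLimit.ofι _ _
      (fun g hg => Q.liftCycles g (n + 1) (by simp) (by rw [← hτ, reassoc_of% hg, zero_comp]))
      (fun g hg => Q.liftCycles_i _ _ _ _) fun g hg m hm => by
        rw [← cancel_mono (Q.iCycles n), hm, Q.liftCycles_i])
  let sp := fun n => ShortComplex.Splitting.ofExactOfRetraction _ (hexact n) (hsplit n).exists_splitMono.some.retraction
    (hsplit n).exists_splitMono.some.id (inferInstanceAs (Epi (τ n)))
  haveI : ∀ n, Injective (Q.cycles n) := fun n =>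
    haveI := hinj n
    (Retract.mk (Q.iCycles n) (sp n).r (sp n).f_r).injective
  refine ⟨fun {X Y} f i _ => ?_⟩
  haveI : ∀ n, Mono (i.f n) := fun n => (HomologicalComplex.eval C (ComplexShape.up ℕ) n).map_mono i
  let r : ∀ n, Y.X n ⟶ Q.cycles n := fun n => Injective.factorThru (f.f n ≫ (sp n).r) (i.f n)
  have hr : ∀ n, i.f n ≫ r n = f.f n ≫ (sp n).r := fun n => Injective.comp_factorThru _ _
  refine ⟨{ f := fun n => r n ≫ Q.iCycles n + Y.d n (n + 1) ≫ r (n + 1) ≫ (sp n).s
            comm' := fun n m hnm => ?_ }, ?_⟩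
  · obtain rfl : n + 1 = m := hnm
    have hs : (sp n).s ≫ Q.d n (n + 1) = Q.iCycles (n + 1) := by
      rw [← hτ, ← Category.assoc]
      exact (congrArg (· ≫ Q.iCycles (n + 1)) (sp n).s_g).trans (Category.id_comp _)
    simp [hs]
  · ext n
    have hid := (sp n).id
    dsimp at hid
    have hcomm : f.f n ≫ τ n = X.d n (n + 1) ≫ f.f (n + 1) ≫ (sp (n + 1)).r := by
      rw [← f.comm_assoc, ← hτ, Category.assoc]
      refine congrArg (f.f n ≫ ·) ((Category.comp_id _).symm.trans ?_)
      exact congrArg (τ n ≫ ·) (sp (n + 1)).f_r.symm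
    show i.f n ≫ (r n ≫ Q.iCycles n + Y.d n (n + 1) ≫ r (n + 1) ≫ (sp n).s) = f.f n
    rw [Preadditive.comp_add, reassoc_of% (hr n), i.comm_assoc, reassoc_of% (hr (n + 1))]
    conv_rhs => rw [← Category.comp_id (f.f n), ← hid, Preadditive.comp_add]
    rw [← reassoc_of% hcomm]

end Groth.Agent.S8348
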