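import Groth.Statements.S8349
import Mathlib

set_option autoImplicit false
universe v u
open CategoryTheory CategoryTheory.Limits
open HomAlg3
set_option linter.style.haveILetI false

namespace Groth.Agent.S8349

/-- Let C be an abelian category in which every object embeds in an injective object, and let A be a
cochain complex of objects of C in degrees 0, 1, 2, .... Then there are a cochain complex Q, with
every Q^i injective, H^i(Q) = 0 for every i ≥ 1 and every cycle inclusion Z^i(Q) ⟶ Q^i (i ≥ 0) a
split monomorphism, and a monomorphism of complexes A ⟶ Q. (The published statement asks Z^i(Q) =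
B^i(Q) for every i ≥ 0; in degree 0, where there is no incoming differential, this makes Z^0(Q) = 0,
and then no complex with nonzero degree-0 cycles, for instance a nonzero object placed in degree 0,
embeds in such a Q, because the degree-0 component of a chain map into Q factors through Z^0(Q).
This row asks vanishing homology in positive degrees only; the published construction, which embeds
each A^i in an injective I^i and takes Q^i = I^i ⊕ I^{i+1}, proves that version once an injective
I^0 containing A^0 is used in degree 0 as well.) -/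
theorem result {C : Type u} [Category.{v} C] [Abelian C]
    [EnoughInjectives C] (A : CochainComplex C ℕ) :
    ∃ (Q : CochainComplex C ℕ) (f : A ⟶ Q), Mono f ∧ (∀ i : ℕ, Injective (Q.X i)) ∧
      (∀ i : ℕ, IsZero (Q.homology (i + 1))) ∧ ∀ i : ℕ, IsSplitMono (Q.iCycles i) := by
  let J : ℕ → C := fun n => Injective.under (A.X n)
  let r : ∀ n, A.X n ⟶ J n := fun n => Injective.ι (A.X n)
  let Q : CochainComplex C ℕ := CochainComplex.of (fun n => J n ⊞ J (n + 1))
    (fun n => biprod.snd ≫ biprod.inl) (fun n => by simp)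
  have hd : ∀ n, Q.d n (n + 1) = (biprod.snd ≫ biprod.inl : J n ⊞ J (n + 1) ⟶ J (n + 1) ⊞ J (n + 1 + 1)) :=
    fun n => by
      show CochainComplex.of.d (fun n => J n ⊞ J (n + 1)) (fun n => biprod.snd ≫ biprod.inl) n (n + 1) = _
      exact CochainComplex.of_d (fun n => J n ⊞ J (n + 1)) (fun n => biprod.snd ≫ biprod.inl) n
  let f : A ⟶ Q :=
    { f := fun n => biprod.lift (r n) (A.d n (n + 1) ≫ r (n + 1))
      comm' := fun n m hnm => by
        obtain rfl : n + 1 = m := hnm
        rw [hd]
        refine biprod.hom_ext _ _ ?_ ?_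
        · simp
        · simp }
  have hz : ∀ n, (Q.iCycles n ≫ (biprod.snd : J n ⊞ J (n + 1) ⟶ J (n + 1))) = 0 := fun n => by
    have h := Q.iCycles_d n (n + 1) =≫ (biprod.fst : J (n + 1) ⊞ J (n + 1 + 1) ⟶ J (n + 1))
    rw [hd] at h
    simpa using h
  refine ⟨Q, f, ?_, fun n => ?_, fun n => ?_, fun n => ?_⟩
  · haveI : ∀ n, Mono (f.f n) := fun n => mono_of_mono_fac (biprod.lift_fst (r n) _)
    exact HomologicalComplex.mono_of_mono_f f inferInstance
  · show Injective (J n ⊞ J (n + 1))
    infer_instance
  · rw [← Q.exactAt_iff_isZero_homology, HomologicalComplex.exactAt_iff' _ n (n + 1) (n + 1 + 1) (by simp) (by simp),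
      ShortComplex.exact_iff_exact_up_to_refinements]
    intro T x hx
    change T ⟶ J (n + 1) ⊞ J (n + 1 + 1) at x
    replace hx : x ≫ (biprod.snd ≫ biprod.inl : J (n + 1) ⊞ J (n + 1 + 1) ⟶ J (n + 1 + 1) ⊞ J (n + 1 + 1 + 1)) = 0 := by
      rw [← hd]; exact hx
    refine ⟨T, 𝟙 T, inferInstance, x ≫ biprod.fst ≫ biprod.inr, ?_⟩
    show 𝟙 T ≫ x = (x ≫ biprod.fst ≫ biprod.inr) ≫ Q.d n (n + 1)
    rw [hd]
    have h := hx =≫ (biprod.fst : J (n + 1 + 1) ⊞ J (n + 1 + 1 + 1) ⟶ J (n + 1 + 1))
    simp at h
    refine biprod.hom_ext _ _ ?_ ?_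
    · simp
    · simpa using h
  · refine IsSplitMono.mk' ⟨(biprod.fst : J n ⊞ J (n + 1) ⟶ J n) ≫ Q.liftCycles biprod.inl (n + 1) (by simp) (by
      rw [hd]; simp), ?_⟩
    rw [← cancel_mono (Q.iCycles n), Category.assoc, Category.assoc, Q.liftCycles_i, Category.id_comp]
    refine biprod.hom_ext _ _ ?_ ?_
    · simp
    · simpa using (hz n).symm

end Groth.Agent.S8349
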