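import Groth.Statements.S8351
import Groth.Agent.HDUPush.Main
import Groth.Agent.CohDerAcyc.Bound

set_option autoImplicit false
universe u
open CategoryTheory CategoryTheory.Limits TopologicalSpace
open CohCx

namespace Groth.Agent.S8351

open Groth.Agent Groth.Agent.RlimCrit Opposite

/-- The derived adjunction, with its value on K-injective complexes. -/
theorem exists_rightAdjoint' {B : Type*} [Category B] [Abelian B] [HasDerivedCategory B]
    (hres : ∀ K : CochainComplex B ℤ, ∃ (I : CochainComplex B ℤ) (f : K ⟶ I),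
      I.IsKInjective ∧ QuasiIso f)
    {A : Type*} [Category A] [Abelian A] [HasDerivedCategory A] {F : A ⥤ B} {G : B ⥤ A} (adj : F ⊣ G)
    [F.Additive] [G.Additive] [PreservesFiniteLimits F] [PreservesFiniteColimits F] :
    ∃ RG : DerivedCategory B ⥤ DerivedCategory A,
      Nonempty (F.mapDerivedCategory ⊣ RG) ∧
      ∀ (I : CochainComplex B ℤ), I.IsKInjective →
        Nonempty (DerivedCategory.Q.obj ((G.mapHomologicalComplex (ComplexShape.up ℤ)).obj I) ≅
          RG.obj (DerivedCategory.Q.obj I)) := by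
  let Φ := G.mapHomotopyCategory (ComplexShape.up ℤ) ⋙ DerivedCategory.Qh
  let RG := KInj.rightAdj hres ⋙ Φ
  let α : Φ ⟶ DerivedCategory.Qh ⋙ RG := KInj.derivedUnit hres Φ
  haveI : RG.IsRightDerivedFunctor α (HomotopyCategory.quasiIso B (ComplexShape.up ℤ)) :=
    KInj.isRightDerivedFunctor hres Φ
  let lf := F.mapDerivedCategoryFactorsh
  let W₁ := HomotopyCategory.quasiIso A (ComplexShape.up ℤ)
  let W₂ := HomotopyCategory.quasiIso B (ComplexShape.up ℤ)
  haveI := Functor.isLeftDerivedFunctor_of_inverts (W := W₁) F.mapDerivedCategory lf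
  haveI : (F.mapDerivedCategory ⋙ RG).IsLeftDerivedFunctor
      ((Functor.associator _ _ _).inv ≫ Functor.whiskerRight lf.hom RG) W₁ :=
    Functor.isLeftDerivedFunctor_of_inverts (W := W₁) (F.mapDerivedCategory ⋙ RG)
      ((Functor.associator _ _ _).symm ≪≫ Functor.isoWhiskerRight lf RG)
  haveI : (RG ⋙ F.mapDerivedCategory).IsRightDerivedFunctor
      (Functor.whiskerRight α F.mapDerivedCategory ≫ (Functor.associator _ _ _).hom) W₂ :=
    KInj.isRightDerivedFunctor_of_isIso_h hres _ _ fun I hI => by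
      haveI := hI
      haveI := KInj.isIso_app_of_isKInjective hres _ RG α I
      simp only [NatTrans.comp_app, Functor.associator_hom_app, Functor.whiskerRight_app]
      infer_instance
  refine ⟨RG, ⟨(KInj.homotopyAdjunction adj).derived W₁ W₂ lf.hom α⟩, fun I hI => ?_⟩
  haveI := hI
  haveI := KInj.isIso_app_of_isKInjective hres _ RG α I
  exact ⟨((DerivedCategory.quotientCompQhIso A).app _).symm ≪≫
    DerivedCategory.Qh.mapIso ((G.mapHomotopyCategoryFactors (ComplexShape.up ℤ)).app I).symm ≪≫
    asIso (α.app ((HomotopyCategory.quotient B (ComplexShape.up ℤ)).obj I)) ≪≫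
    RG.mapIso ((DerivedCategory.quotientCompQhIso B).app I)⟩

/-- The bounded below derived functor agrees with a functor computed on K-injective complexes. -/
theorem nonempty_plus_iso {A : Type*} [Category A] [Abelian A] [HasDerivedCategory A] [EnoughInjectives A]
    {B : Type*} [Category B] [Abelian B] [HasDerivedCategory B] (F : A ⥤ B) [F.Additive]
    (RG : DerivedCategory A ⥤ DerivedCategory B)
    (hRG : ∀ (I : CochainComplex A ℤ), I.IsKInjective →
      Nonempty (DerivedCategory.Q.obj ((F.mapHomologicalComplex (ComplexShape.up ℤ)).obj I) ≅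
        RG.obj (DerivedCategory.Q.obj I))) (K : CochainComplex.Plus A) :
    Nonempty (DerivedCategory.Plus.ι.obj (F.rightDerivedFunctorPlus.obj
        (DerivedCategory.Plus.Qh.obj ((HomotopyCategory.Plus.quotient A).obj K))) ≅
      RG.obj (DerivedCategory.Q.obj K.obj)) := by
  let K₀ := DerivedCategory.Plus.Qh.obj ((HomotopyCategory.Plus.quotient A).obj K)
  obtain ⟨a, ha⟩ : ∃ a : ℤ, K₀.IsGE a := by
    obtain ⟨a, ha⟩ := K.property
    haveI : K.obj.IsStrictlyGE a := ha
    refine ⟨a, (DerivedCategory.Plus.isGE_ι_obj_iff _ a).1 ?_⟩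
    haveI : (DerivedCategory.Q.obj K.obj).IsGE a := inferInstance
    exact DerivedCategory.TStructure.t.isGE_of_iso ((DerivedCategory.quotientCompQhIso A).symm.app K.obj) a
  haveI := ha
  obtain ⟨L, hL, ⟨e⟩⟩ := DerivedCategory.Plus.exists_injective_nonempty_iso K₀ a
  let J := (InjectiveObject.ι A).mapCochainComplexPlus.obj L
  haveI : CochainComplex.IsKInjective J.obj :=
    inferInstanceAs (CochainComplex.IsKInjective
      (((InjectiveObject.ι A).mapHomologicalComplex (ComplexShape.up ℤ)).obj L.obj))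
  haveI hu : IsIso (F.rightDerivedFunctorPlusUnit.app ((HomotopyCategory.Plus.quotient A).obj J)) :=
    inferInstanceAs (IsIso (F.rightDerivedFunctorPlusUnit.app
      ((InjectiveObject.ι A).mapHomotopyCategoryPlus.obj
        ((HomotopyCategory.Plus.quotient (InjectiveObject A)).obj L))))
  let u : DerivedCategory.Plus.Q.obj (F.mapCochainComplexPlus.obj J) ≅ F.rightDerivedFunctorPlus.obj K₀ :=
    @asIso _ _ _ _ (F.rightDerivedFunctorPlusUnit.app ((HomotopyCategory.Plus.quotient A).obj J)) hu ≪≫
      F.rightDerivedFunctorPlus.mapIso e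
  obtain ⟨v⟩ := hRG J.obj ‹_›
  let eJ : DerivedCategory.Q.obj J.obj ≅ DerivedCategory.Q.obj K.obj :=
    ((DerivedCategory.quotientCompQhIso A).app J.obj).symm ≪≫ DerivedCategory.Plus.ι.mapIso e ≪≫
      (DerivedCategory.quotientCompQhIso A).app K.obj
  let w : DerivedCategory.Plus.ι.obj (F.rightDerivedFunctorPlus.obj K₀) ≅ RG.obj (DerivedCategory.Q.obj K.obj) :=
    DerivedCategory.Plus.ι.mapIso u.symm ≪≫
      (DerivedCategory.quotientCompQhIso B).app _ ≪≫ v ≪≫ RG.mapIso eJ
  exact ⟨w⟩

/-- A natural family of bijections of morphism groups gives an isomorphism of presheaves. -/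
theorem nonempty_yoneda_iso {C C' : Type*} [Category C] [Category C'] {D : Type*} [Category.{u} D] [Preadditive D]
    {E : Type*} [Category.{u} E] [Preadditive E] (F : C ⥤ C') (G₁ : C' ⥤ D) (K : D) (G₂ : C ⥤ E) (L : E)
    (e : ∀ c, (G₁.obj (F.obj c) ⟶ K) →+ (G₂.obj c ⟶ L)) (he : ∀ c, Function.Bijective (e c))
    (hn : ∀ {c c' : C} (g : c' ⟶ c) (z : G₁.obj (F.obj c) ⟶ K),
      e c' (G₁.map (F.map g) ≫ z) = G₂.map g ≫ e c z) :
    Nonempty (F.op ⋙ G₁.op ⋙ preadditiveYoneda.obj K ≅ G₂.op ⋙ preadditiveYoneda.obj L) :=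
  let ψ : F.op ⋙ G₁.op ⋙ preadditiveYoneda.obj K ⟶ G₂.op ⋙ preadditiveYoneda.obj L :=
    { app := fun c => AddCommGrpCat.ofHom (e c.unop)
      naturality := fun c c' g => AddCommGrpCat.hom_ext (AddMonoidHom.ext fun z => hn g.unop z) }
  haveI : ∀ c, IsIso (ψ.app c) := fun c => (ConcreteCategory.isIso_iff_bijective _).2 (he c.unop)
  haveI : IsIso ψ := NatIso.isIso_of_isIso_app ψ
  ⟨asIso ψ⟩

section Push

variable {X Y : TopCat.{u}} (f : X ⟶ Y) [(CohTop.pull f).Additive]
    [PreservesFiniteLimits (CohTop.pull f)] [PreservesFiniteColimits (CohTop.pull f)]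
    [HasDerivedCategory.{u} (CohTop.Ab X)] [HasDerivedCategory.{u} (CohTop.Ab Y)]
    {RG : DerivedCategory (CohTop.Ab X) ⥤ DerivedCategory (CohTop.Ab Y)}
    (D : (CohTop.pull f).mapDerivedCategory ⊣ RG) (Kd : DerivedCategory (CohTop.Ab X)) (p : ℤ)

/-- Hypercohomology classes on preimages as classes of the derived direct image. -/
noncomputable def pushHDU (V : Opens Y) :
    ((DerivedCategory.singleFunctor (CohTop.Ab X) 0).obj ((HDUPush.fr X).obj ((Opens.map f).obj V)) ⟶
        (shiftFunctor (DerivedCategory (CohTop.Ab X)) p).obj Kd) →+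
      ((DerivedCategory.singleFunctor (CohTop.Ab Y) 0).obj ((HDUPush.fr Y).obj V) ⟶
        (shiftFunctor (DerivedCategory (CohTop.Ab Y)) p).obj (RG.obj Kd)) :=
  (hdu ((HDUPush.fr Y).obj V) p (RG.obj Kd)).toAddMonoidHom.comp
    ((HDUPush.pushClass f D Kd p V).comp (hdu ((HDUPush.fr X).obj ((Opens.map f).obj V)) p Kd).symm.toAddMonoidHom)

theorem pushHDU_bijective (V : Opens Y) : Function.Bijective (pushHDU f D Kd p V) :=
  ((hdu _ p (RG.obj Kd)).bijective.comp
    (HDUPush.pushClass_bijective f D Kd p V)).comp (hdu _ p Kd).symm.bijective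

theorem pushHDU_map {U V : Opens Y} (l : V ⟶ U)
    (z : (DerivedCategory.singleFunctor (CohTop.Ab X) 0).obj ((HDUPush.fr X).obj ((Opens.map f).obj U)) ⟶
      (shiftFunctor (DerivedCategory (CohTop.Ab X)) p).obj Kd) :
    pushHDU f D Kd p V ((DerivedCategory.singleFunctor (CohTop.Ab X) 0).map
        ((HDUPush.fr X).map ((Opens.map f).map l)) ≫ z) =
      (DerivedCategory.singleFunctor (CohTop.Ab Y) 0).map ((HDUPush.fr Y).map l) ≫ pushHDU f D Kd p U z := by
  have e1 : (hdu ((HDUPush.fr X).obj ((Opens.map f).obj V)) p Kd).symm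
      ((DerivedCategory.singleFunctor (CohTop.Ab X) 0).map ((HDUPush.fr X).map ((Opens.map f).map l)) ≫ z) =
        sglMap p ((HDUPush.fr X).map ((Opens.map f).map l)) ≫
          (hdu ((HDUPush.fr X).obj ((Opens.map f).obj U)) p Kd).symm z := by
    apply (hdu ((HDUPush.fr X).obj ((Opens.map f).obj V)) p Kd).injective
    rw [AddEquiv.apply_symm_apply, hdu_map, AddEquiv.apply_symm_apply]
  simp only [pushHDU, AddMonoidHom.comp_apply, AddEquiv.coe_toAddMonoidHom]
  rw [e1, HDUPush.pushClass_map, hdu_map]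

include D in
/-- The hypercohomology presheaf of a derived direct image. -/
theorem nonempty_sheafify_iso :
    Nonempty ((DerivedCategory.homologyFunctor (CohTop.Ab Y) p).obj (RG.obj Kd) ≅
      (presheafToSheaf (Opens.grothendieckTopology Y) AddCommGrpCat.{u}).obj
        ((Opens.map f).op ⋙ CohCx.HDUPresheaf Kd p)) := by
  obtain ⟨s⟩ := RlimCrit.nonempty_sheafify_HDU_iso (RG.obj Kd) p
  obtain ⟨φ⟩ := nonempty_yoneda_iso (Opens.map f)
    (yoneda ⋙ (Functor.whiskeringRight (Opens X)ᵒᵖ _ _).obj AddCommGrpCat.free.{u} ⋙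
      presheafToSheaf (Opens.grothendieckTopology X) AddCommGrpCat.{u} ⋙ DerivedCategory.singleFunctor _ 0)
    ((shiftFunctor (DerivedCategory (CohTop.Ab X)) p).obj Kd)
    (yoneda ⋙ (Functor.whiskeringRight (Opens Y)ᵒᵖ _ _).obj AddCommGrpCat.free.{u} ⋙
      presheafToSheaf (Opens.grothendieckTopology Y) AddCommGrpCat.{u} ⋙ DerivedCategory.singleFunctor _ 0)
    ((shiftFunctor (DerivedCategory (CohTop.Ab Y)) p).obj (RG.obj Kd)) (pushHDU f D Kd p)
    (pushHDU_bijective f D Kd p) (pushHDU_map f D Kd p)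
  exact ⟨s.symm ≪≫ (presheafToSheaf (Opens.grothendieckTopology Y) AddCommGrpCat.{u}).mapIso φ.symm⟩

end Push

/-- For abelian sheaves on topological spaces and a complex bounded below. Let f : X ⟶ Y be a continuous
map and K a bounded below complex of abelian sheaves on X. For every p, the p-th cohomology sheaf of
the derived direct image R f_*(K) (bounded below right derived functor of f_*, computed with
injective resolutions) is isomorphic to the sheaf associated with the presheaf U ↦ H^p(f⁻¹(U), K) on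
Y, where H^p(V, K) denotes hypercohomology (morphisms from the free abelian sheaf on V to K[p] in
the derived category). (The published statement is for modules over arbitrary ringed spaces,
complexes unbounded via Cartan-Eilenberg resolutions, and a canonical isomorphism; here only the
existence of an isomorphism is asserted, and the derived categories are assumed to exist with
morphism types in the universe of X and Y.) -/
theorem result {X Y : TopCat.{u}} (f : X ⟶ Y)
    [HasDerivedCategory.{u} (CohTop.Ab X)] [HasDerivedCategory.{u} (CohTop.Ab Y)]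
    (K : CochainComplex.Plus (CohTop.Ab X)) (p : ℤ) :
    Nonempty ((DerivedCategory.Plus.homologyFunctor (CohTop.Ab Y) p).obj
        ((CohTop.push f).rightDerivedFunctorPlus.obj
          (DerivedCategory.Plus.Qh.obj ((HomotopyCategory.Plus.quotient (CohTop.Ab X)).obj K))) ≅
      (presheafToSheaf (Opens.grothendieckTopology Y) AddCommGrpCat.{u}).obj
        ((Opens.map f).op ⋙ CohCx.HDUPresheaf (DerivedCategory.Q.obj K.obj) p)) := by
  haveI := CohTopEasy.preservesFiniteLimits_pull f
  haveI : (CohTop.pull f).IsLeftAdjoint := (HDUPush.pullAdj f).isLeftAdjoint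
  haveI : PreservesFiniteColimits (CohTop.pull f) :=
    haveI : PreservesColimitsOfSize.{0, 0} (CohTop.pull f) :=
      (HDUPush.pullAdj f).leftAdjoint_preservesColimits
    inferInstance
  haveI : (CohTop.pull f).Additive := (HDUPush.pullAdj f).left_adjoint_additive
  haveI : (CohTop.push f).Additive := inferInstance
  obtain ⟨RG, ⟨D⟩, hRG⟩ := exists_rightAdjoint' (KInj.hres_of_isGrothendieckAbelian (CohTop.Ab X)) (HDUPush.pullAdj f)
  obtain ⟨w⟩ := nonempty_plus_iso (CohTop.push f) RG hRG K
  obtain ⟨s⟩ := nonempty_sheafify_iso f D (DerivedCategory.Q.obj K.obj) p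
  exact ⟨(DerivedCategory.homologyFunctor (CohTop.Ab Y) p).mapIso w ≪≫ s⟩

end Groth.Agent.S8351
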