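import Groth.Statements.S8352
import Groth.Agent.InvLimLib.Basic
-- import your own Groth.Agent.* helpers here

set_option autoImplicit false
universe u
open CategoryTheory CategoryTheory.Limits Opposite
open HomAlg3

namespace Groth.Agent.S8352

/-- Category of abelian groups, system indexed by the natural numbers: Let (A_k) be an inverse system of
abelian groups satisfying the Mittag-Leffler condition, A = lim A_k with projections π_p : A ⟶ A_p.
Filter A and each A_k by the kernels of the maps to A_{p-1} (with A_{-1} = 0); the graded piece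
gr^p(A) is identified with Im(π_p) ∩ Ker(A_p ⟶ A_{p-1}) and gr^p(A_k), k ≥ p, with Im(A_k ⟶ A_p) ∩
Ker(A_p ⟶ A_{p-1}), a decreasing family of subgroups of A_p. The statement gr^p(A) ≅ lim_k gr^p(A_k)
then reads: Im(π_0) = ⋂_k Im(A_k ⟶ A_0), and for every p, Im(π_{p+1}) ∩ Ker(A_{p+1} ⟶ A_p) = ⋂_{k ≥
p+1} (Im(A_k ⟶ A_{p+1}) ∩ Ker(A_{p+1} ⟶ A_p)). -/
theorem result (F : ℕᵒᵖ ⥤ AddCommGrpCat.{u})
    (hF : (F ⋙ forget AddCommGrpCat).IsMittagLeffler) :
    (limit.π F (op 0)).hom.range = ⨅ k : ℕ, (F.map (homOfLE (Nat.zero_le k)).op).hom.range ∧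
      ∀ p : ℕ, (limit.π F (op (p + 1))).hom.range ⊓ (F.map (homOfLE (Nat.le_succ p)).op).hom.ker =
        ⨅ (k : ℕ) (hk : p + 1 ≤ k),
          (F.map (homOfLE hk).op).hom.range ⊓ (F.map (homOfLE (Nat.le_succ p)).op).hom.ker := by
  have hm := (Groth.Agent.InvLimLib.ml_iff F).1 hF
  have through : ∀ (q : ℕ) (x : F.obj (Opposite.op q)), (∀ k (hk : q ≤ k), ∃ y, Groth.Agent.InvLimLib.tr F hk y = x) →
      ∃ w, (CategoryTheory.Limits.limit.π F (Opposite.op q)).hom w = x := fun q x hx => by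
    obtain ⟨y, hy, hy0⟩ := Groth.Agent.InvLimLib.exists_compat_of_step F q (fun n y => ∀ k (hk : q + n ≤ k), ∃ z, Groth.Agent.InvLimLib.tr F hk z = y) x hx
      fun n y hy => by
        obtain ⟨j, hj, hj'⟩ := hm (q + n + 1)
        obtain ⟨z, hz⟩ := hy j ((Nat.le_succ _).trans hj)
        exact ⟨Groth.Agent.InvLimLib.tr F hj z, fun k hk => hj' k hk z, by rw [Groth.Agent.InvLimLib.tr_tr, hz]⟩
    obtain ⟨w, hw⟩ := Groth.Agent.InvLimLib.exists_limit F hy
    exact ⟨w, (hw q).trans hy0⟩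
  have sub : ∀ (q : ℕ) (w) (k : ℕ) (hk : q ≤ k), ∃ y, Groth.Agent.InvLimLib.tr F hk y = (CategoryTheory.Limits.limit.π F (Opposite.op q)).hom w :=
    fun q w k hk => ⟨_, Groth.Agent.InvLimLib.compat_of_limit F w hk⟩
  refine ⟨?_, fun p => ?_⟩
  · ext x
    simp only [AddSubgroup.mem_iInf]
    exact ⟨fun ⟨w, hw⟩ k => hw ▸ sub 0 w k (Nat.zero_le k), fun h => through 0 x fun k _ => h k⟩
  · ext x
    simp only [AddSubgroup.mem_iInf, AddSubgroup.mem_inf]
    exact ⟨fun ⟨⟨w, hw⟩, h2⟩ k hk => ⟨hw ▸ sub (p + 1) w k hk, h2⟩,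
      fun h => ⟨through (p + 1) x fun k hk => (h k hk).1, (h (p + 1) le_rfl).2⟩⟩

end Groth.Agent.S8352
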