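import Groth.Statements.S8353
import Mathlib

set_option autoImplicit false
universe u
open HomAlg3

namespace Groth.Agent.S8353

namespace S8353Aux

variable {S : Type u} [CommRing S] (J : Ideal S) [IsAdicComplete J S] {M : Type u} [AddCommGroup M] [Module S M]
  (F : ℤ → Submodule S M) (hF : Antitone F) (hJ : ∀ p : ℤ, J • F p ≤ F (p + 1)) (hsep : ⨅ p : ℤ, F p = ⊥)

include hJ in
theorem pow_smul_le (q : ℤ) : ∀ k : ℕ, J ^ k • F q ≤ F (q + k)
  | 0 => by simp
  | k + 1 => by
    rw [pow_succ', Submodule.mul_smul]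
    refine le_trans (Submodule.smul_mono le_rfl (pow_smul_le q k)) ?_
    refine le_trans (hJ _) (le_of_eq ?_)
    congr 1
    push_cast
    ring

include hF hJ hsep in
/-- Successive approximation. -/
theorem le_of_approx (q : ℤ) {n : ℕ} (Φ : (Fin n → S) →ₗ[S] M) (hΦ : LinearMap.range Φ ≤ F q)
    (h : ∀ k : ℕ, F (q + k) ≤ J ^ k • LinearMap.range Φ ⊔ F (q + k + 1)) : F q ≤ LinearMap.range Φ := by
  classical
  intro x hx
  have hJk : ∀ (k : ℕ) (c : Fin n → S), (∀ i, c i ∈ J ^ k) → Φ c ∈ F (q + k) := fun k c hc => by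
    refine pow_smul_le J F hJ q k ?_
    rw [pi_eq_sum_univ c, map_sum]
    refine Submodule.sum_mem _ fun i _ => ?_
    rw [map_smul]
    exact Submodule.smul_mem_smul (hc i) (hΦ ⟨_, rfl⟩)
  have step : ∀ (k : ℕ) (c : Fin n → S), x - Φ c ∈ F (q + k) →
      ∃ c' : Fin n → S, (∀ i, c' i - c i ∈ J ^ k) ∧ x - Φ c' ∈ F (q + (k + 1 : ℕ)) := fun k c hc => by
    obtain ⟨a, ha, b, hb, hab⟩ := Submodule.mem_sup.1 (h k hc)
    obtain ⟨e, he, rfl⟩ : ∃ e : Fin n → S, (∀ i, e i ∈ J ^ k) ∧ Φ e = a := by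
      refine Submodule.smul_induction_on ha (fun r hr m hm => ?_) fun u v hu hv => ?_
      · obtain ⟨w, rfl⟩ := hm
        exact ⟨r • w, fun i => Ideal.mul_mem_right _ _ hr, map_smul Φ r w⟩
      · obtain ⟨e₁, h₁, rfl⟩ := hu
        obtain ⟨e₂, h₂, rfl⟩ := hv
        exact ⟨e₁ + e₂, fun i => add_mem (h₁ i) (h₂ i), map_add Φ _ _⟩
    refine ⟨c + e, fun i => by simpa using he i, ?_⟩
    have : x - Φ (c + e) = b := by rw [map_add, sub_add_eq_sub_sub, ← hab, add_sub_cancel_left]
    rw [this]
    convert hb using 2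
    push_cast
    ring
  choose nx hnx1 hnx2 using step
  let c : (k : ℕ) → {c : Fin n → S // x - Φ c ∈ F (q + k)} := fun k =>
    Nat.rec ⟨0, by simpa using hx⟩ (fun k c => ⟨nx k c.1 c.2, hnx2 k c.1 c.2⟩) k
  have hlim : ∀ i, ∃ L, ∀ k, (c k).1 i - L ∈ J ^ k := fun i => by
    have hd : ∀ k m, k ≤ m → (c m).1 i - (c k).1 i ∈ J ^ k := by
      intro k m hkm
      induction m, hkm using Nat.le_induction with
      | base => simp
      | succ m hkm ih =>
        have := Ideal.pow_le_pow_right hkm (hnx1 m (c m).1 (c m).2 i)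
        have e : (c (m + 1)).1 i - (c k).1 i = ((c (m + 1)).1 i - (c m).1 i) + ((c m).1 i - (c k).1 i) := by ring
        rw [e]
        exact add_mem this ih
    obtain ⟨L, hL⟩ := IsPrecomplete.prec (I := J) (inferInstance : IsPrecomplete J S)
      (f := fun k => (c k).1 i) fun {k m} hkm => by
        rw [SModEq.sub_mem]
        simpa using neg_mem (hd k m hkm)
    exact ⟨L, fun k => by simpa [SModEq.sub_mem] using hL k⟩
  choose L hL using hlim
  refine ⟨L, (sub_eq_zero.1 ?_).symm⟩
  have h0 : x - Φ L ∈ ⨅ p : ℤ, F p := Submodule.mem_iInf _ |>.2 fun p => by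
    refine hF (show p ≤ q + ((p - q).toNat : ℤ) by omega) ?_
    set k := (p - q).toNat
    have e : x - Φ L = (x - Φ (c k).1) + Φ ((c k).1 - L) := by rw [map_sub]; abel
    rw [e]
    exact add_mem (c k).2 (hJk k _ fun i => hL i k)
  rwa [hsep, Submodule.mem_bot] at h0

include hF hJ hsep in
/-- A finitely generated approximating submodule is everything. -/
theorem eq_of_approx (q : ℤ) (N : Submodule S M) (hN : N.FG) (hNq : N ≤ F q)
    (h : ∀ k : ℕ, F (q + k) ≤ J ^ k • N ⊔ F (q + k + 1)) : F q = N := by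
  obtain ⟨n, g, rfl⟩ := Submodule.fg_iff_exists_fin_generating_family.1 hN
  refine le_antisymm ?_ hNq
  rw [← Fintype.range_linearCombination S] at hNq h ⊢
  exact le_of_approx J F hF hJ hsep q _ hNq h

end S8353Aux

/-- Let S be a Noetherian ring which is separated and complete for the adic topology of an ideal J, and
let M be an S-module with a decreasing filtration (F^p M)_{p ∈ ℤ} by submodules such that F^p M = M
for some p, J·F^p M ⊆ F^{p+1} M for all p, and ⋂_p F^p M = 0. Then the following are equivalent: (a)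
M is a finitely generated S-module and J·F^p M = F^{p+1} M for all large p; (c) every F^p M /
F^{p+1} M is a finitely generated S-module and, for all large p, the map J ⊗ (F^p M/F^{p+1} M) ⟶
F^{p+1} M/F^{p+2} M is surjective, that is F^{p+1} M = J·F^p M + F^{p+2} M. (The published statement
also lists a third equivalent condition, finite generation of the associated graded module over the
associated graded ring; this row states the equivalence of the other two.) -/
theorem result {S : Type u} [CommRing S] [IsNoetherianRing S]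
    (J : Ideal S) [IsAdicComplete J S] {M : Type u} [AddCommGroup M] [Module S M]
    (F : ℤ → Submodule S M) (hF : Antitone F) (hcod : ∃ p₀ : ℤ, F p₀ = ⊤)
    (hJ : ∀ p : ℤ, J • F p ≤ F (p + 1)) (hsep : ⨅ p : ℤ, F p = ⊥) :
    (Module.Finite S M ∧ ∃ p₁ : ℤ, ∀ p : ℤ, p₁ ≤ p → J • F p = F (p + 1)) ↔
      ((∀ p : ℤ, (Submodule.map (F (p + 1)).mkQ (F p)).FG) ∧
        ∃ p₁ : ℤ, ∀ p : ℤ, p₁ ≤ p → F (p + 1) = J • F p ⊔ F (p + 2)) := by
  open S8353Aux in
  constructor
  · rintro ⟨hM, p₁, hp⟩
    haveI := hM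
    haveI : IsNoetherian S M := isNoetherian_of_isNoetherianRing_of_finite S M
    exact ⟨fun p => (IsNoetherian.noetherian (F p)).map _, p₁, fun p h => le_antisymm
      ((hp p h).symm ▸ le_sup_left) (sup_le (hJ p) (hF (by omega)))⟩
  · rintro ⟨hfg, p₁, hp⟩
    have hiter : ∀ (N : Submodule S M) (q : ℤ), p₁ ≤ q → F q ≤ N ⊔ F (q + 1) →
        ∀ k : ℕ, F (q + k) ≤ J ^ k • N ⊔ F (q + k + 1) := by
      intro N q hq hN k
      induction k with
      | zero => simpa using hN
      | succ k ih =>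
        have e : q + ((k + 1 : ℕ) : ℤ) = q + k + 1 := by push_cast; ring
        rw [e]
        refine le_trans (hp (q + k) (by omega)).le (sup_le ?_ (le_sup_of_le_right (le_of_eq (congrArg F (by omega)))))
        refine le_trans (Submodule.smul_mono le_rfl ih) ?_
        rw [Submodule.smul_sup, pow_succ', Submodule.mul_smul]
        exact sup_le_sup le_rfl (hJ _)
    have hfgp : (F p₁).FG := by
      obtain ⟨s, hs⟩ := hfg p₁
      have hsub : ∀ y ∈ s, ∃ x ∈ F p₁, (F (p₁ + 1)).mkQ x = y := fun y hy =>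
        Submodule.mem_map.1 (hs ▸ Submodule.subset_span hy)
      choose g hg hgy using hsub
      let N := Submodule.span S (Set.range fun y : s => g y.1 y.2)
      have hN : N ≤ F p₁ := Submodule.span_le.2 (by rintro _ ⟨y, rfl⟩; exact hg _ _)
      have h0 : F p₁ ≤ N ⊔ F (p₁ + 1) := by
        intro x hx
        have h1 : (F (p₁ + 1)).mkQ x ∈ N.map (F (p₁ + 1)).mkQ := by
          refine (?_ : Submodule.map (F (p₁ + 1)).mkQ (F p₁) ≤ _) ⟨x, hx, rfl⟩
          rw [← hs, Submodule.span_le]
          exact fun y hy => ⟨g y hy, Submodule.subset_span ⟨⟨y, hy⟩, rfl⟩, hgy y hy⟩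
        obtain ⟨y, hy, hxy⟩ := h1
        exact Submodule.mem_sup.2 ⟨y, hy, x - y, (Submodule.Quotient.eq _).1 hxy.symm, add_sub_cancel _ _⟩
      have hNfg : N.FG := Submodule.fg_span (Set.finite_range _)
      rw [eq_of_approx J F hF hJ hsep p₁ N hNfg hN (hiter N p₁ le_rfl h0)]
      exact hNfg
    have hdown : ∀ k : ℕ, (F (p₁ - k)).FG := by
      intro k
      induction k with
      | zero => simpa using hfgp
      | succ k ih =>
        refine Submodule.fg_of_fg_map_of_fg_inf_ker (F (p₁ - (k + 1 : ℕ) + 1)).mkQ (hfg _) ?_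
        rw [Submodule.ker_mkQ, inf_eq_right.2 (hF (by omega))]
        rw [show p₁ - ((k + 1 : ℕ) : ℤ) + 1 = p₁ - (k : ℤ) by omega]
        exact ih
    obtain ⟨p₀, h₀⟩ := hcod
    have hM : Module.Finite S M := ⟨by
      have h1 : (⊤ : Submodule S M) = F (p₁ - ((p₁ - p₀).toNat : ℤ)) :=
        le_antisymm (h₀ ▸ hF (by omega)) le_top
      rw [h1]
      exact hdown _⟩
    haveI : IsNoetherian S M := isNoetherian_of_isNoetherianRing_of_finite S M
    exact ⟨hM, p₁, fun p h => (eq_of_approx J F hF hJ hsep (p + 1) (J • F p) (IsNoetherian.noetherian _) (hJ p)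
      (hiter _ (p + 1) (by omega) ((hp p h).le.trans (le_of_eq (congrArg (fun r => J • F p ⊔ F r) (by omega)))))).symm⟩

end Groth.Agent.S8353
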