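import Groth.Statements.S8358
-- import your own Groth.Agent.* helpers here

set_option autoImplicit false
set_option backward.isDefEq.respectTransparency false
universe u
open CategoryTheory MonObj AlgebraicGeometry
open LieS

namespace Groth.Agent.S8358

/-- First isomorphism: over an affine base: for a commutative ring R, a commutative group M, the
diagonalisable group D(M) = Spec R[M] over Spec R and a commutative R-algebra B, the group
Lie(D(M))(Spec B) is identified with the additive group Hom(M, B) of group homomorphisms: there is a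
multiplicative isomorphism which sends a point v of D(M) with values in B[ε], read as an R-algebra
homomorphism from R[M] to B[ε], to the homomorphism m ↦ (ε-coefficient of the image of m), and which
carries the rescaling action of b in B to multiplication of homomorphisms by b. -/
theorem result (R : Type u) [CommRing R] (M : Type) [AddCommGroup M]
    (B : Type u) [CommRing B] [Algebra R B] :
    ∃ e : LieS.LieR (Red.diag R M) B ≃* Multiplicative (M →+ B),
      (∀ (v : LieS.LieR (Red.diag R M) B) (m : M),
        Multiplicative.toAdd (e v) m =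
          TrivSqZeroExt.snd (((Spec.mapMulEquiv.symm ((LieS.dptIso B).inv ≫ v.1)).ofConv :
            MonoidAlgebra R (Multiplicative M) →ₐ[R] DualNumber B)
            (MonoidAlgebra.single (Multiplicative.ofAdd m) 1))) ∧
      ∀ (b : B) (v : LieS.LieR (Red.diag R M) B),
        e (b • v) = Multiplicative.ofAdd (b • Multiplicative.toAdd (e v)) := by
  classical
  let T : Over (Spec (CommRingCat.of R)) := (Spec (CommRingCat.of (DualNumber B))).asOver (Spec (CommRingCat.of R))
  let B0 : Over (Spec (CommRingCat.of R)) := (Spec (CommRingCat.of B)).asOver (Spec (CommRingCat.of R))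
  let J := LieS.dptIso (R := R) B
  let f := Spec.map (CommRingCat.ofHom (algebraMap R B))
  let A := MonoidAlgebra R (Multiplicative M)
  let Φ : (LieS.dpt B f ⟶ Red.diag R M) → WithConv (A →ₐ[R] DualNumber B) := fun v =>
    Spec.mapMulEquiv.symm (J.inv ≫ v)
  have hΦmul : ∀ v w, Φ (v * w) = Φ v * Φ w := fun v w => by
    simp only [Φ, MonObj.comp_mul, map_mul]
  have hΦval : ∀ v w (m : Multiplicative M), (Φ (v * w)).ofConv (MonoidAlgebra.single m 1) =
      (Φ v).ofConv (MonoidAlgebra.single m 1) * (Φ w).ofConv (MonoidAlgebra.single m 1) := by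
    intro v w m
    rw [hΦmul]
    simp only [AlgHom.convMul_def, AlgHom.comp_apply, Bialgebra.comulAlgHom_apply]
    erw [MonoidAlgebra.comul_single]
    simp
  let fs : DualNumber B →ₐ[R] B := (TrivSqZeroExt.fstHom B B B).restrictScalars R
  let ζ : B0 ⟶ T := (Spec.map (CommRingCat.ofHom fs.toRingHom)).asOver _
  have hzero : ∀ v : LieS.dpt B f ⟶ Red.diag R M, LieS.zeroSec B f ≫ v =
      Spec.mapMulEquiv (WithConv.toConv (fs.comp (Φ v).ofConv)) := by
    intro v
    have h1 : J.inv ≫ v = Spec.mapMulEquiv (Φ v) := (Spec.mapMulEquiv.apply_symm_apply _).symm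
    have h2 : (Spec.mapMulEquiv (WithConv.toConv (fs.comp (Φ v).ofConv))) =
        ζ ≫ Spec.mapMulEquiv (Φ v) := by
      apply Over.OverMorphism.ext
      change Spec.map _ = Spec.map _ ≫ Spec.map _
      rw [← Spec.map_comp]
      rfl
    rw [h2, ← h1, ← Category.assoc]
    congr 1
  have hone : ∀ φ : A →ₐ[R] B, (Spec.mapMulEquiv (WithConv.toConv φ) : B0 ⟶ Red.diag R M) = 1 ↔
      ∀ m : Multiplicative M, φ (MonoidAlgebra.single m 1) = 1 := by
    intro φ
    rw [← map_one (Spec.mapMulEquiv : WithConv (A →ₐ[R] B) ≃* (B0 ⟶ Red.diag R M)),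
      EmbeddingLike.apply_eq_iff_eq]
    constructor
    · intro h m
      rw [show φ = (1 : WithConv (A →ₐ[R] B)).ofConv from congrArg WithConv.ofConv h]
      simp only [AlgHom.convOne_def, AlgHom.comp_apply, Bialgebra.counitAlgHom_apply]
      erw [MonoidAlgebra.counit_single]
      simp
    · intro h
      apply WithConv.ofConv_injective
      refine MonoidAlgebra.algHom_ext (fun m => ?_) (Subsingleton.elim _ _)
      change φ (MonoidAlgebra.single m 1) = _
      rw [h]
      simp only [AlgHom.convOne_def, AlgHom.comp_apply, Bialgebra.counitAlgHom_apply]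
      erw [MonoidAlgebra.counit_single]
      simp
  have hmem : ∀ v : LieS.dpt B f ⟶ Red.diag R M, v ∈ LieS.LieR (Red.diag R M) B ↔
      ∀ m : Multiplicative M, ((Φ v).ofConv (MonoidAlgebra.single m 1)).fst = 1 := by
    intro v
    rw [LieS.mem_Lie_iff, hzero]
    exact hone _
  let mk : (M →+ B) → (A →ₐ[R] DualNumber B) := fun h => MonoidAlgebra.lift R (DualNumber B) (Multiplicative M)
    { toFun := fun m => TrivSqZeroExt.inl 1 + TrivSqZeroExt.inr (h m.toAdd)
      map_one' := by ext <;> simp
      map_mul' := fun x y => by ext <;> simp [add_comm] }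
  have hmk : ∀ h m, mk h (MonoidAlgebra.single m 1) =
      TrivSqZeroExt.inl 1 + TrivSqZeroExt.inr (h m.toAdd) := fun h m => by
    simp only [mk]
    rw [MonoidAlgebra.lift_single, one_smul]
    rfl
  let ev : LieS.LieR (Red.diag R M) B → M → B := fun v m =>
    TrivSqZeroExt.snd ((Φ v.1).ofConv (MonoidAlgebra.single (Multiplicative.ofAdd m) 1))
  have hev : ∀ v, ∀ m m', ev v (m + m') = ev v m + ev v m' := by
    intro v m m'
    change TrivSqZeroExt.snd ((Φ v.1).ofConv (MonoidAlgebra.single (Multiplicative.ofAdd m * Multiplicative.ofAdd m') 1)) = _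
    rw [← _root_.one_mul (1 : R), ← MonoidAlgebra.single_mul_single, map_mul, DualNumber.snd_mul,
      (hmem v.1).1 v.2, (hmem v.1).1 v.2]
    simp only [ev]
    ring
  let toH : LieS.LieR (Red.diag R M) B → (M →+ B) := fun v => AddMonoidHom.mk' (ev v) (hev v)
  have hinv : ∀ h : M →+ B, (Φ (J.hom ≫ Spec.mapMulEquiv (WithConv.toConv (mk h)))).ofConv = mk h := by
    intro h
    change (Spec.mapMulEquiv.symm (J.inv ≫ J.hom ≫ _)).ofConv = _
    rw [Iso.inv_hom_id_assoc, MulEquiv.symm_apply_apply]
  let ofH : (M →+ B) → LieS.LieR (Red.diag R M) B := fun h =>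
    ⟨J.hom ≫ Spec.mapMulEquiv (WithConv.toConv (mk h)), (hmem _).2 fun m => by
      rw [hinv, hmk]
      simp⟩
  let e : LieS.LieR (Red.diag R M) B ≃* Multiplicative (M →+ B) :=
    { toFun := fun v => Multiplicative.ofAdd (toH v)
      invFun := fun h => ofH (Multiplicative.toAdd h)
      left_inv := fun v => by
        apply Subtype.ext
        change J.hom ≫ Spec.mapMulEquiv (WithConv.toConv (mk (toH v))) = v.1
        have h1 : mk (toH v) = (Φ v.1).ofConv := by
          refine MonoidAlgebra.algHom_ext (fun m => ?_) (Subsingleton.elim _ _)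
          rw [hmk]
          refine TrivSqZeroExt.ext ?_ ?_
          · rw [(hmem v.1).1 v.2 m]; simp
          · simp [toH, ev]; rfl
        rw [h1]
        change J.hom ≫ Spec.mapMulEquiv (Φ v.1) = v.1
        simp [Φ]
      right_inv := fun h => by
        apply Multiplicative.toAdd.injective
        refine AddMonoidHom.ext fun m => ?_
        change TrivSqZeroExt.snd ((Φ (J.hom ≫ _)).ofConv _) = _
        rw [hinv, hmk]
        simp
      map_mul' := fun v w => by
        apply Multiplicative.toAdd.injective
        refine AddMonoidHom.ext fun m => ?_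
        change TrivSqZeroExt.snd ((Φ (v.1 * w.1)).ofConv (MonoidAlgebra.single (Multiplicative.ofAdd m) 1)) = _
        rw [hΦval, DualNumber.snd_mul, (hmem v.1).1 v.2, (hmem w.1).1 w.2]
        simp [toH, ev, add_comm] }
  refine ⟨e, fun v m => rfl, fun b v => ?_⟩
  apply Multiplicative.toAdd.injective
  refine AddMonoidHom.ext fun m => ?_
  let sc : DualNumber B →ₐ[R] DualNumber B :=
    { LieS.scaleHom b with
      commutes' := fun r => by
        rw [IsScalarTower.algebraMap_apply R B (DualNumber B)]
        exact RingHom.congr_fun (LieS.scaleHom_comp_algebraMap b) _ }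
  have hsc : Φ (b • v).1 = WithConv.toConv (sc.comp (Φ v.1).ofConv) := by
    apply Spec.mapMulEquiv.injective
    rw [MulEquiv.apply_symm_apply]
    apply Over.OverMorphism.ext
    have h1 : (J.inv ≫ v.1).left = Spec.map (CommRingCat.ofHom (Φ v.1).ofConv.toRingHom) :=
      congrArg (fun q : T ⟶ Red.diag R M => q.left) (Spec.mapMulEquiv.apply_symm_apply (J.inv ≫ v.1)).symm
    change 𝟙 _ ≫ Spec.map (CommRingCat.ofHom (LieS.scaleHom b)) ≫ v.1.left =
      Spec.map (CommRingCat.ofHom ((LieS.scaleHom b).comp (Φ v.1).ofConv.toRingHom))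
    rw [CommRingCat.ofHom_comp, Spec.map_comp, ← h1]
    change 𝟙 _ ≫ _ = _ ≫ 𝟙 _ ≫ v.1.left
    rw [Category.id_comp, Category.id_comp]
  change TrivSqZeroExt.snd ((Φ (b • v).1).ofConv (MonoidAlgebra.single (Multiplicative.ofAdd m) 1)) =
    b • TrivSqZeroExt.snd ((Φ v.1).ofConv (MonoidAlgebra.single (Multiplicative.ofAdd m) 1))
  rw [hsc]
  simp [sc, LieS.scaleHom, LieS.dualHom, TrivSqZeroExt.algebraMap_eq_inl', mul_comm]

end Groth.Agent.S8358
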