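import Groth.Statements.S8359
import Groth.Agent.TrivAct.Apps
-- import your own Groth.Agent.* helpers here

set_option autoImplicit false
set_option backward.isDefEq.respectTransparency false
set_option backward.isDefEq.respectTransparency.types false
universe u
open CategoryTheory MonObj AlgebraicGeometry
open Red

namespace Groth.Agent.S8359

/-- Over an affine base S = Spec R with S₀ = Spec (R/I) for a nilpotent ideal I: for a commutative group
M, the diagonalisable group D(M) = Spec R[M] over S, a group scheme X locally of finite presentation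
over S and a homomorphism f from D(M) to X, if the base change of f to S₀ is the unit homomorphism
then f is the unit homomorphism. (The published statement is over an arbitrary base scheme with S₀
defined by a nilpotent quasi-coherent ideal; this row is its case of an affine base.) -/
theorem result (R : Type u) [CommRing R] (I : Ideal R) (hI : IsNilpotent I)
    (M : Type) [AddCommGroup M] (X : Over (Spec (CommRingCat.of R))) [GrpObj X]
    [LocallyOfFinitePresentation X.hom] (f : Red.diag R M ⟶ X) [IsMonHom f]
    (h : (Over.pullback (Spec.map (CommRingCat.ofHom (Ideal.Quotient.mk I)))).map f = 1) :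
    f = 1 := by
  let i₀ := Spec.map (CommRingCat.ofHom (Ideal.Quotient.mk I))
  haveI : IsClosedImmersion i₀ := IsClosedImmersion.spec_of_surjective _ Ideal.Quotient.mk_surjective
  refine TrivAct.hom_trivial (TrivAct.hasSplitCovers_diag R M) i₀ (fun x => ?_) f
    (TrivAct.comp_eq_one_of_map_eq_one i₀ f h)
  refine ⟨⟨⊤, isAffineOpen_top _⟩, trivial, ?_⟩
  obtain ⟨n, hn⟩ := hI
  refine ⟨n, le_bot_iff.1 ?_⟩
  rw [Scheme.Hom.ker_apply]
  refine (Ideal.pow_right_mono (J := I.map (Scheme.ΓSpecIso (CommRingCat.of R)).inv.hom) (fun a ha => ?_) n).trans ?_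
  · obtain ⟨r, rfl⟩ := (ConcreteCategory.bijective_of_isIso (Scheme.ΓSpecIso (CommRingCat.of R)).inv).2 a
    refine Ideal.mem_map_of_mem _ ?_
    have e := congrArg (fun m => m.hom r) (Scheme.ΓSpecIso_inv_naturality (CommRingCat.ofHom (Ideal.Quotient.mk I)))
    simp only [CommRingCat.hom_comp, RingHom.comp_apply, CommRingCat.hom_ofHom] at e
    rw [RingHom.mem_ker] at ha
    erw [ha] at e
    refine Ideal.Quotient.eq_zero_iff_mem.1
      ((ConcreteCategory.bijective_of_isIso (Scheme.ΓSpecIso (CommRingCat.of (R ⧸ I))).inv).1 ?_)
    rw [map_zero]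
    exact e
  · rw [← Ideal.map_pow, hn, Ideal.zero_eq_bot, Ideal.map_bot]

end Groth.Agent.S8359
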