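import Groth.Statements.S8360
import Groth.Agent.AvgMap.Apps

set_option autoImplicit false
set_option backward.isDefEq.respectTransparency false
set_option backward.isDefEq.respectTransparency.types false
universe u
open CategoryTheory MonObj AlgebraicGeometry
open Red

namespace Groth.Agent.S8360

/-- Over the affine base S = Spec R with S₀ = Spec (R/I) for a nilpotent ideal I, for a commutative
group M, the diagonalisable group D(M) = Spec R[M] over S and a group scheme X smooth over S, every
homomorphism of S₀-group schemes from D(M) ×_S S₀ to X ×_S S₀ is the base change of a homomorphism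
of S-group schemes from D(M) to X. -/
theorem result (R : Type u) [CommRing R] (I : Ideal R)
    (hI : IsNilpotent I) (M : Type) [AddCommGroup M] (X : Over (Spec (CommRingCat.of R))) [GrpObj X]
    [Smooth X.hom]
    (f₀ : Red.bc (Spec.map (CommRingCat.ofHom (Ideal.Quotient.mk I))) (Red.diag R M) ⟶ Red.bc (Spec.map (CommRingCat.ofHom (Ideal.Quotient.mk I))) X) [IsMonHom f₀] :
    ∃ f : Red.diag R M ⟶ X, IsMonHom f ∧ (Over.pullback (Spec.map (CommRingCat.ofHom (Ideal.Quotient.mk I)))).map f = f₀ := by
  haveI : IsAffineHom (Red.diag R M).hom := by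
    haveI : IsAffine (Red.diag R M).left := inferInstanceAs (IsAffine (Spec _))
    infer_instance
  obtain ⟨u₀, hu, hf⟩ := AvgMap.exists_ptHom_of_bc (R := CommRingCat.of R) (H := Red.diag R M) (K := X) I f₀
  obtain ⟨f, hf', hfu⟩ := AvgMap.exists_hom_lift (R := CommRingCat.of R) (H := Red.diag R M) (K := X) (TrivAct.hasSplitCovers_diag R M) I hI u₀ hu
  exact ⟨f, hf', hf f hfu⟩

end Groth.Agent.S8360
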