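import Groth.Statements.S8361
import Groth.Agent.LieSLib.Epi
-- import your own Groth.Agent.* helpers here

set_option autoImplicit false
set_option backward.isDefEq.respectTransparency false
universe u
open CategoryTheory MonObj AlgebraicGeometry
open LieS

namespace Groth.Agent.S8361

/-- Uniqueness of the bracket: for a group scheme G over a scheme S and an affine S-scheme T = Spec B:
an element of Lie(G/S)(T) is determined by its pull-back along the coordinate-multiplying map from
the iterated dual numbers over T to the dual numbers over T; in particular the bracket of x and y,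
the element whose pull-back is the commutator of x read in the second dual coordinate with y read in
the first, is unique when it exists. -/
theorem result (S : Scheme.{u}) (G : Over S) [GrpObj G] (B : Type u) [CommRing B]
    (f : Spec (CommRingCat.of B) ⟶ S) (x y z z' : LieS.Lie G B f)
    (h : LieS.IsBracket G B f x y z) (h' : LieS.IsBracket G B f x y z') : z = z' := by
  have e : mulMap B f ≫ z.1 = mulMap B f ≫ z'.1 := h.trans h'.symm
  let φ : CommRingCat.of (DualNumber B) ⟶ CommRingCat.of (D2 B) := CommRingCat.ofHom (mulHom B)
  have hval : ∀ a : DualNumber B, mulHom B a = toD2 B a.fst + toD2 B a.snd * (algebraMap (DualNumber B) (D2 B) DualNumber.eps * DualNumber.eps) := fun a => by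
    simp [mulHom, dualHom]
  have hinj : Function.Injective φ.hom := by
    refine (injective_iff_map_eq_zero φ.hom).mpr fun a ha => ?_
    have ha' : mulHom B a = 0 := ha
    rw [hval] at ha'
    refine TrivSqZeroExt.ext ?_ ?_
    · simpa [TrivSqZeroExt.algebraMap_eq_inl', toD2] using congrArg (fun t : D2 B => t.fst.fst) ha'
    · simpa [TrivSqZeroExt.algebraMap_eq_inl', toD2] using congrArg (fun t : D2 B => t.snd.snd) ha'
  have hsurj : Function.Surjective (PrimeSpectrum.comap φ.hom) := fun q => by
    let r : D2 B →+* DualNumber B :=
      (TrivSqZeroExt.inlHom B B).comp ((TrivSqZeroExt.fstHom B B B).toRingHom.comp (TrivSqZeroExt.fstHom (DualNumber B) (DualNumber B) (DualNumber B)).toRingHom)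
    refine ⟨PrimeSpectrum.comap r q, PrimeSpectrum.ext (Ideal.ext fun a => ?_)⟩
    show r (mulHom B a) ∈ q.asIdeal ↔ a ∈ q.asIdeal
    have hr : r (mulHom B a) = TrivSqZeroExt.inl a.fst := by
      rw [hval]; simp [r, TrivSqZeroExt.algebraMap_eq_inl', toD2]
    have hn : a - TrivSqZeroExt.inl a.fst ∈ q.asIdeal := by
      refine q.isPrime.mem_of_pow_mem 2 ?_
      rw [show (a - TrivSqZeroExt.inl a.fst) ^ 2 = 0 from TrivSqZeroExt.ext (by simp [pow_two]) (by simp [pow_two])]
      exact q.asIdeal.zero_mem
    rw [hr]
    exact ⟨fun hi => by simpa using q.asIdeal.add_mem hn hi, fun hx => by simpa using q.asIdeal.sub_mem hx hn⟩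
  haveI := LieSLib.epi_specMap φ hinj hsurj
  refine Subtype.ext (Over.OverMorphism.ext ((cancel_epi (Spec.map φ)).1 ?_))
  exact congrArg CommaMorphism.left e

end Groth.Agent.S8361
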