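import Groth.Statements.S8362
import Mathlib.AlgebraicGeometry.Morphisms.UnderlyingMap
import Mathlib.AlgebraicGeometry.AffineScheme
import Mathlib.AlgebraicGeometry.PullbackCarrier
-- import your own Groth.Agent.* helpers here

set_option autoImplicit false
universe u
open CategoryTheory AlgebraicGeometry
open SGA3

namespace Groth.Agent.S8362

open CategoryTheory.Limits

/-- An algebra endomorphism which is the identity modulo an ideal of square zero is bijective. -/
theorem bijective_of_sub_mem {R A : Type*} [CommRing R] [CommRing A] [Algebra R A] (J : Ideal R)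
    (hJ : J * J = ⊥) (f : A →ₐ[R] A) (h : ∀ a, f a - a ∈ J.map (algebraMap R A)) : Function.Bijective f := by
  have hJA : J.map (algebraMap R A) * J.map (algebraMap R A) = ⊥ := by
    rw [← Ideal.map_mul, hJ, Ideal.map_bot]
  have hfix : ∀ x ∈ J.map (algebraMap R A), f x = x := by
    intro x hx
    induction hx using Submodule.span_induction with
    | mem y hy => obtain ⟨r, -, rfl⟩ := hy; exact f.commutes r
    | zero => exact map_zero _
    | add y z _ _ hy hz => rw [map_add, hy, hz]
    | smul a y hy ih =>
      rw [smul_eq_mul, map_mul, ih, ← sub_eq_zero, ← sub_mul, ← Ideal.mem_bot, ← hJA]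
      exact Ideal.mul_mem_mul (h a) hy
  refine ⟨(injective_iff_map_eq_zero _).2 fun a ha => ?_, fun a => ⟨a - (f a - a), ?_⟩⟩
  · have := h a
    rw [ha, zero_sub, neg_mem_iff] at this
    rw [← hfix a this, ha]
  · rw [map_sub, hfix _ (h a), sub_sub_cancel]

/-- Over an affine base S = Spec R with S₀ = Spec (R/J) for an ideal J of square zero: for an arbitrary
S-scheme X, every S-endomorphism of X inducing the identity on X ×_S S₀ is an automorphism. (The
published statement is over an arbitrary base scheme with a quasi-coherent ideal of square zero;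
this row is its case of an affine base, to which it reduces since being an isomorphism is local on
the base.) -/
theorem result (R : Type u) [CommRing R] (J : Ideal R) (hJ : J * J = ⊥)
    (X : Over (Spec (CommRingCat.of R))) (u : X ⟶ X)
    (h : (Over.pullback (Spec.map (CommRingCat.ofHom (Ideal.Quotient.mk J)))).map u = 𝟙 _) :
    IsIso u := by
  let ι := Spec.map (CommRingCat.ofHom (Ideal.Quotient.mk J))
  let fstX := pullback.fst X.hom ι
  have hfix : fstX ≫ u.left = fstX := by
    have h1 := congrArg (fun t => t.left ≫ fstX) h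
    simp [fstX, ι] at h1 ⊢
    exact (pullback.lift_fst _ _ _).symm.trans h1
  haveI : Surjective ι := ⟨by
    intro p
    have hp : p ∈ Set.range (PrimeSpectrum.comap (Ideal.Quotient.mk J)) := by
      rw [range_comap_of_surjective _ _ Ideal.Quotient.mk_surjective, Ideal.mk_ker]
      intro x hx
      exact p.isPrime.mem_of_pow_mem 2 (by
        rw [pow_two, show x * x = 0 from (Submodule.mem_bot R).1 (hJ ▸ Ideal.mul_mem_mul hx hx)]
        exact zero_mem _)
    exact hp⟩
  haveI : Surjective fstX := MorphismProperty.pullback_fst (P := @Surjective) _ _ ‹_›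
  have hbase : ∀ x : X.left, u.left x = x := by
    intro x
    obtain ⟨y, rfl⟩ := fstX.surjective x
    rw [← Scheme.Hom.comp_apply, hfix]
  haveI : IsIso u.left := by
    rw [isIso_iff_isIso_stalkMap]
    refine ⟨?_, fun x => ?_⟩
    · rw [show u.left.base = 𝟙 _ from TopCat.hom_ext (ContinuousMap.ext hbase)]
      infer_instance
    · obtain ⟨U, hU, hxU, -⟩ := exists_isAffineOpen_mem_and_subset (X := X.left) (U := ⊤) (x := x) trivial
      let g : Spec Γ(X.left, U) ⟶ X.left := hU.fromSpec
      have hrange : Set.range (g ≫ u.left) ⊆ Set.range g := by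
        rintro _ ⟨a, rfl⟩
        exact ⟨a, by rw [Scheme.Hom.comp_apply, hbase]⟩
      let v := IsOpenImmersion.lift g (g ≫ u.left) hrange
      have hv : v ≫ g = g ≫ u.left := IsOpenImmersion.lift_fac _ _ hrange
      let φ : Γ(X.left, U) ⟶ Γ(X.left, U) := Spec.preimage v
      letI : Algebra R Γ(X.left, U) := (Spec.preimage (g ≫ X.hom)).hom.toAlgebra
      have hg : Spec.map (CommRingCat.ofHom (algebraMap R Γ(X.left, U))) = g ≫ X.hom :=
        Spec.map_preimage _
      have hφR : ∀ r, φ.hom (algebraMap R Γ(X.left, U) r) = algebraMap R Γ(X.left, U) r := by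
        intro r
        have : CommRingCat.ofHom (algebraMap R Γ(X.left, U)) ≫ φ = CommRingCat.ofHom (algebraMap R Γ(X.left, U)) := by
          apply Spec.map_injective
          rw [Spec.map_comp, Spec.map_preimage, hg, ← Category.assoc, hv, Category.assoc, Over.w u]
        exact RingHom.congr_fun (congrArg CommRingCat.Hom.hom this) r
      let I' : Ideal Γ(X.left, U) := J.map (algebraMap R Γ(X.left, U))
      let q : Γ(X.left, U) ⟶ CommRingCat.of (Γ(X.left, U) ⧸ I') := CommRingCat.ofHom (Ideal.Quotient.mk I')
      let s : CommRingCat.of (R ⧸ J) ⟶ CommRingCat.of (Γ(X.left, U) ⧸ I') :=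
        CommRingCat.ofHom (Ideal.quotientMap I' (algebraMap R Γ(X.left, U)) Ideal.le_comap_map)
      have hs : CommRingCat.ofHom (algebraMap R Γ(X.left, U)) ≫ q = CommRingCat.ofHom (Ideal.Quotient.mk J) ≫ s := by
        ext r
        rfl
      let l : Spec (CommRingCat.of (Γ(X.left, U) ⧸ I')) ⟶ pullback X.hom ι :=
        pullback.lift (Spec.map q ≫ g) (Spec.map s) (by
          rw [Category.assoc, ← hg, ← Spec.map_comp, hs, Spec.map_comp])
      have hl : l ≫ fstX = Spec.map q ≫ g := pullback.lift_fst _ _ _
      have hqv : φ ≫ q = q := by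
        apply Spec.map_injective
        rw [← cancel_mono g, Spec.map_comp, Spec.map_preimage, Category.assoc, hv, ← Category.assoc, ← hl,
          Category.assoc, hfix]
      have hb : Function.Bijective φ.hom :=
        bijective_of_sub_mem J hJ { φ.hom with commutes' := hφR } fun a =>
          Ideal.Quotient.eq.1 (RingHom.congr_fun (congrArg CommRingCat.Hom.hom hqv) a)
      haveI : IsIso φ := (ConcreteCategory.isIso_iff_bijective φ).2 hb
      haveI : IsIso v := by rw [← Spec.map_preimage v]; infer_instance
      obtain ⟨a, ha⟩ : x ∈ Set.range g := by rw [hU.range_fromSpec]; exact hxU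
      subst ha
      haveI h3 : IsIso ((g ≫ u.left).stalkMap a) := by
        rw [Scheme.Hom.stalkMap_congr_hom _ _ hv.symm a]
        infer_instance
      rw [Scheme.Hom.stalkMap_comp] at h3
      exact @IsIso.of_isIso_comp_right _ _ _ _ _ _ (g.stalkMap a) _ h3
  haveI : IsIso ((Over.forget _).map u) := ‹IsIso u.left›
  exact isIso_of_reflects_iso u (Over.forget _)

end Groth.Agent.S8362
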