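import Groth.Statements.S8363
import Mathlib
-- import your own Groth.Agent.* helpers here

set_option autoImplicit false
universe u
open CategoryTheory MonObj AlgebraicGeometry
open SGA3

namespace Groth.Agent.S8363

open CategoryTheory.Limits MonoidalCategory CartesianMonoidalCategory

/-- Morphisms agree if they agree near every point. -/
theorem eq_of_locally_eq {Y X : Scheme.{u}} {f f' : Y ⟶ X}
    (h : ∀ y : Y, ∃ O : Y.Opens, y ∈ O ∧ O.ι ≫ f = O.ι ≫ f') : f = f' := by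
  choose O hy ho using h
  exact (Y.openCoverOfIsOpenCover O (top_le_iff.mp fun y _ =>
    TopologicalSpace.Opens.mem_iSup.mpr ⟨y, hy y⟩)).hom_ext _ _ ho

theorem ι_eq_of_fromSpec_eq {Y X : Scheme.{u}} {O : Y.Opens} (hO : IsAffineOpen O) {f f' : Y ⟶ X}
    (h : hO.fromSpec ≫ f = hO.fromSpec ≫ f') : O.ι ≫ f = O.ι ≫ f' := by
  rw [← hO.isoSpec_hom_fromSpec, Category.assoc, Category.assoc, h]

theorem exists_lift_affine {X : Scheme.{u}} {V : X.Opens} (hV : IsAffineOpen V) {B : CommRingCat.{u}}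
    (m : Spec B ⟶ X) (h : Set.range m ⊆ (V : Set X)) :
    ∃ p : Γ(X, V) ⟶ B, Spec.map p ≫ hV.fromSpec = m :=
  ⟨Spec.preimage (IsOpenImmersion.lift hV.fromSpec m (by rw [hV.range_fromSpec]; exact h)), by
    rw [Spec.map_preimage, IsOpenImmersion.lift_fac]⟩

theorem surjective_spec_quotient {B : CommRingCat.{u}} (N : Ideal B) (hN : ∀ x ∈ N, ∀ y ∈ N, x * y = 0) :
    Function.Surjective (Spec.map (CommRingCat.ofHom (Ideal.Quotient.mk N))) := fun z => by
  have hz : N ≤ z.asIdeal := fun x hx =>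
    (z.isPrime.mem_or_mem (show x * x ∈ z.asIdeal by rw [hN x hx x hx]; exact z.asIdeal.zero_mem)).elim id id
  have : z ∈ Set.range (PrimeSpectrum.comap (Ideal.Quotient.mk N)) := by
    rw [range_comap_of_surjective _ _ Ideal.Quotient.mk_surjective, Ideal.mk_ker]
    exact hz
  exact this

theorem sub_mem_of_comp_eq {X : Scheme.{u}} {V : X.Opens} (hV : IsAffineOpen V) {B : CommRingCat.{u}} (N : Ideal B)
    (p p' : Γ(X, V) ⟶ B)
    (h : Spec.map (CommRingCat.ofHom (Ideal.Quotient.mk N)) ≫ Spec.map p ≫ hV.fromSpec =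
      Spec.map (CommRingCat.ofHom (Ideal.Quotient.mk N)) ≫ Spec.map p' ≫ hV.fromSpec) :
    ∀ a, p.hom a - p'.hom a ∈ N := fun a => by
  rw [← Category.assoc, ← Category.assoc, cancel_mono, ← Spec.map_comp, ← Spec.map_comp] at h
  exact Ideal.Quotient.eq.mp (congrArg (fun m => m.hom a) (Spec.map_injective h))

/-- The sum of two deformations of a homomorphism modulo a square-zero ideal. -/
def sigmaHom {A B : Type u} [CommRing A] [CommRing B] (N : Ideal B) (hN : ∀ x ∈ N, ∀ y ∈ N, x * y = 0)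
    (p p' p₀ : A →+* B) (h : ∀ a, p a - p₀ a ∈ N) (h' : ∀ a, p' a - p₀ a ∈ N) : A →+* B where
  toFun a := p a + p' a - p₀ a
  map_one' := by simp
  map_zero' := by simp
  map_add' a b := by simp only [map_add]; ring
  map_mul' a b := by
    simp only [map_mul]
    linear_combination -(hN _ (h a) _ (h' b)) - hN _ (h' a) _ (h b)

/-- The kernel of the reduction map is commutative: over an affine base S = Spec R with S₀ = Spec (R/J)
for an ideal J of square zero: for a group scheme X over S and an arbitrary S-scheme Y, the kernel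
of the reduction map from X(Y) to X(Y ×_S S₀) = X₀(Y₀) is a commutative group: two Y-valued points
of X whose base changes to S₀ are the unit commute. (The published statement identifies this kernel,
as a group functor, with the commutative functor of homomorphisms from the pulled-back invariant
differentials of X₀ to J·O_Y, over an arbitrary base with a quasi-coherent ideal of square zero;
this row states only the resulting commutativity, over an affine base.) -/
theorem result (R : Type u) [CommRing R] (J : Ideal R) (hJ : J * J = ⊥)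
    (X : Over (Spec (CommRingCat.of R))) [GrpObj X] (Y : Over (Spec (CommRingCat.of R))) (g g' : Y ⟶ X)
    (hg : (Over.pullback (Spec.map (CommRingCat.ofHom (Ideal.Quotient.mk J)))).map g = 1)
    (hg' : (Over.pullback (Spec.map (CommRingCat.ofHom (Ideal.Quotient.mk J)))).map g' = 1) :
    g * g' = g' * g := by
  let q : Spec (CommRingCat.of (R ⧸ J)) ⟶ Spec (CommRingCat.of R) :=
    Spec.map (CommRingCat.ofHom (Ideal.Quotient.mk J))
  have h1 : ∀ {x : Y ⟶ X}, (Over.pullback q).map x = 1 →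
      pullback.fst Y.hom q ≫ x.left = pullback.fst Y.hom q ≫ (1 : Y ⟶ X).left := fun {x} hx => by
    have e : (Over.pullback q).map x = (Over.pullback q).map (1 : Y ⟶ X) := hx.trans (Functor.map_one _).symm
    have e' : ((Over.pullback q).map x).left ≫ pullback.fst X.hom q =
        ((Over.pullback q).map (1 : Y ⟶ X)).left ≫ pullback.fst X.hom q := by rw [e]
    erw [pullback.lift_fst, pullback.lift_fst] at e'
    exact e'
  apply Over.OverMorphism.ext
  let P : Y ⟶ X ⊗ X := lift g 1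
  let P' : Y ⟶ X ⊗ X := lift 1 g'
  let P₀ : Y ⟶ X ⊗ X := lift 1 1
  let Q : Y ⟶ X ⊗ X := lift g g'
  let sw : X ⊗ X ⟶ X := lift (snd X X) (fst X X) ≫ μ[X]
  have hsw : ∀ a b : Y ⟶ X, lift a b ≫ sw = b * a := fun a b => by
    show lift a b ≫ lift (snd X X) (fst X X) ≫ μ[X] = b * a
    rw [comp_lift_assoc, lift_fst, lift_snd]
    rfl
  have hμ : ∀ a b : Y ⟶ X, lift a b ≫ μ[X] = a * b := fun a b => rfl
  refine eq_of_locally_eq fun y => ?_
  -- affine neighbourhoods
  obtain ⟨_, ⟨U, hU, rfl⟩, hyU, -⟩ :=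
    X.left.isBasis_affineOpens.exists_subset_of_mem_open (Set.mem_univ ((1 : Y ⟶ X).left y)) isOpen_univ
  let V₀ : (X ⊗ X).left.Opens := μ[X].left ⁻¹ᵁ U ⊓ sw.left ⁻¹ᵁ U ⊓ (fst X X).left ⁻¹ᵁ U ⊓ (snd X X).left ⁻¹ᵁ U
  have hP₀ : P₀.left y ∈ V₀ := by
    refine ⟨⟨⟨?_, ?_⟩, ?_⟩, ?_⟩
    · show μ[X].left (P₀.left y) ∈ U
      rw [← Scheme.Hom.comp_apply, ← Over.comp_left, hμ, _root_.one_mul]; exact hyU
    · show sw.left (P₀.left y) ∈ U
      rw [← Scheme.Hom.comp_apply, ← Over.comp_left, hsw, _root_.one_mul]; exact hyU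
    · show (fst X X).left (P₀.left y) ∈ U
      rw [← Scheme.Hom.comp_apply, ← Over.comp_left, lift_fst]; exact hyU
    · show (snd X X).left (P₀.left y) ∈ U
      rw [← Scheme.Hom.comp_apply, ← Over.comp_left, lift_snd]; exact hyU
  obtain ⟨_, ⟨V, hV, rfl⟩, hyV, hVV₀⟩ :=
    (X ⊗ X).left.isBasis_affineOpens.exists_subset_of_mem_open hP₀ V₀.2
  obtain ⟨_, ⟨O, hO, rfl⟩, hyO, hOV⟩ :=
    Y.left.isBasis_affineOpens.exists_subset_of_mem_open hyV (P₀.left ⁻¹ᵁ V).2
  refine ⟨O, hyO, ?_⟩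
  haveI : IsAffine (O : Scheme.{u}) := hO
  -- the reduction of the affine open
  let B := Γ(Y.left, O)
  let b : Spec B ⟶ Y.left := hO.fromSpec
  let φ : CommRingCat.of R ⟶ B := Spec.preimage (b ≫ Y.hom)
  let N : Ideal B := J.map φ.hom
  have hN : ∀ x ∈ N, ∀ y ∈ N, x * y = 0 := fun x hx y hy => by
    have h2 : N * N = ⊥ := by rw [← Ideal.map_mul, hJ, Ideal.map_bot]
    exact Ideal.mem_bot.mp (h2 ▸ Ideal.mul_mem_mul hx hy)
  let c : Spec (CommRingCat.of (B ⧸ N)) ⟶ Spec B := Spec.map (CommRingCat.ofHom (Ideal.Quotient.mk N))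
  let d : Spec (CommRingCat.of (B ⧸ N)) ⟶ Spec (CommRingCat.of (R ⧸ J)) :=
    Spec.map (CommRingCat.ofHom (Ideal.quotientMap N φ.hom Ideal.le_comap_map))
  have hcd : (c ≫ b) ≫ Y.hom = d ≫ q := by
    rw [Category.assoc, ← Spec.map_preimage (b ≫ Y.hom), ← Spec.map_comp, ← Spec.map_comp]
    congr 1
  have hc : ∀ {x : Y ⟶ X}, (Over.pullback q).map x = 1 → c ≫ b ≫ x.left = c ≫ b ≫ (1 : Y ⟶ X).left :=
    fun {x} hx => by
      have hl : ∀ m : Y.left ⟶ X.left, c ≫ b ≫ m = pullback.lift (c ≫ b) d hcd ≫ pullback.fst Y.hom q ≫ m :=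
        fun m => by rw [← Category.assoc (pullback.lift _ _ _), pullback.lift_fst, Category.assoc]
      rw [hl, hl, h1 hx]
  have hcp : ∀ {x y x' y' : Y ⟶ X}, c ≫ b ≫ x.left = c ≫ b ≫ x'.left → c ≫ b ≫ y.left = c ≫ b ≫ y'.left →
      c ≫ b ≫ (lift x y).left = c ≫ b ≫ (lift x' y').left := fun {x y x' y'} e₁ e₂ => by
    apply pullback.hom_ext
    · show _ ≫ (fst X X).left = _ ≫ (fst X X).left
      rw [Category.assoc, Category.assoc, Category.assoc, Category.assoc, ← Over.comp_left, ← Over.comp_left,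
        lift_fst, lift_fst]
      exact e₁
    · show _ ≫ (snd X X).left = _ ≫ (snd X X).left
      rw [Category.assoc, Category.assoc, Category.assoc, Category.assoc, ← Over.comp_left, ← Over.comp_left,
        lift_snd, lift_snd]
      exact e₂
  have hcP : c ≫ b ≫ P.left = c ≫ b ≫ P₀.left := hcp (hc hg) rfl
  have hcP' : c ≫ b ≫ P'.left = c ≫ b ≫ P₀.left := hcp rfl (hc hg')
  have hcQ : c ≫ b ≫ Q.left = c ≫ b ≫ P₀.left := hcp (hc hg) (hc hg')
  have hb₀ : Set.range (b ≫ P₀.left) ⊆ (V : Set (X ⊗ X).left) := by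
    rintro _ ⟨z, rfl⟩
    have hz : b z ∈ (O : Set Y.left) := hO.range_fromSpec ▸ ⟨z, rfl⟩
    exact hOV hz
  have hrange : ∀ {m : Spec B ⟶ (X ⊗ X).left}, c ≫ m = c ≫ b ≫ P₀.left → Set.range m ⊆ (V : Set (X ⊗ X).left) :=
    fun {m} e => by
      rintro _ ⟨z, rfl⟩
      obtain ⟨w, rfl⟩ := surjective_spec_quotient N hN z
      rw [← Scheme.Hom.comp_apply, e, Scheme.Hom.comp_apply]
      exact hb₀ ⟨_, rfl⟩
  obtain ⟨p₀, hp₀⟩ := exists_lift_affine hV (b ≫ P₀.left) hb₀
  obtain ⟨p, hp⟩ := exists_lift_affine hV (b ≫ P.left) (hrange hcP)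
  obtain ⟨p', hp'⟩ := exists_lift_affine hV (b ≫ P'.left) (hrange hcP')
  have hm : ∀ a, p.hom a - p₀.hom a ∈ N := sub_mem_of_comp_eq hV N p p₀ (by rw [hp, hp₀]; exact hcP)
  have hm' : ∀ a, p'.hom a - p₀.hom a ∈ N := sub_mem_of_comp_eq hV N p' p₀ (by rw [hp', hp₀]; exact hcP')
  let σ : Γ((X ⊗ X).left, V) ⟶ B := CommRingCat.ofHom (sigmaHom N hN p.hom p'.hom p₀.hom hm hm')
  have hVU : ∀ {z}, z ∈ V → z ∈ V₀ := fun hz => hVV₀ hz
  have eμ : V ≤ μ[X].left ⁻¹ᵁ U := fun z hz => (hVU hz).1.1.1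
  have esw : V ≤ sw.left ⁻¹ᵁ U := fun z hz => (hVU hz).1.1.2
  have efst : V ≤ (fst X X).left ⁻¹ᵁ U := fun z hz => (hVU hz).1.2
  have esnd : V ≤ (snd X X).left ⁻¹ᵁ U := fun z hz => (hVU hz).2
  have hcomp : ∀ (h : X ⊗ X ⟶ X) (e : V ≤ h.left ⁻¹ᵁ U) (ρ : Γ((X ⊗ X).left, V) ⟶ B) (L : Y ⟶ X ⊗ X),
      Spec.map ρ ≫ hV.fromSpec = b ≫ L.left →
      Spec.map (h.left.appLE U V e ≫ ρ) ≫ hU.fromSpec = b ≫ (L ≫ h).left := fun h e ρ L eL => by
    rw [Spec.map_comp, Category.assoc, IsAffineOpen.SpecMap_appLE_fromSpec h.left hU hV e, ← Category.assoc, eL,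
      Category.assoc, Over.comp_left]
  have hinj : ∀ {v w : Γ(X.left, U) ⟶ B}, Spec.map v ≫ hU.fromSpec = Spec.map w ≫ hU.fromSpec → v = w :=
    fun {v w} e => Spec.map_injective ((cancel_mono hU.fromSpec).1 e)
  have hQ : Spec.map σ ≫ hV.fromSpec = b ≫ Q.left := by
    have hf : (fst X X).left.appLE U V efst ≫ σ = (fst X X).left.appLE U V efst ≫ p := by
      have e : (fst X X).left.appLE U V efst ≫ p' = (fst X X).left.appLE U V efst ≫ p₀ := hinj (by
        rw [hcomp _ efst p' P' hp', hcomp _ efst p₀ P₀ hp₀, lift_fst, lift_fst])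
      refine CommRingCat.hom_ext (RingHom.ext fun a => ?_)
      have ea := congrArg (fun m => m.hom a) e
      simp only [CommRingCat.hom_comp, RingHom.comp_apply] at ea
      simp only [σ, CommRingCat.hom_comp, RingHom.comp_apply, CommRingCat.hom_ofHom, sigmaHom, RingHom.coe_mk,
        MonoidHom.coe_mk, OneHom.coe_mk]
      linear_combination ea
    have hs : (snd X X).left.appLE U V esnd ≫ σ = (snd X X).left.appLE U V esnd ≫ p' := by
      have e : (snd X X).left.appLE U V esnd ≫ p = (snd X X).left.appLE U V esnd ≫ p₀ := hinj (by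
        rw [hcomp _ esnd p P hp, hcomp _ esnd p₀ P₀ hp₀, lift_snd, lift_snd])
      refine CommRingCat.hom_ext (RingHom.ext fun a => ?_)
      have ea := congrArg (fun m => m.hom a) e
      simp only [CommRingCat.hom_comp, RingHom.comp_apply] at ea
      simp only [σ, CommRingCat.hom_comp, RingHom.comp_apply, CommRingCat.hom_ofHom, sigmaHom, RingHom.coe_mk,
        MonoidHom.coe_mk, OneHom.coe_mk]
      linear_combination ea
    apply pullback.hom_ext
    · show _ ≫ (fst X X).left = _ ≫ (fst X X).left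
      rw [Category.assoc, ← IsAffineOpen.SpecMap_appLE_fromSpec (fst X X).left hU hV efst, ← Category.assoc,
        ← Spec.map_comp, hf, hcomp _ efst p P hp, Category.assoc, ← Over.comp_left, lift_fst, lift_fst]
    · show _ ≫ (snd X X).left = _ ≫ (snd X X).left
      rw [Category.assoc, ← IsAffineOpen.SpecMap_appLE_fromSpec (snd X X).left hU hV esnd, ← Category.assoc,
        ← Spec.map_comp, hs, hcomp _ esnd p' P' hp', Category.assoc, ← Over.comp_left, lift_snd, lift_snd]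
  have heq : ∀ (ρ : Γ((X ⊗ X).left, V) ⟶ B) (L : Y ⟶ X ⊗ X), Spec.map ρ ≫ hV.fromSpec = b ≫ L.left →
      L ≫ μ[X] = L ≫ sw → μ[X].left.appLE U V eμ ≫ ρ = sw.left.appLE U V esw ≫ ρ := fun ρ L eL e =>
    hinj (by rw [hcomp _ eμ ρ L eL, hcomp _ esw ρ L eL, e])
  have hσ : μ[X].left.appLE U V eμ ≫ σ = sw.left.appLE U V esw ≫ σ := by
    have e₁ := heq p P hp (by rw [hμ, hsw, _root_.mul_one, _root_.one_mul])
    have e₂ := heq p' P' hp' (by rw [hμ, hsw, _root_.mul_one, _root_.one_mul])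
    have e₃ := heq p₀ P₀ hp₀ (by rw [hμ, hsw])
    refine CommRingCat.hom_ext (RingHom.ext fun a => ?_)
    have a₁ := congrArg (fun m => m.hom a) e₁
    have a₂ := congrArg (fun m => m.hom a) e₂
    have a₃ := congrArg (fun m => m.hom a) e₃
    simp only [CommRingCat.hom_comp, RingHom.comp_apply] at a₁ a₂ a₃
    simp only [σ, CommRingCat.hom_comp, RingHom.comp_apply, CommRingCat.hom_ofHom, sigmaHom, RingHom.coe_mk,
      MonoidHom.coe_mk, OneHom.coe_mk]
    linear_combination a₁ + a₂ - a₃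
  have h2 := congrArg (Spec.map · ≫ hU.fromSpec) hσ
  rw [hcomp _ eμ σ Q hQ, hcomp _ esw σ Q hQ, hμ, hsw] at h2
  exact ι_eq_of_fromSpec_eq hO h2

end Groth.Agent.S8363
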