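import Groth.Statements.S8364
import Mathlib
-- import your own Groth.Agent.* helpers here

set_option autoImplicit false
universe u
open SGA3

namespace Groth.Agent.S8364

/-- For a commutative ring R, an ideal J of R of square zero, a smooth R-algebra A and the extended
ideal I = J·A, every R-algebra automorphism of A/I lifts to an R-algebra automorphism of A. (The
published statement concerns the automorphism functor of a smooth affine S-scheme E and affine test
schemes Y; this row is the case Y = S = Spec R, E = Spec A, which gives the general one after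
replacing R by the ring of Y.) -/
theorem result (R A : Type u) [CommRing R] [CommRing A] [Algebra R A]
    [Algebra.Smooth R A] (J : Ideal R) (hJ : J * J = ⊥)
    (φ₀ : (A ⧸ Ideal.map (algebraMap R A) J) ≃ₐ[R] (A ⧸ Ideal.map (algebraMap R A) J)) :
    ∃ φ : A ≃ₐ[R] A,
      (Ideal.Quotient.mkₐ R (Ideal.map (algebraMap R A) J)).comp φ.toAlgHom =
        φ₀.toAlgHom.comp (Ideal.Quotient.mkₐ R (Ideal.map (algebraMap R A) J)) := by
  classical
  let I : Ideal A := Ideal.map (algebraMap R A) J
  have hI : IsNilpotent I := ⟨2, by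
    show I ^ 2 = 0
    rw [sq, ← Ideal.map_mul, hJ, Ideal.map_bot]
    rfl⟩
  obtain ⟨φ, hφ⟩ := Algebra.FormallySmooth.exists_lift I hI (φ₀.toAlgHom.comp (Ideal.Quotient.mkₐ R I))
  obtain ⟨ψ, hψ⟩ := Algebra.FormallySmooth.exists_lift I hI (φ₀.symm.toAlgHom.comp (Ideal.Quotient.mkₐ R I))
  have key : ∀ (a b : A →ₐ[R] A) (α β : (A ⧸ I) ≃ₐ[R] (A ⧸ I)),
      (Ideal.Quotient.mkₐ R I).comp a = α.toAlgHom.comp (Ideal.Quotient.mkₐ R I) →
      (Ideal.Quotient.mkₐ R I).comp b = β.toAlgHom.comp (Ideal.Quotient.mkₐ R I) →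
      (∀ z, α (β z) = z) → Function.Bijective (a.comp b) := by
    intro a b α β ha hb hαβ
    have hf : ∀ x, (a.comp b) x - x ∈ I := by
      intro x
      refine Ideal.Quotient.eq.mp ?_
      have e1 := AlgHom.congr_fun ha (b x)
      have e2 := AlgHom.congr_fun hb x
      simp only [AlgHom.comp_apply, Ideal.Quotient.mkₐ_eq_mk, AlgEquiv.coe_toAlgHom] at e1 e2 ⊢
      rw [e1, e2, hαβ]
    set f := a.comp b
    let δ : A →ₗ[R] A := f.toLinearMap - LinearMap.id
    have hδ : ∀ x, δ x ∈ I := hf
    have hδ2 : ∀ x ∈ I, δ x = 0 := by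
      intro x hx
      induction hx using Submodule.span_induction with
      | mem z hz =>
        obtain ⟨j, -, rfl⟩ := hz
        simp [δ]
      | zero => exact map_zero δ
      | add p q _ _ hp hq => rw [map_add, hp, hq, add_zero]
      | smul c z hz hz0 =>
        have e : f z = z := sub_eq_zero.mp hz0
        show f (c * z) - c * z = 0
        rw [map_mul, e, ← sub_mul]
        have hmm := Ideal.mul_mem_mul (hf c) (show z ∈ I from hz)
        rwa [← Ideal.map_mul, hJ, Ideal.map_bot] at hmm
    refine Function.bijective_iff_has_inverse.mpr ⟨fun x => x - δ x, fun x => ?_, fun x => ?_⟩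
    · show f x - δ (f x) = x
      have e : f x = x + δ x := by simp [δ]
      rw [e, map_add, hδ2 _ (hδ x), add_zero, add_sub_cancel_right]
    · show f (x - δ x) = x
      have e : ∀ z, f z = z + δ z := fun z => by simp [δ]
      rw [e, map_sub, hδ2 _ (hδ x), sub_zero, sub_add_cancel]
  have h1 := key φ ψ φ₀ φ₀.symm hφ hψ φ₀.apply_symm_apply
  have h2 := key ψ φ φ₀.symm φ₀ hψ hφ φ₀.symm_apply_apply
  refine ⟨AlgEquiv.ofBijective φ ⟨?_, ?_⟩, ?_⟩
  · intro x y hxy
    exact h2.injective (congrArg ψ hxy)
  · intro y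
    obtain ⟨x, hx⟩ := h1.surjective y
    exact ⟨ψ x, hx⟩
  · exact hφ

end Groth.Agent.S8364
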