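import Groth.Statements.S8366
import Groth.Agent.NilpGroupLib

set_option autoImplicit false
set_option backward.isDefEq.respectTransparency false
set_option backward.isDefEq.respectTransparency.types false
universe u
open CategoryTheory MonoidalCategory MonObj AlgebraicGeometry
open SGA3

namespace Groth.Agent.S8366

/-- Over an affine base S = Spec R with S₀ = Spec (R/I) for a nilpotent ideal I: let X be an S-scheme
which is flat and either quasi-compact or locally of finite presentation over S, and P : X ×_S X → X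
a composition law. If P is associative and its base change to S₀ is the multiplication of some
group-scheme structure on X ×_S S₀, then P is the multiplication of a group-scheme structure on X.
(The published statement is over an arbitrary base scheme with S₀ defined by a nilpotent
quasi-coherent ideal; this row is its case of an affine base.) -/
theorem result (R : Type u) [CommRing R] (I : Ideal R)
    (hI : IsNilpotent I) (X : Over (Spec (CommRingCat.of R))) [Flat X.hom]
    (hX : QuasiCompact X.hom ∨ LocallyOfFinitePresentation X.hom) (P : X ⊗ X ⟶ X)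
    (hassoc : (P ▷ X) ≫ P = (α_ X X X).hom ≫ (X ◁ P) ≫ P)
    (h0 : ∃ _ : GrpObj ((Over.pullback (Spec.map (CommRingCat.ofHom (Ideal.Quotient.mk I)))).obj X),
      μ[(Over.pullback (Spec.map (CommRingCat.ofHom (Ideal.Quotient.mk I)))).obj X] =
        Functor.LaxMonoidal.μ (Over.pullback (Spec.map (CommRingCat.ofHom (Ideal.Quotient.mk I)))) X X ≫ (Over.pullback (Spec.map (CommRingCat.ofHom (Ideal.Quotient.mk I)))).map P) :
    ∃ _ : GrpObj X, μ[X] = P := by
  obtain ⟨_, hG0⟩ := h0
  let i := Spec.map (CommRingCat.ofHom (Ideal.Quotient.mk I))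
  let F := Over.pullback i
  haveI hflat : Flat (X ⊗ X).hom :=
    (inferInstance : Flat (Limits.pullback.fst X.hom X.hom ≫ X.hom))
  obtain ⟨hl, hr⟩ := NilpGroup.isIso_shear_of_grpObj (X := F.obj X)
  haveI : IsIso (F.map (NilpGroup.shearL P)) := by
    have : Functor.LaxMonoidal.μ F X X ≫ F.map (NilpGroup.shearL P) ≫ Functor.OplaxMonoidal.δ F X X =
        NilpGroup.shearL μ[F.obj X] := by
      apply CartesianMonoidalCategory.hom_ext
      · simp [← Functor.map_comp]
      · simp [← Functor.map_comp, hG0, F, i]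
    have h : F.map (NilpGroup.shearL P) = inv (Functor.LaxMonoidal.μ F X X) ≫ NilpGroup.shearL μ[F.obj X] ≫
        inv (Functor.OplaxMonoidal.δ F X X) := by
      rw [IsIso.eq_inv_comp, IsIso.eq_comp_inv, Category.assoc, this]
    rw [h]; infer_instance
  haveI : IsIso (F.map (NilpGroup.shearR P)) := by
    have : Functor.LaxMonoidal.μ F X X ≫ F.map (NilpGroup.shearR P) ≫ Functor.OplaxMonoidal.δ F X X =
        NilpGroup.shearR μ[F.obj X] := by
      apply CartesianMonoidalCategory.hom_ext
      · simp [← Functor.map_comp, hG0, F, i]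
      · simp [← Functor.map_comp]
    have h : F.map (NilpGroup.shearR P) = inv (Functor.LaxMonoidal.μ F X X) ≫ NilpGroup.shearR μ[F.obj X] ≫
        inv (Functor.OplaxMonoidal.δ F X X) := by
      rw [IsIso.eq_inv_comp, IsIso.eq_comp_inv, Category.assoc, this]
    rw [h]; infer_instance
  haveI : IsIso (NilpGroup.shearL P) := NilpGroup.isIso_of_nilp _ hI
  haveI : IsIso (NilpGroup.shearR P) := NilpGroup.isIso_of_nilp _ hI
  haveI : Surjective X.hom := by
    refine ⟨fun p => ?_⟩
    obtain ⟨q, rfl⟩ := NilpGroup.surjective_i₀ hI p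
    refine ⟨(Limits.pullback.fst X.hom i).base (η[F.obj X].left.base q), ?_⟩
    have : η[F.obj X].left ≫ (F.obj X).hom = 𝟙 _ := Over.w η[F.obj X]
    have h2 : η[F.obj X].left ≫ Limits.pullback.fst X.hom i ≫ X.hom = i := by
      rw [Limits.pullback.condition, ← Category.assoc]
      exact (congrArg (fun f => f ≫ i) this).trans (Category.id_comp _)
    exact congrArg (fun f => f.base q) h2
  haveI : SchDesc.IsFpqc X.hom := hX.elim (fun _ => .of_quasiCompact _) (fun _ => .of_locallyOfFinitePresentation _)
  let u := NilpGroup.unitAt (P := P) (𝟙 X)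
  have hu : ∀ {Z : Scheme.{u}} (g₁ g₂ : Z ⟶ X.left), g₁ ≫ X.hom = g₂ ≫ X.hom → g₁ ≫ u.left = g₂ ≫ u.left := by
    intro Z g₁ g₂ hg
    let a : Over.mk (g₁ ≫ X.hom) ⟶ X := Over.homMk g₁ rfl
    let b : Over.mk (g₁ ≫ X.hom) ⟶ X := Over.homMk g₂ hg.symm
    have hn : ∀ c : Over.mk (g₁ ≫ X.hom) ⟶ X, c ≫ u = NilpGroup.unitAt (P := P) c := fun c => by
      refine (NilpGroup.existsUnique_shearL c c).unique ?_ (NilpGroup.mul_unitAt c)
      rw [← Category.comp_id c, Category.assoc, Category.id_comp, ← CartesianMonoidalCategory.comp_lift_assoc,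
        NilpGroup.mul_unitAt]
    exact congrArg CommaMorphism.left (((hn a).trans (NilpGroup.unitAt_unique hassoc a b)).trans (hn b).symm)
  let e₀ : Spec (CommRingCat.of R) ⟶ X.left := EffectiveEpi.desc X.hom u.left hu
  have he₀ : X.hom ≫ e₀ = u.left := EffectiveEpi.fac X.hom u.left hu
  let e : 𝟙_ (Over (Spec (CommRingCat.of R))) ⟶ X := Over.homMk e₀ (by
    change e₀ ≫ X.hom = 𝟙 _
    rw [← cancel_epi X.hom, ← Category.assoc, he₀, Category.comp_id, Over.w u])
  refine NilpGroup.exists_grpObj hassoc e ?_
  ext1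
  exact he₀

end Groth.Agent.S8366
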