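import Groth.Statements.S8369
import Mathlib
-- import your own Groth.Agent.* helpers here

set_option autoImplicit false
universe u v
open SGA3

namespace Groth.Agent.S8369

/-- Let A be a commutative ring, J a nilpotent ideal, N ⊆ M A-modules with M/N flat over A. If elements
of N have images generating the image of N in M/JM, then they generate N. (The published statement
takes finitely many elements; this row allows an arbitrary set, which the same argument permits.) -/
theorem result (A : Type u) [CommRing A] (J : Ideal A) (hJ : IsNilpotent J)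
    (M : Type v) [AddCommGroup M] [Module A M] (N : Submodule A M) [Module.Flat A (M ⧸ N)] (s : Set M)
    (hs : s ⊆ N)
    (hgen : (Submodule.span A s).map (J • (⊤ : Submodule A M)).mkQ = N.map (J • (⊤ : Submodule A M)).mkQ) :
    Submodule.span A s = N := by
  have hle : Submodule.span A s ≤ N := Submodule.span_le.mpr hs
  have hJ' : ∀ x ∈ J • (⊤ : Submodule A M), x ∈ N → x ∈ J • N := by
    intro x hx hxN
    obtain ⟨ι, _, f, m, rfl⟩ : ∃ (ι : Type) (_ : Fintype ι) (f : ι → J) (m : ι → M),
        x = ∑ i, (f i : A) • m i := by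
      clear hxN
      refine Submodule.smul_induction_on hx ?_ ?_
      · intro r hr n _
        exact ⟨PUnit, inferInstance, fun _ => ⟨r, hr⟩, fun _ => n, by simp⟩
      · intro x y hx hy
        obtain ⟨ι, _, f, m, rfl⟩ := hx
        obtain ⟨κ, _, g, n, rfl⟩ := hy
        exact ⟨ι ⊕ κ, inferInstance, Sum.elim f g, Sum.elim m n, by simp⟩
    obtain ⟨k, a, y, hy, ha⟩ := Module.Flat.isTrivialRelation_of_sum_smul_eq_zero
      (R := A) (M := M ⧸ N) (f := fun i => (f i : A)) (x := fun i => N.mkQ (m i)) (by
        simp only [← map_smul, ← map_sum]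
        exact (Submodule.Quotient.mk_eq_zero _).mpr hxN)
    choose z hz using fun j => Submodule.mkQ_surjective N (y j)
    have e : ∑ i, (f i : A) • m i = ∑ i, (f i : A) • (m i - ∑ j, a i j • z j) := by
      simp only [smul_sub, Finset.sum_sub_distrib, Finset.smul_sum, smul_smul]
      rw [Finset.sum_comm]
      simp only [← Finset.sum_smul, ha, zero_smul, Finset.sum_const_zero, sub_zero]
    rw [e]
    refine Submodule.sum_mem _ fun i _ => Submodule.smul_mem_smul (f i).2 ?_
    rw [← Submodule.Quotient.mk_eq_zero, ← Submodule.mkQ_apply, map_sub, map_sum, sub_eq_zero]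
    refine (hy i).trans ?_
    simp [hz]
  have h1 : N ≤ Submodule.span A s ⊔ J • N := by
    intro x hx
    have h2 : (J • (⊤ : Submodule A M)).mkQ x ∈ N.map (J • (⊤ : Submodule A M)).mkQ :=
      Submodule.mem_map_of_mem hx
    rw [← hgen] at h2
    obtain ⟨y, hy, hxy⟩ := h2
    have : x = y + (x - y) := by abel
    rw [this]
    refine Submodule.add_mem_sup hy (hJ' _ ?_ (N.sub_mem hx (hle hy)))
    rw [← (Submodule.Quotient.eq _)]
    exact hxy.symm
  have h2 : ∀ n : ℕ, N ≤ Submodule.span A s ⊔ J ^ n • N := by
    intro n
    induction n with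
    | zero => simp
    | succ n ih =>
      refine ih.trans (sup_le le_sup_left ?_)
      refine (Submodule.smul_mono le_rfl h1).trans ?_
      rw [Submodule.smul_sup, ← mul_smul, ← pow_succ]
      exact sup_le_sup_right Submodule.smul_le_right _
  obtain ⟨n, hn⟩ := hJ
  refine le_antisymm hle ((h2 n).trans ?_)
  rw [hn, Ideal.zero_eq_bot, Submodule.bot_smul, sup_bot_eq]

end Groth.Agent.S8369
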