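import Groth.Statements.S8370
import Groth.Agent.LieCentLib.Basic
open CategoryTheory MonoidalCategory CartesianMonoidalCategory MonObj GrpObj AlgebraicGeometry Opposite LieS
-- import your own Groth.Agent.* helpers here

set_option autoImplicit false
universe u
open CategoryTheory MonObj AlgebraicGeometry
open LieS

namespace Groth.Agent.S8370

/-- For a group scheme G over a scheme S (the group law of the Lie algebra functor of a group scheme is
commutative, which the published statement assumes), a sub-group-scheme K of G given by a
monomorphic homomorphism i, and an affine S-scheme T = Spec B: an element x of Lie(G/S)(T) belongs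
to the Lie algebra of the centraliser of K, i.e. the point x of G with values in the dual numbers
I_T commutes with every point of K with values in any scheme over I_T, if and only if x is fixed by
the adjoint action of every point of K with values in an affine scheme T' = Spec B' over T (acting
on the restriction of x to T'). -/
theorem result (S : Scheme.{u}) (G K : Over S) [GrpObj G] [GrpObj K] (i : K ⟶ G)
    [IsMonHom i] [Mono i] (B : Type u) [CommRing B] (f : Spec (CommRingCat.of B) ⟶ S) (x : LieS.Lie G B f) :
    (∀ (X' : Over S) (y : X' ⟶ LieS.dpt B f) (h : X' ⟶ K), (y ≫ x.1) * (h ≫ i) = (h ≫ i) * (y ≫ x.1)) ↔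
    (∀ (B' : Type u) [CommRing B'] (h : B →+* B')
      (k : LieS.pt B' (Spec.map (CommRingCat.ofHom h) ≫ f) ⟶ K),
      LieS.Ad G B' (Spec.map (CommRingCat.ofHom h) ≫ f) (k ≫ i) (LieS.pull G f h x) = LieS.pull G f h x) := by
  constructor
  · intro h B' _ φ k
    apply Subtype.ext
    show (proj B' (Spec.map (CommRingCat.ofHom φ) ≫ f) ≫ k ≫ i) * (dptMap f φ ≫ x.1) *
      (proj B' (Spec.map (CommRingCat.ofHom φ) ≫ f) ≫ k ≫ i)⁻¹ = dptMap f φ ≫ x.1
    have e := h _ (dptMap f φ) (proj B' (Spec.map (CommRingCat.ofHom φ) ≫ f) ≫ k)
    rw [Category.assoc] at e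
    exact mul_inv_eq_iff_eq_mul.2 e.symm
  · intro h X' y k
    refine Groth.Agent.LieCentLib.ext_affine fun B' _ g q => ?_
    rw [Groth.Agent.LieCentLib.precomp_mul, Groth.Agent.LieCentLib.precomp_mul, ← Category.assoc, ← Category.assoc]
    exact Groth.Agent.LieCentLib.commute_of_ad i B f x h B' g (q ≫ y) (q ≫ k)

end Groth.Agent.S8370
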