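import Groth.Statements.S8371
import Mathlib
-- import your own Groth.Agent.* helpers here

set_option autoImplicit false
set_option backward.isDefEq.respectTransparency false
universe u
open CategoryTheory MonObj AlgebraicGeometry
open LieS

namespace Groth.Agent.S8371

/-- The sequence of Lie algebras, with M = O_S: if 1 → G' → G → G'' → 1 is a sequence of homomorphisms
of group schemes over a scheme S which is exact on points with values in every S-scheme, then for
every affine S-scheme T = Spec B the derived morphisms give an exact sequence 1 → Lie(G'/S)(T) →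
Lie(G/S)(T) → Lie(G''/S)(T) → 1: the first is injective, the second surjective, and the kernel of
the second is the image of the first. -/
theorem result (S : Scheme.{u}) (G' G G'' : Over S) [GrpObj G'] [GrpObj G] [GrpObj G'']
    (i : G' ⟶ G) [IsMonHom i] (q : G ⟶ G'') [IsMonHom q]
    (hex : ∀ T : Over S, Function.Injective (fun a : T ⟶ G' => a ≫ i) ∧
      Function.Surjective (fun b : T ⟶ G => b ≫ q) ∧ ∀ b : T ⟶ G, b ≫ q = 1 ↔ ∃ a : T ⟶ G', a ≫ i = b)
    (B : Type u) [CommRing B] (f : Spec (CommRingCat.of B) ⟶ S) :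
    Function.Injective (LieS.map B f i) ∧ Function.Surjective (LieS.map B f q) ∧
      ∀ v : LieS.Lie G B f, LieS.map B f q v = 1 ↔ ∃ w : LieS.Lie G' B f, LieS.map B f i w = v := by
  refine ⟨fun a b h => Subtype.ext ((hex _).1 (congrArg Subtype.val h)), fun w => ?_, fun v => ⟨fun hv => ?_, ?_⟩⟩
  · obtain ⟨b, hb : b ≫ q = w.1⟩ := (hex _).2.1 w.1
    let b' := b * (proj B f ≫ (zeroSec B f ≫ b))⁻¹
    have h0 : zeroSec B f ≫ b' = 1 := by
      rw [MonObj.comp_mul, GrpObj.comp_inv, ← Category.assoc (zeroSec B f) (proj B f), zeroSec_proj, Category.id_comp,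
        mul_inv_cancel]
    refine ⟨⟨b', h0⟩, Subtype.ext ?_⟩
    show b' ≫ q = w.1
    rw [MonObj.mul_comp, GrpObj.inv_comp, Category.assoc, Category.assoc, hb, (mem_Lie_iff G'' B f w.1).1 w.2,
      MonObj.comp_one, inv_one, _root_.mul_one]
  · obtain ⟨a, ha⟩ := ((hex _).2.2 v.1).1 (congrArg Subtype.val hv)
    refine ⟨⟨a, (hex _).1 ?_⟩, Subtype.ext ha⟩
    show (zeroSec B f ≫ a) ≫ i = 1 ≫ i
    rw [Category.assoc, ha, (mem_Lie_iff G B f v.1).1 v.2, MonObj.one_comp]
  · rintro ⟨w, rfl⟩
    exact Subtype.ext (((hex _).2.2 _).2 ⟨w.1, rfl⟩)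

end Groth.Agent.S8371
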