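import Groth.Statements.S8373
import Groth.Agent.CartanNil.Basic

set_option autoImplicit false
universe u
open scoped TensorProduct
open SGA3t2b

namespace Groth.Agent.S8373

/-- Over an affine base Spec A: let L be a Lie algebra over A which is a finitely generated projective
A-module, H a Cartan subalgebra of L relative to A, a an element of H which is quasi-regular in L,
and u an automorphism of the Lie algebra L over A. Then u(H) = H if and only if u(a) ∈ H. -/
theorem result {A : Type u} [CommRing A] {L : Type u} [LieRing L]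
    [LieAlgebra A L] [Module.Finite A L] [Module.Projective A L]
    (H : LieSubalgebra A L) (hH : SGA3t2b.IsCartanRel H) (a : L) (haH : a ∈ H)
    (ha : SGA3t2b.IsQuasiRegular A L a) (u : L ≃ₗ⁅A⁆ L) :
    H.map u.toLieHom = H ↔ u a ∈ H := by
  obtain ⟨hproj, hfib⟩ := hH
  haveI := hproj
  constructor
  · intro h
    rw [← h]
    exact ⟨a, haH, rfl⟩
  intro hua
  -- retraction onto H
  obtain ⟨s, hs⟩ := Module.projective_lifting_property H.toSubmodule.mkQ LinearMap.id
    (Submodule.mkQ_surjective _)
  have hmem : ∀ x : L, x - s (H.toSubmodule.mkQ x) ∈ H.toSubmodule := fun x => by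
    rw [← Submodule.Quotient.eq]
    exact (LinearMap.congr_fun hs (H.toSubmodule.mkQ x)).symm
  let r : L →ₗ[A] H.toSubmodule :=
    (LinearMap.id - s ∘ₗ H.toSubmodule.mkQ).codRestrict H.toSubmodule hmem
  have hr : r ∘ₗ H.toSubmodule.subtype = LinearMap.id := by
    refine LinearMap.ext fun x => Subtype.ext ?_
    show (x : L) - s (H.toSubmodule.mkQ (x : L)) = x
    rw [Submodule.mkQ_apply, (Submodule.Quotient.mk_eq_zero _).2 x.2, map_zero, sub_zero]
  haveI : Module.Projective A H := Module.Projective.of_split H.toSubmodule.subtype r hr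
  haveI : Module.Finite A H := Module.Finite.of_surjective r
    (fun x => ⟨x, LinearMap.congr_fun hr x⟩)
  -- `ad h` is nilpotent on H
  have hnil : ∀ h : H, ∃ N, ∀ x : H, ((LieAlgebra.ad A L (h : L)) ^ N) (x : L) = 0 := by
    intro h
    have hN : IsNilpotent (LieAlgebra.ad A H h) := by
      refine CartanNil.isNilpotent_of_residue _ fun p => ?_
      haveI := (hfib p).1
      have := LieModule.isNilpotent_toEnd_of_isNilpotent p.asIdeal.ResidueField
        (p.asIdeal.ResidueField ⊗[A] H) (p.asIdeal.ResidueField ⊗[A] H)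
        ((1 : p.asIdeal.ResidueField) ⊗ₜ[A] h)
      convert this using 1
      refine TensorProduct.AlgebraTensorModule.ext fun c x => ?_
      simp [LieAlgebra.ad_apply, LieAlgebra.ExtendScalars.bracket_tmul]
    obtain ⟨N, hN⟩ := hN
    refine ⟨N, fun x => ?_⟩
    have : ∀ k, ((LieAlgebra.ad A L (h : L)) ^ k) (x : L) = (((LieAlgebra.ad A H h) ^ k) x : H) := by
      intro k
      induction k with
      | zero => simp
      | succ k ih => rw [pow_succ', pow_succ', Module.End.mul_apply, Module.End.mul_apply, ih]; simp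
    rw [this, hN]; simp
  -- elements killed by a power of `ad a` lie in H
  let D : Module.End A (L ⧸ H.toSubmodule) :=
    H.toSubmodule.mapQ H.toSubmodule (LieAlgebra.ad A L a) (fun x hx => H.lie_mem haH hx)
  have hD : Function.Bijective D := by
    refine CartanNil.bijective_of_residue D fun p => ?_
    obtain ⟨-, hnorm, hrank⟩ := hfib p
    let K := p.asIdeal.ResidueField
    let ap : K ⊗[A] L := (1 : K) ⊗ₜ[A] a
    have hadp : (LieAlgebra.ad A L a).baseChange K = LieAlgebra.ad K (K ⊗[A] L) ap := by
      refine TensorProduct.AlgebraTensorModule.ext fun c x => ?_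
      simp [ap, K, LieAlgebra.ad_apply, LieAlgebra.ExtendScalars.bracket_tmul]
    have hle : fibreSubmodule p H ≤ (LieSubalgebra.engel K ap).toSubmodule := by
      rw [fibreSubmodule, Submodule.baseChange_eq_span, Submodule.span_le]
      rintro _ ⟨x, hx, rfl⟩
      obtain ⟨N, hN⟩ := hnil ⟨a, haH⟩
      rw [SetLike.mem_coe, LieSubalgebra.mem_toSubmodule, LieSubalgebra.mem_engel_iff]
      refine ⟨N, ?_⟩
      rw [← hadp, ← LinearMap.baseChange_pow]
      show (1 : K) ⊗ₜ[A] ((LieAlgebra.ad A L a ^ N) x) = 0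
      rw [hN ⟨x, hx⟩, TensorProduct.tmul_zero]
    have heq : fibreSubmodule p H = (LieSubalgebra.engel K ap).toSubmodule := by
      refine Submodule.eq_of_le_of_finrank_le hle (le_of_eq ?_)
      rw [hrank]
      exact (LieAlgebra.isRegular_iff_finrank_engel_eq_rank K ap).1 (ha p)
    have hex : Function.Exact (H.toSubmodule.subtype.baseChange K) (H.toSubmodule.mkQ.baseChange K) :=
      lTensor_exact K (LinearMap.exact_subtype_mkQ _) (Submodule.mkQ_surjective _)
    have hcomm : ∀ x, D.baseChange K (H.toSubmodule.mkQ.baseChange K x) =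
        H.toSubmodule.mkQ.baseChange K (LieAlgebra.ad K (K ⊗[A] L) ap x) := by
      intro x
      rw [← hadp, ← LinearMap.comp_apply, ← LinearMap.comp_apply, ← LinearMap.baseChange_comp,
        ← LinearMap.baseChange_comp]
      rfl
    rw [injective_iff_map_eq_zero]
    intro y hy
    obtain ⟨x, rfl⟩ : ∃ x, H.toSubmodule.mkQ.baseChange K x = y :=
      LinearMap.lTensor_surjective K (Submodule.mkQ_surjective H.toSubmodule) y
    rw [hcomm] at hy
    obtain ⟨z, hz⟩ := (hex _).1 hy
    have h1 : LieAlgebra.ad K (K ⊗[A] L) ap x ∈ fibreSubmodule p H := ⟨z, hz⟩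
    rw [heq, LieSubalgebra.mem_toSubmodule, LieSubalgebra.mem_engel_iff] at h1
    obtain ⟨n, hn⟩ := h1
    have h2 : x ∈ fibreSubmodule p H := by
      rw [heq, LieSubalgebra.mem_toSubmodule, LieSubalgebra.mem_engel_iff]
      exact ⟨n + 1, by rw [pow_succ]; exact hn⟩
    obtain ⟨w, hw⟩ := h2
    exact (hex _).2 ⟨w, hw⟩
  have hmemH : ∀ (N : ℕ) (x : L), ((LieAlgebra.ad A L a) ^ N) x = 0 → x ∈ H := by
    intro N
    induction N with
    | zero => intro x hx; rw [show x = 0 from hx]; exact H.zero_mem
    | succ N ih =>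
      intro x hx
      rw [pow_succ, Module.End.mul_apply] at hx
      have h1 := ih _ hx
      have h2 : D (H.toSubmodule.mkQ x) = 0 := (Submodule.Quotient.mk_eq_zero _).2 h1
      exact (Submodule.Quotient.mk_eq_zero _).1 (hD.1 (h2.trans (map_zero D).symm))
  have hinv : ∀ x : H, u.symm (x : L) ∈ H := by
    intro x
    obtain ⟨N, hN⟩ := hnil ⟨u a, hua⟩
    refine hmemH N _ ?_
    apply u.injective
    rw [map_zero, ← hN x]
    clear hN
    induction N with
    | zero => simp
    | succ k ih =>
      rw [pow_succ', pow_succ', Module.End.mul_apply, Module.End.mul_apply, ← ih]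
      simp [LieAlgebra.ad_apply]
  let f : H.toSubmodule →ₗ[A] H.toSubmodule :=
    ((u.symm.toLinearEquiv : L →ₗ[A] L) ∘ₗ H.toSubmodule.subtype).codRestrict H.toSubmodule hinv
  let g : H.toSubmodule →ₗ[A] H.toSubmodule := r ∘ₗ (u.toLinearEquiv : L →ₗ[A] L) ∘ₗ H.toSubmodule.subtype
  have hgf : ∀ x, g (f x) = x := fun x => by
    show r (u (u.symm (x : L))) = x
    rw [u.apply_symm_apply]
    exact LinearMap.congr_fun hr x
  have hgsurj : Function.Surjective g := fun x => ⟨f x, hgf x⟩
  haveI : Module.Finite A H.toSubmodule := inferInstanceAs (Module.Finite A H)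
  have hginj := OrzechProperty.injective_of_surjective_endomorphism g hgsurj
  apply le_antisymm
  · rintro _ ⟨x, hx, rfl⟩
    have : f (g ⟨x, hx⟩) = ⟨x, hx⟩ := hginj (hgf _)
    have h3 : u.symm ((g ⟨x, hx⟩ : L)) = x := congrArg Subtype.val this
    have h4 : u x = (g ⟨x, hx⟩ : L) := (congrArg u h3).symm.trans (u.apply_symm_apply _)
    show u x ∈ H
    rw [h4]; exact (g ⟨x, hx⟩).2
  · intro x hx
    exact ⟨u.symm x, hinv ⟨x, hx⟩, u.apply_symm_apply x⟩

end Groth.Agent.S8373
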