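import Groth.Statements.S8374
import Groth.Agent.CartanNil.Generic

set_option autoImplicit false
universe u
open scoped TensorProduct
open SGA3t2b

namespace Groth.Agent.S8374

/-- Over an affine base Spec A: let L be a Lie algebra over A which is a finitely generated projective
A-module, H a Cartan subalgebra of L relative to A, and p a prime of A whose residue field is
infinite. Then there are f ∈ A with f ∉ p and an element a ∈ H such that a is a regular element of
every fibre κ(q) ⊗ L with f ∉ q, H is contained in the Engel subalgebra Nil(a, L), and every element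
of Nil(a, L) is carried into H by some power of f; that is, over the basic open set D(f) the section
a is regular and H coincides with Nil(a, L). (The published statement gives a regular section of H
over some open neighbourhood of p; this row takes a global element of H and a basic open
neighbourhood D(f), which is equivalent over an affine base because multiplying by a function
invertible on D(f) does not change regularity.) -/
theorem result {A : Type u} [CommRing A] {L : Type u} [LieRing L]
    [LieAlgebra A L] [Module.Finite A L] [Module.Projective A L]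
    (H : LieSubalgebra A L) (hH : SGA3t2b.IsCartanRel H) (p : PrimeSpectrum A)
    (hp : Infinite p.asIdeal.ResidueField) :
    ∃ f : A, f ∉ p.asIdeal ∧ ∃ a : L, a ∈ H ∧
      (∀ q : PrimeSpectrum A, f ∉ q.asIdeal →
        LieAlgebra.IsRegular q.asIdeal.ResidueField ((1 : q.asIdeal.ResidueField) ⊗ₜ[A] a)) ∧
      H ≤ LieSubalgebra.engel A a ∧
      ∀ y : L, y ∈ LieSubalgebra.engel A a → ∃ n : ℕ, f ^ n • y ∈ H := by
  classical
  obtain ⟨hproj, hfib⟩ := hH
  haveI := hproj
  obtain ⟨s, hs⟩ := Module.projective_lifting_property H.toSubmodule.mkQ LinearMap.id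
    (Submodule.mkQ_surjective _)
  have hmem : ∀ x : L, x - s (H.toSubmodule.mkQ x) ∈ H.toSubmodule := fun x => by
    rw [← Submodule.Quotient.eq]
    exact (LinearMap.congr_fun hs (H.toSubmodule.mkQ x)).symm
  let r : L →ₗ[A] H.toSubmodule :=
    (LinearMap.id - s ∘ₗ H.toSubmodule.mkQ).codRestrict H.toSubmodule hmem
  have hr : r ∘ₗ H.toSubmodule.subtype = LinearMap.id := by
    refine LinearMap.ext fun x => Subtype.ext ?_
    show (x : L) - s (H.toSubmodule.mkQ (x : L)) = x
    rw [Submodule.mkQ_apply, (Submodule.Quotient.mk_eq_zero _).2 x.2, map_zero, sub_zero]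
  haveI : Module.Projective A H := Module.Projective.of_split H.toSubmodule.subtype r hr
  haveI : Module.Finite A H := Module.Finite.of_surjective r
    (fun x => ⟨x, LinearMap.congr_fun hr x⟩)
  haveI : Module.FinitePresentation A H := Module.finitePresentation_of_projective A H
  -- ad is nilpotent on H
  have hnil : ∀ h : H, ∃ N, ∀ x : H, ((LieAlgebra.ad A L (h : L)) ^ N) (x : L) = 0 := by
    intro h
    have hN : IsNilpotent (LieAlgebra.ad A H h) := by
      refine CartanNil.isNilpotent_of_residue _ fun q => ?_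
      haveI := (hfib q).1
      have := LieModule.isNilpotent_toEnd_of_isNilpotent q.asIdeal.ResidueField
        (q.asIdeal.ResidueField ⊗[A] H) (q.asIdeal.ResidueField ⊗[A] H)
        ((1 : q.asIdeal.ResidueField) ⊗ₜ[A] h)
      convert this using 1
      refine TensorProduct.AlgebraTensorModule.ext fun c x => ?_
      simp [LieAlgebra.ad_apply, LieAlgebra.ExtendScalars.bracket_tmul]
    obtain ⟨N, hN⟩ := hN
    refine ⟨N, fun x => ?_⟩
    have : ∀ k, ((LieAlgebra.ad A L (h : L)) ^ k) (x : L) = (((LieAlgebra.ad A H h) ^ k) x : H) := by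
      intro k
      induction k with
      | zero => simp
      | succ k ih => rw [pow_succ', pow_succ', Module.End.mul_apply, Module.End.mul_apply, ih]; simp
    rw [this, hN]; simp
  -- fibrewise data
  let f : ∀ q : PrimeSpectrum A, q.asIdeal.ResidueField ⊗[A] H →ₗ[q.asIdeal.ResidueField]
      q.asIdeal.ResidueField ⊗[A] L := fun q => LinearMap.baseChange _ (H.incl.toLinearMap : H →ₗ[A] L)
  have hf : ∀ q, Function.Injective (f q) := by
    intro q
    refine Function.LeftInverse.injective (g := r.baseChange _) fun z => ?_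
    have hr' : r ∘ₗ (H.incl.toLinearMap : H →ₗ[A] L) = LinearMap.id := hr
    refine (LinearMap.comp_apply _ _ _).symm.trans ?_
    rw [← LinearMap.baseChange_comp, hr', LinearMap.baseChange_id]
    rfl
  have hfr : ∀ q, fibreSubmodule q H = LinearMap.range (f q) := fun q => rfl
  have hrank : ∀ q : PrimeSpectrum A, LieAlgebra.rank q.asIdeal.ResidueField (q.asIdeal.ResidueField ⊗[A] L) =
      Module.rankAtStalk (R := A) H q := by
    intro q
    rw [← (hfib q).2.2, hfr, LinearMap.finrank_range_of_inj (hf q), Module.rankAtStalk_eq]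
  have hC0 : ∃ g : A, g ∉ p.asIdeal ∧ ∀ q : PrimeSpectrum A, g ∉ q.asIdeal →
        LieAlgebra.rank q.asIdeal.ResidueField (q.asIdeal.ResidueField ⊗[A] L) =
          LieAlgebra.rank p.asIdeal.ResidueField (p.asIdeal.ResidueField ⊗[A] L) := by
    obtain ⟨_, ⟨g, rfl⟩, hpg, hgV⟩ := PrimeSpectrum.isTopologicalBasis_basic_opens.exists_subset_of_mem_open
      (show p ∈ (fun q => Module.rankAtStalk (R := A) H q) ⁻¹' {Module.rankAtStalk (R := A) H p} from rfl)
      (Module.isLocallyConstant_rankAtStalk _)
    exact ⟨g, hpg, fun q hq => by rw [hrank, hrank]; exact hgV hq⟩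
  -- a regular element of the fibre of H at p
  obtain ⟨hnilp, hnormp, hrkp⟩ := hfib p
  haveI := hnilp
  let K := p.asIdeal.ResidueField
  haveI : Infinite K := hp
  have hspan : fibreSubmodule p H = Submodule.span K ((fun h : L => (1 : K) ⊗ₜ[A] h) '' (H : Set L)) := by
    rw [fibreSubmodule, Submodule.baseChange_eq_span]
    rfl
  let Hp : LieSubalgebra K (K ⊗[A] L) :=
    { fibreSubmodule p H with
      lie_mem' := by
        intro x y hx hy
        change ⁅x, y⁆ ∈ fibreSubmodule p H
        change x ∈ fibreSubmodule p H at hx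
        change y ∈ fibreSubmodule p H at hy
        rw [hspan] at hx hy ⊢
        induction hx, hy using Submodule.span_induction₂ with
        | mem_mem x y hx hy =>
          obtain ⟨h, hh, rfl⟩ := hx
          obtain ⟨h', hh', rfl⟩ := hy
          rw [LieAlgebra.ExtendScalars.bracket_tmul, one_mul]
          exact Submodule.subset_span ⟨_, H.lie_mem hh hh', rfl⟩
        | zero_left y _ => rw [zero_lie]; exact zero_mem _
        | zero_right x _ => rw [lie_zero]; exact zero_mem _
        | add_left x y z _ _ _ h1 h2 => rw [add_lie]; exact add_mem h1 h2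
        | add_right x y z _ _ _ h1 h2 => rw [lie_add]; exact add_mem h1 h2
        | smul_left c x y _ _ h => rw [smul_lie]; exact Submodule.smul_mem _ _ h
        | smul_right c x y _ _ h => rw [lie_smul]; exact Submodule.smul_mem _ _ h }
  have hle : ∀ y ∈ Hp, Hp ≤ LieSubalgebra.engel K y := by
    intro y hy z hz
    obtain ⟨y', rfl⟩ : y ∈ LinearMap.range (f p) := hy
    obtain ⟨z', rfl⟩ : z ∈ LinearMap.range (f p) := hz
    obtain ⟨n, hn⟩ := LieModule.isNilpotent_toEnd_of_isNilpotent K (K ⊗[A] H) (K ⊗[A] H) y'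
    rw [LieSubalgebra.mem_engel_iff]
    refine ⟨n, ?_⟩
    have hcomm : LieAlgebra.ad K (K ⊗[A] L) (f p y') ∘ₗ f p =
        f p ∘ₗ LieModule.toEnd K (K ⊗[A] H) (K ⊗[A] H) y' := by
      refine TensorProduct.AlgebraTensorModule.ext fun c x => ?_
      clear hn
      induction y' using TensorProduct.induction_on with
      | zero => simp
      | tmul d h =>
        show ⁅d ⊗ₜ[A] (h : L), c ⊗ₜ[A] (x : L)⁆ = f p ⁅d ⊗ₜ[A] h, c ⊗ₜ[A] x⁆
        rw [LieAlgebra.ExtendScalars.bracket_tmul, LieAlgebra.ExtendScalars.bracket_tmul]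
        rfl
      | add u v hu hv => simp only [map_add, LinearMap.add_comp, LinearMap.comp_add, LinearMap.add_apply]; exact congrArg₂ (· + ·) hu hv
    have : ∀ m w, ((LieAlgebra.ad K (K ⊗[A] L) (f p y')) ^ m) (f p w) =
        f p (((LieModule.toEnd K (K ⊗[A] H) (K ⊗[A] H) y') ^ m) w) := by
      intro m
      induction m with
      | zero => simp
      | succ m ih =>
        intro w
        rw [pow_succ', pow_succ', Module.End.mul_apply, Module.End.mul_apply, ih]
        exact LinearMap.congr_fun hcomm _
    rw [this, hn]; simp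
  obtain ⟨x, hx, hxe⟩ := CartanNil.exists_engel_eq Hp hle hnormp
  have hxreg : LieAlgebra.IsRegular K x := by
    rw [LieAlgebra.isRegular_iff_finrank_engel_eq_rank, hxe, ← hrkp]
    rfl
  obtain ⟨w, rfl⟩ : x ∈ LinearMap.range (f p) := hx
  obtain ⟨c, h, hc, hcw⟩ := CartanNil.exists_scalar p w
  have hareg : LieAlgebra.IsRegular K ((1 : K) ⊗ₜ[A] (h : L)) := by
    have := congrArg (f p) hcw
    rw [map_smul] at this
    rw [show (1 : K) ⊗ₜ[A] (h : L) = f p ((1 : K) ⊗ₜ[A] h) from rfl, ← this]
    exact CartanNil.isRegular_smul (fun e => hc (Ideal.algebraMap_residueField_eq_zero.1 e)) hxreg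
  obtain ⟨g, hg, hgreg⟩ := CartanNil.exists_open_regular p hC0 (h : L) hareg
  refine ⟨g, hg, h, h.2, hgreg, fun y hy => ?_, fun y hy => ?_⟩
  · rw [LieSubalgebra.mem_engel_iff]
    obtain ⟨N, hN⟩ := hnil h
    exact ⟨N, hN ⟨y, hy⟩⟩
  -- the quotient map is invertible over D(g)
  let P := L ⧸ H.toSubmodule
  let D : Module.End A P :=
    H.toSubmodule.mapQ H.toSubmodule (LieAlgebra.ad A L (h : L)) (fun x hx => H.lie_mem h.2 hx)
  obtain ⟨n, π, i, -, -, hi⟩ := Module.Finite.exists_comp_eq_id_of_projective A P
  let T' : Module.End A (Fin n → A) := i ∘ₗ D ∘ₗ π + (LinearMap.id - i ∘ₗ π)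
  have hπi : ∀ z, π (i z) = z := LinearMap.congr_fun hi
  have hdet : ∀ q : PrimeSpectrum A, g ∉ q.asIdeal → LinearMap.det T' ∉ q.asIdeal := by
    intro q hq hdq
    obtain ⟨-, -, hrkq⟩ := hfib q
    let k := q.asIdeal.ResidueField
    let ap : k ⊗[A] L := (1 : k) ⊗ₜ[A] (h : L)
    have hleq : fibreSubmodule q H ≤ (LieSubalgebra.engel k ap).toSubmodule := by
      rw [fibreSubmodule, Submodule.baseChange_eq_span, Submodule.span_le]
      rintro _ ⟨x, hx, rfl⟩
      obtain ⟨N, hN⟩ := hnil h
      rw [SetLike.mem_coe, LieSubalgebra.mem_toSubmodule, LieSubalgebra.mem_engel_iff]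
      refine ⟨N, ?_⟩
      rw [← CartanNil.ad_tmul, ← LinearMap.baseChange_pow]
      show (1 : k) ⊗ₜ[A] ((LieAlgebra.ad A L (h : L) ^ N) x) = 0
      rw [hN ⟨x, hx⟩, TensorProduct.tmul_zero]
    have heq : fibreSubmodule q H = (LieSubalgebra.engel k ap).toSubmodule := by
      refine Submodule.eq_of_le_of_finrank_le hleq (le_of_eq ?_)
      rw [hrkq]
      exact (LieAlgebra.isRegular_iff_finrank_engel_eq_rank k ap).1 (hgreg q hq)
    have hex : Function.Exact (H.toSubmodule.subtype.baseChange k) (H.toSubmodule.mkQ.baseChange k) :=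
      lTensor_exact k (LinearMap.exact_subtype_mkQ _) (Submodule.mkQ_surjective _)
    have hDinj : ∀ z, D.baseChange k z = 0 → z = 0 := by
      intro z hz
      obtain ⟨x, rfl⟩ : ∃ x, H.toSubmodule.mkQ.baseChange k x = z :=
        LinearMap.lTensor_surjective k (Submodule.mkQ_surjective H.toSubmodule) z
      have hz' : H.toSubmodule.mkQ.baseChange k (LieAlgebra.ad k (k ⊗[A] L) ap x) = 0 := by
        rw [← hz, ← CartanNil.ad_tmul, ← LinearMap.comp_apply, ← LinearMap.comp_apply,
          ← LinearMap.baseChange_comp, ← LinearMap.baseChange_comp]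
        rfl
      obtain ⟨v, hv⟩ := (hex _).1 hz'
      have h1 : LieAlgebra.ad k (k ⊗[A] L) ap x ∈ fibreSubmodule q H := ⟨v, hv⟩
      rw [heq, LieSubalgebra.mem_toSubmodule, LieSubalgebra.mem_engel_iff] at h1
      obtain ⟨m, hm⟩ := h1
      have h2 : x ∈ fibreSubmodule q H := by
        rw [heq, LieSubalgebra.mem_toSubmodule, LieSubalgebra.mem_engel_iff]
        exact ⟨m + 1, by rw [pow_succ]; exact hm⟩
      obtain ⟨w', hw'⟩ := h2
      exact (hex _).2 ⟨w', hw'⟩
    have hker : LinearMap.ker (T'.baseChange k) = ⊥ := by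
      rw [LinearMap.ker_eq_bot']
      intro z hz
      have hπ : π.baseChange k (T'.baseChange k z) = D.baseChange k (π.baseChange k z) := by
        rw [← LinearMap.comp_apply, ← LinearMap.baseChange_comp, ← LinearMap.comp_apply, ← LinearMap.baseChange_comp]
        congr 1
        refine congrArg _ (LinearMap.ext fun v => ?_)
        simp [T', hπi]
      rw [hz, map_zero] at hπ
      have hπz := hDinj _ hπ.symm
      have : T'.baseChange k z = z := by
        simp [T', LinearMap.baseChange_add, LinearMap.baseChange_sub, LinearMap.baseChange_comp,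
          LinearMap.baseChange_id, hπz]
      rw [← this, hz]
    refine LinearMap.det_eq_zero_iff_ker_ne_bot.1 ?_ hker
    rw [LinearMap.det_baseChange]
    exact Ideal.algebraMap_residueField_eq_zero.2 hdq
  have hpow : g ∈ (Ideal.span {LinearMap.det T'}).radical := by
    rw [Ideal.radical_eq_sInf, Ideal.mem_sInf]
    rintro J ⟨hJ, hJp⟩
    by_contra hgJ
    exact hdet ⟨J, hJp⟩ hgJ (hJ (Ideal.subset_span rfl))
  obtain ⟨m, hm⟩ := hpow
  obtain ⟨d, hd⟩ := Ideal.mem_span_singleton'.1 hm
  rw [LieSubalgebra.mem_engel_iff] at hy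
  obtain ⟨N, hN⟩ := hy
  have hkill : ∀ z : P, D z = 0 → g ^ m • z = 0 := by
    intro z hz
    have h1 : T' (i z) = 0 := by simp [T', hπi, hz]
    let b := Pi.basisFun A (Fin n)
    have hmat : (LinearMap.toMatrix b b T').mulVec (b.repr (i z)) = 0 := by
      rw [LinearMap.toMatrix_mulVec_repr, h1]
      simp
    have h2 := congrArg (Matrix.mulVec (LinearMap.toMatrix b b T').adjugate) hmat
    rw [Matrix.mulVec_mulVec, Matrix.adjugate_mul, Matrix.smul_mulVec, Matrix.one_mulVec, Matrix.mulVec_zero,
      LinearMap.det_toMatrix] at h2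
    have h3 : LinearMap.det T' • i z = 0 := by
      apply b.repr.injective
      refine Finsupp.ext fun j => ?_
      rw [map_smul, map_zero, Finsupp.smul_apply]
      exact congrFun h2 j
    have h4 := congrArg π h3
    rw [map_smul, hπi, map_zero] at h4
    rw [← hd, mul_smul, h4, smul_zero]
  have hiter : ∀ (N : ℕ) (z : P), (D ^ N) z = 0 → (g ^ m) ^ N • z = 0 := by
    intro N
    induction N with
    | zero => intro z hz; simpa using hz
    | succ N ih =>
      intro z hz
      rw [pow_succ, Module.End.mul_apply] at hz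
      have := ih _ hz
      rw [← map_smul] at this
      have := hkill _ this
      rwa [← mul_smul, ← pow_succ'] at this
  refine ⟨m * N, ?_⟩
  rw [pow_mul]
  refine (Submodule.Quotient.mk_eq_zero _).1 ?_
  rw [Submodule.Quotient.mk_smul]
  refine hiter N _ ?_
  have : ∀ k, (D ^ k) (H.toSubmodule.mkQ y) = H.toSubmodule.mkQ (((LieAlgebra.ad A L (h : L)) ^ k) y) := by
    intro k
    induction k with
    | zero => simp
    | succ k ih => rw [pow_succ', pow_succ', Module.End.mul_apply, Module.End.mul_apply, ih]; rfl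
  exact (this N).trans (by rw [hN, map_zero])

end Groth.Agent.S8374
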