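import Groth.Statements.S8375
import Groth.Agent.CartanNil.Rank

set_option autoImplicit false
universe u
open scoped TensorProduct
open SGA3t2b

namespace Groth.Agent.S8375

/-- Over an affine base Spec A: let L be a Lie algebra over A which is a finitely generated projective
A-module, such that the nilpotent rank of the fibre Lie algebras κ(p) ⊗ L is a locally constant
function of p ∈ Spec A. Then for every a ∈ L the set of primes p at which 1 ⊗ a is a regular element
of κ(p) ⊗ L is open in Spec A. (The published statement is over an arbitrary base and first asserts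
that the locus of regular elements in the vector bundle of L is open; this row states its
consequence for a given section a, over an affine base.) -/
theorem result {A : Type u} [CommRing A] {L : Type u} [LieRing L]
    [LieAlgebra A L] [Module.Finite A L] [Module.Projective A L]
    (hC0 : ∀ p : PrimeSpectrum A, ∃ f : A, f ∉ p.asIdeal ∧ ∀ q : PrimeSpectrum A, f ∉ q.asIdeal →
        LieAlgebra.rank q.asIdeal.ResidueField (q.asIdeal.ResidueField ⊗[A] L) =
          LieAlgebra.rank p.asIdeal.ResidueField (p.asIdeal.ResidueField ⊗[A] L)) (a : L) :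
    IsOpen {p : PrimeSpectrum A |
      LieAlgebra.IsRegular p.asIdeal.ResidueField ((1 : p.asIdeal.ResidueField) ⊗ₜ[A] a)} := by
  classical
  obtain ⟨n, π, i, -, -, hi⟩ := Module.Finite.exists_comp_eq_id_of_projective A L
  let T' : Module.End A (Fin n → A) := i ∘ₗ LieAlgebra.ad A L a ∘ₗ π
  haveI : Module.FinitePresentation A L := Module.finitePresentation_of_projective A L
  rw [isOpen_iff_forall_mem_open]
  intro p hp
  obtain ⟨f, hfp, hf⟩ := hC0 p
  obtain ⟨U, hU, hpU, hUd⟩ := (IsLocallyConstant.iff_exists_open _).1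
    (Module.isLocallyConstant_rankAtStalk (R := A) (M := L)) p
  let r := LieAlgebra.rank p.asIdeal.ResidueField (p.asIdeal.ResidueField ⊗[A] L)
  let d := Module.rankAtStalk (R := A) L p
  let c := T'.charpoly.coeff (r + (n - d))
  have key : ∀ q : PrimeSpectrum A, f ∉ q.asIdeal → q ∈ U →
      (LieAlgebra.IsRegular q.asIdeal.ResidueField ((1 : q.asIdeal.ResidueField) ⊗ₜ[A] a) ↔ c ∉ q.asIdeal) := by
    intro q hfq hqU
    haveI : Nontrivial A := ⟨⟨0, 1, fun e => q.isPrime.ne_top (q.asIdeal.eq_top_of_isUnit_mem q.asIdeal.zero_mem (e ▸ isUnit_one))⟩⟩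
    let K := q.asIdeal.ResidueField
    have hadq : (LieAlgebra.ad A L a).baseChange K = LieAlgebra.ad K (K ⊗[A] L) ((1 : K) ⊗ₜ[A] a) := by
      refine TensorProduct.AlgebraTensorModule.ext fun c x => ?_
      simp [K, LieAlgebra.ad_apply, LieAlgebra.ExtendScalars.bracket_tmul]
    obtain ⟨k, hk, hχ⟩ := CartanNil.charpoly_split (π.baseChange K) (i.baseChange K)
      (by rw [← LinearMap.baseChange_comp, hi, LinearMap.baseChange_id]) ((LieAlgebra.ad A L a).baseChange K)
    have hd : Module.finrank K (K ⊗[A] L) = d := by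
      exact (Module.rankAtStalk_eq (M := L) q).symm.trans (hUd q hqU)
    have hk' : k = n - d := by
      rw [hd, Module.finrank_baseChange, Module.finrank_pi, Fintype.card_fin] at hk
      omega
    rw [← LinearMap.baseChange_comp, ← LinearMap.baseChange_comp] at hχ
    have h3 : algebraMap A K c = (LieAlgebra.ad K (K ⊗[A] L) ((1 : K) ⊗ₜ[A] a)).charpoly.coeff r := by
      show algebraMap A K (T'.charpoly.coeff (r + (n - d))) = _
      rw [← Polynomial.coeff_map, ← LinearMap.charpoly_baseChange, hχ, hadq, hk', Polynomial.coeff_mul_X_pow]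
    rw [LieAlgebra.isRegular_def, hf q hfq, ← h3, ne_eq]
    exact not_congr Ideal.algebraMap_residueField_eq_zero
  refine ⟨(PrimeSpectrum.basicOpen f : Set (PrimeSpectrum A)) ∩ U ∩ (PrimeSpectrum.basicOpen c : Set (PrimeSpectrum A)),
    fun q hq => (key q hq.1.1 hq.1.2).2 hq.2,
    (((PrimeSpectrum.basicOpen f).isOpen.inter hU).inter (PrimeSpectrum.basicOpen c).isOpen),
    ⟨hfp, hpU⟩, (key p hfp hpU).1 hp⟩

end Groth.Agent.S8375
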