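import Groth.Statements.S8377
import Groth.Agent.CartanNil.Local

set_option autoImplicit false
universe u
open scoped TensorProduct
open SGA3t2b

namespace Groth.Agent.S8377

/-- Let L be a Lie algebra over the commutative ring A which is a finitely generated projective
A-module. Suppose that the nilpotent rank of the fibres κ(p) ⊗ L is locally constant on Spec A, that
for every A-algebra A' every quasi-regular element of A' ⊗ L is regular (condition (C₂)), and that
every fibre κ(p) ⊗ L has a regular element (automatic when every residue field of A is infinite).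
Then L acquires a relative Cartan subalgebra after a faithfully flat etale base change A → A'
(condition (C′₁)). (The published implication (C₂) ⇒ (C′₁) is over an arbitrary base and has no
hypothesis on regular elements of the fibres; this row is over an affine base and assumes every
fibre has a regular element, the case in which the published argument, through the existence of a
Cartan subalgebra Zariski-locally near each such point, is complete.) -/
theorem result {A : Type u} [CommRing A] {L : Type u} [LieRing L]
    [LieAlgebra A L] [Module.Finite A L] [Module.Projective A L]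
    (hC2 : ((∀ p : PrimeSpectrum A, ∃ f : A, f ∉ p.asIdeal ∧ ∀ q : PrimeSpectrum A, f ∉ q.asIdeal →
        LieAlgebra.rank q.asIdeal.ResidueField (q.asIdeal.ResidueField ⊗[A] L) =
          LieAlgebra.rank p.asIdeal.ResidueField (p.asIdeal.ResidueField ⊗[A] L)) ∧
      ∀ (A' : Type u) [CommRing A'] [Algebra A A'] (a' : A' ⊗[A] L),
        SGA3t2b.IsQuasiRegular A' (A' ⊗[A] L) a' → SGA3t2b.IsRegularRel A' (A' ⊗[A] L) a'))
    (hreg : ∀ p : PrimeSpectrum A, ∃ x : p.asIdeal.ResidueField ⊗[A] L, LieAlgebra.IsRegular p.asIdeal.ResidueField x) :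
    ∃ (A' : Type u) (_ : CommRing A') (_ : Algebra A A'), Algebra.Etale A A' ∧ Module.FaithfullyFlat A A' ∧
        ∃ H : LieSubalgebra A' (A' ⊗[A] L), SGA3t2b.IsCartanRel H := by
  classical
  choose g a hg hga using fun p => CartanNil.exists_global_regular p (hC2.1 p) (hreg p)
  obtain ⟨s, hs⟩ : ∃ s : Finset (PrimeSpectrum A), ∀ q : PrimeSpectrum A, ∃ p ∈ s, g p ∉ q.asIdeal := by
    obtain ⟨s, hs⟩ := (isCompact_univ : IsCompact (Set.univ : Set (PrimeSpectrum A))).elim_finite_subcover
      (fun p : PrimeSpectrum A => (PrimeSpectrum.basicOpen (g p) : Set (PrimeSpectrum A)))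
      (fun p => (PrimeSpectrum.basicOpen (g p)).isOpen) (fun q _ => Set.mem_iUnion.2 ⟨q, hg q⟩)
    exact ⟨s, fun q => by simpa using hs (Set.mem_univ q)⟩
  let A' := ∀ p : {p // p ∈ s}, Localization.Away (g p.1)
  let e : {p // p ∈ s} → A' := fun p => Pi.single p 1
  haveI hflat : Module.Flat A A' := inferInstance
  have hsurj : Function.Surjective (PrimeSpectrum.comap (algebraMap A A')) := by
    intro q
    obtain ⟨p, hp, hpq⟩ := hs q
    obtain ⟨Q, hQ⟩ : q ∈ Set.range (PrimeSpectrum.comap (algebraMap A (Localization.Away (g p)))) := by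
      rw [PrimeSpectrum.localization_away_comap_range (Localization.Away (g p)) (g p)]
      exact hpq
    refine ⟨PrimeSpectrum.comap (Pi.evalRingHom (fun p : {p // p ∈ s} => Localization.Away (g p.1)) ⟨p, hp⟩) Q, ?_⟩
    rw [← hQ]
    rfl
  refine ⟨A', inferInstance, inferInstance, inferInstance,
    Module.FaithfullyFlat.of_comap_surjective hsurj, ?_⟩
  obtain ⟨-, H, hH, -⟩ := hC2.2 A' (∑ p, e p ⊗ₜ[A] a p.1) fun Q => by
    let K := Q.asIdeal.ResidueField
    have hsum : ∑ p, e p = 1 := Finset.univ_sum_single (1 : A')
    obtain ⟨p, hp⟩ : ∃ p, e p ∉ Q.asIdeal := by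
      by_contra hne
      push Not at hne
      exact Q.isPrime.ne_top ((Ideal.eq_top_iff_one _).2 (hsum ▸ Ideal.sum_mem _ fun p _ => hne p))
    have hother : ∀ p', p' ≠ p → algebraMap A' K (e p') = 0 := by
      intro p' hne
      rw [Ideal.algebraMap_residueField_eq_zero]
      refine (Q.isPrime.mem_or_mem (x := e p') (y := e p) ?_).resolve_right hp
      rw [show e p' * e p = 0 from funext fun j => by
        rcases eq_or_ne j p with rfl | hj
        · show e p' j * e j j = 0
          simp [e, Pi.single_eq_of_ne hne.symm]
        · show e p' j * e p j = 0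
          simp [e, Pi.single_eq_of_ne hj]]
      exact zero_mem _
    have hone : algebraMap A' K (e p) = 1 := by
      have := congrArg (algebraMap A' K) hsum
      rwa [map_sum, map_one, Finset.sum_eq_single p (fun p' _ h => hother p' h) (by simp)] at this
    have hgp : algebraMap A A' (g p.1) ∉ Q.asIdeal := by
      intro h
      obtain ⟨u, hu⟩ := (IsLocalization.map_units (Localization.Away (g p.1))
        (⟨g p.1, Submonoid.mem_powers _⟩ : Submonoid.powers (g p.1))).exists_right_inv
      refine hp ?_
      have h2 : algebraMap A A' (g p.1) * Pi.single p u = e p := funext fun j => by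
        rcases eq_or_ne j p with rfl | hj
        · rw [Pi.mul_apply, Pi.single_eq_same]
          simp only [e, Pi.single_eq_same]
          exact hu
        · show algebraMap A _ (g p.1) * (Pi.single p u : A') j = e p j
          simp [e, Pi.single_eq_of_ne hj]
      exact h2 ▸ Ideal.mul_mem_right _ _ h
    have hval : (1 : K) ⊗ₜ[A'] (∑ p', e p' ⊗ₜ[A] a p'.1) = (1 : K) ⊗ₜ[A'] ((1 : A') ⊗ₜ[A] a p.1) := by
      apply (TensorProduct.AlgebraTensorModule.cancelBaseChange A A' K K L).injective
      rw [TensorProduct.tmul_sum, map_sum, Finset.sum_eq_single p]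
      · simp [Algebra.smul_def, hone]
      · intro p' _ hne
        simp [Algebra.smul_def, hother p' hne]
      · simp
    rw [hval]
    exact CartanNil.isQuasiRegular_of_away A' (a p.1) (hga p.1) Q hgp
  exact ⟨H, hH⟩

end Groth.Agent.S8377
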