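import Groth.Statements.S8378
import Groth.Agent.CartanNil.Rank

set_option autoImplicit false
universe u
open scoped TensorProduct
open SGA3t2b

namespace Groth.Agent.S8378

/-- Over an affine base Spec A: let L be a Lie algebra over A which is a finitely generated projective
A-module. If for some faithfully flat A-algebra A' the Lie algebra A' ⊗ L has a Cartan subalgebra
relative to A' (condition (C₁)), then the nilpotent rank of the fibres κ(p) ⊗ L is a locally
constant function of p ∈ Spec A (condition (C₀)). -/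
theorem result {A : Type u} [CommRing A] {L : Type u} [LieRing L]
    [LieAlgebra A L] [Module.Finite A L] [Module.Projective A L]
    (hC1 : ∃ (A' : Type u) (_ : CommRing A') (_ : Algebra A A'), Module.FaithfullyFlat A A' ∧
        ∃ H : LieSubalgebra A' (A' ⊗[A] L), SGA3t2b.IsCartanRel H) :
    ∀ p : PrimeSpectrum A, ∃ f : A, f ∉ p.asIdeal ∧ ∀ q : PrimeSpectrum A, f ∉ q.asIdeal →
        LieAlgebra.rank q.asIdeal.ResidueField (q.asIdeal.ResidueField ⊗[A] L) =
          LieAlgebra.rank p.asIdeal.ResidueField (p.asIdeal.ResidueField ⊗[A] L) := by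
  classical
  obtain ⟨A', _, _, hff, H, hproj, hfib⟩ := hC1
  haveI := hproj
  let rk : PrimeSpectrum A → ℕ := fun q =>
    LieAlgebra.rank q.asIdeal.ResidueField (q.asIdeal.ResidueField ⊗[A] L)
  obtain ⟨s, hs⟩ := Module.projective_lifting_property H.toSubmodule.mkQ LinearMap.id
    (Submodule.mkQ_surjective _)
  have hmem : ∀ x, x - s (H.toSubmodule.mkQ x) ∈ H.toSubmodule := fun x => by
    rw [← Submodule.Quotient.eq]
    exact (LinearMap.congr_fun hs (H.toSubmodule.mkQ x)).symm
  let r : A' ⊗[A] L →ₗ[A'] H.toSubmodule :=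
    (LinearMap.id - s ∘ₗ H.toSubmodule.mkQ).codRestrict H.toSubmodule hmem
  have hr : r ∘ₗ H.toSubmodule.subtype = LinearMap.id := by
    refine LinearMap.ext fun x => Subtype.ext ?_
    show (x : A' ⊗[A] L) - s (H.toSubmodule.mkQ (x : A' ⊗[A] L)) = x
    rw [Submodule.mkQ_apply, (Submodule.Quotient.mk_eq_zero _).2 x.2, map_zero, sub_zero]
  haveI : Module.Projective A' H.toSubmodule := Module.Projective.of_split H.toSubmodule.subtype r hr
  haveI : Module.Finite A' H.toSubmodule :=
    Module.Finite.of_surjective r (fun x => ⟨x, LinearMap.congr_fun hr x⟩)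
  have hval : ∀ Q : PrimeSpectrum A', rk (PrimeSpectrum.comap (algebraMap A A') Q) =
      Module.rankAtStalk (R := A') H.toSubmodule Q := by
    intro Q
    let q := PrimeSpectrum.comap (algebraMap A A') Q
    let k := q.asIdeal.ResidueField
    let K := Q.asIdeal.ResidueField
    let j : k →ₐ[A] K := Ideal.ResidueField.mapₐ q.asIdeal Q.asIdeal (Algebra.ofId A A') rfl
    letI : Algebra k K := j.toRingHom.toAlgebra
    haveI : IsScalarTower A k K := IsScalarTower.of_algebraMap_eq fun x => (j.commutes x).symm
    let e₁ := TensorProduct.AlgebraTensorModule.cancelBaseChange A A' K K L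
    let e₂ := TensorProduct.AlgebraTensorModule.cancelBaseChange A k K K L
    have hb₁ : ∀ x y, e₁ ⁅x, y⁆ = ⁅e₁ x, e₁ y⁆ := CartanNil.cancel_bracket A A' K L
    have hb₂ : ∀ x y, e₂ ⁅x, y⁆ = ⁅e₂ x, e₂ y⁆ := CartanNil.cancel_bracket A k K L
    obtain ⟨-, -, hrank⟩ := hfib Q
    have hf : Function.Injective (H.toSubmodule.subtype.baseChange K) := by
      refine Function.LeftInverse.injective (g := r.baseChange K) fun z => ?_
      rw [← LinearMap.comp_apply, ← LinearMap.baseChange_comp, hr, LinearMap.baseChange_id]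
      rfl
    rw [Module.rankAtStalk_eq]
    show LieAlgebra.rank k (k ⊗[A] L) = _
    rw [← CartanNil.rank_baseChange k K, CartanNil.rank_congr e₂ hb₂, ← CartanNil.rank_congr e₁ hb₁, ← hrank]
    exact LinearMap.finrank_range_of_inj hf
  intro p
  have hq : Topology.IsQuotientMap (PrimeSpectrum.comap (algebraMap A A')) :=
    PrimeSpectrum.isQuotientMap_of_generalizingMap PrimeSpectrum.comap_surjective_of_faithfullyFlat
      (RingHom.Flat.generalizingMap_comap (RingHom.flat_algebraMap_iff.2 hff.toFlat))
  have hopen : IsOpen {q | rk q = rk p} := by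
    rw [← hq.isOpen_preimage]
    haveI : Module.FinitePresentation A' H.toSubmodule := Module.finitePresentation_of_projective A' _
    have : PrimeSpectrum.comap (algebraMap A A') ⁻¹' {q | rk q = rk p} =
        (fun Q => Module.rankAtStalk (R := A') H.toSubmodule Q) ⁻¹' {rk p} := by
      ext Q
      simp only [Set.mem_preimage, Set.mem_setOf_eq, Set.mem_singleton_iff, hval]
    rw [this]
    exact Module.isLocallyConstant_rankAtStalk _
  obtain ⟨_, ⟨f, rfl⟩, hpf, hfU⟩ :=
    PrimeSpectrum.isTopologicalBasis_basic_opens.exists_subset_of_mem_open (show p ∈ {q | rk q = rk p} from rfl) hopen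
  exact ⟨f, hpf, fun q hq' => hfU hq'⟩

end Groth.Agent.S8378
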