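import Groth.Statements.S8379
import Groth.Agent.CartanNil.Reduced

set_option autoImplicit false
universe u
open scoped TensorProduct
open SGA3t2b

namespace Groth.Agent.S8379

/-- Over an affine base Spec A with A reduced: let L be a Lie algebra over A which is a finitely
generated projective A-module whose fibres κ(p) ⊗ L have locally constant nilpotent rank on Spec A.
Then for every A-algebra A', every quasi-regular element of A' ⊗ L (regular in every fibre) is
regular: it lies in a Cartan subalgebra of A' ⊗ L relative to A' (over a reduced base, condition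
(C₀) implies condition (C₂)). -/
theorem result {A : Type u} [CommRing A] {L : Type u} [LieRing L]
    [LieAlgebra A L] [Module.Finite A L] [Module.Projective A L] [IsReduced A]
    (hC0 : ∀ p : PrimeSpectrum A, ∃ f : A, f ∉ p.asIdeal ∧ ∀ q : PrimeSpectrum A, f ∉ q.asIdeal →
        LieAlgebra.rank q.asIdeal.ResidueField (q.asIdeal.ResidueField ⊗[A] L) =
          LieAlgebra.rank p.asIdeal.ResidueField (p.asIdeal.ResidueField ⊗[A] L))
    (A' : Type u) [CommRing A'] [Algebra A A'] (a' : A' ⊗[A] L)
    (ha' : SGA3t2b.IsQuasiRegular A' (A' ⊗[A] L) a') :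
    SGA3t2b.IsRegularRel A' (A' ⊗[A] L) a' := by
  classical
  obtain ⟨n, π, i, -, -, hi⟩ := Module.Finite.exists_comp_eq_id_of_projective A L
  let v : Fin n → A' := fun k => TensorProduct.piScalarRight A A' A' (Fin n) (i.baseChange A' a') k
  let zu : MvPolynomial (Fin n) A ⊗[A] L := ∑ k, MvPolynomial.X k ⊗ₜ[A] π (Pi.single k 1)
  have hz : (MvPolynomial.aeval v).toLinearMap.rTensor L zu = a' := by
    have h1 : a' = π.baseChange A' (i.baseChange A' a') := by
      rw [← LinearMap.comp_apply, ← LinearMap.baseChange_comp, hi, LinearMap.baseChange_id]; rfl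
    have h2 : i.baseChange A' a' = ∑ k, v k ⊗ₜ[A] (Pi.single k 1 : Fin n → A) := by
      apply (TensorProduct.piScalarRight A A' A' (Fin n)).injective
      refine funext fun j => ?_
      rw [map_sum, Finset.sum_apply, Finset.sum_eq_single j]
      · simp [v]
      · intro b _ hb
        simp [Pi.single_eq_of_ne hb.symm]
      · simp
    conv_rhs => rw [h1, h2]
    simp [zu, map_sum]
  let T : Module.End A' (A' ⊗[A] L) := LieAlgebra.ad A' (A' ⊗[A] L) a'
  let N := n + 1
  have hloc : ∀ P : PrimeSpectrum A', ∃ c : A', c ∉ P.asIdeal ∧ ∃ G : Module.End A' (A' ⊗[A] L),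
      Commute T G ∧ c • T ^ N = T ^ (2 * N) * G := by
    intro P
    let q : PrimeSpectrum A := PrimeSpectrum.comap (algebraMap A A') P
    obtain ⟨g, hg, hgv⟩ := CartanNil.exists_generic_vanishing π i hi q (hC0 q)
    set m := LieAlgebra.rank q.asIdeal.ResidueField (q.asIdeal.ResidueField ⊗[A] L) +
      (n - Module.rankAtStalk (R := A) L q) with hm
    let T' := CartanNil.extAd π i A' a'
    set χ := T'.charpoly with hχdef
    let K := P.asIdeal.ResidueField
    have hqK : CartanNil.pt A K = q := by
      refine PrimeSpectrum.ext (Ideal.ext fun x => ?_)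
      show algebraMap A K x = 0 ↔ algebraMap A A' x ∈ P.asIdeal
      rw [IsScalarTower.algebraMap_apply A A' K, Ideal.algebraMap_residueField_eq_zero]
    let j : A' →ₐ[A] K := IsScalarTower.toAlgHom A A' K
    have hreg : LieAlgebra.IsRegular K (j.toLinearMap.rTensor L a') := by
      have h1 : ∀ w : A' ⊗[A] L, TensorProduct.AlgebraTensorModule.cancelBaseChange A A' K K L ((1 : K) ⊗ₜ[A'] w) =
          j.toLinearMap.rTensor L w := by
        intro w
        induction w using TensorProduct.induction_on with
        | zero => simp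
        | tmul b l => simp [j, Algebra.smul_def]
        | add x y hx hy => rw [TensorProduct.tmul_add, map_add, map_add, hx, hy]
      rw [← h1, CartanNil.isRegular_congr _ (CartanNil.cancel_bracket A A' K L)]
      exact ha' P
    obtain ⟨hdn, hχK⟩ := CartanNil.extAd_charpoly π i hi K (j.toLinearMap.rTensor L a')
    have hmK : m = LieAlgebra.rank K (K ⊗[A] L) + (n - Module.finrank K (K ⊗[A] L)) := by
      rw [hm, CartanNil.rank_point A L K, CartanNil.finrank_point K, hqK]
    have hcm : χ.coeff m ∉ P.asIdeal := by
      intro h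
      have h2 : algebraMap A' K (χ.coeff m) = 0 := Ideal.algebraMap_residueField_eq_zero.2 h
      rw [hχdef, show algebraMap A' K = j.toRingHom from rfl, ← Polynomial.coeff_map,
        ← CartanNil.extAd_natural π i j, hχK, hmK, Polynomial.coeff_mul_X_pow] at h2
      exact hreg h2
    have hlow : ∀ l, l < m → algebraMap A A' g * χ.coeff l = 0 := by
      intro l hl
      have := congrArg (MvPolynomial.aeval v) (hgv l hl)
      rw [map_mul, map_zero, MvPolynomial.aeval_C] at this
      rw [hχdef, show T' = CartanNil.extAd π i A' ((MvPolynomial.aeval v).toLinearMap.rTensor L zu) by rw [hz],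
        CartanNil.extAd_natural π i (MvPolynomial.aeval v), Polynomial.coeff_map]
      exact this
    obtain ⟨h, hh⟩ : Polynomial.X ^ m ∣ Polynomial.C (algebraMap A A' g) * χ :=
      Polynomial.X_pow_dvd_iff.2 fun l hl => by rw [Polynomial.coeff_C_mul]; exact hlow l hl
    have hh0 : h.coeff 0 = algebraMap A A' g * χ.coeff m := by
      have := congrArg (fun P => Polynomial.coeff P (0 + m)) hh
      simp only [Polynomial.coeff_C_mul, Polynomial.coeff_X_pow_mul] at this
      rw [← this, zero_add]
    have hc : h.coeff 0 ∉ P.asIdeal := by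
      rw [hh0]
      exact fun hmem => (P.isPrime.mem_or_mem hmem).elim hg hcm
    -- Cayley–Hamilton
    have hCH : T' ^ m * Polynomial.aeval T' h = 0 := by
      have := congrArg (Polynomial.aeval T') hh
      rw [map_mul, map_mul, map_pow, Polynomial.aeval_X, LinearMap.aeval_self_charpoly, mul_zero] at this
      exact this.symm
    let p' := π.baseChange A'
    let i' := i.baseChange A'
    have hpi : ∀ w, p' (i' w) = w := fun w => by
      rw [← LinearMap.comp_apply, ← LinearMap.baseChange_comp, hi, LinearMap.baseChange_id]; rfl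
    have hTi : ∀ w, T' (i' w) = i' (T w) := fun w => by
      show i' (T (p' (i' w))) = _
      rw [hpi]
    have hpT : ∀ w, p' (T' w) = T (p' w) := fun w => hpi _
    have hTik : ∀ (k : ℕ) w, (T' ^ k) (i' w) = i' ((T ^ k) w) := by
      intro k
      induction k with
      | zero => simp
      | succ k ih => intro w; rw [pow_succ', pow_succ', Module.End.mul_apply, Module.End.mul_apply, ih, hTi]
    have hpTk : ∀ (k : ℕ) w, p' ((T' ^ k) w) = (T ^ k) (p' w) := by
      intro k
      induction k with
      | zero => simp
      | succ k ih => intro w; rw [pow_succ', pow_succ', Module.End.mul_apply, Module.End.mul_apply, hpT, ih]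
    let G' : Module.End A' (A' ⊗[A] (Fin n → A)) := -Polynomial.aeval T' h.divX
    let G : Module.End A' (A' ⊗[A] L) := p' ∘ₗ G' ∘ₗ i'
    have hcG' : Commute T' G' := by
      have := ((Commute.all (Polynomial.X : Polynomial A') h.divX).map (Polynomial.aeval T')).neg_right
      rwa [Polynomial.aeval_X] at this
    have hcG : Commute T G := by
      refine LinearMap.ext fun w => ?_
      show T (p' (G' (i' w))) = p' (G' (i' (T w)))
      rw [← hpT, ← hTi, ← Module.End.mul_apply, hcG'.eq, Module.End.mul_apply]
    have hstep : h.coeff 0 • T ^ m = T ^ (m + 1) * G := by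
      refine LinearMap.ext fun w => ?_
      have e1 : Polynomial.aeval T' h = T' * Polynomial.aeval T' h.divX + h.coeff 0 • 1 := by
        conv_lhs => rw [← Polynomial.X_mul_divX_add h]
        rw [map_add, map_mul, Polynomial.aeval_X, Polynomial.aeval_C, Algebra.algebraMap_eq_smul_one]
      rw [e1, mul_add, mul_smul_comm, mul_one, ← mul_assoc, ← pow_succ] at hCH
      have e2 : h.coeff 0 • T' ^ m = T' ^ (m + 1) * G' := by
        show _ = _ * -_
        refine Eq.trans ?_ (mul_neg (T' ^ (m + 1)) (Polynomial.aeval T' h.divX)).symm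
        exact eq_neg_of_add_eq_zero_right hCH
      have := congrArg p' (LinearMap.congr_fun e2 (i' w))
      rw [LinearMap.smul_apply, map_smul, hTik, hpi, Module.End.mul_apply, hpTk] at this
      exact this
    have hiter : ∀ k, h.coeff 0 ^ k • T ^ m = T ^ (m + k) * G ^ k := by
      intro k
      induction k with
      | zero => simp
      | succ k ih =>
        rw [pow_succ, mul_smul, hstep, ← smul_mul_assoc, pow_succ T m, ← smul_mul_assoc, ih, mul_assoc, mul_assoc,
          ← mul_assoc (G ^ k) T, ← (hcG.pow_right k).eq, ← mul_assoc, ← mul_assoc, ← pow_succ, mul_assoc,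
          ← pow_succ, add_assoc]
    have hmN : m ≤ N := by
      have := LieAlgebra.rank_le_finrank K (K ⊗[A] L)
      omega
    refine ⟨h.coeff 0 ^ N, fun hmem => hc (P.isPrime.mem_of_pow_mem _ hmem), G ^ N, hcG.pow_right N, ?_⟩
    rw [show N = (N - m) + m by omega, pow_add T, ← mul_smul_comm, show (N - m) + m = N by omega, hiter N,
      ← mul_assoc, ← pow_add, show N - m + (m + N) = 2 * N by omega]
  obtain ⟨h1, h2, h3⟩ := CartanNil.engel_split (A := A') (N := N) (Nat.succ_pos n) a'
    (fun y hy => by
      by_contra hne
      let I : Ideal A' := (Submodule.span A' {(T ^ N) y}).annihilator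
      have hI : I ≠ ⊤ := fun ht => hne (by
        have := (Submodule.mem_annihilator_span_singleton _ _).1 (show (1 : A') ∈ I by rw [ht]; trivial)
        rwa [one_smul] at this)
      obtain ⟨M, hM, hle⟩ := Ideal.exists_le_maximal I hI
      obtain ⟨c, hc, G, hG, hGe⟩ := hloc ⟨M, hM.isPrime⟩
      refine hc (hle ((Submodule.mem_annihilator_span_singleton _ _).2 ?_))
      have := LinearMap.congr_fun hGe y
      rw [LinearMap.smul_apply, (hG.pow_left (2 * N)).eq, Module.End.mul_apply] at this
      rw [this]
      show G ((LieAlgebra.ad A' (A' ⊗[A] L) a' ^ (2 * N)) y) = 0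
      rw [hy, map_zero])
    (fun y => by
      by_contra hne
      let I : Ideal A' := (LinearMap.range (T ^ (2 * N))).comap (LinearMap.toSpanSingleton A' _ ((T ^ N) y))
      have hI : I ≠ ⊤ := fun ht => hne (by
        have : (1 : A') ∈ I := by rw [ht]; trivial
        simpa [I] using this)
      obtain ⟨M, hM, hle⟩ := Ideal.exists_le_maximal I hI
      obtain ⟨c, hc, G, -, hGe⟩ := hloc ⟨M, hM.isPrime⟩
      refine hc (hle ?_)
      show c • (T ^ N) y ∈ LinearMap.range (T ^ (2 * N))
      exact ⟨G y, (LinearMap.congr_fun hGe y).symm⟩)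
  exact ⟨ha', _, CartanNil.isCartanRel_engel ha' h1 h2 h3, LieSubalgebra.self_mem_engel A' a'⟩

end Groth.Agent.S8379
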