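import Groth.Statements.S8383
import Mathlib
-- import your own Groth.Agent.* helpers here

set_option autoImplicit false
universe u
open scoped TensorProduct
open SGA3t2b

namespace Groth.Agent.S8383

/-- Let k be a finite field with algebraic closure K, V a finite-dimensional vector space over k, and
θ₁, …, θₙ a basis of the dual of the K-vector space K ⊗ V. Then there is x ∈ V with θᵢ(1 ⊗ x) ≠ 0
for every i. -/
theorem result (k : Type u) [Field k] [Finite k]
    (V : Type u) [AddCommGroup V] [Module k V] [Module.Finite k V] {ι : Type} [Fintype ι]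
    (θ : Module.Basis ι (AlgebraicClosure k) (Module.Dual (AlgebraicClosure k) (AlgebraicClosure k ⊗[k] V))) :
    ∃ x : V, ∀ i : ι, θ i ((1 : AlgebraicClosure k) ⊗ₜ[k] x) ≠ 0 := by
  classical
  let K := AlgebraicClosure k
  let b0 := Module.finBasis k V
  have hcard : Fintype.card ι = Module.finrank k V := by
    rw [← Module.finrank_eq_card_basis θ, Subspace.dual_finrank_eq, Module.finrank_baseChange]
  let e : Module.Basis ι k V := b0.reindex (Fintype.equivFinOfCardEq hcard).symm
  let eK : Module.Basis ι K (K ⊗[k] V) := e.baseChange K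
  let a : Matrix ι ι K := Matrix.of fun i j => θ i ((1 : K) ⊗ₜ[k] e j)
  have ha : a.det ≠ 0 := by
    rw [← isUnit_iff_ne_zero, ← Matrix.isUnit_iff_isUnit_det,
      ← Matrix.linearIndependent_rows_iff_isUnit, Fintype.linearIndependent_iff]
    intro g hg i
    refine Fintype.linearIndependent_iff.1 θ.linearIndependent g (eK.ext fun j => ?_) i
    have := congrFun hg j
    simpa [a, eK, Matrix.row] using this
  let W : Submodule k K := Submodule.span k (Set.range fun p : ι × ι => a p.1 p.2)
  haveI : Module.Finite k W := Module.Finite.span_of_finite k (Set.finite_range _)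
  let ω := Module.finBasis k W
  let c : ι → ι → Fin (Module.finrank k W) → k :=
    fun i j l => ω.repr ⟨a i j, Submodule.subset_span ⟨(i, j), rfl⟩⟩ l
  have hc : ∀ i j, a i j = ∑ l, c i j l • (ω l : K) := fun i j => by
    have := congrArg Subtype.val (ω.sum_repr ⟨a i j, Submodule.subset_span ⟨(i, j), rfl⟩⟩)
    rw [AddSubmonoidClass.coe_finsetSum] at this
    exact this.symm
  obtain ⟨r, hr⟩ : ∃ r : ι → Fin (Module.finrank k W), (Matrix.of fun i j => c i j (r i)).det ≠ 0 := by
    by_contra hno
    push Not at hno
    refine ha ?_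
    let D : AlternatingMap K (ι → K) K ι := Matrix.detRowAlternating
    have h1 : a.det = D.toMultilinearMap fun i => ∑ l, (ω l : K) • (fun j => algebraMap k K (c i j l)) := by
      show D.toMultilinearMap a = _
      congr 1
      funext i j
      rw [hc i j, Finset.sum_apply]
      refine Finset.sum_congr rfl fun l _ => ?_
      rw [Pi.smul_apply, smul_eq_mul, Algebra.smul_def, mul_comm]
    rw [h1, MultilinearMap.map_sum]
    refine Finset.sum_eq_zero fun r _ => ?_
    rw [MultilinearMap.map_smul_univ]
    have : (Matrix.of fun i j => algebraMap k K (c i j (r i))).det = 0 := by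
      have := (RingHom.map_det (algebraMap k K) (Matrix.of fun i j => c i j (r i))).symm
      rw [hno r, map_zero] at this
      exact this
    show _ • (Matrix.of fun i j => algebraMap k K (c i j (r i))).det = 0
    rw [this, smul_zero]
  let C : Matrix ι ι k := Matrix.of fun i j => c i j (r i)
  let x0 : ι → k := C⁻¹.mulVec fun _ => 1
  refine ⟨∑ j, x0 j • e j, fun i hi => ?_⟩
  have h2 : θ i ((1 : K) ⊗ₜ[k] ∑ j, x0 j • e j) = ∑ l, (∑ j, x0 j * c i j l) • (ω l : K) := by
    rw [TensorProduct.tmul_sum, map_sum]
    simp only [Finset.sum_smul, ← smul_smul]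
    rw [Finset.sum_comm]
    refine Finset.sum_congr rfl fun j _ => ?_
    rw [TensorProduct.tmul_smul, ← algebraMap_smul K (x0 j) ((1 : K) ⊗ₜ[k] e j), map_smul,
      algebraMap_smul, ← Finset.smul_sum, ← hc]
    rfl
  rw [h2] at hi
  have h3 : ∀ l, (∑ j, x0 j * c i j l) = 0 := by
    refine Fintype.linearIndependent_iff.1 ω.linearIndependent _ (Subtype.ext ?_)
    rw [AddSubmonoidClass.coe_finsetSum]
    exact hi
  have h4 : (C.mulVec x0) i = 1 := by
    rw [Matrix.mulVec_mulVec, Matrix.mul_nonsing_inv C (isUnit_iff_ne_zero.2 hr), Matrix.one_mulVec]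
  refine one_ne_zero (h4.symm.trans ?_)
  rw [← h3 (r i)]
  exact Finset.sum_congr rfl fun j _ => mul_comm _ _

end Groth.Agent.S8383
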