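import Groth.Statements.S8384
import Mathlib.RingTheory.AdicCompletion.RingHom

set_option autoImplicit false
set_option backward.isDefEq.respectTransparency false
set_option backward.isDefEq.respectTransparency.types false
universe u
open CategoryTheory MonoidalCategory CartesianMonoidalCategory MonObj GrpObj AlgebraicGeometry
open SGA3x

namespace Groth.Agent.S8384

theorem eq_top_of_closedPoint_mem {A : Type u} [CommRing A] [IsLocalRing A] (O : (Spec (CommRingCat.of A)).Opens)
    (h : (IsLocalRing.closedPoint A : PrimeSpectrum A) ∈ O) (t : Spec (CommRingCat.of A)) : t ∈ O :=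
  ((PrimeSpectrum.le_iff_specializes (t : PrimeSpectrum A) (IsLocalRing.closedPoint A)).1
    (IsLocalRing.le_maximalIdeal t.isPrime.ne_top)).mem_open O.2 h

theorem closedPoint_mem_range {A : Type u} [CommRing A] [IsLocalRing A] (n : ℕ) (hn : n ≠ 0) :
    ∃ p : Spec (CommRingCat.of (A ⧸ IsLocalRing.maximalIdeal A ^ n)),
      Spec.map (CommRingCat.ofHom (Ideal.Quotient.mk (IsLocalRing.maximalIdeal A ^ n))) p =
        (IsLocalRing.closedPoint A : PrimeSpectrum A) := by
  have : (IsLocalRing.closedPoint A : PrimeSpectrum A) ∈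
      Set.range (PrimeSpectrum.comap (Ideal.Quotient.mk (IsLocalRing.maximalIdeal A ^ n))) := by
    rw [range_comap_of_surjective _ _ Ideal.Quotient.mk_surjective, Ideal.mk_ker]
    exact Ideal.pow_le_self hn
  exact this

theorem subsingleton_primes {A : Type u} [CommRing A] [IsLocalRing A] (n : ℕ)
    (p : Spec (CommRingCat.of (A ⧸ IsLocalRing.maximalIdeal A ^ n))) :
    Spec.map (CommRingCat.ofHom (Ideal.Quotient.mk (IsLocalRing.maximalIdeal A ^ n))) p =
      (IsLocalRing.closedPoint A : PrimeSpectrum A) := by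
  let P : PrimeSpectrum A := PrimeSpectrum.comap (Ideal.Quotient.mk (IsLocalRing.maximalIdeal A ^ n)) p
  show P = _
  have hle : IsLocalRing.maximalIdeal A ≤ P.asIdeal := fun x hx => by
    refine P.isPrime.mem_of_pow_mem n ?_
    show Ideal.Quotient.mk _ (x ^ n) ∈ p.asIdeal
    rw [Ideal.Quotient.eq_zero_iff_mem.2 (Ideal.pow_mem_pow hx n)]
    exact zero_mem _
  exact PrimeSpectrum.ext ((IsLocalRing.maximalIdeal.isMaximal A).eq_of_le P.isPrime.ne_top hle).symm

/-- Let A be a local ring, separated and complete for the topology defined by its maximal ideal m, S =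
Spec A and Sₙ = Spec(A/mⁿ). Then for every scheme X the canonical map Hom(S, X) → lim Hom(Sₙ, X) is
bijective: two morphisms S → X that agree on every Sₙ are equal, and every family of morphisms Sₙ →
X compatible with the closed immersions Sₙ → Sₙ₊₁ is induced by a morphism S → X. -/
theorem result (A : Type u) [CommRing A] [IsLocalRing A]
    [IsAdicComplete (IsLocalRing.maximalIdeal A) A] (X : Scheme.{u}) :
    (∀ f g : (Spec (CommRingCat.of A)) ⟶ X,
      (∀ n : ℕ, (Spec.map (CommRingCat.ofHom (Ideal.Quotient.mk ((IsLocalRing.maximalIdeal A) ^ n)))) ≫ f = (Spec.map (CommRingCat.ofHom (Ideal.Quotient.mk ((IsLocalRing.maximalIdeal A) ^ n)))) ≫ g) → f = g) ∧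
    (∀ u : (n : ℕ) → (Spec (CommRingCat.of (A ⧸ (IsLocalRing.maximalIdeal A) ^ n)) ⟶ X),
      (∀ n : ℕ, (Spec.map (CommRingCat.ofHom (Ideal.Quotient.factor
          (Ideal.pow_le_pow_right (I := (IsLocalRing.maximalIdeal A)) (Nat.le_succ n))))) ≫ u (n + 1) = u n) →
      ∃ f : (Spec (CommRingCat.of A)) ⟶ X, ∀ n : ℕ, (Spec.map (CommRingCat.ofHom (Ideal.Quotient.mk ((IsLocalRing.maximalIdeal A) ^ n)))) ≫ f = u n) := by
  let m := IsLocalRing.maximalIdeal A
  let mk : ∀ n : ℕ, CommRingCat.of A ⟶ CommRingCat.of (A ⧸ m ^ n) := fun n => CommRingCat.ofHom (Ideal.Quotient.mk _)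
  haveI : ∀ n, IsClosedImmersion (Spec.map (mk n)) := fun n =>
    IsClosedImmersion.spec_of_surjective _ Ideal.Quotient.mk_surjective
  refine ⟨fun f g h => ?_, fun u hu => ?_⟩
  · obtain ⟨W, hW, hxW, -⟩ :=
      exists_isAffineOpen_mem_and_subset (x := f (IsLocalRing.closedPoint A)) (U := ⊤) trivial
    have hgx : g (IsLocalRing.closedPoint A) ∈ W := by
      obtain ⟨p, hp⟩ := closedPoint_mem_range (A := A) 1 one_ne_zero
      rw [← hp, ← Scheme.Hom.comp_apply, ← h 1, Scheme.Hom.comp_apply, hp]
      exact hxW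
    have hr : ∀ k : Spec (CommRingCat.of A) ⟶ X, k (IsLocalRing.closedPoint A) ∈ W →
        Set.range k ⊆ Set.range hW.fromSpec := fun k hk => by
      rw [hW.range_fromSpec]
      rintro _ ⟨t, rfl⟩
      exact eq_top_of_closedPoint_mem (k ⁻¹ᵁ W) hk t
    obtain ⟨a, ha⟩ := Spec.map_surjective (IsOpenImmersion.lift hW.fromSpec f (hr f hxW))
    obtain ⟨b, hb⟩ := Spec.map_surjective (IsOpenImmersion.lift hW.fromSpec g (hr g hgx))
    have ha' : Spec.map a ≫ hW.fromSpec = f := by rw [ha, IsOpenImmersion.lift_fac]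
    have hb' : Spec.map b ≫ hW.fromSpec = g := by rw [hb, IsOpenImmersion.lift_fac]
    have hab : ∀ n, a ≫ mk n = b ≫ mk n := fun n => Spec.map_injective ((cancel_mono hW.fromSpec).1 (by
      rw [Spec.map_comp, Spec.map_comp, Category.assoc, Category.assoc, ha', hb']
      exact h n))
    rw [← ha', ← hb']
    congr 2
    refine CommRingCat.hom_ext (RingHom.ext fun x => ?_)
    refine IsHausdorff.eq_iff_smodEq (I := m) (M := A) |>.2 fun n => ?_
    rw [smul_eq_mul, Ideal.mul_top, SModEq.sub_mem, ← Ideal.Quotient.eq]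
    exact congrArg (fun k => k.hom x) (hab n)
  · obtain ⟨p₁, hp₁⟩ := closedPoint_mem_range (A := A) 1 one_ne_zero
    obtain ⟨W, hW, hxW, -⟩ := exists_isAffineOpen_mem_and_subset (x := u 1 p₁) (U := ⊤) trivial
    have hstep : ∀ (n : ℕ) (p : Spec (CommRingCat.of (A ⧸ m ^ n))), u n p ∈ W := by
      intro n
      induction n with
      | zero =>
        intro p
        exfalso
        have h1 : (1 : A ⧸ m ^ 0) = 0 := by
          rw [← map_one (Ideal.Quotient.mk (m ^ 0)), Ideal.Quotient.eq_zero_iff_mem, pow_zero, Ideal.one_eq_top]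
          trivial
        refine p.isPrime.ne_top ((Ideal.eq_top_iff_one _).2 ?_)
        show (1 : A ⧸ m ^ 0) ∈ p.asIdeal
        rw [h1]
        exact zero_mem _
      | succ n ih =>
        intro p
        rcases n with _ | n
        · have : p = p₁ := by
            apply (Spec.map (mk 1)).isEmbedding.injective
            exact (subsingleton_primes _ p).trans (subsingleton_primes _ p₁).symm
          rw [this]
          exact hxW
        · obtain ⟨p', hp'⟩ := closedPoint_mem_range (A := A) (n + 1) n.succ_ne_zero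
          have : p = Spec.map (CommRingCat.ofHom (Ideal.Quotient.factor
              (Ideal.pow_le_pow_right (I := m) (Nat.le_succ (n + 1))))) p' := by
            apply (Spec.map (mk (n + 1 + 1))).isEmbedding.injective
            exact (subsingleton_primes _ p).trans (subsingleton_primes _ _).symm
          rw [this, ← Scheme.Hom.comp_apply, hu (n + 1)]
          exact ih p'
    have hr : ∀ n, Set.range (u n) ⊆ Set.range hW.fromSpec := fun n => by
      rw [hW.range_fromSpec]
      rintro _ ⟨p, rfl⟩
      exact hstep n p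
    choose ψ hψ using fun n => Spec.map_surjective (IsOpenImmersion.lift hW.fromSpec (u n) (hr n))
    have hψ' : ∀ n, Spec.map (ψ n) ≫ hW.fromSpec = u n := fun n => by rw [hψ, IsOpenImmersion.lift_fac]
    have hfac : ∀ n, ψ (n + 1) ≫ CommRingCat.ofHom (Ideal.Quotient.factor
        (Ideal.pow_le_pow_right (I := m) (Nat.le_succ n))) = ψ n := fun n =>
      Spec.map_injective ((cancel_mono hW.fromSpec).1 (by rw [Spec.map_comp, Category.assoc, hψ', hψ', hu n]))
    have hcompat : ∀ {a b : ℕ} (hle : a ≤ b),
        (Ideal.Quotient.factorPow m hle).comp (ψ b).hom = (ψ a).hom := fun {a b} hle => by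
      induction hle with
      | refl => exact RingHom.ext fun x => by simp
      | @step b hab ih =>
        refine RingHom.ext fun x => ?_
        have h1 := congrArg (fun k => k.hom x) (hfac b)
        rw [← ih]
        simp only [RingHom.comp_apply]
        rw [← h1]
        obtain ⟨y, hy⟩ := Ideal.Quotient.mk_surjective ((ψ (b + 1)).hom x)
        simp only [CommRingCat.hom_comp, RingHom.comp_apply, CommRingCat.hom_ofHom]
        rw [← hy]
        rfl
    let φ : Γ(X, W) ⟶ CommRingCat.of A :=
      CommRingCat.ofHom (IsAdicComplete.liftRingHom m (fun n => (ψ n).hom) hcompat)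
    refine ⟨Spec.map φ ≫ hW.fromSpec, fun n => ?_⟩
    rw [← Category.assoc, ← Spec.map_comp,
      show φ ≫ CommRingCat.ofHom (Ideal.Quotient.mk _) = ψ n from
        CommRingCat.hom_ext (IsAdicComplete.mk_comp_liftRingHom m _ hcompat n), hψ']

end Groth.Agent.S8384
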