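import Groth.Statements.S8385
import Groth.Agent.FormalHomLib.FiniteLim

set_option autoImplicit false
set_option backward.isDefEq.respectTransparency false
set_option backward.isDefEq.respectTransparency.types false
universe u
open CategoryTheory MonoidalCategory CartesianMonoidalCategory MonObj GrpObj AlgebraicGeometry
open SGA3x

namespace Groth.Agent.S8385

/-- Let A be a complete Noetherian local ring with maximal ideal m, S = Spec A, Sₙ = Spec(A/mⁿ), X =
Spec B a scheme finite over S (B a finite A-algebra) and Y an S-scheme. Then the canonical map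
Hom_S(X, Y) → lim Hom_{Sₙ}(Xₙ, Yₙ), Xₙ = Spec(B/mⁿB), is bijective: two S-morphisms X → Y agreeing
on every Xₙ are equal, and every family of S-morphisms Xₙ → Y compatible with the closed immersions
Xₙ → Xₙ₊₁ comes from an S-morphism X → Y. -/
theorem result (A : Type u) [CommRing A] [IsLocalRing A]
    [IsNoetherianRing A] [IsAdicComplete (IsLocalRing.maximalIdeal A) A] (B : Type u) [CommRing B] [Algebra A B]
    [Module.Finite A B] (Y : Over (Spec (CommRingCat.of A))) :
    (∀ f g : Spec (CommRingCat.of B) ⟶ Y.left, f ≫ Y.hom = Spec.map (CommRingCat.ofHom (algebraMap A B)) →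
      g ≫ Y.hom = Spec.map (CommRingCat.ofHom (algebraMap A B)) →
      (∀ n : ℕ, Spec.map (CommRingCat.ofHom (Ideal.Quotient.mk (Ideal.map (algebraMap A B) ((IsLocalRing.maximalIdeal A) ^ n)))) ≫ f =
        Spec.map (CommRingCat.ofHom (Ideal.Quotient.mk (Ideal.map (algebraMap A B) ((IsLocalRing.maximalIdeal A) ^ n)))) ≫ g) → f = g) ∧
    (∀ u : (n : ℕ) → (Spec (CommRingCat.of (B ⧸ (Ideal.map (algebraMap A B) ((IsLocalRing.maximalIdeal A) ^ n)))) ⟶ Y.left),
      (∀ n : ℕ, u n ≫ Y.hom =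
        Spec.map (CommRingCat.ofHom ((Ideal.Quotient.mk (Ideal.map (algebraMap A B) ((IsLocalRing.maximalIdeal A) ^ n))).comp (algebraMap A B)))) →
      (∀ n : ℕ, Spec.map (CommRingCat.ofHom (Ideal.Quotient.factor
          (Ideal.map_mono (Ideal.pow_le_pow_right (I := (IsLocalRing.maximalIdeal A)) (Nat.le_succ n))))) ≫ u (n + 1) = u n) →
      ∃ f : Spec (CommRingCat.of B) ⟶ Y.left, f ≫ Y.hom = Spec.map (CommRingCat.ofHom (algebraMap A B)) ∧
        ∀ n : ℕ, Spec.map (CommRingCat.ofHom (Ideal.Quotient.mk (Ideal.map (algebraMap A B) ((IsLocalRing.maximalIdeal A) ^ n)))) ≫ f = u n) := by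
  have key : ∀ (K : ℕ → Ideal B) (hmono : ∀ n, K (n + 1) ≤ K n),
      (K = fun n => ((IsLocalRing.maximalIdeal A).map (algebraMap A B)) ^ n) →
      (∀ (X : Scheme.{u}) (f g : Spec (CommRingCat.of B) ⟶ X),
        (∀ n, Spec.map (CommRingCat.ofHom (Ideal.Quotient.mk (K n))) ≫ f =
          Spec.map (CommRingCat.ofHom (Ideal.Quotient.mk (K n))) ≫ g) → f = g) ∧
      (∀ u : (n : ℕ) → (Spec (CommRingCat.of (B ⧸ K n)) ⟶ Y.left),
        (∀ n, Spec.map (CommRingCat.ofHom (Ideal.Quotient.factor (hmono n))) ≫ u (n + 1) = u n) →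
        ∃ f : Spec (CommRingCat.of B) ⟶ Y.left,
          ∀ n, Spec.map (CommRingCat.ofHom (Ideal.Quotient.mk (K n))) ≫ f = u n) := by
    intro K hmono hK
    subst hK
    exact ⟨fun X f g h => Groth.Agent.FormalHomLib.finite_hom_ext A B f g h,
      fun u hu => Groth.Agent.FormalHomLib.finite_hom_lift A B u hu⟩
  obtain ⟨h1, h2⟩ := key (fun n => Ideal.map (algebraMap A B) ((IsLocalRing.maximalIdeal A) ^ n))
    (fun n => Ideal.map_mono (Ideal.pow_le_pow_right (Nat.le_succ n)))
    (funext fun n => Ideal.map_pow (algebraMap A B) _ n)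
  refine ⟨fun f g _ _ h => h1 _ f g h, fun u hu0 hu => ?_⟩
  obtain ⟨f, hf⟩ := h2 u hu
  refine ⟨f, h1 _ _ _ fun n => ?_, hf⟩
  rw [← Category.assoc, hf n, hu0 n, ← Spec.map_comp, ← CommRingCat.ofHom_comp]

end Groth.Agent.S8385
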