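import Groth.Statements.S8388
import Groth.Agent.FormalHomLib.MultHom
import Groth.Agent.SmoothHomLift.Bridge
import Groth.Agent.HopfKer.Global

set_option autoImplicit false
set_option backward.isDefEq.respectTransparency false
set_option backward.isDefEq.respectTransparency.types false
set_option maxHeartbeats 800000
set_option synthInstance.maxHeartbeats 400000
set_option linter.style.haveILetI false
universe u
open CategoryTheory MonoidalCategory CartesianMonoidalCategory MonObj GrpObj AlgebraicGeometry
open SGA3x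

namespace Groth.Agent.S8388

/-- Let A be a complete Noetherian local ring with residue field k, S = Spec A, S₀ = Spec k the closed
point, M an S-group scheme finite over S and of multiplicative type, and G an S-group scheme smooth
over S. Then every homomorphism of S₀-groups u₀ : M₀ → G₀ between the closed fibres is the
restriction of a homomorphism of S-groups u : M → G; and if u, u′ : M → G are homomorphisms with the
same restriction to S₀, there is g ∈ G(S) restricting to the unit of G(S₀) with u′ = int(g) ∘ u. -/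
theorem result (A : Type u) [CommRing A]
    [IsLocalRing A] [IsNoetherianRing A] [IsAdicComplete (IsLocalRing.maximalIdeal A) A]
    (M : Over (Spec (CommRingCat.of A))) [GrpObj M] [IsFinite M.hom] (hM : SGA3x.IsMultTypeFT M)
    (G : Over (Spec (CommRingCat.of A))) [GrpObj G] [Smooth G.hom] :
    (∀ (u₀ : Red.bc (Spec.map (CommRingCat.ofHom (Ideal.Quotient.mk (IsLocalRing.maximalIdeal A)))) M ⟶ Red.bc (Spec.map (CommRingCat.ofHom (Ideal.Quotient.mk (IsLocalRing.maximalIdeal A)))) G) [IsMonHom u₀],
      ∃ u : M ⟶ G, IsMonHom u ∧ (Over.pullback (Spec.map (CommRingCat.ofHom (Ideal.Quotient.mk (IsLocalRing.maximalIdeal A))))).map u = u₀) ∧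
    (∀ (u u' : M ⟶ G) [IsMonHom u] [IsMonHom u'],
      (Over.pullback (Spec.map (CommRingCat.ofHom (Ideal.Quotient.mk (IsLocalRing.maximalIdeal A))))).map u = (Over.pullback (Spec.map (CommRingCat.ofHom (Ideal.Quotient.mk (IsLocalRing.maximalIdeal A))))).map u' →
      ∃ g : 𝟙_ (Over (Spec (CommRingCat.of A))) ⟶ G,
        (Over.pullback (Spec.map (CommRingCat.ofHom (Ideal.Quotient.mk (IsLocalRing.maximalIdeal A))))).map g = toUnit _ ≫ η[Red.bc (Spec.map (CommRingCat.ofHom (Ideal.Quotient.mk (IsLocalRing.maximalIdeal A)))) G] ∧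
        ∀ (X : Over (Spec (CommRingCat.of A))) (x : X ⟶ M), x ≫ u' = (toUnit X ≫ g) * (x ≫ u) * (toUnit X ≫ g)⁻¹) := by
  let t : Spec (CommRingCat.of (A ⧸ IsLocalRing.maximalIdeal A)) ⟶ Spec (CommRingCat.of A) :=
    SmoothHomLift.bq A (A ⧸ IsLocalRing.maximalIdeal A)
  haveI : IsAffineHom M.hom := inferInstance
  obtain ⟨B, _, _, ⟨e⟩⟩ := MultBridge.exists_hopf A M
  obtain ⟨-, hB⟩ := SmoothHomLift.isMultType_of_FT hM e
  haveI : Module.Finite A B := by
    have h := MultBridge.prop_algebraMap e @IsFinite inferInstance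
    rw [IsFinite.SpecMap_iff] at h
    exact RingHom.finite_algebraMap.1 h
  let W := (Spec (CommRingCat.of B)).asOver (Spec (CommRingCat.of A))
  let i : W ≅ M := (Grp.forget _).mapIso e
  haveI : IsMonHom i.hom := e.hom.hom.isMonHom_hom
  haveI : IsMonHom i.inv := e.inv.hom.isMonHom_hom
  refine ⟨fun u₀ _ => ?_, fun u u' _ _ h => ?_⟩
  · haveI : IsMonHom ((Over.pullback t).map i.hom) := inferInstance
    let g₀ : Red.bc t W ⟶ Red.bc t G := (Over.pullback t).map i.hom ≫ u₀
    obtain ⟨f, hf, hfg⟩ := FormalHomLib.exists_hom (G := G) hB g₀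
    refine ⟨i.inv ≫ f, inferInstance, ?_⟩
    show (Over.pullback t).map (i.inv ≫ f) = u₀
    rw [Functor.map_comp, hfg]
    show (Over.pullback t).map i.inv ≫ (Over.pullback t).map i.hom ≫ u₀ = u₀
    rw [← Category.assoc, ← Functor.map_comp, i.inv_hom_id, CategoryTheory.Functor.map_id]
    exact Category.id_comp _
  · have hW : SGA3x.IsMultTypeFT W := HopfKer.isMultTypeFT_spec hB inferInstance
    obtain ⟨g, hg, hc⟩ := FormalHomLib.exists_conj (G := G)
      (TrivAct.hasSplitCovers_of_isMultTypeLoc (.of_isMultTypeFT hW)) (i.hom ≫ u) (i.hom ≫ u')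
      (by rw [Functor.map_comp, Functor.map_comp]; exact congrArg (_ ≫ ·) h)
    refine ⟨g, ?_, fun X x => ?_⟩
    · show ((Over.pullback t).map g : (Over.pullback t).obj (𝟙_ _) ⟶ Red.bc t G) = toUnit _ ≫ η[Red.bc t G]
      rw [show (toUnit _ ≫ η[Red.bc t G] : (Over.pullback t).obj (𝟙_ _) ⟶ Red.bc t G) = 1 from rfl]
      apply (FixedSmooth.adjEquiv t G _).symm.injective
      rw [map_one]
      let k : (Over.map t).obj ((Over.pullback t).obj (𝟙_ (Over (Spec (CommRingCat.of A))))) ⟶ Over.mk t :=
        Over.homMk ((Over.pullback t).obj (𝟙_ (Over (Spec (CommRingCat.of A))))).hom rfl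
      have e1 : (FixedSmooth.adjEquiv t G ((Over.pullback t).obj (𝟙_ _))).symm
          ((Over.pullback t).map g : (Over.pullback t).obj (𝟙_ _) ⟶ Red.bc t G) =
          k ≫ toUnit (Over.mk t) ≫ g := by
        show ((Over.mapPullbackAdj t).homEquiv _ G).symm ((Over.pullback t).map g) = _
        rw [Adjunction.homEquiv_counit]
        refine ((Over.mapPullbackAdj t).counit.naturality g).trans ?_
        show (Over.mapPullbackAdj t).counit.app _ ≫ g = _
        rw [← Category.assoc k]
        congr 1
        exact toUnit_unique _ _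
      rw [e1, hg]
      exact MonObj.comp_one k
    · have := hc X (x ≫ i.inv)
      simpa using this

end Groth.Agent.S8388
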