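import Groth.Statements.S8416
import Groth.Agent.FixedSmooth.SmoothFixed
-- import your own Groth.Agent.* helpers here

set_option autoImplicit false
set_option backward.isDefEq.respectTransparency false
set_option backward.isDefEq.respectTransparency.types false
universe u
open CategoryTheory MonoidalCategory CartesianMonoidalCategory MonObj GrpObj AlgebraicGeometry
open SGA3x

namespace Groth.Agent.S8416

/-- Let G be an S-group scheme of multiplicative type and of finite type acting on an S-scheme X which
is smooth, separated and of finite presentation over S, and suppose that the functor of fixed points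
X^G (T-points x of X with g · x_{T′} = x_{T′} for every T′ → T and every T′-point g of G) is
represented by a closed subscheme F of X. Then F is smooth over S. (The published statement, for
groups admitting a composition series of which groups of multiplicative type are one case, also
asserts that X^G is represented by a closed subscheme of X of finite presentation over S; this row
takes the representing closed subscheme as given and states its smoothness.) -/
theorem result (S : Scheme.{u}) (G : Over S) [GrpObj G]
    (hG : SGA3x.IsMultTypeFT G) (X : Over S) [Smooth X.hom] [QuasiCompact X.hom] [IsSeparated X.hom]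
    (a : AlgGrp.Action G X) (F : Scheme.{u}) (f : F ⟶ X.left) (hf : IsClosedImmersion f)
    (hF : ∀ (T : Over S) (x : T ⟶ X), (∃ y : T.left ⟶ F, y ≫ f = x.left) ↔
        ∀ (T' : Over S) (t : T' ⟶ T) (g : T' ⟶ G), lift g (t ≫ x) ≫ a.act = t ≫ x) :
    Smooth (f ≫ X.hom) := by
  haveI := hf
  obtain ⟨Z, j, hj, hs, hrep⟩ := FixedSmooth.exists_smooth_fixed (.of_isMultTypeFT hG) a.act (FixedSmooth.action_assoc a)
  let F' : Over S := Over.mk (f ≫ X.hom)
  let f' : F' ⟶ X := Over.homMk f rfl
  obtain ⟨u, hu⟩ := (hrep F' f').2 ((hF F' f').1 ⟨𝟙 F, Category.id_comp f⟩)
  obtain ⟨v, hv⟩ := (hF Z j).2 ((hrep Z j).1 ⟨𝟙 Z, Category.id_comp j⟩)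
  have hu' : u.left ≫ j.left = f := congrArg CommaMorphism.left hu
  haveI : IsIso u.left := ⟨v, by rw [← cancel_mono f, Category.assoc, hv, hu', Category.id_comp],
    by rw [← cancel_mono j.left, Category.assoc, hu', hv, Category.id_comp]⟩
  haveI := hs
  rw [← hu', Category.assoc, Over.w j]
  infer_instance

end Groth.Agent.S8416
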