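import Groth.Statements.S8426
import Groth.Agent.SmoothHomLift.FlatLift
import Groth.Agent.SmoothHomLift.Immersion
import Groth.Agent.SmoothHomLift.Bridge
import Groth.Agent.HopfKer.Global
import Groth.Agent.Thicken.Affine
import Groth.Agent.S2973
import Groth.Agent.S2979

set_option autoImplicit false
set_option backward.isDefEq.respectTransparency false
set_option backward.isDefEq.respectTransparency.types false
set_option maxHeartbeats 800000
set_option linter.style.haveILetI false
universe u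
open CategoryTheory MonoidalCategory CartesianMonoidalCategory MonObj GrpObj AlgebraicGeometry
open SGA3x

namespace Groth.Agent.S8426

open scoped TensorProduct

/-- Let S = Spec A be affine, S₀ = Spec(A/J) the closed subscheme defined by an ideal J of square zero,
G an S-group scheme and H₀ a subgroup scheme of G₀ = G ×_S S₀ (a monomorphic homomorphism H₀ → G₀
which is an immersion) which is smooth and of finite type over S₀ and of multiplicative type. Then G
has a subgroup scheme of multiplicative type (again an immersion) lifting H₀ if and only if G has a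
subscheme H′, flat over S, lifting H₀ (H′ ×_S S₀ = H₀ as subschemes of G₀). -/
theorem result (A : Type u) [CommRing A] (J : Ideal A) (hJ : J ^ 2 = ⊥)
    (G : Over (Spec (CommRingCat.of A))) [GrpObj G]
    (H₀ : Over (Spec (CommRingCat.of (A ⧸ J)))) [GrpObj H₀] (j₀ : H₀ ⟶ Red.bc (Spec.map (CommRingCat.ofHom (Ideal.Quotient.mk J))) G) [IsMonHom j₀] [Mono j₀]
    (hj₀ : IsImmersion j₀.left) [Smooth H₀.hom] [QuasiCompact H₀.hom] (hm₀ : SGA3x.IsMultTypeFT H₀) :
    (∃ (H : Over (Spec (CommRingCat.of A))) (_ : GrpObj H) (j : H ⟶ G), IsMonHom j ∧ Mono j ∧ IsImmersion j.left ∧ SGA3x.IsMultTypeFT H ∧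
      ∃ e : Red.bc (Spec.map (CommRingCat.ofHom (Ideal.Quotient.mk J))) H ≅ H₀, e.hom ≫ j₀ = (Over.pullback (Spec.map (CommRingCat.ofHom (Ideal.Quotient.mk J)))).map j) ↔
    (∃ (H' : Scheme.{u}) (h' : H' ⟶ G.left), IsImmersion h' ∧ Flat (h' ≫ G.hom) ∧
      ∃ e : Limits.pullback h' (Limits.pullback.fst G.hom (Spec.map (CommRingCat.ofHom (Ideal.Quotient.mk J)))) ≅ H₀.left,
        e.hom ≫ j₀.left = Limits.pullback.snd h' (Limits.pullback.fst G.hom (Spec.map (CommRingCat.ofHom (Ideal.Quotient.mk J))))) := by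
  let R₀ := A ⧸ J
  let q : Spec (CommRingCat.of R₀) ⟶ Spec (CommRingCat.of A) := SmoothHomLift.bq A R₀
  have hJn : IsNilpotent J := ⟨2, hJ⟩
  haveI : IsClosedImmersion q := IsClosedImmersion.spec_of_surjective _ Ideal.Quotient.mk_surjective
  haveI : Surjective q := ⟨fun x => by
    have : x ∈ Set.range (PrimeSpectrum.comap (Ideal.Quotient.mk J)) := by
      rw [range_comap_of_surjective _ _ Ideal.Quotient.mk_surjective, Ideal.mk_ker]
      intro a ha
      refine x.isPrime.mem_of_pow_mem 2 ?_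
      rw [(Ideal.mem_bot).1 (hJ.le (Ideal.pow_mem_pow ha 2))]
      exact x.asIdeal.zero_mem
    exact this⟩
  constructor
  · rintro ⟨H, _, j, _, _, hji, hFT, e, he⟩
    haveI : Flat H.hom := MultKer.flat_hom_of_isMultTypeFT hFT
    refine ⟨H.left, j.left, hji, by rw [Over.w j]; infer_instance,
      (FixedSmooth.isPullback_bc q j).isoPullback.symm ≪≫ (Over.forget _).mapIso e, ?_⟩
    show (_ ≫ e.hom.left) ≫ j₀.left = _
    rw [Category.assoc, ← Over.comp_left, he]
    exact (FixedSmooth.isPullback_bc q j).isoPullback_inv_snd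
  rintro ⟨H', h', hh', hflat, e, he⟩
  haveI : IsAffineHom H₀.hom := FixedSmooth.isAffineHom_of_isMultTypeLoc (.of_isMultTypeFT hm₀)
  obtain ⟨A₀, _, _, ⟨e₀⟩⟩ := MultBridge.exists_hopf R₀ H₀
  obtain ⟨hft, hA₀⟩ := SmoothHomLift.isMultType_of_FT hm₀ e₀
  obtain ⟨A₁, _, _, hA, ⟨e₁⟩⟩ := S2979.result A J (fun x hx => by
    exact ⟨2, (Ideal.mem_bot).1 (hJ.le (Ideal.pow_mem_pow hx 2))⟩) A₀ (S2973.result R₀ A₀ hft hA₀)
  have hM := SmoothHomLift.isMultType_of_qi hA
  haveI := MultType.flat_of_isMultType hM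
  let ea : R₀ ⊗[A] A₁ ≃ₐ[R₀] A₀ := e₁
  haveI := hft
  haveI : Algebra.FiniteType R₀ (R₀ ⊗[A] A₁) := Algebra.FiniteType.equiv inferInstance ea.symm
  have hft₁ : Algebra.FiniteType A A₁ := SmoothHomLift.finiteType_of_sqZero hJ
  haveI := HopfKer.finitePresentation_of_isMultType hM hft₁
  haveI : Algebra.Smooth R₀ A₀ := by
    have h := MultBridge.prop_algebraMap e₀ @Smooth inferInstance
    rw [HasRingHomProperty.Spec_iff (P := @Smooth)] at h
    exact RingHom.smooth_algebraMap.1 h
  haveI : Algebra.Smooth R₀ (R₀ ⊗[A] A₁) := .of_equiv ea.symm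
  haveI := SmoothHomLift.smooth_of_nilpotent (A := A₁) hJn
  let H := (Spec (CommRingCat.of A₁)).asOver (Spec (CommRingCat.of A))
  let φg : Grp.mk (Red.bc q H) ≅ Grp.mk H₀ :=
    TorusField.bcSpecIso A R₀ A₁ ≪≫ (TorusField.specIso e₁).symm ≪≫ e₀
  haveI : IsMonHom φg.hom.hom.hom := φg.hom.hom.isMonHom_hom
  haveI : IsIso φg.hom.hom.hom.left := ((Grp.forget _ ⋙ Over.forget _).mapIso φg).isIso_hom
  let g₀ : Red.bc q H ⟶ Red.bc q G := φg.hom.hom.hom ≫ j₀
  -- the identification of the reduced group with the spectrum of its ring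
  let k := SmoothHomLift.pe (R := A) (S₀ := R₀) A₁ H (SmoothHomLift.incl (R := A) (A := A₁) (S₀ := R₀))
  haveI : IsIso k := SmoothHomLift.isIso_pe_incl
  haveI : IsIso k.left := (Over.forget _).map_isIso k
  have hk : k.left ≫ Limits.pullback.fst H.hom q =
      Spec.map (CommRingCat.ofHom (Algebra.TensorProduct.includeRight : A₁ →ₐ[A] R₀ ⊗[A] A₁).toRingHom) := by
    have hc : ((Over.mapPullbackAdj q).homEquiv _ H).symm k =
        (SmoothHomLift.ptIso (R := A) (S₀ := R₀) A₁).hom ≫ SmoothHomLift.incl (R := A) (A := A₁) (S₀ := R₀) :=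
      Equiv.symm_apply_apply _ _
    rw [Adjunction.homEquiv_counit] at hc
    exact (congrArg CommaMorphism.left hc).trans (Category.id_comp _)
  -- the thickening
  haveI : Flat (h' ≫ G.hom) := hflat
  have he' : e.hom ≫ j₀.left = Limits.pullback.snd h' (Limits.pullback.fst G.hom q) := he
  let t : Spec (CommRingCat.of (R₀ ⊗[A] A₁)) ⟶ H' :=
    k.left ≫ φg.hom.hom.hom.left ≫ e.inv ≫ Limits.pullback.fst h' (Limits.pullback.fst G.hom q)
  have ht : t ≫ h' = k.left ≫ g₀.left ≫ Limits.pullback.fst G.hom q := by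
    simp only [t, g₀, Over.comp_left, Category.assoc]
    rw [Limits.pullback.condition, ← he', Category.assoc, Iso.inv_hom_id_assoc]
  haveI : IsClosedImmersion (Limits.pullback.fst G.hom q) := inferInstance
  haveI : Surjective (Limits.pullback.fst G.hom q) := inferInstance
  haveI : IsClosedImmersion t := inferInstance
  haveI : Surjective t := inferInstance
  haveI : IsAffine H' := Thicken.isAffine t t.surjective
  let B := Γ(H', ⊤)
  let β := Spec.preimage (H'.isoSpec.inv ≫ h' ≫ G.hom)
  letI : Algebra A B := β.hom.toAlgebra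
  have hβ : Spec.map (CommRingCat.ofHom (algebraMap A B)) = H'.isoSpec.inv ≫ h' ≫ G.hom :=
    Spec.map_preimage _
  haveI : Module.Flat A B := by
    have h : Flat (Spec.map (CommRingCat.ofHom (algebraMap A B))) := by rw [hβ]; infer_instance
    rw [HasRingHomProperty.Spec_iff (P := @Flat)] at h
    exact RingHom.flat_algebraMap_iff.1 h
  let π₀ := Spec.preimage (t ≫ H'.isoSpec.hom)
  have hπ₀ : Spec.map π₀ = t ≫ H'.isoSpec.hom := Spec.map_preimage _
  have hkq : k.left ≫ Limits.pullback.snd H.hom q = Spec.map (CommRingCat.ofHom (algebraMap R₀ (R₀ ⊗[A] A₁))) :=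
    Over.w k
  have hgq : g₀.left ≫ Limits.pullback.snd G.hom q = Limits.pullback.snd H.hom q := Over.w g₀
  have htq : t ≫ h' ≫ G.hom = Spec.map (CommRingCat.ofHom (algebraMap A (R₀ ⊗[A] A₁))) := by
    rw [← Category.assoc, ht, Category.assoc, Category.assoc, Limits.pullback.condition, reassoc_of% hgq,
      reassoc_of% hkq, ← Spec.map_comp]
    rfl
  let π : B →ₐ[A] R₀ ⊗[A] A₁ := ⟨π₀.hom, fun r => by
    have : CommRingCat.ofHom (algebraMap A B) ≫ π₀ = CommRingCat.ofHom (algebraMap A (R₀ ⊗[A] A₁)) := by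
      refine Spec.map_injective ?_
      rw [Spec.map_comp, hπ₀, hβ, Category.assoc, Iso.hom_inv_id_assoc, htq]
    exact congrArg (fun m => m.hom r) this⟩
  have hπs : Function.Surjective π := by
    haveI : IsClosedImmersion (Spec.map π₀) := by rw [hπ₀]; infer_instance
    intro c
    obtain ⟨b, hb⟩ := (IsClosedImmersion.isAffine_surjective_of_isAffine (f := Spec.map π₀)).2
      ((Scheme.ΓSpecIso _).inv c)
    refine ⟨(Scheme.ΓSpecIso _).hom b, ?_⟩
    have e2 := congrArg (fun m => m.hom b) (Scheme.ΓSpecIso_naturality π₀)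
    simp only [CommRingCat.hom_comp, RingHom.comp_apply] at e2
    refine e2.symm.trans ((congrArg _ hb).trans ?_)
    exact congrArg (fun m => m.hom c) (Scheme.ΓSpecIso (CommRingCat.of (R₀ ⊗[A] A₁))).inv_hom_id
  have hP : IsPullback (Spec.map π₀) (Spec.map (CommRingCat.ofHom (algebraMap R₀ (R₀ ⊗[A] A₁))))
      (Spec.map (CommRingCat.ofHom (algebraMap A B))) q := by
    have h1 := (IsPullback.of_hasPullback h' (Limits.pullback.fst G.hom q)).paste_vert
      (IsPullback.of_hasPullback G.hom q)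
    refine h1.of_iso (e ≪≫ ((Over.forget _).mapIso ((Grp.forget _).mapIso φg)).symm ≪≫ (asIso k.left).symm)
      H'.isoSpec (Iso.refl _) (Iso.refl _) ?_ ?_ ?_ (by simp [q])
    · show _ = (e.hom ≫ _ ≫ inv k.left) ≫ Spec.map π₀
      rw [hπ₀]
      have h2 : φg.inv.hom.hom.left ≫ φg.hom.hom.hom.left = 𝟙 _ :=
        congrArg (fun m => m.hom.hom.left) φg.inv_hom_id
      simp only [t, Category.assoc, IsIso.inv_hom_id_assoc]
      simp [reassoc_of% h2]
    · show _ = (e.hom ≫ φg.inv.hom.hom.left ≫ inv k.left) ≫ _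
      rw [← hkq, Iso.refl_hom, Category.comp_id]
      simp only [Category.assoc, IsIso.inv_hom_id_assoc]
      show _ = e.hom ≫ φg.inv.hom.hom.left ≫ (Red.bc q H).hom
      rw [Over.w φg.inv.hom.hom, ← Over.w j₀, ← Category.assoc, he']
      rfl
    · rw [hβ, Iso.hom_inv_id_assoc, Iso.refl_hom, Category.comp_id]
  have hker : ∀ b, π b = 0 → b ∈ (J • ⊤ : Submodule A B) := by
    intro b hb
    let i := hP.isoPullback ≪≫ pullbackSpecIso A B R₀
    let σ := Spec.preimage i.hom
    let τ := Spec.preimage i.inv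
    have hστ : σ ≫ τ = 𝟙 _ := Spec.map_injective (by
      rw [Spec.map_comp, Spec.map_preimage, Spec.map_preimage, Iso.inv_hom_id, Spec.map_id])
    have hσ : π₀ = CommRingCat.ofHom (Algebra.TensorProduct.includeLeftRingHom : B →+* B ⊗[A] R₀) ≫ σ :=
      Spec.map_injective (by
        rw [Spec.map_comp, show Spec.map σ = i.hom from Spec.map_preimage _, Iso.trans_hom, Category.assoc]
        erw [pullbackSpecIso_hom_fst A B R₀]
        rw [hP.isoPullback_hom_fst])
    have h0 : σ.hom (b ⊗ₜ[A] (1 : R₀)) = 0 := by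
      rw [← hb]
      show _ = π₀.hom b
      rw [hσ]
      rfl
    have h1 := congrArg (fun m => m.hom (b ⊗ₜ[A] (1 : R₀))) hστ
    simp only [CommRingCat.hom_comp, RingHom.comp_apply, h0, map_zero, CommRingCat.hom_id, RingHom.id_apply] at h1
    refine (SmoothHomLift.includeRight_eq_zero_iff b).1 ?_
    show (1 : R₀) ⊗ₜ[A] b = 0
    rw [← Algebra.TensorProduct.comm_tmul A b (1 : R₀), ← h1, map_zero]
  obtain ⟨ψ, hψ⟩ := SmoothHomLift.exists_equiv_of_flat hJ π hπs hker
  let ψ' : (H).left ⟶ Spec B := Spec.map (CommRingCat.ofHom ψ.symm.toAlgHom.toRingHom)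
  let g : H ⟶ G := Over.homMk (ψ' ≫ H'.isoSpec.inv ≫ h') (by
    rw [Category.assoc, Category.assoc, ← hβ, ← Spec.map_comp, ← CommRingCat.ofHom_comp]
    show Spec.map _ = Spec.map _
    congr 2
    exact RingHom.ext fun r => ψ.symm.commutes r)
  have hg : (Over.pullback q).map g = g₀ := by
    have h1 := (FixedSmooth.isPullback_bc q g).w
    haveI : Mono (Limits.pullback.fst G.hom q) := inferInstance
    refine Over.OverMorphism.ext ((cancel_epi k.left).1 ((cancel_mono (Limits.pullback.fst G.hom q)).1 ?_))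
    rw [Category.assoc, Category.assoc, ← h1, ← ht, ← Category.assoc, hk]
    show Spec.map _ ≫ ψ' ≫ H'.isoSpec.inv ≫ h' = _
    rw [← Category.assoc]
    have : Spec.map (CommRingCat.ofHom (Algebra.TensorProduct.includeRight : A₁ →ₐ[A] R₀ ⊗[A] A₁).toRingHom) ≫ ψ' =
        t ≫ H'.isoSpec.hom := by
      rw [← hπ₀, ← Spec.map_comp]
      congr 1
      refine CommRingCat.hom_ext (RingHom.ext fun b => ?_)
      show (1 : R₀) ⊗ₜ[A] ψ.symm b = π b
      rw [← hψ, ψ.apply_symm_apply]
    rw [this, Category.assoc, Iso.hom_inv_id_assoc]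
  haveI : IsMonHom ((Over.pullback (SmoothHomLift.bq A (A ⧸ J))).map g) := by
    show IsMonHom ((Over.pullback q).map g)
    rw [hg]
    infer_instance
  obtain ⟨f, hf, hfg⟩ := SmoothHomLift.exists_hom_of_congr hM J hJ g
  have hfg' : (Over.pullback q).map f = g₀ := hfg.trans hg
  haveI : IsImmersion f.left := by
    refine SmoothHomLift.isImmersion_of_mod J hJn f ?_
    haveI : IsImmersion g₀.left := by
      show IsImmersion (φg.hom.hom.hom.left ≫ j₀.left)
      infer_instance
    have hsq : Limits.pullback.fst H.hom q ≫ f.left = g₀.left ≫ Limits.pullback.fst G.hom q := by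
      rw [← hfg']
      exact (FixedSmooth.isPullback_bc q f).w
    rw [← hk, Category.assoc, hsq]
    infer_instance
  exact ⟨H, inferInstance, f, hf, (Over.forget _).mono_of_mono_map (inferInstanceAs (Mono f.left)), inferInstance,
    HopfKer.isMultTypeFT_spec hM hft₁, (Grp.forget _).mapIso φg, hfg'.symm⟩

end Groth.Agent.S8426
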