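import Groth.Statements.S8431
import Groth.Agent.MultExtCentralLib.Main

set_option autoImplicit false
set_option backward.isDefEq.respectTransparency false
set_option backward.isDefEq.respectTransparency.types false
universe u
open CategoryTheory MonoidalCategory CartesianMonoidalCategory MonObj GrpObj AlgebraicGeometry
open SGA3x

namespace Groth.Agent.S8431

/-- Let G be an algebraic group over a field k and Z a central algebraic subgroup such that G′ = G/Z is
a torus. Then G is commutative. Here q : G → G′ is a homomorphism representing the fppf quotient of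
G by Z, and G′ is a k-torus. -/
theorem result (k : Type u) [Field k]
    (G : Over (Spec (CommRingCat.of k))) [GrpObj G] [QuasiCompact G.hom] [LocallyOfFiniteType G.hom]
    (Z : Over (Spec (CommRingCat.of k))) [GrpObj Z] (z : Z ⟶ G) [IsMonHom z] [Mono z]
    (hz : ∀ (X : Over (Spec (CommRingCat.of k))) (x : X ⟶ Z) (g : X ⟶ G), (x ≫ z) * g = g * (x ≫ z))
    (G' : Over (Spec (CommRingCat.of k))) [GrpObj G'] (q : G ⟶ G') [IsMonHom q] (hq : RedSub.IsQuotient z q) (hT : Red.IsTorus G') :
    ∀ (X : Over (Spec (CommRingCat.of k))) (g h : X ⟶ G), g * h = h * g := by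
  obtain ⟨hs, hf, -, hsq⟩ := hq
  haveI := hs; haveI := hf
  intro X g h
  refine Groth.Agent.MultExtCentral.comm_of_torus G' G hT q (fun X' x hx X'' y g' => ?_) X g h
  let w := hsq.lift (1 : X' ⟶ G) x (by rw [MonObj.one_comp, hx])
  have hw : (w ≫ snd G Z) ≫ z = x := by
    have h1 := hsq.lift_snd (1 : X' ⟶ G) x (by rw [MonObj.one_comp, hx])
    have h2 := hsq.lift_fst (1 : X' ⟶ G) x (by rw [MonObj.one_comp, hx])
    refine Eq.trans ?_ h1
    change _ = w ≫ _
    have hμ : G ◁ z ≫ μ[G] = fst G Z * (snd G Z ≫ z) := by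
      rw [Hom.mul_def]
      congr 1
      all_goals apply CartesianMonoidalCategory.hom_ext <;> simp
    rw [hμ, MonObj.comp_mul, show w ≫ fst G Z = 1 from h2, _root_.one_mul, Category.assoc]
  rw [← hw, ← Category.assoc]
  exact hz X'' (y ≫ w ≫ snd G Z) g'

end Groth.Agent.S8431
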