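import Groth.Statements.S8441
import Mathlib
-- import your own Groth.Agent.* helpers here

set_option autoImplicit false
universe u v w
open SGA3t2b

namespace Groth.Agent.S8441

/-- Let R be a root system with a system of simple roots a₁, …, aₙ and simple reflections rᵢ, and put θᵢ
= rₙ ⋯ rᵢ₊₁(aᵢ). Then the θᵢ form a basis of the group generated by the roots. Stated for a root
pairing over ℤ (Mathlib) with a base whose support is enumerated by Fin n: the θᵢ are ℤ-linearly
independent and their ℤ-span is the ℤ-span of all roots. -/
theorem result {ι : Type u} {M : Type v} {N : Type w} [AddCommGroup M] [Module ℤ M]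
    [AddCommGroup N] [Module ℤ N] (P : RootPairing ι ℤ M N) (b : P.Base) (n : ℕ) (e : Fin n ≃ ↥b.support) :
    LinearIndependent ℤ (fun i : Fin n =>
      ((List.finRange n).filter (fun j => i < j)).foldl (fun x j => P.reflection (e j : ι) x) (P.root (e i : ι))) ∧
    Submodule.span ℤ (Set.range (fun i : Fin n =>
      ((List.finRange n).filter (fun j => i < j)).foldl (fun x j => P.reflection (e j : ι) x) (P.root (e i : ι)))) =
      Submodule.span ℤ (Set.range P.root) := by
  classical
  rename Module ℤ M => instM
  obtain rfl : instM = AddCommGroup.toIntModule M := Subsingleton.elim _ _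
  let a : Fin n → M := fun i => P.root (e i : ι)
  set θ : Fin n → M := fun i =>
    ((List.finRange n).filter (fun j => i < j)).foldl (fun x j => P.reflection (e j : ι) x) (a i) with hθ
  show LinearIndependent ℤ θ ∧ Submodule.span ℤ (Set.range θ) = _
  have hfold : ∀ (l : List (Fin n)) (x : M),
      l.foldl (fun x j => P.reflection (e j : ι) x) x - x ∈ Submodule.span ℤ (a '' {j | j ∈ l}) := by
    intro l
    induction l with
    | nil => simp
    | cons j l ih =>
      intro x
      rw [List.foldl_cons, ← sub_add_sub_cancel _ (P.reflection (e j : ι) x) x]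
      refine Submodule.add_mem _
        (Submodule.span_mono (Set.image_mono fun i hi => List.mem_cons_of_mem j hi) (ih _)) ?_
      rw [RootPairing.reflection_apply, sub_sub_cancel_left]
      exact Submodule.neg_mem _ (Submodule.smul_mem _ _ (Submodule.subset_span ⟨j, List.mem_cons_self, rfl⟩))
  have ha : LinearIndependent ℤ a := b.linearIndepOn_root.linearIndependent.comp e e.injective
  have hrange : Set.range a = P.root '' (b.support : Set ι) := by
    ext x
    constructor
    · rintro ⟨i, rfl⟩
      exact ⟨_, (e i).2, rfl⟩
    · rintro ⟨i, hi, rfl⟩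
      exact ⟨e.symm ⟨i, hi⟩, by simp [a]⟩
  have hθa : ∀ i, θ i ∈ Submodule.span ℤ (Set.range a) := by
    intro i
    have h := Submodule.span_mono (Set.image_subset_range a _) (hfold ((List.finRange n).filter (fun j => i < j)) (a i))
    have h2 := Submodule.add_mem _ h (Submodule.subset_span (s := Set.range a) ⟨i, rfl⟩)
    rwa [sub_add_cancel] at h2
  have haθ : ∀ i, a i ∈ Submodule.span ℤ (Set.range θ) := by
    intro i
    induction i using WellFoundedGT.induction with
    | ind i ih =>
      have h := hfold ((List.finRange n).filter (fun j => i < j)) (a i)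
      have h1 : Submodule.span ℤ (a '' {j | j ∈ (List.finRange n).filter (fun j => i < j)}) ≤
          Submodule.span ℤ (Set.range θ) := by
        rw [Submodule.span_le]
        rintro _ ⟨j, hj, rfl⟩
        exact ih j (by simpa using hj)
      have h2 := Submodule.sub_mem _ (Submodule.subset_span (s := Set.range θ) ⟨i, rfl⟩) (h1 h)
      rwa [sub_sub_cancel] at h2
  have hspan : Submodule.span ℤ (Set.range θ) = Submodule.span ℤ (Set.range a) :=
    le_antisymm (Submodule.span_le.2 (Set.range_subset_iff.2 hθa)) (Submodule.span_le.2 (Set.range_subset_iff.2 haθ))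
  refine ⟨?_, by rw [hspan, hrange]; exact b.span_int_root_support⟩
  let L : (Fin n → ℤ) →ₗ[ℤ] M := Fintype.linearCombination ℤ a
  let T : (Fin n → ℤ) →ₗ[ℤ] M := Fintype.linearCombination ℤ θ
  have hLi : Function.Injective L := linearIndependent_iff_injective_fintypeLinearCombination.1 ha
  have hrangeT : LinearMap.range T = LinearMap.range L := by
    simp only [L, T, Fintype.range_linearCombination, hspan]
  have hpre : ∀ x, ∃ y, L y = T x := fun x => LinearMap.mem_range.1 (hrangeT ▸ LinearMap.mem_range_self T x)
  choose g hg using hpre
  let G : (Fin n → ℤ) →ₗ[ℤ] (Fin n → ℤ) :=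
    { toFun := g
      map_add' := fun x y => hLi (by simp [hg])
      map_smul' := fun c x => hLi (by rw [hg, RingHom.id_apply, map_smul, map_smul, hg]) }
  have hG : Function.Surjective G := fun y => by
    obtain ⟨x, hx⟩ := LinearMap.mem_range.1 (hrangeT.symm ▸ LinearMap.mem_range_self L y)
    exact ⟨x, hLi ((hg x).trans hx)⟩
  refine linearIndependent_iff_injective_fintypeLinearCombination.2 ?_
  show Function.Injective T
  intro x y hxy
  refine OrzechProperty.injective_of_surjective_endomorphism G hG (hLi ?_)
  exact (hg x).trans (hxy.trans (hg y).symm)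

end Groth.Agent.S8441
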