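import Groth.Statements.S8446
import Groth.Agent.RankOneCellLib.Ext
import Groth.Agent.RankOneCellLib.GaFibre

set_option autoImplicit false
universe u
open CategoryTheory MonoidalCategory CartesianMonoidalCategory MonObj GrpObj AlgebraicGeometry CategoryTheory.Limits
open Red

set_option backward.isDefEq.respectTransparency false
set_option backward.isDefEq.respectTransparency.types false
set_option linter.style.haveILetI false
open Groth.Agent.RankOneRelLib Groth.Agent.RankOneCellLib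

namespace Groth.Agent.S8446

/-- A point of a base change is the base change of a point, pulled back along the unit. -/
theorem exists_lift {S : Scheme.{u}} {S' : Scheme.{u}} (j : S' ⟶ S) {H : Over S} (X : Over S')
    (g : X ⟶ Red.bc j H) :
    ∃ g₁ : (Over.map j).obj X ⟶ H, g = (Over.mapPullbackAdj j).unit.app X ≫ (Over.pullback j).map g₁ := by
  refine ⟨((Over.mapPullbackAdj j).homEquiv X H).symm g, ?_⟩
  exact (((Over.mapPullbackAdj j).homEquiv X H).apply_symm_apply g).symm.trans ((Over.mapPullbackAdj j).homEquiv_unit X H _)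


/-- Let G be a reductive S-group, i : T ⟶ G a maximal torus, α a character of T non-trivial on every
geometric fibre, and p₊, p₋ : 𝔾_a ⟶ G monomorphisms of groups normalised by T with multipliers α and
α⁻¹ such that 𝔾_a ×_S T ×_S 𝔾_a ⟶ G, (y, t, x) ↦ p₋(y) i(t) p₊(x), is an open immersion (a rank-one
system: G has semisimple rank 1 and p₊, p₋ trivialise the root groups of α and -α). Then on no
geometric fibre of S do the images of p₊ and p₋ commute: for every s there are points x, y of 𝔾_a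
with values in some scheme over the geometric point at s such that p₊(x) p₋(y) ≠ p₋(y) p₊(x). -/
theorem result (S : Scheme.{u}) (G T : Over S) [GrpObj G] [GrpObj T] (i : T ⟶ G) [IsMonHom i] [Mono i] (hG : Red.IsReductive G) (hTm : Red.IsMaximalTorus i)
    (α : T ⟶ Red.Gm S) [IsMonHom α] (hα : ∀ s : S, (Over.pullback (Red.geomPt s)).map α ≠ 1)
    (pp pm : Red.Ga S ⟶ G) [IsMonHom pp] [Mono pp] [IsMonHom pm] [Mono pm]
    (hpp : ∀ (X : Over S) (t : X ⟶ T) (x : X ⟶ Red.Ga S), ∃ x' : X ⟶ Red.Ga S,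
      x' ≫ pp = (t ≫ i) * (x ≫ pp) * (t ≫ i)⁻¹ ∧ Red.gaFn x' = Red.gmFn (t ≫ α) * Red.gaFn x)
    (hpm : ∀ (X : Over S) (t : X ⟶ T) (y : X ⟶ Red.Ga S), ∃ y' : X ⟶ Red.Ga S,
      y' ≫ pm = (t ≫ i) * (y ≫ pm) * (t ≫ i)⁻¹ ∧ Red.gaFn y' * Red.gmFn (t ≫ α) = Red.gaFn y)
    (hΩ : IsOpenImmersion (((pm ⊗ₘ i) ⊗ₘ pp) ≫ (μ[G] ▷ G) ≫ μ[G]).left) (s : S) :
    ∃ (X : Over (Spec (CommRingCat.of (AlgebraicClosure (S.residueField s)))))
      (x y : X ⟶ Red.bc (Red.geomPt s) (Red.Ga S)),
      (x ≫ (Over.pullback (Red.geomPt s)).map pp) * (y ≫ (Over.pullback (Red.geomPt s)).map pm) ≠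
        (y ≫ (Over.pullback (Red.geomPt s)).map pm) * (x ≫ (Over.pullback (Red.geomPt s)).map pp) := by
  by_contra hne
  push Not at hne
  haveI : IsOpenImmersion (cellMap i pp pm).left := hΩ
  let j := Red.geomPt s
  let F := Over.pullback j
  let Y : Over S := Over.mk j
  let U := Red.Ga S
  -- the root groups commute on points over the fibre
  have comm : ∀ {P : Over S} (a : P ⟶ Y) (x y : P ⟶ U), (x ≫ pp) * (y ≫ pm) = (y ≫ pm) * (x ≫ pp) := by
    intro P a x y
    let A : U ⊗ U ⟶ G := (fst U U ≫ pp) * (snd U U ≫ pm)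
    let B : U ⊗ U ⟶ G := (snd U U ≫ pm) * (fst U U ≫ pp)
    have h : F.map A = F.map B := by
      simp only [A, B, Functor.map_mul, Functor.map_comp]
      exact hne _ _ _
    have h' : (lift x y).left ≫ A.left = (lift x y).left ≫ B.left := by
      have e := congrArg (fun m => pullback.lift (lift x y).left a.left (by rw [Over.w (lift x y)]; exact (Over.w a).symm) ≫
        m.left ≫ pullback.fst G.hom j) h
      simp only [F, Over.pullback_map_left, pullback.lift_fst] at e
      rwa [pullback.lift_fst_assoc, pullback.lift_fst_assoc] at e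
    have e : lift x y ≫ A = lift x y ≫ B := Over.OverMorphism.ext h'
    simpa [A, B, MonObj.comp_mul] using e
  have swapp : ∀ {P : Over S} (t : P ⟶ T) (x : P ⟶ U), ∃ x' : P ⟶ U, (x ≫ pp) * (t ≫ i) = (t ≫ i) * (x' ≫ pp) :=
    fun {P} t x => by
      obtain ⟨x', hx', -⟩ := hpp P t⁻¹ x
      refine ⟨x', ?_⟩
      rw [hx', GrpObj.inv_comp]
      group
  -- the cell is a subgroup over the fibre
  have hcellmul : ∀ {P : Over S} (a : P ⟶ Y) (g g' : P ⟶ G), InCell i pp pm g → InCell i pp pm g' →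
      InCell i pp pm (g⁻¹ * g') := by
    intro P a g g' hg hg'
    obtain ⟨y, t, x, rfl⟩ := exists_of_inCell i pp pm hg
    obtain ⟨y', t', x', rfl⟩ := exists_of_inCell i pp pm hg'
    obtain ⟨y₂, h2, -⟩ := hpm P t⁻¹ (y⁻¹ * y')
    obtain ⟨x₂, h3⟩ := swapp (t⁻¹ * t') x⁻¹
    have e : ((y ≫ pm) * (t ≫ i) * (x ≫ pp))⁻¹ * ((y' ≫ pm) * (t' ≫ i) * (x' ≫ pp)) =
        (y₂ ≫ pm) * ((t⁻¹ * t') ≫ i) * ((x₂ * x') ≫ pp) := by
      rw [MonObj.mul_comp x₂]
      calc _ = (x⁻¹ ≫ pp) * (((t⁻¹) ≫ i) * ((y⁻¹ * y') ≫ pm) * ((t⁻¹) ≫ i)⁻¹) * ((t⁻¹ ≫ i) * (t' ≫ i)) * (x' ≫ pp) := by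
            simp only [GrpObj.inv_comp, MonObj.mul_comp]; group
        _ = (y₂ ≫ pm) * ((x⁻¹ ≫ pp) * ((t⁻¹ * t') ≫ i)) * (x' ≫ pp) := by
            rw [← h2, comm a, ← MonObj.mul_comp t⁻¹ t' i]; simp only [_root_.mul_assoc]
        _ = _ := by rw [h3]; simp only [_root_.mul_assoc]
    rw [e]
    exact inCell_cell i pp pm _ _ _
  have hall : ∀ {P : Over S} (a : P ⟶ Y) (g : P ⟶ G), InCell i pp pm g := by
    intro P a g
    obtain ⟨P', f, -, hsu, ω₁, ω₂, h1, h2, hfg⟩ := exists_cover i pp pm hG g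
    have h := hcellmul (f ≫ a) ω₁ ω₂ h1 h2
    rw [← hfg] at h
    rintro _ ⟨z, rfl⟩
    obtain ⟨z', rfl⟩ := hsu.surj z
    exact h ⟨z', rfl⟩
  -- the cell is the whole fibre
  haveI : Mono (F.map (cellMap i pp pm)) := by
    haveI : Mono (cellMap i pp pm) := Over.mono_of_mono_left _
    infer_instance
  haveI : IsSplitEpi (F.map (cellMap i pp pm)) := by
    obtain ⟨g₁, hg₁⟩ := exists_lift j (Red.bc j G) (𝟙 _)
    obtain ⟨ω, hω⟩ := exists_omega i pp pm (hall (Over.homMk (Red.bc j G).hom) g₁)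
    exact IsSplitEpi.mk' ⟨(Over.mapPullbackAdj j).unit.app _ ≫ F.map ω, by
      rw [Category.assoc, ← F.map_comp, hω]; exact hg₁.symm⟩
  haveI : IsIso (F.map (cellMap i pp pm)) := isIso_of_mono_of_isSplitEpi _
  let ι₀ : U ⟶ Cl T := lift (lift 1 1) (𝟙 U)
  have hι : ι₀ ≫ cellMap i pp pm = pp := by
    rw [lift_cellMap, MonObj.one_comp, MonObj.one_comp, _root_.one_mul, _root_.one_mul, Category.id_comp]
  haveI : IsAffineHom T.hom := FixedSmooth.isAffineHom_of_isMultTypeLoc
    (WeilClosedLib.IsMultTypeLoc.of_isMultTypeFT (SplitHom.isMultTypeFT_of_isTorus hTm.2.2.1))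
  have hcl : IsClosedImmersion (F.map pp).left := by
    rw [← hι, F.map_comp, Over.comp_left]
    haveI : IsClosedImmersion (F.map ι₀).left := by
      haveI : IsAffineHom (Cl T).hom := by
        haveI : IsAffine (Red.GaZ.{u}).left := isAffine_Spec _
        haveI : IsAffineHom (Red.GaZ.{u}).hom := isAffineHom_of_isAffine _
        haveI : IsAffineHom (Red.Ga S).hom := MorphismProperty.pullback_snd _ _ inferInstance
        haveI : IsAffineHom (pullback.fst (Red.Ga S).hom T.hom ≫ (Red.Ga S).hom) := by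
          haveI : IsAffineHom (pullback.fst (Red.Ga S).hom T.hom) := MorphismProperty.pullback_fst _ _ inferInstance
          infer_instance
        show IsAffineHom (pullback.fst (Red.Ga S ⊗ T).hom (Red.Ga S).hom ≫ (Red.Ga S ⊗ T).hom)
        haveI : IsAffineHom (Red.Ga S ⊗ T).hom := this
        haveI : IsAffineHom (pullback.fst (Red.Ga S ⊗ T).hom (Red.Ga S).hom) := MorphismProperty.pullback_fst _ _ inferInstance
        infer_instance
      haveI : IsAffineHom (F.obj (Cl T)).hom := MorphismProperty.pullback_snd _ _ inferInstance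
      haveI : IsSeparated ((F.map (snd (Red.Ga S ⊗ T) U)).left ≫ (F.obj U).hom) := by
        rw [Over.w]; infer_instance
      haveI : IsSeparated (F.map (snd (Red.Ga S ⊗ T) U)).left := IsSeparated.of_comp _ (F.obj U).hom
      haveI : IsClosedImmersion ((F.map ι₀).left ≫ (F.map (snd (Red.Ga S ⊗ T) U)).left) := by
        rw [← Over.comp_left, ← F.map_comp, lift_snd, F.map_id]
        exact inferInstanceAs (IsClosedImmersion (𝟙 _))
      exact IsClosedImmersion.of_comp _ (F.map (snd (Red.Ga S ⊗ T) U)).left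
    haveI : IsIso (F.map (cellMap i pp pm)).left := ((Over.forget _).mapIso (asIso (F.map (cellMap i pp pm)))).isIso_hom
    infer_instance
  have hnorm : AlgGrp.IsNormalHom (F.map pp) := by
    intro X g n
    obtain ⟨g₁, hg₁⟩ := exists_lift j X g
    obtain ⟨n₁, hn₁⟩ := exists_lift j X n
    let a : (Over.map j).obj X ⟶ Y := Over.homMk X.hom
    obtain ⟨y, t, x, hg⟩ := exists_of_inCell i pp pm (hall a g₁)
    obtain ⟨x', hx', -⟩ := hpp _ t (x * n₁ * x⁻¹)
    have e : g₁ * (n₁ ≫ pp) * g₁⁻¹ = x' ≫ pp := by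
      rw [← hg]
      calc _ = (y ≫ pm) * ((t ≫ i) * ((x * n₁ * x⁻¹) ≫ pp) * (t ≫ i)⁻¹) * (y ≫ pm)⁻¹ := by
            simp only [GrpObj.inv_comp, MonObj.mul_comp]; group
        _ = _ := by rw [← hx', ← comm a, mul_inv_cancel_right]
    refine ⟨(Over.mapPullbackAdj j).unit.app X ≫ F.map x', ?_⟩
    rw [Category.assoc, ← F.map_comp, ← e, hg₁, hn₁]
    simp only [F, Functor.map_mul, Functor.map_inv', Functor.map_comp, MonObj.comp_mul, GrpObj.comp_inv, Category.assoc]
  have htriv : Red.IsTrivialGrp (Red.bc j (Red.Ga S)) :=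
    (hG.2.2 s).2.2.2 _ (F.map pp) hcl (smooth_bcGa j) (connectedSpace_bcGa j) hnorm (hasNoSubtorus_bcGa j)
  -- but the additive group has two points
  have hsub : ∀ x x' : Y ⟶ U, x = x' := fun x x' => by
    haveI : IsIso (Red.bc j (Red.Ga S)).hom := htriv
    let T₀ : Over (Spec (CommRingCat.of (AlgebraicClosure (S.residueField s)))) := Over.mk (𝟙 _)
    have hu : ∀ p p' : T₀ ⟶ Red.bc j (Red.Ga S), p = p' := fun p p' => Over.OverMorphism.ext (by
      rw [← cancel_mono (Red.bc j (Red.Ga S)).hom, Over.w p, Over.w p'])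
    let e : Y ≅ (Over.map j).obj T₀ := Over.isoMk (Iso.refl _) (by simp [Y, T₀])
    rw [← cancel_epi e.inv]
    exact ((Over.mapPullbackAdj j).homEquiv T₀ U).injective (hu _ _)
  have h01 := congrArg Red.gaFn (hsub (gp 0) (gp 1))
  rw [gaFn_gp, gaFn_gp] at h01
  exact zero_ne_one (α := AlgebraicClosure (S.residueField s)) (by
    have h := congrArg (Scheme.ΓSpecIso (CommRingCat.of (AlgebraicClosure (S.residueField s)))).hom.hom h01
    rwa [map_zero, map_one] at h)

end Groth.Agent.S8446
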