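import Groth.Statements.S8447
import Groth.Agent.RankOneCellLib.Quot
import Groth.Agent.RankOneCellLib.Comm
import Groth.Agent.RankOneCellLib.Torus

set_option autoImplicit false
universe u
open CategoryTheory MonoidalCategory CartesianMonoidalCategory MonObj GrpObj AlgebraicGeometry CategoryTheory.Limits
open Red

set_option backward.isDefEq.respectTransparency false
set_option backward.isDefEq.respectTransparency.types false
set_option linter.style.haveILetI false
open Groth.Agent.RankOneRelLib Groth.Agent.RankOneCellLib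

namespace Groth.Agent.S8447

/-- Let G be a reductive S-group, i : T ⟶ G a maximal torus, α a character of T non-trivial on every
geometric fibre, and p₊, p₋ : 𝔾_a ⟶ G monomorphisms of groups normalised by T with multipliers α and
α⁻¹ such that 𝔾_a ×_S T ×_S 𝔾_a ⟶ G, (y, t, x) ↦ p₋(y) i(t) p₊(x), is an open immersion (a rank-one
system: G has semisimple rank 1 and p₊, p₋ trivialise the root groups of α and -α). Then the centre
of G is Ker α: a point g of G with values in an S-scheme X commutes with all points of G after every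
base change X' ⟶ X if and only if g = i(t) for some X-point t of T with α(t) = 1. (In particular the
centre is a closed subgroup of multiplicative type; only the equality of points is stated.) -/
theorem result (S : Scheme.{u}) (G T : Over S) [GrpObj G] [GrpObj T] (i : T ⟶ G) [IsMonHom i] [Mono i] (hG : Red.IsReductive G) (hTm : Red.IsMaximalTorus i)
    (α : T ⟶ Red.Gm S) [IsMonHom α] (hα : ∀ s : S, (Over.pullback (Red.geomPt s)).map α ≠ 1)
    (pp pm : Red.Ga S ⟶ G) [IsMonHom pp] [Mono pp] [IsMonHom pm] [Mono pm]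
    (hpp : ∀ (X : Over S) (t : X ⟶ T) (x : X ⟶ Red.Ga S), ∃ x' : X ⟶ Red.Ga S,
      x' ≫ pp = (t ≫ i) * (x ≫ pp) * (t ≫ i)⁻¹ ∧ Red.gaFn x' = Red.gmFn (t ≫ α) * Red.gaFn x)
    (hpm : ∀ (X : Over S) (t : X ⟶ T) (y : X ⟶ Red.Ga S), ∃ y' : X ⟶ Red.Ga S,
      y' ≫ pm = (t ≫ i) * (y ≫ pm) * (t ≫ i)⁻¹ ∧ Red.gaFn y' * Red.gmFn (t ≫ α) = Red.gaFn y)
    (hΩ : IsOpenImmersion (((pm ⊗ₘ i) ⊗ₘ pp) ≫ (μ[G] ▷ G) ≫ μ[G]).left) (X : Over S) (g : X ⟶ G) :
    (∀ (X' : Over S) (x : X' ⟶ X) (k : X' ⟶ G), (x ≫ g) * k = k * (x ≫ g)) ↔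
      ∃ t : X ⟶ T, t ≫ i = g ∧ t ≫ α = 1 := by
  haveI : IsOpenImmersion (cellMap i pp pm).left := hΩ
  have hT := hTm.2.2.1
  refine ⟨fun hc => ?_, ?_⟩
  · -- a central point lies in the cell
    have hin : InCell i pp pm g := by
      obtain ⟨X', f, hf, hfs, b, t, e, c, he⟩ := exists_cover_shape (pp := pp) (α := α) hG hpm g
      obtain ⟨e', he', -⟩ := hpm X' t e
      refine inCell_of_cover i pp pm f ?_
      have hk := hc X' f (b ≫ pp)
      rw [he] at hk
      have h1 : f ≫ g = (e' ≫ pm) * (t ≫ i) * ((c * b) ≫ pp) := by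
        calc f ≫ g = (b ≫ pp) * (t ≫ i) * (e ≫ pm) * (c ≫ pp) := he
          _ = (b ≫ pp)⁻¹ * ((b ≫ pp) * ((b ≫ pp) * (t ≫ i) * (e ≫ pm) * (c ≫ pp))) := by
              rw [inv_mul_cancel_left]
          _ = (b ≫ pp)⁻¹ * ((b ≫ pp) * (t ≫ i) * (e ≫ pm) * (c ≫ pp) * (b ≫ pp)) := by rw [← hk]
          _ = _ := by rw [he', MonObj.mul_comp]; group
      rw [h1]
      exact inCell_cell i pp pm e' t (c * b)
    obtain ⟨a, t, b, hg⟩ := exists_of_inCell i pp pm hin
    obtain ⟨X', f, τ, hf, -, hτ⟩ := exists_char_unit i pp pm hG α hα X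
    haveI := hf
    obtain ⟨a', ha', ha''⟩ := hpm X' τ (f ≫ a)
    obtain ⟨b', hb', hb''⟩ := hpp X' τ (f ≫ b)
    have hfg : f ≫ g = (f ≫ a ≫ pm) * (f ≫ t ≫ i) * (f ≫ b ≫ pp) := by
      rw [← hg, MonObj.comp_mul, MonObj.comp_mul]
    have hk := hc X' f (τ ≫ i)
    have h1 : (a' ≫ pm) * ((f ≫ t) ≫ i) * (b' ≫ pp) = ((f ≫ a) ≫ pm) * ((f ≫ t) ≫ i) * ((f ≫ b) ≫ pp) := by
      have hcm : (τ ≫ i) * ((f ≫ t) ≫ i) = ((f ≫ t) ≫ i) * (τ ≫ i) := by
        rw [← MonObj.mul_comp, ← MonObj.mul_comp, pts_comm_of_isTorus hT]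
      have e2 : f ≫ g = (τ ≫ i) * (f ≫ g) * (τ ≫ i)⁻¹ := by rw [← hk, mul_inv_cancel_right]
      calc (a' ≫ pm) * ((f ≫ t) ≫ i) * (b' ≫ pp)
          = (τ ≫ i) * ((f ≫ a) ≫ pm) * ((τ ≫ i)⁻¹ * (((f ≫ t) ≫ i) * (τ ≫ i))) * ((f ≫ b) ≫ pp) * (τ ≫ i)⁻¹ := by
              rw [ha', hb']; group
        _ = (τ ≫ i) * (f ≫ g) * (τ ≫ i)⁻¹ := by
              rw [← hcm, inv_mul_cancel_left, hfg]
              simp only [Category.assoc, _root_.mul_assoc]
        _ = _ := by rw [← e2, hfg]; simp only [Category.assoc]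
    obtain ⟨hA, -, hB⟩ := cell_inj i pp pm h1
    rw [hA] at ha''
    rw [hB] at hb''
    have ha0 : a = 1 := by
      refine (cancel_epi f).1 (GaPoints.gaFn_injective (hτ.mul_left_cancel ?_))
      rw [MonObj.comp_one, GaPoints.gaFn_one]
      linear_combination ha''
    have hb0 : b = 1 := by
      refine (cancel_epi f).1 (GaPoints.gaFn_injective (hτ.mul_left_cancel ?_))
      rw [MonObj.comp_one, GaPoints.gaFn_one]
      linear_combination -hb''
    rw [ha0, hb0, MonObj.one_comp, MonObj.one_comp, _root_.one_mul, _root_.mul_one] at hg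
    refine ⟨t, hg, ?_⟩
    obtain ⟨x', hx', hx''⟩ := hpp X t (gp 1)
    have hk := hc X (𝟙 X) (gp 1 ≫ pp)
    rw [Category.id_comp, ← hg] at hk
    rw [hk, mul_inv_cancel_right, cancel_mono] at hx'
    rw [hx', gaFn_gp, _root_.mul_one] at hx''
    apply GmPts.gmFn_injective
    show Red.gmFn _ = Red.gmFn _
    rw [GmPts.gmFn_one]
    exact hx''.symm
  · rintro ⟨t, rfl, ht⟩ X' x k
    set u := (x ≫ t) ≫ i with hu
    have hu1 : Red.gmFn ((x ≫ t) ≫ α) = 1 := by
      rw [Category.assoc, ht, MonObj.comp_one, GmPts.gmFn_one]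
    rw [show x ≫ t ≫ i = u from (Category.assoc _ _ _).symm]
    obtain ⟨X'', f, hf, -, ω₁, ω₂, h₁, h₂, he⟩ := exists_cover i pp pm hG k
    haveI := hf
    apply (cancel_epi f).1
    rw [MonObj.comp_mul, MonObj.comp_mul, he]
    have hu1' : Red.gmFn ((f ≫ x ≫ t) ≫ α) = 1 := by
      rw [Category.assoc, GmPts.gmFn_comp, hu1, map_one]
    have hfu : f ≫ u = (f ≫ x ≫ t) ≫ i := by simp only [u, Category.assoc]
    have hcell : ∀ ω : X'' ⟶ G, InCell i pp pm ω → Commute (f ≫ u) ω := by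
      intro ω hω
      obtain ⟨a, s, b, rfl⟩ := exists_of_inCell i pp pm hω
      rw [hfu]
      refine ((?_ : Commute _ _).mul_right ?_).mul_right ?_
      · obtain ⟨a', ha', ha''⟩ := hpm X'' (f ≫ x ≫ t) a
        rw [hu1', _root_.mul_one] at ha''
        rw [GaPoints.gaFn_injective ha''] at ha'
        show _ * _ = _ * _
        conv_rhs => rw [ha', inv_mul_cancel_right]
      · show _ * _ = _ * _
        rw [← MonObj.mul_comp, ← MonObj.mul_comp, pts_comm_of_isTorus hT]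
      · obtain ⟨b', hb', hb''⟩ := hpp X'' (f ≫ x ≫ t) b
        rw [hu1', _root_.one_mul] at hb''
        rw [GaPoints.gaFn_injective hb''] at hb'
        show _ * _ = _ * _
        conv_rhs => rw [hb', inv_mul_cancel_right]
    exact ((hcell ω₁ h₁).inv_right).mul_right (hcell ω₂ h₂)

end Groth.Agent.S8447
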