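import Groth.Statements.S8451
import Groth.Agent.RankOneCellLib.Weyl

set_option autoImplicit false
universe u
open CategoryTheory MonoidalCategory CartesianMonoidalCategory MonObj GrpObj AlgebraicGeometry CategoryTheory.Limits
open Red

set_option backward.isDefEq.respectTransparency false
set_option backward.isDefEq.respectTransparency.types false
set_option linter.style.haveILetI false
open Groth.Agent.RankOneRelLib Groth.Agent.RankOneCellLib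

namespace Groth.Agent.S8451

/-- Let G be a reductive S-group, i : T ⟶ G a maximal torus, α a character of T non-trivial on every
geometric fibre, p₊, p₋ : 𝔾_a ⟶ G monomorphisms of groups normalised by T with multipliers α and α⁻¹
whose cell map (y, t, x) ↦ p₋(y) i(t) p₊(x) is an open immersion 𝔾_a ×_S T ×_S 𝔾_a ⟶ G, and α^* :
𝔾_m ⟶ T the coroot: α ∘ α^* is the squaring map and p₊(x) p₋(y) = p₋(y/(1+xy)) · i(α^*(1+xy)) ·
p₊(x/(1+xy)) whenever 1 + xy is invertible (so p₊ and p₋ are dual to each other). Let e₁, em be the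
S-points of 𝔾_a with coordinates 1 and -1, u = p₊(e₁) and w₀ = p₊(e₁) p₋(em) p₊(e₁). Let n be a
non-zero integer. If an S-point w of G satisfies w · i(α^*(z))^n · w⁻¹ = i(α^*(z))^{-n} for all
points z of 𝔾_m (after base change) and w u w⁻¹ = u⁻¹ w u⁻¹, then w = w₀. (The published statement
has the condition (w u)³ = e in place of w u w⁻¹ = u⁻¹ w u⁻¹, and also asserts that w₀ has both
properties. The cube condition does not determine w when the centre of G contains a non-trivial cube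
root of unity: for G = GL₂ over a field containing a primitive cube root of unity ζ, the point ζ·w₀
inverts the coroot and satisfies (ζ w₀ u)³ = e. The published proof uses the conjugation identity
stated here, which is equivalent to (w u)³ = e once w² = i(α^*(-1)).) -/
theorem result (S : Scheme.{u}) (G T : Over S) [GrpObj G] [GrpObj T] (i : T ⟶ G) [IsMonHom i] [Mono i] (hG : Red.IsReductive G) (hTm : Red.IsMaximalTorus i)
    (α : T ⟶ Red.Gm S) [IsMonHom α] (hα : ∀ s : S, (Over.pullback (Red.geomPt s)).map α ≠ 1)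
    (pp pm : Red.Ga S ⟶ G) [IsMonHom pp] [Mono pp] [IsMonHom pm] [Mono pm]
    (hpp : ∀ (X : Over S) (t : X ⟶ T) (x : X ⟶ Red.Ga S), ∃ x' : X ⟶ Red.Ga S,
      x' ≫ pp = (t ≫ i) * (x ≫ pp) * (t ≫ i)⁻¹ ∧ Red.gaFn x' = Red.gmFn (t ≫ α) * Red.gaFn x)
    (hpm : ∀ (X : Over S) (t : X ⟶ T) (y : X ⟶ Red.Ga S), ∃ y' : X ⟶ Red.Ga S,
      y' ≫ pm = (t ≫ i) * (y ≫ pm) * (t ≫ i)⁻¹ ∧ Red.gaFn y' * Red.gmFn (t ≫ α) = Red.gaFn y)
    (hΩ : IsOpenImmersion (((pm ⊗ₘ i) ⊗ₘ pp) ≫ (μ[G] ▷ G) ≫ μ[G]).left)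
    (av : Red.Gm S ⟶ T) [IsMonHom av] (h2 : av ≫ α = (𝟙 (Red.Gm S)) ^ 2)
    (hF : ∀ (X : Over S) (x y : X ⟶ Red.Ga S), IsUnit (1 + Red.gaFn x * Red.gaFn y) →
      ∃ (x' y' : X ⟶ Red.Ga S) (z : X ⟶ Red.Gm S), Red.gmFn z = 1 + Red.gaFn x * Red.gaFn y ∧
        Red.gaFn x' * Red.gmFn z = Red.gaFn x ∧ Red.gaFn y' * Red.gmFn z = Red.gaFn y ∧
        (x ≫ pp) * (y ≫ pm) = (y' ≫ pm) * (z ≫ av ≫ i) * (x' ≫ pp))
    (e₁ em : 𝟙_ (Over S) ⟶ Red.Ga S) (he₁ : Red.gaFn e₁ = 1) (hem : Red.gaFn em = -1)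
    (n : ℤ) (hn : n ≠ 0) (w : 𝟙_ (Over S) ⟶ G)
    (hw : ∀ (X : Over S) (z : X ⟶ Red.Gm S),
      (toUnit X ≫ w) * (((z ≫ av) ^ n) ≫ i) * (toUnit X ≫ w)⁻¹ = ((((z ≫ av) ^ n) ≫ i))⁻¹)
    (hconj : w * (e₁ ≫ pp) * w⁻¹ = (e₁ ≫ pp)⁻¹ * w * (e₁ ≫ pp)⁻¹) :
    w = (e₁ ≫ pp) * (em ≫ pm) * (e₁ ≫ pp) := by
  haveI : IsOpenImmersion (cellMap i pp pm).left := hΩ
  obtain rfl : e₁ = gp 1 := GaPoints.gaFn_injective (by rw [he₁, gaFn_gp])
  obtain rfl : em = gp (-1) := GaPoints.gaFn_injective (by rw [hem, gaFn_gp])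
  obtain ⟨t, rfl⟩ := exists_torus_mul_weyl hG hTm.2.2.1 hpp hpm h2 hF hn w hw
  let σ := sys hpp hpm h2 hF (𝟙_ (Over S))
  have hconj' : σ.I t * σ.w 1 (-1) * σ.P 1 * (σ.I t * σ.w 1 (-1))⁻¹ =
      (σ.P 1)⁻¹ * (σ.I t * σ.w 1 (-1)) * (σ.P 1)⁻¹ := hconj
  have hroot : σ.w 1 (-1) * σ.P 1 * (σ.w 1 (-1))⁻¹ = σ.M (-1) :=
    w_conj_root hpp hpm h2 hF (𝟙_ (Over S)) 1 (-1) (by rw [_root_.mul_one])
  set a' := (σ.al t)⁻¹.1 with ha'
  have hL : σ.I t * σ.w 1 (-1) * σ.P 1 * (σ.I t * σ.w 1 (-1))⁻¹ = σ.M (a' * -1) := by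
    calc σ.I t * σ.w 1 (-1) * σ.P 1 * (σ.I t * σ.w 1 (-1))⁻¹
        = σ.I t * (σ.w 1 (-1) * σ.P 1 * (σ.w 1 (-1))⁻¹) * (σ.I t)⁻¹ := by group
      _ = _ := by rw [hroot, σ.I_M, mul_inv_cancel_right]
  have hR : (σ.P 1)⁻¹ * (σ.I t * σ.w 1 (-1)) * (σ.P 1)⁻¹ = σ.I t * σ.P (a' * -1 + 1) * σ.M (-1) := by
    have h1 : σ.P (-1) * σ.I t = σ.I t * σ.P (a' * -1) := σ.P_I t (-1)
    rw [← σ.P_neg, σ.P_add]
    calc σ.P (-1) * (σ.I t * σ.w 1 (-1)) * σ.P (-1)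
        = (σ.P (-1) * σ.I t) * σ.P 1 * σ.M (-1) * (σ.P 1 * σ.P (-1)) := by
          simp only [Sys.w, _root_.mul_assoc]
      _ = _ := by rw [h1, ← σ.P_add 1 (-1), add_neg_cancel, σ.P_zero, _root_.mul_one]; group
  have h := hL.symm.trans (hconj'.trans hR)
  have hP : σ.P (a' * -1 + 1) = σ.M ((σ.al t⁻¹)⁻¹.1 * (a' * -1 + 1)) * σ.I t⁻¹ := by
    calc σ.P (a' * -1 + 1)
        = (σ.I t)⁻¹ * (σ.I t * σ.P (a' * -1 + 1) * σ.M (-1)) * (σ.M (-1))⁻¹ := by group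
      _ = (σ.I t)⁻¹ * σ.M (a' * -1) * σ.M 1 := by rw [← h, ← σ.M_neg, neg_neg]
      _ = _ := by rw [← map_inv, _root_.mul_assoc, ← σ.M_add, σ.I_M]
  have h' : σ.M 0 * σ.I 1 * σ.P (a' * -1 + 1) =
      σ.M ((σ.al t⁻¹)⁻¹.1 * (a' * -1 + 1)) * σ.I t⁻¹ * σ.P 0 := by
    rw [σ.M_zero, map_one, _root_.one_mul, _root_.one_mul, σ.P_zero, _root_.mul_one]
    exact hP
  obtain ⟨-, ht, -⟩ := cell_inj i pp pm h'
  rw [inv_eq_one.1 ht.symm, MonObj.one_comp, _root_.one_mul]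

end Groth.Agent.S8451
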