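import Groth.Statements.S8452
import Groth.Agent.RankOneCellLib.Morph3

set_option autoImplicit false
universe u
open CategoryTheory MonoidalCategory CartesianMonoidalCategory MonObj GrpObj AlgebraicGeometry CategoryTheory.Limits
open Red

set_option backward.isDefEq.respectTransparency false
set_option backward.isDefEq.respectTransparency.types false
set_option linter.style.haveILetI false
open Groth.Agent.RankOneRelLib Groth.Agent.RankOneCellLib

namespace Groth.Agent.S8452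

/-- Let (G, T, α, p₊, p₋, α^*) and (G', T', α', p'₊, p'₋, α'^*) be two rank-one systems over S: G
reductive, i : T ⟶ G a maximal torus, α a character of T non-trivial on every geometric fibre, p₊,
p₋ : 𝔾_a ⟶ G monomorphisms normalised by T with multipliers α, α⁻¹ whose cell map (y, t, x) ↦ p₋(y)
i(t) p₊(x) is an open immersion, α^* : 𝔾_m ⟶ T with α ∘ α^* the squaring map and p₊(x) p₋(y) =
p₋(y/(1+xy)) · i(α^*(1+xy)) · p₊(x/(1+xy)) whenever 1 + xy is invertible; likewise for the primed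
data. Let q > 0 be an integer such that x ↦ x^q is additive on all functions of S-schemes. For a
homomorphism f : G ⟶ G' the following are equivalent: (i) f restricted to T factors through a
homomorphism f_T : T ⟶ T' with α' ∘ f_T = α^q and f_T ∘ α^* = (α'^*)^q; (ii) there is an S-point c
of 𝔾_m (it is then unique) with f(p₊(x)) = p'₊(c x^q) and f(p₋(y)) = p'₋(c⁻¹ y^q) for all points x,
y of 𝔾_a. -/
theorem result (S : Scheme.{u}) (G T : Over S) [GrpObj G] [GrpObj T] (i : T ⟶ G) [IsMonHom i] [Mono i] (hG : Red.IsReductive G) (hTm : Red.IsMaximalTorus i)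
    (α : T ⟶ Red.Gm S) [IsMonHom α] (hα : ∀ s : S, (Over.pullback (Red.geomPt s)).map α ≠ 1)
    (pp pm : Red.Ga S ⟶ G) [IsMonHom pp] [Mono pp] [IsMonHom pm] [Mono pm]
    (hpp : ∀ (X : Over S) (t : X ⟶ T) (x : X ⟶ Red.Ga S), ∃ x' : X ⟶ Red.Ga S,
      x' ≫ pp = (t ≫ i) * (x ≫ pp) * (t ≫ i)⁻¹ ∧ Red.gaFn x' = Red.gmFn (t ≫ α) * Red.gaFn x)
    (hpm : ∀ (X : Over S) (t : X ⟶ T) (y : X ⟶ Red.Ga S), ∃ y' : X ⟶ Red.Ga S,
      y' ≫ pm = (t ≫ i) * (y ≫ pm) * (t ≫ i)⁻¹ ∧ Red.gaFn y' * Red.gmFn (t ≫ α) = Red.gaFn y)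
    (hΩ : IsOpenImmersion (((pm ⊗ₘ i) ⊗ₘ pp) ≫ (μ[G] ▷ G) ≫ μ[G]).left)
    (av : Red.Gm S ⟶ T) [IsMonHom av] (h2 : av ≫ α = (𝟙 (Red.Gm S)) ^ 2)
    (hF : ∀ (X : Over S) (x y : X ⟶ Red.Ga S), IsUnit (1 + Red.gaFn x * Red.gaFn y) →
      ∃ (x' y' : X ⟶ Red.Ga S) (z : X ⟶ Red.Gm S), Red.gmFn z = 1 + Red.gaFn x * Red.gaFn y ∧
        Red.gaFn x' * Red.gmFn z = Red.gaFn x ∧ Red.gaFn y' * Red.gmFn z = Red.gaFn y ∧
        (x ≫ pp) * (y ≫ pm) = (y' ≫ pm) * (z ≫ av ≫ i) * (x' ≫ pp))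
    (G' T' : Over S) [GrpObj G'] [GrpObj T'] (i' : T' ⟶ G') [IsMonHom i'] [Mono i'] (hG' : Red.IsReductive G') (hTm' : Red.IsMaximalTorus i')
    (α' : T' ⟶ Red.Gm S) [IsMonHom α'] (hα' : ∀ s : S, (Over.pullback (Red.geomPt s)).map α' ≠ 1)
    (pp' pm' : Red.Ga S ⟶ G') [IsMonHom pp'] [Mono pp'] [IsMonHom pm'] [Mono pm']
    (hpp' : ∀ (X : Over S) (t : X ⟶ T') (x : X ⟶ Red.Ga S), ∃ x' : X ⟶ Red.Ga S,
      x' ≫ pp' = (t ≫ i') * (x ≫ pp') * (t ≫ i')⁻¹ ∧ Red.gaFn x' = Red.gmFn (t ≫ α') * Red.gaFn x)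
    (hpm' : ∀ (X : Over S) (t : X ⟶ T') (y : X ⟶ Red.Ga S), ∃ y' : X ⟶ Red.Ga S,
      y' ≫ pm' = (t ≫ i') * (y ≫ pm') * (t ≫ i')⁻¹ ∧ Red.gaFn y' * Red.gmFn (t ≫ α') = Red.gaFn y)
    (hΩ' : IsOpenImmersion (((pm' ⊗ₘ i') ⊗ₘ pp') ≫ (μ[G'] ▷ G') ≫ μ[G']).left)
    (av' : Red.Gm S ⟶ T') [IsMonHom av'] (h2' : av' ≫ α' = (𝟙 (Red.Gm S)) ^ 2)
    (hF' : ∀ (X : Over S) (x y : X ⟶ Red.Ga S), IsUnit (1 + Red.gaFn x * Red.gaFn y) →
      ∃ (x' y' : X ⟶ Red.Ga S) (z : X ⟶ Red.Gm S), Red.gmFn z = 1 + Red.gaFn x * Red.gaFn y ∧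
        Red.gaFn x' * Red.gmFn z = Red.gaFn x ∧ Red.gaFn y' * Red.gmFn z = Red.gaFn y ∧
        (x ≫ pp') * (y ≫ pm') = (y' ≫ pm') * (z ≫ av' ≫ i') * (x' ≫ pp'))
    (q : ℕ) (hq0 : 0 < q) (hq : ∀ (X : Over S) (a b : Γ(X.left, ⊤)), (a + b) ^ q = a ^ q + b ^ q) (f : G ⟶ G') [IsMonHom f] :
    (∃ fT : T ⟶ T', IsMonHom fT ∧ i ≫ f = fT ≫ i' ∧ fT ≫ α' = α ^ q ∧ av ≫ fT = av' ^ q) ↔
      ∃! c : 𝟙_ (Over S) ⟶ Red.Gm S,
        (∀ (X : Over S) (x y : X ⟶ Red.Ga S), Red.gaFn y = Red.gmFn (toUnit X ≫ c) * Red.gaFn x ^ q →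
          (x ≫ pp) ≫ f = y ≫ pp') ∧
        (∀ (X : Over S) (x y : X ⟶ Red.Ga S), Red.gaFn y * Red.gmFn (toUnit X ≫ c) = Red.gaFn x ^ q →
          (x ≫ pm) ≫ f = y ≫ pm') := by
  haveI : IsOpenImmersion (cellMap i pp pm).left := hΩ
  haveI : IsOpenImmersion (cellMap i' pp' pm').left := hΩ'
  have hT := hTm.2.2.1
  have hT' := hTm'.2.2.1
  constructor
  · rintro ⟨fT, hfTm, hfT, hfTα, hfTav⟩
    haveI := hfTm
    obtain ⟨hfl, hsu⟩ := flatSurj_of_geomFibre_ne_one hT α hα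
    obtain ⟨hqfl, hqsu⟩ : Flat (fT ≫ α').left ∧ Surjective (fT ≫ α').left :=
      flatSurj_of_geomFibre_ne_one hT (fT ≫ α') fun s => by
        rw [hfTα]
        exact pow_char_ne_one α hfl hsu (by omega) s
    obtain ⟨ν, hν, huniq⟩ := existsUnique_root (G := G') (T := T') (Q := T) (i := i') (j := fT) (α := α')
      (pp := pp') (pm := pm') hT' hpp' hpm' hqfl hqsu q (pp ≫ f) fun Y t x x' hx => by
        obtain ⟨x'', h1, h2'⟩ := hpp Y (t ^ q) x
        have e : x' = x'' := GaPoints.gaFn_injective (by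
          rw [hx, h2', hfTα, MonObj.comp_pow, gmFn_pow, pow_comp α t q, gmFn_pow])
        rw [e, ← Category.assoc, h1, MonObj.mul_comp, MonObj.mul_comp, GrpObj.inv_comp, Category.assoc _ i f, hfT,
          ← Category.assoc _ fT i', pow_comp fT t q, pow_comp i' (t ≫ fT) q]
        simp only [Category.assoc]
    haveI := isOpenImmersion_swap i' pp' pm'
    have hinv : ∀ {Y : Over S} (t : Y ⟶ T'), Red.gmFn (t ≫ α'⁻¹) * Red.gmFn (t ≫ α') = 1 := fun t => by
      rw [GrpObj.comp_inv]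
      exact GmPts.gmFn_inv _
    obtain ⟨hifl, hisu⟩ : Flat (fT ≫ α'⁻¹).left ∧ Surjective (fT ≫ α'⁻¹).left := by
      rw [GrpObj.comp_inv]
      exact flat_surj_inv _ hqfl hqsu
    obtain ⟨μ', hμ, -⟩ := existsUnique_root (G := G') (T := T') (Q := T) (i := i') (j := fT) (α := α'⁻¹)
      (pp := pm') (pm := pp') hT'
      (fun Y t x => by
        obtain ⟨x', h1, h2'⟩ := hpm' Y t x
        refine ⟨x', h1, ?_⟩
        linear_combination Red.gmFn (t ≫ α'⁻¹) * h2' - Red.gaFn x' * hinv t)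
      (fun Y t x => by
        obtain ⟨x', h1, h2'⟩ := hpp' Y t x
        refine ⟨x', h1, ?_⟩
        linear_combination Red.gmFn (t ≫ α'⁻¹) * h2' + Red.gaFn x * hinv t)
      hifl hisu q (pm ≫ f) fun Y t x x' hx => by
        obtain ⟨x'', h1, h2'⟩ := hpm Y (t ^ q) x
        have hi : Red.gmFn (t ≫ fT ≫ α'⁻¹) * Red.gmFn ((t ^ q) ≫ α) = 1 := by
          rw [pow_comp α t q, ← MonObj.comp_pow, ← hfTα, ← Category.assoc, ← Category.assoc t fT α']
          exact hinv _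
        have e : x' = x'' := GaPoints.gaFn_injective (by
          linear_combination hx + Red.gmFn (t ≫ fT ≫ α'⁻¹) * (-h2') + Red.gaFn x'' * hi)
        rw [e, ← Category.assoc, h1, MonObj.mul_comp, MonObj.mul_comp, GrpObj.inv_comp, Category.assoc _ i f, hfT,
          ← Category.assoc _ fT i', pow_comp fT t q, pow_comp i' (t ≫ fT) q]
        simp only [Category.assoc]
    have hfp : ∀ (W : Over S) (x : W ⟶ Red.Ga S),
        (x ≫ pp) ≫ f = gp (Red.gaFn (toUnit W ≫ ν) * Red.gaFn x ^ q) ≫ pp' := fun W x => by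
      rw [Category.assoc]
      exact hν W x _ (by rw [gaFn_gp])
    have hfm : ∀ (W : Over S) (x : W ⟶ Red.Ga S),
        (x ≫ pm) ≫ f = gp (Red.gaFn (toUnit W ≫ μ') * Red.gaFn x ^ q) ≫ pm' := fun W x => by
      rw [Category.assoc]
      exact hμ W x _ (by rw [gaFn_gp])
    -- the coefficients are inverse to each other
    have hk1 : Red.gaFn ν * Red.gaFn μ' = 1 := by
      set k := Red.gaFn ν * Red.gaFn μ' with hk
      obtain ⟨Z', g, hg, -, a, ha⟩ := exists_unitVal'' (𝟙_ (Over S))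
        (p := Polynomial.X * (1 + Polynomial.X) * (1 + Polynomial.C k * Polynomial.X ^ q) *
          (2 + Polynomial.X ^ q)) (fun K _ φ => by
          simp only [Polynomial.map_mul, Polynomial.map_add, Polynomial.map_pow, Polynomial.map_X,
            Polynomial.map_one, Polynomial.map_C, Polynomial.map_ofNat]
          refine mul_ne_zero (mul_ne_zero (mul_ne_zero Polynomial.X_ne_zero ?_) ?_) ?_ <;> intro h0
          · simpa using congrArg (fun r : Polynomial K => r.coeff 0) h0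
          · simpa [hq0.ne, hq0.ne'] using congrArg (fun r : Polynomial K => r.coeff 0) h0
          · rw [add_comm, show (2 : Polynomial K) = Polynomial.C 2 from (map_ofNat Polynomial.C 2).symm] at h0
            exact (Polynomial.monic_X_pow_add_C (2 : K) hq0.ne').ne_zero h0)
      haveI := hg
      simp only [Polynomial.eval₂_mul, Polynomial.eval₂_add, Polynomial.eval₂_X, Polynomial.eval₂_C,
        Polynomial.eval₂_one, Polynomial.eval₂_pow, Polynomial.eval₂_ofNat, IsUnit.mul_iff] at ha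
      obtain ⟨⟨⟨ha0, ha1⟩, hak⟩, ha2⟩ := ha
      set N := Red.gaFn (toUnit Z' ≫ ν) with hN
      set M := Red.gaFn (toUnit Z' ≫ μ') with hM
      have hk' : g.left.appTop k = N * M := by
        rw [hk, map_mul, ← GaPoints.gaFn_comp, ← GaPoints.gaFn_comp, hN, hM, toUnit_unique g (toUnit Z')]
      change IsUnit (1 + g.left.appTop k * a ^ q) at hak
      rw [hk'] at hak
      obtain ⟨x', y', z, hz, hx', hy', hrule⟩ := hF Z' (gp 1) (gp a) (by rwa [gaFn_gp, gaFn_gp, _root_.one_mul])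
      rw [gaFn_gp, gaFn_gp, _root_.one_mul] at hz
      rw [gaFn_gp] at hx' hy'
      have h := congrArg (fun r => r ≫ f) hrule
      simp only [MonObj.mul_comp] at h
      rw [hfp, hfp, hfm, hfm, gaFn_gp, gaFn_gp, one_pow, _root_.mul_one] at h
      obtain ⟨x₂, y₂, z₂, hz₂, hx₂, hy₂, hrule₂⟩ := hF' Z' (gp N) (gp (M * a ^ q)) (by
        rw [gaFn_gp, gaFn_gp, ← _root_.mul_assoc]; exact hak)
      rw [gaFn_gp, gaFn_gp] at hz₂
      rw [gaFn_gp] at hx₂ hy₂
      rw [hrule₂] at h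
      simp only [Category.assoc] at h
      rw [hfT, reassoc_of% hfTav] at h
      simp only [← Category.assoc] at h
      obtain ⟨-, h2t, h3⟩ := cell_inj i' pp' pm' h
      rw [h3, gaFn_gp] at hx₂
      have hw : Red.gmFn z₂ * Red.gmFn z₂ = Red.gmFn z ^ q * Red.gmFn z ^ q := by
        have e := congrArg (fun r : Z' ⟶ T' => Red.gmFn (r ≫ α')) h2t
        simp only [MonObj.comp_pow, MonObj.pow_comp, gmFn_pow, Category.assoc, h2', Category.comp_id] at e
        rw [← sq, e]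
        ring
      have hzq : Red.gmFn z ^ q = 1 + a ^ q := by rw [hz, hq, one_pow]
      have hxq : Red.gaFn x' ^ q * Red.gmFn z ^ q = 1 := by rw [← mul_pow, hx', one_pow]
      -- N (z₂ - z^q) = 0
      have hd : N * (Red.gmFn z₂ - Red.gmFn z ^ q) = 0 := by
        linear_combination Red.gmFn z ^ q * hx₂ - N * Red.gmFn z₂ * hxq
      have e1 : (N * M) * a ^ q * (N * M - 1) = 0 := by
        linear_combination M * hd + M * N * hzq - M * N * hz₂
      have e2 : (N * M - 1) * (2 + (N * M + 1) * a ^ q) * a ^ q = 0 := by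
        linear_combination hw - (Red.gmFn z₂ + 1 + N * M * a ^ q) * hz₂ + (Red.gmFn z ^ q + 1 + a ^ q) * hzq
      have e3 : g.left.appTop k = 1 := by
        rw [hk']
        refine (ha2.mul (ha0.pow q)).mul_left_cancel ?_
        linear_combination e2 - a ^ q * e1
      have e : gp (X := 𝟙_ (Over S)) k = gp 1 := (cancel_epi g).1 (by rw [comp_gp, comp_gp, e3, map_one])
      simpa [gaFn_gp] using congrArg Red.gaFn e
    let cu : Γ((𝟙_ (Over S)).left, ⊤)ˣ := ⟨Red.gaFn ν, Red.gaFn μ', hk1, by rw [mul_comm, hk1]⟩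
    have hc : ∀ (W : Over S), Red.gmFn (toUnit W ≫ GmPts.ptOfUnit cu) = Red.gaFn (toUnit W ≫ ν) := fun W => by
      rw [GmPts.gmFn_comp, GmPts.gmFn_ptOfUnit, GaPoints.gaFn_comp]
    refine ⟨GmPts.ptOfUnit cu, ⟨fun X x y hy => ?_, fun X x y hy => ?_⟩, fun c' hc' => ?_⟩
    · rw [Category.assoc]
      exact hν X x y (by rw [hy, hc])
    · rw [Category.assoc]
      refine hμ X x y ?_
      have h1 : Red.gmFn (toUnit X ≫ GmPts.ptOfUnit cu) * Red.gaFn (toUnit X ≫ μ') = 1 := by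
        rw [hc, GaPoints.gaFn_comp, GaPoints.gaFn_comp, ← map_mul, hk1, map_one]
      linear_combination Red.gaFn (toUnit X ≫ μ') * hy - Red.gaFn y * h1
    · have h := huniq (gp (Red.gmFn c')) fun X x y hy => by
        rw [← Category.assoc]
        exact hc'.1 X x y (by rw [hy, GaPoints.gaFn_comp, gaFn_gp, GmPts.gmFn_comp])
      apply GmPts.gmFn_injective
      show Red.gmFn _ = Red.gmFn _
      rw [GmPts.gmFn_ptOfUnit, ← gaFn_gp (Red.gmFn c'), h]
  · rintro ⟨c, ⟨hc1, hc2⟩, -⟩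
    -- the image of the coroot
    have hav : ∀ (Z : Over S) (z : Z ⟶ Red.Gm S), (z ≫ av ≫ i) ≫ f = ((z ≫ av') ^ q) ≫ i' := by
      intro Z z
      let w := Red.gmFn z
      let C := Red.gmFn (toUnit Z ≫ c)
      let Ci := Red.gmFn (toUnit Z ≫ c)⁻¹
      have hCi : Ci * C = 1 := GmPts.gmFn_inv _
      have hwu : IsUnit w := GmPts.isUnit_gmFn z
      obtain ⟨x', y', z', hz', hx', hy', hrule⟩ := hF Z (gp 1) (gp (w - 1)) (by
        rw [gaFn_gp, gaFn_gp, _root_.one_mul, add_sub_cancel]; exact hwu)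
      rw [gaFn_gp, gaFn_gp, _root_.one_mul, add_sub_cancel] at hz'
      rw [GmPts.gmFn_injective hz'] at hx' hy' hrule
      rw [gaFn_gp] at hx' hy'
      have hwq : w ^ q = 1 + (w - 1) ^ q := by
        rw [← one_pow q, ← hq, one_pow, add_sub_cancel]
      have h := congrArg (fun r => r ≫ f) hrule
      simp only [MonObj.mul_comp] at h
      rw [hc1 Z (gp 1) (gp C) (by rw [gaFn_gp, gaFn_gp, one_pow, _root_.mul_one]),
        hc2 Z (gp (w - 1)) (gp (Ci * (w - 1) ^ q)) (by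
          rw [gaFn_gp, gaFn_gp]; linear_combination (w - 1) ^ q * hCi),
        hc1 Z x' (gp (C * Red.gaFn x' ^ q)) (by rw [gaFn_gp]),
        hc2 Z y' (gp (Ci * Red.gaFn y' ^ q)) (by rw [gaFn_gp]; linear_combination Red.gaFn y' ^ q * hCi)] at h
      obtain ⟨x₂, y₂, z₂, hz₂, hx₂, hy₂, hrule₂⟩ := hF' Z (gp C) (gp (Ci * (w - 1) ^ q)) (by
        rw [gaFn_gp, gaFn_gp, ← _root_.mul_assoc, mul_comm C Ci, hCi, _root_.one_mul, ← hwq]; exact hwu.pow q)
      rw [gaFn_gp, gaFn_gp] at hz₂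
      rw [gaFn_gp] at hx₂ hy₂
      have hz₂' : Red.gmFn z₂ = w ^ q := by linear_combination hz₂ + (w - 1) ^ q * hCi - hwq
      have ez : z₂ = z ^ q := GmPts.gmFn_injective (by
        show Red.gmFn _ = Red.gmFn _
        rw [gmFn_pow, hz₂'])
      have hxq : Red.gaFn x' ^ q * w ^ q = 1 := by rw [← mul_pow, hx', one_pow]
      have hyq : Red.gaFn y' ^ q * w ^ q = (w - 1) ^ q := by rw [← mul_pow, hy']
      have ex : gp (C * Red.gaFn x' ^ q) = x₂ := GaPoints.gaFn_injective ((hwu.pow q).mul_right_cancel (by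
        rw [gaFn_gp]
        linear_combination C * hxq - hx₂
          + Red.gaFn x₂ * hz₂'))
      have ey : gp (Ci * Red.gaFn y' ^ q) = y₂ := GaPoints.gaFn_injective ((hwu.pow q).mul_right_cancel (by
        rw [gaFn_gp]
        linear_combination Ci * hyq - hy₂
          + Red.gaFn y₂ * hz₂'))
      rw [hrule₂, ex, ey, ez] at h
      simp only [mul_left_inj, mul_right_inj] at h
      rw [← Category.assoc (z ^ q), MonObj.pow_comp z q av'] at h
      exact h.symm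
    obtain ⟨fT, hfT⟩ : ∃ fT : T ⟶ T', fT ≫ i' = i ≫ f := by
      refine exists_torus_of_commute (i := i') (α := α') (pp := pp') (pm := pm') (av := av') hG' hT' hpp' hpm' h2'
        hF' (n := (q : ℤ)) (by exact_mod_cast hq0.ne') (i ≫ f) fun X y z => ?_
      rw [zpow_natCast, ← hav X z, ← Category.assoc z, ← Category.assoc, ← MonObj.mul_comp, ← MonObj.mul_comp,
        ← MonObj.mul_comp, ← MonObj.mul_comp, pts_comm_of_isTorus hT]
    haveI : IsMonHom fT :=
      ⟨by rw [← cancel_mono i', Category.assoc, hfT, ← Category.assoc, IsMonHom.one_hom, IsMonHom.one_hom, IsMonHom.one_hom],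
       by rw [← cancel_mono i', Category.assoc, hfT]; simp only [Category.assoc, IsMonHom.mul_hom_assoc, IsMonHom.mul_hom,
            MonoidalCategory.tensorHom_comp_tensorHom_assoc, MonoidalCategory.tensorHom_comp_tensorHom, hfT]⟩
    refine ⟨fT, inferInstance, hfT.symm, ?_, ?_⟩
    · apply GmPts.gmFn_injective
      show Red.gmFn _ = Red.gmFn _
      obtain ⟨x', hx', hx''⟩ := hpp T (𝟙 T) (gp 1)
      obtain ⟨x₂, hx₂, hx₂'⟩ := hpp' T fT (gp (Red.gmFn (toUnit T ≫ c)))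
      rw [Category.id_comp, gaFn_gp, _root_.mul_one] at hx''
      rw [gaFn_gp] at hx₂'
      rw [Category.id_comp] at hx'
      have h := congrArg (fun r => r ≫ f) hx'
      simp only [MonObj.mul_comp, GrpObj.inv_comp] at h
      rw [hc1 T x' (gp (Red.gmFn (toUnit T ≫ c) * Red.gaFn x' ^ q)) (by rw [gaFn_gp]),
        hc1 T (gp 1) (gp (Red.gmFn (toUnit T ≫ c))) (by rw [gaFn_gp, gaFn_gp, one_pow, _root_.mul_one]), ← hfT,
        ← hx₂, cancel_mono] at h
      rw [gmFn_pow, ← hx'']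
      refine (GmPts.isUnit_gmFn (toUnit T ≫ c)).mul_right_cancel ?_
      rw [← hx₂', ← h, gaFn_gp, _root_.mul_comm]
    · rw [← cancel_mono i', Category.assoc, hfT]
      simpa only [Category.id_comp, Category.assoc] using hav (Red.Gm S) (𝟙 _)

end Groth.Agent.S8452
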