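import Groth.Statements.S8453
import Groth.Agent.RankOneCellLib.Ext
import Groth.Agent.S8452

set_option autoImplicit false
universe u
open CategoryTheory MonoidalCategory CartesianMonoidalCategory MonObj GrpObj AlgebraicGeometry CategoryTheory.Limits
open Red

set_option backward.isDefEq.respectTransparency false
set_option backward.isDefEq.respectTransparency.types false
set_option linter.style.haveILetI false
open Groth.Agent.RankOneRelLib Groth.Agent.RankOneCellLib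

namespace Groth.Agent.S8453

/-- An additive map `x ↦ d xᵠ` followed by a homomorphism. -/
theorem isMonHom_of_add {S : Scheme.{u}} {H : Over S} [GrpObj H] (φ : Red.Ga S ⟶ H)
    (hadd : ∀ (X : Over S) (x y : X ⟶ Red.Ga S), (x * y) ≫ φ = (x ≫ φ) * (y ≫ φ)) : IsMonHom φ where
  one_hom := by
    have e := hadd (𝟙_ (Over S)) 1 1
    rw [_root_.one_mul, left_eq_mul] at e
    rwa [one_eq_one, one_eq_one]
  mul_hom := by
    rw [mul_eq_mul, mul_eq_mul, hadd, MonObj.comp_mul, tensorHom_fst, tensorHom_snd]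

/-- Isomorphism thm for groups of semisimple rank 1: Let (G, T, α, p₊, p₋, α^*) and (G', T', α', p'₊,
p'₋, α'^*) be two rank-one systems over S: G reductive, i : T ⟶ G a maximal torus, α a character of
T non-trivial on every geometric fibre, p₊, p₋ : 𝔾_a ⟶ G monomorphisms normalised by T with
multipliers α, α⁻¹ whose cell map (y, t, x) ↦ p₋(y) i(t) p₊(x) is an open immersion, α^* : 𝔾_m ⟶ T
with α ∘ α^* the squaring map and p₊(x) p₋(y) = p₋(y/(1+xy)) · i(α^*(1+xy)) · p₊(x/(1+xy)) whenever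
1 + xy is invertible; likewise for the primed data. Let q > 0 be an integer such that x ↦ x^q is
additive on all functions of S-schemes. Let c be an S-point of 𝔾_m (a trivialisation of the
isomorphism (𝔤^α)^{⊗q} ≅ 𝔤'^{α'}) and f_T : T ⟶ T' a homomorphism with α' ∘ f_T = α^q and f_T ∘ α^*
= (α'^*)^q. Then there is exactly one homomorphism f : G ⟶ G' extending f_T (i ∘ f = f_T ∘ i') with
f(p₊(x)) = p'₊(c x^q) for all points x of 𝔾_a; moreover every such f satisfies f(p₋(y)) = p'₋(c⁻¹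
y^q) for all points y. -/
theorem result (S : Scheme.{u}) (G T : Over S) [GrpObj G] [GrpObj T] (i : T ⟶ G) [IsMonHom i] [Mono i] (hG : Red.IsReductive G) (hTm : Red.IsMaximalTorus i)
    (α : T ⟶ Red.Gm S) [IsMonHom α] (hα : ∀ s : S, (Over.pullback (Red.geomPt s)).map α ≠ 1)
    (pp pm : Red.Ga S ⟶ G) [IsMonHom pp] [Mono pp] [IsMonHom pm] [Mono pm]
    (hpp : ∀ (X : Over S) (t : X ⟶ T) (x : X ⟶ Red.Ga S), ∃ x' : X ⟶ Red.Ga S,
      x' ≫ pp = (t ≫ i) * (x ≫ pp) * (t ≫ i)⁻¹ ∧ Red.gaFn x' = Red.gmFn (t ≫ α) * Red.gaFn x)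
    (hpm : ∀ (X : Over S) (t : X ⟶ T) (y : X ⟶ Red.Ga S), ∃ y' : X ⟶ Red.Ga S,
      y' ≫ pm = (t ≫ i) * (y ≫ pm) * (t ≫ i)⁻¹ ∧ Red.gaFn y' * Red.gmFn (t ≫ α) = Red.gaFn y)
    (hΩ : IsOpenImmersion (((pm ⊗ₘ i) ⊗ₘ pp) ≫ (μ[G] ▷ G) ≫ μ[G]).left)
    (av : Red.Gm S ⟶ T) [IsMonHom av] (h2 : av ≫ α = (𝟙 (Red.Gm S)) ^ 2)
    (hF : ∀ (X : Over S) (x y : X ⟶ Red.Ga S), IsUnit (1 + Red.gaFn x * Red.gaFn y) →
      ∃ (x' y' : X ⟶ Red.Ga S) (z : X ⟶ Red.Gm S), Red.gmFn z = 1 + Red.gaFn x * Red.gaFn y ∧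
        Red.gaFn x' * Red.gmFn z = Red.gaFn x ∧ Red.gaFn y' * Red.gmFn z = Red.gaFn y ∧
        (x ≫ pp) * (y ≫ pm) = (y' ≫ pm) * (z ≫ av ≫ i) * (x' ≫ pp))
    (G' T' : Over S) [GrpObj G'] [GrpObj T'] (i' : T' ⟶ G') [IsMonHom i'] [Mono i'] (hG' : Red.IsReductive G') (hTm' : Red.IsMaximalTorus i')
    (α' : T' ⟶ Red.Gm S) [IsMonHom α'] (hα' : ∀ s : S, (Over.pullback (Red.geomPt s)).map α' ≠ 1)
    (pp' pm' : Red.Ga S ⟶ G') [IsMonHom pp'] [Mono pp'] [IsMonHom pm'] [Mono pm']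
    (hpp' : ∀ (X : Over S) (t : X ⟶ T') (x : X ⟶ Red.Ga S), ∃ x' : X ⟶ Red.Ga S,
      x' ≫ pp' = (t ≫ i') * (x ≫ pp') * (t ≫ i')⁻¹ ∧ Red.gaFn x' = Red.gmFn (t ≫ α') * Red.gaFn x)
    (hpm' : ∀ (X : Over S) (t : X ⟶ T') (y : X ⟶ Red.Ga S), ∃ y' : X ⟶ Red.Ga S,
      y' ≫ pm' = (t ≫ i') * (y ≫ pm') * (t ≫ i')⁻¹ ∧ Red.gaFn y' * Red.gmFn (t ≫ α') = Red.gaFn y)
    (hΩ' : IsOpenImmersion (((pm' ⊗ₘ i') ⊗ₘ pp') ≫ (μ[G'] ▷ G') ≫ μ[G']).left)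
    (av' : Red.Gm S ⟶ T') [IsMonHom av'] (h2' : av' ≫ α' = (𝟙 (Red.Gm S)) ^ 2)
    (hF' : ∀ (X : Over S) (x y : X ⟶ Red.Ga S), IsUnit (1 + Red.gaFn x * Red.gaFn y) →
      ∃ (x' y' : X ⟶ Red.Ga S) (z : X ⟶ Red.Gm S), Red.gmFn z = 1 + Red.gaFn x * Red.gaFn y ∧
        Red.gaFn x' * Red.gmFn z = Red.gaFn x ∧ Red.gaFn y' * Red.gmFn z = Red.gaFn y ∧
        (x ≫ pp') * (y ≫ pm') = (y' ≫ pm') * (z ≫ av' ≫ i') * (x' ≫ pp'))
    (q : ℕ) (hq0 : 0 < q) (hq : ∀ (X : Over S) (a b : Γ(X.left, ⊤)), (a + b) ^ q = a ^ q + b ^ q) (c : 𝟙_ (Over S) ⟶ Red.Gm S) (fT : T ⟶ T') [IsMonHom fT]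
    (hfTα : fT ≫ α' = α ^ q) (hfTav : av ≫ fT = av' ^ q) :
    (∃! f : G ⟶ G', IsMonHom f ∧ i ≫ f = fT ≫ i' ∧
        ∀ (X : Over S) (x y : X ⟶ Red.Ga S), Red.gaFn y = Red.gmFn (toUnit X ≫ c) * Red.gaFn x ^ q →
          (x ≫ pp) ≫ f = y ≫ pp') ∧
      ∀ f : G ⟶ G', IsMonHom f → i ≫ f = fT ≫ i' →
        (∀ (X : Over S) (x y : X ⟶ Red.Ga S), Red.gaFn y = Red.gmFn (toUnit X ≫ c) * Red.gaFn x ^ q →
          (x ≫ pp) ≫ f = y ≫ pp') →
        ∀ (X : Over S) (x y : X ⟶ Red.Ga S), Red.gaFn y * Red.gmFn (toUnit X ≫ c) = Red.gaFn x ^ q →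
          (x ≫ pm) ≫ f = y ≫ pm' := by
  haveI : IsOpenImmersion (cellMap i pp pm).left := hΩ
  haveI : IsOpenImmersion (cellMap i' pp' pm').left := hΩ'
  have hT := hTm.2.2.1
  have huni : ∀ (f : G ⟶ G'), IsMonHom f → i ≫ f = fT ≫ i' →
      (∀ (X : Over S) (x y : X ⟶ Red.Ga S), Red.gaFn y = Red.gmFn (toUnit X ≫ c) * Red.gaFn x ^ q →
        (x ≫ pp) ≫ f = y ≫ pp') →
      ∀ (X : Over S) (x y : X ⟶ Red.Ga S), Red.gaFn y * Red.gmFn (toUnit X ≫ c) = Red.gaFn x ^ q →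
        (x ≫ pm) ≫ f = y ≫ pm' := by
    intro f hfm hfT hf
    haveI := hfm
    obtain ⟨c', ⟨hc1, hc2⟩, -⟩ := (S8452.result S G T i hG hTm α hα pp pm hpp hpm hΩ av h2 hF G' T' i' hG' hTm' α'
      hα' pp' pm' hpp' hpm' hΩ' av' h2' hF' q hq0 hq f).1 ⟨fT, inferInstance, hfT, hfTα, hfTav⟩
    have e : c' = c := by
      apply GmPts.gmFn_injective
      show Red.gmFn _ = Red.gmFn _
      have h := (hc1 (𝟙_ (Over S)) (gp 1) (gp (Red.gmFn c')) (by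
        rw [gaFn_gp, gaFn_gp, one_pow, _root_.mul_one, toUnit_unique (toUnit (𝟙_ (Over S))) (𝟙 _),
          Category.id_comp])).symm.trans (hf (𝟙_ (Over S)) (gp 1) (gp (Red.gmFn c)) (by
        rw [gaFn_gp, gaFn_gp, one_pow, _root_.mul_one, toUnit_unique (toUnit (𝟙_ (Over S))) (𝟙 _), Category.id_comp]))
      rw [cancel_mono] at h
      simpa [gaFn_gp] using congrArg Red.gaFn h
    subst e
    exact hc2
  let C := fun (X : Over S) => GmPts.unitOfPt (toUnit X ≫ c)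
  have hC : ∀ {X X' : Over S} (g : X' ⟶ X), g.left.appTop (C X : Γ(X.left, ⊤)) = (C X' : Γ(X'.left, ⊤)) :=
    fun g => by
      rw [GmPts.val_unitOfPt, GmPts.val_unitOfPt, ← GmPts.gmFn_comp, ← Category.assoc, comp_toUnit]
  have hCi : ∀ {X X' : Over S} (g : X' ⟶ X), g.left.appTop ((C X)⁻¹).1 = ((C X')⁻¹).1 := fun {X X'} g => by
    apply (C X').isUnit.mul_left_cancel
    rw [Units.mul_inv, ← hC g, ← map_mul, Units.mul_inv, map_one]
  let U := Red.Ga S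
  let φp : U ⟶ G' := gp ((C U : Γ(U.left, ⊤)) * Red.gaFn (𝟙 U) ^ q) ≫ pp'
  let φm : U ⟶ G' := gp (((C U)⁻¹).1 * Red.gaFn (𝟙 U) ^ q) ≫ pm'
  have hφp : ∀ {X : Over S} (x : X ⟶ U), x ≫ φp = gp ((C X : Γ(X.left, ⊤)) * Red.gaFn x ^ q) ≫ pp' := fun x => by
    rw [← Category.assoc, comp_gp, map_mul, hC, map_pow, ← GaPoints.gaFn_comp, Category.comp_id]
  have hφm : ∀ {X : Over S} (x : X ⟶ U), x ≫ φm = gp (((C X)⁻¹).1 * Red.gaFn x ^ q) ≫ pm' := fun x => by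
    rw [← Category.assoc, comp_gp, map_mul, hCi, map_pow, ← GaPoints.gaFn_comp, Category.comp_id]
  haveI : IsMonHom φp := isMonHom_of_add φp fun X x y => by
    rw [hφp, hφp, hφp, ← MonObj.mul_comp, gp_add, GaPoints.gaFn_mul, hq, mul_add]
  haveI : IsMonHom φm := isMonHom_of_add φm fun X x y => by
    rw [hφm, hφm, hφm, ← MonObj.mul_comp, gp_add, GaPoints.gaFn_mul, hq, mul_add]
  have hqα : ∀ {X : Over S} (t : X ⟶ T), Red.gmFn ((t ≫ fT) ≫ α') = Red.gmFn (t ≫ α) ^ q := fun t => by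
    rw [Category.assoc, hfTα, MonObj.comp_pow, gmFn_pow]
  obtain ⟨f, hfm, hf⟩ := exists_hom (G := G) (i := i) (pp := pp) (pm := pm) (fT := fT ≫ i') (fα := φp) (fβ := φm)
    hT hpp hpm h2 hF hG
    (fun X t x => by
      obtain ⟨x₂, h1, h3⟩ := hpp' X (t ≫ fT) (gp ((C X : Γ(X.left, ⊤)) * Red.gaFn x ^ q))
      refine ⟨gp (Red.gmFn (t ≫ α) * Red.gaFn x), ?_, gaFn_gp _⟩
      rw [gaFn_gp, hqα] at h3
      rw [hφp, hφp, gaFn_gp, ← Category.assoc, ← h1]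
      congr 1
      apply GaPoints.gaFn_injective
      rw [gaFn_gp, h3]
      ring)
    (fun X t y => by
      obtain ⟨y₂, h1, h3⟩ := hpm' X (t ≫ fT) (gp (((C X)⁻¹).1 * Red.gaFn y ^ q))
      obtain ⟨a, ha⟩ := GmPts.isUnit_gmFn (t ≫ α)
      refine ⟨gp ((a⁻¹).1 * Red.gaFn y), ?_, by rw [gaFn_gp, ← ha]; linear_combination Red.gaFn y * Units.inv_mul a⟩
      rw [gaFn_gp, hqα, ← ha] at h3
      rw [hφm, hφm, gaFn_gp, ← Category.assoc, ← h1]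
      congr 1
      apply GaPoints.gaFn_injective
      rw [gaFn_gp]
      have hq1 : (a⁻¹).1 ^ q * (a : Γ(X.left, ⊤)) ^ q = 1 := by rw [← mul_pow, Units.inv_mul, one_pow]
      linear_combination -(a⁻¹).1 ^ q * h3 + Red.gaFn y₂ * hq1)
    (fun X x y hu => by
      obtain ⟨w, hw⟩ := hu
      obtain ⟨x₂, y₂, z₂, hz₂, hx₂, hy₂, hrule⟩ := hF' X (gp ((C X : Γ(X.left, ⊤)) * Red.gaFn x ^ q))
        (gp (((C X)⁻¹).1 * Red.gaFn y ^ q)) (by
          rw [gaFn_gp, gaFn_gp, show (1 : Γ(X.left, ⊤)) + (C X : Γ(X.left, ⊤)) * Red.gaFn x ^ q *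
            (((C X)⁻¹).1 * Red.gaFn y ^ q) = (w : Γ(X.left, ⊤)) ^ q by
              rw [hw, hq, one_pow, mul_pow]; linear_combination Red.gaFn x ^ q * Red.gaFn y ^ q * Units.mul_inv (C X)]
          exact w.isUnit.pow q)
      rw [gaFn_gp, gaFn_gp] at hz₂
      rw [gaFn_gp] at hx₂ hy₂
      have hzq : Red.gmFn z₂ = (w : Γ(X.left, ⊤)) ^ q := by
        rw [hz₂, hw, hq, one_pow, mul_pow]
        linear_combination Red.gaFn x ^ q * Red.gaFn y ^ q * Units.mul_inv (C X)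
      refine ⟨gp ((w⁻¹).1 * Red.gaFn x), gp ((w⁻¹).1 * Red.gaFn y), GmPts.ptOfUnit w,
        by rw [GmPts.gmFn_ptOfUnit, hw], by rw [gaFn_gp, GmPts.gmFn_ptOfUnit]; linear_combination Red.gaFn x * Units.inv_mul w,
        by rw [gaFn_gp, GmPts.gmFn_ptOfUnit]; linear_combination Red.gaFn y * Units.inv_mul w, ?_⟩
      have hwq : (w⁻¹).1 ^ q * (w : Γ(X.left, ⊤)) ^ q = 1 := by rw [← mul_pow, Units.inv_mul, one_pow]
      rw [hzq] at hx₂ hy₂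
      have e1 : x₂ = gp ((C X : Γ(X.left, ⊤)) * ((w⁻¹).1 * Red.gaFn x) ^ q) := GaPoints.gaFn_injective (by
        rw [gaFn_gp]; linear_combination (w⁻¹).1 ^ q * hx₂ - Red.gaFn x₂ * hwq)
      have e2 : y₂ = gp (((C X)⁻¹).1 * ((w⁻¹).1 * Red.gaFn y) ^ q) := GaPoints.gaFn_injective (by
        rw [gaFn_gp]; linear_combination (w⁻¹).1 ^ q * hy₂ - Red.gaFn y₂ * hwq)
      have ez : z₂ = (GmPts.ptOfUnit w) ^ q := GmPts.gmFn_injective (by
        show Red.gmFn _ = Red.gmFn _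
        rw [gmFn_pow, GmPts.gmFn_ptOfUnit, hzq])
      rw [e1, e2, ez, ← Category.assoc _ av' i', MonObj.pow_comp (GmPts.ptOfUnit w) q av'] at hrule
      rw [hφp, hφp, hφm, hφm, gaFn_gp, gaFn_gp, hrule, reassoc_of% hfTav, ← Category.assoc _ (av' ^ q) i',
        MonObj.comp_pow])
  haveI := hfm
  have hfi : i ≫ f = fT ≫ i' := by
    have h := congrArg (fun r => lift (lift (1 : T ⟶ U) (𝟙 T)) (1 : T ⟶ U) ≫ r) hf
    rw [← Category.assoc, lift_cellMap, lift_cellMap] at h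
    simpa using h
  have hfpp : ∀ (X : Over S) (x y : X ⟶ Red.Ga S), Red.gaFn y = Red.gmFn (toUnit X ≫ c) * Red.gaFn x ^ q →
      (x ≫ pp) ≫ f = y ≫ pp' := fun X x y hy => by
    have h := congrArg (fun r => lift (lift (1 : X ⟶ U) (1 : X ⟶ T)) x ≫ r) hf
    rw [← Category.assoc, lift_cellMap, lift_cellMap] at h
    simp only [MonObj.one_comp, _root_.one_mul] at h
    rw [h, hφp]
    congr 1
    exact GaPoints.gaFn_injective (by rw [gaFn_gp, hy]; rfl)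
  refine ⟨⟨f, ⟨hfm, hfi, hfpp⟩, ?_⟩, huni⟩
  rintro f' ⟨hfm', hfi', hfpp'⟩
  haveI := hfm'
  refine hom_ext_cell (i := i) (pp := pp) (pm := pm) hG f' f ?_
  rw [← Category.id_comp (cellMap i pp pm), cellMap_eq i pp pm (𝟙 _)]
  simp only [MonObj.mul_comp, Category.id_comp]
  congr 1
  · congr 1
    · have h := fun (g : G ⟶ G') (hg : IsMonHom g) (e : i ≫ g = fT ≫ i') e' =>
        huni g hg e e' (Cl T) (fst _ _ ≫ fst _ _) (gp (((C (Cl T))⁻¹).1 * Red.gaFn (fst _ _ ≫ fst _ _) ^ q)) (by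
          rw [gaFn_gp]
          show _ * (C (Cl T) : Γ((Cl T).left, ⊤)) = _
          linear_combination Red.gaFn (fst _ _ ≫ fst _ _) ^ q * Units.inv_mul (C (Cl T)))
      simpa only [Category.assoc] using (h f' hfm' hfi' hfpp').trans (h f hfm hfi hfpp).symm
    · simp only [Category.assoc, hfi, hfi']
  · have h := fun (g : G ⟶ G') (e' : ∀ (X : Over S) (x y : X ⟶ Red.Ga S), Red.gaFn y = Red.gmFn (toUnit X ≫ c) * Red.gaFn x ^ q →
        (x ≫ pp) ≫ g = y ≫ pp') =>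
      e' (Cl T) (snd _ _) (gp ((C (Cl T) : Γ((Cl T).left, ⊤)) * Red.gaFn (snd (Red.Ga S ⊗ T) _) ^ q)) (gaFn_gp _)
    exact (h f' hfpp').trans (h f hfpp).symm

end Groth.Agent.S8453
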