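import Groth.Statements.S8456
import Groth.Agent.CommFormLib.Formula
import Groth.Agent.RankOneCellLib.Quot
import Groth.Agent.S8446

set_option autoImplicit false
universe u
open CategoryTheory MonoidalCategory CartesianMonoidalCategory MonObj GrpObj AlgebraicGeometry CategoryTheory.Limits
open Red

set_option backward.isDefEq.respectTransparency false
set_option backward.isDefEq.respectTransparency.types false
set_option linter.style.haveILetI false
set_option linter.unusedSectionVars false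
open Groth.Agent.RankOneRelLib Groth.Agent.RankOneCellLib Groth.Agent.CommFormLib

namespace Groth.Agent.S8456

variable {S : Scheme.{u}} {G T : Over S} [GrpObj G] [GrpObj T] {i : T ⟶ G} [IsMonHom i] {α : T ⟶ Red.Gm S}
  [IsMonHom α] {pp pm : Red.Ga S ⟶ G} [IsMonHom pp] [IsMonHom pm]

/-- Exchanging the two outer factors of a cell keeps it an open immersion. -/
theorem isOpenImmersion_swap {S : Scheme.{u}} {G T U : Over S} [GrpObj G] [GrpObj T] [GrpObj U] (i : T ⟶ G)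
    [IsMonHom i] (pp pm : U ⟶ G) [IsMonHom pp] [IsMonHom pm]
    (h : IsOpenImmersion (((pm ⊗ₘ i) ⊗ₘ pp) ≫ (μ[G] ▷ G) ≫ μ[G]).left) :
    IsOpenImmersion (((pp ⊗ₘ i) ⊗ₘ pm) ≫ (μ[G] ▷ G) ≫ μ[G]).left := by
  let a : (U ⊗ T) ⊗ U ⟶ U := fst _ _ ≫ fst _ _
  let t : (U ⊗ T) ⊗ U ⟶ T := fst _ _ ≫ snd _ _
  let b : (U ⊗ T) ⊗ U ⟶ U := snd _ _
  let e : (U ⊗ T) ⊗ U ⟶ (U ⊗ T) ⊗ U := lift (lift b⁻¹ t⁻¹) a⁻¹
  have he : e ≫ e = 𝟙 _ := by
    apply CartesianMonoidalCategory.hom_ext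
    · apply CartesianMonoidalCategory.hom_ext <;> simp [e, a, t, b, GrpObj.comp_inv]
    · simp [e, a, t, b, GrpObj.comp_inv]
  have hl : ∀ (p q : U ⟶ G) {X : Over S} (x : X ⟶ U) (s : X ⟶ T) (y : X ⟶ U),
      lift (lift x s) y ≫ (((p ⊗ₘ i) ⊗ₘ q) ≫ (μ[G] ▷ G) ≫ μ[G]) = (x ≫ p) * (s ≫ i) * (y ≫ q) := fun p q X x s y => by
    simp only [lift_map_assoc, lift_whiskerRight_assoc, lift_map, Hom.mul_def]
  have hid : lift (lift a t) b = 𝟙 _ := by
    apply CartesianMonoidalCategory.hom_ext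
    · apply CartesianMonoidalCategory.hom_ext <;> simp [a, t, b]
    · simp [b]
  have hcell : ((pp ⊗ₘ i) ⊗ₘ pm) ≫ (μ[G] ▷ G) ≫ μ[G] =
      e ≫ (((pm ⊗ₘ i) ⊗ₘ pp) ≫ (μ[G] ▷ G) ≫ μ[G]) ≫ GrpObj.inv (X := G) := by
    have e1 := hl pp pm a t b
    rw [hid, Category.id_comp] at e1
    have e2 := hl pm pp b⁻¹ t⁻¹ a⁻¹
    rw [e1, ← Category.assoc e, e2]
    show _ = ((b⁻¹ ≫ pm) * (t⁻¹ ≫ i) * (a⁻¹ ≫ pp))⁻¹
    simp only [GrpObj.inv_comp]
    group
  haveI : IsIso (GrpObj.inv (X := G)).left :=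
    ((Over.forget S).mapIso ⟨GrpObj.inv (X := G), GrpObj.inv (X := G), GrpObj.inv_comp_inv G, GrpObj.inv_comp_inv G⟩).isIso_hom
  haveI : IsIso e.left := ((Over.forget S).mapIso ⟨e, e, he, he⟩).isIso_hom
  haveI := h
  rw [hcell]
  show IsOpenImmersion (e.left ≫ (((pm ⊗ₘ i) ⊗ₘ pp) ≫ (μ[G] ▷ G) ≫ μ[G]).left ≫ (GrpObj.inv (X := G)).left)
  infer_instance

/-- Inversion on a torus is a homomorphism. -/
theorem isMonHom_inv_torus {S : Scheme.{u}} {T : Over S} [GrpObj T] (hT : Red.IsTorus T) :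
    IsMonHom (GrpObj.inv (X := T)) where
  one_hom := by
    have h : (1 : 𝟙_ (Over S) ⟶ T)⁻¹ = 1 := inv_one
    rw [one_eq_one]
    exact h
  mul_hom := by
    rw [mul_eq_mul]
    show (fst T T * snd T T)⁻¹ = (GrpObj.inv (X := T) ⊗ₘ GrpObj.inv (X := T)) ≫ (fst T T * snd T T)
    rw [MonObj.comp_mul, tensorHom_fst, tensorHom_snd, _root_.mul_inv_rev, pts_comm_of_isTorus hT]
    rfl

/-- The Borel subgroup inside the cell is closed. -/
theorem isClosedImmersion_borel [hΩ : IsOpenImmersion (cellMap i pp pm).left] (hG : Red.IsReductive G)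
    (hP : Pre i α pp pm) (hnc : NC pp pm) :
    IsClosedImmersion ((i ⊗ₘ pp) ≫ μ[G]).left ∧ IsClosedImmersion pp.left := by
  obtain ⟨k, hk⟩ := exists_slope hP hnc
  obtain ⟨av, hm, h2, hav⟩ := exists_coroot hP hnc hk
  haveI := hm
  let I₀ : Over S := 𝟙_ (Over S)
  obtain ⟨k₀, hk₀⟩ := isUnit_kv k I₀
  let W : I₀ ⟶ G := (gp (-1 : Γ(I₀.left, ⊤)) ≫ pp) * (gp k₀⁻¹.1 ≫ pm) * (gp (-1 : Γ(I₀.left, ⊤)) ≫ pp)
  have hkX : ∀ X : Over S, kv k X * (toUnit X).left.appTop k₀⁻¹.1 = 1 := fun X => by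
    rw [← kv_comp k (toUnit X), ← map_mul, ← hk₀, Units.mul_inv, map_one]
  have hW : ∀ X : Over S, toUnit X ≫ W = (gp (-1 : Γ(X.left, ⊤)) ≫ pp) *
      (gp ((toUnit X).left.appTop k₀⁻¹.1) ≫ pm) * ((1 : X ⟶ T) ≫ i) * (gp (-1 : Γ(X.left, ⊤)) ≫ pp) := fun X => by
    rw [MonObj.one_comp, _root_.mul_one]
    simp only [W, MonObj.comp_mul, comp_root, map_neg, map_one]
  -- the Weyl translate misses the Borel subgroup
  have hmiss : ∀ {K : Type u} [Field K] [IsAlgClosed K] (q : Spec (CommRingCat.of K) ⟶ S) (t : Over.mk q ⟶ T)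
      (b : Γ((Over.mk q).left, ⊤)), ¬ InCell i pp pm ((toUnit (Over.mk q) ≫ W) * (t ≫ i) * (gp b ≫ pp)) := by
    intro K _ _ q t b h
    rw [inCell_right_iff hP, hW, inCell_right_iff hP, inCell_iff hP hnc hk h2 hav] at h
    refine ne_zero_of_isUnit h ?_
    linear_combination -hkX (Over.mk q)
  -- the cell and its translate cover the group
  have hcov : ∀ {K : Type u} [Field K] [IsAlgClosed K] (q : Spec (CommRingCat.of K) ⟶ S) (g : Over.mk q ⟶ G),
      InCell i pp pm g ∨ InCell i pp pm ((toUnit (Over.mk q) ≫ W) * g) := by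
    intro K _ _ q g
    obtain ⟨X', f, -, hfs, b, t, e, c, hg⟩ := exists_cover_shape (i := i) (pp := pp) (pm := pm) hG hP.hpm g
    obtain ⟨z, -⟩ := hfs.surj (IsLocalRing.closedPoint K)
    obtain ⟨L, _, _, q', y, -⟩ := exists_geom X' z
    let r : Over.mk q' ⟶ Over.mk q := y ≫ f
    haveI : Surjective r.left := ⟨fun _ => ⟨IsLocalRing.closedPoint L,
      @Subsingleton.elim _ (inferInstanceAs (Subsingleton (PrimeSpectrum K))) _ _⟩⟩
    have hg' : r ≫ g = (gp (y.left.appTop (Red.gaFn b)) ≫ pp) *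
        (gp ((alH α _ (y ≫ t))⁻¹.1 * y.left.appTop (Red.gaFn e)) ≫ pm) * ((y ≫ t) ≫ i) *
          (gp (y.left.appTop (Red.gaFn c)) ≫ pp) := by
      rw [Category.assoc, hg, MonObj.comp_mul, MonObj.comp_mul, MonObj.comp_mul, ← gp_gaFn b, ← gp_gaFn c, ← gp_gaFn e,
        comp_root, comp_root, comp_root, ← Category.assoc y t i, gaFn_gp, gaFn_gp, gaFn_gp,
        _root_.mul_assoc (gp (y.left.appTop (Red.gaFn b)) ≫ pp) ((y ≫ t) ≫ i), conjM hP]
      simp only [_root_.mul_assoc]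
    set x := y.left.appTop (Red.gaFn b)
    set v := (alH α _ (y ≫ t))⁻¹.1 * y.left.appTop (Red.gaFn e)
    by_cases hu : IsUnit (1 + kv k (Over.mk q') * x * v)
    · refine Or.inl (inCell_of_cover i pp pm r ?_)
      rw [hg', inCell_right_iff hP, inCell_iff hP hnc hk h2 hav]
      exact hu
    · refine Or.inr (inCell_of_cover i pp pm r ?_)
      rw [MonObj.comp_mul, ← Category.assoc, comp_toUnit, hg', ← _root_.mul_assoc, ← _root_.mul_assoc,
        inCell_right_iff hP, ← _root_.mul_assoc, hW, MonObj.one_comp, _root_.mul_one]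
      have h0 : 1 + kv k (Over.mk q') * x * v = 0 := not_not.1 fun h => hu (isUnit_of_ne_zero h)
      set u := kv k (Over.mk q')
      set m := (toUnit (Over.mk q')).left.appTop k₀⁻¹.1
      have hum : u * m = 1 := hkX _
      obtain ⟨ζ, hζ⟩ : IsUnit (1 + u * (x - 1) * v) := by
        rw [show 1 + u * (x - 1) * v = -(u * v) by linear_combination h0]
        refine (isUnit_of_ne_zero fun huv => ?_).neg
        refine one_ne_zero_pt q' ?_
        linear_combination h0 - x * huv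
      have hr := rule hP hnc hk h2 hav (x - 1) v ζ hζ
      unfold CommFormLib.Rel at hr
      have e2 : ζ⁻¹.1 * v = -m := by
        have k1 := Units.inv_mul ζ
        rw [hζ] at k1
        linear_combination (-m) * k1 + m * ζ⁻¹.1 * h0 - ζ⁻¹.1 * v * hum
      have e : (gp (-1 : Γ((Over.mk q').left, ⊤)) ≫ pp) * (gp m ≫ pm) * (gp (-1 : Γ((Over.mk q').left, ⊤)) ≫ pp) *
          (gp x ≫ pp) * (gp v ≫ pm) = (gp (0 : Γ((Over.mk q').left, ⊤)) ≫ pm) *
            ((GmPts.ptOfUnit ζ ≫ av) ≫ i) *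
            (gp ((alH α _ (GmPts.ptOfUnit ζ ≫ av))⁻¹.1 * -1 + ζ⁻¹.1 * (x - 1)) ≫ pp) := by
        rw [gp_zero_comp, _root_.one_mul, ← gp_add, MonObj.mul_comp, ← _root_.mul_assoc]
        calc _ = (gp (-1 : Γ((Over.mk q').left, ⊤)) ≫ pp) * (gp m ≫ pm) * ((gp (x - 1) ≫ pp) * (gp v ≫ pm)) := by
              rw [show x - 1 = -1 + x by ring, ← gp_add, MonObj.mul_comp]; simp only [_root_.mul_assoc]
          _ = (gp (-1 : Γ((Over.mk q').left, ⊤)) ≫ pp) * ((gp m ≫ pm) * (gp (ζ⁻¹.1 * v) ≫ pm)) *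
                ((GmPts.ptOfUnit ζ ≫ av) ≫ i) * (gp (ζ⁻¹.1 * (x - 1)) ≫ pp) := by
              rw [← hr]; simp only [_root_.mul_assoc]
          _ = (gp (-1 : Γ((Over.mk q').left, ⊤)) ≫ pp) * ((GmPts.ptOfUnit ζ ≫ av) ≫ i) *
                (gp (ζ⁻¹.1 * (x - 1)) ≫ pp) := by
              rw [← MonObj.mul_comp, gp_add, e2, add_neg_cancel, gp_zero_comp, _root_.mul_one]
          _ = _ := by
              congr 1
              rw [conjP hP, ← _root_.mul_assoc (alH α _ (GmPts.ptOfUnit ζ ≫ av) : Γ((Over.mk q').left, ⊤)),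
                Units.mul_inv, _root_.one_mul]
      rw [e]
      exact inCell_cell i pp pm _ _ _
  -- the Borel subgroup
  let β : T ⊗ Red.Ga S ⟶ G := (i ⊗ₘ pp) ≫ μ[G]
  let iP : T ⊗ Red.Ga S ⟶ Cl T := lift (lift 1 (fst T (Red.Ga S))) (snd T (Red.Ga S))
  have hβ : β = (fst T (Red.Ga S) ≫ i) * (snd T (Red.Ga S) ≫ pp) := by
    simp only [β, Hom.mul_def, lift_map, ← tensorHom_fst, ← tensorHom_snd, lift_fst_snd]
    rw [show lift (fst T (Red.Ga S) ≫ i) (snd T (Red.Ga S) ≫ pp) = i ⊗ₘ pp from by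
      apply CartesianMonoidalCategory.hom_ext <;> simp]
  have hfac : iP ≫ cellMap i pp pm = β := by
    rw [lift_cellMap, MonObj.one_comp, _root_.one_mul, hβ]
  haveI : IsAffineHom T.hom := FixedSmooth.isAffineHom_of_isMultTypeLoc
    (WeilClosedLib.IsMultTypeLoc.of_isMultTypeFT (SplitHom.isMultTypeFT_of_isTorus hP.tor))
  haveI : IsAffine (Red.GaZ.{u}).left := isAffine_Spec _
  haveI : IsAffineHom (Red.GaZ.{u}).hom := isAffineHom_of_isAffine _
  haveI : IsAffineHom (Red.Ga S).hom := MorphismProperty.pullback_snd _ _ inferInstance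
  haveI : IsAffineHom (T ⊗ Red.Ga S).hom := by
    show IsAffineHom (pullback.fst T.hom (Red.Ga S).hom ≫ T.hom)
    haveI : IsAffineHom (pullback.fst T.hom (Red.Ga S).hom) := MorphismProperty.pullback_fst _ _ inferInstance
    infer_instance
  haveI : IsAffineHom (Red.Ga S ⊗ T).hom := by
    show IsAffineHom (pullback.fst (Red.Ga S).hom T.hom ≫ (Red.Ga S).hom)
    haveI : IsAffineHom (pullback.fst (Red.Ga S).hom T.hom) := MorphismProperty.pullback_fst _ _ inferInstance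
    infer_instance
  haveI : IsAffineHom (Cl T).hom := by
    show IsAffineHom (pullback.fst (Red.Ga S ⊗ T).hom (Red.Ga S).hom ≫ (Red.Ga S ⊗ T).hom)
    haveI : IsAffineHom (pullback.fst (Red.Ga S ⊗ T).hom (Red.Ga S).hom) := MorphismProperty.pullback_fst _ _ inferInstance
    infer_instance
  haveI hι : IsClosedImmersion iP.left := by
    let π : Cl T ⟶ T ⊗ Red.Ga S := lift (fst _ _ ≫ snd _ _) (snd _ _)
    have hπ : iP ≫ π = 𝟙 _ := by
      apply CartesianMonoidalCategory.hom_ext <;> simp [iP, π]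
    haveI : IsSeparated (π.left ≫ (T ⊗ Red.Ga S).hom) := by rw [Over.w]; infer_instance
    haveI : IsSeparated π.left := IsSeparated.of_comp _ (T ⊗ Red.Ga S).hom
    haveI : IsClosedImmersion (iP.left ≫ π.left) := by
      rw [← Over.comp_left, hπ]
      exact inferInstanceAs (IsClosedImmersion (𝟙 _))
    exact IsClosedImmersion.of_comp _ π.left
  have hclosed : IsClosed (Set.range β.left.base) := by
    let lam : G ⟶ G := (toUnit G ≫ W) * 𝟙 G
    let U : G.left.Opens := (cellMap i pp pm).left.opensRange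
    let V : G.left.Opens := lam.left ⁻¹ᵁ U
    have hlam : ∀ {X : Over S} (g : X ⟶ G), g ≫ lam = (toUnit X ≫ W) * g := fun g => by
      rw [MonObj.comp_mul, ← Category.assoc, comp_toUnit, Category.comp_id]
    rw [← isOpen_compl_iff]
    have hcompl : (Set.range β.left.base)ᶜ =
        ((cellMap i pp pm).left.base '' (Set.range iP.left.base)ᶜ) ∪ (V : Set G.left) := by
      ext x
      constructor
      · intro hx
        obtain ⟨K, _, _, q, y, z, rfl⟩ := exists_geom G x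
        rcases hcov q y with h | h
        · left
          obtain ⟨p, hp⟩ := h ⟨z, rfl⟩
          exact ⟨p, fun ⟨p', hp'⟩ => hx ⟨p', by rw [← hfac, ← hp, ← hp']; rfl⟩, hp⟩
        · right
          rw [← hlam] at h
          exact h ⟨z, rfl⟩
      · rintro (⟨p, hp, rfl⟩ | hx) ⟨p', hp'⟩
        · rw [← hfac] at hp'
          exact hp ⟨p', (cellMap i pp pm).left.isOpenEmbedding.injective hp'⟩
        · subst hp'
          obtain ⟨K, _, _, q, y, z, rfl⟩ := exists_geom (T ⊗ Red.Ga S) p'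
          refine hmiss q (y ≫ fst _ _) (Red.gaFn (y ≫ snd _ _)) ?_
          rw [gp_gaFn, Category.assoc, Category.assoc, _root_.mul_assoc, ← MonObj.comp_mul, ← hβ, ← hlam]
          rintro _ ⟨z', rfl⟩
          rw [@Subsingleton.elim _ (inferInstanceAs (Subsingleton (PrimeSpectrum K))) z' z]
          exact hx
    rw [hcompl]
    exact ((cellMap i pp pm).left.isOpenEmbedding.isOpenMap _ hι.base_closed.isClosed_range.isOpen_compl).union V.2
  haveI : IsPreimmersion β.left := by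
    rw [← hfac, Over.comp_left]
    infer_instance
  haveI hB : IsClosedImmersion β.left := IsClosedImmersion.of_isPreimmersion _ hclosed
  refine ⟨hB, ?_⟩
  let s : Red.Ga S ⟶ T ⊗ Red.Ga S := lift 1 (𝟙 _)
  have hs : s ≫ β = pp := by
    rw [hβ, MonObj.comp_mul, lift_fst_assoc, lift_snd_assoc, MonObj.one_comp, Category.id_comp, _root_.one_mul]
  haveI : IsClosedImmersion s.left := by
    haveI : IsSeparated ((snd T (Red.Ga S)).left ≫ (Red.Ga S).hom) := by rw [Over.w]; infer_instance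
    haveI : IsSeparated (snd T (Red.Ga S)).left := IsSeparated.of_comp _ (Red.Ga S).hom
    haveI : IsClosedImmersion (s.left ≫ (snd T (Red.Ga S)).left) := by
      rw [← Over.comp_left, lift_snd]
      exact inferInstanceAs (IsClosedImmersion (𝟙 _))
    exact IsClosedImmersion.of_comp _ (snd T (Red.Ga S)).left
  rw [← hs, Over.comp_left]
  infer_instance

/-- Let G be a reductive S-group, i : T ⟶ G a maximal torus, α a character of T non-trivial on every
geometric fibre, and p₊, p₋ : 𝔾_a ⟶ G monomorphisms of groups normalised by T with multipliers α and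
α⁻¹ such that 𝔾_a ×_S T ×_S 𝔾_a ⟶ G, (y, t, x) ↦ p₋(y) i(t) p₊(x), is an open immersion (a rank-one
system: G has semisimple rank 1 and p₊, p₋ trivialise the root groups of α and -α). Then the
subgroups U_α = im p₊, U_{-α} = im p₋, T·U_α and T·U_{-α} are closed in G: p₊ and p₋ are closed
immersions, and so are the morphisms T ×_S 𝔾_a ⟶ G, (t, x) ↦ i(t) p₊(x) and (t, y) ↦ i(t) p₋(y). -/
theorem result (S : Scheme.{u}) (G T : Over S) [GrpObj G] [GrpObj T] (i : T ⟶ G) [IsMonHom i] [Mono i] (hG : Red.IsReductive G) (hTm : Red.IsMaximalTorus i)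
    (α : T ⟶ Red.Gm S) [IsMonHom α] (hα : ∀ s : S, (Over.pullback (Red.geomPt s)).map α ≠ 1)
    (pp pm : Red.Ga S ⟶ G) [IsMonHom pp] [Mono pp] [IsMonHom pm] [Mono pm]
    (hpp : ∀ (X : Over S) (t : X ⟶ T) (x : X ⟶ Red.Ga S), ∃ x' : X ⟶ Red.Ga S,
      x' ≫ pp = (t ≫ i) * (x ≫ pp) * (t ≫ i)⁻¹ ∧ Red.gaFn x' = Red.gmFn (t ≫ α) * Red.gaFn x)
    (hpm : ∀ (X : Over S) (t : X ⟶ T) (y : X ⟶ Red.Ga S), ∃ y' : X ⟶ Red.Ga S,
      y' ≫ pm = (t ≫ i) * (y ≫ pm) * (t ≫ i)⁻¹ ∧ Red.gaFn y' * Red.gmFn (t ≫ α) = Red.gaFn y)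
    (hΩ : IsOpenImmersion (((pm ⊗ₘ i) ⊗ₘ pp) ≫ (μ[G] ▷ G) ≫ μ[G]).left) :
    IsClosedImmersion pp.left ∧ IsClosedImmersion pm.left ∧
      IsClosedImmersion ((i ⊗ₘ pp) ≫ μ[G]).left ∧ IsClosedImmersion ((i ⊗ₘ pm) ≫ μ[G]).left := by
  haveI : IsOpenImmersion (cellMap i pp pm).left := hΩ
  have hT := hTm.2.2.1
  obtain ⟨hfl, hsu⟩ := flatSurj_of_geomFibre_ne_one hT α hα
  have hP : Pre i α pp pm := ⟨hT, hfl, hsu, hpp, hpm⟩
  have hnc : NC pp pm := fun s => S8446.result S G T i hG hTm α hα pp pm hpp hpm hΩ s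
  obtain ⟨hb, hc⟩ := isClosedImmersion_borel hG hP hnc
  -- exchange the two root groups
  let α' : T ⟶ Red.Gm S := GrpObj.inv (X := T) ≫ α
  have hα' : ∀ {X : Over S} (t : X ⟶ T), t ≫ α' = t⁻¹ ≫ α := fun t => (Category.assoc _ _ _).symm
  haveI : IsMonHom (GrpObj.inv (X := T)) := isMonHom_inv_torus hT
  haveI : IsMonHom α' := inferInstance
  have hinv : ∀ {X : Over S} (t : X ⟶ T), Red.gmFn (t ≫ α') * Red.gmFn (t ≫ α) = 1 := fun {X} t => by
    rw [hα']
    have e : alH α X t⁻¹ * alH α X t = 1 := by rw [← map_mul, inv_mul_cancel, map_one]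
    exact congrArg Units.val e
  have hfl' : Flat α'.left ∧ Surjective α'.left := by
    have e : α' = GrpObj.inv (X := T) ≫ α := rfl
    haveI : IsIso (GrpObj.inv (X := T)).left := ((Over.forget S).mapIso ⟨GrpObj.inv (X := T), GrpObj.inv (X := T), GrpObj.inv_comp_inv T, GrpObj.inv_comp_inv T⟩).isIso_hom
    haveI := hfl
    haveI := hsu
    rw [e, Over.comp_left]
    exact ⟨inferInstance, inferInstance⟩
  have hP' : Pre i α' pm pp := ⟨hT, hfl'.1, hfl'.2,
    fun X t x => by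
      obtain ⟨x', h1, h2⟩ := hpm X t x
      exact ⟨x', h1, by linear_combination Red.gmFn (t ≫ α') * h2 - Red.gaFn x' * hinv t⟩,
    fun X t x => by
      obtain ⟨x', h1, h2⟩ := hpp X t x
      exact ⟨x', h1, by linear_combination Red.gmFn (t ≫ α') * h2 + Red.gaFn x * hinv t⟩⟩
  have hnc' : NC pm pp := fun s => by
    obtain ⟨X, x, y, h⟩ := hnc s
    exact ⟨X, y, x, h.symm⟩
  haveI : IsOpenImmersion (cellMap i pm pp).left := isOpenImmersion_swap i pp pm hΩ
  obtain ⟨hb', hc'⟩ := isClosedImmersion_borel hG hP' hnc'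
  exact ⟨hc, hc', hb, hb'⟩

end Groth.Agent.S8456
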