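import Groth.Statements.S8457
import Groth.Agent.RankOneCellLib.GenRel

set_option autoImplicit false
universe u
open CategoryTheory MonoidalCategory CartesianMonoidalCategory MonObj GrpObj AlgebraicGeometry CategoryTheory.Limits
open Red

set_option backward.isDefEq.respectTransparency false
set_option backward.isDefEq.respectTransparency.types false
set_option linter.style.haveILetI false
open Groth.Agent.RankOneRelLib Groth.Agent.RankOneCellLib

namespace Groth.Agent.S8457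

/-- Generators and relations for a group of semisimple rank 1: for H an S-group scheme. Let G be a
reductive S-group, i : T ⟶ G a maximal torus, α a character of T non-trivial on every geometric
fibre, p₊, p₋ : 𝔾_a ⟶ G monomorphisms of groups normalised by T with multipliers α and α⁻¹ whose
cell map (y, t, x) ↦ p₋(y) i(t) p₊(x) is an open immersion 𝔾_a ×_S T ×_S 𝔾_a ⟶ G, and α^* : 𝔾_m ⟶ T
the coroot: α ∘ α^* is the squaring map and p₊(x) p₋(y) = p₋(y/(1+xy)) · i(α^*(1+xy)) · p₊(x/(1+xy))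
whenever 1 + xy is invertible (so p₊ and p₋ are dual to each other). Let e₁, em be the S-points of
𝔾_a with coordinates 1, -1 and m the S-point of 𝔾_m with coordinate -1; put u = p₊(e₁) and w =
p₊(e₁) p₋(em) p₊(e₁). Let H be an S-group scheme, f_T : T ⟶ H and f_α : 𝔾_a ⟶ H homomorphisms and h
an S-point of H. Then there is exactly one homomorphism f : G ⟶ H with f ∘ i = f_T, f ∘ p₊ = f_α and
f(w) = h if and only if: (1) f_T(t) f_α(x) f_T(t)⁻¹ = f_α(α(t) x) for all points t of T and x of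
𝔾_a; (2) h f_T(t) h⁻¹ = f_T(t · α^*(α(t))⁻¹) for all points t of T; (3) h² = f_T(α^*(m)); (4) (h ·
f_α(e₁))³ = e. (The published statement allows H to be any fppf sheaf of groups.) -/
theorem result (S : Scheme.{u}) (G T : Over S) [GrpObj G] [GrpObj T] (i : T ⟶ G) [IsMonHom i] [Mono i] (hG : Red.IsReductive G) (hTm : Red.IsMaximalTorus i)
    (α : T ⟶ Red.Gm S) [IsMonHom α] (hα : ∀ s : S, (Over.pullback (Red.geomPt s)).map α ≠ 1)
    (pp pm : Red.Ga S ⟶ G) [IsMonHom pp] [Mono pp] [IsMonHom pm] [Mono pm]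
    (hpp : ∀ (X : Over S) (t : X ⟶ T) (x : X ⟶ Red.Ga S), ∃ x' : X ⟶ Red.Ga S,
      x' ≫ pp = (t ≫ i) * (x ≫ pp) * (t ≫ i)⁻¹ ∧ Red.gaFn x' = Red.gmFn (t ≫ α) * Red.gaFn x)
    (hpm : ∀ (X : Over S) (t : X ⟶ T) (y : X ⟶ Red.Ga S), ∃ y' : X ⟶ Red.Ga S,
      y' ≫ pm = (t ≫ i) * (y ≫ pm) * (t ≫ i)⁻¹ ∧ Red.gaFn y' * Red.gmFn (t ≫ α) = Red.gaFn y)
    (hΩ : IsOpenImmersion (((pm ⊗ₘ i) ⊗ₘ pp) ≫ (μ[G] ▷ G) ≫ μ[G]).left)
    (av : Red.Gm S ⟶ T) [IsMonHom av] (h2 : av ≫ α = (𝟙 (Red.Gm S)) ^ 2)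
    (hF : ∀ (X : Over S) (x y : X ⟶ Red.Ga S), IsUnit (1 + Red.gaFn x * Red.gaFn y) →
      ∃ (x' y' : X ⟶ Red.Ga S) (z : X ⟶ Red.Gm S), Red.gmFn z = 1 + Red.gaFn x * Red.gaFn y ∧
        Red.gaFn x' * Red.gmFn z = Red.gaFn x ∧ Red.gaFn y' * Red.gmFn z = Red.gaFn y ∧
        (x ≫ pp) * (y ≫ pm) = (y' ≫ pm) * (z ≫ av ≫ i) * (x' ≫ pp))
    (e₁ em : 𝟙_ (Over S) ⟶ Red.Ga S) (he₁ : Red.gaFn e₁ = 1) (hem : Red.gaFn em = -1)
    (m : 𝟙_ (Over S) ⟶ Red.Gm S) (hm : Red.gmFn m = -1)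
    (H : Over S) [GrpObj H] (fT : T ⟶ H) [IsMonHom fT] (fα : Red.Ga S ⟶ H) [IsMonHom fα] (h : 𝟙_ (Over S) ⟶ H) :
    (∃! f : G ⟶ H, IsMonHom f ∧ i ≫ f = fT ∧ pp ≫ f = fα ∧ ((e₁ ≫ pp) * (em ≫ pm) * (e₁ ≫ pp)) ≫ f = h) ↔
      ((∀ (X : Over S) (t : X ⟶ T) (x x' : X ⟶ Red.Ga S), Red.gaFn x' = Red.gmFn (t ≫ α) * Red.gaFn x →
          (t ≫ fT) * (x ≫ fα) * (t ≫ fT)⁻¹ = x' ≫ fα) ∧
        (∀ (X : Over S) (t : X ⟶ T), (toUnit X ≫ h) * (t ≫ fT) * (toUnit X ≫ h)⁻¹ = (t * (t ≫ α ≫ av)⁻¹) ≫ fT) ∧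
        h ^ 2 = m ≫ av ≫ fT ∧ (h * (e₁ ≫ fα)) ^ 3 = 1) := by
  haveI : IsOpenImmersion (cellMap i pp pm).left := hΩ
  have hT := hTm.2.2.1
  let U := Red.Ga S
  have he1X : ∀ X : Over S, toUnit X ≫ e₁ = gp (1 : Γ(X.left, ⊤)) := fun X =>
    GaPoints.gaFn_injective (by rw [GaPoints.gaFn_comp, he₁, map_one, gaFn_gp])
  have hemX : ∀ X : Over S, toUnit X ≫ em = gp (-1 : Γ(X.left, ⊤)) := fun X =>
    GaPoints.gaFn_injective (by rw [GaPoints.gaFn_comp, hem, map_neg, map_one, gaFn_gp])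
  have hmX : ∀ X : Over S, GmPts.ptOfUnit (-1 : Γ(X.left, ⊤)ˣ) = toUnit X ≫ m := fun X =>
    GmPts.gmFn_injective (by
      show Red.gmFn _ = Red.gmFn _
      rw [GmPts.gmFn_ptOfUnit, GmPts.gmFn_comp, hm, map_neg, map_one]
      rfl)
  have hW : ∀ X : Over S, toUnit X ≫ ((e₁ ≫ pp) * (em ≫ pm) * (e₁ ≫ pp)) = (sys hpp hpm h2 hF X).w 1 (-1) :=
    fun X => by
      simp only [MonObj.comp_mul, ← Category.assoc, he1X, hemX]
      rfl
  have h1neg : ∀ X : Over S, (-1 : Γ(X.left, ⊤)) * 1 = -1 := fun X => _root_.mul_one _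
  constructor
  · rintro ⟨f, ⟨hfm, hfi, hfp, hfw⟩, -⟩
    haveI := hfm
    have hn : ∀ X : Over S, toUnit X ≫ h = (sys hpp hpm h2 hF X).w 1 (-1) ≫ f := fun X => by
      rw [← hfw, ← Category.assoc, hW]
    refine ⟨fun X t x x' hx' => ?_, fun X t => ?_, ?_, ?_⟩
    · obtain ⟨x₂, k1, k2⟩ := hpp X t x
      rw [GaPoints.gaFn_injective (hx'.trans k2.symm), ← hfi, ← hfp]
      simp only [← Category.assoc]
      rw [k1, MonObj.mul_comp, MonObj.mul_comp, GrpObj.inv_comp]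
    · have k := congrArg (fun g => g ≫ f) ((sys hpp hpm h2 hF X).w_conj_torus 1 (-1) (h1neg X) t)
      rw [sys_I hpp hpm h2 hF, sys_I hpp hpm h2 hF, sys_al hpp hpm h2 hF, sys_av hpp hpm h2 hF, MonObj.mul_comp,
        MonObj.mul_comp, MonObj.mul_comp, GrpObj.inv_comp, GrpObj.inv_comp] at k
      rw [hn, ← hfi, ← Category.assoc, k, pts_comm_of_isTorus hT t, MonObj.mul_comp, GrpObj.inv_comp,
        ← Category.assoc t α av]
      simp only [Category.assoc]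
    · have k := congrArg (fun g => g ≫ f) ((sys hpp hpm h2 hF (𝟙_ (Over S))).w_mul_w 1 (-1) 1 (-1) (h1neg _)
        (h1neg _) (-1) (by simp))
      rw [MonObj.mul_comp, ← hn, toUnit_unique (toUnit (𝟙_ (Over S))) (𝟙 _), Category.id_comp] at k
      rw [pow_two, k]
      show ((GmPts.ptOfUnit (-1 : Γ((𝟙_ (Over S)).left, ⊤)ˣ) ≫ av) ≫ i) ≫ f = _
      rw [hmX, toUnit_unique (toUnit (𝟙_ (Over S))) (𝟙 _), Category.id_comp, Category.assoc, hfi, Category.assoc]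
    · let σ := sys hpp hpm h2 hF (𝟙_ (Over S))
      have k := congrArg (fun g => g ≫ f) (σ.w_mul_P_pow_three 1 (-1) (h1neg _)
        (w_conj_root hpp hpm h2 hF _ 1 (-1) (h1neg _))
        (w_conj_root hpp hpm h2 hF _ (-1) (-(-1)) (by simp)))
      have e : (σ.w 1 (-1) * σ.P 1) ≫ f = h * (e₁ ≫ fα) := by
        rw [MonObj.mul_comp, ← hn, toUnit_unique (toUnit (𝟙_ (Over S))) (𝟙 _), Category.id_comp, ← hfp,
          ← Category.assoc, ← Category.id_comp e₁, ← toUnit_unique (toUnit (𝟙_ (Over S))) (𝟙 _), he1X]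
        rfl
      rw [MonObj.pow_comp, e, MonObj.one_comp] at k
      exact k
  rintro ⟨r1, r2, r3, r4⟩
  obtain ⟨hfl, hsu⟩ := flatSurj_of_geomFibre_ne_one hT α hα
  let cg : ∀ X : Over S, CommGroup (X ⟶ T) := fun X =>
    { (inferInstance : Group (X ⟶ T)) with mul_comm := fun a b => pts_comm_of_isTorus hT a b }
  let P := fun (X : Over S) (a : Γ(X.left, ⊤)) => gp a ≫ fα
  let n := fun X : Over S => toUnit X ≫ h
  let IH := fun X : Over S =>
    MonoidHom.mk' (fun t : X ⟶ T => t ≫ fT) (fun a b => MonObj.mul_comp a b fT)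
  have hadd : ∀ (X : Over S) a b, P X (a + b) = P X a * P X b := fun X a b => by
    show _ ≫ fα = _
    rw [← gp_add, MonObj.mul_comp]
  have hal := fun X => alH_avH α av h2 X
  have q1 : ∀ (X : Over S) t a, IH X t * P X a = P X (alH α X t * a) * IH X t := fun X t a => by
    show (t ≫ fT) * (gp a ≫ fα) = gp _ ≫ fα * (t ≫ fT)
    rw [← r1 X t (gp a) (gp ((alH α X t : Γ(X.left, ⊤)) * a)) (by rw [gaFn_gp, gaFn_gp]; rfl), inv_mul_cancel_right]
  have q2 : ∀ (X : Over S) t, n X * IH X t = IH X (t * (avH av X (alH α X t))⁻¹) * n X := fun X t => by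
    show (toUnit X ≫ h) * (t ≫ fT) = (t * (GmPts.ptOfUnit (GmPts.unitOfPt (t ≫ α)) ≫ av)⁻¹) ≫ fT * (toUnit X ≫ h)
    rw [GmPts.ptOfUnit_unitOfPt, Category.assoc, ← r2, inv_mul_cancel_right]
  have q3 : ∀ X : Over S, n X * n X = IH X (avH av X (-1)) := fun X => by
    show _ = (GmPts.ptOfUnit (-1 : Γ(X.left, ⊤)ˣ) ≫ av) ≫ fT
    rw [← MonObj.comp_mul, ← pow_two, r3, hmX]
    simp only [Category.assoc]
  have q4 : ∀ X : Over S, (n X * P X 1) ^ 3 = 1 := fun X => by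
    show ((toUnit X ≫ h) * (gp (1 : Γ(X.left, ⊤)) ≫ fα)) ^ 3 = 1
    rw [← he1X, Category.assoc, ← MonObj.comp_mul, ← MonObj.comp_pow, r4, MonObj.comp_one]
  have hn' : ∀ {X X' : Over S} (f : X' ⟶ X), f ≫ n X = n X' := fun f => by
    show _ ≫ toUnit _ ≫ h = _
    rw [← Category.assoc, comp_toUnit]
  have hP' : ∀ {X X' : Over S} (f : X' ⟶ X) a, f ≫ P X a = P X' (f.left.appTop a) := fun f a => by
    show _ ≫ gp a ≫ fα = _
    rw [← Category.assoc, comp_gp]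
  have hI' : ∀ {X X' : Over S} (f : X' ⟶ X) (z : Γ(X.left, ⊤)ˣ),
      f ≫ IH X (avH av X z) = IH X' (avH av X' (Units.map f.left.appTop.hom.toMonoidHom z)) := fun {X X'} f z => by
    show f ≫ (GmPts.ptOfUnit z ≫ av) ≫ fT = (GmPts.ptOfUnit _ ≫ av) ≫ fT
    rw [← Category.assoc, ← Category.assoc, show f ≫ GmPts.ptOfUnit z = GmPts.ptOfUnit (Units.map f.left.appTop.hom.toMonoidHom z)
      from GmPts.gmFn_injective (by
        show Red.gmFn _ = Red.gmFn _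
        rw [GmPts.gmFn_comp, GmPts.gmFn_ptOfUnit, GmPts.gmFn_ptOfUnit]; rfl)]
  have hk : ∀ (X : Over S) (z : Γ(X.left, ⊤)ˣ), n X * P X z⁻¹.1 * (n X)⁻¹ =
      P X (-z) * IH X (avH av X z) * n X * P X (-z) := fun X z => by
    obtain ⟨X', f, τ, hf, -, hτ⟩ := exists_cover_char α hfl hsu z
    haveI := hf
    have k := @rel_key_root _ _ _ _ _ (cg X') (P X') (IH X') (alH α X') (avH av X') (n X') (hadd X') (hal X') (q1 X')
      (q2 X') (q3 X') (q4 X') (Units.map f.left.appTop.hom.toMonoidHom z) τ (Units.ext (by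
        show (GmPts.unitOfPt (τ ≫ α) : Γ(X'.left, ⊤)) = _
        rw [GmPts.val_unitOfPt, hτ]; rfl))
    rw [← cancel_epi f]
    simp only [MonObj.comp_mul, GrpObj.comp_inv, hn', hP', hI', map_neg]
    exact k
  let φm : U ⟶ H := n U * P U (-Red.gaFn (𝟙 U)) * (n U)⁻¹
  have hφm : ∀ {X : Over S} (y : X ⟶ U), y ≫ φm = n X * P X (-Red.gaFn y) * (n X)⁻¹ := fun y => by
    rw [MonObj.comp_mul, MonObj.comp_mul, GrpObj.comp_inv, hn', hP', map_neg, ← GaPoints.gaFn_comp, Category.comp_id]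
  haveI : IsMonHom φm := isMonHom_of_additive φm fun X x y => by
    rw [hφm, hφm, hφm, GaPoints.gaFn_mul, neg_add, hadd]
    group
  obtain ⟨f, hfm, hf⟩ := exists_hom (G := G) (i := i) (pp := pp) (pm := pm) (fT := fT) (fα := fα) (fβ := φm)
    hT hpp hpm h2 hF hG
    (fun X t x => ⟨gp (Red.gmFn (t ≫ α) * Red.gaFn x), (r1 X t x _ (gaFn_gp _)).symm, gaFn_gp _⟩)
    (fun X t y => by
      letI := cg X
      have ha : Red.gmFn (t ≫ α) = (alH α X t : Γ(X.left, ⊤)) := rfl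
      refine ⟨gp ((alH α X t)⁻¹.1 * Red.gaFn y), ?_, by
        rw [gaFn_gp, ha]; linear_combination Red.gaFn y * Units.inv_mul (alH α X t)⟩
      rw [hφm, hφm, gaFn_gp]
      have e1 : IH X t * n X = n X * IH X (t * (avH av X (alH α X t))⁻¹) := by
        rw [q2, map_mul (alH α X), map_inv (alH α X), hal, map_mul (avH av X), map_inv (avH av X), map_mul (avH av X),
          _root_.mul_inv_rev, _root_.inv_inv]
        congr 2
        group
      show _ = IH X t * _ * (IH X t)⁻¹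
      calc n X * P X (-((alH α X t)⁻¹.1 * Red.gaFn y)) * (n X)⁻¹
          = n X * (IH X (t * (avH av X (alH α X t))⁻¹) * P X (-Red.gaFn y)) *
              (IH X (t * (avH av X (alH α X t))⁻¹))⁻¹ * (n X)⁻¹ := by
            rw [q1, map_mul (alH α X), map_inv (alH α X), hal]
            rw [show ((alH α X t * (alH α X t * alH α X t)⁻¹ : Γ(X.left, ⊤)ˣ) : Γ(X.left, ⊤)) * -Red.gaFn y =
              -((alH α X t)⁻¹.1 * Red.gaFn y) by rw [_root_.mul_inv_rev, mul_inv_cancel_left, mul_neg]]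
            group
        _ = (IH X t * n X) * P X (-Red.gaFn y) * (IH X t * n X)⁻¹ := by rw [e1]; group
        _ = _ := by group)
    (fun X x y hu => by
      obtain ⟨u, hu⟩ := hu
      refine ⟨gp (Red.gaFn x * u⁻¹.1), gp (Red.gaFn y * u⁻¹.1), GmPts.ptOfUnit u,
        by rw [GmPts.gmFn_ptOfUnit, hu],
        by rw [gaFn_gp, GmPts.gmFn_ptOfUnit, Units.inv_mul_cancel_right],
        by rw [gaFn_gp, GmPts.gmFn_ptOfUnit, Units.inv_mul_cancel_right], ?_⟩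
      rw [hφm, hφm, gaFn_gp, ← Category.assoc _ av fT]
      conv_lhs => rw [← gp_gaFn x]
      show P X (Red.gaFn x) * (n X * P X (-Red.gaFn y) * (n X)⁻¹) =
        n X * P X (-(Red.gaFn y * u⁻¹.1)) * (n X)⁻¹ * IH X (avH av X u) * P X (Red.gaFn x * u⁻¹.1)
      obtain ⟨X', p, hp, v, hv, hv', hw⟩ := exists_three X (Red.gaFn x) (Red.gaFn y)
      haveI := hp
      have k := @rel_rule_split _ _ _ _ _ (cg X') (P X') (IH X') (alH α X') (avH av X') (n X') (hadd X') (hal X') (q1 X')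
        (q2 X') (hk X') (p.left.appTop (Red.gaFn x)) (p.left.appTop (Red.gaFn y)) v hv hv' hw
        (Units.map p.left.appTop.hom.toMonoidHom u) (by
          show p.left.appTop (u : Γ(X.left, ⊤)) = _
          rw [hu, map_add, map_one, map_mul])
      rw [← cancel_epi p]
      simp only [MonObj.comp_mul, GrpObj.comp_inv, hn', hP', hI', map_neg, map_mul]
      exact k)
  haveI := hfm
  have hext : ∀ {X : Over S} (a : X ⟶ U) (t : X ⟶ T) (b : X ⟶ U),
      ((a ≫ pm) * (t ≫ i) * (b ≫ pp)) ≫ f = (a ≫ φm) * (t ≫ fT) * (b ≫ fα) := fun a t b => by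
    have k := congrArg (fun r => lift (lift a t) b ≫ r) hf
    rwa [← Category.assoc, lift_cellMap, lift_cellMap] at k
  have hfi : i ≫ f = fT := by
    simpa [MonObj.one_comp] using hext (1 : T ⟶ U) (𝟙 T) 1
  have hfp : pp ≫ f = fα := by
    simpa [MonObj.one_comp] using hext (1 : U ⟶ U) (1 : U ⟶ T) (𝟙 U)
  have hfq : pm ≫ f = φm := by
    simpa [MonObj.one_comp] using hext (𝟙 U) (1 : U ⟶ T) (1 : U ⟶ U)
  have hfw : ((e₁ ≫ pp) * (em ≫ pm) * (e₁ ≫ pp)) ≫ f = h := by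
    rw [MonObj.mul_comp, MonObj.mul_comp, Category.assoc, Category.assoc, hfp, hfq, hφm, hem]
    letI := cg (𝟙_ (Over S))
    have k := rel_key_one (P (𝟙_ (Over S))) (IH _) (alH α _) (avH av _) (n _) (hadd _) (hal _) (q1 _) (q2 _) (q3 _) (q4 _)
    have e : e₁ ≫ fα = P (𝟙_ (Over S)) 1 := by
      show _ = gp _ ≫ fα
      rw [← he1X, toUnit_unique (toUnit (𝟙_ (Over S))) (𝟙 _), Category.id_comp]
    rw [neg_neg, k, e, rel_P_neg _ (hadd _)]
    show _ = h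
    have : n (𝟙_ (Over S)) = h := by
      show toUnit _ ≫ h = h
      rw [toUnit_unique (toUnit (𝟙_ (Over S))) (𝟙 _), Category.id_comp]
    rw [this]
    group
  refine ⟨f, ⟨hfm, hfi, hfp, hfw⟩, ?_⟩
  rintro g ⟨hgm, hgi, hgp, hgw⟩
  haveI := hgm
  refine hom_ext_cell (i := i) (pp := pp) (pm := pm) hG g f ?_
  have hgq : ∀ {X : Over S} (y : X ⟶ U), (y ≫ pm) ≫ g = y ≫ φm := fun {X} y => by
    let σ := sys hpp hpm h2 hF X
    have key : y ≫ pm = σ.w 1 (-1) * σ.P (-Red.gaFn y) * (σ.w 1 (-1))⁻¹ := by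
      obtain ⟨X', p, hp, v, hv, hv', -⟩ := exists_three X 0 (2 - Red.gaFn y)
      haveI := hp
      let σ' := sys hpp hpm h2 hF X'
      have hp1 : ∀ a, p ≫ σ.P a = σ'.P (p.left.appTop a) := fun a => by
        show p ≫ gp a ≫ pp = _
        rw [← Category.assoc, comp_gp]; rfl
      have hp2 : p ≫ σ.w 1 (-1) = σ'.w 1 (-1) := by
        rw [← hW, ← Category.assoc, comp_toUnit, hW]
      rw [map_sub, map_ofNat] at hv'
      have k := σ'.w_conj_P_of_split 1 (-1) (h1neg _) (-p.left.appTop (Red.gaFn y)) (v - 1)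
        (by rwa [show 1 + (v - 1) * -(-1) = v by ring])
        (by rwa [show 1 + (-p.left.appTop (Red.gaFn y) - (v - 1)) * -(-1) = 2 - p.left.appTop (Red.gaFn y) - v by ring])
      rw [show -(-p.left.appTop (Red.gaFn y) * -1 * -1) = p.left.appTop (Red.gaFn y) by ring] at k
      rw [← cancel_epi p, MonObj.comp_mul, MonObj.comp_mul, GrpObj.comp_inv, hp1, hp2, map_neg, k, ← Category.assoc,
        ← GaPoints.gaFn_comp]
      exact (sys_M hpp hpm h2 hF _).symm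
    rw [key, MonObj.mul_comp, MonObj.mul_comp, GrpObj.inv_comp, ← hW, Category.assoc, hgw, hφm]
    show n X * ((gp (-Red.gaFn y) ≫ pp) ≫ g) * (n X)⁻¹ = _
    rw [Category.assoc, hgp]
  rw [hf, ← Category.id_comp (cellMap i pp pm), ← Category.id_comp (cellMap fT fα φm), cellMap_eq i pp pm (𝟙 _),
    cellMap_eq fT fα φm (𝟙 _), MonObj.mul_comp, MonObj.mul_comp]
  simp only [Category.id_comp, Category.assoc, hgi, hgp]
  rw [← Category.assoc (fst (Red.Ga S) T), ← Category.assoc (fst (Red.Ga S ⊗ T) (Red.Ga S)), ← Category.assoc (fst (Red.Ga S ⊗ T) (Red.Ga S))]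
  congr 2
  simpa only [Category.assoc] using hgq (fst (Red.Ga S ⊗ T) (Red.Ga S) ≫ fst (Red.Ga S) T)

end Groth.Agent.S8457
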