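import Groth.Statements.S8470
import Groth.Agent.GaPoints.Basic
import Groth.Agent.GaGmHom

set_option autoImplicit false
universe u
open CategoryTheory MonoidalCategory CartesianMonoidalCategory MonObj GrpObj AlgebraicGeometry CategoryTheory.Limits
open Red

namespace Groth.Agent.S8470

open CategoryTheory CategoryTheory.Limits AlgebraicGeometry

open Groth.Agent
set_option backward.isDefEq.respectTransparency false

/-- Let G be an S-group scheme, i : T ⟶ G a torus of G (a monomorphism of groups), α : T ⟶ 𝔾_m and α^* :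
𝔾_m ⟶ T homomorphisms with α ∘ α^* the squaring map, and p₊, p₋ : 𝔾_a ⟶ G homomorphisms normalised
by T with multipliers α and α⁻¹ which satisfy the rank-one commutation rule: whenever 1 + xy is
invertible, p₊(x) p₋(y) = p₋(y/(1+xy)) · i(α^*(1+xy)) · p₊(x/(1+xy)) (the situation of any reductive
group of semisimple rank 1 with trivialised root groups, where α^* is the coroot). Then the coroot
is expressed through the root groups: for every point z of 𝔾_m, i(α^*(z)) = p₋(z⁻¹ - 1) · p₊(1) ·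
p₋(z - 1) · p₊(-z⁻¹). (The published statement is for a reductive group of semisimple rank one with
a maximal torus and a root; this row assumes only the commutation rule, the normalisation of p₊, p₋
by T and α ∘ α^* the squaring map, which is all the published proof uses.) -/
theorem result (S : Scheme.{u}) (G T : Over S) [GrpObj G] [GrpObj T] (i : T ⟶ G) [IsMonHom i] [Mono i] (hT : Red.IsTorus T)
    (α : T ⟶ Red.Gm S) [IsMonHom α]
    (pp pm : Red.Ga S ⟶ G) [IsMonHom pp] [IsMonHom pm]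
    (hpp : ∀ (X : Over S) (t : X ⟶ T) (x : X ⟶ Red.Ga S), ∃ x' : X ⟶ Red.Ga S,
      x' ≫ pp = (t ≫ i) * (x ≫ pp) * (t ≫ i)⁻¹ ∧ Red.gaFn x' = Red.gmFn (t ≫ α) * Red.gaFn x)
    (hpm : ∀ (X : Over S) (t : X ⟶ T) (y : X ⟶ Red.Ga S), ∃ y' : X ⟶ Red.Ga S,
      y' ≫ pm = (t ≫ i) * (y ≫ pm) * (t ≫ i)⁻¹ ∧ Red.gaFn y' * Red.gmFn (t ≫ α) = Red.gaFn y)
    (av : Red.Gm S ⟶ T) [IsMonHom av] (h2 : av ≫ α = (𝟙 (Red.Gm S)) ^ 2)
    (hF : ∀ (X : Over S) (x y : X ⟶ Red.Ga S), IsUnit (1 + Red.gaFn x * Red.gaFn y) →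
      ∃ (x' y' : X ⟶ Red.Ga S) (z : X ⟶ Red.Gm S), Red.gmFn z = 1 + Red.gaFn x * Red.gaFn y ∧
        Red.gaFn x' * Red.gmFn z = Red.gaFn x ∧ Red.gaFn y' * Red.gmFn z = Red.gaFn y ∧
        (x ≫ pp) * (y ≫ pm) = (y' ≫ pm) * (z ≫ av ≫ i) * (x' ≫ pp))
    (X : Over S) (z : X ⟶ Red.Gm S) (y₁ x₁ y₂ x₂ : X ⟶ Red.Ga S) (hy₁ : Red.gaFn y₁ * Red.gmFn z = 1 - Red.gmFn z)
    (hx₁ : Red.gaFn x₁ = 1) (hy₂ : Red.gaFn y₂ = Red.gmFn z - 1) (hx₂ : Red.gaFn x₂ * Red.gmFn z = -1) :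
    z ≫ av ≫ i = (y₁ ≫ pm) * (x₁ ≫ pp) * (y₂ ≫ pm) * (x₂ ≫ pp) := by
  have hu' : IsUnit (Red.gmFn z) := GaGmHom.isUnit_gmFn z
  have h1 : 1 + Red.gaFn x₁ * Red.gaFn y₂ = Red.gmFn z := by rw [hx₁, hy₂]; ring
  obtain ⟨x', y', z₁, hz₁, hx', hy', heq⟩ := hF X x₁ y₂ (h1 ▸ hu')
  obtain rfl : z₁ = z := GaGmHom.gmFn_injective (hz₁.trans h1)
  have e1 : y₁ * y' = 1 := GaPoints.gaFn_injective (hu'.mul_right_cancel (by
    rw [GaPoints.gaFn_mul, GaPoints.gaFn_one, add_mul, hy₁, hy', hy₂]; ring))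
  have e2 : x' * x₂ = 1 := GaPoints.gaFn_injective (hu'.mul_right_cancel (by
    rw [GaPoints.gaFn_mul, GaPoints.gaFn_one, add_mul, hx', hx₁, hx₂]; ring))
  calc z₁ ≫ av ≫ i = (1 : X ⟶ G) * (z₁ ≫ av ≫ i) * 1 := by group
    _ = ((y₁ * y') ≫ pm) * (z₁ ≫ av ≫ i) * ((x' * x₂) ≫ pp) := by
      rw [e1, e2, MonObj.one_comp, MonObj.one_comp]
    _ = (y₁ ≫ pm) * ((y' ≫ pm) * (z₁ ≫ av ≫ i) * (x' ≫ pp)) * (x₂ ≫ pp) := by
      rw [MonObj.mul_comp, MonObj.mul_comp]; group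
    _ = _ := by rw [← heq]; group


end Groth.Agent.S8470
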