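import Groth.Statements.S8471
import Mathlib.Algebra.Polynomial.Bivariate
-- import your own Groth.Agent.* helpers here

set_option autoImplicit false
set_option backward.isDefEq.respectTransparency false
open Red

namespace Groth.Agent.S8471

/-- Let k be a field and F ∈ k(X) a rational function whose denominator does not vanish at 0 and with
F(0) = 1. Suppose that in the field of fractions L of k[X₀, X₁] one has F(X₀ + X₁ · F(X₀)) = F(X₀) ·
F(X₁) (the functional equation F(x + y F(x)) = F(x) F(y)). Then there is a ∈ k with F = 1 + a X.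
(The published statement takes the identity on an open neighbourhood of the origin of 𝔾_a × 𝔾_a on
which all terms are defined; this row takes it as an identity of rational functions in two
variables.) -/
theorem result (k : Type) [Field k] (F : RatFunc k)
    (h0 : F.denom.eval 0 ≠ 0) (h1 : F.num.eval 0 = F.denom.eval 0)
    (hFE : RatFunc.eval (algebraMap k (FractionRing (MvPolynomial (Fin 2) k)))
        (algebraMap (MvPolynomial (Fin 2) k) (FractionRing (MvPolynomial (Fin 2) k)) (MvPolynomial.X 0) +
          algebraMap (MvPolynomial (Fin 2) k) (FractionRing (MvPolynomial (Fin 2) k)) (MvPolynomial.X 1) *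
            RatFunc.eval (algebraMap k (FractionRing (MvPolynomial (Fin 2) k)))
              (algebraMap (MvPolynomial (Fin 2) k) (FractionRing (MvPolynomial (Fin 2) k)) (MvPolynomial.X 0)) F) F =
      RatFunc.eval (algebraMap k (FractionRing (MvPolynomial (Fin 2) k)))
          (algebraMap (MvPolynomial (Fin 2) k) (FractionRing (MvPolynomial (Fin 2) k)) (MvPolynomial.X 0)) F *
        RatFunc.eval (algebraMap k (FractionRing (MvPolynomial (Fin 2) k)))
          (algebraMap (MvPolynomial (Fin 2) k) (FractionRing (MvPolynomial (Fin 2) k)) (MvPolynomial.X 1)) F) :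
    ∃ a : k, F = 1 + RatFunc.C a * RatFunc.X := by
  classical
  let R2 := MvPolynomial (Fin 2) k
  let K := RatFunc k
  let Φ : R2 →+* Polynomial K := (Polynomial.mapRingHom (algebraMap (Polynomial k) K)).comp
    (Polynomial.Bivariate.equivMvPolynomial k).symm.toRingEquiv.toRingHom
  have hΦ : Function.Injective Φ := by
    intro a b h
    exact (Polynomial.Bivariate.equivMvPolynomial k).symm.injective
      (Polynomial.map_injective _ (IsFractionRing.injective (Polynomial k) K) h)
  let Ψ : FractionRing R2 →+* RatFunc K := IsFractionRing.lift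
    (g := (algebraMap (Polynomial K) (RatFunc K)).comp Φ)
    ((IsFractionRing.injective (Polynomial K) (RatFunc K)).comp hΦ)
  have hΨ : ∀ a : R2, Ψ (algebraMap R2 (FractionRing R2) a) =
      algebraMap (Polynomial K) (RatFunc K) (Φ a) := fun a => IsFractionRing.lift_algebraMap _ a
  have hΦ0 : Φ (MvPolynomial.X 0) = Polynomial.C (RatFunc.X : K) := by
    change Polynomial.map _ ((Polynomial.Bivariate.equivMvPolynomial k).symm _) = _
    erw [Polynomial.Bivariate.equivMvPolynomial_symm_X_0 (R := k)]
    rw [Polynomial.map_C, RatFunc.algebraMap_X]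
  have hΦ1 : Φ (MvPolynomial.X 1) = Polynomial.X := by
    change Polynomial.map _ ((Polynomial.Bivariate.equivMvPolynomial k).symm _) = _
    erw [Polynomial.Bivariate.equivMvPolynomial_symm_X_1 (R := k)]
    rw [Polynomial.map_X]
  have hΦC : ∀ a : k, Φ (MvPolynomial.C a) = Polynomial.C (algebraMap k K a) := by
    intro a
    change Polynomial.map _ ((Polynomial.Bivariate.equivMvPolynomial k).symm _) = _
    erw [Polynomial.Bivariate.equivMvPolynomial_symm_C (R := k) a]
    rw [Polynomial.map_C, RatFunc.algebraMap_C]
    rfl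
  have hcomp : Ψ.comp (algebraMap k (FractionRing R2)) =
      (algebraMap (Polynomial K) (RatFunc K)).comp (algebraMap k (Polynomial K)) := by
    refine RingHom.ext fun a => ?_
    simp only [RingHom.comp_apply]
    rw [IsScalarTower.algebraMap_apply k R2 (FractionRing R2), hΨ, MvPolynomial.algebraMap_eq, hΦC,
      IsScalarTower.algebraMap_apply k K (Polynomial K), Polynomial.algebraMap_eq]
  set P := F.num with hP
  set Q := F.denom with hQ
  have hev : ∀ (p : Polynomial k) (w : FractionRing R2) (v : Polynomial K),
      Ψ w = algebraMap (Polynomial K) (RatFunc K) v →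
      Ψ (p.eval₂ (algebraMap k (FractionRing R2)) w) =
        algebraMap (Polynomial K) (RatFunc K) (Polynomial.aeval v p) := by
    intro p w v hw
    rw [Polynomial.hom_eval₂, hcomp, hw, Polynomial.aeval_def, Polynomial.hom_eval₂]
  have hF : (F : K) = Polynomial.aeval (RatFunc.X : K) P / Polynomial.aeval (RatFunc.X : K) Q := by
    rw [RatFunc.aeval_X_left_eq_algebraMap, RatFunc.aeval_X_left_eq_algebraMap]
    exact (RatFunc.num_div_denom F).symm
  set z : Polynomial K := Polynomial.C (RatFunc.X : K) + Polynomial.X * Polynomial.C (F : K) with hz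
  have hP0 : P ≠ 0 := by
    intro h
    rw [h, Polynomial.eval_zero] at h1
    exact h0 h1.symm
  have hQ0 : Q ≠ 0 := F.denom_ne_zero
  have hne : ∀ p : Polynomial k, p ≠ 0 →
      algebraMap (Polynomial K) (RatFunc K) (Polynomial.aeval Polynomial.X p) ≠ 0 := by
    intro p hp h
    rw [map_eq_zero_iff _ (IsFractionRing.injective (Polynomial K) (RatFunc K))] at h
    rw [Polynomial.aeval_X_left_eq_map] at h
    exact hp ((Polynomial.map_eq_zero_iff (algebraMap k K).injective).1 h)
  -- the functional equation in `K[Y]`
  have key : Polynomial.aeval z P * Polynomial.aeval Polynomial.X Q =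
      Polynomial.C (F : K) * Polynomial.aeval Polynomial.X P * Polynomial.aeval z Q := by
    have hE := congrArg Ψ hFE
    simp only [RatFunc.eval, map_div₀, map_mul] at hE
    have hx : Ψ (algebraMap R2 (FractionRing R2) (MvPolynomial.X 0)) =
        algebraMap (Polynomial K) (RatFunc K) (Polynomial.C (RatFunc.X : K)) := by
      rw [hΨ, hΦ0]
    have hy : Ψ (algebraMap R2 (FractionRing R2) (MvPolynomial.X 1)) =
        algebraMap (Polynomial K) (RatFunc K) Polynomial.X := by
      rw [hΨ, hΦ1]
    have hfx : Ψ (P.eval₂ (algebraMap k (FractionRing R2))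
          (algebraMap R2 (FractionRing R2) (MvPolynomial.X 0))) /
        Ψ (Q.eval₂ (algebraMap k (FractionRing R2))
          (algebraMap R2 (FractionRing R2) (MvPolynomial.X 0))) =
        algebraMap (Polynomial K) (RatFunc K) (Polynomial.C (F : K)) := by
      rw [hev P _ _ hx, hev Q _ _ hx]
      have hC : ∀ p : Polynomial k, Polynomial.aeval (Polynomial.C (RatFunc.X : K)) p =
          Polynomial.C (Polynomial.aeval (RatFunc.X : K) p) := fun p =>
        Polynomial.aeval_algebraMap_apply (Polynomial K) (RatFunc.X : K) p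
      have hd : ∀ c : K, algebraMap (Polynomial K) (RatFunc K) (Polynomial.C c) = RatFunc.C c :=
        RatFunc.algebraMap_C
      rw [hC, hC, hd, hd, hd, ← map_div₀, ← hF]
    have hzz : Ψ (algebraMap R2 (FractionRing R2) (MvPolynomial.X 0) +
        algebraMap R2 (FractionRing R2) (MvPolynomial.X 1) *
          (P.eval₂ (algebraMap k (FractionRing R2))
              (algebraMap R2 (FractionRing R2) (MvPolynomial.X 0)) /
            Q.eval₂ (algebraMap k (FractionRing R2))
              (algebraMap R2 (FractionRing R2) (MvPolynomial.X 0)))) =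
        algebraMap (Polynomial K) (RatFunc K) z := by
      rw [map_add, map_mul, map_div₀, hfx, hx, hy, hz, map_add, map_mul]
    rw [hev P _ _ hzz, hev Q _ _ hzz, hfx, hev P _ _ hy, hev Q _ _ hy] at hE
    have hFne : algebraMap (Polynomial K) (RatFunc K) (Polynomial.C (F : K)) ≠ 0 := by
      rw [map_ne_zero_iff _ (IsFractionRing.injective (Polynomial K) (RatFunc K)), ne_eq,
        Polynomial.C_eq_zero]
      intro h
      apply hP0
      rw [hP, h, RatFunc.num_zero]
    have hQz : algebraMap (Polynomial K) (RatFunc K) (Polynomial.aeval z Q) ≠ 0 := by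
      intro h
      rw [h, div_zero] at hE
      exact mul_ne_zero hFne (div_ne_zero (hne P hP0) (hne Q hQ0)) hE.symm
    rw [← mul_div_assoc, div_eq_div_iff hQz (hne Q hQ0)] at hE
    apply IsFractionRing.injective (Polynomial K) (RatFunc K)
    rw [map_mul, map_mul, map_mul]
    exact hE
  -- constant case
  by_cases hc : P.natDegree = 0 ∧ Q.natDegree = 0
  · refine ⟨0, ?_⟩
    rw [map_zero, zero_mul, add_zero, ← RatFunc.num_div_denom F, ← hP, ← hQ,
      Polynomial.eq_C_of_natDegree_eq_zero hc.1, Polynomial.eq_C_of_natDegree_eq_zero hc.2,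
      Polynomial.coeff_zero_eq_eval_zero, Polynomial.coeff_zero_eq_eval_zero, h1]
    exact div_self (by
      rw [RatFunc.algebraMap_C, ne_eq, map_eq_zero]
      exact h0)
  let Ω := AlgebraicClosure K
  have hcop : IsCoprime P Q := RatFunc.isCoprime_num_denom F
  set x : Ω := algebraMap K Ω RatFunc.X with hx
  have hxt : Transcendental k x := by
    intro h
    rw [hx, isAlgebraic_algebraMap_iff (algebraMap K Ω).injective] at h
    exact RatFunc.transcendental_X h
  have hnc : ∀ r : Ω, Polynomial.aeval r P = 0 → Polynomial.aeval r Q ≠ 0 := by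
    intro r hr hr'
    obtain ⟨u, v, huv⟩ := hcop
    have := congrArg (Polynomial.aeval r) huv
    simp [hr, hr'] at this
  set f : Ω := algebraMap K Ω F with hf
  have hkey : ∀ r : Ω, Polynomial.aeval (x + r * f) P * Polynomial.aeval r Q =
      f * Polynomial.aeval r P * Polynomial.aeval (x + r * f) Q := by
    intro r
    have hh : ∀ (v : Polynomial K) (p : Polynomial k), Polynomial.aeval r (Polynomial.aeval v p) =
        Polynomial.aeval (Polynomial.aeval r v) p := fun v p =>
      (Polynomial.aeval_algHom_apply
        ((Polynomial.aeval r : Polynomial K →ₐ[K] Ω).restrictScalars k) v p).symm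
    have hC : ∀ c : K, Polynomial.aeval r (Polynomial.C c) = algebraMap K Ω c := fun c =>
      Polynomial.aeval_C r c
    have h := congrArg (Polynomial.aeval r : Polynomial K →ₐ[K] Ω) key
    rw [map_mul, map_mul, map_mul, hh, hh, hh, hh, hz, map_add, map_mul, Polynomial.aeval_X,
      hC, hC] at h
    rw [hx, hf]
    exact h
  obtain ⟨r, s, hra, hsa, hr0, hrs⟩ : ∃ r s : Ω, IsAlgebraic k r ∧ IsAlgebraic k s ∧ r ≠ 0 ∧
      x + r * f = s := by
    have hex : ∀ (p : Polynomial k), p.natDegree ≠ 0 → ∃ r : Ω, Polynomial.aeval r p = 0 := by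
      intro p hp
      refine IsAlgClosed.exists_aeval_eq_zero Ω p ?_
      intro hd
      exact hp (Polynomial.natDegree_eq_zero_iff_degree_le_zero.2 hd.le)
    have hz0 : ∀ p : Polynomial k, p.eval 0 ≠ 0 → ∀ r : Ω, Polynomial.aeval r p = 0 → r ≠ 0 := by
      intro p hp r hr h
      rw [h, ← map_zero (algebraMap k Ω), Polynomial.aeval_algebraMap_apply_eq_algebraMap_eval] at hr
      exact hp ((algebraMap k Ω).injective hr)
    rcases not_and_or.1 hc with hp | hq
    · obtain ⟨r, hr⟩ := hex P hp
      have h := hkey r
      rw [hr, mul_zero, zero_mul, mul_eq_zero] at h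
      exact ⟨r, _, ⟨P, hP0, hr⟩, ⟨P, hP0, h.resolve_right (hnc r hr)⟩,
        hz0 P (h1 ▸ h0) r hr, rfl⟩
    · obtain ⟨r, hr⟩ := hex Q hq
      have h := hkey r
      rw [hr, mul_zero, eq_comm, mul_eq_zero] at h
      have hPr : Polynomial.aeval r P ≠ 0 := fun hp => hnc r hp hr
      have hfne : f ≠ 0 := by
        rw [hf, ne_eq, map_eq_zero]
        intro h'
        apply hP0
        rw [hP, h', RatFunc.num_zero]
      exact ⟨r, _, ⟨Q, hQ0, hr⟩, ⟨Q, hQ0, h.resolve_left (mul_ne_zero hfne hPr)⟩,
        hz0 Q h0 r hr, rfl⟩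
  let E := algebraicClosure k Ω
  let r' : E := ⟨r, mem_algebraicClosure_iff.2 hra⟩
  let s' : E := ⟨s, mem_algebraicClosure_iff.2 hsa⟩
  have hxE : Transcendental E x := by
    intro h
    exact hxt (h.restrictScalars k)
  have hfx : Polynomial.aeval x P = f * Polynomial.aeval x Q := by
    rw [hx, hf, Polynomial.aeval_algebraMap_apply, Polynomial.aeval_algebraMap_apply, ← map_mul]
    congr 1
    rw [hF, div_mul_cancel₀]
    rw [RatFunc.aeval_X_left_eq_algebraMap]
    exact RatFunc.algebraMap_ne_zero hQ0
  have hid : Polynomial.C r' * P.map (algebraMap k E) =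
      (Polynomial.C s' - Polynomial.X) * Q.map (algebraMap k E) := by
    apply transcendental_iff_injective.1 hxE
    simp only [map_mul, map_sub, Polynomial.aeval_C, Polynomial.aeval_X,
      Polynomial.aeval_map_algebraMap]
    change r * _ = (s - x) * _
    rw [hfx, ← hrs]
    ring
  have hr'0 : r' ≠ 0 := by
    intro h
    exact hr0 (congrArg Subtype.val h)
  have hQd : Q.map (algebraMap k E) ∣ Polynomial.C r' := by
    refine ((hcop.map (Polynomial.mapRingHom (algebraMap k E))).symm).dvd_of_dvd_mul_right ?_
    exact ⟨Polynomial.C s' - Polynomial.X, by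
      simp only [Polynomial.coe_mapRingHom]
      rw [hid, mul_comm]⟩
  have hQ1 : Q = 1 := by
    refine (RatFunc.monic_denom F).natDegree_eq_zero.1 ?_
    rw [← Polynomial.natDegree_map (algebraMap k E)]
    have := Polynomial.natDegree_le_of_dvd hQd (by simpa using hr'0)
    simpa using this
  have hPd : P.natDegree ≤ 1 := by
    rw [← Polynomial.natDegree_map (algebraMap k E),
      ← Polynomial.natDegree_C_mul hr'0, hid, hQ1, Polynomial.map_one, _root_.mul_one]
    compute_degree
  refine ⟨P.coeff 1, ?_⟩
  have hP1 : P = Polynomial.C (P.coeff 1) * Polynomial.X + Polynomial.C 1 := by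
    conv_lhs => rw [Polynomial.eq_X_add_C_of_natDegree_le_one hPd]
    rw [Polynomial.coeff_zero_eq_eval_zero, h1, hQ1, Polynomial.eval_one]
  conv_lhs => rw [← RatFunc.num_div_denom F, ← hP, ← hQ, hQ1, map_one, div_one, hP1]
  rw [map_add, map_mul, RatFunc.algebraMap_C, RatFunc.algebraMap_X, RatFunc.algebraMap_C, map_one,
    add_comm]

end Groth.Agent.S8471
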