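import Groth.Statements.S8473
import Groth.Agent.EtNormalTorusLib.Main

set_option autoImplicit false
set_option backward.isDefEq.respectTransparency false
set_option backward.isDefEq.respectTransparency.types false
set_option linter.style.haveILetI false
universe u
open CategoryTheory MonoidalCategory CartesianMonoidalCategory MonObj GrpObj AlgebraicGeometry CategoryTheory.Limits
open Red

namespace Groth.Agent.S8473

/-- Let k be an algebraically closed field, T a k-torus, α : T ⟶ 𝔾_m a non-trivial character and P the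
semi-direct product T ⋉_α 𝔾_a, given as a k-group P with homomorphisms j_T : T ⟶ P and j_U : 𝔾_a ⟶ P
such that (t, x) ↦ j_T(t) j_U(x) is an isomorphism of schemes T × 𝔾_a ≅ P and j_T(t) j_U(x) j_T(t)⁻¹
= j_U(α(t) x). Let n : N ⟶ P be a normal subgroup scheme which is étale over k and such that N ∩ T
is trivial (a point of N whose image is in j_T(T) is the unit). Then N is the trivial group. -/
theorem result (K : Type u) [Field K] [IsAlgClosed K]
    (T P N : Over (Spec (CommRingCat.of K))) [GrpObj T] [GrpObj P] [GrpObj N] (hT : Red.IsTorus T)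
    (α : T ⟶ Red.Gm (Spec (CommRingCat.of K))) [IsMonHom α] (hα : α ≠ 1)
    (jT : T ⟶ P) [IsMonHom jT] (jU : Red.Ga (Spec (CommRingCat.of K)) ⟶ P) [IsMonHom jU] (hiso : IsIso ((jT ⊗ₘ jU) ≫ μ[P]))
    (hconj : ∀ (X : Over (Spec (CommRingCat.of K))) (t : X ⟶ T) (x x' : X ⟶ Red.Ga (Spec (CommRingCat.of K))), Red.gaFn x' = Red.gmFn (t ≫ α) * Red.gaFn x →
      (t ≫ jT) * (x ≫ jU) * (t ≫ jT)⁻¹ = x' ≫ jU)
    (n : N ⟶ P) [IsMonHom n] [Mono n] (hn : AlgGrp.IsNormalHom n) (het : Etale N.hom)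
    (hNT : ∀ (X : Over (Spec (CommRingCat.of K))) (t : X ⟶ T) (m : X ⟶ N), t ≫ jT = m ≫ n → m = 1) :
    Red.IsTrivialGrp N := by
  haveI := hiso
  haveI : Etale N.hom := het
  haveI : ConnectedSpace ↥T.left := Groth.Agent.EtNormalTorusLib.connectedSpace_torus T hT
  have huniq : ∀ {X : Over (Spec (CommRingCat.of K))} (a b : X ⟶ T) (x y : X ⟶ Red.Ga (Spec (CommRingCat.of K))),
      (a ≫ jT) * (x ≫ jU) = (b ≫ jT) * (y ≫ jU) → x = y := fun {X} a b x y h => by
    have h' : lift a x ≫ (jT ⊗ₘ jU) ≫ μ[P] = lift b y ≫ (jT ⊗ₘ jU) ≫ μ[P] := by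
      rw [← Category.assoc, ← Category.assoc, lift_map, lift_map]
      exact h
    have h2 := congrArg (· ≫ CartesianMonoidalCategory.snd T (Red.Ga (Spec (CommRingCat.of K)))) ((cancel_mono _).1 h')
    simpa using h2
  have hpt : ∀ n₀ : 𝟙_ (Over (Spec (CommRingCat.of K))) ⟶ N, n₀ = η[N] := fun n₀ => by
    let z := (n₀ ≫ n) ≫ inv ((jT ⊗ₘ jU) ≫ μ[P])
    let t₀ := z ≫ CartesianMonoidalCategory.fst _ _
    let x₀ := z ≫ CartesianMonoidalCategory.snd _ _
    have hz : (t₀ ≫ jT) * (x₀ ≫ jU) = n₀ ≫ n := by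
      show lift (t₀ ≫ jT) (x₀ ≫ jU) ≫ μ[P] = _
      rw [← lift_map, Category.assoc, ← comp_lift, lift_fst_snd, Category.comp_id]
      simp [z]
    have hcm := Groth.Agent.EtNormalTorusLib.commute_pt n hn jT n₀
    rw [← hz, MonObj.comp_mul] at hcm
    obtain ⟨y, hy⟩ := Groth.Agent.GaPoints.gaFn_surjective (X := T)
      (Red.gmFn α * Red.gaFn (toUnit T ≫ x₀))
    have hyc := hconj T (𝟙 T) (toUnit T ≫ x₀) y (by rw [hy, Category.id_comp])
    rw [Category.id_comp] at hyc
    have hkey : ((𝟙 T * (toUnit T ≫ t₀) * (𝟙 T)⁻¹) ≫ jT) * (y ≫ jU) =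
        ((toUnit T ≫ t₀) ≫ jT) * ((toUnit T ≫ x₀) ≫ jU) := by
      rw [← hyc, MonObj.mul_comp, MonObj.mul_comp, GrpObj.inv_comp, Category.id_comp]
      simp only [Category.assoc]
      rw [← hcm]
      group
    have hx : x₀ = 1 := Groth.Agent.EtNormalTorusLib.eq_one_of_smul hα x₀ (by
      rw [← hy, huniq _ _ _ _ hkey])
    have h1 : t₀ ≫ jT = n₀ ≫ n := by rw [← hz, hx, MonObj.one_comp, _root_.mul_one]
    rw [hNT _ t₀ n₀ h1]
    exact (MonObj.one_eq_one N).symm
  haveI : IsOpenImmersion η[N].left := Groth.Agent.EtNormalTorusLib.isOpenImmersion_pt η[N]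
  haveI : JacobsonSpace ↥N.left := LocallyOfFiniteType.jacobsonSpace N.hom
  haveI : Surjective η[N].left := ⟨fun x => by
    by_contra hx
    haveI : IsSeparated N.hom := Groth.Agent.GrpSchLib.isSeparated_hom
    haveI : IsClosedImmersion (η[N].left ≫ N.hom) := by
      rw [Over.w η[N]]; exact inferInstanceAs (IsClosedImmersion (𝟙 _))
    haveI : IsClosedImmersion η[N].left := IsClosedImmersion.of_comp η[N].left N.hom
    obtain ⟨w, hw, hwc⟩ := nonempty_inter_closedPoints (Z := (Set.range η[N].left)ᶜ) ⟨x, hx⟩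
      η[N].left.isClosedEmbedding.isClosed_range.isOpen_compl.isLocallyClosed
    have := hpt (Over.homMk (pointOfClosedPoint N.hom w hwc) (pointOfClosedPoint_comp _ _ _))
    refine hw ⟨IsLocalRing.closedPoint K, ?_⟩
    rw [← this]
    exact pointOfClosedPoint_apply _ _ _ _⟩
  haveI : IsIso η[N].left := (isIso_iff_isOpenImmersion_and_epi_base _).2 ⟨inferInstance, (TopCat.epi_iff_surjective _).2 η[N].left.surjective⟩
  have h2 : η[N].left ≫ N.hom = 𝟙 _ := Over.w η[N]
  show IsIso N.hom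
  rw [(IsIso.eq_inv_comp η[N].left).2 h2]
  infer_instance

end Groth.Agent.S8473
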