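import Groth.Statements.S8474
import Groth.Agent.SemidirMonoLib.Main

set_option autoImplicit false
set_option backward.isDefEq.respectTransparency false
set_option backward.isDefEq.respectTransparency.types false
universe u
open CategoryTheory MonoidalCategory CartesianMonoidalCategory MonObj GrpObj AlgebraicGeometry CategoryTheory.Limits
open Red

namespace Groth.Agent.S8474

/-- Let G be an S-group scheme of finite presentation over S, T an S-torus, α : T ⟶ 𝔾_m a character
non-trivial on every geometric fibre, and P = T ⋉_α 𝔾_a, given as an S-group P with homomorphisms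
j_T : T ⟶ P, j_U : 𝔾_a ⟶ P such that (t, x) ↦ j_T(t) j_U(x) is an isomorphism of schemes T ×_S 𝔾_a ≅
P and j_T(t) j_U(x) j_T(t)⁻¹ = j_U(α(t) x). Let s₀ be a point of S and f : P ⟶ G a homomorphism
whose base change to the fibre at s₀ is a monomorphism and whose restriction j_T ∘ f to T is a
monomorphism. Then there is an open neighbourhood U of s₀ over which f is a monomorphism. -/
theorem result (S : Scheme.{u}) (G T P : Over S) [GrpObj G] [GrpObj T] [GrpObj P]
    [LocallyOfFinitePresentation G.hom] [QuasiCompact G.hom] [QuasiSeparated G.hom] (hT : Red.IsTorus T)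
    (α : T ⟶ Red.Gm S) [IsMonHom α] (hα : ∀ s : S, (Over.pullback (Red.geomPt s)).map α ≠ 1)
    (jT : T ⟶ P) [IsMonHom jT] (jU : Red.Ga S ⟶ P) [IsMonHom jU] (hiso : IsIso ((jT ⊗ₘ jU) ≫ μ[P]))
    (hconj : ∀ (X : Over S) (t : X ⟶ T) (x x' : X ⟶ Red.Ga S), Red.gaFn x' = Red.gmFn (t ≫ α) * Red.gaFn x →
      (t ≫ jT) * (x ≫ jU) * (t ≫ jT)⁻¹ = x' ≫ jU)
    (s₀ : S) (f : P ⟶ G) [IsMonHom f] [Mono ((Over.pullback (S.fromSpecResidueField s₀)).map f)] [Mono (jT ≫ f)] :
    ∃ U : S.Opens, s₀ ∈ U ∧ Mono ((Over.pullback U.ι).map f) := by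
  obtain ⟨hfl, hsu⟩ := Groth.Agent.RankOneCellLib.flatSurj_of_geomFibre_ne_one hT α hα
  exact Groth.Agent.SemidirMonoLib.exists_nhd_mono hT α hfl hsu jT jU hiso hconj s₀ f

end Groth.Agent.S8474
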