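import Groth.Statements.S8478
import Groth.Agent.RankOneCellLib.Morph4

set_option autoImplicit false
universe u
open CategoryTheory MonoidalCategory CartesianMonoidalCategory MonObj GrpObj AlgebraicGeometry CategoryTheory.Limits
open Red

set_option backward.isDefEq.respectTransparency false
set_option backward.isDefEq.respectTransparency.types false
set_option linter.style.haveILetI false
open Groth.Agent.RankOneRelLib Groth.Agent.RankOneCellLib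

namespace Groth.Agent.S8478

/-- Let (G, T, α, p₊, p₋, α^*) and (G', T', α', p'₊, p'₋, α'^*) be two rank-one systems over S: G
reductive, i : T ⟶ G a maximal torus, α a character of T non-trivial on every geometric fibre, p₊,
p₋ : 𝔾_a ⟶ G monomorphisms normalised by T with multipliers α, α⁻¹ whose cell map (y, t, x) ↦ p₋(y)
i(t) p₊(x) is an open immersion, α^* : 𝔾_m ⟶ T with α ∘ α^* the squaring map and p₊(x) p₋(y) =
p₋(y/(1+xy)) · i(α^*(1+xy)) · p₊(x/(1+xy)) whenever 1 + xy is invertible; likewise for the primed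
data. Let q > 0 be an integer such that x ↦ x^q is additive on all functions of S-schemes. Let c be
an S-point of 𝔾_m and f : G ⟶ G' a homomorphism with f(p₊(x)) = p'₊(c x^q) for all points x of 𝔾_a.
Write w(x) = p₊(x) p₋(-x⁻¹) p₊(x) and w'(x) = p'₊(x) p'₋(-x⁻¹) p'₊(x) for points x with invertible
coordinate. Then the following are equivalent: (i) f(i(α^*(z))) = i'(α'^*(z))^q for all points z of
𝔾_m; (ii) f(w(x)) = w'(c x^q) for all x with invertible coordinate; (iii) f(p₋(y)) = p'₋(c⁻¹ y^q)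
for all points y. -/
theorem result (S : Scheme.{u}) (G T : Over S) [GrpObj G] [GrpObj T] (i : T ⟶ G) [IsMonHom i] [Mono i] (hG : Red.IsReductive G) (hTm : Red.IsMaximalTorus i)
    (α : T ⟶ Red.Gm S) [IsMonHom α] (hα : ∀ s : S, (Over.pullback (Red.geomPt s)).map α ≠ 1)
    (pp pm : Red.Ga S ⟶ G) [IsMonHom pp] [Mono pp] [IsMonHom pm] [Mono pm]
    (hpp : ∀ (X : Over S) (t : X ⟶ T) (x : X ⟶ Red.Ga S), ∃ x' : X ⟶ Red.Ga S,
      x' ≫ pp = (t ≫ i) * (x ≫ pp) * (t ≫ i)⁻¹ ∧ Red.gaFn x' = Red.gmFn (t ≫ α) * Red.gaFn x)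
    (hpm : ∀ (X : Over S) (t : X ⟶ T) (y : X ⟶ Red.Ga S), ∃ y' : X ⟶ Red.Ga S,
      y' ≫ pm = (t ≫ i) * (y ≫ pm) * (t ≫ i)⁻¹ ∧ Red.gaFn y' * Red.gmFn (t ≫ α) = Red.gaFn y)
    (hΩ : IsOpenImmersion (((pm ⊗ₘ i) ⊗ₘ pp) ≫ (μ[G] ▷ G) ≫ μ[G]).left)
    (av : Red.Gm S ⟶ T) [IsMonHom av] (h2 : av ≫ α = (𝟙 (Red.Gm S)) ^ 2)
    (hF : ∀ (X : Over S) (x y : X ⟶ Red.Ga S), IsUnit (1 + Red.gaFn x * Red.gaFn y) →
      ∃ (x' y' : X ⟶ Red.Ga S) (z : X ⟶ Red.Gm S), Red.gmFn z = 1 + Red.gaFn x * Red.gaFn y ∧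
        Red.gaFn x' * Red.gmFn z = Red.gaFn x ∧ Red.gaFn y' * Red.gmFn z = Red.gaFn y ∧
        (x ≫ pp) * (y ≫ pm) = (y' ≫ pm) * (z ≫ av ≫ i) * (x' ≫ pp))
    (G' T' : Over S) [GrpObj G'] [GrpObj T'] (i' : T' ⟶ G') [IsMonHom i'] [Mono i'] (hG' : Red.IsReductive G') (hTm' : Red.IsMaximalTorus i')
    (α' : T' ⟶ Red.Gm S) [IsMonHom α'] (hα' : ∀ s : S, (Over.pullback (Red.geomPt s)).map α' ≠ 1)
    (pp' pm' : Red.Ga S ⟶ G') [IsMonHom pp'] [Mono pp'] [IsMonHom pm'] [Mono pm']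
    (hpp' : ∀ (X : Over S) (t : X ⟶ T') (x : X ⟶ Red.Ga S), ∃ x' : X ⟶ Red.Ga S,
      x' ≫ pp' = (t ≫ i') * (x ≫ pp') * (t ≫ i')⁻¹ ∧ Red.gaFn x' = Red.gmFn (t ≫ α') * Red.gaFn x)
    (hpm' : ∀ (X : Over S) (t : X ⟶ T') (y : X ⟶ Red.Ga S), ∃ y' : X ⟶ Red.Ga S,
      y' ≫ pm' = (t ≫ i') * (y ≫ pm') * (t ≫ i')⁻¹ ∧ Red.gaFn y' * Red.gmFn (t ≫ α') = Red.gaFn y)
    (hΩ' : IsOpenImmersion (((pm' ⊗ₘ i') ⊗ₘ pp') ≫ (μ[G'] ▷ G') ≫ μ[G']).left)
    (av' : Red.Gm S ⟶ T') [IsMonHom av'] (h2' : av' ≫ α' = (𝟙 (Red.Gm S)) ^ 2)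
    (hF' : ∀ (X : Over S) (x y : X ⟶ Red.Ga S), IsUnit (1 + Red.gaFn x * Red.gaFn y) →
      ∃ (x' y' : X ⟶ Red.Ga S) (z : X ⟶ Red.Gm S), Red.gmFn z = 1 + Red.gaFn x * Red.gaFn y ∧
        Red.gaFn x' * Red.gmFn z = Red.gaFn x ∧ Red.gaFn y' * Red.gmFn z = Red.gaFn y ∧
        (x ≫ pp') * (y ≫ pm') = (y' ≫ pm') * (z ≫ av' ≫ i') * (x' ≫ pp'))
    (q : ℕ) (hq0 : 0 < q) (hq : ∀ (X : Over S) (a b : Γ(X.left, ⊤)), (a + b) ^ q = a ^ q + b ^ q) (c : 𝟙_ (Over S) ⟶ Red.Gm S) (f : G ⟶ G') [IsMonHom f]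
    (hf : ∀ (X : Over S) (x y : X ⟶ Red.Ga S), Red.gaFn y = Red.gmFn (toUnit X ≫ c) * Red.gaFn x ^ q →
      (x ≫ pp) ≫ f = y ≫ pp') :
    [∀ (X : Over S) (z : X ⟶ Red.Gm S), (z ≫ av ≫ i) ≫ f = ((z ≫ av') ^ q) ≫ i',
      ∀ (X : Over S) (x x' y y' : X ⟶ Red.Ga S), Red.gaFn x' * Red.gaFn x = -1 →
        Red.gaFn y = Red.gmFn (toUnit X ≫ c) * Red.gaFn x ^ q → Red.gaFn y' * Red.gaFn y = -1 →
        ((x ≫ pp) * (x' ≫ pm) * (x ≫ pp)) ≫ f = (y ≫ pp') * (y' ≫ pm') * (y ≫ pp'),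
      ∀ (X : Over S) (x y : X ⟶ Red.Ga S), Red.gaFn y * Red.gmFn (toUnit X ≫ c) = Red.gaFn x ^ q →
        (x ≫ pm) ≫ f = y ≫ pm'].TFAE := by
  haveI : IsOpenImmersion (cellMap i pp pm).left := hΩ
  haveI : IsOpenImmersion (cellMap i' pp' pm').left := hΩ'
  have hT' := hTm'.2.2.1
  -- the sign is preserved by the q-th power
  have hneg : ∀ (X : Over S), ((-1 : Γ(X.left, ⊤)) ^ q) = -1 := fun X => by
    have h := hq X (-1) 1
    rw [neg_add_cancel, zero_pow hq0.ne', one_pow] at h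
    linear_combination -h
  have hC : ∀ (X : Over S), IsUnit (Red.gmFn (toUnit X ≫ c)) := fun X => GmPts.isUnit_gmFn _
  tfae_have 1 → 3 := by
    intro hav
    haveI := isOpenImmersion_swap i' pp' pm'
    obtain ⟨h2fl, h2su⟩ := flat_surj_pow hT' α' hα' (n := 2) (by omega)
    obtain ⟨hifl, hisu⟩ : Flat (av' ≫ α'⁻¹).left ∧ Surjective (av' ≫ α'⁻¹).left := by
      rw [GrpObj.comp_inv, h2']
      exact flat_surj_inv _ h2fl h2su
    have hinv : ∀ {Y : Over S} (t : Y ⟶ T'), Red.gmFn (t ≫ α'⁻¹) * Red.gmFn (t ≫ α') = 1 := fun t => by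
      rw [GrpObj.comp_inv]
      exact GmPts.gmFn_inv _
    obtain ⟨μ', hμ, -⟩ := existsUnique_root (G := G') (T := T') (Q := Red.Gm S) (i := i') (j := av') (α := α'⁻¹)
      (pp := pm') (pm := pp') hT'
      (fun Y t x => by
        obtain ⟨x', h1, h3⟩ := hpm' Y t x
        refine ⟨x', h1, ?_⟩
        linear_combination Red.gmFn (t ≫ α'⁻¹) * h3 - Red.gaFn x' * hinv t)
      (fun Y t x => by
        obtain ⟨x', h1, h3⟩ := hpp' Y t x
        refine ⟨x', h1, ?_⟩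
        linear_combination Red.gmFn (t ≫ α'⁻¹) * h3 + Red.gaFn x * hinv t)
      hifl hisu q (pm ≫ f) fun Y t x x' hx => by
        obtain ⟨x'', h1, h3⟩ := hpm Y (t ≫ av) x
        have hi : Red.gmFn (t ≫ av' ≫ α'⁻¹) * Red.gmFn ((t ≫ av) ≫ α) = 1 := by
          rw [Category.assoc t av α, h2, ← h2', ← Category.assoc t av' α', ← Category.assoc t av' α'⁻¹]
          exact hinv _
        have e : x' = x'' := GaPoints.gaFn_injective (by
          linear_combination hx + Red.gmFn (t ≫ av' ≫ α'⁻¹) * (-h3) + Red.gaFn x'' * hi)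
        rw [e, ← Category.assoc, h1, MonObj.mul_comp, MonObj.mul_comp, GrpObj.inv_comp, Category.assoc t av i,
          hav Y t, MonObj.pow_comp (t ≫ av') q i']
        simp only [Category.assoc]
    have hfm : ∀ (W : Over S) (x : W ⟶ Red.Ga S),
        (x ≫ pm) ≫ f = gp (Red.gaFn (toUnit W ≫ μ') * Red.gaFn x ^ q) ≫ pm' := fun W x => by
      rw [Category.assoc]
      exact hμ W x _ (by rw [gaFn_gp])
    let ν : 𝟙_ (Over S) ⟶ Red.Ga S := gp (Red.gmFn c)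
    have hν : ∀ (W : Over S), Red.gaFn (toUnit W ≫ ν) = Red.gmFn (toUnit W ≫ c) := fun W => by
      rw [GaPoints.gaFn_comp, gaFn_gp, GmPts.gmFn_comp]
    have hk := root_coeff_inv (i := i) (pp := pp) (pm := pm) (av := av) h2' hF hF' hq0 hq f ν μ'
      (fun W x => hf W x _ (by rw [gaFn_gp, hν])) hfm hav
    intro X x y hy
    rw [Category.assoc]
    refine hμ X x y ?_
    have h1 : Red.gmFn (toUnit X ≫ c) * Red.gaFn (toUnit X ≫ μ') = 1 := by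
      rw [← hν, GaPoints.gaFn_comp, GaPoints.gaFn_comp, ← map_mul, hk, map_one]
    linear_combination Red.gaFn (toUnit X ≫ μ') * hy - Red.gaFn y * h1
  tfae_have 3 → 2 := by
    intro hm X x x' y y' hxx hy hyy
    rw [MonObj.mul_comp, MonObj.mul_comp, hf X x y hy]
    congr 2
    refine hm X x' y' ?_
    have hxq : Red.gaFn x' ^ q * Red.gaFn x ^ q = -1 := by rw [← mul_pow, hxx, hneg]
    linear_combination Red.gaFn y' * Red.gmFn (toUnit X ≫ c) * hxq - Red.gaFn x' ^ q * hyy +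
      Red.gaFn y' * Red.gaFn x' ^ q * hy
  tfae_have 2 → 1 := by
    intro hw X z
    let σ := sys hpp hpm h2 hF X
    let σ' := sys hpp' hpm' h2' hF' X
    set u := GmPts.unitOfPt z with hu
    set C := GmPts.unitOfPt (toUnit X ≫ c) with hCdef
    have key : ∀ v : Γ(X.left, ⊤)ˣ, σ.w (v : Γ(X.left, ⊤)) ((v⁻¹).1 * -1) ≫ f =
        σ'.w ((C * v ^ q : _ˣ) : Γ(X.left, ⊤)) (((C * v ^ q)⁻¹).1 * -1) := fun v =>
      hw X (gp v) (gp ((v⁻¹).1 * -1)) (gp ((C * v ^ q : _ˣ) : Γ(X.left, ⊤))) (gp (((C * v ^ q)⁻¹).1 * -1))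
        (by rw [gaFn_gp, gaFn_gp]; linear_combination -(Units.inv_mul v))
        (by rw [gaFn_gp, gaFn_gp]; push_cast; rw [hCdef, GmPts.val_unitOfPt])
        (by rw [gaFn_gp, gaFn_gp]; linear_combination -(Units.inv_mul (C * v ^ q)))
    have hs : ∀ v : Γ(X.left, ⊤)ˣ, σ.I (σ.av v) =
        σ.w (v : Γ(X.left, ⊤)) ((v⁻¹).1 * -1) * (σ.w 1 (-1))⁻¹ := fun v => by
      rw [← _root_.mul_one (v : Γ(X.left, ⊤)), σ.w_smul 1 (-1) (by rw [_root_.mul_one]) v, mul_inv_cancel_right]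
    have hs' : ∀ v : Γ(X.left, ⊤)ˣ, σ'.I (σ'.av v) =
        σ'.w (v : Γ(X.left, ⊤)) ((v⁻¹).1 * -1) * (σ'.w 1 (-1))⁻¹ := fun v => by
      rw [← _root_.mul_one (v : Γ(X.left, ⊤)), σ'.w_smul 1 (-1) (by rw [_root_.mul_one]) v, mul_inv_cancel_right]
    have h := congrArg (fun r => r ≫ f) (hs u)
    simp only [MonObj.mul_comp, GrpObj.inv_comp] at h
    have k1 := key 1
    simp only [inv_one, Units.val_one, _root_.one_mul, one_pow, _root_.mul_one] at k1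
    rw [key u, k1] at h
    have e : σ'.I (σ'.av (u ^ q)) = (σ'.I (σ'.av C))⁻¹ * σ'.I (σ'.av (C * u ^ q)) := by
      rw [map_mul σ'.av, map_mul σ'.I, inv_mul_cancel_left]
    rw [hs' C, hs' (C * u ^ q)] at e
    have hcomm : σ'.I (σ'.av (u ^ q)) = σ'.w ((C * u ^ q : _ˣ) : Γ(X.left, ⊤)) (((C * u ^ q)⁻¹).1 * -1) *
        (σ'.w (C : Γ(X.left, ⊤)) ((C⁻¹).1 * -1))⁻¹ := by
      have e2 : σ'.I (σ'.av (u ^ q)) * σ'.I (σ'.av C) = σ'.I (σ'.av (C * u ^ q)) := by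
        rw [← map_mul σ'.I, ← map_mul σ'.av, _root_.mul_comm]
      rw [hs' C, hs' (C * u ^ q), ← _root_.mul_assoc, mul_left_inj] at e2
      rw [← e2, mul_inv_cancel_right]
    rw [← hcomm] at h
    rw [map_pow, map_pow] at h
    rw [sys_I hpp hpm h2 hF, sys_I hpp' hpm' h2' hF', sys_av hpp hpm h2 hF, sys_av hpp' hpm' h2' hF',
      Category.assoc] at h
    rw [MonObj.pow_comp (z ≫ av') q i']
    exact h
  tfae_finish

end Groth.Agent.S8478
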