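import Groth.Statements.S8487
import Groth.Agent.RankOneCellLib.Centralizer

set_option autoImplicit false
universe u
open CategoryTheory MonoidalCategory CartesianMonoidalCategory MonObj GrpObj AlgebraicGeometry CategoryTheory.Limits
open Red

set_option backward.isDefEq.respectTransparency false
set_option backward.isDefEq.respectTransparency.types false
set_option linter.style.haveILetI false
open Groth.Agent.RankOneRelLib Groth.Agent.RankOneCellLib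

namespace Groth.Agent.S8487

/-- Let G be a reductive S-group, i : T ⟶ G a maximal torus, α a character of T non-trivial on every
geometric fibre, p₊, p₋ : 𝔾_a ⟶ G monomorphisms of groups normalised by T with multipliers α and α⁻¹
whose cell map (y, t, x) ↦ p₋(y) i(t) p₊(x) is an open immersion 𝔾_a ×_S T ×_S 𝔾_a ⟶ G, and α^* :
𝔾_m ⟶ T the coroot: α ∘ α^* is the squaring map and p₊(x) p₋(y) = p₋(y/(1+xy)) · i(α^*(1+xy)) ·
p₊(x/(1+xy)) whenever 1 + xy is invertible (so p₊ and p₋ are dual to each other). Let n be a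
non-zero integer and w an S-point of G such that w · i(α^*(z))^n · w⁻¹ = i(α^*(z))^{-n} for all
points z of 𝔾_m (after base change). Then w is a point of N^× = Norm_G(T) − T: it normalises T, with
w i(t) w⁻¹ = i(α^*(α(t)))⁻¹ i(t) for all points t of T, and for no geometric point s̄ of S does
w(s̄) lie in T. (The published statement is an equivalence; this row states only this implication.) -/
theorem result (S : Scheme.{u}) (G T : Over S) [GrpObj G] [GrpObj T] (i : T ⟶ G) [IsMonHom i] [Mono i] (hG : Red.IsReductive G) (hTm : Red.IsMaximalTorus i)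
    (α : T ⟶ Red.Gm S) [IsMonHom α] (hα : ∀ s : S, (Over.pullback (Red.geomPt s)).map α ≠ 1)
    (pp pm : Red.Ga S ⟶ G) [IsMonHom pp] [Mono pp] [IsMonHom pm] [Mono pm]
    (hpp : ∀ (X : Over S) (t : X ⟶ T) (x : X ⟶ Red.Ga S), ∃ x' : X ⟶ Red.Ga S,
      x' ≫ pp = (t ≫ i) * (x ≫ pp) * (t ≫ i)⁻¹ ∧ Red.gaFn x' = Red.gmFn (t ≫ α) * Red.gaFn x)
    (hpm : ∀ (X : Over S) (t : X ⟶ T) (y : X ⟶ Red.Ga S), ∃ y' : X ⟶ Red.Ga S,
      y' ≫ pm = (t ≫ i) * (y ≫ pm) * (t ≫ i)⁻¹ ∧ Red.gaFn y' * Red.gmFn (t ≫ α) = Red.gaFn y)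
    (hΩ : IsOpenImmersion (((pm ⊗ₘ i) ⊗ₘ pp) ≫ (μ[G] ▷ G) ≫ μ[G]).left)
    (av : Red.Gm S ⟶ T) [IsMonHom av] (h2 : av ≫ α = (𝟙 (Red.Gm S)) ^ 2)
    (hF : ∀ (X : Over S) (x y : X ⟶ Red.Ga S), IsUnit (1 + Red.gaFn x * Red.gaFn y) →
      ∃ (x' y' : X ⟶ Red.Ga S) (z : X ⟶ Red.Gm S), Red.gmFn z = 1 + Red.gaFn x * Red.gaFn y ∧
        Red.gaFn x' * Red.gmFn z = Red.gaFn x ∧ Red.gaFn y' * Red.gmFn z = Red.gaFn y ∧
        (x ≫ pp) * (y ≫ pm) = (y' ≫ pm) * (z ≫ av ≫ i) * (x' ≫ pp))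
    (n : ℤ) (hn : n ≠ 0) (w : 𝟙_ (Over S) ⟶ G)
    (hw : ∀ (X : Over S) (z : X ⟶ Red.Gm S),
      (toUnit X ≫ w) * (((z ≫ av) ^ n) ≫ i) * (toUnit X ≫ w)⁻¹ = ((((z ≫ av) ^ n) ≫ i))⁻¹) :
    (∀ (X : Over S) (t : X ⟶ T), (toUnit X ≫ w) * (t ≫ i) * (toUnit X ≫ w)⁻¹ = (t ≫ α ≫ av ≫ i)⁻¹ * (t ≫ i)) ∧
      ∀ s : S, ¬ ∃ t : Over.mk (Red.geomPt s) ⟶ T, t ≫ i = toUnit (Over.mk (Red.geomPt s)) ≫ w := by
  haveI : IsOpenImmersion (cellMap i pp pm).left := hΩ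
  have hT := hTm.2.2.1
  -- the Weyl element with coordinates `1, -1`
  let w₀ : 𝟙_ (Over S) ⟶ G := (sys hpp hpm h2 hF (𝟙_ (Over S))).w 1 (-1)
  have hw₀ : ∀ (X : Over S), toUnit X ≫ w₀ = (sys hpp hpm h2 hF X).w 1 (-1) := fun X => by
    show toUnit X ≫ ((gp 1 ≫ pp) * (gp (-1) ≫ pm) * (gp 1 ≫ pp)) = (gp 1 ≫ pp) * (gp (-1) ≫ pm) * (gp 1 ≫ pp)
    simp only [MonObj.comp_mul, ← Category.assoc, comp_gp, map_neg, map_one]
  have hconjT : ∀ (X : Over S) (t : X ⟶ T), (toUnit X ≫ w₀) * (t ≫ i) * (toUnit X ≫ w₀)⁻¹ =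
      (t ≫ α ≫ av ≫ i)⁻¹ * (t ≫ i) := fun X t => by
    rw [hw₀]
    refine ((sys hpp hpm h2 hF X).w_conj_torus 1 (-1) (by rw [_root_.mul_one]) t).trans ?_
    rw [sys_I hpp hpm h2 hF, sys_I hpp hpm h2 hF, sys_al hpp hpm h2 hF, sys_av hpp hpm h2 hF]
    simp only [Category.assoc]
  obtain ⟨t₀, ht₀⟩ : ∃ t₀ : 𝟙_ (Over S) ⟶ T, t₀ ≫ i = w * w₀ := by
    refine exists_torus_of_commute hG hT hpp hpm h2 hF hn (w * w₀) fun X y z => ?_
    rw [toUnit_unique y (toUnit X), MonObj.comp_mul]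
    set C := (z ≫ av) ^ n with hC
    have h0 : (toUnit X ≫ w₀) * (C ≫ i) * (toUnit X ≫ w₀)⁻¹ = (C ≫ i)⁻¹ := by
      have e : C ≫ α ≫ av = C * C := by
        let σ := sys hpp hpm h2 hF X
        have ez : z ≫ av = σ.av (GmPts.unitOfPt z) := (sys_av hpp hpm h2 hF z).symm
        have h3 : σ.av (σ.al C) = C * C := by
          rw [hC, ez, map_zpow, σ.al_av, map_zpow, map_mul, (Commute.refl _).mul_zpow]
        rw [sys_al hpp hpm h2 hF, sys_av hpp hpm h2 hF, Category.assoc] at h3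
        exact h3
      rw [hconjT, ← Category.assoc, ← Category.assoc, Category.assoc C α, e, MonObj.mul_comp]
      group
    have hw' := hw X z
    rw [← hC] at hw'
    have h4 : (toUnit X ≫ w) * (C ≫ i)⁻¹ * (toUnit X ≫ w)⁻¹ = C ≫ i := by
      have := congrArg (·⁻¹) hw'
      simpa [_root_.mul_assoc] using this
    calc (toUnit X ≫ w) * (toUnit X ≫ w₀) * (C ≫ i)
        = (toUnit X ≫ w) * ((toUnit X ≫ w₀) * (C ≫ i) * (toUnit X ≫ w₀)⁻¹) * (toUnit X ≫ w)⁻¹ *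
            ((toUnit X ≫ w) * (toUnit X ≫ w₀)) := by group
      _ = (C ≫ i) * ((toUnit X ≫ w) * (toUnit X ≫ w₀)) := by rw [h0, h4]
  have hwform : ∀ X : Over S, toUnit X ≫ w = ((toUnit X ≫ t₀) ≫ i) * (toUnit X ≫ w₀)⁻¹ := fun X => by
    rw [Category.assoc, ht₀, MonObj.comp_mul, mul_inv_cancel_right]
  refine ⟨fun X t => ?_, fun s ⟨t, ht⟩ => ?_⟩
  · let u := t * (t ≫ α ≫ av)⁻¹
    have hu : (toUnit X ≫ w₀)⁻¹ * (t ≫ i) * (toUnit X ≫ w₀) = u ≫ i := by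
      have h := hconjT X u
      have e : u ≫ α ≫ av = (t ≫ α ≫ av)⁻¹ := by
        let σ := sys hpp hpm h2 hF X
        have h3 : σ.av (σ.al (t * (σ.av (σ.al t))⁻¹)) = (σ.av (σ.al t))⁻¹ := by
          rw [map_mul, map_inv, σ.al_av, map_mul, map_inv, map_mul]
          group
        simp only [σ, sys_al hpp hpm h2 hF, sys_av hpp hpm h2 hF, Category.assoc] at h3
        exact h3
      have e' : u * (u ≫ α ≫ av)⁻¹ = t := by
        rw [e]
        show t * (t ≫ α ≫ av)⁻¹ * (t ≫ α ≫ av)⁻¹⁻¹ = t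
        group
      have h5 : (u ≫ α ≫ av ≫ i)⁻¹ * (u ≫ i) = t ≫ i := by
        conv_rhs => rw [← e', pts_comm_of_isTorus hT]
        simp only [MonObj.mul_comp, GrpObj.inv_comp, Category.assoc]
      rw [h5] at h
      rw [← h]
      group
    have hui : (t ≫ α ≫ av ≫ i)⁻¹ * (t ≫ i) = u ≫ i := by
      show _ = (t * (t ≫ α ≫ av)⁻¹) ≫ i
      rw [pts_comm_of_isTorus hT t]
      simp only [MonObj.mul_comp, GrpObj.inv_comp, Category.assoc]
    rw [hui, hwform]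
    calc ((toUnit X ≫ t₀) ≫ i) * (toUnit X ≫ w₀)⁻¹ * (t ≫ i) * (((toUnit X ≫ t₀) ≫ i) * (toUnit X ≫ w₀)⁻¹)⁻¹
        = ((toUnit X ≫ t₀) ≫ i) * ((toUnit X ≫ w₀)⁻¹ * (t ≫ i) * (toUnit X ≫ w₀)) * ((toUnit X ≫ t₀) ≫ i)⁻¹ := by group
      _ = u ≫ i := by
        rw [hu, ← GrpObj.inv_comp, ← MonObj.mul_comp, ← MonObj.mul_comp, pts_comm_of_isTorus hT _ u, mul_inv_cancel_right]
  · let P : Over S := Over.mk (Red.geomPt s)
    let K := AlgebraicClosure (S.residueField s)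
    let φ : K ≃+* Γ(P.left, ⊤) := (Scheme.ΓSpecIso (CommRingCat.of K)).commRingCatIsoToRingEquiv.symm
    obtain ⟨ζ, -, -, hne⟩ := exists_zpow_pick' φ hn (-1 : Γ(P.left, ⊤))
    haveI : Nontrivial Γ(P.left, ⊤) := φ.symm.toEquiv.nontrivial
    let σ := sys hpp hpm h2 hF P
    have h := hw P (GmPts.ptOfUnit ζ)
    rw [← ht] at h
    simp only [← GrpObj.inv_comp, ← MonObj.mul_comp] at h
    rw [pts_comm_of_isTorus hT t, mul_inv_cancel_right, cancel_mono i] at h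
    have e : σ.al (σ.av ζ ^ n) = (ζ ^ n * ζ ^ n : Γ(P.left, ⊤)ˣ) := by
      rw [map_zpow, σ.al_av, mul_zpow]
    have h' : σ.av ζ ^ n = (σ.av ζ ^ n)⁻¹ := h
    have h'' := congrArg σ.al h'
    rw [map_inv, e] at h''
    -- the fourth power of `ζ ^ n` is one
    set r : Γ(P.left, ⊤) := ((ζ ^ n * ζ ^ n : Γ(P.left, ⊤)ˣ)⁻¹).1
    have hr : r * r = 1 := by
      have := congrArg Units.val (congrArg (fun x => (ζ ^ n * ζ ^ n : Γ(P.left, ⊤)ˣ)⁻¹ * x) h'')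
      simp only [inv_mul_cancel, Units.val_one, Units.val_mul] at this
      exact this.symm
    exact hne (neg_ne_zero.2 one_ne_zero) (by linear_combination hr)

end Groth.Agent.S8487
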