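import Groth.Statements.S8488
import Groth.Agent.GaPoints.Basic
import Groth.Agent.GaGmHom

set_option autoImplicit false
universe u
open CategoryTheory MonoidalCategory CartesianMonoidalCategory MonObj GrpObj AlgebraicGeometry CategoryTheory.Limits
open Red

namespace Groth.Agent.S8488

open CategoryTheory CategoryTheory.Limits AlgebraicGeometry

open Groth.Agent
set_option backward.isDefEq.respectTransparency false

/-- The commutation rule for the opposite root: ⟨X, Y⟩ = ⟨Y, X⟩ and (-α)^* = -α^*: Let G be an S-group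
scheme, i : T ⟶ G a torus of G (a monomorphism of groups), α : T ⟶ 𝔾_m and α^* : 𝔾_m ⟶ T
homomorphisms with α ∘ α^* the squaring map, and p₊, p₋ : 𝔾_a ⟶ G homomorphisms normalised by T with
multipliers α and α⁻¹ which satisfy the rank-one commutation rule: whenever 1 + xy is invertible,
p₊(x) p₋(y) = p₋(y/(1+xy)) · i(α^*(1+xy)) · p₊(x/(1+xy)) (the situation of any reductive group of
semisimple rank 1 with trivialised root groups, where α^* is the coroot). Then for all points x, y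
of 𝔾_a with 1 + xy invertible, p₋(y) p₊(x) = p₊(x/(1+xy)) · i(α^*(1+xy))⁻¹ · p₋(y/(1+xy)). (The
published statement is for a reductive group of semisimple rank one with a maximal torus and a root;
this row assumes only the commutation rule, the normalisation of p₊, p₋ by T and α ∘ α^* the
squaring map, which is all the published proof uses.) -/
theorem result (S : Scheme.{u}) (G T : Over S) [GrpObj G] [GrpObj T] (i : T ⟶ G) [IsMonHom i] [Mono i] (hT : Red.IsTorus T)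
    (α : T ⟶ Red.Gm S) [IsMonHom α]
    (pp pm : Red.Ga S ⟶ G) [IsMonHom pp] [IsMonHom pm]
    (hpp : ∀ (X : Over S) (t : X ⟶ T) (x : X ⟶ Red.Ga S), ∃ x' : X ⟶ Red.Ga S,
      x' ≫ pp = (t ≫ i) * (x ≫ pp) * (t ≫ i)⁻¹ ∧ Red.gaFn x' = Red.gmFn (t ≫ α) * Red.gaFn x)
    (hpm : ∀ (X : Over S) (t : X ⟶ T) (y : X ⟶ Red.Ga S), ∃ y' : X ⟶ Red.Ga S,
      y' ≫ pm = (t ≫ i) * (y ≫ pm) * (t ≫ i)⁻¹ ∧ Red.gaFn y' * Red.gmFn (t ≫ α) = Red.gaFn y)
    (av : Red.Gm S ⟶ T) [IsMonHom av] (h2 : av ≫ α = (𝟙 (Red.Gm S)) ^ 2)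
    (hF : ∀ (X : Over S) (x y : X ⟶ Red.Ga S), IsUnit (1 + Red.gaFn x * Red.gaFn y) →
      ∃ (x' y' : X ⟶ Red.Ga S) (z : X ⟶ Red.Gm S), Red.gmFn z = 1 + Red.gaFn x * Red.gaFn y ∧
        Red.gaFn x' * Red.gmFn z = Red.gaFn x ∧ Red.gaFn y' * Red.gmFn z = Red.gaFn y ∧
        (x ≫ pp) * (y ≫ pm) = (y' ≫ pm) * (z ≫ av ≫ i) * (x' ≫ pp))
    (X : Over S) (x y x' y' : X ⟶ Red.Ga S) (z : X ⟶ Red.Gm S) (hz : Red.gmFn z = 1 + Red.gaFn x * Red.gaFn y)
    (hx' : Red.gaFn x' * Red.gmFn z = Red.gaFn x) (hy' : Red.gaFn y' * Red.gmFn z = Red.gaFn y) :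
    (y ≫ pm) * (x ≫ pp) = (x' ≫ pp) * (z ≫ av ≫ i)⁻¹ * (y' ≫ pm) := by
  have hu : IsUnit (1 + Red.gaFn x⁻¹ * Red.gaFn y⁻¹) := by
    have e : ∀ w : X ⟶ Red.Ga S, Red.gaFn w⁻¹ = -Red.gaFn w := fun w => by
      refine eq_neg_of_add_eq_zero_left ?_
      rw [← GaPoints.gaFn_mul, inv_mul_cancel, GaPoints.gaFn_one]
    rw [e, e, neg_mul_neg, ← hz]
    exact GaGmHom.isUnit_gmFn z
  have e : ∀ w : X ⟶ Red.Ga S, Red.gaFn w⁻¹ = -Red.gaFn w := fun w => by
    refine eq_neg_of_add_eq_zero_left ?_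
    rw [← GaPoints.gaFn_mul, inv_mul_cancel, GaPoints.gaFn_one]
  obtain ⟨x₁, y₁, z₁, hz₁, hx₁, hy₁, heq⟩ := hF X x⁻¹ y⁻¹ hu
  rw [e, e, neg_mul_neg, ← hz] at hz₁
  obtain rfl : z₁ = z := GaGmHom.gmFn_injective hz₁
  have hu' : IsUnit (Red.gmFn z₁) := GaGmHom.isUnit_gmFn z₁
  obtain rfl : x₁ = x'⁻¹ := GaPoints.gaFn_injective (hu'.mul_right_cancel (by rw [hx₁, e, e, neg_mul, hx']))
  obtain rfl : y₁ = y'⁻¹ := GaPoints.gaFn_injective (hu'.mul_right_cancel (by rw [hy₁, e, e, neg_mul, hy']))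
  rw [GrpObj.inv_comp, GrpObj.inv_comp, GrpObj.inv_comp, GrpObj.inv_comp] at heq
  have h := congrArg (fun g => g⁻¹) heq
  simp only [_root_.mul_inv_rev, _root_.inv_inv] at h
  rw [h]
  group


end Groth.Agent.S8488
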