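import Groth.Statements.S8489
import Groth.Agent.RankOneCellLib.RootHom
import Groth.Agent.RankOneCellLib.Torus

set_option autoImplicit false
universe u
open CategoryTheory MonoidalCategory CartesianMonoidalCategory MonObj GrpObj AlgebraicGeometry CategoryTheory.Limits
open Red

set_option backward.isDefEq.respectTransparency false
set_option backward.isDefEq.respectTransparency.types false
set_option linter.style.haveILetI false
open Groth.Agent.RankOneRelLib Groth.Agent.RankOneCellLib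

namespace Groth.Agent.S8489

/-- At the level of root homomorphisms. Let G be a reductive S-group, i : T ⟶ G a maximal torus, α a
character of T non-trivial on every geometric fibre, and p₊, p₋ : 𝔾_a ⟶ G monomorphisms of groups
normalised by T with multipliers α and α⁻¹ such that 𝔾_a ×_S T ×_S 𝔾_a ⟶ G, (y, t, x) ↦ p₋(y) i(t)
p₊(x), is an open immersion (a rank-one system: G has semisimple rank 1 and p₊, p₋ trivialise the
root groups of α and -α). Then every monomorphism of groups p : 𝔾_a ⟶ G normalised by T with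
multiplier α is a rescaling of p₊ by a unit: there is exactly one S-point c of 𝔾_m with p(x) = p₊(c
x) for all points x of 𝔾_a. (The published statement is a bijection between the nowhere-vanishing
sections of the root line bundle and such monomorphisms; this row states it after fixing p₊.) -/
theorem result (S : Scheme.{u}) (G T : Over S) [GrpObj G] [GrpObj T] (i : T ⟶ G) [IsMonHom i] [Mono i] (hG : Red.IsReductive G) (hTm : Red.IsMaximalTorus i)
    (α : T ⟶ Red.Gm S) [IsMonHom α] (hα : ∀ s : S, (Over.pullback (Red.geomPt s)).map α ≠ 1)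
    (pp pm : Red.Ga S ⟶ G) [IsMonHom pp] [Mono pp] [IsMonHom pm] [Mono pm]
    (hpp : ∀ (X : Over S) (t : X ⟶ T) (x : X ⟶ Red.Ga S), ∃ x' : X ⟶ Red.Ga S,
      x' ≫ pp = (t ≫ i) * (x ≫ pp) * (t ≫ i)⁻¹ ∧ Red.gaFn x' = Red.gmFn (t ≫ α) * Red.gaFn x)
    (hpm : ∀ (X : Over S) (t : X ⟶ T) (y : X ⟶ Red.Ga S), ∃ y' : X ⟶ Red.Ga S,
      y' ≫ pm = (t ≫ i) * (y ≫ pm) * (t ≫ i)⁻¹ ∧ Red.gaFn y' * Red.gmFn (t ≫ α) = Red.gaFn y)
    (hΩ : IsOpenImmersion (((pm ⊗ₘ i) ⊗ₘ pp) ≫ (μ[G] ▷ G) ≫ μ[G]).left)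
    (p : Red.Ga S ⟶ G) [IsMonHom p] [Mono p]
    (hp : ∀ (X : Over S) (t : X ⟶ T) (x : X ⟶ Red.Ga S), ∃ x' : X ⟶ Red.Ga S,
      x' ≫ p = (t ≫ i) * (x ≫ p) * (t ≫ i)⁻¹ ∧ Red.gaFn x' = Red.gmFn (t ≫ α) * Red.gaFn x) :
    ∃! c : 𝟙_ (Over S) ⟶ Red.Gm S, ∀ (X : Over S) (x y : X ⟶ Red.Ga S),
      Red.gaFn y = Red.gmFn (toUnit X ≫ c) * Red.gaFn x → x ≫ p = y ≫ pp := by
  haveI : IsOpenImmersion (cellMap i pp pm).left := hΩ
  have hT := hTm.2.2.1
  obtain ⟨hfl, hsu⟩ := flatSurj_of_geomFibre_ne_one hT (𝟙 T ≫ α) (by simpa using hα)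
  obtain ⟨ν, hν, huniq⟩ := existsUnique_root (j := 𝟙 T) hT hpp hpm hfl hsu 1 p fun X t x x' hx => by
    obtain ⟨x'', h1, h2⟩ := hp X t x
    rw [show x' = x'' from GaPoints.gaFn_injective (by rw [hx, h2, Category.id_comp]), pow_one, Category.id_comp,
      h1]
  have hu : IsUnit (Red.gaFn ν) := isUnit_of_forall_mem_basicOpen _ fun s => by
    by_contra hs
    obtain ⟨K, _, _, P, φ, y, z, hz⟩ := exists_geomPt (𝟙_ (Over S)) s
    have hy : y.left.appTop (Red.gaFn ν) = 0 := by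
      rcases eq_or_ne (φ.symm (y.left.appTop (Red.gaFn ν))) 0 with h | h
      · rw [← φ.apply_symm_apply (y.left.appTop (Red.gaFn ν)), h, map_zero]
      · refine absurd ?_ hs
        have hu : IsUnit (y.left.appTop (Red.gaFn ν)) := by
          rw [← φ.apply_symm_apply (y.left.appTop (Red.gaFn ν))]
          exact (isUnit_iff_ne_zero.2 h).map φ
        have hm : z ∈ y.left ⁻¹ᵁ (𝟙_ (Over S)).left.basicOpen (Red.gaFn ν) := by
          rw [Scheme.preimage_basicOpen_top, Scheme.basicOpen_of_isUnit _ hu]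
          trivial
        rw [← hz]
        exact hm
    have h1 := hν P (gp 1) (gp 0) (by
      rw [gaFn_gp, gaFn_gp, one_pow, _root_.mul_one, toUnit_unique (toUnit P) y, GaPoints.gaFn_comp, hy])
    have h0 : (gp (0 : Γ(P.left, ⊤)) : P ⟶ Red.Ga S) = 1 :=
      GaPoints.gaFn_injective (by rw [gaFn_gp, GaPoints.gaFn_one])
    rw [h0, MonObj.one_comp, ← MonObj.one_comp p, cancel_mono] at h1
    have h2 := congrArg Red.gaFn h1
    rw [gaFn_gp, GaPoints.gaFn_one] at h2
    exact one_ne_zero (α := K) (φ.injective (by rw [map_one, map_zero, h2]))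
  refine ⟨GmPts.ptOfUnit hu.unit, fun X x y hy => ?_, fun c hc => ?_⟩
  · refine hν X x y ?_
    rw [hy, pow_one, GmPts.gmFn_comp, GmPts.gmFn_ptOfUnit, IsUnit.unit_spec, GaPoints.gaFn_comp]
  · have h : gp (Red.gmFn c) = ν := huniq _ fun X x y hy => hc X x y (by
      rw [hy, pow_one, GaPoints.gaFn_comp, gaFn_gp, GmPts.gmFn_comp])
    apply GmPts.gmFn_injective
    show Red.gmFn _ = Red.gmFn _
    rw [GmPts.gmFn_ptOfUnit, IsUnit.unit_spec, ← h, gaFn_gp]

end Groth.Agent.S8489
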