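import Groth.Statements.S8496
import Groth.Agent.FlatLocus.SmoothFibres
-- import your own Groth.Agent.* helpers here

set_option autoImplicit false
open CategoryTheory MonoidalCategory CartesianMonoidalCategory MonObj GrpObj AlgebraicGeometry
universe u
open Par

namespace Groth.Agent.S8496

/-- Transversal position of a pair of parabolic subgroups is read here as smoothness of the
multiplication morphism P ×_S Q ⟶ G (one of its equivalent characterisations). Let G be a reductive
S-group and P, Q parabolic subgroups. Then (P, Q) is in transversal position if and only if (P_s,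
Q_s) is for every point s of S; and if (P_{S'}, Q_{S'}) is in transversal position for some
surjective S' ⟶ S then so is (P, Q). -/
theorem result {S : Scheme.{u}} {G P Q : Over S} [GrpObj G] [GrpObj P]
    [GrpObj Q] (hG : Red.IsReductive G) (p : P ⟶ G) (q : Q ⟶ G) (hP : Red.IsParabolic p) (hQ : Red.IsParabolic q) :
    (Smooth ((p ⊗ₘ q) ≫ μ[G]).left ↔
      ∀ s : S, Smooth ((Over.pullback (S.fromSpecResidueField s)).map ((p ⊗ₘ q) ≫ μ[G])).left) ∧
    ∀ (S' : Scheme.{u}) (g : S' ⟶ S), Surjective g →
      Smooth ((Over.pullback g).map ((p ⊗ₘ q) ≫ μ[G])).left → Smooth ((p ⊗ₘ q) ≫ μ[G]).left := by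
  haveI hPs : Smooth P.hom := hP.2.2.1
  haveI hQs : Smooth Q.hom := hQ.2.2.1
  haveI hGs : Smooth G.hom := hG.2.1
  let F := (p ⊗ₘ q) ≫ μ[G]
  haveI hPQ : Smooth (P ⊗ Q).hom := by
    show Smooth (Limits.pullback.fst P.hom Q.hom ≫ P.hom)
    infer_instance
  have hw : F.left ≫ G.hom = (P ⊗ Q).hom := Over.w F
  haveI : LocallyOfFinitePresentation (F.left ≫ G.hom) := by rw [hw]; infer_instance
  haveI : Flat (F.left ≫ G.hom) := by rw [hw]; infer_instance
  have hsq : ∀ {T : Scheme.{u}} (t : T ⟶ S),
      IsPullback (Limits.pullback.fst (P ⊗ Q).hom t) ((Over.pullback t).map F).left F.left (Limits.pullback.fst G.hom t) :=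
    fun {T} t => by
      refine IsPullback.flip (IsPullback.of_right ?_ (Limits.pullback.lift_fst _ _ _)
        (IsPullback.of_hasPullback G.hom t).flip)
      rw [show ((Over.pullback t).map F).left ≫ Limits.pullback.snd G.hom t = Limits.pullback.snd (P ⊗ Q).hom t from
        Limits.pullback.lift_snd _ _ _, hw]
      exact (IsPullback.of_hasPullback (P ⊗ Q).hom t).flip
  have hfib : ∀ {T : Scheme.{u}} (t : T ⟶ S),
      Smooth ((Over.pullback t).map F).left ↔ Smooth (Limits.pullback.snd F.left (Limits.pullback.fst G.hom t)) := fun {T} t => by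
    rw [← (hsq t).flip.flip.isoPullback_hom_snd]
    exact MorphismProperty.cancel_left_of_respectsIso @Smooth _ _
  have hpt : Smooth F.left ↔ ∀ s : S, Smooth ((Over.pullback (S.fromSpecResidueField s)).map F).left := by
    constructor
    · intro h s
      exact (hfib _).2 (MorphismProperty.pullback_snd _ _ h)
    · intro h
      exact FlatLocus.smooth_of_fibres F.left G.hom fun s => (hfib _).1 (h s)
  refine ⟨hpt, fun S' g hg h => ?_⟩
  refine hpt.2 fun s => ?_
  obtain ⟨s', rfl⟩ := hg.surj s
  have key : ∀ {T' T : Scheme.{u}} (t : T ⟶ S) (v : T' ⟶ T) (w : T' ⟶ S) (e : v ≫ t = w),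
      ∃ (m : Limits.pullback G.hom w ⟶ Limits.pullback G.hom t) (a : Limits.pullback (P ⊗ Q).hom w ⟶ Limits.pullback (P ⊗ Q).hom t),
        IsPullback m (Limits.pullback.snd G.hom w) (Limits.pullback.snd G.hom t) v ∧
        IsPullback a ((Over.pullback w).map F).left ((Over.pullback t).map F).left m := by
    intro T' T t v w e
    subst e
    let m : Limits.pullback G.hom (v ≫ t) ⟶ Limits.pullback G.hom t :=
      Limits.pullback.lift (Limits.pullback.fst _ _) (Limits.pullback.snd _ _ ≫ v) (by rw [Category.assoc, Limits.pullback.condition])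
    let a : Limits.pullback (P ⊗ Q).hom (v ≫ t) ⟶ Limits.pullback (P ⊗ Q).hom t :=
      Limits.pullback.lift (Limits.pullback.fst _ _) (Limits.pullback.snd _ _ ≫ v) (by rw [Category.assoc, Limits.pullback.condition])
    refine ⟨m, a, IsPullback.of_right ?_ (Limits.pullback.lift_snd _ _ _) (IsPullback.of_hasPullback G.hom t), ?_⟩
    · rw [show m ≫ Limits.pullback.fst G.hom t = Limits.pullback.fst G.hom (v ≫ t) from Limits.pullback.lift_fst _ _ _]
      exact IsPullback.of_hasPullback G.hom (v ≫ t)
    · refine IsPullback.of_right ?_ ?_ (hsq t)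
      · rw [show a ≫ Limits.pullback.fst (P ⊗ Q).hom t = Limits.pullback.fst (P ⊗ Q).hom (v ≫ t) from Limits.pullback.lift_fst _ _ _,
          show m ≫ Limits.pullback.fst G.hom t = Limits.pullback.fst G.hom (v ≫ t) from Limits.pullback.lift_fst _ _ _]
        exact hsq (v ≫ t)
      · have hs' : ∀ {T₀ : Scheme.{u}} (t₀ : T₀ ⟶ S), ((Over.pullback t₀).map F).left ≫ Limits.pullback.snd G.hom t₀ =
            Limits.pullback.snd (P ⊗ Q).hom t₀ := fun t₀ => Limits.pullback.lift_snd _ _ _
        apply Limits.pullback.hom_ext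
        · rw [Category.assoc, Category.assoc, ← (hsq t).w,
            show m ≫ Limits.pullback.fst G.hom t = Limits.pullback.fst G.hom (v ≫ t) from Limits.pullback.lift_fst _ _ _,
            ← (hsq (v ≫ t)).w,
            reassoc_of% (show a ≫ Limits.pullback.fst (P ⊗ Q).hom t = Limits.pullback.fst (P ⊗ Q).hom (v ≫ t) from
              Limits.pullback.lift_fst _ _ _)]
        · rw [Category.assoc, Category.assoc, hs',
            show a ≫ Limits.pullback.snd (P ⊗ Q).hom t = Limits.pullback.snd (P ⊗ Q).hom (v ≫ t) ≫ v from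
              Limits.pullback.lift_snd _ _ _,
            show m ≫ Limits.pullback.snd G.hom t = Limits.pullback.snd G.hom (v ≫ t) ≫ v from
              Limits.pullback.lift_snd _ _ _, reassoc_of% (hs' (v ≫ t))]
  obtain ⟨m₁, a₁, -, h₁⟩ := key g (S'.fromSpecResidueField s') _ rfl
  have h2 : Smooth ((Over.pullback (S'.fromSpecResidueField s' ≫ g)).map F).left :=
    MorphismProperty.of_isPullback h₁ h
  obtain ⟨m₂, a₂, hm₂, h₂⟩ := key (S.fromSpecResidueField (g s')) (Spec.map (g.residueFieldMap s'))
    (S'.fromSpecResidueField s' ≫ g) (Scheme.Hom.SpecMap_residueFieldMap_fromSpecResidueField g s')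
  have hv : (@Surjective ⊓ @Flat ⊓ @QuasiCompact : MorphismProperty Scheme.{u}) (Spec.map (g.residueFieldMap s')) :=
    ⟨⟨inferInstance, inferInstance⟩, inferInstance⟩
  have hm : (@Surjective ⊓ @Flat ⊓ @QuasiCompact : MorphismProperty Scheme.{u}) m₂ :=
    ⟨⟨MorphismProperty.of_isPullback hm₂.flip hv.1.1, MorphismProperty.of_isPullback hm₂.flip hv.1.2⟩,
      MorphismProperty.of_isPullback hm₂.flip hv.2⟩
  exact MorphismProperty.DescendsAlong.of_isPullback h₂.flip hm h2

end Groth.Agent.S8496
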