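import Groth.Statements.S8509
import Groth.Agent.ASp.TorsorProp
import Groth.Agent.SmoothSliceLib.SepPoint
import Groth.Agent.EtAlgEasy.EssEtBasic
import Groth.Agent.ConnEt.Component
import Groth.Agent.S5038
-- import your own Groth.Agent.* helpers here

set_option autoImplicit false
set_option backward.isDefEq.respectTransparency false
set_option backward.isDefEq.respectTransparency.types false
open CategoryTheory MonoidalCategory CartesianMonoidalCategory MonObj GrpObj AlgebraicGeometry
universe u
open RedSub

namespace Groth.Agent.S8509

/-- Let A be a henselian local ring, S = Spec A, and G an S-group scheme which is smooth and affine over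
S. Then every torsor P under G (a representable principal homogeneous bundle) is isotrivial: there
is a finite etale surjective morphism S' ⟶ S such that P_{S'} has a section. (The published
statement asks only that every finite set of points of G lie in an affine open; this row takes G
affine over S.) -/
theorem result (A : Type u) [CommRing A] [HenselianLocalRing A]
    {G P : Over (Spec (CommRingCat.of A))} [GrpObj G] [Smooth G.hom] [IsAffineHom G.hom] (a : AlgGrp.Action G P)
    (ha : RedSub.IsTorsor a) :
    ∃ (S' : Scheme.{u}) (f : S' ⟶ Spec (CommRingCat.of A)), IsFinite f ∧ Etale f ∧ Surjective f ∧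
      RedSub.HasSection (Red.bc f P) := by
  obtain ⟨hsurj, hflat, hlfp, hiso⟩ := ha
  haveI : Surjective P.hom := hsurj
  haveI : Flat P.hom := hflat
  haveI : LocallyOfFinitePresentation P.hom := hlfp
  -- `P` is smooth
  haveI hPs : Smooth P.hom := by
    haveI : MorphismProperty.ContainsIdentities @Smooth := ⟨fun X => inferInstanceAs (Smooth (𝟙 X))⟩
    refine ASp.of_selfBaseChange @Smooth P.hom
      (fun H => Smooth.of_smooth_fiberToSpecResidueField _ H) ?_
    haveI : IsIso (lift a.act (snd G P)).left :=
      inferInstanceAs (IsIso ((Over.forget _).map (lift a.act (snd G P))))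
    have e1 : (lift a.act (snd G P)).left ≫ Limits.pullback.snd P.hom P.hom =
        Limits.pullback.snd G.hom P.hom := by
      have e₁ : (snd P P).left = Limits.pullback.snd P.hom P.hom := Over.snd_left
      have e₂ : (snd G P).left = Limits.pullback.snd G.hom P.hom := Over.snd_left
      rw [← e₁, ← e₂]
      exact congrArg CommaMorphism.left (lift_snd a.act (snd G P))
    haveI : Smooth (Limits.pullback.snd G.hom P.hom) := MorphismProperty.pullback_snd _ _ inferInstance
    exact (MorphismProperty.cancel_left_of_respectsIso @Smooth (lift a.act (snd G P)).left _).1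
      (e1 ▸ ‹Smooth (Limits.pullback.snd G.hom P.hom)›)
  -- a separable point of the closed fibre
  let k := IsLocalRing.ResidueField A
  let r := Spec.map (CommRingCat.ofHom (IsLocalRing.residue A))
  let X₀ := Limits.pullback P.hom r
  haveI : Smooth (Limits.pullback.snd P.hom r) := MorphismProperty.pullback_snd _ _ inferInstance
  haveI : Surjective (Limits.pullback.snd P.hom r) := MorphismProperty.pullback_snd _ _ inferInstance
  obtain ⟨x, -⟩ := (Limits.pullback.snd P.hom r).surjective (IsLocalRing.closedPoint k)
  obtain ⟨L, _, _, σ, hfin, hsep, hσ, -⟩ :=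
    SmoothSliceLib.exists_spec_point_field k (Limits.pullback.snd P.hom r) ⊤ x trivial
  -- lift the residue extension
  obtain ⟨E, _, _, _, hloc, hEfin, hEet, ⟨e⟩⟩ := EtAlgEasy.exists_finite_etale_local A L
  haveI := hEfin
  haveI := hEet
  haveI := hloc
  haveI : HenselianLocalRing E := ConnEt.henselianLocalRing_of_finite A E
  let φ := Spec.map (CommRingCat.ofHom (algebraMap A E))
  haveI : IsFinite φ := (IsFinite.SpecMap_iff _).2 (RingHom.finite_algebraMap.2 inferInstance)
  haveI : Etale φ := (HasRingHomProperty.Spec_iff (P := @Etale)).2 (RingHom.etale_algebraMap.2 inferInstance)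
  refine ⟨_, φ, inferInstance, inferInstance, ⟨fun p => ?_⟩, ?_⟩
  · -- surjective
    have hopen : IsOpen (Set.range φ) := φ.isOpenMap.isOpen_range
    have hcl : IsLocalRing.closedPoint A ∈ Set.range φ :=
      ⟨IsLocalRing.closedPoint E, IsLocalRing.comap_closedPoint (algebraMap A E)⟩
    exact (IsLocalRing.specializes_closedPoint p).mem_open hopen hcl
  · -- a section
    let Y := Limits.pullback P.hom φ
    haveI : Smooth (Limits.pullback.snd P.hom φ) := MorphismProperty.pullback_snd _ _ inferInstance
    have hfac : Spec.map (CommRingCat.ofHom e.symm.toRingHom) ≫ σ ≫ Limits.pullback.fst P.hom r ≫ P.hom = 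
        Spec.map (CommRingCat.ofHom (IsLocalRing.residue E)) ≫ φ := by
      rw [Limits.pullback.condition, ← Category.assoc σ, hσ, ← Category.assoc]
      simp only [r, φ, ← Spec.map_comp]
      congr 1
      ext a
      show e.symm (algebraMap k L (IsLocalRing.residue A a)) = _
      rw [AlgEquiv.commutes]
      rfl
    obtain ⟨u, hu, -⟩ := Groth.Agent.S5038.result E (Limits.pullback.snd P.hom φ)
      (Limits.pullback.lift (Spec.map (CommRingCat.ofHom e.symm.toRingHom) ≫ σ ≫ Limits.pullback.fst P.hom r)
        (Spec.map (CommRingCat.ofHom (IsLocalRing.residue E))) (by simpa only [Category.assoc] using hfac))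
      (Limits.pullback.lift_snd _ _ _)
    exact ⟨Over.homMk u hu⟩

end Groth.Agent.S8509
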