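import Groth.Statements.S8513
import Mathlib
-- import your own Groth.Agent.* helpers here

set_option autoImplicit false
open CategoryTheory MonoidalCategory CartesianMonoidalCategory MonObj GrpObj AlgebraicGeometry
universe u
open Par

namespace Groth.Agent.S8513

/-- Let G be a reductive S-group and P, Q two parabolic subgroups of G in transversal position (the
multiplication morphism P ×_S Q ⟶ G is smooth). Then P ∩ Q (a fibre product of P and Q over G) is
smooth over S. -/
theorem result {S : Scheme.{u}} {G P Q I : Over S} [GrpObj G] [GrpObj P] [GrpObj Q]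
    (hG : Red.IsReductive G) (p : P ⟶ G) (q : Q ⟶ G) (hP : Red.IsParabolic p) (hQ : Red.IsParabolic q)
    (htr : Smooth ((p ⊗ₘ q) ≫ μ[G]).left) (m : I ⟶ P) (m' : I ⟶ Q) (hI : IsPullback m m' p q) :
    Smooth I.hom := by
  haveI : IsMonHom p := hP.1
  haveI : IsMonHom q := hQ.1
  have hF : ∀ {T : Over S} (s : T ⟶ P ⊗ Q), s ≫ (p ⊗ₘ q) ≫ μ[G] =
      ((s ≫ fst P Q) ≫ p) * ((s ≫ snd P Q) ≫ q) := by
    intro T s
    rw [Hom.mul_def, ← Category.assoc]
    congr 1
    ext1 <;> simp
  have hw : CommSq (lift m (m'⁻¹)) (toUnit I) ((p ⊗ₘ q) ≫ μ[G]) η[G] := ⟨by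
    rw [hF, lift_fst, lift_snd, GrpObj.inv_comp, ← hI.w, mul_inv_cancel]
    exact Hom.one_def⟩
  have hpb : IsPullback (lift m (m'⁻¹)) (toUnit I) ((p ⊗ₘ q) ≫ μ[G]) η[G] := by
    refine ⟨hw, ⟨Limits.PullbackCone.IsLimit.mk hw.w
      (fun c => hI.lift (c.fst ≫ fst P Q) (c.fst ≫ snd P Q)⁻¹ ?_) (fun c => ?_) (fun c => ?_)
      (fun c l h1 _ => ?_)⟩⟩
    · have h := c.condition
      rw [hF, show c.snd = toUnit c.pt from toUnit_unique _ _, ← Hom.one_def] at h
      rw [GrpObj.inv_comp]
      exact eq_inv_of_mul_eq_one_left h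
    · ext1
      · simp
      · rw [Category.assoc, lift_snd, GrpObj.comp_inv, hI.lift_snd, _root_.inv_inv]
    · exact toUnit_unique _ _
    · apply hI.hom_ext
      · rw [hI.lift_fst, ← h1, Category.assoc, lift_fst]
      · rw [hI.lift_snd, ← h1, Category.assoc, lift_snd, GrpObj.comp_inv, _root_.inv_inv]
  have h : Smooth (toUnit I).left :=
    MorphismProperty.of_isPullback (hpb.map (Over.forget S)) htr
  have e : (toUnit I).left = I.hom := by simpa using Over.w (toUnit I)
  rwa [e] at h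

end Groth.Agent.S8513
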