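import Groth.Statements.S8517
import Groth.Agent.RootWordLib.ClosedPos
open Groth.Agent.RootWordLib
-- import your own Groth.Agent.* helpers here

set_option autoImplicit false
open CategoryTheory MonoidalCategory CartesianMonoidalCategory MonObj GrpObj AlgebraicGeometry
universe u
open RedSub

namespace Groth.Agent.S8517

/-- Let R be the set of roots of a root pairing over ℤ with finitely many roots, and R₁, R₂ two closed
subsets of R (if a, b ∈ Rᵢ and root a + root b is a root c then c ∈ Rᵢ), each containing a system of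
positive roots (the positive roots of some base). If R₁ ∪ R₂ = R, then R₁ ∩ (−R₂) (the roots of R₁
whose negative is a root in R₂) contains a system of positive roots. -/
theorem result {idx M N : Type} [Finite idx] [AddCommGroup M] [AddCommGroup N] (P : RootPairing idx ℤ M N) (R₁ R₂ : Set idx)
    (h₁ : ∀ a b c : idx, a ∈ R₁ → b ∈ R₁ → P.root a + P.root b = P.root c → c ∈ R₁)
    (h₂ : ∀ a b c : idx, a ∈ R₂ → b ∈ R₂ → P.root a + P.root b = P.root c → c ∈ R₂)
    (hb₁ : ∃ b : P.Base, RedSub.posRoots P b ⊆ R₁) (hb₂ : ∃ b : P.Base, RedSub.posRoots P b ⊆ R₂)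
    (hunion : R₁ ∪ R₂ = Set.univ) :
    ∃ b : P.Base, RedSub.posRoots P b ⊆ {a | a ∈ R₁ ∧ ∃ c ∈ R₂, P.root a = -P.root c} := by
  classical
  obtain ⟨b₁, hb₁⟩ := hb₁
  obtain ⟨b₂, hb₂⟩ := hb₂
  refine exists_base_posRoots_subset P b₁ _ ?_ ?_
  · rintro x y z ⟨hx, cx, hcx, hxe⟩ ⟨hy, cy, hcy, hye⟩ he
    refine ⟨h₁ x y z hx hy he, P.reflectionPerm z z, ?_, ?_⟩
    · refine h₂ cx cy _ hcx hcy ?_
      rw [P.root_reflectionPerm, P.reflection_apply_self, ← he, hxe, hye]
      abel
    · rw [P.root_reflectionPerm, P.reflection_apply_self, neg_neg]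
  · intro x
    letI := P.indexNeg
    have hpm : ∀ (b : P.Base), x ∈ RedSub.posRoots P b ∨ -x ∈ RedSub.posRoots P b := fun b => by
      simpa only [mem_posRoots] using RootPairing.Base.IsPos.or_neg b x
    have hne : P.root x = -P.root (-x) := by rw [RootPairing.indexNeg_neg, P.root_reflectionPerm, P.reflection_apply_self, neg_neg]
    have hu : ∀ y, y ∈ R₁ ∨ y ∈ R₂ := fun y => by
      rw [← Set.mem_union, hunion]; trivial
    show (x ∈ R₁ ∧ ∃ c ∈ R₂, P.root x = -P.root c) ∨ (-x ∈ R₁ ∧ ∃ c ∈ R₂, P.root (-x) = -P.root c)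
    have hne' : P.root (-x) = -P.root x := by rw [hne, neg_neg]
    rcases hpm b₁ with h | h <;> rcases hpm b₂ with h' | h'
    · rcases hu (-x) with h'' | h''
      · exact Or.inr ⟨h'', x, hb₂ h', hne'⟩
      · exact Or.inl ⟨hb₁ h, -x, h'', hne⟩
    · exact Or.inl ⟨hb₁ h, -x, hb₂ h', hne⟩
    · exact Or.inr ⟨hb₁ h, x, hb₂ h', hne'⟩
    · rcases hu x with h'' | h''
      · exact Or.inl ⟨h'', -x, hb₂ h', hne⟩
      · exact Or.inr ⟨hb₁ h, x, h'', hne'⟩

end Groth.Agent.S8517
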