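import Groth.Statements.S8522
import Groth.Agent.LieRedLib.Converse
import Groth.Agent.S7946

set_option autoImplicit false
set_option backward.isDefEq.respectTransparency false
set_option backward.isDefEq.respectTransparency.types false
open CategoryTheory MonoidalCategory CartesianMonoidalCategory MonObj GrpObj AlgebraicGeometry
universe u
open Hoch

namespace Groth.Agent.S8522

/-- Let k be a field of characteristic 0, G = Spec A a reductive k-group (A a commutative Hopf algebra
over k) and V a finite-dimensional linear representation of G (a finite-dimensional A-comodule).
Then H^n(G, V) = 0 for every n ≥ 1, the cohomology being that of the comodule cochain complex V ⊗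
A^{⊗n}. (The first assertion, H^0(G, V) = H^0(Lie G, V), is not stated.) -/
theorem result (k : Type u) [Field k] [CharZero k] (A : Type u) [CommRing A]
    [HopfAlgebra k A] (hG : Red.IsReductive ((Spec (CommRingCat.of A)).asOver (Spec (CommRingCat.of k))))
    (V : Type u) [AddCommGroup V] [Module k V] [Module.Finite k V] [HopfRep.Comod k A V] (n : ℕ) (hn : 1 ≤ n) :
    Subsingleton (Hoch.H k A V n) := by
  haveI : Algebra.FiniteType k A := by
    haveI := hG.2.1
    have h : AlgebraicGeometry.LocallyOfFiniteType
        ((Spec (CommRingCat.of A)).asOver (Spec (CommRingCat.of k))).hom := inferInstance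
    exact RingHom.finiteType_algebraMap.mp
      ((HasRingHomProperty.Spec_iff (P := @LocallyOfFiniteType)).mp h)
  have h := Groth.Agent.S7946.result k A (Groth.Agent.LieRed.isLinearlyReductive_of_isReductive hG) V n hn
  have ht : (Hoch.coboundaries k A V n).comap (Hoch.cocycles k A V n).subtype = ⊤ :=
    eq_top_iff.mpr fun x _ => h x.2
  exact Submodule.Quotient.subsingleton_iff.mpr ht

end Groth.Agent.S8522
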