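import Groth.Statements.S8524
import Mathlib
-- import your own Groth.Agent.* helpers here

set_option autoImplicit false
set_option backward.isDefEq.respectTransparency false
universe u
open CategoryTheory CategoryTheory.Limits AlgebraicGeometry Opposite
open EtAcyc

namespace Groth.Agent.S8524

/-- For the small etale site of a scheme and abelian sheaves: let L be a set of primes, F an abelian
L-torsion sheaf on the small etale site of a scheme X, and U an etale X-scheme with quasi-compact
underlying space. Then every section of F over U is killed by some positive integer all of whose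
prime factors lie in L. -/
theorem result {X : Scheme.{u}} (L : Set ℕ) (F : EtCoh.Ab X)
    (hF : EtAcyc.IsLTorsion L F) (U : X.Etale) [CompactSpace U.left] (s : EtCoh.sect F U) :
    ∃ m : ℕ, EtAcyc.PrimesIn L m ∧ m • s = 0 := by
  classical
  choose V g m hv hm h0 using fun x => hF U s x
  have hop : ∀ x, IsOpen (Set.range (g x).left.base) := fun x => by
    haveI : Etale (g x).left := Etale.of_comp (g x).left U.hom (X := (V x).left) (Y := U.left) (Z := X)
    exact (g x).left.isOpenMap.isOpen_range
  obtain ⟨t, ht⟩ := isCompact_univ.elim_finite_subcover (fun x => Set.range (g x).left.base) hop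
    (fun x _ => Set.mem_iUnion.mpr ⟨x, hv x⟩)
  refine ⟨∏ x ∈ t, m x, ⟨Finset.prod_pos fun x _ => (hm x).1, fun p hp hdvd => ?_⟩, ?_⟩
  · obtain ⟨x, -, hx⟩ := (Prime.dvd_finsetProd_iff hp.prime m).mp hdvd
    exact (hm x).2 p hp hx
  · have hcov : Sieve.ofArrows _ (fun x : t => g x.1) ∈ Scheme.smallEtaleTopology X _ := by
      rw [Scheme.ofArrows_mem_smallEtaleTopology_iff]
      refine Set.eq_univ_of_univ_subset (ht.trans ?_)
      intro y hy
      obtain ⟨x, hxt, hy⟩ := Set.mem_iUnion₂.mp hy
      exact Set.mem_iUnion.mpr ⟨⟨x, hxt⟩, hy⟩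
    refine (((Presheaf.isSheaf_iff_isSheaf_forget _ F.obj (forget AddCommGrpCat)).mp F.property)
      |> (isSheaf_iff_isSheaf_of_type _ _).mp) _ hcov |>.isSeparatedFor.ext ?_
    rintro W f hf
    rw [Sieve.mem_ofArrows_iff] at hf
    obtain ⟨x, h, rfl⟩ := hf
    show F.obj.map (h ≫ g x.1).op ((∏ x ∈ t, m x) • s) = F.obj.map (h ≫ g x.1).op 0
    obtain ⟨c, hc⟩ := Finset.dvd_prod_of_mem m x.2
    rw [map_zero, map_nsmul, hc, mul_comm, mul_smul, op_comp, F.obj.map_comp]
    show c • m x.1 • (F.obj.map h.op) (F.obj.map (g x.1).op s) = 0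
    rw [← map_nsmul, h0, map_zero, smul_zero]

end Groth.Agent.S8524
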