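import Groth.Statements.S8535
import Groth.Agent.S6773
import Mathlib
open CategoryTheory CategoryTheory.Limits DeltaF.CohDeltaFunctor
open Groth.Agent.S6773 (ses ses_exact epi_delta)
-- import your own Groth.Agent.* helpers here

set_option autoImplicit false
universe v v' u u'
open CategoryTheory CategoryTheory.Limits
open DeltaF

namespace Groth.Agent.S8535

/-- Let A and B be abelian categories, T and T' cohomological delta-functors from A to B in degrees ≥ 0
whose degree-0 components are left exact (they vanish in negative degrees), such that T^i is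
effaceable for every i > 0, and let φ : T → T' be a morphism of delta-functors and n a natural
number. Then the following are equivalent: (a) φ^i is an isomorphism for i ≤ n and a monomorphism
for i = n + 1; (b) φ^0 is a monomorphism and φ^i is an epimorphism for every i ≤ n; (c) φ^0 is an
isomorphism and, for 0 < i ≤ n, T'^i is effaceable (every object X admits a monomorphism X → Y
killed by T'^i). -/
theorem result {A : Type u} [Category.{v} A] [Abelian A]
    {B : Type u'} [Category.{v'} B] [Abelian B] (T T' : DeltaF.CohDeltaFunctor A B ℕ)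
    (h0 : T.ZeroMono) (h0' : T'.ZeroMono) (hT : T.IsEffaceable) (φ : T ⟶ T') (n : ℕ) :
    ((∀ i : ℕ, i ≤ n → IsIso (φ.app i)) ∧ Mono (φ.app (n + 1)) ↔
      (Mono (φ.app 0) ∧ ∀ i : ℕ, i ≤ n → Epi (φ.app i))) ∧
    ((∀ i : ℕ, i ≤ n → IsIso (φ.app i)) ∧ Mono (φ.app (n + 1)) ↔
      (IsIso (φ.app 0) ∧ ∀ i : ℕ, 0 < i → i ≤ n → ∀ X : A, ∃ (Y : A) (u : X ⟶ Y), Mono u ∧ (T'.F i).map u = 0)) := by
  have heffEpi : ∀ i, IsIso (φ.app i) → ∀ X, IsIso ((φ.app i).app X) := fun i h X => inferInstance
  have monoStep : ∀ i, IsIso (φ.app i) → Mono (φ.app (i + 1)) := by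
    intro i hi
    suffices h : ∀ X, Mono ((φ.app (i + 1)).app X) from NatTrans.mono_of_mono_app _
    intro X
    obtain ⟨Y, u, hu, hu0⟩ := hT i X
    haveI := hu
    refine Preadditive.mono_of_cancel_zero _ fun {W} a ha => ?_
    haveI := epi_delta T i u hu0
    obtain ⟨W₁, π₁, hπ₁, w, hw⟩ := surjective_up_to_refinements_of_epi (T.δ (ses u) (ses_exact u) i (i + 1) rfl) a
    have h1 : (w ≫ (φ.app i).app _) ≫ T'.δ (ses u) (ses_exact u) i (i + 1) rfl = 0 := by
      rw [Category.assoc, ← φ.comm (ses u) (ses_exact u) i (i + 1) rfl, ← Category.assoc, ← hw, Category.assoc, ha, comp_zero]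
    obtain ⟨W₂, π₂, hπ₂, y', hy'⟩ := (T'.exact₃ (ses u) (ses_exact u) i (i + 1) rfl).exact_up_to_refinements _ h1
    haveI := heffEpi i hi (ses u).X₂
    haveI := heffEpi i hi (ses u).X₃
    have h2 : π₂ ≫ w = (y' ≫ inv ((φ.app i).app (ses u).X₂)) ≫ (T.F i).map (ses u).g := by
      rw [← cancel_mono ((φ.app i).app (ses u).X₃), Category.assoc, hy', Category.assoc, Category.assoc,
        (φ.app i).naturality, IsIso.inv_hom_id_assoc]
    have h3 : (π₂ ≫ π₁) ≫ a = 0 := by
      rw [Category.assoc, hw, ← Category.assoc, h2, Category.assoc, T.comp_δ, comp_zero]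
    exact (cancel_epi (π₂ ≫ π₁)).1 (h3.trans comp_zero.symm)
  have isoOfEpi : ∀ m, Mono (φ.app 0) → (∀ i, i ≤ m → Epi (φ.app i)) → ∀ i, i ≤ m → IsIso (φ.app i) := by
    intro m h0m he i
    induction i with
    | zero =>
      intro hi
      haveI := h0m
      haveI := he 0 hi
      suffices h : ∀ X, IsIso ((φ.app 0).app X) from NatIso.isIso_of_isIso_app _
      exact fun X => isIso_of_mono_of_epi _
    | succ i ih =>
      intro hi
      haveI := monoStep i (ih (Nat.le_of_succ_le hi))
      haveI := he (i + 1) hi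
      suffices h : ∀ X, IsIso ((φ.app (i + 1)).app X) from NatIso.isIso_of_isIso_app _
      exact fun X => isIso_of_mono_of_epi _
  refine ⟨⟨fun h => ⟨by haveI := h.1 0 n.zero_le; infer_instance, fun i hi => by haveI := h.1 i hi; infer_instance⟩,
    fun h => ?_⟩, ⟨fun h => ⟨h.1 0 n.zero_le, fun i hi0 hin X => ?_⟩, fun h => ?_⟩⟩
  · have hiso := isoOfEpi n h.1 h.2
    exact ⟨hiso, monoStep n (hiso n le_rfl)⟩
  · obtain ⟨j, rfl⟩ : ∃ j, i = j + 1 := ⟨i - 1, by omega⟩
    obtain ⟨Y, u, hu, hu0⟩ := hT j X
    haveI : Epi ((φ.app (j + 1)).app X) := @IsIso.epi_of_iso _ _ _ _ _ (heffEpi (j + 1) (h.1 _ hin) X)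
    refine ⟨Y, u, hu, ?_⟩
    rw [← cancel_epi ((φ.app (j + 1)).app X), ← (φ.app (j + 1)).naturality, hu0, zero_comp, comp_zero]
  · have hepi : ∀ i, i ≤ n → Epi (φ.app i) := by
      intro i
      induction i using Nat.strong_induction_on with
      | _ i ih =>
        intro hi
        cases i with
        | zero => haveI := h.1; infer_instance
        | succ j =>
          haveI : IsIso (φ.app j) :=
            isoOfEpi j (by haveI := h.1; infer_instance) (fun m hm => ih m (by omega) (by omega)) j le_rfl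
          suffices hX : ∀ X, Epi ((φ.app (j + 1)).app X) from NatTrans.epi_of_epi_app _
          intro X
          obtain ⟨Y, u, hu, hu0⟩ := h.2 (j + 1) (Nat.succ_pos j) hi X
          haveI := hu
          haveI := epi_delta T' j u hu0
          haveI : IsIso ((φ.app j).app (ses u).X₃) := inferInstance
          haveI : Epi (T.δ (ses u) (ses_exact u) j (j + 1) rfl ≫ (φ.app (j + 1)).app (ses u).X₁) := by
            rw [φ.comm (ses u) (ses_exact u) j (j + 1) rfl]
            exact epi_comp _ _
          exact epi_of_epi (T.δ (ses u) (ses_exact u) j (j + 1) rfl) _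
    haveI := h.1
    have hiso := isoOfEpi n inferInstance hepi
    exact ⟨hiso, monoStep n (hiso n le_rfl)⟩

end Groth.Agent.S8535
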