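import Groth.Statements.S8538
import Groth.Agent.ArtinVanLib.LocalBase

set_option autoImplicit false
set_option backward.isDefEq.respectTransparency false
set_option backward.isDefEq.respectTransparency.types false
set_option linter.style.haveILetI false
universe u
open CategoryTheory CategoryTheory.Limits AlgebraicGeometry Opposite
open EtCd

namespace Groth.Agent.S8538

/-- Let A be a Noetherian universally catenary local ring, f : X → Spec A a morphism of finite type, x a
point of X with image y, and X₀ the closed fibre of f. Put δ(x) = dim closure(y) + trdeg(κ(x)/κ(y))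
= dim(A/p_y) + trdeg(κ(x)/κ(y)) and d(x) = dim closure(x) (topological Krull dimension of the
closure of x in X). Then d(x) = δ(x) when the closure of x meets X₀, and d(x) + 1 = δ(x) when it
does not. -/
theorem result (A : Type u) [CommRing A] [IsNoetherianRing A] [IsLocalRing A]
    (hA : CAlg.IsUniversallyCatenary A) {X : Scheme.{u}} (f : X ⟶ Spec (CommRingCat.of A)) [LocallyOfFiniteType f]
    [QuasiCompact f] (x : X) (a b d : ℕ) (ha : ringKrullDim (A ⧸ (f.base x).asIdeal) = a)
    (hb : letI := (f.residueFieldMap x).hom.toAlgebra;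
      Algebra.trdeg ((Spec (CommRingCat.of A)).residueField (f.base x)) (X.residueField x) = b)
    (hd : topologicalKrullDim ↥(closure ({x} : Set X)) = d) :
    ((closure ({x} : Set X) ∩ f.base ⁻¹' {((IsLocalRing.closedPoint A : PrimeSpectrum A) : ↥(Spec (CommRingCat.of A)))}).Nonempty →
        d = a + b) ∧
    (closure ({x} : Set X) ∩ f.base ⁻¹' {((IsLocalRing.closedPoint A : PrimeSpectrum A) : ↥(Spec (CommRingCat.of A)))} = ∅ →
        d + 1 = a + b) := by
  rw [Groth.Agent.DimFormulaLib.topologicalKrullDim_closure_singleton] at hd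
  have hd' : Order.height x = (d : ℕ∞) := by exact_mod_cast hd
  haveI : CompactSpace X := (quasiCompact_iff_compactSpace f).1 inferInstance
  obtain ⟨s, hsl, hsn⟩ := Order.exists_series_of_height_eq_coe x hd'
  have hcl : ∀ (C : Set X), IsClosed C → C.Nonempty → ∃ w ∈ C, IsClosed ({w} : Set X) := fun C hC hne =>
    hC.exists_closed_singleton hne
  obtain ⟨w, hw, hwc⟩ := hcl (closure ({s.head} : Set X)) isClosed_closure ⟨s.head, subset_closure rfl⟩
  have hws : w ≤ s.head := Scheme.le_iff_specializes.2 (specializes_iff_mem_closure.2 hw)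
  have hxw : x ⤳ w := Scheme.le_iff_specializes.1 (hws.trans (hsl ▸ s.monotone (Fin.zero_le _)))
  obtain ⟨n, hn1, hn2, hn3, hn4⟩ := Groth.Agent.ArtinVanLib.exists_relHeight_closedPoint f hA x w hxw hwc a b ha hb
  have h1 : n ≤ d := by rw [hd'] at hn3; exact_mod_cast hn3
  have h2 : d ≤ n := hsn ▸ hn4 s hsl hws
  refine ⟨fun hne => ?_, fun he => ?_⟩
  · obtain ⟨w', ⟨hw'x, hw'm⟩, hw'c⟩ := hcl _
      (isClosed_closure.inter (((PrimeSpectrum.isClosed_singleton_iff_isMaximal _).2
        (IsLocalRing.maximalIdeal.isMaximal A)).preimage f.continuous)) hne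
    obtain ⟨n', hn1', -, hn3', -⟩ :=
      Groth.Agent.ArtinVanLib.exists_relHeight_closedPoint f hA x w' (specializes_iff_mem_closure.2 hw'x) hw'c a b ha hb
    have h3 : n' ≤ d := by rw [hd'] at hn3'; exact_mod_cast hn3'
    have h4 := hn1' hw'm
    by_cases hm : f w = IsLocalRing.closedPoint A
    · have := hn1 hm
      omega
    · have := hn2 hm
      omega
  · have := hn2 fun hm => Set.eq_empty_iff_forall_notMem.1 he w ⟨specializes_iff_mem_closure.1 hxw, hm⟩
    omega

end Groth.Agent.S8538
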