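import Groth.Statements.S8539
import Groth.Agent.ArtinVanLib.HensModel

set_option autoImplicit false
set_option backward.isDefEq.respectTransparency false
set_option backward.isDefEq.respectTransparency.types false
set_option linter.style.haveILetI false
set_option maxHeartbeats 1000000
universe u
open CategoryTheory CategoryTheory.Limits AlgebraicGeometry Opposite
open EtCd

namespace Groth.Agent.S8539

/-- Let X be a scheme of finite type over a field k, x a point of X and A a strict henselization of the
local ring of X at x. Then there are a separably closed field k', a scheme X' of finite type over k'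
and a closed point x' of X' such that A is (isomorphic to) a strict henselization of the local ring
of X' at x': some local algebra structure over that local ring makes A a strict henselization of it. -/
theorem result (k : Type u) [Field k] {X : Scheme.{u}}
    (f : X ⟶ Spec (CommRingCat.of k)) [LocallyOfFiniteType f] [QuasiCompact f] (x : X)
    (A : Type u) [CommRing A] [IsLocalRing A] [Algebra (X.presheaf.stalk x) A]
    [IsLocalHom (algebraMap (X.presheaf.stalk x) A)] [Hensel.IsStrictHenselization (X.presheaf.stalk x) A] :
    ∃ (k' : Type u) (_ : Field k') (_ : IsSepClosed k') (X' : Scheme.{u}) (f' : X' ⟶ Spec (CommRingCat.of k'))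
      (_ : LocallyOfFiniteType f') (_ : QuasiCompact f') (x' : X') (_ : IsClosed ({x'} : Set X'))
      (_ : Algebra (X'.presheaf.stalk x') A) (_ : IsLocalHom (algebraMap (X'.presheaf.stalk x') A)),
      Hensel.IsStrictHenselization (X'.presheaf.stalk x') A := by
  obtain ⟨R', _, _, _, hh, hsep, π', hmax, h0, -, X', f', hft, hqc, x', hcl, -, ha, hl, hS⟩ :=
    Groth.Agent.ArtinVanLib.exists_strictlyHenselian_model f x (⊥ : Ideal k)
      ((Ideal.eq_bot_or_top _).resolve_right (f x).isPrime.ne_top) (0 : k) (Ideal.span_singleton_eq_bot.2 rfl).symm A
  have hbot : IsLocalRing.maximalIdeal R' = ⊥ := by rw [hmax, Ideal.span_singleton_eq_bot, h0]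
  letI : Field R' := (IsLocalRing.isField_iff_maximalIdeal_eq.2 hbot).toField
  haveI : IsSepClosed R' := by
    have hb : Function.Bijective (IsLocalRing.residue R') :=
      ⟨(IsLocalRing.residue R').injective, IsLocalRing.residue_surjective⟩
    refine IsSepClosed.of_exists_root _ fun p _ hp hs => ?_
    obtain ⟨y, hy⟩ := IsSepClosed.exists_root (p.map (IsLocalRing.residue R'))
      (by rw [Polynomial.degree_map]; exact (Polynomial.degree_pos_of_irreducible hp).ne')
      ((Polynomial.separable_map _).2 hs)
    obtain ⟨x, rfl⟩ := hb.2 y
    exact ⟨x, hb.1 (by rw [map_zero, ← hy, Polynomial.eval_map, Polynomial.eval₂_at_apply])⟩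
  exact ⟨R', inferInstance, inferInstance, X', f', hft, hqc, x', hcl, ha, hl, hS⟩

end Groth.Agent.S8539
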