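import Groth.Statements.S8541
import Groth.Agent.FlatThickLib.Select
import Groth.Agent.FlatThickLib.Flat
import Groth.Agent.FlatThickLib.Chart
import Groth.Agent.ProjOverLib.Affine
import Groth.Agent.ProjOverLib.QuotOver
import Groth.Agent.S0403
import Groth.Agent.S10829

set_option autoImplicit false
set_option backward.isDefEq.respectTransparency false
set_option backward.isDefEq.respectTransparency.types false
set_option linter.style.haveILetI false
set_option maxHeartbeats 1000000
set_option synthInstance.maxHeartbeats 400000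
universe u
open CategoryTheory CategoryTheory.Limits AlgebraicGeometry Opposite
open EtCd

namespace Groth.Agent.S8541

open MvPolynomial Topology FlatThickLib HomogeneousLocalization TopologicalSpace

variable (A : Type u) [CommRing A] [IsNoetherianRing A] [IsLocalRing A] (N : ℕ)

/-- The closed fibre of projective space has dimension `N`. -/
private theorem dim_closedFibre :
    topologicalKrullDim ↥((CohB1.ProjSpace.toSpec N A).base ⁻¹' {IsLocalRing.closedPoint A}) ≤ (N : WithBot ℕ∞) := by
  let k := IsLocalRing.ResidueField A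
  haveI : IsLocalHom (algebraMap A k) := inferInstanceAs (IsLocalHom (IsLocalRing.residue A))
  obtain ⟨g, hg⟩ := ProjOverLib.exists_isPullback_polyProj N A k
  haveI : IsClosedImmersion (Spec.map (CommRingCat.ofHom (algebraMap A k))) :=
    IsClosedImmersion.spec_of_surjective _ Ideal.Quotient.mk_surjective
  haveI : IsClosedImmersion g := MorphismProperty.of_isPullback hg.flip inferInstance
  have hrange : Set.range g.base = (CohB1.ProjSpace.toSpec N A).base ⁻¹' {IsLocalRing.closedPoint A} := by
    have h1 : Set.range g.base =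
        (CohB1.ProjSpace.toSpec N A).base ⁻¹' Set.range (Spec.map (CommRingCat.ofHom (algebraMap A k))).base := by
      rw [← hg.isoPullback_hom_fst, Scheme.Hom.comp_base, TopCat.coe_comp, Set.range_comp,
        Set.range_eq_univ.2 hg.isoPullback.hom.surjective, Set.image_univ, Scheme.Pullback.range_fst]
    have h2 : Set.range (Spec.map (CommRingCat.ofHom (algebraMap A k))).base = {IsLocalRing.closedPoint A} := by
      refine Set.eq_singleton_iff_unique_mem.2 ⟨⟨IsLocalRing.closedPoint k, IsLocalRing.comap_closedPoint (algebraMap A k)⟩, ?_⟩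
      rintro _ ⟨w, rfl⟩
      rw [Subsingleton.elim (α := PrimeSpectrum k) w (IsLocalRing.closedPoint k)]
      exact IsLocalRing.comap_closedPoint (algebraMap A k)
    rw [h1, h2]
  refine le_trans ?_ (S10829.result k N).le
  rw [← hrange]
  exact g.isClosedEmbedding.isEmbedding.toHomeomorph.symm.isInducing.topologicalKrullDim_le

variable {r : ℕ} (f : Fin r → MvPolynomial (Fin (N + 1)) A)
  [GradedAlgebra (ProjClosed.quotGrading (CohB1.polyGrading N A) (Ideal.span (Set.range f)))]

/-- The complete intersection is flat where its closed fibre has the expected dimension. -/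
private theorem flat_quotient (hf : ∀ l, ∃ d, f l ∈ CohB1.polyGrading N A d) {n : ℕ} (hn : n + r ≤ N)
    (hψ : HomogeneousIdeal.irrelevant (ProjClosed.quotGrading (CohB1.polyGrading N A) (Ideal.span (Set.range f))) ≤
      (HomogeneousIdeal.irrelevant (CohB1.polyGrading N A)).map (quotHom N A f))
    [IsClosedImmersion (Proj.map (quotHom N A f) hψ)]
    (hd : topologicalKrullDim ↥((CohB1.ProjSpace.toSpec N A).base ⁻¹' {IsLocalRing.closedPoint A} ∩
      zeros (CohB1.polyGrading N A) f) ≤ (n : WithBot ℕ∞)) :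
    Flat (Proj.map (quotHom N A f) hψ ≫ CohB1.ProjSpace.toSpec N A) := by
  let π := Proj.map (quotHom N A f) hψ ≫ CohB1.ProjSpace.toSpec N A
  haveI : IsProper π := inferInstance
  haveI := QuasiCompact.compactSpace_of_compactSpace π
  refine (Flat.iff_flat_stalkMap π).2 fun z => ?_
  obtain ⟨z₀, hz₀, hz₀c⟩ := IsClosed.exists_closed_singleton (isClosed_closure (s := {z})) ⟨z, subset_closure rfl⟩
  have hm : π.base z₀ = IsLocalRing.closedPoint A := by
    have hc : IsClosed ({π.base z₀} : Set ↥(Spec (CommRingCat.of A))) :=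
      Set.image_singleton ▸ π.isClosedMap _ hz₀c
    exact PrimeSpectrum.ext (IsLocalRing.eq_maximalIdeal ((PrimeSpectrum.isClosed_singleton_iff_isMaximal _).1 hc))
  -- a chart around the closed point
  obtain ⟨i, hi⟩ : ∃ i, (quotHom N A f) (X i) ∉ (show ProjectiveSpectrum _ from z₀).asHomogeneousIdeal := by
    by_contra! h
    refine (show ProjectiveSpectrum _ from z₀).not_irrelevant_le (hψ.trans ?_)
    refine Ideal.map_le_iff_le_comap.2 ?_
    rw [ProjOverLib.irrelevant_eq_span, Ideal.span_le]
    rintro _ ⟨j, rfl⟩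
    exact h j
  let T := Away (ProjClosed.quotGrading (CohB1.polyGrading N A) (Ideal.span (Set.range f))) (quotHom N A f (X i))
  let θ := chartHom N A f i
  letI : Algebra A T := (θ.comp MvPolynomial.C).toAlgebra
  let ι := Proj.awayι (ProjClosed.quotGrading (CohB1.polyGrading N A) (Ideal.span (Set.range f)))
    (quotHom N A f (X i)) ((quotHom N A f).map_mem (ProjMap.X_mem i)) one_pos
  have hι : ι ≫ π = Spec.map (CommRingCat.ofHom (algebraMap A T)) := by
    show Proj.awayι _ _ _ _ ≫ Proj.map (quotHom N A f) hψ ≫ CohB1.ProjSpace.toSpec N A = _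
    rw [Proj.awayι_comp_map_assoc (quotHom N A f) hψ one_pos _ (ProjMap.X_mem i), CohB1.ProjSpace.toSpec,
      Proj.awayι_toSpecZero_assoc, ← Spec.map_comp, ← Spec.map_comp]
    refine congrArg Spec.map (CommRingCat.hom_ext (RingHom.ext fun a => ?_))
    show _ = Away.map (quotHom N A f) (X i) (PicProjLib.polyToAway N A i (C a))
    rw [PicProjLib.polyToAway, eval₂Hom_C]
    rfl
  obtain ⟨w₀, rfl⟩ : z₀ ∈ Set.range ι.base := by
    rw [show Set.range ι.base = _ from congrArg SetLike.coe (Proj.opensRange_awayι _ _ _ _)]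
    exact hi
  obtain ⟨w, rfl⟩ : z ∈ Set.range ι.base :=
    (specializes_iff_mem_closure.2 hz₀).mem_open ι.isOpenEmbedding.isOpen_range ⟨w₀, rfl⟩
  have hw : w ⤳ w₀ := (ι.isOpenEmbedding.isInducing.specializes_iff).1 (specializes_iff_mem_closure.2 hz₀)
  -- flatness at the closed point
  let θA : MvPolynomial (Fin N) A →ₐ[A] T := { θ with commutes' := fun _ => rfl }
  have hker : RingHom.ker θA = Ideal.span (Set.range (eqs N A f i)) := ker_chartHom N A f hf i
  let q : Ideal (MvPolynomial (Fin N) A) := (show PrimeSpectrum T from w₀).asIdeal.comap θA.toRingHom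
  haveI hw₀ : (show PrimeSpectrum T from w₀).asIdeal.IsMaximal := by
    refine (PrimeSpectrum.isClosed_singleton_iff_isMaximal _).1 ?_
    have h := hz₀c.preimage ι.continuous
    rwa [← Set.image_singleton, Set.preimage_image_eq _ ι.isOpenEmbedding.injective] at h
  haveI : q.IsMaximal := Ideal.comap_isMaximal_of_surjective _ (surjective_chartHom N A f i)
  have hw₀m : ∀ v : PrimeSpectrum T, π.base (ι.base v) = PrimeSpectrum.comap (algebraMap A T) v := fun v =>
    congr($(hι) v)
  have hqm : q.comap (algebraMap A (MvPolynomial (Fin N) A)) = IsLocalRing.maximalIdeal A :=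
    congrArg PrimeSpectrum.asIdeal ((hw₀m w₀).symm.trans hm)
  have hqF : ∀ l, eqs N A f i l ∈ q := fun l => by
    show θA (eqs N A f i l) ∈ (show PrimeSpectrum T from w₀).asIdeal
    rw [show θA (eqs N A f i l) = 0 from RingHom.mem_ker.1 (hker.ge (Ideal.subset_span ⟨l, rfl⟩))]
    exact zero_mem _
  have hdim : ringKrullDim (MvPolynomial (Fin N) A ⧸ ((IsLocalRing.maximalIdeal A).map
      (algebraMap A (MvPolynomial (Fin N) A)) ⊔ Ideal.span (Set.range (eqs N A f i)))) ≤ (n : WithBot ℕ∞) := by
    set H := (IsLocalRing.maximalIdeal A).map (algebraMap A (MvPolynomial (Fin N) A)) ⊔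
      Ideal.span (Set.range (eqs N A f i))
    let γ : T →+* MvPolynomial (Fin N) A ⧸ H := RingHom.liftOfSurjective θ (surjective_chartHom N A f i)
      ⟨Ideal.Quotient.mk H, fun a ha => Ideal.Quotient.eq_zero_iff_mem.2
        (le_sup_right (a := (IsLocalRing.maximalIdeal A).map (algebraMap A (MvPolynomial (Fin N) A)))
          ((ker_chartHom N A f hf i).le ha))⟩
    have hγθ : γ.comp θ = Ideal.Quotient.mk H := RingHom.liftOfSurjective_comp _ _ _
    have hγs : Function.Surjective γ := fun y => by
      obtain ⟨a, rfl⟩ := Ideal.Quotient.mk_surjective y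
      exact ⟨θ a, RingHom.congr_fun hγθ a⟩
    let e : PrimeSpectrum (MvPolynomial (Fin N) A ⧸ H) → ↥(CohB1.ProjSpace N A) := fun v =>
      (Proj.map (quotHom N A f) hψ).base (ι.base (PrimeSpectrum.comap γ v))
    have hind : IsInducing e :=
      ((Proj.map (quotHom N A f) hψ).isClosedEmbedding.isInducing.comp ι.isOpenEmbedding.isInducing).comp
        (PrimeSpectrum.isClosedEmbedding_comap_of_surjective _ _ hγs).isInducing
    have hmem : ∀ v, e v ∈ (CohB1.ProjSpace.toSpec N A).base ⁻¹' {IsLocalRing.closedPoint A} ∩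
        zeros (CohB1.polyGrading N A) f := fun v => by
      refine ⟨PrimeSpectrum.ext (IsLocalRing.eq_maximalIdeal ?_), fun l => ?_⟩
      · have h1 : (CohB1.ProjSpace.toSpec N A).base (e v) =
            PrimeSpectrum.comap (algebraMap A T) (PrimeSpectrum.comap γ v) := hw₀m _
        rw [h1]
        have hle : IsLocalRing.maximalIdeal A ≤
            (PrimeSpectrum.comap (algebraMap A T) (PrimeSpectrum.comap γ v)).asIdeal := fun a ha => by
          show γ (θ (C a)) ∈ v.asIdeal
          rw [show γ (θ (C a)) = 0 from (RingHom.congr_fun hγθ (C a)).trans (Ideal.Quotient.eq_zero_iff_mem.2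
            (Ideal.mem_sup_left (Ideal.mem_map_of_mem (algebraMap A (MvPolynomial (Fin N) A)) ha)))]
          exact zero_mem _
        rw [← (IsLocalRing.maximalIdeal.isMaximal A).eq_of_le (PrimeSpectrum.isPrime _).ne_top hle]
        exact IsLocalRing.maximalIdeal.isMaximal A
      · show quotHom N A f (f l) ∈ (show ProjectiveSpectrum _ from ι.base (PrimeSpectrum.comap γ v)).asHomogeneousIdeal
        rw [show quotHom N A f (f l) = 0 from Ideal.Quotient.eq_zero_iff_mem.2 (Ideal.subset_span ⟨l, rfl⟩)]
        exact zero_mem _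
    rw [← PrimeSpectrum.topologicalKrullDim_eq_ringKrullDim]
    exact le_trans (IsInducing.topologicalKrullDim_le (f := Set.codRestrict e _ hmem)
      (hind.codRestrict hmem)) hd
  have hflat₀ : Module.Flat A (Localization.AtPrime (show PrimeSpectrum T from w₀).asIdeal) :=
    flat_atPrime_of_quotient θA (surjective_chartHom N A f i) _ hker _
      (flat_quotient_localization hn (eqs N A f i) q hqm hqF hdim)
  haveI := hflat₀
  haveI := flat_atPrime_of_le (A := A) (show PrimeSpectrum T from w).asIdeal (show PrimeSpectrum T from w₀).asIdeal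
    ((PrimeSpectrum.le_iff_specializes _ _).2 hw)
  have h1 := flat_stalkMap_Spec (A := A) w
  rw [← hι, Scheme.Hom.stalkMap_comp, CommRingCat.hom_comp] at h1
  exact (RingHom.Flat.respectsIso.cancel_right_isIso (π.stalkMap (ι.base w)) (ι.stalkMap w)).1 h1

/-- Let A be a Noetherian local ring, S = Spec A, and X a closed subscheme of the projective space P^N_S
(closed immersion i) whose fibres over S all have dimension at most n. Then there is a closed
subscheme Z of P^N_S which is flat over S with all fibres of dimension at most n and which contains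
X: a closed immersion j : Z → P^N_S with Z → S flat of relative dimension ≤ n and a closed immersion
g : X → Z with g ≫ j = i. -/
theorem result (A : Type u) [CommRing A] [IsNoetherianRing A] [IsLocalRing A]
    (N n : ℕ) {X : Scheme.{u}} (i : X ⟶ CohB1.ProjSpaceOver N (Spec (CommRingCat.of A))) [IsClosedImmersion i]
    (hdim : ∀ s : ↥(Spec (CommRingCat.of A)),
      topologicalKrullDim ↥((i ≫ CohB1.ProjSpaceOver.toBase N (Spec (CommRingCat.of A))).fiber s) ≤ n) :
    ∃ (Z : Scheme.{u}) (j : Z ⟶ CohB1.ProjSpaceOver N (Spec (CommRingCat.of A))) (g : X ⟶ Z),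
      IsClosedImmersion j ∧ IsClosedImmersion g ∧ g ≫ j = i ∧
      Flat (j ≫ CohB1.ProjSpaceOver.toBase N (Spec (CommRingCat.of A))) ∧
      ∀ s : ↥(Spec (CommRingCat.of A)),
        topologicalKrullDim ↥((j ≫ CohB1.ProjSpaceOver.toBase N (Spec (CommRingCat.of A))).fiber s) ≤ n := by
  classical
  let S := Spec (CommRingCat.of A)
  let 𝒜 := CohB1.polyGrading N A
  obtain ⟨e₀, he₀⟩ := ProjOverLib.exists_iso_polyProj N A
  let p₀ := CohB1.ProjSpace.toSpec N A
  let Y₀ : Set (Proj 𝒜) := p₀.base ⁻¹' {IsLocalRing.closedPoint A}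
  have hY₀ : IsClosed Y₀ := (IsLocalRing.isClosed_singleton_closedPoint A).preimage p₀.continuous
  haveI : IsNoetherianRing (MvPolynomial (Fin (N + 1)) A) := inferInstance
  haveI : IsProper p₀ := inferInstance
  haveI : IsLocallyNoetherian (Proj 𝒜) := LocallyOfFiniteType.isLocallyNoetherian p₀
  haveI : CompactSpace ↥(Proj 𝒜) := QuasiCompact.compactSpace_of_compactSpace p₀
  haveI : IsNoetherian (Proj 𝒜) := ⟨⟩
  haveI : NoetherianSpace ↥(Proj 𝒜) := inferInstance
  -- the ideal of the subscheme
  let i' : X ⟶ Proj 𝒜 := i ≫ e₀.hom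
  let G : Finset (MvPolynomial (Fin (N + 1)) A) := Finset.univ.image MvPolynomial.X
  have hG1 : ∀ a ∈ G, a ∈ 𝒜 1 := fun a ha => by
    obtain ⟨j, _, rfl⟩ := Finset.mem_image.1 ha
    exact MvPolynomial.isHomogeneous_X _ j
  have hGs : (HomogeneousIdeal.irrelevant 𝒜).toIdeal = Ideal.span (G : Set _) := by
    rw [ProjOverLib.irrelevant_eq_span, Finset.coe_image, Finset.coe_univ, Set.image_univ]
  obtain ⟨B, _, _, ℬ, _, φ, hsurj, hφ, e, he, halg⟩ := ProjOverLib.exists_quotient_alg i' G hG1 hGs
  let I : Ideal (MvPolynomial (Fin (N + 1)) A) := RingHom.ker φ.toRingHom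
  have hI : I.IsHomogeneous 𝒜 := fun l a ha => by
    show φ (DirectSum.decompose 𝒜 a l : MvPolynomial (Fin (N + 1)) A) = 0
    rw [GradedRingHom.map_directSumDecompose, show φ a = 0 from ha, DirectSum.decompose_zero]
    rfl
  -- the dimension of the closed fibre
  let m := IsLocalRing.closedPoint A
  let X₀ : Set (Proj 𝒜) := Set.range i'.base ∩ Y₀
  haveI : IsClosedImmersion i' := inferInstance
  have hX₀ : IsClosed X₀ := i'.isClosedEmbedding.isClosed_range.inter hY₀
  let n' := min n N
  have hX₀n : topologicalKrullDim ↥X₀ ≤ (n' : WithBot ℕ∞) := by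
    have h1 : topologicalKrullDim ↥X₀ ≤ (N : WithBot ℕ∞) :=
      (Topology.IsEmbedding.inclusion Set.inter_subset_right).isInducing.topologicalKrullDim_le.trans
        (dim_closedFibre A N)
    let q := i ≫ CohB1.ProjSpaceOver.toBase N S
    have h2 : topologicalKrullDim ↥X₀ ≤ (n : WithBot ℕ∞) := by
      refine le_trans ?_ (hdim m)
      have hq : ∀ x : X, p₀.base (i'.base x) = q.base x := fun x => by
        show (i' ≫ p₀).base x = q.base x
        rw [Category.assoc, he₀]
      have hr : Set.range (i'.base ∘ (q.fiberι m).base) = X₀ := by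
        rw [Set.range_comp, Scheme.Hom.range_fiberι]
        ext y
        constructor
        · rintro ⟨x, hx, rfl⟩
          exact ⟨⟨x, rfl⟩, (hq x).trans hx⟩
        · rintro ⟨⟨x, rfl⟩, hy⟩
          exact ⟨x, (hq x).symm.trans hy, rfl⟩
      rw [← hr]
      exact (i'.isClosedEmbedding.isEmbedding.comp (q.fiberι m).isEmbedding).toHomeomorph.symm.isInducing.topologicalKrullDim_le
    rcases le_total n N with h | h
    · exact h2.trans_eq (by simp [n', h])
    · exact h1.trans_eq (by simp [n', h])
  obtain ⟨f, d, hf, hfd⟩ := exists_forms 𝒜 I hI Y₀ X₀ hY₀ hX₀ (fun y hy hIy => ⟨by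
    obtain ⟨x, hx⟩ := mem_range_map_of_ker_le φ hsurj hφ y fun a ha => hIy ha
    exact ⟨e.inv.base x, by rw [← he, ← hx, ← Scheme.Hom.comp_apply, Iso.inv_hom_id_assoc]⟩, hy⟩)
    hX₀n (dim_closedFibre A N) (N - n')
  replace hfd : topologicalKrullDim ↥(Y₀ ∩ zeros 𝒜 f) ≤ (n' : WithBot ℕ∞) := hfd.trans
    (by exact_mod_cast (show max n' (N - (N - n')) ≤ n' by simp only [n']; omega))
  -- the complete intersection
  let J := Ideal.span (Set.range f)
  have hJ : J.IsHomogeneous 𝒜 := Ideal.homogeneous_span 𝒜 _ (by rintro _ ⟨l, rfl⟩; exact ⟨d l, (hf l).2⟩)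
  letI := ProjClosed.quotGraded (𝒜 := 𝒜) hJ
  let ψ := quotHom N A f
  have hψ : HomogeneousIdeal.irrelevant (ProjClosed.quotGrading 𝒜 J) ≤ (HomogeneousIdeal.irrelevant 𝒜).map ψ := by
    rw [HomogeneousIdeal.irrelevant_le]
    rintro l hl _ ⟨a, ha, rfl⟩
    exact Ideal.mem_map_of_mem _ (HomogeneousIdeal.mem_irrelevant_of_mem _ hl ha)
  have hψs : Function.Surjective ψ := Ideal.Quotient.mk_surjective
  let φ' : ProjClosed.quotGrading 𝒜 J →+*ᵍ ℬ :=
    { Ideal.Quotient.lift J φ.toRingHom (fun a ha => (Ideal.span_le.2 (by rintro _ ⟨l, rfl⟩; exact (hf l).1) :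
        J ≤ I) ha) with
      map_mem := fun {l b} hb => by
        obtain ⟨a, ha, rfl⟩ := hb
        exact φ.map_mem ha }
  have hφ's : Function.Surjective φ' := fun b => by
    obtain ⟨a, rfl⟩ := hsurj b
    exact ⟨ψ a, rfl⟩
  have hφ' : HomogeneousIdeal.irrelevant ℬ ≤ (HomogeneousIdeal.irrelevant (ProjClosed.quotGrading 𝒜 J)).map φ' := by
    refine hφ.trans (Ideal.map_le_iff_le_comap.2 ((HomogeneousIdeal.toIdeal_irrelevant_le _).2 fun l hl a ha => ?_))
    exact Ideal.mem_map_of_mem φ' (HomogeneousIdeal.mem_irrelevant_of_mem _ hl (ψ.map_mem ha))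
  have hmap : Proj.map φ' hφ' ≫ Proj.map ψ hψ = Proj.map φ hφ := by
    rw [← Proj.map_comp]
    congr 1
  haveI : IsClosedImmersion (Proj.map φ' hφ') := ProjRed.isClosedImmersion_map φ' hφ' hφ's
  haveI : IsClosedImmersion (Proj.map ψ hψ) := ProjRed.isClosedImmersion_map ψ hψ hψs
  let j := Proj.map ψ hψ ≫ e₀.inv
  have hjp : j ≫ CohB1.ProjSpaceOver.toBase N S = Proj.map ψ hψ ≫ p₀ := by
    rw [Category.assoc, ← he₀, Iso.inv_hom_id_assoc]
  refine ⟨Proj (ProjClosed.quotGrading 𝒜 J), j, e.hom ≫ Proj.map φ' hφ', inferInstance, inferInstance, ?_, ?_, ?_⟩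
  · rw [Category.assoc, reassoc_of% hmap, reassoc_of% he, Category.assoc, e₀.hom_inv_id, Category.comp_id]
  · rw [hjp]
    exact flat_quotient A N f (fun l => ⟨d l, (hf l).2⟩) (n := n') (by simp only [n']; omega) hψ hfd
  · intro s
    rw [hjp]
    let π := Proj.map ψ hψ ≫ p₀
    have hm : topologicalKrullDim ↥(π.fiber m) ≤ (n : WithBot ℕ∞) := by
      refine le_trans ?_ (hfd.trans (by exact_mod_cast min_le_left n N))
      let γ : π.fiber m → ↥(Y₀ ∩ zeros 𝒜 f) := fun y => ⟨(Proj.map ψ hψ).base ((π.fiberι m).base y), by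
        refine ⟨?_, fun l => ?_⟩
        · have : (π.fiberι m).base y ∈ Set.range (π.fiberι m) := ⟨y, rfl⟩
          rw [π.range_fiberι] at this
          exact this
        · show ψ (f l) ∈ (show ProjectiveSpectrum _ from (π.fiberι m).base y).asHomogeneousIdeal
          rw [show ψ (f l) = 0 from Ideal.Quotient.eq_zero_iff_mem.2 (Ideal.subset_span ⟨l, rfl⟩)]
          exact zero_mem _⟩
      exact IsInducing.topologicalKrullDim_le (f := γ) (IsInducing.subtypeVal.of_comp_iff.1
        ((Proj.map ψ hψ).isClosedEmbedding.isInducing.comp (π.fiberι m).isEmbedding.isInducing))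
    haveI : IsProper π := inferInstance
    exact (IsLocalRing.specializes_closedPoint (show PrimeSpectrum A from s)).mem_open (S0403.result π _) hm

end Groth.Agent.S8541
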