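import Groth.Statements.S8545
import Groth.Agent.ArtinVanLib.Delta
import Groth.Agent.DimFormulaLib.FibrePoints
import Groth.Agent.CatLib.Basic

set_option autoImplicit false
set_option backward.isDefEq.respectTransparency false
set_option backward.isDefEq.respectTransparency.types false
set_option linter.style.haveILetI false
set_option maxHeartbeats 1000000
set_option synthInstance.maxHeartbeats 200000
universe u
open CategoryTheory CategoryTheory.Limits AlgebraicGeometry Opposite
open EtCd

namespace Groth.Agent.S8545

open Groth.Agent.CdFieldLib Groth.Agent.ArtinVanLib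

theorem resHom_comp {k : Type u} [Field k] {Z X : Scheme.{u}} (h : Z ⟶ X) (aX : X ⟶ Spec (CommRingCat.of k)) (z : Z) :
    (h.residueFieldMap z).hom.comp (resHom aX (h z)) = resHom (h ≫ aX) z :=
  congrArg CommRingCat.Hom.hom (Spec.map_injective (show Spec.map (CommRingCat.ofHom (resHom aX (h z)) ≫ h.residueFieldMap z) =
      Spec.map (CommRingCat.ofHom (resHom (h ≫ aX) z)) by
    rw [Spec.map_comp, specMap_resHom, specMap_resHom, ← Category.assoc,
      Scheme.Hom.SpecMap_residueFieldMap_fromSpecResidueField, Category.assoc]))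

/-- Let f : X → Y be a morphism of schemes of finite type over a field k, x a point of X with image y,
y₀ a specialization of y in Y, R a strict henselization of the local ring of Y at y₀ with Y' = Spec
R → Y the strict localization and X' = X ×_Y Y' with projection f' : X' → Y', and let x' be a point
of X' lying over x, with image y' in Y'. Writing δ(x') = dim closure(y') + trdeg(κ(x')/κ(y'))
(closure in Y' = Spec R, so dim closure(y') = dim R/p_{y'}) and d for the dimension of the closure
of a point in X or Y, one has δ(x') = d(x) - d(y₀); stated as δ(x') + d(y₀) = d(x). -/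
theorem result (k : Type u) [Field k] {X Y : Scheme.{u}}
    (aX : X ⟶ Spec (CommRingCat.of k)) (aY : Y ⟶ Spec (CommRingCat.of k)) [LocallyOfFiniteType aX] [QuasiCompact aX]
    [LocallyOfFiniteType aY] [QuasiCompact aY] (f : X ⟶ Y) (w : f ≫ aY = aX) (x : X) (y₀ : Y) (hsp : f.base x ⤳ y₀)
    (R : Type u) [CommRing R] [IsLocalRing R] [Algebra (Y.presheaf.stalk y₀) R]
    [IsLocalHom (algebraMap (Y.presheaf.stalk y₀) R)] [Hensel.IsStrictHenselization (Y.presheaf.stalk y₀) R]
    (x' : ↥(pullback f (Hens2.specOf Y y₀ R))) (hx' : (pullback.fst f (Hens2.specOf Y y₀ R)).base x' = x)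
    (a b dx dy : ℕ)
    (ha : ringKrullDim (R ⧸ ((pullback.snd f (Hens2.specOf Y y₀ R)).base x').asIdeal) = a)
    (hb : letI := ((pullback.snd f (Hens2.specOf Y y₀ R)).residueFieldMap x').hom.toAlgebra;
      Algebra.trdeg ((Spec (CommRingCat.of R)).residueField ((pullback.snd f (Hens2.specOf Y y₀ R)).base x'))
        ((pullback f (Hens2.specOf Y y₀ R)).residueField x') = b)
    (hdx : topologicalKrullDim ↥(closure ({x} : Set X)) = dx)
    (hdy : topologicalKrullDim ↥(closure ({y₀} : Set Y)) = dy) :
    a + b + dy = dx := by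
  classical
  subst hx'
  let Y' := Spec (CommRingCat.of R)
  let s₀ := Hens2.specOf Y y₀ R
  let g := pullback.fst f s₀
  let f' := pullback.snd f s₀
  let x := g x'
  let y' := f' x'
  let aR := s₀ ≫ aY
  have hyy : f x = s₀ y' := congr($(pullback.condition (f := f) (g := s₀)) x')
  have hcomp : g ≫ aX = f' ≫ aR := by rw [← w, ← Category.assoc, pullback.condition, Category.assoc]
  obtain ⟨hys, hle⟩ := isAlgebraic_residueField_specOf y₀ R y'
  have hsp' : s₀ y' ⤳ y₀ := hyy ▸ hsp
  -- closures
  rw [DimFormulaLib.topologicalKrullDim_closure_singleton] at hdx hdy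
  have hdx' : Order.height x = dx := by exact_mod_cast hdx
  have hdy' : Order.height y₀ = dy := by exact_mod_cast hdy
  obtain ⟨tx, hh, htx⟩ := exists_height_trdeg aX x
  have etx : tx = dx := (Nat.cast_inj (R := ℕ∞)).1 (hh.symm.trans hdx')
  obtain ⟨d₀, hh₀, hty₀⟩ := exists_height_trdeg aY y₀
  have etd : d₀ = dy := (Nat.cast_inj (R := ℕ∞)).1 (hh₀.symm.trans hdy')
  obtain ⟨ty, hhy, hty⟩ := exists_height_trdeg aY (s₀ y')
  -- the residue field of the point of the pullback
  letI := (resHom aY (s₀ y')).toAlgebra
  letI := (resHom aR y').toAlgebra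
  letI := (resHom aX x).toAlgebra
  letI := (resHom (g ≫ aX) x').toAlgebra
  letI := (s₀.residueFieldMap y').hom.toAlgebra
  letI := (g.residueFieldMap x').hom.toAlgebra
  letI := (f'.residueFieldMap x').hom.toAlgebra
  haveI : IsScalarTower k (Y.residueField (s₀ y')) (Y'.residueField y') := .of_algebraMap_eq' (resHom_comp s₀ aY y').symm
  haveI : IsScalarTower k (X.residueField x) ((pullback f s₀).residueField x') :=
    .of_algebraMap_eq' (resHom_comp g aX x').symm
  haveI : IsScalarTower k (Y'.residueField y') ((pullback f s₀).residueField x') := .of_algebraMap_eq' (by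
    show resHom (g ≫ aX) x' = (f'.residueFieldMap x').hom.comp (resHom aR y')
    rw [resHom_comp f' aR x', hcomp])
  haveI : Algebra.IsAlgebraic (Y.residueField (s₀ y')) (Y'.residueField y') := hys
  haveI : Algebra.IsAlgebraic (X.residueField x) ((pullback f s₀).residueField x') :=
    isAlgebraic_residueField_pullback f s₀ x' hys
  have hy' : Algebra.trdeg k (Y'.residueField y') = (ty : ℕ) := by
    rw [← trdeg_add_eq k (Y.residueField (s₀ y')) (A := Y'.residueField y'),
      trdeg_eq_zero (R := Y.residueField (s₀ y')) (A := Y'.residueField y'), add_zero]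
    exact hty
  have hx' : Algebra.trdeg k ((pullback f s₀).residueField x') = (tx : ℕ) := by
    rw [← trdeg_add_eq k (X.residueField x) (A := (pullback f s₀).residueField x'),
      trdeg_eq_zero (R := X.residueField x) (A := (pullback f s₀).residueField x'), add_zero]
    exact htx
  have hsum := trdeg_add_eq k (Y'.residueField y') (A := (pullback f s₀).residueField x')
  rw [hy', hb, hx'] at hsum
  have h3 : ty + b = tx := by exact_mod_cast hsum
  -- the dimension of the closure in the strict localization
  let p : PrimeSpectrum (Y.presheaf.stalk y₀) := ⟨RingHom.ker (Cyc.specMap y₀ (s₀ y') hsp'), RingHom.ker_isPrime _⟩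
  have hup : (a : WithBot ℕ∞) ≤ Order.coheight p := by
    rw [← ha]
    exact (ringKrullDim_le_of_surjective _ (Ideal.Quotient.factor_surjective (hle hsp'))).trans
      (ringKrullDim_quotient_map_le p)
  have hadd : Order.height y₀ + Order.coheight p ≤ Order.height (s₀ y') := height_add_coheight_le hsp'
  rw [hh₀, hhy] at hadd
  have hup' : (a : ℕ∞) ≤ Order.coheight p := by exact_mod_cast hup
  have h1 : d₀ + a ≤ ty := by exact_mod_cast (add_le_add le_rfl hup').trans hadd
  -- and conversely
  obtain ⟨C, _, ι, _, c, hc⟩ := exists_chart y₀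
  subst hc
  obtain ⟨_, hloc, hfac⟩ := exists_isLocalization_stalk ι c
  haveI := hloc
  let O := Y.presheaf.stalk (ι c)
  obtain ⟨κ, hκ⟩ := Spec.map_surjective (ι ≫ aY)
  letI : Algebra k C := κ.hom.toAlgebra
  haveI : LocallyOfFiniteType (Spec.map κ) := by rw [hκ]; infer_instance
  haveI : Algebra.FiniteType k C := (HasRingHomProperty.Spec_iff (P := @LocallyOfFiniteType)).1 this
  haveI : IsNoetherianRing C := Algebra.FiniteType.isNoetherianRing k C
  letI : Algebra k O := ((algebraMap C O).comp (algebraMap k C)).toAlgebra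
  haveI : IsScalarTower k C O := .of_algebraMap_eq' rfl
  haveI : IsNoetherianRing O := IsLocalization.isNoetherianRing c.asIdeal.primeCompl _ inferInstance
  haveI : Algebra.EssFiniteType C O := .of_isLocalization O c.asIdeal.primeCompl
  haveI : Algebra.EssFiniteType k O := Algebra.EssFiniteType.comp k C O
  have hkO : Spec.map (CommRingCat.ofHom (algebraMap k O)) = Y.fromSpecStalk (ι c) ≫ aY := by
    rw [← hfac, Category.assoc, ← hκ, ← Spec.map_comp]
    rfl
  have hres : algebraMap k (IsLocalRing.ResidueField O) = resHom aY (ι c) := congrArg CommRingCat.Hom.hom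
    (Spec.map_injective (show Spec.map (CommRingCat.ofHom (algebraMap k O) ≫ Y.residue (ι c)) =
        Spec.map (CommRingCat.ofHom (resHom aY (ι c))) by
      rw [Spec.map_comp, specMap_resHom, hkO]
      rfl))
  have hδ : Algebra.trdeg k (IsLocalRing.ResidueField O) ≤ (d₀ : ℕ) := by
    refine le_of_eq (Eq.trans ?_ hty₀)
    congr 1
    exact Algebra.algebra_ext _ _ fun r => RingHom.congr_fun hres r
  letI : Algebra k R := ((algebraMap O R).comp (algebraMap k O)).toAlgebra
  haveI : IsScalarTower k O R := .of_algebraMap_eq' rfl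
  have hlow := trdeg_quotient_le_ringKrullDim_add (k := k) (O := O) hδ y'.asIdeal ha.le
  obtain ⟨φ, hφ, hker, hgen⟩ := exists_ringHom_residueField y'
  letI : Algebra (R ⧸ y'.asIdeal) (Y'.residueField y') :=
    (Ideal.Quotient.lift y'.asIdeal φ fun r hr => hker.ge hr).toAlgebra
  haveI : FaithfulSMul (R ⧸ y'.asIdeal) (Y'.residueField y') := (faithfulSMul_iff_algebraMap_injective _ _).2
    ((injective_iff_map_eq_zero _).2 fun z hz => by
      obtain ⟨z, rfl⟩ := Ideal.Quotient.mk_surjective z
      exact Ideal.Quotient.eq_zero_iff_mem.2 (hker.le hz))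
  haveI : IsFractionRing (R ⧸ y'.asIdeal) (Y'.residueField y') := IsFractionRing.of_field _ _ fun z => by
    obtain ⟨r, t, hrt⟩ := hgen z
    exact ⟨Ideal.Quotient.mk _ r, Ideal.Quotient.mk _ t, hrt⟩
  haveI : IsScalarTower k (R ⧸ y'.asIdeal) (Y'.residueField y') := .of_algebraMap_eq' (congrArg CommRingCat.Hom.hom
    (Spec.map_injective (show Spec.map (CommRingCat.ofHom (resHom aR y')) =
        Spec.map (CommRingCat.ofHom (algebraMap k O) ≫ CommRingCat.ofHom (algebraMap O R) ≫ CommRingCat.ofHom φ) by
      rw [specMap_resHom, Spec.map_comp, Spec.map_comp, Category.assoc, hkO, hφ]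
      rfl)))
  rw [DimFormulaLib.trdeg_eq_of_isFractionRing (k := k) (D := R ⧸ y'.asIdeal) (K := Y'.residueField y'), hy'] at hlow
  have h2 : ty ≤ d₀ + a := by exact_mod_cast hlow
  omega

end Groth.Agent.S8545
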