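import Groth.Statements.S8552
import Groth.Agent.ArtinVanLib.FinDimMain

set_option autoImplicit false
set_option backward.isDefEq.respectTransparency false
set_option backward.isDefEq.respectTransparency.types false
set_option linter.style.haveILetI false
universe u
open CategoryTheory CategoryTheory.Limits AlgebraicGeometry Opposite
open EtCd

namespace Groth.Agent.S8552

/-- (ii) ⇒ (i): let X be a Noetherian scheme, ℓ a prime, and φ an ℕ-valued function on schemes over X
which, on integral schemes finite over X, is monotone for X-morphisms and strictly monotone for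
closed immersions that are not isomorphisms (for a general Y finite over X one puts φ(Y) = the sup
of φ over its irreducible components with reduced structure). If H^q(Y, Z/ℓ) = 0 for every integral
Y finite over X and every q > φ(Y), then for every Y finite over X, every abelian ℓ-torsion sheaf F
on Y and every q with q > φ(Z) for all integral closed subschemes Z of Y inside the closure of the
support of F, one has H^q(Y, F) = 0. (The converse implication is the special case F = Z/ℓ.) -/
theorem result (X : Scheme.{u}) [IsNoetherian X] (ℓ : ℕ) (hℓ : ℓ.Prime)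
    (φ : ∀ (Y : Scheme.{u}), (Y ⟶ X) → ℕ)
    (hmono : ∀ (Y₁ Y₂ : Scheme.{u}) (g₁ : Y₁ ⟶ X) (g₂ : Y₂ ⟶ X) [IsIntegral Y₁] [IsIntegral Y₂] [IsFinite g₁] [IsFinite g₂]
      (m : Y₁ ⟶ Y₂), m ≫ g₂ = g₁ → φ Y₁ g₁ ≤ φ Y₂ g₂ ∧ (IsClosedImmersion m → ¬ IsIso m → φ Y₁ g₁ < φ Y₂ g₂))
    (h2 : ∀ (Y : Scheme.{u}) (g : Y ⟶ X) [IsIntegral Y] [IsFinite g] (q : ℕ), φ Y g < q →
      Subsingleton (EtCoh.H Y (EtCoh.const Y (ZMod ℓ)) q))
    (Y : Scheme.{u}) (g : Y ⟶ X) [IsFinite g] (F : EtCoh.Ab Y) (hF : EtAcyc.IsLTorsion {ℓ} F) (q : ℕ)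
    (hq : ∀ (Z : Scheme.{u}) (c : Z ⟶ Y) [IsIntegral Z] [IsClosedImmersion c],
      Set.range c.base ⊆ closure (EtPBC.supp F) → φ Z (c ≫ g) < q) :
    Subsingleton (EtCoh.H Y F q) := by
  haveI : Fact ℓ.Prime := ⟨hℓ⟩
  let C : TopologicalSpace.Closeds Y := ⟨closure (EtPBC.supp F), isClosed_closure⟩
  let i := (Scheme.IdealSheafData.vanishingIdeal C).subschemeι
  have hr : Set.range i = closure (EtPBC.supp F) := Groth.Agent.ArtinVanLib.FinDim.range_vanishingIdeal C
  refine Groth.Agent.ArtinVanLib.FinDim.subsingleton_H_of_supp_range i F (hr ▸ subset_closure) q ?_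
  refine Groth.Agent.ArtinVanLib.FinDim.vanAt_all ℓ hmono h2 q _ (i ≫ g) (fun Z c _ _ => ?_) _
    (Groth.Agent.AcycCompLib.isLTorsion_pull i hF) q le_rfl
  rw [← Category.assoc]
  refine hq Z (c ≫ i) ?_
  rw [← hr]
  rintro _ ⟨z, rfl⟩
  exact ⟨c z, (Scheme.Hom.comp_apply _ _ _).symm⟩

end Groth.Agent.S8552
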