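import Groth.Statements.S8553
import Groth.Agent.HenLineLib.GeomFibreRing
import Groth.Agent.HenLineLib.CoverTrivial
import Groth.Agent.HenLineLib.PrincipalCover
-- import your own Groth.Agent.* helpers here

set_option autoImplicit false
universe u
open CategoryTheory CategoryTheory.Limits AlgebraicGeometry Opposite
open EtAcyc

namespace Groth.Agent.S8553

/-- Let A be a henselian local ring which is excellent and normal (an integrally closed domain), with
fraction field K and residue characteristic p; let B = A{t} be a henselization of the local ring of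
A[t] at the ideal generated by the maximal ideal of A and t, φ : A → B the structure map, Z = Spec B
×_{Spec A} Spec K the generic fibre, Ω a separably closed field over K, Z̄ = Spec B ×_{Spec A} Spec
Ω the geometric generic fibre and b : Z̄ → Z the induced morphism. Let Z' → Z be a finite etale
cover, principal under a finite group G whose order is prime to p. Then Z' is induced by a Galois
extension of K; precisely, the pullback of Z' along b is a trivial cover of Z̄: it is Z̄-isomorphic
to a finite disjoint union of copies of Z̄. -/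
theorem result (A : Type u) [CommRing A] [IsDomain A]
    [IsIntegrallyClosed A] [HenselianLocalRing A] (hA : EGA4.IsExcellent A)
    (P : Ideal (Polynomial A)) (hP : P = (IsLocalRing.maximalIdeal A).map Polynomial.C ⊔ Ideal.span {Polynomial.X})
    [P.IsPrime] (B : Type u) [CommRing B] [IsLocalRing B] [Algebra (Localization.AtPrime P) B]
    [IsLocalHom (algebraMap (Localization.AtPrime P) B)] [Hensel.IsHenselization (Localization.AtPrime P) B]
    (φ : A →+* B) (hφ : φ = (algebraMap (Localization.AtPrime P) B).comp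
      ((algebraMap (Polynomial A) (Localization.AtPrime P)).comp Polynomial.C))
    (K Ω : Type u) [Field K] [Algebra A K] [IsFractionRing A K] [Field Ω] [IsSepClosed Ω] [Algebra K Ω]
    (G : Type u) [Group G] [Finite G] (hG : ∀ ℓ : ℕ, ℓ.Prime → ℓ ∣ Nat.card G → (ℓ : IsLocalRing.ResidueField A) ≠ 0)
    (Z' : FEt.Cat (pullback (Spec.map (CommRingCat.ofHom φ)) (Spec.map (CommRingCat.ofHom (algebraMap A K)))))
    (ρ : G →* Aut Z') (hZ' : SGA1t.IsPrincipal G Z' ρ)
    (Zb : Scheme.{u}) (b₁ : Zb ⟶ Spec (CommRingCat.of B)) (b₂ : Zb ⟶ Spec (CommRingCat.of Ω))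
    (hZb : IsPullback b₁ b₂ (Spec.map (CommRingCat.ofHom φ))
      (Spec.map (CommRingCat.ofHom (algebraMap K Ω)) ≫ Spec.map (CommRingCat.ofHom (algebraMap A K))))
    (b : Zb ⟶ pullback (Spec.map (CommRingCat.ofHom φ)) (Spec.map (CommRingCat.ofHom (algebraMap A K))))
    (hb₁ : b ≫ pullback.fst (Spec.map (CommRingCat.ofHom φ)) (Spec.map (CommRingCat.ofHom (algebraMap A K))) = b₁)
    (hb₂ : b ≫ pullback.snd (Spec.map (CommRingCat.ofHom φ)) (Spec.map (CommRingCat.ofHom (algebraMap A K))) =
      b₂ ≫ Spec.map (CommRingCat.ofHom (algebraMap K Ω))) :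
    ∃ (n : ℕ) (e : ((FEt.restrict b).obj Z').left ≅ ∐ fun _ : Fin n => Zb),
      e.hom ≫ Sigma.desc (fun _ => 𝟙 Zb) = ((FEt.restrict b).obj Z').hom := by
  subst hφ
  let Kb := AlgebraicClosure K
  let bot : Ideal A := ⊥
  haveI : bot.IsPrime := Ideal.isPrime_bot
  have hinj : Function.Injective (algebraMap A Kb) := by
    rw [IsScalarTower.algebraMap_eq A K Kb]
    exact (algebraMap K Kb).injective.comp (IsFractionRing.injective A K)
  letI : Algebra bot.ResidueField Kb := (Ideal.ResidueField.lift bot (algebraMap A Kb) bot_le fun a ha => by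
    rw [Submonoid.mem_comap, IsUnit.mem_submonoid_iff, isUnit_iff_ne_zero, map_ne_zero_iff _ hinj]
    exact fun h => ha (h ▸ zero_mem _)).toAlgebra
  haveI : IsScalarTower A bot.ResidueField Kb :=
    IsScalarTower.of_algebraMap_eq fun a => (Ideal.ResidueField.lift_algebraMap _ _ _ _ a).symm
  haveI : FaithfulSMul A K := (faithfulSMul_iff_algebraMap_injective A K).2 (IsFractionRing.injective A K)
  haveI : Algebra.IsAlgebraic A K := IsLocalization.isAlgebraic K (nonZeroDivisors A)
  haveI : Algebra.IsAlgebraic A Kb := Algebra.IsAlgebraic.trans A K Kb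
  haveI : Algebra.IsAlgebraic bot.ResidueField Kb := ⟨fun z =>
    (Algebra.IsAlgebraic.isAlgebraic (R := A) z).extendScalars fun x y h => hinj (by
      rw [IsScalarTower.algebraMap_apply A bot.ResidueField Kb, IsScalarTower.algebraMap_apply A bot.ResidueField Kb, h])⟩
  obtain ⟨L, _, _, _, l, k, F, _, _, _, h, hgalois⟩ := HenLineLib.exists_geomFibre_ring A P hP B Kb bot
  have hp := isPullback_SpecMap_of_isPushout _ _ _ _ h
  have hAKb : Spec.map (CommRingCat.ofHom (algebraMap A Kb)) =
      Spec.map (CommRingCat.ofHom (algebraMap K Kb)) ≫ Spec.map (CommRingCat.ofHom (algebraMap A K)) := by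
    rw [← Spec.map_comp, ← CommRingCat.ofHom_comp, ← IsScalarTower.algebraMap_eq]
  let c : Spec (CommRingCat.of L) ⟶ pullback _ _ := pullback.lift (f := Spec.map (CommRingCat.ofHom
      ((algebraMap (Localization.AtPrime P) B).comp
        ((algebraMap (Polynomial A) (Localization.AtPrime P)).comp Polynomial.C))))
    (g := Spec.map (CommRingCat.ofHom (algebraMap A K))) (Spec.map (CommRingCat.ofHom l))
    (Spec.map (CommRingCat.ofHom k) ≫ Spec.map (CommRingCat.ofHom (algebraMap K Kb))) (by
      rw [Category.assoc, ← hAKb]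
      exact hp.w)
  haveI : IsFinite Z'.hom := Z'.prop.1
  haveI : AlgebraicGeometry.Etale Z'.hom := Z'.prop.2
  haveI : Surjective Z'.hom := ⟨hZ'.1⟩
  let act : G → (pullback Z'.hom c ⟶ pullback Z'.hom c) := fun g =>
    pullback.lift (pullback.fst Z'.hom c ≫ (ρ g).inv.left) (pullback.snd Z'.hom c) (by
      rw [Category.assoc, MorphismProperty.Over.w]
      exact pullback.condition)
  have act_fst : ∀ g, act g ≫ pullback.fst Z'.hom c = pullback.fst Z'.hom c ≫ (ρ g).inv.left :=
    fun g => pullback.lift_fst _ _ _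
  have act_snd : ∀ g, act g ≫ pullback.snd Z'.hom c = pullback.snd Z'.hom c := fun g => pullback.lift_snd _ _ _
  obtain ⟨sL, hsL⟩ := HenLineLib.exists_section_of_galois (F := F) (pullback.snd Z'.hom c) G act act_snd
    (fun g g' => pullback.hom_ext (by
      rw [act_fst, Category.assoc, act_fst, ← Category.assoc, act_fst, Category.assoc, map_mul]
      rfl) (by rw [act_snd, Category.assoc, act_snd, act_snd]))
    (fun Ω₀ _ _ s s' hss => by
      obtain ⟨g, hg, -⟩ := hZ'.2 Ω₀ ((s ≫ pullback.snd Z'.hom c) ≫ c)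
        ⟨s ≫ pullback.fst Z'.hom c, by rw [Category.assoc, pullback.condition, Category.assoc]⟩
        ⟨s' ≫ pullback.fst Z'.hom c, by rw [hss, Category.assoc, pullback.condition, Category.assoc]⟩
      refine ⟨g⁻¹, pullback.hom_ext ?_ ?_⟩
      · rw [Category.assoc, act_fst, map_inv]
        exact (Category.assoc _ _ _).symm.trans (congrArg Subtype.val hg)
      · rw [Category.assoc, act_snd, hss])
    (hgalois _ fun p hp hd => (IsLocalRing.residue_ne_zero_iff_isUnit _).1 (by simpa using hG p hp hd))
  -- descend the section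
  let Ω' := AlgebraicClosure Ω
  let i := Spec.map (CommRingCat.ofHom (algebraMap Ω Ω'))
  haveI : IsScalarTower K Ω Ω' := inferInstance
  let j : Kb →ₐ[K] Ω' := IsAlgClosed.lift
  have hj : Spec.map (CommRingCat.ofHom j.toRingHom) ≫ Spec.map (CommRingCat.ofHom (algebraMap K Kb)) =
      i ≫ Spec.map (CommRingCat.ofHom (algebraMap K Ω)) := by
    rw [← Spec.map_comp, ← Spec.map_comp, ← CommRingCat.ofHom_comp, ← CommRingCat.ofHom_comp,
      ← IsScalarTower.algebraMap_eq]
    exact congrArg (fun f => Spec.map (CommRingCat.ofHom f)) j.comp_algebraMap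
  let p := pullback.fst b₂ i
  let r := pullback.snd b₂ i
  have hpr : p ≫ b₂ = r ≫ i := pullback.condition
  let d : pullback b₂ i ⟶ Spec (CommRingCat.of L) := hp.lift (p ≫ b₁) (r ≫ Spec.map (CommRingCat.ofHom j.toRingHom)) (by
    have e1 := reassoc_of% hj
    have e2 := reassoc_of% hpr
    rw [Category.assoc, Category.assoc, hAKb, e1, ← e2]
    exact congrArg (p ≫ ·) hZb.w)
  have hdc : d ≫ c = p ≫ b := pullback.hom_ext
    (by rw [Category.assoc, pullback.lift_fst, hp.lift_fst, Category.assoc, hb₁])
    (by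
      rw [Category.assoc, pullback.lift_snd, ← Category.assoc, hp.lift_snd, Category.assoc, hj, ← Category.assoc,
        ← hpr, Category.assoc, Category.assoc, hb₂])
  haveI : Flat i := (HasRingHomProperty.Spec_iff (P := @Flat)).2 (RingHom.flat_algebraMap_iff.2 inferInstance)
  haveI : Surjective i := ⟨fun x => ⟨⟨⊥, Ideal.isPrime_bot⟩, Subsingleton.elim (α := PrimeSpectrum Ω) _ _⟩⟩
  haveI : IsIntegralHom i := by
    rw [IsIntegralHom.SpecMap_iff]
    exact fun x => Algebra.IsIntegral.isIntegral (R := Ω) x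
  haveI : UniversallyInjective i := GeomIrred.universallyInjective_specMap Ω Ω'
  haveI : UniversallyInjective p := MorphismProperty.pullback_fst _ _ inferInstance
  haveI : IsIntegralHom p := MorphismProperty.pullback_fst _ _ inferInstance
  haveI : Flat p := MorphismProperty.pullback_fst _ _ inferInstance
  haveI : Surjective p := MorphismProperty.pullback_fst _ _ inferInstance
  obtain ⟨s0, hs0⟩ := HenLineLib.exists_section_of_radicial p (pullback.snd Z'.hom b)
    (pullback.lift (d ≫ sL ≫ pullback.fst Z'.hom c) p (by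
      rw [Category.assoc, Category.assoc, pullback.condition, ← Category.assoc sL, hsL, Category.id_comp, hdc]))
    (pullback.lift_snd _ _ _)
  refine HenLineLib.trivial_of_section G ((FEt.restrict b).obj Z') (((FEt.restrict b).mapAut Z').comp ρ) ?_ s0 hs0
  intro Ω₀ _ _ ξ s t
  let m : G → (pullback Z'.hom b ⟶ pullback Z'.hom b) := fun g => ((FEt.restrict b).map (ρ g).hom).left
  have e1 : ∀ g : G, m g ≫ pullback.fst Z'.hom b = pullback.fst Z'.hom b ≫ (ρ g).hom.left :=
    fun g => pullback.lift_fst _ _ _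
  have e2 : ∀ g : G, m g ≫ pullback.snd Z'.hom b = pullback.snd Z'.hom b := fun g => pullback.lift_snd _ _ _
  let down : FEt.fiberObj ξ ((FEt.restrict b).obj Z') → FEt.fiberObj (ξ ≫ b) Z' := fun x =>
    ⟨(x.1 : Spec (CommRingCat.of Ω₀) ⟶ pullback Z'.hom b) ≫ pullback.fst Z'.hom b,
      (Category.assoc _ _ _).trans ((congrArg ((x.1 : Spec (CommRingCat.of Ω₀) ⟶ pullback Z'.hom b) ≫ ·)
        pullback.condition).trans ((Category.assoc _ _ _).symm.trans (congrArg (· ≫ b) x.2)))⟩
  let s₁ : Spec (CommRingCat.of Ω₀) ⟶ pullback Z'.hom b := s.1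
  let t₁ : Spec (CommRingCat.of Ω₀) ⟶ pullback Z'.hom b := t.1
  have hs₁ : s₁ ≫ pullback.snd Z'.hom b = ξ := s.2
  have ht₁ : t₁ ≫ pullback.snd Z'.hom b = ξ := t.2
  have key : ∀ g : G, (FEt.fiber ξ).map ((((FEt.restrict b).mapAut Z').comp ρ) g).hom s = t ↔
      (FEt.fiber (ξ ≫ b)).map (ρ g).hom (down s) = down t := fun g => by
    constructor <;> intro hh
    · refine Subtype.ext ?_
      have h1 : s₁ ≫ m g = t₁ := congrArg Subtype.val hh
      show (s₁ ≫ pullback.fst Z'.hom b) ≫ (ρ g).hom.left = t₁ ≫ pullback.fst Z'.hom b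
      rw [← h1, Category.assoc, Category.assoc, e1]
    · refine Subtype.ext ?_
      have h1 : (s₁ ≫ pullback.fst Z'.hom b) ≫ (ρ g).hom.left = t₁ ≫ pullback.fst Z'.hom b :=
        congrArg Subtype.val hh
      show s₁ ≫ m g = t₁
      refine pullback.hom_ext ?_ ?_
      · rw [Category.assoc, e1, ← Category.assoc]; exact h1
      · rw [Category.assoc, e2, hs₁, ht₁]
  simpa only [key] using hZ'.2 Ω₀ (ξ ≫ b) (down s) (down t)

end Groth.Agent.S8553
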