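import Groth.Statements.S8554
import Groth.Agent.GodementLib.Basic
import Mathlib.AlgebraicGeometry.Sites.EtalePoint
import Mathlib.Algebra.Category.Grp.FilteredColimits
import Mathlib.CategoryTheory.Category.ULift

set_option autoImplicit false
set_option backward.isDefEq.respectTransparency false
set_option backward.isDefEq.respectTransparency.types false
universe u
open CategoryTheory CategoryTheory.Limits AlgebraicGeometry Opposite
open NonAbH1

namespace Groth.Agent.S8554

/-- Every sheaf of groups F on the small etale site of a scheme X embeds into a sheaf of groups G with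
vanishing first non-abelian cohomology on every etale X-scheme: there are G and a morphism u : F ⟶
G, injective on sections over every object of the site, such that for every etale X-scheme U every
torsor under the restriction of G to the induced site over U is trivial, i.e. H¹(U, G) is reduced to
its base point. (The published statement adds that the first higher direct images of G along any
morphism of schemes then vanish as pointed sheaves; that clause follows from this one and is not
stated here.) -/
theorem result {X : Scheme.{u}}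
    (F : Sheaf X.smallEtaleTopology GrpCat.{u + 1}) :
    ∃ (G : Sheaf X.smallEtaleTopology GrpCat.{u + 1}) (φ : F ⟶ G),
      (∀ U : X.Etaleᵒᵖ, Function.Injective (φ.hom.app U)) ∧
      ∀ (U : X.Etale) (P : NonAbH1.Torsor (G.over U)), P.IsTrivial := by
  classical
  let sp : ∀ x : X, Spec (CommRingCat.of (SeparableClosure (X.residueField x))) ⟶ X := fun x => (Scheme.SpecToEquivOfField (SeparableClosure (X.residueField x)) X).2
    ⟨x, CommRingCat.ofHom (algebraMap (X.residueField x) _)⟩
  let Φ : X → GrothendieckTopology.Point.{u} X.smallEtaleTopology := fun x => Scheme.pointSmallEtale (sp x)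
  have hcons := Scheme.isConservativeFamilyOfPoints_pointSmallEtale' X
  haveI hfil : ∀ x : X, IsFiltered (AsSmall.{u + 1} (Φ x).fiber.Elementsᵒᵖ) := fun x =>
    IsFiltered.of_equivalence AsSmall.equiv
  let D : ∀ x : X, AsSmall.{u + 1} (Φ x).fiber.Elementsᵒᵖ ⥤ GrpCat.{u + 1} := fun x =>
    AsSmall.down ⋙ (CategoryOfElements.π (Φ x).fiber).op ⋙ F.obj
  let M : X → GrpCat.{u + 1} := fun x => (GrpCat.FilteredColimits.colimitCocone.{u + 1, u + 1} (D x)).pt
  let germ : ∀ (x : X) (U : X.Etale), (Φ x).fiber.obj U → (F.obj.obj (op U) ⟶ M x) := fun x U y =>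
    (GrpCat.FilteredColimits.colimitCocone.{u + 1, u + 1} (D x)).ι.app (AsSmall.up.obj (op ⟨U, y⟩))
  have hgerm : ∀ (x : X) ⦃U V : X.Etale⦄ (f : V ⟶ U) (y : (Φ x).fiber.obj V),
      F.obj.map f.op ≫ germ x V y = germ x U ((Φ x).fiber.map f y) := fun x U V f y =>
    (GrpCat.FilteredColimits.colimitCocone.{u + 1, u + 1} (D x)).w
      (AsSmall.up.map (CategoryOfElements.homMk ⟨V, y⟩ ⟨U, (Φ x).fiber.map f y⟩ f rfl).op)
  refine ⟨GodementLib.god.{u, u + 1, u, u + 1} Φ M, GodementLib.toGod.{u, u + 1, u, u + 1} Φ M F germ hgerm, ?_, ?_⟩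
  · intro U a b hab
    let R : Sieve U.unop := Presheaf.equalizerSieve (F := F.obj) a b
    have hR : R ∈ X.smallEtaleTopology U.unop := by
      let W := fun p : Σ (V : X.Etale), {f : V ⟶ U.unop // R f} => p.1
      let fW : ∀ p, W p ⟶ U.unop := fun p => p.2.1
      have hmem : Sieve.ofArrows W fW ∈ X.smallEtaleTopology U.unop := by
        rw [hcons.jointly_reflect_ofArrows_mem_of_small]
        rintro ⟨Ψ, ⟨x⟩⟩ y
        have h := congrFun (congrFun hab x) y
        obtain ⟨j, k, hk⟩ := (Types.FilteredColimit.isColimit_eq_iff'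
          (isColimitOfPreserves (forget GrpCat.{u + 1})
            (GrpCat.FilteredColimits.colimitCoconeIsColimit.{u + 1, u + 1} (D x)))
          (i := AsSmall.up.obj (op ⟨U.unop, y⟩)) a b).1 h
        obtain ⟨⟨⟨V, v⟩⟩⟩ := j
        obtain ⟨⟨f, hv⟩⟩ := k
        have hf : R f := hk
        exact ⟨⟨V, f, hf⟩, v, hv⟩
      refine GrothendieckTopology.superset_covering _ ?_ hmem
      rintro V f ⟨Z, g, _, ⟨p⟩, rfl⟩
      exact R.downward_closed p.2.2 g
    have hF := (isSheaf_iff_isSheaf_of_type _ _).1
      ((sheafCompose X.smallEtaleTopology (forget GrpCat.{u + 1})).obj F).property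
    exact (hF R hR).isSeparatedFor.ext fun V f hf => hf
  · intro U P
    exact GodementLib.isTrivial_of_hasSection P.toGSheaf P.isTorsor.1
      (GodementLib.hasSection_of_torsor.{u, u + 1, u, u + 1} Φ M P.toGSheaf P.isTorsor)

end Groth.Agent.S8554
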