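import Groth.Statements.S8558
-- import your own Groth.Agent.* helpers here

set_option autoImplicit false
set_option backward.isDefEq.respectTransparency false
set_option maxHeartbeats 800000
set_option synthInstance.maxHeartbeats 200000
universe u
open CategoryTheory CategoryTheory.Limits AlgebraicGeometry Opposite
open NonAbH1

namespace Groth.Agent.S8558

open NonAbH1 in
lemma cl_eq_iff {C : Type*} [Category C] {J : GrothendieckTopology C} {G : Sheaf J GrpCat.{u}}
    (P Q : NonAbH1.Torsor G) : P.cl = Q.cl ↔ Nonempty (P.toGSheaf ≅ Q.toGSheaf) := by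
  constructor
  · intro h
    have h' := Quot.eqvGen_exact h
    clear h
    induction h' with
    | rel _ _ h => exact h
    | refl x => exact ⟨Iso.refl _⟩
    | symm _ _ _ h => exact h.map Iso.symm
    | trans _ _ _ _ _ h₁ h₂ => exact ⟨h₁.some ≪≫ h₂.some⟩
  · exact fun h => Quot.sound h

open NonAbH1 in
lemma trivial_iso_of_section {C : Type*} [Category C] {J : GrothendieckTopology C}
    {F : Sheaf J GrpCat.{u}} [J.HasSheafCompose (forget GrpCat.{u})] (T : GSheaf F)
    (hT : T.IsPseudoTorsor) (s : T.P.obj.sections) : Nonempty (GSheaf.trivial F ≅ T) := by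
  let η : (GSheaf.uSh F).obj ⟶ T.P.obj :=
    { app := fun U => TypeCat.ofHom fun f => T.smul (GSheaf.toGrp f) (s.1 U)
      naturality := fun U V a => by
        ext f
        change T.smul (F.obj.map a (GSheaf.toGrp f)) (s.1 V) = T.P.obj.map a (T.smul _ (s.1 U))
        rw [T.map_smul, s.2 a] }
  have hb : ∀ U, Function.Bijective (η.app U) := fun U => by
    refine ⟨fun f f' h => ?_, fun p => ?_⟩
    · exact (hT U (s.1 U) _).unique (y₁ := GSheaf.toGrp f) (y₂ := GSheaf.toGrp f') rfl h.symm
    · obtain ⟨f, hf, -⟩ := hT U (s.1 U) p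
      exact ⟨GSheaf.ofGrp f, hf⟩
  haveI : ∀ U, IsIso (η.app U) := fun U => (isIso_iff_bijective _).mpr (hb U)
  haveI : IsIso η := NatIso.isIso_of_isIso_app η
  let ψ : (GSheaf.uSh F) ≅ T.P := (fullyFaithfulSheafToPresheaf J (Type u)).preimageIso (asIso η)
  have hψ : ψ.hom.hom = η := rfl
  refine ⟨⟨⟨ψ.hom, fun g p => ?_⟩, ⟨ψ.inv, fun {U} g p => ?_⟩, ?_, ?_⟩⟩
  · exact T.mul_smul g (GSheaf.toGrp p) (s.1 _)
  · apply (hb U).1
    have e : ∀ q, η.app U (ψ.inv.hom.app U q) = q := fun q => by
      have := congrArg (fun φ => φ.hom.app U q) ψ.inv_hom_id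
      exact this
    refine (e _).trans ?_
    exact ((T.mul_smul g _ (s.1 U)).trans (congrArg (T.smul g) (e p))).symm
  · exact GSheaf.hom_ext ψ.hom_inv_id
  · exact GSheaf.hom_ext ψ.inv_hom_id


/-- Exactness of the non-abelian cohomology sequence at the global sections of the quotient: let u : F ⟶
G be a morphism of sheaves of groups on the small etale site of a scheme X that is injective on
sections over every object, and let the G-sheaf Q with its equivariant map π from G (acting on
itself by left translation) be the quotient G/F (π identifies two sections of G exactly when they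
differ by right multiplication by a section of F, and is locally surjective). If the F-torsor T is
the sheaf of local liftings of a global section c of Q to G (F acting by f · g = g u(f)⁻¹), then the
class of T in H¹(X, F) is the base point, ∂c = 1, if and only if c is the image under π of a global
section of G. -/
theorem result {X : Scheme.{u}} {F G : Sheaf X.smallEtaleTopology GrpCat.{u + 1}}
    (u : F ⟶ G) (hu : ∀ U : X.Etaleᵒᵖ, Function.Injective (u.hom.app U))
    {Q : NonAbH1.GSheaf G} (π : NonAbH1.GSheaf.trivial.{u + 1, u, u + 1} G ⟶ Q) (hQ : NonAbH1.GSheaf.IsQuotientBy.{u + 1, u, u + 1} u π)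
    (c : Q.P.obj.sections) (T : NonAbH1.Torsor F) (hT : NonAbH1.GSheaf.IsFibreOver.{u + 1, u, u + 1} u π c T.toGSheaf) :
    T.cl = 1 ↔
      ∃ g : (NonAbH1.GSheaf.uSh.{u + 1, u, u + 1} G).obj.sections, ∀ U : X.Etaleᵒᵖ, π.hom.hom.app U (g.1 U) = c.1 U := by
  obtain ⟨ι, hinj, hfib, -⟩ := hT
  change T.cl = (NonAbH1.trivialTorsor F).cl ↔ _
  rw [cl_eq_iff]
  constructor
  · rintro ⟨e⟩
    let t : ∀ U, T.P.obj.obj U := fun U => e.inv.hom.hom.app U (show (NonAbH1.trivialTorsor F).P.obj.obj U from (1 : F.obj.obj U))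
    have ht : ∀ {U V} (a : U ⟶ V), T.P.obj.map a (t U) = t V := by
      intro U V a
      have := (ConcreteCategory.congr_hom (e.inv.hom.hom.naturality a)
        (show (NonAbH1.trivialTorsor F).P.obj.obj U from (1 : F.obj.obj U))).symm
      refine Eq.trans this ?_
      change e.inv.hom.hom.app V (F.obj.map a (1 : F.obj.obj U)) = _
      exact congrArg (e.inv.hom.hom.app V) (map_one (F.obj.map a).hom)
    refine ⟨⟨fun U => ι.hom.app U (t U), fun {U V} a => ?_⟩, fun U => ?_⟩
    · refine ((ConcreteCategory.congr_hom (ι.hom.naturality a) (t U)).symm).trans ?_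
      exact congrArg (ι.hom.app V) (ht a)
    · exact (hfib U _).mp ⟨t U, rfl⟩
  · rintro ⟨g, hg⟩
    choose t ht using fun U => (hfib U (g.1 U : G.obj.obj U)).mpr (hg U)
    refine ⟨(trivial_iso_of_section T.toGSheaf T.isTorsor.1 ⟨t, fun {U V} a => hinj V ?_⟩).some.symm⟩
    refine (ConcreteCategory.congr_hom (ι.hom.naturality a) (t U)).trans ?_
    change (NonAbH1.GSheaf.uSh G).obj.map a (ι.hom.app U (t U)) = _
    exact ((congrArg ((NonAbH1.GSheaf.uSh G).obj.map a) (ht U : ι.hom.app U (t U) = g.1 U)).trans (g.2 a)).trans (ht V : ι.hom.app V (t V) = g.1 V).symm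

end Groth.Agent.S8558
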