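import Groth.Statements.S8562
-- import your own Groth.Agent.* helpers here

set_option autoImplicit false
set_option backward.isDefEq.respectTransparency false
set_option maxHeartbeats 800000
set_option synthInstance.maxHeartbeats 200000
universe u
open CategoryTheory CategoryTheory.Limits AlgebraicGeometry Opposite
open NonAbH1

namespace Groth.Agent.S8562

/-- Exactness of the sequence 0 → H¹(Y, f_*F) → H¹(X, F) → H⁰(Y, R¹f_*F) at its middle term, in terms of
torsors: let f : X ⟶ Y be a morphism of schemes, F a sheaf of groups on the small etale site of X,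
f_*F its direct image on Y (sections over an etale Y-scheme V are the sections of F over X ×_Y V),
and Q an F-torsor. Then Q is the image of a class in H¹(Y, f_*F), in the sense that there are an
f_*F-torsor P on Y and a morphism of sheaves of sets from P to the direct image of the sheaf
underlying Q which is equivariant for the actions of f_*F, if and only if the class of Q is locally
trivial over Y: there is a jointly surjective family of etale Y-schemes Y_i such that Q has a
section over every X ×_Y Y_i. -/
theorem result {X Y : Scheme.{u}} (f : X ⟶ Y)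
    [EtCoh.BCCont f] (F : Sheaf X.smallEtaleTopology GrpCat.{u + 1}) (Q : NonAbH1.Torsor F) :
    (∃ (P : NonAbH1.Torsor (((EtCoh.bc f).sheafPushforwardContinuous GrpCat.{u + 1}
        Y.smallEtaleTopology X.smallEtaleTopology).obj F))
      (φ : P.P ⟶ ((EtCoh.bc f).sheafPushforwardContinuous (Type (u + 1))
        Y.smallEtaleTopology X.smallEtaleTopology).obj Q.P),
      ∀ (V : Y.Etaleᵒᵖ) (g : F.obj.obj (op ((EtCoh.bc f).obj V.unop))) (s : P.P.obj.obj V),
        φ.hom.app V (P.smul g s) = Q.smul g (φ.hom.app V s)) ↔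
    ∃ (ι : Type u) (V : ι → Y.Etale), EtCoh.Covers V ∧
      ∀ i, Nonempty (Q.P.obj.obj (op ((EtCoh.bc f).obj (V i)))) := by
  constructor
  · rintro ⟨P, φ, -⟩
    obtain ⟨R, hR, hne⟩ := P.isTorsor.2 (Scheme.Etale.mk (𝟙 Y))
    obtain ⟨α, T, g, rfl⟩ := R.exists_eq_ofArrows
    have hcov := (Scheme.ofArrows_mem_smallEtaleTopology_iff g).1 hR
    choose i v hv using fun y : Y => Set.mem_iUnion.1
      ((hcov.symm ▸ Set.mem_univ y : y ∈ ⋃ i, Set.range (g i).left))
    refine ⟨Y, fun y => T (i y), fun y => ⟨y, v y, ?_⟩, fun y => ?_⟩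
    · rw [← MorphismProperty.Over.w (g (i y))]
      exact hv y
    · exact ⟨φ.hom.app _ (hne _ (Sieve.ofArrows_mk _ _ (i y))).some⟩
  · rintro ⟨ι, V, hV, hQ⟩
    let P : NonAbH1.GSheaf (((EtCoh.bc f).sheafPushforwardContinuous GrpCat.{u + 1}
        Y.smallEtaleTopology X.smallEtaleTopology).obj F) :=
      { P := ((EtCoh.bc f).sheafPushforwardContinuous (Type (u + 1))
          Y.smallEtaleTopology X.smallEtaleTopology).obj Q.P
        smul := fun {U} g s => Q.smul g s
        one_smul := fun {U} s => Q.one_smul s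
        mul_smul := fun {U} g h s => Q.mul_smul g h s
        map_smul := fun {U U'} a g s => Q.map_smul ((EtCoh.bc f).op.map a) g s }
    refine ⟨⟨P, fun U p q => Q.isTorsor.1 _ p q, fun U => ?_⟩, 𝟙 _, fun U g s => rfl⟩
    haveI : Etale U.hom := U.prop
    haveI : ∀ i, Etale (V i).hom := fun i => (V i).prop
    let W : ι → Y.Etale := fun i => Scheme.Etale.mk (pullback.fst U.hom (V i).hom ≫ U.hom)
    let p : ∀ i, W i ⟶ U := fun i => MorphismProperty.Over.homMk (pullback.fst U.hom (V i).hom) rfl
    let q : ∀ i, W i ⟶ V i := fun i =>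
      MorphismProperty.Over.homMk (pullback.snd U.hom (V i).hom) pullback.condition.symm
    refine ⟨Sieve.ofArrows W p, (Scheme.ofArrows_mem_smallEtaleTopology_iff p).2 ?_, ?_⟩
    · refine Set.eq_univ_of_forall fun x => ?_
      obtain ⟨i, y, hy⟩ := hV (U.hom x)
      obtain ⟨z, hz, -⟩ := Scheme.Pullback.exists_preimage_pullback (f := U.hom) (g := (V i).hom) x y hy.symm
      exact Set.mem_iUnion.2 ⟨i, z, hz⟩
    · intro W' a ha
      obtain ⟨i, r, rfl⟩ := (Sieve.mem_ofArrows_iff W p a).1 ha
      exact ⟨Q.P.obj.map ((EtCoh.bc f).map (r ≫ q i)).op (hQ i).some⟩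

end Groth.Agent.S8562
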