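import Groth.Statements.S8564
import Groth.Agent.SiteBase.CechCriterion

set_option autoImplicit false
open CategoryTheory CategoryTheory.Limits
universe u
open CohCx

namespace Groth.Agent.S8564

open CategoryTheory Limits


/-- Let (F_t) be a family of abelian sheaves on a small site, indexed by a small set, such that each F_t
is totally acyclic, i.e. H^p(K, F_t) = 0 for every sheaf of sets K and every p > 0. Then the product
sheaf of the family is totally acyclic. (The published statement is for modules over a ringed topos;
this row is the case of abelian sheaves.) -/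
theorem result {C : Type u} [SmallCategory C] (J : GrothendieckTopology C)
    {T : Type u} (F : T → Sheaf J AddCommGrpCat.{u}) (hF : ∀ t, CohCx.IsTotallyAcyclic (F t)) :
    CohCx.IsTotallyAcyclic (∏ᶜ F) := by
  refine SiteBase.isTotallyAcyclic_of_cechExact ?_
  intro K' K f hf n φ hφ
  haveI := hf
  choose ψ hψ using fun t => (SiteBase.isZero_cechNerveCx_homology_iff f (F t) n).1 (SiteBase.cech_acyclic f (hF t) n)
    (φ ≫ Pi.π F t) (by rw [← Category.assoc, hφ, zero_comp])
  exact ⟨Pi.lift ψ, Pi.hom_ext _ _ fun t => by rw [Category.assoc, Pi.lift_π, hψ t]⟩

end Groth.Agent.S8564
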