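import Groth.Statements.S8567
import Groth.Agent.TopPullLib.Basic
import Mathlib.Topology.Sheaves.Flasque
import Mathlib.Topology.Separation.Regular

set_option autoImplicit false
open CategoryTheory TopologicalSpace Opposite
universe u
open CohTop

namespace Groth.Agent.S8567

set_option backward.isDefEq.respectTransparency false

open CategoryTheory.Limits TopCat Groth.Agent.TopPullLib

namespace S8567Aux

variable {X : TopCat.{u}} (F : TopCat.Sheaf AddCommGrpCat.{u} X)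

/-- Two compact sets whose points can be separated have disjoint neighbourhoods. -/
lemma separated {S T : Set X} (hS : IsCompact S) (hT : IsCompact T)
    (h : ∀ x ∈ S, ∀ y ∈ T, ∃ U V : Set X, IsOpen U ∧ IsOpen V ∧ x ∈ U ∧ y ∈ V ∧ Disjoint U V) :
    ∃ U V : Set X, IsOpen U ∧ IsOpen V ∧ S ⊆ U ∧ T ⊆ V ∧ Disjoint U V := by
  have h1 : ∀ x ∈ S, ∃ U V : Set X, IsOpen U ∧ IsOpen V ∧ x ∈ U ∧ T ⊆ V ∧ Disjoint U V := by
    intro x hx
    choose U V hU hV hxU hyV hd using fun y : ↥T => h x hx y y.2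
    obtain ⟨t, ht⟩ := hT.elim_finite_subcover V hV (fun y hy => Set.mem_iUnion.2 ⟨⟨y, hy⟩, hyV _⟩)
    refine ⟨⋂ y ∈ t, U y, ⋃ y ∈ t, V y, t.finite_toSet.isOpen_biInter (fun y _ => hU y),
      isOpen_biUnion (fun y _ => hV y), Set.mem_iInter₂.2 (fun y _ => hxU y), ht, ?_⟩
    rw [Set.disjoint_iUnion₂_right]
    exact fun y hy => (hd y).mono_left (Set.biInter_subset_of_mem hy)
  choose U V hU hV hxU hTV hd using fun x : ↥S => h1 x x.2
  obtain ⟨t, ht⟩ := hS.elim_finite_subcover U hU (fun y hy => Set.mem_iUnion.2 ⟨⟨y, hy⟩, hxU _⟩)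
  refine ⟨⋃ y ∈ t, U y, ⋂ y ∈ t, V y, isOpen_biUnion (fun y _ => hU y),
    t.finite_toSet.isOpen_biInter (fun y _ => hV y), ht, Set.subset_iInter₂ (fun y _ => hTV y), ?_⟩
  rw [Set.disjoint_iUnion₂_left]
  exact fun y hy => (hd y).mono_right (Set.biInter_subset_of_mem hy)

/-- Elements of a stalk. -/
abbrev St (x : X) : Type u := ↥(TopCat.Presheaf.stalk (C := AddCommGrpCat.{u}) F.obj x : AddCommGrpCat.{u})

/-- A germ family is realised by a section on a neighbourhood of the set. -/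
def Extends {A : Type u} (i : A → X) (e : ∀ a, St F (i a)) (S : Set A) : Prop :=
  ∃ (W : Opens X) (t : F.obj.obj (op W)), ∀ a ∈ S, ∃ h : i a ∈ W,
    TopCat.Presheaf.germ F.obj W (i a) h t = e a

variable {A : Type u} [TopologicalSpace A] {i : A → X} (hi : Continuous i)
  {e : ∀ a, St F (i a)}

include hi in
lemma extends_union
    (hsep : ∀ a b : A, i a ≠ i b → ∃ U V : Set X, IsOpen U ∧ IsOpen V ∧ i a ∈ U ∧ i b ∈ V ∧ Disjoint U V)
    (hinj : Function.Injective i) [CompactSpace A]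
    {S T : Set A} (hS : IsClosed S) (hT : IsClosed T)
    (h₁ : Extends F i e S) (h₂ : Extends F i e T) : Extends F i e (S ∪ T) := by
  obtain ⟨W₁, t₁, ht₁⟩ := h₁
  obtain ⟨W₂, t₂, ht₂⟩ := h₂
  let V : Set X := {x | ∃ (h₁ : x ∈ W₁) (h₂ : x ∈ W₂),
    TopCat.Presheaf.germ F.obj W₁ x h₁ t₁ = TopCat.Presheaf.germ F.obj W₂ x h₂ t₂}
  have hV : IsOpen V := by
    rw [isOpen_iff_forall_mem_open]
    rintro x ⟨h₁, h₂, hx⟩
    obtain ⟨O, hxO, i₁, i₂, hO⟩ := TopCat.Presheaf.germ_eq F.obj x h₁ h₂ t₁ t₂ hx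
    refine ⟨O, fun y hy => ⟨i₁.le hy, i₂.le hy, ?_⟩, O.2, hxO⟩
    rw [← TopCat.Presheaf.germ_res_apply F.obj i₁ y hy, hO, TopCat.Presheaf.germ_res_apply]
  have hST : ∀ a ∈ S ∩ T, i a ∈ V := fun a ha => by
    obtain ⟨h₁, e₁⟩ := ht₁ a ha.1
    obtain ⟨h₂, e₂⟩ := ht₂ a ha.2
    exact ⟨h₁, h₂, e₁.trans e₂.symm⟩
  obtain ⟨O₁, O₂, hO₁, hO₂, hSO, hTO, hd⟩ := separated
    (((hS.inter (hV.isClosed_compl.preimage hi))).isCompact.image hi)
    (((hT.inter (hV.isClosed_compl.preimage hi))).isCompact.image hi) (by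
      rintro _ ⟨a, ha, rfl⟩ _ ⟨b, hb, rfl⟩
      refine hsep a b (fun h => ha.2 ?_)
      obtain rfl := hinj h
      exact hST a ⟨ha.1, hb.1⟩)
  let O : Fin 3 → Opens X := ![⟨O₁, hO₁⟩ ⊓ W₁, ⟨O₂, hO₂⟩ ⊓ W₂, ⟨V, hV⟩]
  let sf : ∀ k, F.obj.obj (op (O k)) := Fin.cases
    (F.obj.map (homOfLE (inf_le_right : ⟨O₁, hO₁⟩ ⊓ W₁ ≤ W₁)).op t₁)
    (Fin.cases (F.obj.map (homOfLE (inf_le_right : ⟨O₂, hO₂⟩ ⊓ W₂ ≤ W₂)).op t₂)
      (Fin.cases (F.obj.map (homOfLE (show (⟨V, hV⟩ : Opens X) ≤ W₁ from fun x hx => hx.choose)).op t₁)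
        (fun k => k.elim0)))
  have hg : ∀ k x (h : x ∈ O k), ∃ h₁ : x ∈ W₁ ⊔ W₂,
      (x ∈ O₁ → x ∉ O₂) ∧
      ((∃ h' : x ∈ W₁, (x ∈ O₁ ∨ x ∈ V) ∧
          TopCat.Presheaf.germ F.obj (O k) x h (sf k) = TopCat.Presheaf.germ F.obj W₁ x h' t₁) ∨
       (∃ h' : x ∈ W₂, x ∈ O₂ ∧
          TopCat.Presheaf.germ F.obj (O k) x h (sf k) = TopCat.Presheaf.germ F.obj W₂ x h' t₂)) := by
    intro k x h
    have hd' : x ∈ O₁ → x ∉ O₂ := fun a b => Set.disjoint_left.1 hd a b
    fin_cases k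
    · exact ⟨le_sup_left (b := W₂) h.2, hd', Or.inl ⟨h.2, Or.inl h.1,
        TopCat.Presheaf.germ_res_apply F.obj _ x h t₁⟩⟩
    · exact ⟨le_sup_right (a := W₁) h.2, hd', Or.inr ⟨h.2, h.1,
        TopCat.Presheaf.germ_res_apply F.obj _ x h t₂⟩⟩
    · exact ⟨le_sup_left (b := W₂) h.choose, hd', Or.inl ⟨h.choose, Or.inr h,
        TopCat.Presheaf.germ_res_apply F.obj _ x h t₁⟩⟩
  obtain ⟨t, ht, -⟩ := TopCat.Sheaf.existsUnique_gluing F O sf (fun k l => by
    refine TopCat.Presheaf.section_ext F _ _ _ (fun x hx => ?_)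
    rw [TopCat.Presheaf.germ_res_apply, TopCat.Presheaf.germ_res_apply]
    obtain ⟨-, hd', hk⟩ := hg k x hx.1
    obtain ⟨-, -, hl⟩ := hg l x hx.2
    rcases hk with ⟨a, a', ea⟩ | ⟨a, a', ea⟩ <;> rcases hl with ⟨b, b', eb⟩ | ⟨b, b', eb⟩
    · rw [ea, eb]
    · rw [ea, eb]
      rcases a' with a' | ⟨_, _, h⟩
      · exact absurd b' (hd' a')
      · exact h
    · rw [ea, eb]
      rcases b' with b' | ⟨_, _, h⟩
      · exact absurd a' (hd' b')
      · exact h.symm
    · rw [ea, eb])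
  refine ⟨_, t, fun a ha => ?_⟩
  have hmem : ∀ k (h : i a ∈ O k), TopCat.Presheaf.germ F.obj (iSup O) (i a)
      (Opens.mem_iSup.2 ⟨k, h⟩) t = TopCat.Presheaf.germ F.obj (O k) (i a) h (sf k) := fun k h => by
    rw [← ht k, TopCat.Presheaf.germ_res_apply]
  by_cases hVa : i a ∈ V
  · refine ⟨Opens.mem_iSup.2 ⟨2, hVa⟩, (hmem 2 hVa).trans ?_⟩
    refine (TopCat.Presheaf.germ_res_apply F.obj _ _ hVa t₁).trans ?_
    rcases ha with ha | ha
    · obtain ⟨_, e₁⟩ := ht₁ a ha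
      exact e₁
    · obtain ⟨h₁, h₂, h⟩ := hVa
      obtain ⟨_, e₂⟩ := ht₂ a ha
      exact h.trans e₂
  · rcases ha with ha | ha
    · obtain ⟨h₁, e₁⟩ := ht₁ a ha
      have h : i a ∈ O 0 := ⟨hSO ⟨a, ⟨ha, hVa⟩, rfl⟩, h₁⟩
      exact ⟨Opens.mem_iSup.2 ⟨0, h⟩, (hmem 0 h).trans
        ((TopCat.Presheaf.germ_res_apply F.obj _ _ h t₁).trans e₁)⟩
    · obtain ⟨h₂, e₂⟩ := ht₂ a ha
      have h : i a ∈ O 1 := ⟨hTO ⟨a, ⟨ha, hVa⟩, rfl⟩, h₂⟩
      exact ⟨Opens.mem_iSup.2 ⟨1, h⟩, (hmem 1 h).trans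
        ((TopCat.Presheaf.germ_res_apply F.obj _ _ h t₂).trans e₂)⟩

include hi in
lemma extends_univ [CompactSpace A] [RegularSpace A] (hinj : Function.Injective i)
    (hsep : ∀ a b : A, i a ≠ i b → ∃ U V : Set X, IsOpen U ∧ IsOpen V ∧ i a ∈ U ∧ i b ∈ V ∧ Disjoint U V)
    (hloc : ∀ a, ∃ (O : Set A), O ∈ nhds a ∧ Extends F i e O) : Extends F i e Set.univ := by
  have h : Extends F i e (closure Set.univ) := by
    refine IsCompact.induction_on (p := fun S => Extends F i e (closure S)) isCompact_univ ?_ ?_ ?_ ?_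
    · rw [closure_empty]
      exact ⟨⊥, 0, fun a ha => absurd ha (Set.notMem_empty a)⟩
    · rintro S T hST ⟨W, t, ht⟩
      exact ⟨W, t, fun a ha => ht a (closure_mono hST ha)⟩
    · intro S T hS hT
      rw [closure_union]
      exact extends_union F hi hsep hinj isClosed_closure isClosed_closure hS hT
    · intro a _
      obtain ⟨O, hO, W, t, ht⟩ := hloc a
      obtain ⟨C, hC, hCc, hCO⟩ := exists_mem_nhds_isClosed_subset hO
      exact ⟨C, mem_nhdsWithin_of_mem_nhds hC, W, t,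
        fun b hb => ht b (hCO (hCc.closure_subset_iff.2 subset_rfl hb))⟩
  rwa [closure_univ] at h

end S8567Aux

open S8567Aux

/-- Let X be a topological space, K ⊆ X a compact subset such that any two distinct points of K have
disjoint neighbourhoods in X, and F a flasque abelian sheaf on X. Then the inverse image F|K of F on
the subspace K is a soft sheaf: for every closed subset A of K, every section of (F|K)|A over A is
the restriction of a section of F|K over K (the restriction map is the unit of the inverse image /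
direct image adjunction for the inclusion A → K, taken on global sections). -/
theorem result {X : TopCat.{u}} {K : Set X} (hK : IsCompact K)
    (hsep : ∀ x ∈ K, ∀ y ∈ K, x ≠ y → ∃ U V : Set X, IsOpen U ∧ IsOpen V ∧ x ∈ U ∧ y ∈ V ∧ Disjoint U V)
    (F : CohTop.Ab X) [TopCat.Sheaf.IsFlasque F] {A : Set K} (hA : IsClosed A) :
    Function.Surjective
      ((((TopCat.Sheaf.pullbackPushforwardAdjunction AddCommGrpCat.{u}
        (TopCat.ofHom ⟨((↑) : A → K), continuous_subtype_val⟩ : TopCat.of A ⟶ TopCat.of K)).unit.app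
        ((CohTop.pull (TopCat.ofHom ⟨((↑) : K → X), continuous_subtype_val⟩ : TopCat.of K ⟶ X)).obj F)).hom.app
        (op ⊤)).hom) := by
  classical
  intro s
  let i : TopCat.of K ⟶ X := TopCat.ofHom ⟨((↑) : K → X), continuous_subtype_val⟩
  let j : TopCat.of A ⟶ TopCat.of K := TopCat.ofHom ⟨((↑) : A → K), continuous_subtype_val⟩
  let G := (CohTop.pull i).obj F
  let H := (TopCat.Sheaf.pullback AddCommGrpCat.{u} j).obj G
  change H.obj.obj (op ((Opens.map j).obj ⊤)) at s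
  haveI : T2Space K := ⟨fun x y hxy => by
    obtain ⟨U, V, hU, hV, hx, hy, hd⟩ := hsep x x.2 y y.2 (fun h => hxy (Subtype.ext h))
    exact ⟨Subtype.val ⁻¹' U, Subtype.val ⁻¹' V, hU.preimage continuous_subtype_val,
      hV.preimage continuous_subtype_val, hx, hy, hd.preimage _⟩⟩
  haveI : CompactSpace K := isCompact_iff_compactSpace.1 hK
  haveI : CompactSpace A := isCompact_iff_compactSpace.1 hA.isCompact
  let Φ : ∀ a : TopCat.of A, TopCat.Presheaf.stalk F.obj (i (j a)) ⟶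
      TopCat.Presheaf.stalk H.obj a := fun a => pullStalk i F (j a) ≫ pullStalk j G a
  have hΦ : ∀ a, Function.Bijective (Φ a) := fun a =>
    (pullStalk_bijective j G a).comp (pullStalk_bijective i F (j a))
  have hΦg : ∀ (W : Opens X) (t : F.obj.obj (op W)) (a : TopCat.of A) (h : i (j a) ∈ W),
      Φ a (TopCat.Presheaf.germ F.obj W (i (j a)) h t) =
        TopCat.Presheaf.germ H.obj ((Opens.map j).obj ((Opens.map i).obj W)) a h
          (pullSection j G (pullSection i F t)) := fun W t a h =>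
    (congrArg (pullStalk j G a) (pullStalk_germ i F (j a) h t)).trans
      (pullStalk_germ j G a (U := (Opens.map i).obj W) h (pullSection i F t))
  choose e he using fun a => (hΦ a).2
    (TopCat.Presheaf.germ H.obj ((Opens.map j).obj ⊤) a True.intro s)
  obtain ⟨W, t, ht⟩ := extends_univ F (i := fun a : A => (a.1.1 : X)) (e := e)
    (continuous_subtype_val.comp continuous_subtype_val)
    (Subtype.val_injective.comp Subtype.val_injective)
    (fun a b hab => hsep _ a.1.2 _ b.1.2 hab) (fun a => by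
      obtain ⟨U, hU, t, ht⟩ := TopCat.Presheaf.germ_exist F.obj (e a)
      have h := ((congrArg (Φ a) ht).trans (he a)).symm
      rw [hΦg U t a hU] at h
      obtain ⟨O, hO, i₁, i₂, hO'⟩ := TopCat.Presheaf.germ_eq H.obj (U := (Opens.map j).obj ⊤) a (show a ∈ (Opens.map j).obj ⊤ from True.intro) hU s
        (pullSection j G (pullSection i F t)) h
      refine ⟨O, O.2.mem_nhds hO, U, t, fun b hb => ⟨i₂.le hb, ?_⟩⟩
      apply (hΦ b).1
      rw [he b]
      refine (hΦg U t b (i₂.le hb)).trans ?_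
      rw [← TopCat.Presheaf.germ_res_apply H.obj i₁ b hb, hO', TopCat.Presheaf.germ_res_apply])
  obtain ⟨T, hT⟩ := (AddCommGrpCat.epi_iff_surjective
    (F.obj.map (homOfLE (le_top : W ≤ ⊤)).op)).1 (TopCat.Presheaf.IsFlasque.epi (homOfLE le_top).op) t
  refine ⟨pullSection i F T, ?_⟩
  change pullSection j G (pullSection i F T) = s
  refine TopCat.Presheaf.section_ext H _ _ _ (fun a ha => ?_)
  obtain ⟨haW, ea⟩ := ht a (Set.mem_univ _)
  refine Eq.trans ?_ (he a)
  rw [← ea, ← hT, TopCat.Presheaf.germ_res_apply]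
  exact (hΦg ⊤ T a True.intro).symm

end Groth.Agent.S8567
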