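import Groth.Statements.S8573
import Groth.Agent.PBCCons.Desc.SpSeq
import Groth.Agent.PBCCons.Desc.PhCover
import Groth.Agent.PBCLib.Final
set_option backward.isDefEq.respectTransparency false
set_option backward.isDefEq.respectTransparency.types false
set_option maxHeartbeats 800000
-- import your own Groth.Agent.* helpers here

set_option autoImplicit false
open CategoryTheory CategoryTheory.Limits AlgebraicGeometry
universe u
open EtDesc

namespace Groth.Agent.S8573

/-- Let f : X → Y be a proper surjective morphism of schemes and F a torsion abelian sheaf on the small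
etale site of Y. Then f is of universal cohomological descent for torsion sheaves, and the descent
spectral sequence reads, in existence form: there is a bounded spectral sequence of abelian groups
starting at page one with E_1^{p,q} isomorphic, for p, q ≥ 0, to the etale cohomology group H^q(X_p,
F|X_p), where X_p is the (p+1)-fold fibre product of X over Y and F|X_p the inverse image of F along
its projection to Y, and zero otherwise, together with abutment data whose filtrations are finite on
H^n(Y_et, F) for n ≥ 0 (zero for n < 0). (The E_1 identifications and the abutment isomorphisms are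
asserted to exist only; the differentials are not part of this statement. The published statement is
descent for sheaves of Z/n-modules, n ≥ 1, and, for f viewed among quasi-compact quasi-separated
morphisms, for torsion abelian sheaves; this row takes a torsion abelian sheaf.) -/
theorem result {X Y : Scheme.{u}} (f : X ⟶ Y) [IsProper f] [Surjective f]
    (F : EtCoh.Ab Y) (hF : EtCoh.IsTorsion F) :
    ∃ (E : CohomologicalSpectralSequence AddCommGrpCat.{u + 1} 1)
      (a : SpSeq.Abutment E (fun n : ℤ =>
        if 0 ≤ n then AddCommGrpCat.of (EtCoh.H Y F n.toNat) else AddCommGrpCat.of PUnit.{u + 2})),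
      (∀ n, a.IsFinite n) ∧ SpSeq.IsBounded E ∧
      ∀ p q : ℤ, Nonempty ((E.page 1 le_rfl).X (p, q) ≅
        (if 0 ≤ p ∧ 0 ≤ q then
          AddCommGrpCat.of (EtCoh.H (widePullback Y (fun _ : Fin (p.toNat + 1) => X) (fun _ => f))
            ((EtCoh.pull (WidePullback.base (fun _ : Fin (p.toNat + 1) => f) :
              widePullback Y (fun _ : Fin (p.toNat + 1) => X) (fun _ => f) ⟶ Y)).obj F) q.toNat)
         else AddCommGrpCat.of PUnit.{u + 2})) := by
  have hPBC : Groth.Agent.PBCCons.PBC.{u} := fun g hg => @Groth.Agent.PBCLib.bcAll_of_proper _ _ g hg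
  have hac := fun m => Groth.Agent.PBCCons.acycUpTo Groth.Agent.PBCCons.fine_ph hPBC Groth.Agent.PBCCons.phLike_ph m
  haveI : ∀ S, BigSite.AEtCont HTop.phPrecoverage.{u} S := fun S => BigSite.aEtCont_of_le Groth.Agent.PBCCons.fine_ph.le S
  haveI : ∀ S, BigSite.EpsCont Scheme.etalePrecoverage HTop.phPrecoverage.{u} S := fun S =>
    Groth.Agent.PBCCons.Fine.epsCont Groth.Agent.PBCCons.fine_ph S
  let I := InjectiveResolution.of ((Groth.Agent.PBCCons.piK HTop.phPrecoverage Y).obj F)
  exact (Groth.Agent.PBCCons.Desc.augBicx f (Groth.Agent.PBCCons.Desc.cov_ph f) I).exists_spectralSequence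
    (fun p q => AddCommGrpCat.of (EtCoh.H (widePullback Y (fun _ : Fin (p + 1) => X) (fun _ => f))
      ((EtCoh.pull (WidePullback.base (fun _ : Fin (p + 1) => f) :
        widePullback Y (fun _ : Fin (p + 1) => X) (fun _ => f) ⟶ Y)).obj F) q))
    (fun n => AddCommGrpCat.of (EtCoh.H Y F n))
    (fun p q => Groth.Agent.PBCCons.Desc.nonempty_homology_secCx_iso (Groth.Agent.EtSecDescLib.pow f p)
      Groth.Agent.PBCCons.fine_ph hac F hF I q)
    (fun n => Groth.Agent.PBCCons.Desc.nonempty_homology_secCx_base_iso Groth.Agent.PBCCons.fine_ph hac F hF I n)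

end Groth.Agent.S8573
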