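import Groth.Statements.S8578
import Groth.Agent.PBCCons.Desc.HyperSpSeq
import Groth.Agent.PBCLib.Final
set_option backward.isDefEq.respectTransparency false
set_option backward.isDefEq.respectTransparency.types false
set_option maxHeartbeats 1600000
-- import your own Groth.Agent.* helpers here

set_option autoImplicit false
open CategoryTheory CategoryTheory.Limits AlgebraicGeometry Opposite
universe u
open EtDesc

namespace Groth.Agent.S8578

/-- In the setting of schemes, proper surjective morphisms and torsion etale sheaves, let Y be a scheme
and K a simplicial object of schemes over Y which is a proper hypercovering: K_0 → Y and, for every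
n, the canonical morphism K_{n+1} → (cosk_n K)_{n+1} (n-coskeleton computed in schemes over Y,
assumed to exist as a right Kan extension) are proper and surjective. Then K is of cohomological
descent over Y for torsion sheaves, and the descent spectral sequence reads, in existence form: for
every torsion abelian sheaf F on the small etale site of Y there is a bounded spectral sequence of
abelian groups starting at page one with E_1^{p,q} isomorphic, for p, q ≥ 0, to H^q_et(K_p, F|K_p)
(inverse image along K_p → Y) and zero otherwise, together with abutment data whose filtrations are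
finite on H^n(Y_et, F) for n ≥ 0 (zero for n < 0). (The E_1 identifications and the abutment
isomorphisms are asserted to exist only; the differentials are not part of this statement.) -/
theorem result {Y : Scheme.{u}}
    [∀ (n : ℕ) (G : (SimplexCategory.Truncated n)ᵒᵖ ⥤ Over Y),
      (SimplexCategory.Truncated.inclusion n).op.HasRightKanExtension G]
    (K : SimplicialObject (Over Y))
    [IsProper (K.obj (op (SimplexCategory.mk 0))).hom] [Surjective (K.obj (op (SimplexCategory.mk 0))).hom]
    (hK : ∀ n : ℕ, IsProper (((SimplicialObject.coskAdj n).unit.app K).app (op (SimplexCategory.mk (n + 1)))).left ∧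
      Surjective (((SimplicialObject.coskAdj n).unit.app K).app (op (SimplexCategory.mk (n + 1)))).left)
    (F : EtCoh.Ab Y) (hF : EtCoh.IsTorsion F) :
    ∃ (E : CohomologicalSpectralSequence AddCommGrpCat.{u + 1} 1)
      (a : SpSeq.Abutment E (fun n : ℤ =>
        if 0 ≤ n then AddCommGrpCat.of (EtCoh.H Y F n.toNat) else AddCommGrpCat.of PUnit.{u + 2})),
      (∀ n, a.IsFinite n) ∧ SpSeq.IsBounded E ∧
      ∀ p q : ℤ, Nonempty ((E.page 1 le_rfl).X (p, q) ≅
        (if 0 ≤ p ∧ 0 ≤ q then
          AddCommGrpCat.of (EtCoh.H (K.obj (op (SimplexCategory.mk p.toNat))).left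
            ((EtCoh.pull (K.obj (op (SimplexCategory.mk p.toNat))).hom).obj F) q.toNat)
         else AddCommGrpCat.of PUnit.{u + 2})) := by
  have hPBC : Groth.Agent.PBCCons.PBC.{u} := fun g hg => @Groth.Agent.PBCLib.bcAll_of_proper _ _ g hg
  have hac := fun m => Groth.Agent.PBCCons.acycUpTo Groth.Agent.PBCCons.fine_ph hPBC Groth.Agent.PBCCons.phLike_ph m
  haveI : ∀ S, BigSite.AEtCont HTop.phPrecoverage.{u} S := fun S => BigSite.aEtCont_of_le Groth.Agent.PBCCons.fine_ph.le S
  haveI : ∀ S, BigSite.EpsCont Scheme.etalePrecoverage HTop.phPrecoverage.{u} S := fun S =>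
    Groth.Agent.PBCCons.Fine.epsCont Groth.Agent.PBCCons.fine_ph S
  have hcov : Groth.Agent.PBCCons.Desc.Hyper.IsHyperCov (QuotSh.J HTop.phPrecoverage Y) K (Over.mkIdTerminal (X := Y)) := by
    refine ⟨?_, fun n => ?_⟩
    · haveI : IsProper ((Over.mkIdTerminal (X := Y)).from (K.obj (op (SimplexCategory.mk 0)))).left := by
        rw [show ((Over.mkIdTerminal (X := Y)).from (K.obj (op (SimplexCategory.mk 0)))).left =
          (K.obj (op (SimplexCategory.mk 0))).hom from
          (Category.comp_id _).symm.trans (Over.w ((Over.mkIdTerminal (X := Y)).from (K.obj (op (SimplexCategory.mk 0)))))]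
        infer_instance
      haveI : Surjective ((Over.mkIdTerminal (X := Y)).from (K.obj (op (SimplexCategory.mk 0)))).left := by
        rw [show ((Over.mkIdTerminal (X := Y)).from (K.obj (op (SimplexCategory.mk 0)))).left =
          (K.obj (op (SimplexCategory.mk 0))).hom from
          (Category.comp_id _).symm.trans (Over.w ((Over.mkIdTerminal (X := Y)).from (K.obj (op (SimplexCategory.mk 0)))))]
        infer_instance
      exact Groth.Agent.PBCCons.Desc.generate_mem_ph _
    · haveI := (hK n).1
      haveI := (hK n).2
      exact Groth.Agent.PBCCons.Desc.generate_mem_ph _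
  let I := InjectiveResolution.of ((Groth.Agent.PBCCons.piK HTop.phPrecoverage Y).obj F)
  exact (Groth.Agent.PBCCons.Desc.hypBicx K hcov I).exists_spectralSequence
    (fun p q => AddCommGrpCat.of (EtCoh.H (K.obj (op (SimplexCategory.mk p))).left
      ((EtCoh.pull (K.obj (op (SimplexCategory.mk p))).hom).obj F) q))
    (fun n => AddCommGrpCat.of (EtCoh.H Y F n))
    (fun p q => Groth.Agent.PBCCons.Desc.nonempty_homology_secCx_iso (K.obj (op (SimplexCategory.mk p)))
      Groth.Agent.PBCCons.fine_ph hac F hF I q)
    (fun n => Groth.Agent.PBCCons.Desc.nonempty_homology_secCx_base_iso Groth.Agent.PBCCons.fine_ph hac F hF I n)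

end Groth.Agent.S8578
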