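import Groth.Statements.S8586
import Mathlib

set_option autoImplicit false
universe u
open CAlg

namespace Groth.Agent.S8586
/-- A system of parameters. -/
def IsSop {A : Type u} [CommRing A] [IsLocalRing A] {d : ℕ} (u : Fin d → A) : Prop :=
  (∀ i, u i ∈ IsLocalRing.maximalIdeal A) ∧
    IsLocalRing.maximalIdeal A ≤ (Ideal.span (Set.range u)).radical

/-- Changing one coordinate. -/
def Step {A : Type u} [CommRing A] [IsLocalRing A] {d : ℕ} (u v : Fin d → A) : Prop :=
  IsSop u ∧ IsSop v ∧ ∃ i, ∀ i', i' ≠ i → u i' = v i'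

theorem exists_update {A : Type u} [CommRing A] [IsLocalRing A] [IsNoetherianRing A] {d : ℕ}
    (hd : ringKrullDim A = d) (u v : Fin d → A) (hu : IsSop u) (hv : IsSop v) (k : Fin d) :
    ∃ w, IsSop (Function.update u k w) ∧ IsSop (Function.update v k w) := by
  classical
  set m := IsLocalRing.maximalIdeal A
  let I : (Fin d → A) → Ideal A := fun a => Ideal.span ((Finset.univ.erase k).image a : Set A)
  have hmnot : ∀ a, m ∉ (I a).minimalPrimes := by
    intro a hm
    have h1 := Ideal.height_le_card_of_mem_minimalPrimes_span_finset hm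
    have h2 : ((m.height : ℕ∞) : WithBot ℕ∞) = d := IsLocalRing.maximalIdeal_height_eq_ringKrullDim.trans hd
    have h3 : m.height = (d : ℕ∞) := by exact_mod_cast h2
    rw [h3] at h1
    have h4 : ((Finset.univ.erase k).image a).card < d := by
      refine lt_of_le_of_lt Finset.card_image_le ?_
      rw [Finset.card_erase_of_mem (Finset.mem_univ k), Finset.card_univ, Fintype.card_fin]
      have := k.pos
      omega
    have h5 : d ≤ ((Finset.univ.erase k).image a).card := by exact_mod_cast h1
    omega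
  have hfin := ((I u).finite_minimalPrimes_of_isNoetherianRing).union
    ((I v).finite_minimalPrimes_of_isNoetherianRing)
  obtain ⟨w, hwm, hw⟩ : ∃ w ∈ m, ∀ P ∈ hfin.toFinset, w ∉ P := by
    have hnot : ¬ (m : Set A) ⊆ ⋃ P ∈ (↑hfin.toFinset : Set (Ideal A)), (P : Set A) := by
      rw [Ideal.subset_union_prime ⊤ ⊤ fun P hP _ _ => by
        rcases hfin.mem_toFinset.mp hP with h | h <;> exact h.isPrime]
      rintro ⟨P, hP, hle⟩
      have hP' : P.IsPrime := by rcases hfin.mem_toFinset.mp hP with h | h <;> exact h.isPrime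
      have he : P = m := ((IsLocalRing.maximalIdeal.isMaximal A).eq_of_le hP'.ne_top hle).symm
      rcases hfin.mem_toFinset.mp hP with h | h
      · exact hmnot u (he ▸ h)
      · exact hmnot v (he ▸ h)
    obtain ⟨w, hwm, hw⟩ := Set.not_subset.mp hnot
    exact ⟨w, hwm, fun P hP hwP => hw (Set.mem_iUnion₂.mpr ⟨P, hP, hwP⟩)⟩
  have key : ∀ a, IsSop a → (∀ P ∈ (I a).minimalPrimes, w ∉ P) →
      IsSop (Function.update a k w) := by
    intro a ha hwa
    refine ⟨fun i => ?_, ?_⟩
    · rcases eq_or_ne i k with rfl | hik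
      · rwa [Function.update_self]
      · rw [Function.update_of_ne hik]; exact ha.1 i
    rw [Ideal.radical_eq_sInf]
    refine le_sInf fun P ⟨hP, hPp⟩ => ?_
    have hIP : I a ≤ P := Ideal.span_le.mpr fun z hz => by
      obtain ⟨i, hi, rfl⟩ := Finset.mem_image.mp (Finset.mem_coe.mp hz)
      exact hP (Ideal.subset_span ⟨i, Function.update_of_ne (Finset.ne_of_mem_erase hi) _ _⟩)
    have hwP : w ∈ P := hP (Ideal.subset_span ⟨k, Function.update_self _ _ _⟩)
    obtain ⟨Q, hQ, hQP⟩ := Ideal.exists_minimalPrimes_le (J := P) hIP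
    haveI := hQ.isPrime
    haveI := hPp
    by_contra hne
    have hPm : P ≤ m := IsLocalRing.le_maximalIdeal hPp.ne_top
    have hQm : Q ≤ m := IsLocalRing.le_maximalIdeal hQ.isPrime.ne_top
    have hmin : m ∈ (Q ⊔ Ideal.span {a k}).minimalPrimes := by
      refine ⟨⟨inferInstance, sup_le hQm ((Ideal.span_singleton_le_iff_mem _).mpr (ha.1 k))⟩, ?_⟩
      intro J hJ hJm
      refine ha.2.trans (hJ.1.radical_le_iff.mpr (Ideal.span_le.mpr ?_))
      rintro _ ⟨i, rfl⟩
      rcases eq_or_ne i k with rfl | hik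
      · exact hJ.2 (Ideal.mem_sup_right (Ideal.mem_span_singleton_self _))
      · exact hJ.2 (Ideal.mem_sup_left (hQ.1.2 (Ideal.subset_span (Finset.mem_coe.mpr
          (Finset.mem_image_of_mem a (Finset.mem_erase.mpr ⟨hik, Finset.mem_univ i⟩))))))
    have h1 := Ideal.map_height_le_one_of_mem_minimalPrimes hmin
    let π := Ideal.Quotient.mk Q
    have hprime : ∀ J : Ideal A, J.IsPrime → Q ≤ J → (J.map π).IsPrime := fun J _ hJ =>
      Ideal.map_isPrime_of_surjective Ideal.Quotient.mk_surjective (by rw [Ideal.mk_ker]; exact hJ)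
    haveI := hprime P hPp hQP
    haveI := hprime m inferInstance hQm
    have hback : ∀ J : Ideal A, Q ≤ J → (J.map π).comap π = J := fun J hJ => by
      rw [Ideal.comap_map_of_surjective _ Ideal.Quotient.mk_surjective, ← RingHom.ker_eq_comap_bot,
        Ideal.mk_ker, sup_eq_left.mpr hJ]
    have hlt1 : (⊥ : Ideal (A ⧸ Q)) < P.map π := by
      refine lt_of_le_of_ne bot_le fun he => hwa Q hQ ?_
      have h2 := hback P hQP
      rw [← he, ← RingHom.ker_eq_comap_bot, Ideal.mk_ker] at h2
      exact h2 ▸ hwP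
    have hlt2 : P.map π < m.map π := by
      refine lt_of_le_of_ne (Ideal.map_mono hPm) fun he => hne ?_
      have h2 := hback P hQP
      rw [he, hback m hQm] at h2
      exact h2.le
    have h3 := Ideal.height_strict_mono_of_isPrime hlt1
    have h4 := Ideal.height_strict_mono_of_isPrime hlt2
    have h5 : (P.map π).height < 1 := lt_of_lt_of_le h4 h1
    rw [ENat.lt_one_iff_eq_zero] at h5
    rw [h5] at h3
    exact not_lt_bot h3
  exact ⟨w, key u hu fun P hP => hw P (hfin.mem_toFinset.mpr (Or.inl hP)),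
    key v hv fun P hP => hw P (hfin.mem_toFinset.mpr (Or.inr hP))⟩

theorem connected {A : Type u} [CommRing A] [IsLocalRing A] [IsNoetherianRing A] {d : ℕ}
    (hd : ringKrullDim A = d) : ∀ (n : ℕ), n ≤ d → ∀ (u v : Fin d → A), IsSop u → IsSop v →
      (∀ i : Fin d, n ≤ i → u i = v i) → Relation.ReflTransGen Step u v
  | 0, _, u, v, hu, hv, h => (funext fun i => h i (Nat.zero_le _) : u = v) ▸ .refl
  | n + 1, hn, u, v, hu, hv, h => by
    obtain ⟨w, hwu, hwv⟩ := exists_update hd u v hu hv ⟨n, hn⟩
    have hrest : ∀ i : Fin d, n ≤ i → Function.update u ⟨n, hn⟩ w i = Function.update v ⟨n, hn⟩ w i := by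
      intro i hi
      rcases eq_or_ne i ⟨n, hn⟩ with rfl | hne
      · rw [Function.update_self, Function.update_self]
      · rw [Function.update_of_ne hne, Function.update_of_ne hne]
        refine h i ?_
        have : (i : ℕ) ≠ n := fun he => hne (Fin.ext he)
        omega
    exact (Relation.ReflTransGen.single ⟨hu, hwu, ⟨n, hn⟩, fun i hi => (Function.update_of_ne hi _ _).symm⟩).trans
      ((connected hd n (Nat.le_of_succ_le hn) _ _ hwu hwv hrest).trans
        (Relation.ReflTransGen.single ⟨hwv, hv, ⟨n, hn⟩, fun i hi => Function.update_of_ne hi _ _⟩))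



/-- Suppose A is a Cohen–Macaulay local ring whose Krull dimension is d, and consider two systems of
parameters u = (u_1, ..., u_d) and v = (v_1, ..., v_d) of A (that is, d-tuples of elements of the
maximal ideal m such that the ideal they generate has radical m). Then one can find a finite
sequence w_0 = u, w_1, ..., w_m = v, each term a system of parameters of A, where w_{k+1} arises
from w_k by altering just one coordinate. -/
theorem result (A : Type u) [CommRing A] [LocCoh.IsCohenMacaulayLocalRing A]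
    (d : ℕ) (hd : ringKrullDim A = d) (u v : Fin d → A)
    (hu : ∀ i, u i ∈ IsLocalRing.maximalIdeal A) (hu' : IsLocalRing.maximalIdeal A ≤ (Ideal.span (Set.range u)).radical)
    (hv : ∀ i, v i ∈ IsLocalRing.maximalIdeal A) (hv' : IsLocalRing.maximalIdeal A ≤ (Ideal.span (Set.range v)).radical) :
    ∃ (m : ℕ) (w : Fin (m + 1) → Fin d → A), w 0 = u ∧ w (Fin.last m) = v ∧
      (∀ k : Fin (m + 1), (∀ i, w k i ∈ IsLocalRing.maximalIdeal A) ∧
        IsLocalRing.maximalIdeal A ≤ (Ideal.span (Set.range (w k))).radical) ∧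
      (∀ k : Fin m, ∃ i : Fin d, ∀ i' : Fin d, i' ≠ i → w k.castSucc i' = w k.succ i') := by
  have h := connected hd d le_rfl u v ⟨hu, hu'⟩ ⟨hv, hv'⟩ (fun i hi => absurd i.2 (not_lt.mpr hi))
  suffices hh : ∀ b, Relation.ReflTransGen Step u b → IsSop b →
      ∃ (m : ℕ) (w : Fin (m + 1) → Fin d → A), w 0 = u ∧ w (Fin.last m) = b ∧
        (∀ k, IsSop (w k)) ∧ ∀ k : Fin m, ∃ i : Fin d, ∀ i' : Fin d, i' ≠ i → w k.castSucc i' = w k.succ i' from
    hh v h ⟨hv, hv'⟩
  intro b hb
  induction hb with
  | refl => exact fun hs => ⟨0, fun _ => u, rfl, rfl, fun _ => hs, fun k => k.elim0⟩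
  | tail _ hstep ih =>
    intro hs
    obtain ⟨m, w, h0, hl, hw, hst⟩ := ih hstep.1
    obtain ⟨i, hi⟩ := hstep.2.2
    refine ⟨m + 1, Fin.snoc w _, ?_, Fin.snoc_last _ _, fun k => ?_, fun k => ?_⟩
    · rw [← h0, show (0 : Fin (m + 2)) = (0 : Fin (m + 1)).castSucc from rfl, Fin.snoc_castSucc]
    · induction k using Fin.lastCases with
      | last => rw [Fin.snoc_last]; exact hs
      | cast k => rw [Fin.snoc_castSucc]; exact hw k
    · induction k using Fin.lastCases with
      | last =>
        refine ⟨i, fun i' hi' => ?_⟩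
        rw [Fin.succ_last, Fin.snoc_last, Fin.snoc_castSucc, hl]
        exact hi i' hi'
      | cast k =>
        obtain ⟨j, hj⟩ := hst k
        refine ⟨j, fun i' hi' => ?_⟩
        rw [Fin.succ_castSucc, Fin.snoc_castSucc, Fin.snoc_castSucc]
        exact hj i' hi'

end Groth.Agent.S8586
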