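import Groth.Statements.S8591
import Groth.Agent.CAlgBasics.DetAeval

set_option autoImplicit false
universe u
open CAlg

namespace Groth.Agent.S8591

/-- Let k be a commutative ring, M a finite free k-module, u an endomorphism of M with characteristic
polynomial χ, and P a polynomial over k. Then the norm, from the k-algebra k[T]/(χ) (free of rank
the rank of M) down to k, of the class of P(T) equals det(P(u)). (The published statement writes the
quotient by det(u - T), which generates the same ideal as χ(T) = det(T - u).) -/
theorem result (k : Type u) [CommRing k] (M : Type u) [AddCommGroup M] [Module k M]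
    [Module.Free k M] [Module.Finite k M] (u : M →ₗ[k] M) (P : Polynomial k) :
    Algebra.norm k (AdjoinRoot.mk u.charpoly P) = LinearMap.det (Polynomial.aeval u P) := by
  classical
  nontriviality k
  let bM := Module.Free.chooseBasis k M
  have hmon := u.charpoly_monic
  let b := (AdjoinRoot.powerBasis' hmon).basis
  rw [Algebra.norm_eq_matrix_det b, ← AdjoinRoot.aeval_eq, ← Polynomial.aeval_algHom_apply,
    ← LinearMap.det_toMatrix bM]
  change _ = (LinearMap.toMatrixAlgEquiv bM (Polynomial.aeval u P)).det
  rw [← Polynomial.aeval_algHom_apply]
  let e := Fintype.equivFin (Module.Free.ChooseBasisIndex k M)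
  rw [← Matrix.det_reindexAlgEquiv k k e, ← Polynomial.aeval_algHom_apply]
  refine Groth.Agent.CAlgBasics.det_aeval_eq_of_charpoly_eq _ _ ?_ ?_ P
  · rw [Groth.Agent.CAlgBasics.charpoly_leftMulMatrix_powerBasis' hmon, Matrix.reindexAlgEquiv_apply,
      Matrix.charpoly_reindex]
    exact (LinearMap.charpoly_toMatrix u bM).symm
  · rw [Fintype.card_fin, Fintype.card_fin, AdjoinRoot.powerBasis'_dim, LinearMap.charpoly_natDegree,
      Module.finrank_eq_card_basis bM]

end Groth.Agent.S8591
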