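import Groth.Statements.S8596
import Mathlib
import Groth.Agent.TorLib.Basic
import Groth.Agent.TorLib.FibreExact

set_option autoImplicit false
universe u
open CategoryTheory CategoryTheory.Limits
open CAlg

namespace Groth.Agent.S8596
namespace Helper

open CategoryTheory CategoryTheory.Limits MonoidalCategory Groth.Agent.TorLib
open scoped TensorProduct

variable {A : Type u} [CommRing A]

theorem isZero_tor_iff {M : ModuleCat.{u} A} (P : ProjectiveResolution M) (N : ModuleCat.{u} A) (j : ℕ) :
    IsZero (((CategoryTheory.Tor (ModuleCat.{u} A) (j + 1)).obj N).obj M) ↔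
      ExAt (F := fun i => P.complex.X i) (fun i => (P.complex.d (i + 1) i).hom) N j := by
  rw [Iso.isZero_iff (torIso P N (j + 1)), ← HomologicalComplex.exactAt_iff_isZero_homology,
    HomologicalComplex.exactAt_iff' _ (j + 1 + 1) (j + 1) j (by simp) (by simp),
    CategoryTheory.ShortComplex.moduleCat_exact_iff]
  rfl

theorem key [IsNoetherianRing A] (M : ModuleCat.{u} A) (n : ℕ)
    (h : ∀ (x : Ideal A) (_ : x.IsPrime) (i : ℕ), n < i →
      IsZero (((CategoryTheory.Tor (ModuleCat.{u} A) i).obj (ModuleCat.of A x.ResidueField)).obj M))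
    (N : ModuleCat.{u} A) (i : ℕ) (hi : n < i) :
    IsZero (((CategoryTheory.Tor (ModuleCat.{u} A) i).obj N).obj M) := by
  obtain ⟨j, rfl⟩ : ∃ j, i = j + 1 := ⟨i - 1, by omega⟩
  let P := projectiveResolution M
  haveI : ∀ k, Module.Flat A (P.complex.X k) := flat_X P
  refine (isZero_tor_iff P N j).2 (exAt_of_residueField
    (fun k => by
      rw [← ModuleCat.hom_comp, P.complex.d_comp_d]; rfl)
    n (fun p hp k hk => (isZero_tor_iff P (ModuleCat.of A p.ResidueField) k).1
      (h p hp (k + 1) (Nat.lt_succ_of_le hk))) N j (Nat.lt_succ_iff.1 hi))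

end Helper


/-- Case of a complex reduced to a single module in degree 0: let A be a commutative Noetherian ring, M
an A-module (not necessarily finitely generated) and n ≥ 0. Then M has tor-dimension at most n —
Tor_i^A(N, M) = 0 for every A-module N and every i > n, the Tor being the left derived functors of N
⊗ - evaluated at M — if and only if Tor_i^A(k(x), M) = 0 for every prime ideal x of A, with residue
field k(x), and every i > n. (The published statement gives the equivalence for bounded-above
complexes K and the derived tensor product K ⊗^L k(x); this is the case K = M[0].) -/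
theorem result (A : Type u) [CommRing A] [IsNoetherianRing A]
    (M : ModuleCat.{u} A) (n : ℕ) :
    (∀ (N : ModuleCat.{u} A) (i : ℕ), n < i → IsZero (((Tor (ModuleCat.{u} A) i).obj N).obj M)) ↔
    (∀ (x : Ideal A) [x.IsPrime] (i : ℕ), n < i →
      IsZero (((Tor (ModuleCat.{u} A) i).obj (ModuleCat.of A x.ResidueField)).obj M)) := by
  refine ⟨fun h x _ i hi => h _ i hi, fun h N i hi => ?_⟩
  exact Helper.key M n (fun x hx i hi => h x i hi) N i hi

end Groth.Agent.S8596
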