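import Groth.Statements.S8597
import Mathlib
import Groth.Agent.TorLib.Basic
import Groth.Agent.TorLib.FibreExact

set_option autoImplicit false
universe u
open CategoryTheory CategoryTheory.Limits
open CAlg

namespace Groth.Agent.S8597
namespace Helper

open CategoryTheory CategoryTheory.Limits MonoidalCategory Groth.Agent.TorLib
open scoped TensorProduct

variable {A : Type u} [CommRing A]

theorem exists_cycle {K : ChainComplex (ModuleCat.{u} A) ℕ} {i : ℕ} (x : K.X i)
    (hx : K.d i ((ComplexShape.down ℕ).next i) x = 0) : ∃ c, K.iCycles i c = x :=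
  (ShortComplex.moduleCat_exact_iff _).1 (ShortComplex.exact_of_f_is_kernel
    (ShortComplex.mk (K.iCycles i) (K.d i ((ComplexShape.down ℕ).next i)) (K.iCycles_d _ _))
    (K.cyclesIsKernel i _ rfl)) x hx

theorem π_eq_zero_iff (K : ChainComplex (ModuleCat.{u} A) ℕ) (i : ℕ) (c : K.cycles i) :
    K.homologyπ i c = 0 ↔ ∃ y, K.d (i + 1) i y = K.iCycles i c := by
  constructor
  · intro h
    obtain ⟨y, hy⟩ := (ShortComplex.moduleCat_exact_iff _).1 (ShortComplex.exact_of_g_is_cokernel
      (ShortComplex.mk (K.toCycles (i + 1) i) (K.homologyπ i) (K.toCycles_comp_homologyπ _ _))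
      (K.homologyIsCokernel (i + 1) i (by simp))) c h
    refine ⟨y, ?_⟩
    rw [← hy]
    exact (ConcreteCategory.congr_hom (K.toCycles_i (i + 1) i) y).symm
  · rintro ⟨y, hy⟩
    have h1 : K.toCycles (i + 1) i y = c := (ModuleCat.mono_iff_injective (K.iCycles i)).1 inferInstance
      ((ConcreteCategory.congr_hom (K.toCycles_i (i + 1) i) y).trans hy)
    rw [← h1]
    exact ConcreteCategory.congr_hom (K.toCycles_comp_homologyπ (i + 1) i) y

/-- A map inducing bijections in homology, on elements. -/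
theorem elements {K L : ChainComplex (ModuleCat.{u} A) ℕ} (φ : K ⟶ L) (i : ℕ)
    [IsIso (HomologicalComplex.homologyMap φ i)] :
    (∀ x, K.d i ((ComplexShape.down ℕ).next i) x = 0 → (∃ y, L.d (i + 1) i y = φ.f i x) →
        ∃ y, K.d (i + 1) i y = x) ∧
      ∀ y, L.d i ((ComplexShape.down ℕ).next i) y = 0 →
        ∃ x, K.d i ((ComplexShape.down ℕ).next i) x = 0 ∧ ∃ z, L.d (i + 1) i z = y - φ.f i x := by
  have hb : Function.Bijective (HomologicalComplex.homologyMap φ i) := ConcreteCategory.bijective_of_isIso _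
  refine ⟨fun x hx hy => ?_, fun y hy => ?_⟩
  · obtain ⟨c, hc⟩ := exists_cycle x hx
    have h0 : K.homologyπ i c = 0 := hb.1 (by
      rw [map_zero]
      refine (ConcreteCategory.congr_hom (HomologicalComplex.homologyπ_naturality φ i) c).trans ?_
      refine (π_eq_zero_iff L i _).2 ?_
      obtain ⟨y, hy⟩ := hy
      exact ⟨y, hy.trans ((congrArg (φ.f i) hc).symm.trans
        (ConcreteCategory.congr_hom (HomologicalComplex.cyclesMap_i φ i) c).symm)⟩)
    obtain ⟨y, hy⟩ := (π_eq_zero_iff K i c).1 h0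
    exact ⟨y, hy.trans hc⟩
  · obtain ⟨c, hc⟩ := exists_cycle y hy
    obtain ⟨η, hη⟩ := hb.2 (L.homologyπ i c)
    obtain ⟨b, rfl⟩ := (ModuleCat.epi_iff_surjective (K.homologyπ i)).1 inferInstance η
    refine ⟨K.iCycles i b, ConcreteCategory.congr_hom (K.iCycles_d i _) b, ?_⟩
    have h0 : L.homologyπ i (c - HomologicalComplex.cyclesMap φ i b) = 0 := by
      rw [map_sub, ← hη, sub_eq_zero]
      exact ConcreteCategory.congr_hom (HomologicalComplex.homologyπ_naturality φ i) b
    obtain ⟨z, hz⟩ := (π_eq_zero_iff L i _).1 h0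
    refine ⟨z, hz.trans ?_⟩
    rw [map_sub, hc]
    congr 1
    exact ConcreteCategory.congr_hom (HomologicalComplex.cyclesMap_i φ i) b

section cone

variable {P Q : ChainComplex (ModuleCat.{u} A) ℕ} (φ : P ⟶ Q)

/-- Terms of the cone, shifted by one. -/
def Cn (P Q : ChainComplex (ModuleCat.{u} A) ℕ) : ℕ → Type u
  | 0 => PUnit.{u + 1}
  | 1 => Q.X 0
  | n + 2 => Q.X (n + 1) × P.X n

instance : ∀ n, AddCommGroup (Cn P Q n)
  | 0 => inferInstanceAs (AddCommGroup PUnit.{u + 1})
  | 1 => inferInstanceAs (AddCommGroup (Q.X 0))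
  | n + 2 => inferInstanceAs (AddCommGroup (Q.X (n + 1) × P.X n))

instance : ∀ n, Module A (Cn P Q n)
  | 0 => inferInstanceAs (Module A PUnit.{u + 1})
  | 1 => inferInstanceAs (Module A (Q.X 0))
  | n + 2 => inferInstanceAs (Module A (Q.X (n + 1) × P.X n))

/-- Differential of the cone. -/
noncomputable def dC : ∀ n, Cn P Q (n + 1) →ₗ[A] Cn P Q n
  | 0 => 0
  | 1 => (Q.d 1 0).hom.coprod (φ.f 0).hom
  | n + 2 => LinearMap.prod
      ((Q.d (n + 2) (n + 1)).hom.coprod (φ.f (n + 1)).hom)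
      ((-(P.d (n + 1) n).hom) ∘ₗ LinearMap.snd A (Q.X (n + 2)) (P.X (n + 1)))

theorem dC_dC : ∀ n, dC φ n ∘ₗ dC φ (n + 1) = 0
  | 0 => LinearMap.zero_comp _
  | 1 => LinearMap.ext fun (v : Q.X 2 × P.X 1) => by
      show Q.d 1 0 (Q.d 2 1 v.1 + φ.f 1 v.2) + φ.f 0 (-(P.d 1 0 v.2)) = (0 : Q.X 0)
      rw [map_add, map_neg, ← ConcreteCategory.comp_apply (Q.d 2 1), Q.d_comp_d,
        ← ConcreteCategory.comp_apply (φ.f 1), φ.comm 1 0, ConcreteCategory.comp_apply]
      simp
  | n + 2 => LinearMap.ext fun (v : Q.X (n + 3) × P.X (n + 2)) => by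
      refine Prod.ext ?_ ?_
      · show Q.d (n + 2) (n + 1) (Q.d (n + 3) (n + 2) v.1 + φ.f (n + 2) v.2)
          + φ.f (n + 1) (-(P.d (n + 2) (n + 1) v.2)) = (0 : Q.X (n + 1))
        rw [map_add, map_neg, ← ConcreteCategory.comp_apply (Q.d (n + 3) (n + 2)), Q.d_comp_d,
          ← ConcreteCategory.comp_apply (φ.f (n + 2)), φ.comm (n + 2) (n + 1), ConcreteCategory.comp_apply]
        simp
      · show -(P.d (n + 1) n (-(P.d (n + 2) (n + 1) v.2))) = (0 : P.X n)
        rw [map_neg, neg_neg, ← ConcreteCategory.comp_apply (P.d (n + 2) (n + 1)), P.d_comp_d]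
        rfl

end cone

theorem core {K L : ChainComplex (ModuleCat.{u} A) ℕ} (Φ : K ⟶ L)
    (h : ∀ i, IsIso (HomologicalComplex.homologyMap Φ i)) (j : ℕ) (z₁ : L.X (j + 1)) (z₂ : K.X j)
    (h₁ : L.d (j + 1) j z₁ + Φ.f j z₂ = 0) (h₂ : K.d j ((ComplexShape.down ℕ).next j) z₂ = 0) :
    ∃ (w : L.X (j + 2)) (x : K.X (j + 1)),
      L.d (j + 2) (j + 1) w + Φ.f (j + 1) x = z₁ ∧ -(K.d (j + 1) j x) = z₂ := by
  haveI := h j
  haveI := h (j + 1)
  obtain ⟨p, hp⟩ := (elements Φ j).1 z₂ h₂ ⟨-z₁, by rw [map_neg]; exact neg_eq_of_add_eq_zero_right h₁⟩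
  have hc : L.d (j + 1) ((ComplexShape.down ℕ).next (j + 1)) (z₁ + Φ.f (j + 1) p) = 0 := by
    rw [show (ComplexShape.down ℕ).next (j + 1) = j by simp, map_add,
      ← ConcreteCategory.comp_apply (Φ.f (j + 1)), Φ.comm (j + 1) j, ConcreteCategory.comp_apply, hp, h₁]
  obtain ⟨x, hx, w, hw⟩ := (elements Φ (j + 1)).2 _ hc
  rw [show (ComplexShape.down ℕ).next (j + 1) = j by simp] at hx
  refine ⟨w, x - p, ?_, ?_⟩
  · rw [map_sub, hw]; abel
  · rw [map_sub, hx, hp, zero_sub, neg_neg]

section tensor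

variable {Q₁ Q₀ P₁ P₀ : Type u} [AddCommGroup Q₁] [Module A Q₁] [AddCommGroup Q₀] [Module A Q₀]
  [AddCommGroup P₁] [Module A P₁] [AddCommGroup P₀] [Module A P₀] (N : Type u) [AddCommGroup N] [Module A N]

theorem decomp (z : N ⊗[A] (Q₁ × P₁)) :
    z = (LinearMap.inl A Q₁ P₁).lTensor N ((LinearMap.fst A Q₁ P₁).lTensor N z)
      + (LinearMap.inr A Q₁ P₁).lTensor N ((LinearMap.snd A Q₁ P₁).lTensor N z) := by
  rw [← LinearMap.lTensor_comp_apply, ← LinearMap.lTensor_comp_apply, ← LinearMap.add_apply,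
    ← LinearMap.lTensor_add]
  have : LinearMap.inl A Q₁ P₁ ∘ₗ LinearMap.fst A Q₁ P₁ + LinearMap.inr A Q₁ P₁ ∘ₗ LinearMap.snd A Q₁ P₁
      = LinearMap.id := by
    refine LinearMap.ext fun v => ?_
    simp
  rw [this, LinearMap.lTensor_id, LinearMap.id_apply]

theorem zero_of_coprod (a : Q₁ →ₗ[A] Q₀) (b : P₁ →ₗ[A] Q₀) (z : N ⊗[A] (Q₁ × P₁))
    (h : (a.coprod b).lTensor N z = 0) :
    a.lTensor N ((LinearMap.fst A Q₁ P₁).lTensor N z) + b.lTensor N ((LinearMap.snd A Q₁ P₁).lTensor N z) = 0 := by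
  rw [← LinearMap.lTensor_comp_apply, ← LinearMap.lTensor_comp_apply, ← LinearMap.add_apply,
    ← LinearMap.lTensor_add]
  have e : a ∘ₗ LinearMap.fst A Q₁ P₁ + b ∘ₗ LinearMap.snd A Q₁ P₁ = a.coprod b := rfl
  rw [e, h]

theorem zero_of_prod (a : Q₁ →ₗ[A] Q₀) (b : P₁ →ₗ[A] Q₀) (c : P₁ →ₗ[A] P₀) (z : N ⊗[A] (Q₁ × P₁))
    (h : (LinearMap.prod (a.coprod b) ((-c) ∘ₗ LinearMap.snd A Q₁ P₁)).lTensor N z = 0) :
    (a.lTensor N ((LinearMap.fst A Q₁ P₁).lTensor N z) + b.lTensor N ((LinearMap.snd A Q₁ P₁).lTensor N z) = 0)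
      ∧ c.lTensor N ((LinearMap.snd A Q₁ P₁).lTensor N z) = 0 := by
  have h1 := congrArg ((LinearMap.fst A Q₀ P₀).lTensor N) h
  have h2 := congrArg ((LinearMap.snd A Q₀ P₀).lTensor N) h
  rw [map_zero, ← LinearMap.lTensor_comp_apply, LinearMap.fst_prod] at h1
  rw [map_zero, ← LinearMap.lTensor_comp_apply, LinearMap.snd_prod, LinearMap.lTensor_comp_apply,
    LinearMap.lTensor_neg, LinearMap.neg_apply, neg_eq_zero] at h2
  exact ⟨zero_of_coprod N a b z h1, h2⟩

end tensor

theorem exAt_cone {M M' : ModuleCat.{u} A} (P : ProjectiveResolution M) (Q : ProjectiveResolution M')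
    (φ : P.complex ⟶ Q.complex) (N : ModuleCat.{u} A)
    (h : ∀ i, IsIso (HomologicalComplex.homologyMap
      (((tensorLeft N).mapHomologicalComplex (ComplexShape.down ℕ)).map φ) i)) (i : ℕ) :
    ExAt (dC φ) N i := by
  let K := cx P N
  let L := cx Q N
  let Φ : K ⟶ L := ((tensorLeft N).mapHomologicalComplex _).map φ
  have h' : ∀ i, IsIso (HomologicalComplex.homologyMap Φ i) := h
  match i with
  | 0 =>
    intro z _
    haveI := h' 0
    obtain ⟨x, _, w, hw⟩ := (elements Φ 0).2 z (by rw [L.shape 0 _ (by simp)]; rfl)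
    refine ⟨(LinearMap.inl A (Q.complex.X 1) (P.complex.X 0)).lTensor N w
      + (LinearMap.inr A (Q.complex.X 1) (P.complex.X 0)).lTensor N x, ?_⟩
    show (((Q.complex.d 1 0).hom.coprod (φ.f 0).hom).lTensor N) _ = z
    rw [map_add, ← LinearMap.lTensor_comp_apply, ← LinearMap.lTensor_comp_apply,
      LinearMap.coprod_inl, LinearMap.coprod_inr]
    show L.d 1 0 w + Φ.f 0 x = z
    rw [hw, sub_add_cancel]
  | j + 1 =>
    intro z hz
    let F := (LinearMap.fst A (Q.complex.X (j + 1)) (P.complex.X j)).lTensor N z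
    let G := (LinearMap.snd A (Q.complex.X (j + 1)) (P.complex.X j)).lTensor N z
    have hz' : L.d (j + 1) j F + Φ.f j G = 0 ∧ K.d j ((ComplexShape.down ℕ).next j) G = 0 := by
      rcases j with _ | m
      · exact ⟨zero_of_coprod N (Q.complex.d 1 0).hom (φ.f 0).hom z hz, by rw [K.shape 0 _ (by simp)]; rfl⟩
      · have h1 := zero_of_prod N (Q.complex.d (m + 2) (m + 1)).hom (φ.f (m + 1)).hom
          (P.complex.d (m + 1) m).hom z hz
        refine ⟨h1.1, ?_⟩
        rw [show (ComplexShape.down ℕ).next (m + 1) = m by simp]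
        exact h1.2
    obtain ⟨w, x, hw, hx⟩ := core Φ h' j F G hz'.1 hz'.2
    refine ⟨(LinearMap.inl A (Q.complex.X (j + 2)) (P.complex.X (j + 1))).lTensor N w
      + (LinearMap.inr A (Q.complex.X (j + 2)) (P.complex.X (j + 1))).lTensor N x, ?_⟩
    show (LinearMap.prod ((Q.complex.d (j + 2) (j + 1)).hom.coprod (φ.f (j + 1)).hom)
      ((-(P.complex.d (j + 1) j).hom) ∘ₗ
        LinearMap.snd A (Q.complex.X (j + 2)) (P.complex.X (j + 1)))).lTensor N _ = z
    refine Eq.trans ?_ (decomp N z).symm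
    have e1 : LinearMap.prod ((Q.complex.d (j + 2) (j + 1)).hom.coprod (φ.f (j + 1)).hom)
        ((-(P.complex.d (j + 1) j).hom) ∘ₗ LinearMap.snd A (Q.complex.X (j + 2)) (P.complex.X (j + 1)))
          ∘ₗ LinearMap.inl A (Q.complex.X (j + 2)) (P.complex.X (j + 1))
        = LinearMap.inl A _ _ ∘ₗ (Q.complex.d (j + 2) (j + 1)).hom := by
      refine LinearMap.ext fun v => ?_
      simp
    have e2 : LinearMap.prod ((Q.complex.d (j + 2) (j + 1)).hom.coprod (φ.f (j + 1)).hom)
        ((-(P.complex.d (j + 1) j).hom) ∘ₗ LinearMap.snd A (Q.complex.X (j + 2)) (P.complex.X (j + 1)))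
          ∘ₗ LinearMap.inr A (Q.complex.X (j + 2)) (P.complex.X (j + 1))
        = LinearMap.inl A _ _ ∘ₗ (φ.f (j + 1)).hom + LinearMap.inr A _ _ ∘ₗ (-(P.complex.d (j + 1) j).hom) := by
      refine LinearMap.ext fun v => ?_
      simp
    rw [map_add, ← LinearMap.lTensor_comp_apply, ← LinearMap.lTensor_comp_apply, e1, e2,
      LinearMap.lTensor_add, LinearMap.add_apply, LinearMap.lTensor_comp_apply, LinearMap.lTensor_comp_apply,
      LinearMap.lTensor_comp_apply, ← add_assoc, ← map_add, LinearMap.lTensor_neg, LinearMap.neg_apply]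
    exact congrArg₂ (fun a b => (LinearMap.inl A _ _).lTensor N a + (LinearMap.inr A _ _).lTensor N b) hw hx

theorem flat_cn {M M' : ModuleCat.{u} A} (P : ProjectiveResolution M) (Q : ProjectiveResolution M') :
    ∀ n, Module.Flat A (Cn P.complex Q.complex n)
  | 0 => inferInstanceAs (Module.Flat A PUnit.{u + 1})
  | 1 => flat_X Q 0
  | n + 2 => by
    haveI : Module.Projective A (Q.complex.X (n + 1)) :=
      (IsProjective.iff_projective _).mpr (Q.projective (n + 1))
    haveI : Module.Projective A (P.complex.X n) :=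
      (IsProjective.iff_projective _).mpr (P.projective n)
    show Module.Flat A (Q.complex.X (n + 1) × P.complex.X n)
    infer_instance

theorem exact₀ {M : ModuleCat.{u} A} (P : ProjectiveResolution M) (x : P.complex.X 0) (hx : P.π.f 0 x = 0) :
    ∃ y, P.complex.d 1 0 y = x :=
  (ShortComplex.moduleCat_exact_iff _).1 (ShortComplex.exact_of_g_is_cokernel
    (ShortComplex.mk (P.complex.d 1 0) (P.π.f 0) P.complex_d_comp_π_f_zero) P.isColimitCokernelCofork) x hx

theorem key [IsNoetherianRing A] {M M' : ModuleCat.{u} A} (u : M ⟶ M')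
    (h : ∀ (x : Ideal A) (_ : x.IsPrime) (i : ℕ),
      IsIso (((CategoryTheory.Tor (ModuleCat.{u} A) i).obj (ModuleCat.of A x.ResidueField)).map u)) :
    IsIso u := by
  let P := projectiveResolution M
  let Q := projectiveResolution M'
  let φ := ProjectiveResolution.lift u P Q
  have hiso : ∀ (x : Ideal A) (_ : x.IsPrime) (i : ℕ), IsIso (HomologicalComplex.homologyMap
      (((tensorLeft (ModuleCat.of A x.ResidueField)).mapHomologicalComplex (ComplexShape.down ℕ)).map φ) i) := by
    intro x hx i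
    have e := P.isoLeftDerivedObj_hom_naturality u Q φ (by
      rw [← HomologicalComplex.comp_f, ProjectiveResolution.lift_commutes]; simp)
      (tensorLeft (ModuleCat.of A x.ResidueField)) i
    rw [← Iso.inv_comp_eq] at e
    haveI : IsIso (((tensorLeft (ModuleCat.of A x.ResidueField)).leftDerived i).map u) := h x hx i
    change _ = HomologicalComplex.homologyMap
      (((tensorLeft (ModuleCat.of A x.ResidueField)).mapHomologicalComplex (ComplexShape.down ℕ)).map φ) i at e
    rw [← e]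
    exact IsIso.comp_isIso' inferInstance (IsIso.comp_isIso' (h x hx i) inferInstance)
  haveI : ∀ n, Module.Flat A (Cn P.complex Q.complex n) := flat_cn P Q
  have hex : ∀ i, ExAt (dC φ) A i := fun i =>
    exAt_of_residueField (dC_dC φ) 0
      (fun p hp k _ => exAt_cone P Q φ (ModuleCat.of A p.ResidueField) (hiso p hp) k) A i (Nat.zero_le i)
  have huntensor : ∀ i (z : Cn P.complex Q.complex (i + 1)), dC φ i z = 0 → ∃ y, dC φ (i + 1) y = z := by
    intro i z hz
    obtain ⟨y, hy⟩ := hex i (1 ⊗ₜ z) (by rw [LinearMap.lTensor_tmul, hz, TensorProduct.tmul_zero])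
    refine ⟨TensorProduct.lid A _ y, ?_⟩
    have := congrArg (TensorProduct.lid A _) hy
    rw [TensorProduct.lid_tmul, one_smul] at this
    rw [← this]
    clear hy this
    induction y using TensorProduct.induction_on with
    | zero => simp
    | tmul a b => simp
    | add a b ha hb => rw [map_add, map_add, map_add, map_add, ha, hb]
  have hcomm : ∀ v, Q.π.f 0 (φ.f 0 v) = u (P.π.f 0 v) := fun v => by
    rw [← ConcreteCategory.comp_apply, ← HomologicalComplex.comp_f, ProjectiveResolution.lift_commutes]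
    simp
    rfl
  haveI : Epi u := (ModuleCat.epi_iff_surjective u).2 fun m => by
    obtain ⟨q, rfl⟩ := (ModuleCat.epi_iff_surjective (Q.π.f 0)).1 inferInstance m
    obtain ⟨(v : Q.complex.X 1 × P.complex.X 0), hv⟩ := huntensor 0 q rfl
    refine ⟨P.π.f 0 v.2, ?_⟩
    have hv' : Q.complex.d 1 0 v.1 + φ.f 0 v.2 = q := hv
    rw [← hcomm, ← hv', map_add,
      ← ConcreteCategory.comp_apply (Q.complex.d 1 0), Q.complex_d_comp_π_f_zero]
    exact (zero_add _).symm
  haveI : Mono u := (ModuleCat.mono_iff_injective u).2 ((injective_iff_map_eq_zero u.hom).2 fun m hm => by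
    obtain ⟨p, rfl⟩ := (ModuleCat.epi_iff_surjective (P.π.f 0)).1 inferInstance m
    obtain ⟨q, hq⟩ := exact₀ Q (φ.f 0 p) (by rw [hcomm]; exact hm)
    obtain ⟨(v : Q.complex.X 2 × P.complex.X 1), hv⟩ := huntensor 1 ((-q, p) : Q.complex.X 1 × P.complex.X 0) (by
      show Q.complex.d 1 0 (-q) + φ.f 0 p = 0
      rw [map_neg, hq, neg_add_cancel])
    have h2 : -(P.complex.d 1 0 v.2) = p := congrArg (fun w : Q.complex.X 1 × P.complex.X 0 => w.2) hv
    rw [← h2, map_neg, ← ConcreteCategory.comp_apply (P.complex.d 1 0), P.complex_d_comp_π_f_zero]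
    exact neg_zero)
  exact isIso_of_mono_of_epi u

end Helper


/-- Case of modules placed in degree 0: let A be a commutative Noetherian ring and u : M -> N a
homomorphism of A-modules such that for every prime ideal x of A, with residue field k(x), and every
i ≥ 0, the induced map Tor_i^A(k(x), M) -> Tor_i^A(k(x), N) (left derived functors of k(x) ⊗ -) is
an isomorphism. Then u is an isomorphism. (The published statement is for a morphism of
bounded-above complexes and the derived tensor products with k(x); this is the case of two modules.) -/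
theorem result (A : Type u) [CommRing A] [IsNoetherianRing A]
    {M N : ModuleCat.{u} A} (u : M ⟶ N)
    (h : ∀ (x : Ideal A) [x.IsPrime] (i : ℕ),
      IsIso (((Tor (ModuleCat.{u} A) i).obj (ModuleCat.of A x.ResidueField)).map u)) :
    IsIso u := by
  exact Helper.key u (fun x hx i => h x i)

end Groth.Agent.S8597
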