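import Groth.Statements.S8599
import Groth.Agent.ShriekFib.ToPush

set_option autoImplicit false
set_option backward.isDefEq.respectTransparency false
set_option backward.isDefEq.respectTransparency.types false
universe u
open CategoryTheory CategoryTheory.Limits AlgebraicGeometry Opposite
open EtDl

namespace Groth.Agent.S8599

/-- Let f : X -> S be separated and locally of finite type, g : S' -> S any morphism, X' = X x_S S' with
projections g' : X' -> X and f' : X' -> S', and F an abelian sheaf on X_et. Then there is a base
change isomorphism g^* f_! F ≅ f'_! g'^* F (f_! = sections of f_* with proper support over the base)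
compatible with the inclusions f_! -> f_*, f'_! -> f'_* and the base change map g^* f_* F -> f'_*
g'^* F: the square formed by these four maps commutes. (Since f'_! g'^* F -> f'_* g'^* F is
injective, such an isomorphism is unique.) -/
theorem result {X S X' S' : Scheme.{u}} (f : X ⟶ S) [IsSeparated f]
    [LocallyOfFiniteType f] (g : S' ⟶ S) (f' : X' ⟶ S') (g' : X' ⟶ X) (h : IsPullback g' f' f g)
    (F : EtCoh.Ab X) :
    ∃ φ : (EtCoh.pull g).obj ((EtShriek.lowerShriek f).obj F) ≅ (EtShriek.lowerShriek f').obj ((EtCoh.pull g').obj F),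
      φ.hom ≫ EtShriek.lowerShriekToPush f' ((EtCoh.pull g').obj F) =
        (EtCoh.pull g).map (EtShriek.lowerShriekToPush f F) ≫ EtCoh.baseChange0 f g f' g' h.w F := by
  haveI : LocallyOfFiniteType f' := MorphismProperty.of_isPullback (P := @LocallyOfFiniteType) h ‹_›
  haveI := Groth.Agent.ShriekFib.isIso_bcShriek f g f' g' h F
  refine ⟨(EtCoh.pull g).mapIso ((Groth.Agent.ShriekLib.lShriekIso f).app F).symm ≪≫
    asIso (Groth.Agent.ShriekFib.bcShriek f g f' g' h F) ≪≫
    (Groth.Agent.ShriekLib.lShriekIso f').app ((EtCoh.pull g').obj F), ?_⟩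
  simp only [Iso.trans_hom, Functor.mapIso_hom, Iso.symm_hom, Iso.app_inv, Iso.app_hom, asIso_hom, Category.assoc]
  rw [Groth.Agent.ShriekFib.lShriekIso_toPush, Groth.Agent.ShriekFib.bcShriek_toPush, ← Category.assoc,
    ← Functor.map_comp, ← Groth.Agent.ShriekFib.lShriekIso_toPush f F, Iso.inv_hom_id_app_assoc]

end Groth.Agent.S8599
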