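import Groth.Statements.S8600
import Groth.Agent.ShriekFib.LeftExact
import Groth.Agent.ShriekFib.H0cColim
import Groth.Agent.ShriekLib.Stalk

set_option autoImplicit false
set_option backward.isDefEq.respectTransparency false
set_option backward.isDefEq.respectTransparency.types false
universe u
open CategoryTheory CategoryTheory.Limits AlgebraicGeometry Opposite
open EtDl

namespace Groth.Agent.S8600

open Groth.Agent Groth.Agent.EtPtsLib

theorem preservesColimitsOfShape {X S : Scheme.{u}} (f : X ⟶ S) [IsSeparated f] [LocallyOfFiniteType f]
    (Λ : Type (u + 1)) [SmallCategory Λ] [IsFiltered Λ] :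
    PreservesColimitsOfShape Λ (EtShriek.lowerShriek f) := by
  refine ⟨fun {K} => ?_⟩
  haveI : IsIso (colimit.post K (EtShriek.lowerShriek f)) := isIso_of_alg_ab _ fun y => by
    let η := geomPtAlg y
    haveI := ShriekFib.preservesColimitsOfShape_H0cF (pullback.snd f η) Λ
    haveI : PreservesColimitsOfSize.{u + 1, u + 1} (EtCoh.pull (pullback.fst f η)) :=
      (EtCoh.pullPushAdj (pullback.fst f η)).leftAdjoint_preservesColimits
    haveI : PreservesColimitsOfShape Λ (EtCoh.pull (pullback.fst f η) ⋙ ShriekFib.H0cF (pullback.snd f η)) :=
      comp_preservesColimitsOfShape _ _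
    haveI : PreservesColimitsOfShape Λ (EtShriek.lowerShriek f ⋙ EtCoh.stalk η) :=
      preservesColimitsOfShape_of_natIso
        (ShriekFib.stalkNatIso f _ _ η (IsPullback.of_hasPullback f η)).symm
    haveI : PreservesColimitsOfSize.{u + 1, u + 1} (EtCoh.stalk η) :=
      ((Scheme.pointSmallEtale η).skyscraperSheafAdjunction
        (A := AddCommGrpCat.{u + 1})).leftAdjoint_preservesColimits
    haveI : IsIso ((EtCoh.stalk η).map (colimit.post K (EtShriek.lowerShriek f))) :=
      IsIso.of_isIso_fac_left (colimit.post_post K (EtShriek.lowerShriek f) (EtCoh.stalk η))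
    exact ConcreteCategory.bijective_of_isIso _
  exact preservesColimit_of_isIso_post (EtShriek.lowerShriek f) K

/-- Let f : X -> S be separated and locally of finite type. Then the functor f_! (sections of f_* with
proper support over the base) on abelian etale sheaves is left exact — it preserves finite limits —
and commutes with filtered colimits (indexed by small filtered categories). -/
theorem result {X S : Scheme.{u}} (f : X ⟶ S) [IsSeparated f]
    [LocallyOfFiniteType f] :
    PreservesFiniteLimits (EtShriek.lowerShriek f) ∧
      PreservesFilteredColimitsOfSize.{u, u} (EtShriek.lowerShriek f) := by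
  refine ⟨ShriekFib.preservesFiniteLimits_lowerShriek f, ⟨fun J _ _ => ?_⟩⟩
  haveI : IsFiltered (AsSmall.{u + 1} J) := IsFiltered.of_equivalence AsSmall.equiv
  haveI := preservesColimitsOfShape f (AsSmall.{u + 1} J)
  exact preservesColimitsOfShape_of_equiv AsSmall.equiv.symm _

end Groth.Agent.S8600
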