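import Groth.Statements.S8603
-- import your own Groth.Agent.* helpers here

set_option autoImplicit false
set_option backward.isDefEq.respectTransparency false
set_option maxHeartbeats 800000
set_option synthInstance.maxHeartbeats 200000
universe u
open CategoryTheory CategoryTheory.Limits AlgebraicGeometry Opposite
open DEt

namespace Groth.Agent.S8603

/-- The domination half of 'the category of compactifications of f is cofiltering': let f : X -> Y be a
morphism of quasi-compact quasi-separated schemes and let (Xbar_1, j_1, fbar_1), (Xbar_2, j_2,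
fbar_2) be two compactifications of f (j_i : X -> Xbar_i open immersions, fbar_i : Xbar_i -> Y
proper, fbar_i ∘ j_i = f). Then there are a compactification (Xbar, j, fbar) of f and proper
morphisms p_i : Xbar -> Xbar_i (i = 1, 2) with p_i ∘ j = j_i and fbar_i ∘ p_i = fbar, i.e. a
compactification mapping to both by morphisms of compactifications. (The published statement also
includes the equalizing axiom: two morphisms of compactifications are equalized by a third; only
domination is stated here.) -/
theorem result {X Y : Scheme.{u}} [CompactSpace ↥X] [QuasiSeparatedSpace ↥X]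
    [CompactSpace ↥Y] [QuasiSeparatedSpace ↥Y] {f : X ⟶ Y} (c₁ c₂ : DEt.Compactification f) :
    ∃ (c : DEt.Compactification f) (p₁ : c.Xbar ⟶ c₁.Xbar) (p₂ : c.Xbar ⟶ c₂.Xbar),
      IsProper p₁ ∧ IsProper p₂ ∧ c.j ≫ p₁ = c₁.j ∧ c.j ≫ p₂ = c₂.j ∧
        p₁ ≫ c₁.fbar = c.fbar ∧ p₂ ≫ c₂.fbar = c.fbar := by
  let φ : X ⟶ pullback c₁.fbar c₂.fbar := pullback.lift c₁.j c₂.j (c₁.fac.trans c₂.fac.symm)
  have hfac : φ ≫ pullback.fst c₁.fbar c₂.fbar ≫ c₁.fbar = f := by
    rw [pullback.lift_fst_assoc]; exact c₁.fac
  have : IsImmersion φ :=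
    have : IsImmersion (φ ≫ pullback.fst c₁.fbar c₂.fbar) := by
      rw [pullback.lift_fst]; infer_instance
    IsImmersion.of_comp φ (pullback.fst c₁.fbar c₂.fbar)
  have hqf : QuasiCompact f := inferInstance
  have : QuasiCompact φ :=
    have : QuasiCompact (φ ≫ pullback.fst c₁.fbar c₂.fbar ≫ c₁.fbar) := by rw [hfac]; exact hqf
    QuasiCompact.of_comp φ (pullback.fst c₁.fbar c₂.fbar ≫ c₁.fbar)
  refine ⟨⟨φ.image, φ.toImage, φ.imageι ≫ pullback.fst c₁.fbar c₂.fbar ≫ c₁.fbar, inferInstance,
    inferInstance, by rw [Scheme.Hom.toImage_imageι_assoc, hfac]⟩,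
    φ.imageι ≫ pullback.fst _ _, φ.imageι ≫ pullback.snd _ _, inferInstance, inferInstance, ?_, ?_, ?_, ?_⟩
  · simp [φ]
  · simp [φ]
  · simp
  · simp [pullback.condition]

end Groth.Agent.S8603
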