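import Groth.Statements.S8604
import Mathlib

set_option autoImplicit false
universe u
open CAlg

namespace Groth.Agent.S8604
namespace Helper

open Polynomial

variable (p : ℕ) [Fact p.Prime] {k : Type u} [Field k] [IsAlgClosed k] [CharP k p]
  {V : Type u} [AddCommGroup V] [Module k V] (F : V →+ V) (hF : ∀ (a : k) (v : V), F (a • v) = a ^ p • F v)

include hF in
theorem iterate_smul (m : ℕ) (a : k) (v : V) : (⇑F)^[m] (a • v) = a ^ p ^ m • (⇑F)^[m] v := by
  induction m with
  | zero => simp
  | succ m ih => rw [Function.iterate_succ_apply', Function.iterate_succ_apply', ih, hF, ← pow_mul, pow_succ]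

include hF in
/-- Kernel of an iterate. -/
def ker (m : ℕ) : Submodule k V where
  carrier := {v | (⇑F)^[m] v = 0}
  add_mem' {a b} ha hb := by
    simp only [Set.mem_setOf_eq] at *
    rw [iterate_map_add, ha, hb, add_zero]
  zero_mem' := iterate_map_zero F m
  smul_mem' a v hv := by
    simp only [Set.mem_setOf_eq] at *
    rw [iterate_smul p F hF, hv, smul_zero]

include hF in
/-- Range of an iterate. -/
def range (m : ℕ) : Submodule k V where
  carrier := Set.range (⇑F)^[m]
  add_mem' := by
    rintro _ _ ⟨a, rfl⟩ ⟨b, rfl⟩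
    exact ⟨a + b, iterate_map_add F m a b⟩
  zero_mem' := ⟨0, iterate_map_zero F m⟩
  smul_mem' := by
    rintro a _ ⟨v, rfl⟩
    obtain ⟨b, hb⟩ := IsAlgClosed.exists_pow_nat_eq a (n := p ^ m)
      (pow_pos (Fact.out : p.Prime).pos m)
    exact ⟨b • v, by rw [iterate_smul p F hF, hb]⟩

include hF in
theorem exists_sub_eq {x : V} (hx : x ∈ Submodule.span k {v : V | F v = v}) :
    ∃ u ∈ Submodule.span k {v : V | F v = v}, F u - u = x := by
  suffices h : ∀ b : k, ∃ u ∈ Submodule.span k {v : V | F v = v}, F u - u = b • x by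
    simpa using h 1
  induction hx using Submodule.span_induction with
  | mem v hv =>
    intro b
    have hd : (X ^ p - X - C b : k[X]).degree ≠ 0 := by
      rw [degree_sub_eq_left_of_degree_lt, degree_sub_eq_left_of_degree_lt, degree_X_pow]
      · exact_mod_cast (Fact.out : p.Prime).ne_zero
      · rw [degree_X_pow, degree_X]; exact_mod_cast (Fact.out : p.Prime).one_lt
      · rw [degree_sub_eq_left_of_degree_lt, degree_X_pow]
        · exact degree_C_le.trans_lt (by exact_mod_cast (Fact.out : p.Prime).pos)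
        · rw [degree_X_pow, degree_X]; exact_mod_cast (Fact.out : p.Prime).one_lt
    obtain ⟨t, ht⟩ := IsAlgClosed.exists_root _ hd
    simp only [IsRoot, eval_sub, eval_pow, eval_X, eval_C, sub_eq_zero] at ht
    refine ⟨t • v, Submodule.smul_mem _ _ (Submodule.subset_span hv), ?_⟩
    rw [hF, show F v = v from hv, ← sub_smul, ht]
  | zero => exact fun b => ⟨0, zero_mem _, by simp⟩
  | add a c _ _ ha hc =>
    intro b
    obtain ⟨u, hu, hu'⟩ := ha b
    obtain ⟨u', hu2, hu3⟩ := hc b
    exact ⟨u + u', add_mem hu hu2, by rw [map_add, smul_add, ← hu', ← hu3]; abel⟩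
  | smul r a _ ha =>
    intro b
    obtain ⟨u, hu, hu'⟩ := ha (b * r)
    exact ⟨u, hu, by rw [hu', mul_smul]⟩

include hF in
theorem exists_preimage {x : V} (hx : x ∈ Submodule.span k {v : V | F v = v}) :
    ∃ u ∈ Submodule.span k {v : V | F v = v}, F u = x := by
  induction hx using Submodule.span_induction with
  | mem v hv => exact ⟨v, Submodule.subset_span hv, hv⟩
  | zero => exact ⟨0, zero_mem _, map_zero F⟩
  | add a c _ _ ha hc =>
    obtain ⟨u, hu, hu'⟩ := ha
    obtain ⟨u', hu2, hu3⟩ := hc
    exact ⟨u + u', add_mem hu hu2, by rw [map_add, hu', hu3]⟩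
  | smul r a _ ha =>
    obtain ⟨u, hu, hu'⟩ := ha
    obtain ⟨s, hs⟩ := IsAlgClosed.exists_pow_nat_eq r (n := p) (Fact.out : p.Prime).pos
    exact ⟨s • u, Submodule.smul_mem _ _ hu, by rw [hF, hu', hs]⟩

include hF in
theorem map_mem {x : V} (hx : x ∈ Submodule.span k {v : V | F v = v}) :
    F x ∈ Submodule.span k {v : V | F v = v} := by
  induction hx using Submodule.span_induction with
  | mem v hv => rw [show F v = v from hv]; exact Submodule.subset_span hv
  | zero => rw [map_zero]; exact zero_mem _
  | add a c _ _ ha hc => rw [map_add]; exact add_mem ha hc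
  | smul r a _ ha => rw [hF]; exact Submodule.smul_mem _ _ ha

variable [FiniteDimensional k V]

include hF in
/-- Everything in a stable range is in the span of the fixed vectors. -/
theorem range_le_span (R : Submodule k V) (hR : ∀ x ∈ R, F x ∈ R)
    (hinj : ∀ x ∈ R, F x = 0 → x = 0) (hfix : Submodule.span k {v : V | F v = v} ≤ R) :
    R ≤ Submodule.span k {v : V | F v = v} := by
  classical
  set W := Submodule.span k {v : V | F v = v} with hW
  intro v hv
  by_contra hvW
  have hRi : ∀ i, (⇑F)^[i] v ∈ R := fun i => by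
    induction i with
    | zero => exact hv
    | succ i ih => rw [Function.iterate_succ_apply']; exact hR _ ih
  let T : ℕ → Submodule k V := fun n =>
    W ⊔ Submodule.span k ((fun i => (⇑F)^[i] v) '' Set.Iio n)
  have hTmono : Monotone T := fun a b hab =>
    sup_le_sup_left (Submodule.span_mono (Set.image_mono (Set.Iio_subset_Iio hab))) _
  obtain ⟨n₀, hn₀⟩ := monotone_stabilizes_iff_noetherian.2
    (inferInstance : IsNoetherian k V) ⟨T, hTmono⟩
  have hex : ∃ n, (⇑F)^[n] v ∈ T n := ⟨n₀, by
    have h1 : T n₀ = T (n₀ + 1) := hn₀ (n₀ + 1) (Nat.le_succ _)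
    rw [h1]
    exact Submodule.mem_sup_right (Submodule.subset_span ⟨n₀, Nat.lt_succ_self _, rfl⟩)⟩
  have hn : (⇑F)^[Nat.find hex] v ∈ T (Nat.find hex) := Nat.find_spec hex
  have hmin : ∀ j < Nat.find hex, (⇑F)^[j] v ∉ T j := fun j hj => Nat.find_min hex hj
  obtain ⟨m, hm⟩ : ∃ m, Nat.find hex = m + 1 := by
    refine ⟨Nat.find hex - 1, ?_⟩
    have : Nat.find hex ≠ 0 := fun h0 => hvW (by
      rw [h0] at hn
      simpa [T] using hn)
    omega
  rw [hm] at hn hmin
  -- independence below `m + 1`
  have hindep : ∀ c : ℕ → k, (∑ i ∈ Finset.range (m + 1), c i • (⇑F)^[i] v) ∈ W → c m = 0 := by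
    intro c hc
    by_contra hne
    refine hmin m (Nat.lt_succ_self m) ?_
    rw [Finset.sum_range_succ] at hc
    have h1 : ∑ i ∈ Finset.range m, c i • (⇑F)^[i] v ∈ T m :=
      Submodule.mem_sup_right (Submodule.sum_mem _ fun i hi => Submodule.smul_mem _ _
        (Submodule.subset_span ⟨i, Finset.mem_range.1 hi, rfl⟩))
    have h2 : c m • (⇑F)^[m] v ∈ T m := by
      simpa using (T m).sub_mem (Submodule.mem_sup_left (T := Submodule.span k ((fun i => (⇑F)^[i] v) '' Set.Iio m)) hc) h1
    simpa [smul_smul, inv_mul_cancel₀ hne] using (T m).smul_mem (c m)⁻¹ h2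
  obtain ⟨w₀, hw₀, z, hz, hwz⟩ := Submodule.mem_sup.1 hn
  have himage : (fun i => (⇑F)^[i] v) '' Set.Iio (m + 1)
      = Set.range fun i : Fin (m + 1) => (⇑F)^[(i : ℕ)] v := by
    ext y
    exact ⟨fun ⟨i, hi, h⟩ => ⟨⟨i, hi⟩, h⟩, fun ⟨i, h⟩ => ⟨i, i.2, h⟩⟩
  rw [himage, Submodule.mem_span_range_iff_exists_fun] at hz
  obtain ⟨a', ha'⟩ := hz
  let a : ℕ → k := fun i => if h : i < m + 1 then a' ⟨i, h⟩ else 0
  have hrel : (⇑F)^[m + 1] v = w₀ + ∑ i ∈ Finset.range (m + 1), a i • (⇑F)^[i] v := by
    rw [← hwz, ← ha', ← Fin.sum_univ_eq_sum_range (fun i => a i • (⇑F)^[i] v)]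
    congr 1
    exact Finset.sum_congr rfl fun i _ => by rw [show a i = a' i from dif_pos i.2]
  -- some coefficient is non-zero
  obtain ⟨i₀, hi₀, hai₀⟩ : ∃ i ∈ Finset.range (m + 1), a i ≠ 0 := by
    by_contra hall
    push_neg at hall
    have h0 : (⇑F)^[m + 1] v = w₀ := by
      rw [hrel, Finset.sum_eq_zero fun i hi => by rw [hall i hi, zero_smul], add_zero]
    rw [Function.iterate_succ_apply'] at h0
    obtain ⟨u, hu, hu'⟩ := exists_preimage p F hF hw₀
    have h1 : (⇑F)^[m] v = u := sub_eq_zero.1
      (hinj _ (R.sub_mem (hRi m) (hfix hu)) (by rw [map_sub, h0, hu', sub_self]))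
    exact hmin m (Nat.lt_succ_self m) (h1 ▸ Submodule.mem_sup_left hu)
  let c : k → ℕ → k := fun t j =>
    ∑ i ∈ Finset.range (j + 1), a i ^ p ^ (j - i) * t ^ p ^ (j + 1 - i)
  let P : k[X] := ∑ i ∈ Finset.range (m + 1), C (a i ^ p ^ (m - i)) * X ^ p ^ (m + 1 - i)
  have hp1 : ∀ {l : ℕ}, 0 < l → 1 < p ^ l := fun hl => Nat.one_lt_pow hl.ne' (Fact.out : p.Prime).one_lt
  have hcoef : P.coeff (p ^ (m + 1 - i₀)) = a i₀ ^ p ^ (m - i₀) := by
    rw [finsetSum_coeff, Finset.sum_eq_single i₀]
    · rw [coeff_C_mul_X_pow, if_pos rfl]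
    · intro i hi hne
      rw [coeff_C_mul_X_pow, if_neg]
      intro h
      have := Nat.pow_right_injective (Fact.out : p.Prime).two_le h
      rw [Finset.mem_range] at hi hi₀
      omega
    · exact fun h => absurd hi₀ h
  have hP0 : P.coeff 0 = 0 := by
    rw [finsetSum_coeff]
    refine Finset.sum_eq_zero fun i hi => ?_
    rw [coeff_C_mul_X_pow, if_neg]
    exact (pow_pos (Fact.out : p.Prime).pos _).ne
  have hP1 : P.coeff 1 = 0 := by
    rw [finsetSum_coeff]
    refine Finset.sum_eq_zero fun i hi => ?_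
    rw [coeff_C_mul_X_pow, if_neg]
    rw [Finset.mem_range] at hi
    exact (hp1 (by omega)).ne
  let Q : k[X] := (P - X).divX
  have hQ0 : Q.coeff 0 = -1 := by simp [Q, coeff_divX, hP1]
  have hQd : Q.degree ≠ 0 := by
    intro h
    have h1 : Q.coeff (p ^ (m + 1 - i₀) - 1) = 0 := by
      refine coeff_eq_zero_of_degree_lt ?_
      rw [h]
      rw [Finset.mem_range] at hi₀
      have := hp1 (show 0 < m + 1 - i₀ by omega)
      exact_mod_cast (show 0 < p ^ (m + 1 - i₀) - 1 by omega)
    rw [coeff_divX] at h1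
    rw [Finset.mem_range] at hi₀
    have h2 := hp1 (show 0 < m + 1 - i₀ by omega)
    rw [show p ^ (m + 1 - i₀) - 1 + 1 = p ^ (m + 1 - i₀) by omega, coeff_sub, hcoef, coeff_X,
      if_neg h2.ne, sub_zero] at h1
    exact pow_ne_zero _ hai₀ h1
  obtain ⟨t, ht⟩ := IsAlgClosed.exists_root Q hQd
  have ht0 : t ≠ 0 := fun h0 => by
    rw [h0, IsRoot, ← coeff_zero_eq_eval_zero, hQ0] at ht
    exact one_ne_zero (neg_eq_zero.1 ht)
  have hcm : c t m = t := by
    have h1 : (P - X).eval t = 0 := by
      rw [← X_mul_divX_add (P - X)]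
      have h2 : eval t (P - X).divX = 0 := ht
      simp [h2, coeff_sub, hP0]
    simp only [eval_sub, eval_X, sub_eq_zero, P, eval_finsetSum, eval_mul, eval_C, eval_pow] at h1
    exact h1
  have hc0 : c t 0 = a 0 * t ^ p := by simp [c]
  have hcs : ∀ j, c t (j + 1) = c t j ^ p + a (j + 1) * t ^ p := by
    intro j
    simp only [c]
    rw [Finset.sum_range_succ, sum_pow_char, Nat.sub_self, pow_zero, pow_one]
    congr 1
    · refine Finset.sum_congr rfl fun i hi => ?_
      rw [Finset.mem_range] at hi
      rw [mul_pow, ← pow_mul, ← pow_mul, ← pow_succ, ← pow_succ,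
        show j + 1 - i = j - i + 1 by omega, show j + 1 + 1 - i = j - i + 1 + 1 by omega]
    · rw [show j + 1 + 1 - (j + 1) = 1 by omega, pow_one]
  let w : V := ∑ i ∈ Finset.range (m + 1), c t i • (⇑F)^[i] v
  have hFw : F w - w = t ^ p • w₀ := by
    have e1 : F w = ∑ i ∈ Finset.range m, c t i ^ p • (⇑F)^[i + 1] v + t ^ p • (⇑F)^[m + 1] v := by
      simp only [w, map_sum, Finset.sum_range_succ, map_add, hF, hcm]
      simp only [← Function.iterate_succ_apply']
    have e2 : w = ∑ i ∈ Finset.range m, c t i ^ p • (⇑F)^[i + 1] v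
        + t ^ p • ∑ i ∈ Finset.range (m + 1), a i • (⇑F)^[i] v := by
      simp only [w]
      rw [Finset.smul_sum, Finset.sum_range_succ' _ m, Finset.sum_range_succ' _ m, hc0, ← add_assoc,
        ← Finset.sum_add_distrib]
      congr 1
      · refine Finset.sum_congr rfl fun i _ => ?_
        rw [hcs, add_smul, smul_smul, mul_comm (t ^ p)]
      · rw [smul_smul, mul_comm (t ^ p)]
    rw [e1, e2, hrel, smul_add]
    abel
  obtain ⟨u, hu, hu'⟩ := exists_sub_eq p F hF (Submodule.smul_mem W (t ^ p) hw₀)
  have hfixed : F (w - u) = w - u := by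
    rw [map_sub, ← sub_eq_zero]
    calc F w - F u - (w - u) = (F w - w) - (F u - u) := by abel
      _ = 0 := by rw [hFw, hu', sub_self]
  have hwW : w ∈ W := by
    have := W.add_mem (Submodule.subset_span (hfixed : w - u ∈ {v : V | F v = v})) hu
    rwa [sub_add_cancel] at this
  exact ht0 (hcm ▸ hindep (c t) hwW)

include hF in
theorem linearIndependent_fixed (s : Finset V) (hs : ∀ v ∈ s, F v = v)
    (hd : ∀ c : s → ℤ, (∑ v : s, c v • (v : V)) = 0 → ∀ v : s, (p : ℤ) ∣ c v) :
    LinearIndependent k (fun v : s => (v : V)) := by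
  classical
  suffices h : ∀ t : Finset V, t ⊆ s → ∀ c : V → k, ∑ v ∈ t, c v • v = 0 → ∀ v ∈ t, c v = 0 by
    rw [Fintype.linearIndependent_iff]
    intro g hg i
    have h1 := h s Finset.Subset.rfl (fun v => if hv : v ∈ s then g ⟨v, hv⟩ else 0) (by
      rw [← Finset.sum_coe_sort]
      exact (Finset.sum_congr rfl fun x _ => by rw [dif_pos x.2]).trans hg) i i.2
    rwa [dif_pos i.2] at h1
  intro t
  induction t using Finset.induction_on with
  | empty => intro _ c _ v hv; exact absurd hv (Finset.notMem_empty v)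
  | insert e t he ih =>
    intro hts c hc
    rw [Finset.insert_subset_iff] at hts
    rw [Finset.sum_insert he] at hc
    have hce : c e = 0 := by
      by_contra hne
      let d : V → k := fun v => (c e)⁻¹ * c v
      have hd1 : e + ∑ v ∈ t, d v • v = 0 := by
        have := congrArg (fun x => (c e)⁻¹ • x) hc
        simpa [smul_add, Finset.smul_sum, smul_smul, inv_mul_cancel₀ hne, d] using this
      have hd2 : e + ∑ v ∈ t, d v ^ p • v = 0 := by
        have := congrArg F hd1
        rw [map_add, map_sum, map_zero, hs e hts.1] at this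
        refine Eq.trans ?_ this
        congr 1
        exact Finset.sum_congr rfl fun v hv => by rw [hF, hs v (hts.2 hv)]
      have hd3 : ∀ v ∈ t, d v ^ p - d v = 0 := ih hts.2 _ (by
        simp only [sub_smul, Finset.sum_sub_distrib]
        rw [sub_eq_zero, ← add_right_inj e, hd1, hd2])
      have hint : ∀ v, ∃ n : ℤ, v ∈ t → (n : k) = d v := fun v => by
        by_cases hv : v ∈ t
        · obtain ⟨n, hn⟩ := (mem_bot_iff_intCast p k).1
            ((Subfield.mem_bot_iff_pow_eq_self k p).2 (sub_eq_zero.1 (hd3 v hv)))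
          exact ⟨n, fun _ => hn⟩
        · exact ⟨0, fun h => absurd h hv⟩
      choose n hn using hint
      let z : V → ℤ := fun v => if v = e then 1 else if v ∈ t then n v else 0
      have h0 : ∑ v : s, z v • (v : V) = 0 := by
        rw [Finset.sum_coe_sort s fun v => z v • v,
          ← Finset.sum_subset (Finset.insert_subset hts.1 hts.2) (fun v _ hv => by
            rw [Finset.mem_insert, not_or] at hv
            simp [z, hv.1, hv.2]), Finset.sum_insert he]
        refine Eq.trans ?_ hd1
        congr 1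
        · simp [z]
        · refine Finset.sum_congr rfl fun v hv => ?_
          have hve : v ≠ e := fun h => he (h ▸ hv)
          rw [← Int.cast_smul_eq_zsmul k]
          simp [z, hve, hv, hn v hv]
      have h1 := hd (fun v => z v) h0 ⟨e, hts.1⟩
      simp only [z, if_true] at h1
      exact (Fact.out : p.Prime).not_dvd_one (by exact_mod_cast h1)
    rw [hce, zero_smul, zero_add] at hc
    intro v hv
    rcases Finset.mem_insert.1 hv with rfl | hv
    · exact hce
    · exact ih hts.2 c hc v hv

include hF in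
theorem key' :
    IsCompl (Submodule.span k {v : V | F v = v})
        (Submodule.span k {v : V | ∃ m : ℕ, (⇑F)^[m] v = 0}) := by
  have hKmono : Monotone (ker p F hF) := monotone_nat_of_le_succ fun n v (hv : (⇑F)^[n] v = 0) => by
    show (⇑F)^[n + 1] v = 0
    rw [Function.iterate_succ_apply', hv, map_zero]
  obtain ⟨N₁, hN₁⟩ := monotone_stabilizes_iff_noetherian.2 (inferInstance : IsNoetherian k V)
    ⟨ker p F hF, hKmono⟩
  have hRanti : Monotone fun n => OrderDual.toDual (range p F hF n) :=
    monotone_nat_of_le_succ fun n => by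
      rintro _ ⟨y, rfl⟩
      exact ⟨F y, by rw [← Function.iterate_succ_apply]⟩
  obtain ⟨N₂, hN₂⟩ := monotone_stabilizes_iff_artinian.2 (inferInstance : IsArtinian k V)
    ⟨fun n => OrderDual.toDual (range p F hF n), hRanti⟩
  let N := max N₁ N₂
  have hK : ∀ m, N ≤ m → ker p F hF m = ker p F hF N := fun m hm =>
    (hN₁ m ((le_max_left _ _).trans hm)).symm.trans (hN₁ N (le_max_left _ _))
  have hR : ∀ m, N ≤ m → range p F hF m = range p F hF N := fun m hm =>
    OrderDual.toDual.injective
      ((hN₂ m ((le_max_right _ _).trans hm)).symm.trans (hN₂ N (le_max_right _ _)))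
  have hspanK : Submodule.span k {v : V | ∃ m : ℕ, (⇑F)^[m] v = 0} = ker p F hF N := by
    refine le_antisymm (Submodule.span_le.2 fun v ⟨m, hm⟩ => ?_) fun v hv => Submodule.subset_span ⟨N, hv⟩
    have h1 : v ∈ ker p F hF (max N m) := hKmono (le_max_right N m) (hm : v ∈ ker p F hF m)
    rwa [hK _ (le_max_left _ _)] at h1
  have hfix : Submodule.span k {v : V | F v = v} ≤ range p F hF N :=
    Submodule.span_le.2 fun v (hv : F v = v) => ⟨v, Function.iterate_fixed hv N⟩
  have hspanR : Submodule.span k {v : V | F v = v} = range p F hF N := by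
    refine le_antisymm hfix (range_le_span p F hF _ ?_ ?_ hfix)
    · rintro _ ⟨y, rfl⟩
      exact ⟨F y, by rw [← Function.iterate_succ_apply, Function.iterate_succ_apply']⟩
    · rintro _ ⟨y, rfl⟩ h
      have h1 : y ∈ ker p F hF (N + 1) := by
        show (⇑F)^[N + 1] y = 0
        rw [Function.iterate_succ_apply', h]
      rw [hK (N + 1) (Nat.le_succ N)] at h1
      exact h1
  rw [hspanK, hspanR]
  refine IsCompl.of_eq ?_ ?_
  · rw [eq_bot_iff]
    rintro _ ⟨⟨y, rfl⟩, hy⟩
    have h1 : y ∈ ker p F hF (N + N) := by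
      show (⇑F)^[N + N] y = 0
      rw [Function.iterate_add_apply]; exact hy
    rw [hK (N + N) (Nat.le_add_right N N)] at h1
    exact (Submodule.mem_bot k).2 h1
  · rw [eq_top_iff]
    intro x _
    have h1 : (⇑F)^[N] x ∈ range p F hF (N + N) := by rw [hR _ (Nat.le_add_right N N)]; exact ⟨x, rfl⟩
    obtain ⟨y, hy⟩ := h1
    rw [Function.iterate_add_apply] at hy
    refine Submodule.mem_sup.2 ⟨(⇑F)^[N] y, ⟨y, rfl⟩, x - (⇑F)^[N] y, ?_, add_sub_cancel _ _⟩
    show (⇑F)^[N] (x - (⇑F)^[N] y) = 0
    rw [iterate_map_sub, hy, sub_self]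

end Helper

namespace Helper

theorem key (p : ℕ) [Fact p.Prime] (k : Type u) [Field k]
    [IsAlgClosed k] [CharP k p] (V : Type u) [AddCommGroup V] [Module k V] [FiniteDimensional k V]
    (F : V →+ V) (hF : ∀ (a : k) (v : V), F (a • v) = a ^ p • F v) :
    IsCompl (Submodule.span k {v : V | F v = v})
        (Submodule.span k {v : V | ∃ m : ℕ, (⇑F)^[m] v = 0}) ∧
      ∀ (s : Finset V), (∀ v ∈ s, F v = v) →
        (∀ c : s → ℤ, (∑ v : s, c v • (v : V)) = 0 → ∀ v : s, (p : ℤ) ∣ c v) →
          LinearIndependent k (fun v : s => (v : V)) :=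
  ⟨key' p F hF, fun s hs hd => linearIndependent_fixed p F hF s hs hd⟩

end Helper


/-- Over an algebraically closed field: let k be an algebraically closed field of characteristic p > 0,
V a finite-dimensional k-vector space and F : V -> V a p-linear endomorphism (additive with F(a·v) =
a^p·F(v)). Let V^F be the set of vectors fixed by F (an F_p-subspace), V_0 the k-span of V^F and V_n
the k-span of the vectors killed by some iterate of F (these already form an F-stable subspace on
which F is nilpotent). Then V = V_0 ⊕ V_n, and V^F ⊗ k -> V_0 is bijective in the sense that any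
finitely many F-fixed vectors linearly independent over Z/p (every vanishing integer combination has
all coefficients divisible by p) are linearly independent over k. (The published statement asserts
this decomposition, with V^F ⊗ k ≅ V_0, for every PERFECT field k; that is false when k is not
separably closed — for k = Z/3, V = k and F = multiplication by 2 there are no nonzero fixed vectors
although F is bijective — and the decomposition is stated here over an algebraically closed field,
the case in which it holds.) -/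
theorem result (p : ℕ) [Fact p.Prime] (k : Type u) [Field k]
    [IsAlgClosed k] [CharP k p] (V : Type u) [AddCommGroup V] [Module k V] [FiniteDimensional k V]
    (F : V →+ V) (hF : ∀ (a : k) (v : V), F (a • v) = a ^ p • F v) :
    IsCompl (Submodule.span k {v : V | F v = v})
        (Submodule.span k {v : V | ∃ m : ℕ, (⇑F)^[m] v = 0}) ∧
      ∀ (s : Finset V), (∀ v ∈ s, F v = v) →
        (∀ c : s → ℤ, (∑ v : s, c v • (v : V)) = 0 → ∀ v : s, (p : ℤ) ∣ c v) →
          LinearIndependent k (fun v : s => (v : V)) := by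
  exact Helper.key p k V F hF

end Groth.Agent.S8604
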