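import Groth.Statements.S8607
-- import your own Groth.Agent.* helpers here

set_option autoImplicit false
set_option backward.isDefEq.respectTransparency false
set_option maxHeartbeats 800000
set_option synthInstance.maxHeartbeats 200000
universe u
open CategoryTheory CategoryTheory.Limits AlgebraicGeometry Opposite
open DEt

namespace Groth.Agent.S8607

/-- The equalizing half of 'the category of compactifications of f is cofiltering': let f : X -> Y be a
morphism of quasi-compact quasi-separated schemes, (Xbar_1, j_1, fbar_1) and (Xbar_2, j_2, fbar_2)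
two compactifications of f, and r, s : Xbar_1 -> Xbar_2 two morphisms of compactifications (r ∘ j_1
= j_2 = s ∘ j_1 and fbar_2 ∘ r = fbar_1 = fbar_2 ∘ s). Then there are a compactification (Xbar, j,
fbar) of f and a proper morphism t : Xbar -> Xbar_1 of compactifications (t ∘ j = j_1, fbar_1 ∘ t =
fbar) with r ∘ t = s ∘ t. -/
theorem result {X Y : Scheme.{u}} [CompactSpace ↥X] [QuasiSeparatedSpace ↥X]
    [CompactSpace ↥Y] [QuasiSeparatedSpace ↥Y] {f : X ⟶ Y} (c₁ c₂ : DEt.Compactification f)
    (r s : c₁.Xbar ⟶ c₂.Xbar) (hr : c₁.j ≫ r = c₂.j) (hs : c₁.j ≫ s = c₂.j)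
    (hr' : r ≫ c₂.fbar = c₁.fbar) (hs' : s ≫ c₂.fbar = c₁.fbar) :
    ∃ (c : DEt.Compactification f) (t : c.Xbar ⟶ c₁.Xbar), IsProper t ∧ c.j ≫ t = c₁.j ∧ t ≫ c₁.fbar = c.fbar ∧
      t ≫ r = t ≫ s := by
  haveI := c₂.isProper
  let X' : Over Y := Over.mk c₁.fbar
  let r' : X' ⟶ Over.mk c₂.fbar := Over.homMk r hr'
  let s' : X' ⟶ Over.mk c₂.fbar := Over.homMk s hs'
  haveI : IsSeparated (Over.mk c₂.fbar).hom := inferInstanceAs (IsSeparated c₂.fbar)
  let e := equalizer.ι r' s'
  haveI : IsClosedImmersion e.left := AlgebraicGeometry.isClosedImmersion_equalizer_ι_left r' s'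
  have he : e.left ≫ r = e.left ≫ s := congrArg CommaMorphism.left (equalizer.condition r' s')
  let j' : Over.mk f ⟶ X' := Over.homMk c₁.j c₁.fac
  have hj : j' ≫ r' = j' ≫ s' := Over.OverMorphism.ext (hr.trans hs.symm)
  let j₀ := equalizer.lift j' hj
  have hje : j₀.left ≫ e.left = c₁.j := congrArg CommaMorphism.left (equalizer.lift_ι j' hj)
  haveI : IsOpenImmersion j₀.left := by
    haveI : IsOpenImmersion (pullback.snd c₁.j e.left) := inferInstance
    have hp : IsPullback (𝟙 X) j₀.left c₁.j e.left :=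
      IsPullback.of_horiz_isIso_mono ⟨(Category.id_comp _).trans hje.symm⟩
    exact MorphismProperty.of_isPullback (P := @IsOpenImmersion) hp inferInstance
  refine ⟨⟨(equalizer r' s').left, j₀.left, e.left ≫ c₁.fbar, inferInstance, inferInstance,
    by rw [reassoc_of% hje, c₁.fac]⟩, e.left, inferInstance, hje, rfl, he⟩

end Groth.Agent.S8607
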