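import Groth.Statements.S8611
import Groth.Agent.DeltaIsoLib

set_option autoImplicit false
universe w v u
open CategoryTheory CategoryTheory.Limits
open SGA4h

namespace Groth.Agent.S8611

/-- Let C be an abelian category, T and T' cohomological delta-functors on C in degrees ≥ 0 with values
in abelian groups, both left exact in degree 0, with T effaceable in every degree q > 0 (every
element of T^q(A) is killed by T^q(u) for some monomorphism u : A → M, depending on the element),
and φ : T → T' a morphism of delta-functors. Let E be a class of objects such that every object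
admits a monomorphism into a member of E. Then the following are equivalent: (i) φ^q(A) is bijective
for all q and all A; (ii) φ^0(M) is bijective and φ^q(M) is surjective for q > 0, for all M in E;
(iii) φ^0(A) is bijective for all A and T' is effaceable in every degree > 0 (in the same
element-wise sense). Stated as (i) ⇔ (ii) together with (i) ⇔ (iii). -/
theorem result {C : Type u} [Category.{v} C] [Abelian C]
    (T T' : DeltaF.CohDeltaFunctor C AddCommGrpCat.{w} ℕ) (hT0 : T.ZeroMono) (hT'0 : T'.ZeroMono)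
    (hT : ∀ (q : ℕ) (A : C) (α : (T.F (q + 1)).obj A),
      ∃ (M : C) (u : A ⟶ M), Mono u ∧ (T.F (q + 1)).map u α = 0)
    (φ : T ⟶ T') (E : ObjectProperty C)
    (hE : ∀ A : C, ∃ (M : C) (i : A ⟶ M), Mono i ∧ E M) :
    ((∀ (q : ℕ) (A : C), IsIso ((φ.app q).app A)) ↔
      ((∀ M : C, E M → IsIso ((φ.app 0).app M)) ∧
        ∀ (q : ℕ) (M : C), E M → Epi ((φ.app (q + 1)).app M))) ∧
    ((∀ (q : ℕ) (A : C), IsIso ((φ.app q).app A)) ↔
      ((∀ A : C, IsIso ((φ.app 0).app A)) ∧
        ∀ (q : ℕ) (A : C) (α : (T'.F (q + 1)).obj A),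
          ∃ (M : C) (u : A ⟶ M), Mono u ∧ (T'.F (q + 1)).map u α = 0)) := by
  have hb : ∀ (q : ℕ) (A : C), IsIso ((φ.app q).app A) ↔ Function.Bijective ((φ.app q).app A) :=
    fun q A => ConcreteCategory.isIso_iff_bijective _
  have base : (∀ M : C, E M → IsIso ((φ.app 0).app M)) → ∀ A : C, IsIso ((φ.app 0).app A) := by
    intro h0 A
    have inj : ∀ A, Function.Injective ((φ.app 0).app A) := fun A => by
      obtain ⟨M, u, hu, hM⟩ := hE A
      exact DeltaIsoLib.inj_zero φ hT0 u ((hb 0 M).mp (h0 M hM)).1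
    obtain ⟨M, u, hu, hM⟩ := hE A
    exact (hb 0 A).mpr (DeltaIsoLib.bij_zero φ hT0 hT'0 u ((hb 0 M).mp (h0 M hM)) (inj _))
  have inj : ∀ q, (∀ A, IsIso ((φ.app q).app A)) → ∀ A,
      Function.Injective ((φ.app (q + 1)).app A) := fun q hq A => by
    rw [injective_iff_map_eq_zero]
    intro α hα
    obtain ⟨M, u, hu, hu'⟩ := hT q A α
    exact DeltaIsoLib.inj_succ φ q u ((hb q M).mp (hq M)).2 ((hb q _).mp (hq _)).1 α hu' hα
  refine ⟨⟨fun h => ⟨fun M _ => h 0 M, fun q M _ => ?_⟩, fun h => ?_⟩,
    ⟨fun h => ⟨h 0, fun q A α => ?_⟩, fun h => ?_⟩⟩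
  · haveI := h (q + 1) M
    infer_instance
  · intro q
    induction q with
    | zero => exact base h.1
    | succ q ih =>
      intro A
      obtain ⟨M, u, hu, hM⟩ := hE A
      exact (hb _ A).mpr ⟨inj q ih A, DeltaIsoLib.surj_succ φ q u
        ((AddCommGrpCat.epi_iff_surjective _).mp (h.2 q M hM)) (inj q ih _) ((hb q _).mp (ih _)).2⟩
  · obtain ⟨x, rfl⟩ := ((hb (q + 1) A).mp (h (q + 1) A)).2 α
    obtain ⟨M, u, hu, hu'⟩ := hT q A x
    exact ⟨M, u, hu, by rw [← DeltaIsoLib.nat, hu', map_zero]⟩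
  · intro q
    induction q with
    | zero => exact h.1
    | succ q ih =>
      intro A
      refine (hb _ A).mpr ⟨inj q ih A, fun α => ?_⟩
      obtain ⟨M, u, hu, hu'⟩ := h.2 q A α
      exact DeltaIsoLib.surj_succ_of_killed φ q u ((hb q _).mp (ih _)).2 α hu'

end Groth.Agent.S8611
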