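import Groth.Statements.S8612
import Mathlib
import Groth.Agent.DeltaIsoColim

set_option autoImplicit false
universe w v u
open CategoryTheory CategoryTheory.Limits
open SGA4h

namespace Groth.Agent.S8612

/-- Let C be an abelian category with filtered colimits, T and T' cohomological delta-functors on C in
degrees ≥ 0 with values in abelian groups, both left exact in degree 0 and commuting with filtered
colimits in every degree, and φ : T → T' a morphism of delta-functors. Let D and E be classes of
objects such that (a) every object of C is a filtered colimit of objects of D and (b) every object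
of D admits a monomorphism into a member of E. Then φ^q(A) is bijective for all q and all A if and
only if φ^q(M) is bijective for all q and all M in E. -/
theorem result {C : Type u} [Category.{v} C] [Abelian C]
    [HasFilteredColimitsOfSize.{v, v} C]
    (T T' : DeltaF.CohDeltaFunctor C AddCommGrpCat.{w} ℕ) (hT0 : T.ZeroMono) (hT'0 : T'.ZeroMono)
    [∀ n, PreservesFilteredColimitsOfSize.{v, v} (T.F n)] [∀ n, PreservesFilteredColimitsOfSize.{v, v} (T'.F n)]
    (φ : T ⟶ T') (D E : ObjectProperty C)
    (hD : ∀ A : C, ∃ (J : Type v) (_ : SmallCategory J) (_ : IsFiltered J) (K : J ⥤ C) (c : Cocone K)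
      (_ : IsColimit c), (∀ j, D (K.obj j)) ∧ Nonempty (c.pt ≅ A))
    (hE : ∀ A : C, D A → ∃ (M : C) (i : A ⟶ M), Mono i ∧ E M) :
    (∀ (q : ℕ) (A : C), IsIso ((φ.app q).app A)) ↔
      ∀ (q : ℕ) (M : C), E M → IsIso ((φ.app q).app M) := by
  have hb : ∀ (q : ℕ) (A : C), IsIso ((φ.app q).app A) ↔ Function.Bijective ((φ.app q).app A) :=
    fun q A => ConcreteCategory.isIso_iff_bijective _
  refine ⟨fun h q M _ => h q M, fun h => ?_⟩
  have hinj : ∀ q, (∀ A, D A → Function.Injective ((φ.app q).app A)) →
      ∀ A, Function.Injective ((φ.app q).app A) := fun q hq A => by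
    obtain ⟨J, _, _, K, c, hc, hK, ⟨e⟩⟩ := hD A
    have := DeltaIsoLib.injective_at_colimit hc (φ.app q) fun j => hq _ (hK j)
    rw [DeltaIsoLib.app_eq e _ _ (φ.app q)]
    exact (((ConcreteCategory.isIso_iff_bijective _).mp inferInstance).1.comp
      (this.comp ((ConcreteCategory.isIso_iff_bijective _).mp inferInstance).1))
  have hall : ∀ q, (∀ A, D A → Function.Bijective ((φ.app q).app A)) →
      ∀ A, IsIso ((φ.app q).app A) := fun q hq A => by
    obtain ⟨J, _, _, K, c, hc, hK, ⟨e⟩⟩ := hD A
    exact (hb q A).mpr (DeltaIsoLib.bijective_transfer e _ _ (φ.app q)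
      ⟨DeltaIsoLib.injective_at_colimit hc (φ.app q) fun j => (hq _ (hK j)).1,
        DeltaIsoLib.surjective_at_colimit hc (φ.app q) fun j => (hq _ (hK j)).2⟩)
  intro q
  induction q with
  | zero =>
    refine hall 0 fun A hA => ?_
    obtain ⟨M, u, hu, hM⟩ := hE A hA
    refine DeltaIsoLib.bij_zero φ hT0 hT'0 u ((hb 0 M).mp (h 0 M hM)) (hinj 0 (fun B hB => ?_) _)
    obtain ⟨N, v, hv, hN⟩ := hE B hB
    exact DeltaIsoLib.inj_zero φ hT0 v ((hb 0 N).mp (h 0 N hN)).1
  | succ q ih =>
    have inj : ∀ A, D A → Function.Injective ((φ.app (q + 1)).app A) := fun A hA => by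
      rw [injective_iff_map_eq_zero]
      intro α hα
      obtain ⟨M, u, hu, hM⟩ := hE A hA
      have hk : (T.F (q + 1)).map u α = 0 := ((hb _ M).mp (h (q + 1) M hM)).1 (by
        rw [DeltaIsoLib.nat, hα, map_zero, map_zero])
      exact DeltaIsoLib.inj_succ φ q u ((hb q M).mp (ih M)).2 ((hb q _).mp (ih _)).1 α hk hα
    refine hall (q + 1) fun A hA => ⟨inj A hA, ?_⟩
    obtain ⟨M, u, hu, hM⟩ := hE A hA
    exact DeltaIsoLib.surj_succ φ q u ((hb _ M).mp (h (q + 1) M hM)).2 (hinj _ inj _)
      ((hb q _).mp (ih _)).2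

end Groth.Agent.S8612
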