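import Groth.Statements.S8618
import Groth.Agent.PLinLib.Fixed
-- import your own Groth.Agent.* helpers here

set_option autoImplicit false
set_option backward.isDefEq.respectTransparency false
set_option maxHeartbeats 800000
set_option synthInstance.maxHeartbeats 200000
universe u
open SGA4h

namespace Groth.Agent.S8618

open TensorProduct in
/-- Let k be a finite field with q = p^f elements, F₀ ⊂ k its prime field, K an algebraically closed
extension of k, V a finite-dimensional k-vector space and φ a p-linear endomorphism of V (φ(λx) =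
λ^p φ(x)); let F = φ^f, a k-linear endomorphism, F_K its K-linear extension to K ⊗_k V and φ_K the
p-linear extension of φ (φ_K(μ ⊗ v) = μ^p ⊗ φ(v)). Then F_K preserves the F₀-subspace W = Ker(φ_K -
1) of K ⊗_k V, W is finite-dimensional over F₀, and the trace of F_K on W (an element of F₀) equals
the trace of F on V. -/
theorem result {p : ℕ} [Fact p.Prime] (k : Type u) [Field k] [Fintype k]
    [CharP k p] (f : ℕ) (hq : Fintype.card k = p ^ f) (K : Type u) [Field K] [Algebra k K] [IsAlgClosed K]
    (V : Type u) [AddCommGroup V] [Module k V] [FiniteDimensional k V]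
    (φ : V →ₛₗ[frobenius k p] V) (F : V →ₗ[k] V) (hF : ∀ x, F x = (⇑φ)^[f] x)
    (φK : K ⊗[k] V →+ K ⊗[k] V) (hφK : ∀ (μ : K) (v : V), φK (μ ⊗ₜ[k] v) = (μ ^ p) ⊗ₜ[k] φ v)
    (W : Submodule (↥(⊥ : Subfield k)) (K ⊗[k] V)) (hW : ∀ y, y ∈ W ↔ φK y = y) :
    (∀ y, φK y = y → φK (F.baseChange K y) = F.baseChange K y) ∧
    Module.Finite (↥(⊥ : Subfield k)) ↥W ∧
    ∀ (G : ↥W →ₗ[↥(⊥ : Subfield k)] ↥W), (∀ y : ↥W, (↑(G y) : K ⊗[k] V) = F.baseChange K ↑y) →
      algebraMap k K (algebraMap (↥(⊥ : Subfield k)) k (LinearMap.trace (↥(⊥ : Subfield k)) ↥W G)) =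
        algebraMap k K (LinearMap.trace k V F) := by
  have hp : p.Prime := Fact.out
  haveI : CharP K p := charP_of_injective_algebraMap (algebraMap k K).injective p
  have hsm : ∀ (c : K) (x : K ⊗[k] V), φK (c • x) = c ^ p • φK x := by
    intro c x
    induction x using TensorProduct.induction_on with
    | zero => simp
    | tmul μ v => simp [TensorProduct.smul_tmul', hφK, mul_pow]
    | add x y hx hy => simp [map_add, smul_add, hx, hy]
  have hFφ : ∀ v, φ (F v) = F (φ v) := fun v => by
    rw [hF, hF, ← Function.iterate_succ_apply, Function.iterate_succ_apply']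
  have hcomm : ∀ y, φK (F.baseChange K y) = F.baseChange K (φK y) := by
    intro y
    induction y using TensorProduct.induction_on with
    | zero => simp
    | tmul μ v => simp [hφK, hFφ]
    | add x y hx hy => simp [map_add, hx, hy]
  have hF₀ : ∀ c : K, c ^ p = c → c ∈ (⊥ : Subfield K) := fun c hc => (Subfield.mem_bot_iff_pow_eq_self K p).2 hc
  obtain ⟨N, R, Z, hR, hZ, hRZ, hφR, hRinj⟩ := Groth.Agent.PLinLib.exists_fitting (p := p) φK hsm
  have hiter : ∀ n y, (⇑φK)^[n] (F.baseChange K y) = F.baseChange K ((⇑φK)^[n] y) := fun n y => by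
    induction n with
    | zero => rfl
    | succ n ih => rw [Function.iterate_succ_apply', Function.iterate_succ_apply', ih, hcomm]
  have hFR : ∀ x ∈ R, F.baseChange K x ∈ R := fun x hx => by
    obtain ⟨y, rfl⟩ := (hR x).1 hx
    exact (hR _).2 ⟨F.baseChange K y, hiter N y⟩
  have hFZ : ∀ x ∈ Z, F.baseChange K x ∈ Z := fun x hx => by
    rw [hZ, hiter, (hZ x).1 hx, map_zero]
  have hWR : ∀ y : ↥W, (y : K ⊗[k] V) ∈ R := fun y =>
    (hR _).2 ⟨y, Function.iterate_fixed ((hW _).1 y.2) N⟩
  -- fixed vectors independent over the prime field are independent over `K`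
  have hli : ∀ {ι : Type u} (v : ι → ↥W), LinearIndependent (↥(⊥ : Subfield k)) v →
      LinearIndependent K (fun i => (v i : K ⊗[k] V)) := by
    intro ι v hv
    refine Groth.Agent.PLinLib.linearIndependent_fixed (p := p) φK hsm (F := (⊥ : Subfield K)) hF₀ _
      (fun i => (hW _).1 (v i).2) ?_
    intro s g hgF hg i hi
    have hg' : ∀ i, ∃ a : ↥(⊥ : Subfield k), algebraMap k K a = g i := fun i => by
      have h : g i ∈ (⊥ : Subfield k).map (algebraMap k K) := by
        rw [Subfield.map_bot]
        exact hgF i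
      obtain ⟨a, ha, e⟩ := Subfield.mem_map.1 h
      exact ⟨⟨a, ha⟩, e⟩
    choose a ha using hg'
    have hz : ∑ j ∈ s, a j • v j = 0 := by
      apply Subtype.ext
      simp only [Submodule.coe_sum, Submodule.coe_zero, Submodule.coe_smul]
      refine Eq.trans (Finset.sum_congr rfl fun j _ => ?_) hg
      rw [← ha j, algebraMap_smul]
      rfl
    have := (linearIndependent_iff' (R := ↥(⊥ : Subfield k)) (v := v)).1 hv s a hz i hi
    rw [← ha i, this]
    simp
  haveI hfin : Module.Finite (↥(⊥ : Subfield k)) ↥W := by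
    obtain ⟨ι, b⟩ : Σ ι : Type u, Module.Basis ι (↥(⊥ : Subfield k)) ↥W :=
      ⟨_, Module.Basis.ofVectorSpace (↥(⊥ : Subfield k)) ↥W⟩
    haveI := (hli _ b.linearIndependent).finite
    exact Module.Finite.of_basis b
  refine ⟨fun y hy => by rw [hcomm, hy], hfin, fun G hG => ?_⟩
  let ι := Module.Basis.ofVectorSpaceIndex (↥(⊥ : Subfield k)) ↥W
  let b : Module.Basis ι (↥(⊥ : Subfield k)) ↥W := Module.Basis.ofVectorSpace (↥(⊥ : Subfield k)) ↥W
  haveI : Fintype ι := Fintype.ofFinite ι
  let v : ι → ↥R := fun i => ⟨(b i : K ⊗[k] V), hWR (b i)⟩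
  have hvli : LinearIndependent K v :=
    LinearIndependent.of_comp R.subtype (hli _ b.linearIndependent)
  let φR : ↥R →+ ↥R :=
    AddMonoidHom.mk' (fun x => ⟨φK x, hφR x x.2⟩) (fun x y => Subtype.ext (map_add φK _ _))
  have hspan : Submodule.span K (Set.range v) = ⊤ := by
    rw [eq_top_iff, ← Groth.Agent.PLinLib.span_fixed (p := p) φR (fun c x => Subtype.ext (hsm c x))
      ((injective_iff_map_eq_zero φR).2 fun x hx => Subtype.ext (hRinj x x.2 (congrArg Subtype.val hx)))]
    refine Submodule.span_le.2 fun x (hx : φR x = x) => ?_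
    let xw : ↥W := ⟨x, (hW _).2 (congrArg Subtype.val hx)⟩
    have hs := congrArg Subtype.val (b.sum_repr xw)
    have e : x = ∑ i, algebraMap k K (b.repr xw i : k) • v i := by
      apply Subtype.ext
      simp only [Submodule.coe_sum, Submodule.coe_smul, Subfield.smul_def] at hs ⊢
      simp only [v, algebraMap_smul]
      exact hs.symm
    rw [e]
    exact Submodule.sum_mem _ fun i _ => Submodule.smul_mem _ _ (Submodule.subset_span ⟨i, rfl⟩)
  let bR : Module.Basis ι K ↥R := Module.Basis.mk hvli hspan.ge
  have htR : LinearMap.trace K ↥R ((F.baseChange K).restrict hFR) =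
      algebraMap k K (LinearMap.trace (↥(⊥ : Subfield k)) ↥W G : k) := by
    classical
    rw [LinearMap.trace_eq_matrix_trace K bR, LinearMap.trace_eq_matrix_trace _ b, Matrix.trace,
      Matrix.trace, AddSubmonoidClass.coe_finset_sum, map_sum]
    refine Finset.sum_congr rfl fun j _ => ?_
    simp only [Matrix.diag_apply, LinearMap.toMatrix_apply]
    have e : (F.baseChange K).restrict hFR (bR j) = ∑ i, algebraMap k K (b.repr (G (b j)) i : k) • bR i := by
      apply Subtype.ext
      have hs := congrArg Subtype.val (b.sum_repr (G (b j)))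
      simp only [Submodule.coe_sum, Submodule.coe_smul, Subfield.smul_def] at hs ⊢
      simp only [bR, Module.Basis.mk_apply, v, algebraMap_smul, LinearMap.coe_restrict_apply]
      rw [hs, hG]
    rw [e, bR.repr_sum_self]
  have hnil : IsNilpotent ((F.baseChange K).restrict hFZ) := by
    refine ⟨N, LinearMap.ext fun z => Subtype.ext ?_⟩
    rw [Module.End.pow_apply]
    have hc : ∀ n, (Subtype.val ((⇑((F.baseChange K).restrict hFZ))^[n] z)) =
        (⇑(F.baseChange K))^[n] (z : K ⊗[k] V) := fun n => by
      induction n with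
      | zero => rfl
      | succ n ih => rw [Function.iterate_succ_apply', Function.iterate_succ_apply', LinearMap.coe_restrict_apply, ih]
    rw [hc]
    let σ : K →ₗ[k] K :=
      { toFun := fun x => x ^ (p ^ (f * N))
        map_add' := fun x y => add_pow_char_pow x y p (f * N)
        map_smul' := fun c x => by
          change (c • x) ^ _ = c • x ^ _
          rw [smul_pow]
          congr 1
          rw [pow_mul, ← hq]
          exact FiniteField.pow_card_pow N c }
    have hσ : ∀ y, (⇑φK)^[f * N] y = LinearMap.rTensor V σ ((⇑(F.baseChange K))^[N] y) := by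
      have hφn : ∀ n (μ : K) (w : V), (⇑φK)^[n] (μ ⊗ₜ[k] w) = (μ ^ p ^ n) ⊗ₜ[k] (⇑φ)^[n] w := by
        intro n μ w
        induction n with
        | zero => simp
        | succ n ih => rw [Function.iterate_succ_apply', ih, hφK, ← pow_mul, ← pow_succ, Function.iterate_succ_apply']
      have hFn : ∀ n (μ : K) (w : V), (⇑(F.baseChange K))^[n] (μ ⊗ₜ[k] w) = μ ⊗ₜ[k] (⇑φ)^[f * n] w := by
        intro n μ w
        induction n with
        | zero => simp
        | succ n ih =>
          rw [Function.iterate_succ_apply', ih, LinearMap.baseChange_tmul, hF, ← Function.iterate_add_apply,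
            show f * (n + 1) = f + f * n by ring]
      intro y
      induction y using TensorProduct.induction_on with
      | zero => simp [iterate_map_zero]
      | tmul μ w => rw [hφn, hFn, LinearMap.rTensor_tmul]; rfl
      | add x y hx hy => rw [iterate_map_add, iterate_map_add, map_add, hx, hy]
    apply (Module.Flat.rTensor_preserves_injective_linearMap (M := V) σ (fun x y h =>
      iterateFrobenius_inj K p (f * N) h))
    by_cases hf : f = 0
    · exfalso
      rw [hf, pow_zero] at hq
      exact absurd hq (Fintype.one_lt_card (α := k)).ne'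
    rw [← hσ]
    obtain ⟨j, hj⟩ : ∃ j, f * N = j + N := ⟨f * N - N, (Nat.sub_add_cancel (Nat.le_mul_of_pos_left N (Nat.pos_of_ne_zero hf))).symm⟩
    rw [hj, Function.iterate_add_apply, (hZ _).1 z.2, iterate_map_zero]
    simp
  have htZ : LinearMap.trace K ↥Z ((F.baseChange K).restrict hFZ) = 0 :=
    (LinearMap.isNilpotent_trace_of_isNilpotent (R := K) (M := ↥Z) hnil).eq_zero
  rw [← LinearMap.trace_baseChange F K]
  let NN : Bool → Submodule K (K ⊗[k] V) := fun b => cond b R Z
  have hint : DirectSum.IsInternal NN :=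
    (DirectSum.isInternal_submodule_iff_isCompl NN (i := true) (j := false) (by decide) (by ext b; cases b <;> simp)).2 hRZ
  haveI : ∀ i, Module.Free K ↥(NN i) := fun i => Module.Free.of_divisionRing K ↥(NN i)
  haveI : ∀ i, Module.Finite K ↥(NN i) := fun i => FiniteDimensional.finiteDimensional_submodule _
  rw [LinearMap.trace_eq_sum_trace_restrict hint (f := F.baseChange K) (fun b => by
    cases b
    · exact hFZ
    · exact hFR), Fintype.sum_bool]
  exact (htR.symm.trans (add_zero _).symm).trans (congrArg₂ (· + ·) rfl htZ.symm)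

end Groth.Agent.S8618
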