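import Groth.Statements.S8619
import Groth.Agent.LTensorLib.Cons
set_option maxHeartbeats 1000000
set_option backward.isDefEq.respectTransparency false
-- import your own Groth.Agent.* helpers here

set_option autoImplicit false
universe u
open CategoryTheory CategoryTheory.Limits AlgebraicGeometry
open SGA4h

namespace Groth.Agent.S8619

/-- Let X be a Noetherian scheme, Λ a commutative Noetherian ring and K a cochain complex of etale
sheaves of Λ-modules on X whose cohomology sheaves are constructible and vanish in large degrees.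
Then there are a cochain complex K', zero in large degrees, whose components are constructible
sheaves of Λ-modules with flat geometric stalks, and a quasi-isomorphism K' → K. (The published
statement allows a left-Noetherian, possibly non-commutative Λ.) -/
theorem result {Λ : Type (u + 1)} [CommRing Λ]
    [IsNoetherianRing Λ] {X : Scheme.{u}} [IsNoetherian X]
    (K : CochainComplex (EtModW.Mod Λ X) ℤ)
    (hK : ∀ i : ℤ, EtModW.IsConstructible Λ (K.homology i))
    (hb : ∃ m : ℤ, ∀ i : ℤ, m ≤ i → IsZero (K.homology i)) :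
    ∃ (K' : CochainComplex (EtModW.Mod Λ X) ℤ) (φ : K' ⟶ K), QuasiIso φ ∧
      (∃ m : ℤ, ∀ i : ℤ, m ≤ i → IsZero (K'.X i)) ∧
      (∀ i : ℤ, EtModW.IsConstructible Λ (K'.X i)) ∧
      ∀ (i : ℤ) (Ω : Type u) [Field Ω] [IsSepClosed Ω] (ξ : Spec (CommRingCat.of Ω) ⟶ X),
        Module.Flat Λ ((EtModW.stalk Λ ξ).obj (K'.X i)) := by
  obtain ⟨m, hm⟩ := hb
  haveI : K.IsLE (m - 1) := (CochainComplex.isLE_iff K (m - 1)).2 fun i hi =>
    (K.exactAt_iff_isZero_homology i).2 (hm i (by omega))
  have hc : ∀ i, EtModW.IsConstructible Λ ((K.truncLE (m - 1)).homology i) := fun i => by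
    haveI hq : QuasiIso (K.ιTruncLE (m - 1)) := inferInstance
    haveI := hq.quasiIsoAt i
    exact Groth.Agent.EtConsLib.isConstructible_of_iso'
      (asIso (HomologicalComplex.homologyMap (K.ιTruncLE (m - 1)) i)).symm (hK i)
  obtain ⟨M, g, hg, hz, hf, hMc⟩ := Groth.Agent.LTensorLib.exists_flat_cons_resolution (K.truncLE (m - 1)) (m - 1)
    (fun n hn => CochainComplex.isZero_of_isStrictlyLE _ (m - 1) n hn) hc
  exact ⟨M, g ≫ K.ιTruncLE (m - 1), inferInstance, ⟨m, fun i hi => hz i (by omega)⟩, hMc, hf⟩

end Groth.Agent.S8619
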