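import Groth.Statements.S8620
import Groth.Agent.HenLineLib.GeomFibreRing
import Groth.Agent.HenLineLib.CoverTrivial
-- import your own Groth.Agent.* helpers here

set_option autoImplicit false
universe u
open CategoryTheory CategoryTheory.Limits AlgebraicGeometry
open SGA4h

namespace Groth.Agent.S8620

open Polynomial in
/-- Let A be a strictly henselian local ring with maximal ideal m, P = (m, T) ⊂ A[T], R a henselization
of A[T]_P (so Spec R → Spec A is the strict localization of the affine line at the origin of the
closed fibre), t a point of Spec A (a prime ideal 𝔭) and Ω an algebraic closure of its residue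
field, X_t̄ = Spec R ×_{Spec A} Spec Ω the geometric fibre. Then every connected finite etale cover
Y → X_t̄ that is Galois (its automorphism group acts transitively on every geometric fibre) with
automorphism group of order prime to the residue characteristic of A is trivial: Y → X_t̄ is an
isomorphism. -/
theorem result
    (A : Type u) [CommRing A] [IsLocalRing A] (hA : EtCoh.IsStrictlyHenselianLocalRing A)
    (P : Ideal A[X]) [P.IsMaximal]
    (hP : P = (IsLocalRing.maximalIdeal A).map (Polynomial.C : A →+* A[X]) ⊔ Ideal.span {Polynomial.X})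
    (R : Type u) [CommRing R] [IsLocalRing R] [Algebra (Localization.AtPrime P) R]
    [IsLocalHom (algebraMap (Localization.AtPrime P) R)] [Hensel.IsHenselization (Localization.AtPrime P) R]
    (𝔭 : Ideal A) [𝔭.IsPrime] (Ω : Type u) [Field Ω] [Algebra 𝔭.ResidueField Ω]
    [IsAlgClosure 𝔭.ResidueField Ω]
    (Y : FEt.Cat (pullback
      (Spec.map (CommRingCat.ofHom ((algebraMap (Localization.AtPrime P) R).comp
        ((algebraMap A[X] (Localization.AtPrime P)).comp Polynomial.C))))
      (Spec.map (CommRingCat.ofHom ((algebraMap 𝔭.ResidueField Ω).comp (algebraMap A 𝔭.ResidueField))))))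
    [ConnectedSpace ↥Y.left]
    (hgal : ∀ (Ω' : Type u) [Field Ω'] [IsAlgClosed Ω'] (ξ : Spec (CommRingCat.of Ω') ⟶ pullback
      (Spec.map (CommRingCat.ofHom ((algebraMap (Localization.AtPrime P) R).comp
        ((algebraMap A[X] (Localization.AtPrime P)).comp Polynomial.C))))
      (Spec.map (CommRingCat.ofHom ((algebraMap 𝔭.ResidueField Ω).comp (algebraMap A 𝔭.ResidueField)))))
      (s s' : FEt.fiberObj ξ Y), ∃ σ : Aut Y, (FEt.fiber ξ).map σ.hom s = s')
    (hord : ∀ q : ℕ, q.Prime → q ∣ Nat.card (Aut Y) → (q : IsLocalRing.ResidueField A) ≠ 0) :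
    IsIso Y.hom := by
  haveI : HenselianLocalRing A := hA.choose
  letI : Algebra A Ω := ((algebraMap 𝔭.ResidueField Ω).comp (algebraMap A 𝔭.ResidueField)).toAlgebra
  haveI : IsScalarTower A 𝔭.ResidueField Ω := IsScalarTower.of_algebraMap_eq' rfl
  haveI : IsAlgClosed Ω := IsAlgClosure.isAlgClosed 𝔭.ResidueField
  haveI : Algebra.IsAlgebraic 𝔭.ResidueField Ω := IsAlgClosure.isAlgebraic
  obtain ⟨L, _, _, _, l, k, F, _, _, _, h, hgalois⟩ := HenLineLib.exists_geomFibre_ring A P hP R Ω 𝔭
  exact HenLineLib.isIso_of_galois (F := F) (isPullback_SpecMap_of_isPushout _ _ _ _ h).isoPullback Y hgal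
    (hgalois _ fun p hp hd => (IsLocalRing.residue_ne_zero_iff_isUnit _).1 (by simpa using hord p hp hd))

end Groth.Agent.S8620
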