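import Groth.Statements.S8621
import Groth.Agent.HenLineLib.ZeroTrivial
import Groth.Agent.HenLineLib.CodimTwo
import Groth.Agent.HenLineLib.Setup
-- import your own Groth.Agent.* helpers here

set_option autoImplicit false
universe u
open CategoryTheory CategoryTheory.Limits AlgebraicGeometry
open SGA4h

namespace Groth.Agent.S8621

open Polynomial in
/-- Let A be a strictly henselian, normal, Noetherian local ring with maximal ideal m, P = (m, T) ⊂
A[T], R a henselization of A[T]_P, π : X = Spec R → Spec A the structure morphism and τ ∈ R the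
image of T. Let U be an open subset of Spec A whose complement has codimension ≥ 2 (every prime
outside U has height ≥ 2), V = π⁻¹(U), ι : Z = Spec R/(τ) → X the closed subscheme τ = 0 and V₀ =
ι⁻¹(V). If a finite etale cover W → V becomes trivial after restriction to V₀ (isomorphic over V₀ to
a finite disjoint union of copies of V₀), then W is trivial (isomorphic over V to a finite disjoint
union of copies of V). -/
theorem result
    (A : Type u) [CommRing A] [IsDomain A] [IsIntegrallyClosed A] [IsNoetherianRing A] [IsLocalRing A]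
    (hA : EtCoh.IsStrictlyHenselianLocalRing A) (P : Ideal A[X]) [P.IsMaximal]
    (hP : P = (IsLocalRing.maximalIdeal A).map (Polynomial.C : A →+* A[X]) ⊔ Ideal.span {Polynomial.X})
    (R : Type u) [CommRing R] [IsLocalRing R] [Algebra (Localization.AtPrime P) R]
    [IsLocalHom (algebraMap (Localization.AtPrime P) R)] [Hensel.IsHenselization (Localization.AtPrime P) R]
    (π : Spec (CommRingCat.of R) ⟶ Spec (CommRingCat.of A))
    (hπ : π = Spec.map (CommRingCat.ofHom ((algebraMap (Localization.AtPrime P) R).comp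
        ((algebraMap A[X] (Localization.AtPrime P)).comp Polynomial.C))))
    (τ : R) (hτ : τ = algebraMap (Localization.AtPrime P) R (algebraMap A[X] (Localization.AtPrime P) Polynomial.X))
    (U : (Spec (CommRingCat.of A)).Opens)
    (hU : ∀ p : PrimeSpectrum A, p ∉ U → (2 : WithBot ℕ∞) ≤ ringKrullDim (Localization.AtPrime p.asIdeal))
    (W : FEt.Cat (↑(π ⁻¹ᵁ U) : Scheme.{u}))
    (hW : ∃ (n : ℕ) (e : ((FEt.restrict ((Spec.map (CommRingCat.ofHom (Ideal.Quotient.mk (Ideal.span {τ})))).resLE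
          (π ⁻¹ᵁ U) ((Spec.map (CommRingCat.ofHom (Ideal.Quotient.mk (Ideal.span {τ})))) ⁻¹ᵁ (π ⁻¹ᵁ U))
          le_rfl)).obj W).left ≅
        ∐ fun _ : Fin n =>
          (↑((Spec.map (CommRingCat.ofHom (Ideal.Quotient.mk (Ideal.span {τ})))) ⁻¹ᵁ (π ⁻¹ᵁ U)) : Scheme.{u})),
        e.hom ≫ Sigma.desc (fun _ => 𝟙 _) =
          ((FEt.restrict ((Spec.map (CommRingCat.ofHom (Ideal.Quotient.mk (Ideal.span {τ})))).resLE
            (π ⁻¹ᵁ U) ((Spec.map (CommRingCat.ofHom (Ideal.Quotient.mk (Ideal.span {τ})))) ⁻¹ᵁ (π ⁻¹ᵁ U))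
            le_rfl)).obj W).hom) :
    ∃ (n : ℕ) (e : W.left ≅ ∐ fun _ : Fin n => (↑(π ⁻¹ᵁ U) : Scheme.{u})),
      e.hom ≫ Sigma.desc (fun _ => 𝟙 _) = W.hom := by
  subst hπ hτ
  haveI : HenselianLocalRing A := hA.choose
  haveI : HenselianLocalRing R :=
    (inferInstance : Hensel.IsHenselization (Localization.AtPrime P) R).henselian
  obtain ⟨ι, hιl, hι, hιc⟩ := HenLineLib.exists_toPowerSeries A P hP R
  haveI := hιl
  haveI := HenLineLib.isDomain ι hι
  haveI := HenLineLib.isNoetherianRing_line P R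
  let j : A →+* R := (algebraMap (Localization.AtPrime P) R).comp
    ((algebraMap A[X] (Localization.AtPrime P)).comp Polynomial.C)
  have hj : ∀ x, ι (j x) = PowerSeries.C x := fun x => (hιc (Polynomial.C x)).trans (Polynomial.coe_C x)
  let K := FractionRing A
  let Kb := AlgebraicClosure K
  let ε : R →+* A := (PowerSeries.constantCoeff (R := A)).comp ι
  have hεj : ∀ x, ε (j x) = x := fun x => by rw [RingHom.comp_apply, hj, PowerSeries.constantCoeff_C]
  let bA : PrimeSpectrum A := ⟨⊥, Ideal.isPrime_bot⟩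
  have hlow : ∀ p : Ideal A, (hp : p.IsPrime) → p.height ≤ 1 → (⟨p, hp⟩ : PrimeSpectrum A) ∈ U := fun p hp hp1 => by
    haveI := hp
    by_contra hn
    have h2 := hU ⟨p, hp⟩ hn
    rw [IsLocalization.AtPrime.ringKrullDim_eq_height p] at h2
    have h3 : ((2 : ℕ∞) : WithBot ℕ∞) ≤ ((1 : ℕ∞) : WithBot ℕ∞) := le_trans h2 (WithBot.coe_le_coe.2 hp1)
    rw [WithBot.coe_le_coe] at h3
    exact absurd h3 (by norm_num)
  have hclosed : IsClosed (X := PrimeSpectrum A) (SetLike.coe U)ᶜ := U.isOpen.isClosed_compl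
  obtain ⟨I, hI⟩ := (PrimeSpectrum.isClosed_iff_zeroLocus_ideal _).1 hclosed
  obtain ⟨s, hs⟩ := (IsNoetherian.noetherian I : I.FG)
  classical
  let t := s.filter fun a => a ≠ 0
  let α : Fin t.card → A := fun i => (t.equivFin.symm i).1
  have hαU : ∀ (i) (p : PrimeSpectrum A), α i ∉ p.asIdeal → p ∈ U := fun i p hip => by
    by_contra hn
    have h1 : p ∈ PrimeSpectrum.zeroLocus (I : Set A) := hI ▸ hn
    exact hip (h1 (hs ▸ Ideal.subset_span (Finset.mem_filter.1 (t.equivFin.symm i).2).1))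
  have hα : ∀ p : Ideal A, p.IsPrime → p.height ≤ 1 → ∃ i, α i ∉ p := fun p hp hp1 => by
    by_contra! hall
    have h1 : (⟨p, hp⟩ : PrimeSpectrum A) ∈ PrimeSpectrum.zeroLocus (I : Set A) := by
      rw [← hs, Ideal.submodule_span_eq, PrimeSpectrum.zeroLocus_span]
      intro a ha
      rcases eq_or_ne a 0 with rfl | ha0
      · exact p.zero_mem
      · have h0 := hall (t.equivFin ⟨a, Finset.mem_filter.2 ⟨ha, ha0⟩⟩)
        simpa [α] using h0
    rw [← hI] at h1
    exact h1 (hlow p hp hp1)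
  obtain ⟨i₀, -⟩ := hα ⊥ Ideal.isPrime_bot (by simp)
  have hα0 : ∀ i, α i ≠ 0 := fun i => (Finset.mem_filter.1 (t.equivFin.symm i).2).2
  let π := Spec.map (CommRingCat.ofHom j)
  let V := π ⁻¹ᵁ U
  have hαV : ∀ i, PrimeSpectrum.basicOpen (j (α i)) ≤ V := fun i x hx => hαU i _ hx
  let ρ : CommRingCat.of R ⟶ CommRingCat.of K := CommRingCat.ofHom ((algebraMap A K).comp ε)
  have hρV : ∀ z, (Spec.map ρ) z ∈ V := fun z => hαU i₀ _ fun hmem => by
    refine z.2.ne_top (Ideal.eq_top_of_isUnit_mem _ hmem (isUnit_iff_ne_zero.2 ?_))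
    show algebraMap A K (ε (j (α i₀))) ≠ 0
    rw [hεj]
    exact (map_ne_zero_iff _ (IsFractionRing.injective A K)).2 (hα0 i₀)
  let ξ : Spec (CommRingCat.of K) ⟶ (V : Scheme.{u}) := IsOpenImmersion.lift V.ι (Spec.map ρ) (by
    rw [Scheme.Opens.range_ι]
    rintro _ ⟨z, rfl⟩
    exact hρV z)
  have hξ : ξ ≫ V.ι = Spec.map ρ := IsOpenImmersion.lift_fac _ _ _
  -- the zero section
  let τ : R := algebraMap (Localization.AtPrime P) R (algebraMap A[X] (Localization.AtPrime P) Polynomial.X)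
  have hετ : ∀ a ∈ Ideal.span {τ}, algebraMap A K (ε a) = 0 := fun a ha => by
    obtain ⟨b, rfl⟩ := Ideal.mem_span_singleton'.1 ha
    rw [map_mul, show ε τ = 0 by rw [RingHom.comp_apply, hιc Polynomial.X, Polynomial.coe_X, PowerSeries.constantCoeff_X],
      mul_zero, map_zero]
  let ζ := Spec.map (CommRingCat.ofHom (Ideal.Quotient.mk (Ideal.span {τ})))
  let ρ₀ : CommRingCat.of (R ⧸ Ideal.span {τ}) ⟶ CommRingCat.of K :=
    CommRingCat.ofHom (Ideal.Quotient.lift (Ideal.span {τ}) ((algebraMap A K).comp ε) hετ)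
  have hρ₀ : Spec.map ρ₀ ≫ ζ = Spec.map ρ := by
    rw [← Spec.map_comp]
    exact congrArg Spec.map (CommRingCat.hom_ext (RingHom.ext fun b => rfl))
  let ξ₀ : Spec (CommRingCat.of K) ⟶ ((ζ ⁻¹ᵁ V : _) : Scheme.{u}) := IsOpenImmersion.lift (ζ ⁻¹ᵁ V).ι (Spec.map ρ₀) (by
    rw [Scheme.Opens.range_ι]
    rintro _ ⟨z, rfl⟩
    show ζ ((Spec.map ρ₀) z) ∈ V
    rw [← Scheme.Hom.comp_apply, hρ₀]
    exact hρV z)
  have hξ₀ : ξ₀ ≫ (ζ ⁻¹ᵁ V).ι = Spec.map ρ₀ := IsOpenImmersion.lift_fac _ _ _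
  let zr := ζ.resLE V (ζ ⁻¹ᵁ V) le_rfl
  have hzr : ξ₀ ≫ zr = ξ := by
    rw [← cancel_mono V.ι, hξ, Category.assoc, Scheme.Hom.resLE_comp_ι, ← Category.assoc, hξ₀, hρ₀]
  obtain ⟨m, e, he⟩ := hW
  refine HenLineLib.trivial_of_split_generic ι hι j hj α (HenLineLib.extendsFrac_of_height α hα) i₀ hα0 V hαV ξ hξ W
    fun a => ?_
  let bb := Spec.map (CommRingCat.ofHom (algebraMap K Kb))
  let al : Spec (CommRingCat.of Kb) ⟶ W.left := a.left
  have hal : al ≫ W.hom = bb ≫ ξ := FEtLib.fib_w a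
  let ah : Spec (CommRingCat.of Kb) ⟶ pullback W.hom zr := pullback.lift al (bb ≫ ξ₀) (by
    rw [hal, Category.assoc, hzr])
  let e' : pullback W.hom zr ≅ ∐ fun _ : Fin m => ((ζ ⁻¹ᵁ V : _) : Scheme.{u}) := e
  have he' : e'.hom ≫ Sigma.desc (fun _ => 𝟙 _) = pullback.snd W.hom zr := he
  obtain ⟨i, y, hy⟩ := (sigmaOpenCover fun _ : Fin m => ((ζ ⁻¹ᵁ V : _) : Scheme.{u})).exists_eq
    ((ah ≫ e'.hom) (IsLocalRing.closedPoint Kb))
  have hr : Set.range (ah ≫ e'.hom) ⊆ Set.range (Sigma.ι (fun _ : Fin m => ((ζ ⁻¹ᵁ V : _) : Scheme.{u})) i) := by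
    rintro _ ⟨p, rfl⟩
    rw [@Subsingleton.elim (PrimeSpectrum Kb) _ p (IsLocalRing.closedPoint Kb)]
    exact ⟨y, hy⟩
  have hl := IsOpenImmersion.lift_fac (Sigma.ι (fun _ : Fin m => ((ζ ⁻¹ᵁ V : _) : Scheme.{u})) i) _ hr
  have hb : IsOpenImmersion.lift (Sigma.ι (fun _ : Fin m => ((ζ ⁻¹ᵁ V : _) : Scheme.{u})) i) _ hr = bb ≫ ξ₀ := by
    have h1 := congrArg (· ≫ Sigma.desc (fun _ : Fin m => 𝟙 ((ζ ⁻¹ᵁ V : _) : Scheme.{u}))) hl
    simp only [Category.assoc, Sigma.ι_desc, Category.comp_id, he', pullback.lift_snd, ah] at h1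
    exact h1
  rw [hb] at hl
  let s₀ := (Sigma.ι (fun _ : Fin m => ((ζ ⁻¹ᵁ V : _) : Scheme.{u})) i ≫ e'.inv)
  have hs₀ : s₀ ≫ pullback.snd W.hom zr = 𝟙 _ := by
    rw [← he', Category.assoc, e'.inv_hom_id_assoc, Sigma.ι_desc]
  refine ⟨ξ₀ ≫ s₀ ≫ pullback.fst W.hom zr, ?_, ?_⟩
  · rw [Category.assoc, Category.assoc, pullback.condition, ← Category.assoc s₀, hs₀, Category.id_comp, hzr]
  · show bb ≫ ξ₀ ≫ s₀ ≫ pullback.fst W.hom zr = al
    simp only [s₀, Category.assoc]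
    rw [← Category.assoc bb, ← Category.assoc (bb ≫ ξ₀), hl, Category.assoc, e'.hom_inv_id_assoc, pullback.lift_fst]

end Groth.Agent.S8621
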