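import Groth.Statements.S8625
import Mathlib

set_option autoImplicit false
universe u
open SGA4h

namespace Groth.Agent.S8625

/-- Let G be a group with an endomorphism F, and assume the Lang map g ↦ F(g)g⁻¹ is surjective (for
instance the geometric points of a connected algebraic group over F_q with its Frobenius, where the
surjectivity is the classical result of Lang; the other Lang map g ↦ g⁻¹F(g) is then surjective too,
by g ↦ g⁻¹). Let G^F be the subgroup of fixed points of F. (i) If F(g)g⁻¹ is fixed by F then so is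
g⁻¹F(g). (ii), (iii) There is a bijection of the set of conjugacy classes of G^F with itself
sending, for every g with F(g)g⁻¹ ∈ G^F, the class of F(g)g⁻¹ to the class of g⁻¹F(g) (in particular
the latter class depends only on the former). -/
theorem result {G : Type u} [Group G] (F : G →* G)
    (hL : Function.Surjective fun g : G => F g * g⁻¹) :
    (∀ g : G, F (F g * g⁻¹) = F g * g⁻¹ → F (g⁻¹ * F g) = g⁻¹ * F g) ∧
    ∃ φ : ConjClasses ↥(F.eqLocus (MonoidHom.id G)) → ConjClasses ↥(F.eqLocus (MonoidHom.id G)),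
      Function.Bijective φ ∧
      ∀ (g : G) (h : F (F g * g⁻¹) = F g * g⁻¹) (h' : F (g⁻¹ * F g) = g⁻¹ * F g),
        φ (ConjClasses.mk (⟨F g * g⁻¹, h⟩ : ↥(F.eqLocus (MonoidHom.id G)))) =
          ConjClasses.mk (⟨g⁻¹ * F g, h'⟩ : ↥(F.eqLocus (MonoidHom.id G))) := by
  classical
  have hab : ∀ g : G, F (F g * g⁻¹) = F g * g⁻¹ → F (g⁻¹ * F g) = g⁻¹ * F g := by
    intro g h
    rw [map_mul, map_inv] at h ⊢
    have h2 : F (F g) = F g * g⁻¹ * F g := by
      conv_lhs => rw [← mul_one (F (F g)), ← inv_mul_cancel (F g), ← mul_assoc, h]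
    rw [h2]
    group
  have hba : ∀ g : G, F (g⁻¹ * F g) = g⁻¹ * F g → F (F g * g⁻¹) = F g * g⁻¹ := by
    intro g h
    rw [map_mul, map_inv] at h ⊢
    have h2 : F (F g) = F g * (g⁻¹ * F g) := by
      conv_lhs => rw [← one_mul (F (F g)), ← mul_inv_cancel (F g), mul_assoc, h]
    rw [h2]
    group
  refine ⟨hab, ?_⟩
  let Fix := ↥(F.eqLocus (MonoidHom.id G))
  have hfix : ∀ c : Fix, F (c : G) = c := fun c => c.2
  let A : ∀ g : G, F (F g * g⁻¹) = F g * g⁻¹ → Fix := fun g h => ⟨F g * g⁻¹, h⟩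
  let Bv : ∀ g : G, F (g⁻¹ * F g) = g⁻¹ * F g → Fix := fun g h => ⟨g⁻¹ * F g, h⟩
  have key : ∀ g g' : G, ∀ (h : F (F g * g⁻¹) = F g * g⁻¹) (h' : F (F g' * g'⁻¹) = F g' * g'⁻¹),
      IsConj (A g h) (A g' h') ↔ IsConj (Bv g (hab g h)) (Bv g' (hab g' h')) := by
    intro g g' h h'
    rw [isConj_iff, isConj_iff]
    constructor
    · rintro ⟨c, hc⟩
      have hcG : (c : G) * (F g * g⁻¹) * (c : G)⁻¹ = F g' * g'⁻¹ := congrArg Subtype.val hc
      have h1 : F ((c : G) * g) * ((c : G) * g)⁻¹ = F g' * g'⁻¹ := by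
        rw [map_mul, hfix, ← hcG]; group
      have hd : F (((c : G) * g)⁻¹ * g') = ((c : G) * g)⁻¹ * g' := by
        rw [map_mul, map_inv]
        calc (F ((c : G) * g))⁻¹ * F g'
            = (F ((c : G) * g))⁻¹ * (F g' * g'⁻¹) * g' := by group
          _ = ((c : G) * g)⁻¹ * g' := by rw [← h1]; group
      refine ⟨(⟨((c : G) * g)⁻¹ * g', hd⟩ : Fix)⁻¹, Subtype.ext ?_⟩
      show (((c : G) * g)⁻¹ * g')⁻¹ * (g⁻¹ * F g) * ((((c : G) * g)⁻¹ * g')⁻¹)⁻¹ = g'⁻¹ * F g'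
      have h2 : F g' = F ((c : G) * g) * ((c : G) * g)⁻¹ * g' := by rw [h1]; group
      rw [h2, map_mul, hfix]
      group
    · rintro ⟨c, hc⟩
      have hcG : (c : G) * (g⁻¹ * F g) * (c : G)⁻¹ = g'⁻¹ * F g' := congrArg Subtype.val hc
      have h1 : (g * (c : G)⁻¹)⁻¹ * F (g * (c : G)⁻¹) = g'⁻¹ * F g' := by
        rw [map_mul, map_inv, hfix, ← hcG]; group
      have hd : F (g' * (g * (c : G)⁻¹)⁻¹) = g' * (g * (c : G)⁻¹)⁻¹ := by
        rw [map_mul F g', map_inv]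
        calc F g' * (F (g * (c : G)⁻¹))⁻¹
            = g' * (g'⁻¹ * F g') * (F (g * (c : G)⁻¹))⁻¹ := by group
          _ = g' * (g * (c : G)⁻¹)⁻¹ := by rw [← h1]; group
      refine ⟨⟨g' * (g * (c : G)⁻¹)⁻¹, hd⟩, Subtype.ext ?_⟩
      show g' * (g * (c : G)⁻¹)⁻¹ * (F g * g⁻¹) * (g' * (g * (c : G)⁻¹)⁻¹)⁻¹ = F g' * g'⁻¹
      have h2 : F g' = g' * ((g * (c : G)⁻¹)⁻¹ * F (g * (c : G)⁻¹)) := by rw [h1]; group
      rw [h2, map_mul F g, map_inv, hfix]
      group
  have hsurjA : ∀ a : Fix, ∃ (g : G) (h : F (F g * g⁻¹) = F g * g⁻¹), A g h = a := by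
    intro a
    obtain ⟨g, hg⟩ := hL (a : G)
    have hg' : F g * g⁻¹ = a := hg
    exact ⟨g, by rw [hg']; exact hfix a, Subtype.ext hg'⟩
  have hsurjB : ∀ b : Fix, ∃ (g : G) (h : F (g⁻¹ * F g) = g⁻¹ * F g), Bv g h = b := by
    intro b
    obtain ⟨g, hg⟩ := hL (b : G)
    have hg' : F g * g⁻¹ = b := hg
    have hb : g⁻¹⁻¹ * F g⁻¹ = ((b⁻¹ : Fix) : G) := by
      show _ = (b : G)⁻¹
      rw [← hg', map_inv]; group
    obtain ⟨g', hg''⟩ := hL ((b⁻¹ : Fix) : G)
    have hg3 : F g' * g'⁻¹ = (b : G)⁻¹ := hg''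
    have he : g'⁻¹⁻¹ * F g'⁻¹ = b := by
      rw [map_inv, ← inv_inv (b : G), ← hg3]; group
    exact ⟨g'⁻¹, by rw [he]; exact hfix b, Subtype.ext he⟩
  choose gA hgA hA using hsurjA
  let φ : ConjClasses Fix → ConjClasses Fix := Quotient.lift
    (fun a => ConjClasses.mk (Bv (gA a) (hab _ (hgA a)))) (fun a a' haa' => by
      refine ConjClasses.mk_eq_mk_iff_isConj.mpr ((key _ _ (hgA a) (hgA a')).mp ?_)
      rw [hA, hA]
      exact haa')
  refine ⟨φ, ⟨?_, ?_⟩, fun g h h' => ?_⟩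
  · intro x y hxy
    induction x using Quotient.inductionOn with
    | h a =>
      induction y using Quotient.inductionOn with
      | h a' =>
        have h1 := (key _ _ (hgA a) (hgA a')).mpr (ConjClasses.mk_eq_mk_iff_isConj.mp hxy)
        rw [hA, hA] at h1
        exact ConjClasses.mk_eq_mk_iff_isConj.mpr h1
  · intro y
    induction y using Quotient.inductionOn with
    | h b =>
      obtain ⟨g, hg, rfl⟩ := hsurjB b
      refine ⟨ConjClasses.mk (A g (hba g hg)), ?_⟩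
      refine ConjClasses.mk_eq_mk_iff_isConj.mpr ((key _ _ (hgA _) (hba g hg)).mp ?_)
      rw [hA]
  · refine ConjClasses.mk_eq_mk_iff_isConj.mpr ((key _ _ (hgA _) h).mp ?_)
    rw [hA]

end Groth.Agent.S8625
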