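import Groth.Statements.S8629
import Groth.Agent.LAPushLib.Main
-- import your own Groth.Agent.* helpers here

set_option autoImplicit false
universe u
open CategoryTheory CategoryTheory.Limits AlgebraicGeometry
open SGA4h

namespace Groth.Agent.S8629

/-- Let S be a Noetherian scheme, f : X → S a proper and locally acyclic morphism (for instance proper
and smooth) and n a natural number invertible on S. Then every higher direct image R^q f_* (ℤ/n) is
a finite locally constant (locally constant constructible) sheaf on S. (The published statement has
no Noetherian hypothesis on S; the cospecialisation assertion is not included.) -/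
theorem result {X S : Scheme.{u}}
    [IsNoetherian S] (f : X ⟶ S) [IsProper f] (hf : EtRest.IsLocallyAcyclic f)
    (n : ℕ) (hn : IsUnit (n : Γ(S, ⊤))) (q : ℕ) :
    EtCoh.IsFiniteLocallyConstant ((EtCoh.Rpush f q).obj (EtCoh.const X (ZMod n))) := by
  rcases Nat.eq_zero_or_pos n with rfl | hn0
  · have hsub : Subsingleton Γ(S, ⊤) := by
      rw [Nat.cast_zero, isUnit_zero_iff] at hn
      exact subsingleton_of_zero_eq_one hn
    refine (FLCLib.finiteLocallyConstant_iff _).2 fun x => ?_
    exfalso
    have h : IsUnit ((S.presheaf.germ ⊤ x trivial) (0 : Γ(S, ⊤))) :=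
      (Subsingleton.elim (1 : Γ(S, ⊤)) 0 ▸ isUnit_one).map _
    rw [map_zero] at h
    exact not_isUnit_zero h
  · exact LAPushLib.flc_Rpush_const f hf n hn0 hn q

end Groth.Agent.S8629
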