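import Groth.Statements.S8630
import Mathlib.RingTheory.Polynomial.Content
import Mathlib.RingTheory.Localization.Integral
import Mathlib.RingTheory.PowerSeries.Trunc
import Mathlib.RingTheory.PowerSeries.NoZeroDivisors
import Mathlib.Algebra.Field.ZMod
import Mathlib.RingTheory.Int.Basic

set_option autoImplicit false
open Zeta

namespace Groth.Agent.S8630

open Polynomial

lemma fatou_step (Q0 : ℤ[X]) (hprim : Q0.IsPrimitive) :
    ∀ (n : ℕ) (S : PowerSeries ℤ) (m : ℤ), m.natAbs = n → m ≠ 0 → (Q0 : PowerSeries ℤ) * S = PowerSeries.C m →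
      IsUnit (Q0.coeff 0) := by
  intro n
  induction n using Nat.strong_induction_on with
  | _ n ih =>
  intro S m hn hm h
  rcases eq_or_ne n 1 with h1 | h1
  · have h0 := congrArg PowerSeries.constantCoeff h
    rw [map_mul, PowerSeries.constantCoeff_C, Polynomial.constantCoeff_coe] at h0
    exact isUnit_of_mul_isUnit_left (h0 ▸ Int.isUnit_iff_natAbs_eq.2 (hn.trans h1))
  obtain ⟨l, hl, hln⟩ := Nat.exists_prime_and_dvd h1
  haveI : Fact l.Prime := ⟨hl⟩
  obtain ⟨m', rfl⟩ : (l : ℤ) ∣ m := Int.natCast_dvd.2 (hn ▸ hln)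
  let red := PowerSeries.map (Int.castRingHom (ZMod l))
  have hQ0 : red (Q0 : PowerSeries ℤ) ≠ 0 := by
    intro h0
    have hu : IsUnit (l : ℤ) := hprim _ ((Polynomial.C_dvd_iff_dvd_coeff _ _).2 fun i =>
      (ZMod.intCast_zmod_eq_zero_iff_dvd _ l).1 (by
        have := congrArg (PowerSeries.coeff i) h0
        simpa [red] using this))
    exact hl.one_lt.ne' (by simpa using Int.isUnit_iff_natAbs_eq.1 hu)
  have hS : red S = 0 := by
    have h2 := congrArg red h
    rw [map_mul, PowerSeries.map_C, map_mul] at h2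
    simpa [hQ0] using h2
  have hdvd : ∀ i, (l : ℤ) ∣ PowerSeries.coeff i S := fun i => (ZMod.intCast_zmod_eq_zero_iff_dvd _ l).1 (by
    have := congrArg (PowerSeries.coeff i) hS
    simpa [red] using this)
  choose s hs using hdvd
  have hS' : S = PowerSeries.C (l : ℤ) * PowerSeries.mk s := PowerSeries.ext fun i => by
    rw [PowerSeries.coeff_C_mul, PowerSeries.coeff_mk, hs]
  have hl0 : (PowerSeries.C (l : ℤ)) ≠ 0 := by
    rw [Ne, map_eq_zero_iff _ PowerSeries.C_injective]; exact_mod_cast hl.ne_zero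
  have hm' : m' ≠ 0 := fun h' => hm (by rw [h', mul_zero])
  refine ih m'.natAbs ?_ (PowerSeries.mk s) m' rfl hm' (mul_left_cancel₀ hl0 ?_)
  · rw [← hn, Int.natAbs_mul, Int.natAbs_natCast]
    exact lt_mul_of_one_lt_left (Int.natAbs_pos.2 hm') hl.one_lt
  · rw [← map_mul, ← h, hS']; ring

/-- Fatou's lemma: let P, Q ∈ ℚ[T] be coprime with constant coefficient 1, and suppose the power series
P/Q has integer coefficients, i.e. P = Q·Z in ℚ⟦T⟧ for a power series Z with coefficients in ℤ. Then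
P and Q have integer coefficients. -/
theorem result (P Q : Polynomial ℚ)
    (hPQ : IsCoprime P Q) (hP : P.coeff 0 = 1) (hQ : Q.coeff 0 = 1) (Z : PowerSeries ℤ)
    (hZ : (P : PowerSeries ℚ) = (Q : PowerSeries ℚ) * PowerSeries.map (Int.castRingHom ℚ) Z) :
    (∃ P₀ : Polynomial ℤ, P₀.map (Int.castRingHom ℚ) = P) ∧
      ∃ Q₀ : Polynomial ℤ, Q₀.map (Int.castRingHom ℚ) = Q := by
  classical
  let ι := Int.castRingHom ℚ
  have clear : ∀ R : Polynomial ℚ, ∃ (d : ℤ) (R' : Polynomial ℤ), d ≠ 0 ∧ R'.map ι = Polynomial.C (d : ℚ) * R := fun R => by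
    obtain ⟨⟨d, hd⟩, hR⟩ := IsLocalization.integerNormalization_map_to_map (nonZeroDivisors ℤ) R
    refine ⟨d, _, nonZeroDivisors.ne_zero hd, hR.trans ?_⟩
    simp [Algebra.smul_def]
  obtain ⟨d, Q', hd, hQ'⟩ := clear Q
  have hQne : Q' ≠ 0 := fun h => by
    have := congrArg (fun R => R.coeff 0) hQ'
    simp [h, hQ] at this
    exact hd (by exact_mod_cast this.symm)
  set Q0 := Q'.primPart
  set a : ℚ := (Q'.content : ℚ) / d
  have hc : Q'.content ≠ 0 := fun h => hQne (Polynomial.content_eq_zero_iff.1 h)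
  have hQeq : Q = Polynomial.C a * Q0.map ι := by
    have hd' : (d : ℚ) ≠ 0 := Int.cast_ne_zero.2 hd
    refine mul_left_cancel₀ (Polynomial.C_ne_zero.2 hd') ?_
    rw [← hQ', ← mul_assoc, ← Polynomial.C_mul, mul_div_cancel₀ _ hd']
    conv_lhs => rw [Q'.eq_C_content_mul_primPart, Polynomial.map_mul, Polynomial.map_C]
    rfl
  obtain ⟨u, v, huv⟩ := hPQ
  obtain ⟨du, U, hdu, hU⟩ := clear (Polynomial.C a * u)
  obtain ⟨dv, V, hdv, hV⟩ := clear (Polynomial.C a * v)
  have hmain : (Q0 : PowerSeries ℤ) * (Polynomial.C dv * U * 1 : Polynomial ℤ) * Z +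
      (Q0 : PowerSeries ℤ) * (Polynomial.C du * V : Polynomial ℤ) = PowerSeries.C (du * dv) := by
    apply PowerSeries.map_injective ι Int.cast_injective
    rw [map_add, map_mul, map_mul, map_mul, ← Polynomial.polynomial_map_coe, ← Polynomial.polynomial_map_coe,
      ← Polynomial.polynomial_map_coe, PowerSeries.map_C, Polynomial.map_mul, Polynomial.map_mul, Polynomial.map_mul,
      hU, hV, Polynomial.map_C, Polynomial.map_C, Polynomial.map_one, ← Polynomial.coe_C]
    have e1 : ((1 : Polynomial ℚ) : PowerSeries ℚ) = ((u * P + v * Q : Polynomial ℚ) : PowerSeries ℚ) := by rw [huv]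
    rw [hQeq] at e1 hZ
    push_cast [ι, map_mul] at e1 hZ ⊢
    rw [hZ] at e1
    linear_combination (-((PowerSeries.C (du : ℚ)) * PowerSeries.C (dv : ℚ))) * e1
  have hunit := fatou_step Q0 Q'.isPrimitive_primPart (du * dv).natAbs
    (((Polynomial.C dv * U * 1 : Polynomial ℤ) : PowerSeries ℤ) * Z + ((Polynomial.C du * V : Polynomial ℤ) : PowerSeries ℤ))
    (du * dv) rfl (mul_ne_zero hdu hdv) (by rw [mul_add, ← mul_assoc]; exact hmain)
  have ha : a * (Q0.coeff 0 : ℚ) = 1 := by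
    have := congrArg (fun R => R.coeff 0) hQeq
    simpa [hQ, ι] using this.symm
  obtain ⟨e, he⟩ := hunit
  have hQint : (Polynomial.C (↑e⁻¹ : ℤ) * Q0).map ι = Q := by
    rw [Polynomial.map_mul, Polynomial.map_C, hQeq]
    congr 2
    have h1 : ((↑e⁻¹ : ℤ) : ℚ) * (Q0.coeff 0 : ℚ) = 1 := by
      rw [← he, ← Int.cast_mul, Units.inv_mul, Int.cast_one]
    exact mul_right_cancel₀ (fun h => by rw [h, mul_zero] at ha; exact zero_ne_one ha) (h1.trans ha.symm)
  refine ⟨⟨PowerSeries.trunc (P.natDegree + 1) (((Polynomial.C (↑e⁻¹ : ℤ) * Q0 : Polynomial ℤ) : PowerSeries ℤ) * Z), ?_⟩,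
    ⟨_, hQint⟩⟩
  ext i
  have hi : ι (PowerSeries.coeff i (((Polynomial.C (↑e⁻¹ : ℤ) * Q0 : Polynomial ℤ) : PowerSeries ℤ) * Z)) = P.coeff i := by
    rw [← PowerSeries.coeff_map, map_mul, ← Polynomial.polynomial_map_coe, hQint, ← hZ, Polynomial.coeff_coe]
  rw [Polynomial.coeff_map, PowerSeries.coeff_trunc]
  split_ifs with h
  · exact hi
  · rw [map_zero, Polynomial.coeff_eq_zero_of_natDegree_lt (by omega)]

end Groth.Agent.S8630
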