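import Groth.Statements.S8651
import Groth.Agent.LamR.Basic

set_option autoImplicit false
universe u
open Finset
open LambdaRing

namespace Groth.Agent.S8651

theorem gamma_thin_sub_one {A : Type u} [CommRing A] [LambdaRing.LambdaOps A]
    (h1 : ∀ k : ℕ, 2 ≤ k → LambdaRing.LambdaOps.lam k (1 : A) = 0) {y : A}
    (hy : ∀ j : ℕ, 2 ≤ j → LambdaRing.LambdaOps.lam j y = 0) (j : ℕ) :
    LambdaRing.gamma (j + 2) (y - 1) = 0 := by
  rw [LamR.gamma_eq_lam h1, show y - 1 + ((j + 2 : ℕ) : A) - 1 = y + (j : A) by push_cast; ring,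
    LamR.lam_succ_thin_add hy, LamR.lam_natCast h1, LamR.lam_natCast h1,
    Nat.choose_eq_zero_of_lt (by omega), Nat.choose_eq_zero_of_lt (by omega), Nat.cast_zero, mul_zero, add_zero]

theorem gamma_sum {A : Type u} [CommRing A] [LambdaRing.LambdaOps A] (s : Multiset A)
    (hs : ∀ u ∈ s, ∀ j : ℕ, LambdaRing.gamma (j + 2) u = 0) (k : ℕ) :
    LambdaRing.gamma k s.sum = s.esymm k := by
  induction s using Multiset.induction_on generalizing k with
  | empty =>
    cases k with
    | zero => simp [Multiset.esymm, LamR.gamma_zero]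
    | succ k =>
      simp only [Multiset.sum_zero, gamma, if_neg (Nat.succ_ne_zero k), Multiset.esymm]
      rw [Finset.sum_eq_zero fun i _ => by rcases eq_or_ne i 0 with rfl | hi <;> simp [*, LamR.lam_zero_right]]
      rw [Multiset.powersetCard_zero_right, Multiset.map_zero, Multiset.sum_zero]
  | cons a s ih =>
    have ih' := fun k => ih (fun u hu => hs u (Multiset.mem_cons_of_mem hu)) k
    cases k with
    | zero => simp [Multiset.esymm, LamR.gamma_zero]
    | succ k =>
      rw [Multiset.sum_cons, LamR.gamma_add, Finset.sum_range_succ', Finset.sum_range_succ',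
        Finset.sum_eq_zero fun i _ => by rw [hs a (Multiset.mem_cons_self a s) i, zero_mul],
        LamR.gamma_zero, LamR.gamma_one, ih', ih']
      simp [Multiset.esymm, Multiset.powersetCard_cons, Multiset.map_map, Multiset.sum_map_mul_left, add_comm]

/-- Let A be a pre-λ-ring (λ^0 = 1, λ^1 = id, additive formula) in which λ^k(1) = 0 for all k ≥ 2, and
let y_1, …, y_n ∈ A satisfy λ^j(y_i) = 0 for every j ≥ 2; put x = Σ_i y_i. Then for every k the
element γ^k(x − n) (γ-operations: the coefficients of λ_{t/(1−t)}) equals the k-th elementary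
symmetric function of y_1 − 1, …, y_n − 1, namely the sum over the k-element subsets s of the index
set of Π_{i ∈ s} (y_i − 1); in particular γ^k(x − n) = 0 for k > n. (The published statement is for
a λ-ring; its proof uses only additivity and λ_t(1) = 1 + t, the hypotheses taken here.) -/
theorem result (A : Type u) [CommRing A] [LambdaRing.LambdaOps A]
    (h1 : ∀ k : ℕ, 2 ≤ k → LambdaRing.LambdaOps.lam k (1 : A) = 0) (n : ℕ) (y : Fin n → A)
    (hy : ∀ (i : Fin n) (j : ℕ), 2 ≤ j → LambdaRing.LambdaOps.lam j (y i) = 0) (k : ℕ) :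
    LambdaRing.gamma k (∑ i : Fin n, y i - (n : A)) =
      ∑ s ∈ (univ : Finset (Fin n)).powersetCard k, ∏ i ∈ s, (y i - 1) := by
  rw [show (∑ i : Fin n, y i - (n : A)) = ((univ : Finset (Fin n)).val.map fun i => y i - 1).sum by
    show _ = ∑ i : Fin n, (y i - 1)
    rw [Finset.sum_sub_distrib]; simp,
    gamma_sum _ (fun u hu j => by
      obtain ⟨i, -, rfl⟩ := Multiset.mem_map.1 hu
      exact gamma_thin_sub_one h1 (hy i) j)]
  exact Finset.esymm_map_val _ _ _

end Groth.Agent.S8651
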