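import Groth.Statements.S8666

set_option autoImplicit false
universe u
open CAlg

namespace Groth.Agent.S8666

/-- Let A be a Noetherian ring, M an invertible A-module and p_1, …, p_k finitely many primes of A
(points of Spec A). Then there is a single element s ∈ M whose image generates M_{p_i} as an
A_{p_i}-module for every i, i.e. s is a basis of the stalk of M at each of the given points. -/
theorem result (A : Type u) [CommRing A] [IsNoetherianRing A]
    (M : Type u) [AddCommGroup M] [Module A M] [Module.Invertible A M] (ι : Type) [Finite ι] (p : ι → PrimeSpectrum A) :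
    ∃ s : M, ∀ i : ι, Submodule.span (Localization.AtPrime (p i).asIdeal)
      {LocalizedModule.mkLinearMap (p i).asIdeal.primeCompl M s} = ⊤ := by
  classical
  haveI := Fintype.ofFinite ι
  let K : ∀ i : ι, Ideal A := fun i => (p i).asIdeal
  let Pmax : Ideal A → Prop := fun q => ∀ q' ∈ Finset.univ.image K, q ≤ q' → q' = q
  let T : Finset (Ideal A) := (Finset.univ.image K).filter Pmax
  have hTp : ∀ q ∈ T, q.IsPrime := by
    intro q hq
    obtain ⟨i, -, rfl⟩ := Finset.mem_image.mp (Finset.mem_filter.mp hq).1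
    exact (p i).2
  have hgen : ∀ q : T, ∃ m : M, ∀ n : M, ∃ (u a : A), u ∉ q.1 ∧ u • n = a • m := by
    rintro ⟨q, hq⟩
    haveI := hTp q hq
    obtain ⟨e⟩ := Module.Invertible.free_iff_linearEquiv.mp
      (Module.free_of_flat_of_isLocalRing : Module.Free (Localization.AtPrime q) (LocalizedModule q.primeCompl M))
    obtain ⟨⟨m, t⟩, hmt⟩ := IsLocalizedModule.mk'_surjective q.primeCompl (LocalizedModule.mkLinearMap q.primeCompl M) (e.symm 1)
    refine ⟨m, fun n => ?_⟩
    obtain ⟨⟨a, b⟩, hab⟩ := IsLocalization.surj q.primeCompl (e (LocalizedModule.mkLinearMap q.primeCompl M n))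
    have h1 : e (LocalizedModule.mkLinearMap q.primeCompl M ((b : A) • (t : A) • n)) = e (LocalizedModule.mkLinearMap q.primeCompl M (a • m)) := by
      have hm : LocalizedModule.mkLinearMap q.primeCompl M m = (t : A) • e.symm 1 := by
        rw [← hmt]; exact (IsLocalizedModule.mk'_cancel' _ m t).symm
      have hlin : ∀ (r : A) (x : LocalizedModule q.primeCompl M), e (r • x) = algebraMap A (Localization.AtPrime q) r * e x := fun r x => by
        rw [← algebraMap_smul (Localization.AtPrime q) r x, map_smul, smul_eq_mul]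
      rw [(LocalizedModule.mkLinearMap q.primeCompl M).map_smul, (LocalizedModule.mkLinearMap q.primeCompl M).map_smul, (LocalizedModule.mkLinearMap q.primeCompl M).map_smul, hm, hlin, hlin, hlin, hlin, e.apply_symm_apply, mul_one]
      linear_combination (algebraMap A (Localization.AtPrime q) (t : A)) * hab
    obtain ⟨c, hc⟩ := (IsLocalizedModule.eq_iff_exists q.primeCompl (LocalizedModule.mkLinearMap q.primeCompl M)).mp (e.injective h1)
    refine ⟨(c : A) * ((b : A) * (t : A)), (c : A) * a, q.primeCompl.mul_mem c.2 (q.primeCompl.mul_mem b.2 t.2), ?_⟩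
    rw [mul_smul, mul_smul, mul_smul]
    exact hc
  choose g hg using hgen
  have he : ∀ q : T, ∃ e : A, e ∉ q.1 ∧ ∀ q' : T, q' ≠ q → e ∈ q'.1 := by
    rintro ⟨q, hq⟩
    haveI := hTp q hq
    have : ¬ ((T.erase q).inf id) ≤ q := by
      intro hle
      obtain ⟨q', hq', hle'⟩ := (Ideal.IsPrime.inf_le' inferInstance).mp hle
      exact (Finset.mem_erase.mp hq').1 ((Finset.mem_filter.mp (Finset.mem_erase.mp hq').2).2 q (Finset.mem_filter.mp hq).1 hle').symm
    obtain ⟨e, he, he'⟩ := SetLike.not_le_iff_exists.mp this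
    refine ⟨e, he', fun q' hne => ?_⟩
    exact (Finset.inf_le (f := id) (Finset.mem_erase.mpr ⟨fun h => hne (Subtype.ext h), q'.2⟩) : _ ≤ q'.1) he
  choose e he he' using he
  refine ⟨∑ q : T, e q • g q, fun i => ?_⟩
  obtain ⟨q, hq, hmax⟩ := Finset.exists_maximalFor (fun x => x) ((Finset.univ.image K).filter (fun q => K i ≤ q)) ⟨K i, by simp⟩
  simp only [Finset.mem_filter] at hq hmax
  have hqT : q ∈ T := Finset.mem_filter.mpr ⟨hq.1, fun q' hq' hle => le_antisymm (hmax ⟨hq', hq.2.trans hle⟩ hle) hle⟩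
  haveI := hTp q hqT
  -- the sum is a multiple of the generator by an element outside q
  choose u a hu hua using fun r : T => hg ⟨q, hqT⟩ (g r)
  let U := ∏ r : T, u r
  let c := ∑ r : T, e r * ((∏ r' ∈ Finset.univ.erase r, u r') * a r)
  have hsum : U • (∑ r : T, e r • g r) = c • g ⟨q, hqT⟩ := by
    rw [Finset.smul_sum, Finset.sum_smul]
    refine Finset.sum_congr rfl fun r _ => ?_
    rw [← smul_smul, ← smul_smul, ← hua, smul_smul (∏ r' ∈ Finset.univ.erase r, u r'), mul_comm _ (u r), Finset.mul_prod_erase _ _ (Finset.mem_univ r), smul_comm]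
  have hU : U ∉ q := fun h => by obtain ⟨r, -, hr⟩ := (Ideal.IsPrime.prod_mem_iff.mp h); exact hu r hr
  have hq0 : ∀ n : M, ∃ w b : A, w ∉ q ∧ w • n = b • (∑ r : T, e r • g r) := by
    have ha : a ⟨q, hqT⟩ ∉ q ∨ ∀ n : M, ∃ w : A, w ∉ q ∧ w • n = 0 := by
      by_contra hcon
      push Not at hcon
      obtain ⟨hcon, n, hn⟩ := hcon
      -- g = unit multiple of itself
      obtain ⟨w, b, hw, hwn⟩ := hg ⟨q, hqT⟩ n
      have h1 : (u ⟨q, hqT⟩ - a ⟨q, hqT⟩) • g ⟨q, hqT⟩ = 0 := by rw [sub_smul, hua, sub_self]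
      have h2 : u ⟨q, hqT⟩ - a ⟨q, hqT⟩ ∉ q := fun h => hu ⟨q, hqT⟩ (by simpa using add_mem h hcon)
      exact hn ((u ⟨q, hqT⟩ - a ⟨q, hqT⟩) * w) (Ideal.IsPrime.mul_notMem inferInstance h2 hw) (by rw [mul_smul, hwn, smul_comm, h1, smul_zero])
    intro n
    rcases ha with ha | ha
    · have hc : c ∉ q := by
        intro hc
        simp only [c] at hc
        rw [← Finset.add_sum_erase _ _ (Finset.mem_univ (⟨q, hqT⟩ : T))] at hc
        have hr : (∑ r ∈ Finset.univ.erase (⟨q, hqT⟩ : T), e r * ((∏ r' ∈ Finset.univ.erase r, u r') * a r)) ∈ q :=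
          Ideal.sum_mem _ fun r hr => Ideal.mul_mem_right _ _ (he' r ⟨q, hqT⟩ (Finset.mem_erase.mp hr).1.symm)
        rcases Ideal.IsPrime.mem_or_mem inferInstance ((Ideal.add_mem_iff_left _ hr).mp hc) with h | h
        · exact he ⟨q, hqT⟩ h
        · rcases Ideal.IsPrime.mem_or_mem inferInstance h with h | h
          · obtain ⟨r, -, hr⟩ := (Ideal.IsPrime.prod_mem_iff.mp h); exact hu r hr
          · exact ha h
      obtain ⟨w, b, hw, hwn⟩ := hg ⟨q, hqT⟩ n
      exact ⟨c * w, b * U, Ideal.IsPrime.mul_notMem inferInstance hc hw, by rw [mul_smul, hwn, smul_comm, ← hsum, smul_smul]⟩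
    · obtain ⟨w, hw, hwn⟩ := ha n
      exact ⟨w, 0, hw, by rw [hwn, zero_smul]⟩
  rw [eq_top_iff]
  intro z _
  obtain ⟨⟨n, t⟩, rfl⟩ := IsLocalizedModule.mk'_surjective (p i).asIdeal.primeCompl (LocalizedModule.mkLinearMap (p i).asIdeal.primeCompl M) z
  obtain ⟨w, b, hw, hwn⟩ := hq0 n
  refine Submodule.mem_span_singleton.mpr ⟨IsLocalization.mk' _ b (⟨w, fun h => hw (hq.2 h)⟩ * t : (p i).asIdeal.primeCompl), ?_⟩
  rw [← IsLocalizedModule.mk'_one (p i).asIdeal.primeCompl, IsLocalizedModule.mk'_smul_mk']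
  show IsLocalizedModule.mk' _ _ _ = IsLocalizedModule.mk' _ n t
  rw [← hwn, mul_one, IsLocalizedModule.mk'_eq_mk'_iff]
  exact ⟨1, by simp [Submonoid.smul_def, mul_smul, smul_comm w (t : A) n]⟩

end Groth.Agent.S8666
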