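import Groth.Statements.S8668
import Groth.Agent.FactorSeqLib.Basic

set_option autoImplicit false
universe u
open CategoryTheory CategoryTheory.Limits AlgebraicGeometry
attribute [local instance] HasDerivedCategory.standard
open Synt

namespace Groth.Agent.S8668

open CategoryTheory CategoryTheory.Limits AlgebraicGeometry

open Groth.Agent

/-- Let f : X ⟶ Y be a local complete intersection morphism in the factorisation sense (around each
point, locally of finite type and factoring as a Koszul-regular immersion followed by a smooth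
morphism), and let f = i ≫ g = i' ≫ g' be two factorisations with g : V ⟶ Y and g' : V' ⟶ Y smooth
and i, i' closed immersions. Let d : O_V → Ω and d' : O_{V'} → Ω' be universal Y-derivations
(sheaves of relative differentials of V and V' over Y). Then i^*Ω, i'^*Ω' and the conormal sheaves
N_i, N_{i'} are finite locally free, and in K₀ of finite locally free O_X-modules one has [i^*Ω] −
[N_i] = [i'^*Ω'] − [N_{i'}]: the virtual cotangent class of f does not depend on the factorisation. -/
theorem result {X Y V V' : Scheme.{u}} (f : X ⟶ Y) (hf : ∀ x : X, Synt.IsKoszulAt f x)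
    (g : V ⟶ Y) [Smooth g] (i : X ⟶ V) [IsClosedImmersion i] (hi : i ≫ g = f)
    (g' : V' ⟶ Y) [Smooth g'] (i' : X ⟶ V') [IsClosedImmersion i'] (hi' : i' ≫ g' = f)
    (Ω : V.Modules) (d : OmegaSh.Der g Ω) (hd : OmegaSh.IsUniversal d)
    (Ω' : V'.Modules) (d' : OmegaSh.Der g' Ω') (hd' : OmegaSh.IsUniversal d') :
    FlatMod.IsFinLocFree ((Scheme.Modules.pullback i).obj Ω) ∧ FlatMod.IsFinLocFree (Omega.conormal i) ∧
    FlatMod.IsFinLocFree ((Scheme.Modules.pullback i').obj Ω') ∧ FlatMod.IsFinLocFree (Omega.conormal i') ∧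
    KRR.cl X ((Scheme.Modules.pullback i).obj Ω) - KRR.cl X (Omega.conormal i) =
      KRR.cl X ((Scheme.Modules.pullback i').obj Ω') - KRR.cl X (Omega.conormal i') := by
  obtain ⟨M, p, q, w, p', q', w', hS, hS', -, -⟩ := FactorSeqLib.exists_two_seq hi hi' hd hd'
  have hN := FactorSeqLib.isFinLocFree_conormal hf g i hi
  have hN' := FactorSeqLib.isFinLocFree_conormal hf g' i' hi'
  have hO := FactorSeqLib.isFinLocFree_pull_omega g i hd
  have hO' := FactorSeqLib.isFinLocFree_pull_omega g' i' hd'
  have hM : FlatMod.IsFinLocFree M := RegLib.isFinLocFree_mid hS hN hO'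
  refine ⟨hO, hN, hO', hN', ?_⟩
  have e1 : KRR.cl X M = KRR.cl X (Omega.conormal i) + KRR.cl X ((Scheme.Modules.pullback i').obj Ω') :=
    K0ResLib.clSub_add hS hN hM hO'
  have e2 : KRR.cl X M = KRR.cl X (Omega.conormal i') + KRR.cl X ((Scheme.Modules.pullback i).obj Ω) :=
    K0ResLib.clSub_add hS' hN' hM hO
  rw [sub_eq_sub_iff_add_eq_add, add_comm, ← e2, e1, add_comm]


end Groth.Agent.S8668
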