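import Groth.Statements.S8669
import Groth.Agent.RegLib.KMain
-- import your own Groth.Agent.* helpers here

set_option autoImplicit false
universe v u
open CategoryTheory CategoryTheory.Limits AlgebraicGeometry
attribute [local instance] HasDerivedCategory.standard
open SGA6

namespace Groth.Agent.S8669

/-- Let S be a quasi-compact scheme, f : P = P^r_S ⟶ S the projection, and F, G finite locally free
O_P-modules whose classes in K₀ of finite locally free O_P-modules coincide. Then there is n₀ such
that for every n ≥ n₀ the modules f_*(F(n)) and f_*(G(n)) are finite locally free on S and have the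
same class in K₀ of finite locally free O_S-modules, where F(n) = O_P(n) ⊗ F. (The published
statement is for the projective bundle of any finite locally free module of rank r + 1; this row
takes the trivial bundle.) -/
theorem result (S : Scheme.{u}) [CompactSpace ↥S] (r : ℕ)
    (F G : (KRR.PY r S).Modules) (hF : FlatMod.IsFinLocFree F) (hG : FlatMod.IsFinLocFree G)
    (h : KRR.cl (KRR.PY r S) F = KRR.cl (KRR.PY r S) G) :
    ∃ n₀ : ℕ, ∀ n : ℕ, n₀ ≤ n →
      FlatMod.IsFinLocFree ((Scheme.Modules.pushforward (KRR.pr r S)).obj (KRR.twF r S (n : ℤ) F)) ∧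
      FlatMod.IsFinLocFree ((Scheme.Modules.pushforward (KRR.pr r S)).obj (KRR.twF r S (n : ℤ) G)) ∧
      KRR.cl S ((Scheme.Modules.pushforward (KRR.pr r S)).obj (KRR.twF r S (n : ℤ) F)) =
        KRR.cl S ((Scheme.Modules.pushforward (KRR.pr r S)).obj (KRR.twF r S (n : ℤ) G)) := by
  obtain ⟨φ, hφ⟩ := Groth.Agent.RegLib.exists_pushK (r := r) (S := S)
  obtain ⟨a, ha⟩ := Groth.Agent.RegLib.exists_finLocFree_push hF
  obtain ⟨b, hb⟩ := Groth.Agent.RegLib.exists_finLocFree_push hG
  refine ⟨max a b, fun n hn => ⟨(ha n (by omega)).2, (hb n (by omega)).2, ?_⟩⟩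
  have h' := congrArg (fun x => φ (Groth.Agent.RegLib.twK r S (n : ℤ) x)) h
  have key : ∀ {M : (KRR.PY r S).Modules}, FlatMod.IsFinLocFree M →
      (∀ j : ℕ, ∀ q : ℤ, 1 ≤ q → Groth.Agent.RegLib.Van r S q ((n : ℤ) + j) M) →
      φ (Groth.Agent.RegLib.twK r S (n : ℤ) (KRR.cl (KRR.PY r S) M)) =
        KRR.cl S ((Scheme.Modules.pushforward (KRR.pr r S)).obj (KRR.twF r S (n : ℤ) M)) := fun hM hv => by
    rw [Groth.Agent.RegLib.twK_cl _ hM, hφ _ (Groth.Agent.RegLib.isFinLocFree_T _ hM) fun j q hq =>
      (Groth.Agent.RegLib.van_T rfl _).2 (hv j q hq)]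
    rfl
  exact ((key hF fun j q hq => (ha _ (by omega)).1 q hq).symm.trans h').trans
    (key hG fun j q hq => (hb _ (by omega)).1 q hq)

end Groth.Agent.S8669
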