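import Groth.Statements.S8673
import Groth.Agent.KRRAmple.FG
-- import your own Groth.Agent.* helpers here

set_option autoImplicit false
set_option backward.isDefEq.respectTransparency false
universe v u
open CategoryTheory CategoryTheory.Limits AlgebraicGeometry
attribute [local instance] HasDerivedCategory.standard
open scoped TensorProduct
open KRR

namespace Groth.Agent.S8673

/-- Let X be a connected quasi-compact scheme with an ample invertible O_X-module, (K, P, φ) a model of
the λ-ring K(X) of finite locally free modules (augmentation ε = rank), and A a commutative ring.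
Then y ∈ A ⊗_ℤ K(X) is invertible if and only if (id ⊗ ε)(y) ∈ A ⊗_ℤ ℤ is invertible; in particular
the class of a nowhere-zero bundle is invertible in K(X) ⊗ ℚ. (The published statement allows X
disconnected, with ε valued in H^0(X, ℤ); this row takes X connected, as the model requires.) -/
theorem result (X : Scheme.{u}) [ConnectedSpace ↥X] (L : X.Modules) (hL : CohB1.IsAmple L)
    (K : Type v) [CommRing K] [LambdaRing.LambdaOps K] (P : LambdaRing.PosStructure K) (φ : SGA6.Kvb X →+ K) (hK : KRR.IsModel X K P φ)
    (A : Type v) [CommRing A] (y : A ⊗[ℤ] K) :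
    IsUnit y ↔ IsUnit (Algebra.TensorProduct.map (AlgHom.id ℤ A) P.aug.toIntAlgHom y) := by
  let π := Algebra.TensorProduct.map (AlgHom.id ℤ A) P.aug.toIntAlgHom
  let ι := Algebra.TensorProduct.map (AlgHom.id ℤ A) (Algebra.ofId ℤ K)
  refine ⟨fun h => h.map π, fun h => ?_⟩
  suffices hn : IsNilpotent (y - ι (π y)) by
    have := hn.isUnit_add_left_of_commute (h.map ι) (Commute.all _ _)
    rwa [add_sub_cancel] at this
  clear h
  induction y with
  | zero => simp
  | tmul a x =>
    have hx : IsNilpotent (x - (P.aug x : K)) :=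
      KRRAmple.isNilpotent_of_aug_eq_zero hL hK _ (by simp)
    have e : a ⊗ₜ[ℤ] x - ι (π (a ⊗ₜ[ℤ] x)) = (a ⊗ₜ[ℤ] (1 : K)) * ((1 : A) ⊗ₜ[ℤ] (x - (P.aug x : K))) := by
      simp [π, ι, Algebra.TensorProduct.tmul_mul_tmul, TensorProduct.tmul_sub, Algebra.ofId_apply, mul_sub]
    rw [e]
    exact (Commute.all _ _).isNilpotent_mul_left
      (hx.map (Algebra.TensorProduct.includeRight : K →ₐ[ℤ] A ⊗[ℤ] K))
  | add u v hu hv =>
    rw [map_add, map_add, add_sub_add_comm]
    exact (Commute.all _ _).isNilpotent_add hu hv

end Groth.Agent.S8673
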