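import Groth.Statements.S8675
import Groth.Agent.ConormalSplitLib.Scheme
import Groth.Agent.CILib.KoszulCalc
import Groth.Agent.RegKindDescLib.Scheme
import Groth.Agent.RegKindLib.Basic

set_option autoImplicit false
set_option backward.isDefEq.respectTransparency false
universe u
open CategoryTheory CategoryTheory.Limits AlgebraicGeometry
open RegImm

namespace Groth.Agent.S8675

/-- Let i : Y ⟶ X and j : Z ⟶ Y be closed immersions such that i and j ≫ i are Koszul-regular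
immersions. Let φ₁ : j^* N_{Y/X} ⟶ N_{Z/X} and φ₂ : N_{Z/X} ⟶ N_{Z/Y} be the canonical maps between
conormal sheaves (pinned by their values on classes of local sections of the ideals). If 0 → j^*
N_{Y/X} → N_{Z/X} → N_{Z/Y} → 0 is a short exact sequence which is locally split (locally on Z, φ₁
admits a retraction), then j is a Koszul-regular immersion. (The published statement allows
arbitrary immersions and reduces to closed ones locally; this row takes closed immersions.) -/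
theorem result {X Y Z : Scheme.{u}}
    (i : Y ⟶ X) [IsClosedImmersion i] (j : Z ⟶ Y) [IsClosedImmersion j]
    (hi : RegImm.IsRegularImmersion .koszul i) (hij : RegImm.IsRegularImmersion .koszul (j ≫ i))
    (φ₁ : (Scheme.Modules.pullback j).obj (Omega.conormal i) ⟶ Omega.conormal (j ≫ i))
    (hφ₁ : OmegaSh.IsConormalMap (j ≫ i) i (𝟙 X) j φ₁)
    (φ₂ : (Scheme.Modules.pullback (𝟙 Z)).obj (Omega.conormal (j ≫ i)) ⟶ Omega.conormal j)
    (hφ₂ : OmegaSh.IsConormalMap j (j ≫ i) i (𝟙 Z) φ₂)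
    (w : φ₁ ≫ ((Scheme.Modules.pullbackId Z).inv.app (Omega.conormal (j ≫ i)) ≫ φ₂) = 0)
    (hex : (ShortComplex.mk φ₁ ((Scheme.Modules.pullbackId Z).inv.app (Omega.conormal (j ≫ i)) ≫ φ₂) w).ShortExact)
    (hsplit : ∀ z : Z, ∃ (U : Z.Opens) (ρ : (Scheme.Modules.restrictFunctor U.ι).obj (Omega.conormal (j ≫ i)) ⟶
        (Scheme.Modules.restrictFunctor U.ι).obj ((Scheme.Modules.pullback j).obj (Omega.conormal i))),
        z ∈ U ∧ (Scheme.Modules.restrictFunctor U.ι).map φ₁ ≫ ρ = 𝟙 _) :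
    RegImm.IsRegularImmersion .koszul j := by
  haveI : IsImmersion i := inferInstance
  haveI : IsImmersion j := inferInstance
  have hk1 : RegImm.Kind.koszul ≠ RegImm.Kind.regular := by decide
  refine ⟨inferInstance, fun z => ?_⟩
  obtain ⟨⟨U₁, hU₁⟩, hz₁, hc₁, rs₁, hrs₁, hker₁⟩ := hi.2 (j z)
  obtain ⟨⟨U₂, hU₂⟩, hz₂, hc₂, rs₂, hrs₂, hker₂⟩ := hij.2 z
  obtain ⟨Uz, ρ, hzU, hρ⟩ := hsplit z
  obtain ⟨U₃, hU₃, hz₃, hle₃, hpre₃, -⟩ := Groth.Agent.ConormalLib.exists_chart (j ≫ i) z hzU (O := U₁ ⊓ U₂) ⟨hz₁, hz₂⟩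
  have hres : ∀ {W : Scheme.{u}} (q : W ⟶ X) {V D : X.Opens} (hV : IsAffineOpen V) (hc : IsClosedImmersion (q ∣_ V))
      (hD : IsAffineOpen D) (e : D ≤ V), RingHom.ker (q.app D).hom =
        (RingHom.ker (q.app V).hom).map ((𝟙 X : X ⟶ X).appLE V D e).hom := by
    intro W q V D hV hc hD e
    have hsq : IsPullback (𝟙 W) q q (𝟙 X) := IsPullback.of_horiz_isIso ⟨by simp⟩
    exact (Groth.Agent.RelDivLib.closed_and_ker_pullback hsq hV hc hD e).2
  have hflat : ∀ {V D : X.Opens} (hV : IsAffineOpen V) (hD : IsAffineOpen D) (e : D ≤ V),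
      ((𝟙 X : X ⟶ X).appLE V D e).hom.Flat := by
    intro V D hV hD e
    exact HasRingHomProperty.appLE (P := @Flat) (𝟙 X) inferInstance ⟨_, hV⟩ ⟨_, hD⟩ e
  let ρ₁ := ((𝟙 X : X ⟶ X).appLE U₁ U₃ (hle₃.trans inf_le_left)).hom
  let ρ₂ := ((𝟙 X : X ⟶ X).appLE U₂ U₃ (hle₃.trans inf_le_right)).hom
  let fs : List Γ(X, U₃) := rs₁.map ρ₁
  let hs : List Γ(X, U₃) := rs₂.map ρ₂
  have hfs : LCI.IsKoszulRegularSeq _ fs :=
    Groth.Agent.RelDivLib.seq_flat ρ₁ (hflat hU₁ hU₃ _) .koszul hk1 hrs₁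
  have hhs : LCI.IsKoszulRegularSeq _ hs :=
    Groth.Agent.RelDivLib.seq_flat ρ₂ (hflat hU₂ hU₃ _) .koszul hk1 hrs₂
  have hkf : RingHom.ker (i.app U₃).hom = Ideal.ofList fs := by
    rw [hres i hU₁ hc₁ hU₃ (hle₃.trans inf_le_left), hker₁, Ideal.map_ofList]
  have hkh : RingHom.ker ((j ≫ i).app U₃).hom = Ideal.ofList hs := by
    rw [hres (j ≫ i) hU₂ hc₂ hU₃ (hle₃.trans inf_le_right), hker₂, Ideal.map_ofList]
  have hcu : ∀ {W W' : Scheme.{u}} (q : W ⟶ W') [IsClosedImmersion q] (V : W'.Opens), IsClosedImmersion (q ∣_ V) :=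
    fun q _ V => IsZariskiLocalAtTarget.restrict (P := @IsClosedImmersion) inferInstance V
  obtain ⟨hY₃, hsY₃⟩ := Groth.Agent.RegIdealLib.affine_and_surjective i hU₃ (hcu i U₃)
  obtain ⟨hW₃, hsW₃⟩ := Groth.Agent.RegIdealLib.affine_and_surjective j hY₃ (hcu j _)
  have T : Groth.Agent.ConormalLib.Tower j i U₃ := ⟨hU₃, hY₃, hW₃, hsY₃, hsW₃⟩
  obtain ⟨R, hR⟩ := Groth.Agent.ConormalSplitLib.exists_retraction φ₁ ρ hρ (W := j ⁻¹ᵁ (i ⁻¹ᵁ U₃)) hpre₃
  obtain ⟨c, d, hc, hcd⟩ := Groth.Agent.ConormalSplitLib.exists_coeff T hφ₁ R hR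
    (Groth.Agent.RegKindLib.isH1Regular_of_isKoszulRegularSeq hfs)
    (by rw [Groth.Agent.RegKindDescLib.range_get]; exact hkf)
    (h := hs.get) (by rw [Groth.Agent.RegKindDescLib.range_get]; exact hkh)
  let P : Ideal Γ(X, U₃) := (hU₃.primeIdealOf ⟨i (j z), hz₃⟩).asIdeal
  have hP : RingHom.ker ((j ≫ i).app U₃).hom ≤ P := by
    intro a ha
    by_contra hna
    have hz : z ∈ Z.basicOpen (((j ≫ i).app U₃).hom a) := by
      rw [← (j ≫ i).preimage_basicOpen]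
      exact (Groth.Agent.RegKindDescLib.mem_basicOpen_iff hU₃ ⟨i (j z), hz₃⟩ a).1 hna
    rw [RingHom.mem_ker.1 ha, Scheme.basicOpen_zero] at hz
    exact hz
  obtain ⟨g, s, hsP, hlen, hg, hgen⟩ :=
    Groth.Agent.ConormalSplitLib.exists_gens P fs.get hs.get c d hc (fun k m => hP (hcd k m))
  rw [Groth.Agent.RegKindDescLib.range_get] at hg
  simp only [Groth.Agent.RegKindDescLib.range_get] at hgen
  have hD := hU₃.basicOpen s
  have hDle : X.basicOpen s ≤ U₃ := X.basicOpen_le s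
  have hzD : i (j z) ∈ X.basicOpen s :=
    (Groth.Agent.RegKindDescLib.mem_basicOpen_iff hU₃ ⟨i (j z), hz₃⟩ s).1 hsP
  let r := ((𝟙 X : X ⟶ X).appLE U₃ (X.basicOpen s) hDle).hom
  have hrs : IsUnit (r s) := by
    have hr : r = (X.presheaf.map (homOfLE hDle).op).hom := by simp [r, Scheme.Hom.appLE]
    rw [hr]
    exact X.toRingedSpace.isUnit_res_basicOpen s
  have hgen' : Ideal.ofList ((g.map r) ++ fs.map r) = Ideal.ofList (hs.map r) := by
    rw [Ideal.ofList_append, ← Ideal.map_ofList r g, ← Ideal.map_ofList r fs, ← Ideal.map_sup, ← Ideal.map_ofList r hs]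
    refine le_antisymm (Ideal.map_mono (sup_le (Ideal.span_le.2 hg) ?_)) ?_
    · rw [← hkf, ← hkh]
      intro p hp
      show j.app (i ⁻¹ᵁ U₃) (i.app U₃ p) = 0
      rw [show i.app U₃ p = 0 from hp, map_zero]
    · rw [Ideal.map_ofList, Ideal.ofList, Ideal.span_le]
      intro y hy
      obtain ⟨a, ha, rfl⟩ := List.mem_map.1 (show y ∈ hs.map r from hy)
      obtain ⟨l, rfl⟩ := List.get_of_mem ha
      have h1 := Ideal.mem_map_of_mem r (hgen l)
      rw [map_mul] at h1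
      exact (Ideal.unit_mul_mem_iff_mem _ hrs).1 h1
  have hhs' : LCI.IsKoszulRegularSeq _ (hs.map r) :=
    Groth.Agent.RelDivLib.seq_flat r (hflat hU₃ hD _) .koszul hk1 hhs
  have hfs' : LCI.IsKoszulRegularSeq _ (fs.map r) :=
    Groth.Agent.RelDivLib.seq_flat r (hflat hU₃ hD _) .koszul hk1 hfs
  have happ : LCI.IsKoszulRegularSeq _ (g.map r ++ fs.map r) :=
    Groth.Agent.CILib.isKoszulRegularSeq_of_ofList_eq hhs' hgen' (by simpa using hlen)
  obtain ⟨hYD, hsYD⟩ := Groth.Agent.RegIdealLib.affine_and_surjective i hD (hcu i _)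
  have hkfD : RingHom.ker (i.app (X.basicOpen s)).hom = Ideal.ofList (fs.map r) := by
    rw [hres i hU₃ (hcu i U₃) hD hDle, hkf, Ideal.map_ofList]
  have hkhD : RingHom.ker ((j ≫ i).app (X.basicOpen s)).hom = Ideal.ofList (hs.map r) := by
    rw [hres (j ≫ i) hU₃ (hcu (j ≫ i) U₃) hD hDle, hkh, Ideal.map_ofList]
  letI : Algebra Γ(X, X.basicOpen s) Γ(Y, i ⁻¹ᵁ X.basicOpen s) := (i.app (X.basicOpen s)).hom.toAlgebra
  refine ⟨⟨i ⁻¹ᵁ X.basicOpen s, hYD⟩, hzD, hcu j _, (g.map r).map (i.app (X.basicOpen s)).hom,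
    (Groth.Agent.CILib.isKoszulRegularSeq_append_iff (fs.map r) hfs' hsYD hkfD (g.map r)).1 happ, ?_⟩
  have hcomap : RingHom.ker ((j ≫ i).app (X.basicOpen s)).hom =
      (RingHom.ker (j.app (i ⁻¹ᵁ X.basicOpen s)).hom).comap (i.app (X.basicOpen s)).hom := Ideal.ext fun _ => Iff.rfl
  rw [← Ideal.map_comap_of_surjective _ hsYD (RingHom.ker (j.app (i ⁻¹ᵁ X.basicOpen s)).hom), ← hcomap, hkhD,
    ← hgen', Ideal.ofList_append, Ideal.map_sup, ← hkfD,
    (Ideal.map_eq_bot_iff_le_ker (I := RingHom.ker (i.app (X.basicOpen s)).hom) (i.app (X.basicOpen s)).hom).2 le_rfl,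
    sup_bot_eq, Ideal.map_ofList]

end Groth.Agent.S8675
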