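import Groth.Statements.S8676
import Groth.Agent.FibGenLib.Main
-- import your own Groth.Agent.* helpers here

set_option autoImplicit false
universe v u
open CategoryTheory CategoryTheory.Limits AlgebraicGeometry
attribute [local instance] HasDerivedCategory.standard
open SGA6

set_option backward.isDefEq.respectTransparency false

namespace Groth.Agent.S8676

/-- For a finite family of classes of locally free modules: let f : X ⟶ S be a flat morphism of
Noetherian schemes and E_1, …, E_m finite locally free O_X-modules whose restrictions to every fibre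
X_s have classes generating K₀(Coh X_s) as an abelian group. For each i the functor M ↦ E_i ⊗ f^*M
is exact (instance hypotheses) and preserves coherence (hypothesis hco), so induces [E_i]·f^* :
K₀(Coh S) ⟶ K₀(Coh X); then (x_i) ↦ Σ_i [E_i]·f^*(x_i) from K₀(Coh S)^m to K₀(Coh X) is surjective.
(The published statement allows an arbitrary family of elements of K^•(X) acting on K₀(Coh X); this
row takes the classes of finitely many finite locally free modules.) -/
theorem result {X S : Scheme.{u}} [IsNoetherian X] [IsNoetherian S] (f : X ⟶ S) [Flat f]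
    (m : ℕ) (E : Fin m → X.Modules) (hE : ∀ i, FlatMod.IsFinLocFree (E i))
    [(Scheme.Modules.pullback f).Additive]
    [∀ i, PreservesFiniteLimits (Scheme.Modules.pullback f ⋙ (DCoh.tensorBi (X := X)).obj (E i))]
    [∀ i, PreservesFiniteColimits (Scheme.Modules.pullback f ⋙ (DCoh.tensorBi (X := X)).obj (E i))]
    (hco : ∀ (i : Fin m) (M : S.Modules), Coh.IsCoh M → Coh.IsCoh ((Scheme.Modules.pullback f ⋙ (DCoh.tensorBi (X := X)).obj (E i)).obj M))
    (hfib : ∀ s : S, AddSubgroup.closure (Set.range (fun i : Fin m =>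
      KZero.clSub (fun M : (f.fiber s).Modules => Coh.IsCoh M) ((Scheme.Modules.pullback (f.fiberι s)).obj (E i)))) = ⊤) :
    Function.Surjective (fun x : Fin m → SGA6.Kcoh S =>
      ∑ i : Fin m, SGA6.mapSub (Scheme.Modules.pullback f ⋙ (DCoh.tensorBi (X := X)).obj (E i))
        (fun M : S.Modules => Coh.IsCoh M) (fun M : X.Modules => Coh.IsCoh M) (hco i) (x i)) := by
  intro y
  let F := fun i => Scheme.Modules.pullback f ⋙ (DCoh.tensorBi (X := X)).obj (E i)
  let Φ : (Fin m → SGA6.Kcoh S) →+ SGA6.Kcoh X :=
    ∑ i : Fin m, (SGA6.mapSub (F i) (fun M : S.Modules => Coh.IsCoh M) (fun M : X.Modules => Coh.IsCoh M) (hco i)).comp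
      (Pi.evalAddMonoidHom (fun _ : Fin m => SGA6.Kcoh S) i)
  have hR : Φ.range = ⊤ := FibGenLib.eq_top f Φ.range fun s => by
    have hZ := (K0Fam.isPiece_closureStructureSheaf s).coh
    refine ⟨Fin m, fun i => (F i).obj (Cyc.closureStructureSheaf s), fun i =>
      ⟨hco i _ hZ, fun x hx => FibGenLib.supp_closure f s (FibGenLib.support_tensor (E i) _ hx),
        fun x hx => FibGenLib.kills_tensor f (E i) _ x (FibGenLib.kills_closure f s hx),
        ⟨Pi.single i (K0LocLib.cl (Cyc.closureStructureSheaf s)), ?_⟩⟩, ?_⟩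
    · simp only [Φ, AddMonoidHom.finsetSum_apply, AddMonoidHom.comp_apply, Pi.evalAddMonoidHom_apply]
      rw [Finset.sum_eq_single i (fun j _ hj => by rw [Pi.single_eq_of_ne hj]; exact map_zero _)
        (fun h => absurd (Finset.mem_univ i) h), Pi.single_eq_same]
      exact KRRAmple.mapSub_cl _ _ _ (hco i) hZ
    · obtain ⟨e⟩ := FibGenLib.exists_fibre_iso f s
      refine Eq.trans (congrArg AddSubgroup.closure (congrArg Set.range (funext fun i => ?_))) (hfib s)
      let a : (Scheme.Modules.pullback (f.fiberι s)).obj ((F i).obj (Cyc.closureStructureSheaf s)) ≅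
          (Scheme.Modules.pullback (f.fiberι s)).obj (E i) :=
        ((DCohLib.pullTensorBiIsoSch (f.fiberι s)).app (E i)).app _ ≪≫
          ((DCoh.tensorBi (X := f.fiber s)).obj ((Scheme.Modules.pullback (f.fiberι s)).obj (E i))).mapIso e ≪≫
          DCohLib.tensorStructureIso _
      exact (FibGenLib.cl_congr f a (PullbackMod.isCoh_pullback (f.fiberι s) _ (hco i _ hZ))).symm
  obtain ⟨x, hx⟩ : y ∈ Φ.range := hR ▸ AddSubgroup.mem_top y
  refine ⟨x, Eq.trans ?_ hx⟩
  simp only [Φ, AddMonoidHom.finsetSum_apply, AddMonoidHom.comp_apply, Pi.evalAddMonoidHom_apply]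
  rfl

end Groth.Agent.S8676
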