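import Groth.Statements.S8678
import Groth.Agent.LamR.Basic

set_option autoImplicit false
universe u
open Finset
open LambdaRing

namespace Groth.Agent.S8678

/-- As the identity it proves in the pre-λ-ring K(Y') of the exceptional divisor: let K be a pre-λ-ring
(λ^0 = 1, λ^1 = id, additive formula) with λ^k(1) = 0 for all k ≥ 2, let d ≥ 2, and let F, L, N' ∈ K
satisfy λ^j(L) = 0 for j ≥ 2 (L is the class of an invertible module), λ^i(N') = 0 for i ≥ d − 1 (N'
is the class of a bundle of rank d − 2) and F + L = N' + 2 (for the blowing up of a regular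
immersion of codimension d: on the exceptional divisor the pulled-back conormal class is F + L, and
N = N' + 2). Then 1 − L divides λ_{−1}(F) = Σ_{i<d} (−1)^i λ^i(F). (The published proof uses only
additivity of λ_t and λ_t(1) = 1 + t, the hypotheses taken here.) -/
theorem result (K : Type u) [CommRing K] [LambdaRing.LambdaOps K]
    (h1 : ∀ k : ℕ, 2 ≤ k → LambdaRing.LambdaOps.lam k (1 : K) = 0) (d : ℕ) (hd : 2 ≤ d) (F L N' : K)
    (hL : ∀ j : ℕ, 2 ≤ j → LambdaRing.LambdaOps.lam j L = 0) (hN' : ∀ i : ℕ, d - 1 ≤ i → LambdaRing.LambdaOps.lam i N' = 0)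
    (hrel : F + L = N' + 2) :
    (1 - L) ∣ ∑ i ∈ range d, (-1 : K) ^ i * LambdaRing.LambdaOps.lam i F := by
  rw [← Ideal.mem_span_singleton]
  set I : Ideal K := Ideal.span {1 - L} with hI
  have key : ∀ n, LambdaRing.LambdaOps.lam n F - LambdaRing.LambdaOps.lam n (N' + 1) ∈ I := by
    intro n
    induction n with
    | zero => rw [LambdaRing.LambdaOps.lam_zero, LambdaRing.LambdaOps.lam_zero, sub_self]; exact I.zero_mem
    | succ n ih =>
      have e : L + F = 1 + (N' + 1) := by rw [add_comm L, hrel]; ring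
      have e' := congrArg (LambdaRing.LambdaOps.lam (n + 1)) e
      rw [LamR.lam_succ_thin_add hL, LamR.lam_succ_thin_add h1, one_mul] at e'
      have hid : LambdaRing.LambdaOps.lam (n + 1) F - LambdaRing.LambdaOps.lam (n + 1) (N' + 1) =
          (1 - L) * LambdaRing.LambdaOps.lam n F - (LambdaRing.LambdaOps.lam n F - LambdaRing.LambdaOps.lam n (N' + 1)) := by
        linear_combination e'
      rw [hid]
      exact I.sub_mem (I.mul_mem_right _ (Ideal.mem_span_singleton_self _)) ih
  have h0 : (∑ i ∈ range d, (-1 : K) ^ i * LambdaRing.LambdaOps.lam i (N' + 1)) = 0 := by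
    obtain ⟨e, rfl⟩ : ∃ e, d = e + 1 := ⟨d - 1, by omega⟩
    have := LamR.lam_eq_alternating h1 e N'
    rw [hN' e (by omega)] at this
    have hu : IsUnit ((-1 : K) ^ e) := (isUnit_one.neg).pow e
    exact (hu.mul_right_eq_zero).1 this.symm
  have : ∑ i ∈ range d, (-1 : K) ^ i * LambdaRing.LambdaOps.lam i F =
      ∑ i ∈ range d, (-1 : K) ^ i * (LambdaRing.LambdaOps.lam i F - LambdaRing.LambdaOps.lam i (N' + 1)) := by
    simp only [mul_sub, Finset.sum_sub_distrib, h0, sub_zero]
  rw [this]
  exact I.sum_mem fun i _ => I.mul_mem_left _ (key i)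

end Groth.Agent.S8678
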