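import Groth.Statements.S8681
import Groth.Agent.FactorSeqLib.Basic

set_option autoImplicit false
universe u
open CategoryTheory CategoryTheory.Limits AlgebraicGeometry
open Synt

namespace Groth.Agent.S8681

open CategoryTheory CategoryTheory.Limits AlgebraicGeometry

open Groth.Agent

/-- Let f : X ⟶ Y be a local complete intersection morphism in the factorisation sense (around each
point, locally of finite type and factoring as a Koszul-regular immersion followed by a smooth
morphism), with two factorisations f = i ≫ g = i' ≫ g' where g : V ⟶ Y, g' : V' ⟶ Y are smooth and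
i, i' are closed immersions, and let d : O_V → Ω, d' : O_{V'} → Ω' be universal Y-derivations. Let x
∈ X and suppose that on open neighbourhoods of x the modules i^*Ω, N_i (conormal sheaf of i), i'^*Ω'
and N_{i'} are free of ranks a, b, a', b'. Then a − b = a' − b': the integer rank(Ω_{V/Y} at i(x)) −
rank(N_i at x), the virtual relative dimension of f at x, is independent of the factorisation. (The
published statement allows factorisations defined only near x and arbitrary immersions; this row
takes global factorisations through closed immersions.) -/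
theorem result {X Y V V' : Scheme.{u}} (f : X ⟶ Y) (hf : ∀ x : X, Synt.IsKoszulAt f x)
    (g : V ⟶ Y) [Smooth g] (i : X ⟶ V) [IsClosedImmersion i] (hi : i ≫ g = f)
    (g' : V' ⟶ Y) [Smooth g'] (i' : X ⟶ V') [IsClosedImmersion i'] (hi' : i' ≫ g' = f)
    (Ω : V.Modules) (d : OmegaSh.Der g Ω) (hd : OmegaSh.IsUniversal d)
    (Ω' : V'.Modules) (d' : OmegaSh.Der g' Ω') (hd' : OmegaSh.IsUniversal d')
    (x : X) (a b a' b' : ℕ) (U₁ U₂ U₃ U₄ : X.Opens) (h₁ : x ∈ U₁) (h₂ : x ∈ U₂) (h₃ : x ∈ U₃) (h₄ : x ∈ U₄)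
    (ha : FlatMod.IsFinLocFreeOfRank a ((Scheme.Modules.restrictFunctor U₁.ι).obj ((Scheme.Modules.pullback i).obj Ω)))
    (hb : FlatMod.IsFinLocFreeOfRank b ((Scheme.Modules.restrictFunctor U₂.ι).obj (Omega.conormal i)))
    (ha' : FlatMod.IsFinLocFreeOfRank a' ((Scheme.Modules.restrictFunctor U₃.ι).obj ((Scheme.Modules.pullback i').obj Ω')))
    (hb' : FlatMod.IsFinLocFreeOfRank b' ((Scheme.Modules.restrictFunctor U₄.ι).obj (Omega.conormal i'))) :
    (a : ℤ) - b = (a' : ℤ) - b' := by
  obtain ⟨M, p, q, w, p', q', w', hS, hS', -, -⟩ := FactorSeqLib.exists_two_seq hi hi' hd hd'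
  have hN := FactorSeqLib.isFinLocFree_conormal hf g i hi
  have hN' := FactorSeqLib.isFinLocFree_conormal hf g' i' hi'
  have hO := FactorSeqLib.isFinLocFree_pull_omega g i hd
  have hO' := FactorSeqLib.isFinLocFree_pull_omega g' i' hd'
  have hM : FlatMod.IsFinLocFree M := RegLib.isFinLocFree_mid hS hN hO'
  obtain ⟨n₁, h1⟩ := FactorSeqLib.exists_freeAt hO x
  obtain ⟨n₂, h2⟩ := FactorSeqLib.exists_freeAt hN x
  obtain ⟨n₃, h3⟩ := FactorSeqLib.exists_freeAt hO' x
  obtain ⟨n₄, h4⟩ := FactorSeqLib.exists_freeAt hN' x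
  obtain ⟨m, hm⟩ := FactorSeqLib.exists_freeAt hM x
  obtain rfl := FactorSeqLib.freeAt_unique_open hO ‹x ∈ U₁› ha h1
  obtain rfl := FactorSeqLib.freeAt_unique_open hN ‹x ∈ U₂› hb h2
  obtain rfl := FactorSeqLib.freeAt_unique_open hO' ‹x ∈ U₃› ha' h3
  obtain rfl := FactorSeqLib.freeAt_unique_open hN' ‹x ∈ U₄› hb' h4
  have := FactorSeqLib.freeAt_add hS h2 hm h3
  have := FactorSeqLib.freeAt_add hS' h4 hm h1
  omega


end Groth.Agent.S8681
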