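import Groth.Statements.S8682
import Groth.Agent.FactorSeqLib.Basic
import Groth.Agent.FactorSeqLib.Double

set_option autoImplicit false
universe u
open CategoryTheory CategoryTheory.Limits AlgebraicGeometry
attribute [local instance] HasDerivedCategory.standard
open Synt

namespace Groth.Agent.S8682

open CategoryTheory CategoryTheory.Limits AlgebraicGeometry

open Groth.Agent
set_option backward.isDefEq.respectTransparency false
set_option maxHeartbeats 1000000
attribute [local instance] HasDerivedCategory.standard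


/-- Let f : X ⟶ Y admit two factorisations f = i ≫ g = i' ≫ g' with g : V ⟶ Y, g' : V' ⟶ Y smooth and i,
i' closed immersions. Let d : O_V → Ω and d' : O_{V'} → Ω' be universal Y-derivations and let φ :
N_i ⟶ i^*Ω, φ' : N_{i'} ⟶ i'^*Ω' be the maps induced by d and d' on the conormal sheaves (pinned by
their values on classes of local sections of the ideals). Then the cotangent complexes [N_i → i^*Ω]
and [N_{i'} → i'^*Ω'], placed in degrees −1 and 0, are isomorphic in the derived category of
O_X-modules. The published statement names a canonical isomorphism; this row asserts only that an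
isomorphism exists. -/
theorem result {X Y V V' : Scheme.{u}} (f : X ⟶ Y)
    (g : V ⟶ Y) [Smooth g] (i : X ⟶ V) [IsClosedImmersion i] (hi : i ≫ g = f)
    (g' : V' ⟶ Y) [Smooth g'] (i' : X ⟶ V') [IsClosedImmersion i'] (hi' : i' ≫ g' = f)
    (Ω : V.Modules) (d : OmegaSh.Der g Ω) (hd : OmegaSh.IsUniversal d)
    (Ω' : V'.Modules) (d' : OmegaSh.Der g' Ω') (hd' : OmegaSh.IsUniversal d')
    (φ : Omega.conormal i ⟶ (Scheme.Modules.pullback i).obj Ω) (hφ : OmegaSh.IsConormalDiff i d φ)
    (φ' : Omega.conormal i' ⟶ (Scheme.Modules.pullback i').obj Ω') (hφ' : OmegaSh.IsConormalDiff i' d' φ') :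
    Nonempty (DCoh.toD X (HomologicalComplex.double φ (show (ComplexShape.up ℤ).Rel (-1 : ℤ) 0 from neg_add_cancel (1 : ℤ))) ≅
      DCoh.toD X (HomologicalComplex.double φ' (show (ComplexShape.up ℤ).Rel (-1 : ℤ) 0 from neg_add_cancel (1 : ℤ)))) := by
  obtain ⟨M, a, b, w, a', b', w', hS, hS', hc, hc'⟩ := FactorSeqLib.exists_two_seq hi hi' hd hd'
  let A := (Scheme.Modules.pullback i).obj Ω
  let B := (Scheme.Modules.pullback i').obj Ω'
  let D : M ⟶ A ⊞ B := biprod.lift b' b
  have w₁ : (biprod.inl : A ⟶ A ⊞ B) ≫ biprod.snd = 0 := biprod.inl_snd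
  have w₂ : (biprod.inr : B ⟶ A ⊞ B) ≫ biprod.fst = 0 := biprod.inr_fst
  have h₁ : (ShortComplex.mk (biprod.inl : A ⟶ A ⊞ B) biprod.snd w₁).ShortExact :=
    (ShortComplex.Splitting.ofHasBinaryBiproduct A B).shortExact
  have h₂ : (ShortComplex.mk (biprod.inr : B ⟶ A ⊞ B) biprod.fst w₂).ShortExact := by
    refine ShortComplex.shortExact_of_iso ?_ (ShortComplex.Splitting.ofHasBinaryBiproduct B A).shortExact
    exact ShortComplex.isoMk (Iso.refl _) (biprod.braiding B A) (Iso.refl _) (by apply biprod.hom_ext <;> simp [biprod.braiding]) (by apply biprod.hom_ext' <;> simp [biprod.braiding])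
  obtain ⟨F, hF⟩ := FactorSeqLib.exists_quasiIso_double φ D a biprod.inl b biprod.snd
    (by apply biprod.hom_ext <;> simp [A, B, D, w, hc φ hφ]) (by simp [A, B, D]) (w₀ := w) (w₁ := w₁) hS h₁
  obtain ⟨F', hF'⟩ := FactorSeqLib.exists_quasiIso_double φ' D a' biprod.inr b' biprod.fst
    (by apply biprod.hom_ext <;> simp [A, B, D, w', hc' φ' hφ']) (by simp [A, B, D]) (w₀ := w') (w₁ := w₂) hS' h₂
  exact ⟨(asIso (DerivedCategory.Q.map F)).trans (asIso (DerivedCategory.Q.map F')).symm⟩


end Groth.Agent.S8682
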