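import Groth.Statements.S8683
import Groth.Agent.FactorSeqLib.Basic
import Groth.Agent.ConormalLib.Cart
import Groth.Agent.S9372
import Groth.Agent.S8661

set_option autoImplicit false
universe u
open CategoryTheory CategoryTheory.Limits AlgebraicGeometry
open Synt

namespace Groth.Agent.S8683

open CategoryTheory CategoryTheory.Limits AlgebraicGeometry

set_option backward.isDefEq.respectTransparency false
set_option backward.defeqAttrib.useBackward true
set_option linter.style.haveILetI false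

open Groth.Agent

theorem freeAt_qcoh {X : Scheme.{u}} {M : X.Modules} (hM : FlatMod.IsFinLocFree M) : Coh.IsQCoh M :=
  (PullbackMod.isQCoh_and_isFP_of_isFinLocFree _ hM).1

theorem freeAt_baseChange {O Y Q W : Scheme.{u}} {c : O ⟶ Q} [IsClosedImmersion c] {jg : Y ⟶ W}
    [IsClosedImmersion jg] {q : Q ⟶ W} [Flat q] {r : O ⟶ Y} (h : IsPullback c r q jg) {n : ℕ} (o : O)
    (hfin : FlatMod.IsFinLocFree (Omega.conormal jg)) (hn : PullbackMod.FreeAt n (Omega.conormal jg) (r o)) :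
    PullbackMod.FreeAt n (Omega.conormal c) o := by
  obtain ⟨φ, hφ, -⟩ := ConormalLib.existsUnique_conormalMap c jg q r h.w.symm
  haveI := (Groth.Agent.S9372.result c jg q r h φ hφ).2 inferInstance
  haveI := freeAt_qcoh hfin
  exact FactorSeqLib.freeAt_iso (asIso φ) (PullbackMod.freeAt_pullback _ r o hn)

theorem freeAt_of_pull {X V : Scheme.{u}} (i : X ⟶ V) {M : V.Modules} (hM : FlatMod.IsFinLocFree M) {x : X} {a : ℕ}
    {U : X.Opens} (hx : x ∈ U)
    (h : FlatMod.IsFinLocFreeOfRank a ((Scheme.Modules.restrictFunctor U.ι).obj ((Scheme.Modules.pullback i).obj M))) :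
    PullbackMod.FreeAt a M (i x) ∧ PullbackMod.FreeAt a ((Scheme.Modules.pullback i).obj M) x := by
  obtain ⟨n, hn⟩ := FactorSeqLib.exists_freeAt hM (i x)
  haveI := freeAt_qcoh hM
  have h' := PullbackMod.freeAt_pullback M i x hn
  obtain rfl := FactorSeqLib.freeAt_unique_open (PullbackMod.isFinLocFree_pullback i _ hM) hx h h'
  exact ⟨hn, h'⟩

theorem freeAt_of_fin {X : Scheme.{u}} {M : X.Modules} (hM : FlatMod.IsFinLocFree M) {x : X} {a : ℕ} {U : X.Opens}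
    (hx : x ∈ U) (h : FlatMod.IsFinLocFreeOfRank a ((Scheme.Modules.restrictFunctor U.ι).obj M)) :
    PullbackMod.FreeAt a M x := by
  obtain ⟨n, hn⟩ := FactorSeqLib.exists_freeAt hM x
  obtain rfl := FactorSeqLib.freeAt_unique_open hM hx h hn
  exact hn

theorem exists_open_preimage {A B : Scheme.{u}} (c : A ⟶ B) [IsClosedImmersion c] (O : A.Opens) :
    ∃ W : B.Opens, c ⁻¹ᵁ W = O := by
  obtain ⟨t, ht, he⟩ := c.isClosedEmbedding.isInducing.isOpen_iff.mp O.2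
  exact ⟨⟨t, ht⟩, TopologicalSpace.Opens.ext he⟩


/-- Let f : X ⟶ Y and g : Y ⟶ Z be local complete intersection morphisms in the factorisation sense,
with factorisations f = i_f ≫ g_f, g = i_g ≫ g_g and f ≫ g = i_h ≫ g_h through smooth morphisms g_f
: V ⟶ Y, g_g : W ⟶ Z, g_h : T ⟶ Z by closed immersions, universal derivations d_f, d_g, d_h (sheaves
of differentials Ω_f, Ω_g, Ω_h of V/Y, W/Z, T/Z), and x ∈ X. Suppose that on open neighbourhoods of
x the modules i_f^*Ω_f, N_{i_f}, i_h^*Ω_h, N_{i_h} are free of ranks a_f, b_f, a_h, b_h and that on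
open neighbourhoods of f(x) the modules i_g^*Ω_g, N_{i_g} are free of ranks a_g, b_g. Then a_h − b_h
= (a_f − b_f) + (a_g − b_g): virtual relative dimensions add under composition. (The published
statement allows local factorisations through arbitrary immersions; this row takes global
closed-immersion factorisations.) -/
theorem result {X Y Z V W T : Scheme.{u}} (f : X ⟶ Y) (g : Y ⟶ Z)
    (hf : ∀ x : X, Synt.IsKoszulAt f x) (hg : ∀ y : Y, Synt.IsKoszulAt g y)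
    (gf : V ⟶ Y) [Smooth gf] (jf : X ⟶ V) [IsClosedImmersion jf] (hjf : jf ≫ gf = f)
    (gg : W ⟶ Z) [Smooth gg] (jg : Y ⟶ W) [IsClosedImmersion jg] (hjg : jg ≫ gg = g)
    (gh : T ⟶ Z) [Smooth gh] (jh : X ⟶ T) [IsClosedImmersion jh] (hjh : jh ≫ gh = f ≫ g)
    (Ωf : V.Modules) (df : OmegaSh.Der gf Ωf) (hdf : OmegaSh.IsUniversal df)
    (Ωg : W.Modules) (dg : OmegaSh.Der gg Ωg) (hdg : OmegaSh.IsUniversal dg)
    (Ωh : T.Modules) (dh : OmegaSh.Der gh Ωh) (hdh : OmegaSh.IsUniversal dh)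
    (x : X) (af bf ag bg ah bh : ℕ) (U₁ U₂ U₃ U₄ : X.Opens) (U₅ U₆ : Y.Opens)
    (h₁ : x ∈ U₁) (h₂ : x ∈ U₂) (h₃ : x ∈ U₃) (h₄ : x ∈ U₄) (h₅ : f x ∈ U₅) (h₆ : f x ∈ U₆)
    (haf : FlatMod.IsFinLocFreeOfRank af ((Scheme.Modules.restrictFunctor U₁.ι).obj ((Scheme.Modules.pullback jf).obj Ωf)))
    (hbf : FlatMod.IsFinLocFreeOfRank bf ((Scheme.Modules.restrictFunctor U₂.ι).obj (Omega.conormal jf)))
    (hah : FlatMod.IsFinLocFreeOfRank ah ((Scheme.Modules.restrictFunctor U₃.ι).obj ((Scheme.Modules.pullback jh).obj Ωh)))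
    (hbh : FlatMod.IsFinLocFreeOfRank bh ((Scheme.Modules.restrictFunctor U₄.ι).obj (Omega.conormal jh)))
    (hag : FlatMod.IsFinLocFreeOfRank ag ((Scheme.Modules.restrictFunctor U₅.ι).obj ((Scheme.Modules.pullback jg).obj Ωg)))
    (hbg : FlatMod.IsFinLocFreeOfRank bg ((Scheme.Modules.restrictFunctor U₆.ι).obj (Omega.conormal jg))) :
    (ah : ℤ) - bh = ((af : ℤ) - bf) + ((ag : ℤ) - bg) := by
  have hNf := FactorSeqLib.isFinLocFree_conormal hf gf jf hjf
  have hNg := FactorSeqLib.isFinLocFree_conormal hg gg jg hjg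
  have hNh := FactorSeqLib.isFinLocFree_conormal (Groth.Agent.S8661.result f g hf hg) gh jh hjh
  have fin {V Y : Scheme.{u}} (g : V ⟶ Y) [Smooth g] {Ω : V.Modules} {d : OmegaSh.Der g Ω} (hd : OmegaSh.IsUniversal d) :
      FlatMod.IsFinLocFree Ω :=
    EtAlgEasy.OmegaSmooth.isFinLocFree_omega g (SmoothLiftLib.isFormallySmoothHom_of_smooth g) hd
  obtain ⟨-, raf⟩ := freeAt_of_pull jf (fin gf hdf) h₁ haf
  obtain ⟨rah, -⟩ := freeAt_of_pull jh (fin gh hdh) h₃ hah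
  obtain ⟨rag, -⟩ := freeAt_of_pull jg (fin gg hdg) h₅ hag
  have rbf := freeAt_of_fin hNf h₂ hbf
  have rbh := freeAt_of_fin hNh h₄ hbh
  have rbg := freeAt_of_fin hNg h₆ hbg
  let p := Limits.pullback.fst gh gg
  let q := Limits.pullback.snd gh gg
  let cT := Limits.pullback.fst q jg
  let rT := Limits.pullback.snd q jg
  have hsq : IsPullback p q gh gg := IsPullback.of_hasPullback gh gg
  have hT : IsPullback cT rT q jg := IsPullback.of_hasPullback q jg
  have hTY : IsPullback (cT ≫ p) rT gh g := hjg ▸ hT.paste_horiz hsq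
  let k : X ⟶ Limits.pullback q jg :=
    Limits.pullback.lift (Limits.pullback.lift jh (f ≫ jg) (by rw [hjh, Category.assoc, hjg])) f
      (Limits.pullback.lift_snd _ _ _)
  have hkT : k ≫ cT ≫ p = jh := by simp [k, cT, p]
  have hkr : k ≫ rT = f := Limits.pullback.lift_snd _ _ _
  haveI : IsImmersion (k ≫ cT ≫ p) := by rw [hkT]; infer_instance
  haveI : IsImmersion k := IsImmersion.of_comp k (cT ≫ p)
  obtain ⟨O, k₀, _, hkp, hkf⟩ : ∃ (O : (Limits.pullback q jg).Opens) (k₀ : X ⟶ O.toScheme) (_ : IsClosedImmersion k₀),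
      k₀ ≫ O.ι ≫ cT ≫ p = jh ∧ k₀ ≫ O.ι ≫ rT = f :=
    ⟨_, k.liftCoborder, inferInstance, by rw [k.liftCoborder_ι_assoc, hkT], by rw [k.liftCoborder_ι_assoc, hkr]⟩
  obtain ⟨W₁, rfl⟩ := exists_open_preimage cT O
  have hc : IsPullback (cT ∣_ W₁) ((cT ⁻¹ᵁ W₁).ι ≫ rT) (W₁.ι ≫ q) jg :=
    (isPullback_morphismRestrict cT W₁).paste_vert hT
  haveI : IsClosedImmersion (cT ∣_ W₁) := MorphismProperty.of_isPullback (isPullback_morphismRestrict cT W₁).flip inferInstance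
  haveI : Smooth q := MorphismProperty.of_isPullback (P := @Smooth) hsq inferInstance
  haveI : Smooth rT := MorphismProperty.of_isPullback (P := @Smooth) hT inferInstance
  have rc : PullbackMod.FreeAt bg (Omega.conormal (cT ∣_ W₁)) (k₀ x) := by
    refine freeAt_baseChange hc (k₀ x) hNg ?_
    rw [← Scheme.Hom.comp_apply, hkf]
    exact rbg
  obtain ⟨ΩT, dT, hdT⟩ := OmegaExistLib.exists_universal rT
  obtain ⟨eT, -⟩ := FactorSeqLib.isIso_of_pullback hTY hdh hdT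
  have rT' : PullbackMod.FreeAt ah ΩT ((cT ⁻¹ᵁ W₁).ι (k₀ x)) := by
    haveI := freeAt_qcoh (fin gh hdh)
    refine FactorSeqLib.freeAt_iso eT (PullbackMod.freeAt_pullback Ωh (cT ≫ p) _ ?_)
    rw [← Scheme.Hom.comp_apply, ← Scheme.Hom.comp_apply, hkp]
    exact rah
  have w₀ : ((cT ⁻¹ᵁ W₁).ι ≫ rT) ≫ 𝟙 Y = (cT ⁻¹ᵁ W₁).ι ≫ rT := Category.comp_id _
  let dO := OmegaUnivLib.restrictDer (cT ⁻¹ᵁ W₁).ι (𝟙 Y) w₀ dT
  have hdO : OmegaSh.IsUniversal dO := OmegaUnivLib.isUniversal_restrictDer (cT ⁻¹ᵁ W₁).ι (𝟙 Y) w₀ hdT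
  have rkO : PullbackMod.FreeAt ah ((Scheme.Modules.pullback k₀).obj (ΩT.restrict (cT ⁻¹ᵁ W₁).ι)) x := by
    haveI := freeAt_qcoh (fin ((cT ⁻¹ᵁ W₁).ι ≫ rT) hdO)
    haveI := freeAt_qcoh (fin rT hdT)
    exact PullbackMod.freeAt_pullback _ k₀ x (FactorSeqLib.freeAt_iso
      ((Scheme.Modules.restrictFunctorIsoPullback (cT ⁻¹ᵁ W₁).ι).app ΩT).symm
      (PullbackMod.freeAt_pullback ΩT _ (k₀ x) rT'))
  have hk1 : RegImm.IsRegularImmersion RegImm.Kind.h1 k₀ :=
    (Groth.Agent.S8905.result k₀).2.1 (Groth.Agent.S8656.result f hf _ k₀ hkf)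
  have hNk := FactorSeqLib.isFinLocFree_conormal hf _ k₀ hkf
  obtain ⟨bk, rbk⟩ := FactorSeqLib.exists_freeAt hNk x
  obtain ⟨M, _, _, _, _, _, _, hS, hS', -, -⟩ := FactorSeqLib.exists_two_seq hjf hkf hdf hdO
  obtain ⟨m, rm⟩ := FactorSeqLib.exists_freeAt (RegLib.isFinLocFree_mid hS hNf
    (FactorSeqLib.isFinLocFree_pull_omega _ k₀ hdO)) x
  have e1 := FactorSeqLib.freeAt_add hS rbf rm rkO
  have e2 := FactorSeqLib.freeAt_add hS' rbk rm raf
  obtain ⟨_, _, _, hS₂, -, -⟩ := FactorSeqLib.exists_seq hsq.flip W₁ (k₀ ≫ cT ∣_ W₁) jh (f ≫ jg)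
    (by simp only [Category.assoc]; rw [morphismRestrict_ι_assoc]; exact hkp)
    (by simp only [Category.assoc]; rw [morphismRestrict_ι_assoc, hT.w, reassoc_of% hkf]) hdg
  obtain ⟨a, ha, -⟩ := ConormalLib.existsUnique_conormalMap (k₀ ≫ cT ∣_ W₁) (cT ∣_ W₁) (𝟙 _) k₀
    (Category.comp_id _).symm
  obtain ⟨b, hb, -⟩ := ConormalLib.existsUnique_conormalMap k₀ (k₀ ≫ cT ∣_ W₁) (cT ∣_ W₁) (𝟙 X)
    (Category.id_comp _)
  obtain ⟨w, hs, -⟩ := ConormalLib.transitivity_of_h1 ha hb hk1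
  haveI := freeAt_qcoh hNk
  have hNj : FlatMod.IsFinLocFree (Omega.conormal (k₀ ≫ cT ∣_ W₁)) :=
    FactorSeqLib.isFinLocFree_conormal (Groth.Agent.S8661.result f g hf hg) (W₁.ι ≫ p ≫ gh) _ (by
      simp only [Category.assoc]; rw [morphismRestrict_ι_assoc, reassoc_of% hkp, hjh])
  obtain ⟨m', rm'⟩ := FactorSeqLib.exists_freeAt hNj x
  haveI := freeAt_qcoh (fin gg hdg)
  have e3 := FactorSeqLib.freeAt_add hS₂ rbh rm' (PullbackMod.freeAt_pullback Ωg (f ≫ jg) x (by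
    rw [Scheme.Hom.comp_apply]; exact rag))
  have hNc : Coh.IsQCoh (Omega.conormal (cT ∣_ W₁)) := by
    obtain ⟨φ, hφ, -⟩ := ConormalLib.existsUnique_conormalMap (cT ∣_ W₁) jg (W₁.ι ≫ q) _ hc.w.symm
    haveI := (Groth.Agent.S9372.result _ jg _ _ hc φ hφ).2 inferInstance
    haveI := freeAt_qcoh (PullbackMod.isFinLocFree_pullback ((cT ⁻¹ᵁ W₁).ι ≫ rT) _ hNg)
    exact DCohLib.isQCoh_of_iso' (asIso φ) inferInstance
  have e4 := FactorSeqLib.freeAt_add (hs w) (PullbackMod.freeAt_pullback _ k₀ x rc) rm' rbk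
  omega


end Groth.Agent.S8683
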