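import Groth.Statements.S8693
import Groth.Agent.KRRAmple.FG
-- import your own Groth.Agent.* helpers here

set_option autoImplicit false
set_option backward.isDefEq.respectTransparency false
universe v u
open CategoryTheory CategoryTheory.Limits AlgebraicGeometry
attribute [local instance] HasDerivedCategory.standard
open KRR

namespace Groth.Agent.S8693

/-- Let X be a connected quasi-compact scheme with an ample invertible O_X-module L, (K, P, φ) a model
of the λ-ring K(X) of finite locally free modules with its positive structure (augmentation ε =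
rank), and E_1, …, E_k finite locally free O_X-modules. Let R ⊆ K(X) be the subring generated by the
elements λ^j[E_i] for all i and j, which is the sub-λ-ring generated by the classes [E_i]. Then the
ideal R ∩ Ker ε of R is nilpotent: there is n such that every product of n elements of R of
augmentation zero vanishes; and R is finitely generated as an abelian group. (The published
statement allows X disconnected, with R a module of finite type over R ∩ H^0(X, ℤ), and also asserts
that the λ-ring filtration of R is discrete; this row takes X connected, as the model requires, and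
states the nilpotency and the finite generation over the integers.) -/
theorem result (X : Scheme.{u}) [ConnectedSpace ↥X] (L : X.Modules) (hL : CohB1.IsAmple L)
    (K : Type v) [CommRing K] [LambdaRing.LambdaOps K] (P : LambdaRing.PosStructure K) (φ : SGA6.Kvb X →+ K)
    (hK : KRR.IsModel X K P φ)
    (k : ℕ) (E : Fin k → X.Modules) (hE : ∀ i : Fin k, FlatMod.IsFinLocFree (E i)) :
    (∃ n : ℕ, ∀ f : Fin n → K,
      (∀ t : Fin n, f t ∈ Subring.closure {y : K | ∃ (i : Fin k) (j : ℕ), y = LambdaRing.LambdaOps.lam j (φ (KRR.cl X (E i)))} ∧ P.aug (f t) = 0) →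
        ∏ t, f t = 0) ∧
    (Subring.closure {y : K | ∃ (i : Fin k) (j : ℕ), y = LambdaRing.LambdaOps.lam j (φ (KRR.cl X (E i)))}).toAddSubgroup.FG := by
  haveI := hL.2.1
  refine KRRAmple.lam_closure_nilpotent_fg P (KRRAmple.isNilpotent_of_aug_eq_zero hL hK)
    (fun i => φ (KRR.cl X (E i))) fun i => ?_
  have hf : FlatMod.IsFinLocFree (E i ⊞ FlatMod.freeMod X 1) :=
    DCohLib.isFinLocFree_biprod (hE i) (DCohLib.isFinLocFree_freeMod 1)
  obtain ⟨r, hr⟩ := KRRAmple.exists_isFinLocFreeOfRank hf
  obtain ⟨s, hs⟩ := KRRAmple.exists_isFinLocFreeOfRank (hE i)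
  have heq : φ (KRR.cl X (E i ⊞ FlatMod.freeMod X 1)) = φ (KRR.cl X (E i)) + 1 :=
    (KRRAmple.kl_biprod (φ := φ) (hE i) (DCohLib.isFinLocFree_freeMod 1)).trans
      (congrArg _ ((KRRAmple.map_freeMod hK 1).trans Nat.cast_one))
  refine (hK.mem_pos_iff _).2 ⟨r, _, ?_, hr, heq⟩
  have h := congrArg P.aug heq
  rw [map_add, map_one, hK.aug_cl r _ hr, hK.aug_cl s _ hs] at h
  omega

end Groth.Agent.S8693
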