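import Groth.Statements.S8699
import Groth.Agent.LamR.Special

set_option autoImplicit false
universe u
open LambdaRing

namespace Groth.Agent.S8699

theorem adamsOp_binomial {K : Type u} [CommRing K] [LambdaRing.LambdaOps K] [BinomialRing K]
    (hKb : LambdaRing.IsBinomial K) (htf : ∀ (n : ℕ) (a b : K), a * ((n : K) + 1) = b * ((n : K) + 1) → a = b)
    (k : ℕ) (hk : 1 ≤ k) (x : K) : LambdaRing.adamsOp k x = x := by
  have hrec : ∀ n : ℕ, Ring.choose x (n + 1) * ((n : K) + 1) = Ring.choose x n * (x - (n : K)) := by
    intro n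
    haveI : IsAddTorsionFree K := BinomialRing.toIsAddTorsionFree
    apply nsmul_right_injective (Nat.factorial_ne_zero n)
    have e1 := Ring.descPochhammer_eq_factorial_smul_choose x (n + 1)
    have e2 := Ring.descPochhammer_eq_factorial_smul_choose x n
    rw [descPochhammer_succ_right, Polynomial.smeval_mul, e2] at e1
    simp only [Polynomial.smeval_sub, Polynomial.smeval_X, Polynomial.smeval_natCast, pow_zero, pow_one,
      nsmul_eq_mul, mul_one, Nat.factorial_succ, Nat.cast_mul, Nat.cast_add, Nat.cast_one] at e1 ⊢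
    linear_combination -e1
  have hl : LambdaRing.logDerivSeries x = PowerSeries.mk fun i => (-1 : K) ^ i * x := by
    rw [LamR.logDerivSeries_eq_iff]
    have h : (1 + PowerSeries.X) * PowerSeries.derivative K (LambdaRing.lamSeries x) = PowerSeries.C x * LambdaRing.lamSeries x := by
      ext n
      rw [add_mul, one_mul, map_add, PowerSeries.coeff_derivative, PowerSeries.coeff_C_mul, LamR.coeff_lamSeries,
        LamR.coeff_lamSeries, hKb, hKb, hrec]
      cases n with
      | zero => simp [mul_comm]
      | succ n =>
        rw [PowerSeries.coeff_succ_X_mul, PowerSeries.coeff_derivative, LamR.coeff_lamSeries, hKb]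
        push_cast; ring
    have h2 : PowerSeries.mk (fun i => (-1 : K) ^ i * x) * (1 + PowerSeries.X) = PowerSeries.C x := by
      ext n
      rw [mul_add, mul_one, map_add, PowerSeries.coeff_mk]
      cases n with
      | zero => simp
      | succ n => rw [PowerSeries.coeff_succ_mul_X, PowerSeries.coeff_mk, PowerSeries.coeff_succ_C]; ring
    have hu : IsUnit (1 + PowerSeries.X : PowerSeries K) := by
      rw [PowerSeries.isUnit_iff_constantCoeff]; simp
    apply hu.mul_left_cancel
    rw [h, ← h2]; ring
  obtain ⟨k, rfl⟩ : ∃ j, k = j + 1 := ⟨k - 1, by omega⟩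
  rw [LambdaRing.adamsOp, hl, PowerSeries.coeff_mk, ← mul_assoc, ← pow_add, Even.neg_one_pow ⟨k, rfl⟩, one_mul]

/-- A binomial ring K (no additive torsion and all binomial coefficients C(x, n) defined) with its
binomial λ-structure λ^n(x) = C(x, n), i.e. λ_t(x) = (1 + t)^x, is a λ-ring in the strict sense:
λ_t(1) = 1 + t, λ^n(xy) = P_n(λ^1 x, …; λ^1 y, …) and λ^j(λ^i x) = Q_{i,j}(λ^1 x, …) for the
universal polynomials. In particular the integers with λ^n(m) = C(m, n) form a λ-ring. -/
theorem result (K : Type u) [CommRing K] [LambdaRing.LambdaOps K] [BinomialRing K]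
    (hKb : LambdaRing.IsBinomial K) : LambdaRing.IsSpecial K := by
  haveI : IsAddTorsionFree K := BinomialRing.toIsAddTorsionFree
  have htf : ∀ (n : ℕ) (a b : K), a * ((n : K) + 1) = b * ((n : K) + 1) → a = b := fun n a b h => by
    refine nsmul_right_injective (Nat.succ_ne_zero n) ?_
    simpa [mul_comm] using h
  refine LamR.isSpecial_of_adamsOp htf (fun k hk => adamsOp_binomial hKb htf k hk 1) (fun k hk x y => ?_) fun k k' hk hk' x => ?_
  · rw [adamsOp_binomial hKb htf k hk, adamsOp_binomial hKb htf k hk, adamsOp_binomial hKb htf k hk]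
  · rw [adamsOp_binomial hKb htf k hk, adamsOp_binomial hKb htf k' hk', adamsOp_binomial hKb htf (k * k') (Nat.mul_pos hk hk')]

end Groth.Agent.S8699
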