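import Groth.Statements.S8701
import Groth.Agent.BlowBundleLib.Glue
import Groth.Agent.KVbLib.Rank
-- import your own Groth.Agent.* helpers here

set_option autoImplicit false
universe u
open CategoryTheory CategoryTheory.Limits AlgebraicGeometry Opposite
attribute [local instance] HasDerivedCategory.standard
open RegImm

namespace Groth.Agent.S8701

/-- Let X be a scheme, E a finite locally free O_X-module and u : E → O_X a Koszul-regular homomorphism
(locally on affine opens E has a basis whose images under u form a sequence with Koszul complex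
acyclic in nonzero degrees); let J = u(E) be the image ideal sheaf, f : X' → X a blowing up of X
along the closed subscheme defined by J (universal property) with exceptional ideal J' = J·O_{X'},
and (π : P → X, O(1), q : π^*E → O(1)) the projective bundle of E (universal property for invertible
quotients of pull-backs of E). Let j : X' → P be the X-morphism attached to the invertible quotient
f^*E → J' induced by f^*u, that is j ≫ π = f together with an isomorphism j^*O(1) ≅ J' under which
j^*q followed by the inclusion J' ⊆ O_{X'} is f^*u followed by the canonical map f^*O_X → O_{X'};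
this j is the closed immersion given by the surjection of the symmetric algebra of E onto ⊕ J^n. If
E has constant rank c (so that the closed immersion defined by J is Koszul-regular of codimension
c), then j is a Koszul-regular immersion of constant codimension c − 1. -/
theorem result {X X' P : Scheme.{u}}
    (E : X.Modules) (hE : FlatMod.IsFinLocFree E) (u : E ⟶ Coh.structureModule X)
    (hu : ∀ x : X, ∃ U : X.affineOpens, x ∈ U.1 ∧
      ∃ (n : ℕ) (b : Module.Basis (Fin n) Γ(X, U.1) (E.val.obj (op U.1))),
        LCI.IsKoszulRegularSeq Γ(X, U.1) (List.ofFn fun k => ((u.val.app (op U.1)).hom (b k) : Γ(X, U.1))))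
    (J : X.IdealSheafData) (hJ : ∀ U : X.affineOpens, J.ideal U = @Ideal.span Γ(X, U.1) _ (Set.range fun s : E.val.obj (op U.1) => ((u.val.app (op U.1)).hom s : Γ(X, U.1))))
    (π : P ⟶ X) (O1 : P.Modules) (q : (Scheme.Modules.pullback π).obj E ⟶ O1) (hP : KRR.IsProjBundle π E O1 q)
    (f : X' ⟶ X) (hf : BlowUp.IsBlowUp f J)
    (j : X' ⟶ P) (hjπ : j ≫ π = f)
    (e : (Scheme.Modules.pullback j).obj O1 ≅ ClSub.idealMod (BlowUp.exceptional f J))
    (hcomp : (Scheme.Modules.pullbackCongr hjπ).inv.app E ≫ (Scheme.Modules.pullbackComp j π).inv.app E ≫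
        (Scheme.Modules.pullback j).map q ≫ e.hom ≫ ClSub.idealModι (BlowUp.exceptional f J) =
      (Scheme.Modules.pullback f).map u ≫
        ((Scheme.Modules.pullbackPushforwardAdjunction f).homEquiv _ _).symm
          (SheafOfModules.unitToPushforwardObjUnit f.toRingCatSheafHom))
    (c : ℕ) (hEc : FlatMod.IsFinLocFreeOfRank c E) :
    RegImm.IsRegularImmersionOfCodim .koszul (c - 1) j := by
  obtain ⟨hj, h⟩ := Groth.Agent.BlowBundleLib.exists_local E hE u hu J hJ π O1 q hP f hf j hjπ e hcomp
  refine ⟨inferInstance, fun z => ?_⟩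
  obtain ⟨U, n, b, hzU, V, hzV, hV, rs, hlen, hrs, hker⟩ := h (j z)
  refine ⟨V, hzV, hV, rs, ?_, hrs, hker⟩
  haveI := (Groth.Agent.PullbackMod.isQCoh_and_isFP_of_isFinLocFree E hE).1
  haveI : Nonempty U.1 := ⟨⟨π (j z), hzU⟩⟩
  haveI : Module.Free Γ(X, U.1) Γ(E, U.1) := Module.Free.of_basis b
  haveI : Module.Finite Γ(X, U.1) Γ(E, U.1) := Module.Finite.of_basis b
  have hfree := Groth.Agent.KVb.freeAt_of_free_sections (M := E) U.2 hzU (n := n)
    ((Module.finrank_eq_card_basis b).trans (Fintype.card_fin n))
  have h1 := Groth.Agent.PullbackMod.fibreRank_eq_of_freeAt E hfree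
  have h2 := (Groth.Agent.KVb.isFinLocFreeOfRank_iff hE c).1 hEc (π (j z))
  rw [hlen, ← h1, h2]

end Groth.Agent.S8701
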