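import Groth.Statements.S8702
import Groth.Agent.LamR.Rat

set_option autoImplicit false
universe u
open LambdaRing

namespace Groth.Agent.S8702

/-- Let K be a commutative ring which is an algebra over the rationals, and let ψ^k : K → K, k ≥ 1, be
additive maps with ψ^1 the identity. Then there is one and only one pre-λ-structure on K whose Adams
operations (defined through the logarithmic derivative of λ_t) are the ψ^k for every k ≥ 1, namely
λ_t(x) = exp(Σ_{k ≥ 1} (−1)^{k−1} ψ^k(x) t^k / k): in characteristic zero, pre-λ-structures and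
families of additive operations ψ^k with ψ^1 = id determine each other. (The value of the family at
k = 0 is ignored.) -/
theorem result (K : Type u) [CommRing K] [Algebra ℚ K]
    (ψ : ℕ → K →+ K) (hψ : ψ 1 = AddMonoidHom.id K) :
    ∃! L : LambdaRing.LambdaOps K, ∀ k : ℕ, 1 ≤ k → ∀ x : K, @LambdaRing.adamsOp K _ L k x = ψ k x := by
  refine ⟨LamR.opsOfAdams ψ hψ, LamR.adamsOp_opsOfAdams ψ hψ, fun L hL => ?_⟩
  letI := L
  have h : L.lam = (LamR.opsOfAdams ψ hψ).lam := by
    funext n x
    have := congrArg (PowerSeries.coeff n) (LamR.lamSeries_eq_of_adamsOp L (LamR.opsOfAdams ψ hψ) x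
      (fun k hk => by rw [LamR.adamsOp_opsOfAdams ψ hψ k hk, hL k hk]))
    simpa [LambdaRing.lamSeries] using this
  cases L
  simp only at h
  subst h
  rfl

end Groth.Agent.S8702
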