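import Groth.Statements.S8703
import Groth.Agent.LamR.Rat

set_option autoImplicit false
universe u
open LambdaRing

namespace Groth.Agent.S8703

/-- The Adams operations commute with λ-homomorphisms, and conversely, if K and K' are pre-λ-rings which
are algebras over the rationals, a ring homomorphism f : K → K' commuting with the ψ^k for all k ≥ 1
is a λ-homomorphism (commutes with all λ^i), the λ^i being expressible through the ψ^k in
characteristic zero. -/
theorem result (K K' : Type u) [CommRing K] [CommRing K']
    [LambdaRing.LambdaOps K] [LambdaRing.LambdaOps K'] [Algebra ℚ K] [Algebra ℚ K'] (f : K →+* K') :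
    LambdaRing.IsLambdaHom f ↔
      ∀ k : ℕ, 1 ≤ k → ∀ x : K, f (LambdaRing.adamsOp k x) = LambdaRing.adamsOp k (f x) := by
  refine ⟨fun hf k _ x => LamR.map_adamsOp hf k x, fun h i x => ?_⟩
  have e : PowerSeries.map f (LambdaRing.lamSeries x) = LambdaRing.lamSeries (f x) := by
    refine LamR.eq_of_derivative (g := LambdaRing.logDerivSeries (f x)) ?_ (LamR.logDerivSeries_spec _) (by
      rw [← PowerSeries.coeff_zero_eq_constantCoeff_apply, PowerSeries.coeff_map]; simp [LambdaRing.LambdaOps.lam_zero])
    have hg : LambdaRing.logDerivSeries (f x) = PowerSeries.map f (LambdaRing.logDerivSeries x) := by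
      ext k
      have := h (k + 1) (by omega) x
      simp only [LambdaRing.adamsOp, map_mul, map_pow, map_neg, map_one] at this
      rw [PowerSeries.coeff_map]
      exact ((isUnit_one.neg).pow k).mul_left_cancel this.symm
    rw [hg, ← map_mul, ← LamR.logDerivSeries_spec]
    ext k; simp [PowerSeries.coeff_derivative]
  simpa using congrArg (PowerSeries.coeff i) e

end Groth.Agent.S8703
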