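import Groth.Statements.S8704
import Groth.Agent.LamR.Series

set_option autoImplicit false
universe u v
open LambdaRing

namespace Groth.Agent.S8704

theorem gamma_zero_right' {A : Type v} [CommRing A] [LambdaRing.LambdaOps A] {k : ℕ} (hk : k ≠ 0) :
    LambdaRing.gamma k (0 : A) = 0 := by
  rw [LambdaRing.gamma, if_neg hk]
  refine Finset.sum_eq_zero fun i _ => ?_
  rcases eq_or_ne i 0 with rfl | hi <;> simp [*, LamR.lam_zero_right]

/-- Let K and A be λ-rings in the strict sense, A an augmented K-λ-algebra with augmentation ε : A → K,
and Fil^n A its γ-filtration, the ideal generated by the products γ^{i_1}(x_1) ⋯ γ^{i_k}(x_k) with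
i_1 + ⋯ + i_k ≥ n and all ε(x_r) = 0. If a subset S generates A as an abelian group, then Fil^n A,
as a K-submodule of A, is generated over K by the products γ^{i_1}(s_1 − ε(s_1)) ⋯ γ^{i_k}(s_k −
ε(s_k)) with s_r ∈ S and i_1 + ⋯ + i_k ≥ n. -/
theorem result
    (K : Type u) [CommRing K] [LambdaRing.LambdaOps K] (hK : LambdaRing.IsSpecial K)
    (A : Type v) [CommRing A] [LambdaRing.LambdaOps A] [Algebra K A] (hA : LambdaRing.IsSpecial A)
    (ε : A →ₐ[K] K) (hε : LambdaRing.IsAugLambdaAlg K A ε)
    (S : Set A) (hS : AddSubgroup.closure S = ⊤) (n : ℕ) :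
    (LambdaRing.gammaFil (ε : A →+* K) n).restrictScalars K =
      Submodule.span K {y : A | ∃ l : List (ℕ × A), (∀ p ∈ l, p.2 ∈ S) ∧ n ≤ (l.map Prod.fst).sum ∧
        y = (l.map fun p => LambdaRing.gamma p.1 (p.2 - algebraMap K A (ε p.2))).prod} := by
  let gS : ℕ → Set A := fun n => {y : A | ∃ l : List (ℕ × A), (∀ p ∈ l, p.2 ∈ S) ∧ n ≤ (l.map Prod.fst).sum ∧
    y = (l.map fun p => LambdaRing.gamma p.1 (p.2 - algebraMap K A (ε p.2))).prod}
  let M : ℕ → Submodule K A := fun n => Submodule.span K (gS n)
  change _ = M n
  have mul_mem : ∀ {a b : ℕ} {x y : A}, x ∈ M a → y ∈ M b → x * y ∈ M (a + b) := by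
    intro a b x y hx hy
    induction hx using Submodule.span_induction with
    | zero => rw [zero_mul]; exact zero_mem _
    | add _ _ _ _ h h' => rw [add_mul]; exact add_mem h h'
    | smul c _ _ h => rw [smul_mul_assoc]; exact Submodule.smul_mem _ c h
    | mem u hu =>
      induction hy using Submodule.span_induction with
      | zero => rw [mul_zero]; exact zero_mem _
      | add _ _ _ _ h h' => rw [mul_add]; exact add_mem h h'
      | smul c _ _ h => rw [mul_smul_comm]; exact Submodule.smul_mem _ c h
      | mem w hw =>
        obtain ⟨l, h1, h2, rfl⟩ := hu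
        obtain ⟨l', h1', h2', rfl⟩ := hw
        refine Submodule.subset_span ⟨l ++ l', ?_, ?_, by rw [List.map_append, List.prod_append]⟩
        · intro p hp; rcases List.mem_append.1 hp with h | h
          exacts [h1 p h, h1' p h]
        · rw [List.map_append, List.sum_append]; omega
  have one_mem : (1 : A) ∈ M 0 := Submodule.subset_span ⟨[], by simp, by simp, by simp⟩
  have anti : ∀ {a b : ℕ}, a ≤ b → M b ≤ M a := fun {a b} h =>
    Submodule.span_mono fun y ⟨l, h1, h2, h3⟩ => ⟨l, h1, h.trans h2, h3⟩
  -- γ^k of an element of augmentation zero lies in M k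
  have hgam : ∀ x : A, ∀ k, LambdaRing.gamma k (x - algebraMap K A (ε x)) ∈ M k := by
    intro x
    have hx : x ∈ AddSubgroup.closure S := hS ▸ AddSubgroup.mem_top x
    induction hx using AddSubgroup.closure_induction with
    | mem s hs =>
      intro k
      exact Submodule.subset_span ⟨[(k, s)], by simpa using hs, by simp, by simp⟩
    | zero =>
      intro k
      rw [map_zero, map_zero, sub_zero]
      rcases eq_or_ne k 0 with rfl | hk
      · rw [LamR.gamma_zero]; exact one_mem
      · rw [gamma_zero_right' hk]; exact zero_mem _
    | add a b _ _ iha ihb =>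
      intro k
      rw [map_add, map_add, add_sub_add_comm, LamR.gamma_add]
      refine sum_mem fun i hi => ?_
      have := mul_mem (iha i) (ihb (k - i))
      rwa [show i + (k - i) = k by rw [Finset.mem_range] at hi; omega] at this
    | neg a _ iha =>
      intro k
      induction k using Nat.strong_induction_on with
      | _ k ih =>
        cases k with
        | zero => rw [LamR.gamma_zero]; exact one_mem
        | succ k =>
          rw [map_neg, map_neg, ← neg_sub']
          have h := LamR.gamma_add (k + 1) (a - algebraMap K A (ε a)) (-(a - algebraMap K A (ε a)))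
          rw [add_neg_cancel, gamma_zero_right' (Nat.succ_ne_zero k), Finset.sum_range_succ', LamR.gamma_zero,
            one_mul, Nat.sub_zero] at h
          rw [eq_neg_of_add_eq_zero_right h.symm]
          refine neg_mem (sum_mem fun i hi => ?_)
          rw [Finset.mem_range] at hi
          have hi' := ih (k + 1 - (i + 1)) (by omega)
          rw [map_neg, map_neg, ← neg_sub'] at hi'
          have := mul_mem (iha (i + 1)) hi'
          rwa [show i + 1 + (k + 1 - (i + 1)) = k + 1 by omega] at this
  apply le_antisymm
  · intro y hy
    rw [Submodule.restrictScalars_mem] at hy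
    induction hy using Submodule.span_induction with
    | zero => exact zero_mem _
    | add _ _ _ _ h h' => exact add_mem h h'
    | smul c z _ h =>
      have e : c • z = ε c • z + (c - algebraMap K A (ε c)) * z := by
        rw [smul_eq_mul, Algebra.smul_def]; ring
      rw [e]
      refine add_mem (Submodule.smul_mem _ _ h) ?_
      have := mul_mem (hgam c 1) h
      rw [LamR.gamma_one] at this
      exact anti (by omega) this
    | mem z hz =>
      obtain ⟨l, h1, h2, rfl⟩ := hz
      refine anti h2 ?_
      clear h2
      induction l with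
      | nil => simpa using one_mem
      | cons p l ih =>
        simp only [List.map_cons, List.sum_cons, List.prod_cons]
        refine mul_mem ?_ (ih fun q hq => h1 q (List.mem_cons_of_mem _ hq))
        have h0 : ε p.2 = 0 := h1 p List.mem_cons_self
        have := hgam p.2 p.1
        rwa [h0, map_zero, sub_zero] at this
  · rw [Submodule.span_le]
    rintro _ ⟨l, h1, h2, rfl⟩
    refine Ideal.subset_span ⟨l.map fun p => (p.1, p.2 - algebraMap K A (ε p.2)), ?_, ?_, ?_⟩
    · intro p hp
      obtain ⟨q, _, rfl⟩ := List.mem_map.1 hp
      simp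
    · simpa [List.map_map, Function.comp_def] using h2
    · rw [List.map_map]; rfl

end Groth.Agent.S8704
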