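import Groth.Statements.S8705
import Mathlib

set_option autoImplicit false
universe u
open SGA7

namespace Groth.Agent.S8705

/-- Extension of `P` by `Q` along a symmetric cocycle. -/
@[ext] structure TwExt {P : Type u} {Q : Type u} [AddCommGroup P] [AddCommGroup Q] (κ : P → P → Q)
    (hassoc : ∀ p q r, κ (p + q) r + κ p q = κ p (q + r) + κ q r) (hcomm : ∀ p q, κ p q = κ q p) where
  fst : P
  snd : Q

namespace TwExt
variable {P : Type u} {Q : Type u} [AddCommGroup P] [AddCommGroup Q] (κ : P → P → Q)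
    (hassoc : ∀ p q r, κ (p + q) r + κ p q = κ p (q + r) + κ q r) (hcomm : ∀ p q, κ p q = κ q p)

instance : Add (TwExt κ hassoc hcomm) := ⟨fun a b => ⟨a.fst + b.fst, a.snd + b.snd + κ a.fst b.fst⟩⟩
instance : Zero (TwExt κ hassoc hcomm) := ⟨⟨0, -κ 0 0⟩⟩
instance : Neg (TwExt κ hassoc hcomm) := ⟨fun a => ⟨-a.fst, -a.snd - κ (-a.fst) a.fst - κ 0 0⟩⟩

@[simp] theorem add_fst (a b : TwExt κ hassoc hcomm) : (a + b).fst = a.fst + b.fst := rfl
@[simp] theorem add_snd (a b : TwExt κ hassoc hcomm) : (a + b).snd = a.snd + b.snd + κ a.fst b.fst := rfl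
@[simp] theorem zero_fst : (0 : TwExt κ hassoc hcomm).fst = 0 := rfl
@[simp] theorem zero_snd : (0 : TwExt κ hassoc hcomm).snd = -κ 0 0 := rfl
@[simp] theorem neg_fst (a : TwExt κ hassoc hcomm) : (-a).fst = -a.fst := rfl
@[simp] theorem neg_snd (a : TwExt κ hassoc hcomm) : (-a).snd = -a.snd - κ (-a.fst) a.fst - κ 0 0 := rfl

noncomputable instance : AddGroup (TwExt κ hassoc hcomm) := AddGroup.ofLeftAxioms
  (fun a b c => TwExt.ext (add_assoc _ _ _) (by
    have h := hassoc a.fst b.fst c.fst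
    simp only [add_snd, add_fst]
    linear_combination (norm := abel) h))
  (fun a => TwExt.ext (zero_add _) (by
    have h := hassoc 0 0 a.fst
    rw [add_zero, zero_add] at h
    simp only [add_snd, zero_snd, zero_fst]
    rw [← add_left_cancel h]; abel))
  (fun a => TwExt.ext (neg_add_cancel _) (by
    simp only [add_snd, neg_snd, zero_snd, neg_fst]; abel))

noncomputable instance : AddCommGroup (TwExt κ hassoc hcomm) :=
  { (inferInstance : AddGroup (TwExt κ hassoc hcomm)) with
    add_comm := fun a b => TwExt.ext (add_comm _ _) (by simp only [add_snd]; rw [hcomm a.fst b.fst]; abel) }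

/-- The inclusion of `Q`. -/
noncomputable def incl : Q →+ TwExt κ hassoc hcomm := AddMonoidHom.mk' (fun c => ⟨0, c - κ 0 0⟩) fun c c' =>
  TwExt.ext (add_zero _).symm (by simp only [add_snd]; abel)

@[simp] theorem incl_fst (c : Q) : (incl κ hassoc hcomm c).fst = 0 := rfl

end TwExt

/-- In the case of the punctual topos (ordinary abelian groups): let P be an abelian group and consider
the complex of free abelian groups Z[P × P × P] ⊕ Z[P × P] → Z[P × P] → Z[P], augmented to P by [p]
↦ p, with d₀[p, q] = [p + q] − [p] − [q], with d₁ on the first summand given by [p, q, r] ↦ [p + q,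
r] − [p, q + r] + [p, q] − [q, r] and on the second summand by [p, q] ↦ [p, q] − [q, p]. Then the
augmentation is surjective with kernel the image of d₀ (so H₀ is P), and the kernel of d₀ is the sum
of the images of the two components of d₁ (so H₁ vanishes). (The published statement is for abelian
sheaves on an arbitrary topos; this row is its case of a one-point space.) -/
theorem result (P : Type u) [AddCommGroup P] :
    letI ε : (P →₀ ℤ) →ₗ[ℤ] P := Finsupp.linearCombination ℤ (fun p : P => p)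
    letI d₀ : (P × P →₀ ℤ) →ₗ[ℤ] (P →₀ ℤ) := Finsupp.linearCombination ℤ
      (fun pq : P × P => Finsupp.single (pq.1 + pq.2) 1 - Finsupp.single pq.1 1 - Finsupp.single pq.2 1)
    letI d₁ : (P × P × P →₀ ℤ) →ₗ[ℤ] (P × P →₀ ℤ) := Finsupp.linearCombination ℤ
      (fun t : P × P × P => Finsupp.single (t.1 + t.2.1, t.2.2) 1 - Finsupp.single (t.1, t.2.1 + t.2.2) 1
        + Finsupp.single (t.1, t.2.1) 1 - Finsupp.single (t.2.1, t.2.2) 1)
    letI d₁' : (P × P →₀ ℤ) →ₗ[ℤ] (P × P →₀ ℤ) := Finsupp.linearCombination ℤ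
      (fun pq : P × P => Finsupp.single pq 1 - Finsupp.single (pq.2, pq.1) 1)
    Function.Surjective ε ∧ LinearMap.ker ε = LinearMap.range d₀ ∧
      LinearMap.ker d₀ = LinearMap.range d₁ ⊔ LinearMap.range d₁' := by
  classical
  set ε : (P →₀ ℤ) →ₗ[ℤ] P := Finsupp.linearCombination ℤ (fun p : P => p)
  set d₀ : (P × P →₀ ℤ) →ₗ[ℤ] (P →₀ ℤ) := Finsupp.linearCombination ℤ
    (fun pq : P × P => Finsupp.single (pq.1 + pq.2) 1 - Finsupp.single pq.1 1 - Finsupp.single pq.2 1)
  set d₁ : (P × P × P →₀ ℤ) →ₗ[ℤ] (P × P →₀ ℤ) := Finsupp.linearCombination ℤ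
    (fun t : P × P × P => Finsupp.single (t.1 + t.2.1, t.2.2) 1 - Finsupp.single (t.1, t.2.1 + t.2.2) 1 +
      Finsupp.single (t.1, t.2.1) 1 - Finsupp.single (t.2.1, t.2.2) 1)
  set d₁' : (P × P →₀ ℤ) →ₗ[ℤ] (P × P →₀ ℤ) := Finsupp.linearCombination ℤ
    (fun pq : P × P => Finsupp.single pq 1 - Finsupp.single (pq.2, pq.1) 1)
  have hε : ∀ p, ε (Finsupp.single p 1) = p := fun p => by simp [ε]
  have hd₀ : ∀ pq : P × P, d₀ (Finsupp.single pq 1) = Finsupp.single (pq.1 + pq.2) 1 - Finsupp.single pq.1 1 - Finsupp.single pq.2 1 := fun pq => by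
    simp [d₀, Finsupp.linearCombination_single]
  refine ⟨fun p => ⟨_, hε p⟩, le_antisymm ?_ ?_, le_antisymm ?_ ?_⟩
  · intro x hx
    let ψ : P →+ (P →₀ ℤ) ⧸ LinearMap.range d₀ := AddMonoidHom.mk' (fun p => Submodule.Quotient.mk (Finsupp.single p 1)) fun p q => by
      rw [← Submodule.Quotient.mk_add, Submodule.Quotient.eq]
      exact ⟨Finsupp.single (p, q) 1, by rw [hd₀]; abel⟩
    have hc : Submodule.mkQ (LinearMap.range d₀) = ψ.toIntLinearMap.comp ε := Finsupp.lhom_ext' fun p => LinearMap.ext_ring (by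
      show Submodule.Quotient.mk _ = ψ (ε (Finsupp.single p 1))
      rw [hε]; rfl)
    have h := LinearMap.congr_fun hc x
    rw [LinearMap.comp_apply, show ε x = 0 from hx, map_zero] at h
    exact (Submodule.Quotient.mk_eq_zero _).mp h
  · rw [LinearMap.range_le_ker_iff]
    exact Finsupp.lhom_ext' fun pq => LinearMap.ext_ring (by
      show ε (d₀ (Finsupp.single pq 1)) = 0
      rw [hd₀, map_sub, map_sub, hε, hε, hε]; abel)
  · intro x hx
    set R := LinearMap.range d₁ ⊔ LinearMap.range d₁'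
    let κ : P → P → (P × P →₀ ℤ) ⧸ R := fun p q => Submodule.Quotient.mk (Finsupp.single (p, q) 1)
    have hassoc : ∀ p q r, κ (p + q) r + κ p q = κ p (q + r) + κ q r := fun p q r => by
      simp only [κ, ← Submodule.Quotient.mk_add, Submodule.Quotient.eq]
      refine Submodule.mem_sup_left ⟨Finsupp.single (p, q, r) 1, ?_⟩
      simp only [d₁, Finsupp.linearCombination_single, one_smul]; abel
    have hcomm : ∀ p q, κ p q = κ q p := fun p q => by
      simp only [κ, Submodule.Quotient.eq]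
      exact Submodule.mem_sup_right ⟨Finsupp.single (p, q) 1, by simp [d₁', Finsupp.linearCombination_single]⟩
    have h0l : ∀ p, κ 0 p = κ 0 0 := fun p => by
      have := hassoc 0 0 p
      rw [add_zero, zero_add] at this
      exact (add_left_cancel this).symm
    let s : (P →₀ ℤ) →ₗ[ℤ] TwExt κ hassoc hcomm := Finsupp.linearCombination ℤ (fun p : P => (⟨p, 0⟩   : TwExt κ hassoc hcomm))
    let j : ((P × P →₀ ℤ) ⧸ R) →+ TwExt κ hassoc hcomm := TwExt.incl κ hassoc hcomm
    have hs : ∀ p, s (Finsupp.single p 1) = (⟨p, 0⟩  : TwExt κ hassoc hcomm) := fun p => by simp [s, Finsupp.linearCombination_single]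
    have hc : s.comp d₀ = -(j.toIntLinearMap.comp R.mkQ) := Finsupp.lhom_ext' fun pq => LinearMap.ext_ring (by
      show s (d₀ (Finsupp.single pq 1)) = -(j (κ pq.1 pq.2))
      rw [hd₀, map_sub, map_sub, hs, hs, hs, ← map_neg, sub_sub, sub_eq_iff_eq_add]
      refine TwExt.ext (by simp [j]) ?_
      show (0 : (P × P →₀ ℤ) ⧸ R) = (-κ pq.1 pq.2 - κ 0 0) + (0 + 0 + κ pq.1 pq.2) + κ 0 (pq.1 + pq.2)
      rw [h0l (pq.1 + pq.2)]; abel)
    have h := LinearMap.congr_fun hc x
    rw [LinearMap.comp_apply, show d₀ x = 0 from hx, map_zero, LinearMap.neg_apply, eq_comm, neg_eq_zero] at h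
    have h2 : R.mkQ x - κ 0 0 = -κ 0 0 := congrArg TwExt.snd h
    rw [sub_eq_iff_eq_add, neg_add_cancel] at h2
    exact (Submodule.Quotient.mk_eq_zero _).mp h2
  · refine sup_le ?_ ?_ <;> rw [LinearMap.range_le_ker_iff] <;> refine Finsupp.lhom_ext' fun t => LinearMap.ext_ring ?_
    · show d₀ (d₁ (Finsupp.single t 1)) = 0
      simp only [d₁, Finsupp.linearCombination_single, one_smul, map_sub, map_add, hd₀, add_assoc]
      abel
    · show d₀ (d₁' (Finsupp.single t 1)) = 0
      simp only [d₁', Finsupp.linearCombination_single, one_smul, map_sub, hd₀, add_comm t.2 t.1]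
      abel

end Groth.Agent.S8705
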