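import Mathlib
import Groth.Agent.TorLib.Basic
import Groth.Statements.S8710

set_option autoImplicit false
universe u
open CategoryTheory CategoryTheory.Limits
open SGA7

namespace Groth.Agent.S8710

/-- Let f : B' → B be a surjective map of R-algebras with B' flat over R, g : C → B a map of R-algebras,
P = B' ×_B C their fibre product (the equalizer of f ∘ pr₁ and g ∘ pr₂ in B' × C), S an R-algebra
and n a natural number. If Tor_i^R(C, S) = 0 for 0 < i < n and Tor_i^R(B, S) = 0 for 0 < i ≤ n, then
Tor_i^R(P, S) = 0 for 0 < i < n. Here Tor_i^R(M, S) is the i-th left derived functor of M ⊗_R − on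
R-modules, evaluated at S. (The published statement asks the vanishing for B only in degrees 0 < i <
n; the published proof and the corollary following it use it in degrees 0 < i ≤ n, which this row
assumes.) -/
theorem result (R B' B C S : Type u) [CommRing R] [CommRing B'] [CommRing B]
    [CommRing C] [CommRing S] [Algebra R B'] [Algebra R B] [Algebra R C] [Algebra R S]
    (f : B' →ₐ[R] B) (hf : Function.Surjective f) (g : C →ₐ[R] B) [Module.Flat R B'] (n : ℕ)
    (hC : ∀ i : ℕ, 0 < i → i < n →
      IsZero (((Tor (ModuleCat.{u} R) i).obj (ModuleCat.of R C)).obj (ModuleCat.of R S)))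
    (hB : ∀ i : ℕ, 0 < i → i ≤ n →
      IsZero (((Tor (ModuleCat.{u} R) i).obj (ModuleCat.of R B)).obj (ModuleCat.of R S))) :
    letI P := AlgHom.equalizer (f.comp (AlgHom.fst R B' C)) (g.comp (AlgHom.snd R B' C))
    ∀ i : ℕ, 0 < i → i < n →
      IsZero (((Tor (ModuleCat.{u} R) i).obj (ModuleCat.of R ↥P)).obj (ModuleCat.of R S)) := by
  intro i hi hin
  let P := AlgHom.equalizer (f.comp (AlgHom.fst R B' C)) (g.comp (AlgHom.snd R B' C))
  let Q := projectiveResolution (ModuleCat.of R S)
  let tI := fun (M : ModuleCat.{u} R) (j : ℕ) => Groth.Agent.TorLib.torIso Q M j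
  -- `0 → C → B' × C → B' → 0`
  let h₁ := Groth.Agent.TorLib.cxSeq_shortExact Q (Groth.Agent.TorLib.shortExact_mk
    (LinearMap.inr R B' C) (LinearMap.fst R B' C) LinearMap.inr_injective LinearMap.fst_surjective
    Function.Exact.inr_fst)
  have hF : IsZero ((Groth.Agent.TorLib.cx Q (ModuleCat.of R (B' × C))).homology i) := by
    refine (h₁.homology_exact₂ i).isZero_of_both_zeros ?_ ?_
    · exact ((hC i hi hin).of_iso (tI (ModuleCat.of R C) i).symm).eq_of_src _ _
    · obtain ⟨j, rfl⟩ := Nat.exists_eq_succ_of_ne_zero hi.ne'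
      exact ((HomologicalComplex.exactAt_iff_isZero_homology _ _).mp
        (Groth.Agent.TorLib.exactAt_succ_of_flat Q (ModuleCat.of R B') j)).eq_of_tgt _ _
  -- `0 → P → B' × C → B → 0`
  let q : B' × C →ₗ[R] B :=
    f.toLinearMap.comp (LinearMap.fst R B' C) - g.toLinearMap.comp (LinearMap.snd R B' C)
  have hq : Function.Surjective q := fun b => by
    obtain ⟨b', hb'⟩ := hf b
    exact ⟨(b', 0), by simp [q, hb']⟩
  have hPq : Function.Exact P.val.toLinearMap q := by
    intro x
    constructor
    · intro hx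
      exact ⟨⟨x, sub_eq_zero.mp hx⟩, rfl⟩
    · rintro ⟨⟨y, hy⟩, rfl⟩
      exact sub_eq_zero.mpr hy
  let h₂ := Groth.Agent.TorLib.cxSeq_shortExact Q (Groth.Agent.TorLib.shortExact_mk
    P.val.toLinearMap q Subtype.val_injective hq hPq)
  refine IsZero.of_iso ?_ (tI (ModuleCat.of R P) i)
  exact (h₂.homology_exact₁ (i + 1) i (by simp)).isZero_of_both_zeros
    (((hB (i + 1) i.succ_pos hin).of_iso (tI (ModuleCat.of R B) (i + 1)).symm).eq_of_src _ _)
    (hF.eq_of_tgt _ _)

end Groth.Agent.S8710
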