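import Groth.Statements.S8718
import Groth.Agent.FppfExtLib.Basic

set_option autoImplicit false
universe u
open CategoryTheory CategoryTheory.Limits MonoidalCategory CartesianMonoidalCategory MonObj AlgebraicGeometry
open SGA7

namespace Groth.Agent.S8718

open FppfExtLib

variable {S : Scheme.{u}} {P G E : Over S} [GrpObj P] [GrpObj G] [GrpObj E]
  {u : G ⟶ E} {v : E ⟶ P}

/-- A rule assigning to a lift a point of the kernel that does not depend on the lift descends. -/
theorem commutator_mul_central {H : Type*} [Group H] (a b c d : H) (hc : ∀ x, c * x = x * c)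
    (hd : ∀ x, d * x = x * d) :
    a * c * (b * d) * (a * c)⁻¹ * (b * d)⁻¹ = a * b * a⁻¹ * b⁻¹ := by
  calc a * c * (b * d) * (a * c)⁻¹ * (b * d)⁻¹
      = a * (c * b) * d * c⁻¹ * a⁻¹ * d⁻¹ * b⁻¹ := by group
    _ = a * b * (c * d) * c⁻¹ * a⁻¹ * d⁻¹ * b⁻¹ := by rw [hc b]; group
    _ = a * b * (d * a⁻¹) * d⁻¹ * b⁻¹ := by rw [hc d]; group
    _ = a * b * a⁻¹ * b⁻¹ := by rw [hd a⁻¹]; group

theorem exists_descend (hex : NonAbH1.IsExactSeq Scheme.fppfPrecoverage u v) {Z L : Over S}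
    (R : Sieve Z) (hR : R ∈ (Scheme.fppfTopology.over S) Z)
    (lifts : ∀ ⦃T : Over S⦄, (T ⟶ Z) → (T ⟶ L) → Prop)
    (hRl : ∀ ⦃T : Over S⦄ (g : T ⟶ Z), R g → ∃ l, lifts g l)
    (hnat : ∀ ⦃T T' : Over S⦄ (g : T ⟶ Z) (l : T ⟶ L) (a : T' ⟶ T), lifts g l → lifts (a ≫ g) (a ≫ l))
    (w : L ⟶ E) (hw : ∀ ⦃T : Over S⦄ (g : T ⟶ Z) (l : T ⟶ L), lifts g l → (l ≫ w) ≫ v = 1)
    (hind : ∀ ⦃T : Over S⦄ (g : T ⟶ Z) (l l' : T ⟶ L), lifts g l → lifts g l' → l ≫ w = l' ≫ w) :
    ∃ f : Z ⟶ G, ∀ ⦃T : Over S⦄ (g : T ⟶ Z) (l : T ⟶ L), R g → lifts g l → (g ≫ f) ≫ u = l ≫ w := by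
  choose l hl using hRl
  choose c hc using fun (T : Over S) (g : T ⟶ Z) (hg : R g) =>
    exists_of_comp_eq_one hex _ (hw g _ (hl g hg))
  obtain ⟨f, hf⟩ := exists_glue hR (fun T g hg => c T g hg) (fun T₁ T₂ g₁ h₁ a h₂ =>
    eq_of_comp_eq hex (by
      rw [hc, Category.assoc, hc, ← Category.assoc]
      exact hind _ _ _ (hl _ h₂) (hnat _ _ a (hl _ h₁))))
  refine ⟨f, fun T g m hg hm => ?_⟩
  rw [hf g hg, hc]
  exact hind g _ _ (hl g hg) hm

theorem u_central (hex : NonAbH1.IsExactSeq Scheme.fppfPrecoverage u v) [IsCommMonObj G]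
    (hPG : ∀ f : P ⊗ G ⟶ G, lift (𝟙 P) (toUnit P ≫ η[G]) ≫ f = 1 → lift (toUnit G ≫ η[P]) (𝟙 G) ≫ f = 1 → f = 1)
    (T : Over S) (g : T ⟶ G) (x : T ⟶ E) : (g ≫ u) * x = x * (g ≫ u) := by
  haveI := isMonHom_left hex
  haveI := isMonHom_right hex
  have hR := liftSieve_mem hex (fst P G)
  obtain ⟨f, hf⟩ := exists_descend hex (L := E ⊗ G) (liftSieve v (fst P G)) hR
    (fun T g l => l ≫ fst E G ≫ v = g ≫ fst P G ∧ l ≫ snd E G = g ≫ snd P G)
    (fun T g hg => ⟨lift hg.choose (g ≫ snd P G), by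
      rw [lift_fst_assoc, hg.choose_spec], by rw [lift_snd]⟩)
    (fun T T' g l a h => ⟨by rw [Category.assoc, h.1, Category.assoc],
      by rw [Category.assoc, h.2, Category.assoc]⟩)
    (fst E G * (snd E G ≫ u) * (fst E G)⁻¹)
    (fun T g l _ => by
      simp only [MonObj.comp_mul, GrpObj.comp_inv, MonObj.mul_comp, GrpObj.inv_comp, Category.assoc,
        hex.2.2.1, MonObj.comp_one, _root_.mul_one, mul_inv_cancel])
    (fun T g l l' h h' => by
      obtain ⟨c, hc⟩ := exists_of_comp_eq_one hex ((l ≫ fst E G)⁻¹ * (l' ≫ fst E G)) (by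
        rw [MonObj.mul_comp, GrpObj.inv_comp, Category.assoc, Category.assoc, h.1, h'.1, inv_mul_cancel])
      have he : l' ≫ fst E G = l ≫ fst E G * (c ≫ u) := by rw [hc, mul_inv_cancel_left]
      simp only [MonObj.comp_mul, GrpObj.comp_inv, ← Category.assoc l, ← Category.assoc l',
        he, h.2, h'.2]
      have hcomm : (c ≫ u) * ((g ≫ snd P G) ≫ u) = ((g ≫ snd P G) ≫ u) * (c ≫ u) := by
        rw [← MonObj.mul_comp, ← MonObj.mul_comp, mul_comm]
      rw [mul_inv_rev, mul_assoc (l ≫ fst E G) (c ≫ u), hcomm]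
      group)
  have key : f * (snd P G)⁻¹ = 1 := by
    refine hPG _ ?_ ?_
    · refine hom_ext_sieve (liftSieve_mem hex (𝟙 P)) _ _ fun T a ha => ?_
      obtain ⟨e, he⟩ := ha
      rw [Category.comp_id] at he
      have hg : (a ≫ lift (𝟙 P) (toUnit P ≫ η[G])) ≫ fst P G = a := by
        rw [Category.assoc, lift_fst, Category.comp_id]
      have h2 : (a ≫ lift (𝟙 P) (toUnit P ≫ η[G])) ≫ snd P G = 1 := by
        rw [Category.assoc, lift_snd, ← Hom.one_def, MonObj.comp_one]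
      have h1 : (a ≫ lift (𝟙 P) (toUnit P ≫ η[G])) ≫ f = 1 := eq_of_comp_eq hex (by
        rw [hf _ (lift e 1) ⟨e, by rw [hg, he]⟩ ⟨by rw [lift_fst_assoc, hg, he], by rw [lift_snd, h2]⟩]
        simp only [MonObj.comp_mul, GrpObj.comp_inv, lift_fst, lift_snd_assoc, MonObj.one_comp,
          _root_.mul_one, mul_inv_cancel])
      rw [← Category.assoc, MonObj.comp_mul, GrpObj.comp_inv, h1, h2, inv_one, _root_.mul_one,
        MonObj.comp_one]
    · have hg : (lift (toUnit G ≫ η[P]) (𝟙 G)) ≫ fst P G = 1 := by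
        rw [lift_fst, ← Hom.one_def]
      have h1 : lift (toUnit G ≫ η[P]) (𝟙 G) ≫ f = 𝟙 G := eq_of_comp_eq hex (by
        rw [hf _ (lift 1 (𝟙 G)) ⟨1, by rw [MonObj.one_comp, hg]⟩
          ⟨by rw [lift_fst_assoc, MonObj.one_comp, hg], by rw [lift_snd, lift_snd]⟩]
        simp only [MonObj.comp_mul, GrpObj.comp_inv, lift_fst, lift_snd_assoc, Category.id_comp,
          _root_.one_mul, inv_one, _root_.mul_one])
      rw [MonObj.comp_mul, GrpObj.comp_inv, h1, lift_snd, mul_inv_cancel]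
  have hfs : f = snd P G := by rwa [mul_inv_eq_one] at key
  have h := hf (lift (x ≫ v) g) (lift x g) ⟨x, by rw [lift_fst]⟩
    ⟨by rw [lift_fst_assoc, lift_fst], by rw [lift_snd, lift_snd]⟩
  rw [hfs, lift_snd] at h
  simp only [MonObj.comp_mul, GrpObj.comp_inv, lift_fst, lift_snd_assoc] at h
  conv_lhs => rw [h]
  rw [inv_mul_cancel_right]

theorem comm_of_comm (hex : NonAbH1.IsExactSeq Scheme.fppfPrecoverage u v) [IsCommMonObj P]
    (hcen : ∀ (T : Over S) (g : T ⟶ G) (x : T ⟶ E), (g ≫ u) * x = x * (g ≫ u))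
    (hPP : ∀ f : P ⊗ P ⟶ G, lift (𝟙 P) (toUnit P ≫ η[P]) ≫ f = 1 → lift (toUnit P ≫ η[P]) (𝟙 P) ≫ f = 1 → f = 1) :
    IsCommMonObj E := by
  haveI := isMonHom_left hex
  haveI := isMonHom_right hex
  let R : Sieve (P ⊗ P) := liftSieve v (fst P P) ⊓ liftSieve v (snd P P)
  have hR : R ∈ (Scheme.fppfTopology.over S) (P ⊗ P) :=
    GrothendieckTopology.intersection_covering _ (liftSieve_mem hex (fst P P)) (liftSieve_mem hex (snd P P))
  obtain ⟨f, hf⟩ := exists_descend hex (L := E ⊗ E) R hR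
    (fun T g l => l ≫ fst E E ≫ v = g ≫ fst P P ∧ l ≫ snd E E ≫ v = g ≫ snd P P)
    (fun T g hg => ⟨lift hg.1.choose hg.2.choose, by rw [lift_fst_assoc, hg.1.choose_spec],
      by rw [lift_snd_assoc, hg.2.choose_spec]⟩)
    (fun T T' g l a h => ⟨by rw [Category.assoc, h.1, Category.assoc],
      by rw [Category.assoc, h.2, Category.assoc]⟩)
    (fst E E * snd E E * (fst E E)⁻¹ * (snd E E)⁻¹)
    (fun T g l _ => by
      simp only [MonObj.comp_mul, GrpObj.comp_inv, MonObj.mul_comp, GrpObj.inv_comp, Category.assoc]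
      rw [mul_comm (l ≫ fst E E ≫ v) (l ≫ snd E E ≫ v), mul_inv_cancel_right, mul_inv_cancel])
    (fun T g l l' h h' => by
      obtain ⟨c, hc⟩ := exists_of_comp_eq_one hex ((l ≫ fst E E)⁻¹ * (l' ≫ fst E E)) (by
        rw [MonObj.mul_comp, GrpObj.inv_comp, Category.assoc, Category.assoc, h.1, h'.1, inv_mul_cancel])
      obtain ⟨d, hd⟩ := exists_of_comp_eq_one hex ((l ≫ snd E E)⁻¹ * (l' ≫ snd E E)) (by
        rw [MonObj.mul_comp, GrpObj.inv_comp, Category.assoc, Category.assoc, h.2, h'.2, inv_mul_cancel])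
      have he : l' ≫ fst E E = l ≫ fst E E * (c ≫ u) := by rw [hc, mul_inv_cancel_left]
      have he2 : l' ≫ snd E E = l ≫ snd E E * (d ≫ u) := by rw [hd, mul_inv_cancel_left]
      simp only [MonObj.comp_mul, GrpObj.comp_inv, he, he2]
      exact (commutator_mul_central _ _ _ _ (hcen T c) (hcen T d)).symm)
  have h0 : f = 1 := by
    refine hPP f ?_ ?_
    · refine hom_ext_sieve (liftSieve_mem hex (𝟙 P)) _ _ fun T a ha => ?_
      obtain ⟨e, he⟩ := ha
      rw [Category.comp_id] at he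
      have hg : (a ≫ lift (𝟙 P) (toUnit P ≫ η[P])) ≫ fst P P = a := by
        rw [Category.assoc, lift_fst, Category.comp_id]
      have h2 : (a ≫ lift (𝟙 P) (toUnit P ≫ η[P])) ≫ snd P P = 1 := by
        rw [Category.assoc, lift_snd, ← Hom.one_def, MonObj.comp_one]
      rw [← Category.assoc, MonObj.comp_one]
      refine eq_of_comp_eq hex ?_
      rw [hf _ (lift e 1) ⟨⟨e, by rw [hg, he]⟩, ⟨1, by rw [MonObj.one_comp, h2]⟩⟩
        ⟨by rw [lift_fst_assoc, hg, he], by rw [lift_snd_assoc, MonObj.one_comp, h2]⟩]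
      simp only [MonObj.comp_mul, GrpObj.comp_inv, lift_fst, lift_snd, MonObj.one_comp, inv_one,
        _root_.mul_one, mul_inv_cancel]
    · refine hom_ext_sieve (liftSieve_mem hex (𝟙 P)) _ _ fun T a ha => ?_
      obtain ⟨e, he⟩ := ha
      rw [Category.comp_id] at he
      have hg : (a ≫ lift (toUnit P ≫ η[P]) (𝟙 P)) ≫ fst P P = 1 := by
        rw [Category.assoc, lift_fst, ← Hom.one_def, MonObj.comp_one]
      have h2 : (a ≫ lift (toUnit P ≫ η[P]) (𝟙 P)) ≫ snd P P = a := by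
        rw [Category.assoc, lift_snd, Category.comp_id]
      rw [← Category.assoc, MonObj.comp_one]
      refine eq_of_comp_eq hex ?_
      rw [hf _ (lift 1 e) ⟨⟨1, by rw [MonObj.one_comp, hg]⟩, ⟨e, by rw [h2, he]⟩⟩
        ⟨by rw [lift_fst_assoc, MonObj.one_comp, hg], by rw [lift_snd_assoc, h2, he]⟩]
      simp only [MonObj.comp_mul, GrpObj.comp_inv, lift_fst, lift_snd, MonObj.one_comp, inv_one,
        _root_.mul_one, _root_.one_mul, mul_inv_cancel]
  have hxy : ∀ (T : Over S) (x y : T ⟶ E), x * y = y * x := by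
    intro T x y
    have h := hf (lift (x ≫ v) (y ≫ v)) (lift x y) ⟨⟨x, by rw [lift_fst]⟩, ⟨y, by rw [lift_snd]⟩⟩
      ⟨by rw [lift_fst_assoc, lift_fst], by rw [lift_snd_assoc, lift_snd]⟩
    rw [h0, MonObj.comp_one, MonObj.one_comp] at h
    simp only [MonObj.comp_mul, GrpObj.comp_inv, lift_fst, lift_snd] at h
    calc x * y = x * y * x⁻¹ * y⁻¹ * (y * x) := by group
      _ = y * x := by rw [← h, _root_.one_mul]
  refine ⟨?_⟩
  have hμ : (μ[E] : E ⊗ E ⟶ E) = fst E E * snd E E := by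
    rw [Hom.mul_def, lift_fst_snd, Category.id_comp]
  rw [hμ, MonObj.comp_mul]
  simp only [braiding_hom_fst, braiding_hom_snd]
  exact hxy _ _ _

/-- For group schemes over a base scheme S (the representable case on the fppf site): let P and G be
S-group schemes with G commutative, and u : G → E, v : E → P homomorphisms of S-group schemes
forming a sequence 1 → G → E → P → 1 exact for the fppf topology. Suppose every morphism of
S-schemes P ×_S G → G whose restrictions to P × e_G and to e_P × G are trivial is trivial. Then u(G)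
is central in E: for all points g of G and x of E with values in any S-scheme, u(g) x = x u(g). If
moreover P is commutative and every morphism of S-schemes P ×_S P → G trivial on P × e_P and on e_P
× P is trivial, then E is commutative. (The published statement is for sheaves of groups on an
arbitrary topos; this row is its case of representable sheaves on the fppf site of S. Morphisms to G
form a group; trivial means equal to its unit.) -/
theorem result (S : Scheme.{u})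
    (P G E : Over S) [GrpObj P] [GrpObj G] [GrpObj E] [IsCommMonObj G]
    (u : G ⟶ E) (v : E ⟶ P) (hex : NonAbH1.IsExactSeq Scheme.fppfPrecoverage u v)
    (hPG : ∀ f : P ⊗ G ⟶ G, lift (𝟙 P) (toUnit P ≫ η[G]) ≫ f = 1 → lift (toUnit G ≫ η[P]) (𝟙 G) ≫ f = 1 → f = 1) :
    (∀ (T : Over S) (g : T ⟶ G) (x : T ⟶ E), (g ≫ u) * x = x * (g ≫ u)) ∧
      (IsCommMonObj P →
        (∀ f : P ⊗ P ⟶ G, lift (𝟙 P) (toUnit P ≫ η[P]) ≫ f = 1 → lift (toUnit P ≫ η[P]) (𝟙 P) ≫ f = 1 → f = 1) →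
          IsCommMonObj E) := by
  exact ⟨u_central hex hPG, fun hP hPP => by
    haveI := hP
    exact comm_of_comm hex (u_central hex hPG) hPP⟩

end Groth.Agent.S8718
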