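import Groth.Statements.S8719
import Mathlib
import Groth.Agent.WildQuotLib.PSReg
-- import your own Groth.Agent.* helpers here

set_option autoImplicit false
universe u
open VanCyc

namespace Groth.Agent.S8719

/-- The formal computation carried out in its proof: let k be a field and f a power series in k[[x_0,
..., x_n]] with vanishing constant and linear terms whose degree-two part is a non-degenerate
quadratic form (the Gram determinant of its polar bilinear form is a unit). Then the partial
derivatives of f generate the maximal ideal of k[[x_0, ..., x_n]] (so f together with its partial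
derivatives cut out the origin with multiplicity one). -/
theorem result (k : Type u) [Field k] (n : ℕ)
    (f : MvPowerSeries (Fin (n + 1)) k) (hf : VanCyc.NondegQuadSeries f) :
    Ideal.span (Set.range fun i : Fin (n + 1) => MvPowerSeries.pderiv k i f) =
      IsLocalRing.maximalIdeal (MvPowerSeries (Fin (n + 1)) k) := by
  classical
  obtain ⟨⟨h0, h1⟩, hP⟩ := hf
  let P := VanCyc.polarMatrix (VanCyc.quadPart f)
  let D := fun i : Fin (n + 1) => MvPowerSeries.pderiv k i f
  let m := IsLocalRing.maximalIdeal (MvPowerSeries (Fin (n + 1)) k)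
  have hm : m = Ideal.span (Set.range MvPowerSeries.X) := WildQuotLib.maximalIdeal_eq k (n + 1)
  have hmem := @WildQuotLib.mem_maximalIdeal_iff_constantCoeff k _ (n + 1)
  have hX : ∀ l j : Fin (n + 1), ∀ h : MvPowerSeries (Fin (n + 1)) k,
      MvPowerSeries.coeff (Finsupp.single l 1) (h * MvPowerSeries.X j) =
        if l = j then MvPowerSeries.constantCoeff h else 0 := fun l j h => by
    rw [MvPowerSeries.X_def, MvPowerSeries.coeff_mul_monomial]
    by_cases hlj : l = j
    · subst hlj
      simp
    · rw [if_neg hlj, if_neg]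
      intro hle
      have := hle j
      rw [Finsupp.single_eq_same, Finsupp.single_eq_of_ne (Ne.symm hlj)] at this
      omega
  have hr : ∀ r : MvPowerSeries (Fin (n + 1)) k, MvPowerSeries.constantCoeff r = 0 →
      (∀ l, MvPowerSeries.coeff (Finsupp.single l 1) r = 0) → r ∈ m • m := by
    intro r hr0 hr1
    have : r ∈ Ideal.span (Set.range MvPowerSeries.X) := hm ▸ (hmem r).2 hr0
    obtain ⟨h, rfl⟩ := Ideal.mem_span_range_iff_exists_fun.1 this
    refine sum_mem fun j _ => ?_
    refine Submodule.smul_mem_smul ((hmem _).2 ?_) ((hmem _).2 (MvPowerSeries.constantCoeff_X j))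
    have := hr1 j
    simpa [map_sum, hX] using this
  have hlin : ∀ i l, MvPowerSeries.coeff (Finsupp.single l 1) (D i) = P i l := by
    intro i l
    rw [MvPowerSeries.coeff_pderiv]
    rcases lt_trichotomy i l with h | h | h
    · rw [Finsupp.single_eq_of_ne h.ne]
      simp [P, VanCyc.polarMatrix, VanCyc.quadPart, h.ne, h, add_comm]
    · subst h
      rw [← Finsupp.single_add]
      simp [P, VanCyc.polarMatrix, VanCyc.quadPart]
      ring
    · rw [Finsupp.single_eq_of_ne h.ne']
      simp [P, VanCyc.polarMatrix, VanCyc.quadPart, h.ne, h.ne', h, h.not_gt]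
  have hD0 : ∀ i, MvPowerSeries.constantCoeff (D i) = 0 := fun i => by
    rw [← MvPowerSeries.coeff_zero_eq_constantCoeff_apply, MvPowerSeries.coeff_pderiv, zero_add, h1 i, zero_mul]
  refine le_antisymm (Ideal.span_le.2 (Set.range_subset_iff.2 fun i => (hmem _).2 (hD0 i))) ?_
  refine Submodule.le_of_le_smul_of_le_jacobson_bot (I := m) (IsNoetherian.noetherian _)
    (IsLocalRing.jacobson_eq_maximalIdeal ⊥ bot_ne_top).ge ?_
  rw [show IsLocalRing.maximalIdeal (MvPowerSeries (Fin (n + 1)) k) = m from rfl]
  nth_rw 1 [hm]
  refine Ideal.span_le.2 (Set.range_subset_iff.2 fun j => ?_)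
  let s := ∑ i, MvPowerSeries.C (P⁻¹ j i) * D i
  rw [SetLike.mem_coe, show MvPowerSeries.X j = s + (MvPowerSeries.X j - s) by ring]
  refine Submodule.add_mem_sup (sum_mem fun i _ => Ideal.mul_mem_left _ _ (Ideal.subset_span ⟨i, rfl⟩)) ?_
  refine hr _ ?_ fun l => ?_
  · simp [s, hD0]
  · have e : ∑ i, P⁻¹ j i * P i l = if j = l then (1 : k) else 0 := by
      rw [← Matrix.mul_apply, Matrix.nonsing_inv_mul P hP, Matrix.one_apply]
    simp only [s, map_sub, map_sum, MvPowerSeries.coeff_C_mul, hlin, e]
    rw [MvPowerSeries.coeff_index_single_X]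
    by_cases h : l = j
    · rw [if_pos h, if_pos h.symm, sub_self]
    · rw [if_neg h, if_neg (fun hh => h hh.symm), sub_self]

end Groth.Agent.S8719
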