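import Groth.Statements.S8720
import Mathlib
-- import your own Groth.Agent.* helpers here

set_option autoImplicit false
universe u
open VanCyc

namespace Groth.Agent.S8720

/-- The formal computation carried out in its proof: let k be a field of characteristic 2, m a natural
number, and f a power series over k in the variables x_0 and x_i, x_i' (i = 1, ..., m) whose terms
of degree less than 3 are exactly those of x_0^2 + x_1 x_1' + ... + x_m x_m'. Then the ideal
generated by f and all its partial derivatives is the ideal generated by x_0^2 and the x_i, x_i',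
and the quotient of the power series ring by this ideal is two-dimensional over k. (Characteristic 2
is what makes the derivative in x_0 lose its linear term.) -/
theorem result (k : Type u) [Field k] [CharP k 2] (m : ℕ)
    (f : MvPowerSeries (Option (Fin m ⊕ Fin m)) k)
    (hf : ∀ d : Option (Fin m ⊕ Fin m) →₀ ℕ, d.degree < 3 →
      MvPowerSeries.coeff d f = MvPowerSeries.coeff d
        (MvPowerSeries.X none ^ 2 +
          ∑ i : Fin m, MvPowerSeries.X (some (Sum.inl i)) * MvPowerSeries.X (some (Sum.inr i)))) :
    Ideal.span ({f} ∪ Set.range fun i : Option (Fin m ⊕ Fin m) => MvPowerSeries.pderiv k i f) =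
      Ideal.span ({MvPowerSeries.X none ^ 2} ∪
        Set.range fun j : Fin m ⊕ Fin m => (MvPowerSeries.X (some j) : MvPowerSeries (Option (Fin m ⊕ Fin m)) k)) ∧
    Module.finrank k (MvPowerSeries (Option (Fin m ⊕ Fin m)) k ⧸
      Ideal.span ({MvPowerSeries.X none ^ 2} ∪
        Set.range fun j : Fin m ⊕ Fin m => (MvPowerSeries.X (some j) : MvPowerSeries (Option (Fin m ⊕ Fin m)) k))) = 2 := by
  classical
  have split : ∀ (n : ℕ) (g : MvPowerSeries (Option (Fin m ⊕ Fin m)) k),
      (∀ d, d.degree < n → MvPowerSeries.coeff d g = 0) →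
        g ∈ (Ideal.span (Set.range (MvPowerSeries.X : Option (Fin m ⊕ Fin m) → MvPowerSeries (Option (Fin m ⊕ Fin m)) k))) ^ n := by
    intro n
    induction n with
    | zero => intro g _; simp
    | succ n ih =>
      intro g hg
      let c : (Option (Fin m ⊕ Fin m) →₀ ℕ) → Option (Fin m ⊕ Fin m) := fun d =>
        if h : d.support.Nonempty then h.choose else none
      have hc : ∀ d : Option (Fin m ⊕ Fin m) →₀ ℕ, d ≠ 0 → d (c d) ≠ 0 := fun d hd => by
        have h : d.support.Nonempty := Finsupp.support_nonempty_iff.mpr hd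
        simp only [c, dif_pos h]
        exact Finsupp.mem_support_iff.mp h.choose_spec
      let p : Option (Fin m ⊕ Fin m) → MvPowerSeries (Option (Fin m ⊕ Fin m)) k := fun i e =>
        if c (e + Finsupp.single i 1) = i then MvPowerSeries.coeff (e + Finsupp.single i 1) g else 0
      have hp : ∀ i e, MvPowerSeries.coeff e (p i) =
          if c (e + Finsupp.single i 1) = i then MvPowerSeries.coeff (e + Finsupp.single i 1) g else 0 := fun i e => rfl
      have hsum : g = ∑ i, MvPowerSeries.X i * p i := by
        ext d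
        rw [map_sum]
        simp only [MvPowerSeries.X_def, MvPowerSeries.coeff_monomial_mul, one_mul, hp]
        rcases eq_or_ne d 0 with rfl | hd
        · rw [hg 0 (by simp)]
          refine (Finset.sum_eq_zero fun i _ => if_neg fun h => ?_).symm
          simpa using h i
        · have hle : Finsupp.single (c d) 1 ≤ d := Finsupp.single_le_iff.mpr (Nat.one_le_iff_ne_zero.mpr (hc d hd))
          rw [Finset.sum_eq_single (c d), if_pos hle, tsub_add_cancel_of_le hle, if_pos rfl]
          · intro i _ hi
            split_ifs with h1 h2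
            · rw [tsub_add_cancel_of_le h1] at h2
              exact absurd h2.symm hi
            · rfl
            · rfl
          · simp
      rw [hsum, pow_succ']
      refine Ideal.sum_mem _ fun i _ => Ideal.mul_mem_mul (Ideal.subset_span ⟨i, rfl⟩) (ih _ fun e he => ?_)
      rw [hp]
      split_ifs
      · exact hg _ (by rw [map_add, Finsupp.degree_single]; omega)
      · rfl
  generalize hI : Ideal.span ({f} ∪ Set.range fun i : Option (Fin m ⊕ Fin m) => MvPowerSeries.pderiv k i f) = I
  generalize hJ : Ideal.span ({MvPowerSeries.X none ^ 2} ∪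
    Set.range fun j : Fin m ⊕ Fin m => (MvPowerSeries.X (some j) : MvPowerSeries (Option (Fin m ⊕ Fin m)) k)) = J
  generalize hM : Ideal.span (Set.range (MvPowerSeries.X : Option (Fin m ⊕ Fin m) → MvPowerSeries (Option (Fin m ⊕ Fin m)) k)) = M at split
  have hX : ∀ i, MvPowerSeries.X i ∈ M := fun i => hM ▸ Ideal.subset_span ⟨i, rfl⟩
  have hXs : ∀ j, MvPowerSeries.X (some j) ∈ J := fun j => hJ ▸ Ideal.subset_span (Or.inr ⟨j, rfl⟩)
  have hX0 : MvPowerSeries.X none ^ 2 ∈ J := hJ ▸ Ideal.subset_span (Or.inl rfl)
  have hM2 : M ^ 2 ≤ J := by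
    rw [sq, ← hM, Ideal.span_mul_span', Ideal.span_le]
    rintro _ ⟨_, ⟨a, rfl⟩, _, ⟨b, rfl⟩, rfl⟩
    rcases a with _ | a
    · rcases b with _ | b
      · show MvPowerSeries.X none * MvPowerSeries.X none ∈ J
        rw [← sq]; exact hX0
      · exact J.mul_mem_left _ (hXs b)
    · exact J.mul_mem_right _ (hXs a)
  have hM3 : M ^ 3 ≤ M * J := by
    rw [pow_succ' M 2]
    exact Ideal.mul_mono le_rfl hM2
  let q : MvPowerSeries (Option (Fin m ⊕ Fin m)) k := MvPowerSeries.X none ^ 2 +
    ∑ i : Fin m, MvPowerSeries.X (some (Sum.inl i)) * MvPowerSeries.X (some (Sum.inr i))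
  have hh : f - q ∈ M ^ 3 := split 3 _ fun d hd => by rw [map_sub, hf d hd, sub_self]
  have hdh : ∀ i, MvPowerSeries.pderiv k i (f - q) ∈ M ^ 2 := fun i => split 2 _ fun d hd => by
    rw [MvPowerSeries.coeff_pderiv, map_sub,
      hf _ (by rw [map_add, Finsupp.degree_single]; omega), sub_self, zero_mul]
  have htwo : (2 : MvPowerSeries (Option (Fin m ⊕ Fin m)) k) = 0 := by
    rw [← map_ofNat (MvPowerSeries.C (σ := Option (Fin m ⊕ Fin m)) (R := k)) 2, CharTwo.two_eq_zero, map_zero]
  have hsw : ∀ j : Fin m ⊕ Fin m, MvPowerSeries.pderiv k (some j) q = MvPowerSeries.X (some j.swap) := by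
    intro j
    rcases j with j | j <;>
      simp [q, Derivation.leibniz, MvPowerSeries.pderiv_X, sq, Pi.single_apply, Finset.sum_add_distrib]
  have hq0 : MvPowerSeries.pderiv k none q = 0 := by
    simp [q, Derivation.leibniz, MvPowerSeries.pderiv_X, sq, ← two_mul, htwo]
  have hIJ : I ≤ J := by
    rw [← hI, Ideal.span_le]
    rintro x (rfl | ⟨i, rfl⟩)
    · have hqJ : q ∈ J := J.add_mem hX0 (J.sum_mem fun i _ => J.mul_mem_right _ (hXs _))
      have := J.add_mem ((Ideal.pow_le_pow_right (by norm_num)).trans hM2 hh) hqJ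
      rwa [sub_add_cancel] at this
    · show MvPowerSeries.pderiv k i f ∈ J
      rw [← sub_add_cancel f q, map_add]
      refine J.add_mem (hM2 (hdh i)) ?_
      rcases i with _ | j
      · rw [hq0]; exact J.zero_mem
      · rw [hsw]; exact hXs _
  have hpI : ∀ i, MvPowerSeries.pderiv k i f ∈ I := fun i => hI ▸ Ideal.subset_span (Or.inr ⟨i, rfl⟩)
  have hfI : f ∈ I := hI ▸ Ideal.subset_span (Or.inl rfl)
  have hlin : ∀ j, MvPowerSeries.X (some j) ∈ I ⊔ M ^ 2 := fun j => by
    have h1 : MvPowerSeries.X (some j) = MvPowerSeries.pderiv k (some j.swap) f - MvPowerSeries.pderiv k (some j.swap) (f - q) := by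
      rw [map_sub, sub_sub_cancel, hsw, Sum.swap_swap]
    rw [h1]
    exact sub_mem (Ideal.mem_sup_left (hpI _)) (Ideal.mem_sup_right (hdh _))
  have hmul : ∀ a j, MvPowerSeries.X a * MvPowerSeries.X (some j) ∈ I ⊔ M * J := fun a j =>
    Ideal.mem_sup_right (Ideal.mul_mem_mul (hX a) (hXs j))
  have hsq0 : MvPowerSeries.X none ^ 2 ∈ I ⊔ M * J := by
    have h1 : MvPowerSeries.X none ^ 2 = f - (f - q) -
        ∑ i : Fin m, MvPowerSeries.X (some (Sum.inl i)) * MvPowerSeries.X (some (Sum.inr i)) := by
      simp only [q]; ring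
    rw [h1]
    exact sub_mem (sub_mem (Ideal.mem_sup_left hfI) (Ideal.mem_sup_right (hM3 hh))) (sum_mem fun i _ => hmul _ _)
  have hM2' : M ^ 2 ≤ I ⊔ M * J := by
    rw [sq, ← hM, Ideal.span_mul_span', hM, Ideal.span_le]
    rintro _ ⟨_, ⟨a, rfl⟩, _, ⟨b, rfl⟩, rfl⟩
    rcases b with _ | b
    · rcases a with _ | a
      · show MvPowerSeries.X none * MvPowerSeries.X none ∈ I ⊔ M * J
        rw [← sq]; exact hsq0
      · show MvPowerSeries.X (some a) * MvPowerSeries.X none ∈ _
        rw [mul_comm (MvPowerSeries.X (some a))]; exact hmul _ _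
    · exact hmul _ _
  have hJI : J ≤ I := by
    refine Submodule.le_of_le_smul_of_le_jacobson_bot (I := M) (hJ ▸ Submodule.fg_span (Set.toFinite _)) ?_ ?_
    · rw [IsLocalRing.jacobson_eq_maximalIdeal ⊥ bot_ne_top, ← hM, Ideal.span_le]
      rintro _ ⟨i, rfl⟩
      exact (IsLocalRing.mem_maximalIdeal _).mpr fun h => by simpa using MvPowerSeries.isUnit_iff_constantCoeff.mp h
    · refine hJ.symm.le.trans (Ideal.span_le.mpr ?_)
      rintro x (rfl | ⟨j, rfl⟩)
      · exact hsq0
      · exact (sup_le le_sup_left hM2') (hlin j)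
  refine ⟨le_antisymm hIJ hJI, ?_⟩
  let φ : MvPowerSeries (Option (Fin m ⊕ Fin m)) k →ₗ[k] k × k :=
    (MvPowerSeries.coeff 0).prod (MvPowerSeries.coeff (Finsupp.single none 1))
  have hker : LinearMap.ker φ = J.restrictScalars k := by
    ext x
    rw [LinearMap.mem_ker, Submodule.restrictScalars_mem]
    constructor
    · intro hx
      obtain ⟨h0, h1⟩ := Prod.mk.inj hx
      have hrest : x - ∑ j : Fin m ⊕ Fin m, MvPowerSeries.C (MvPowerSeries.coeff (Finsupp.single (some j) 1) x) * MvPowerSeries.X (some j) ∈ M ^ 2 := by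
        refine split 2 _ fun d hd => ?_
        rw [map_sub, map_sum]
        simp only [MvPowerSeries.coeff_C_mul, MvPowerSeries.coeff_X, mul_ite, mul_one, mul_zero]
        rcases eq_or_ne d 0 with rfl | hd0
        · rw [h0, zero_sub, neg_eq_zero]
          exact Finset.sum_eq_zero fun j _ => if_neg fun h => by simpa using congrArg Finsupp.degree h
        · obtain ⟨i, hi⟩ := Finsupp.support_nonempty_iff.mpr hd0
          have hid : Finsupp.single i 1 ≤ d := Finsupp.single_le_iff.mpr (Nat.one_le_iff_ne_zero.mpr (Finsupp.mem_support_iff.mp hi))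
          have he : d = Finsupp.single i 1 := by
            have h2 := congrArg Finsupp.degree (tsub_add_cancel_of_le hid)
            rw [map_add, Finsupp.degree_single] at h2
            have h3 : (d - Finsupp.single i 1).degree = 0 := by omega
            rw [Finsupp.degree_eq_zero_iff] at h3
            rw [← tsub_add_cancel_of_le hid, h3, zero_add]
          subst he
          rcases i with _ | i
          · rw [h1, zero_sub, neg_eq_zero]
            exact Finset.sum_eq_zero fun j _ => if_neg fun h => by simpa [Finsupp.single_eq_single_iff] using h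
          · simp [Finsupp.single_eq_single_iff]
      have := J.add_mem (hM2 hrest) (J.sum_mem (t := Finset.univ) fun j _ =>
        J.mul_mem_left (MvPowerSeries.C (MvPowerSeries.coeff (Finsupp.single (some j) 1) x)) (hXs j))
      rwa [sub_add_cancel] at this
    · intro hx
      rw [← hJ] at hx
      induction hx using Submodule.span_induction with
      | mem y hy =>
        rcases hy with rfl | ⟨j, rfl⟩
        · simp [φ, MvPowerSeries.X_pow_eq, ← MvPowerSeries.coeff_zero_eq_constantCoeff_apply, MvPowerSeries.coeff_monomial, Finsupp.single_eq_single_iff, Prod.ext_iff, @eq_comm _ (0 : _ →₀ ℕ)]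
        · simp [φ, MvPowerSeries.coeff_X, Finsupp.single_eq_single_iff, Prod.ext_iff]
      | zero => exact map_zero _
      | add a b _ _ ha hb => rw [map_add, ha, hb, add_zero]
      | smul a b _ hb =>
        obtain ⟨h0, h1⟩ := Prod.mk.inj hb
        refine Prod.ext ?_ ?_
        · show MvPowerSeries.coeff 0 (a * b) = 0
          rw [MvPowerSeries.coeff_mul]
          simp [h0]
        · show MvPowerSeries.coeff (Finsupp.single none 1) (a * b) = 0
          rw [MvPowerSeries.coeff_mul, Finsupp.antidiagonal_single]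
          simp [h0, h1, Finset.sum_map, Finset.Nat.antidiagonal_succ]
  have hsurj : Function.Surjective φ := fun v =>
    ⟨MvPowerSeries.C v.1 + MvPowerSeries.C v.2 * MvPowerSeries.X none, by
      simp [φ, MvPowerSeries.coeff_C, MvPowerSeries.coeff_X, MvPowerSeries.coeff_C_mul, Prod.ext_iff]⟩
  rw [← LinearEquiv.finrank_eq (Submodule.Quotient.restrictScalarsEquiv k J),
    ((Submodule.quotEquivOfEq _ _ hker.symm).trans (φ.quotKerEquivOfSurjective hsurj)).finrank_eq,
    Module.finrank_prod, Module.finrank_self]

end Groth.Agent.S8720
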