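import Groth.Statements.S8722
import Groth.Agent.QLinLib

set_option autoImplicit false
universe u v
open SGA7II

namespace Groth.Agent.S8722

/-- Let k be a separably closed field of characteristic p > 0, q = p^r with r >= 1, V a
finite-dimensional k-vector space and phi : V -> V additive with phi(c v) = c^q phi(v), semisimple
in the sense that its image spans V. Then for n >= 1 the fixed vectors of the n-th iterate of phi
are exactly the finite linear combinations of phi-fixed vectors with coefficients c satisfying
c^(q^n) = c; that is, the fixed space of phi^n is obtained from the F_q-space of phi-fixed vectors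
by extending scalars to F_{q^n}. -/
theorem result (k : Type u) [Field k] [IsSepClosed k] (p : ℕ)
    [Fact p.Prime] [CharP k p] (r : ℕ) (hr : 0 < r) (V : Type v) [AddCommGroup V] [Module k V]
    [FiniteDimensional k V] (φ : V →+ V) (hφ : ∀ (c : k) (v : V), φ (c • v) = c ^ (p ^ r) • φ v)
    (hss : Submodule.span k (Set.range φ) = ⊤) (n : ℕ) (hn : 0 < n) (v : V) :
    φ^[n] v = v ↔ ∃ (s : Finset V) (c : V → k), (∀ w ∈ s, φ w = w) ∧
      (∀ w ∈ s, c w ^ ((p ^ r) ^ n) = c w) ∧ v = ∑ w ∈ s, c w • w := by
  classical
  obtain ⟨b, hb⟩ := QLinLib.exists_fixed_basis p φ hr hφ hss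
  have hit : ∀ (m : ℕ) (c : k) (w : V), φ^[m] (c • w) = c ^ (p ^ r) ^ m • φ^[m] w := by
    intro m
    induction m with
    | zero => simp
    | succ m ih =>
      intro c w
      rw [Function.iterate_succ_apply', ih, hφ, Function.iterate_succ_apply', ← pow_mul, pow_succ]
  have hsum : ∀ {ι : Type v} (s : Finset ι) (c : ι → k) (w : ι → V),
      φ^[n] (∑ i ∈ s, c i • w i) = ∑ i ∈ s, c i ^ (p ^ r) ^ n • φ^[n] (w i) := by
    intro ι s c w
    induction s using Finset.induction with
    | empty => simp [iterate_map_zero]
    | insert a s ha ih => rw [Finset.sum_insert ha, Finset.sum_insert ha, iterate_map_add, hit, ih]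
  constructor
  · intro hv
    let s : Finset V := Finset.univ.image b
    let c : V → k := Function.extend b (b.repr v) 0
    have hc : ∀ i, c (b i) = b.repr v i := fun i => b.injective.extend_apply _ _ i
    have hvs : v = ∑ w ∈ s, c w • w := by
      rw [Finset.sum_image (fun i _ j _ h => b.injective h)]
      simp only [hc, b.sum_repr]
    refine ⟨s, c, ?_, ?_, hvs⟩
    · intro w hw
      obtain ⟨i, -, rfl⟩ := Finset.mem_image.mp hw
      exact hb i
    · intro w hw
      obtain ⟨i, -, rfl⟩ := Finset.mem_image.mp hw
      have heq : ∑ w ∈ s, c w ^ (p ^ r) ^ n • w = ∑ w ∈ s, c w • w := by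
        rw [← hvs]
        conv_rhs => rw [← hv, hvs, hsum]
        refine Finset.sum_congr rfl fun w hw => ?_
        obtain ⟨j, -, rfl⟩ := Finset.mem_image.mp hw
        rw [Function.iterate_fixed (hb j)]
      rw [Finset.sum_image (fun i _ j _ h => b.injective h),
        Finset.sum_image (fun i _ j _ h => b.injective h)] at heq
      have h1 := b.repr_sum_self (fun j => c (b j) ^ (p ^ r) ^ n)
      rw [heq, b.repr_sum_self] at h1
      exact (congrFun h1 i).symm
  · rintro ⟨s, c, hs, hc, rfl⟩
    rw [hsum]
    exact Finset.sum_congr rfl fun w hw => by rw [hc w hw, Function.iterate_fixed (hs w hw)]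

end Groth.Agent.S8722
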