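import Groth.Statements.S8724
import Mathlib
-- import your own Groth.Agent.* helpers here

set_option autoImplicit false
open LefPen

namespace Groth.Agent.S8724

/-- The algebraic identity established in its proof: let a >= 1 and work in Z[y, z]. Then (1+y)^(a-1) -
(1+z)^(a-1) = (y - z) * (sum over i, j >= 0 with i + j + 1 <= a - 1 of C(a-1, i+j+1) y^i z^j), and
(1+y)^a z - (1+z)^a y = (y - z) * (-1 + sum over i, j >= 1 with i + j <= a of C(a, i+j) y^i z^j).
Consequently the rational function -((1+y)^(a-1) - (1+z)^(a-1)) / ((1+y)^a z - (1+z)^a y), the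
generating series of the primitive middle Hodge numbers of smooth hypersurfaces of degree a, equals
(sum_{i,j >= 0} C(a-1, i+j+1) y^i z^j) / (1 - sum_{i,j >= 1} C(a, i+j) y^i z^j). -/
theorem result (a : ℕ) (ha : 1 ≤ a) :
    let y : MvPolynomial (Fin 2) ℤ := MvPolynomial.X 0
    let z : MvPolynomial (Fin 2) ℤ := MvPolynomial.X 1
    ((1 + y) ^ (a - 1) - (1 + z) ^ (a - 1) =
      (y - z) * ∑ i ∈ Finset.range a, ∑ j ∈ Finset.range a,
        if i + j + 1 ≤ a - 1 then ((a - 1).choose (i + j + 1) : MvPolynomial (Fin 2) ℤ) * y ^ i * z ^ j else 0) ∧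
    ((1 + y) ^ a * z - (1 + z) ^ a * y =
      (y - z) * (-1 + ∑ i ∈ Finset.range (a + 1), ∑ j ∈ Finset.range (a + 1),
        if 1 ≤ i ∧ 1 ≤ j ∧ i + j ≤ a then (a.choose (i + j) : MvPolynomial (Fin 2) ℤ) * y ^ i * z ^ j else 0)) := by
  classical
  have L : ∀ (c : ℕ → MvPolynomial (Fin 2) ℤ) (y z : MvPolynomial (Fin 2) ℤ) (N n : ℕ), n ≤ N →
      (∑ i ∈ Finset.range N, ∑ j ∈ Finset.range N,
        if i + j < n then c (i + j) * y ^ i * z ^ j else 0)
      = ∑ k ∈ Finset.range n, c k * ∑ i ∈ Finset.range (k + 1), y ^ i * z ^ (k - i) := by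
    intro c y z N n
    induction n with
    | zero => intro _; simp
    | succ n ih =>
      intro hn
      rw [Finset.sum_range_succ, ← ih (by omega)]
      have hsplit : ∀ i j : ℕ, (if i + j < n + 1 then c (i + j) * y ^ i * z ^ j else 0)
          = (if i + j < n then c (i + j) * y ^ i * z ^ j else 0)
            + (if i + j = n then c (i + j) * y ^ i * z ^ j else 0) := by
        intro i j
        by_cases h : i + j = n
        · simp [h]
        · by_cases h' : i + j < n
          · simp [h, h', show i + j < n + 1 by omega]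
          · simp [h, h', show ¬ i + j < n + 1 by omega]
      simp only [hsplit, Finset.sum_add_distrib]
      congr 1
      rw [Finset.mul_sum]
      refine (Finset.sum_subset_zero_on_sdiff (Finset.range_mono hn) ?_ ?_).symm
      · intro i hi
        simp only [Finset.mem_sdiff, Finset.mem_range] at hi
        exact Finset.sum_eq_zero fun j _ => if_neg (by omega)
      · intro i hi
        simp only [Finset.mem_range] at hi
        rw [Finset.sum_eq_single (n - i)]
        · rw [if_pos (by omega), show i + (n - i) = n by omega]; ring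
        · intro j _ hj
          exact if_neg (by omega)
        · intro h
          exact absurd (Finset.mem_range.mpr (by omega)) h
  have G : ∀ (y z : MvPolynomial (Fin 2) ℤ) (k : ℕ),
      (y - z) * ∑ i ∈ Finset.range (k + 1), y ^ i * z ^ (k - i) = y ^ (k + 1) - z ^ (k + 1) := by
    intro y z k
    rw [mul_comm, ← geom_sum₂_mul]
    simp only [Nat.add_sub_cancel]
  have B : ∀ (y : MvPolynomial (Fin 2) ℤ) (n : ℕ),
      (1 + y) ^ n = 1 + ∑ k ∈ Finset.range n, (n.choose (k + 1) : MvPolynomial (Fin 2) ℤ) * y ^ (k + 1) := by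
    intro y n
    rw [add_comm (1 : MvPolynomial (Fin 2) ℤ) y, add_pow, Finset.sum_range_succ', add_comm]
    simp [mul_comm]
  intro y z
  obtain ⟨b, rfl⟩ : ∃ b, a = b + 1 := ⟨a - 1, by omega⟩
  simp only [Nat.add_sub_cancel]
  refine ⟨?_, ?_⟩
  · have := L (fun k => ((b.choose (k + 1) : ℕ) : MvPolynomial (Fin 2) ℤ)) y z (b + 1) b (by omega)
    have e : ∀ i j : ℕ, (i + j + 1 ≤ b) = (i + j < b) := fun i j => propext ⟨fun h => by omega, fun h => by omega⟩
    simp only [e]
    rw [this, Finset.mul_sum, B y b, B z b, add_sub_add_left_eq_sub, ← Finset.sum_sub_distrib]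
    refine Finset.sum_congr rfl fun k _ => ?_
    rw [mul_left_comm, G, mul_sub]
  · have := L (fun k => (((b + 1).choose (k + 2) : ℕ) : MvPolynomial (Fin 2) ℤ)) y z (b + 1) b (by omega)
    have h1 : ∀ i : ℕ, ¬ (1 ≤ (0 : ℕ) ∧ 1 ≤ i ∧ 0 + i ≤ b + 1) := fun i h => absurd h.1 (by omega)
    rw [Finset.sum_range_succ' (n := b + 1)]
    simp only [Finset.sum_range_succ' (n := b + 1), Nat.one_ne_zero, Nat.not_succ_le_zero, nonpos_iff_eq_zero,
      false_and, and_false, if_false, Finset.sum_const_zero, add_zero]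
    have e : ∀ i j : ℕ, (1 ≤ i + 1 ∧ 1 ≤ j + 1 ∧ i + 1 + (j + 1) ≤ b + 1) = (i + j < b) :=
      fun i j => propext ⟨fun h => by omega, fun h => ⟨by omega, by omega, by omega⟩⟩
    simp only [e]
    have e2 : ∀ i j : ℕ, (if i + j < b then ((b + 1).choose (i + 1 + (j + 1)) : MvPolynomial (Fin 2) ℤ) * y ^ (i + 1) * z ^ (j + 1) else 0)
        = (y * z) * (if i + j < b then ((b + 1).choose (i + j + 2) : MvPolynomial (Fin 2) ℤ) * y ^ i * z ^ j else 0) := by
      intro i j
      split_ifs
      · rw [show i + 1 + (j + 1) = i + j + 2 by omega]; ring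
      · ring
    simp only [e2, ← Finset.mul_sum]
    rw [this, mul_add, Finset.mul_sum, Finset.mul_sum]
    rw [B y (b + 1), B z (b + 1), Finset.sum_range_succ', Finset.sum_range_succ']
    simp only [zero_add, Nat.choose_one_right, pow_one]
    have key : ∀ k : ℕ, (y - z) * (y * z * (((b + 1).choose (k + 2) : MvPolynomial (Fin 2) ℤ)
          * ∑ i ∈ Finset.range (k + 1), y ^ i * z ^ (k - i)))
        = ((b + 1).choose (k + 2) : MvPolynomial (Fin 2) ℤ) * y ^ (k + 1 + 1) * z
          - ((b + 1).choose (k + 2) : MvPolynomial (Fin 2) ℤ) * z ^ (k + 1 + 1) * y := by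
      intro k
      calc _ = y * z * ((b + 1).choose (k + 2) : MvPolynomial (Fin 2) ℤ) * ((y - z) * ∑ i ∈ Finset.range (k + 1), y ^ i * z ^ (k - i)) := by ring
        _ = _ := by rw [G]; ring
    simp only [key]
    rw [Finset.sum_sub_distrib, ← Finset.sum_mul, ← Finset.sum_mul]
    ring

end Groth.Agent.S8724
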