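import Groth.Statements.S8725
import Groth.Agent.EtTraceLib.ASProper

set_option autoImplicit false
universe u
open CategoryTheory CategoryTheory.Limits AlgebraicGeometry
open SGA7II

set_option backward.isDefEq.respectTransparency false
set_option backward.isDefEq.respectTransparency.types false
set_option linter.style.haveILetI false
set_option maxHeartbeats 800000
set_option synthInstance.maxHeartbeats 400000

namespace Groth.Agent.S8725

open CategoryTheory.Abelian Polynomial in
/-- Fixed points of a semilinear endomorphism are bounded by the dimension. -/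
theorem card_fixed_le {k : Type u} [Field k] {V : Type u} [AddCommGroup V] [Module k V] [Module.Finite k V]
    (p : ℕ) [hp : Fact p.Prime] [CharP k p] (φ : V →+ V) (hφ : ∀ (a : k) (v : V), φ (a • v) = a ^ p • φ v) :
    Nat.card {v : V | φ v = v} ≤ p ^ Module.finrank k V := by
  classical
  obtain ⟨B, hBS, hspan, hB⟩ := exists_linearIndependent k {v : V | φ v = v}
  haveI : Fintype B := (hB.setFinite).fintype
  let P : k[X] := X ^ p - X
  have hP : P ≠ 0 := FiniteField.X_pow_card_sub_X_ne_zero k hp.out.one_lt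
  let R := {a : k // a ∈ P.roots.toFinset}
  have hR : Nat.card R ≤ p := by
    rw [Nat.card_eq_finsetCard]
    exact (Multiset.toFinset_card_le _).trans ((card_roots' P).trans (FiniteField.X_pow_card_sub_X_natDegree_eq k hp.out.one_lt).le)
  let m : (B → R) → V := fun c => ∑ b : B, (c b).1 • (b : V)
  have hm : {v : V | φ v = v} ⊆ Set.range m := fun v hv => by
    have hmem : v ∈ Submodule.span k (Set.range (Subtype.val : B → V)) := by
      rw [Subtype.range_coe, hspan]
      exact Submodule.subset_span hv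
    obtain ⟨c, hc⟩ := (Submodule.mem_span_range_iff_exists_fun k).1 hmem
    have h1 : ∑ b : B, c b • (b : V) = ∑ b : B, c b ^ p • (b : V) := by
      rw [hc]
      conv_lhs => rw [← (show φ v = v from hv), ← hc, map_sum]
      exact Finset.sum_congr rfl fun b _ => by rw [hφ, show φ (b : V) = b from hBS b.2]
    have h2 := Fintype.linearIndependent_iff.1 hB (fun b => c b ^ p - c b)
      (by simp only [sub_smul, Finset.sum_sub_distrib]; rw [← h1]; exact sub_self _)
    exact ⟨fun b => ⟨c b, by rw [Multiset.mem_toFinset, mem_roots hP]; simpa [P, IsRoot] using h2 b⟩, hc⟩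
  refine (Nat.card_mono (Set.finite_range m) hm).trans ?_
  refine (Finite.card_range_le m).trans ?_
  rw [Nat.card_fun, Nat.card_eq_fintype_card (α := B)]
  exact (Nat.pow_le_pow_left hR _).trans (Nat.pow_le_pow_right hp.out.pos hB.fintype_card_le_finrank)

open EtTraceLib EtTraceLib.ASProper EtTraceLib.GaCmp CategoryTheory.Abelian in
/-- In the form statable without the Frobenius action: let k be a separably closed field of
characteristic p > 0 and X a proper k-scheme. Then for every i the etale cohomology group H^i(X_et,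
Z/p) is finite, of order at most p^(dim_k H^i(X, O_X)). (The published statement identifies
H^i(X_et, Z/p) with the Frobenius-fixed vectors of H^i(X, O_X); this row states only the resulting
finiteness and order bound.) -/
theorem result (k : Type u) [Field k] [IsSepClosed k] (p : ℕ)
    [Fact p.Prime] [CharP k p] (X : Scheme.{u}) [X.Over (Spec (CommRingCat.of k))]
    [IsProper (X ↘ Spec (CommRingCat.of k))] (i : ℕ) :
    Finite (EtCoh.H X (EtCoh.const X (ZMod p)) i) ∧
      Nat.card (EtCoh.H X (EtCoh.const X (ZMod p)) i) ≤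
        p ^ Module.finrank k (Coh.HH X (Coh.structureModule X) i) := by
  let f := X ↘ Spec (CommRingCat.of k)
  have hfin := ASProper.finite_H_zmod p k f i
  refine ⟨hfin, ?_⟩
  rcases isEmpty_or_nonempty X with hX | hX
  · haveI := ASProper.subsingleton_H_of_isEmpty (EtCoh.const X (ZMod p)) i
    exact Finite.card_le_one_iff_subsingleton.2 inferInstance |>.trans (Nat.one_le_pow _ _ (Fact.out : p.Prime).pos)
  have hp := (Fact.out : p.Prime)
  have h0 := natCast_eq_zero p k f
  haveI := charP_global p hp h0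
  haveI : EtZar.ZarCont X := EtTraceLib.zarCont X
  haveI : IsLocallyNoetherian X := LocallyOfFiniteType.isLocallyNoetherian f
  have hS := EtVanish.shortExact_AS (X := X) p hp h0
  haveI := hS.mono_f
  obtain ⟨e, he⟩ := exists_cmp X i
  haveI : Module.Finite k (Coh.HH X (Coh.structureModule X) i) :=
    S0002.result k X (Coh.structureModule X) (DevLib.isCoh_structureModule X) i
  let F : EtCoh.H X (EtCoh.Ga X) i →+ EtCoh.H X (EtCoh.Ga X) i :=
    AddMonoidHom.mk' (fun w => w.comp (Ext.mk₀ (frobGa p hp h0)) (add_zero i)) fun _ _ => Ext.add_comp _ _ _ _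
  let φ : Coh.HH X (Coh.structureModule X) i →+ Coh.HH X (Coh.structureModule X) i :=
    e.symm.toAddMonoidHom.comp (F.comp e.toAddMonoidHom)
  have hφe : ∀ v, e (φ v) = F (e v) := fun v => e.apply_symm_apply _
  have hφ : ∀ (a : k) v, φ (a • v) = a ^ p • φ v := fun a v => e.injective (by
    let r := Coh.toGlobal f a
    have hr : r ^ p = Coh.toGlobal f (a ^ p) := (map_pow _ _ _).symm
    show e (φ (r • v)) = e (Coh.toGlobal f (a ^ p) • φ v)
    rw [hφe, he, he, hφe, ← hr]
    show ((e v).comp (Ext.mk₀ (mulGa r)) (add_zero i)).comp (Ext.mk₀ (frobGa p hp h0)) (add_zero i) =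
      ((e v).comp (Ext.mk₀ (frobGa p hp h0)) (add_zero i)).comp (Ext.mk₀ (mulGa (r ^ p))) (add_zero i)
    rw [Ext.comp_assoc_of_second_deg_zero, Ext.comp_assoc_of_second_deg_zero, Ext.mk₀_comp_mk₀, Ext.mk₀_comp_mk₀,
      mulGa_frob])
  refine le_trans ?_ (card_fixed_le p φ hφ)
  haveI := (SemiLin.finite_fixed p φ hφ).to_subtype
  let m : EtCoh.H X (EtCoh.const X (ZMod p)) i → {v | φ v = v} := fun x =>
    ⟨e.symm (x.comp (Ext.mk₀ (EtVanish.asConst (X := X) p)) (add_zero i)), e.injective (by
      have hd : (x.comp (Ext.mk₀ (EtVanish.asConst (X := X) p)) (add_zero i)).comp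
          (Ext.mk₀ (W4c5etcohweilstudent.artinSchreierEndo X p hp h0)) (add_zero i) = 0 := by
        rw [Ext.comp_assoc_of_second_deg_zero, Ext.mk₀_comp_mk₀, EtVanish.asConst_comp p hp h0, Ext.mk₀_zero,
          Ext.comp_zero]
      rw [hφe, AddEquiv.apply_symm_apply]
      show (x.comp (Ext.mk₀ (EtVanish.asConst (X := X) p)) (add_zero i)).comp (Ext.mk₀ (frobGa p hp h0)) (add_zero i) = _
      rw [frobGa, Ext.mk₀_add, Ext.comp_add, Ext.comp_mk₀_id, hd, zero_add])⟩
  refine Nat.card_le_card_of_injective m fun a b hab => sub_eq_zero.1 ?_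
  have h1 := e.symm.injective (congrArg Subtype.val hab)
  have h2 : (a - b).comp (Ext.mk₀ (EtVanish.asConst (X := X) p)) (add_zero i) = 0 := by
    rw [sub_eq_add_neg, Ext.add_comp, Ext.neg_comp, h1, add_neg_cancel]
  rcases Nat.eq_zero_or_pos i with rfl | hq
  · obtain ⟨g, hg⟩ := (Ext.mk₀_bijective _ _).2 (a - b)
    rw [← hg, Ext.mk₀_comp_mk₀] at h2
    have h3 : g ≫ EtVanish.asConst (X := X) p = 0 := (Ext.mk₀_bijective _ _).1 (h2.trans (Ext.mk₀_zero _ _).symm)
    rw [← hg, zero_of_comp_mono (EtVanish.asConst (X := X) p) h3, Ext.mk₀_zero]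
  · obtain ⟨n, rfl⟩ : ∃ n, i = n + 1 := ⟨i - 1, by omega⟩
    obtain ⟨y, hy⟩ := Ext.covariant_sequence_exact₁ _ hS (a - b) h2 rfl
    obtain ⟨w, hw⟩ := surjective_AS p hp h0 k f n y
    rw [← hy, ← hw]
    refine (Ext.comp_assoc_of_second_deg_zero _ (Ext.mk₀ _) hS.extClass rfl).trans ?_
    exact (congrArg (fun z => Ext.comp w z (rfl : n + 1 = n + 1)) hS.comp_extClass).trans (Ext.comp_zero _ _ _ _ _)

end Groth.Agent.S8725
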