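import Groth.Statements.S8731
import Groth.Agent.HypSurfLib.Coh
import Groth.Agent.GenSeesawLib.Glue

set_option autoImplicit false
universe u
open CategoryTheory CategoryTheory.Limits AlgebraicGeometry
open LefPen

namespace Groth.Agent.S8731

theorem hypIdeal_zero (r : ℕ) (k : Type u) [Field k] (d : ℕ) :
    LefPen.hypIdeal (0 : LefPen.Form r k d) = ⊥ := by
  refine le_bot_iff.1 fun U c hc => ?_
  have hc' := Scheme.IdealSheafData.ideal_ofIdeals_le _ U hc
  have hcov : U.1 ≤ iSup fun i : Fin (r + 1) => U.1 ⊓ LefPen.chart r k i := fun x hx => by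
    obtain ⟨i, hi⟩ := TopologicalSpace.Opens.mem_iSup.1 ((AmpleEmb.iSup_stdOpen r k).ge (TopologicalSpace.Opens.mem_top x))
    exact TopologicalSpace.Opens.mem_iSup.2 ⟨i, hx, hi⟩
  show c ∈ (⊥ : Ideal _)
  rw [Ideal.mem_bot]
  refine (CohB1.ProjSpace r k).sheaf.eq_of_locally_eq' _ U.1 (fun i => homOfLE inf_le_left) hcov _ _ fun i => ?_
  have h := (Submodule.mem_iInf _).1 hc' i
  have h0 : LefPen.dehom (0 : LefPen.Form r k d) i = 0 := by
    refine (congrArg _ (HomogeneousLocalization.val_injective _ ?_)).trans (map_zero _)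
    rw [HomogeneousLocalization.Away.val_mk, HomogeneousLocalization.val_zero]
    exact Localization.mk_zero _
  rw [Ideal.mem_comap, h0, map_zero, Ideal.span_singleton_eq_bot.2 rfl, Ideal.mem_bot] at h
  exact h.trans (map_zero _).symm

/-- (iv), the assertions on the structure sheaf: let k be an algebraically closed field, n >= 1, and Q a
quadratic form in n + 2 variables whose zero scheme X = V(Q) ⊂ P^{n+1}_k is smooth over k of
relative dimension n (a smooth quadric of dimension n). Then H^i(X, O_X) = 0 for every i >= 1, and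
the structure map identifies k with H^0(X, O_X). (The published item also computes H^1(X, O_X(1)),
the canonical sheaf and the Picard group, not stated here.) -/
theorem result (k : Type u) [Field k] [IsAlgClosed k] (n : ℕ) (hn : 1 ≤ n)
    (Q : LefPen.Form (n + 1) k 2)
    [SmoothOfRelativeDimension n ((LefPen.hypIdeal Q).subschemeι ≫ CohB1.ProjSpace.toSpec (n + 1) k)] :
    (∀ i : ℕ, 1 ≤ i → Subsingleton (Coh.HH (LefPen.hypIdeal Q).subscheme
        (Coh.structureModule (LefPen.hypIdeal Q).subscheme) i)) ∧
      Function.Bijective ((LefPen.hypIdeal Q).subschemeι ≫ CohB1.ProjSpace.toSpec (n + 1) k).appTop.hom := by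
  by_cases hQ : Q = 0
  · subst hQ
    haveI : IsIso (LefPen.hypIdeal (0 : LefPen.Form (n + 1) k 2)).subschemeι := by
      rw [hypIdeal_zero]; infer_instance
    refine ⟨fun i hi => ?_, ?_⟩
    · exact GenSeesawLib.subsingleton_HH_structureModule_of_isIso
        (inv (LefPen.hypIdeal (0 : LefPen.Form (n + 1) k 2)).subschemeι) i
        (HypSurfLib.subsingleton_structure i hi)
    · haveI : IsProper (CohB1.ProjSpace (n + 1) k ↘ Spec (CommRingCat.of k)) :=
        inferInstanceAs (IsProper (CohB1.ProjSpace.toSpec (n + 1) k))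
      have h := CurveP1Lib.bijective_toGlobal_of_h0 (HypSurfLib.finrank_H0_projSpace (r := n + 1) (k := k))
      haveI : IsIso ((LefPen.hypIdeal (0 : LefPen.Form (n + 1) k 2)).subschemeι.appTop) :=
        inferInstanceAs (IsIso ((LefPen.hypIdeal (0 : LefPen.Form (n + 1) k 2)).subschemeι.app ⊤))
      rw [Scheme.Hom.comp_appTop, CommRingCat.hom_comp, RingHom.coe_comp]
      refine (ConcreteCategory.bijective_of_isIso
        (LefPen.hypIdeal (0 : LefPen.Form (n + 1) k 2)).subschemeι.appTop).comp ?_
      exact (Function.Bijective.of_comp_iff _ (ConcreteCategory.bijective_of_isIso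
        (Scheme.ΓSpecIso (CommRingCat.of k)).inv)).1 h
  letI : (LefPen.hypIdeal Q).subscheme.Over (Spec (CommRingCat.of k)) :=
    ⟨(LefPen.hypIdeal Q).subschemeι ≫ CohB1.ProjSpace.toSpec (n + 1) k⟩
  refine ⟨fun i hi => ?_, ?_⟩
  · by_cases hin : i + 1 = n + 1
    · haveI : IsProper ((LefPen.hypIdeal Q).subscheme ↘ Spec (CommRingCat.of k)) :=
        inferInstanceAs (IsProper ((LefPen.hypIdeal Q).subschemeι ≫ CohB1.ProjSpace.toSpec (n + 1) k))
      haveI := EulerIneqLib.isNoetherian_proper (X := (LefPen.hypIdeal Q).subscheme) k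
      haveI := EulerIneqLib.finite_HH (k := k)
        (DevLib.isCoh_structureModule (LefPen.hypIdeal Q).subscheme) i
      refine Module.finrank_zero_iff (R := k).1 ?_
      have h := HypSurfLib.finrank_top Q hQ rfl (by norm_num) (by omega)
      rw [show n + 1 - 1 = i by omega] at h
      rw [h]
      exact Nat.choose_eq_zero_of_lt (by omega)
    · exact HypSurfLib.subsingleton_HH Q hQ rfl i hi hin
  · exact (Function.Bijective.of_comp_iff _ (ConcreteCategory.bijective_of_isIso
      (Scheme.ΓSpecIso (CommRingCat.of k)).inv)).1 (HypSurfLib.bijective_toGlobal Q hQ rfl (by norm_num) (by omega))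

end Groth.Agent.S8731
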