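import Groth.Statements.S8734
import Groth.Agent.HodgePnLib.Field
import Groth.Agent.S10931

set_option autoImplicit false
universe u
open CategoryTheory CategoryTheory.Limits AlgebraicGeometry
open LefPen

namespace Groth.Agent.S8734

open CategoryTheory CategoryTheory.Limits AlgebraicGeometry

set_option backward.isDefEq.respectTransparency false
set_option backward.defeqAttrib.useBackward true
set_option linter.style.haveILetI false


/-- Over a field: let k be a field, r >= 1, P = P^r_k, Ω = Ω^1_{P/k}, L an O_P-module which is a j-th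
exterior power of Ω, and n a nonzero integer; write L(n) = L ⊗ O_P(n). Then H^i(P, L(n)) = H^i(P^r,
Ω^j(n)) is zero unless either i = 0 and n > j, or i = r and n < j - r. -/
theorem result (k : Type u) [Field k] (r : ℕ) (hr : 1 ≤ r) (j : ℕ)
    (L : (CohB1.ProjSpace r k).Modules)
    (hL : ExtPow.IsExtPow j (Omega.sheaf (CohB1.ProjSpace.toSpec r k)) L) (n : ℤ) (hn : n ≠ 0) (i : ℕ)
    (h0 : ¬ (i = 0 ∧ (j : ℤ) < n)) (hr' : ¬ (i = r ∧ n < (j : ℤ) - r)) :
    Subsingleton (Coh.HH (CohB1.ProjSpace r k)
      (CohB1.tensorMod L (Twist.twistProjSpace r k n)) i) := by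
  rcases lt_trichotomy n 0 with hneg | h | hpos
  · rcases lt_trichotomy i r with hi | rfl | hi
    · exact Groth.Agent.HodgePnLib.subsingleton_neg r k hneg j L hL i hi
    · have hjr : n ≥ (j : ℤ) - i := not_lt.1 fun h => hr' ⟨rfl, h⟩
      obtain ⟨e, rfl⟩ : ∃ e : ℕ, n = -(e : ℤ) := ⟨(-n).toNat, by omega⟩
      obtain ⟨L', hL'⟩ := Groth.Agent.HodgePnLib.exists_omega i k (i - j)
      haveI := Groth.Agent.HodgePnLib.finite_H i k hL (-(e : ℤ)) i
      refine (Module.finrank_zero_iff (R := k)).1 ?_
      rw [Groth.Agent.S10931.result k i j i (by omega) le_rfl L L' hL hL' (-(e : ℤ)), neg_neg, Nat.sub_self]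
      haveI := Groth.Agent.HodgePnLib.subsingleton_H0_small i k (by omega) (d := e) (by omega) (by omega) hL'
      exact Module.finrank_zero_of_subsingleton
    · exact Groth.Agent.HodgePnLib.subsingleton_high r k n j hL hi
  · exact absurd h hn
  · rcases Nat.eq_zero_or_pos i with rfl | hi
    · obtain ⟨d, rfl⟩ : ∃ d : ℕ, n = (d : ℤ) := ⟨n.toNat, by omega⟩
      exact Groth.Agent.HodgePnLib.subsingleton_H0_small r k (by omega) (by omega) (by omega) hL
    · exact Groth.Agent.HodgePnLib.subsingleton_pos r k hpos j hL hi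


end Groth.Agent.S8734
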