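import Groth.Statements.S8738
import Mathlib


set_option autoImplicit false
universe u
open SGA7II

namespace Groth.Agent.S8738

/-- Let k be a field of characteristic zero and A a reduced Noetherian local k-algebra of Krull
dimension one, essentially of finite type over k (the local ring of a reduced curve over k at one of
its points), and let A' be the integral closure of A in its total ring of fractions (the
normalization). Then every k-derivation D of A extends to a k-derivation D' of A', i.e. D' agrees
with D on the image of A. -/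
theorem result (k : Type u) [Field k] [CharZero k] (A : Type u) [CommRing A]
    [Algebra k A] [IsReduced A] [IsNoetherianRing A] [IsLocalRing A] [Algebra.EssFiniteType k A]
    (hdim : ringKrullDim A = 1) (D : Derivation k A A) :
    ∃ D' : Derivation k ↥(integralClosure A (FractionRing A)) ↥(integralClosure A (FractionRing A)),
      ∀ a : A, (D' (algebraMap A ↥(integralClosure A (FractionRing A)) a) : FractionRing A) =
        algebraMap A (FractionRing A) (D a) := by
  classical
  let K := FractionRing A
  let ι : A →+* K := algebraMap A K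
  let e : A → PowerSeries A := fun a => PowerSeries.mk fun n => algebraMap k A (n.factorial : k)⁻¹ * (D : A → A)^[n] a
  have hfac : ∀ n : ℕ, ((n + 1 : ℕ) : A) * algebraMap k A ((n + 1).factorial : k)⁻¹ = algebraMap k A (n.factorial : k)⁻¹ := fun n => by
    rw [← map_natCast (algebraMap k A) (n + 1), ← map_mul]
    congr 1
    rw [Nat.factorial_succ, Nat.cast_mul, mul_inv, ← mul_assoc, mul_inv_cancel₀ (Nat.cast_ne_zero.2 (Nat.succ_ne_zero n)), one_mul]
  have hODE : ∀ a n, ((n + 1 : ℕ) : A) * PowerSeries.coeff (n + 1) (e a) = D (PowerSeries.coeff n (e a)) := fun a n => by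
    simp only [e, PowerSeries.coeff_mk]
    rw [← mul_assoc, hfac, Function.iterate_succ_apply', ← Algebra.smul_def, ← Algebra.smul_def, D.map_smul]
  have hunit : ∀ n : ℕ, IsUnit ((n + 1 : ℕ) : A) := fun n => by
    rw [← map_natCast (algebraMap k A) (n + 1)]
    exact (isUnit_iff_ne_zero.2 (Nat.cast_ne_zero.2 (Nat.succ_ne_zero n))).map _
  have he0 : ∀ a, PowerSeries.coeff 0 (e a) = a := fun a => by simp [e]
  have huniq : ∀ P Q : PowerSeries A, PowerSeries.coeff 0 P = PowerSeries.coeff 0 Q →
      (∀ n, ((n + 1 : ℕ) : A) * PowerSeries.coeff (n + 1) P = D (PowerSeries.coeff n P)) →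
      (∀ n, ((n + 1 : ℕ) : A) * PowerSeries.coeff (n + 1) Q = D (PowerSeries.coeff n Q)) → P = Q := by
    intro P Q h0 hP hQ
    refine PowerSeries.ext fun n => ?_
    induction n with
    | zero => exact h0
    | succ n ih => exact (hunit n).mul_left_cancel (by rw [hP, hQ, ih])
  have hadd : ∀ a b, e (a + b) = e a + e b := fun a b => huniq _ _ (by rw [map_add, he0, he0, he0]) (hODE _) fun n => by
    rw [map_add, map_add, map_add, mul_add, hODE, hODE]
  have hd1 : e 1 = 1 := huniq _ _ (by rw [he0]; simp) (hODE _) fun n => by
    rw [PowerSeries.coeff_one, if_neg (Nat.succ_ne_zero n), mul_zero, PowerSeries.coeff_one]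
    split_ifs <;> simp
  have hmul : ∀ a b, e (a * b) = e a * e b := fun a b => huniq _ _ (by
    rw [he0, PowerSeries.coeff_zero_eq_constantCoeff_apply, map_mul, ← PowerSeries.coeff_zero_eq_constantCoeff_apply,
      ← PowerSeries.coeff_zero_eq_constantCoeff_apply, he0, he0]) (hODE _) fun n => by
    have hder : ∀ P : PowerSeries A, ∀ m, ((m + 1 : ℕ) : A) * PowerSeries.coeff (m + 1) P = PowerSeries.coeff m (PowerSeries.derivative A P) := fun P m => by
      rw [PowerSeries.coeff_derivative, mul_comm]
      push_cast
      ring
    rw [hder, Derivation.leibniz, smul_eq_mul, smul_eq_mul, map_add, PowerSeries.coeff_mul, PowerSeries.coeff_mul, PowerSeries.coeff_mul,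
      map_sum]
    simp only [← hder, hODE, Derivation.leibniz, smul_eq_mul, Finset.sum_add_distrib]
    congr 1
    rw [← Finset.Nat.sum_antidiagonal_swap]
    exact Finset.sum_congr rfl fun p _ => rfl
  let E : A →+* PowerSeries A :=
    { toFun := e
      map_one' := hd1
      map_mul' := hmul
      map_zero' := by have := hadd 0 0; rw [add_zero] at this; exact left_eq_add.mp this
      map_add' := hadd }
  let g : A →+* PowerSeries K := (PowerSeries.map ι).comp E
  have hg : ∀ y : nonZeroDivisors A, IsUnit (g y) := fun y => by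
    rw [PowerSeries.isUnit_iff_constantCoeff]
    show IsUnit (PowerSeries.constantCoeff (PowerSeries.map ι (e y)))
    rw [← PowerSeries.coeff_zero_eq_constantCoeff_apply, PowerSeries.coeff_map, he0]
    exact IsLocalization.map_units K y
  let G : K →+* PowerSeries K := IsLocalization.lift hg
  have hG : ∀ a, G (ι a) = PowerSeries.map ι (e a) := fun a => IsLocalization.lift_eq hg a
  have hG0 : ∀ x, PowerSeries.constantCoeff (G x) = x := by
    intro x
    have : PowerSeries.constantCoeff.comp G = RingHom.id K := IsLocalization.ringHom_ext (nonZeroDivisors A) (RingHom.ext fun a => by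
      show PowerSeries.constantCoeff (G (ι a)) = ι a
      rw [hG, ← PowerSeries.coeff_zero_eq_constantCoeff_apply, PowerSeries.coeff_map, he0])
    exact DFunLike.congr_fun this x
  let δ : K → K := fun x => PowerSeries.coeff 1 (G x)
  have hδA : ∀ a, δ (ι a) = ι (D a) := fun a => by
    show PowerSeries.coeff 1 (G (ι a)) = ι (D a)
    rw [hG, PowerSeries.coeff_map]
    simp [e]
  have hδmul : ∀ x y, δ (x * y) = x * δ y + y * δ x := fun x y => by
    show PowerSeries.coeff 1 (G (x * y)) = _
    rw [map_mul, PowerSeries.coeff_one_mul, hG0, hG0]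
    show PowerSeries.coeff 1 (G x) * y + PowerSeries.coeff 1 (G y) * x = x * δ y + y * δ x
    simp only [δ]
    ring
  have hint : ∀ x ∈ integralClosure A K, δ x ∈ integralClosure A K := by
    intro x hx
    have hfg := IsIntegral.fg_adjoin_singleton hx
    obtain ⟨s, hs⟩ := hfg
    obtain ⟨⟨c, hc⟩, hcs⟩ := IsLocalization.exist_integer_multiples_of_finset (nonZeroDivisors A) s
    have hcx : ∀ j : ℕ, ∃ b, ι b = ι c * x ^ j := by
      intro j
      have hmem : x ^ j ∈ Submodule.span A (s : Set K) := hs ▸ pow_mem (Algebra.subset_adjoin (Set.mem_singleton x)) j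
      have hgoal : ∀ z ∈ Submodule.span A (s : Set K), ∃ b, ι b = ι c * z := fun z hz => by
        induction hz using Submodule.span_induction with
        | mem z hz =>
          obtain ⟨b, hb⟩ := hcs z hz
          exact ⟨b, hb.trans (Algebra.smul_def _ _)⟩
        | zero => exact ⟨0, by rw [map_zero, mul_zero]⟩
        | add u v _ _ hu hv =>
          obtain ⟨a, ha⟩ := hu; obtain ⟨b, hb⟩ := hv
          exact ⟨a + b, by rw [map_add, ha, hb, mul_add]⟩
        | smul r u _ hu =>
          obtain ⟨a, ha⟩ := hu
          exact ⟨r * a, by rw [map_mul, ha, Algebra.smul_def]; ring⟩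
      exact hgoal _ hmem
    have hpow : ∀ n : ℕ, ∃ b, ι b = ι (c * c) * δ x ^ n := by
      intro n
      let S := (PowerSeries.map ι).range
      have hZ : PowerSeries.C (ι c) * G (ι c) * (G x + -PowerSeries.C x) ^ n ∈ S := by
        rw [add_pow, Finset.mul_sum]
        refine sum_mem fun j _ => ?_
        obtain ⟨a, ha⟩ := hcx j
        obtain ⟨b, hb⟩ := hcx (n - j)
        have : PowerSeries.C (ι c) * G (ι c) * (G x ^ j * (-PowerSeries.C x) ^ (n - j) * (n.choose j : PowerSeries K)) =
            PowerSeries.map ι (PowerSeries.C b) * PowerSeries.map ι (e a) * ((-1) ^ (n - j) * (n.choose j : PowerSeries K)) := by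
          rw [← hG, ha, map_mul G, map_pow, PowerSeries.map_C, hb, map_mul PowerSeries.C, map_pow, neg_pow]
          ring
        rw [this]
        exact mul_mem (mul_mem ⟨_, rfl⟩ ⟨_, rfl⟩) (mul_mem (pow_mem (neg_mem (one_mem _)) _) (natCast_mem _ _))
      obtain ⟨P, hP⟩ := hZ
      refine ⟨PowerSeries.coeff n P, ?_⟩
      rw [← PowerSeries.coeff_map, hP]
      obtain ⟨q, hq⟩ : PowerSeries.X ∣ (G x + -PowerSeries.C x) := by
        rw [PowerSeries.X_dvd_iff, map_add, hG0, map_neg, PowerSeries.constantCoeff_C, add_neg_cancel]
      have hq0 : PowerSeries.constantCoeff q = δ x := by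
        have h := congrArg (PowerSeries.coeff 1) hq
        rw [PowerSeries.coeff_succ_X_mul, PowerSeries.coeff_zero_eq_constantCoeff_apply] at h
        rw [← h, map_add, map_neg, PowerSeries.coeff_C]
        simp [δ]
      rw [hq, mul_pow, show PowerSeries.C (ι c) * G (ι c) * (PowerSeries.X ^ n * q ^ n) = PowerSeries.X ^ n * (PowerSeries.C (ι c) * G (ι c) * q ^ n) by ring]
      rw [PowerSeries.coeff_X_pow_mul', if_pos le_rfl, Nat.sub_self, PowerSeries.coeff_zero_eq_constantCoeff_apply,
        map_mul, map_mul, map_pow, PowerSeries.constantCoeff_C, hG0, hq0, map_mul]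
    let m : Algebra.adjoin A ({δ x} : Set K) →ₗ[A] K :=
      (LinearMap.mul A K (ι (c * c))) ∘ₗ (Algebra.adjoin A ({δ x} : Set K)).val.toLinearMap
    have hm : LinearMap.range m ≤ LinearMap.range (Algebra.linearMap A K) := by
      rintro _ ⟨⟨z, hz⟩, rfl⟩
      show ι (c * c) * z ∈ _
      rw [Algebra.adjoin_singleton_eq_range_aeval] at hz
      obtain ⟨p, rfl⟩ := hz
      induction p using Polynomial.induction_on' with
      | add p q hp hq => rw [RingHom.map_add, mul_add]; exact add_mem hp hq
      | monomial n r =>
        obtain ⟨b, hb⟩ := hpow n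
        refine ⟨r * b, ?_⟩
        show ι (r * b) = ι (c * c) * Polynomial.aeval (δ x) (Polynomial.monomial n r)
        rw [Polynomial.aeval_monomial, map_mul, hb]
        show ι r * _ = _
        ring
    have hinj : Function.Injective m := fun u v huv => Subtype.ext
      ((IsLocalization.map_units K (⟨c * c, mul_mem hc hc⟩ : nonZeroDivisors A)).mul_left_cancel huv)
    haveI : IsNoetherian A (LinearMap.range m) := isNoetherian_of_le (t := LinearMap.range (Algebra.linearMap A K)) hm
    haveI : Module.Finite A (Algebra.adjoin A ({δ x} : Set K)) := Module.Finite.equiv (LinearEquiv.ofInjective m hinj).symm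
    exact IsIntegral.of_mem_of_fg _ (Module.Finite.iff_fg.1 ‹_›) _ (Algebra.subset_adjoin (Set.mem_singleton _))
  have hδk : ∀ r : k, δ (algebraMap k K r) = 0 := fun r => by
    rw [IsScalarTower.algebraMap_apply k A K, hδA, D.map_algebraMap, map_zero]
  have hδadd : ∀ x y, δ (x + y) = δ x + δ y := fun x y => by simp [δ]
  let D' : Derivation k ↥(integralClosure A K) ↥(integralClosure A K) :=
    { toFun := fun x => ⟨δ x.1, hint x.1 x.2⟩
      map_add' := fun x y => Subtype.ext (hδadd x.1 y.1)
      map_smul' := fun r x => Subtype.ext (by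
        show δ (r • x.1) = r • δ x.1
        rw [Algebra.smul_def, hδmul, hδk, mul_zero, add_zero, Algebra.smul_def])
      map_one_eq_zero' := Subtype.ext (by
        show δ 1 = 0
        have := hδk 1
        rwa [map_one] at this)
      leibniz' := fun x y => Subtype.ext (hδmul x.1 y.1) }
  exact ⟨D', fun a => hδA a⟩

end Groth.Agent.S8738
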