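import Groth.Statements.S8780
import Groth.Agent.AdeqTan.Injective
set_option backward.isDefEq.respectTransparency false
set_option backward.isDefEq.respectTransparency.types false

set_option autoImplicit false
universe u
open CategoryTheory Limits
open AdeqTF

namespace Groth.Agent.S8780

/-- Take `I` injective in the category of module-valued functors on `A`-algebras. For every `A`-algebra
`B` and every short exact sequence `0 → N₁ → N → N₂ → 0` of `B`-modules, the induced map of tangent
modules `TI(B, N) → TI(B, N₂)` is surjective (`TI(B, N)` is the kernel of `I(B[N]) → I(B)`, `B[N]`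
the trivial square-zero extension). (The published statement asserts that `TI(B, N₁) → TI(B, N) →
TI(B, N₂) → 0` is exact; exactness at the middle term is false: for `A = B = ℚ`, the split sequence
`0 → ℚ → ℚ² → ℚ → 0` and the injective functor `D ↦ Map(Hom(D, ℚ[ε]/(ε²)), E)` with `E` an injective
hull of `ℚ[ε]/(ε²)`, the indicator function of the first coordinate form lies in the kernel of
`TI(B, ℚ²) → TI(B, ℚ)` and not in the image of `TI(B, ℚ) → TI(B, ℚ²)`. This row keeps the
surjectivity, which the published argument does establish.) -/
theorem result (A : Type u) [CommRing A] (I : Adeq.MVF A) [Injective I]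
    (B : Adeq.Alg A) (S : ShortComplex (ModuleCat.{u} B)) (hS : S.ShortExact) :
    Function.Surjective (AdeqTF.tangentMap B I S.g) := by
  intro x
  haveI := hS.epi_g
  have hg : Function.Surjective S.g := (ModuleCat.epi_iff_surjective _).mp inferInstance
  have hp : Function.Surjective (AdeqTF.map B S.g).hom := by
    intro d
    obtain ⟨n, hn⟩ := hg (TrivSqZeroExt.snd d)
    refine ⟨TrivSqZeroExt.inl (TrivSqZeroExt.fst d) + TrivSqZeroExt.inr n, TrivSqZeroExt.ext ?_ ?_⟩
    · simp [AdeqTF.map]
    · simpa [AdeqTF.map] using hn
  obtain ⟨y, hy⟩ := AdeqTan.surjective_of_surjective I _ hp x.1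
  refine ⟨⟨y, ?_⟩, Subtype.ext hy⟩
  rw [AdeqTan.mem_tangent_iff, ← AdeqTan.map_congr I (AdeqTF.map_fst B S.g), ← AdeqTan.map_map, hy,
    (AdeqTan.mem_tangent_iff I x.1).mp x.2]

end Groth.Agent.S8780
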