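import Groth.Statements.S8781
import Groth.Agent.AdeqTan.Basic
set_option backward.isDefEq.respectTransparency false
set_option backward.isDefEq.respectTransparency.types false

set_option autoImplicit false
universe u
open CategoryTheory Limits
open AdeqTF

namespace Groth.Agent.S8781

/-- Say a module-valued functor `F` on `A`-algebras has right exact tangent functors if for every
`A`-algebra `B` and every short exact sequence `0 → N₁ → N → N₂ → 0` of `B`-modules the sequence
`TF(B, N₁) → TF(B, N) → TF(B, N₂) → 0` is exact. If `0 → F → G → H → 0` is a short exact sequence of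
module-valued functors and `F`, `G` have right exact tangent functors, so does `H`. -/
theorem result (A : Type u) [CommRing A] (C : ShortComplex (Adeq.MVF A))
    (hC : C.ShortExact)
    (h₁ : (∀ (B : Adeq.Alg A) (S : ShortComplex (ModuleCat.{u} B)), S.ShortExact →
        Function.Surjective (AdeqTF.tangentMap B C.X₁ S.g) ∧
          (AdeqTF.tangentMap B C.X₁ S.g).ker = (AdeqTF.tangentMap B C.X₁ S.f).range))
    (h₂ : (∀ (B : Adeq.Alg A) (S : ShortComplex (ModuleCat.{u} B)), S.ShortExact →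
        Function.Surjective (AdeqTF.tangentMap B C.X₂ S.g) ∧
          (AdeqTF.tangentMap B C.X₂ S.g).ker = (AdeqTF.tangentMap B C.X₂ S.f).range)) :
    (∀ (B : Adeq.Alg A) (S : ShortComplex (ModuleCat.{u} B)), S.ShortExact →
        Function.Surjective (AdeqTF.tangentMap B C.X₃ S.g) ∧
          (AdeqTF.tangentMap B C.X₃ S.g).ker = (AdeqTF.tangentMap B C.X₃ S.f).range) := by
  intro B S hS
  obtain ⟨hs₁, -⟩ := h₁ B S hS
  obtain ⟨hs₂, hk₂⟩ := h₂ B S hS
  have hzero : ∀ (F : Adeq.MVF A) w, AdeqTF.tangentMap B F S.g (AdeqTF.tangentMap B F S.f w) = 0 := fun F w => by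
    rw [AdeqTan.tangentMap_comp, S.zero, AdeqTan.tangentMap_zero]
  refine ⟨fun z => ?_, le_antisymm (fun z hz => ?_) ?_⟩
  · obtain ⟨y, rfl⟩ := AdeqTan.tApp_surjective hC B S.X₃ z
    obtain ⟨y', rfl⟩ := hs₂ y
    exact ⟨AdeqTan.tApp C.g B S.X₂ y', (AdeqTan.tApp_nat C.g S.g y').symm⟩
  · obtain ⟨y, rfl⟩ := AdeqTan.tApp_surjective hC B S.X₂ z
    rw [AddMonoidHom.mem_ker, ← AdeqTan.tApp_nat] at hz
    obtain ⟨a, ha⟩ := (AdeqTan.tApp_exact hC B S.X₃ _).mp hz
    obtain ⟨a', rfl⟩ := hs₁ a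
    have hy : y - AdeqTan.tApp C.f B S.X₂ a' ∈ (AdeqTF.tangentMap B C.X₂ S.g).ker := by
      rw [AddMonoidHom.mem_ker, map_sub, ← AdeqTan.tApp_nat, ha, sub_self]
    rw [hk₂] at hy
    obtain ⟨w, hw⟩ := hy
    refine ⟨AdeqTan.tApp C.g B S.X₁ w, ?_⟩
    rw [← AdeqTan.tApp_nat, hw, map_sub, (AdeqTan.tApp_exact hC B S.X₂).apply_apply_eq_zero, sub_zero]
  · rintro _ ⟨w, rfl⟩
    exact hzero _ w

end Groth.Agent.S8781
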