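import Groth.Statements.S8782
import Groth.Agent.AdeqTan.Basic
set_option backward.isDefEq.respectTransparency false
set_option backward.isDefEq.respectTransparency.types false

set_option autoImplicit false
universe u
open CategoryTheory Limits
open AdeqTF

namespace Groth.Agent.S8782

/-- If `0 → F → G → H → 0` is a short exact sequence of module-valued functors on `A`-algebras and `F`,
`H` have right exact tangent functors (for every `A`-algebra `B` and short exact `0 → N₁ → N → N₂ →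
0` of `B`-modules, `T(B, N₁) → T(B, N) → T(B, N₂) → 0` is exact), so does `G`. -/
theorem result (A : Type u) [CommRing A] (C : ShortComplex (Adeq.MVF A))
    (hC : C.ShortExact)
    (h₁ : (∀ (B : Adeq.Alg A) (S : ShortComplex (ModuleCat.{u} B)), S.ShortExact →
        Function.Surjective (AdeqTF.tangentMap B C.X₁ S.g) ∧
          (AdeqTF.tangentMap B C.X₁ S.g).ker = (AdeqTF.tangentMap B C.X₁ S.f).range))
    (h₃ : (∀ (B : Adeq.Alg A) (S : ShortComplex (ModuleCat.{u} B)), S.ShortExact →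
        Function.Surjective (AdeqTF.tangentMap B C.X₃ S.g) ∧
          (AdeqTF.tangentMap B C.X₃ S.g).ker = (AdeqTF.tangentMap B C.X₃ S.f).range)) :
    (∀ (B : Adeq.Alg A) (S : ShortComplex (ModuleCat.{u} B)), S.ShortExact →
        Function.Surjective (AdeqTF.tangentMap B C.X₂ S.g) ∧
          (AdeqTF.tangentMap B C.X₂ S.g).ker = (AdeqTF.tangentMap B C.X₂ S.f).range) := by
  intro B S hS
  obtain ⟨hs₁, hk₁⟩ := h₁ B S hS
  obtain ⟨hs₃, hk₃⟩ := h₃ B S hS
  have hzero : ∀ (F : Adeq.MVF A) w, AdeqTF.tangentMap B F S.g (AdeqTF.tangentMap B F S.f w) = 0 := fun F w => by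
    rw [AdeqTan.tangentMap_comp, S.zero, AdeqTan.tangentMap_zero]
  refine ⟨fun y => ?_, le_antisymm (fun y hy => ?_) ?_⟩
  · obtain ⟨z, hz⟩ := hs₃ (AdeqTan.tApp C.g B S.X₃ y)
    obtain ⟨y', rfl⟩ := AdeqTan.tApp_surjective hC B S.X₂ z
    have h : AdeqTan.tApp C.g B S.X₃ (y - AdeqTF.tangentMap B C.X₂ S.g y') = 0 := by
      rw [map_sub, AdeqTan.tApp_nat, hz, sub_self]
    obtain ⟨a, ha⟩ := (AdeqTan.tApp_exact hC B S.X₃ _).mp h
    obtain ⟨a', rfl⟩ := hs₁ a
    refine ⟨y' + AdeqTan.tApp C.f B S.X₂ a', ?_⟩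
    rw [map_add, ← AdeqTan.tApp_nat, ha]
    abel
  · rw [AddMonoidHom.mem_ker] at hy
    have hz : AdeqTan.tApp C.g B S.X₂ y ∈ (AdeqTF.tangentMap B C.X₃ S.g).ker := by
      rw [AddMonoidHom.mem_ker, ← AdeqTan.tApp_nat, hy, map_zero]
    rw [hk₃] at hz
    obtain ⟨z, hz⟩ := hz
    obtain ⟨w, rfl⟩ := AdeqTan.tApp_surjective hC B S.X₁ z
    have h : AdeqTan.tApp C.g B S.X₂ (y - AdeqTF.tangentMap B C.X₂ S.f w) = 0 := by
      rw [map_sub, AdeqTan.tApp_nat, hz, sub_self]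
    obtain ⟨a, ha⟩ := (AdeqTan.tApp_exact hC B S.X₂ _).mp h
    have hga : a ∈ (AdeqTF.tangentMap B C.X₁ S.g).ker := by
      rw [AddMonoidHom.mem_ker]
      apply AdeqTan.tApp_injective hC B S.X₃
      rw [AdeqTan.tApp_nat, ha, map_sub, hy, hzero, sub_zero, map_zero]
    rw [hk₁] at hga
    obtain ⟨c, rfl⟩ := hga
    refine ⟨w + AdeqTan.tApp C.f B S.X₁ c, ?_⟩
    rw [map_add, ← AdeqTan.tApp_nat, ha]
    abel
  · rintro _ ⟨w, rfl⟩
    exact hzero _ w

end Groth.Agent.S8782
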