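import Groth.Statements.S8783
import Groth.Agent.AdeqTan.Basic
set_option backward.isDefEq.respectTransparency false
set_option backward.isDefEq.respectTransparency.types false

set_option autoImplicit false
universe u
open CategoryTheory Limits
open AdeqTF

namespace Groth.Agent.S8783

/-- Let `F` be a module-valued functor on `A`-algebras with right exact tangent functors (for every
`A`-algebra `B` and short exact `0 → N₁ → N → N₂ → 0` of `B`-modules, `TF(B, N₁) → TF(B, N) → TF(B,
N₂) → 0` is exact). Then `TF(B, N₁ ⊕ N₂) = TF(B, N₁) ⊕ TF(B, N₂)`: the map from the product induced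
by the two inclusions is bijective. -/
theorem result (A : Type u) [CommRing A] (F : Adeq.MVF A)
    (hF : (∀ (B : Adeq.Alg A) (S : ShortComplex (ModuleCat.{u} B)), S.ShortExact →
        Function.Surjective (AdeqTF.tangentMap B F S.g) ∧
          (AdeqTF.tangentMap B F S.g).ker = (AdeqTF.tangentMap B F S.f).range))
    (B : Adeq.Alg A) (N₁ N₂ : ModuleCat.{u} B) :
    Function.Bijective ((AdeqTF.tangentMap B F (biprod.inl : N₁ ⟶ N₁ ⊞ N₂)).coprod
      (AdeqTF.tangentMap B F (biprod.inr : N₂ ⟶ N₁ ⊞ N₂))) := by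
  let S : ShortComplex (ModuleCat.{u} B) := ShortComplex.mk (biprod.inl : N₁ ⟶ N₁ ⊞ N₂) biprod.snd biprod.inl_snd
  have hS : S.ShortExact := (ShortComplex.Splitting.ofHasBinaryBiproduct N₁ N₂).shortExact
  obtain ⟨-, hk⟩ := hF B S hS
  constructor
  · rw [injective_iff_map_eq_zero]
    rintro ⟨x, y⟩ h
    rw [AddMonoidHom.coprod_apply] at h
    have h1 := congrArg (AdeqTF.tangentMap B F (biprod.fst : N₁ ⊞ N₂ ⟶ N₁)) h
    have h2 := congrArg (AdeqTF.tangentMap B F (biprod.snd : N₁ ⊞ N₂ ⟶ N₂)) h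
    rw [map_add, map_zero, AdeqTan.tangentMap_comp, AdeqTan.tangentMap_comp, biprod.inl_fst, biprod.inr_fst,
      AdeqTan.tangentMap_id, AdeqTan.tangentMap_zero, add_zero] at h1
    rw [map_add, map_zero, AdeqTan.tangentMap_comp, AdeqTan.tangentMap_comp, biprod.inl_snd, biprod.inr_snd,
      AdeqTan.tangentMap_id, AdeqTan.tangentMap_zero, zero_add] at h2
    exact Prod.ext h1 h2
  · intro z
    have hz : z - AdeqTF.tangentMap B F biprod.inr (AdeqTF.tangentMap B F (biprod.snd : N₁ ⊞ N₂ ⟶ N₂) z) ∈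
        (AdeqTF.tangentMap B F S.g).ker := by
      rw [AddMonoidHom.mem_ker, map_sub]
      change AdeqTF.tangentMap B F biprod.snd z - AdeqTF.tangentMap B F biprod.snd _ = 0
      rw [AdeqTan.tangentMap_comp, biprod.inr_snd, AdeqTan.tangentMap_id, sub_self]
    rw [hk] at hz
    obtain ⟨x, hx⟩ := hz
    refine ⟨(x, AdeqTF.tangentMap B F biprod.snd z), ?_⟩
    rw [AddMonoidHom.coprod_apply]
    change AdeqTF.tangentMap B F S.f x + _ = z
    rw [hx, sub_add_cancel]

end Groth.Agent.S8783
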