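import Groth.Statements.S8792
import Groth.Agent.FaltingsAnnLib.Bootstrap

set_option autoImplicit false
set_option linter.style.haveILetI false
set_option backward.isDefEq.respectTransparency false
universe u
open CategoryTheory
attribute [local instance] HasDerivedCategory.standard
open LocCoh
open Groth.Agent.FaltingsAnnLib
open Groth.Agent

namespace Groth.Agent.S8792

/-- Let A be a Noetherian ring with a dualizing complex, I and J ideals, M a finite A-module, s and d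
naturals, and T the set of primes p with V(p) ∩ V(I) ⊆ V(J). Assume: (3) every prime p ∉ V(I) lying
in T admits some q ∈ V(p) ∩ V(J) ∩ V(I) with dim((A/p)_q) ≤ d; (4) every prime p ∉ V(I) not in T has
depth(M_p) ≥ s or depth(M_p) + dim((A/p)_q) > d + s for all q ∈ V(p) ∩ V(J) ∩ V(I); (6) every prime
p ∉ V(I) lying in T has depth(M_p) > s. Then there is an ideal J₀ ⊆ J with V(J₀) ∩ V(I) = V(J) ∩
V(I) such that for every J' ⊆ J₀ with V(J') ∩ V(I) = V(J) ∩ V(I) and every i ≤ s the comparison map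
H^i_{J₀}(M) → H^i_{J'}(M) is bijective and H^i_{J₀}(M) is annihilated by a power of J₀I for i ≤ s;
moreover for i ≤ s the comparison maps H^i_J(M) → H^i_{J₀}(M) and H^i_{J+I}(M) → H^i_J(M) are
bijective and H^i_J(M) is annihilated by a power of I. -/
theorem result (A : Type u) [CommRing A] [IsNoetherianRing A] (hdc : ∃ ω : Dual.D A, Dual.IsDualizing A ω) (I J : Ideal A) (M : Type u) [AddCommGroup M] [Module A M] [Module.Finite A M] (s d : ℕ) (T : Set (PrimeSpectrum A)) (hT : ∀ p : PrimeSpectrum A, p ∈ T ↔ ∀ q : PrimeSpectrum A, p ≤ q → I ≤ q.asIdeal → J ≤ q.asIdeal) (h3 : ∀ p : PrimeSpectrum A, ¬ I ≤ p.asIdeal → p ∈ T → ∃ q : PrimeSpectrum A, p ≤ q ∧ J ≤ q.asIdeal ∧ I ≤ q.asIdeal ∧ Formal2.dimBetween A p.asIdeal q.asIdeal ≤ ((d : ℕ∞) : WithBot ℕ∞)) (h4 : ∀ p : PrimeSpectrum A, ¬ I ≤ p.asIdeal → p ∉ T → ∀ q : PrimeSpectrum A, p ≤ q → J ≤ q.asIdeal → I ≤ q.asIdeal → (s : ℕ∞) ≤ LocCoh.depth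 (Localization.AtPrime p.asIdeal) (LocalizedModule p.asIdeal.primeCompl M) ∨ (((d + s : ℕ) : ℕ∞) : WithBot ℕ∞) < ((LocCoh.depth (Localization.AtPrime p.asIdeal) (LocalizedModule p.asIdeal.primeCompl M) : ℕ∞) : WithBot ℕ∞) + Formal2.dimBetween A p.asIdeal q.asIdeal) (h6 : ∀ p : PrimeSpectrum A, ¬ I ≤ p.asIdeal → p ∈ T → (s : ℕ∞) < LocCoh.depth (Localization.AtPrime p.asIdeal) (LocalizedModule p.asIdeal.primeCompl M)) : ∃ (J₀ : Ideal A) (hJ₀ : J₀ ≤ J), (J₀ ≤ J ∧ PrimeSpectrum.zeroLocus ((J₀ : Ideal A) : Set A) ∩ PrimeSpectrum.zeroLocus ((I : Ideal A) : Set A) = PrimeSpectrum.zeroLocus ((J : Ideal A) : Set A) ∩ PrimeSpectrum.zeroLocus ((I : Ideal A) : Set A) ∧ (∀ (J' : Ideal A) (hJ' : J' ≤ J₀), PrimeSpectrum.zeroLocus ((J' : Ideal A) : Set A) ∩ PrimeSpectrum.zeroLocus ((I : Ideal A) : Set A) = PrimeSpectrum.zeroLocus ((J : Ideal A) : Set A) ∩ PrimeSpectrum.zeroLocus ((I : Ideal A) : Set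 A) → ∀ i : ℕ, i ≤ s → Function.Bijective ((Dual2.HmapOfLE hJ' i).app (ModuleCat.of A M)).hom) ∧ (∃ n : ℕ, ∀ a ∈ (J₀ * I) ^ n, ∀ i : ℕ, i ≤ s → ∀ x : LocCoh.H J₀ i M, a • x = 0)) ∧ (∀ i : ℕ, i ≤ s → Function.Bijective ((Dual2.HmapOfLE hJ₀ i).app (ModuleCat.of A M)).hom ∧ Function.Bijective ((Dual2.HmapOfLE (le_sup_left : J ≤ J ⊔ I) i).app (ModuleCat.of A M)).hom) ∧ ∃ n : ℕ, ∀ a ∈ I ^ n, ∀ i : ℕ, i ≤ s → ∀ x : LocCoh.H J i M, a • x = 0 := by
  obtain ⟨ω, hω⟩ := hdc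
  obtain ⟨S, hS⟩ := exists_injRep_eq (Dual.inD A M) 0
  have hI' : StableUnderSpecialization (PrimeSpectrum.zeroLocus (I : Set A)) :=
    (PrimeSpectrum.isClosed_zeroLocus _).stableUnderSpecialization
  obtain ⟨Q, hQ, hQk⟩ := (annihilator_module T ⟨ω, hω⟩ (stable_T hT) hI' s M S hS).2 fun p q hp hq hpq => by
    have hpI : ¬ I ≤ p.asIdeal := fun h => hp ((PrimeSpectrum.mem_zeroLocus _ _).2 h)
    by_cases hpT : p ∈ T
    · rw [show (s : WithBot ℕ∞) = ((s : ℕ∞) : WithBot ℕ∞) from rfl, krullDim_Icc_eq hω hpq, lt_add_coe_iff]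
      exact lt_of_lt_of_le (h6 p hpI hpT) le_self_add
    · exact crit_outside hω hT h3 h4 p q hpI hpT hq hpq
  have hk : ∀ g ∈ J ⊔ I, ∀ j ≤ (s : ℤ), ∀ x : HYT S.E T j, ∃ n : ℕ, g ^ n • x = 0 := fun g hg j hj x =>
    pow_kill S hS hQk (fun p hp hQp => by
      have hIp : I ≤ p.asIdeal := (PrimeSpectrum.mem_zeroLocus _ _).1 (hQ ((PrimeSpectrum.mem_zeroLocus _ _).2 hQp))
      exact sup_le (le_of_mem_T hT hp hIp) hIp hg) j hj x
  have hk₀ : ∀ g ∈ J, ∀ j ≤ (s : ℤ), ∀ x : HYT S.E T j, ∃ n : ℕ, g ^ n • x = 0 := fun g hg => hk g (le_sup_left (α := Ideal A) hg)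
  have hJT := zeroLocus_subset_T hT (J' := J) rfl
  obtain ⟨n, hn⟩ := Ideal.exists_pow_le_of_le_radical_of_fg (show I ≤ Q.radical by
    rw [← PrimeSpectrum.vanishingIdeal_zeroLocus_eq_radical]
    exact (PrimeSpectrum.subset_zeroLocus_iff_le_vanishingIdeal _ _).1 hQ) (IsNoetherian.noetherian I)
  have hkill : ∀ a ∈ I ^ n, ∀ i : ℕ, i ≤ s → ∀ x : LocCoh.H J i M, a • x = 0 := fun a ha i hi =>
    smul_H_eq_zero S hJT (bijective_inclT_zeroLocus S.inj J hJT hk₀ (by exact_mod_cast hi)) (hQk i hi a (hn ha))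
  exact ⟨J, le_rfl, ⟨le_rfl, rfl, fun J' hJ' hV' i hi =>
      bijective_HmapOfLE S hJ' (by exact_mod_cast hi) (zeroLocus_subset_T hT hV') hk₀,
    n, fun a ha => hkill a (Ideal.pow_right_mono Ideal.mul_le_right n ha)⟩,
    fun i hi => ⟨bijective_HmapOfLE S le_rfl (by exact_mod_cast hi) hJT hk₀,
      bijective_HmapOfLE S le_sup_left (by exact_mod_cast hi) hJT hk⟩, n, hkill⟩

end Groth.Agent.S8792
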