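import Groth.Statements.S8799
import Groth.Agent.LocCohLib.MaxIdeal

set_option autoImplicit false
set_option backward.isDefEq.respectTransparency false
universe u
open CategoryTheory Opposite
open LocCoh

namespace Groth.Agent.S8799

open Opposite

variable {A : Type u} [CommRing A]

theorem isEssConstant_of_artinian (G : ℕᵒᵖ ⥤ ModuleCat.{u} A) (H : ModuleCat.{u} A) [IsArtinian A H]
    (hart : ∀ n, IsArtinian A (G.obj (op n))) (c : (Functor.const ℕᵒᵖ).obj H ⟶ G)
    (hinj : ∀ x : H, (∀ n : ℕᵒᵖ, c.app n x = 0) → x = 0)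
    (hsurj : ∀ y : (∀ n : ℕ, G.obj (op n)), (∀ (n m : ℕ) (h : n ≤ m), G.map (homOfLE h).op (y m) = y n) →
      ∃ x : H, ∀ n : ℕ, c.app (op n) x = y n) : DerCA.IsEssConstant G H c := by
  let tr : ∀ {n m : ℕ}, n ≤ m → (G.obj (op m) →ₗ[A] G.obj (op n)) := fun h => (G.map (homOfLE h).op).hom
  have tcomp : ∀ {n m k : ℕ} (h : n ≤ m) (h' : m ≤ k) (z : G.obj (op k)), tr h (tr h' z) = tr (h.trans h') z :=
    fun h h' z => congr($((G.map_comp (homOfLE h').op (homOfLE h).op).symm).hom z)
  have tc : ∀ {n m : ℕ} (h : n ≤ m) (x : H), tr h (c.app (op m) x) = c.app (op n) x :=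
    fun h x => (congr($(c.naturality (homOfLE h).op).hom x)).symm
  -- the stable images
  have hst : ∀ n : ℕ, ∃ N : ℕ, ∃ h : n ≤ N, ∀ k (hk : N ≤ k), LinearMap.range (tr (h.trans hk)) = LinearMap.range (tr h) := by
    intro n
    haveI := hart n
    let f : ℕ →o (Submodule A (G.obj (op n)))ᵒᵈ :=
      ⟨fun j => OrderDual.toDual (LinearMap.range (tr (Nat.le_add_right n j))), fun a b hab => by
        show LinearMap.range _ ≤ LinearMap.range _
        rintro _ ⟨z, rfl⟩
        exact ⟨tr (Nat.add_le_add_left hab n) z, tcomp _ _ _⟩⟩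
    obtain ⟨j, hj⟩ := IsArtinian.monotone_stabilizes f
    refine ⟨n + j, Nat.le_add_right n j, fun k hk => ?_⟩
    obtain ⟨l, rfl⟩ : ∃ l, k = n + l := ⟨k - n, by omega⟩
    exact (congrArg OrderDual.ofDual (hj l (by omega))).symm
  choose N hN hNst using hst
  -- elements of the stable images come from the limit
  have himg : ∀ n (e : G.obj (op n)), e ∈ LinearMap.range (tr (hN n)) → ∃ x : H, c.app (op n) x = e := by
    intro n e he
    have hlift : ∀ (m : ℕ) (w : {w : G.obj (op (n + m)) // w ∈ LinearMap.range (tr (hN (n + m)))}),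
        ∃ w' : {w : G.obj (op (n + (m + 1))) // w ∈ LinearMap.range (tr (hN (n + (m + 1))))},
          tr (Nat.le_succ (n + m)) w'.1 = w.1 := by
      rintro m ⟨w, hw⟩
      let k := max (N (n + m)) (N (n + (m + 1)))
      rw [← hNst (n + m) k (le_max_left _ _)] at hw
      obtain ⟨z, hz⟩ := hw
      refine ⟨⟨tr ((hN (n + (m + 1))).trans (le_max_right _ _)) z, ?_⟩, ?_⟩
      · rw [← hNst (n + (m + 1)) k (le_max_right _ _)]
        exact ⟨z, rfl⟩
      · exact (tcomp _ _ _).trans hz
    choose L hL using hlift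
    let w : ∀ m : ℕ, {w : G.obj (op (n + m)) // w ∈ LinearMap.range (tr (hN (n + m)))} :=
      fun m => Nat.rec ⟨e, he⟩ L m
    have hw : ∀ (a b : ℕ) (h : a ≤ b), tr (Nat.add_le_add_left h n) (w b).1 = (w a).1 := by
      intro a b h
      induction b, h using Nat.le_induction with
      | base => exact congr($(G.map_id (op (n + a))).hom (w a).1)
      | succ b h ih =>
        refine ((tcomp (Nat.add_le_add_left h n) (Nat.le_succ (n + b)) _).symm).trans ?_
        exact (congrArg _ (hL b (w b))).trans ih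
    obtain ⟨x, hx⟩ := hsurj (fun m => tr (Nat.le_add_left m n) (w m).1) fun a b hab => by
      show tr hab (tr _ (w b).1) = tr _ (w a).1
      rw [← hw a b hab, tcomp, tcomp]
    exact ⟨x, (hx n).trans (hw 0 n (Nat.zero_le n))⟩
  -- the kernels stabilize at zero
  let K : ℕ →o (Submodule A H)ᵒᵈ := ⟨fun n => OrderDual.toDual (LinearMap.ker (c.app (op n)).hom), fun a b hab => by
    show LinearMap.ker _ ≤ LinearMap.ker _
    intro x hx
    rw [LinearMap.mem_ker] at hx ⊢
    exact (tc hab x).symm.trans ((congrArg _ hx).trans (map_zero _))⟩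
  obtain ⟨n₀, hn₀⟩ := IsArtinian.monotone_stabilizes K
  have hc : Function.Injective (c.app (op n₀)).hom := (injective_iff_map_eq_zero _).2 fun x hx => hinj x fun n => by
    obtain ⟨n⟩ := n
    rcases le_total n n₀ with h | h
    · exact (tc h x).symm.trans ((congrArg _ hx).trans (map_zero _))
    · have := congrArg OrderDual.ofDual (hn₀ n h)
      exact (SetLike.ext_iff.1 this x).1 hx
  let i := N n₀
  have hmem : ∀ z : G.obj (op i), tr (hN n₀) z ∈ LinearMap.range (c.app (op n₀)).hom := fun z =>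
    himg n₀ _ ⟨z, rfl⟩
  let e := LinearEquiv.ofInjective (c.app (op n₀)).hom hc
  let s : G.obj (op i) →ₗ[A] H := e.symm.toLinearMap ∘ₗ (tr (hN n₀)).codRestrict _ hmem
  have hs : ∀ (z : G.obj (op i)) (x : H), tr (hN n₀) z = c.app (op n₀) x → s z = x := fun z x h => by
    apply e.injective
    show e (e.symm _) = e x
    rw [e.apply_symm_apply]
    exact Subtype.ext h
  refine ⟨i, ModuleCat.ofHom s, ModuleCat.hom_ext (LinearMap.ext fun x => hs _ x (tc _ x)), fun j => ?_⟩
  let m := max j n₀
  let k := max (N m) i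
  refine ⟨k, le_max_right _ _, ((le_max_left j n₀).trans (hN m)).trans (le_max_left _ _), ModuleCat.hom_ext (LinearMap.ext fun z => ?_)⟩
  obtain ⟨x, hx⟩ := himg m (tr ((hN m).trans (le_max_left _ _)) z)
    (hNst m k (le_max_left _ _) ▸ ⟨z, rfl⟩)
  have h1 : s (tr (le_max_right (N m) i) z) = x := hs _ x (by
    rw [tcomp, ← tc (le_max_right j n₀) x]
    show _ = tr _ (c.app (op m) x)
    rw [hx, tcomp])
  show tr _ z = c.app (op j) (s (tr _ z))
  rw [h1, ← tc (le_max_left j n₀) x]
  show _ = tr _ (c.app (op m) x)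
  rw [hx, tcomp]

/-- Let (A, m) be a Noetherian local ring, (M_n) an inverse system of finite A-modules, and M a finite
A-module with a compatible system of maps M → M_n. Suppose that for some i the induced map H^i_m(M)
→ lim H^i_m(M_n) on local cohomology is bijective, in the sense that an element of H^i_m(M)
vanishing in every H^i_m(M_n) is zero and every compatible family in the H^i_m(M_n) comes from
H^i_m(M). We conclude that, taking the cone formed by the given maps, essential constancy holds for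
the local cohomology system (H^i_m(M_n))_n, and the value it stabilizes at is H^i_m(M). -/
theorem result (A : Type u) [CommRing A] [IsNoetherianRing A] [IsLocalRing A] (Msys : ℕᵒᵖ ⥤ ModuleCat.{u} A) (hfin : ∀ n : ℕᵒᵖ, Module.Finite A (Msys.obj n)) (M : Type u) [AddCommGroup M] [Module A M] [Module.Finite A M] (c : (Functor.const ℕᵒᵖ).obj (ModuleCat.of A M) ⟶ Msys) (i : ℕ) (Hc : (Functor.const ℕᵒᵖ).obj ((localCohomology (IsLocalRing.maximalIdeal A) i).obj (ModuleCat.of A M)) ⟶ Msys ⋙ localCohomology (IsLocalRing.maximalIdeal A) i) (hHc : ∀ n : ℕᵒᵖ, Hc.app n = (localCohomology (IsLocalRing.maximalIdeal A) i).map (c.app n)) (hinj : ∀ x : (localCohomology (IsLocalRing.maximalIdeal A) i).obj (ModuleCat.of A M), (∀ n : ℕᵒᵖ, (Hc.app n) x = 0) → x = 0) (hsurj : ∀ y : (∀ n : ℕ, (localCohomology (IsLocalRing.maximalIdeal A) i).obj (Msys.obj (op n))), (∀ (n m : ℕ) (h : n ≤ m), ((localCohomology (IsLocalRing.maximalIdeal A) i).map (Msys.map (homOfLE h).op)) (y m) = y n) → ∃ x : (localCohomology (IsLocalRing.maximalIdeal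 A) i).obj (ModuleCat.of A M), ∀ n : ℕ, (Hc.app (op n)) x = y n) : DerCA.IsEssConstant (Msys ⋙ localCohomology (IsLocalRing.maximalIdeal A) i) ((localCohomology (IsLocalRing.maximalIdeal A) i).obj (ModuleCat.of A M)) Hc := by
  haveI : IsArtinian A ((localCohomology (IsLocalRing.maximalIdeal A) i).obj (ModuleCat.of A M) : Type u) :=
    LocCohLib.isArtinian_H i M
  exact isEssConstant_of_artinian (Msys ⋙ localCohomology (IsLocalRing.maximalIdeal A) i) _
    (fun n => by haveI := hfin (Opposite.op n); exact LocCohLib.isArtinian_H i (Msys.obj (Opposite.op n) : Type u))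
    Hc hinj hsurj

end Groth.Agent.S8799
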