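import Groth.Statements.S8801
import Mathlib
import Groth.Agent.PairHens.Fp
import Groth.Agent.AdicCongr.Basic
-- import your own Groth.Agent.* helpers here

set_option autoImplicit false
universe u
open AdicRing

namespace Groth.Agent.S8801

/-- Let A be a Noetherian ring and I an ideal. Let C be an A-algebra of finite type and Cʰ a
henselization of the pair (C, IC), viewed as an A-algebra through C, and let J be an ideal of Cʰ.
Then there is an A-algebra B of finite type whose IB-adic completion is isomorphic as an A-algebra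
to the I(Cʰ/J)-adic completion of Cʰ/J (existence of an isomorphism only; the published statement
names no particular map). -/
theorem result (A : Type u) [CommRing A] [IsNoetherianRing A] (I : Ideal A) (C : Type u) [CommRing C] [Algebra A C] [Algebra.FiniteType A C] (Ch : Type u) [CommRing Ch] [Algebra C Ch] [Algebra A Ch] [IsScalarTower A C Ch] (hCh : Hens2.IsPairHenselization C (I.map (algebraMap A C)) Ch) (J : Ideal Ch) : ∃ (B : Type u) (_ : CommRing B) (_ : Algebra A B), Algebra.FiniteType A B ∧ Nonempty (AdicCompletion (I.map (algebraMap A B)) B ≃ₐ[A] AdicCompletion (I.map (algebraMap A (Ch ⧸ J))) (Ch ⧸ J)) := by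
  classical
  haveI : IsNoetherianRing C := Algebra.FiniteType.isNoetherianRing A C
  haveI : IsNoetherianRing Ch := Groth.Agent.PairHens.isNoetherianRing_of_isPairHenselization hCh
  obtain ⟨G, hG⟩ := IsNoetherian.noetherian J
  obtain ⟨C', _, _, _, hbij, ψ, hψ⟩ := Groth.Agent.PairHens.exists_nbhd_finset hCh G
  letI : Algebra C' Ch := ψ.toRingHom.toAlgebra
  haveI : IsScalarTower C C' Ch := .of_algebraMap_eq fun x => (ψ.commutes x).symm
  letI : Algebra A C' := ((algebraMap C C').comp (algebraMap A C)).toAlgebra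
  haveI : IsScalarTower A C C' := .of_algebraMap_eq fun _ => rfl
  haveI : Algebra.FiniteType A C' :=
    Algebra.FiniteType.trans (S := C) inferInstance inferInstance
  have hC' := Groth.Agent.PairHens.isPairHenselization_nbhd hCh hbij
  rw [Ideal.map_map, ← IsScalarTower.algebraMap_eq] at hC'
  choose y hy using fun x : {x // x ∈ G} => hψ x.2
  let K : Ideal C' := Ideal.span (Set.range y)
  have hK : K.map ψ.toRingHom = J := by
    rw [Ideal.map_span, ← Set.range_comp, ← hG, ← Subtype.range_coe (s := (G : Set Ch))]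
    congr 2
    funext x
    exact hy x
  have hψA : ∀ a, ψ (algebraMap A C' a) = algebraMap A Ch a := fun a => by
    show ψ (algebraMap C C' (algebraMap A C a)) = _
    rw [ψ.commutes, ← IsScalarTower.algebraMap_apply]
  let ψA : C' →ₐ[A] Ch := { toRingHom := ψ.toRingHom, commutes' := hψA }
  let φ : C' ⧸ K →ₐ[A] Ch ⧸ J := Ideal.quotientMapₐ J ψA (Ideal.map_le_iff_le_comap.1 hK.le)
  have hIJ : (I.map (algebraMap A (C' ⧸ K))).map φ.toRingHom = I.map (algebraMap A (Ch ⧸ J)) := by
    rw [Ideal.map_map]
    exact congrArg (I.map ·) (RingHom.ext φ.commutes)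
  have hpow : ∀ n, (I.map (algebraMap A (Ch ⧸ J))) ^ n =
      ((I ^ n).map (algebraMap A Ch)).map (Ideal.Quotient.mk J) := fun n => by
    rw [← Ideal.map_pow, Ideal.map_map]; rfl
  have hpow' : ∀ n, (I.map (algebraMap A (C' ⧸ K))) ^ n =
      ((I ^ n).map (algebraMap A C')).map (Ideal.Quotient.mk K) := fun n => by
    rw [← Ideal.map_pow, Ideal.map_map]; rfl
  have hCn : ∀ n, ((I.map (algebraMap A C')) ^ n).map ψ.toRingHom = (I ^ n).map (algebraMap A Ch) :=
    fun n => by
      rw [← Ideal.map_pow, Ideal.map_map]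
      exact congrArg ((I ^ n).map ·) (RingHom.ext hψA)
  refine ⟨C' ⧸ K, inferInstance, inferInstance,
    Algebra.FiniteType.of_surjective (Ideal.Quotient.mkₐ A K) Ideal.Quotient.mk_surjective,
    Groth.Agent.AdicCongr.exists_algEquiv_of_bijective _ _ φ hIJ (fun n w => ?_) fun n w hw => ?_⟩
  · obtain ⟨w, rfl⟩ := Ideal.Quotient.mk_surjective w
    obtain ⟨r, hr⟩ := Groth.Agent.PairHens.exists_sub_mem_map_pow hC' n w
    refine ⟨Ideal.Quotient.mk K r, ?_⟩
    rw [hpow]
    show Ideal.Quotient.mk J (ψ r) - Ideal.Quotient.mk J w ∈ _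
    rw [← map_sub]
    refine Ideal.mem_map_of_mem _ ?_
    rw [← neg_sub]
    refine neg_mem ?_
    rw [← hCn]
    exact hr
  · obtain ⟨w, rfl⟩ := Ideal.Quotient.mk_surjective w
    rw [hpow] at hw
    rw [hpow']
    have h1 : ψ w ∈ (I ^ n).map (algebraMap A Ch) ⊔ J := by
      have h2 : Ideal.Quotient.mk J (ψ w) ∈ ((I ^ n).map (algebraMap A Ch)).map (Ideal.Quotient.mk J) := hw
      rw [← Ideal.mem_comap, Ideal.comap_map_of_surjective' _ Ideal.Quotient.mk_surjective,
        Ideal.mk_ker] at h2
      exact h2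
    rw [← hCn, ← hK, ← Ideal.map_sup] at h1
    have h3 : w ∈ (I.map (algebraMap A C')) ^ n ⊔ K := by
      rw [← Groth.Agent.PairHens.comap_map_eq hC' _ n le_sup_left]
      exact h1
    rw [← Ideal.mem_comap, Ideal.comap_map_of_surjective' _ Ideal.Quotient.mk_surjective,
      Ideal.mk_ker, Ideal.map_pow]
    exact h3

end Groth.Agent.S8801
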