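import Groth.Statements.S8803
import Groth.Agent.LocCohLib.MaxIdeal

set_option autoImplicit false
universe u
open CategoryTheory
open LocCoh

namespace Groth.Agent.S8803

/-- Let (A, m) be a Noetherian local ring and (M_n) an inverse system of finite A-modules. Then for
every i the inverse system H^i_m(M_n) of local cohomology modules satisfies the Mittag-Leffler
condition. -/
theorem result (A : Type u) [CommRing A] [IsNoetherianRing A] [IsLocalRing A] (Msys : ℕᵒᵖ ⥤ ModuleCat.{u} A) (hfin : ∀ n : ℕᵒᵖ, Module.Finite A (Msys.obj n)) (i : ℕ) : ARSys.IsML (Msys ⋙ localCohomology (IsLocalRing.maximalIdeal A) i) := by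
  intro n
  let G := Msys ⋙ localCohomology (IsLocalRing.maximalIdeal A) i
  haveI := hfin (Opposite.op n)
  haveI : IsArtinian A (G.obj (Opposite.op n) : Type u) :=
    LocCohLib.isArtinian_H i (Msys.obj (Opposite.op n) : Type u)
  haveI : WellFoundedLT (CategoryTheory.Subobject (G.obj (Opposite.op n))) :=
    OrderEmbedding.wellFoundedLT (ModuleCat.subobjectModule (G.obj (Opposite.op n))).toOrderEmbedding
  let f : ℕ → CategoryTheory.Subobject (G.obj (Opposite.op n)) := fun s =>
    CategoryTheory.Limits.imageSubobject (ARSys.shiftMap G s n)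
  obtain ⟨_, ⟨r, rfl⟩, hr⟩ := (wellFounded_lt (α := CategoryTheory.Subobject (G.obj (Opposite.op n)))).has_min
    (Set.range f) ⟨f 0, 0, rfl⟩
  refine ⟨r, fun s hs => ?_⟩
  refine eq_of_le_of_not_lt ?_ (hr (f s) ⟨s, rfl⟩)
  have h : ARSys.shiftMap G s n =
      G.map (CategoryTheory.homOfLE (by omega : n + r ≤ n + s)).op ≫ ARSys.shiftMap G r n := by
    show G.map _ = G.map _ ≫ G.map _
    rw [← G.map_comp]
    rfl
  show CategoryTheory.Limits.imageSubobject (ARSys.shiftMap G s n) ≤ _
  rw [h]
  exact CategoryTheory.Limits.imageSubobject_comp_le _ _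


end Groth.Agent.S8803
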