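import Groth.Statements.S8806
import Groth.Agent.NLLib.Compare
-- import your own Groth.Agent.* helpers here

set_option autoImplicit false
universe u

attribute [local instance] HasDerivedCategory.standard

namespace Groth.Agent.S8806.Aux

open CategoryTheory Limits Algebra Groth.Agent.NLLib

variable {A : Type u} [CommRing A]

/-- A homotopy `d ≫ χ = a`, `χ ≫ d = a` kills `a` on a two-term complex. -/
theorem smul_id_toD_eq_zero (E : DRing.Cx A) (hE : DRing.VanishesOutside E (-1) 0) (a : A)
    (χ : E.X 0 ⟶ E.X (-1)) (h1 : E.d (-1) 0 ≫ χ = a • 𝟙 (E.X (-1))) (h0 : χ ≫ E.d (-1) 0 = a • 𝟙 (E.X 0)) :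
    a • 𝟙 (DRing.toD E) = 0 := by
  let η : ∀ i j, (ComplexShape.up ℤ).Rel j i → (E.X i ⟶ E.X j) := fun i j hij =>
    if hi : i = 0 then (E.XIsoOfEq hi).hom ≫ χ ≫ (E.XIsoOfEq (show (-1 : ℤ) = j by
      have : j + 1 = i := hij
      omega)).hom
    else 0
  have h : a • 𝟙 E = Homotopy.nullHomotopicMap' η := by
    refine HomologicalComplex.hom_ext _ _ fun i => ?_
    rw [HomologicalComplex.smul_f_apply, HomologicalComplex.id_f,
      Homotopy.nullHomotopicMap'_f (show (ComplexShape.up ℤ).Rel (i - 1) i by simp)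
        (show (ComplexShape.up ℤ).Rel i (i + 1) from rfl)]
    by_cases hi : i = -1
    · subst hi
      simp only [η, dif_neg (show ¬ (-1 : ℤ) = 0 by omega), zero_comp, add_zero]
      rw [dif_pos (show (-1 : ℤ) + 1 = 0 by omega)]
      simp only [HomologicalComplex.XIsoOfEq_rfl, Iso.refl_hom, Category.comp_id,
        HomologicalComplex.d_comp_XIsoOfEq_hom_assoc, Category.id_comp]
      exact h1.symm
    by_cases hi' : i = 0
    · subst hi'
      simp only [η, dif_neg (show ¬ (0 : ℤ) + 1 = 0 by omega), comp_zero, zero_add, dif_pos,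
        HomologicalComplex.XIsoOfEq_rfl, Iso.refl_hom, Category.id_comp]
      exact h0.symm
    · exact (hE i (by omega)).eq_of_src _ _
  have hQ : DerivedCategory.Q.map (a • 𝟙 E) = 0 := by
    rw [h, DerivedCategory.Q_map_eq_of_homotopy (C := ModuleCat.{u} A) (Homotopy.nullHomotopy' η),
      Functor.map_zero]
  rwa [Functor.map_smul, CategoryTheory.Functor.map_id] at hQ

/-- The adjugate gives the homotopy. -/
theorem exists_homotopy {B C V : Type u} [CommRing B] [AddCommGroup C] [Module B C] [AddCommGroup V]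
    [Module B V] {n m : ℕ} (hmn : m ≤ n) (b : Module.Basis (Fin n) B V) (d : C →ₗ[B] V) (c : Fin m → C)
    (hc : Submodule.span B (Set.range c) = ⊤) (M : Matrix (Fin m) (Fin m) B)
    (hd : ∀ i l, b.repr (d (c l)) (Fin.castLE hmn i) = M i l) :
    ∃ g : V →ₗ[B] C, g ∘ₗ d = M.det • LinearMap.id ∧ (n = m → d ∘ₗ g = M.det • LinearMap.id) := by
  let g : V →ₗ[B] C := b.constr B fun i =>
    if h : (i : ℕ) < m then ∑ j, M.adjugate j ⟨i, h⟩ • c j else 0
  have hgb : ∀ i : Fin m, g (b (Fin.castLE hmn i)) = ∑ j, M.adjugate j i • c j := fun i => by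
    simp only [g, Module.Basis.constr_basis, Fin.val_castLE, dif_pos i.isLt, Fin.eta]
  have hg0 : ∀ i : Fin n, ¬ (i : ℕ) < m → g (b i) = 0 := fun i hi => by
    simp only [g, Module.Basis.constr_basis, dif_neg hi]
  refine ⟨g, LinearMap.ext_on_range hc fun l => ?_, fun hnm => b.ext fun i => ?_⟩
  · rw [LinearMap.comp_apply, LinearMap.smul_apply, LinearMap.id_apply, ← b.sum_repr (d (c l)), map_sum]
    rw [← Finset.sum_subset (Finset.subset_univ (Finset.univ.map (Fin.castLEEmb hmn))) (fun i _ hi => by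
      rw [map_smul, hg0 i (fun h => hi (Finset.mem_map.2 ⟨⟨i, h⟩, Finset.mem_univ _, rfl⟩)), smul_zero])]
    simp only [Finset.sum_map, Fin.castLEEmb_apply, map_smul, hgb, hd, Finset.smul_sum, smul_smul]
    rw [Finset.sum_comm]
    calc ∑ j, ∑ i, (M i l * M.adjugate j i) • c j = ∑ j, (M.adjugate * M) j l • c j := by
          refine Finset.sum_congr rfl fun j _ => ?_
          rw [← Finset.sum_smul, Matrix.mul_apply]
          exact congrArg (· • c j) (Finset.sum_congr rfl fun i _ => mul_comm _ _)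
      _ = M.det • c l := by
          rw [M.adjugate_mul, Finset.sum_eq_single l (fun j _ hj => by simp [hj]) (by simp)]
          simp
  · subst hnm
    apply b.repr.injective
    ext k
    have e : ∀ j : Fin n, Fin.castLE hmn j = j := fun j => rfl
    have hd' : ∀ k l : Fin n, b.repr (d (c l)) k = M k l := fun k l => hd k l
    rw [LinearMap.comp_apply, ← e i, hgb]
    simp only [map_sum, map_smul, Finsupp.coe_finset_sum, Finset.sum_apply, Finsupp.coe_smul,
      Pi.smul_apply, smul_eq_mul, hd', LinearMap.smul_apply, LinearMap.id_apply, e, b.repr_self]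
    calc ∑ j, M.adjugate j i * M k j = (M * M.adjugate) k i := by
          rw [Matrix.mul_apply]
          exact Finset.sum_congr rfl fun j _ => mul_comm _ _
      _ = M.det * Finsupp.single i 1 k := by
          rw [M.mul_adjugate, Finsupp.single_apply, Matrix.smul_apply, Matrix.one_apply, smul_eq_mul]
          simp [eq_comm]

variable {B : Type u} [CommRing B] [Algebra A B]

/-- A homotopy on a presentation kills the scalar on `NL`. -/
theorem smul_eq_zero_of_homotopy {n : ℕ} (P : Generators A B (Fin n)) (a : B)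
    (g : P.toExtension.CotangentSpace →ₗ[B] P.toExtension.Cotangent)
    (hg : g ∘ₗ P.toExtension.cotangentComplex = a • LinearMap.id) :
    (∀ (N : Type u) [AddCommGroup N] [Module B N] (φ : LCI.NL A B ⟶ (Dual.inD B N)⟦(1 : ℤ)⟧),
        a • φ = 0) ∧
      (P.toExtension.cotangentComplex ∘ₗ g = a • LinearMap.id → a • 𝟙 (LCI.NL A B) = 0) := by
  let E := cx P.toExtension
  let χ : E.X 0 ⟶ E.X (-1) :=
    ModuleCat.ofHom ((e₁ P.toExtension).symm.toLinearMap ∘ₗ g ∘ₗ (e₀ P.toExtension).toLinearMap)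
  have h1 : E.d (-1) 0 ≫ χ = a • 𝟙 (E.X (-1)) := by
    ext x
    show (e₁ P.toExtension).symm (g (e₀ P.toExtension ((E.d (-1) 0).hom x))) = a • x
    rw [e₀_d, show g (P.toExtension.cotangentComplex (e₁ P.toExtension x)) = a • e₁ P.toExtension x from
      LinearMap.congr_fun hg _, map_smul, LinearEquiv.symm_apply_apply]
  haveI : Module.Projective B (E.X 0) :=
    Module.Projective.of_basis (P.cotangentSpaceBasis.map (e₀ P.toExtension).symm)
  obtain ⟨e⟩ := nonempty_iso_NL P
  refine ⟨fun N _ _ φ => ?_, fun hg' => ?_⟩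
  · obtain ⟨Q, u, v, huv⟩ := DRingLib.exists_pres_of_cx (vanishesOutside_cx P.toExtension) inferInstance e
    refine (Q.smul_all_zero_iff a).2 ⟨v.hom ≫ χ ≫ u.inv, ?_⟩ N φ
    rw [reassoc_of% huv, reassoc_of% h1]
    simp
  · have h0 : χ ≫ E.d (-1) 0 = a • 𝟙 (E.X 0) := by
      ext x
      apply (e₀ P.toExtension).injective
      show e₀ P.toExtension ((E.d (-1) 0).hom ((e₁ P.toExtension).symm (g (e₀ P.toExtension x)))) =
        e₀ P.toExtension (a • x)
      rw [e₀_d, LinearEquiv.apply_symm_apply, map_smul]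
      exact LinearMap.congr_fun hg' _
    have hz := smul_id_toD_eq_zero E (vanishesOutside_cx P.toExtension) a χ h1 h0
    calc a • 𝟙 (LCI.NL A B) = e.inv ≫ ((a • 𝟙 (DRing.toD E)) ≫ e.hom) := by
          rw [Linear.smul_comp, Category.id_comp, Linear.comp_smul, e.inv_hom_id]
      _ = 0 := by rw [hz, zero_comp, comp_zero]

theorem main_of_generators {n m : ℕ} (hmn : m ≤ n) (P : Generators A B (Fin n))
    (f : Fin m → MvPolynomial (Fin n) A) (hker : Ideal.span (Set.range f) = P.toExtension.ker) :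
    (∀ (N : Type u) [AddCommGroup N] [Module B N] (φ : LCI.NL A B ⟶ (Dual.inD B N)⟦(1 : ℤ)⟧),
      (MvPolynomial.aeval P.val
        (Matrix.det (Matrix.of (fun i j : Fin m => MvPolynomial.pderiv (Fin.castLE hmn i) (f j))))) • φ = 0) ∧
    (n = m → (MvPolynomial.aeval P.val
      (Matrix.det (Matrix.of (fun i j : Fin m => MvPolynomial.pderiv (Fin.castLE hmn i) (f j))))) •
        𝟙 (LCI.NL A B) = 0) := by
  obtain ⟨g, hg, hg'⟩ := exists_homotopy hmn P.cotangentSpaceBasis P.toExtension.cotangentComplex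
    _ (Extension.Cotangent.span_eq_top_of_span_eq_ker f hker)
    (Matrix.of fun i j : Fin m => MvPolynomial.aeval P.val (MvPolynomial.pderiv (Fin.castLE hmn i) (f j)))
    (fun i l => by
      rw [Extension.cotangentComplex_mk, Generators.cotangentSpaceBasis_repr_one_tmul]
      rfl)
  rw [AlgHom.map_det]
  exact ⟨(smul_eq_zero_of_homotopy P _ g hg).1, fun hnm => (smul_eq_zero_of_homotopy P _ g hg).2 (hg' hnm)⟩

theorem main (n m : ℕ) (hmn : m ≤ n) (f : Fin m → MvPolynomial (Fin n) A) :
    (∀ (N : Type u) [AddCommGroup N] [Module (MvPolynomial (Fin n) A ⧸ Ideal.span (Set.range f)) N]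
      (φ : LCI.NL A (MvPolynomial (Fin n) A ⧸ Ideal.span (Set.range f)) ⟶
        (Dual.inD (MvPolynomial (Fin n) A ⧸ Ideal.span (Set.range f)) N)⟦(1 : ℤ)⟧),
      (Ideal.Quotient.mk (Ideal.span (Set.range f))
        (Matrix.det (Matrix.of (fun i j : Fin m => MvPolynomial.pderiv (Fin.castLE hmn i) (f j))))) • φ = 0) ∧
    (n = m → (Ideal.Quotient.mk (Ideal.span (Set.range f))
      (Matrix.det (Matrix.of (fun i j : Fin m => MvPolynomial.pderiv (Fin.castLE hmn i) (f j))))) •
        𝟙 (LCI.NL A (MvPolynomial (Fin n) A ⧸ Ideal.span (Set.range f))) = 0) := by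
  have h := main_of_generators hmn
    (Generators.naive : Generators A (MvPolynomial (Fin n) A ⧸ Ideal.span (Set.range f)) (Fin n)) f
    (Ideal.ext fun x => (Ideal.Quotient.eq_zero_iff_mem (I := Ideal.span (Set.range f))).symm)
  have e : ∀ p : MvPolynomial (Fin n) A,
      MvPolynomial.aeval (fun i => Ideal.Quotient.mk (Ideal.span (Set.range f)) (MvPolynomial.X i)) p =
        Ideal.Quotient.mk (Ideal.span (Set.range f)) p := fun p =>
    (AlgHom.congr_fun (MvPolynomial.aeval_unique (Ideal.Quotient.mkₐ A (Ideal.span (Set.range f)))) p).symm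
  exact ⟨fun N _ _ φ => (congrArg (· • φ) (e _)).symm.trans (h.1 N φ),
    fun hn => (congrArg (· • _) (e _)).symm.trans (h.2 hn)⟩

end Groth.Agent.S8806.Aux

open CategoryTheory
attribute [local instance] HasDerivedCategory.standard
open LCI

namespace Groth.Agent.S8806

/-- Let A be a ring, m ≤ n, f_1, …, f_m ∈ A[x_1, …, x_n], B = A[x_1, …, x_n]/(f_1, …, f_m), and g ∈ B
the image of the determinant of the m × m matrix of partial derivatives ∂f_j/∂x_i with i, j ≤ m (the
first m variables). Then: (1) for every B-module N, g annihilates Ext^1_B(NL_{B/A}, N), i.e. every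
morphism NL_{B/A} → N[1] in D(B) is killed by g; (2) if n = m then multiplication by g on NL_{B/A}
is the zero endomorphism in D(B). -/
theorem result (A : Type u) [CommRing A] (n m : ℕ) (hmn : m ≤ n) (f : Fin m → MvPolynomial (Fin n) A) : (∀ (N : Type u) [AddCommGroup N] [Module (MvPolynomial (Fin n) A ⧸ Ideal.span (Set.range f)) N] (φ : LCI.NL A (MvPolynomial (Fin n) A ⧸ Ideal.span (Set.range f)) ⟶ (Dual.inD (MvPolynomial (Fin n) A ⧸ Ideal.span (Set.range f)) N)⟦(1 : ℤ)⟧), (Ideal.Quotient.mk (Ideal.span (Set.range f)) (Matrix.det (Matrix.of (fun i j : Fin m => MvPolynomial.pderiv (Fin.castLE hmn i) (f j))))) • φ = 0) ∧ (n = m → (Ideal.Quotient.mk (Ideal.span (Set.range f)) (Matrix.det (Matrix.of (fun i j : Fin m => MvPolynomial.pderiv (Fin.castLE hmn i) (f j))))) • 𝟙 (LCI.NL A (MvPolynomial (Fin n) A ⧸ Ideal.span (Set.range f))) = 0) := by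
  exact Aux.main n m hmn f

end Groth.Agent.S8806
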