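import Groth.Statements.S8812
import Mathlib

set_option autoImplicit false
universe u
open CategoryTheory AlgebraicGeometry
open Algz

namespace Groth.Agent.S8812

variable {Y : Type u} [TopologicalSpace Y]

theorem codimPt_congr {w w' v v' : Y} (hw : w = w') (hv : v = v') (h : w ⤳ v) (h' : w' ⤳ v') :
    codimPt w v h = codimPt w' v' h' := by
  subst hw; subst hv; rfl

theorem codimPt_self (v : Y) (h : v ⤳ v) : codimPt v v h = 0 := by
  refine Order.height_eq_zero.mpr ?_
  intro b _
  exact b.2

theorem one_le_codimPt [T0Space Y] {w v : Y} (h : w ⤳ v) (hne : w ≠ v) : 1 ≤ codimPt w v h := by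
  rw [ENat.one_le_iff_ne_zero]
  intro h0
  have hmin := Order.height_eq_zero.mp h0
  have hb : (⟨Specialization.toEquiv v, Set.self_mem_Ici⟩ : Set.Ici (Specialization.toEquiv v)) ≤
      ⟨Specialization.toEquiv w, Specialization.toEquiv_le_toEquiv.mpr h⟩ :=
    Specialization.toEquiv_le_toEquiv.mpr h
  have := hmin hb
  exact hne (h.antisymm (Specialization.toEquiv_le_toEquiv.mp this)).eq

theorem codimPt_mono {w v v' : Y} (h : w ⤳ v) (h' : w ⤳ v') (hv : v ⤳ v') :
    codimPt w v h ≤ codimPt w v' h' :=
  Order.height_le_height_apply_of_strictMono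
    (fun x : Set.Ici (Specialization.toEquiv v) =>
      (⟨x.1, le_trans (Specialization.toEquiv_le_toEquiv.mpr hv) x.2⟩ :
        Set.Ici (Specialization.toEquiv v')))
    (fun _ _ hab => hab) _

theorem deltaZ_le_spec [T0Space Y] {Z : Set Y} (hZ : IsClosed Z) {y y' : Y} (h : y ⤳ y') :
    deltaZ Z y' ≤ deltaZ Z y := by
  by_cases hyy : y = y'
  · subst hyy; exact le_rfl
  refine le_iInf₂ fun k S => ?_
  by_cases hc : S.v (Fin.last k) = y
  · -- replace the last pair
    let v' : Fin (k + 1) → Y := Function.update S.v (Fin.last k) y'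
    let w' : Fin (k + 1) → Y := Function.update S.w (Fin.last k) y'
    have hw' : ∀ i : Fin k, w' i.castSucc = S.w i.castSucc := fun i =>
      Function.update_of_ne (Fin.castSucc_lt_last i).ne _ _
    have hv' : ∀ i : Fin (k+1), S.v i ⤳ v' i := fun i => by
      by_cases hi : i = Fin.last k
      · subst hi; simp only [v', Function.update_self]; rw [hc]; exact h
      · simp only [v', Function.update_of_ne hi]; exact specializes_rfl
    have hs : ∀ i, w' i ⤳ v' i := fun i => by
      by_cases hi : i = Fin.last k
      · subst hi; simp only [v', w', Function.update_self]; exact specializes_rfl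
      · simp only [v', w', Function.update_of_ne hi]; exact S.spec i
    have hss : ∀ i : Fin k, w' i.castSucc ⤳ v' i.succ := fun i => by
      rw [hw']; exact (S.spec_succ i).trans (hv' _)
    let S' : DSystem Z y' k :=
      ⟨v', w', hs, hss, (hv' 0).mem_closed hZ S.start_mem, Function.update_self ..⟩
    refine le_trans (iInf₂_le k S') ?_
    have hcle : ∀ j, S'.c j ≤ S.c j := fun j => by
      by_cases hi : j = Fin.last k
      · subst hi
        have e1 : S'.v (Fin.last k) = y' := Function.update_self ..
        have : S'.c (Fin.last k) = codimPt y' y' specializes_rfl :=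
          codimPt_congr S'.last_eq e1 _ _
        rw [this, codimPt_self]; exact zero_le
      · exact le_of_eq (codimPt_congr (Function.update_of_ne hi _ _)
          (Function.update_of_ne hi _ _) _ _)
    have hble : ∀ j, S.b j ≤ S'.b j := fun j => by
      have h2 : S.w j.castSucc ⤳ v' j.succ := (S.spec_succ j).trans (hv' _)
      exact (codimPt_mono (S.spec_succ j) h2 (hv' _)).trans
        (le_of_eq (codimPt_congr (hw' j).symm rfl _ _))
    unfold DSystem.delta
    exact add_le_add le_rfl (Finset.sup_mono_fun fun i _ =>
      tsub_le_tsub (Finset.sum_le_sum fun j _ => hcle j) (Finset.sum_le_sum fun j _ => hble j))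
  · -- append a new pair
    let v' : Fin (k + 2) → Y := Fin.snoc S.v y'
    let w' : Fin (k + 2) → Y := Fin.snoc S.w y'
    have hs : ∀ i, w' i ⤳ v' i := fun i => by
      induction i using Fin.lastCases with
      | last => simp only [v', w', Fin.snoc_last]; exact specializes_rfl
      | cast j => simp only [v', w', Fin.snoc_castSucc]; exact S.spec j
    have hss : ∀ i : Fin (k+1), w' i.castSucc ⤳ v' i.succ := fun i => by
      induction i using Fin.lastCases with
      | last => simp only [v', w', Fin.snoc_castSucc, Fin.succ_last, Fin.snoc_last]; rw [S.last_eq]; exact h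
      | cast j => simp only [v', w', Fin.snoc_castSucc, Fin.succ_castSucc]; exact S.spec_succ j
    have hst : v' 0 ∈ Z := by
      have : v' 0 = S.v 0 := by
        rw [← Fin.castSucc_zero]; exact Fin.snoc_castSucc ..
      rw [this]; exact S.start_mem
    let S' : DSystem Z y' (k+1) := ⟨v', w', hs, hss, hst, Fin.snoc_last ..⟩
    refine le_trans (iInf₂_le (k+1) S') ?_
    have hwc : ∀ j : Fin (k+1), w' j.castSucc = S.w j := fun j => by simp [w']
    have hvc : ∀ j : Fin (k+1), v' j.castSucc = S.v j := fun j => by simp [v']
    have hwl : w' (Fin.last (k+1)) = y' := by simp [w']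
    have hvl : v' (Fin.last (k+1)) = y' := by simp [v']
    have hc1 : ∀ j : Fin (k+1), S'.c j.castSucc = S.c j := fun j =>
      codimPt_congr (hwc j) (hvc j) _ _
    have hc2 : S'.c (Fin.last (k+1)) = 0 :=
      (codimPt_congr hwl hvl _ specializes_rfl).trans (codimPt_self y' _)
    have hb1 : ∀ j : Fin k, S'.b j.castSucc = S.b j := fun j =>
      codimPt_congr (hwc _) ((congrArg v' (Fin.succ_castSucc j)).trans (hvc _)) _ _
    have hb2 : 1 ≤ S'.b (Fin.last k) :=
      (one_le_codimPt h hyy).trans (le_of_eq (codimPt_congr
        ((hwc _).trans S.last_eq).symm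
        ((congrArg v' (Fin.succ_last k)).trans hvl).symm _ _))
    unfold DSystem.delta
    generalize hT : (Finset.univ.sup fun i : Fin (k + 1) =>
      (∑ j ∈ Finset.univ.filter (fun j : Fin (k + 1) => i ≤ j), S.c j) -
        ∑ j ∈ Finset.univ.filter (fun j : Fin k => i.val ≤ j.val), S.b j) = T
    have hT1 : 1 ≤ T := by
      rw [← hT]
      refine le_trans ?_ (Finset.le_sup (Finset.mem_univ (Fin.last k)))
      have e1 : (Finset.univ.filter fun j : Fin (k + 1) => Fin.last k ≤ j) = {Fin.last k} := by
        ext j; simp [Fin.last_le_iff]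
      have e2 : (Finset.univ.filter fun j : Fin k => (Fin.last k).val ≤ j.val) = ∅ := by
        ext j; simp
      rw [e1, e2, Finset.sum_singleton, Finset.sum_empty, tsub_zero]
      have hsp : y ⤳ S.v (Fin.last k) := by
        have := S.spec (Fin.last k); rwa [S.last_eq] at this
      exact (one_le_codimPt hsp (fun e => hc e.symm)).trans
        (le_of_eq (codimPt_congr S.last_eq.symm rfl _ _))
    calc ((k + 1 : ℕ) : ℕ∞) + _ ≤ ((k + 1 : ℕ) : ℕ∞) + (T - 1) := by
          refine add_le_add le_rfl (Finset.sup_le fun i _ => ?_)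
          induction i using Fin.lastCases with
          | last =>
            have e1 : (Finset.univ.filter fun j : Fin (k + 2) => Fin.last (k+1) ≤ j) = {Fin.last (k+1)} := by
              ext j; simp [Fin.last_le_iff]
            rw [e1, Finset.sum_singleton, hc2, zero_tsub]; exact zero_le
          | cast i =>
            have s1 : (∑ j ∈ Finset.univ.filter (fun j : Fin (k + 2) => i.castSucc ≤ j), S'.c j) =
                ∑ j ∈ Finset.univ.filter (fun j : Fin (k + 1) => i ≤ j), S.c j := by
              rw [Finset.sum_filter, Finset.sum_filter, Fin.sum_univ_castSucc]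
              simp [hc1, hc2]
            have s2 : (∑ j ∈ Finset.univ.filter (fun j : Fin (k + 1) => i.castSucc.val ≤ j.val), S'.b j) =
                (∑ j ∈ Finset.univ.filter (fun j : Fin k => i.val ≤ j.val), S.b j) + S'.b (Fin.last k) := by
              rw [Finset.sum_filter, Finset.sum_filter, Fin.sum_univ_castSucc]
              simp [hb1, i.is_le]
            rw [s1, s2, ← tsub_tsub]
            exact tsub_le_tsub (hT ▸ Finset.le_sup (f := fun i : Fin (k + 1) =>
              (∑ j ∈ Finset.univ.filter (fun j : Fin (k + 1) => i ≤ j), S.c j) -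
                ∑ j ∈ Finset.univ.filter (fun j : Fin k => i.val ≤ j.val), S.b j) (Finset.mem_univ i)) hb2
      _ = (k : ℕ∞) + T := by
          rw [Nat.cast_succ, add_assoc, add_tsub_cancel_of_le hT1]

/-- Let Y be a Noetherian scheme and Z ⊆ Y a closed subset. If y specializes to y' then δ_Z(y') ≤
δ_Z(y); equivalently each set {y | δ_Z(y) ≤ k} is stable under specialization. -/
theorem result (Y : Scheme.{u}) [IsNoetherian Y] (Z : Set Y) (hZ : IsClosed Z) (y y' : Y) (h : y ⤳ y') : Algz.deltaZ Z y' ≤ Algz.deltaZ Z y := by
  exact deltaZ_le_spec hZ h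

end Groth.Agent.S8812
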