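import Groth.Statements.S8813
import Mathlib

set_option autoImplicit false
universe u
open CategoryTheory AlgebraicGeometry
open Algz

namespace Groth.Agent.S8813

open AlgebraicGeometry CategoryTheory
set_option backward.isDefEq.respectTransparency false

/-- Let Y be a Noetherian scheme, Z ⊆ Y a closed subset, y a point of Y and z a point of Z lying in the
closure of y. Then δ_Z(y) is at most the dimension of the local ring at z of the closure of y with
its reduced structure, that is, the Krull dimension of O_{Y,z}/𝔭 where 𝔭 is the prime ideal of the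
local ring O_{Y,z} given by the point of Spec O_{Y,z} that maps to y. -/
theorem result (Y : Scheme.{u}) [IsNoetherian Y] (Z : Set Y) (hZ : IsClosed Z) (y z : Y) (h : y ⤳ z) (hz : z ∈ Z) (P : PrimeSpectrum (Y.presheaf.stalk z)) (hP : (Y.fromSpecStalk z).base P = y) : ((Algz.deltaZ Z y : ℕ∞) : WithBot ℕ∞) ≤ ringKrullDim (↥(Y.presheaf.stalk z) ⧸ P.asIdeal) := by
  let S : Algz.DSystem Z y 0 := { v := fun _ => z, w := fun _ => y, spec := fun _ => h, spec_succ := fun i => i.elim0, start_mem := hz, last_eq := rfl }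
  have h0 : (S.delta : ℕ∞) = Algz.codimPt y z h := by
    simp [Algz.DSystem.delta, Algz.DSystem.c, S]
  refine (WithBot.coe_le_coe.2 ((iInf₂_le 0 S).trans_eq h0)).trans ?_
  unfold Algz.codimPt
  rw [Order.height_eq_krullDim_Iic, ringKrullDim_quotient, ← Order.krullDim_orderDual (α := PrimeSpectrum.zeroLocus (R := Y.presheaf.stalk z) (P.asIdeal : Set (Y.presheaf.stalk z)))]
  let I := Set.Iic (⟨Specialization.toEquiv y, Specialization.toEquiv_le_toEquiv.mpr h⟩ : Set.Ici (Specialization.toEquiv z))
  have hmem : ∀ a : I, ∃ Q : PrimeSpectrum (Y.presheaf.stalk z), Y.fromSpecStalk z Q = Specialization.ofEquiv a.1.1 := fun a => by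
    have h1 : Specialization.ofEquiv a.1.1 ⤳ z := a.1.2
    have h2 : Specialization.ofEquiv a.1.1 ∈ Set.range (Y.fromSpecStalk z) := by
      rw [Scheme.range_fromSpecStalk]; exact h1
    exact h2
  choose Q hQ using hmem
  have hinj : Topology.IsInducing (Y.fromSpecStalk z) := (Y.fromSpecStalk z).isEmbedding.isInducing
  have hle : ∀ a b : I, a ≤ b → Q b ≤ Q a := fun a b hab => by
    rw [PrimeSpectrum.le_iff_specializes]
    refine hinj.specializes_iff.1 ?_
    show Y.fromSpecStalk z (Q b) ⤳ Y.fromSpecStalk z (Q a)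
    rw [hQ, hQ]
    exact hab
  have hP' : ∀ a : I, Q a ∈ PrimeSpectrum.zeroLocus (R := Y.presheaf.stalk z) (P.asIdeal : Set (Y.presheaf.stalk z)) := fun a => by
    show P.asIdeal ≤ (Q a).asIdeal
    have hya : y ⤳ Specialization.ofEquiv a.1.1 := a.2
    have : (P : Spec (Y.presheaf.stalk z)) ⤳ Q a := hinj.specializes_iff.1 (by
      show Y.fromSpecStalk z P ⤳ Y.fromSpecStalk z (Q a)
      rw [hQ]; exact hP.symm ▸ hya)
    exact (PrimeSpectrum.le_iff_specializes P (Q a)).2 this
  refine Order.krullDim_le_of_strictMono (fun a : I => OrderDual.toDual (⟨Q a, hP' a⟩ : PrimeSpectrum.zeroLocus _)) ?_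
  intro a b hab
  refine lt_of_le_of_ne (hle a b hab.le) ?_
  intro e
  have e' : Q a = Q b := congrArg (fun w : (PrimeSpectrum.zeroLocus (R := Y.presheaf.stalk z) (P.asIdeal : Set (Y.presheaf.stalk z)))ᵒᵈ => (OrderDual.ofDual w).1) e
  have := congrArg (Y.fromSpecStalk z) e'
  rw [hQ, hQ] at this
  exact hab.ne (Subtype.ext (Subtype.ext (Specialization.ofEquiv.injective this)))

end Groth.Agent.S8813
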