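import Groth.Statements.S8814
import Mathlib
import Groth.Agent.CatSpaceLib.Order

set_option autoImplicit false
universe u
open CategoryTheory AlgebraicGeometry
open Algz

namespace Groth.Agent.S8814

variable {Y : Scheme.{u}}

theorem codim_eq {δ : Y → ℤ} (hδ : Cyc.IsDimFun Y δ) (w v : Y) (h : w ⤳ v) :
    δ v ≤ δ w ∧ codimPt w v h = ((δ w - δ v).toNat : ℕ∞) := by
  classical
  let δ' : Specialization Y → ℤ := fun a => δ (Specialization.ofEquiv a)
  have hsp : ∀ a b : Specialization Y, a ≤ b → @Specializes Y _ (Specialization.ofEquiv b) (Specialization.ofEquiv a) :=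
    fun a b hab => Specialization.toEquiv_le_toEquiv.mp hab
  have hmono : ∀ a b : Specialization Y, a < b → δ' a < δ' b := fun a b hab =>
    (hδ _ _ (hsp a b hab.le) (fun e => hab.ne' (congrArg Specialization.toEquiv e))).1
  have hcov : ∀ a b : Specialization Y, a ⋖ b → δ' b = δ' a + 1 := fun a b hab => by
    refine (hδ _ _ (hsp a b hab.le) (fun e => hab.lt.ne' (congrArg Specialization.toEquiv e))).2 fun z h1 h2 => ?_
    have h1' : Specialization.toEquiv z ≤ b :=
      (Specialization.toEquiv_le_toEquiv (a := z) (b := Specialization.ofEquiv b)).mpr h1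
    have h2' : a ≤ Specialization.toEquiv z :=
      (Specialization.toEquiv_le_toEquiv (a := Specialization.ofEquiv a) (b := z)).mpr h2
    rcases hab.eq_or_eq h2' h1' with e | e
    · exact Or.inr (congrArg Specialization.ofEquiv e)
    · exact Or.inl (congrArg Specialization.ofEquiv e)
  have hle : Specialization.toEquiv v ≤ Specialization.toEquiv w := Specialization.toEquiv_le_toEquiv.mpr h
  have hm : ∀ a b : Specialization Y, a ≤ b → δ' a ≤ δ' b := fun a b hab => by
    rcases eq_or_lt_of_le hab with rfl | hlt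
    · exact le_rfl
    · exact (hmono a b hlt).le
  refine ⟨hm _ _ hle, ?_⟩
  obtain ⟨hcat, hdist⟩ := Groth.Agent.CatSpaceLib.catOrd_of_rank δ' hmono hcov
  obtain ⟨n, hn⟩ := hcat.1 _ _ hle
  obtain ⟨s, hs0, hs1, hd, -⟩ := Groth.Agent.CatSpaceLib.exists_saturated hle hn
  rw [hdist _ _ hle] at hd
  have hs : s.length = (δ w - δ v).toNat := (Nat.cast_inj.mp hd).symm
  refine le_antisymm (Order.height_le fun t ht => ?_) ?_
  · let f : Set.Ici (Specialization.toEquiv v) → ℕ := fun x => (δ' x.1 - δ v).toNat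
    have hf : StrictMono f := fun a b hab => by
      have h1 := hmono a.1 b.1 hab
      have h2 : δ v ≤ δ' a.1 := hm (Specialization.toEquiv v) a.1 a.2
      simp only [f]; omega
    have h1 := (t.map f hf).head_add_length_le_nat
    rw [LTSeries.head_map, LTSeries.last_map] at h1
    change f t.head + t.length ≤ f t.last at h1
    have h2 : f t.last ≤ (δ w - δ v).toNat := (congrArg f ht).le
    exact_mod_cast (by omega : t.length ≤ (δ w - δ v).toNat)
  · rw [← hs]
    let t : LTSeries (Set.Ici (Specialization.toEquiv v)) :=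
      ⟨s.length, fun i => ⟨s i, by
          rw [Set.mem_Ici, ← hs0]; exact LTSeries.monotone s (Fin.zero_le _)⟩,
        fun i => s.step i⟩
    exact Order.length_le_height (p := t) (le_of_eq (Subtype.ext hs1))

theorem exists_le {δ : Y → ℤ} (hδ : Cyc.IsDimFun Y δ) {Z : Set Y} {y : Y} {n : ℕ}
    (hn : Algz.deltaZ Z y = n) : ∃ z ∈ Z, δ y ≤ n + δ z := by
  unfold Algz.deltaZ at hn
  by_contra hcon
  push Not at hcon
  have key : ∀ (k : ℕ) (S : DSystem Z y k), ((n + 1 : ℕ) : ℕ∞) ≤ S.delta := by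
    intro k S
    have hz := hcon (S.v 0) S.start_mem
    have hc : ∀ i, S.c i = ((δ (S.w i) - δ (S.v i)).toNat : ℕ∞) := fun i => (codim_eq hδ _ _ _).2
    have hb : ∀ i, S.b i = ((δ (S.w i.castSucc) - δ (S.v i.succ)).toNat : ℕ∞) := fun i => (codim_eq hδ _ _ _).2
    unfold DSystem.delta
    refine le_trans ?_ le_add_self
    refine le_trans ?_ (Finset.le_sup (Finset.mem_univ (0 : Fin (k+1))))
    have e1 : (Finset.univ.filter fun j : Fin (k + 1) => (0 : Fin (k+1)) ≤ j) = Finset.univ := by simp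
    have e2 : (Finset.univ.filter fun j : Fin k => (0 : Fin (k+1)).val ≤ j.val) = Finset.univ := by simp
    rw [e1, e2, Finset.sum_congr rfl (fun i _ => hc i), Finset.sum_congr rfl (fun i _ => hb i),
      ← Nat.cast_sum, ← Nat.cast_sum, ← ENat.natCast_sub]
    refine Nat.cast_le.mpr ?_
    have hA : ((∑ i, (δ (S.w i) - δ (S.v i)).toNat : ℕ) : ℤ) = ∑ i, (δ (S.w i) - δ (S.v i)) := by
      rw [Nat.cast_sum]
      exact Finset.sum_congr rfl fun i _ => Int.toNat_of_nonneg (by have := (codim_eq hδ _ _ (S.spec i)).1; omega)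
    have hB : ((∑ i : Fin k, (δ (S.w i.castSucc) - δ (S.v i.succ)).toNat : ℕ) : ℤ) =
        ∑ i : Fin k, (δ (S.w i.castSucc) - δ (S.v i.succ)) := by
      rw [Nat.cast_sum]
      exact Finset.sum_congr rfl fun i _ => Int.toNat_of_nonneg (by have := (codim_eq hδ _ _ (S.spec_succ i)).1; omega)
    generalize (∑ i, (δ (S.w i) - δ (S.v i)).toNat : ℕ) = sA at hA ⊢
    generalize (∑ i : Fin k, (δ (S.w i.castSucc) - δ (S.v i.succ)).toNat : ℕ) = sB at hB ⊢
    rw [Finset.sum_sub_distrib, Fin.sum_univ_castSucc, Fin.sum_univ_succ (f := fun i => δ (S.v i)), S.last_eq] at hA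
    rw [Finset.sum_sub_distrib] at hB
    omega
  have := le_iInf₂ key
  rw [hn, Nat.cast_le] at this
  omega

/-- Let Y be a Noetherian scheme, Z ⊆ Y a closed subset and δ a dimension function on Y. If δ_Z(y) is a
natural number n, then δ(y) ≤ n + δ(z) for some z ∈ Z; in other words δ(y) ≤ δ_Z(y) + δ_max with
δ_max the maximum of δ on Z. -/
theorem result (Y : Scheme.{u}) [IsNoetherian Y] (Z : Set Y) (hZ : IsClosed Z) (δ : Y → ℤ) (hδ : Cyc.IsDimFun Y δ) (y : Y) (n : ℕ) (hn : Algz.deltaZ Z y = n) : ∃ z ∈ Z, δ y ≤ n + δ z := by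
  exact exists_le hδ hn

end Groth.Agent.S8814
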