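import Groth.Statements.S8815
import Mathlib
import Groth.Agent.CatLib.Basic
import Groth.Agent.CatSpaceLib.Order

set_option autoImplicit false
universe u
open CategoryTheory AlgebraicGeometry
open Algz

namespace Groth.Agent.S8815

variable {A : Type u} [CommRing A] [IsNoetherianRing A] [IsLocalRing A]

/-- The coheight as a natural number. -/
noncomputable def dd (p : PrimeSpectrum A) : ℕ := (Order.coheight p).toNat

theorem coheight_eq_dd (p : PrimeSpectrum A) : Order.coheight p = (dd p : ℕ∞) :=
  (ENat.natCast_toNat (Groth.Agent.CatLib.coheight_ne_top p)).symm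

theorem dd_lt {p q : PrimeSpectrum A} (h : p < q) : dd q < dd p := by
  have := Order.coheight_add_one_le h
  rw [coheight_eq_dd, coheight_eq_dd] at this
  norm_cast at this

/-- The prime of a point. -/
def P (x : ↥(Spec (CommRingCat.of A))) : PrimeSpectrum A := x

/-- The point of a prime. -/
def Q (x : PrimeSpectrum A) : ↥(Spec (CommRingCat.of A)) := x

theorem spec_iff (a b : ↥(Spec (CommRingCat.of A))) :
    Specialization.toEquiv a ≤ Specialization.toEquiv b ↔ P b ≤ P a :=
  Specialization.toEquiv_le_toEquiv.trans (PrimeSpectrum.le_iff_specializes (P b) (P a)).symm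

theorem codim_add (hA : CAlg.IsCatenary A) (w v : ↥(Spec (CommRingCat.of A))) (h : w ⤳ v) :
    codimPt w v h + (dd (P v) : ℕ∞) = (dd (P w) : ℕ∞) := by
  have hwv : P w ≤ P v := (spec_iff v w).mp (Specialization.toEquiv_le_toEquiv.mpr h)
  obtain ⟨n, hn⟩ := hA.1 (P w) (P v) hwv
  obtain ⟨s, hs0, hs1, -, hss⟩ := Groth.Agent.CatSpaceLib.exists_saturated hwv hn
  have hL := Groth.Agent.CatLib.length_add_coheight (Groth.Agent.CatLib.isCatenary_iff_coheight.mp hA) hss
  rw [hs0, hs1, coheight_eq_dd, coheight_eq_dd] at hL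
  norm_cast at hL
  have key : codimPt w v h = (s.length : ℕ∞) := by
    refine le_antisymm (Order.height_le fun t ht => ?_) ?_
    · let f : Set.Ici (Specialization.toEquiv v) → ℕ :=
        fun x => dd (P (Specialization.ofEquiv x.1))
      have hf : StrictMono f := fun a b hab => by
        refine dd_lt (lt_of_le_not_ge ((spec_iff _ _).mp hab.le) fun hh => ?_)
        exact hab.not_ge ((spec_iff _ _).mpr hh)
      have h1 := (t.map f hf).head_add_length_le_nat
      rw [LTSeries.head_map, LTSeries.last_map] at h1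
      change f t.head + t.length ≤ f t.last at h1
      have h2 : f t.last ≤ dd (P w) := (congrArg f ht).le
      have h3 : dd (P v) ≤ f t.head := by
        rcases eq_or_lt_of_le ((spec_iff v (Specialization.ofEquiv t.head.1)).mp t.head.2) with e | e
        · exact le_of_eq (congrArg dd e.symm)
        · exact (dd_lt e).le
      exact_mod_cast (by omega : t.length ≤ s.length)
    · let t : LTSeries (Set.Ici (Specialization.toEquiv v)) :=
        ⟨s.length, fun i => ⟨Specialization.toEquiv (Q (s i.rev)), by
            refine (spec_iff _ _).mpr ?_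
            rw [← hs1]; exact LTSeries.monotone s (Fin.le_last _)⟩,
          fun i => by
            have h1 := s.step i.rev
            rw [← Fin.rev_succ, ← Fin.rev_castSucc] at h1
            exact lt_of_le_not_ge ((spec_iff _ _).mpr h1.le) fun hh => h1.not_ge ((spec_iff _ _).mp hh)⟩
      refine Order.length_le_height (p := t) (le_of_eq (Subtype.ext ?_))
      change Specialization.toEquiv (Q (s (Fin.last s.length).rev)) = _
      rw [Fin.rev_last]
      exact congrArg _ hs0
  rw [key]
  exact_mod_cast (by omega : s.length + dd (P v) = dd (P w))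

theorem dd_closed : dd (IsLocalRing.closedPoint A) = 0 := by
  have : Order.coheight (IsLocalRing.closedPoint A) = 0 :=
    Order.coheight_eq_zero.mpr fun b _ => IsLocalRing.le_maximalIdeal b.isPrime.ne_top
  rw [dd, this]; rfl

theorem dd_P_closed : dd (P (Q (IsLocalRing.closedPoint A))) = 0 := dd_closed

theorem deltaZ_eq (hA : CAlg.IsCatenary A) (y : ↥(Spec (CommRingCat.of A))) :
    deltaZ ({(Q (IsLocalRing.closedPoint A))} : Set ↥(Spec (CommRingCat.of A))) y = (dd (P y) : ℕ∞) := by
  have hy : y ⤳ (Q (IsLocalRing.closedPoint A)) := Specialization.toEquiv_le_toEquiv.mp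
    ((spec_iff _ _).mpr (IsLocalRing.le_maximalIdeal (P y).isPrime.ne_top))
  refine le_antisymm ?_ (le_iInf₂ fun k S => ?_)
  · let S : DSystem ({(Q (IsLocalRing.closedPoint A))} : Set ↥(Spec (CommRingCat.of A))) y 0 :=
      ⟨fun _ => (Q (IsLocalRing.closedPoint A)), fun _ => y, fun _ => hy, fun i => i.elim0, rfl, rfl⟩
    refine le_trans (iInf₂_le 0 S) ?_
    unfold DSystem.delta
    simp only [Nat.cast_zero, zero_add]
    refine Finset.sup_le fun i _ => le_trans tsub_le_self ?_
    rw [Finset.sum_filter, Fin.sum_univ_one, if_pos (show i ≤ (0 : Fin 1) from Fin.le_last i)]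
    have := codim_add hA y (Q (IsLocalRing.closedPoint A)) hy
    rw [dd_P_closed, Nat.cast_zero, add_zero] at this
    exact le_of_eq this
  · have hc : ∀ i, S.c i = ((dd (P (S.w i)) - dd (P (S.v i)) : ℕ) : ℕ∞) ∧
        dd (P (S.v i)) ≤ dd (P (S.w i)) := fun i => by
      have h1 := codim_add hA (S.w i) (S.v i) (S.spec i)
      obtain ⟨c, hc⟩ := ENat.ne_top_iff_exists.mp
        (ne_top_of_le_ne_top (ENat.natCast_ne_top _) (h1 ▸ le_self_add : codimPt _ _ (S.spec i) ≤ _))
      rw [← hc] at h1
      norm_cast at h1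
      unfold DSystem.c
      rw [← hc]
      exact ⟨by congr 1; omega, by omega⟩
    have hb : ∀ i, S.b i = ((dd (P (S.w i.castSucc)) - dd (P (S.v i.succ)) : ℕ) : ℕ∞) ∧
        dd (P (S.v i.succ)) ≤ dd (P (S.w i.castSucc)) := fun i => by
      have h1 := codim_add hA (S.w i.castSucc) (S.v i.succ) (S.spec_succ i)
      obtain ⟨c, hc⟩ := ENat.ne_top_iff_exists.mp
        (ne_top_of_le_ne_top (ENat.natCast_ne_top _) (h1 ▸ le_self_add : codimPt _ _ (S.spec_succ i) ≤ _))
      rw [← hc] at h1
      norm_cast at h1
      unfold DSystem.b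
      rw [← hc]
      exact ⟨by congr 1; omega, by omega⟩
    unfold DSystem.delta
    refine le_trans ?_ le_add_self
    refine le_trans ?_ (Finset.le_sup (Finset.mem_univ (0 : Fin (k+1))))
    have e1 : (Finset.univ.filter fun j : Fin (k + 1) => (0 : Fin (k+1)) ≤ j) = Finset.univ := by simp
    have e2 : (Finset.univ.filter fun j : Fin k => (0 : Fin (k+1)).val ≤ j.val) = Finset.univ := by simp
    rw [e1, e2, Finset.sum_congr rfl (fun i _ => (hc i).1), Finset.sum_congr rfl (fun i _ => (hb i).1),
      ← Nat.cast_sum, ← Nat.cast_sum, ← ENat.natCast_sub]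
    refine Nat.cast_le.mpr (le_of_eq ?_)
    apply Nat.eq_sub_of_add_eq
    have h0 : dd (P (S.v 0)) = 0 := by
      have := S.start_mem
      rw [Set.mem_singleton_iff] at this
      rw [this]; exact dd_P_closed
    have hl := S.last_eq
    zify [fun i => (hc i).2, fun i => (hb i).2]
    rw [Finset.sum_sub_distrib, Finset.sum_sub_distrib, Fin.sum_univ_castSucc, Fin.sum_univ_succ (f := fun i => (dd (P (S.v i)) : ℤ)), h0, hl]
    push_cast
    ring

/-- Let A be a catenary Noetherian local ring, Y = Spec A and Z the closed point. Then δ_Z(y) equals the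
dimension of the closure of y, i.e. dim(A/p_y), for every point y. -/
theorem result (A : Type u) [CommRing A] [IsNoetherianRing A] [IsLocalRing A] (hA : CAlg.IsCatenary A) (y : Spec (CommRingCat.of A)) : ((Algz.deltaZ ({IsLocalRing.closedPoint A} : Set (Spec (CommRingCat.of A))) y : ℕ∞) : WithBot ℕ∞) = ringKrullDim (A ⧸ y.asIdeal) := by
  rw [show deltaZ ({IsLocalRing.closedPoint A} : Set ↥(Spec (CommRingCat.of A))) y = _ from deltaZ_eq hA y, show y.asIdeal = (P y).asIdeal from rfl]
  exact ((Groth.Agent.CatLib.ringKrullDim_quotient_eq_coheight (P y)).trans (by rw [coheight_eq_dd])).symm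

end Groth.Agent.S8815
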