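import Groth.Statements.S8816
import Mathlib
import Groth.Agent.S8812

set_option autoImplicit false
universe u
open CategoryTheory AlgebraicGeometry
open Algz

namespace Groth.Agent.S8816

variable {Y : Type u} [TopologicalSpace Y]

theorem codimPt_le_one [T0Space Y] {w v : Y} (h : w ⤳ v)
    (him : ∀ z : Y, w ⤳ z → z ⤳ v → z = w ∨ z = v) : codimPt w v h ≤ 1 := by
  refine (Order.height_le_coe_iff (n := 1)).mpr fun b hb => ?_
  have h1 : w ⤳ Specialization.ofEquiv b.1 := Specialization.toEquiv_le_toEquiv.mp hb.le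
  have h2 : Specialization.ofEquiv b.1 ⤳ v := Specialization.toEquiv_le_toEquiv.mp b.2
  rcases him _ h1 h2 with e | e
  · exact absurd hb (lt_irrefl _ <| lt_of_eq_of_lt (Subtype.ext (congrArg Specialization.toEquiv e).symm) ·)
  · have hb0 : Order.height b = 0 := Order.height_eq_zero.mpr fun c _ => by
      rw [← Subtype.coe_le_coe]; exact le_of_eq_of_le (congrArg Specialization.toEquiv e) c.2
    rw [hb0]; exact zero_lt_one

theorem deltaZ_zigzag [T0Space Y] {Z : Set Y} {k : ℕ} (y : Fin (k + 1) → Y) (y' : Fin k → Y) (h0 : y 0 ∈ Z)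
    (hdown : ∀ i : Fin k, y' i ⤳ y i.castSucc ∧ y' i ≠ y i.castSucc ∧
      ∀ z : Y, y' i ⤳ z → z ⤳ y i.castSucc → z = y' i ∨ z = y i.castSucc)
    (hup : ∀ i : Fin k, y' i ⤳ y i.succ ∧ y' i ≠ y i.succ) : deltaZ Z (y (Fin.last k)) ≤ k := by
  let w : Fin (k + 1) → Y := Fin.snoc y' (y (Fin.last k))
  have hwc : ∀ j : Fin k, w j.castSucc = y' j := fun j => by simp [w]
  have hwl : w (Fin.last k) = y (Fin.last k) := by simp [w]
  have hs : ∀ i, w i ⤳ y i := fun i => by
    induction i using Fin.lastCases with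
    | last => rw [hwl]
    | cast j => rw [hwc]; exact (hdown j).1
  have hss : ∀ i : Fin k, w i.castSucc ⤳ y i.succ := fun i => by rw [hwc]; exact (hup i).1
  let S : DSystem Z (y (Fin.last k)) k := ⟨y, w, hs, hss, h0, hwl⟩
  refine le_trans (iInf₂_le k S) ?_
  have hc1 : ∀ j : Fin k, S.c j.castSucc ≤ 1 := fun j =>
    (le_of_eq (S8812.codimPt_congr (hwc j) rfl _ (hdown j).1)).trans (codimPt_le_one _ (hdown j).2.2)
  have hc2 : S.c (Fin.last k) = 0 :=
    (S8812.codimPt_congr hwl rfl _ specializes_rfl).trans (S8812.codimPt_self _ _)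
  have hb : ∀ j : Fin k, 1 ≤ S.b j := fun j =>
    (S8812.one_le_codimPt (hup j).1 (hup j).2).trans
      (le_of_eq (S8812.codimPt_congr (hwc j).symm rfl _ _))
  unfold DSystem.delta
  have : (Finset.univ.sup fun i : Fin (k + 1) =>
      (∑ j ∈ Finset.univ.filter (fun j : Fin (k + 1) => i ≤ j), S.c j) -
        ∑ j ∈ Finset.univ.filter (fun j : Fin k => i.val ≤ j.val), S.b j) = 0 := by
    refine le_antisymm (Finset.sup_le fun i _ => ?_) zero_le
    rw [tsub_le_iff_right, zero_add, Finset.sum_filter, Finset.sum_filter, Fin.sum_univ_castSucc, hc2]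
    simp only [ite_self, add_zero]
    refine Finset.sum_le_sum fun j _ => ?_
    have : (i ≤ j.castSucc) ↔ (i.val ≤ j.val) := Iff.rfl
    split_ifs with a b b
    · exact (hc1 j).trans (hb j)
    · exact absurd (this.mp a) b
    · exact zero_le
    · exact le_rfl
  rw [this, add_zero]

/-- Let Y be a Noetherian scheme and Z ⊆ Y closed. Given points y_0, …, y_k and y'_0, …, y'_{k-1} of Y
with y_0 ∈ Z such that each y'_i specializes to y_{i+1} with y'_i ≠ y_{i+1}, and each y'_i ⤳ y_i is
an immediate specialization (y'_i ≠ y_i and no point strictly between), one has δ_Z(y_k) ≤ k. (The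
published statement also allows y'_i = y_{i+1}. In that generality the bound needs catenarity: for a
Noetherian local domain of dimension 3 having a saturated chain of primes (0) ⊂ 𝔭 ⊂ 𝔪 of length 2,
with Z the closed point and the pattern y_0 = 𝔪, y'_0 = y_1 = 𝔭, y'_1 = y_2 = (0), one has k = 2 but
δ_Z((0)) = 3. The published proof handles nontrivial specializations y'_i ⤳ y_{i+1}, for which the
closures of the y_i and y'_i form a system of value k, and reduces to that case by shortening the
chain, which does not preserve immediacy; this row states the case the proof establishes.) -/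
theorem result (Y : Scheme.{u}) [IsNoetherian Y] (Z : Set Y) (hZ : IsClosed Z) (k : ℕ) (y : Fin (k + 1) → Y) (y' : Fin k → Y) (h0 : y 0 ∈ Z) (hdown : ∀ i : Fin k, y' i ⤳ y i.castSucc ∧ y' i ≠ y i.castSucc ∧ ∀ z : Y, y' i ⤳ z → z ⤳ y i.castSucc → z = y' i ∨ z = y i.castSucc) (hup : ∀ i : Fin k, y' i ⤳ y i.succ ∧ y' i ≠ y i.succ) : Algz.deltaZ Z (y (Fin.last k)) ≤ k := by
  exact deltaZ_zigzag y y' h0 hdown hup

end Groth.Agent.S8816
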