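import Groth.Statements.S8817
import Mathlib

set_option autoImplicit false
universe u
open CategoryTheory AlgebraicGeometry
open Algz

namespace Groth.Agent.S8817

open AlgebraicGeometry Topology
set_option maxHeartbeats 1000000

lemma codimPt_ι (Y : Scheme.{u}) (U : Y.Opens) (w v : (U : Scheme.{u})) (h : w ⤳ v) (h' : U.ι w ⤳ U.ι v) :
    Algz.codimPt (U.ι w) (U.ι v) h' = Algz.codimPt w v h := by
  have hI : IsInducing U.ι := U.ι.isOpenEmbedding.isInducing
  let g : Set.Ici (Specialization.toEquiv v) → Set.Ici (Specialization.toEquiv (U.ι v)) := fun a =>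
    ⟨Specialization.toEquiv (U.ι (Specialization.ofEquiv a.1)), hI.specializes_iff.2 a.2⟩
  have hle : ∀ a b, g a ≤ g b ↔ a ≤ b := fun a b => hI.specializes_iff
  have hs : Function.Surjective g := by
    rintro ⟨b, hb⟩
    have hm : Specialization.ofEquiv b ∈ U := (show Specialization.ofEquiv b ⤳ U.ι v from hb).mem_open U.2 (by
      have : U.ι v ∈ Set.range U.ι := ⟨v, rfl⟩
      rwa [U.range_ι] at this)
    exact ⟨⟨Specialization.toEquiv ⟨_, hm⟩, hI.specializes_iff.1 hb⟩, rfl⟩
  have hi : Function.Injective g := fun a b e => by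
    have h1 : U.ι (Specialization.ofEquiv a.1) = U.ι (Specialization.ofEquiv b.1) :=
      congrArg (fun z : Set.Ici (Specialization.toEquiv (U.ι v)) => Specialization.ofEquiv z.1) e
    exact Subtype.ext (Specialization.ofEquiv.injective (U.ι.isOpenEmbedding.injective h1))
  let e : Set.Ici (Specialization.toEquiv v) ≃o Set.Ici (Specialization.toEquiv (U.ι v)) :=
    ⟨Equiv.ofBijective g ⟨hi, hs⟩, fun {a b} => hle a b⟩
  exact Order.height_orderIso e ⟨Specialization.toEquiv w, h⟩

/-- Let Y be a Noetherian scheme, Z ⊆ Y a closed subset and Y' ⊆ Y an open subscheme. For a point y' of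
Y' the distance function of Y' relative to Y' ∩ Z at y' is at least the distance function of Y
relative to Z at y'. -/
theorem result (Y : Scheme.{u}) [IsNoetherian Y] (Z : Set Y) (hZ : IsClosed Z) (Y' : Y.Opens) (y' : (↑Y' : Scheme.{u})) : Algz.deltaZ Z (Y'.ι.base y') ≤ Algz.deltaZ ((fun x : (↑Y' : Scheme.{u}) => Y'.ι.base x) ⁻¹' Z) y' := by
  refine le_iInf fun k => le_iInf fun S => ?_
  let ι' := fun x : (Y' : Scheme.{u}) => Y'.ι x
  let T : Algz.DSystem Z (Y'.ι y') k :=
    { v := fun i => ι' (S.v i), w := fun i => ι' (S.w i)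
      spec := fun i => (S.spec i).map Y'.ι.continuous
      spec_succ := fun i => (S.spec_succ i).map Y'.ι.continuous
      start_mem := S.start_mem
      last_eq := congrArg ι' S.last_eq }
  refine (iInf₂_le k T).trans (le_of_eq ?_)
  have hc : ∀ i, T.c i = S.c i := fun i => codimPt_ι Y Y' _ _ _ _
  have hb : ∀ i, T.b i = S.b i := fun i => codimPt_ι Y Y' _ _ _ _
  simp only [Algz.DSystem.delta, hc, hb]

end Groth.Agent.S8817
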