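import Groth.Statements.S8820
import Groth.Agent.DeltaFT.Basic

set_option autoImplicit false
universe u
open CategoryTheory AlgebraicGeometry Limits
open Algz

namespace Groth.Agent.S8820

/-- Let Y be a universally catenary Noetherian scheme (every local ring universally catenary), Z ⊆ Y a
closed subset, f : Y' → Y a morphism of finite type from a Noetherian scheme all of whose fibres
have dimension at most e, and Z' = f⁻¹(Z). Then for every point y' of Y' with image y, if the
residue field extension κ(y')/κ(y) has transcendence degree t, one has δ_Z(y) + t ≤ δ_{Z'}(y') + e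
(equivalently δ_Z(y) ≤ δ_{Z'}(y') + e − t; written without subtraction). -/
theorem result (Y Y' : Scheme.{u}) [IsNoetherian Y] [IsNoetherian Y'] (hY : ∀ y : Y, CAlg.IsUniversallyCatenary (Y.presheaf.stalk y)) (Z : Set Y) (hZ : IsClosed Z) (f : Y' ⟶ Y) [LocallyOfFiniteType f] (e : ℕ) (hfib : ∀ y : Y, topologicalKrullDim ↑(pullback f (Y.fromSpecResidueField y)) ≤ (e : WithBot ℕ∞)) (y' : Y') (t : ℕ) (ht : @Algebra.trdeg (Y.residueField (f.base y')) (Y'.residueField y') _ _ (f.residueFieldMap y').hom.toAlgebra = t) : Algz.deltaZ Z (f.base y') + t ≤ Algz.deltaZ (f.base ⁻¹' Z) y' + e := by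
  classical
  choose T hT hTe using fun x : Y' => Groth.Agent.DeltaFT.exists_resTrdegAt f x
  have hte : ∀ x : Y', T x ≤ e := fun x => by
    exact_mod_cast (hTe x).trans (hfib (f.base x))
  have ht' : T y' = t := by
    have := (hT y').symm.trans ht
    exact_mod_cast this
  refine le_of_le_of_eq ?_ (show (⨅ (k : ℕ) (S : Algz.DSystem (f.base ⁻¹' Z) y' k), S.delta + (e : ℕ∞)) = _ by
    simp only [Algz.deltaZ, ENat.iInf_add])
  refine le_iInf fun k => le_iInf fun S => ?_
  let S' : Algz.DSystem Z (f.base y') k :=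
    { v := fun i => f.base (S.v i), w := fun i => f.base (S.w i)
      spec := fun i => (S.spec i).map f.continuous
      spec_succ := fun i => (S.spec_succ i).map f.continuous
      start_mem := S.start_mem
      last_eq := congrArg f.base S.last_eq }
  refine (add_le_add_left (iInf₂_le k S') _).trans ?_
  choose c c' hc hc' hcc using fun i : Fin (k + 1) =>
    Groth.Agent.DeltaFT.codimPt_formula f hY (S.w i) (S.v i) (S.spec i) _ _ (hT _) (hT _)
  choose b b' hb hb' hbb using fun i : Fin k =>
    Groth.Agent.DeltaFT.codimPt_formula f hY (S.w i.castSucc) (S.v i.succ) (S.spec_succ i) _ _ (hT _) (hT _)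
  have eC : ∀ i, S.c i = (c i : ℕ∞) := hc
  have eC' : ∀ i, S'.c i = (c' i : ℕ∞) := hc'
  have eB : ∀ i, S.b i = (b i : ℕ∞) := hb
  have eB' : ∀ i, S'.b i = (b' i : ℕ∞) := hb'
  have key : ∀ i : Fin (k + 1),
      ((∑ j ∈ Finset.univ.filter (fun j : Fin (k + 1) => i ≤ j), c' j) -
        (∑ j ∈ Finset.univ.filter (fun j : Fin k => i.val ≤ j.val), b' j)) + t ≤
      ((∑ j ∈ Finset.univ.filter (fun j : Fin (k + 1) => i ≤ j), c j) -
        (∑ j ∈ Finset.univ.filter (fun j : Fin k => i.val ≤ j.val), b j)) + e := fun i => by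
    set P := Finset.univ.filter (fun j : Fin (k + 1) => i ≤ j) with hP
    set Q := Finset.univ.filter (fun j : Fin k => i.val ≤ j.val) with hQ
    have h1 : ∑ j ∈ P, c j + ∑ j ∈ P, T (S.v j) = ∑ j ∈ P, c' j + ∑ j ∈ P, T (S.w j) := by
      rw [← Finset.sum_add_distrib, ← Finset.sum_add_distrib]
      exact Finset.sum_congr rfl fun j _ => hcc j
    have h2 : ∑ j ∈ Q, b j + ∑ j ∈ Q, T (S.v j.succ) = ∑ j ∈ Q, b' j + ∑ j ∈ Q, T (S.w j.castSucc) := by
      rw [← Finset.sum_add_distrib, ← Finset.sum_add_distrib]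
      exact Finset.sum_congr rfl fun j _ => hbb j
    have h3 : P = insert i (Q.map (Fin.succEmb k)) := by
      ext j
      simp only [hP, hQ, Finset.mem_filter, Finset.mem_univ, true_and, Finset.mem_insert, Finset.mem_map,
        Fin.coe_succEmb]
      refine ⟨fun h => ?_, ?_⟩
      · rcases eq_or_lt_of_le h with h' | h'
        · exact Or.inl h'.symm
        · have h0 : i.val < j.val := h'
          exact Or.inr ⟨⟨j.val - 1, by omega⟩, by simp only; omega, Fin.ext (by simp only [Fin.val_succ]; omega)⟩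
      · rintro (rfl | ⟨a, ha, rfl⟩)
        · exact le_rfl
        · show i.val ≤ a.succ.val
          simp only [Fin.val_succ]; omega
    have h4 : ∑ j ∈ P, T (S.v j) = T (S.v i) + ∑ j ∈ Q, T (S.v j.succ) := by
      rw [h3, Finset.sum_insert, Finset.sum_map]
      · rfl
      · simp only [hQ, Finset.mem_map, Finset.mem_filter, Finset.mem_univ, true_and, Fin.coe_succEmb]
        rintro ⟨a, ha, hai⟩
        have := congrArg Fin.val hai
        simp only [Fin.val_succ] at this
        omega
    have h5 : P = insert (Fin.last k) (Q.map Fin.castSuccEmb) := by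
      ext j
      simp only [hP, hQ, Finset.mem_filter, Finset.mem_univ, true_and, Finset.mem_insert, Finset.mem_map,
        Fin.coe_castSuccEmb]
      refine ⟨fun h => ?_, ?_⟩
      · rcases Fin.eq_castSucc_or_eq_last j with ⟨a, rfl⟩ | h'
        · exact Or.inr ⟨a, h, rfl⟩
        · exact Or.inl h'
      · rintro (rfl | ⟨a, ha, rfl⟩)
        · exact Fin.le_last _
        · exact ha
    have h6 : ∑ j ∈ P, T (S.w j) = t + ∑ j ∈ Q, T (S.w j.castSucc) := by
      rw [h5, Finset.sum_insert, Finset.sum_map, S.last_eq, ht']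
      · rfl
      · simp [Fin.castSucc_ne_last]
    have := hte (S.v i)
    have := hte y'
    omega
  simp only [Algz.DSystem.delta, eC, eC', eB, eB', ← Nat.cast_sum, ← ENat.natCast_sub]
  rw [add_assoc, add_assoc]
  refine add_le_add le_rfl ?_
  obtain ⟨i, -, hi⟩ := Finset.exists_mem_eq_sup Finset.univ Finset.univ_nonempty (fun i : Fin (k + 1) =>
    (((∑ j ∈ Finset.univ.filter (fun j : Fin (k + 1) => i ≤ j), c' j) -
      (∑ j ∈ Finset.univ.filter (fun j : Fin k => i.val ≤ j.val), b' j) : ℕ) : ℕ∞))
  rw [hi]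
  refine le_trans ?_ (add_le_add_left (Finset.le_sup (f := fun i : Fin (k + 1) =>
    (((∑ j ∈ Finset.univ.filter (fun j : Fin (k + 1) => i ≤ j), c j) -
      (∑ j ∈ Finset.univ.filter (fun j : Fin k => i.val ≤ j.val), b j) : ℕ) : ℕ∞)) (Finset.mem_univ i)) _)
  exact_mod_cast key i

end Groth.Agent.S8820
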