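import Groth.Statements.S8821
import Groth.Agent.FormalLib.ModPow
-- import your own Groth.Agent.* helpers here

set_option autoImplicit false
universe u
open CategoryTheory AlgebraicGeometry
open Formal2

namespace Groth.Agent.S8821

open CategoryTheory.Limits in
theorem smulMod_mul {A : Type u} [CommRing A] {X : Scheme.{u}} [X.Over (Spec (CommRingCat.of A))] (M : X.Modules) (a b : A) :
    Formal.smulMod A M (a * b) = Formal.smulMod A M a ≫ Formal.smulMod A M b := by
  refine Scheme.Modules.hom_ext _ _ fun U => AddCommGrpCat.hom_ext (AddMonoidHom.ext fun s => ?_)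
  show ProjCoh.φV (FormalLib.cst A X) U (a * b) • s =
    ProjCoh.φV (FormalLib.cst A X) U b • (ProjCoh.φV (FormalLib.cst A X) U a • s)
  rw [mul_comm, map_mul, mul_smul]

open CategoryTheory.Limits in
theorem mono_smulMod_pow {A : Type u} [CommRing A] {X : Scheme.{u}} [X.Over (Spec (CommRingCat.of A))] {M : X.Modules}
    {f : A} (hF : Mono (Formal.smulMod A M f)) : ∀ n : ℕ, Mono (Formal.smulMod A M (f ^ n)) := by
  intro n
  induction n with
  | zero =>
    rw [pow_zero, show Formal.smulMod A M (1 : A) = 𝟙 M from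
      Scheme.Modules.hom_ext _ _ fun U => AddCommGrpCat.hom_ext (AddMonoidHom.ext fun s => by
        show ProjCoh.φV (FormalLib.cst A X) U 1 • s = s
        rw [map_one, one_smul])]
    infer_instance
  | succ n ih =>
    rw [pow_succ, smulMod_mul]
    exact mono_comp _ _

open CategoryTheory.Limits in
theorem smulMod_π {A : Type u} [CommRing A] {X : Scheme.{u}} [X.Over (Spec (CommRingCat.of A))] (M : X.Modules)
    (f : A) (m : ℕ) : Formal.smulMod A M (f ^ m) ≫ Formal.modPowπ (Ideal.span ({f} : Set A)) m M = 0 := by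
  have h : f ^ m ∈ Ideal.span ({f} : Set A) ^ m := Ideal.pow_mem_pow (Ideal.mem_span_singleton_self f) m
  have e := (Sigma.ι (fun _ : ↥(Ideal.span ({f} : Set A) ^ m) => M) ⟨f ^ m, h⟩) ≫=
    cokernel.condition (Formal.smulFamily (Ideal.span ({f} : Set A) ^ m) M)
  rw [← Category.assoc, Formal.smulFamily, Sigma.ι_desc, comp_zero] at e
  exact e

open CategoryTheory.Limits in
theorem exists_desc {A : Type u} [CommRing A] {X : Scheme.{u}} [X.Over (Spec (CommRingCat.of A))] (M : X.Modules)
    (f : A) (m : ℕ) {T : X.Modules} (t : M ⟶ T) (ht : Formal.smulMod A M (f ^ m) ≫ t = 0) :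
    ∃ l, Formal.modPowπ (Ideal.span ({f} : Set A)) m M ≫ l = t := by
  have h : Formal.smulFamily (Ideal.span ({f} : Set A) ^ m) M ≫ t = 0 := by
    refine Sigma.hom_ext _ _ fun a => ?_
    obtain ⟨a, ha⟩ := a
    rw [Ideal.span_singleton_pow, Ideal.mem_span_singleton'] at ha
    obtain ⟨c, rfl⟩ := ha
    rw [comp_zero, ← Category.assoc, Formal.smulFamily, Sigma.ι_desc, smulMod_mul, Category.assoc, ht, comp_zero]
  exact ⟨cokernel.desc _ t h, cokernel.π_desc _ _ _⟩

open CategoryTheory.Limits in
theorem exists_lift_smul {A : Type u} [CommRing A] {X : Scheme.{u}} [X.Over (Spec (CommRingCat.of A))] (M : X.Modules)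
    (f : A) (m : ℕ) {T : X.Modules} (y : T ⟶ M) (hy : y ≫ Formal.modPowπ (Ideal.span ({f} : Set A)) m M = 0) :
    ∃ (T' : X.Modules) (π : T' ⟶ T) (_ : Epi π) (z : T' ⟶ M), π ≫ y = z ≫ Formal.smulMod A M (f ^ m) := by
  let S := ShortComplex.mk (Formal.smulMod A M (f ^ m)) (Formal.modPowπ (Ideal.span ({f} : Set A)) m M) (smulMod_π M f m)
  have hl : ∀ {T' : X.Modules} (k : M ⟶ T'), Formal.smulMod A M (f ^ m) ≫ k = 0 →
      { l : Formal.modPow (Ideal.span ({f} : Set A)) m M ⟶ T' // Formal.modPowπ (Ideal.span ({f} : Set A)) m M ≫ l = k } :=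
    fun k hk => ⟨(exists_desc M f m k hk).choose, (exists_desc M f m k hk).choose_spec⟩
  haveI : Epi (Formal.modPowπ (Ideal.span ({f} : Set A)) m M) :=
    inferInstanceAs (Epi (cokernel.π _))
  have hS : S.Exact := S.exact_of_g_is_cokernel (CokernelCofork.IsColimit.ofπ' _ _ hl)
  exact ShortComplex.exact_iff_exact_up_to_refinements S |>.1 hS y hy

/-- Implication (4) ⇒ (2), for an O_X-module over a base ring A and f ∈ A. Let X be a scheme over Spec
A, f ∈ A and F an O_X-module on which multiplication by f is a monomorphism. Then for every n ≥ 1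
there is a monomorphism i : F/fF → F/f^{n+1}F through which multiplication by f^n on F/f^{n+1}F
factors (projection to F/fF followed by i), and F/fF → F/f^{n+1}F → F/f^nF, with second map the
transition map, is a short exact sequence. (Stated for schemes; the published statement is for
ringed spaces.) -/
theorem result (A : Type u) [CommRing A] (X : Scheme.{u}) [X.Over (Spec (CommRingCat.of A))] (f : A) (F : X.Modules) (hF : Mono (Formal.smulMod A F f)) (n : ℕ) (hn : 1 ≤ n) : ∃ i : Formal.modPow (Ideal.span ({f} : Set A)) 1 F ⟶ Formal.modPow (Ideal.span ({f} : Set A)) (n + 1) F, Mono i ∧ Formal2.modPowLE (Ideal.span ({f} : Set A)) (Nat.le_add_left 1 n) F ≫ i = Formal.smulMod A (Formal.modPow (Ideal.span ({f} : Set A)) (n + 1) F) (f ^ n) ∧ ∃ w : i ≫ Formal.modPowTrans (Ideal.span ({f} : Set A)) n F = 0, (ShortComplex.mk i (Formal.modPowTrans (Ideal.span ({f} : Set A)) n F) w).ShortExact := by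
  classical
  let I := Ideal.span ({f} : Set A)
  let s := Formal.smulMod A F
  haveI := mono_smulMod_pow hF n
  haveI hp : ∀ m, Epi (Formal.modPowπ I m F) := fun m => inferInstanceAs (Epi (Limits.cokernel.π _))
  obtain ⟨i, hi⟩ := exists_desc F f 1 (s (f ^ n) ≫ Formal.modPowπ I (n + 1) F) (by
    rw [← Category.assoc, ← smulMod_mul, pow_one, ← pow_succ', smulMod_π])
  have hle : Formal2.modPowLE I (Nat.le_add_left 1 n) F ≫ i = Formal.smulMod A (Formal.modPow I (n + 1) F) (f ^ n) := by
    rw [← cancel_epi (Formal.modPowπ I (n + 1) F), ← Category.assoc, Formal2.modPowπ_modPowLE, hi,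
      FormalLib.smulMod_natural]
  have w : i ≫ Formal.modPowTrans I n F = 0 := by
    rw [← cancel_epi (Formal.modPowπ I 1 F), ← Category.assoc, hi, Category.assoc, Formal.modPowπ_trans,
      smulMod_π, Limits.comp_zero]
  have hmono : Mono i := by
    refine Preadditive.mono_of_cancel_zero _ fun {T} x hx => ?_
    obtain ⟨T₁, π₁, _, y, hy⟩ := surjective_up_to_refinements_of_epi (Formal.modPowπ I 1 F) x
    have h0 : (y ≫ s (f ^ n)) ≫ Formal.modPowπ I (n + 1) F = 0 := by
      rw [Category.assoc, ← hi, ← Category.assoc, ← hy, Category.assoc, hx, Limits.comp_zero]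
    obtain ⟨T₂, π₂, _, z, hz⟩ := exists_lift_smul F f (n + 1) (y ≫ s (f ^ n)) h0
    rw [pow_succ', smulMod_mul, ← Category.assoc, ← Category.assoc, cancel_mono (s (f ^ n))] at hz
    rw [← cancel_epi π₁, ← cancel_epi π₂, hy, ← Category.assoc, hz, Category.assoc, Limits.comp_zero, Limits.comp_zero]
    have e := smulMod_π F f 1
    rw [pow_one] at e
    rw [e, Limits.comp_zero]
  haveI := hmono
  haveI : Epi (Formal.modPowTrans I n F) := epi_of_epi_fac (Formal.modPowπ_trans I n F)
  refine ⟨i, hmono, hle, w, { exact := ?_ }⟩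
  rw [ShortComplex.exact_iff_exact_up_to_refinements]
  intro T x hx
  obtain ⟨T₁, π₁, _, y, hy⟩ := surjective_up_to_refinements_of_epi (Formal.modPowπ I (n + 1) F) x
  have h0 : y ≫ Formal.modPowπ I n F = 0 := by
    rw [← Formal.modPowπ_trans, ← Category.assoc, ← hy, Category.assoc]
    exact (congrArg (π₁ ≫ ·) hx).trans Limits.comp_zero
  obtain ⟨T₂, π₂, _, z, hz⟩ := exists_lift_smul F f n y h0
  refine ⟨T₂, π₂ ≫ π₁, epi_comp _ _, z ≫ Formal.modPowπ I 1 F, ?_⟩
  show (π₂ ≫ π₁) ≫ x = (z ≫ Formal.modPowπ I 1 F) ≫ i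
  rw [Category.assoc, hy, ← Category.assoc, hz, Category.assoc, Category.assoc, hi]

end Groth.Agent.S8821
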