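import Mathlib
import Groth.Agent.ArtinApproxLib.Core
import Groth.Agent.GRingCompleteLib.Completion
import Groth.Agent.GRingCompleteLib.Descend
import Groth.Statements.S8823

set_option autoImplicit false
universe u
open AdicRing

namespace Groth.Agent.S8823

/-- Let A be a Noetherian G-ring and I an ideal of A. Let B and C be A-algebras of finite type, φ an
A-algebra map from the IB-adic completion of B to the IC-adic completion of C, and N ≥ 1. Then one
can find an etale C-algebra C' for which the induced map C/IC → C'/IC' is a bijection, together with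
a homomorphism of A-algebras ψ : B → C' that approximates φ to order N: given any b ∈ B, some c ∈ C
satisfies ψ(b) − c ∈ I^N C', while the image of φ(b) in C/I^N C (the N-th truncation of the
completion) coincides with the class of c. -/
theorem result (A : Type u) [CommRing A] (hA : CAlg.IsGRing A) (I : Ideal A) (B C : Type u) [CommRing B] [Algebra A B] [Algebra.FiniteType A B] [CommRing C] [Algebra A C] [Algebra.FiniteType A C] (φ : (AdicCompletion (I.map (algebraMap A B)) B) →ₐ[A] (AdicCompletion (I.map (algebraMap A C)) C)) (N : ℕ) (hN : 1 ≤ N) : ∃ (C' : Type u) (_ : CommRing C') (_ : Algebra C C') (_ : Algebra A C') (_ : IsScalarTower A C C') (_ : Algebra.Etale C C') (ψ : B →ₐ[A] C'), ((∀ c' : C', ∃ c : C, algebraMap C C' c - c' ∈ I.map (algebraMap A C')) ∧ ∀ c : C, algebraMap C C' c ∈ I.map (algebraMap A C') → c ∈ I.map (algebraMap A C)) ∧ ∀ b : B, ∃ c : C, ψ b - algebraMap C C' c ∈ (I.map (algebraMap A C')) ^ N ∧ AdicCompletion.eval (I.map (algebraMap A C)) C N (φ (AdicCompletion.of (I.map (algebraMap A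 B)) B b)) = Submodule.Quotient.mk c := by
  classical
  haveI := hA.1
  haveI : IsNoetherianRing C := Algebra.FiniteType.isNoetherianRing A C
  haveI : Algebra.FinitePresentation A B := Algebra.FinitePresentation.of_finiteType.1 inferInstance
  let K : Ideal C := I.map (algebraMap A C)
  haveI := RegLocal.isNoetherianRing_completion C K
  have hreg : CAlg.IsRegularHom C (AdicCompletion K C) :=
    GRingCompleteLib.isRegularHom_adicCompletion C (GRingCompleteLib.isGRing_of_finiteType A hA C) K
  let f₀ : B →ₐ[A] AdicCompletion K C := φ.comp ((Algebra.ofId B (AdicCompletion (I.map (algebraMap A B)) B)).restrictScalars A)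
  let f : TensorProduct A C B →ₐ[C] AdicCompletion K C :=
    Algebra.TensorProduct.lift (Algebra.ofId C _) f₀ fun _ _ => Commute.all _ _
  obtain ⟨D, _, _, hD, g, h, hgh⟩ :=
    SmoothingLib.indSmooth_of_isRegularHom hreg (TensorProduct A C B) inferInstance f
  haveI := hD
  obtain ⟨C', _, _, hC', hbij, τ, hτ⟩ := ArtinApproxLib.exists_etale_section (K ^ N)
    ((AdicCompletion.evalₐ K N).comp h)
  letI : Algebra A C' := ((algebraMap C C').comp (algebraMap A C)).toAlgebra
  haveI : IsScalarTower A C C' := IsScalarTower.of_algebraMap_eq fun _ => rfl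
  let ψ : B →ₐ[A] C' := ((τ.comp g).restrictScalars A).comp Algebra.TensorProduct.includeRight
  have hIC' : I.map (algebraMap A C') = K.map (algebraMap C C') := by
    rw [Ideal.map_map, ← IsScalarTower.algebraMap_eq]
  have hle : (K ^ N).map (algebraMap C C') ≤ K.map (algebraMap C C') :=
    Ideal.map_mono (Ideal.pow_le_self (Nat.one_le_iff_ne_zero.1 hN))
  refine ⟨C', inferInstance, inferInstance, inferInstance, inferInstance, hC', ψ, ⟨fun c' => ?_, fun c hc => ?_⟩,
    fun b => ?_⟩
  · obtain ⟨q, hq⟩ := hbij.2 (Ideal.Quotient.mk _ c')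
    obtain ⟨c, rfl⟩ := Ideal.Quotient.mk_surjective q
    rw [Ideal.quotientMap_mk] at hq
    exact ⟨c, hIC' ▸ hle (Ideal.Quotient.eq.1 hq)⟩
  · let e := AlgEquiv.ofBijective
      (Ideal.quotientMapₐ ((K ^ N).map (algebraMap C C')) (Algebra.ofId C C') Ideal.le_comap_map) hbij
    let φ' : C' →ₐ[C] C ⧸ K ^ N := e.symm.toAlgHom.comp (Ideal.Quotient.mkₐ C _)
    rw [hIC'] at hc
    have h1 := Ideal.mem_map_of_mem φ'.toRingHom hc
    rw [Ideal.map_map, show φ'.toRingHom.comp (algebraMap C C') = Ideal.Quotient.mk (K ^ N) from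
      RingHom.ext φ'.commutes] at h1
    have h2 : φ' (algebraMap C C' c) = Ideal.Quotient.mk (K ^ N) c := φ'.commutes c
    rw [show φ'.toRingHom (algebraMap C C' c) = Ideal.Quotient.mk (K ^ N) c from h2, ← Ideal.mem_comap,
      Ideal.comap_map_of_surjective _ Ideal.Quotient.mk_surjective, ← RingHom.ker_eq_comap_bot, Ideal.mk_ker,
      sup_eq_left.2 (Ideal.pow_le_self (Nat.one_le_iff_ne_zero.1 hN))] at h1
    exact h1
  · obtain ⟨c, hc⟩ := Ideal.Quotient.mk_surjective (AdicCompletion.evalₐ K N (f₀ b))
    have hb : (AdicCompletion.evalₐ K N) (h (g (1 ⊗ₜ b))) = AdicCompletion.evalₐ K N (f₀ b) := by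
      rw [← AlgHom.comp_apply h g, hgh]
      simp [f]
    have h1 := hτ (g (1 ⊗ₜ b))
    rw [show ((AdicCompletion.evalₐ K N).comp h) (g (1 ⊗ₜ b)) = Ideal.Quotient.mk _ c from hb.trans hc.symm,
      Ideal.quotientMap_mk, Ideal.Quotient.eq] at h1
    refine ⟨c, ?_, ?_⟩
    · rw [hIC', ← Ideal.map_pow]
      exact h1
    · have hKN : K ^ N ≤ (K ^ N • ⊤ : Submodule C C) := by rw [smul_eq_mul, Ideal.mul_top]
      show AdicCompletion.eval K C N (f₀ b) = _
      rw [← AdicCompletion.factor_evalₐ_eq_eval K (f₀ b) hKN, ← hc]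
      rfl

end Groth.Agent.S8823
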