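import Groth.Statements.S8825
import Groth.Agent.GRingCompleteLib.Completion
import Groth.Agent.WildQuotLib.PSReg
import Groth.Agent.FlatDepth.Fibres
-- import your own Groth.Agent.* helpers here

set_option autoImplicit false
universe u
open AdicRing

namespace Groth.Agent.S8825

/-- Let A be a Noetherian ring which is complete for the adic topology of an ideal I, let p be a
rig-closed prime of A (I ⊄ p and p is maximal among the primes not containing I), and let n ≥ 1.
Then the ring map from A/p to the restricted power series ring (A/p){x_1, …, x_n}, i.e. the I-adic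
completion of the polynomial ring (A/p)[x_1, …, x_n], is a regular ring map (flat, with Noetherian
and geometrically regular fibres). (The consequence for the fibre over the fraction field is not
stated.) -/
theorem result (A : Type u) [CommRing A] [IsNoetherianRing A] (I : Ideal A) [IsAdicComplete I A] (p : PrimeSpectrum A) (hp : ¬ I ≤ p.asIdeal ∧ ∀ q : PrimeSpectrum A, p ≤ q → ¬ I ≤ q.asIdeal → q = p) (n : ℕ) (hn : 1 ≤ n) : CAlg.IsRegularHom (A ⧸ p.asIdeal) (AdicCompletion (I.map (algebraMap A (MvPolynomial (Fin n) (A ⧸ p.asIdeal)))) (MvPolynomial (Fin n) (A ⧸ p.asIdeal))) := by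
  haveI := p.isPrime
  let B := A ⧸ p.asIdeal
  let J := I.map (algebraMap A B)
  haveI : IsAdicComplete I B := FiniteCompleteLib.isAdicComplete_of_finite I B
  haveI : IsAdicComplete J B := (IsAdicComplete.map_algebraMap_iff I B).2 inferInstance
  have hJ0 : J ≠ ⊥ := fun h => hp.1 (by
    intro x hx
    exact Ideal.Quotient.eq_zero_iff_mem.1 (Ideal.mem_bot.1 (h ▸ Ideal.mem_map_of_mem (algebraMap A B) hx)))
  have hJq : ∀ q : Ideal B, q.IsPrime → q ≠ ⊥ → J ≤ q := fun q hq hq0 => by
    rw [Ideal.map_le_iff_le_comap]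
    by_contra hI
    let q' : PrimeSpectrum A := ⟨q.comap (algebraMap A B), Ideal.IsPrime.comap _⟩
    have hle : p.asIdeal ≤ q'.asIdeal := fun x hx => by
      show algebraMap A B x ∈ q
      rw [show algebraMap A B x = 0 from Ideal.Quotient.eq_zero_iff_mem.2 hx]
      exact zero_mem q
    have heq := congrArg PrimeSpectrum.asIdeal (hp.2 q' hle hI)
    refine hq0 (eq_bot_iff.2 fun y hy => ?_)
    obtain ⟨y, rfl⟩ := Ideal.Quotient.mk_surjective y
    exact Ideal.mem_bot.2 (Ideal.Quotient.eq_zero_iff_mem.2 (heq ▸ hy))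
  have hJtop : J ≠ ⊤ := fun h => by
    obtain ⟨m, hm⟩ := Ideal.exists_maximal B
    exact hm.ne_top (top_le_iff.1 (h.symm.le.trans ((IsAdicComplete.le_jacobson_bot J).trans (sInf_le ⟨bot_le, hm⟩))))
  have hfin := Ideal.finite_minimalPrimes_of_isNoetherianRing B J
  have hPbot : ∀ P ∈ J.minimalPrimes, P ≠ ⊥ := fun P hP h => hJ0 (le_bot_iff.1 (h ▸ hP.1.2))
  -- every maximal ideal is minimal over `J`
  have hmaxmin : ∀ m : Ideal B, m.IsMaximal → m ∈ J.minimalPrimes := fun m hm => by
    by_contra hmS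
    have hJm : J ≤ m := (IsAdicComplete.le_jacobson_bot J).trans (sInf_le ⟨bot_le, hm⟩)
    obtain ⟨x, hxm, hxS⟩ : ∃ x ∈ m, ∀ P ∈ J.minimalPrimes, x ∉ P := by
      by_contra hcon
      push Not at hcon
      have hsub : (m : Set B) ⊆ ⋃ P ∈ (hfin.toFinset : Set (Ideal B)), (P : Set B) := fun x hx => by
        obtain ⟨P, hP, hxP⟩ := hcon x hx
        exact Set.mem_biUnion (by simpa using hP) hxP
      obtain ⟨P, hP, hle⟩ := (Ideal.subset_union_prime ⊥ ⊥ (fun P hP _ _ => (hfin.mem_toFinset.1 hP).1.1)).1 hsub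
      have hP' := hfin.mem_toFinset.1 hP
      exact hmS (hm.eq_of_le hP'.1.1.ne_top hle ▸ hP')
    haveI := hm.isPrime
    obtain ⟨P', hP', hP'm⟩ := Ideal.exists_minimalPrimes_le ((Ideal.span_singleton_le_iff_mem m).2 hxm)
    haveI := hP'.1.1
    obtain ⟨P₀, hP₀, -⟩ := Ideal.exists_minimalPrimes_le hJm
    have hx0 : x ≠ 0 := fun h => hxS P₀ hP₀ (h ▸ zero_mem P₀)
    have hP'0 : P' ≠ ⊥ := fun h => hx0 (Ideal.mem_bot.1 (h ▸ hP'.1.2 (Ideal.mem_span_singleton_self x)))
    obtain ⟨P, hP, hPP'⟩ := Ideal.exists_minimalPrimes_le (hJq P' inferInstance hP'0)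
    haveI := hP.1.1
    have hlt : P < P' := hPP'.lt_of_ne fun h => hxS P hP (h ▸ hP'.1.2 (Ideal.mem_span_singleton_self x))
    have h1 : P'.height ≤ 1 := Ideal.height_le_one_of_isPrincipal_of_mem_minimalPrimes (Ideal.span {x}) P' hP'
    have h2 := (Ideal.height_strict_mono_of_isPrime (I := P) hlt).trans_le h1
    rw [Order.lt_one_iff, Ideal.height_eq_zero_iff_eq_bot] at h2
    exact hPbot P hP h2
  let K := J.radical
  have hKm : ∀ m : Ideal B, m.IsMaximal → K ≤ m := fun m hm => haveI := hm.isPrime; hm.isPrime.radical_le_iff.2 (hmaxmin m hm).1.2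
  obtain ⟨N, hN⟩ := Ideal.exists_radical_pow_le_of_fg J (J.radical.fg_of_isNoetherianRing)
  haveI : IsAdicComplete K B := WildQuotLib.isAdicComplete_of_pow_le (I := J) Ideal.le_radical (Nat.succ_pos N)
    ((Ideal.pow_le_pow_right N.le_succ).trans hN)
  haveI : IsLocalRing B := by
    obtain ⟨m₁, hm₁⟩ := Ideal.exists_maximal B
    refine IsLocalRing.of_unique_max_ideal ⟨m₁, hm₁, fun m₂ hm₂ => by_contra fun hne => ?_⟩
    classical
    let T := (J.minimalPrimes \ {m₁})
    have hco : IsCoprime m₁ (⨅ P ∈ T, P) := by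
      refine Ideal.isCoprime_iff_sup_eq.2 (by_contra fun h => ?_)
      obtain ⟨m, hm, hle⟩ := Ideal.exists_le_maximal _ h
      obtain rfl := (hm₁.eq_of_le hm.ne_top (le_sup_left.trans hle))
      have hTfin : T.Finite := hfin.subset Set.sdiff_subset
      have hinf : hTfin.toFinset.inf id ≤ m₁ := by
        refine le_trans (le_of_eq ?_) (le_sup_right.trans hle)
        rw [Finset.inf_eq_iInf]
        simp
      obtain ⟨P, hP, hPm⟩ := (Ideal.IsPrime.inf_le' hm₁.isPrime).1 hinf
      have hP' := hTfin.mem_toFinset.1 hP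
      haveI := hP'.1.1.1
      exact hP'.2 (le_antisymm hPm ((hmaxmin m₁ hm₁).2 hP'.1.1 hPm))
    obtain ⟨e, he, e', he', hee⟩ := Ideal.isCoprime_iff_exists.1 hco
    have hmemK : e * e' ∈ K := by
      show e * e' ∈ J.radical
      rw [Ideal.radical_eq_sInf]
      refine Submodule.mem_sInf.2 fun q hq => ?_
      haveI := hq.2
      obtain ⟨P, hP, hPq⟩ := Ideal.exists_minimalPrimes_le hq.1
      by_cases h : P = m₁
      · exact hPq (h ▸ Ideal.mul_mem_right _ _ he)
      · exact hPq (Ideal.mul_mem_left _ _ ((iInf₂_le P (show P ∈ T from ⟨hP, h⟩) : _ ≤ P) he'))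
    let f : Polynomial B := Polynomial.X ^ 2 - Polynomial.X
    have hf : f.Monic := by
      exact Polynomial.monic_X_pow_sub (by simp)
    have hK : f.eval e ∈ K := by
      have : f.eval e = -(e * e') := by
        rw [show e' = 1 - e by linear_combination hee]
        simp [f]; ring
      rw [this]; exact neg_mem hmemK
    have hunit : IsUnit (Ideal.Quotient.mk K (f.derivative.eval e)) := by
      refine IsUnit.of_mul_eq_one (Ideal.Quotient.mk K (f.derivative.eval e)) ?_
      rw [← map_mul, ← map_one (Ideal.Quotient.mk K), Ideal.Quotient.eq]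
      have : f.derivative.eval e * f.derivative.eval e - 1 = 4 * f.eval e := by
        simp [f, one_add_one_eq_two]; ring
      rw [this]; exact Ideal.mul_mem_left _ _ hK
    obtain ⟨r, hr, hre⟩ := HenselianRing.is_henselian f hf e hK hunit
    have hr' : r * (r - 1) = 0 := by
      have : r ^ 2 - r = 0 := by simpa [f] using hr
      rw [← this]; ring
    rcases mul_eq_zero.1 hr' with h | h
    · -- `e ∈ K`, so the unit decomposition lies in `m₁`
      have heK : e ∈ K := neg_mem_iff.1 (zero_sub e ▸ h ▸ hre)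
      obtain ⟨P, hP⟩ : ∃ P, P ∈ T := ⟨m₂, hmaxmin m₂ hm₂, hne⟩
      haveI := hP.1.1.1
      exact hP.1.1.1.ne_top ((Ideal.eq_top_iff_one _).2 (hee ▸ add_mem
        (hP.1.1.1.radical_le_iff.2 hP.1.1.2 heK) ((iInf₂_le P hP : _ ≤ P) he')))
    · have h1 : (1 : B) - e ∈ K := by rwa [sub_eq_zero.1 h] at hre
      exact hm₁.ne_top ((Ideal.eq_top_iff_one _).2 (by simpa using add_mem (hKm m₁ hm₁ h1) he))
  have hKeq : K = IsLocalRing.maximalIdeal B := le_antisymm (hKm _ (IsLocalRing.maximalIdeal.isMaximal B)) (by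
    show _ ≤ J.radical
    rw [Ideal.radical_eq_sInf]
    refine le_sInf fun q hq => ?_
    haveI := hq.2
    obtain ⟨P, hP, hPq⟩ := Ideal.exists_minimalPrimes_le hq.1
    have hmin := (hmaxmin _ (IsLocalRing.maximalIdeal.isMaximal B)).2 hP.1 (IsLocalRing.le_maximalIdeal hP.1.1.ne_top)
    exact hmin.trans hPq)
  haveI : IsAdicComplete (IsLocalRing.maximalIdeal B) B := hKeq ▸ inferInstance
  let P := MvPolynomial (Fin n) B
  have hB : CAlg.IsRegularHom B P := RegHomLib.isRegularHom_of_fields
    (fun q _ => RegDesc.isNoetherianRing_tensor_essFiniteType B _ _) fun K' _ _ _ _ =>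
      IsRegularRing.of_ringEquiv (R := MvPolynomial (Fin n) K')
        (MvPolynomial.algebraTensorAlgEquiv (σ := Fin n) B K').symm.toRingEquiv
  let J' := I.map (algebraMap A P)
  haveI : IsNoetherianRing (AdicCompletion J' P) := RegLocal.isNoetherianRing_completion P J'
  exact RegDesc.isRegularHom_comp B P (AdicCompletion J' P) hB
    (GRingCompleteLib.isRegularHom_adicCompletion P (GRingCompleteLib.isGRing_finiteType B P) J')

end Groth.Agent.S8825
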