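import Groth.Statements.S8832
import Groth.Agent.PuncSecLib.HHLinear
import Groth.Agent.S0817
-- import your own Groth.Agent.* helpers here

set_option autoImplicit false
universe u
open CategoryTheory AlgebraicGeometry
open LocCoh

namespace Groth.Agent.S8832

/-- Let (A, m) be a Noetherian local ring and U = Spec A ∖ {m} its punctured spectrum. Given a coherent
O_U-module F and an index i > 0, every descending chain of A-submodules of the cohomology H^i(U, F)
stabilizes, i.e. this A-module is Artinian. -/
theorem result (A : Type u) [CommRing A] [IsNoetherianRing A] [IsLocalRing A] (F : (↑(LocCoh.puncturedOpen A (IsLocalRing.maximalIdeal A)) : Scheme.{u}).Modules) (hF : Coh.IsCoh F) (i : ℕ) (hi : 0 < i) : IsArtinian A (Coh.HH (↑(LocCoh.puncturedOpen A (IsLocalRing.maximalIdeal A)) : Scheme.{u}) F i) := by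
  obtain ⟨q, rfl⟩ := Nat.exists_eq_add_of_le' (Nat.one_le_iff_ne_zero.2 hi.ne')
  obtain ⟨N, _, _, hN, ⟨e⟩⟩ := (Groth.Agent.S2269.result A _ F).1 hF
  haveI := hN
  let e' : F ≅ (Groth.Agent.PuncSecLib.tR (LocCoh.puncturedOpen A (IsLocalRing.maximalIdeal A))).obj
    (ModuleCat.of A N) := e
  haveI := Groth.Agent.PuncSecLib.isArtinian_HH_tR (IsLocalRing.maximalIdeal A) q N
    (Groth.Agent.S0817.result A N (q + 2))
  refine isArtinian_of_injective (Groth.Agent.PuncSecLib.mapL (A := A) e'.hom (q + 1)) ?_
  refine Function.LeftInverse.injective (g := Groth.Agent.PuncSecLib.mapL (A := A) e'.inv (q + 1)) fun x => ?_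
  refine (Formal.HHmap_comp e'.hom e'.inv (q + 1) x).trans ?_
  refine (congrArg (fun t => Sheaf.H.map ((SheafOfModules.toSheaf _).map t) (q + 1) x) e'.hom_inv_id).trans ?_
  refine (congrArg (fun t => Sheaf.H.map t (q + 1) x) ((SheafOfModules.toSheaf _).map_id F)).trans ?_
  exact Sheaf.H.map_id_apply x

end Groth.Agent.S8832
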