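import Groth.Statements.S8831
import Groth.Agent.S8832
-- import your own Groth.Agent.* helpers here

set_option autoImplicit false
universe u
open CategoryTheory AlgebraicGeometry Opposite
open LocCoh

namespace Groth.Agent.S8831

/-- Let (A, m) be a Noetherian local ring and U = Spec A ∖ {m} the punctured spectrum. Suppose we are
given a system (F_n), indexed inversely by n, of coherent modules on U. In each positive degree i,
the cohomology groups H^i(U, F_n) then form a Mittag-Leffler system; concretely, given any n one can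
find r ≥ n such that for all s ≥ r the image of H^i(U, F_s) → H^i(U, F_n) equals the image of H^i(U,
F_r) → H^i(U, F_n). -/
theorem result (A : Type u) [CommRing A] [IsNoetherianRing A] [IsLocalRing A] (G : ℕᵒᵖ ⥤ (↑(LocCoh.puncturedOpen A (IsLocalRing.maximalIdeal A)) : Scheme.{u}).Modules) (hG : ∀ n : ℕᵒᵖ, Coh.IsCoh (G.obj n)) (i : ℕ) (hi : 0 < i) (n : ℕ) : ∃ (r : ℕ) (hnr : n ≤ r), ∀ (s : ℕ) (hrs : r ≤ s), Set.range (Sheaf.H.map ((SheafOfModules.toSheaf _).map (G.map (homOfLE (hnr.trans hrs : n ≤ s)).op)) i) = Set.range (Sheaf.H.map ((SheafOfModules.toSheaf _).map (G.map (homOfLE (hnr : n ≤ r)).op)) i) := by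
  haveI : IsArtinian A (Coh.HH (↑(LocCoh.puncturedOpen A (IsLocalRing.maximalIdeal A)) : Scheme.{u})
      (G.obj (op n)) i) := Groth.Agent.S8832.result A _ (hG _) i hi
  let R : ℕ → Submodule A (Coh.HH (↑(LocCoh.puncturedOpen A (IsLocalRing.maximalIdeal A)) : Scheme.{u})
      (G.obj (op n)) i) := fun k =>
    LinearMap.range (Groth.Agent.PuncSecLib.mapL (A := A) (G.map (homOfLE (Nat.le_add_right n k)).op) i)
  have hR : Antitone R := antitone_nat_of_succ_le fun k => by
    rintro _ ⟨x, rfl⟩
    refine ⟨Groth.Agent.PuncSecLib.mapL (A := A) (G.map (homOfLE (Nat.le_succ (n + k))).op) i x, ?_⟩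
    refine (Formal.HHmap_comp _ _ i x).trans ?_
    exact congrArg (fun t => Sheaf.H.map ((SheafOfModules.toSheaf _).map t) i x)
      (G.map_comp (homOfLE (Nat.le_succ (n + k))).op (homOfLE (Nat.le_add_right n k)).op).symm
  obtain ⟨k, hk⟩ := IsArtinian.monotone_stabilizes ⟨fun m => OrderDual.toDual (R m), hR⟩
  refine ⟨n + k, Nat.le_add_right n k, fun s hrs => ?_⟩
  obtain ⟨l, rfl⟩ := Nat.exists_eq_add_of_le hrs
  have hA : Set.range (Sheaf.H.map ((SheafOfModules.toSheaf _).map
      (G.map (homOfLE (Nat.le_add_right n (k + l))).op)) i) = (R (k + l) : Set _) := rfl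
  have hB' : R k = R (k + l) := OrderDual.toDual.injective (hk (k + l) (Nat.le_add_right k l))
  have hB : (R k : Set (Coh.HH (↑(LocCoh.puncturedOpen A (IsLocalRing.maximalIdeal A)) : Scheme.{u})
      (G.obj (op n)) i)) = R (k + l) := by rw [hB']
  have hC : ∀ (m m' : ℕ) (h : n ≤ m) (h' : n ≤ m'), m = m' →
      Set.range (Sheaf.H.map ((SheafOfModules.toSheaf _).map (G.map (homOfLE h).op)) i) =
        Set.range (Sheaf.H.map ((SheafOfModules.toSheaf _).map (G.map (homOfLE h').op)) i) := by
    rintro m _ h h' rfl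
    rfl
  exact (hC _ _ _ (Nat.le_add_right n (k + l)) (Nat.add_assoc n k l)).trans (hA.trans hB.symm)

end Groth.Agent.S8831
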