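import Mathlib
import Groth.Agent.AdicEasyLib.Basic
import Groth.Statements.S8834

set_option autoImplicit false
universe u
open AdicRing

namespace Groth.Agent.S8834

/-- Let A be a Noetherian ring complete for the adic topology of an ideal I and B a Noetherian ring
complete for the adic topology of an ideal J, with an algebra map A → B sending I into the radical
of J (a continuous homomorphism of adic Noetherian topological rings; the radicals of I and J are
the ideals of topologically nilpotent elements). Assume B/√J is of finite type over A, equivalently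
over A/√I. Then B is topologically of finite type over A: there are b_1, …, b_s ∈ B such that the
A-algebra map A[x_1, …, x_s] → B with x_i ↦ b_i has dense image for the J-adic topology, that is,
for every y ∈ B and every n there is a polynomial whose value at b differs from y by an element of
J^n. -/
theorem result (A : Type u) [CommRing A] [IsNoetherianRing A] (I : Ideal A) [IsAdicComplete I A] (B : Type u) [CommRing B] [Algebra A B] [IsNoetherianRing B] (J : Ideal B) [IsAdicComplete J B] (hIJ : I.map (algebraMap A B) ≤ J.radical) (hft : Algebra.FiniteType A (B ⧸ J.radical)) : ∃ s : ℕ, ∃ b : Fin s → B, ∀ (y : B) (n : ℕ), ∃ p : MvPolynomial (Fin s) A, y - MvPolynomial.aeval b p ∈ J ^ n := by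
  classical
  obtain ⟨t, ht⟩ := hft.out
  choose g hg using fun x : B ⧸ J.radical => Ideal.Quotient.mk_surjective x
  obtain ⟨r, hr⟩ := J.radical.fg_of_isNoetherianRing
  let T : Finset B := t.image g ∪ r
  let b : Fin T.card → B := fun i => (T.equivFin.symm i : B)
  let S : Subalgebra A B := (MvPolynomial.aeval (R := A) b).range
  have hmem : ∀ x ∈ T, x ∈ S := fun x hx =>
    ⟨MvPolynomial.X (T.equivFin ⟨x, hx⟩), by simp [b]⟩
  have h1 : ∀ y : B, ∃ s ∈ S, y - s ∈ J.radical := by
    intro y
    have h : (Ideal.Quotient.mk J.radical y) ∈ S.map (Ideal.Quotient.mkₐ A J.radical) := by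
      refine (ht.ge.trans (Algebra.adjoin_le fun x hx => ?_)) trivial
      exact ⟨g x, hmem _ (Finset.mem_union_left _ (Finset.mem_image_of_mem g hx)), hg x⟩
    obtain ⟨s, hs, he⟩ := h
    exact ⟨s, hs, Ideal.Quotient.eq.1 he.symm⟩
  have hstep : ∀ k, ∀ z ∈ J.radical ^ k, ∃ s ∈ S, z - s ∈ J.radical ^ (k + 1) := by
    intro k
    induction k with
    | zero => intro z _; rw [zero_add, pow_one]; exact h1 z
    | succ k ih =>
      intro z hz
      rw [pow_succ'] at hz
      refine Submodule.mul_induction_on hz (fun x hx z' hz' => ?_) fun x y hx hy => ?_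
      · obtain ⟨s, hs, he⟩ := ih z' hz'
        rw [← hr] at hx
        obtain ⟨c, -, rfl⟩ := Submodule.mem_span_finset.1 hx
        choose d hd hd' using fun a => h1 (c a)
        refine ⟨(∑ a ∈ r, d a * a) * s, mul_mem (sum_mem fun a ha =>
          mul_mem (hd a) (hmem a (Finset.mem_union_right _ ha))) hs, ?_⟩
        simp only [smul_eq_mul]
        rw [show (∑ a ∈ r, c a * a) * z' - (∑ a ∈ r, d a * a) * s =
          (∑ a ∈ r, c a * a) * (z' - s) + (∑ a ∈ r, (c a - d a) * a) * s by
          simp only [sub_mul, Finset.sum_sub_distrib]; ring]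
        have hrm : ∀ a ∈ r, a ∈ J.radical := fun a ha => hr ▸ Ideal.subset_span ha
        have hxr : (∑ a ∈ r, c a * a) ∈ J.radical :=
          sum_mem fun a ha => Ideal.mul_mem_left _ _ (hrm a ha)
        have hsk : s ∈ J.radical ^ k := by
          rw [show s = z' - (z' - s) by ring]
          exact sub_mem hz' (Ideal.pow_le_pow_right (Nat.le_succ k) he)
        refine add_mem ?_ ?_
        · rw [pow_succ']; exact Ideal.mul_mem_mul hxr he
        · rw [show k + 1 + 1 = 2 + k by omega, pow_add]
          refine Ideal.mul_mem_mul (sum_mem fun a ha => ?_) hsk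
          rw [pow_two]
          exact Ideal.mul_mem_mul (hd' a) (hrm a ha)
      · obtain ⟨s₁, hs₁, he₁⟩ := hx
        obtain ⟨s₂, hs₂, he₂⟩ := hy
        exact ⟨s₁ + s₂, add_mem hs₁ hs₂, by rw [add_sub_add_comm]; exact add_mem he₁ he₂⟩
  have hall : ∀ k, ∀ y : B, ∃ s ∈ S, y - s ∈ J.radical ^ k := by
    intro k
    induction k with
    | zero => exact fun y => ⟨0, S.zero_mem, by simp⟩
    | succ k ih =>
      intro y
      obtain ⟨s, hs, he⟩ := ih y
      obtain ⟨s', hs', he'⟩ := hstep k _ he
      exact ⟨s + s', add_mem hs hs', by rw [← sub_sub]; exact he'⟩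
  obtain ⟨m, hm⟩ := J.exists_radical_pow_le_of_fg J.radical.fg_of_isNoetherianRing
  refine ⟨T.card, b, fun y n => ?_⟩
  obtain ⟨s, ⟨p, rfl⟩, he⟩ := hall (m * n) y
  exact ⟨p, Ideal.pow_right_mono hm n (pow_mul J.radical m n ▸ he)⟩

end Groth.Agent.S8834
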