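import Groth.Statements.S8848
import Groth.Agent.RelDivLib.Fibrewise

set_option autoImplicit false
universe u
open CategoryTheory CategoryTheory.Limits AlgebraicGeometry TopologicalSpace
open SDiv

namespace Groth.Agent.S8848

open CategoryTheory CategoryTheory.Limits AlgebraicGeometry

set_option backward.isDefEq.respectTransparency false
set_option backward.defeqAttrib.useBackward true
set_option linter.style.haveILetI false

/-- Let φ : X ⟶ S be flat and locally of finite presentation and let 𝓘 be a quasi-coherent ideal sheaf
on X which is locally principal (generated by one section on some affine open neighbourhood of each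
point of its support). If for every point s of S the inverse image ideal of 𝓘 on the
scheme-theoretic fibre X_s is the ideal sheaf of an effective Cartier divisor of X_s, then 𝓘 is the
ideal sheaf of an effective Cartier divisor of X and its closed subscheme is flat over S (a relative
effective Cartier divisor). -/
theorem result {X S : Scheme.{u}} (φ : X ⟶ S) [Flat φ] [LocallyOfFinitePresentation φ]
    (𝓘 : X.IdealSheafData) (hZ : Curv2.IsLocPrincipal 𝓘)
    (hfib : ∀ s : ↥S, BlowUp.IsEffCartierIdeal (𝓘.comap (φ.fiberι s))) :
    BlowUp.IsEffCartierIdeal 𝓘 ∧ Flat (𝓘.subschemeι ≫ φ) := by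

  refine ⟨fun x => ?_, RelDivLib.flat_of_charts φ 𝓘 fun x hx => ?_⟩
  · by_cases hx : x ∈ 𝓘.support
    · obtain ⟨W, V, e, hxV, hc, -⟩ := RelDivLib.exists_chart_of_fibre φ 𝓘 hx (hZ x hx) (hfib _)
      exact ⟨V, hxV, hc⟩
    · obtain ⟨U, hxU, hU⟩ := IdealStalkLib.exists_unit_nhd 𝓘 hx
      exact ⟨U, hxU, 1, one_mem _, by rw [hU, Ideal.span_singleton_one]⟩
  · obtain ⟨W, V, e, hxV, -, hfl⟩ := RelDivLib.exists_chart_of_fibre φ 𝓘 hx (hZ x hx) (hfib _)
    exact ⟨W, V, hxV, e, hfl⟩


end Groth.Agent.S8848
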