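import Groth.Statements.S8849
import Mathlib


set_option autoImplicit false
universe u
open CategoryTheory CategoryTheory.Limits AlgebraicGeometry TopologicalSpace
open SDiv

namespace Groth.Agent.S8849

open CategoryTheory CategoryTheory.Limits AlgebraicGeometry

open TensorProduct in
theorem flat_of_flat_quot_of_flat_away {A B : Type u} [CommRing A] [CommRing B] [Algebra A B] (g : B)
    (hg : g ∈ nonZeroDivisors B) [Module.Flat A (B ⧸ Ideal.span {g})]
    (h : ∀ (q : Ideal B) [q.IsPrime], g ∉ q → Module.Flat A (Localization.AtPrime q)) : Module.Flat A B := by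
  rw [Module.Flat.iff_lTensor_injectiveₛ]
  intro P _ _ N
  letI : AddCommGroup P := Module.addCommMonoidToAddCommGroup A
  rw [← AlgebraTensorModule.coe_lTensor (A := B), injective_iff_map_eq_zero]
  intro z hz
  let μ : B →ₗ[A] B := LinearMap.mulLeft A g
  have hex : Function.Exact μ (Ideal.Quotient.mkₐ A (Ideal.span {g})).toLinearMap := fun w => by
    show Ideal.Quotient.mk (Ideal.span {g}) w = 0 ↔ _
    rw [Ideal.Quotient.eq_zero_iff_mem, Ideal.mem_span_singleton]
    exact ⟨fun ⟨c, hc⟩ => ⟨c, hc.symm⟩, fun ⟨c, hc⟩ => ⟨c, hc.symm⟩⟩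
  have hμ : Function.Injective μ := fun a b hab => by
    have h1 : (a - b) * g = 0 := by
      rw [sub_mul, mul_comm a, mul_comm b, sub_eq_zero]
      exact hab
    exact sub_eq_zero.1 (mem_nonZeroDivisors_iff_right.1 hg _ h1)
  have hinj : Function.Injective (μ.rTensor N) := (LinearMap.lTensor_inj_iff_rTensor_inj _ _).1
    (LinearMap.lTensor_injective_of_exact_of_flat _ Ideal.Quotient.mk_surjective μ hμ hex N)
  have hsmul : ∀ w : B ⊗[A] N, g • w = μ.rTensor N w := fun w => by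
    induction w with
    | zero => simp
    | tmul b n => rw [LinearMap.rTensor_tmul, TensorProduct.smul_tmul']; rfl
    | add u v hu hv => rw [smul_add, hu, hv, map_add]
  let J : Ideal B := LinearMap.ker (LinearMap.toSpanSingleton B (B ⊗[A] N) z)
  have hJ : g ∈ J.radical := by
    rw [Ideal.radical_eq_sInf, Ideal.mem_sInf]
    rintro q ⟨hJq, hq⟩
    by_contra hgq
    haveI := hq
    haveI := h q hgq
    let φ := AlgebraTensorModule.rTensor A N (Algebra.linearMap B (Localization.AtPrime q))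
    let φ' := AlgebraTensorModule.rTensor A P (Algebra.linearMap B (Localization.AtPrime q))
    have hcomm : ∀ w : B ⊗[A] N, (N.subtype.lTensor (Localization.AtPrime q)) (φ w) =
        φ' (AlgebraTensorModule.lTensor B B N.subtype w) := fun w => by
      induction w with
      | zero => simp only [map_zero]
      | tmul b n => rfl
      | add u v hu hv => simp only [map_add, hu, hv]
    have h1 : φ z = 0 := Module.Flat.lTensor_preserves_injective_linearMap (M := Localization.AtPrime q)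
      N.subtype Subtype.val_injective (by rw [hcomm, hz, map_zero, map_zero])
    obtain ⟨s, hs⟩ := (IsLocalizedModule.eq_zero_iff q.primeCompl φ).1 h1
    exact s.2 (hJq (show (s : B) ∈ J from hs))
  obtain ⟨n, hn⟩ := hJ
  have hn' : g ^ n • z = 0 := hn
  clear hn
  induction n with
  | zero => rwa [pow_zero, one_smul] at hn'
  | succ n ih =>
    refine ih (hinj ?_)
    rw [← hsmul, map_zero, smul_smul, ← pow_succ']
    exact hn'


/-- Let f : X ⟶ S be a morphism of schemes and 𝓘 the ideal sheaf of an effective Cartier divisor D ⊆ X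
with D flat over S (a relative effective Cartier divisor). If f is flat at every point of X not in
D, then f is flat. -/
theorem result {X S : Scheme.{u}} (f : X ⟶ S) (𝓘 : X.IdealSheafData)
    (hD : BlowUp.IsEffCartierIdeal 𝓘 ∧ Flat (𝓘.subschemeι ≫ f))
    (hflat : ∀ x : ↥X, x ∉ 𝓘.support → (f.stalkMap x).hom.Flat) : Flat f := by
  obtain ⟨hD, hDflat⟩ := hD
  rw [HasRingHomProperty.iff_exists_appLE (P := @Flat)
    ((RingHom.Flat.stableUnderComposition.stableUnderCompositionWithLocalizationAway RingHom.Flat.holdsForLocalizationAway).left)]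
  intro x
  obtain ⟨U, hxU, g, hg, hgU⟩ := hD x
  obtain ⟨_, ⟨W : S.Opens, hW, rfl⟩, hxW, -⟩ := S.isBasis_affineOpens.exists_subset_of_mem_open (Set.mem_univ (f x)) isOpen_univ
  obtain ⟨t, htle, hxt⟩ := U.2.exists_basicOpen_le (V := U.1 ⊓ f ⁻¹ᵁ W) ⟨x, hxU, hxW⟩ hxU
  let V := X.affineBasicOpen (U := U) t
  have e : V.1 ≤ f ⁻¹ᵁ W := htle.trans inf_le_right
  refine ⟨⟨W, hW⟩, V, hxt, e, ?_⟩
  let ρ : Γ(X, U.1) →+* Γ(X, V.1) := (X.presheaf.map (homOfLE (X.basicOpen_le t)).op).hom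
  have hgV : 𝓘.ideal V = Ideal.span {ρ g} := by
    show 𝓘.ideal (X.affineBasicOpen t) = _
    rw [← 𝓘.map_ideal_basicOpen U t, hgU, Ideal.map_span, Set.image_singleton]
    rfl
  have hgnz : ρ g ∈ nonZeroDivisors Γ(X, V.1) := by
    letI : Algebra Γ(X, U.1) Γ(X, V.1) := ρ.toAlgebra
    haveI : IsLocalization.Away t Γ(X, V.1) := U.2.isLocalization_basicOpen t
    exact IsLocalization.map_nonZeroDivisors_le (Submonoid.powers t) Γ(X, V.1) ⟨g, hg, rfl⟩
  algebraize [(f.appLE W V.1 e).hom]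
  show Module.Flat Γ(S, W) Γ(X, V.1)
  haveI : Module.Flat Γ(S, W) (Γ(X, V.1) ⧸ Ideal.span {ρ g}) := by
    let j := 𝓘.subschemeι
    have h1 : ((j ≫ f).appLE W (j ⁻¹ᵁ V.1) (fun y hy => e hy)).hom.Flat :=
      hDflat.flat_appLE hW (V.2.preimage j) _
    let q : Γ(X, V.1) →+* Γ(𝓘.subscheme, j ⁻¹ᵁ V.1) := (j.app V.1).hom
    have hk : RingHom.ker q = Ideal.span {ρ g} := (𝓘.ker_subschemeι_app V).trans hgV
    letI := ((j ≫ f).appLE W (j ⁻¹ᵁ V.1) (fun y hy => e hy)).hom.toAlgebra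
    haveI : Module.Flat Γ(S, W) Γ(𝓘.subscheme, j ⁻¹ᵁ V.1) := h1
    let eq : (Γ(X, V.1) ⧸ Ideal.span {ρ g}) ≃+* Γ(𝓘.subscheme, j ⁻¹ᵁ V.1) :=
      (Ideal.quotEquivOfEq hk.symm).trans (RingHom.quotientKerEquivOfSurjective (f := q) (j.app_surjective V.1 V.2))
    refine Module.Flat.of_linearEquiv (AlgEquiv.ofRingEquiv (f := eq) fun a => ?_).toLinearEquiv
    show q ((f.appLE W V.1 e).hom a) = ((j ≫ f).appLE W (j ⁻¹ᵁ V.1) _).hom a
    have h2 : f.appLE W V.1 e ≫ j.app V.1 = (j ≫ f).appLE W (j ⁻¹ᵁ V.1) (fun y hy => e hy) := by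
      rw [Scheme.Hom.app_eq_appLE, Scheme.Hom.appLE_comp_appLE]
    exact congrArg (fun φ => φ.hom a) h2
  refine flat_of_flat_quot_of_flat_away (ρ g) hgnz fun q _ hgq => ?_
  obtain ⟨y, hy, hyq⟩ : ∃ (y : X) (hy : y ∈ V.1), (V.2.primeIdealOf ⟨y, hy⟩).asIdeal = q := by
    have hq : V.2.fromSpec ⟨q, inferInstance⟩ ∈ V.1 := by
      rw [← SetLike.mem_coe, ← V.2.range_fromSpec]
      exact Set.mem_range_self _
    exact ⟨_, hq, congrArg PrimeSpectrum.asIdeal
      (V.2.fromSpec.isOpenEmbedding.injective (V.2.fromSpec_primeIdealOf ⟨_, hq⟩))⟩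
  subst hyq
  letI : Algebra Γ(X, V.1) (X.presheaf.stalk y) := TopCat.Presheaf.algebra_section_stalk X.presheaf ⟨y, hy⟩
  haveI := V.2.isLocalization_stalk ⟨y, hy⟩
  have hys : y ∉ 𝓘.support := by
    intro hys
    have h1 := (Scheme.IdealSheafData.mem_support_iff_of_mem hy).1 hys
    rw [hgV, Scheme.zeroLocus_span, Scheme.mem_zeroLocus_iff] at h1
    refine h1 (ρ g) rfl ((X.mem_basicOpen _ y hy).2 ?_)
    exact IsLocalization.map_units (X.presheaf.stalk y) (⟨ρ g, hgq⟩ : (V.2.primeIdealOf ⟨y, hy⟩).asIdeal.primeCompl)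
  letI : Algebra Γ(S, W) (S.presheaf.stalk (f y)) := TopCat.Presheaf.algebra_section_stalk S.presheaf ⟨f y, e hy⟩
  haveI := hW.isLocalization_stalk ⟨f y, e hy⟩
  haveI : Module.Flat Γ(S, W) (S.presheaf.stalk (f y)) :=
    IsLocalization.flat _ (hW.primeIdealOf ⟨f y, e hy⟩).asIdeal.primeCompl
  letI := (f.stalkMap y).hom.toAlgebra
  haveI : Module.Flat (S.presheaf.stalk (f y)) (X.presheaf.stalk y) := hflat y hys
  letI : Algebra Γ(S, W) (X.presheaf.stalk y) :=
    ((algebraMap Γ(X, V.1) (X.presheaf.stalk y)).comp (algebraMap Γ(S, W) Γ(X, V.1))).toAlgebra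
  haveI : IsScalarTower Γ(S, W) Γ(X, V.1) (X.presheaf.stalk y) := IsScalarTower.of_algebraMap_eq' rfl
  haveI : IsScalarTower Γ(S, W) (S.presheaf.stalk (f y)) (X.presheaf.stalk y) := by
    refine IsScalarTower.of_algebraMap_eq fun a => ?_
    show (X.presheaf.germ V.1 y hy) ((f.appLE W V.1 e) a) = f.stalkMap y (S.presheaf.germ W (f y) (e hy) a)
    simp only [Scheme.Hom.appLE, CommRingCat.comp_apply]
    rw [TopCat.Presheaf.germ_res_apply, Scheme.Hom.germ_stalkMap_apply]
  haveI : Module.Flat Γ(S, W) (X.presheaf.stalk y) := Module.Flat.trans Γ(S, W) (S.presheaf.stalk (f y)) _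
  exact Module.Flat.of_linearEquiv ((IsLocalization.algEquiv (V.2.primeIdealOf ⟨y, hy⟩).asIdeal.primeCompl
    (Localization.AtPrime (V.2.primeIdealOf ⟨y, hy⟩).asIdeal) (X.presheaf.stalk y)).restrictScalars Γ(S, W)).toLinearEquiv

end Groth.Agent.S8849
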