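import Groth.Statements.S8850
import Groth.Agent.SchDenseLib.Basic
import Mathlib.AlgebraicGeometry.Morphisms.SchemeTheoreticallyDominant
import Mathlib.AlgebraicGeometry.Morphisms.Proper
import Mathlib.AlgebraicGeometry.Noetherian
import Mathlib.AlgebraicGeometry.IdealSheaf.Subscheme
import Mathlib.AlgebraicGeometry.Morphisms.Flat

set_option autoImplicit false
universe u
open CategoryTheory CategoryTheory.Limits AlgebraicGeometry TopologicalSpace
open SDiv

namespace Groth.Agent.S8850

/-- Let S be a scheme, X a Noetherian S-scheme, Y a proper S-scheme, U ⊆ X an open subscheme and f : U ⟶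
Y a morphism compatible with the structure morphisms to S. Then there are a proper morphism p : X' ⟶
X restricting to an isomorphism over U and an S-morphism f' : X' ⟶ Y whose restriction to p⁻¹(U) is
f composed with p. The published statement takes U dense, so that f is an S-rational map; this row
allows any open U, which its proof does not need. -/
theorem result {X Y S : Scheme.{u}} [IsNoetherian X] (a : X ⟶ S) (b : Y ⟶ S)
    [IsProper b] (U : X.Opens) (f : (U : Scheme.{u}) ⟶ Y) (hf : f ≫ b = U.ι ≫ a) :
    ∃ (X' : Scheme.{u}) (p : X' ⟶ X) (f' : X' ⟶ Y), IsProper p ∧ IsIso (p ∣_ U) ∧ f' ≫ b = p ≫ a ∧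
      (p ⁻¹ᵁ U).ι ≫ f' = (p ∣_ U) ≫ f := by
  let P := pullback a b
  let γ : (U : Scheme.{u}) ⟶ P := pullback.lift U.ι f hf.symm
  haveI : QuasiCompact U.ι := by
    haveI : CompactSpace (U : Scheme.{u}) :=
      isCompact_iff_compactSpace.mp (TopologicalSpace.NoetherianSpace.isCompact (U : Set X))
    exact quasiCompact_of_compactSpace U.ι
  haveI : QuasiCompact γ := by
    haveI : QuasiCompact (γ ≫ pullback.fst a b) := by rw [pullback.lift_fst]; infer_instance
    exact MorphismProperty.of_postcomp (W := @QuasiCompact) (W' := @QuasiSeparated) γ (pullback.fst a b)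
      inferInstance this
  let p := γ.imageι ≫ pullback.fst a b
  refine ⟨γ.image, p, γ.imageι ≫ pullback.snd a b, inferInstance, ?_,
    by simp only [p, Category.assoc]; rw [pullback.condition], ?_⟩
  all_goals
    have hp : γ.toImage ≫ p = U.ι := by
      simp only [p, Scheme.Hom.toImage_imageι_assoc]; exact pullback.lift_fst _ _ _
    let t : (U : Scheme.{u}) ⟶ (p ⁻¹ᵁ U : Scheme.{u}) := IsOpenImmersion.lift (p ⁻¹ᵁ U).ι γ.toImage (by
      rw [Scheme.Opens.range_ι]
      rintro _ ⟨z, rfl⟩
      show p (γ.toImage z) ∈ U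
      rw [← Scheme.Hom.comp_apply, hp]
      exact z.2)
    have ht : t ≫ (p ⁻¹ᵁ U).ι = γ.toImage := IsOpenImmersion.lift_fac _ _ _
    have hsec : t ≫ (p ∣_ U) = 𝟙 _ := by
      rw [← cancel_mono U.ι, Category.assoc, morphismRestrict_ι, ← Category.assoc, ht, hp, Category.id_comp]
    haveI : IsClosedImmersion t := by
      haveI : IsClosedImmersion (t ≫ (p ∣_ U)) := by rw [hsec]; infer_instance
      exact IsClosedImmersion.of_comp t (p ∣_ U)
    haveI : IsSchemeTheoreticallyDominant γ.toImage := Groth.Agent.SchDenseLib.toImage_dominant γ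
    haveI : IsSchemeTheoreticallyDominant t := by
      have hsq : IsPullback (𝟙 _) t γ.toImage (p ⁻¹ᵁ U).ι := (IsOpenImmersion.isPullback_lift_id _ _ _).flip
      exact IsSchemeTheoreticallyDominant.of_isPullback hsq
    haveI : IsIso t := by
      haveI : IsIso t.imageι := (Scheme.isIso_subschemeι_iff_eq_bot _).2 t.ker_eq_bot
      rw [← t.toImage_imageι]
      infer_instance
  · exact IsIso.of_isIso_fac_left hsec
  · rw [← cancel_epi t, reassoc_of% hsec, ← Category.assoc, ht, Scheme.Hom.toImage_imageι_assoc]
    exact pullback.lift_snd _ _ _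

end Groth.Agent.S8850
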