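import Groth.Statements.S8853
import Mathlib

set_option autoImplicit false
universe u
open CategoryTheory CategoryTheory.Limits AlgebraicGeometry TopologicalSpace
open SDiv

namespace Groth.Agent.S8853

/-- Let Z be a locally principal closed subscheme of a scheme S, with ideal sheaf 𝓘 generated by a
single section on some affine open neighbourhood of each point of its support, and let U be the open
complement of Z. Then the inclusion U ⟶ S is an affine morphism. -/
theorem result {S : Scheme.{u}} (𝓘 : S.IdealSheafData) (h : Curv2.IsLocPrincipal 𝓘) :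
    IsAffineHom (Scheme.Opens.ι 𝓘.support.compl) := by
  refine isAffineHom_of_forall_exists_isAffineOpen _ fun x => ?_
  by_cases hx : x ∈ 𝓘.support
  · obtain ⟨V, hxV, f, hf⟩ := h x hx
    refine ⟨V.1, hxV, V.2, ?_⟩
    have himg : Scheme.Opens.ι 𝓘.support.compl ''ᵁ (Scheme.Opens.ι 𝓘.support.compl ⁻¹ᵁ V.1) = S.basicOpen f := by
      rw [Scheme.Hom.image_preimage_eq_opensRange_inf, Scheme.Opens.opensRange_ι]
      ext y
      constructor
      · rintro ⟨hy, hyV⟩
        by_contra hb
        refine hy ((Scheme.IdealSheafData.mem_support_iff_of_mem hyV).2 ?_)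
        rw [hf, Scheme.zeroLocus_span, Scheme.zeroLocus_singleton]
        exact hb
      · intro hb
        have hyV := S.basicOpen_le f hb
        refine ⟨fun hy => ?_, hyV⟩
        have := (Scheme.IdealSheafData.mem_support_iff_of_mem hyV).1 hy
        rw [hf, Scheme.zeroLocus_span, Scheme.zeroLocus_singleton] at this
        exact this hb
    rw [← (Scheme.Opens.ι 𝓘.support.compl).isAffineOpen_iff_of_isOpenImmersion, himg]
    exact V.2.basicOpen f
  · obtain ⟨_, ⟨V, hV, rfl⟩, hxV, hVU⟩ := S.isBasis_affineOpens.exists_subset_of_mem_open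
      (show x ∈ (𝓘.support.compl : Set S) from hx) 𝓘.support.compl.isOpen
    refine ⟨V, hxV, hV, ?_⟩
    rw [← (Scheme.Opens.ι 𝓘.support.compl).isAffineOpen_iff_of_isOpenImmersion,
      Scheme.Hom.image_preimage_eq_opensRange_inf, Scheme.Opens.opensRange_ι, inf_eq_right.2 (show V ≤ 𝓘.support.compl from hVU)]
    exact hV

end Groth.Agent.S8853
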