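import Groth.Statements.S8854
import Mathlib

set_option autoImplicit false
universe u
open SDiv

namespace Groth.Agent.S8854

/-- Let R be a Noetherian unique factorisation domain and I ⊆ R an ideal such that every associated
prime of R/I is minimal over I (R/I has no embedded primes) and every prime minimal over I has
height 1. Then I is principal: it is generated by one element. -/
theorem result (R : Type u) [CommRing R] [IsDomain R] [IsNoetherianRing R]
    [UniqueFactorizationMonoid R] (I : Ideal R)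
    (h1 : ∀ p : Ideal R, p ∈ associatedPrimes R (R ⧸ I) → p ∈ I.minimalPrimes)
    (h2 : ∀ p : Ideal R, p ∈ I.minimalPrimes → p.height = 1) :
    ∃ f : R, I = Ideal.span {f} := by
  classical
  -- among the principal ideals containing `I` choose a smallest one
  rcases eq_or_ne I ⊤ with rfl | hItop
  · exact ⟨1, by simp⟩
  obtain ⟨p0, hp0⟩ := Ideal.nonempty_minimalPrimes hItop
  have hI0 : I ≠ ⊥ := by
    rintro rfl
    have := h2 p0 hp0
    have hb : p0 = ⊥ := le_antisymm (hp0.2 ⟨Ideal.bot_prime, le_rfl⟩ bot_le) bot_le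
    subst hb
    simp at this
  obtain ⟨a, haI, ha0⟩ := Submodule.exists_mem_ne_zero_of_ne_bot hI0
  -- the divisors of `a` are well founded
  let Sd : Set R := {d | I ≤ Ideal.span {d}}
  obtain ⟨f, hfS, hfmax⟩ : ∃ f ∈ Sd, ∀ d ∈ Sd, ¬ DvdNotUnit f d := by
    have hwf : WellFounded (fun d e : R => d ∈ Sd ∧ e ∈ Sd ∧ DvdNotUnit e d) := by
      let D : Associates R → Prop := fun _ => True
      refine Subrelation.wf (r := InvImage (fun x y : R => DvdNotUnit x y) (fun d => if h : d ∣ a then h.choose else 0))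
        (fun {d e} ⟨hd, he, hde⟩ => ?_) (InvImage.wf _ wellFounded_dvdNotUnit)
      have hda : d ∣ a := Ideal.mem_span_singleton.mp (hd haI)
      have hea : e ∣ a := Ideal.mem_span_singleton.mp (he haI)
      simp only [InvImage, dif_pos hda, dif_pos hea]
      obtain ⟨he0, c, hc, hec⟩ := hde
      generalize hx : hda.choose = x
      generalize hy : hea.choose = y
      have h1 : a = d * x := hx ▸ hda.choose_spec
      have h2 : a = e * y := hy ▸ hea.choose_spec
      refine ⟨fun h => ha0 (by rw [h1, h, mul_zero]), c, hc, mul_left_cancel₀ he0 ?_⟩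
      rw [← h2, h1, hec]; ring
    obtain ⟨f, hf, hmax⟩ := hwf.has_min Sd ⟨1, by simp [Sd]⟩
    exact ⟨f, hf, fun d hd h => hmax d hd ⟨hd, hf, h⟩⟩
  refine ⟨f, le_antisymm hfS ?_⟩
  have hf0 : f ≠ 0 := fun h => ha0 (by simpa [h, Sd] using hfS haI)
  let J : Ideal R := Submodule.comap (LinearMap.mulLeft R f) I
  suffices hJ : J = ⊤ by
    rw [Ideal.span_singleton_le_iff_mem]
    have : (1 : R) ∈ J := hJ ▸ Submodule.mem_top
    simpa [J] using this
  by_contra hJ
  obtain ⟨Q, hQ⟩ := Ideal.nonempty_minimalPrimes hJ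
  have hQass : Q ∈ associatedPrimes R (R ⧸ J) := by
    refine Module.associatedPrimes.minimalPrimes_annihilator_subset_associatedPrimes R (R ⧸ J) ?_
    simpa [Ideal.annihilator_quotient] using hQ
  let φ : (R ⧸ J) →ₗ[R] (R ⧸ I) := Submodule.mapQ J I (LinearMap.mulLeft R f) le_rfl
  have hφ : Function.Injective φ := by
    rw [← LinearMap.ker_eq_bot, Submodule.ker_mapQ]
    show Submodule.map J.mkQ J = ⊥
    exact (Submodule.eq_bot_iff _).mpr (by rintro _ ⟨c, hc, rfl⟩; exact (Submodule.Quotient.mk_eq_zero _).mpr hc)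
  have hQI := h1 Q (associatedPrimes.subset_of_injective hφ hQass)
  have hQh := h2 Q hQI
  have : Q.IsPrime := hQI.1.1
  have hQ0 : Q ≠ ⊥ := by rintro rfl; simp at hQh
  obtain ⟨p, hpQ, hp⟩ := Ideal.IsPrime.exists_mem_prime_of_ne_bot this hQ0
  have hQp : Q = Ideal.span {p} := by
    by_contra hne
    have hlt : Ideal.span {p} < Q :=
      lt_of_le_of_ne ((Ideal.span_singleton_le_iff_mem _).mpr hpQ) (Ne.symm hne)
    have : (Ideal.span {p}).IsPrime := (Ideal.span_singleton_prime hp.ne_zero).mpr hp
    have h3 := Ideal.height_strict_mono_of_isPrime hlt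
    have h4 : (Ideal.span {p}).height ≠ 0 := by
      rw [Ne, Ideal.height_eq_zero_iff, minimalPrimes_eq_minimals]
      intro h
      have := h.eq_of_le (Ideal.bot_prime (α := R)) bot_le
      exact hp.ne_zero (Ideal.span_singleton_eq_bot.mp this.symm)
    rw [hQh] at h3
    exact h4 (ENat.lt_one_iff_eq_zero.mp h3)
  refine hfmax (f * p) (fun x hx => ?_) ⟨hf0, p, hp.not_unit, rfl⟩
  obtain ⟨c, rfl⟩ := Ideal.mem_span_singleton.mp (hfS hx)
  have hc : c ∈ Q := hQ.1.2 (show f * c ∈ I from hx)
  rw [hQp] at hc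
  exact Ideal.mem_span_singleton.mpr (mul_dvd_mul_left f (Ideal.mem_span_singleton.mp hc))

end Groth.Agent.S8854
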