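import Groth.Statements.S8860
import Groth.Agent.NormHomLib.Cases

set_option autoImplicit false
universe u
open CategoryTheory CategoryTheory.Limits AlgebraicGeometry TopologicalSpace
open SDiv

namespace Groth.Agent.S8860

/-- Let π : X ⟶ Y be a finite surjective morphism of schemes with X quasi-affine. If either π is finite
locally free (finite, flat and locally of finite presentation), or Y is integral with all local
rings integrally closed domains (normal), then Y is quasi-affine. -/
theorem result {X Y : Scheme.{u}} (π : X ⟶ Y) [IsFinite π] [Surjective π]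
    (hX : X.IsQuasiAffine) (h : Mor2.IsFinLocFree π ∨ (IsIntegral Y ∧ Pi1.IsNormalScheme Y)) :
    Y.IsQuasiAffine := by
  haveI := hX
  haveI : CompactSpace Y := ⟨by rw [← π.surjective.range_eq]; exact isCompact_range π.continuous⟩
  rcases h with h | ⟨hint, hY⟩
  · obtain ⟨d, ⟨N⟩⟩ := Groth.Agent.NormHomLib.exists_hasNorm_of_finLocFree π h
    exact Groth.Agent.NormHomLib.isQuasiAffine_of_norm N hX
  · obtain ⟨Z, i, hZ, hi, hs⟩ := Groth.Agent.NormHomLib.exists_dominating_component π
    obtain ⟨d, ⟨N⟩⟩ := Groth.Agent.NormHomLib.hasNorm_of_normal (i ≫ π) hY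
    haveI : CompactSpace Z := QuasiCompact.compactSpace_of_compactSpace i
    exact Groth.Agent.NormHomLib.isQuasiAffine_of_norm N (Scheme.IsQuasiAffine.of_isImmersion i)


end Groth.Agent.S8860
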