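import Groth.Statements.S8861
import Groth.Agent.BlowCompLib.Flat
import Groth.Agent.AssLib.Weak

set_option autoImplicit false
universe u
open CategoryTheory CategoryTheory.Limits AlgebraicGeometry TopologicalSpace
open SDiv

namespace Groth.Agent.S8861

open CategoryTheory CategoryTheory.Limits AlgebraicGeometry

set_option backward.isDefEq.respectTransparency false
set_option backward.defeqAttrib.useBackward true
set_option linter.style.haveILetI false

/-- Let f : X ⟶ Y be a morphism of schemes and 𝓘 the ideal sheaf of an effective Cartier divisor D ⊆ Y.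
If f x ∉ D for every weakly associated point x of X (weakly associated point of the structure
sheaf), then the inverse image ideal sheaf of 𝓘 on X is the ideal of an effective Cartier divisor,
i.e. the pullback of D by f is defined. -/
theorem result {X Y : Scheme.{u}} (f : X ⟶ Y) (𝓘 : Y.IdealSheafData)
    (hD : BlowUp.IsEffCartierIdeal 𝓘)
    (h : ∀ x : ↥X, Curv2.IsWeakAssPoint (Coh.structureModule X) x → f x ∉ 𝓘.support) :
    BlowUp.IsEffCartierIdeal (𝓘.comap f) := by

  intro x
  obtain ⟨U, hxU, g, hg, hI⟩ := hD (f x)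
  obtain ⟨V, hxV, e⟩ := BlowCompLib.exists_affine_le f x hxU
  refine ⟨V, hxV, _, ?_, BlowCompLib.ideal_comap_span 𝓘 f hI V e⟩
  haveI : Coh.IsQCoh (Coh.structureModule X) := inferInstance
  refine mem_nonZeroDivisors_iff_right.2 fun z hz => ?_
  let s : Γ(Coh.structureModule X, V.1) := z
  show s = 0
  refine AssLib.eq_zero_of_germ (Coh.structureModule X) s fun y hy => ?_
  by_contra hne
  obtain ⟨w, hw, -, hwa, hws⟩ := AssLib.exists_isWeakAssPoint s hy hne
  have hgu : f w ∈ Y.basicOpen g := by
    by_contra hn
    refine h w hwa ((Scheme.IdealSheafData.mem_support_iff_of_mem (U := U) (e hw)).2 ?_)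
    rw [Scheme.mem_zeroLocus_iff]
    intro r hr hr'
    rw [hI] at hr
    obtain ⟨c, rfl⟩ := Ideal.mem_span_singleton.1 hr
    rw [Scheme.basicOpen_mul] at hr'
    exact hn hr'.1
  have hu : IsUnit (X.presheaf.germ V.1 w hw ((f.appLE U.1 V.1 e).hom g)) := by
    rw [← Scheme.mem_basicOpen, Scheme.Hom.appLE, CommRingCat.comp_apply, Scheme.basicOpen_res]
    exact ⟨hw, by rw [← Scheme.preimage_basicOpen]; exact hgu⟩
  refine hws ?_
  have h0 : X.presheaf.germ V.1 w hw z = 0 := hu.mul_left_eq_zero.1 (by rw [← map_mul, hz, map_zero])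
  obtain ⟨N, hwN, i₁, i₂, hN⟩ := TopCat.Presheaf.germ_eq X.presheaf w hw hw z 0 (by rw [h0, map_zero])
  rw [map_zero] at hN
  rw [← (Coh.structureModule X).presheaf.germ_res_apply i₁ w hwN s,
    show (Coh.structureModule X).presheaf.map i₁.op s = 0 from hN, map_zero]


end Groth.Agent.S8861
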