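import Groth.Statements.S8864
import Mathlib
import Groth.Agent.MeroLib.Extend

set_option autoImplicit false
universe u
open CategoryTheory CategoryTheory.Limits AlgebraicGeometry TopologicalSpace
open SDiv

namespace Groth.Agent.S8864

open CategoryTheory CategoryTheory.Limits AlgebraicGeometry

open TopologicalSpace Groth.Agent.MeroLib

variable {X : Scheme.{u}}

lemma toK_injective {U : X.Opens} : Function.Injective (Mero.toK X U) := fun r r' h => by
  refine TopCat.Presheaf.section_ext X.sheaf U r r' fun z hz => ?_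
  apply Mero.algebraMap_KStalk_injective (X := X) z
  exact (toK_apply_eq r ⟨z, hz⟩).symm.trans ((congrArg (fun t : Γ(Mero.kmod X, U) => t.1 ⟨z, hz⟩) h).trans
    (toK_apply_eq r' ⟨z, hz⟩))

lemma regSub_of_nonZeroDivisors {U : X.Opens} (hU : IsAffineOpen U) {b : Γ(X, U)}
    (hb : b ∈ nonZeroDivisors Γ(X, U)) : b ∈ Mero.regSub X U := fun z =>
  germ_mem_nonZeroDivisors hU hb z.1 z.2

lemma res_mem_nonZeroDivisors {U W : X.Opens} (h : W ≤ U) {b : Γ(X, U)} (hb : b ∈ Mero.regSub X U) :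
    X.presheaf.map (homOfLE h).op b ∈ nonZeroDivisors Γ(X, W) := by
  rw [mem_nonZeroDivisors_iff_right]
  intro a ha
  refine TopCat.Presheaf.section_ext X.sheaf W a 0 fun z hz => ?_
  have h' := congrArg (X.presheaf.germ W z hz) ha
  rw [map_mul, map_zero, TopCat.Presheaf.germ_res_apply] at h'
  exact ((mul_right_mem_nonZeroDivisors_eq_zero_iff (hb ⟨z, h hz⟩)).1 h').trans (map_zero _).symm
/-- Let X be a locally Noetherian scheme and U an affine open of X. Then K_X(U), viewed as an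
O_X(U)-algebra through the canonical map r ↦ r/1, is the total ring of fractions of O_X(U): it is a
localization of O_X(U) at the monoid of nonzerodivisors. -/
theorem result (X : Scheme.{u}) [IsLocallyNoetherian X] (U : X.affineOpens) :
    @IsLocalization Γ(X, U.1) _ (nonZeroDivisors Γ(X, U.1)) Γ(Mero.kmod X, U.1) _ (Mero.toK X U.1).toAlgebra := by
  classical
  obtain ⟨U, hU⟩ := U
  haveI : IsNoetherianRing Γ(X, U) := IsLocallyNoetherian.component_noetherian ⟨U, hU⟩
  letI : Algebra Γ(X, U) Γ(Mero.kmod X, U) := (Mero.toK X U).toAlgebra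
  have hreg : ∀ b ∈ nonZeroDivisors Γ(X, U), b ∈ Mero.regSub X U := fun b hb => regSub_of_nonZeroDivisors hU hb
  rw [isLocalization_iff]
  refine ⟨fun b => ⟨regUnit b.1 (hreg b.1 b.2), rfl⟩, fun t => ?_, fun {a b} h => ⟨1, by rw [toK_injective h]⟩⟩
  let ι : Type u := Σ' (N : X.Opens) (h : N ≤ U) (r : Γ(X, N)),
    PLift (∀ z : N, t.1 ⟨z.1, h z.2⟩ = algebraMap _ (Mero.KStalk X z.1) (X.presheaf.germ N z.1 z.2 r))
  let N : ι → X.Opens := fun i => i.1
  obtain ⟨c, hc, -⟩ := TopCat.Sheaf.existsUnique_gluing' X.sheaf N (iSup N) (fun i => homOfLE (le_iSup N i))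
    le_rfl (fun i => i.2.2.1) (by
      intro i j
      refine TopCat.Presheaf.section_ext X.sheaf _ _ _ fun z hz => ?_
      refine (TopCat.Presheaf.germ_res_apply X.presheaf _ z hz _).trans
        (Eq.trans ?_ (TopCat.Presheaf.germ_res_apply X.presheaf _ z hz _).symm)
      exact Mero.algebraMap_KStalk_injective (X := X) z ((i.2.2.2.down ⟨z, hz.1⟩).symm.trans (j.2.2.2.down ⟨z, hz.2⟩)))
  have hmemV : ∀ (p : Ideal Γ(X, U)) (hp : p ∈ associatedPrimes Γ(X, U) Γ(X, U)),
      hU.fromSpec ⟨p, IsAssociatedPrime.isPrime hp⟩ ∈ iSup N := by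
    intro p hp
    let q : PrimeSpectrum Γ(X, U) := ⟨p, IsAssociatedPrime.isPrime hp⟩
    have hq : hU.fromSpec q ∈ U := hU.range_fromSpec.subset (Set.mem_range_self q)
    obtain ⟨T, hT, i, m, b, hmb⟩ := t.2 ⟨_, hq⟩
    have hbu : IsUnit (X.presheaf.germ T (hU.fromSpec q) hT b.1) := by
      by_contra hnu
      obtain ⟨hP, z, hz⟩ := isAssociatedPrime_iff.1 (maximalIdeal_mem_associatedPrimes hU q hq hp)
      have hm : X.presheaf.germ T (hU.fromSpec q) hT b.1 ∈
          IsLocalRing.maximalIdeal (X.presheaf.stalk (hU.fromSpec q)) := hnu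
      rw [hz, Submodule.mem_colon_singleton, Submodule.mem_bot, smul_eq_mul] at hm
      have hz0 : z = 0 := (mul_right_mem_nonZeroDivisors_eq_zero_iff (b.2 ⟨_, hT⟩)).1 ((mul_comm _ _).trans hm)
      refine hP.ne_top ?_
      rw [hz, hz0, eq_top_iff]
      exact fun r _ => by simp
    let B := X.basicOpen b.1
    have hu : IsUnit (X.presheaf.map (homOfLE (X.basicOpen_le b.1)).op b.1 : Γ(X, B)) :=
      X.toLocallyRingedSpace.toRingedSpace.isUnit_res_basicOpen b.1
    obtain ⟨v, hv⟩ := hu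
    let r : Γ(X, B) := X.presheaf.map (homOfLE (X.basicOpen_le b.1)).op m * (v⁻¹ : Units _).val
    refine Opens.mem_iSup.2 ⟨⟨B, (X.basicOpen_le b.1).trans (leOfHom i), r, ⟨fun z => ?_⟩⟩,
      (X.mem_basicOpen b.1 _ hT).2 hbu⟩
    have hzT : z.1 ∈ T := X.basicOpen_le b.1 z.2
    have h2 := hmb ⟨z.1, hzT⟩
    dsimp only at h2
    refine h2.trans ((Localization.mk_eq_mk'_apply (M := Mero.regStalk X z.1) _ _).trans ?_)
    refine IsLocalization.mk'_eq_iff_eq_mul.2 ?_
    rw [← map_mul]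
    refine congrArg _ ?_
    show X.presheaf.germ T z.1 hzT m = X.presheaf.germ B z.1 z.2 r * X.presheaf.germ T z.1 hzT b.1
    have e : X.presheaf.map (homOfLE (X.basicOpen_le b.1)).op m =
        r * X.presheaf.map (homOfLE (X.basicOpen_le b.1)).op b.1 := by
      show _ = (X.presheaf.map (homOfLE (X.basicOpen_le b.1)).op m * (v⁻¹ : Units _).val) * _
      rw [← hv, Units.inv_mul_cancel_right]
    have e' := congrArg (X.presheaf.germ B z.1 z.2) e
    rw [map_mul, TopCat.Presheaf.germ_res_apply, TopCat.Presheaf.germ_res_apply] at e'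
    exact e'
  obtain ⟨b, hb, hbV⟩ := exists_nonZeroDivisor_basicOpen_le hU (associatedPrimes.finite Γ(X, U) Γ(X, U))
    (fun p hp => IsAssociatedPrime.isPrime hp) (fun a ha => by
      by_contra hn
      have : a ∈ ⋃ p ∈ associatedPrimes Γ(X, U) Γ(X, U), (p : Set Γ(X, U)) := by
        rw [biUnion_associatedPrimes_eq_compl_nonZeroDivisors]
        exact hn
      obtain ⟨p, hp, hap⟩ := Set.mem_iUnion₂.1 this
      exact ha p hp hap) hmemV
  letI : Algebra Γ(X, U) Γ(X, X.basicOpen b) := (X.presheaf.map (homOfLE (X.basicOpen_le b)).op).hom.toAlgebra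
  haveI : IsLocalization.Away b Γ(X, X.basicOpen b) := hU.isLocalization_basicOpen b
  obtain ⟨⟨m, d⟩, hmd⟩ := IsLocalization.surj (Submonoid.powers b) (X.presheaf.map (homOfLE hbV).op c)
  have hd : (d : Γ(X, U)) ∈ nonZeroDivisors Γ(X, U) := by
    obtain ⟨n, hn⟩ := d.2
    rw [show (d : Γ(X, U)) = b ^ n from hn.symm]
    exact (nonZeroDivisors _).pow_mem hb n
  refine ⟨⟨m, ⟨d, hd⟩⟩, ?_⟩
  show t * Mero.toK X U (d : Γ(X, U)) = Mero.toK X U m
  have hdense : RegDense U (X.basicOpen b) := fun x _ => ⟨⊤, trivial, fun W _ _ hWU =>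
    ⟨_, res_mem_nonZeroDivisors hWU (hreg b hb),
      (X.basicOpen_res b (homOfLE hWU).op).le.trans inf_le_right⟩⟩
  refine ext_regDense hdense _ _ fun z hz => ?_
  show t.1 z * (Mero.toK X U (d : Γ(X, U))).1 z = (Mero.toK X U m).1 z
  obtain ⟨i, hi⟩ := Opens.mem_iSup.1 (hbV hz)
  have h1 : t.1 z = algebraMap _ (Mero.KStalk X z.1) (X.presheaf.germ (iSup N) z.1 (hbV hz) c) := by
    refine (i.2.2.2.down ⟨z.1, hi⟩).trans (congrArg _ ?_)
    rw [← hc i]
    exact TopCat.Presheaf.germ_res_apply X.presheaf _ z.1 hi c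
  rw [h1, toK_apply_eq, toK_apply_eq, ← map_mul]
  refine congrArg _ ?_
  have e := congrArg (X.presheaf.germ (X.basicOpen b) z.1 hz) hmd
  simp only [RingHom.algebraMap_toAlgebra, map_mul] at e
  erw [TopCat.Presheaf.germ_res_apply, TopCat.Presheaf.germ_res_apply, TopCat.Presheaf.germ_res_apply] at e
  exact e


end Groth.Agent.S8864
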