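import Groth.Statements.S8865
import Mathlib

set_option autoImplicit false
universe u
open CategoryTheory CategoryTheory.Limits AlgebraicGeometry TopologicalSpace
open SDiv

namespace Groth.Agent.S8865

open CategoryTheory CategoryTheory.Limits AlgebraicGeometry

theorem num_eq_zero {X : Scheme.{u}} {y : X} (a : X.presheaf.stalk y) (b : Mero.regStalk X y)
    (h : (LocalizedModule.mk a b : Mero.KStalk X y) = 0) : a = 0 := by
  rw [← LocalizedModule.zero_mk b, LocalizedModule.mk_eq] at h
  obtain ⟨c, hc⟩ := h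
  simp only [smul_zero, Submonoid.smul_def, smul_eq_mul] at hc
  exact (Mero.regStalk_le_nonZeroDivisors y (c * b).2).1 a (by rw [Submonoid.coe_mul, mul_assoc]; exact hc)
/-- Let X be a quasi-compact scheme, h a global section of O_X and f a global section of the sheaf of
meromorphic functions K_X whose restriction to the open X_h where h is invertible vanishes. Then h^n
f = 0 in K_X(X) for some natural number n. -/
theorem result (X : Scheme.{u}) [CompactSpace ↥X] (h : Γ(X, ⊤))
    (f : Γ(Mero.kmod X, ⊤)) (hf : (Mero.kmod X).presheaf.map (homOfLE (le_top : X.basicOpen h ≤ ⊤)).op f = 0) :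
    ∃ n : ℕ, Mero.toK X ⊤ h ^ n * f = 0 := by
  have loc : ∀ x : X, ∃ (W : X.Opens) (_ : x ∈ W) (n : ℕ), ∀ y : W,
      algebraMap _ (Mero.KStalk X y.1) (X.presheaf.germ ⊤ y.1 trivial h) ^ n * f.1 ⟨y.1, trivial⟩ = 0 := by
    intro x
    obtain ⟨V, hxV, i, a, b, hab⟩ := f.2 ⟨x, trivial⟩
    obtain ⟨W, hW, hxW, hWV⟩ := exists_isAffineOpen_mem_and_subset (X := X) (x := x) (U := V) hxV
    let a' := X.presheaf.map (homOfLE hWV).op a
    let h' := X.presheaf.map (homOfLE (le_top : W ≤ ⊤)).op h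
    obtain ⟨n, hn⟩ : ∃ n : ℕ, h' ^ n * a' = 0 := by
      refine exists_pow_mul_eq_zero_of_res_basicOpen_eq_zero_of_isCompact X hW.isCompact a' h' ?_
      refine TopCat.Presheaf.section_ext X.sheaf _ _ _ fun y hy => ?_
      refine ((X.presheaf.germ_res_apply _ y hy a').trans ?_).trans (map_zero _).symm
      have hyW : y ∈ W := X.basicOpen_le h' hy
      refine (X.presheaf.germ_res_apply (homOfLE hWV) y hyW a).trans ?_
      apply num_eq_zero
      refine (hab ⟨y, hWV hyW⟩).symm.trans ?_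
      have hyh : y ∈ X.basicOpen h := by
        have e := X.basicOpen_res h (homOfLE (le_top : W ≤ ⊤)).op
        exact (e ▸ hy : y ∈ W ⊓ X.basicOpen h).2
      exact congrArg (fun s : Γ(Mero.kmod X, X.basicOpen h) => s.1 ⟨y, hyh⟩) hf
    refine ⟨W, hxW, n, fun y => ?_⟩
    have h1 := hab ⟨y.1, hWV y.2⟩
    dsimp only at h1
    have h2 := congrArg (X.presheaf.germ W y.1 y.2) hn
    rw [map_mul, map_pow, map_zero, TopCat.Presheaf.germ_res_apply] at h2
    rw [show X.presheaf.germ W y.1 y.2 a' = X.presheaf.germ V y.1 (hWV y.2) a from X.presheaf.germ_res_apply _ _ _ a] at h2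
    refine (congrArg (_ * ·) h1).trans ?_
    rw [← map_pow, ← Algebra.smul_def, LocalizedModule.smul'_mk, smul_eq_mul, h2, LocalizedModule.zero_mk]
  choose W hxW n hn using loc
  obtain ⟨s, hs⟩ := isCompact_univ.elim_finite_subcover (fun x => (W x : Set X)) (fun x => (W x).isOpen)
    (fun x _ => Set.mem_iUnion.mpr ⟨x, hxW x⟩)
  refine ⟨s.sup n, Subtype.ext (funext fun y => ?_)⟩
  obtain ⟨x, hx, hyx⟩ : ∃ x ∈ s, y.1 ∈ W x := by simpa using hs (Set.mem_univ y.1)
  have h1 := hn x ⟨y.1, hyx⟩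
  change Mero.evalK X ⊤ y (Mero.toK X ⊤ h ^ s.sup n * f) = 0
  rw [map_mul, map_pow, ← Nat.add_sub_cancel' (Finset.le_sup (f := n) hx), pow_add, mul_comm (_ ^ n x),
    mul_assoc]
  refine mul_eq_zero_of_right _ ?_
  exact h1

end Groth.Agent.S8865
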