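import Groth.Statements.S8866
import Mathlib
import Groth.Agent.MeroLib.Regular
import Groth.Agent.S5089

set_option autoImplicit false
universe u
open CategoryTheory CategoryTheory.Limits AlgebraicGeometry TopologicalSpace
open SDiv

namespace Groth.Agent.S8866

open CategoryTheory CategoryTheory.Limits AlgebraicGeometry

open TopologicalSpace Groth.Agent.MeroLib
/-- Let X be a reduced scheme in which every quasi-compact open subset has only finitely many
irreducible components, and fix an O_X-module L that is invertible. A regular meromorphic section of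
L then exists. For an integral scheme this is the case of one irreducible component. -/
theorem result (X : Scheme.{u}) [IsReduced X]
    (hfin : ∀ U : X.Opens, IsCompact (U : Set ↥X) → (irreducibleComponents ↥(U : Scheme.{u})).Finite)
    (L : X.Modules) (hL : PicF.IsInvertible L) : Mero.HasRegularMero L := by
  classical
  suffices h : _ by
    obtain ⟨D, ⟨i⟩⟩ := S5089.result X h L hL
    exact hasRegularMero_of_iso i
  intro x
  obtain ⟨W, hW, hxW, -⟩ := exists_isAffineOpen_mem_and_subset (X := X) (x := x) (U := ⊤) trivial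
  refine ⟨W, hxW, ?_⟩
  let S := {Z : Set X | Z ∈ irreducibleComponents X ∧ (Z ∩ (W : Set X)).Nonempty}
  have hgen : ∀ Z : S, ∃ ξ : W, closure ({ξ.1} : Set X) = Z.1 ∧ IsMaxPt ξ.1 := by
    rintro ⟨Z, hZ, z, hzZ, hzW⟩
    have hg := hZ.1.isGenericPoint_genericPoint (isClosed_of_mem_irreducibleComponents Z hZ)
    exact ⟨⟨hZ.1.genericPoint, (hg.specializes hzZ).mem_open W.2 hzW⟩, hg,
      (isMaxPt_iff _).2 (hg.symm ▸ hZ)⟩
  choose ξ hξ hξm using hgen
  have hWmax : ∀ Z, closure ({ξ Z} : Set W.toScheme) ∈ irreducibleComponents W.toScheme := fun Z =>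
    (isMaxPt_iff (X := W.toScheme) (ξ Z)).1 fun z hz => by
      exact Subtype.ext (hξm Z z.1 (hz.map W.ι.continuous))
  refine Set.finite_coe_iff.1 (@Finite.of_injective _ _ (hfin W hW.isCompact).to_subtype
    (fun Z : S => (⟨closure ({ξ Z} : Set W.toScheme), hWmax Z⟩ : irreducibleComponents W.toScheme)) fun Z Z' h => ?_)
  have h1 : closure ({ξ Z} : Set W.toScheme) = closure {ξ Z'} := congrArg Subtype.val h
  have h2 : ξ Z = ξ Z' :=
    ((specializes_iff_closure_subset).2 h1.ge).antisymm ((specializes_iff_closure_subset).2 h1.le) |>.eq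
  exact Subtype.ext (by rw [← hξ Z, h2, hξ Z'])


end Groth.Agent.S8866
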