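import Groth.Statements.S8867
import Mathlib
import Groth.Agent.MeroLib.Regular
import Groth.Agent.MeroLib.GenDense
import Groth.Agent.S5088
import Groth.Agent.AssLib.Structure
import Groth.Agent.ParaFLib.Stalkwise

set_option autoImplicit false
universe u
open CategoryTheory CategoryTheory.Limits AlgebraicGeometry TopologicalSpace
open SDiv

namespace Groth.Agent.S8867

open CategoryTheory CategoryTheory.Limits AlgebraicGeometry

open TopologicalSpace Groth.Agent.MeroLib Groth.Agent.ParaFLib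
/-- Let X be a locally Noetherian scheme with no embedded points, i.e. every associated point of O_X is
maximal among the associated points of O_X under specialization, and L an invertible O_X-module.
Then some meromorphic section of L is regular. -/
theorem result (X : Scheme.{u}) [IsLocallyNoetherian X]
    (hne : ∀ x : ↥X, Curv2.IsAssPoint (Coh.structureModule X) x →
      ∀ y : ↥X, Curv2.IsAssPoint (Coh.structureModule X) y → y ⤳ x → y = x)
    (L : X.Modules) (hL : PicF.IsInvertible L) : Mero.HasRegularMero L := by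
  classical
  have hne' : ∀ x y : X, IsAssociatedPrime (IsLocalRing.maximalIdeal (X.presheaf.stalk x)) (X.presheaf.stalk x) →
      IsAssociatedPrime (IsLocalRing.maximalIdeal (X.presheaf.stalk y)) (X.presheaf.stalk y) → y ⤳ x → y = x :=
    fun x y hx hy => hne x ((AssLib.isAssPoint_structureModule_iff x).2 hx) y
      ((AssLib.isAssPoint_structureModule_iff y).2 hy)
  let A := {x : X // IsAssociatedPrime (IsLocalRing.maximalIdeal (X.presheaf.stalk x)) (X.presheaf.stalk x)}
  have hN : ∀ ξ : A, ∃ (N : X.Opens) (e : Γ(L, N)), Gen N e ∧ ξ.1 ∈ N ∧ ∀ η : A, η.1 ∈ N → η = ξ := by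
    intro ξ
    obtain ⟨W, e, hxW, he⟩ := exists_gen_nhd hL ξ.1
    obtain ⟨T, hT, hxT, hle⟩ := exists_isAffineOpen_mem_and_subset hxW
    haveI : IsNoetherianRing Γ(X, T) := IsLocallyNoetherian.component_noetherian ⟨T, hT⟩
    let F : Set X := {η | η ≠ ξ.1 ∧ η ∈ T ∧
      IsAssociatedPrime (IsLocalRing.maximalIdeal (X.presheaf.stalk η)) (X.presheaf.stalk η)}
    have hF : F.Finite := by
      refine Set.Finite.subset (((associatedPrimes.finite Γ(X, T) Γ(X, T)).preimage
        (f := fun q : PrimeSpectrum Γ(X, T) => q.asIdeal)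
        (fun _ _ _ _ h => PrimeSpectrum.ext h)).image (fun q => hT.fromSpec q)) ?_
      rintro η ⟨-, hηT, hη⟩
      obtain ⟨q, rfl⟩ := hT.range_fromSpec.superset hηT
      exact ⟨q, S5088.mem_assPrimes_of_assPoint hT q hηT hη, rfl⟩
    let C : Set X := ⋃ η ∈ F, closure {η}
    have hC : IsClosed C := hF.isClosed_biUnion fun η _ => isClosed_closure
    have hξC : ξ.1 ∉ C := by
      intro h
      obtain ⟨η, hη, hξ⟩ := Set.mem_iUnion₂.1 h
      exact hη.1 (hne' ξ.1 η ξ.2 hη.2.2 (specializes_iff_mem_closure.2 hξ))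
    refine ⟨T ⊓ ⟨Cᶜ, hC.isOpen_compl⟩, _, he.res ((inf_le_left : T ⊓ ⟨Cᶜ, hC.isOpen_compl⟩ ≤ T).trans (show T ≤ W from hle)), ⟨hxT, hξC⟩, fun η hη => ?_⟩
    by_contra hne''
    exact hη.2 (Set.mem_biUnion (⟨fun h => hne'' (Subtype.ext h), hη.1, η.2⟩ : η.1 ∈ F) (subset_closure rfl))
  choose N e he hξN huniq using hN
  have hdisj : ∀ ξ η : A, ξ ≠ η → ∀ z : X, z ∈ N ξ → z ∈ N η → False := by
    intro ξ η hne'' z hzξ hzη
    obtain ⟨T, hT, hzT, hle⟩ := exists_isAffineOpen_mem_and_subset (U := N ξ ⊓ N η) (x := z) ⟨hzξ, hzη⟩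
    haveI : IsNoetherianRing Γ(X, T) := IsLocallyNoetherian.component_noetherian ⟨T, hT⟩
    haveI : Nontrivial Γ(X, T) := by
      obtain ⟨q, -⟩ := hT.range_fromSpec.superset hzT
      exact ⟨0, 1, fun h => q.2.ne_top ((Ideal.eq_top_iff_one _).2 (h ▸ q.asIdeal.zero_mem))⟩
    obtain ⟨p, hp⟩ := associatedPrimes.nonempty Γ(X, T) Γ(X, T)
    let q : PrimeSpectrum Γ(X, T) := ⟨p, IsAssociatedPrime.isPrime hp⟩
    have hq : hT.fromSpec q ∈ T := hT.range_fromSpec.subset (Set.mem_range_self q)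
    let ζ : A := ⟨_, maximalIdeal_mem_associatedPrimes hT q hq hp⟩
    exact hne'' ((huniq ξ ζ (hle hq).1).symm.trans (huniq η ζ (hle hq).2))
  have hcomp : ∀ ξ η : A, L.presheaf.map (homOfLE (inf_le_left : N ξ ⊓ N η ≤ N ξ)).op (e ξ) =
      L.presheaf.map (homOfLE (inf_le_right : N ξ ⊓ N η ≤ N η)).op (e η) := fun ξ η => by
    by_cases h : ξ = η
    · subst h; rfl
    · refine TopCat.Presheaf.section_ext (⟨L.presheaf, L.isSheaf⟩ : TopCat.Sheaf Ab X) _ _ _ fun z hz => ?_
      exact (hdisj ξ η h z hz.1 hz.2).elim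
  obtain ⟨eO, heO⟩ := exists_gen_of_compatible N e he hcomp (iSup N) (le_iSup N) le_rfl
  have hd : RegDense (⊤ : X.Opens) (iSup N) := fun x _ => ⟨⊤, trivial, fun T hT _ _ => by
    haveI : IsNoetherianRing Γ(X, T) := IsLocallyNoetherian.component_noetherian ⟨T, hT⟩
    refine exists_nonZeroDivisor_basicOpen_le hT (associatedPrimes.finite Γ(X, T) Γ(X, T))
      (fun p hp => IsAssociatedPrime.isPrime hp) (fun a ha => ?_) (fun p hp => ?_)
    · by_contra hn
      have : a ∈ ⋃ p ∈ associatedPrimes Γ(X, T) Γ(X, T), (p : Set Γ(X, T)) := by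
        rw [biUnion_associatedPrimes_eq_compl_nonZeroDivisors]
        exact hn
      obtain ⟨p, hp, hap⟩ := Set.mem_iUnion₂.1 this
      exact ha p hp hap
    · exact Opens.mem_iSup.2 ⟨⟨_, maximalIdeal_mem_associatedPrimes hT ⟨p, _⟩
        (hT.range_fromSpec.subset (Set.mem_range_self _)) hp⟩, hξN _⟩⟩
  obtain ⟨D, ⟨i⟩⟩ := exists_divisor_of_gen_dense hL heO hd
  exact hasRegularMero_of_iso i
end Groth.Agent.S8867
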