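import Groth.Statements.S8868
import Mathlib
import Groth.Agent.AssLib.Weak


set_option autoImplicit false
universe u
open CategoryTheory CategoryTheory.Limits AlgebraicGeometry TopologicalSpace
open SDiv

namespace Groth.Agent.S8868

/-- Let X be a scheme and F a quasi-coherent O_X-module. Then F is zero if and only if F has no weakly
associated point. -/
theorem result (X : Scheme.{u}) (F : X.Modules) (hF : Coh.IsQCoh F) :
    IsZero F ↔ ∀ x : ↥X, ¬ Curv2.IsWeakAssPoint F x := by
  haveI := hF
  refine ⟨fun hz x ⟨m, hm⟩ => ?_, fun h => ?_⟩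
  · obtain ⟨V, hxV, s, rfl⟩ := TopCat.Presheaf.exists_germ_eq F.presheaf m
    have hs : s = 0 := congr(($(hz.eq_of_src (𝟙 F) 0)).app V s)
    refine (IsLocalRing.maximalIdeal.isMaximal (X.presheaf.stalk x)).ne_top ?_
    rw [← hm, hs, map_zero, Ideal.radical_eq_top, eq_top_iff]
    intro a _
    simp
  · rw [IsZero.iff_id_eq_zero]
    refine Scheme.Modules.hom_ext _ _ fun V => AddCommGrpCat.hom_ext (AddMonoidHom.ext fun s => ?_)
    show (s : Γ(F, V)) = 0
    refine AssLib.eq_zero_of_germ F s fun x hx => by_contra fun hne => ?_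
    obtain ⟨y, -, -, hy, -⟩ := AssLib.exists_isWeakAssPoint s hx hne
    exact h y hy

end Groth.Agent.S8868
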