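import Groth.Statements.S8869
import Mathlib
import Groth.Agent.AssLib.Weak


set_option autoImplicit false
universe u
open CategoryTheory CategoryTheory.Limits AlgebraicGeometry TopologicalSpace
open SDiv

namespace Groth.Agent.S8869

/-- Assume X is a reduced scheme and x is a point of X. Then x is weakly associated to the structure
sheaf O_X exactly when every generization of x equals x itself; equivalently, x is a generic point
of some irreducible component of X. -/
theorem result (X : Scheme.{u}) [IsReduced X] (x : ↥X) :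
    Curv2.IsWeakAssPoint (Coh.structureModule X) x ↔ ∀ y : ↥X, y ⤳ x → y = x := by
  obtain ⟨_, ⟨W : X.Opens, (hW : IsAffineOpen W), rfl⟩, hxW, -⟩ :=
    X.isBasis_affineOpens.exists_subset_of_mem_open (a := x) (u := Set.univ) trivial isOpen_univ
  rw [AssLib.isWeakAssPoint_iff (M := Coh.structureModule X) hW hxW]
  change (∃ m : Γ(X, W), WeakAssLib.Wit (AssLib.pr hW hxW) m) ↔ _
  constructor
  · rintro ⟨m, hm⟩ y hy
    have hyW := AssLib.mem_of_specializes hy hxW
    have hle := (AssLib.specializes_iff hW hxW hyW).mp hy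
    refine (hy.antisymm ((AssLib.specializes_iff hW hyW hxW).mpr fun r hr => ?_)).eq
    obtain ⟨t, ht, n, hn⟩ := hm.pow r hr
    have h0 : (t * r ^ n) * m ∈ AssLib.pr hW hyW := by
      rw [show t * r ^ n * m = 0 from hn]; exact zero_mem _
    rcases Ideal.IsPrime.mem_or_mem inferInstance h0 with h1 | h1
    · rcases Ideal.IsPrime.mem_or_mem inferInstance h1 with h2 | h2
      · exact absurd (hle h2) ht
      · exact Ideal.IsPrime.mem_of_pow_mem inferInstance n h2
    · by_contra hrq
      have hd : Disjoint ((⊥ : Ideal Γ(X, W)) : Set Γ(X, W)) (Submonoid.powers m ⊔ (AssLib.pr hW hxW).primeCompl : Submonoid Γ(X, W)) := by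
        rw [Set.disjoint_left]
        intro z hz0 hz
        obtain ⟨a, ⟨k, rfl⟩, b, hb, rfl⟩ := Submonoid.mem_sup.mp hz
        have h2 : (b * m) ^ (k + 1) = 0 := by
          rw [show (b * m) ^ (k + 1) = (b ^ k * m) * (m ^ k * b) by ring, show m ^ k * b = 0 from hz0, mul_zero]
        exact hb (hm.le b (eq_zero_of_pow_eq_zero h2))
      obtain ⟨q, hq, -, hqd⟩ := Ideal.exists_le_prime_disjoint ⊥ _ hd
      have hmq : m ∉ q := fun hmem => Set.disjoint_left.mp hqd hmem (Submonoid.mem_sup_left (Submonoid.mem_powers m))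
      have hqp : q ≤ AssLib.pr hW hxW := fun z hz => by_contra fun hzp =>
        Set.disjoint_left.mp hqd hz (Submonoid.mem_sup_right hzp)
      have hpq : AssLib.pr hW hxW ≤ q := fun z hz => by
        obtain ⟨t, ht, n, hn⟩ := hm.pow z hz
        have h2 : (t * z ^ n) * m ∈ q := by rw [show t * z ^ n * m = 0 from hn]; exact zero_mem _
        rcases Ideal.IsPrime.mem_or_mem inferInstance ((Ideal.IsPrime.mem_or_mem inferInstance h2).resolve_right hmq) with h3 | h3
        · exact absurd (hqp h3) ht
        · exact Ideal.IsPrime.mem_of_pow_mem inferInstance n h3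
      exact hmq (hpq (hle h1))
  · intro hmax
    refine ⟨1, fun a ha => ?_, fun r hr => ?_⟩
    · rw [show a = 0 by simpa using ha]; exact zero_mem _
    · by_contra hc
      push Not at hc
      have hd : Disjoint ((⊥ : Ideal Γ(X, W)) : Set Γ(X, W)) (Submonoid.powers r ⊔ (AssLib.pr hW hxW).primeCompl : Submonoid Γ(X, W)) := by
        rw [Set.disjoint_left]
        intro z hz0 hz
        obtain ⟨a, ⟨n, rfl⟩, b, hb, rfl⟩ := Submonoid.mem_sup.mp hz
        refine hc b hb n ?_
        rw [smul_eq_mul, mul_one, mul_comm]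
        exact hz0
      obtain ⟨q, hq, -, hqd⟩ := Ideal.exists_le_prime_disjoint ⊥ _ hd
      have hqp : q ≤ AssLib.pr hW hxW := fun z hz => by_contra fun hzp =>
        Set.disjoint_left.mp hqd hz (Submonoid.mem_sup_right hzp)
      let Q : PrimeSpectrum Γ(X, W) := ⟨q, hq⟩
      have hy := hmax (AssLib.pt hW Q) ((AssLib.specializes_iff hW hxW (AssLib.pt_mem hW Q)).mpr
        (by rw [AssLib.pr_pt]; exact hqp))
      have hqe : q = AssLib.pr hW hxW := by
        change Q.asIdeal = _
        rw [← AssLib.pr_pt hW Q]; simp only [hy]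
      exact Set.disjoint_left.mp hqd (hqe ▸ hr) (Submonoid.mem_sup_left (Submonoid.mem_powers r))

end Groth.Agent.S8869
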