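import Groth.Statements.S8870
import Mathlib
import Groth.Agent.DCohLib.Pullback


set_option autoImplicit false
universe u
open CategoryTheory CategoryTheory.Limits AlgebraicGeometry TopologicalSpace
open SDiv

namespace Groth.Agent.S8870

/-- Let X be a scheme and 0 → F₁ → F₂ → F₃ → 0 a short exact sequence of quasi-coherent O_X-modules.
Then WeakAss(F₂) ⊆ WeakAss(F₁) ∪ WeakAss(F₃) and WeakAss(F₁) ⊆ WeakAss(F₂). -/
theorem result (X : Scheme.{u}) (S : ShortComplex X.Modules) (hS : S.ShortExact)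
    (h₁ : Coh.IsQCoh S.X₁) (h₂ : Coh.IsQCoh S.X₂) (h₃ : Coh.IsQCoh S.X₃) :
    (∀ x : ↥X, Curv2.IsWeakAssPoint S.X₂ x → Curv2.IsWeakAssPoint S.X₁ x ∨ Curv2.IsWeakAssPoint S.X₃ x) ∧
      (∀ x : ↥X, Curv2.IsWeakAssPoint S.X₁ x → Curv2.IsWeakAssPoint S.X₂ x) := by
  haveI := hS.mono_f
  haveI := hS.epi_g
  have hinj := fun x => (PullbackMod.mono_iff_stalk S.f).mp hS.mono_f x
  have hex := fun x => DCohLib.exact_stalkLin S hS.exact x
  have hker : ∀ (x : X) (m : S.X₁.presheaf.stalk x),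
      LinearMap.ker (LinearMap.toSpanSingleton (X.presheaf.stalk x) _ (PullbackMod.stalkLin S.f x m)) =
        LinearMap.ker (LinearMap.toSpanSingleton (X.presheaf.stalk x) _ m) := fun x m => by
    ext a
    simp only [LinearMap.mem_ker, LinearMap.toSpanSingleton_apply]
    rw [← map_smul]
    exact map_eq_zero_iff _ (hinj x)
  refine ⟨fun x ⟨m, hm⟩ => ?_, fun x ⟨m, hm⟩ => ⟨PullbackMod.stalkLin S.f x m, by rw [hker]; exact hm⟩⟩
  by_cases hz : PullbackMod.stalkLin S.g x m = 0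
  · obtain ⟨m', hm'⟩ := (hex x m).mp hz
    refine Or.inl ⟨m', ?_⟩
    rw [← hker, hm']
    exact hm
  · refine Or.inr ⟨PullbackMod.stalkLin S.g x m, le_antisymm ?_ (hm.ge.trans (Ideal.radical_mono fun a ha => ?_))⟩
    · refine IsLocalRing.le_maximalIdeal fun htop => hz ?_
      rw [Ideal.radical_eq_top, eq_top_iff] at htop
      have h1 : (1 : X.presheaf.stalk x) • PullbackMod.stalkLin S.g x m = 0 := htop (Submodule.mem_top (x := 1))
      rwa [one_smul] at h1
    · rw [LinearMap.mem_ker, LinearMap.toSpanSingleton_apply] at ha ⊢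
      rw [← map_smul, ha, map_zero]

end Groth.Agent.S8870
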