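import Groth.Statements.S8871
import Mathlib
import Groth.Agent.AssLib.Noetherian
import Groth.Agent.CAlgBasics.Depth
import Groth.Agent.LocCohLib.TopExt
import Groth.Agent.CanonLib.CMEnd


set_option autoImplicit false
universe u
open CategoryTheory CategoryTheory.Limits AlgebraicGeometry TopologicalSpace
open SDiv

namespace Groth.Agent.S8871

/-- Let X be a locally Noetherian scheme and F a coherent O_X-module. Then F has no embedded associated
points (every associated point of F is maximal among the associated points of F under
specialization) if and only if F has property (S_1): for every point x, depth F_x ≥ min(1, dim Supp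
F_x), where dim Supp F_x is the Krull dimension of the support of the O_{X,x}-module F_x (for F_x =
0 the depth is infinite and the support empty, so the condition holds). -/
theorem result (X : Scheme.{u}) [IsLocallyNoetherian X] (F : X.Modules) (hF : Coh.IsCoh F) :
    (∀ x : ↥X, Curv2.IsAssPoint F x → ∀ y : ↥X, Curv2.IsAssPoint F y → y ⤳ x → y = x) ↔
      ∀ x : ↥X, min (1 : WithBot ℕ∞) (Module.supportDim ↑(X.presheaf.stalk x) ↑(F.presheaf.stalk x)) ≤
        ((LocCoh.depth (X.presheaf.stalk x) (F.presheaf.stalk x) : ℕ∞) : WithBot ℕ∞) := by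
  haveI := hF.1
  have hfin : ∀ x : X, Module.Finite (X.presheaf.stalk x) (F.presheaf.stalk x) := fun x => by
    obtain ⟨W, hW, hxW, -⟩ := Groth.Agent.AssLib.exists_affine_mem x (U := ⊤) trivial
    haveI := Groth.Agent.QCohLib.finite_sections_of_isCoh hF hW
    letI := Module.compHom (F.presheaf.stalk x) (X.presheaf.germ W x hxW).hom
    obtain ⟨g, hg⟩ := Groth.Agent.GenFree.exists_isLocalizedModule_germ F hW x hxW
    haveI := hg
    letI : Algebra Γ(X, W) (X.presheaf.stalk x) := TopCat.Presheaf.algebra_section_stalk X.presheaf ⟨x, hxW⟩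
    haveI := hW.isLocalization_stalk ⟨x, hxW⟩
    haveI : IsScalarTower Γ(X, W) (X.presheaf.stalk x) (F.presheaf.stalk x) := .of_algebraMap_smul fun _ _ => rfl
    exact Module.Finite.of_isLocalizedModule (Groth.Agent.AssLib.pr hW hxW).primeCompl g
  constructor
  · intro h x
    haveI := hfin x
    by_cases hx : Curv2.IsAssPoint F x
    · refine (min_le_right _ _).trans (le_trans (b := 0) ?_ ?_)
      · obtain ⟨k, hk⟩ := Groth.Agent.AssLib.exists_pow_kill hF (h x hx)
        have hsub := Groth.Agent.LocCohLib.support_subset_of_killedBy (J := IsLocalRing.maximalIdeal (X.presheaf.stalk x)) hk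
        haveI : Subsingleton (Module.support (X.presheaf.stalk x) (F.presheaf.stalk x)) := ⟨fun p q =>
          Subtype.ext (PrimeSpectrum.ext
            (((IsLocalRing.maximalIdeal.isMaximal _).eq_of_le p.1.isPrime.ne_top fun a ha => hsub p.2 ha).symm.trans
              ((IsLocalRing.maximalIdeal.isMaximal _).eq_of_le q.1.isPrime.ne_top fun a ha => hsub q.2 ha)))⟩
        exact Order.krullDim_nonpos_of_subsingleton
      · exact WithBot.coe_nonneg.mpr bot_le
    · refine (min_le_left _ _).trans ?_
      refine WithBot.coe_le_coe.mpr ?_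
      rw [Groth.Agent.CAlgBasics.one_le_depth_iff]
      intro t ht
      by_contra hne
      refine hx ((isAssociatedPrime_iff).mpr ⟨Ideal.IsMaximal.isPrime inferInstance, t, ?_⟩)
      refine (IsLocalRing.maximalIdeal.isMaximal _).eq_of_le ?_ fun a ha => ?_
      · intro htop
        have h1 := htop.ge (trivial : (1 : X.presheaf.stalk x) ∈ ⊤)
        rw [Submodule.mem_colon_singleton, Submodule.mem_bot, one_smul] at h1
        exact hne h1
      · rw [Submodule.mem_colon_singleton, Submodule.mem_bot]
        exact ht a ha
  · intro h x hx y hy hyx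
    haveI := hfin x
    haveI := Groth.Agent.AssLib.nontrivial_of_isAssPoint hx
    obtain ⟨hp, t, ht⟩ := isAssociatedPrime_iff.mp hx
    have hd : LocCoh.depth (X.presheaf.stalk x) (F.presheaf.stalk x) = 0 := by
      by_contra hd
      have h1 := (Groth.Agent.CAlgBasics.one_le_depth_iff (R := X.presheaf.stalk x) (M := F.presheaf.stalk x)).mp
        (ENat.one_le_iff_ne_zero.mpr hd)
      have ht0 : t = 0 := h1 t fun a ha => by
        rw [ht, Submodule.mem_colon_singleton, Submodule.mem_bot] at ha
        exact ha
      refine hp.ne_top (ht.trans (eq_top_iff.mpr fun a _ => ?_))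
      rw [Submodule.mem_colon_singleton, ht0, smul_zero, Submodule.mem_bot]
    have hs : Module.supportDim (X.presheaf.stalk x) (F.presheaf.stalk x) ≤ 0 := by
      have h2 := h x
      rw [hd] at h2
      rcases min_le_iff.mp h2 with h3 | h3
      · exact absurd (WithBot.coe_le_coe.mp h3) (by simp)
      · exact h3
    obtain ⟨k, hk⟩ := Groth.Agent.CanonLib.exists_pow_killedBy (I := IsLocalRing.maximalIdeal (X.presheaf.stalk x))
      ↑(F.presheaf.stalk x) (Groth.Agent.LocCohLib.isPowerTorsion_of_supportDim_le_zero _ hs)
    have hJ : Module.IsTorsionBySet (X.presheaf.stalk x) (F.presheaf.stalk x)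
        (IsLocalRing.maximalIdeal (X.presheaf.stalk x) ^ k : Ideal _) := fun m a => hk a a.2 m
    obtain ⟨n, f, hf⟩ := Module.Finite.exists_fin' (X.presheaf.stalk x) (F.presheaf.stalk x)
    let J := IsLocalRing.maximalIdeal (X.presheaf.stalk x) ^ k
    letI := hJ.module
    haveI : Module.Finite (X.presheaf.stalk x ⧸ J) (F.presheaf.stalk x) :=
      Module.Finite.of_restrictScalars_finite (X.presheaf.stalk x) _ _
    haveI : IsArtinianRing (X.presheaf.stalk x ⧸ J) :=
      isArtinian_of_tower (X.presheaf.stalk x)
        (isFiniteLength_iff_isNoetherian_isArtinian.mp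
          (Groth.Agent.InjHullLib.isFiniteLength_quot (n := k) (le_refl J))).2
    refine (Groth.Agent.AssLib.isFiniteLength_iff_minimal hF).mp
      (isFiniteLength_iff_isNoetherian_isArtinian.mpr ⟨inferInstance, ?_⟩) y hy hyx
    exact isArtinian_of_surjective_algebraMap (R := X.presheaf.stalk x ⧸ J) (M := F.presheaf.stalk x)
      Ideal.Quotient.mk_surjective


end Groth.Agent.S8871
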