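import Groth.Statements.S8876
import Mathlib
import Groth.Agent.FittSheafLib.Basic

set_option autoImplicit false
universe u
open CategoryTheory CategoryTheory.Limits AlgebraicGeometry TopologicalSpace
open SDiv

namespace Groth.Agent.S8876

/-- Let S be a scheme and F a quasi-coherent O_S-module of finite type. Then the closed subset of S cut
out by Fit_0(F) equals the support of F (the scheme-theoretic support and the Fit_0 subscheme have
the same underlying set). -/
theorem result (S : Scheme.{u}) (F : S.Modules) (hF : Coh.IsQCoh F) (hft : CohB1.IsFT F) :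
    ((Fitt.sheafIdeal F 0).support : Set ↥S) = CohB1.support F := by
  haveI := hF
  ext x
  show x ∈ (Fitt.sheafIdeal F 0).support ↔ ¬ Subsingleton (F.presheaf.stalk x)
  rw [← not_iff_not, not_not]
  refine (Groth.Agent.FittSheafLib.notMem_support_iff F hft 0 x).trans ⟨?_, fun h => ⟨fun i => i.elim0, ?_⟩⟩
  · rintro ⟨g, hg⟩
    refine ⟨fun a b => ?_⟩
    have h0 : ∀ z : F.presheaf.stalk x, z = 0 := fun z => by
      have : z ∈ Submodule.span (S.presheaf.stalk x) (Set.range g) := hg ▸ Submodule.mem_top
      rwa [Set.range_eq_empty, Submodule.span_empty, Submodule.mem_bot] at this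
    rw [h0 a, h0 b]
  · exact Subsingleton.elim _ _


end Groth.Agent.S8876
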