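import Groth.Statements.S8882


set_option autoImplicit false
universe u
open CategoryTheory CategoryTheory.Limits AlgebraicGeometry TopologicalSpace
open SDiv

namespace Groth.Agent.S8882

open CategoryTheory CategoryTheory.Limits AlgebraicGeometry

section

variable {X : Scheme.{u}}

theorem exists_exponent [IsNoetherian X] :
    ∃ N : ℕ, ∀ (U : X.Opens) (z : Γ(X, U)), X.nilradical.subschemeι.app U z = 0 → z ^ N = 0 := by
  classical
  let ι := X.nilradical.subschemeι
  obtain ⟨S, hcov⟩ := (isCompact_univ (X := X)).elim_finite_subcover (fun W : X.affineOpens => (W.1 : Set X))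
    (fun W => W.1.2) (fun x _ => by
      obtain ⟨W, hW, hxW, -⟩ := exists_isAffineOpen_mem_and_subset (U := ⊤) (show x ∈ (⊤ : X.Opens) from trivial)
      exact Set.mem_iUnion.2 ⟨⟨W, hW⟩, hxW⟩)
  have hn : ∀ W : S, ∃ n, (X.nilradical.ideal W.1) ^ n = ⊥ := fun W => by
    haveI := IsLocallyNoetherian.component_noetherian W.1
    exact Ideal.exists_pow_le_of_le_radical_of_fg (I := X.nilradical.ideal W.1) (J := ⊥)
      (show X.nilradical.ideal W.1 ≤ Ideal.radical ⊥ by
        show (⊥ : X.IdealSheafData).radical.ideal W.1 ≤ _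
        rw [Scheme.IdealSheafData.radical_ideal, Scheme.IdealSheafData.ideal_bot, Pi.bot_apply])
      (IsNoetherian.noetherian _) |>.imp fun n h => le_bot_iff.1 h
  choose n hn using hn
  refine ⟨Finset.univ.sup n, fun U z hz => ?_⟩
  refine X.sheaf.eq_of_locally_eq' (fun V : {V : X.affineOpens // V.1 ≤ U ∧ ∃ W : S, V.1 ≤ W.1.1} => V.1.1) U
    (fun V => homOfLE V.2.1) (fun x hx => ?_) _ 0 fun V => ?_
  · obtain ⟨W, hWS, hxW⟩ := Set.mem_iUnion₂.1 (hcov (Set.mem_univ x))
    obtain ⟨V, hV, hxV, hle⟩ := exists_isAffineOpen_mem_and_subset (U := U ⊓ W.1) (x := x) ⟨hx, hxW⟩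
    exact TopologicalSpace.Opens.mem_iSup.2
      ⟨⟨⟨V, hV⟩, hle.trans inf_le_left, ⟨W, hWS⟩, hle.trans inf_le_right⟩, hxV⟩
  · obtain ⟨W, hVW⟩ := V.2.2
    show X.presheaf.map (homOfLE V.2.1).op (z ^ _) = X.presheaf.map (homOfLE V.2.1).op 0
    rw [map_zero, map_pow]
    have h1 : X.presheaf.map (homOfLE V.2.1).op z ∈ X.nilradical.ideal V.1 := by
      rw [← Scheme.IdealSheafData.ker_subschemeι_app, RingHom.mem_ker]
      have := congrArg (fun q => q.hom z) (ι.naturality (homOfLE V.2.1).op)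
      simp only [CommRingCat.comp_apply] at this
      rw [this, hz, map_zero]
    have h2 : X.nilradical.ideal V.1 ^ Finset.univ.sup n = ⊥ := by
      rw [← le_bot_iff, ← Scheme.IdealSheafData.map_ideal X.nilradical (show V.1 ≤ W.1 from hVW), ← Ideal.map_pow]
      refine Ideal.map_le_iff_le_comap.2 ((Ideal.pow_le_pow_right (Finset.le_sup (Finset.mem_univ W))).trans ?_)
      rw [hn]
      exact bot_le
    exact (Submodule.mem_bot _).1 (h2 ▸ Ideal.pow_mem_pow h1 _)

variable (p : ℕ) (hp : p.Prime) (hpX : (p : Γ(X, ⊤)) = 0)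
include hp hpX

theorem sub_pow_eq (U : X.Opens) (a b : Γ(X, U)) (e : ℕ) : (a - b) ^ p ^ e = a ^ p ^ e - b ^ p ^ e := by
  have h0 : (p : Γ(X, U)) = 0 := by
    rw [← map_natCast (X.presheaf.map (homOfLE (le_top (a := U))).op).hom, hpX, map_zero]
  rcases subsingleton_or_nontrivial Γ(X, U) with _ | _
  · exact Subsingleton.elim _ _
  · haveI := Fact.mk hp
    haveI : CharP Γ(X, U) p := (CharP.charP_iff_prime_eq_zero hp).2 h0
    exact sub_pow_char_pow a b e

theorem pow_eq_of_app_eq (e N : ℕ) (hN : N ≤ p ^ e)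
    (hz : ∀ (U : X.Opens) (z : Γ(X, U)), X.nilradical.subschemeι.app U z = 0 → z ^ N = 0)
    (U : X.Opens) (a b : Γ(X, U)) (h : X.nilradical.subschemeι.app U a = X.nilradical.subschemeι.app U b) :
    a ^ p ^ e = b ^ p ^ e := by
  rw [← sub_eq_zero, ← sub_pow_eq p hp hpX]
  exact pow_eq_zero_of_le hN (hz U _ (by rw [map_sub, h, sub_self]))

end

/-- Let X be a Noetherian scheme on which a prime number p is zero (p·O_X = 0). Then the closed
immersion X_red ⟶ X cut out by the nilradical carries a norm whose degree is p^e for some e > 0. -/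
theorem result (X : Scheme.{u}) [IsNoetherian X] (p : ℕ) (hp : p.Prime)
    (hpX : (p : Γ(X, ⊤)) = 0) : ∃ e : ℕ, 0 < e ∧ Nrm.HasNorm X.nilradical.subschemeι (p ^ e) := by
  classical
  obtain ⟨N, hN⟩ := exists_exponent (X := X)
  obtain ⟨e₀, he₀⟩ := pow_unbounded_of_one_lt N hp.one_lt
  let e := e₀ + 1
  have hNe : N ≤ p ^ e := he₀.le.trans (Nat.pow_le_pow_right hp.pos (Nat.le_succ _))
  have key := pow_eq_of_app_eq p hp hpX e N hNe hN
  let ι := X.nilradical.subschemeι
  have nat : ∀ {U V : X.Opens} (h : V ≤ U) (z : Γ(X, U)), ι.app V (X.presheaf.map (homOfLE h).op z) =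
      X.nilradical.subscheme.presheaf.map ((Opens.map ι.base).map (homOfLE h)).op (ι.app U z) := by
    intro U V h z
    have := congrArg (fun q => q.hom z) (ι.naturality (homOfLE h).op)
    exact this
  -- `t` is the norm of `s`
  let P : ∀ U : X.Opens, Γ(X.nilradical.subscheme, ι ⁻¹ᵁ U) → Γ(X, U) → Prop := fun U s t =>
    ∀ (V : X.Opens) (h : V ≤ U) (a : Γ(X, V)),
      ι.app V a = X.nilradical.subscheme.presheaf.map ((Opens.map ι.base).map (homOfLE h)).op s →
        X.presheaf.map (homOfLE h).op t = a ^ p ^ e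
  have hlift : ∀ (U : X.Opens) (s : Γ(X.nilradical.subscheme, ι ⁻¹ᵁ U)) (x : X), x ∈ U → ∃ (V : X.Opens) (h : V ≤ U),
      x ∈ V ∧ ∃ a : Γ(X, V), ι.app V a = X.nilradical.subscheme.presheaf.map ((Opens.map ι.base).map (homOfLE h)).op s := by
    intro U s x hx
    obtain ⟨V, hV, hxV, hle⟩ := exists_isAffineOpen_mem_and_subset hx
    exact ⟨V, hle, hxV, X.nilradical.subschemeι_app_surjective ⟨V, hV⟩ _⟩
  have huniq : ∀ (U : X.Opens) (s : Γ(X.nilradical.subscheme, ι ⁻¹ᵁ U)) (t t' : Γ(X, U)), P U s t → P U s t' → t = t' := by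
    intro U s t t' ht ht'
    choose V hVU hxV a ha using hlift U s
    refine X.sheaf.eq_of_locally_eq' (fun x : U => V x.1 x.2) U (fun x => homOfLE (hVU x.1 x.2))
      (fun x hx => TopologicalSpace.Opens.mem_iSup.2 ⟨⟨x, hx⟩, hxV x hx⟩) t t' fun x => ?_
    exact (ht _ _ _ (ha x.1 x.2)).trans (ht' _ _ _ (ha x.1 x.2)).symm
  have hex : ∀ (U : X.Opens) (s : Γ(X.nilradical.subscheme, ι ⁻¹ᵁ U)), ∃ t, P U s t := by
    intro U s
    choose V hVU hxV a ha using hlift U s
    have hagree : ∀ (W V₁ V₂ : X.Opens) (h₁ : W ≤ V₁) (h₂ : W ≤ V₂) (k₁ : V₁ ≤ U) (k₂ : V₂ ≤ U) (a₁ : Γ(X, V₁)) (a₂ : Γ(X, V₂)),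
        ι.app V₁ a₁ = X.nilradical.subscheme.presheaf.map ((Opens.map ι.base).map (homOfLE k₁)).op s →
        ι.app V₂ a₂ = X.nilradical.subscheme.presheaf.map ((Opens.map ι.base).map (homOfLE k₂)).op s →
        X.presheaf.map (homOfLE h₁).op (a₁ ^ p ^ e) = X.presheaf.map (homOfLE h₂).op (a₂ ^ p ^ e) := by
      intro W V₁ V₂ h₁ h₂ k₁ k₂ a₁ a₂ e₁ e₂
      rw [map_pow, map_pow]
      refine key _ _ _ ?_
      show ι.app W _ = ι.app W _
      rw [nat h₁, nat h₂, e₁, e₂, ← CommRingCat.comp_apply, ← CommRingCat.comp_apply, ← Functor.map_comp,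
        ← Functor.map_comp]
      rfl
    obtain ⟨t, ht, -⟩ := X.sheaf.existsUnique_gluing' (fun x : U => V x.1 x.2) U (fun x => homOfLE (hVU x.1 x.2))
      (fun x hx => TopologicalSpace.Opens.mem_iSup.2 ⟨⟨x, hx⟩, hxV x hx⟩) (fun x => a x.1 x.2 ^ p ^ e)
      (fun x y => hagree _ _ _ inf_le_left inf_le_right (hVU x.1 x.2) (hVU y.1 y.2) _ _ (ha x.1 x.2) (ha y.1 y.2))
    refine ⟨t, fun W h b hb => ?_⟩
    refine X.sheaf.eq_of_locally_eq' (fun x : W => W ⊓ V x.1 (h x.2)) W (fun x => homOfLE inf_le_left)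
      (fun x hx => TopologicalSpace.Opens.mem_iSup.2 ⟨⟨x, hx⟩, hx, hxV x (h hx)⟩) _ _ fun x => ?_
    show X.presheaf.map (homOfLE inf_le_left).op (X.presheaf.map (homOfLE h).op t) =
      X.presheaf.map (homOfLE inf_le_left).op (b ^ p ^ e)
    rw [hagree _ _ _ inf_le_left inf_le_right h (hVU x.1 (h x.2)) b _ hb (ha x.1 (h x.2)),
      ← ht ⟨x.1, h x.2⟩]
    show _ = X.presheaf.map _ (X.presheaf.map _ t)
    rw [← CommRingCat.comp_apply, ← CommRingCat.comp_apply, ← Functor.map_comp, ← Functor.map_comp]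
    rfl
  choose Nm hNm using hex
  have hloc : ∀ (U : X.Opens) (s : Γ(X.nilradical.subscheme, ι ⁻¹ᵁ U)) (t : Γ(X, U)), P U s t → Nm U s = t :=
    fun U s t h => huniq U s _ t (hNm U s) h
  refine ⟨e, Nat.succ_pos _, ⟨{
    one_le := Nat.one_le_pow _ _ hp.pos
    norm := fun U =>
      { toFun := Nm U
        map_one' := hloc U 1 1 fun V h a ha => by
          rw [map_one, ← one_pow (p ^ e)]
          refine key V 1 a ?_
          rw [map_one]
          exact (ha.trans (map_one _)).symm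
        map_mul' := fun s s' => hloc U _ _ fun V h c hc => by
          refine X.sheaf.eq_of_locally_eq' (fun W : {W : X.affineOpens // W.1 ≤ V} => W.1.1) V (fun W => homOfLE W.2)
            (fun x hx => ?_) _ _ fun W => ?_
          · obtain ⟨W, hW, hxW, hle⟩ := exists_isAffineOpen_mem_and_subset hx
            exact TopologicalSpace.Opens.mem_iSup.2 ⟨⟨⟨W, hW⟩, hle⟩, hxW⟩
          · obtain ⟨a, ha⟩ := X.nilradical.subschemeι_app_surjective W.1
              (X.nilradical.subscheme.presheaf.map ((Opens.map ι.base).map (homOfLE (W.2.trans h))).op s)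
            obtain ⟨b, hb⟩ := X.nilradical.subschemeι_app_surjective W.1
              (X.nilradical.subscheme.presheaf.map ((Opens.map ι.base).map (homOfLE (W.2.trans h))).op s')
            show X.presheaf.map (homOfLE W.2).op (X.presheaf.map (homOfLE h).op (Nm U s * Nm U s')) =
              X.presheaf.map (homOfLE W.2).op (c ^ p ^ e)
            rw [← CommRingCat.comp_apply, ← Functor.map_comp,
              show (homOfLE h).op ≫ (homOfLE W.2).op = (homOfLE (W.2.trans h)).op from rfl, map_mul,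
              hNm U s _ _ a ha, hNm U s' _ _ b hb, ← mul_pow, map_pow]
            refine key _ _ _ ?_
            show ι.app _ _ = ι.app _ _
            rw [nat W.2, hc, map_mul, ha, hb, ← map_mul, ← CommRingCat.comp_apply, ← Functor.map_comp]
            rfl }
    norm_res := fun {U V} i s => (hloc V _ _ fun W h a ha => by
      show X.presheaf.map (homOfLE h).op (X.presheaf.map i.op (Nm U s)) = a ^ p ^ e
      rw [← CommRingCat.comp_apply, ← Functor.map_comp,
        show i.op ≫ (homOfLE h).op = (homOfLE (h.trans i.le)).op from rfl]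
      refine hNm U s W _ a (ha.trans ?_)
      rw [← CommRingCat.comp_apply, ← Functor.map_comp]
      rfl).symm
    norm_app := fun U g => hloc U _ _ fun V h a ha => by
      rw [map_pow]
      refine key _ _ _ ?_
      show ι.app V _ = ι.app V a
      rw [nat h, ha]
    norm_mem := fun U s x hx hs => by
      show X.presheaf.germ U (ι x) hx (Nm U s) ∈ _
      have happ : ι.app U (Nm U s) = s ^ p ^ e := by
        choose V hVU hxV a ha using hlift U s
        refine X.nilradical.subscheme.sheaf.eq_of_locally_eq' (fun y : U => ι ⁻¹ᵁ V y.1 y.2) (ι ⁻¹ᵁ U)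
          (fun y => (Opens.map ι.base).map (homOfLE (hVU y.1 y.2)))
          (fun z hz => TopologicalSpace.Opens.mem_iSup.2 ⟨⟨ι z, hz⟩, hxV (ι z) hz⟩) _ _ fun y => ?_
        show X.nilradical.subscheme.presheaf.map ((Opens.map ι.base).map (homOfLE (hVU y.1 y.2))).op (ι.app U (Nm U s)) =
          X.nilradical.subscheme.presheaf.map ((Opens.map ι.base).map (homOfLE (hVU y.1 y.2))).op (s ^ p ^ e)
        rw [← nat, hNm U s _ _ _ (ha y.1 y.2), map_pow, map_pow, ha]
      rw [IsLocalRing.mem_maximalIdeal]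
      intro hu
      have h2 := hu.map (ι.stalkMap x).hom
      rw [Scheme.Hom.germ_stalkMap_apply, happ, map_pow] at h2
      exact (IsLocalRing.mem_maximalIdeal _).1 hs ((isUnit_pow_iff (Nat.pos_iff_ne_zero.1 (Nat.pow_pos hp.pos))).1 h2) }⟩⟩


end Groth.Agent.S8882
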