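import Groth.Statements.S8884
import Mathlib
import Groth.Agent.PBundleLib.Twists
import Groth.Agent.PBundleLib.Split
import Groth.Agent.GenSeesawLib.PicProjOver
import Groth.Agent.RGBlowLib.NearClosure
import Groth.Agent.CurveLib.Components
import Groth.Agent.DCohLib.Pullback

set_option autoImplicit false
universe u
open CategoryTheory CategoryTheory.Limits AlgebraicGeometry TopologicalSpace
open SDiv

namespace Groth.Agent.S8884

open CategoryTheory CategoryTheory.Limits AlgebraicGeometry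

set_option backward.isDefEq.respectTransparency false
set_option backward.defeqAttrib.useBackward true
set_option linter.style.haveILetI false

set_option maxHeartbeats 2000000

open TopologicalSpace Groth.Agent.DCohLib Groth.Agent.PullbackMod

theorem exists_lift_reduced {W S : Scheme.{u}} [IsReduced W] (q : W ⟶ S) (C : Closeds S)
    (h : Set.range q ⊆ C) :
    ∃ z : W ⟶ (Scheme.IdealSheafData.vanishingIdeal C).subscheme,
      z ≫ (Scheme.IdealSheafData.vanishingIdeal C).subschemeι = q := by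
  have e : (Scheme.IdealSheafData.vanishingIdeal C).subschemeι.ker ≤ q.ker := by
    rw [Scheme.IdealSheafData.ker_subschemeι, ← Scheme.IdealSheafData.map_bot, ← Scheme.nilradical_eq_bot,
      ← Scheme.IdealSheafData.vanishingIdeal_top, Scheme.IdealSheafData.map_vanishingIdeal]
    exact Scheme.IdealSheafData.vanishingIdeal_antimono (closure_minimal (by simpa using h) C.isClosed)
  exact ⟨IsClosedImmersion.lift _ q e, IsClosedImmersion.lift_fac _ _ _⟩

/-- A locally free module on a connected scheme has a rank. -/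
theorem exists_rank {X : Scheme.{u}} [PreconnectedSpace X] [Nonempty X] {E : X.Modules}
    (hE : FlatMod.IsFinLocFree E) : ∃ n, FlatMod.IsFinLocFreeOfRank n E := by
  haveI := (isQCoh_and_isFP_of_isFinLocFree E hE).1
  have h : IsLocallyConstant (fibreRank E) := (IsLocallyConstant.iff_exists_open _).2 fun x => by
    obtain ⟨U, n, hxU, ⟨e⟩⟩ := hE x
    exact ⟨U, U.2, hxU, fun y hy => by
      rw [fibreRank_eq_of_freeAt E (freeAt_of_restrict_iso E e hy),
        fibreRank_eq_of_freeAt E (freeAt_of_restrict_iso E e hxU)]⟩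
  exact ⟨_, (KVb.isFinLocFreeOfRank_iff hE _).2 fun x =>
    h.apply_eq_of_preconnectedSpace x (Classical.arbitrary X)⟩

/-- A modification over which an invertible quotient of `E` exists. -/
theorem exists_step (X : Scheme.{u}) [IsIntegral X] {r : ℕ} (E : X.Modules)
    (hE : FlatMod.IsFinLocFreeOfRank (r + 1) E) :
    ∃ (X' : Scheme.{u}) (f : X' ⟶ X) (_ : IsIntegral X') (_ : IsProper f) (U : X.Opens)
      (_ : (U : Set ↥X).Nonempty) (_ : IsIso (f ∣_ U)) (S : ShortComplex X'.Modules),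
      S.ShortExact ∧ FlatMod.IsFinLocFreeOfRank r S.X₁ ∧ PicF.IsInvertible S.X₃ ∧
        Nonempty (S.X₂ ≅ (Scheme.Modules.pullback f).obj E) := by
  classical
  have hEf := KVb.isFinLocFree_of_rank hE
  haveI hq : Coh.IsQCoh E := (isQCoh_and_isFP_of_isFinLocFree E hEf).1
  obtain ⟨P, π, O1, φ, ⟨D⟩⟩ := ProjBundleLib.exists_bundle hq
  have hPB := PBundleLib.isProjBundle_of_pdata D
  haveI : IsProper π := PBundleLib.isProper_of_charts fun x => PBundleLib.exists_chart hE hPB x
  obtain ⟨c, hc⟩ := PBundleLib.exists_chart hE hPB (genericPoint X)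
  obtain ⟨s, hs⟩ := GenSeesawLib.exists_section (r := r) (S := Spec c.R)
  let σ : Spec c.R ⟶ P := s ≫ c.θ
  have hσ : σ ≫ π = c.ψ := by
    rw [Category.assoc, c.sq.w, ← Category.assoc]
    exact (congrArg (· ≫ c.ψ) hs).trans (Category.id_comp _)
  haveI : IsReduced (Spec c.R) := isReduced_of_isOpenImmersion c.ψ
  haveI : Nonempty (Spec c.R) := let ⟨z, _⟩ := hc; ⟨z⟩
  haveI : IsIntegral (Spec c.R) := isIntegral_of_isOpenImmersion c.ψ
  have hirr : IsIrreducible (closure (Set.range σ)) := by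
    rw [← Set.image_univ]
    exact ((IrreducibleSpace.isIrreducible_univ _).image σ σ.continuous.continuousOn).closure
  let Z : Closeds P := ⟨closure (Set.range σ), isClosed_closure⟩
  let X' := (Scheme.IdealSheafData.vanishingIdeal Z).subscheme
  let i : X' ⟶ P := (Scheme.IdealSheafData.vanishingIdeal Z).subschemeι
  haveI : IsIntegral X' := CurveLib.isIntegral_vanishingIdeal isClosed_closure hirr
  haveI : IsProper (i ≫ π) := inferInstance
  obtain ⟨σ', hσ'⟩ := exists_lift_reduced σ Z subset_closure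
  have hσf : σ' ≫ (i ≫ π) = c.ψ := by rw [← Category.assoc]; exact (congrArg (· ≫ π) hσ').trans hσ
  have hdense : DenseRange σ' := fun y => by
    rw [i.isClosedEmbedding.isEmbedding.isInducing.closure_eq_preimage_closure_image]
    have e : i.base '' Set.range σ' = Set.range σ := by
      rw [← Set.range_comp]
      exact congrArg Set.range (funext fun z => (Scheme.Hom.comp_apply σ' i z).symm.trans (congrArg (· z) hσ'))
    show i y ∈ closure (i.base '' Set.range σ')
    rw [e]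
    have hy : i y ∈ Set.range i := ⟨y, rfl⟩
    rw [Scheme.IdealSheafData.range_subschemeι, Scheme.IdealSheafData.coe_support_vanishingIdeal] at hy
    exact hy
  let f := i ≫ π
  let U := c.ψ.opensRange
  let V := f ⁻¹ᵁ U
  let e : Spec c.R ≅ (U : Scheme.{u}) := c.ψ.isoOpensRange
  have he : e.hom ≫ U.ι = c.ψ := c.ψ.isoOpensRange_hom_ι
  let g : Spec c.R ⟶ (V : Scheme.{u}) := IsOpenImmersion.lift V.ι σ' (by
    rw [Scheme.Opens.range_ι]
    rintro _ ⟨z, rfl⟩
    show f (σ' z) ∈ U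
    exact ⟨z, by rw [← hσf]; rfl⟩)
  have hg : g ≫ V.ι = σ' := IsOpenImmersion.lift_fac _ _ _
  haveI : IsDominant g := ⟨fun y => by
    rw [V.ι.isOpenEmbedding.isInducing.closure_eq_preimage_closure_image]
    have e' : V.ι.base '' Set.range g = Set.range σ' := by
      rw [← Set.range_comp]
      exact congrArg Set.range (funext fun z => (Scheme.Hom.comp_apply g V.ι z).symm.trans (congrArg (· z) hg))
    show V.ι y ∈ closure (V.ι.base '' Set.range g)
    rw [e']
    exact hdense _⟩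
  have hgr : g ≫ (f ∣_ U) = e.hom := by
    rw [← cancel_mono U.ι, Category.assoc, morphismRestrict_ι, ← Category.assoc, hg, he]
    exact hσf
  have hbV : (f ∣_ U) ≫ e.inv ≫ g = 𝟙 _ := by
    rw [← cancel_mono V.ι, Category.id_comp]
    refine ext_of_isDominant_of_isSeparated f ?_ g ?_
    · simp only [Category.assoc]
      rw [reassoc_of% hg, show σ' ≫ f = e.hom ≫ U.ι from hσf.trans he.symm, Iso.inv_hom_id_assoc, morphismRestrict_ι]
    · simp only [Category.assoc]
      rw [reassoc_of% hgr, Iso.hom_inv_id_assoc, hg]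
  haveI : IsIso (f ∣_ U) := ⟨e.inv ≫ g, hbV, by rw [Category.assoc, hgr, Iso.inv_hom_id]⟩
  haveI := hPB.epi
  have hE' := isFinLocFree_pullback π E hEf
  have hOf := KVb.isFinLocFree_of_rank hPB.invertible
  let q := PBundleLib.univQ φ
  haveI : Epi q := hPB.epi
  let T := ShortComplex.mk (kernel.ι q) q (kernel.condition q)
  haveI : Epi T.g := hPB.epi
  haveI : Mono T.f := inferInstanceAs (Mono (kernel.ι q))
  have hT : T.ShortExact := { exact := ShortComplex.exact_of_f_is_kernel _ (kernelIsKernel q) }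
  have hF : FlatMod.IsFinLocFree T.X₁ := isFinLocFree_of_shortExact hT hE' hOf
  haveI := (isQCoh_and_isFP_of_isFinLocFree _ hE').1
  have hFr : FlatMod.IsFinLocFreeOfRank r T.X₁ := (KVb.isFinLocFreeOfRank_iff hF r).2 fun x => by
    have h := fibreRank_eq_of_freeAt _ (KVb.freeAt_mid hT (KVb.isFinLocFree_freeAt hF x) (KVb.isFinLocFree_freeAt hOf x))
    change fibreRank ((Scheme.Modules.pullback π).obj E) x = _ at h
    change _ = _ + fibreRank O1 x at h
    rw [fibreRank_pullback, (KVb.isFinLocFreeOfRank_iff hEf _).1 hE, (KVb.isFinLocFreeOfRank_iff hOf 1).1 hPB.invertible] at h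
    omega
  exact ⟨X', f, inferInstance, inferInstance, U, ⟨c.ψ _, ⟨Classical.arbitrary _, rfl⟩⟩, inferInstance,
    T.map (Scheme.Modules.pullback i),
    shortExact_pullback_of_isFlat i T hT (fun x => PullbackMod.isFlat_of_isFinLocFree _ hOf x),
    PBundleLib.isFinLocFreeOfRank_pullback i hFr,
    AmpleLib.isInvertible_pullback i (VBLib.isInvertible_of_rank hPB.invertible),
    ⟨(Scheme.Modules.pullbackComp i π).app E⟩⟩

theorem exists_flag : ∀ (r : ℕ) (X : Scheme.{u}) [IsIntegral X] (E : X.Modules),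
    FlatMod.IsFinLocFreeOfRank r E →
    ∃ (X' : Scheme.{u}) (f : X' ⟶ X) (_ : IsIntegral X') (_ : IsProper f) (U : X.Opens) (_ : (U : Set ↥X).Nonempty)
      (_ : IsIso (f ∣_ U)) (M : Fin (r + 1) → X'.Modules) (L : Fin r → X'.Modules),
      IsZero (M 0) ∧ Nonempty (M (Fin.last r) ≅ (Scheme.Modules.pullback f).obj E) ∧
        ∀ i : Fin r, PicF.IsInvertible (L i) ∧
          ∃ S : ShortComplex X'.Modules, S.ShortExact ∧ Nonempty (S.X₁ ≅ M i.castSucc) ∧
            Nonempty (S.X₂ ≅ M i.succ) ∧ Nonempty (S.X₃ ≅ L i) := by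
  intro r
  induction r with
  | zero =>
    intro X _ E hE
    have hf := KVb.isFinLocFree_of_rank hE
    exact ⟨X, 𝟙 X, inferInstance, inferInstance, ⊤, ⟨Classical.arbitrary X, trivial⟩, inferInstance, fun _ => E,
      fun j => j.elim0, KVb.isZero_of_rank_zero hf ((KVb.isFinLocFreeOfRank_iff hf 0).1 hE),
      ⟨((Scheme.Modules.pullbackId X).app E).symm⟩, fun j => j.elim0⟩
  | succ r ih =>
    intro X _ E hE
    obtain ⟨X₁, f, _, _, U, hU, _, S, hS, hS1, hS3, ⟨eS⟩⟩ := exists_step X E hE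
    obtain ⟨X', g, _, _, U₁, hU₁, _, M, L, hM0, ⟨eM⟩, hML⟩ := ih X₁ S.X₁ hS1
    haveI : IsProper (g ≫ f) := inferInstance
    let v := inv (f ∣_ U)
    let W : X.Opens := U.ι ''ᵁ (v ⁻¹ᵁ ((f ⁻¹ᵁ U).ι ⁻¹ᵁ U₁))
    have hW : W ≤ U := by
      rintro _ ⟨z, _, rfl⟩
      exact z.2
    have hWU₁ : f ⁻¹ᵁ W ≤ U₁ := fun x hx => by
      obtain ⟨z, hz, hzx⟩ := hx
      have hxU : x ∈ f ⁻¹ᵁ U := hW ⟨z, hz, hzx⟩
      have hz' : z = (f ∣_ U) ⟨x, hxU⟩ := U.ι.isOpenEmbedding.injective
        (hzx.trans (congrArg (fun φ : _ ⟶ X => φ (⟨x, hxU⟩ : f ⁻¹ᵁ U)) (morphismRestrict_ι f U)).symm)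
      have hz2 : (f ⁻¹ᵁ U).ι (v z) ∈ U₁ := hz
      have hv : v ((f ∣_ U) ⟨x, hxU⟩) = ⟨x, hxU⟩ := (Scheme.Hom.comp_apply (f ∣_ U) v _).symm.trans
        (congrArg (fun φ : (↑(f ⁻¹ᵁ U) : Scheme.{u}) ⟶ ↑(f ⁻¹ᵁ U) => φ ⟨x, hxU⟩) (IsIso.hom_inv_id (f ∣_ U)))
      rw [hz', hv] at hz2
      exact hz2
    have hne : (W : Set ↥X).Nonempty := by
      obtain ⟨x, hxU, hxU₁⟩ : ((f ⁻¹ᵁ U : X₁.Opens) : Set X₁) ∩ U₁ |>.Nonempty := by
        refine nonempty_preirreducible_inter (f ⁻¹ᵁ U).2 U₁.2 ?_ hU₁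
        obtain ⟨u, hu⟩ := hU
        exact ⟨_, (v ⟨u, hu⟩).2⟩
      have hv : v ((f ∣_ U) ⟨x, hxU⟩) = ⟨x, hxU⟩ := (Scheme.Hom.comp_apply (f ∣_ U) v _).symm.trans
        (congrArg (fun φ : (↑(f ⁻¹ᵁ U) : Scheme.{u}) ⟶ ↑(f ⁻¹ᵁ U) => φ ⟨x, hxU⟩) (IsIso.hom_inv_id (f ∣_ U)))
      refine ⟨U.ι ((f ∣_ U) ⟨x, hxU⟩), _, ?_, rfl⟩
      show (f ⁻¹ᵁ U).ι (v ((f ∣_ U) ⟨x, hxU⟩)) ∈ U₁
      rw [hv]
      exact hxU₁
    haveI : IsIso (f ∣_ W) := RGBlowLib.isIso_restrict_of_le f hW
    haveI : IsIso (g ∣_ f ⁻¹ᵁ W) := RGBlowLib.isIso_restrict_of_le g hWU₁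
    haveI : IsIso ((g ≫ f) ∣_ W) := by rw [morphismRestrict_comp]; exact IsIso.comp_isIso
    refine ⟨X', g ≫ f, inferInstance, inferInstance, W, hne, inferInstance,
      Fin.snoc M ((Scheme.Modules.pullback (g ≫ f)).obj E), Fin.snoc L ((Scheme.Modules.pullback g).obj S.X₃),
      ?_, ⟨eqToIso (Fin.snoc_last _ _)⟩, Fin.lastCases ?_ fun j => ?_⟩
    · rw [show (0 : Fin (r + 1 + 1)) = Fin.castSucc 0 from rfl, Fin.snoc_castSucc]
      exact hM0
    · refine ⟨by rw [Fin.snoc_last]; exact AmpleLib.isInvertible_pullback g hS3, S.map (Scheme.Modules.pullback g),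
        shortExact_pullback_of_isFlat g S hS (fun x => PullbackMod.isFlat_of_isFinLocFree _
          (CurveLib.isFinLocFree_of_isInvertible hS3) x),
        ⟨eM.symm ≪≫ eqToIso (Fin.snoc_castSucc (α := fun _ => X'.Modules) ((Scheme.Modules.pullback (g ≫ f)).obj E) M (Fin.last r)).symm⟩, ⟨?_⟩, ⟨eqToIso (Fin.snoc_last (α := fun _ => X'.Modules) ((Scheme.Modules.pullback g).obj S.X₃) L).symm⟩⟩
      rw [Fin.succ_last, Fin.snoc_last]
      exact (Scheme.Modules.pullback g).mapIso eS ≪≫ (Scheme.Modules.pullbackComp g f).app E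
    · obtain ⟨hL, T, hT, h1, h2, h3⟩ := hML j
      rw [Fin.succ_castSucc, Fin.snoc_castSucc, Fin.snoc_castSucc, Fin.snoc_castSucc]
      exact ⟨hL, T, hT, h1, h2, h3⟩


/-- Let X be an integral scheme and E a finite locally free O_X-module. Then there exists a modification
f : X' ⟶ X, i.e. X' is integral and f is proper and restricts to an isomorphism over some nonempty
open of X, such that f^*E is an iterated extension of invertible O_{X'}-modules: modules 0 = M_0,
M_1, …, M_r with M_r ≅ f^*E and short exact sequences 0 → M_i → M_{i+1} → L_i → 0 with every L_i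
invertible. -/
theorem result (X : Scheme.{u}) [IsIntegral X] (E : X.Modules)
    (hE : FlatMod.IsFinLocFree E) :
    ∃ (X' : Scheme.{u}) (f : X' ⟶ X) (_ : IsIntegral X') (_ : IsProper f) (U : X.Opens) (_ : (U : Set ↥X).Nonempty)
      (_ : IsIso (f ∣_ U)) (r : ℕ) (M : Fin (r + 1) → X'.Modules) (L : Fin r → X'.Modules),
      IsZero (M 0) ∧ Nonempty (M (Fin.last r) ≅ (Scheme.Modules.pullback f).obj E) ∧
        ∀ i : Fin r, PicF.IsInvertible (L i) ∧
          ∃ S : ShortComplex X'.Modules, S.ShortExact ∧ Nonempty (S.X₁ ≅ M i.castSucc) ∧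
            Nonempty (S.X₂ ≅ M i.succ) ∧ Nonempty (S.X₃ ≅ L i) := by
  obtain ⟨r, hr⟩ := exists_rank hE
  obtain ⟨X', f, h1, h2, U, h3, h4, M, L, h5⟩ := exists_flag r X E hr
  exact ⟨X', f, h1, h2, U, h3, h4, r, M, L, h5⟩

end Groth.Agent.S8884
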