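import Groth.Statements.S8887
import Mathlib
import Groth.Agent.FittSheafLib.Free

set_option autoImplicit false
universe u
open CategoryTheory CategoryTheory.Limits AlgebraicGeometry TopologicalSpace
open SDiv

namespace Groth.Agent.S8887

/-- Let X be an integral scheme and F a quasi-coherent O_X-module of finite type, of rank r (r being the
finite dimension of the generic stalk of F as a vector space over the function field of X). Then one
can find an open subset U of X, not empty, on which the restriction of F is isomorphic to the free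
module of rank r. -/
theorem result (X : Scheme.{u}) [IsIntegral X] (F : X.Modules) (hF : Coh.IsQCoh F)
    (hft : CohB1.IsFT F) :
    ∃ U : X.Opens, (U : Set ↥X).Nonempty ∧
      Nonempty (F.restrict U.ι ≅ FlatMod.freeMod (↑U)
        (Module.finrank ↑(X.presheaf.stalk (genericPoint ↥X)) ↑(F.presheaf.stalk (genericPoint ↥X)))) := by
  haveI := hF
  classical
  let η := genericPoint X
  haveI := Groth.Agent.PullbackMod.finite_stalk_of_isFT hft η
  obtain ⟨r, hr⟩ : ∃ r, r = Module.finrank (X.presheaf.stalk η) (F.presheaf.stalk η) := ⟨_, rfl⟩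
  rw [← hr]
  letI : Field (X.presheaf.stalk η) := inferInstanceAs (Field X.functionField)
  let b := Module.finBasisOfFinrankEq (X.presheaf.stalk η) (F.presheaf.stalk η) hr.symm
  obtain ⟨U, hU, hηU, σ, hσ⟩ := Groth.Agent.FittSheafLib.exists_span_nhd F hft r η b b.span_eq
  obtain ⟨φ, -, hφ⟩ := Groth.Agent.FittSheafLib.exists_free_epi_restrict F hU σ hσ
  haveI := hφ (fun c hc => funext fun j => by
    have h1 := Groth.Agent.FittLib.det_mem_D (R := Γ(X, U)) (x := σ) (k := r - 1)
      (a := (1 : Matrix (Fin r) (Fin r) Γ(X, U)).updateRow j c) {j}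
      (by rw [Finset.card_singleton]; have := j.2; omega)
      (fun i hi => by
        rw [Finset.mem_singleton.1 hi, Matrix.updateRow_self]
        exact Groth.Agent.FittLib.mem_rel.2 hc)
    rw [← Groth.Agent.FittLib.ideal_eq_D σ hσ, ← Matrix.cramer_transpose_apply, Matrix.transpose_one,
      Matrix.cramer_one] at h1
    have h2 := Ideal.mem_map_of_mem (X.presheaf.germ U η hηU).hom (show c j ∈ _ from h1)
    rw [Groth.Agent.FittSheafLib.stalk_fitt F hft (r - 1) hU η hηU, Groth.Agent.FittLib.ideal_eq_D b b.span_eq] at h2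
    have hbot : Groth.Agent.FittLib.D (X.presheaf.stalk η) (b : Fin r → F.presheaf.stalk η) (r - 1) ≤ ⊥ := by
      refine Ideal.span_le.2 ?_
      rintro _ ⟨a, T, hT, ha, rfl⟩
      obtain ⟨i, hi⟩ : T.Nonempty := Finset.card_pos.1 (by have := j.2; omega)
      rw [SetLike.mem_coe, Ideal.mem_bot]
      exact Matrix.det_eq_zero_of_row_eq_zero i (Fintype.linearIndependent_iff.1 b.linearIndependent _
        (Groth.Agent.FittLib.mem_rel.1 (ha i hi)))
    exact germ_injective_of_isIntegral X η hηU ((Ideal.mem_bot.1 (hbot h2)).trans (map_zero _).symm))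
  exact ⟨U, ⟨η, hηU⟩, ⟨(asIso φ).symm⟩⟩


end Groth.Agent.S8887
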