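import Groth.Statements.S8888
import Mathlib
import Groth.Agent.PullbackMod.Props

set_option autoImplicit false
universe u
open CategoryTheory CategoryTheory.Limits AlgebraicGeometry TopologicalSpace
open SDiv

namespace Groth.Agent.S8888

/-- Let f : X ⟶ Y be a dominant morphism of integral schemes and G a quasi-coherent O_Y-module. Then the
rank of f^*G on X, the dimension of its stalk at the generic point of X over the function field of
X, equals the rank of G on Y. -/
theorem result {X Y : Scheme.{u}} [IsIntegral X] [IsIntegral Y] (f : X ⟶ Y) [IsDominant f]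
    (G : Y.Modules) (hG : Coh.IsQCoh G) :
    Module.rank ↑(X.presheaf.stalk (genericPoint ↥X)) ↑(((Scheme.Modules.pullback f).obj G).presheaf.stalk (genericPoint ↥X)) =
      Module.rank ↑(Y.presheaf.stalk (genericPoint ↥Y)) ↑(G.presheaf.stalk (genericPoint ↥Y)) := by
  haveI := hG
  have hη : f (genericPoint X) = genericPoint Y := by
    have h := (genericPoint_spec X).image f.continuous
    rw [Set.image_univ, f.denseRange.closure_range] at h
    exact h.eq (genericPoint_spec Y)
  have h1 : ∀ y : Y, y = genericPoint Y →
      Module.rank (Y.presheaf.stalk y) (G.presheaf.stalk y) =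
        Module.rank (Y.presheaf.stalk (genericPoint Y)) (G.presheaf.stalk (genericPoint Y)) := by
    rintro y rfl
    rfl
  rw [← h1 _ hη]
  letI := (f.stalkMap (genericPoint X)).hom.toAlgebra
  obtain ⟨φ, -⟩ := Groth.Agent.PullbackMod.exists_pullback_stalk_equiv f G (genericPoint X)
  have hfield : ∀ y : Y, y = genericPoint Y → IsField (Y.presheaf.stalk y) := by
    rintro y rfl
    exact Field.toIsField Y.functionField
  letI := (hfield _ hη).toField
  rw [← φ.rank_eq, Module.rank_baseChange]
  simp


end Groth.Agent.S8888
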