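import Groth.Statements.S8891
import Mathlib
import Groth.Agent.AssLib.Morph


set_option autoImplicit false
universe u
open CategoryTheory CategoryTheory.Limits AlgebraicGeometry TopologicalSpace
open SDiv

namespace Groth.Agent.S8891

/-- Let X be an integral locally Noetherian scheme and φ : F ⟶ G a morphism of quasi-coherent
O_X-modules with F coherent and G torsion free. Assume that for every point x either the stalk map
F_x → G_x is an isomorphism, or depth(F_x) ≥ 2 and x is not the generic point of X. Then φ is an
isomorphism. (The published statement allows the second alternative at the generic point as well;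
since the zero module has infinite depth, F = 0 and G = O_X then satisfy every hypothesis while 0 →
O_X is not an isomorphism. The general criterion this is a special case of requires x not to be
associated to G, which for torsion-free G ≠ 0 fails exactly at the generic point; so the generic
point is excluded from the second alternative here.) -/
theorem result (X : Scheme.{u}) [IsIntegral X] [IsLocallyNoetherian X] {F G : X.Modules}
    (φ : F ⟶ G) (hF : Coh.IsCoh F) (hG : Coh.IsQCoh G)
    (htf : ∀ x : ↥X, NoZeroSMulDivisors ↑(X.presheaf.stalk x) ↑(G.presheaf.stalk x))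
    (h : ∀ x : ↥X, Function.Bijective ((TopCat.Presheaf.stalkFunctor AddCommGrpCat.{u} x).map (Scheme.Modules.Hom.mapPresheaf φ)) ∨
      ((2 : ℕ∞) ≤ LocCoh.depth (X.presheaf.stalk x) (F.presheaf.stalk x) ∧ x ≠ genericPoint ↥X)) :
    IsIso φ := by
  haveI := hF.1
  haveI := hG
  refine AssLib.isIso_of_depth φ hF fun x => (h x).imp id fun hd => ⟨hd.1, fun hass => hd.2 ?_⟩
  obtain ⟨hp, z, hz⟩ := hass
  have hz0 : z ≠ 0 := by
    rintro rfl
    refine hp.ne_top (hz.trans ?_)
    rw [Ideal.radical_eq_top, eq_top_iff]
    intro a _
    rw [Submodule.mem_colon_singleton, smul_zero, Submodule.mem_bot]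
  have hbot : IsLocalRing.maximalIdeal (X.presheaf.stalk x) = ⊥ := by
    haveI := htf x
    rw [hz, show (⊥ : Submodule (X.presheaf.stalk x) (G.presheaf.stalk x)).colon {z} = ⊥ from ?_]
    · exact Ideal.IsPrime.radical Ideal.isPrime_bot
    · refine eq_bot_iff.mpr fun a ha => ?_
      rw [Submodule.mem_colon_singleton, Submodule.mem_bot] at ha
      exact (smul_eq_zero.mp ha).resolve_right hz0
  obtain ⟨W, hW, hxW, -⟩ := AssLib.exists_affine_mem x (U := ⊤) trivial
  haveI : Nonempty W := ⟨⟨x, hxW⟩⟩
  have hpr : AssLib.pr hW hxW = ⊥ := by
    rw [← AssLib.under_maximalIdeal hW hxW, hbot]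
    exact (RingHom.ker_eq_comap_bot _).symm.trans
      ((RingHom.injective_iff_ker_eq_bot _).mp (germ_injective_of_isIntegral X x hxW))
  have hη : genericPoint X ⤳ x := (genericPoint_spec X).specializes trivial
  have hηW := AssLib.mem_of_specializes hη hxW
  exact (hη.antisymm ((AssLib.specializes_iff hW hηW hxW).mpr (hpr.le.trans bot_le))).eq.symm

end Groth.Agent.S8891
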