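import Groth.Statements.S8895
import Groth.Agent.TransRegLib.Chart

set_option backward.isDefEq.respectTransparency false
set_option linter.style.haveILetI false

set_option autoImplicit false
universe u
open CategoryTheory CategoryTheory.Limits AlgebraicGeometry TopologicalSpace
open SDiv

namespace Groth.Agent.S8895

/-- Let f : X ⟶ S be locally of finite presentation and i : Z ⟶ X a relative H_1-regular immersion. Then
(1) there is an open subscheme U ⊆ X containing the image of Z such that U ⟶ S is flat, and (2) i is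
a regular immersion and remains one after any base change S' ⟶ S. -/
theorem result {Z X S : Scheme.{u}} (f : X ⟶ S) [LocallyOfFinitePresentation f] (i : Z ⟶ X)
    (hi : RegImm.IsRelRegularImmersion RegImm.Kind.h1 f i) :
    (∃ U : X.Opens, Set.range (fun z : ↥Z => i z) ⊆ (U : Set ↥X) ∧ Flat (U.ι ≫ f)) ∧
      RegImm.IsRegularImmersion RegImm.Kind.regular i ∧
      ∀ (S' : Scheme.{u}) (g : S' ⟶ S), RegImm.IsRegularImmersion RegImm.Kind.regular (pullback.snd i (pullback.fst f g)) := by
  obtain ⟨⟨himm, hreg⟩, hfl⟩ := hi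
  haveI := himm
  haveI := hfl
  have hc : ∀ z : ↥Z, TransRegLib.HasTransversalChart f i z := fun z =>
    TransRegLib.hasTransversalChart_of_h1 f i z (hreg z) (Flat.stalkMap (i ≫ f) z)
  refine ⟨⟨⟨_, FlatLocus.isOpen_flat_stalkMap f⟩, ?_, ?_⟩, ⟨himm, fun z => TransRegLib.isRegularImmersionAt_self z (hc z)⟩,
    fun S' g => ⟨inferInstance, fun z' => TransRegLib.isRegularImmersionAt_of_isPullback
      (IsPullback.of_hasPullback f g) (IsPullback.of_hasPullback i (pullback.fst f g)) z' (hc _)⟩⟩
  · rintro _ ⟨z, rfl⟩
    exact TransRegLib.flat_stalkMap_of_hasTransversalChart (hc z)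
  · rw [Flat.iff_flat_stalkMap]
    intro x
    rw [Scheme.Hom.stalkMap_comp, CommRingCat.hom_comp]
    exact RingHom.Flat.comp x.2 (Flat.stalkMap _ x)

end Groth.Agent.S8895
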