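import Groth.Statements.S8898
import Groth.Agent.BlowCompLib.Flat
import Groth.Agent.S1571

set_option autoImplicit false
universe u
open CategoryTheory CategoryTheory.Limits AlgebraicGeometry TopologicalSpace
open SDiv

namespace Groth.Agent.S8898

open CategoryTheory CategoryTheory.Limits AlgebraicGeometry

set_option backward.isDefEq.respectTransparency false
set_option backward.defeqAttrib.useBackward true
set_option linter.style.haveILetI false

/-- Let X be a scheme, 𝓘 a quasi-coherent ideal sheaf and b : X' ⟶ X a blowing up of X in 𝓘. Then the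
pullback b⁻¹D is defined for every effective Cartier divisor D ⊆ X (the inverse image ideal of the
ideal of D is again the ideal of an effective Cartier divisor), and pullbacks of meromorphic
functions are defined for b (b carries regular sections of O_X, i.e. sections whose germs are
nonzerodivisors, to regular sections of O_{X'}). -/
theorem result {X X' : Scheme.{u}} (𝓘 : X.IdealSheafData) (b : X' ⟶ X) (hb : BlowUp.IsBlowUp b 𝓘) :
    (∀ 𝓓 : X.IdealSheafData, BlowUp.IsEffCartierIdeal 𝓓 → BlowUp.IsEffCartierIdeal (𝓓.comap b)) ∧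
      ∀ (U : X.Opens) (s : Γ(X, U)), s ∈ Mero.regSub X U → b.app U s ∈ Mero.regSub X' (b ⁻¹ᵁ U) := by

  obtain ⟨haff, hdom⟩ := S1571.result X' (𝓘.comap b) hb.1
  haveI := haff
  haveI := hdom
  haveI := BlowCompLib.isOpenImmersion_off_exceptional 𝓘 b hb
  exact ⟨fun 𝓓 hD => BlowCompLib.isEffCartier_comap_of_blowUp 𝓘 b hb hD,
    fun U s hs y => BlowCompLib.germ_mem_nonZeroDivisors_of_dense
      (Scheme.Opens.ι (X := X') (𝓘.comap b).support.compl) b U s (fun x hx => hs ⟨x, hx⟩) y.1 y.2⟩


end Groth.Agent.S8898
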