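import Groth.Statements.S8899
import Groth.Agent.DCohLib.PullKFlat

set_option autoImplicit false
universe u
open CategoryTheory CategoryTheory.Limits AlgebraicGeometry TopologicalSpace
open SDiv

namespace Groth.Agent.S8899

open CategoryTheory CategoryTheory.Limits AlgebraicGeometry

open TensorProduct in
theorem ann_tmul {A B : Type u} [CommRing A] [CommRing B] [Algebra A B] [Module.Flat A B] {M : Type u}
    [AddCommGroup M] [Module A M] (z : M) :
    LinearMap.ker (LinearMap.toSpanSingleton B (B ⊗[A] M) (1 ⊗ₜ z)) =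
      Ideal.map (algebraMap A B) (LinearMap.ker (LinearMap.toSpanSingleton A M z)) := by
  set I := LinearMap.ker (LinearMap.toSpanSingleton A M z)
  refine le_antisymm (fun b hb => ?_) (Ideal.map_le_iff_le_comap.2 fun a ha => ?_)
  · rw [LinearMap.mem_ker, LinearMap.toSpanSingleton_apply, smul_tmul', smul_eq_mul, mul_one] at hb
    let φ : (A ⧸ I) →ₗ[A] M := Submodule.liftQ I (LinearMap.toSpanSingleton A M z) le_rfl
    have hφ : Function.Injective φ := by
      rw [← LinearMap.ker_eq_bot]
      exact Submodule.ker_liftQ_eq_bot _ _ _ le_rfl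
    have h1 : b ⊗ₜ[A] (Ideal.Quotient.mk I 1) = 0 := by
      refine Module.Flat.lTensor_preserves_injective_linearMap (M := B) φ hφ ?_
      rw [map_zero, LinearMap.lTensor_tmul]
      rw [show φ (Ideal.Quotient.mk I 1) = z from one_smul A z]
      exact hb
    have h2 := congrArg (TensorProduct.tensorQuotEquivQuotSMul B I) h1
    rw [map_zero, TensorProduct.tensorQuotEquivQuotSMul_tmul_mk, one_smul, Submodule.Quotient.mk_eq_zero,
      Ideal.smul_top_eq_map, Submodule.restrictScalars_mem] at h2
    exact h2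
  · rw [Ideal.mem_comap, LinearMap.mem_ker, LinearMap.toSpanSingleton_apply, algebraMap_smul, ← tmul_smul,
      show a • z = 0 from ha, tmul_zero]

theorem eq_maximalIdeal {X S : Scheme.{u}} (f : X ⟶ S) (x : X) (hgen : ∀ y : X, f y = f x → y ⤳ x → y = x)
    (q : Ideal (X.presheaf.stalk x)) [q.IsPrime]
    (hq : (IsLocalRing.maximalIdeal (S.presheaf.stalk (f x))).map (f.stalkMap x).hom ≤ q) :
    q = IsLocalRing.maximalIdeal (X.presheaf.stalk x) := by
  let Q : Spec (X.presheaf.stalk x) := ⟨q, inferInstance⟩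
  have h1 : f (X.fromSpecStalk x Q) = f x := by
    rw [← Scheme.Hom.comp_apply, ← Scheme.SpecMap_stalkMap_fromSpecStalk, Scheme.Hom.comp_apply]
    have hQ : Spec.map (f.stalkMap x) Q = IsLocalRing.closedPoint (S.presheaf.stalk (f x)) := by
      apply PrimeSpectrum.ext
      exact ((IsLocalRing.maximalIdeal.isMaximal _).eq_of_le (Ideal.IsPrime.comap _).ne_top
        (Ideal.map_le_iff_le_comap.1 hq)).symm
    rw [hQ]
    exact Scheme.fromSpecStalk_closedPoint
  have h2 : X.fromSpecStalk x Q ⤳ x := by
    have := (IsLocalRing.specializes_closedPoint Q).map (X.fromSpecStalk x).continuous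
    rwa [Scheme.fromSpecStalk_closedPoint] at this
  have h3 : X.fromSpecStalk x Q = X.fromSpecStalk x (IsLocalRing.closedPoint (X.presheaf.stalk x)) := by
    rw [hgen _ h1 h2, Scheme.fromSpecStalk_closedPoint]
  exact congrArg PrimeSpectrum.asIdeal ((X.fromSpecStalk x).isEmbedding.injective h3)


/-- Let f : X ⟶ S be a morphism of schemes, G a quasi-coherent O_S-module and x a point of X over s = f
x such that f is flat at x, no point of f⁻¹(s) other than x specialises to x (x is the generic point
of some irreducible component of the fibre X_s), and s is weakly associated to G. Then x is weakly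
associated to f^*G. -/
theorem result {X S : Scheme.{u}} (f : X ⟶ S) (G : S.Modules) (hG : Coh.IsQCoh G)
    (x : ↥X) (hfl : (f.stalkMap x).hom.Flat) (hgen : ∀ y : ↥X, f y = f x → y ⤳ x → y = x)
    (hs : Curv2.IsWeakAssPoint G (f x)) : Curv2.IsWeakAssPoint ((Scheme.Modules.pullback f).obj G) x := by
  letI := (f.stalkMap x).hom.toAlgebra
  haveI : Module.Flat (S.presheaf.stalk (f x)) (X.presheaf.stalk x) := hfl
  haveI : IsLocalHom (algebraMap (S.presheaf.stalk (f x)) (X.presheaf.stalk x)) :=
    inferInstanceAs (IsLocalHom (f.stalkMap x).hom)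
  obtain ⟨z, hz⟩ := hs
  refine ⟨Groth.Agent.DCohLib.pullStalkEquiv f x G (1 ⊗ₜ z), ?_⟩
  have hker : LinearMap.ker (LinearMap.toSpanSingleton (X.presheaf.stalk x) _ (Groth.Agent.DCohLib.pullStalkEquiv f x G (1 ⊗ₜ z))) =
      LinearMap.ker (LinearMap.toSpanSingleton (X.presheaf.stalk x) _ ((1 : X.presheaf.stalk x) ⊗ₜ[S.presheaf.stalk (f x)] z)) := by
    ext b
    rw [LinearMap.mem_ker, LinearMap.mem_ker, LinearMap.toSpanSingleton_apply, LinearMap.toSpanSingleton_apply,
      ← LinearEquiv.map_smul, LinearEquiv.map_eq_zero_iff]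
  rw [hker, ann_tmul]
  set I := LinearMap.ker (LinearMap.toSpanSingleton (S.presheaf.stalk (f x)) (G.presheaf.stalk (f x)) z)
  have hI : I ≤ IsLocalRing.maximalIdeal (S.presheaf.stalk (f x)) := Ideal.le_radical.trans hz.le
  refine le_antisymm ((IsLocalRing.maximalIdeal.isMaximal _).isPrime.radical_le_iff.2 ?_) ?_
  · refine Ideal.map_le_iff_le_comap.2 (hI.trans ?_)
    rw [IsLocalRing.maximalIdeal_comap]
  · rw [Ideal.radical_eq_sInf]
    refine le_sInf fun q ⟨hq, hqp⟩ => ?_
    haveI := hqp
    refine (eq_maximalIdeal f x hgen q ?_).ge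
    rw [← hz]
    refine (Ideal.map_radical_le _).trans ?_
    exact hqp.radical_le_iff.2 hq

end Groth.Agent.S8899
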