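import Groth.Statements.S8900
import Groth.Agent.WeakAssFieldLib.Main
import Groth.Agent.AssLib.Weak
import Groth.Agent.PullbackMod.Flat
import Groth.Agent.PullbackMod.Props

set_option autoImplicit false
set_option backward.isDefEq.respectTransparency false
universe u
open CategoryTheory CategoryTheory.Limits AlgebraicGeometry TopologicalSpace
open SDiv

namespace Groth.Agent.S8900

/-- Let K/k be an extension of fields, X a scheme over k, F a quasi-coherent O_X-module, and y a point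
of X_K = X ×_k Spec K with image x in X. If y is weakly associated to the pullback of F to X_K, then
x is weakly associated to F. -/
theorem result (k : Type u) [Field k] (K : Type u) [Field K] [Algebra k K] (X : Scheme.{u})
    [X.Over (Spec (CommRingCat.of k))] (F : X.Modules) (hF : Coh.IsQCoh F) (y : ↥(Curv2.bc k X K))
    (hy : Curv2.IsWeakAssPoint ((Scheme.Modules.pullback (Curv2.bcFst k X K)).obj F) y) :
    Curv2.IsWeakAssPoint F (Curv2.bcFst k X K y) := by
  haveI : Coh.IsQCoh F := hF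
  let sk := X ↘ Spec (CommRingCat.of k)
  let g := Spec.map (CommRingCat.ofHom (algebraMap k K))
  have hc : IsPullback (pullback.fst sk g) (pullback.snd sk g) sk g := IsPullback.of_hasPullback _ _
  let fst := Curv2.bcFst k X K
  obtain ⟨_, ⟨W : X.Opens, (hW : IsAffineOpen W), rfl⟩, hxW, -⟩ :=
    X.isBasis_affineOpens.exists_subset_of_mem_open (Set.mem_univ (fst y)) isOpen_univ
  have hV : IsAffineOpen (⊤ : (Spec (CommRingCat.of k)).Opens) := isAffineOpen_top _
  have hV' : IsAffineOpen (⊤ : (Spec (CommRingCat.of K)).Opens) := isAffineOpen_top _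
  let W' : (Curv2.bc k X K).Opens := pullback.fst sk g ⁻¹ᵁ W ⊓ pullback.snd sk g ⁻¹ᵁ ⊤
  obtain ⟨hW', -⟩ := Groth.Agent.PullbackMod.isPushout_appLE hc hV hW hV' (e := le_top) (e' := le_top)
  haveI := isIso_pushoutSection_of_isAffineOpen hc (show (⊤ : (Spec (CommRingCat.of K)).Opens) ≤ g ⁻¹ᵁ ⊤ from le_top)
    (show W ≤ sk ⁻¹ᵁ ⊤ from le_top) (rfl : W' = W') hV hV' hW
  have h := (isIso_pushoutSection_iff hc (show (⊤ : (Spec (CommRingCat.of K)).Opens) ≤ g ⁻¹ᵁ ⊤ from le_top)
    (show W ≤ sk ⁻¹ᵁ ⊤ from le_top) (rfl : W' = W')).mp inferInstance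
  let σk := Scheme.ΓSpecIso (CommRingCat.of k)
  let σK := Scheme.ΓSpecIso (CommRingCat.of K)
  let a : CommRingCat.of k ⟶ Γ(X, W) := σk.inv ≫ sk.appLE ⊤ W le_top
  let b : CommRingCat.of K ⟶ Γ(Curv2.bc k X K, W') := σK.inv ≫ (pullback.snd sk g).appLE ⊤ W' inf_le_right
  let c : Γ(X, W) ⟶ Γ(Curv2.bc k X K, W') := (pullback.fst sk g).appLE W W' inf_le_left
  have hnat : σk.inv ≫ g.appLE ⊤ ⊤ le_top = CommRingCat.ofHom (algebraMap k K) ≫ σK.inv := by
    rw [Iso.inv_comp_eq, ← Category.assoc, Iso.eq_comp_inv]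
    simp [σk, σK, g, Scheme.Hom.appLE]
  have hpo : IsPushout (CommRingCat.ofHom (algebraMap k K)) a b c := by
    refine h.flip.of_iso σk σK (Iso.refl _) (Iso.refl _) ?_ ?_ ?_ ?_
    · rw [← Iso.eq_comp_inv, Category.assoc, ← hnat, Iso.hom_inv_id_assoc]
    · simp [a]
    · simp [b]
    · simp [c]
  letI : Algebra k Γ(X, W) := a.hom.toAlgebra
  letI : Algebra K Γ(Curv2.bc k X K, W') := b.hom.toAlgebra
  letI : Algebra Γ(X, W) Γ(Curv2.bc k X K, W') := c.hom.toAlgebra
  letI : Algebra k Γ(Curv2.bc k X K, W') := (c.hom.comp a.hom).toAlgebra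
  haveI : IsScalarTower k Γ(X, W) Γ(Curv2.bc k X K, W') := .of_algebraMap_eq fun _ => rfl
  haveI : IsScalarTower k K Γ(Curv2.bc k X K, W') := .of_algebraMap_eq fun r => by
    show (a ≫ c) r = (CommRingCat.ofHom (algebraMap k K) ≫ b) r
    rw [hpo.w]
  haveI : Algebra.IsPushout k K Γ(X, W) Γ(Curv2.bc k X K, W') := CommRingCat.isPushout_iff_isPushout.mp hpo
  let G := (Scheme.Modules.pullback fst).obj F
  haveI : Coh.IsQCoh G := Groth.Agent.PullbackMod.isQCoh_pullback fst F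
  letI := Module.compHom Γ(G, W') c.hom
  haveI : IsScalarTower Γ(X, W) Γ(Curv2.bc k X K, W') Γ(G, W') := .of_algebraMap_smul fun _ _ => rfl
  have hyW' : y ∈ W' := ⟨hxW, trivial⟩
  obtain ⟨m, hm⟩ := (Groth.Agent.AssLib.isWeakAssPoint_iff (M := G) hW' hyW').1 hy
  have hmem : Groth.Agent.AssLib.pr hW' hyW' ∈ FlatCA.weakAss Γ(Curv2.bc k X K, W') Γ(G, W') :=
    Groth.Agent.WeakAssLib.mem_weakAss.2 ⟨(hW'.primeIdealOf ⟨y, hyW'⟩).2, m, hm⟩
  have hp := Groth.Agent.WeakAssFieldLib.under_mem_weakAss_field (k := k) (K := K)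
    (Groth.Agent.PullbackMod.pullMapL fst F (W := W) (W' := W') inf_le_left)
    (Groth.Agent.PullbackMod.isBaseChange_pullMapL fst F hW hW' inf_le_left) _ hmem
  obtain ⟨-, n, hn⟩ := Groth.Agent.WeakAssLib.mem_weakAss.1 hp
  refine (Groth.Agent.AssLib.isWeakAssPoint_iff (M := F) hW hxW).2 ⟨n, ?_⟩
  convert hn using 1
  exact congrArg PrimeSpectrum.asIdeal (IsAffineOpen.comap_primeIdealOf_appLE W hW W' hW' inf_le_left hyW').symm

end Groth.Agent.S8900
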