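import Groth.Statements.S8901
import Groth.Agent.BlowCompLib.Flat
import Groth.Agent.AssLib.Weak

set_option autoImplicit false
universe u
open CategoryTheory CategoryTheory.Limits AlgebraicGeometry TopologicalSpace
open SDiv

namespace Groth.Agent.S8901

open CategoryTheory CategoryTheory.Limits AlgebraicGeometry

set_option backward.isDefEq.respectTransparency false
set_option backward.defeqAttrib.useBackward true
set_option linter.style.haveILetI false

/-- Let f : X ⟶ Y be a morphism of schemes under which each weakly associated point of X (of O_X) goes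
to a point of Y with no proper generization (the generic point of some irreducible component of Y).
Then pullbacks of meromorphic functions are defined for f: for every open U ⊆ Y and every regular
section s of O_Y over U, the pulled-back section of O_X over f⁻¹U is regular. -/
theorem result {X Y : Scheme.{u}} (f : X ⟶ Y)
    (h : ∀ x : ↥X, Curv2.IsWeakAssPoint (Coh.structureModule X) x → ∀ y : ↥Y, y ⤳ f x → y = f x)
    (U : Y.Opens) (s : Γ(Y, U)) (hs : s ∈ Mero.regSub Y U) : f.app U s ∈ Mero.regSub X (f ⁻¹ᵁ U) := by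

  intro y
  obtain ⟨V, hyV, e⟩ := BlowCompLib.exists_affine_le f y.1 (show f y.1 ∈ U from y.2)
  let s' : Γ(X, V.1) := X.presheaf.map (homOfLE e).op (f.app U s)
  have hs' : s' ∈ nonZeroDivisors Γ(X, V.1) := by
    haveI : Coh.IsQCoh (Coh.structureModule X) := inferInstance
    refine mem_nonZeroDivisors_iff_right.2 fun z hz => ?_
    let σ : Γ(Coh.structureModule X, V.1) := z
    show σ = 0
    refine AssLib.eq_zero_of_germ (Coh.structureModule X) σ fun v hv => ?_
    by_contra hne
    obtain ⟨w, hw, -, hwa, hws⟩ := AssLib.exists_isWeakAssPoint σ hv hne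
    have hmax := h w hwa
    let x₀ := f w
    have hgn : Y.presheaf.germ U x₀ (e hw) s ∈ nonZeroDivisors (Y.presheaf.stalk x₀) := hs ⟨x₀, e hw⟩
    have hgu : IsUnit (Y.presheaf.germ U x₀ (e hw) s) := by
      by_contra hn
      have hnil : IsNilpotent (Y.presheaf.germ U x₀ (e hw) s) := by
        refine (nilpotent_iff_mem_prime).2 fun P hP => ?_
        have h2 : Y.fromSpecStalk x₀ ⟨P, hP⟩ = Y.fromSpecStalk x₀ (IsLocalRing.closedPoint _) := by
          rw [Scheme.fromSpecStalk_closedPoint]
          exact hmax _ (Scheme.range_fromSpecStalk.le ⟨_, rfl⟩)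
        have h3 : P = IsLocalRing.maximalIdeal (Y.presheaf.stalk x₀) :=
          congrArg PrimeSpectrum.asIdeal ((Y.fromSpecStalk x₀).isEmbedding.injective h2)
        rw [h3]
        exact (IsLocalRing.mem_maximalIdeal _).2 hn
      obtain ⟨n, hn'⟩ := hnil
      exact (nonZeroDivisors.ne_zero (pow_mem hgn n)) hn'
    have hu : IsUnit (X.presheaf.germ V.1 w hw s') := by
      rw [TopCat.Presheaf.germ_res_apply, ← Scheme.Hom.germ_stalkMap_apply f U w (e hw) s]
      exact hgu.map (f.stalkMap w).hom
    have h0 : X.presheaf.germ V.1 w hw z = 0 := hu.mul_left_eq_zero.1 (by rw [← map_mul, hz, map_zero])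
    obtain ⟨N, hwN, i₁, i₂, hN⟩ := TopCat.Presheaf.germ_eq X.presheaf w hw hw z 0 (by rw [h0, map_zero])
    rw [map_zero] at hN
    refine hws ?_
    rw [← (Coh.structureModule X).presheaf.germ_res_apply i₁ w hwN σ,
      show (Coh.structureModule X).presheaf.map i₁.op σ = 0 from hN, map_zero]
  letI : Algebra Γ(X, V.1) (X.presheaf.stalk y.1) := TopCat.Presheaf.algebra_section_stalk X.presheaf ⟨y.1, hyV⟩
  haveI := V.2.isLocalization_stalk ⟨y.1, hyV⟩
  have := IsLocalization.map_nonZeroDivisors_le (V.2.primeIdealOf ⟨y.1, hyV⟩).asIdeal.primeCompl (X.presheaf.stalk y.1) ⟨s', hs', rfl⟩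
  change X.presheaf.germ V.1 y.1 hyV s' ∈ _ at this
  rw [TopCat.Presheaf.germ_res_apply] at this
  exact this


end Groth.Agent.S8901
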