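import Groth.Statements.S8902
import Mathlib

set_option autoImplicit false
universe u
open CategoryTheory CategoryTheory.Limits AlgebraicGeometry TopologicalSpace
open SDiv

namespace Groth.Agent.S8902

/-- Let f : X ⟶ Y be a flat morphism of schemes. Then pullbacks of meromorphic functions are defined for
f: for every open U ⊆ Y and every regular section s of O_Y over U, the pulled-back section of O_X
over f⁻¹U is regular. -/
theorem result {X Y : Scheme.{u}} (f : X ⟶ Y) [Flat f] (U : Y.Opens) (s : Γ(Y, U))
    (hs : s ∈ Mero.regSub Y U) : f.app U s ∈ Mero.regSub X (f ⁻¹ᵁ U) := by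
  intro x
  have hflat : (f.stalkMap x.1).hom.Flat := Flat.stalkMap f x.1
  have hgerm : X.presheaf.germ (f ⁻¹ᵁ U) x.1 x.2 (f.app U s) =
      f.stalkMap x.1 (Y.presheaf.germ U (f x.1) x.2 s) :=
    (Scheme.Hom.germ_stalkMap_apply f U x.1 x.2 s).symm
  rw [hgerm]
  have hreg := hs ⟨f x.1, x.2⟩
  set R := Y.presheaf.stalk (f x.1)
  set T := X.presheaf.stalk x.1
  letI : Algebra R T := (f.stalkMap x.1).hom.toAlgebra
  haveI : Module.Flat R T := hflat
  set a : R := Y.presheaf.germ U (f x.1) x.2 s
  have h1 : IsSMulRegular R a :=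
    (isRegular_iff_mem_nonZeroDivisors.mpr hreg).left
  have h2 : IsSMulRegular T (algebraMap R T a) :=
    IsSMulRegular.of_flat h1
  rw [mem_nonZeroDivisors_iff_right]
  intro z hz
  apply h2
  simp only [smul_eq_mul, mul_zero]
  rw [mul_comm]; exact hz

end Groth.Agent.S8902
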