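import Groth.Statements.S8903
import Mathlib
import Groth.Agent.MeroLib.RegPull
import Groth.Agent.InvExt.Main
import Groth.Agent.ParaFLib.Stalk
import Groth.Agent.CohBase.Localization

set_option autoImplicit false
universe u
open CategoryTheory CategoryTheory.Limits AlgebraicGeometry TopologicalSpace
open SDiv

namespace Groth.Agent.S8903

open CategoryTheory CategoryTheory.Limits AlgebraicGeometry

open TopologicalSpace Groth.Agent.ParaFLib

variable {X : Scheme.{u}} {L : X.Modules}

lemma germ_eq_zero_of_torsion (hL : PicF.IsInvertible L) {x : X} (a : X.presheaf.stalk x)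
    (ha : a ∈ nonZeroDivisors (X.presheaf.stalk x)) (z : L.presheaf.stalk x) (h : a • z = 0) : z = 0 := by
  obtain ⟨e, he⟩ := exists_stalk_gen hL x
  obtain ⟨r, rfl⟩ := he.2 z
  dsimp only at h ⊢
  rw [smul_smul] at h
  have h2 : a * r = 0 := he.1 (h.trans (zero_smul _ _).symm)
  rw [(mul_right_mem_nonZeroDivisors_eq_zero_iff ha).1 ((mul_comm _ _).trans h2), zero_smul]

lemma res_smul {V V' : X.Opens} (h : V' ≤ V) (a : Γ(X, V)) (s : Γ(L, V)) :
    L.presheaf.map (homOfLE h).op (a • s) = X.presheaf.map (homOfLE h).op a • L.presheaf.map (homOfLE h).op s :=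
  L.val.map_smul (homOfLE h).op a s

lemma map_denomIdeal (hL : PicF.IsInvertible L) (s : Γ(Mero.merMod L, ⊤)) (U : X.affineOpens) (h : Γ(X, U.1)) :
    (Mero.denomIdeal L s U.1).map (X.presheaf.map (homOfLE (X.basicOpen_le h)).op).hom =
      Mero.denomIdeal L s (X.basicOpen h) := by
  classical
  haveI := InvExt.isQCoh_of_isInvertible hL
  have hU : IsAffineOpen U.1 := U.2
  have hle := X.basicOpen_le h
  let r : Γ(X, U.1) →+* Γ(X, X.basicOpen h) := (X.presheaf.map (homOfLE hle).op).hom
  refine le_antisymm (Ideal.map_le_iff_le_comap.2 ?_) ?_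
  · rintro f ⟨m, hm⟩
    refine ⟨L.presheaf.map (homOfLE hle).op m, fun x => ?_⟩
    exact (congrArg (· • _) (TopCat.Presheaf.germ_res_apply X.presheaf (homOfLE hle) x.1 x.2 f)).trans
      ((hm ⟨x.1, hle x.2⟩).trans (congrArg _ (TopCat.Presheaf.germ_res_apply L.presheaf (homOfLE hle) x.1 x.2 m).symm))
  · rintro c ⟨m', hm'⟩
    letI : Algebra Γ(X, U.1) Γ(X, X.basicOpen h) := r.toAlgebra
    haveI : IsLocalization.Away h Γ(X, X.basicOpen h) := hU.isLocalization_basicOpen h
    obtain ⟨⟨a, d⟩, hd⟩ := IsLocalization.surj (Submonoid.powers h) c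
    obtain ⟨k, hk⟩ := d.2
    have hk' : c * r (h ^ k) = r a := by
      rw [show h ^ k = d.1 from hk]
      exact hd
    obtain ⟨n, M, hM⟩ := CohBase.exists_pow_extend L hU h rfl m'
    let a' := h ^ n * a
    let M' := h ^ k • M
    have hzero : ∀ x : X, ∀ hx : x ∈ X.basicOpen h, X.presheaf.germ U.1 x (hle hx) a' • s.1 ⟨x, trivial⟩ =
        LocalizedModule.mkLinearMap (Mero.regStalk X x) _ (L.presheaf.germ U.1 x (hle hx) M') := by
      intro x hx
      have e1 : X.presheaf.germ U.1 x (hle hx) a' =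
          X.presheaf.germ U.1 x (hle hx) (h ^ n) * X.presheaf.germ U.1 x (hle hx) (h ^ k) *
            X.presheaf.germ (X.basicOpen h) x hx c := by
        have e := congrArg (X.presheaf.germ (X.basicOpen h) x hx) hk'
        simp only [r, map_mul] at e
        erw [TopCat.Presheaf.germ_res_apply, TopCat.Presheaf.germ_res_apply] at e
        rw [map_mul, ← e]
        ring
      have e2 : L.presheaf.germ U.1 x (hle hx) M =
          X.presheaf.germ U.1 x (hle hx) (h ^ n) • L.presheaf.germ (X.basicOpen h) x hx m' := by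
        rw [← TopCat.Presheaf.germ_res_apply L.presheaf (homOfLE hle) x hx M]
        refine (congrArg _ hM).trans ?_
        refine (ParaFLib.germ_smul' x hx (r (h ^ n)) m').trans (congrArg (· • _) ?_)
        exact TopCat.Presheaf.germ_res_apply X.presheaf (homOfLE hle) x hx (h ^ n)
      rw [ParaFLib.germ_smul', map_smul, e2, map_smul, e1, mul_smul, mul_smul, hm' ⟨x, hx⟩]
      exact smul_comm _ _ _
    have hloc : ∀ x : U.1, ∃ (T : X.Opens) (_ : x.1 ∈ T) (hTU : T ≤ U.1) (N : ℕ), ∀ z : T,
        X.presheaf.germ U.1 z.1 (hTU z.2) (h ^ N * a') • s.1 ⟨z.1, trivial⟩ =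
          LocalizedModule.mkLinearMap (Mero.regStalk X z.1) _ (L.presheaf.germ U.1 z.1 (hTU z.2) (h ^ N • M')) := by
      intro x
      obtain ⟨T₀, hT₀, i, m, b, hmb⟩ := s.2 ⟨x.1, trivial⟩
      obtain ⟨T, hT, hxT, hT'⟩ := exists_isAffineOpen_mem_and_subset (U := T₀ ⊓ U.1) (x := x.1) ⟨hT₀, x.2⟩
      have hT1 : T ≤ T₀ := fun z hz => (hT' hz).1
      have hT2 : T ≤ U.1 := fun z hz => (hT' hz).2
      let l : Γ(L, T) := X.presheaf.map (homOfLE hT2).op a' • L.presheaf.map (homOfLE hT1).op m -
        X.presheaf.map (homOfLE hT1).op b.1 • L.presheaf.map (homOfLE hT2).op M'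
      let hT_ := X.presheaf.map (homOfLE hT2).op h
      have hl : L.presheaf.map (homOfLE (X.basicOpen_le hT_)).op l = 0 := by
        refine TopCat.Presheaf.section_ext (⟨L.presheaf, L.isSheaf⟩ : TopCat.Sheaf Ab X) _ _ _ fun z hz => ?_
        have hzT := X.basicOpen_le hT_ hz
        have hzh : z ∈ X.basicOpen h := ((X.basicOpen_res h (homOfLE hT2).op).le hz).2
        refine (TopCat.Presheaf.germ_res_apply L.presheaf _ z hz l).trans (Eq.trans ?_ (map_zero _).symm)
        have h1 := hzero z hzh
        have h2 := hmb ⟨z, hT1 hzT⟩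
        dsimp only at h2
        have h3 := ((congrArg (X.presheaf.germ U.1 z (hle hzh) a' • ·) h2).symm.trans h1)
        rw [LocalizedModule.smul'_mk, LocalizedModule.mkLinearMap_apply, LocalizedModule.mk_eq] at h3
        obtain ⟨v, hv⟩ := h3
        simp only [one_smul, Submonoid.smul_def] at hv
        refine germ_eq_zero_of_torsion hL v.1 (Mero.regStalk_le_nonZeroDivisors z v.2) _ ?_
        rw [map_sub, ParaFLib.germ_smul', ParaFLib.germ_smul', smul_sub, TopCat.Presheaf.germ_res_apply,
          TopCat.Presheaf.germ_res_apply, TopCat.Presheaf.germ_res_apply, TopCat.Presheaf.germ_res_apply, sub_eq_zero]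
        exact hv
      obtain ⟨N, hN⟩ := CohBase.exists_pow_zero L hT hT_ rfl l hl
      rw [CohBase.sc_apply] at hN
      refine ⟨T, hxT, hT2, N, fun z => ?_⟩
      have h2 := hmb ⟨z.1, hT1 z.2⟩
      dsimp only at h2
      refine (congrArg (_ • ·) h2).trans ?_
      rw [LocalizedModule.smul'_mk, LocalizedModule.mkLinearMap_apply, LocalizedModule.mk_eq]
      refine ⟨1, ?_⟩
      simp only [one_smul, Submonoid.smul_def]
      have e := congrArg (L.presheaf.germ T z.1 z.2) hN
      erw [ParaFLib.germ_smul'] at e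
      rw [map_zero] at e
      simp only [l, map_sub, ParaFLib.germ_smul', smul_sub, map_pow, hT_, sub_eq_zero, smul_smul,
        TopCat.Presheaf.germ_res_apply] at e
      rw [ParaFLib.germ_smul', map_mul, map_pow]
      refine e.trans ?_
      rw [smul_smul, mul_comm]
    choose T hxT hTU N hN using hloc
    obtain ⟨t, ht⟩ := hU.isCompact.elim_finite_subcover (fun x : U.1 => (T x : Set X)) (fun x => (T x).2)
      (fun z hz => Set.mem_iUnion.2 ⟨⟨z, hz⟩, hxT ⟨z, hz⟩⟩)
    let K := t.sup N
    have hmem : h ^ K * a' ∈ Mero.denomIdeal L s U.1 := by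
      refine ⟨h ^ K • M', fun z => ?_⟩
      obtain ⟨x, hxt, hzx⟩ := Set.mem_iUnion₂.1 (ht z.2)
      obtain ⟨j, hj⟩ := Nat.exists_eq_add_of_le (Finset.le_sup (f := N) hxt)
      have := congrArg (X.presheaf.germ U.1 z.1 z.2 (h ^ j) • ·) (hN x ⟨z.1, hzx⟩)
      dsimp only at this
      rw [smul_smul, ← map_mul, ← map_smul, ← ParaFLib.germ_smul', smul_smul, ← mul_assoc, ← pow_add] at this
      rw [show K = j + N x by rw [add_comm]; exact hj]
      exact this
    obtain ⟨v, hv⟩ : IsUnit (r (h ^ (K + n + k))) := by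
      rw [map_pow]
      exact (RingedSpace.isUnit_res_basicOpen _ h).pow _
    have hc : c = v⁻¹.1 * r (h ^ K * a') := by
      rw [Units.eq_inv_mul_iff_mul_eq, hv, pow_add, pow_add, map_mul, map_mul, map_mul, map_mul, ← hk']
      ring
    rw [hc]
    exact Ideal.mul_mem_left _ _ (Ideal.mem_map_of_mem _ hmem)
/-- Suppose X is a scheme, L is an O_X-module that is invertible, and s is a meromorphic section of L
which is regular. Then the ideal of denominators of s, U ↦ {f ∈ O_X(U) | f·s ∈ L(U)}, is a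
quasi-coherent ideal sheaf: there is a quasi-coherent ideal sheaf I whose ideal on every affine open
U is the ideal of denominators over U; and the closed subset of X cut out by I (the support of
O_X/I) is nowhere dense. The published statement also asserts that the cokernel of the map I → L
given by s is supported on a closed nowhere dense subset; this row does not state that part. -/
theorem result (X : Scheme.{u}) (L : X.Modules) (hL : PicF.IsInvertible L)
    (s : Γ(Mero.merMod L, ⊤)) (hs : Mero.IsRegularMero L s) :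
    ∃ I : X.IdealSheafData, (∀ U : X.affineOpens, I.ideal U = Mero.denomIdeal L s U.1) ∧
      interior (I.support : Set ↥X) = ∅ := by
  let I : X.IdealSheafData :=
    { ideal := fun U => Mero.denomIdeal L s U.1
      map_ideal_basicOpen := fun U h => map_denomIdeal hL s U h }
  refine ⟨I, fun U => rfl, ?_⟩
  by_contra hne
  obtain ⟨x, hx⟩ := Set.nonempty_iff_ne_empty.2 hne
  let G : X.Opens := ⟨interior (I.support : Set X), isOpen_interior⟩
  obtain ⟨T₀, hT₀, i, m, b, hmb⟩ := s.2 ⟨x, trivial⟩
  obtain ⟨T, hT, hxT, hT'⟩ := exists_isAffineOpen_mem_and_subset (U := T₀ ⊓ G) (x := x) ⟨hT₀, hx⟩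
  have hT1 : T ≤ T₀ := fun z hz => (hT' hz).1
  let bT := X.presheaf.map (homOfLE hT1).op b.1
  have hb : bT ∈ I.ideal ⟨T, hT⟩ := by
    refine ⟨L.presheaf.map (homOfLE hT1).op m, fun z => ?_⟩
    have h2 := hmb ⟨z.1, hT1 z.2⟩
    dsimp only at h2
    refine (congrArg (_ • ·) h2).trans ?_
    rw [LocalizedModule.smul'_mk, LocalizedModule.mkLinearMap_apply, LocalizedModule.mk_eq]
    refine ⟨1, ?_⟩
    simp only [one_smul, Submonoid.smul_def, bT, TopCat.Presheaf.germ_res_apply]
  have hempty : ∀ z : X, ∀ hz : z ∈ X.basicOpen bT, False := fun z hz => by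
    have hzT := X.basicOpen_le bT hz
    have hzs : z ∈ I.support := interior_subset (hT' hzT).2
    have := (Scheme.IdealSheafData.mem_support_iff_of_mem (U := ⟨T, hT⟩) hzT).1 hzs
    rw [Scheme.mem_zeroLocus_iff] at this
    exact this bT hb hz
  have h0 : X.presheaf.map (homOfLE (X.basicOpen_le bT)).op (1 : Γ(X, T)) = 0 :=
    TopCat.Presheaf.section_ext X.sheaf _ _ _ fun z hz => (hempty z hz).elim
  obtain ⟨n, hn⟩ := AlgebraicGeometry.exists_pow_mul_eq_zero_of_res_basicOpen_eq_zero_of_isAffineOpen X hT 1 bT h0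
  have h3 := congrArg (X.presheaf.germ T x hxT) hn
  rw [mul_one, map_pow, map_zero, TopCat.Presheaf.germ_res_apply] at h3
  exact zero_notMem_nonZeroDivisors (h3 ▸ (nonZeroDivisors _).pow_mem (b.2 ⟨x, hT1 hxT⟩) n)


end Groth.Agent.S8903
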