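import Groth.Statements.S8904
import Mathlib
import Groth.Agent.MeroLib.WeakGeneric
import Groth.Agent.S8864

set_option autoImplicit false
universe u
open CategoryTheory CategoryTheory.Limits AlgebraicGeometry TopologicalSpace
open SDiv

namespace Groth.Agent.S8904

open CategoryTheory CategoryTheory.Limits AlgebraicGeometry

open TopologicalSpace Groth.Agent.MeroLib Groth.Agent.S8864

/-- Let X be a scheme such that (a) each weakly associated point of X (of O_X) has no proper
generization, i.e. is the generic point of some irreducible component, and (b) every quasi-compact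
open of X has finitely many irreducible components. Then for every point x the monoid S_x of germs
of regular sections is the set of all nonzerodivisors of O_{X,x} (so K_{X,x} is the total ring of
fractions of O_{X,x}), and for every affine open U the ring K_X(U) is the total ring of fractions of
O_X(U). -/
theorem result (X : Scheme.{u})
    (ha : ∀ x : ↥X, Curv2.IsWeakAssPoint (Coh.structureModule X) x → ∀ y : ↥X, y ⤳ x → y = x)
    (hb : ∀ U : X.Opens, IsCompact (U : Set ↥X) → (irreducibleComponents ↥(U : Scheme.{u})).Finite) :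
    (∀ x : ↥X, Mero.regStalk X x = nonZeroDivisors ↑(X.presheaf.stalk x)) ∧
      ∀ U : X.affineOpens,
        @IsLocalization Γ(X, U.1) _ (nonZeroDivisors Γ(X, U.1)) Γ(Mero.kmod X, U.1) _ (Mero.toK X U.1).toAlgebra := by
  refine ⟨fun x => le_antisymm (Mero.regStalk_le_nonZeroDivisors x) fun g hg => mem_regStalk_of_weakAss ha hb x hg,
    fun U => ?_⟩
  · classical
    obtain ⟨U, hU⟩ := U
    have hb' := hb
    letI : Algebra Γ(X, U) Γ(Mero.kmod X, U) := (Mero.toK X U).toAlgebra
    have hreg : ∀ b ∈ nonZeroDivisors Γ(X, U), b ∈ Mero.regSub X U := fun b hb => regSub_of_nonZeroDivisors hU hb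
    rw [isLocalization_iff]
    refine ⟨fun b => ⟨regUnit b.1 (hreg b.1 b.2), rfl⟩, fun t => ?_, fun {a b} h => ⟨1, by rw [toK_injective h]⟩⟩
    let ι : Type u := Σ' (N : X.Opens) (h : N ≤ U) (r : Γ(X, N)),
      PLift (∀ z : N, t.1 ⟨z.1, h z.2⟩ = algebraMap _ (Mero.KStalk X z.1) (X.presheaf.germ N z.1 z.2 r))
    let N : ι → X.Opens := fun i => i.1
    obtain ⟨c, hc, -⟩ := TopCat.Sheaf.existsUnique_gluing' X.sheaf N (iSup N) (fun i => homOfLE (le_iSup N i))
      le_rfl (fun i => i.2.2.1) (by
        intro i j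
        refine TopCat.Presheaf.section_ext X.sheaf _ _ _ fun z hz => ?_
        refine (TopCat.Presheaf.germ_res_apply X.presheaf _ z hz _).trans
          (Eq.trans ?_ (TopCat.Presheaf.germ_res_apply X.presheaf _ z hz _).symm)
        exact Mero.algebraMap_KStalk_injective (X := X) z ((i.2.2.2.down ⟨z, hz.1⟩).symm.trans (j.2.2.2.down ⟨z, hz.2⟩)))
    have hmemV : ∀ (p : Ideal Γ(X, U)) (hp : p ∈ minimalPrimes Γ(X, U)),
        hU.fromSpec ⟨p, hp.1.1⟩ ∈ iSup N := by
      intro p hp
      let q : PrimeSpectrum Γ(X, U) := ⟨p, hp.1.1⟩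
      have hq : hU.fromSpec q ∈ U := hU.range_fromSpec.subset (Set.mem_range_self q)
      obtain ⟨T, hT, i, m, b, hmb⟩ := t.2 ⟨_, hq⟩
      have hbu : IsUnit (X.presheaf.germ T (hU.fromSpec q) hT b.1) := by
        by_contra hnu
        obtain ⟨n, hn⟩ := isNilpotent_of_maximal _ (isMaxPt_fromSpec hU q hp) hnu
        exact zero_notMem_nonZeroDivisors (hn ▸ (nonZeroDivisors _).pow_mem (b.2 ⟨_, hT⟩) n)
      let B := X.basicOpen b.1
      have hu : IsUnit (X.presheaf.map (homOfLE (X.basicOpen_le b.1)).op b.1 : Γ(X, B)) :=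
        X.toLocallyRingedSpace.toRingedSpace.isUnit_res_basicOpen b.1
      obtain ⟨v, hv⟩ := hu
      let r : Γ(X, B) := X.presheaf.map (homOfLE (X.basicOpen_le b.1)).op m * (v⁻¹ : Units _).val
      refine Opens.mem_iSup.2 ⟨⟨B, (X.basicOpen_le b.1).trans (leOfHom i), r, ⟨fun z => ?_⟩⟩,
        (X.mem_basicOpen b.1 _ hT).2 hbu⟩
      have hzT : z.1 ∈ T := X.basicOpen_le b.1 z.2
      have h2 := hmb ⟨z.1, hzT⟩
      dsimp only at h2
      refine h2.trans ((Localization.mk_eq_mk'_apply (M := Mero.regStalk X z.1) _ _).trans ?_)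
      refine IsLocalization.mk'_eq_iff_eq_mul.2 ?_
      rw [← map_mul]
      refine congrArg _ ?_
      show X.presheaf.germ T z.1 hzT m = X.presheaf.germ B z.1 z.2 r * X.presheaf.germ T z.1 hzT b.1
      have e : X.presheaf.map (homOfLE (X.basicOpen_le b.1)).op m =
          r * X.presheaf.map (homOfLE (X.basicOpen_le b.1)).op b.1 := by
        show _ = (X.presheaf.map (homOfLE (X.basicOpen_le b.1)).op m * (v⁻¹ : Units _).val) * _
        rw [← hv, Units.inv_mul_cancel_right]
      have e' := congrArg (X.presheaf.germ B z.1 z.2) e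
      rw [map_mul, TopCat.Presheaf.germ_res_apply, TopCat.Presheaf.germ_res_apply] at e'
      exact e'
    obtain ⟨b, hb, hbV⟩ := exists_nonZeroDivisor_basicOpen_le hU (finite_minimalPrimes_of_compact hb' hU)
      (fun p hp => hp.1.1) (fun a h => mem_nonZeroDivisors_of_weakAss ha hU h) hmemV
    letI : Algebra Γ(X, U) Γ(X, X.basicOpen b) := (X.presheaf.map (homOfLE (X.basicOpen_le b)).op).hom.toAlgebra
    haveI : IsLocalization.Away b Γ(X, X.basicOpen b) := hU.isLocalization_basicOpen b
    obtain ⟨⟨m, d⟩, hmd⟩ := IsLocalization.surj (Submonoid.powers b) (X.presheaf.map (homOfLE hbV).op c)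
    have hd : (d : Γ(X, U)) ∈ nonZeroDivisors Γ(X, U) := by
      obtain ⟨n, hn⟩ := d.2
      rw [show (d : Γ(X, U)) = b ^ n from hn.symm]
      exact (nonZeroDivisors _).pow_mem hb n
    refine ⟨⟨m, ⟨d, hd⟩⟩, ?_⟩
    show t * Mero.toK X U (d : Γ(X, U)) = Mero.toK X U m
    have hdense : RegDense U (X.basicOpen b) := fun x _ => ⟨⊤, trivial, fun W _ _ hWU =>
      ⟨_, res_mem_nonZeroDivisors hWU (hreg b hb),
        (X.basicOpen_res b (homOfLE hWU).op).le.trans inf_le_right⟩⟩
    refine ext_regDense hdense _ _ fun z hz => ?_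
    show t.1 z * (Mero.toK X U (d : Γ(X, U))).1 z = (Mero.toK X U m).1 z
    obtain ⟨i, hi⟩ := Opens.mem_iSup.1 (hbV hz)
    have h1 : t.1 z = algebraMap _ (Mero.KStalk X z.1) (X.presheaf.germ (iSup N) z.1 (hbV hz) c) := by
      refine (i.2.2.2.down ⟨z.1, hi⟩).trans (congrArg _ ?_)
      rw [← hc i]
      exact TopCat.Presheaf.germ_res_apply X.presheaf _ z.1 hi c
    rw [h1, toK_apply_eq, toK_apply_eq, ← map_mul]
    refine congrArg _ ?_
    have e := congrArg (X.presheaf.germ (X.basicOpen b) z.1 hz) hmd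
    simp only [RingHom.algebraMap_toAlgebra, map_mul] at e
    erw [TopCat.Presheaf.germ_res_apply, TopCat.Presheaf.germ_res_apply, TopCat.Presheaf.germ_res_apply] at e
    exact e


end Groth.Agent.S8904
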