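import Groth.Statements.S8908
import Groth.Agent.AssLib.Push
import Groth.Agent.AssLib.Noetherian
import Groth.Agent.S1575
import Groth.Agent.ThickVanishLib.Basic
import Groth.Agent.DCohLib.SuppOpen
import Groth.Agent.PullbackMod.SuppClosed
import Groth.Agent.H1ZeroLib.Relative
-- import your own Groth.Agent.* helpers here

set_option autoImplicit false
universe u
open CategoryTheory CategoryTheory.Limits AlgebraicGeometry TopologicalSpace
open SDiv

namespace Groth.Agent.S8908

namespace Aux

open Groth.Agent Groth.Agent.PullbackMod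

variable {X : Scheme.{u}} [IsLocallyNoetherian X] {F : X.Modules}

theorem ass_mem_support {x : X} (h : Curv2.IsAssPoint F x) : x ∈ CohB1.support F :=
  not_subsingleton_iff_nontrivial.2 (AssLib.nontrivial_of_isAssPoint h)

theorem finite_ass_specializes (hF : Coh.IsCoh F) (x : X) :
    {y : X | Curv2.IsAssPoint F y ∧ y ⤳ x}.Finite := by
  obtain ⟨W, hW, hxW, -⟩ := AssLib.exists_affine_mem x (U := ⊤) trivial
  exact (AssLib.finite_ass_affine hF hW).subset fun y hy => ⟨hy.2.mem_open W.2 hxW, hy.1⟩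

theorem exists_ass_minimal (hF : Coh.IsCoh F) {x : X} (hx : x ∈ CohB1.support F) :
    ∃ y : X, y ⤳ x ∧ Curv2.IsAssPoint F y ∧ ∀ z : X, Curv2.IsAssPoint F z → z ⤳ y → z = y := by
  haveI := hF.1
  obtain ⟨y₀, hy₀, hya⟩ := AssLib.exists_isAssPoint_of_nontrivial (not_subsingleton_iff_nontrivial.1 hx)
  letI : PartialOrder X := specializationOrder X
  obtain ⟨y, hy, hmax⟩ := (finite_ass_specializes hF x).exists_maximal ⟨y₀, hya, hy₀⟩
  refine ⟨y, hy.2, hy.1, fun z hz hzy => ?_⟩
  exact ((hzy : y ≤ z).antisymm (hmax ⟨hz, hzy.trans hy.2⟩ hzy)).eq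

/-- The embedded associated points. -/
def emb (F : X.Modules) : Set X :=
  {x | Curv2.IsAssPoint F x ∧ ∃ y, Curv2.IsAssPoint F y ∧ y ⤳ x ∧ y ≠ x}

theorem exists_emb_of_mem_closure (hF : Coh.IsCoh F) {x : X} (hx : x ∈ closure (emb F)) :
    ∃ d ∈ emb F, d ⤳ x := by
  obtain ⟨W, hW, hxW, -⟩ := AssLib.exists_affine_mem x (U := ⊤) trivial
  have hfin : (emb F ∩ (W : Set X)).Finite :=
    (AssLib.finite_ass_affine hF hW).subset fun y hy => ⟨hy.2, hy.1.1⟩
  have h1 : x ∈ closure (emb F ∩ (W : Set X)) :=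
    closure_mono (Set.inter_comm _ _).le (W.2.inter_closure (t := emb F) ⟨hxW, hx⟩)
  rw [← Set.biUnion_of_singleton (emb F ∩ (W : Set X)), hfin.closure_biUnion] at h1
  obtain ⟨d, hd, hdx⟩ := Set.mem_iUnion₂.1 h1
  exact ⟨d, hd.1, specializes_iff_mem_closure.2 hdx⟩

theorem mem_compl_of_ass_minimal (hF : Coh.IsCoh F) {y : X}
    (hmin : ∀ z : X, Curv2.IsAssPoint F z → z ⤳ y → z = y) : y ∉ closure (emb F) := fun h => by
  obtain ⟨d, hd, hdy⟩ := exists_emb_of_mem_closure hF h
  obtain ⟨w, hw, hwd, hne⟩ := hd.2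
  have e := hmin d hd.1 hdy
  subst e
  exact hne (hmin w hw hwd)

omit [IsLocallyNoetherian X] in
theorem minimal_of_not_mem {y : X} (hy : Curv2.IsAssPoint F y) (h : y ∉ closure (emb F)) :
    ∀ z : X, Curv2.IsAssPoint F z → z ⤳ y → z = y := fun z hz hzy =>
  by_contra fun hne => h (subset_closure ⟨hy, z, hz, hzy, hne⟩)

theorem dense_compl (hF : Coh.IsCoh F) : Dense ((closure (emb F))ᶜ : Set X) := fun x => by
  obtain ⟨C, hC, hxC⟩ : ∃ C ∈ irreducibleComponents ↥X, x ∈ C :=
    ⟨_, irreducibleComponent_mem_irreducibleComponents x, mem_irreducibleComponent⟩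
  obtain ⟨ξ, hξ⟩ := QuasiSober.sober (α := ↥X) hC.1 (isClosed_of_mem_irreducibleComponents C hC)
  have hξx : ξ ⤳ x := IsGenericPoint.specializes hξ hxC
  refine hξx.mem_closed isClosed_closure (subset_closure ?_)
  intro h
  obtain ⟨d, hd, hdξ⟩ := exists_emb_of_mem_closure hF h
  obtain ⟨w, -, hwd, hne⟩ := hd.2
  have hmax : ∀ z : X, z ⤳ ξ → z = ξ := fun z hz => by
    have hCz : C ⊆ closure {z} := by
      rw [← show closure {ξ} = C from hξ]
      exact closure_minimal (Set.singleton_subset_iff.2 (specializes_iff_mem_closure.1 hz)) isClosed_closure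
    have he : closure {z} = C := (hC.eq_of_le isIrreducible_singleton.closure hCz).symm
    exact (hz.antisymm (IsGenericPoint.specializes hξ (he ▸ subset_closure rfl))).eq
  have e := hmax d hdξ
  subst e
  exact hne (hmax w hwd)

omit [IsLocallyNoetherian X] in
theorem subsingleton_stalk_of_map_eq_zero {M N : X.Modules} (i : M ⟶ N) [Mono i] {x : X}
    (h : stalkLin i x = 0) : Subsingleton (M.presheaf.stalk x) :=
  ⟨fun a b => (mono_iff_stalk i).1 inferInstance x (by rw [h]; rfl)⟩

omit [IsLocallyNoetherian X] in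
theorem isAssPoint_of_injective {M N : X.Modules} (i : M ⟶ N) {x : X}
    (hi : Function.Injective (stalkLin i x)) (h : Curv2.IsAssPoint M x) : Curv2.IsAssPoint N x :=
  IsAssociatedPrime.map_of_injective h (f := stalkLin i x) hi

end Aux

/-- Let X be a locally Noetherian scheme and F a coherent O_X-module. The coherent subsheaves K ⊆ F
whose support is nowhere dense in Supp(F) have a largest element K. Setting F' = F/K: (1) Supp(F') =
Supp(F); (2) F' has no embedded associated points; (3) there is a dense open U ⊆ X with U ∩ Supp(F)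
dense in Supp(F) over which the quotient map F → F' restricts to an isomorphism. -/
theorem result (X : Scheme.{u}) [IsLocallyNoetherian X] (F : X.Modules)
    (hF : Coh.IsCoh F) :
    ∃ K : Subobject F, Coh.IsCoh (K : X.Modules) ∧
      (∀ U : X.Opens, (U : Set ↥X) ∩ CohB1.support F ⊆ CohB1.support (K : X.Modules) → (U : Set ↥X) ∩ CohB1.support F = ∅) ∧
      (∀ K' : Subobject F, Coh.IsCoh (K' : X.Modules) →
        (∀ U : X.Opens, (U : Set ↥X) ∩ CohB1.support F ⊆ CohB1.support (K' : X.Modules) → (U : Set ↥X) ∩ CohB1.support F = ∅) →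
        K' ≤ K) ∧
      CohB1.support (cokernel K.arrow) = CohB1.support F ∧
      (∀ x : ↥X, Curv2.IsAssPoint (cokernel K.arrow) x → ∀ y : ↥X, Curv2.IsAssPoint (cokernel K.arrow) y → y ⤳ x → y = x) ∧
      ∃ U : X.Opens, Dense (U : Set ↥X) ∧ CohB1.support F ⊆ closure ((U : Set ↥X) ∩ CohB1.support F) ∧
        IsIso ((Scheme.Modules.restrictFunctor U.ι).map (cokernel.π K.arrow)) := by
  haveI := hF.1
  let U : X.Opens := ⟨(closure (Aux.emb F))ᶜ, isClosed_closure.isOpen_compl⟩
  haveI : Coh.IsQCoh ((Scheme.Modules.restrictFunctor U.ι).obj F) := inferInstance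
  let P := (Scheme.Modules.pushforward U.ι).obj ((Scheme.Modules.restrictFunctor U.ι).obj F)
  haveI : Coh.IsQCoh P := QCohLib.isQCoh_pushforward _ U.ι
  let η : F ⟶ P := (Scheme.Modules.restrictAdjunction U.ι).unit.app F
  have hηU : ∀ x ∈ U, Function.Bijective (PullbackMod.stalkLin η x) := fun x hx =>
    S1575.unit_stalk_bijective U.ι F (by rw [Scheme.Opens.opensRange_ι]; exact hx)
  let K : Subobject F := Subobject.mk (kernel.ι η)
  have hKker : Coh.IsCoh (kernel η) :=
    QCohLib.isCoh_of_mono (kernel.ι η) hF (H1ZeroLib.isQCoh_kernel η)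
  have hK : Coh.IsCoh (K : X.Modules) := by
    refine QCohLib.isCoh_of_mono K.arrow hF ?_
    haveI := hKker.1
    exact (SheafOfModules.isQuasicoherent X.ringCatSheaf).prop_of_iso
      (Subobject.underlyingIso (kernel.ι η)).symm hKker.1
  have hKη : K.arrow ≫ η = 0 := by
    rw [← Subobject.underlyingIso_hom_comp_eq_mk (kernel.ι η), Category.assoc, kernel.condition, comp_zero]
  have hK0 : ∀ x ∈ U, PullbackMod.stalkLin K.arrow x = 0 := fun x hx => LinearMap.ext fun z => (hηU x hx).1 (by
    rw [← LinearMap.comp_apply (PullbackMod.stalkLin η x), ← PullbackMod.stalkLin_comp, hKη,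
      (PullbackMod.eq_zero_iff_stalk (0 : (K : X.Modules) ⟶ P)).1 rfl x, LinearMap.zero_apply,
      LinearMap.zero_apply, map_zero])
  have hKU : ∀ x ∈ U, x ∉ CohB1.support (K : X.Modules) := fun x hx h =>
    h (Aux.subsingleton_stalk_of_map_eq_zero K.arrow (hK0 x hx))
  have hC : Coh.IsCoh (cokernel K.arrow) := (QCohLib.isCoh_kernel_cokernel _ hK hF).2
  haveI := hC.1
  have hex : (ShortComplex.mk K.arrow (cokernel.π K.arrow) (cokernel.condition _)).Exact :=
    ShortComplex.exact_of_g_is_cokernel _ (cokernelIsCokernel _)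
  haveI : Epi (ShortComplex.mk K.arrow (cokernel.π K.arrow) (cokernel.condition _)).g :=
    inferInstanceAs (Epi (cokernel.π _))
  have hπsurj : ∀ x, Function.Surjective (PullbackMod.stalkLin (cokernel.π K.arrow) x) :=
    (PullbackMod.epi_iff_stalk _).1 inferInstance
  have hπU : ∀ x ∈ U, Function.Bijective (PullbackMod.stalkLin (cokernel.π K.arrow) x) := fun x hx =>
    ⟨(injective_iff_map_eq_zero _).2 fun a ha => by
      obtain ⟨b, rfl⟩ := (DCohLib.exact_stalkLin _ hex x a).1 ha
      show PullbackMod.stalkLin K.arrow x b = 0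
      rw [hK0 x hx, LinearMap.zero_apply], hπsurj x⟩
  refine ⟨K, hK, fun V hV => ?_, fun K' hK' hsmall => ?_, ?_, fun x hx y hy hyx => ?_, U, Aux.dense_compl hF, ?_, ?_⟩
  · refine Set.eq_empty_iff_forall_notMem.2 fun x hx => ?_
    obtain ⟨y, hyx, hy, hmin⟩ := Aux.exists_ass_minimal hF hx.2
    exact hKU y (Aux.mem_compl_of_ass_minimal hF hmin) (hV ⟨hyx.mem_open V.2 hx.1, Aux.ass_mem_support hy⟩)
  · haveI := hK'.1
    have h0 : ∀ x ∈ U, PullbackMod.stalkLin K'.arrow x = 0 := by
      intro x hx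
      by_contra hne
      have hnt : Nontrivial ((K' : X.Modules).presheaf.stalk x) := by
        by_contra hn
        haveI := not_nontrivial_iff_subsingleton.1 hn
        exact hne (LinearMap.ext fun z => by rw [Subsingleton.elim z 0, map_zero, map_zero])
      obtain ⟨y, hyx, hy'⟩ := AssLib.exists_isAssPoint_of_nontrivial hnt
      have hyU : y ∈ U := hyx.mem_open U.2 hx
      have hy := Aux.isAssPoint_of_injective K'.arrow ((PullbackMod.mono_iff_stalk _).1 inferInstance y) hy'
      obtain ⟨W, hW, hyW, -⟩ := AssLib.exists_affine_mem y (U := ⊤) trivial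
      let O : Set X := {w | (w ∈ W ∧ Curv2.IsAssPoint F w) ∧ ¬ y ⤳ w}
      have hOfin : O.Finite := (AssLib.finite_ass_affine hF hW).subset fun w hw => hw.1
      let V : X.Opens := ⟨(W : Set X) ∩ (U : Set X) ∩ (⋃ w ∈ O, closure {w})ᶜ,
        (W.2.inter U.2).inter (hOfin.isClosed_biUnion fun _ _ => isClosed_closure).isOpen_compl⟩
      have hyV : y ∈ V := ⟨⟨hyW, hyU⟩, fun h => by
        obtain ⟨w, hw, hwy⟩ := Set.mem_iUnion₂.1 h
        have hwy' : w ⤳ y := specializes_iff_mem_closure.2 hwy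
        have e := Aux.minimal_of_not_mem hy hyU w hw.1.2 hwy'
        exact hw.2 (e ▸ specializes_rfl)⟩
      have hsub : (V : Set X) ∩ CohB1.support F ⊆ CohB1.support (K' : X.Modules) := by
        rintro z ⟨⟨⟨hzW, -⟩, hz⟩, hzs⟩
        obtain ⟨w, hwz, hw, -⟩ := Aux.exists_ass_minimal hF hzs
        have hyw : y ⤳ w := by
          by_contra h
          exact hz (Set.mem_iUnion₂.2 ⟨w, ⟨⟨hwz.mem_open W.2 hzW, hw⟩, h⟩, specializes_iff_mem_closure.1 hwz⟩)
        exact (hyw.trans hwz).mem_closed (PullbackMod.isClosed_support_of_isFT hK'.2) (Aux.ass_mem_support hy')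
      exact (Set.eq_empty_iff_forall_notMem.1 (hsmall V hsub)) y ⟨hyV, Aux.ass_mem_support hy⟩
    have hz : K'.arrow ≫ η = 0 := by
      have h1 := (Scheme.Modules.restrictAdjunction U.ι).homEquiv_naturality_left K'.arrow
        (𝟙 ((Scheme.Modules.restrictFunctor U.ι).obj F))
      rw [Category.comp_id, ThickVanishLib.restrict_eq_zero K'.arrow h0, Adjunction.homEquiv_id,
        Adjunction.homEquiv_unit, Functor.map_zero, comp_zero] at h1
      exact h1.symm
    exact Subobject.le_mk_of_comm (kernel.lift η K'.arrow hz) (kernel.lift_ι _ _ _)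
  · refine Set.Subset.antisymm (fun x hx => ?_) (fun x hx => ?_)
    · exact fun h => hx ((hπsurj x).subsingleton)
    · obtain ⟨y, hyx, hy, hmin⟩ := Aux.exists_ass_minimal hF hx
      refine hyx.mem_closed (PullbackMod.isClosed_support_of_isFT hC.2) fun h => ?_
      exact (Aux.ass_mem_support hy) (@Function.Injective.subsingleton _ _ _
        (hπU y (Aux.mem_compl_of_ass_minimal hF hmin)).1 h)
  · have hmem : ∀ z, Curv2.IsAssPoint (cokernel K.arrow) z → z ∈ U := fun z hz => by
      let ψ : cokernel K.arrow ⟶ P := cokernel.desc K.arrow η hKη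
      haveI : Mono ψ := by
        refine ((ShortComplex.mk K.arrow η hKη).exact_iff_mono_cokernel_desc).1 ?_
        refine ShortComplex.exact_of_f_is_kernel _ (IsKernel.isoKernel η K.arrow (kernelIsKernel η)
          (Subobject.underlyingIso (kernel.ι η)) (Subobject.underlyingIso_hom_comp_eq_mk _))
      have := Aux.isAssPoint_of_injective ψ ((PullbackMod.mono_iff_stalk ψ).1 inferInstance z) hz
      obtain ⟨w, rfl, -⟩ := AssLib.exists_isWeakAssPoint_of_push U.ι ((Scheme.Modules.restrictFunctor U.ι).obj F)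
        ((AssLib.isWeakAssPoint_iff_isAssPoint _ z).mpr this)
      exact w.2
    have htr : ∀ z, Curv2.IsAssPoint (cokernel K.arrow) z → Curv2.IsAssPoint F z := fun z hz =>
      (LinearEquiv.isAssociatedPrime_iff (LinearEquiv.ofBijective _ (hπU z (hmem z hz)))).2 hz
    exact Aux.minimal_of_not_mem (htr x hx) (hmem x hx) y (htr y hy) hyx
  · intro x hx
    obtain ⟨y, hyx, hy, hmin⟩ := Aux.exists_ass_minimal hF hx
    exact hyx.mem_closed isClosed_closure
      (subset_closure ⟨Aux.mem_compl_of_ass_minimal hF hmin, Aux.ass_mem_support hy⟩)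
  · haveI : Mono ((Scheme.Modules.restrictFunctor U.ι).map (cokernel.π K.arrow)) :=
      ThickVanishLib.restrict_mono _ fun x hx => (hπU x hx).1
    haveI : Epi ((Scheme.Modules.restrictFunctor U.ι).map (cokernel.π K.arrow)) :=
      ThickVanishLib.restrict_epi _ fun x hx => (hπU x hx).2
    exact isIso_of_mono_of_epi _

end Groth.Agent.S8908
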