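import Groth.Statements.S8913
import Groth.Agent.BlowFittLib.Rows
set_option backward.isDefEq.respectTransparency false
open Groth.Agent
-- import your own Groth.Agent.* helpers here

set_option autoImplicit false
universe u
open CategoryTheory CategoryTheory.Limits AlgebraicGeometry TopologicalSpace
open SDiv

namespace Groth.Agent.S8913

/-- Let X be a scheme, F a finitely presented O_X-module and U ⊆ X an open subscheme which is
scheme-theoretically dense and over which F is locally free of constant finite rank r. Then: (1)
Fit_r(F) is of finite type with support disjoint from U, so a blowing up b : X' ⟶ X of X in Fit_r(F)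
is U-admissible; (2) the strict transform G of F along such b is locally free of rank r; (3) the
kernel of the surjection b^*F ⟶ G is finitely presented and restricts to zero over b⁻¹U. This row
does not assert that b^*F and the kernel are perfect of tor dimension at most one. -/
theorem result (X : Scheme.{u}) (F : X.Modules) (hF : CohB1.IsFP F)
    (U : X.Opens) (hU : CInt.IsSchematicallyDense U) (r : ℕ) (hfree : FlatMod.IsFinLocFreeOfRank r (F.restrict U.ι)) :
    BlowUp.IsAdmissibleFor U (Fitt.sheafIdeal F r) ∧
      ∀ (X' : Scheme.{u}) (b : X' ⟶ X), BlowUp.IsBlowUp b (Fitt.sheafIdeal F r) →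
        ∀ (G : X'.Modules) (π : (Scheme.Modules.pullback b).obj F ⟶ G), BlowUp.IsStrictTransform b (Fitt.sheafIdeal F r) F G π →
          FlatMod.IsFinLocFreeOfRank r G ∧ CohB1.IsFP (kernel π) ∧ IsZero ((kernel π).restrict (b ⁻¹ᵁ U).ι) := by
  haveI : Coh.IsQCoh F := by
    haveI : SheafOfModules.IsFinitePresentation (R := X.ringCatSheaf) F := hF
    exact inferInstanceAs (SheafOfModules.IsQuasicoherent (R := X.ringCatSheaf) F)
  have hft := ExactConstrLib.isFT_of_isFP hF
  haveI := BlowFittLib.dominant_of_isSchematicallyDense hU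
  obtain ⟨hbot, htop⟩ := BlowFittLib.comap_fitt_of_free F hft U r hfree
  have hdisj : Disjoint ((Fitt.sheafIdeal F r).support : Set X) (U : Set X) :=
    Set.disjoint_left.2 fun x hx hxU => by
      have h : (⟨x, hxU⟩ : (U : Scheme.{u})) ∈ ((Fitt.sheafIdeal F r).comap U.ι).support := by
        rw [Scheme.IdealSheafData.support_comap]
        exact hx
      rw [htop, Scheme.IdealSheafData.support_top] at h
      exact h
  refine ⟨⟨S8873.result X F hF r, hdisj⟩, fun X' b hb G π hG => ?_⟩
  have hlf : FlatMod.IsFinLocFreeOfRank r G :=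
    BlowFittLib.isFinLocFreeOfRank_strict F hft r b hb G π hG fun j hj => by
      rw [BlowFittLib.eq_bot_of_comap U.ι _ (hbot j hj), Scheme.IdealSheafData.comap_bot]
  obtain ⟨hGq, -⟩ := BlowFittLib.isQCoh_isFT_strict F hft r b hb G π hG
  haveI := hGq
  haveI := PullbackMod.isQCoh_pullback b F
  haveI := hG.1
  have hlf' : FlatMod.IsFinLocFree G := fun y => by
    obtain ⟨O, hy, e⟩ := hlf y
    exact ⟨O, r, hy, e⟩
  have hGfp := (PullbackMod.isQCoh_and_isFP_of_isFinLocFree G hlf').2
  refine ⟨hlf, ?_, BlowFittLib.isZero_kernel_restrict F r b hb G π hG U hdisj⟩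
  exact PdFlat.isFP_kernel_of_epi_onto_flat (𝟙 X') _ G (PullbackMod.isFP_pullback b F hF) hGfp
    (BlowFittLib.isFlatOver_id G r ((PullbackMod.isFinLocFreeOfRank_iff_freeAt G hGfp r).1 hlf)) π

end Groth.Agent.S8913
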