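import Groth.Statements.S8918
import Mathlib
import Groth.Agent.S8903
import Groth.Agent.S1682
import Groth.Agent.S8914
import Groth.Agent.JacLib.InverseIdeal
import Groth.Agent.AmpleEmb.Inverse
import Groth.Agent.CubeLib.Sec

set_option autoImplicit false
universe u
open CategoryTheory CategoryTheory.Limits AlgebraicGeometry TopologicalSpace
open SDiv

namespace Groth.Agent.S8918

open CategoryTheory CategoryTheory.Limits AlgebraicGeometry

set_option backward.isDefEq.respectTransparency false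
set_option backward.defeqAttrib.useBackward true
set_option linter.style.haveILetI false

set_option maxHeartbeats 16000000

open TopologicalSpace Groth.Agent.ParaFLib Groth.Agent.DCohLib Groth.Agent.AmpleLib Groth.Agent.PullbackMod

variable {X : Scheme.{u}} {L : X.Modules}

theorem map_appLE_apply {Y Z : Scheme.{u}} (f : Y ⟶ Z) {V V' : Z.Opens} {W : Y.Opens} (h : V' ≤ V) (e : W ≤ f ⁻¹ᵁ V')
    (e' : W ≤ f ⁻¹ᵁ V) (x : Γ(Z, V)) : f.appLE V' W e (Z.presheaf.map (homOfLE h).op x) = f.appLE V W e' x := by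
  rw [← CommRingCat.comp_apply, Scheme.Hom.map_appLE]

theorem appLE_map_apply' {Y Z : Scheme.{u}} (f : Y ⟶ Z) {V : Z.Opens} {W W' : Y.Opens} (h : W' ≤ W) (e : W ≤ f ⁻¹ᵁ V)
    (e' : W' ≤ f ⁻¹ᵁ V) (x : Γ(Z, V)) : Y.presheaf.map (homOfLE h).op (f.appLE V W e x) = f.appLE V W' e' x := by
  rw [← CommRingCat.comp_apply, Scheme.Hom.appLE_map]

/-- `f • s = m` over `V`. -/
def Rel (s : Γ(Mero.merMod L, ⊤)) (V : X.Opens) (f : Γ(X, V)) (m : Γ(L, V)) : Prop :=
  ∀ x : V, X.presheaf.germ V x.1 x.2 f • s.1 ⟨x.1, Opens.mem_top x.1⟩ =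
    LocalizedModule.mkLinearMap (Mero.regStalk X x.1) _ (L.presheaf.germ V x.1 x.2 m)

theorem eq_of_mk_eq (hL : PicF.IsInvertible L) {x : X} (z z' : L.presheaf.stalk x)
    (h : LocalizedModule.mkLinearMap (Mero.regStalk X x) _ z = LocalizedModule.mkLinearMap (Mero.regStalk X x) _ z') :
    z = z' := by
  rw [LocalizedModule.mkLinearMap_apply, LocalizedModule.mkLinearMap_apply, LocalizedModule.mk_eq] at h
  obtain ⟨v, hv⟩ := h
  simp only [one_smul, Submonoid.smul_def] at hv
  exact sub_eq_zero.1 (S8903.germ_eq_zero_of_torsion hL v.1 (Mero.regStalk_le_nonZeroDivisors x v.2) _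
    (by rw [smul_sub, hv, sub_self]))

theorem section_eq {M : X.Modules} {V : X.Opens} (a b : Γ(M, V))
    (h : ∀ x (hx : x ∈ V), M.presheaf.germ V x hx a = M.presheaf.germ V x hx b) : a = b :=
  TopCat.Presheaf.section_ext (⟨M.presheaf, M.isSheaf⟩ : TopCat.Sheaf Ab X) V a b h

theorem Rel.compat (hL : PicF.IsInvertible L) {s : Γ(Mero.merMod L, ⊤)} {V : X.Opens} {f f' : Γ(X, V)}
    {m m' : Γ(L, V)} (h : Rel s V f m) (h' : Rel s V f' m') : f' • m = f • m' :=
  section_eq _ _ fun x hx => eq_of_mk_eq hL _ _ (by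
    rw [ParaFLib.germ_smul', ParaFLib.germ_smul', map_smul, map_smul, ← h ⟨x, hx⟩, ← h' ⟨x, hx⟩]
    exact smul_comm _ _ _)

theorem Rel.res {s : Γ(Mero.merMod L, ⊤)} {V V' : X.Opens} (hVV : V' ≤ V) {f : Γ(X, V)} {m : Γ(L, V)}
    (h : Rel s V f m) : Rel s V' (X.presheaf.map (homOfLE hVV).op f) (L.presheaf.map (homOfLE hVV).op m) :=
  fun x => (congrArg (· • _) (TopCat.Presheaf.germ_res_apply X.presheaf (homOfLE hVV) x.1 x.2 f)).trans
    ((h ⟨x.1, hVV x.2⟩).trans (congrArg _ (TopCat.Presheaf.germ_res_apply L.presheaf (homOfLE hVV) x.1 x.2 m).symm))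

/-- At a point where the denominator is a unit the numerator is regular. -/
theorem Rel.regular {s : Γ(Mero.merMod L, ⊤)} (hs : Mero.IsRegularMero L s) {V : X.Opens} {f a : Γ(X, V)}
    {e : Γ(L, V)} (h : Rel s V f (a • e)) (x : X) (hx : x ∈ V) (hf : IsUnit (X.presheaf.germ V x hx f)) :
    X.presheaf.germ V x hx a ∈ nonZeroDivisors (X.presheaf.stalk x) := by
  refine mem_nonZeroDivisors_iff_right.2 fun r hr => ?_
  have h1 : (r * X.presheaf.germ V x hx f) • s.1 ⟨x, Opens.mem_top x⟩ = 0 := by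
    rw [mul_smul, h ⟨x, hx⟩, ← map_smul, ParaFLib.germ_smul', smul_smul, hr, zero_smul, map_zero]
  have h2 := hs x (algebraMap _ (Mero.KStalk X x) (r * X.presheaf.germ V x hx f))
    ((algebraMap_smul (Mero.KStalk X x) _ _).trans h1)
  have h3 : r * X.presheaf.germ V x hx f = 0 :=
    Mero.algebraMap_KStalk_injective (X := X) x (h2.trans (map_zero _).symm)
  exact hf.mul_left_eq_zero.1 h3

theorem germ_nzd_of_ideal {E : X.IdealSheafData} (hE : BlowUp.IsEffCartierIdeal E) (W : X.affineOpens)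
    (g : Γ(X, W.1)) (hg : E.ideal W = Ideal.span {g}) (z : X) (hz : z ∈ W.1) :
    X.presheaf.germ W.1 z hz g ∈ nonZeroDivisors (X.presheaf.stalk z) := by
  obtain ⟨U, hzU, f, hf, hfE⟩ := hE z
  obtain ⟨O, hO, hzO, hle⟩ := exists_isAffineOpen_mem_and_subset (U := W.1 ⊓ U.1) (x := z) ⟨hz, hzU⟩
  have h1 : O ≤ W.1 := fun y hy => (hle hy).1
  have h2 : O ≤ U.1 := fun y hy => (hle hy).2
  have e : Ideal.span {X.presheaf.map (homOfLE h1).op g} = Ideal.span {X.presheaf.map (homOfLE h2).op f} := by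
    have a1 := E.map_ideal (U := ⟨O, hO⟩) (V := W) h1
    have a2 := E.map_ideal (U := ⟨O, hO⟩) (V := U) h2
    rw [hg, Ideal.map_span, Set.image_singleton] at a1
    rw [hfE, Ideal.map_span, Set.image_singleton] at a2
    exact a1.trans a2.symm
  obtain ⟨c, hc⟩ := Ideal.mem_span_singleton'.1 (e.ge (Ideal.mem_span_singleton_self _))
  have h3 := congrArg (X.presheaf.germ O z hzO) hc
  rw [map_mul, TopCat.Presheaf.germ_res_apply, TopCat.Presheaf.germ_res_apply] at h3
  refine mem_nonZeroDivisors_iff_right.2 fun r hr => ?_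
  have h4 := MeroLib.germ_mem_nonZeroDivisors U.2 hf z hzU
  refine (mem_nonZeroDivisors_iff_right.1 h4) r ?_
  rw [← h3, mul_left_comm, hr, mul_zero]

theorem mem_support_compl_iff (I : X.IdealSheafData) (V : X.affineOpens) (x : X) (hx : x ∈ V.1) :
    x ∉ I.support ↔ ∃ f ∈ I.ideal V, IsUnit (X.presheaf.germ V.1 x hx f) := by
  rw [Scheme.IdealSheafData.mem_support_iff_of_mem hx, Scheme.mem_zeroLocus_iff]
  push Not
  refine exists_congr fun f => and_congr_right fun _ => ?_
  exact X.mem_basicOpen f x hx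


/-- Suppose X is locally Noetherian, L is an invertible O_X-module carrying a regular meromorphic
section s, and I is a quasi-coherent ideal sheaf whose value on every affine open is the ideal of
denominators of s. Then I is of finite type and the open complement U of the support of O_X/I is
exactly the set of points near which s is a section of L, so that a blowing up b : X' ⟶ X in I is
U-admissible for this U; and for every such b there is an effective Cartier divisor D ⊆ X' with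
ideal sheaf 𝓓 such that b^*L ⊗ 𝓓 is isomorphic to the ideal sheaf of the exceptional divisor E, i.e.
b^*L ≅ O_{X'}(D - E) (existence of an isomorphism only). This row does not identify the pulled-back
section b^*s with the canonical section 1_D ⊗ 1_E⁻¹ of O_{X'}(D - E). -/
theorem result (X : Scheme.{u}) [IsLocallyNoetherian X] (L : X.Modules) (hL : PicF.IsInvertible L)
    (s : Γ(Mero.merMod L, ⊤)) (hs : Mero.IsRegularMero L s) (I : X.IdealSheafData)
    (hI : ∀ V : X.affineOpens, I.ideal V = Mero.denomIdeal L s V.1) :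
    (BlowUp.IsFiniteTypeIdeal I ∧ ((I.support.compl : X.Opens) : Set X) = Mero.domain L s) ∧
      ∀ (X' : Scheme.{u}) (b : X' ⟶ X), BlowUp.IsBlowUp b I →
        ∃ 𝓓 : X'.IdealSheafData, BlowUp.IsEffCartierIdeal 𝓓 ∧
          Nonempty (CohB1.tensorMod ((Scheme.Modules.pullback b).obj L) (ClSub.idealMod 𝓓) ≅ ClSub.idealMod (I.comap b)) := by
  classical
  refine ⟨⟨fun U => ?_, ?_⟩, ?_⟩
  · haveI : IsNoetherianRing Γ(X, U.1) := IsLocallyNoetherian.component_noetherian U
    exact IsNoetherian.noetherian _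
  · ext x
    constructor
    · intro hx
      obtain ⟨V₀, hV₀, hxV₀, hV₀'⟩ := exists_isAffineOpen_mem_and_subset (U := I.support.compl) (x := x) hx
      have htop : I.ideal ⟨V₀, hV₀⟩ = ⊤ := by
        by_contra hne
        obtain ⟨P, hP, hIP⟩ := Ideal.exists_le_maximal _ hne
        let q : PrimeSpectrum Γ(X, V₀) := ⟨P, hP.isPrime⟩
        have hq : hV₀.fromSpec q ∈ V₀ := hV₀.range_fromSpec.subset (Set.mem_range_self q)
        obtain ⟨f, hf, hu⟩ := (mem_support_compl_iff I ⟨V₀, hV₀⟩ _ hq).1 (hV₀' hq)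
        exact (MeroLib.isUnit_germ_fromSpec hV₀ q hq f).1 hu (hIP hf)
      obtain ⟨m, hm⟩ : (1 : Γ(X, V₀)) ∈ Mero.denomIdeal L s V₀ := by
        rw [← hI ⟨V₀, hV₀⟩, htop]; trivial
      refine ⟨V₀, hxV₀, m, fun y => ?_⟩
      have h1 := hm y
      rw [map_one, one_smul] at h1
      exact h1
    · rintro ⟨V, hxV, m, hm⟩
      obtain ⟨V₀, hV₀, hxV₀, hle⟩ := exists_isAffineOpen_mem_and_subset (U := V) (x := x) hxV
      refine (mem_support_compl_iff I ⟨V₀, hV₀⟩ x hxV₀).2 ⟨1, ?_, by rw [map_one]; exact isUnit_one⟩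
      rw [hI]
      refine ⟨L.presheaf.map (homOfLE (show V₀ ≤ V from hle)).op m, fun y => ?_⟩
      rw [map_one, one_smul, TopCat.Presheaf.germ_res_apply, LocalizedModule.mkLinearMap_apply]
      exact hm ⟨y.1, hle y.2⟩
  intro X' b hb
  let E := I.comap b
  have hE : BlowUp.IsEffCartierIdeal E := hb.1
  haveI : IsIso (b ∣_ I.support.compl) := S1682.result I b hb
  let Q := (Scheme.Modules.pullback b).obj L
  have hQ : PicF.IsInvertible Q := AmpleLib.isInvertible_of_gen fun y => by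
    obtain ⟨U, e, hyU, he⟩ := exists_gen_nhd hL (b y)
    exact ⟨b ⁻¹ᵁ U, _, hyU, CubeLib.gen_pullMap b hL he le_rfl⟩
  have hEi : PicF.IsInvertible (ClSub.idealMod E) := (S8914.result E).2 hE
  obtain ⟨M, hM, ⟨eM⟩⟩ := AmpleEmb.exists_isInverseOf hEi
  obtain ⟨t, ht⟩ := AbelMapLib.exists_canSect E hM hEi (AmpleLib.comm _ _ ≪≫ eM)
  let P := CohB1.tensorMod M Q
  have hP : PicF.IsInvertible P := AmpleLib.isInvertible_tensor hM hQ
  let Good : ∀ O : X'.Opens, Γ(P, O) → Prop := fun O σ => ∀ (V : X.affineOpens) (f : Γ(X, V.1)) (m : Γ(L, V.1)),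
    Rel s V.1 f m → ∀ (O' : X'.Opens) (h : O' ≤ O) (h' : O' ≤ b ⁻¹ᵁ V.1),
      b.appLE V.1 O' h' f • P.presheaf.map (homOfLE h).op σ =
        pairS M Q (M.presheaf.map (homOfLE (le_top : O' ≤ ⊤)).op t) (pullMap b L h' m)
  -- local data
  have hdata : ∀ y : X', ∃ (W : X'.affineOpens) (_ : y ∈ W.1) (V : X.affineOpens) (hWV : W.1 ≤ b ⁻¹ᵁ V.1)
      (e : Γ(L, V.1)) (l : Γ(M, W.1)) (g : Γ(X', W.1)), Gen V.1 e ∧ Gen W.1 l ∧ E.ideal W = Ideal.span {g} ∧
        M.presheaf.map (homOfLE le_top).op t = g • l := by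
    intro y
    obtain ⟨W₁, hy₁, l, g, hl, hEW, htl⟩ := ht y
    obtain ⟨U, e, hyU, he⟩ := exists_gen_nhd hL (b y)
    obtain ⟨V, hV, hyV, hVU⟩ := exists_isAffineOpen_mem_and_subset (U := U) (x := b y) hyU
    obtain ⟨W, hW, hyW, hle⟩ := exists_isAffineOpen_mem_and_subset (U := W₁.1 ⊓ b ⁻¹ᵁ V) (x := y) ⟨hy₁, hyV⟩
    have h1 : W ≤ W₁.1 := fun z hz => (hle hz).1
    refine ⟨⟨W, hW⟩, hyW, ⟨V, hV⟩, fun z hz => (hle hz).2, _, M.presheaf.map (homOfLE h1).op l,
      X'.presheaf.map (homOfLE h1).op g, he.res hVU, hl.res h1, ?_, ?_⟩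
    · rw [← E.map_ideal (U := ⟨W, hW⟩) (V := W₁) h1, hEW, Ideal.map_span, Set.image_singleton]
      rfl
    · rw [← M.map_smul, ← htl, ParaFLib.res_res]
  -- the numerators of the generators of the exceptional ideal
  have hnum : ∀ (W : X'.affineOpens) (V : X.affineOpens) (hWV : W.1 ≤ b ⁻¹ᵁ V.1) (g : Γ(X', W.1)),
      g ∈ E.ideal W → ∃ q : Γ(Q, W.1), ∀ (V' : X.affineOpens) (f : Γ(X, V'.1)) (m : Γ(L, V'.1)), Rel s V'.1 f m →
        ∀ (O' : X'.Opens) (h : O' ≤ W.1) (h' : O' ≤ b ⁻¹ᵁ V'.1),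
          b.appLE V'.1 O' h' f • Q.presheaf.map (homOfLE h).op q =
            X'.presheaf.map (homOfLE h).op g • pullMap b L h' m := by
    intro W V hWV g hg
    have hcm : E.ideal W = (I.ideal V).map (b.appLE V.1 W.1 hWV).hom :=
      IdealStalkLib.comap_ideal I b V.2 W.2 hWV
    rw [hcm] at hg
    induction hg using Submodule.span_induction with
    | mem z hz =>
      obtain ⟨f₀, hf₀, rfl⟩ := hz
      obtain ⟨m₀, hm₀⟩ : f₀ ∈ Mero.denomIdeal L s V.1 := hI V ▸ hf₀
      refine ⟨pullMap b L hWV m₀, fun V' f m hfm O' h h' => ?_⟩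
      have hO : O' ≤ b ⁻¹ᵁ (V.1 ⊓ V'.1) := fun z hz => ⟨hWV (h hz), h' hz⟩
      have hc := congrArg (pullMap b L hO) ((hfm.res (inf_le_right : V.1 ⊓ V'.1 ≤ V'.1)).compat hL
        ((show Rel s V.1 f₀ m₀ from hm₀).res (inf_le_left : V.1 ⊓ V'.1 ≤ V.1)))
      rw [pullMap_smul, pullMap_smul, ← pullMap_res b L h' inf_le_right le_rfl hO m,
        ← pullMap_res b L hWV inf_le_left h hO m₀, ParaFLib.res_self, map_appLE_apply b _ hO h',
        map_appLE_apply b _ hO (h.trans hWV)] at hc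
      rw [appLE_map_apply' b h hWV (h.trans hWV)]
      exact hc.symm
    | zero => exact ⟨0, fun V' f m _ O' h h' => by rw [map_zero, map_zero, smul_zero, zero_smul]⟩
    | add z w _ _ hz hw =>
      obtain ⟨q, hq⟩ := hz
      obtain ⟨q', hq'⟩ := hw
      exact ⟨q + q', fun V' f m hfm O' h h' => by
        rw [map_add, map_add, smul_add, hq V' f m hfm O' h h', hq' V' f m hfm O' h h', add_smul]⟩
    | smul c z _ hz =>
      obtain ⟨q, hq⟩ := hz
      refine ⟨c • q, fun V' f m hfm O' h h' => ?_⟩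
      rw [Q.map_smul, smul_eq_mul, map_mul, mul_smul, smul_comm, hq V' f m hfm O' h h']
  have hloc : ∀ y : X', ∃ (W : X'.affineOpens) (_ : y ∈ W.1) (V : X.affineOpens) (hWV : W.1 ≤ b ⁻¹ᵁ V.1)
      (e : Γ(L, V.1)) (l : Γ(M, W.1)) (g d : Γ(X', W.1)), Gen V.1 e ∧ Gen W.1 l ∧ E.ideal W = Ideal.span {g} ∧
        Good W.1 (d • pairS M Q l (pullMap b L hWV e)) ∧
        ∀ (f a : Γ(X, V.1)), Rel s V.1 f (a • e) → b.appLE V.1 W.1 hWV f * d = g * b.appLE V.1 W.1 hWV a := by
    intro y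
    obtain ⟨W, hyW, V, hWV, e, l, g, he, hl, hEW, htl⟩ := hdata y
    obtain ⟨q, hq⟩ := hnum W V hWV g (hEW.ge (Ideal.mem_span_singleton_self g))
    have hge := CubeLib.gen_pullMap b hL he hWV
    obtain ⟨d, hd⟩ := (hge W.1 le_rfl).2 q
    simp only [ParaFLib.res_self] at hd
    refine ⟨W, hyW, V, hWV, e, l, g, d, he, hl, hEW, fun V' f m hfm O' h h' => ?_, fun f a hfa => ?_⟩
    · have e0 : d • pairS M Q l (pullMap b L hWV e) = pairS M Q l q :=
        (pairS_smul_right d l _).symm.trans (congrArg (pairS M Q l) hd)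
      show b.appLE V'.1 O' h' f • P.presheaf.map (homOfLE h).op (d • pairS M Q l (pullMap b L hWV e)) = _
      rw [e0]
      refine (congrArg (b.appLE V'.1 O' h' f • ·) (res_pairS h l q)).trans ?_
      refine (pairS_smul_right _ _ _).symm.trans ((congrArg _ (hq V' f m hfm O' h h')).trans ?_)
      refine (pairS_smul_right _ _ _).trans ((pairS_smul_left _ _ _).symm.trans ?_)
      rw [← M.map_smul, ← htl, ParaFLib.res_res]
    · have h1 := hq V f (a • e) hfa W.1 le_rfl hWV
      rw [ParaFLib.res_self, ← hd, pullMap_smul, smul_smul, smul_smul] at h1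
      have h2 := (hge W.1 le_rfl).1
      refine h2 ?_
      simp only [ParaFLib.res_self]
      refine h1.trans (congrArg (· • pullMap b L hWV e) ?_)
      rw [show X'.presheaf.map (homOfLE (le_refl W.1)).op g = g from
        ConcreteCategory.congr_hom (X'.presheaf.map_id _) g]
  choose W hyW V hWV e l g d he hl hEW hgood hd using hloc
  have huniq : ∀ (O : X'.Opens) (σ σ' : Γ(P, O)), Good O σ → Good O σ' → σ = σ' := by
    intro O σ σ' hσ hσ'
    refine section_eq _ _ fun z hz => ?_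
    obtain ⟨W₂, hW₂, hzW₂, hle⟩ := exists_isAffineOpen_mem_and_subset (U := (W z).1 ⊓ O) (x := z) ⟨hyW z, hz⟩
    have h1 : W₂ ≤ (W z).1 := fun w hw => (hle hw).1
    have h2 : W₂ ≤ O := fun w hw => (hle hw).2
    have h3 : W₂ ≤ b ⁻¹ᵁ (V z).1 := h1.trans (hWV z)
    let g' := X'.presheaf.map (homOfLE h1).op (g z)
    have hg' : g' ∈ E.ideal ⟨W₂, hW₂⟩ := by
      rw [← E.map_ideal (U := ⟨W₂, hW₂⟩) (V := W z) h1]
      exact Ideal.mem_map_of_mem _ ((hEW z).ge (Ideal.mem_span_singleton_self _))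
    rw [show E.ideal ⟨W₂, hW₂⟩ = (I.ideal (V z)).map (b.appLE (V z).1 W₂ h3).hom from
      IdealStalkLib.comap_ideal I b (V z).2 hW₂ h3] at hg'
    let D := P.presheaf.map (homOfLE h2).op σ - P.presheaf.map (homOfLE h2).op σ'
    have hD : ∀ c ∈ (I.ideal (V z)).map (b.appLE (V z).1 W₂ h3).hom, c • D = 0 := by
      intro c hc
      induction hc using Submodule.span_induction with
      | mem c hc =>
        obtain ⟨f₀, hf₀, rfl⟩ := hc
        obtain ⟨m₀, hm₀⟩ : f₀ ∈ Mero.denomIdeal L s (V z).1 := hI (V z) ▸ hf₀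
        rw [smul_sub, sub_eq_zero]
        exact (hσ (V z) f₀ m₀ hm₀ W₂ h2 h3).trans (hσ' (V z) f₀ m₀ hm₀ W₂ h2 h3).symm
      | zero => exact zero_smul _ _
      | add c c' _ _ hc hc' => rw [add_smul, hc, hc', add_zero]
      | smul r c _ hc => rw [smul_eq_mul, mul_smul, hc, smul_zero]
    have h4 := congrArg (P.presheaf.germ W₂ z hzW₂) (hD g' hg')
    rw [ParaFLib.germ_smul', map_zero, map_sub, TopCat.Presheaf.germ_res_apply, TopCat.Presheaf.germ_res_apply,
      TopCat.Presheaf.germ_res_apply] at h4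
    exact sub_eq_zero.1 (S8903.germ_eq_zero_of_torsion hP _
      (germ_nzd_of_ideal hE (W z) (g z) (hEW z) z (hyW z)) _ h4)
  have hres : ∀ (O O' : X'.Opens) (hO : O' ≤ O) (σ : Γ(P, O)), Good O σ → Good O' (P.presheaf.map (homOfLE hO).op σ) :=
    fun O O' hO σ hσ V' f m hfm O'' h h' => by
      rw [ParaFLib.res_res]
      exact hσ V' f m hfm O'' (h.trans hO) h'
  let F : TopCat.Sheaf Ab X' := ⟨P.presheaf, P.isSheaf⟩
  obtain ⟨σ, hσ, -⟩ := F.existsUnique_gluing' (fun y => (W y).1) ⊤ (fun y => homOfLE le_top)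
    (fun y _ => Opens.mem_iSup.2 ⟨y, hyW y⟩) (fun y => d y • pairS M Q (l y) (pullMap b L (hWV y) (e y)))
    (fun y y' => huniq _ _ _ (hres _ _ inf_le_left _ (hgood y)) (hres _ _ inf_le_right _ (hgood y')))
  have hgen : ∀ y, Gen (W y).1 (pairS M Q (l y) (pullMap b L (hWV y) (e y))) := fun y =>
    AmpleLib.gen_pairS (hl y) (CubeLib.gen_pullMap b hL (he y) (hWV y))
  let K := PicF2.zeroScheme P (DCohLib.secHom P σ)
  have hK : BlowUp.IsEffCartierIdeal K := by
    intro y
    refine ⟨W y, hyW y, d y, mem_nonZeroDivisors_iff_right.2 fun x hx => ?_, ?_⟩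
    · have hunit : ∀ z (hz : z ∈ (W y).1), IsUnit (X'.presheaf.germ (W y).1 z hz (g y)) →
          X'.presheaf.germ (W y).1 z hz x = 0 := by
        intro z hz hu
        have hbz : b z ∉ I.support := by
          intro hmem
          have hzE : z ∈ E.support := by
            rw [Scheme.IdealSheafData.support_comap]
            exact hmem
          exact (mem_support_compl_iff E (W y) z hz).2
            ⟨g y, (hEW y).ge (Ideal.mem_span_singleton_self _), hu⟩ hzE
        obtain ⟨f, hf, hfu⟩ := (mem_support_compl_iff I (V y) (b z) (hWV y hz)).1 hbz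
        obtain ⟨m, hm⟩ : f ∈ Mero.denomIdeal L s (V y).1 := hI (V y) ▸ hf
        obtain ⟨a, ha⟩ := (he y (V y).1 le_rfl).2 m
        simp only [ParaFLib.res_self] at ha
        have hfa : Rel s (V y).1 f (a • e y) := ha.symm ▸ hm
        have h1 : x * (g y * b.appLE (V y).1 (W y).1 (hWV y) a) = 0 := by
          rw [← hd y f a hfa, mul_left_comm, hx, mul_zero]
        have h2 := congrArg (X'.presheaf.germ (W y).1 z hz) h1
        rw [map_mul, map_mul, map_zero, mul_left_comm] at h2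
        have h3 := hu.mul_right_eq_zero.1 h2
        haveI : IsIso (b.stalkMap z) := ((MorphismProperty.isomorphisms CommRingCat).arrow_mk_iso_iff
          (morphismRestrictStalkMap b I.support.compl ⟨z, hbz⟩)).1
            (inferInstanceAs (IsIso ((b ∣_ I.support.compl).stalkMap _)))
        have hinj : Function.Bijective (b.stalkMap z).hom := ConcreteCategory.bijective_of_isIso (b.stalkMap z)
        have h4 : X'.presheaf.germ (W y).1 z hz (b.appLE (V y).1 (W y).1 (hWV y) a) =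
            b.stalkMap z ((X.presheaf.germ (V y).1 (b z) (hWV y hz)) a) := by
          rw [Scheme.Hom.germ_stalkMap_apply, Scheme.Hom.app_eq_appLE,
            ← appLE_map_apply' b (hWV y) le_rfl (hWV y), TopCat.Presheaf.germ_res_apply]
        obtain ⟨r, hr⟩ := hinj.2 (X'.presheaf.germ (W y).1 z hz x)
        rw [h4, ← hr, ← map_mul, ← map_zero (b.stalkMap z).hom] at h3
        rw [← hr, (mem_nonZeroDivisors_iff_right.1 (Rel.regular hs hfa _ _ hfu)) r (hinj.1 h3), map_zero]
      have h0 : X'.presheaf.map (homOfLE (X'.basicOpen_le (g y))).op x = 0 :=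
        TopCat.Presheaf.section_ext X'.sheaf _ _ _ fun z hz => by
          refine (TopCat.Presheaf.germ_res_apply X'.presheaf _ z hz x).trans (Eq.trans ?_ (map_zero _).symm)
          exact hunit z (X'.basicOpen_le _ hz) ((X'.mem_basicOpen _ z (X'.basicOpen_le _ hz)).1 hz)
      obtain ⟨n, hn⟩ := AlgebraicGeometry.exists_pow_mul_eq_zero_of_res_basicOpen_eq_zero_of_isAffineOpen X'
        (W y).2 x (g y) h0
      refine TopCat.Presheaf.section_ext X'.sheaf _ _ _ fun z hz => ?_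
      have h5 := congrArg (X'.presheaf.germ (W y).1 z hz) hn
      rw [map_mul, map_pow, map_zero] at h5
      show X'.presheaf.germ (W y).1 z hz x = X'.presheaf.germ (W y).1 z hz 0
      rw [map_zero]
      exact (mul_left_mem_nonZeroDivisors_eq_zero_iff
        (pow_mem (germ_nzd_of_ideal hE (W y) (g y) (hEW y) z hz) n)).1 h5
    · rw [ZeroSchemeLib.zeroScheme_ideal hP]
      refine ZeroSchemeLib.colonIdeal_of_gen _ (hgen y) ?_
      exact (hσ y).symm.trans (congrArg (P.presheaf.map (homOfLE (le_top : (W y).1 ≤ ⊤)).op)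
        (AmpleLib.sec_secHom (L := P) σ).symm)
  obtain ⟨eK⟩ := JacLib.nonempty_tensor_idealMod_iso hK (JacLib.isCanSect_zeroScheme hP σ)
  exact ⟨K, hK, ⟨(AmpleLib.unitL _).symm ≪≫ AmpleLib.tIso eM.symm (Iso.refl _) ≪≫ AmpleLib.assoc _ _ _ ≪≫
    AmpleLib.tIso (Iso.refl _) ((AmpleLib.assoc _ _ _).symm ≪≫ eK) ≪≫ AmpleLib.unitR _⟩⟩

end Groth.Agent.S8918
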