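import Groth.Statements.S8921
import Groth.Agent.RegPairLib.Stalk
import Groth.Agent.RegPairLib.Local
import Groth.Agent.SplitQuotLib.Scheme
import Groth.Agent.NumBddLib.FibreBound
import Groth.Agent.TransRegLib.Chart

set_option autoImplicit false
universe u
open CategoryTheory CategoryTheory.Limits AlgebraicGeometry TopologicalSpace
open SDiv

namespace Groth.Agent.S8921

/-- Let i : Z ⟶ Y and j : Y ⟶ X be immersions of schemes with X locally Noetherian, z a point of Z with
images y = i z and x, and a : i^*C_{Y/X} ⟶ C_{Z/X}, b : C_{Z/X} ⟶ C_{Z/Y} the canonical maps of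
conormal sheaves. The following are equivalent: (1) i is regular near z and j is regular near y; (2)
i and j ∘ i are regular near z; (3) j ∘ i is regular near z and the sequence 0 → i^*C_{Y/X} →
C_{Z/X} → C_{Z/Y} → 0 is split short exact over some open neighbourhood of z. Both immersions are
quasi-compact automatically, X being locally Noetherian; the quasi-compactness binders only make the
conormal sheaves available. -/
theorem result {Z Y X : Scheme.{u}} (i : Z ⟶ Y) (j : Y ⟶ X) [IsImmersion i] [IsImmersion j]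
    [QuasiCompact i] [QuasiCompact j]
    (a : (Scheme.Modules.pullback i).obj (Omega.conormal j) ⟶ Omega.conormal (i ≫ j))
    (ha : OmegaSh.IsConormalMap (i ≫ j) j (𝟙 X) i a)
    (b : (Scheme.Modules.pullback (𝟙 Z)).obj (Omega.conormal (i ≫ j)) ⟶ Omega.conormal i)
    (hb : OmegaSh.IsConormalMap i (i ≫ j) j (𝟙 Z) b)
    [IsLocallyNoetherian X] (z : ↥Z) :
    ((RegImm.IsRegularImmersionAt RegImm.Kind.regular i z ∧ RegImm.IsRegularImmersionAt RegImm.Kind.regular j (i z)) ↔
      (RegImm.IsRegularImmersionAt RegImm.Kind.regular i z ∧ RegImm.IsRegularImmersionAt RegImm.Kind.regular (i ≫ j) z)) ∧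
    ((RegImm.IsRegularImmersionAt RegImm.Kind.regular i z ∧ RegImm.IsRegularImmersionAt RegImm.Kind.regular (i ≫ j) z) ↔
      (RegImm.IsRegularImmersionAt RegImm.Kind.regular (i ≫ j) z ∧
        ∃ U : Z.Opens, z ∈ U ∧
          ∀ w : (Scheme.Modules.restrictFunctor U.ι).map a ≫ (Scheme.Modules.restrictFunctor U.ι).map ((Scheme.Modules.pullbackId Z).inv.app (Omega.conormal (i ≫ j)) ≫ b) = 0,
            Nonempty (ShortComplex.mk ((Scheme.Modules.restrictFunctor U.ι).map a) ((Scheme.Modules.restrictFunctor U.ι).map ((Scheme.Modules.pullbackId Z).inv.app (Omega.conormal (i ≫ j)) ≫ b)) w).Splitting)) := by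
  refine ⟨Groth.Agent.RegPairLib.regular_pair_iff i j z, ⟨fun ⟨hi, hij⟩ => ⟨hij, ?_⟩, fun ⟨hij, U, hzU, hU⟩ => ⟨?_, hij⟩⟩⟩
  · exact Groth.Agent.RegPairLib.exists_splitting ha hb z (Groth.Agent.TransRegLib.isRegularImmersionAt_h1_of_regular hi)
  · haveI : IsLocallyNoetherian Y := LocallyOfFiniteType.isLocallyNoetherian j
    haveI : LocallyOfFinitePresentation j := Groth.Agent.NumBdd.lfp_of_noetherian j
    have w : (Scheme.Modules.restrictFunctor U.ι).map a ≫ (Scheme.Modules.restrictFunctor U.ι).map
        ((Scheme.Modules.pullbackId Z).inv.app (Omega.conormal (i ≫ j)) ≫ b) = 0 := by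
      have h0 := Groth.Agent.RegPairLib.comp_eq_zero ha hb
      refine ((Scheme.Modules.restrictFunctor U.ι).map_comp a _).symm.trans ?_
      rw [show a ≫ ((Scheme.Modules.pullbackId Z).inv.app (Omega.conormal (i ≫ j)) ≫ b) = 0 from h0, Functor.map_zero]
    obtain ⟨σ⟩ := hU w
    have hq : RegImm.IsRegularImmersionAt RegImm.Kind.quasi i z :=
      Groth.Agent.SplitQuotLib.isRegularImmersionAt_of_retraction ha .quasi (by decide)
        (fun h => absurd h (by decide)) z
        ((Groth.Agent.RegPairLib.at_iff_stalk .quasi (i ≫ j) z).2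
          ((Groth.Agent.RegPairLib.at_iff_stalk .regular (i ≫ j) z).1 hij))
        U hzU fun W hW => Groth.Agent.ConormalSplitLib.exists_retraction a σ.r σ.f_r hW
    exact (Groth.Agent.RegPairLib.at_iff_stalk .regular i z).2 ((Groth.Agent.RegPairLib.at_iff_stalk .quasi i z).1 hq)

end Groth.Agent.S8921
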